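import Groth.Statements.S1040
import Groth.Agent.H16Derived.QCoprod
import Groth.Agent.H16Derived.KFlat.SheafStalk
import Groth.Agent.H26Tor.Exact
import Groth.Agent.H10Coh.QCohExt

set_option autoImplicit false
universe u
open CategoryTheory CategoryTheory.Limits AlgebraicGeometry
attribute [local instance] HasDerivedCategory.standard
open Perf

namespace Groth.Agent.S1040

open Groth.Agent Groth.Agent.H16Derived DerivedCategory

/-- Let X be a scheme and Kᵢ a family of objects of D(O_X) with quasi-coherent cohomology sheaves,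
indexed by a small type, whose direct sum exists in D(O_X). Then ∐ Kᵢ has quasi-coherent cohomology
sheaves. -/
theorem result (X : Scheme.{u}) {ι : Type u} (K : ι → DCoh.D X) (hK : ∀ i, DCoh.IsQCohD (K i)) [HasCoproduct K] :
    DCoh.IsQCohD (∐ K) := by
  have hi : ∀ i, ∃ C : CochainComplex X.Modules ℤ, Nonempty (Q.obj C ≅ K i) := fun i =>
    have := Localization.essSurj (DerivedCategory.Q (C := X.Modules))
      (HomologicalComplex.quasiIso X.Modules (ComplexShape.up ℤ))
    ⟨_, ⟨Q.objObjPreimageIso (K i)⟩⟩
  choose C hC using hi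
  intro n
  have := QCoprod.preservesColimitsOfShape_Q (A := X.Modules) ι
  have : ∀ i : ℤ, PreservesColimitsOfShape (Discrete ι) ((𝟭 (CochainComplex X.Modules ℤ)) ⋙
      HomologicalComplex.eval X.Modules (ComplexShape.up ℤ) i) := fun i =>
    inferInstanceAs (PreservesColimitsOfShape (Discrete ι) (HomologicalComplex.eval X.Modules (ComplexShape.up ℤ) i))
  have hH : PreservesColimitsOfShape (Discrete ι) (𝟭 _ ⋙
      HomologicalComplex.homologyFunctor X.Modules (ComplexShape.up ℤ) n) :=
    H26Tor.preservesColimitsOfShape_homology _ n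
  have := hH
  have : HasColimit (Discrete.functor C ⋙ Q) :=
    ⟨⟨⟨_, isColimitOfPreserves Q (colimit.isColimit (Discrete.functor C))⟩⟩⟩
  have : HasCoproduct (fun i => Q.obj (C i)) := hasColimit_of_iso (Discrete.compNatIsoDiscrete C Q).symm
  let e : ∐ K ≅ Q.obj (∐ C) := HasColimit.isoOfNatIso (G := Discrete.functor fun i => Q.obj (C i)) (Discrete.natIso fun i => (hC i.as).some.symm) ≪≫
    (PreservesCoproduct.iso Q C).symm
  let e' : DCoh.HD (∐ K) n ≅ ∐ fun i => (C i).homology n :=
    (homologyFunctor X.Modules n).mapIso e ≪≫ (homologyFunctorFactors X.Modules n).app (∐ C) ≪≫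
      PreservesCoproduct.iso (𝟭 _ ⋙ HomologicalComplex.homologyFunctor X.Modules (ComplexShape.up ℤ) n) C
  refine (SheafOfModules.isQuasicoherent X.ringCatSheaf).prop_of_iso e'.symm
    (H10Coh.isQuasicoherent_colimit (Discrete.functor fun i => (C i).homology n) fun j => ?_)
  exact (SheafOfModules.isQuasicoherent X.ringCatSheaf).prop_of_iso
    ((homologyFunctor X.Modules n).mapIso (hC j.as).some.symm ≪≫
      (homologyFunctorFactors X.Modules n).app (C j.as)) (hK j.as n)

end Groth.Agent.S1040
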