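import Groth.Statements.S1678
import Groth.Agent.H29Slice.SmoothSection
import Groth.Agent.H29Slice.RegImm
import Groth.Agent.H29Blow.PointsOfAffine

set_option autoImplicit false
universe u
open CategoryTheory CategoryTheory.Limits AlgebraicGeometry TopologicalSpace
open SDiv

namespace Groth.Agent.S1678

/-- Let X ⟶ S be smooth and let i : Y ⟶ X and j : Y ⟶ S be closed immersions with i ≫ (X ⟶ S) = j. If j
is a regular closed immersion then so is i. -/
theorem result {X Y S : Scheme.{u}} (p : X ⟶ S) [Smooth p] (i : Y ⟶ X) (j : Y ⟶ S)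
    [IsClosedImmersion i] [IsClosedImmersion j] (h : i ≫ p = j) (hj : Mor2.IsRegularClosedImmersion j) :
    Mor2.IsRegularClosedImmersion i := by
  refine ⟨inferInstance, fun y => ?_⟩
  obtain ⟨V, hV, hjy, rs, hrs, hker⟩ := hj.2 y
  have hpy : p (i y) = j y := by rw [← h]; rfl
  obtain ⟨U₀, hU₀, hyU₀, hU₀V⟩ := exists_isAffineOpen_mem_and_subset (x := i y) (U := p ⁻¹ᵁ V)
    (show p (i y) ∈ V by rw [hpy]; exact hjy)
  obtain ⟨Oset, hOo, hOeq⟩ := j.isClosedEmbedding.isInducing.isOpen_iff.1 (i ⁻¹ᵁ U₀).2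
  obtain ⟨a, haO, hya⟩ := hV.exists_basicOpen_le (V := ⟨Oset, hOo⟩)
    ⟨j y, (Set.ext_iff.1 hOeq y).2 hyU₀⟩ hjy
  let V' : S.Opens := S.basicOpen a
  have hV' : IsAffineOpen V' := hV.basicOpen a
  let W : X.Opens := X.basicOpen (p.appLE V U₀ hU₀V a)
  have hW : IsAffineOpen W := hU₀.basicOpen _
  have hWeq : W = U₀ ⊓ p ⁻¹ᵁ V' := Scheme.basicOpen_appLE p U₀ V hU₀V a
  have eW : W ≤ p ⁻¹ᵁ V' := hWeq.le.trans inf_le_right
  have hyW : i y ∈ W := by
    rw [hWeq]; exact ⟨hyU₀, show p (i y) ∈ V' by rw [hpy]; exact hya⟩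
  have hpre : i ⁻¹ᵁ W = j ⁻¹ᵁ V' := by
    ext z
    simp only [TopologicalSpace.Opens.map_coe, Set.mem_preimage, SetLike.mem_coe]
    have hz : p (i z) = j z := by rw [← h]; rfl
    rw [hWeq]
    exact ⟨fun hh => hz ▸ hh.2, fun hh => ⟨(Set.ext_iff.1 hOeq z).1 (haO hh), show p (i z) ∈ V' from hz.symm ▸ hh⟩⟩
  let A := Γ(S, V')
  let B := Γ(X, W)
  let φ : A ⟶ B := p.appLE V' W eW
  letI := φ.hom.toAlgebra
  haveI : Algebra.Smooth A B := p.smooth_appLE hV' hW eW
  let J : Ideal B := RingHom.ker (i.app W).hom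
  have hcomp : φ ≫ i.app W = j.app V' ≫ Y.presheaf.map (eqToHom hpre).op := by
    show p.appLE V' W eW ≫ i.app W = _
    subst h
    rw [Scheme.Hom.comp_app, Scheme.Hom.app_eq_appLE, Scheme.Hom.app_eq_appLE, Scheme.Hom.app_eq_appLE,
      Scheme.Hom.appLE_comp_appLE, Scheme.Hom.appLE_comp_appLE]
    exact (Scheme.Hom.appLE_map _ _ _).symm
  have hle : V' ≤ V := S.basicOpen_le a
  let rs' : List A := rs.map (S.presheaf.map (homOfLE hle).op).hom
  have hrs' : RingTheory.Sequence.IsWeaklyRegular A rs' := by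
    haveI : IsLocalization.Away a A := hV.isLocalization_basicOpen a
    exact hrs.toIsWeaklyRegular.of_isLocalization A (Submonoid.powers a)
  have hkerV' : RingHom.ker (j.app V').hom = Ideal.ofList rs' := by
    have e1 := (Scheme.Hom.ker_apply j ⟨V', hV'⟩).symm
    rw [← Scheme.IdealSheafData.map_ideal j.ker (U := ⟨V', hV'⟩) (V := ⟨V, hV⟩) hle, hker,
      Ideal.map_ofList] at e1
    exact e1
  have hmapbij : Function.Bijective (Y.presheaf.map (eqToHom hpre).op) :=
    ConcreteCategory.bijective_of_isIso _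
  have hI : ∀ c : A, algebraMap A B c ∈ J ↔ c ∈ Ideal.ofList rs' := fun c => by
    rw [← hkerV', RingHom.mem_ker, RingHom.mem_ker]
    show (φ ≫ i.app W) c = 0 ↔ _
    rw [hcomp]
    show Y.presheaf.map (eqToHom hpre).op (j.app V' c) = 0 ↔ j.app V' c = 0
    exact ⟨fun e => hmapbij.1 (e.trans (map_zero _).symm), fun e => by rw [e, map_zero]⟩
  have hsurj : ∀ b : B, ∃ c, b - algebraMap A B c ∈ J := fun b => by
    obtain ⟨t, ht⟩ := hmapbij.2 (i.app W b)
    have hs : Function.Surjective (j.app V') :=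
      (Groth.Agent.H29Slice.preimage_affine_and_surjective j hV'
        (IsZariskiLocalAtTarget.restrict (P := @IsClosedImmersion) inferInstance V')).2
    obtain ⟨c, rfl⟩ := hs t
    refine ⟨c, ?_⟩
    rw [RingHom.mem_ker, map_sub, sub_eq_zero]
    show _ = (φ ≫ i.app W) c
    rw [hcomp, CommRingCat.comp_apply, ht]
  let q : Ideal B := (hW.primeIdealOf ⟨i y, hyW⟩).asIdeal
  have hJq : J ≤ q := fun x hx => by
    rw [H29Blow.mem_primeIdealOf_iff hW ⟨i y, hyW⟩]
    intro hu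
    have h2 := hu.map (i.stalkMap y).hom
    rw [show (i.stalkMap y).hom (X.presheaf.germ W (i y) hyW x) = Y.presheaf.germ (i ⁻¹ᵁ W) y hyW (i.app W x)
      from i.germ_stalkMap_apply W y hyW x,
      show i.app W x = 0 from hx, map_zero] at h2
    exact not_isUnit_zero h2
  obtain ⟨b, hb, ws, hws, hJ, -⟩ := Groth.Agent.H29Slice.exists_regular_near_section A B rs' hrs' J hI hsurj q hJq
  let W₂ : X.Opens := X.basicOpen b
  have hyW₂ : i y ∈ W₂ := by
    rw [Scheme.mem_basicOpen X b (i y) hyW]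
    by_contra hu
    exact hb ((H29Blow.mem_primeIdealOf_iff hW ⟨i y, hyW⟩ b).2 hu)
  letI : Algebra B Γ(X, W₂) := (X.presheaf.map (homOfLE (X.basicOpen_le b)).op).hom.toAlgebra
  haveI : IsLocalization.Away b Γ(X, W₂) := hW.isLocalization_basicOpen b
  let e := IsLocalization.algEquiv (Submonoid.powers b) (Localization.Away b) Γ(X, W₂)
  let ws' : List Γ(X, W₂) := ws.map e
  have hws' : RingTheory.Sequence.IsWeaklyRegular Γ(X, W₂) ws' := by
    refine (AddEquiv.isWeaklyRegular_congr (e := e.toAddEquiv) ?_).mp hws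
    rw [List.forall₂_map_right_iff, List.forall₂_same]
    intro r _ x
    exact map_mul e r x
  have hk2 : RingHom.ker (i.app W₂).hom = Ideal.ofList ws' := by
    have e1 := (Scheme.Hom.ker_apply i ⟨W₂, hW.basicOpen b⟩).symm
    rw [← Scheme.IdealSheafData.map_ideal i.ker (U := ⟨W₂, hW.basicOpen b⟩) (V := ⟨W, hW⟩)
      (X.basicOpen_le b), Scheme.Hom.ker_apply] at e1
    refine e1.trans ?_
    have hJ2 := congrArg (Ideal.map e.toAlgHom.toRingHom) hJ
    rw [Ideal.map_map, Ideal.map_ofList] at hJ2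
    refine Eq.trans ?_ hJ2
    congr 1
    exact (AlgHom.comp_algebraMap e.toAlgHom).symm
  exact ⟨W₂, hW.basicOpen b, hyW₂, ws',
    Groth.Agent.H29Slice.isRegular_of_mem i y hyW₂ hws' hk2,
    (Scheme.Hom.ker_apply i ⟨W₂, hW.basicOpen b⟩).trans hk2⟩

end Groth.Agent.S1678
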