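import Groth.Statements.S1676
import Groth.Agent.S1678

set_option autoImplicit false
universe u
open CategoryTheory CategoryTheory.Limits AlgebraicGeometry TopologicalSpace
open SDiv

namespace Groth.Agent.S1676

/-- For a section that is a closed immersion, e.g. when f is separated: let f : X ⟶ S be a smooth
morphism and σ : S ⟶ X a section of f which is a closed immersion. Then σ is a regular closed
immersion. -/
theorem result {X S : Scheme.{u}} (f : X ⟶ S) [Smooth f] (σ : S ⟶ X)
    (hσ : σ ≫ f = 𝟙 S) [IsClosedImmersion σ] : Mor2.IsRegularClosedImmersion σ := by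
  refine Groth.Agent.S1678.result f σ (𝟙 S) hσ ⟨inferInstance, fun z => ?_⟩
  obtain ⟨U, hU, hz, -⟩ := exists_isAffineOpen_mem_and_subset (x := z) (U := ⊤) trivial
  have hk : RingHom.ker ((𝟙 S : S ⟶ S).app U).hom = Ideal.ofList ([] : List Γ(S, U)) := by
    rw [Ideal.ofList_nil, RingHom.ker_eq_bot_iff_eq_zero]
    exact fun x hx => hx
  exact ⟨U, hU, hz, [], Groth.Agent.H29Slice.isRegular_of_mem (𝟙 S) z hz
    (RingTheory.Sequence.IsWeaklyRegular.nil _ _) hk,
    (Scheme.Hom.ker_apply (𝟙 S) ⟨U, hU⟩).trans hk⟩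

end Groth.Agent.S1676
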