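import Groth.Statements.S2357
import Groth.Agent.S4397
import Groth.Agent.H11Proj.Scheme
import Groth.Agent.H11Proj.Monomials

set_option autoImplicit false
universe u
open CategoryTheory CategoryTheory.Limits AlgebraicGeometry
open EGA2

namespace Groth.Agent.S2357

/-- If A is a graded ring which is Noetherian, then Proj A is a Noetherian scheme. -/
theorem result {R A : Type u} [CommRing R] [CommRing A] [Algebra R A] (𝒜 : ℕ → Submodule R A) [GradedAlgebra 𝒜] [IsNoetherianRing A] :
    IsNoetherian (Proj 𝒜) := by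
  have := Groth.Agent.H11Proj.finiteType_of_irrelevant_fg 𝒜 (IsNoetherian.noetherian _)
  obtain ⟨E, hE, htop⟩ := Groth.Agent.H11Proj.exists_finset_posHom_adjoin 𝒜
  obtain ⟨deg, hdeg, hpos⟩ := Groth.Agent.H11Proj.exists_degree_fun 𝒜 hE
  let 𝒰 := (Proj.affineOpenCoverOfIrrelevantLESpan 𝒜 (fun e : E => (e : A)) (m := fun e => deg e)
    (fun e => hdeg _ e.2) (fun e => hpos _ e.2)
    (by simpa using Groth.Agent.H11Proj.irrelevant_le_span_of_adjoin_eq_top 𝒜 hE htop)).openCover
  have : Finite 𝒰.I₀ := (inferInstance : Finite E)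
  have : ∀ i, IsAffine (𝒰.X i) := fun i => isAffine_Spec _
  refine (isNoetherian_iff_of_finite_affine_openCover (𝒰 := 𝒰)).2 fun (e : E) => ?_
  have : IsNoetherianRing (HomogeneousLocalization.Away 𝒜 (e : A)) :=
    Groth.Agent.S4397.result 𝒜 (hpos _ e.2) _ (hdeg _ e.2)
  exact isNoetherianRing_of_ringEquiv _
    (Scheme.ΓSpecIso (CommRingCat.of (HomogeneousLocalization.Away 𝒜 (e : A)))).commRingCatIsoToRingEquiv.symm

end Groth.Agent.S2357
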