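import Groth.Statements.S4622
import Groth.Agent.H06RadPt.Basic

set_option autoImplicit false
open CategoryTheory AlgebraicGeometry
universe u
open FBase

namespace Groth.Agent.S4622

/-- Let k be a separably closed field, k' an algebraic closure of k and X a scheme over k. Then the
projection X ⊗_k k' → X is a universal homeomorphism. -/
theorem result {k k' : Type u} [Field k] [IsSepClosed k] [Field k'] [Algebra k k']
    [IsAlgClosure k k'] {X : Scheme.{u}} (f : X ⟶ Spec (CommRingCat.of k)) :
    FlatMor.IsUnivHomeo (FBase.bcπ f k') := by
  have : Algebra.IsAlgebraic k k' := IsAlgClosure.isAlgebraic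
  have : IsPurelyInseparable k k' := inferInstance
  set g := Spec.map (CommRingCat.ofHom (algebraMap k k')) with hg
  have hint : IsIntegralHom g := by
    rw [hg, IsIntegralHom.SpecMap_iff]
    exact algebraMap_isIntegral_iff.2 inferInstance
  have hinj : UniversallyInjective g := by
    rw [(tfae_universallyInjective g).out 0 1 rfl rfl]
    intro K _ a b hab
    obtain ⟨a, rfl⟩ := Spec.map_surjective a
    obtain ⟨b, rfl⟩ := Spec.map_surjective b
    dsimp only at hab
    rw [hg, ← Spec.map_comp, ← Spec.map_comp, Spec.map_inj, CommRingCat.hom_ext_iff] at hab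
    rw [Spec.map_inj]
    exact CommRingCat.hom_ext (IsPurelyInseparable.injective_comp_algebraMap k k' K hab)
  have hsurj : Surjective g := ⟨fun x => ⟨IsLocalRing.closedPoint _, Subsingleton.elim _ _⟩⟩
  have h1 : IsIntegralHom (FBase.bcπ f k') :=
    MorphismProperty.pullback_fst f g hint
  have h2 : UniversallyInjective (FBase.bcπ f k') :=
    MorphismProperty.pullback_fst f g hinj
  have h3 : Surjective (FBase.bcπ f k') :=
    MorphismProperty.pullback_fst f g hsurj
  intro A B i₁ i₂ q sq
  have : IsIntegralHom q := MorphismProperty.of_isPullback (P := @IsIntegralHom) sq.flip h1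
  have : UniversallyInjective q := MorphismProperty.of_isPullback (P := @UniversallyInjective) sq.flip h2
  have : Surjective q := MorphismProperty.of_isPullback (P := @Surjective) sq.flip h3
  show IsHomeomorph q.base
  rw [isHomeomorph_iff_continuous_isClosedMap_bijective]
  exact ⟨q.continuous, q.isClosedMap, q.injective, q.surjective⟩

end Groth.Agent.S4622
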