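import Groth.Statements.S3572
import Groth.Agent.H11Tilde.ProjUP
import Mathlib.LinearAlgebra.SymmetricAlgebra.Basis

set_option autoImplicit false
universe u
open CategoryTheory CategoryTheory.Limits AlgebraicGeometry
open EGA2

namespace Groth.Agent.S3572

/-- Existence part of the universal property of projective n-space over an affine base Spec R (the
published statement is for P(E) with E an arbitrary quasi-coherent module; here E is the free module
of rank n+1, so that P(E) is projective n-space over R): let X be a scheme over R, L an invertible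
O_X-module and s_0, …, s_n global sections of L generating L. Then there is an R-morphism r from X
to projective n-space over R and an isomorphism r^*O(1) ≅ L carrying the inverse image of the
coordinate T_i to s_i for every i. -/
theorem result {R : Type u} [CommRing R] (n : ℕ) {X : Scheme.{u}}
    (q : X ⟶ Spec (CommRingCat.of R)) (L : X.Modules) (hL : PicF.IsInvertible L)
    (s : Fin (n + 1) → ProjUP.Γm L) (hs : ProjUP.GeneratedBy L s) :
    ∃ (r : X ⟶ CohB1.ProjSpace n R) (_ : r ≫ CohB1.ProjSpace.toSpec n R = q)
      (τ : (Scheme.Modules.pullback r).obj (Twist.twistProjSpace n R 1) ≅ L),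
      ∀ i, τ.hom.app ⊤ (ProjUP.pullSec r (Twist.twistProjSpace n R 1) (ProjUP.coord n R i)) = s i := by
  classical
  let b := Pi.basisFun R (Fin (n + 1))
  let ι : (Fin (n + 1) → R) →ₗ[R] MvPolynomial (Fin (n + 1)) R := b.constr R MvPolynomial.X
  have hιX : ∀ i, ι (b i) = MvPolynomial.X i := fun i => b.constr_basis R _ i
  have hι : ∀ m, ι m ∈ CohB1.polyGrading n R 1 := fun m => by
    rw [← b.sum_repr m, map_sum]
    refine Submodule.sum_mem _ fun i _ => ?_
    rw [map_smul, hιX]
    exact Submodule.smul_mem _ _ (MvPolynomial.isHomogeneous_X R i)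
  let v : (Fin (n + 1) → R) →+ ProjUP.Γm L :=
    { toFun := fun c => ∑ i, ProjUP.toGlobal q (c i) • s i
      map_zero' := by simp
      map_add' := fun c c' => by simp [add_smul, Finset.sum_add_distrib] }
  have hv : ∀ (a : R) (m : Fin (n + 1) → R), v (a • m) = ProjUP.toGlobal q a • v m := fun a m => by
    change ∑ i, ProjUP.toGlobal q ((a • m) i) • s i = ProjUP.toGlobal q a • ∑ i, ProjUP.toGlobal q (m i) • s i
    rw [Finset.smul_sum]
    exact Finset.sum_congr rfl fun i _ => by rw [Pi.smul_apply, smul_eq_mul, map_mul, mul_smul]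
  have hvb : ∀ i, v (b i) = s i := fun i => by
    change ∑ j, ProjUP.toGlobal q (b i j) • s j = s i
    rw [Finset.sum_eq_single i (fun j _ hj => by simp [b, Pi.basisFun_apply, hj]) (by simp)]
    simp [b, Pi.basisFun_apply]
  have hgen : ProjUP.GeneratedBy L v := fun x => top_le_iff.1 ((hs x).ge.trans (Submodule.span_mono (by
    rintro _ ⟨i, rfl⟩
    exact ⟨b i, by beta_reduce; rw [hvb]⟩)))
  obtain ⟨r, hr, τ, hτ⟩ := Groth.Agent.H11Tilde.exists_toProj (CohB1.polyGrading n R) hι
    (SymmetricAlgebra.IsSymmetricAlgebra.mvPolynomial (Fin (n + 1)) b) q L hL v hv hgen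
  refine ⟨r, hr, τ, fun i => ?_⟩
  have key : (ProjUP.coord n R i : ProjUP.Γm (GrTwist.twist (CohB1.polyGrading n R) 1)) =
      Groth.Agent.H11Tilde.globalSec (CohB1.polyGrading n R) (hι (b i)) := by
    refine Groth.Agent.H11Tilde.sval_ext _ _ fun x => ?_
    exact congrArg (fun p => Localization.mk p (⟨1, _⟩ : x.1.asHomogeneousIdeal.toIdeal.primeCompl)) (hιX i).symm
  change τ.hom.app ⊤ (ProjUP.pullSec r (GrTwist.twist (CohB1.polyGrading n R) 1) (ProjUP.coord n R i)) = s i
  rw [key, ← hvb i]
  exact hτ (b i)

end Groth.Agent.S3572
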