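import Groth.Statements.S5784
import Mathlib
import Groth.Agent.H05EGA4.Regular2

set_option autoImplicit false
set_option maxHeartbeats 400000
universe u
open EGA41

open IsLocalRing TensorProduct RingTheory.Sequence Groth.Agent.H05EGA4 Groth.Agent

namespace Groth.Agent.S5784

/-- If A is a regular ring, then the formal power series ring A[[T_1, ..., T_n]] is regular, for every
n. -/
theorem result (A : Type u) [CommRing A] [IsRegularRing A] (n : ℕ) :
    IsRegularRing (MvPowerSeries (Fin n) A) := by
  have := isRegularRing_adicCompletion (MvPolynomial (Fin n) A) (MvPolynomial.idealOfVars (Fin n) A)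
  exact IsRegularRing.of_ringEquiv (MvPowerSeries.toAdicCompletionAlgEquiv (Fin n) A).toRingEquiv.symm


end Groth.Agent.S5784
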