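import Groth.Statements.S9128
import Groth.Agent.H02CA.Catenary
import Mathlib.RingTheory.KrullDimension.Basic
import Mathlib.RingTheory.Ideal.Height

set_option autoImplicit false
universe u
open CAlg

namespace Groth.Agent.S9128

/-- A Noetherian local ring A is catenary if and only if the assignment sending a prime p to the Krull
dimension of A/p is a dimension function on Spec A, i.e. it decreases strictly along strict
inclusions of primes and drops by exactly one along inclusions with no prime strictly in between. -/
theorem result (A : Type u) [CommRing A] [IsNoetherianRing A]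
    [IsLocalRing A] :
    CAlg.IsCatenary A ↔
      ∀ p q : PrimeSpectrum A, p < q →
        ringKrullDim (A ⧸ q.asIdeal) < ringKrullDim (A ⧸ p.asIdeal) ∧
          (p ⋖ q → ringKrullDim (A ⧸ p.asIdeal) = ringKrullDim (A ⧸ q.asIdeal) + 1) := by
  classical
  let m : PrimeSpectrum A := ⟨IsLocalRing.maximalIdeal A, inferInstance⟩
  have hm : ∀ p : PrimeSpectrum A, p ≤ m := fun p => IsLocalRing.le_maximalIdeal p.isPrime.ne_top
  obtain ⟨N, hN⟩ : ∃ N : ℕ, ∀ s : LTSeries (PrimeSpectrum A), s.length ≤ N := by
    obtain ⟨N, hN⟩ : ∃ N : ℕ, ringKrullDim A ≤ (N : ℕ∞) := by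
      have h1 := ringKrullDim_ne_top (R := A)
      have h2 := ringKrullDim_ne_bot (R := A)
      revert h1 h2
      generalize ringKrullDim A = d
      intro h1 h2
      cases d with
      | bot => exact absurd rfl h2
      | coe a => cases a with
        | top => exact absurd rfl h1
        | coe b => exact ⟨b, le_rfl⟩
    exact ⟨N, fun s => by exact_mod_cast (Order.LTSeries.length_le_krullDim s).trans hN⟩
  -- longest chain from `p` to the closed point computes the dimension of `A ⧸ p`
  have hd : ∀ p : PrimeSpectrum A, ∃ s : LTSeries (PrimeSpectrum A), s.head = p ∧ s.last = m ∧ H02CA.Saturated s ∧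
      ringKrullDim (A ⧸ p.asIdeal) = ((s.length : ℕ∞) : WithBot ℕ∞) := by
    intro p
    obtain ⟨s, h1, h2, h3, h4⟩ := H02CA.exists_saturated (hm p) fun t _ _ => hN t
    refine ⟨s, h1, h2, h3, le_antisymm (iSup_le fun l => ?_) ?_⟩
    · let l' : LTSeries (PrimeSpectrum A) := l.map _ (H02CA.quotEmbedding p.asIdeal).strictMono
      have hp' : p ≤ l'.head := (H02CA.mem_range_quotEmbedding p.asIdeal).mp ⟨l.head, (l.head_map _ _).symm⟩
      obtain ⟨s1, e1, e2, -, -⟩ := H02CA.exists_saturated hp' fun t _ _ => hN t
      obtain ⟨s2, g1, g2, -, -⟩ := H02CA.exists_saturated (hm l'.last) fun t _ _ => hN t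
      have h5 := h4 (RelSeries.smash (RelSeries.smash s1 l' e2) s2 (by simp [g1])) (by simpa using e1) (by simpa using g2)
      simp [l'] at h5
      exact WithBot.coe_le_coe.mpr (Nat.cast_le.mpr (by omega))
    · obtain ⟨t, -, -, t3, -⟩ := H02CA.exists_preimage (H02CA.quotEmbedding p.asIdeal) (H02CA.convex_quotEmbedding _)
        s (a := ⟨_, Ideal.map_isPrime_of_surjective Ideal.Quotient.mk_surjective (I := p.asIdeal) (by rw [Ideal.mk_ker])⟩)
        (b := ⟨_, Ideal.map_isPrime_of_surjective Ideal.Quotient.mk_surjective (I := m.asIdeal) (by rw [Ideal.mk_ker]; exact hm p)⟩)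
        (h1.trans (PrimeSpectrum.ext (by
          show p.asIdeal = Ideal.comap _ (Ideal.map _ _)
          rw [Ideal.comap_map_of_surjective' _ Ideal.Quotient.mk_surjective, Ideal.mk_ker, sup_idem])))
        (h2.trans (PrimeSpectrum.ext (by
          show m.asIdeal = Ideal.comap _ (Ideal.map _ _)
          rw [Ideal.comap_map_of_surjective' _ Ideal.Quotient.mk_surjective, Ideal.mk_ker, sup_eq_left.mpr (hm p)])))
      exact le_trans (le_of_eq (by rw [← t3]; rfl)) (Order.LTSeries.length_le_krullDim t)
  choose ch c1 c2 c3 c4 using hd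
  have hcast : ∀ (a b : ℕ), ((a : ℕ∞) : WithBot ℕ∞) = ((b : ℕ∞) : WithBot ℕ∞) + 1 ↔ a = b + 1 := fun a b => by
    norm_cast
  constructor
  · intro hA p q hpq
    obtain ⟨t, t1, t2, t3, -⟩ := H02CA.exists_saturated hpq.le fun t _ _ => hN t
    have heq := hA.2 (ch p) (RelSeries.smash t (ch q) (by rw [c1, t2])) (by simp [c1, t1]) (by simp [c2]) (c3 p) ?_
    · simp at heq
      have ht0 : t.length ≠ 0 := fun h0 => hpq.ne (by
        rw [← t1, ← t2, RelSeries.head, RelSeries.last]
        exact congr_arg t.toFun (Fin.ext (by simp [h0])))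
      refine ⟨?_, fun hcov => ?_⟩
      · rw [c4, c4]; exact WithBot.coe_lt_coe.mpr (Nat.cast_lt.mpr (by omega))
      · rw [c4, c4, hcast]
        have hlen : t.length = 1 := by
          by_contra hne
          have a1 : t ⟨0, by omega⟩ < t ⟨1, by omega⟩ := t.strictMono (by simp [Fin.lt_def])
          have a2 : t ⟨1, by omega⟩ < t (Fin.last _) := t.strictMono (by simp [Fin.lt_def]; omega)
          exact hcov.2 (c := t ⟨1, by omega⟩) (by rw [← t1]; exact a1) (by rw [← t2]; exact a2)
        omega
    · intro i
      refine Fin.addCases (m := t.length) (n := (ch q).length) (fun i => ?_) (fun i => ?_) i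
      · erw [RelSeries.smash_castAdd, RelSeries.smash_succ_castAdd]; exact t3 i
      · erw [RelSeries.smash_natAdd, RelSeries.smash_succ_natAdd]; exact c3 q i
  · intro h
    refine ⟨fun p q _ => ⟨N, fun s _ _ => hN s⟩, fun s t hh hl hs ht => ?_⟩
    have hlen : ∀ s : LTSeries (PrimeSpectrum A), (∀ i : Fin s.length, s i.castSucc ⋖ s i.succ) →
        (ch s.head).length = (ch s.last).length + s.length := by
      intro s hs
      have key : ∀ (i : ℕ) (hi : i ≤ s.length), (ch s.head).length = (ch (s ⟨i, by omega⟩)).length + i := by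
        intro i
        induction i with
        | zero => intro _; rfl
        | succ i ih =>
          intro hi
          have h1 := (h _ _ (hs ⟨i, hi⟩).1).2 (hs ⟨i, hi⟩)
          rw [c4, c4, hcast] at h1
          rw [ih (by omega)]
          change (ch (s ⟨i, by omega⟩)).length = (ch (s ⟨i + 1, by omega⟩)).length + 1 at h1
          omega
      exact key s.length le_rfl
    have h1 := hlen s hs
    have h2 := hlen t ht
    rw [hh, hl] at h1
    omega

end Groth.Agent.S9128
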