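import Groth.Statements.S9255
import Mathlib
import Groth.Agent.H05EGA4.Rk
import Groth.Agent.H05EGA4.Regular2
import Groth.Agent.H7Flat.GenericFreeness

set_option autoImplicit false
set_option maxHeartbeats 800000
universe u
open EGA4

open IsLocalRing PrimeSpectrum TensorProduct Groth.Agent.H05EGA4 Groth.Agent

namespace Groth.Agent.S9255

/-- Let R be a Noetherian domain and R → S an injective ring map of finite type with S a domain. If the
regular locus of Spec S contains a nonempty open subset, then the regular locus of Spec R contains a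
nonempty open subset. -/
theorem result (R S : Type u) [CommRing R]
    [IsDomain R] [IsNoetherianRing R] [CommRing S] [IsDomain S] [Algebra R S] [Algebra.FiniteType R S]
    (hinj : Function.Injective (algebraMap R S))
    (hS : ∃ U : Set (PrimeSpectrum S), IsOpen U ∧ U.Nonempty ∧ U ⊆ EGA4.regLocus S) :
    ∃ U : Set (PrimeSpectrum R), IsOpen U ∧ U.Nonempty ∧ U ⊆ EGA4.regLocus R := by
  obtain ⟨U, hU, ⟨x, hx⟩, hUsub⟩ := hS
  obtain ⟨f, hf, hfree⟩ := H7Flat.exists_isAwayFree_of_finiteType (R := R) S S
  let S' := Localization.Away (algebraMap R S f)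
  have hfr := hfree.free_baseChange
  haveI : Module.Flat (Localization.Away f) (Localization.Away f ⊗[R] S) :=
    @Module.Flat.of_free (Localization.Away f) (Localization.Away f ⊗[R] S) _ _ _ hfr
  have : Module.Flat R (Localization.Away f ⊗[R] S) :=
    Module.Flat.trans R (Localization.Away f) _
  have hloc : IsLocalizedModule (Submonoid.powers f) (IsScalarTower.toAlgHom R S S').toLinearMap := by
    rw [isLocalizedModule_iff_isLocalization]
    have : Algebra.algebraMapSubmonoid S (Submonoid.powers f) = Submonoid.powers (algebraMap R S f) :=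
      Submonoid.map_powers _ _
    rw [this]
    infer_instance
  have : Module.Flat R S' :=
    Module.Flat.of_linearEquiv
      ((IsLocalizedModule.iso (Submonoid.powers f) (IsScalarTower.toAlgHom R S S').toLinearMap).symm ≪≫ₗ
        (LocalizedModule.equivTensorProduct (Submonoid.powers f) S).restrictScalars R)
  have : Algebra.FiniteType R S' := by
    have : Algebra.FiniteType S S' := IsLocalization.finiteType_of_monoid_fg (Submonoid.powers (algebraMap R S f)) S'
    exact Algebra.FiniteType.trans (R := R) (S := S) (A := S') inferInstance this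
  have : Algebra.FinitePresentation R S' := Algebra.FinitePresentation.of_finiteType.mp this
  refine ⟨comap (algebraMap R S') '' (comap (algebraMap S S') ⁻¹' U),
    isOpenMap_comap_of_hasGoingDown_of_finitePresentation _ (hU.preimage (continuous_comap _)),
    ?_, ?_⟩
  · have hf0 : algebraMap R S f ≠ 0 := (map_ne_zero_iff _ hinj).mpr hf
    have hle : Submonoid.powers (algebraMap R S f) ≤ nonZeroDivisors S :=
      powers_le_nonZeroDivisors_of_noZeroDivisors hf0
    have : IsDomain S' := IsLocalization.isDomain_localization hle
    refine Set.Nonempty.image _ ⟨⟨⊥, Ideal.isPrime_bot⟩, ?_⟩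
    have hbot : comap (algebraMap S S') ⟨⊥, Ideal.isPrime_bot⟩ = (⟨⊥, Ideal.isPrime_bot⟩ : PrimeSpectrum S) := by
      apply PrimeSpectrum.ext
      exact Ideal.comap_bot_of_injective _ (IsLocalization.injective S' hle)
    rw [Set.mem_preimage, hbot]
    exact hU.stableUnderGeneralization (show (⟨⊥, Ideal.isPrime_bot⟩ : PrimeSpectrum S) ⤳ x from
      (le_iff_specializes _ _).mp bot_le) hx
  · rintro _ ⟨Q, hQ, rfl⟩
    have h1 : IsRegularLocalRing (Localization.AtPrime (Q.asIdeal.comap (algebraMap S S'))) := hUsub hQ
    have := (isRegularLocalRing_localization_iff (Submonoid.powers (algebraMap R S f)) S' Q.asIdeal).mpr h1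
    have : Q.asIdeal.LiesOver (comap (algebraMap R S') Q).asIdeal := ⟨rfl⟩
    exact isRegularLocalRing_comap_of_flat (comap (algebraMap R S') Q).asIdeal Q.asIdeal


end Groth.Agent.S9255
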