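import Groth.Statements.S9296
import Mathlib
import Groth.Agent.H05EGA4.Rk
import Groth.Agent.H05EGA4.Regular2

set_option autoImplicit false
set_option maxHeartbeats 800000
universe u
open EGA4

open IsLocalRing PrimeSpectrum TensorProduct Groth.Agent.H05EGA4 Groth.Agent

namespace Groth.Agent.S9296

/-- For a Noetherian ring R, the set of primes at which R is regular is open in Spec R (R is J-1)
exactly when, for each such prime p, some nonempty open part of the closed set V(p) consists of
primes at which R is regular. Stated with an open U of Spec R whose trace on V(p) is nonempty and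
contained in the regular locus. -/
theorem result (R : Type u) [CommRing R] [IsNoetherianRing R] :
    IsOpen (EGA4.regLocus R) ↔
      ∀ p ∈ EGA4.regLocus R, ∃ U : Set (PrimeSpectrum R), IsOpen U ∧
        (U ∩ PrimeSpectrum.zeroLocus (p.asIdeal : Set R)).Nonempty ∧
        U ∩ PrimeSpectrum.zeroLocus (p.asIdeal : Set R) ⊆ EGA4.regLocus R := by
  classical
  refine ⟨fun h p hp => ⟨_, h, ⟨p, hp, le_refl p.asIdeal⟩, Set.inter_subset_left⟩, fun h => ?_⟩
  rw [← isClosed_compl_iff]
  set Z := (EGA4.regLocus R)ᶜ with hZ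
  set I := vanishingIdeal Z with hI
  suffices zeroLocus (I : Set R) ⊆ Z by
    rw [← this.antisymm (subset_zeroLocus_vanishingIdeal Z)]
    exact isClosed_zeroLocus _
  intro z hz hzreg
  obtain ⟨P, hP, hPz⟩ := Ideal.exists_minimalPrimes_le (I := I) (J := z.asIdeal) hz
  have hPp : P.IsPrime := hP.isPrime
  have : IsRegularLocalRing (Localization.AtPrime z.asIdeal) := hzreg
  have hPreg : (⟨P, hPp⟩ : PrimeSpectrum R) ∈ EGA4.regLocus R := isRegularLocalRing_of_le hPz
  obtain ⟨U, hU, ⟨x, hxU, hxP⟩, hUsub⟩ := h _ hPreg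
  obtain ⟨_, ⟨g, rfl⟩, hxg, hgU⟩ := isTopologicalBasis_basic_opens.exists_subset_of_mem_open hxU hU
  have hfin := I.finite_minimalPrimes_of_isNoetherianRing R
  let T := hfin.toFinset.erase P
  have hnot : ¬ T.inf id ≤ P := by
    intro hle
    obtain ⟨Q, hQ, hQP⟩ := (Ideal.IsPrime.inf_le' hPp).mp hle
    rw [Finset.mem_erase, Set.Finite.mem_toFinset] at hQ
    exact hQ.1 (le_antisymm hQP (hP.2 hQ.2.1 hQP))
  obtain ⟨w, hwT, hwP⟩ := SetLike.not_le_iff_exists.mp hnot
  have hgP : g ∉ P := fun hg => hxg (hxP hg)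
  have hmem : g * w ∈ I := by
    rw [hI, mem_vanishingIdeal]
    intro y hy
    obtain ⟨P', hP', hP'y⟩ := Ideal.exists_minimalPrimes_le (I := I) (J := y.asIdeal)
      (subset_zeroLocus_vanishingIdeal Z hy)
    by_cases hPP : P' = P
    · subst hPP
      refine y.asIdeal.mul_mem_right _ ?_
      by_contra hgy
      exact hy (hUsub ⟨hgU hgy, hP'y⟩)
    · have : w ∈ P' :=
        Finset.inf_le (f := id) (Finset.mem_erase.mpr ⟨hPP, hfin.mem_toFinset.mpr hP'⟩) hwT
      exact y.asIdeal.mul_mem_left _ (hP'y this)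
  exact (hPp.mem_or_mem (hP.le hmem)).elim hgP hwP


end Groth.Agent.S9296
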