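import Groth.Statements.S9126
import Groth.Agent.H02CA.Catenary
import Mathlib.RingTheory.EssentialFiniteness
import Mathlib.RingTheory.Spectrum.Prime.Topology

set_option autoImplicit false
universe u
open CAlg

namespace Groth.Agent.S9126

/-- Algebras essentially of finite type over a universally catenary ring are catenary. -/
theorem isCatenary_of_essFiniteType {A : Type u} [CommRing A] (hA : CAlg.IsUniversallyCatenary A)
    (C : Type u) [CommRing C] [Algebra A C] [Algebra.EssFiniteType A C] : CAlg.IsCatenary C := by
  have hinj := PrimeSpectrum.localization_comap_injective C (Algebra.EssFiniteType.submonoid A C)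
  let e : PrimeSpectrum C ↪o PrimeSpectrum (Algebra.EssFiniteType.subalgebra A C) :=
    OrderEmbedding.ofMapLEIff (PrimeSpectrum.comap (algebraMap _ C)) fun a b =>
      ⟨fun h => by
        change a.asIdeal ≤ b.asIdeal
        rw [← IsLocalization.map_comap (Algebra.EssFiniteType.submonoid A C) C a.asIdeal,
          ← IsLocalization.map_comap (Algebra.EssFiniteType.submonoid A C) C b.asIdeal]
        exact Ideal.map_mono h, fun h => Ideal.comap_mono h⟩
  refine H02CA.catenary_transfer e (fun a b c _ hc => ?_) (hA.2 _ inferInstance)
  have hr := PrimeSpectrum.localization_comap_range C (Algebra.EssFiniteType.submonoid A C)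
  change c ∈ Set.range (PrimeSpectrum.comap (algebraMap _ C))
  have hb : e b ∈ Set.range (PrimeSpectrum.comap (algebraMap _ C)) := ⟨b, rfl⟩
  rw [hr] at hb ⊢
  exact Set.disjoint_left.mpr fun x hx hxc => Set.disjoint_left.mp hb hx (hc hxc)

/-- An algebra essentially of finite type over a Noetherian universally catenary ring is universally
catenary. -/
theorem result (A : Type u) [CommRing A] (B : Type u) [CommRing B]
    [Algebra A B] [Algebra.EssFiniteType A B]
    (hA : CAlg.IsUniversallyCatenary A) : CAlg.IsUniversallyCatenary B := by
  haveI : IsNoetherianRing A := hA.1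
  refine ⟨Algebra.EssFiniteType.isNoetherianRing A B, fun C _ _ hC => ?_⟩
  letI : Algebra A C := ((algebraMap B C).comp (algebraMap A B)).toAlgebra
  haveI : IsScalarTower A B C := IsScalarTower.of_algebraMap_eq fun _ => rfl
  haveI := hC
  haveI : Algebra.EssFiniteType A C := Algebra.EssFiniteType.comp A B C
  exact isCatenary_of_essFiniteType hA C

end Groth.Agent.S9126
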