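import Groth.Statements.S1684
import Groth.Agent.H29Blow.OfStalk
import Groth.Agent.H29Blow.Stalk

set_option autoImplicit false
universe u
open CategoryTheory CategoryTheory.Limits AlgebraicGeometry TopologicalSpace
open SDiv

namespace Groth.Agent.S1684

/-- Let X be a locally Noetherian scheme and 𝓘 a quasi-coherent ideal sheaf whose closed subscheme D is
integral, of codimension 1 in X (the local ring of X at the generic point of D has dimension 1), and
such that the local ring of X at every point of D is a unique factorisation domain. Then 𝓘 is the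
ideal sheaf of an effective Cartier divisor. -/
theorem result (X : Scheme.{u}) [IsLocallyNoetherian X] (𝓘 : X.IdealSheafData)
    [IsIntegral 𝓘.subscheme]
    (hcodim : ringKrullDim (X.presheaf.stalk (𝓘.subschemeι (genericPoint ↥𝓘.subscheme))) = 1)
    (hufd : ∀ x : ↥X, x ∈ 𝓘.support → IsDomain (X.presheaf.stalk x) ∧ UniqueFactorizationMonoid (X.presheaf.stalk x)) :
    BlowUp.IsEffCartierIdeal 𝓘 := by
  classical
  refine H29Blow.isEffCartierIdeal_of_stalk 𝓘 fun x V hx => ?_
  by_cases hs : x ∈ 𝓘.support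
  swap
  · exact ⟨1, one_mem _, by rw [H29Blow.map_germ_eq_top_of_notMem_support 𝓘 x V hx hs, Ideal.span_singleton_one]⟩
  obtain ⟨hdom, hU⟩ := hufd x hs
  haveI := hdom
  haveI := hU
  let ι := 𝓘.subschemeι
  obtain ⟨d, hd⟩ : x ∈ Set.range ι := by
    rw [Scheme.IdealSheafData.range_subschemeι]; exact hs
  subst hd
  let η := genericPoint ↥𝓘.subscheme
  have hηV : ι η ∈ V.1 := (genericPoint_specializes d).mem_open (ι ⁻¹ᵁ V.1).2 hx
  let P := (V.2.primeIdealOf ⟨ι η, hηV⟩).asIdeal
  letI := TopCat.Presheaf.algebra_section_stalk X.presheaf (⟨ι η, hηV⟩ : V.1)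
  haveI := V.2.isLocalization_stalk ⟨ι η, hηV⟩
  have hP : P = 𝓘.ideal V := by
    ext b
    rw [← IsLocalization.AtPrime.to_map_mem_maximal_iff (X.presheaf.stalk (ι η)) P b,
      ← Scheme.IdealSheafData.ker_subschemeι_app, RingHom.mem_ker, IsLocalRing.mem_maximalIdeal,
      mem_nonunits_iff]
    change ¬ IsUnit (X.presheaf.germ V.1 (ι η) hηV b) ↔ ι.app V.1 b = 0
    rw [← isUnit_map_iff (ι.stalkMap η).hom]
    change ¬ IsUnit (ι.stalkMap η (X.presheaf.germ V.1 (ι η) hηV b)) ↔ _
    rw [Scheme.Hom.germ_stalkMap_apply]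
    letI : Field (𝓘.subscheme.presheaf.stalk η) := inferInstanceAs (Field 𝓘.subscheme.functionField)
    rw [isUnit_iff_ne_zero, not_not, map_eq_zero_iff _ (germ_injective_of_isIntegral (X := 𝓘.subscheme) η hηV)]

  have hPh : P.height = 1 := by
    have h1 := IsLocalization.AtPrime.ringKrullDim_eq_height P (X.presheaf.stalk (ι η))
    rw [h1] at hcodim
    exact_mod_cast hcodim
  letI := TopCat.Presheaf.algebra_section_stalk X.presheaf (⟨ι d, hx⟩ : V.1)
  haveI := V.2.isLocalization_stalk ⟨ι d, hx⟩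
  set Q := (𝓘.ideal V).map (X.presheaf.germ V.1 (ι d) hx).hom with hQdef
  have hker : RingHom.ker (ι.stalkMap d).hom = Q := H29Blow.ker_stalkMap_subschemeι 𝓘 d V hx
  haveI hQp : Q.IsPrime := by rw [← hker]; exact RingHom.ker_isPrime _
  haveI : (𝓘.ideal V).IsPrime := hP ▸ (inferInstance : P.IsPrime)
  have hQh : Q.height = 1 := by
    have hdis : Disjoint ((V.2.primeIdealOf ⟨ι d, hx⟩).asIdeal.primeCompl : Set Γ(X, V.1)) (𝓘.ideal V : Set Γ(X, V.1)) := by
      rw [Set.disjoint_left]
      intro b hb hbI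
      have : X.presheaf.germ V.1 (ι d) hx b ∈ Q := Ideal.mem_map_of_mem _ hbI
      exact hQp.ne_top (Ideal.eq_top_of_isUnit_mem _ this (IsLocalization.map_units (X.presheaf.stalk (ι d)) ⟨b, hb⟩))
    have h2 := IsLocalization.height_map_of_disjoint (S := X.presheaf.stalk (ι d)) (V.2.primeIdealOf ⟨ι d, hx⟩).asIdeal.primeCompl (𝓘.ideal V) hdis
    rw [← hP] at h2
    exact (congrArg Ideal.height (show Q = P.map (algebraMap Γ(X, V.1) (X.presheaf.stalk (ι d))) by rw [hP]; rfl)).trans (h2.trans hPh)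
  have hQ0 : Q ≠ ⊥ := fun h => by rw [h, Ideal.height_bot] at hQh; exact zero_ne_one hQh
  obtain ⟨π, hπQ, hπ⟩ := hQp.exists_mem_prime_of_ne_bot hQ0
  refine ⟨π, mem_nonZeroDivisors_of_ne_zero hπ.ne_zero, ?_⟩
  have hle : Ideal.span {π} ≤ Q := (Ideal.span_singleton_le_iff_mem _).mpr hπQ
  haveI : (Ideal.span {π}).IsPrime := (Ideal.span_singleton_prime hπ.ne_zero).mpr hπ
  by_contra hne
  haveI : Q.FiniteHeight := ⟨Or.inr (by rw [hQh]; simp)⟩
  have hlt : Ideal.span {π} < Q := lt_of_le_of_ne hle (fun h => hne h.symm)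
  have h3 := Ideal.height_add_one_le_of_lt_of_isPrime hlt
  have h4 : (1 : ℕ∞) ≤ (Ideal.span {π}).height := by
    have hbot : (⊥ : Ideal (X.presheaf.stalk (ι d))) < Ideal.span {π} :=
      bot_lt_iff_ne_bot.mpr (by simpa using hπ.ne_zero)
    haveI : (⊥ : Ideal (X.presheaf.stalk (ι d))).IsPrime := Ideal.isPrime_bot
    simpa using Ideal.height_add_one_le_of_lt_of_isPrime hbot
  rw [hQh] at h3
  exact absurd ((add_le_add h4 le_rfl).trans h3) (by norm_num)

end Groth.Agent.S1684
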