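import Groth.Statements.S0027
import Groth.Agent.LeadDev.Filt
-- import your own Groth.Agent.* helpers here

set_option autoImplicit false
universe u
open Coherent

namespace Groth.Agent.S0027

open AlgebraicGeometry CategoryTheory CategoryTheory.Limits in
/-- Let X be a nonempty Noetherian scheme and P an isomorphism-invariant property of O_X-modules such
that (1) in a short exact sequence of coherent modules, P for the two outer terms implies P for the
middle term, and (2) P holds for the direct image of every quasi-coherent ideal sheaf of every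
integral closed subscheme of X. Then P holds for every coherent O_X-module. (Nonemptiness of X is
needed for the zero module; the published statement leaves it implicit.) -/
theorem result (X : Scheme.{u}) [IsNoetherian X] [Nonempty X]
    (P : X.Modules → Prop) (hP : ∀ M N : X.Modules, Nonempty (M ≅ N) → P M → P N)
    (h₁ : ∀ S : ShortComplex X.Modules, S.ShortExact → Coh.IsCoh S.X₁ → Coh.IsCoh S.X₂ →
      Coh.IsCoh S.X₃ → P S.X₁ → P S.X₃ → P S.X₂)
    (h₂ : ∀ (Z : Scheme.{u}) (i : Z ⟶ X), IsClosedImmersion i → IsIntegral Z →
      ∀ (I : Z.Modules) (ι : I ⟶ Coh.structureModule Z), Mono ι → Coh.IsQCoh I →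
        P ((Coh.push i).obj I))
    (M : X.Modules) (hM : Coh.IsCoh M) : P M := by
  have h0 : ∀ N : X.Modules, IsZero N → P N := fun N hN => by
    obtain ⟨x⟩ := ‹Nonempty X›
    obtain ⟨Z, i, hZ, -, hi, -⟩ :=
      Groth.Agent.H17.ConsProp.exists_integral_closed (closure {x}) isClosed_closure isIrreducible_singleton.closure
    have hK : IsZero (kernel (𝟙 (Coh.structureModule Z))) := isZero_kernel_of_mono _
    exact hP _ N ⟨((Coh.push i).map_isZero hK).iso hN⟩ (h₂ Z i hi hZ _ (kernel.ι _) inferInstance
      (Groth.Agent.H10Coh.isQuasicoherent_zero _ hK))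
  exact Groth.Agent.LeadDev.devissage P hP h0 h₁ Set.univ (fun Z i hi hZ _ => h₂ Z i hi hZ)
    (fun _ _ _ _ _ _ _ _ _ _ => Set.subset_univ _) M hM (Set.subset_univ _)

end Groth.Agent.S0027
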