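import Groth.Statements.S1681
import Groth.Agent.H29Blow.MaxPoints

set_option autoImplicit false
universe u
open CategoryTheory CategoryTheory.Limits AlgebraicGeometry TopologicalSpace
open SDiv

namespace Groth.Agent.S1681

/-- Let b : X' ⟶ X be a blowing-up of X along the quasi-coherent ideal sheaf 𝓘. Then b restricts to a
bijection from the maximal points of X' (points with no proper generization) onto the maximal points
of X not lying in the support of 𝓘. -/
theorem result {X X' : Scheme.{u}} (𝓘 : X.IdealSheafData) (b : X' ⟶ X) (hb : BlowUp.IsBlowUp b 𝓘) :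
    Set.BijOn (fun x' => b x') {x' : ↥X' | ∀ y : ↥X', y ⤳ x' → y = x'}
      {x : ↥X | (∀ y : ↥X, y ⤳ x → y = x) ∧ x ∉ 𝓘.support} := by
  exact H29Blow.bijOn_maximalPoints hb

end Groth.Agent.S1681
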