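import Groth.Statements.S2348
import Groth.Agent.S1681
import Groth.Agent.S1682
import Groth.Agent.S8851

set_option autoImplicit false
universe u
open CategoryTheory CategoryTheory.Limits AlgebraicGeometry
open EGA2

namespace Groth.Agent.S2348

/-- For an ideal of O_Y: let Y be an integral scheme, I a nonzero quasi-coherent ideal sheaf and b : X →
Y a blowing up of Y in I (characterised by its universal property). Then X is integral, b sends the
generic point of X to that of Y and induces a bijection on their residue fields (b is birational).
The printed statement also asserts that b is surjective; the proof does not show this and it fails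
when I is not of finite type, so it is left out. -/
theorem result {X Y : Scheme.{u}} [IsIntegral Y] (I : Y.IdealSheafData) (hI : I ≠ ⊥)
    (b : X ⟶ Y) (hb : BlowUp.IsBlowUp b I) :
    ∃ (_ : IsIntegral X), ∃ hgen : b.base (genericPoint X) = genericPoint Y,
      Function.Bijective (b.residueFieldMap (genericPoint X)).hom := by
  haveI : IsReduced X := S8851.result I b hb
  have hηI : genericPoint Y ∉ I.support := by
    intro h
    refine hI (Scheme.IdealSheafData.support_eq_top_iff.1 (eq_top_iff.2 fun y _ => ?_))
    exact ((genericPoint_spec Y).specializes trivial).mem_closed I.support.isClosed h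
  obtain ⟨hmaps, hinj, hsurj⟩ := S1681.result I b hb
  obtain ⟨ξ, hξmax, hξ⟩ := hsurj ⟨fun y hy => (hy.antisymm ((genericPoint_spec Y).specializes trivial)).eq, hηI⟩
  have hmaxY : ∀ y : Y, (∀ z : Y, z ⤳ y → y = z) → y = genericPoint Y := fun y hy =>
    hy _ ((genericPoint_spec Y).specializes trivial)
  have hgen : ∀ x : X, ξ ⤳ x := by
    intro x
    obtain ⟨T, hT, hsub⟩ := exists_mem_irreducibleComponents_subset_of_isIrreducible _
      (isIrreducible_singleton (x := x)).closure
    have hTc := isClosed_of_mem_irreducibleComponents T hT
    have hg := hT.1.isGenericPoint_genericPoint hTc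
    have hzmax : ∀ z : X, z ⤳ hT.1.genericPoint → z = hT.1.genericPoint := by
      intro z hz
      have hTz : T ⊆ closure {z} := by
        rw [← hg.def]
        exact closure_minimal (Set.singleton_subset_iff.2 hz.mem_closure) isClosed_closure
      have hzT : closure {z} ⊆ T := hT.2 (isIrreducible_singleton (x := z)).closure hTz
      exact (hz.antisymm (hg.specializes (hzT (subset_closure rfl)))).eq
    have hb' := (hmaps hzmax).1
    have : b hT.1.genericPoint = genericPoint Y :=
      ((hb' _ ((genericPoint_spec Y).specializes trivial))).symm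
    have e : hT.1.genericPoint = ξ := hinj hzmax hξmax (this.trans hξ.symm)
    exact e ▸ hg.specializes (hsub (subset_closure rfl))
  have huniv : closure ({ξ} : Set X) = Set.univ := Set.eq_univ_of_forall fun x => (hgen x).mem_closure
  haveI : Nonempty X := ⟨ξ⟩
  haveI : PreirreducibleSpace X := ⟨by rw [← huniv]; exact isIrreducible_singleton.closure.isPreirreducible⟩
  haveI : IrreducibleSpace X := ⟨inferInstance⟩
  haveI hX : IsIntegral X := isIntegral_of_irreducibleSpace_of_isReduced X
  have hξη : genericPoint X = ξ := ((genericPoint_spec X).eq huniv)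
  refine ⟨hX, ?_, ?_⟩
  · rw [hξη]; exact hξ
  · rw [hξη]
    let V := I.support.compl
    haveI := S1682.result I b hb
    have hξV : ξ ∈ b ⁻¹ᵁ V := by
      show b ξ ∈ V
      rw [show b ξ = genericPoint Y from hξ]
      exact hηI
    let z : (b ⁻¹ᵁ V).toScheme := ⟨ξ, hξV⟩
    have h1 : IsIso (((b ⁻¹ᵁ V).ι ≫ b).residueFieldMap z) := by
      rw [← morphismRestrict_ι]
      infer_instance
    rw [Scheme.residueFieldMap_comp] at h1
    have hb1 := @ConcreteCategory.bijective_of_isIso _ _ _ _ _ _ _ _ _ h1
    refine ⟨(b.residueFieldMap _).hom.injective, fun t => ?_⟩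
    obtain ⟨a, ha⟩ := hb1.2 (((b ⁻¹ᵁ V).ι.residueFieldMap z) t)
    exact ⟨a, ((b ⁻¹ᵁ V).ι.residueFieldMap z).hom.injective ha⟩

end Groth.Agent.S2348
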