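import Groth.Statements.S15747
import Groth.Agent.H29Blow.IdealMod

set_option autoImplicit false
universe u
open CategoryTheory CategoryTheory.Limits AlgebraicGeometry Opposite
open UnitsSh

namespace Groth.Agent.S15747

open CategoryTheory CategoryTheory.Limits AlgebraicGeometry Opposite TopologicalSpace

theorem shortExact_of_sections {T : TopCat.{u}} (S : ShortComplex (CohTop.Ab T))
    (hinj : ∀ U, Function.Injective (S.f.hom.app (op U)))
    (hker : ∀ U y, S.g.hom.app (op U) y = 0 → ∃ x, S.f.hom.app (op U) x = y)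
    (hloc : TopCat.Presheaf.IsLocallySurjective S.g.hom) : S.ShortExact := by
  have hz : ∀ U x, S.g.hom.app (op U) (S.f.hom.app (op U) x) = 0 := fun U x =>
    congrArg (fun r => r.hom.app (op U) x) S.zero
  haveI : Mono S.f := by
    refine Functor.mono_of_mono_map (sheafToPresheaf _ _) ?_
    refine @NatTrans.mono_of_mono_app _ _ _ _ _ _ S.f.hom (fun U => ?_)
    exact ConcreteCategory.mono_of_injective _ (hinj U.unop)
  haveI : Epi S.g := (TopCat.Sheaf.isLocallySurjective_iff_epi S.g).1 hloc
  refine { exact := ShortComplex.exact_of_f_is_kernel _ ?_ }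
  refine KernelFork.IsLimit.ofι' S.f S.zero fun {A} g hg => ?_
  have hex : ∀ (U : (Opens T)ᵒᵖ) (a : A.obj.obj U), ∃ x, S.f.hom.app U x = g.hom.app U a := fun U a =>
    hker U.unop _ (congrArg (fun r => r.hom.app U a) hg)
  choose c hc using hex
  let app : ∀ U : (Opens T)ᵒᵖ, A.obj.obj U ⟶ S.X₁.obj.obj U := fun U =>
    AddCommGrpCat.ofHom (AddMonoidHom.mk' (c U) fun a b => hinj U.unop (by
      rw [map_add]
      exact (hc U (a + b)).trans ((map_add _ a b).trans (congrArg₂ (· + ·) (hc U a) (hc U b)).symm)))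
  refine ⟨⟨{ app := app, naturality := fun U V i => ?_ }⟩, ?_⟩
  · ext a
    apply hinj V.unop
    show S.f.hom.app V (c V (A.obj.map i a)) = S.f.hom.app V (S.X₁.obj.map i (c U a))
    rw [hc, NatTrans.naturality_apply, NatTrans.naturality_apply, hc]
  · apply Sheaf.hom_ext
    ext U a
    exact hc U a

variable {X : Scheme.{u}} {J : X.IdealSheafData}

/-- The products of two sections of a square-zero ideal vanish. -/
theorem idealSect_mul_eq_zero (hJ : J * J = ⊥) (U : X.Opens) (a b : Γ(ClSub.idealMod J, U)) :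
    OmegaSh.idealSect J U a * OmegaSh.idealSect J U b = 0 := by
  refine TopCat.Sheaf.eq_of_locally_eq' X.sheaf
    (fun V : {V : X.Opens // IsAffineOpen V ∧ V ≤ U} => V.1) U (fun V => homOfLE V.2.2) ?_ _ 0 fun V => ?_
  · intro x hx
    obtain ⟨W, hW, hxW, hle⟩ := exists_isAffineOpen_mem_and_subset (U := U) (x := x) hx
    exact Opens.mem_iSup.2 ⟨⟨W, hW, hle⟩, hxW⟩
  refine Eq.trans ?_ (map_zero _).symm
  show X.presheaf.map (homOfLE V.2.2).op (_ * _) = 0
  rw [map_mul, ← Groth.Agent.H29Blow.idealSect_res, ← Groth.Agent.H29Blow.idealSect_res]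
  refine (Ideal.mem_bot (R := Γ(X, V.1))).1 ?_
  have h : (J * J).ideal ⟨V.1, V.2.1⟩ = ⊥ := by rw [hJ]; rfl
  rw [← h]
  exact Ideal.mul_mem_mul ((Groth.Agent.H29Blow.mem_ideal_iff_exists_idealSect J V.2.1 _).2 ⟨_, rfl⟩)
    ((Groth.Agent.H29Blow.mem_ideal_iff_exists_idealSect J V.2.1 _).2 ⟨_, rfl⟩)

/-- The unit `1 + f`. -/
noncomputable def oneAdd (hJ : J * J = ⊥) (U : X.Opens) (f : Γ(ClSub.idealMod J, U)) : (Γ(X, U))ˣ where
  val := 1 + OmegaSh.idealSect J U f
  inv := 1 - OmegaSh.idealSect J U f
  val_inv := by linear_combination -(idealSect_mul_eq_zero hJ U f f)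
  inv_val := by linear_combination -(idealSect_mul_eq_zero hJ U f f)

noncomputable def expApp (hJ : J * J = ⊥) (U : X.Opens) :
    Γ(ClSub.idealMod J, U) →+ (UnitsSh.unitsAb X).obj.obj (op U) :=
  AddMonoidHom.mk' (fun f => UnitsSh.sectOfUnit (oneAdd hJ U f)) fun a b => by
    show UnitsSh.sectOfUnit _ = UnitsSh.sectOfUnit _
    refine congrArg _ (Units.ext ?_)
    show 1 + OmegaSh.idealSect J U (a + b) =
      (1 + OmegaSh.idealSect J U a) * (1 + OmegaSh.idealSect J U b)
    rw [map_add]
    linear_combination -(idealSect_mul_eq_zero hJ U a b)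

noncomputable def expMap (hJ : J * J = ⊥) : Coh.toAb (ClSub.idealMod J) ⟶ UnitsSh.unitsAb X :=
  ⟨{ app := fun U => AddCommGrpCat.ofHom (expApp hJ U.unop)
     naturality := fun U V i => by
      ext f
      apply Units.ext
      show 1 + OmegaSh.idealSect J V.unop ((ClSub.idealMod J).presheaf.map i f) =
        X.presheaf.map i (1 + OmegaSh.idealSect J U.unop f)
      rw [map_add, map_one]
      exact congrArg (1 + ·) (Groth.Agent.H29Blow.idealSect_res J (leOfHom i.unop) f) }⟩


/-- Let `X` be a scheme, `J` a quasi-coherent ideal of `O_X` with `J² = 0`, `X₀` the closed subscheme it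
cuts out and `i : X₀ ⟶ X` the inclusion. Then there is a morphism of abelian sheaves `J ⟶ O_X^×` on
the underlying space of `X` sending every local section `f` of `J` to the unit `1 + f` (which
determines it), and the sequence `0 ⟶ J ⟶ O_X^× ⟶ i_* O_{X₀}^× ⟶ 0`, whose second map is the units
map of `i`, is a short exact sequence of abelian sheaves. (The published lemma assumes moreover that
`X` is quasi-compact and separated and that the restriction of global functions `O_X(X) →
O_{X₀}(X₀)` is surjective, and concludes about Picard groups; the exactness of this sequence of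
sheaves, proved there stalk by stalk, uses none of these assumptions.) -/
theorem result (X : Scheme.{u}) (J : X.IdealSheafData)
    (hJ : J * J = ⊥) :
    ∃ φ : Coh.toAb (ClSub.idealMod J) ⟶ UnitsSh.unitsAb X,
      (∀ (U : X.Opens) (f : (ClSub.idealMod J).val.obj (op U)),
        (UnitsSh.unitOfSect (φ.hom.app (op U) f)).val =
          1 + (show X.sheaf.obj.obj (op U) from (ClSub.idealModι J).val.app (op U) f)) ∧
      ∃ w : φ ≫ UnitsSh.comap J.subschemeι = 0,
        (ShortComplex.mk φ (UnitsSh.comap J.subschemeι) w).ShortExact := by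
  have hk : ∀ (U : X.Opens) (f : Γ(ClSub.idealMod J, U)),
      J.subschemeι.app U (OmegaSh.idealSect J U f) = 0 := fun U f => by
    show (ClSub.idealModι J ≫ ClSub.toSubscheme J).app U f = 0
    rw [show ClSub.idealModι J ≫ ClSub.toSubscheme J = 0 from kernel.condition _]; rfl
  refine ⟨expMap hJ, fun U f => rfl, ?_, shortExact_of_sections _ ?_ ?_ ?_⟩
  · apply Sheaf.hom_ext
    ext U f
    apply Units.ext
    show J.subschemeι.app U.unop (1 + OmegaSh.idealSect J U.unop f) = 1
    rw [map_add, map_one, hk, add_zero]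
  · intro U a b h
    apply Groth.Agent.H29Blow.idealSect_injective J U
    exact add_left_cancel (congrArg (fun s => (unitOfSect (O := X.presheaf) (U := op U) s).val) h)
  · intro U (y : (unitsAb X).obj.obj (op U)) hy
    obtain ⟨v, rfl⟩ : ∃ v : (Γ(X, U))ˣ, sectOfUnit (O := X.presheaf) (U := op U) v = y := ⟨unitOfSect y, rfl⟩
    have h1 : J.subschemeι.app U v.val = 1 :=
      congrArg (fun s => (unitOfSect (O := J.subscheme.presheaf) (U := op (J.subschemeι ⁻¹ᵁ U)) s).val) hy
    have h2 : J.subschemeι.app U ((v.val : Γ(X, U)) - 1) = 0 := by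
      rw [map_sub, h1, map_one, sub_self]
    obtain ⟨f, hf⟩ := Groth.Agent.H29Blow.exists_kernelι_app_eq (ClSub.toSubscheme J) U
      (show Γ(Coh.structureModule X, U) from ((v.val : Γ(X, U)) - 1 : Γ(X, U))) h2
    refine ⟨f, ?_⟩
    apply Units.ext
    show 1 + OmegaSh.idealSect J U f = v.val
    rw [show OmegaSh.idealSect J U f = (v.val : Γ(X, U)) - 1 from hf]
    ring
  · rw [TopCat.Presheaf.isLocallySurjective_iff]
    intro U t x hx
    obtain ⟨V, hV, hxV, hle⟩ := exists_isAffineOpen_mem_and_subset (U := U) (x := x) hx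
    refine ⟨V, hle, ?_, hxV⟩
    let w : (Γ(J.subscheme, J.subschemeι ⁻¹ᵁ V))ˣ :=
      unitOfSect (O := J.subscheme.presheaf) (U := op (J.subschemeι ⁻¹ᵁ V))
        (((CohTop.push J.subschemeι.base).obj (unitsAb J.subscheme)).obj.map (homOfLE hle).op t)
    obtain ⟨a, ha⟩ := J.subschemeι_app_surjective ⟨V, hV⟩ w.val
    obtain ⟨b, hb⟩ := J.subschemeι_app_surjective ⟨V, hV⟩ w.inv
    have h3 : J.subschemeι.app V ((a * b - 1 : Γ(X, V))) = 0 := by
      erw [map_sub, map_mul, ha, hb, map_one, w.val_inv, sub_self]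
    obtain ⟨c, hc⟩ := Groth.Agent.H29Blow.exists_kernelι_app_eq (ClSub.toSubscheme J) V
      (show Γ(Coh.structureModule X, V) from (a * b - 1 : Γ(X, V))) h3
    have hc' : OmegaSh.idealSect J V c = (a * b - 1 : Γ(X, V)) := hc
    have hu : IsUnit a := IsUnit.of_mul_eq_one (b * (1 - OmegaSh.idealSect J V c)) (by
      have h2 := idealSect_mul_eq_zero hJ V c c
      linear_combination -h2 + (OmegaSh.idealSect J V c - 1) * hc')
    refine ⟨sectOfUnit hu.unit, ?_⟩
    apply Units.ext
    exact ha

end Groth.Agent.S15747
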