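-- statement FlatMor.GrothFrozen.S0405 (Groth/Statements/S0405.lean; the theorem FlatMor.finitePresentation_of_flat_of_finite_over_finiteType_domain);
import Groth.Statements.S0405
import Groth.Agent.H7Flat.FlatSpreadFT
import Groth.Agent.H7Flat.FiniteFlatFP

set_option autoImplicit false
universe u
open FlatMor

namespace Groth.Agent.S0405

/-- Raynaud–Gruson: over a domain R, a finite module over a finite type R-algebra S that is flat over R
is finitely presented as an S-module. -/
theorem result {R S M : Type u} [CommRing R] [IsDomain R] [CommRing S] [Algebra R S] [Algebra.FiniteType R S]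
    [AddCommGroup M] [Module S M] [Module R M] [IsScalarTower R S M] [Module.Finite S M] [Module.Flat R M] :
    Module.FinitePresentation S M := by
  obtain ⟨n, π, hπ⟩ := Algebra.FiniteType.iff_quotient_mvPolynomial''.mp (inferInstance : Algebra.FiniteType R S)
  let : Algebra (MvPolynomial (Fin n) R) S := π.toRingHom.toAlgebra
  let : Module (MvPolynomial (Fin n) R) M := Module.compHom M π.toRingHom
  have : IsScalarTower (MvPolynomial (Fin n) R) S M := IsScalarTower.of_algebraMap_smul fun _ _ => rfl
  have : IsScalarTower R (MvPolynomial (Fin n) R) M := IsScalarTower.of_algebraMap_smul fun r x => by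
    change π (algebraMap R _ r) • x = r • x
    rw [π.commutes, algebraMap_smul]
  have : Module.Finite (MvPolynomial (Fin n) R) S := Module.Finite.of_surjective (Algebra.linearMap _ S) hπ
  have : Module.Finite (MvPolynomial (Fin n) R) M := Module.Finite.trans S M
  have := H7Flat.FlatSpread.fp_of_flat (R := R) (S := MvPolynomial (Fin n) R)
    (H7Flat.FlatSpread.weakAss_finite_of_isDomain R) M
  exact H7Flat.FiniteFlatFP.fp_of_finite (S' := MvPolynomial (Fin n) R)

end Groth.Agent.S0405
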