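import Groth.Statements.S9315
import Groth.Prelude.Def_CAlgX
import Mathlib.RingTheory.LocalRing.ResidueField.Basic
import Mathlib.RingTheory.Ideal.Quotient.Nilpotent

set_option autoImplicit false
universe u
open CAlg

namespace Groth.Agent.S9315

open IsLocalRing in
/-- Let `R → S` be a local homomorphism of local rings (no Noetherian hypothesis). Then `R → S` is
formally smooth for the adic topology of the maximal ideal of `S` if and only if the following
lifting property holds: for every local ring `A` with a local structure map `R → A`, every ideal `J`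
of `A` of square zero such that some power of the maximal ideal of `A` is zero, and every local
`R`-algebra homomorphism `ψ : S → A/J` inducing a bijection on residue fields, there is an
`R`-algebra homomorphism `S → A` lifting `ψ`. -/
theorem result {R S : Type u} [CommRing R] [CommRing S]
    [IsLocalRing R] [IsLocalRing S] [Algebra R S] [IsLocalHom (algebraMap R S)] :
    CAlgX.IsAdicFormallySmooth R S (maximalIdeal S) ↔
      ∀ (A : Type u) [CommRing A] [IsLocalRing A] [Algebra R A] [IsLocalHom (algebraMap R A)]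
        (J : Ideal A), J ^ 2 = ⊥ → (∃ n : ℕ, maximalIdeal A ^ n = ⊥) →
        ∀ [IsLocalRing (A ⧸ J)] (ψ : S →ₐ[R] A ⧸ J) [IsLocalHom ψ.toRingHom],
          Function.Bijective (ResidueField.map ψ.toRingHom) →
          ∃ χ : S →ₐ[R] A, (Ideal.Quotient.mkₐ R J).comp χ = ψ := by
  constructor
  · intro h A _ _ _ _ J hJ ⟨n, hn⟩ _ ψ hψ _
    refine h A J hJ ψ ⟨n, fun x hx => ?_⟩
    have h1 : ∀ y ∈ IsLocalRing.maximalIdeal S, ψ y ∈
        (IsLocalRing.maximalIdeal A).map (Ideal.Quotient.mk J) := by
      intro y hy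
      obtain ⟨a, ha⟩ := Ideal.Quotient.mk_surjective (ψ y)
      rw [← ha]
      refine Ideal.mem_map_of_mem _ ((IsLocalRing.mem_maximalIdeal _).mpr fun hu => ?_)
      exact (IsLocalRing.mem_maximalIdeal _).mp hy
        (isUnit_of_map_unit ψ.toRingHom y (ha ▸ hu.map (Ideal.Quotient.mk J)))
    have h2 : (IsLocalRing.maximalIdeal S ^ n).map ψ.toRingHom ≤ ⊥ := by
      rw [Ideal.map_pow, ← Ideal.map_bot (f := Ideal.Quotient.mk J), ← hn, Ideal.map_pow]
      exact Ideal.pow_right_mono (Ideal.map_le_iff_le_comap.mpr h1) n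
    exact Ideal.mem_bot.mp (h2 (Ideal.mem_map_of_mem _ hx))
  · intro h A _ _ J hJ ψ ⟨k, hk⟩
    by_cases htriv : Subsingleton (A ⧸ J)
    · have hJtop : J = ⊤ := Ideal.Quotient.subsingleton_iff.mp htriv
      haveI : Subsingleton A := by
        rw [subsingleton_iff_zero_eq_one.symm, eq_comm, ← Ideal.mem_bot, ← hJ, hJtop, pow_two,
          Ideal.mul_top]
        trivial
      exact ⟨⟨⟨⟨⟨fun _ => 0, Subsingleton.elim _ _⟩, fun _ _ => Subsingleton.elim _ _⟩,
        Subsingleton.elim _ _, fun _ _ => Subsingleton.elim _ _⟩, fun _ => Subsingleton.elim _ _⟩,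
        AlgHom.ext fun _ => Subsingleton.elim _ _⟩
    rw [not_subsingleton_iff_nontrivial] at htriv
    let A' : Subalgebra R A := ψ.range.comap (Ideal.Quotient.mkₐ R J)
    let f : A' →ₐ[R] ψ.range :=
      ((Ideal.Quotient.mkₐ R J).comp A'.val).codRestrict ψ.range fun a => a.2
    have hf : Function.Surjective f := by
      rintro ⟨z, hz⟩
      obtain ⟨a, rfl⟩ := Ideal.Quotient.mk_surjective z
      exact ⟨⟨a, hz⟩, rfl⟩
    let J' : Ideal A' := RingHom.ker f
    have hJ'mem : ∀ a : A', a ∈ J' ↔ (a : A) ∈ J := fun a => by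
      rw [RingHom.mem_ker, Subtype.ext_iff]
      exact Ideal.Quotient.eq_zero_iff_mem
    have hJ' : J' ^ 2 = ⊥ := by
      rw [pow_two, eq_bot_iff, Ideal.mul_le]
      intro x hx y hy
      rw [Ideal.mem_bot]
      refine Subtype.ext (Ideal.mem_bot.mp ?_)
      rw [← hJ, pow_two]
      exact Ideal.mul_mem_mul ((hJ'mem x).mp hx) ((hJ'mem y).mp hy)
    let e : (A' ⧸ J') ≃ₐ[R] ψ.range := Ideal.quotientKerAlgEquivOfSurjective hf
    let ψ' : S →ₐ[R] A' ⧸ J' := e.symm.toAlgHom.comp ψ.rangeRestrict
    have hψ' : Function.Surjective ψ' := e.symm.surjective.comp ψ.rangeRestrict_surjective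
    haveI : Nontrivial (A' ⧸ J') := e.toEquiv.nontrivial
    haveI hloc' : IsLocalRing (A' ⧸ J') := IsLocalRing.of_surjective' ψ'.toRingHom hψ'
    haveI : Nontrivial A' := (Ideal.Quotient.mk J').domain_nontrivial
    haveI hloc : IsLocalRing A' := by
      refine IsLocalRing.of_isUnit_or_isUnit_one_sub_self fun a => ?_
      have hnil : IsNilpotent J' := ⟨2, hJ'⟩
      rw [← IsNilpotent.isUnit_quotient_mk_iff hnil (x := a),
        ← IsNilpotent.isUnit_quotient_mk_iff hnil (x := 1 - a), map_sub, map_one]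
      exact IsLocalRing.isUnit_or_isUnit_one_sub_self _
    haveI hψloc : IsLocalHom ψ'.toRingHom := IsLocalHom.of_surjective ψ'.toRingHom hψ'
    haveI : IsLocalHom (algebraMap R A') := by
      refine ⟨fun r hr => ?_⟩
      have h1 : IsUnit (ψ'.toRingHom (algebraMap R S r)) := by
        rw [AlgHom.toRingHom_eq_coe, RingHom.coe_coe, AlgHom.commutes]
        exact hr.map (Ideal.Quotient.mk J')
      exact isUnit_of_map_unit (algebraMap R S) r (isUnit_of_map_unit ψ'.toRingHom _ h1)
    have hnilp : ∃ n, IsLocalRing.maximalIdeal A' ^ n = ⊥ := by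
      refine ⟨k + k, ?_⟩
      have h1 : IsLocalRing.maximalIdeal A' ^ k ≤ J' := by
        rw [← Ideal.mk_ker (I := J'), ← Ideal.map_eq_bot_iff_le_ker, Ideal.map_pow, eq_bot_iff]
        have h2 : (IsLocalRing.maximalIdeal A').map (Ideal.Quotient.mk J') ≤
            (IsLocalRing.maximalIdeal S).map ψ'.toRingHom := by
          rw [Ideal.map_le_iff_le_comap]
          intro a ha
          obtain ⟨s, hs⟩ := hψ' (Ideal.Quotient.mk J' a)
          rw [Ideal.mem_comap, ← hs]
          refine Ideal.mem_map_of_mem _ ((IsLocalRing.mem_maximalIdeal _).mpr fun hu => ?_)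
          refine (IsLocalRing.mem_maximalIdeal _).mp ha ?_
          rw [← IsNilpotent.isUnit_quotient_mk_iff ⟨2, hJ'⟩, ← hs]
          exact hu.map ψ'
        refine (Ideal.pow_right_mono h2 k).trans ?_
        rw [← Ideal.map_pow, Ideal.map_le_iff_le_comap]
        intro x hx
        have h0 : ψ.rangeRestrict x = 0 := Subtype.ext (hk x hx)
        simp [ψ', h0]
      rw [eq_bot_iff, pow_add, ← hJ', pow_two]
      exact Ideal.mul_mono h1 h1
    have hbij : Function.Bijective (IsLocalRing.ResidueField.map ψ'.toRingHom) := by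
      refine ⟨RingHom.injective _, fun z => ?_⟩
      obtain ⟨a, rfl⟩ := IsLocalRing.residue_surjective z
      obtain ⟨s, rfl⟩ := hψ' a
      exact ⟨IsLocalRing.residue S s, IsLocalRing.ResidueField.map_residue _ s⟩
    obtain ⟨χ, hχ⟩ := h A' J' hJ' hnilp ψ' hbij
    refine ⟨A'.val.comp χ, AlgHom.ext fun s => ?_⟩
    have h3 := congrArg e (AlgHom.congr_fun hχ s)
    have h4 : f (χ s) = ψ.rangeRestrict s := by
      simp [ψ', e] at h3
      exact h3
    exact congrArg Subtype.val h4

end Groth.Agent.S9315
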