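import Groth.Statements.S9443
import Groth.Agent.S11741
import Mathlib.LinearAlgebra.Dimension.Finite

set_option autoImplicit false
universe u
open CAlg

namespace Groth.Agent.S9443

/-- A complete regular local ring R with a coefficient field k (a subfield mapping isomorphically onto
the residue field) is k-isomorphic to a power series ring over k in finitely many variables
(existence of an isomorphism only; the number of variables is then the dimension of R). -/
theorem result (R : Type u)
    [CommRing R] [IsRegularLocalRing R] [IsAdicComplete (IsLocalRing.maximalIdeal R) R]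
    (k : Type u) [Field k] [Algebra k R]
    (hk : Function.Bijective (algebraMap k (IsLocalRing.ResidueField R))) :
    ∃ d : ℕ, Nonempty (R ≃ₐ[k] MvPowerSeries (Fin d) k) := by
  classical
  let b := Module.finBasis (IsLocalRing.ResidueField R) (IsLocalRing.CotangentSpace R)
  choose y hy using fun i => Ideal.toCotangent_surjective (IsLocalRing.maximalIdeal R) (b i)
  obtain ⟨ψ, hψ⟩ := H02CA.PS.exists_algHom (R := k) (IsLocalRing.maximalIdeal R) (fun i => (y i : R)) fun i => (y i).2
  have hψm : ∀ i, ψ (MvPowerSeries.X i) ∈ IsLocalRing.maximalIdeal R := fun i => hψ i ▸ (y i).2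
  have hfun : (fun i => (IsLocalRing.maximalIdeal R).toCotangent ⟨ψ (MvPowerSeries.X i), hψm i⟩) = b := by
    funext i
    rw [← hy i]
    exact congr_arg _ (Subtype.ext (hψ i))
  have hR : Function.Surjective ((IsLocalRing.residue R).comp (algebraMap k R)) := fun z => by
    obtain ⟨c, hc⟩ := hk.2 z
    exact ⟨c, by rw [← hc, IsScalarTower.algebraMap_apply k R (IsLocalRing.ResidueField R)]; rfl⟩
  have hbij : Function.Bijective ψ := (S11741.result k R hR _ ψ hψm (by rw [hfun]; exact b.linearIndependent)
    (by rw [hfun]; exact b.span_eq)).mp inferInstance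
  exact ⟨_, ⟨(AlgEquiv.ofBijective ψ hbij).symm⟩⟩

end Groth.Agent.S9443
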