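import Groth.Statements.S0605
import Groth.Agent.H02CA.AuslanderBuchsbaum
import Groth.Agent.H05EGA4.Regular
import Groth.Agent.H4Depth.Regular
-- import your own Groth.Agent.* helpers here

set_option autoImplicit false
universe u
open CAlg

namespace Groth.Agent.S0605

/-- Over a regular local ring, a finitely generated module whose depth equals the dimension of the ring
(a maximal Cohen–Macaulay module) is free. -/
theorem result (R : Type u) [CommRing R]
    [IsRegularLocalRing R] (M : Type u) [AddCommGroup M] [Module R M] [Module.Finite R M]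
    (h : ((LocCoh.depth R M : ℕ∞) : WithBot ℕ∞) = ringKrullDim R) : Module.Free R M := by
  rcases subsingleton_or_nontrivial M with hM | hM
  · exact Module.Free.of_subsingleton R M
  obtain ⟨d, hd, hk⟩ := Groth.Agent.H05EGA4.exists_pd_residueField R
  have hpd : CategoryTheory.HasProjectiveDimensionLT (ModuleCat.of R M) (d + 1) :=
    Groth.Agent.H05EGA4.hasProjectiveDimensionLT_of_residueField d hk _
  obtain ⟨e, he⟩ := Groth.Agent.H02CA.AuslanderBuchsbaum.exists_pd_eq M fun htop => by
    have := (CategoryTheory.projectiveDimension_le_iff (ModuleCat.of R M) d).mpr hpd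
    rw [htop, top_le_iff] at this
    exact ENat.coe_ne_top d (WithBot.coe_injective this)
  obtain ⟨h1, h2⟩ := Groth.Agent.H02CA.AuslanderBuchsbaum.pd_bounds_of_eq he
  have hab := Groth.Agent.H02CA.AuslanderBuchsbaum.depth_eq_add e M h1 h2
  have hR := Groth.Agent.H4Depth.depth_self_eq_ringKrullDim_of_regular R
  rw [← h] at hR
  have hRM : LocCoh.depth R R = LocCoh.depth R M := by exact_mod_cast hR
  have hne : LocCoh.depth R M ≠ ⊤ := by
    intro htop
    rw [htop] at h
    rw [hd] at h
    exact ENat.coe_ne_top d (WithBot.coe_injective h).symm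
  obtain ⟨m, hm⟩ := ENat.ne_top_iff_exists.mp hne
  rw [hRM, ← hm] at hab
  have he0 : e = 0 := by
    have : m = e + m := by exact_mod_cast hab
    omega
  subst he0
  have : CategoryTheory.Projective (ModuleCat.of R M) :=
    CategoryTheory.projective_iff_hasProjectiveDimensionLT_one.mpr h1
  haveI : Module.Projective R M := (IsProjective.iff_projective (R := R) M).mpr this
  exact Module.free_of_flat_of_isLocalRing

end Groth.Agent.S0605
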