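import Groth.Statements.S9829
import Groth.Agent.H05EGA4.Regular
import Mathlib.RingTheory.LocalProperties.IntegrallyClosed
import Mathlib.RingTheory.Polynomial.ScaleRoots
import Mathlib.RingTheory.Ideal.Height
import Mathlib.RingTheory.Localization.Away.Basic
import Mathlib.RingTheory.Localization.LocalizationLocalization

set_option autoImplicit false
universe u
open CAlg

namespace Groth.Agent.S9829

open Polynomial IsLocalRing in
/-- An integrally closed localization away from a prime element. -/
theorem isIntegrallyClosed_of_away {R : Type*} [CommRing R] [IsDomain R] {x : R} (hx : Prime x)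
    (h : IsIntegrallyClosed (Localization.Away x)) : IsIntegrallyClosed R := by
  rw [isIntegrallyClosed_iff (FractionRing R)]
  have hunit : ∀ s : Submonoid.powers x, IsUnit (algebraMap R (FractionRing R) s) := by
    rintro ⟨_, n, rfl⟩
    exact (map_ne_zero_iff _ (IsFractionRing.injective R _)).mpr (pow_ne_zero n hx.ne_zero) |>.isUnit
  let φ : Localization.Away x →+* FractionRing R := IsLocalization.lift hunit
  letI : Algebra (Localization.Away x) (FractionRing R) := φ.toAlgebra
  haveI : IsScalarTower R (Localization.Away x) (FractionRing R) :=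
    IsScalarTower.of_algebraMap_eq fun r => (IsLocalization.lift_eq hunit r).symm
  haveI : IsFractionRing (Localization.Away x) (FractionRing R) :=
    IsFractionRing.isFractionRing_of_isDomain_of_isLocalization (Submonoid.powers x) _ _
  intro z hz
  obtain ⟨w, hw⟩ := (isIntegrallyClosed_iff (FractionRing R)).mp h hz.tower_top
  obtain ⟨⟨a, ⟨_, n, rfl⟩⟩, hs⟩ := IsLocalization.surj (Submonoid.powers x) w
  have hs' : z * algebraMap R (FractionRing R) x ^ n = algebraMap R (FractionRing R) a := by
    simpa [hw, ← IsScalarTower.algebraMap_apply] using congr_arg (algebraMap (Localization.Away x) (FractionRing R)) hs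
  clear hw hs
  induction n generalizing a with
  | zero => exact ⟨a, by simpa using hs'.symm⟩
  | succ n ih =>
    have hy : IsIntegral R (z * algebraMap R (FractionRing R) x ^ n) := hz.mul (isIntegral_algebraMap.pow n)
    obtain ⟨p, hp, hp0⟩ := hy
    have hq := scaleRoots_aeval_eq_zero (r := x) (p := p) (a := z * algebraMap R (FractionRing R) x ^ n) hp0
    rw [show algebraMap R (FractionRing R) x * (z * algebraMap R (FractionRing R) x ^ n) = algebraMap R (FractionRing R) a by
      rw [← hs', pow_succ]; ring, aeval_algebraMap_eq_zero_iff_of_injective (IsFractionRing.injective R _)] at hq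
    haveI : (Ideal.span {x}).IsPrime := (Ideal.span_singleton_prime hx.ne_zero).mpr hx
    have h2 : (Ideal.Quotient.mk (Ideal.span {x}) a) ^ p.natDegree = 0 := by
      have := congr_arg (Ideal.Quotient.mk (Ideal.span {x})) hq
      rwa [map_zero, aeval_def, Algebra.algebraMap_self, eval₂_id, ← eval₂_at_apply, ← eval_map,
        map_scaleRoots _ _ _ (by rw [hp.leadingCoeff, map_one]; exact one_ne_zero),
        Ideal.Quotient.eq_zero_iff_mem.mpr (Ideal.mem_span_singleton_self x), scaleRoots_zero,
        Monic.leadingCoeff (hp.map _), one_smul, hp.natDegree_map, eval_pow, eval_X] at this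
    obtain ⟨b, rfl⟩ := Ideal.mem_span_singleton.mp (Ideal.Quotient.eq_zero_iff_mem.mp ((pow_eq_zero_iff'.mp h2).1))
    refine ih b ?_
    have hx0 : algebraMap R (FractionRing R) x ≠ 0 := (map_ne_zero_iff _ (IsFractionRing.injective R _)).mpr hx.ne_zero
    apply mul_left_cancel₀ hx0
    rw [← map_mul, ← hs', pow_succ]; ring

open IsLocalRing in
theorem normal_aux : ∀ (d : ℕ) (R : Type u) [CommRing R] [IsRegularLocalRing R],
    ringKrullDim R = d → IsIntegrallyClosed R := by
  intro d
  induction d using Nat.strong_induction_on with
  | _ d ih =>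
  intro R _ _ hd
  haveI := Groth.Agent.H4Depth.isDomain_of_regular d R hd
  obtain ⟨d', x, hd', hx⟩ := Groth.Agent.H4Depth.exists_regular_system_of_parameters R
  obtain rfl : d = d' := by exact_mod_cast hd.symm.trans hd'
  rcases Nat.eq_zero_or_pos d with rfl | hpos
  · have hf : IsField R := (isField_iff_maximalIdeal_eq).mpr (by rw [← hx]; simp)
    exact hf.toField.instIsIntegrallyClosed
  obtain ⟨hreg, hdim⟩ := Groth.Agent.H4Depth.exists_regular_quotient_of_subset d hd x hx {⟨0, hpos⟩}
  haveI := Groth.Agent.H4Depth.isDomain_of_regular _ _ hdim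
  have hP : (Ideal.span (x '' (({⟨0, hpos⟩} : Finset (Fin d)) : Set (Fin d)))).IsPrime := (Ideal.Quotient.isDomain_iff_prime _).mp inferInstance
  set t := x ⟨0, hpos⟩
  rw [Finset.coe_singleton, Set.image_singleton] at hP hdim
  have ht0 : t ≠ 0 := by
    intro h0
    have e : (R ⧸ Ideal.span {t}) ≃+* R := (Ideal.quotEquivOfEq (by rw [h0]; simp)).trans (RingEquiv.quotientBot R)
    have := hd.symm.trans ((ringKrullDim_eq_of_ringEquiv e).symm.trans hdim)
    have : d = d - 1 := by exact_mod_cast (by simpa using this)
    omega
  have hprime : Prime t := (Ideal.span_singleton_prime ht0).mp hP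
  apply isIntegrallyClosed_of_away hprime
  haveI : IsDomain (Localization.Away t) := IsLocalization.isDomain_localization (powers_le_nonZeroDivisors_of_noZeroDivisors ht0)
  apply IsIntegrallyClosed.of_localization_maximal
  intro P _ _
  set p := P.under R with hpdef
  haveI : IsRegularLocalRing (Localization.AtPrime p) := Groth.Agent.H05EGA4.isRegularLocalRing_localization R p
  have htp : t ∉ p := fun hmem => ‹P.IsMaximal›.ne_top (P.eq_top_of_isUnit_mem hmem (IsLocalization.Away.algebraMap_isUnit t))
  have hlt : p.height < (maximalIdeal R).height := by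
    refine Ideal.height_strict_mono_of_isPrime (lt_of_le_of_ne (le_maximalIdeal (Ideal.IsPrime.ne_top inferInstance)) fun e => htp (e ▸ hx ▸ Ideal.subset_span ⟨_, rfl⟩))
  have hm : ((maximalIdeal R).height : WithBot ℕ∞) = d := (maximalIdeal_height_eq_ringKrullDim).trans hd
  have hm' : (maximalIdeal R).height = d := WithBot.coe_injective hm
  rw [hm'] at hlt
  obtain ⟨e, he⟩ := ENat.ne_top_iff_exists.mp (ne_top_of_lt hlt)
  haveI := ih e (by rw [← he] at hlt; exact_mod_cast hlt) (Localization.AtPrime p)
    ((IsLocalization.AtPrime.ringKrullDim_eq_height p _).trans (by rw [← he]; rfl))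
  exact IsIntegrallyClosed.of_equiv
    (IsLocalization.localizationLocalizationAtPrimeIsoLocalization (Submonoid.powers t) P).toRingEquiv

/-- A regular local ring is an integrally closed domain. Hence a scheme all of whose local rings are
regular is normal. -/
theorem result (A : Type u) [CommRing A] [IsRegularLocalRing A] :
    IsIntegrallyClosed A := by
  obtain ⟨d, hd⟩ := Groth.Agent.H4Depth.exists_nat_ringKrullDim_eq (R := A)
  exact normal_aux d A hd

end Groth.Agent.S9829
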