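import Groth.Statements.S10962
import Groth.Agent.H10Coh.Stab.TwistInt
import Groth.Agent.H10Coh.Pn.Results
import Groth.Agent.H11Ample.Converse
import Groth.Agent.H11Ample.QuasiAffine
import Groth.Agent.H19Grp.ProjPoint

set_option autoImplicit false
universe u
open CategoryTheory CategoryTheory.Limits AlgebraicGeometry TopologicalSpace
open SDiv

namespace Groth.Agent.S10962

/-- Let R be a nonzero ring and n ≥ 1, and let X be projective n-space over R. For an integer d, the
Serre twist O_X(d) is ample if and only if d > 0. (Ample is taken in the sense that X is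
quasi-compact and covered by the affine open non-vanishing loci X_s of global sections s of positive
tensor powers; for the quasi-compact separated scheme X this agrees with the definition through
finitely many generating sections with quasi-affine non-vanishing loci. The published remark also
asserts that O_X(d) is very ample relative to R for d > 0; that clause is not part of this row.) -/
theorem result (R : Type u) [CommRing R] [Nontrivial R] (n : ℕ) (hn : 1 ≤ n) (d : ℤ) :
    CohB1.IsAmple (Twist.twistProjSpace n R d) ↔ 0 < d := by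
  have hT := H10Coh.Stab.isTwistFamily_projSpace n R
  have h1 := H11Ample.isAmple_twistProjSpace n R
  have hpos : ∀ m : ℕ, 0 < m → CohB1.IsAmple (Twist.twistProjSpace n R (m : ℤ)) := fun m hm => by
    obtain ⟨e⟩ := hT.nonempty_tensorPow m
    exact H11Ample.isAmple_of_iso e ((H11Ample.isAmple_tensorPow_iff (hT.inv 1) m hm).1 h1)
  refine ⟨fun h => ?_, fun hd => ?_⟩
  · by_contra hd
    haveI := H11Ample.compactSpace_projSpace n R
    obtain ⟨e₀⟩ := hT.zero
    obtain ⟨e⟩ := hT.add d (-d)
    have h' : CohB1.IsAmple (Twist.twistProjSpace n R (-d)) := by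
      rcases eq_or_lt_of_le (not_lt.1 hd) with h0 | h0
      · subst h0; simpa using h
      · obtain ⟨m, hm⟩ := Int.eq_ofNat_of_zero_le (show 0 ≤ -d by omega)
        rw [hm]; exact hpos m (by omega)
    haveI : (CohB1.ProjSpace n R).IsQuasiAffine := H11Ample.isQuasiAffine_of_isAmple_inverse
      ⟨e ≪≫ eqToIso (congrArg _ (add_neg_cancel d)) ≪≫ e₀⟩ h h'
    haveI : IsIso (CohB1.ProjSpace.toSpec n R).appTop := H10Coh.Pn.isIso_toS_appTop n R
    haveI : Mono (CohB1.ProjSpace.toSpec n R) := by
      have : CohB1.ProjSpace.toSpec n R = (CohB1.ProjSpace n R).toSpecΓ ≫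
          (Spec.map (CohB1.ProjSpace.toSpec n R).appTop ≫ Spec.map (Scheme.ΓSpecIso (CommRingCat.of R)).inv) := by
        rw [← Scheme.toSpecΓ_naturality_assoc, toSpecΓ_SpecMap_ΓSpecIso_inv, Category.comp_id]
      rw [this]
      infer_instance
    have hu : ∀ i : Fin (n + 1), H19Grp.ProjPoint.IsUnimod (fun j => if j = i then (1 : R) else 0) := fun i =>
      (Ideal.eq_top_iff_one _).2 (Ideal.subset_span ⟨i, if_pos rfl⟩)
    let a : Fin (n + 1) := ⟨0, by omega⟩
    let b : Fin (n + 1) := ⟨1, by omega⟩
    have he : H19Grp.ProjPoint.pt R _ (hu a) = H19Grp.ProjPoint.pt R _ (hu b) := by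
      rw [← cancel_mono (CohB1.ProjSpace.toSpec n R), H19Grp.ProjPoint.pt_toSpec, H19Grp.ProjPoint.pt_toSpec]
    obtain ⟨c, -, hc⟩ := H19Grp.ProjPoint.exists_smul_of_pt_eq _ _ (hu a) (hu b) he
    have := hc b
    simp [a, b] at this
  · obtain ⟨m, rfl⟩ := Int.eq_ofNat_of_zero_le hd.le
    exact hpos m (by omega)

end Groth.Agent.S10962
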