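import Groth.Statements.S3815
import Groth.Agent.H06PP.Basic
import Groth.Agent.H06DiffOp.Basic

set_option autoImplicit false
universe u
open scoped TensorProduct
open scoped BigOperators
open PP16

namespace Groth.Agent.S3815

section
variable {n : ℕ} {A B : Type u} [CommRing A] [CommRing B] [Algebra A B]
  {M N : Type u} [AddCommGroup M] [Module A M] [Module B M] [IsScalarTower A B M]
  [AddCommGroup N] [Module A N] [Module B N] [IsScalarTower A B N]

theorem smul_dM (b : B) (m : M) :
    PP16.dM n A B M (b • m) = PP16.dn n A B b • PP16.dM n A B M m := by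
  show (1 : PP16.Pr n A B) ⊗ₜ[B] (b • m) = PP16.dn n A B b • ((1 : PP16.Pr n A B) ⊗ₜ[B] m)
  rw [← TensorProduct.smul_tmul, TensorProduct.smul_tmul']
  refine congrArg (· ⊗ₜ[B] m) ?_
  show (PP16.dn n A B b) * (1 : PP16.P n A B) = PP16.dn n A B b * (1 : PP16.P n A B)
  rfl

theorem tmul_eq_smul (x : PP16.P n A B) (m : M) :
    ((show PP16.Pr n A B from x) ⊗ₜ[B] m : PP16.PM n A B M) = x • PP16.dM n A B M m := by
  show _ = x • ((1 : PP16.Pr n A B) ⊗ₜ[B] m)
  rw [TensorProduct.smul_tmul']
  exact congrArg (· ⊗ₜ[B] m) (mul_one x).symm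

theorem hom_ext {u v : PP16.PM n A B M →+ N}
    (hu : ∀ (b : B) (t : PP16.PM n A B M), u (algebraMap B (PP16.P n A B) b • t) = b • u t)
    (hv : ∀ (b : B) (t : PP16.PM n A B M), v (algebraMap B (PP16.P n A B) b • t) = b • v t)
    (h : ∀ m, u (PP16.dM n A B M m) = v (PP16.dM n A B M m)) : u = v := by
  refine AddMonoidHom.ext fun t => ?_
  induction t using TensorProduct.induction_on with
  | zero => rw [map_zero, map_zero]
  | add a b ha hb => rw [map_add, map_add, ha, hb]
  | tmul x m =>
    change PP16.P n A B at x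
    refine (congrArg u (tmul_eq_smul x m)).trans (Eq.trans ?_ (congrArg v (tmul_eq_smul x m)).symm)
    obtain ⟨x, rfl⟩ := Ideal.Quotient.mk_surjective x
    induction x using TensorProduct.induction_on with
    | zero => rw [map_zero, zero_smul, map_zero, map_zero]
    | add a b ha hb => rw [map_add, add_smul, map_add, map_add, ha, hb]
    | tmul a b => rw [H06PP.mk_tmul, mul_smul, hu, hv, ← smul_dM, h]

theorem diffOp_of_hom (D : M →ₗ[A] N) (u : PP16.PM n A B M →+ N)
    (hu : ∀ (b : B) (t : PP16.PM n A B M), u (algebraMap B (PP16.P n A B) b • t) = b • u t)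
    (h : ∀ m, u (PP16.dM n A B M m) = D m) : Diff16.IsDiffOpLE A B M N n D := by
  suffices ∀ (j : ℕ) (y : PP16.P n A B), y ∈ PP16.augIdeal n A B ^ (n - j) → j ≤ n →
      ∀ E : M →ₗ[A] N, (∀ m, E m = u (y • PP16.dM n A B M m)) → Diff16.IsDiffOpLE A B M N j E from
    this n 1 (by rw [Nat.sub_self]; exact ((Submodule.pow_zero (M := PP16.augIdeal n A B)).trans Ideal.one_eq_top).ge trivial) le_rfl D fun m => by rw [one_smul, h]
  intro j
  induction j with
  | zero =>
    intro y hy _ E hE b m
    rw [hE, hE, ← hu, smul_dM, ← mul_smul, ← mul_smul]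
    refine congrArg (fun w => u (w • PP16.dM n A B M m)) (sub_eq_zero.mp ?_)
    rw [mul_comm _ y, ← mul_sub]
    refine Ideal.mem_bot.mp ((H06PP.augIdeal_pow n A B).le ?_)
    refine (pow_succ (PP16.augIdeal n A B) n).ge ?_
    exact Ideal.mul_mem_mul (by simpa using hy) (H06PP.dn_sub_mem n A B b)
  | succ j ih =>
    intro y hy hj E hE b
    refine ih (y * (PP16.dn n A B b - algebraMap B (PP16.P n A B) b)) ?_ (by omega) _ fun m => ?_
    · rw [show n - j = n - (j + 1) + 1 by omega]
      refine (pow_succ (PP16.augIdeal n A B) _).ge ?_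
      exact Ideal.mul_mem_mul hy (H06PP.dn_sub_mem n A B b)
    · rw [H06DiffOp.comm_apply, hE, hE, ← hu, smul_dM, ← mul_smul, ← mul_smul, mul_sub,
        mul_comm (algebraMap B _ b), ← map_sub]
      exact congrArg u (sub_smul _ _ _).symm

theorem exists_hom (D : M →ₗ[A] N) (hD : Diff16.IsDiffOpLE A B M N n D) :
    ∃ u : PP16.PM n A B M →+ N,
      (∀ (b : B) (t : PP16.PM n A B M), u (algebraMap B (PP16.P n A B) b • t) = b • u t) ∧
        ∀ m : M, u (PP16.dM n A B M m) = D m := by
  let Dm : M → (B →ₗ[A] N) := fun m => D ∘ₗ (LinearMap.toSpanSingleton B M m).restrictScalars A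
  have hL : ∀ m, ∀ x ∈ (KaehlerDifferential.ideal A B) ^ (n + 1),
      Diff16.linearize A B B N (Dm m) x = 0 := fun m =>
    (H06DiffOp.diffOp_iff_linearize_vanish n _).mp (H06DiffOp.diffOp_comp_linear hD _)
  let φ : M → PP16.P n A B →+ N := fun m =>
    (QuotientAddGroup.lift _ (Diff16.linearize A B B N (Dm m)).toAddMonoidHom (fun x hx => hL m x hx) :
      (B ⊗[A] B) ⧸ ((KaehlerDifferential.ideal A B) ^ (n + 1)).toAddSubgroup →+ N)
  have hφ : ∀ m (a b : B), φ m (Ideal.Quotient.mk _ (a ⊗ₜ b)) = a • D (b • m) := fun m a b => rfl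
  have hext : ∀ {f g : PP16.P n A B →+ N},
      (∀ a b : B, f (Ideal.Quotient.mk _ (a ⊗ₜ b)) = g (Ideal.Quotient.mk _ (a ⊗ₜ b))) → f = g := by
    intro f g hfg
    refine AddMonoidHom.ext fun x => ?_
    obtain ⟨x, rfl⟩ := Ideal.Quotient.mk_surjective x
    induction x using TensorProduct.induction_on with
    | zero => rw [map_zero, map_zero, map_zero]
    | add a b ha hb => rw [map_add, map_add, map_add, ha, hb]
    | tmul a b => exact hfg a b
  have hadd : ∀ m m', φ (m + m') = φ m + φ m' := fun m m' => hext fun a b => by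
    rw [AddMonoidHom.add_apply, hφ, hφ, hφ, smul_add, map_add, smul_add]
  have hbal : ∀ (c : B) (m : M), φ (c • m) = (φ m).comp (AddMonoidHom.mulLeft (PP16.dn n A B c)) :=
    fun c m => hext fun a b => by
      rw [AddMonoidHom.comp_apply, AddMonoidHom.coe_mulLeft,
        show PP16.dn n A B c * Ideal.Quotient.mk _ (a ⊗ₜ b) =
          Ideal.Quotient.mk _ (((1 : B) ⊗ₜ[A] c) * (a ⊗ₜ b)) from
            ((Ideal.Quotient.mk ((KaehlerDifferential.ideal A B) ^ (n + 1))).map_mul _ _).symm,
        Algebra.TensorProduct.tmul_mul_tmul, one_mul, hφ, hφ, ← mul_smul b c m, mul_comm c b]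
  let Φ : PP16.Pr n A B →+ M →+ N :=
    AddMonoidHom.mk' (fun x => AddMonoidHom.mk' (fun m => φ m (show PP16.P n A B from x))
      fun m m' => by rw [hadd]; rfl) fun x y => AddMonoidHom.ext fun m => map_add (φ m) _ _
  refine ⟨TensorProduct.liftAddHom Φ fun c x m => ?_, fun b t => ?_, fun m => ?_⟩
  · show φ m (PP16.dn n A B c * (show PP16.P n A B from x)) = φ (c • m) (show PP16.P n A B from x)
    rw [hbal]
    rfl
  · induction t using TensorProduct.induction_on with
    | zero => rw [smul_zero, map_zero, smul_zero]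
    | add s t hs ht => rw [smul_add, map_add, map_add, hs, ht, smul_add]
    | tmul x m =>
      change PP16.P n A B at x
      show φ m (algebraMap B (PP16.P n A B) b * x) = b • φ m x
      refine DFunLike.congr_fun (f := (φ m).comp (AddMonoidHom.mulLeft (algebraMap B (PP16.P n A B) b)))
        (g := (DistribSMul.toAddMonoidHom N b).comp (φ m)) (hext fun a c => ?_) x
      show φ m (algebraMap B (PP16.P n A B) b * Ideal.Quotient.mk _ (a ⊗ₜ c)) = b • φ m _
      rw [show algebraMap B (PP16.P n A B) b * Ideal.Quotient.mk _ (a ⊗ₜ c) =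
        Ideal.Quotient.mk _ ((b ⊗ₜ[A] (1 : B)) * (a ⊗ₜ c)) from
            ((Ideal.Quotient.mk ((KaehlerDifferential.ideal A B) ^ (n + 1))).map_mul _ _).symm,
        Algebra.TensorProduct.tmul_mul_tmul, one_mul, hφ, hφ, mul_smul]
  · show φ m (Ideal.Quotient.mk _ ((1 : B) ⊗ₜ (1 : B))) = D m
    rw [hφ, one_smul, one_smul]

end


/-- Let B be an A-algebra, M and N two B-modules and D : M → N an A-linear map. Let P^n(M) = P^n_{B/A}
⊗_B M, the tensor product formed with the B-module structure of P^n_{B/A} through d^n, regarded as a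
B-module through the first factor of P^n_{B/A}, with d^n_M : M → P^n(M), m ↦ 1 ⊗ m. Then D is a
differential operator of order at most n relative to A (order defined through iterated commutators
with multiplication by elements of B) if and only if there is exactly one additive map u : P^n(M) →
N which is B-linear for the first-factor structure and satisfies u(1 ⊗ m) = D(m) for all m ∈ M. -/
theorem result (n : ℕ) (A B : Type u) [CommRing A] [CommRing B] [Algebra A B]
    (M N : Type u) [AddCommGroup M] [Module A M] [Module B M] [IsScalarTower A B M]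
    [AddCommGroup N] [Module A N] [Module B N] [IsScalarTower A B N] (D : M →ₗ[A] N) :
    Diff16.IsDiffOpLE A B M N n D ↔
      ∃! u : PP16.PM n A B M →+ N,
        (∀ (b : B) (t : PP16.PM n A B M), u (algebraMap B (PP16.P n A B) b • t) = b • u t) ∧
          ∀ m : M, u (PP16.dM n A B M m) = D m := by
  refine ⟨fun h => ?_, fun ⟨w, ⟨hw, hw'⟩, _⟩ => diffOp_of_hom D w hw hw'⟩
  obtain ⟨w, hw, hw'⟩ := exists_hom D h
  exact ⟨w, ⟨hw, hw'⟩, fun v hv => hom_ext hv.1 hw fun m => (hv.2 m).trans (hw' m).symm⟩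

end Groth.Agent.S3815
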