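import Groth.Statements.S9371
import Mathlib

set_option autoImplicit false
universe u
open OmegaSh
open AlgebraicGeometry CategoryTheory TopologicalSpace Opposite

namespace Groth.Agent.S9371

lemma app_injective_of_mono {X : Scheme.{u}} {M N : X.Modules} (f : M ⟶ N) [Mono f] (U : X.Opens) :
    Function.Injective (f.app U) := by
  haveI : Mono ((Scheme.Modules.toPresheaf X).map f) := inferInstance
  haveI : Mono (((Scheme.Modules.toPresheaf X).map f).app (op U)) := inferInstance
  exact (AddCommGrpCat.mono_iff_injective _).mp this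

lemma idealSect_injective {X : Scheme.{u}} (I : X.IdealSheafData) (U : X.Opens) :
    Function.Injective (OmegaSh.idealSect I U) := by
  haveI : Mono (ClSub.idealModι I) := inferInstanceAs (Mono (Limits.kernel.ι _))
  exact app_injective_of_mono (ClSub.idealModι I) U

variable {Z X Z' X' : Scheme.{u}} (i : Z ⟶ X) (i' : Z' ⟶ X') (g : X ⟶ X') (gZ : Z ⟶ Z')
  (hsq : gZ ≫ i' = i ≫ g)

include hsq in
lemma app_app_eq_zero (U : X'.Opens) (t : Γ(X', U)) (h0 : i'.ker.subschemeι.app U t = 0) :
    i.ker.subschemeι.app (g ⁻¹ᵁ U) (g.app U t) = 0 := by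
  have hk : i'.ker.subschemeι.ker ≤ (i.ker.subschemeι ≫ g).ker := by
    rw [i'.ker.ker_subschemeι, ← Scheme.IdealSheafData.map_ker i.ker.subschemeι g,
      i.ker.ker_subschemeι, Scheme.IdealSheafData.map_ker i g, ← hsq]
    exact Scheme.Hom.le_ker_comp gZ i'
  generalize hιdef : i.ker.subschemeι = ι at hk ⊢
  generalize hι'def : i'.ker.subschemeι = ι' at hk h0
  haveI : IsClosedImmersion ι' := hι'def ▸ inferInstance
  obtain ⟨k, hk'⟩ : ∃ k, k ≫ ι' = ι ≫ g := ⟨_, IsClosedImmersion.lift_fac ι' (ι ≫ g) hk⟩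
  have h1 := Scheme.Hom.congr_app hk'.symm U
  have h2 : ι.app (g ⁻¹ᵁ U) (g.app U t) = _ := congr($h1 t)
  rw [h2]
  change _ = _
  rw [CommRingCat.comp_apply, Scheme.Hom.comp_app]
  show ((i.ker.subscheme.presheaf.map _).hom : _ →+* _) ((k.app (ι' ⁻¹ᵁ U)).hom (ι'.app U t)) = 0
  rw [h0, map_zero, map_zero]

lemma idealSect_toSubscheme {Y : Scheme.{u}} (I : Y.IdealSheafData) (U : Y.Opens)
    (s : Γ(ClSub.idealMod I, U)) : I.subschemeι.app U (OmegaSh.idealSect I U s) = 0 := by
  have h : (ClSub.idealModι I ≫ ClSub.toSubscheme I).app U s = 0 := by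
    rw [show ClSub.idealModι I ≫ ClSub.toSubscheme I = 0 from Limits.kernel.condition _]
    rfl
  exact h

include hsq in
lemma comp_eq_zero :
    (ClSub.idealModι i'.ker ≫ ClSub.unitToPush g) ≫
      (Scheme.Modules.pushforward g).map (ClSub.toSubscheme i.ker) = 0 := by
  refine Scheme.Modules.hom_ext _ _ fun U ↦ ?_
  ext s
  rw [Scheme.Modules.Hom.comp_app, Scheme.Modules.Hom.comp_app]
  exact app_app_eq_zero i i' g gZ hsq U _ (idealSect_toSubscheme i'.ker U s)

/-- The map of ideal sheaves. -/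
noncomputable def idealMap :
    ClSub.idealMod i'.ker ⟶ (Scheme.Modules.pushforward g).obj (ClSub.idealMod i.ker) :=
  Limits.kernel.lift _ _ (comp_eq_zero i i' g gZ hsq) ≫
    (Limits.PreservesKernel.iso (Scheme.Modules.pushforward g) (ClSub.toSubscheme i.ker)).inv

lemma idealSect_idealMap (U : X'.Opens) (s : Γ(ClSub.idealMod i'.ker, U)) :
    OmegaSh.idealSect i.ker (g ⁻¹ᵁ U) ((idealMap i i' g gZ hsq).app U s) =
      (g.app U).hom (OmegaSh.idealSect i'.ker U s) := by
  have h : idealMap i i' g gZ hsq ≫ (Scheme.Modules.pushforward g).map (ClSub.idealModι i.ker) =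
      ClSub.idealModι i'.ker ≫ ClSub.unitToPush g := by
    rw [idealMap, Category.assoc]
    erw [Limits.PreservesKernel.iso_inv_ι]
    exact Limits.kernel.lift_ι _ _ _
  exact congr($(h).app U s)



open AlgebraicGeometry CategoryTheory in
/-- For a commutative square with i : Z → X, i' : Z' → X' quasi-compact immersions, g : X → X' and gZ :
Z → Z', there is a unique map of O_Z-modules gZ^* C_{Z'/X'} → C_{Z/X} compatible with g♯ on sections
of the defining ideals. (The published statement allows arbitrary immersions; this row assumes i and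
i' quasi-compact.) -/
theorem result {Z X Z' X' : Scheme.{u}} (i : Z ⟶ X) (i' : Z' ⟶ X') [IsImmersion i] [IsImmersion i']
    [QuasiCompact i] [QuasiCompact i'] (g : X ⟶ X') (gZ : Z ⟶ Z') (hsq : gZ ≫ i' = i ≫ g) :
    ∃! φ : (Scheme.Modules.pullback gZ).obj (Omega.conormal i') ⟶ Omega.conormal i,
      OmegaSh.IsConormalMap i i' g gZ φ := by
  let C := Omega.conormal i
  let a := Scheme.Modules.pullbackPushforwardAdjunction i'
  let b := Scheme.Modules.pullbackPushforwardAdjunction gZ
  let β : ClSub.idealMod i'.ker ⟶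
      (Scheme.Modules.pushforward i').obj ((Scheme.Modules.pushforward gZ).obj C) :=
    idealMap i i' g gZ hsq ≫ (Scheme.Modules.pushforward g).map
      ((Scheme.Modules.pullbackPushforwardAdjunction i).unit.app (ClSub.idealMod i.ker)) ≫
      (Scheme.Modules.pushforwardComp i g).hom.app C ≫
      (Scheme.Modules.pushforwardCongr hsq.symm).hom.app C ≫
      (Scheme.Modules.pushforwardComp gZ i').inv.app C
  have hβ : ∀ (U' : X'.Opens) (s' : Γ(ClSub.idealMod i'.ker, U')), β.app U' s' =
      C.presheaf.map (eqToHom (congrArg (· ⁻¹ᵁ U') hsq)).op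
        (OmegaSh.conormalSect i (g ⁻¹ᵁ U') ((idealMap i i' g gZ hsq).app U' s')) := by
    intro U' s'
    simp only [β, Scheme.Modules.Hom.comp_app, Scheme.Modules.pushforwardComp_hom_app_app,
      Scheme.Modules.pushforwardComp_inv_app_app, Scheme.Modules.pushforwardCongr_hom_app_app,
      Scheme.Modules.pushforward_map_app]
    rfl
  have key : ∀ φ : (Scheme.Modules.pullback gZ).obj (Omega.conormal i') ⟶ Omega.conormal i,
      OmegaSh.IsConormalMap i i' g gZ φ ↔ a.homEquiv _ _ (b.homEquiv _ _ φ) = β := by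
    intro φ
    have hval : ∀ (U' : X'.Opens) (s' : Γ(ClSub.idealMod i'.ker, U')),
        (a.homEquiv _ _ (b.homEquiv _ _ φ)).app U' s' =
        φ.app (gZ ⁻¹ᵁ (i' ⁻¹ᵁ U')) (OmegaSh.pullSect gZ (Omega.conormal i') (i' ⁻¹ᵁ U')
          (OmegaSh.conormalSect i' U' s')) := by
      intro U' s'
      rw [Adjunction.homEquiv_unit, Adjunction.homEquiv_unit]
      rfl
    constructor
    · rintro ⟨-, hφ⟩
      refine Scheme.Modules.hom_ext _ _ fun U' ↦ ?_
      ext s'
      have h := hφ U' s' _ (idealSect_idealMap i i' g gZ hsq U' s') (gZ ⁻¹ᵁ (i' ⁻¹ᵁ U')) le_rfl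
        (congrArg (· ⁻¹ᵁ U') hsq).le
      refine (hval U' s').trans (Eq.trans ?_ (hβ U' s').symm)
      rw [show homOfLE (le_refl (gZ ⁻¹ᵁ (i' ⁻¹ᵁ U'))) = 𝟙 _ from rfl, op_id,
        CategoryTheory.Functor.map_id] at h
      exact h
    · intro hφ
      refine ⟨hsq, fun U' s' s hs V h₁ h₂ ↦ ?_⟩
      have e1 : OmegaSh.idealSect i.ker (g ⁻¹ᵁ U') ((idealMap i i' g gZ hsq).app U' s') =
          OmegaSh.idealSect i.ker (g ⁻¹ᵁ U') s :=
        (idealSect_idealMap i i' g gZ hsq U' s').trans hs.symm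
      obtain rfl : (idealMap i i' g gZ hsq).app U' s' = s :=
        @idealSect_injective X i.ker (g ⁻¹ᵁ U') _ _ e1
      rw [← hval, hφ, hβ]
      change (C.presheaf.map _ ≫ C.presheaf.map _) _ = _
      rw [← C.presheaf.map_comp]
      rfl
  refine ⟨(b.homEquiv _ _).symm ((a.homEquiv _ _).symm β), ?_, fun φ hφ ↦ ?_⟩
  · exact (key _).mpr (((a.homEquiv _ _).congr_arg ((b.homEquiv _ _).apply_symm_apply _)).trans
      ((a.homEquiv _ _).apply_symm_apply β))
  · exact ((b.homEquiv _ _).eq_symm_apply).mpr (((a.homEquiv _ _).eq_symm_apply).mpr ((key φ).mp hφ))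

end Groth.Agent.S9371
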