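import Groth.Statements.S3573
import Groth.Agent.H11Tilde.ProjUPUnique
import Mathlib.LinearAlgebra.SymmetricAlgebra.Basis

set_option autoImplicit false
universe u
open CategoryTheory CategoryTheory.Limits AlgebraicGeometry
open EGA2

namespace Groth.Agent.S3573

/-- Let R be a commutative ring, X a scheme, and r, r' : X → P^n_R two morphisms over Spec R. If there
is an isomorphism τ : r^*O(1) ≅ r'^*O(1) carrying, for each i = 0, …, n, the pullback under r of the
coordinate section T_i of O(1) to its pullback under r', then r = r'. (Stated here for projective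
n-space over an affine base Spec R, that is, for a free module of rank n + 1; the published
statement is for the projective bundle of a more general module over a general base.) -/
theorem result {R : Type u} [CommRing R] (n : ℕ) {X : Scheme.{u}}
    (r r' : X ⟶ CohB1.ProjSpace n R) (hrr' : r ≫ CohB1.ProjSpace.toSpec n R = r' ≫ CohB1.ProjSpace.toSpec n R)
    (τ : (Scheme.Modules.pullback r).obj (Twist.twistProjSpace n R 1) ≅
      (Scheme.Modules.pullback r').obj (Twist.twistProjSpace n R 1))
    (hτ : ∀ i, τ.hom.app ⊤ (ProjUP.pullSec r (Twist.twistProjSpace n R 1) (ProjUP.coord n R i)) =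
      ProjUP.pullSec r' (Twist.twistProjSpace n R 1) (ProjUP.coord n R i)) :
    r = r' := by
  classical
  let b := Pi.basisFun R (Fin (n + 1))
  let ι : (Fin (n + 1) → R) →ₗ[R] MvPolynomial (Fin (n + 1)) R := b.constr R MvPolynomial.X
  have hιX : ∀ i, ι (b i) = MvPolynomial.X i := fun i => b.constr_basis R _ i
  have hι : ∀ m, ι m ∈ CohB1.polyGrading n R 1 := fun m => by
    rw [← b.sum_repr m, map_sum]
    refine Submodule.sum_mem _ fun i _ => ?_
    rw [map_smul, hιX]
    exact Submodule.smul_mem _ _ (MvPolynomial.isHomogeneous_X R i)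
  refine Groth.Agent.H11Tilde.toProj_ext (CohB1.polyGrading n R) r hι
    (SymmetricAlgebra.IsSymmetricAlgebra.mvPolynomial (Fin (n + 1)) b) r' hrr' τ b.span_eq ?_
  rintro _ ⟨i, rfl⟩
  have key : (ProjUP.coord n R i : ProjUP.Γm (GrTwist.twist (CohB1.polyGrading n R) 1)) =
      Groth.Agent.H11Tilde.globalSec (CohB1.polyGrading n R) (hι (b i)) := by
    refine Groth.Agent.H11Tilde.sval_ext _ _ fun x => ?_
    exact congrArg (fun p => Localization.mk p (⟨1, _⟩ : x.1.asHomogeneousIdeal.toIdeal.primeCompl)) (hιX i).symm
  rw [← key]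
  exact hτ i

end Groth.Agent.S3573
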