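import Groth.Statements.S11301
import Mathlib
import Groth.Agent.H22Alg.CMStep

set_option autoImplicit false
universe u
open CategoryTheory CategoryTheory.Limits AlgebraicGeometry
open Variety

namespace Groth.Agent.S11301

/-- m-regularity via linear resolutions: in one-step form: let k be an algebraically closed field and F
a coherent module on P^n_k. Then F is m-regular if and only if there are b ≥ 0 and an epimorphism
O(-m)^b → F (from the direct sum of b copies of O(-m)) whose kernel is (m+1)-regular. (The published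
statement is the equivalent characterisation by a resolution ... → O(-m-2)^{b_2} → O(-m-1)^{b_1} →
O(-m)^{b_0} → F → 0; it follows from this one-step form by induction, and conversely.) -/
theorem result (k : Type u) [Field k] [IsAlgClosed k] (n : ℕ)
    (F : (CohB1.ProjSpace n k).Modules) (hF : Coh.IsCoh F) (m : ℤ) :
    Curv2.IsMRegular k n F m ↔
      ∃ (b : ℕ) (φ : (∐ fun _ : Fin b => Twist.twistProjSpace n k (-m)) ⟶ F),
        Epi φ ∧ Curv2.IsMRegular k n (kernel φ) (m + 1) := by
  have hK : ∀ {b : ℕ} (φ : (∐ fun _ : Fin b => Twist.twistProjSpace n k (-m)) ⟶ F), Coh.IsCoh (kernel φ) :=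
    fun {b} φ => by
      letI : (CohB1.ProjSpace n k).Over (Spec (CommRingCat.of k)) := ⟨CohB1.ProjSpace.toSpec n k⟩
      haveI : IsProper (CohB1.ProjSpace n k ↘ Spec (CommRingCat.of k)) :=
        inferInstanceAs (IsProper (CohB1.ProjSpace.toSpec n k))
      haveI := H28Int.isNoetherian k (X := CohB1.ProjSpace n k)
      exact H10Coh.isCoh_kernel φ (H10Coh.isCoh_sigma (fun _ : Fin b => Twist.twistProjSpace n k (-m))
        fun _ => H11Ample.isCoh_of_isInvertible ((H22Alg.CMField.setup k n).fam.inv (-m))) hF.1
  constructor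
  · intro h
    obtain ⟨b, φ, hφ, hreg⟩ := H22Alg.CMStep.exists_step hF ((H22Alg.CMField.reg_iff hF m).2 h)
    exact ⟨b, φ, hφ, (H22Alg.CMField.reg_iff (hK φ) (m + 1)).1 hreg⟩
  · rintro ⟨b, φ, hφ, hreg⟩
    haveI := hφ
    refine (H22Alg.CMField.reg_iff hF m).1 (H22Alg.CMStep.reg_of_step φ
      ((H22Alg.CMField.reg_iff (hK φ) (m + 1)).2 hreg) fun i hi => ?_)
    exact H22Alg.CMField.van_high k n hi (H11Ample.isCoh_tensor hF ((H22Alg.CMField.setup k n).fam.inv _)).1

end Groth.Agent.S11301
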