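import Groth.Statements.S10867
import Groth.Agent.H17.OmegaStalk
import Groth.Agent.H17.AssPts
import Mathlib.AlgebraicGeometry.AlgClosed.Basic
import Mathlib.AlgebraicGeometry.Morphisms.FormallyUnramified
import Mathlib.AlgebraicGeometry.ZariskisMainTheorem
import Mathlib.RingTheory.Unramified.Locus

set_option autoImplicit false
universe u
open Mor

namespace Groth.Agent.S10867

open CategoryTheory CategoryTheory.Limits AlgebraicGeometry TopologicalSpace

open CategoryTheory AlgebraicGeometry in
/-- In the case of an algebraically closed base field k and K = k: let X, Y be k-schemes of finite type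
and f : X → Y a proper k-morphism which is injective on closed points and such that for every closed
point x of X the ideal generated by the image of the maximal ideal of the local ring at f(x),
together with the square of the maximal ideal at x, is the whole maximal ideal at x (the cotangent
map is surjective, i.e. the tangent map at x is injective). Then f is a closed immersion. (The
published statement allows any field k and tests points and tangent spaces with values in an
algebraically closed extension K of k; this row is the case K = k.) -/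
theorem result (k : Type u) [Field k] [IsAlgClosed k]
    {X Y : Scheme.{u}} (f : X ⟶ Y) (q : Y ⟶ Spec (CommRingCat.of k)) [LocallyOfFiniteType q] [QuasiCompact q]
    [LocallyOfFiniteType (f ≫ q)] [IsProper f]
    (hinj : Set.InjOn f.base {x : X | IsClosed ({x} : Set X)})
    (hT : ∀ x : X, IsClosed ({x} : Set X) →
      Ideal.map (f.stalkMap x).hom (IsLocalRing.maximalIdeal (Y.presheaf.stalk (f.base x))) ⊔
        IsLocalRing.maximalIdeal (X.presheaf.stalk x) ^ 2 = IsLocalRing.maximalIdeal (X.presheaf.stalk x)) :
    IsClosedImmersion f := by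
  haveI : JacobsonSpace X := LocallyOfFiniteType.jacobsonSpace (f ≫ q)
  haveI : IsLocallyNoetherian X := LocallyOfFiniteType.isLocallyNoetherian (f ≫ q)
  have hstalk : ∀ x : X, IsClosed ({x} : Set X) → (f.stalkMap x).hom.FormallyUnramified := by
    intro x hx
    have hsurj : Function.Surjective (f.residueFieldMap x) := by
      have h1 : (residueFieldIsoBase (f ≫ q) x hx).inv =
          Spec.preimage (Y.fromSpecResidueField (f x) ≫ q) ≫ f.residueFieldMap x := by
        apply Spec.map_injective
        rw [SpecMap_residueFieldIsoBase_inv, Spec.map_comp, Spec.map_preimage,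
          Scheme.Hom.SpecMap_residueFieldMap_fromSpecResidueField_assoc]
      intro b
      obtain ⟨a, ha⟩ := (ConcreteCategory.bijective_of_isIso (residueFieldIsoBase (f ≫ q) x hx).inv).2 b
      exact ⟨Spec.preimage (Y.fromSpecResidueField (f x) ≫ q) a, by rw [← ha, h1]; rfl⟩
    have hft := LocallyOfFiniteType.stalkMap f x
    have hT' := hT x hx
    algebraize [(f.stalkMap x).hom]
    show Algebra.FormallyUnramified (Y.presheaf.stalk (f x)) (X.presheaf.stalk x)
    haveI hloc : IsLocalHom (algebraMap (Y.presheaf.stalk (f x)) (X.presheaf.stalk x)) :=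
      (inferInstance : IsLocalHom (f.stalkMap x).hom)
    rw [Algebra.FormallyUnramified.iff_map_maximalIdeal_eq]
    refine ⟨⟨fun b => ?_⟩, le_antisymm ?_ ?_⟩
    · obtain ⟨a, rfl⟩ := hsurj b
      exact isSeparable_algebraMap (F := IsLocalRing.ResidueField (Y.presheaf.stalk (f x))) a
    · exact ((IsLocalRing.local_hom_TFAE (algebraMap (Y.presheaf.stalk (f x)) (X.presheaf.stalk x))).out 0 2).1
        hloc
    · refine Submodule.le_of_le_smul_of_le_jacobson_bot (I := IsLocalRing.maximalIdeal (X.presheaf.stalk x))
        (IsNoetherian.noetherian _) (IsLocalRing.maximalIdeal_le_jacobson _) ?_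
      rw [smul_eq_mul, ← pow_two]
      exact hT'.ge
  haveI : FormallyUnramified f := by
    refine ⟨fun {U} hU {V} hV e => ?_⟩
    have hft : (f.appLE U V e).hom.FiniteType := LocallyOfFiniteType.finiteType_appLE f hU hV e
    algebraize [(f.appLE U V e).hom]
    rw [RingHom.FormallyUnramified]
    refine Algebra.unramifiedLocus_eq_univ_iff.1 (Set.eq_univ_of_forall fun p => ?_)
    obtain ⟨m, hm, hpm⟩ := p.asIdeal.exists_le_maximal p.isPrime.ne_top
    let m' : PrimeSpectrum Γ(X, V) := ⟨m, hm.isPrime⟩
    refine ((PrimeSpectrum.le_iff_specializes p m').1 hpm).mem_open Algebra.isOpen_unramifiedLocus ?_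
    obtain ⟨⟨x, hxV⟩, hx⟩ := H29Blow.exists_primeIdealOf_eq hV m'
    have hcl : IsClosed ({x} : Set X) := by
      have h1 : IsClosed ({m'} : Set (PrimeSpectrum Γ(X, V))) :=
        (PrimeSpectrum.isClosed_singleton_iff_isMaximal m').2 hm
      have h2 : IsClosed ({(⟨x, hxV⟩ : V.toScheme)} : Set V.toScheme) := by
        have : ({(⟨x, hxV⟩ : V.toScheme)} : Set V.toScheme) = hV.isoSpec.hom ⁻¹' {m'} := by
          ext z
          constructor
          · rintro rfl; exact hx
          · intro hz; exact hV.isoSpec.hom.homeomorph.injective (hz.trans hx.symm)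
        rw [this]; exact h1.preimage hV.isoSpec.hom.continuous
      have h3 : IsLocallyClosed ({x} : Set X) := by
        have e1 : ({x} : Set X) = V.ι '' {(⟨x, hxV⟩ : V.toScheme)} :=
          (Set.image_singleton (f := (V.ι : V.toScheme → X)) (a := (⟨x, hxV⟩ : V.toScheme))).symm
        rw [e1]
        exact h2.isLocallyClosed.image V.ι.isOpenEmbedding.isInducing
          V.ι.isOpenEmbedding.isOpen_range.isLocallyClosed
      obtain ⟨y, hy, hyc⟩ := nonempty_inter_closedPoints (Set.singleton_nonempty x) h3
      rw [Set.mem_singleton_iff] at hy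
      subst hy
      exact hyc
    show Algebra.IsUnramifiedAt Γ(Y, U) m'.asIdeal
    have := (Groth.Agent.H17.OmegaStalk.formallyUnramified_stalkMap_iff hV hU e hxV).1 (hstalk x hcl)
    rwa [hx] at this
  haveI : Surjective (pullback.diagonal f) := ⟨fun z => by
    by_contra hz
    let P := pullback.fst f f ≫ f ≫ q
    haveI : LocallyOfFiniteType P := inferInstance
    haveI : JacobsonSpace ↥(pullback f f) := LocallyOfFiniteType.jacobsonSpace P
    obtain ⟨w, hw, hwc⟩ := nonempty_inter_closedPoints (Z := (Set.range (pullback.diagonal f))ᶜ)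
      ⟨z, hz⟩ ((pullback.diagonal f).isOpenEmbedding.isOpen_range.isClosed_compl.isLocallyClosed)
    apply hw
    let p := pointOfClosedPoint P w hwc
    have h1 : (p ≫ pullback.fst f f) ≫ (f ≫ q) = 𝟙 _ := by
      simpa only [P, Category.assoc] using pointOfClosedPoint_comp P w hwc
    have h2 : (p ≫ pullback.snd f f) ≫ (f ≫ q) = 𝟙 _ := by
      rw [← h1]; simp only [Category.assoc, reassoc_of% (pullback.condition (f := f) (g := f))]
    have heq : p ≫ pullback.fst f f = p ≫ pullback.snd f f := by
      refine ext_of_apply_closedPoint_eq (f ≫ q) h1 h2 (hinj ((pointEquivClosedPoint (f ≫ q)) ⟨_, h1⟩).2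
        ((pointEquivClosedPoint (f ≫ q)) ⟨_, h2⟩).2 ?_)
      show f ((p ≫ pullback.fst f f) _) = f ((p ≫ pullback.snd f f) _)
      simp only [← Scheme.Hom.comp_apply, Category.assoc, pullback.condition]
    have hg : p = (p ≫ pullback.fst f f) ≫ pullback.diagonal f := by
      apply pullback.hom_ext <;> simp [heq]
    refine ⟨(p ≫ pullback.fst f f) (IsLocalRing.closedPoint k), ?_⟩
    rw [← Scheme.Hom.comp_apply, ← hg, pointOfClosedPoint_apply]⟩
  have : IsIso (pullback.diagonal f) := by
    rw [isIso_iff_isOpenImmersion_and_surjective]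
    exact ⟨inferInstance, inferInstance⟩
  have : Mono f := (pullback.isIso_diagonal_iff f).mp this
  exact (IsClosedImmersion.iff_isProper_and_mono f).mpr ⟨inferInstance, this⟩

end Groth.Agent.S10867
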