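import Groth.Statements.S2115
import Groth.Agent.H17.FPExt.Step
-- import your own Groth.Agent.* helpers here

set_option autoImplicit false
universe u
open CategoryTheory AlgebraicGeometry
open Mor

namespace Groth.Agent.S2115

/-- Let `X` be quasi-compact and quasi-separated, `F` a quasi-coherent `O_X`-module, `U ⊆ X` a
quasi-compact open and `G` a finitely presented `O_U`-module with a map `φ : G → F|_U`. Then there
are a finitely presented `O_X`-module `G'` with a map `φ' : G' → F` and an isomorphism `G'|_U ≅ G`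
identifying `φ'|_U` with `φ`. -/
theorem result (X : Scheme.{u}) [CompactSpace X] [QuasiSeparatedSpace X]
    (F : X.Modules) (hF : Coh.IsQCoh F) (U : X.Opens) (hU : IsCompact (U : Set X)) (G : (U : Scheme.{u}).Modules)
    (hG : CohB1.IsFP G) (φ : G ⟶ F.restrict U.ι) :
    ∃ (G' : X.Modules) (φ' : G' ⟶ F) (e : G'.restrict U.ι ≅ G), CohB1.IsFP G' ∧
      e.hom ≫ φ = (Scheme.Modules.restrictFunctor U.ι).map φ' := by
  haveI : QuasiCompact U.ι := by
    rw [quasiCompact_iff]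
    intro K hK hKc
    rw [U.ι.isOpenEmbedding.isInducing.isCompact_iff, Set.image_preimage_eq_inter_range,
      ← Scheme.Hom.coe_opensRange, Scheme.Opens.opensRange_ι]
    exact QuasiSeparatedSpace.inter_isCompact _ _ hK hKc U.isOpen hU
  obtain ⟨P₀, π₀, e₀, hP₀, he₀, -⟩ := Groth.Agent.H17.FPExt.exists_modify F hF U.ι G
    (Groth.Agent.H29Fitt.isQCoh_of_isFP G hG) φ
  obtain ⟨t, ht⟩ := hU.elim_finite_subcover
    (fun A : {A : X.affineOpens // A.1 ≤ U} => (A.1.1 : Set X)) (fun A => A.1.1.isOpen) (fun x hx => by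
      obtain ⟨A, hA, hxA, hle⟩ := exists_isAffineOpen_mem_and_subset (X := X) (x := x) (U := U) hx
      exact Set.mem_iUnion.2 ⟨⟨⟨A, hA⟩, hle⟩, hxA⟩)
  have hfp : ∀ A ∈ t.toList.map (fun A => A.1.1), IsAffineOpen A ∧ Groth.Agent.H17.FPExt.FPAt P₀ A := by
    intro A hA
    obtain ⟨A, -, rfl⟩ := List.mem_map.1 hA
    refine ⟨A.1.2, ?_⟩
    have himg : U.ι ''ᵁ (U.ι ⁻¹ᵁ A.1.1) = A.1.1 := by
      rw [Scheme.Hom.image_preimage_eq_opensRange_inf, Scheme.Opens.opensRange_ι]
      exact inf_eq_right.2 A.2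
    have hA' : IsAffineOpen (U.ι ⁻¹ᵁ A.1.1) := by
      rw [← Scheme.Hom.isAffineOpen_iff_of_isOpenImmersion U.ι, himg]
      exact A.1.2
    haveI := Groth.Agent.H8Props.FinLocFree.finitePresentation_sections G hG hA'
    haveI : Module.FinitePresentation Γ((U : Scheme.{u}), U.ι ⁻¹ᵁ A.1.1)
        Γ((Scheme.Modules.restrictFunctor U.ι).obj P₀, U.ι ⁻¹ᵁ A.1.1) := by
      refine Groth.Agent.H29Fitt.finitePresentation_of_semilinear (RingHom.id _) Function.bijective_id
        (e₀.inv.app _).hom (fun a m => Scheme.Modules.Hom.app_smul _ a m) ?_ (M := Γ(G, U.ι ⁻¹ᵁ A.1.1))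
      exact ConcreteCategory.bijective_of_isIso (e₀.inv.app _)
    refine Groth.Agent.H17.FPExt.FPAt.of_eq ?_ himg
    exact Groth.Agent.H29Fitt.finitePresentation_of_semilinear (U.ι.appIso _).inv.hom
      (ConcreteCategory.bijective_of_isIso (U.ι.appIso (U.ι ⁻¹ᵁ A.1.1)).inv) (P₀.restrictAppIso U.ι _).hom.hom
      (fun a m => rfl) (ConcreteCategory.bijective_of_isIso (P₀.restrictAppIso U.ι _).hom)
  obtain ⟨G', π, hG', hiso⟩ := Groth.Agent.H17.FPExt.exists_fp_model P₀ hP₀ _ hfp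
  haveI : IsIso ((Scheme.Modules.restrictFunctor U.ι).map π) :=
    Groth.Agent.H17.FPExt.isIso_restrict_of_isoAt π U.ι fun z => by
      obtain ⟨A, hA, hzA⟩ := Set.mem_iUnion₂.1 (ht z.2)
      exact hiso A.1.1 (List.mem_map.2 ⟨A, Finset.mem_toList.2 hA, rfl⟩) _ hzA
  refine ⟨G', π ≫ π₀, asIso ((Scheme.Modules.restrictFunctor U.ι).map π) ≪≫ e₀, hG', ?_⟩
  rw [Iso.trans_hom, Category.assoc, he₀, Functor.map_comp]
  rfl

end Groth.Agent.S2115
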