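import Groth.Statements.S1076
import Groth.Agent.H16Derived.Compact

set_option autoImplicit false
universe v u
open CategoryTheory
open DerLim

namespace Groth.Agent.S1076

open CategoryTheory CategoryTheory.Limits CategoryTheory.Pretriangulated
open scoped ZeroObject

variable {D : Type u} [Category.{v} D] [Preadditive D] [HasZeroObject D] [HasShift D ℤ]
  [∀ n : ℤ, (shiftFunctor D n).Additive] [Pretriangulated D] [IsTriangulated D]
  [HasCoproducts.{v} D]

/-- The envelope generated by finitely many members. -/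
abbrev env {ι : Type v} (E : ι → D) (s : Finset ι) : ObjectProperty D :=
  ObjectProperty.triangEnvelope (fun Y : D => ∃ i ∈ s, Y = E i)

omit [IsTriangulated D] [HasCoproducts.{v} D] in
lemma env_mono {ι : Type v} (E : ι → D) {s t : Finset ι} (h : s ⊆ t) {X : D} (hX : env E s X) :
    env E t X :=
  ObjectProperty.monotone_triangEnvelope (fun _ ⟨i, hi, hY⟩ => ⟨i, h hi, hY⟩) X hX

omit [HasCoproducts.{v} D] in
lemma env_isTriangulated {ι : Type v} (E : ι → D) (s : Finset ι) (hs : s.Nonempty) :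
    (env E s).IsTriangulated := by
  obtain ⟨i, hi⟩ := hs
  have : ObjectProperty.Nonempty (fun Y : D => ∃ i ∈ s, Y = E i) :=
    ObjectProperty.nonempty_of_prop (X := E i) ⟨i, hi, rfl⟩
  infer_instance

/-- The union of all finitely generated envelopes. -/
def fin {ι : Type v} (E : ι → D) : ObjectProperty D :=
  fun X => ∃ s : Finset ι, s.Nonempty ∧ env E s X

omit [HasCoproducts.{v} D] in
lemma fin_isTriangulated {ι : Type v} [Nonempty ι] (E : ι → D) :
    (fin E).IsTriangulated ∧ (fin E).IsClosedUnderIsomorphisms := by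
  classical
  have hiso : (fin E).IsClosedUnderIsomorphisms :=
    ⟨fun e ⟨s, hs, h⟩ => ⟨s, hs, (env E s).prop_of_iso e h⟩⟩
  refine ⟨{ exists_zero := ?_, isStableUnderShiftBy := fun n => ⟨fun X ⟨s, hs, h⟩ => ?_⟩,
            ext₂' := fun T hT ⟨s, hs, h₁⟩ ⟨t, _, h₃⟩ => ?_ }, hiso⟩
  · let s : Finset ι := {Classical.arbitrary ι}
    have := env_isTriangulated E s (Finset.singleton_nonempty _)
    obtain ⟨Z, hZ, hZ'⟩ := (env E s).exists_prop_of_containsZero
    exact ⟨Z, hZ, s, Finset.singleton_nonempty _, hZ'⟩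
  · exact ⟨s, hs, (env E s).le_shift n _ h⟩
  · refine ObjectProperty.le_isoClosure _ _ ⟨s ∪ t, hs.mono Finset.subset_union_left, ?_⟩
    exact (env E (s ∪ t)).ext_of_isTriangulatedClosed₂ T hT
      (env_mono E Finset.subset_union_left h₁) (env_mono E Finset.subset_union_right h₃)

open CategoryTheory.Limits CategoryTheory.Pretriangulated in
/-- Let D be a triangulated category with all small direct sums and E a small nonempty family of compact
objects (nonempty so that the envelope of a finite subfamily can contain a zero object). Let X₀ → X₁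
→ … be a sequential system in which X₀ is a direct sum of shifts of members of E and each Xₙ → Xₙ₊₁
sits in a distinguished triangle Yₙ → Xₙ → Xₙ₊₁ → Yₙ[1] with Yₙ a direct sum of shifts of members of
E. Then every morphism from a compact object C to some Xₙ factors through an object of the
triangulated envelope (closure under shifts, finite sums, summands and extensions) of finitely many
members of E. -/
theorem result {D : Type u} [Category.{v} D] [Preadditive D] [Limits.HasZeroObject D] [HasShift D ℤ]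
    [∀ n : ℤ, (shiftFunctor D n).Additive] [Pretriangulated D] [IsTriangulated D] [HasCoproducts.{v} D]
    {ι : Type v} [Nonempty ι] (E : ι → D) (hc : ∀ i, CohDer.IsCompactObject (E i))
    (K : ℕ → D) (f : ∀ n, K n ⟶ K (n + 1))
    (h0 : ∃ (κ : Type v) (a : κ → ι) (m : κ → ℤ), Nonempty (K 0 ≅ ∐ (fun k => (shiftFunctor D (m k)).obj (E (a k)))))
    (hstep : ∀ n, ∃ (κ : Type v) (a : κ → ι) (m : κ → ℤ) (y : (∐ fun k => (shiftFunctor D (m k)).obj (E (a k))) ⟶ K n)
      (z : K (n + 1) ⟶ (shiftFunctor D (1 : ℤ)).obj (∐ fun k => (shiftFunctor D (m k)).obj (E (a k)))),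
      Triangle.mk y (f n) z ∈ distinguishedTriangles)
    (C : D) (hC : CohDer.IsCompactObject C) (n : ℕ) (φ : C ⟶ K n) :
    ∃ (s : Finset ι) (E' : D) (g : C ⟶ E') (h : E' ⟶ K n),
      ObjectProperty.triangEnvelope (fun Y : D => ∃ i ∈ s, Y = E i) E' ∧ g ≫ h = φ := by
  open Groth.Agent.H16Derived in
  classical
  obtain ⟨hP, hPiso⟩ := fin_isTriangulated E
  have hbase : ∀ (i : ι) (m : ℤ), fin E ((shiftFunctor D m).obj (E i)) := fun i m =>
    ⟨{i}, Finset.singleton_nonempty _, (env E {i}).le_shift m _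
      (ObjectProperty.le_triangEnvelope _ _ ⟨i, Finset.mem_singleton_self _, rfl⟩)⟩
  suffices key : ∀ (n : ℕ) (C : D), CohDer.IsCompactObject C → ∀ φ : C ⟶ K n,
      ∃ (E' : D) (g : C ⟶ E') (h : E' ⟶ K n), fin E E' ∧ g ≫ h = φ by
    obtain ⟨E', g, h, ⟨s, _, hs⟩, hg⟩ := key n C hC φ
    exact ⟨s, E', g, h, hs, hg⟩
  clear φ n hC C
  intro n
  induction n with
  | zero =>
    intro C hC φ
    obtain ⟨κ, a, m, ⟨e⟩⟩ := h0
    obtain ⟨Q, v, u, hQ, -, hvu⟩ := Groth.Agent.H16Derived.Compact.exists_finite_factor (fin E)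
      (fun k => (shiftFunctor D (m k)).obj (E (a k))) (fun k => hbase _ _)
      (fun k => Groth.Agent.H16Derived.Compact.of_shift (hc _) _) hC (φ ≫ e.hom)
    exact ⟨Q, v, u ≫ e.inv, hQ, by rw [reassoc_of% hvu, e.hom_inv_id, Category.comp_id]⟩
  | succ n ih =>
    intro C hC φ
    obtain ⟨κ, a, m, y, z, hT⟩ := hstep n
    let P : κ → D := fun k => (shiftFunctor D (m k)).obj (E (a k))
    let cmp := sigmaComparison (shiftFunctor D (1 : ℤ)) P
    obtain ⟨Q₁, v, u, hQ₁, hQ₁c, hvu⟩ := Groth.Agent.H16Derived.Compact.exists_finite_factor (fin E)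
      (fun k => (shiftFunctor D (1 : ℤ)).obj (P k))
      (fun k => (fin E).le_shift (1 : ℤ) _ (hbase _ _))
      (fun k => Groth.Agent.H16Derived.Compact.of_shift
        (Groth.Agent.H16Derived.Compact.of_shift (hc _) _) _) hC (φ ≫ z ≫ inv cmp)
    let w : Q₁ ⟶ (shiftFunctor D (1 : ℤ)).obj (∐ P) := u ≫ cmp
    have hw : v ≫ w = φ ≫ z := by
      rw [show v ≫ w = (v ≫ u) ≫ cmp from (Category.assoc _ _ _).symm, hvu]
      simp
    -- the fibre of `C ⟶ Q₁`
    obtain ⟨C', p, q, hC'⟩ := distinguished_cocone_triangle₁ v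
    have := Groth.Agent.H16Derived.Compact.isTriangulated (D := D)
    have hC'c : CohDer.IsCompactObject C' := by
      obtain ⟨X', hX', ⟨e⟩⟩ :=
        ObjectProperty.ext_of_isTriangulatedClosed₁' (fun K : D => CohDer.IsCompactObject K)
          _ hC' hC hQ₁c
      exact Groth.Agent.H16Derived.Compact.of_retract (Retract.ofIso e) hX'
    obtain ⟨φ', hφ', hφ''⟩ : ∃ φ' : C' ⟶ K n, p ≫ φ = φ' ≫ f n ∧
        q ≫ (shiftFunctor D (1 : ℤ)).map φ' = w ≫ (-(shiftFunctor D (1 : ℤ)).map y) :=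
      complete_distinguished_triangle_morphism₁ _ _ hC' (rot_of_distTriang _ hT) φ w hw
    obtain ⟨E₁, g₁, h₁, hE₁, hgh⟩ := ih C' hC'c φ'
    obtain ⟨E₂, j, k, hE₂⟩ :=
      distinguished_cocone_triangle₂ (q ≫ (shiftFunctor D (1 : ℤ)).map g₁)
    have hE₂' : fin E E₂ := (fin E).ext_of_isTriangulatedClosed₂ _ hE₂ hE₁ hQ₁
    obtain ⟨g₂, hg₂⟩ : ∃ g₂ : C ⟶ E₂, g₂ ≫ k = v := by
      obtain ⟨g₂, -, hg₂⟩ := complete_distinguished_triangle_morphism₂ _ _ hC' hE₂ g₁ (𝟙 _)
        (Category.id_comp _).symm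
      exact ⟨g₂, hg₂.symm.trans (Category.comp_id _)⟩
    -- map `E₂` to `K (n + 1)` compatibly with the connecting maps
    have hcomm : (q ≫ (shiftFunctor D (1 : ℤ)).map g₁) ≫ (shiftFunctor D (1 : ℤ)).map h₁ =
        w ≫ (-(shiftFunctor D (1 : ℤ)).map y) := by
      rw [Category.assoc, ← Functor.map_comp, hgh, hφ'']
    obtain ⟨h₂, hh₂⟩ : ∃ h₂ : E₂ ⟶ K (n + 1), k ≫ w = h₂ ≫ z := by
      obtain ⟨h₂, -, hh₂⟩ := complete_distinguished_triangle_morphism₂ _ _ hE₂
        (rot_of_distTriang _ hT) h₁ w hcomm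
      exact ⟨h₂, hh₂⟩
    obtain ⟨δ, hδ⟩ : ∃ δ : C ⟶ K n, φ - g₂ ≫ h₂ = δ ≫ f n :=
      Triangle.coyoneda_exact₃ _ hT (φ - g₂ ≫ h₂) (by
      change (φ - g₂ ≫ h₂) ≫ z = 0
      rw [Preadditive.sub_comp, Category.assoc, ← hh₂, ← Category.assoc g₂ k w, hg₂, hw, sub_self])
    obtain ⟨E₃, g₃, h₃, hE₃, hgh₃⟩ := ih C hC δ
    refine ⟨E₂ ⊞ E₃, biprod.lift g₂ g₃, biprod.desc h₂ (h₃ ≫ f n), ?_, ?_⟩
    · exact (fin E).ext_of_isTriangulatedClosed₂ _ (binaryBiproductTriangle_distinguished E₂ E₃) hE₂' hE₃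
    · rw [biprod.lift_desc, reassoc_of% hgh₃, ← hδ, add_sub_cancel]

end Groth.Agent.S1076
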