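import Groth.Statements.S0912
import Groth.Agent.H16Derived.KFlat.FlatCriterion

set_option autoImplicit false
universe u
open CategoryTheory
attribute [local instance] HasDerivedCategory.standard
open DCoh

namespace Groth.Agent.S0912

open CategoryTheory CategoryTheory.Limits
open Groth.Agent.H16Derived.KFlat
attribute [local instance] HasDerivedCategory.standard

open AlgebraicGeometry in
/-- For E in D(O_X) and integers a ≤ b, E has tor-amplitude in [a, b] (all H^i(E ⊗^L F), F an
O_X-module, vanish for i outside [a, b]; derived tensor products under their existence binder) if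
and only if E is represented by a complex of flat O_X-modules which is zero outside [a, b]. The
existence of the derived tensor product – ⊗^L G for every O_X-module G is assumed (hypothesis hL). -/
theorem result {X : Scheme.{u}} (E : DCoh.D X) (a b : ℤ) (hab : a ≤ b)
    (hL : ∀ G : X.Modules, DCoh.HasLTensorMod G) :
    DCoh.HasTorAmplitudeIn a b E ↔ DCoh.HasFlatAmplitudeIn a b E := by
  refine ⟨fun h => ?_, Stalk.hasTorAmplitudeIn_of_hasFlatAmplitudeIn⟩
  have hH : ∀ i : ℤ, (i < a ∨ b < i) → IsZero (DCoh.HD E i) := fun i hi => by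
    haveI := hL (Stalk.unitMod X)
    obtain ⟨K, ⟨e⟩⟩ : ∃ K, Nonempty (DerivedCategory.Q.obj K ≅ E) :=
      have := Localization.essSurj (DerivedCategory.Q (C := X.Modules))
        (HomologicalComplex.quasiIso X.Modules (ComplexShape.up ℤ))
      ⟨_, ⟨DerivedCategory.Q.objObjPreimageIso E⟩⟩
    let P := (Stalk.res (X := X)).obj K
    haveI : IsIso (DerivedCategory.Q.map ((Stalk.resψ (X := X)).app K)) :=
      Localization.inverts _ (HomologicalComplex.quasiIso X.Modules (ComplexShape.up ℤ)) _
        (Stalk.quasiIso_resψ K)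
    let eP : DCoh.toD X P ≅ E := asIso (DerivedCategory.Q.map ((Stalk.resψ (X := X)).app K)) ≪≫ e
    refine (h (Stalk.unitMod X) i hi).of_iso ?_
    exact (DerivedCategory.homologyFunctor X.Modules i).mapIso eP.symm ≪≫
      (DerivedCategory.homologyFunctorFactors X.Modules i).app P ≪≫
      (HomologicalComplex.homologyFunctor _ _ i).mapIso
        (((Functor.mapHomologicalComplexIdIso _ _).app P).symm ≪≫
          (NatIso.mapHomologicalComplex (Stalk.tensorUnitModIso (X := X)).symm (ComplexShape.up ℤ)).app P) ≪≫
      (Stalk.hdLTensorModIso (Stalk.unitMod X) P (Stalk.isKFlat_flip_res K) i).symm ≪≫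
      (DerivedCategory.homologyFunctor X.Modules i).mapIso
        ((DCoh.LTensorMod (Stalk.unitMod X)).mapIso eP)
  haveI : E.IsLE b := (DerivedCategory.isLE_iff E b).2 fun i hi => hH i (Or.inr hi)
  obtain ⟨K, hK, ⟨eK⟩⟩ := DerivedCategory.exists_iso_Q_obj_of_isLE E b
  haveI := hK
  obtain ⟨Q, α, hQ, hflat, hα⟩ := Stalk.exists_flat_resolution K b
  haveI := hQ
  haveI := hα
  haveI : IsIso (DerivedCategory.Q.map α) :=
    Localization.inverts _ (HomologicalComplex.quasiIso X.Modules (ComplexShape.up ℤ)) α hα
  let eQ : DCoh.toD X Q ≅ E := asIso (DerivedCategory.Q.map α) ≪≫ eK.symm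
  haveI : Q.IsGE a := (CochainComplex.isGE_iff Q a).2 fun i hi => by
    rw [HomologicalComplex.exactAt_iff_isZero_homology]
    exact (hH i (Or.inl hi)).of_iso (((DerivedCategory.homologyFunctorFactors X.Modules i).app Q).symm ≪≫
      (DerivedCategory.homologyFunctor X.Modules i).mapIso eQ)
  haveI : QuasiIso (Q.πTruncGE a) := (Q.quasiIso_πTruncGE_iff a).2 inferInstance
  haveI : IsIso (DerivedCategory.Q.map (Q.πTruncGE a)) :=
    Localization.inverts _ (HomologicalComplex.quasiIso X.Modules (ComplexShape.up ℤ)) _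
      ‹QuasiIso (Q.πTruncGE a)›
  refine ⟨Q.truncGE a, fun i hi => ?_, fun i => ?_,
    ⟨(asIso (DerivedCategory.Q.map (Q.πTruncGE a))).symm ≪≫ eQ⟩⟩
  · rcases hi with hi | hi
    · exact CochainComplex.isZero_of_isStrictlyGE _ a i hi
    · exact (Q.isZero_of_isStrictlyLE b i hi).of_iso (Q.truncGEXIso a i (by omega))
  · rcases lt_trichotomy i a with hi | hi | hi
    · exact Stalk.isFlat_of_isZero (CochainComplex.isZero_of_isStrictlyGE _ a i hi)
    · subst hi
      let e := Q.truncGEXIsoOpcycles i
      refine Stalk.isFlat_of_retract e.hom e.inv e.hom_inv_id (Stalk.isFlat_opcycles Q hflat i fun G => ?_)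
      haveI := hL G
      exact Stalk.isZero_homology_tensorC Q b hflat eQ G (i - 1) (h G (i - 1) (Or.inl (by omega)))
    · let e := Q.truncGEXIso a i hi
      exact Stalk.isFlat_of_retract e.hom e.inv e.hom_inv_id (hflat i)

end Groth.Agent.S0912
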