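import Groth.Statements.S6200
import Groth.Agent.H16Derived.TorTest.AbsStalk
import Groth.Agent.H16Derived.TorTest.RpushAmpLoc
import Groth.Agent.H16Derived.KFlat.PerfCoh
import Groth.Agent.S0912

set_option autoImplicit false
universe u
open CategoryTheory CategoryTheory.Limits AlgebraicGeometry
attribute [local instance] HasDerivedCategory.standard
open KSix

namespace Groth.Agent.S6200

open Groth.Agent.H16Derived
open scoped ZeroObject
open Groth.Agent.H16Derived.KFlat Groth.Agent.H16Derived.KFlat.Stalk

/-- For the identity morphism of a scheme: let X be a scheme and E ∈ D⁻(O_X) be given by a cochain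
complex F. Then E has tor amplitude in [a, b] in the absolute sense (it is isomorphic in D(O_X) to a
complex of flat O_X-modules placed in [a, b]) if and only if at every point x the complex of stalks
F_x has tor amplitude in [a, b] over the local ring of X at x (tor amplitude relative to the
identity of X, stalkwise form). (The published statement is for a morphism of ringed topoi with
enough points and tor amplitude over the inverse image of the structure sheaf of the base; this row
is the case of the identity of a scheme.) -/
theorem result {X : Scheme.{u}} (F : CochainComplex X.Modules ℤ) (d : ℤ)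
    [(DCoh.toD X F).IsLE d] (a b : ℤ) :
    DCoh.HasFlatAmplitudeIn a b (DCoh.toD X F) ↔ DerSch.HasTorAmplitude (𝟙 X) a b F := by
  constructor
  · rintro ⟨E, hv, hf, ⟨e⟩⟩
    exact TorTest.hasTorAmplitude_of_iso e
      (TorTest.hasTorAmplitude_of_flat (𝟙 X) hv fun i => isFlatOver_id (hf i))
  · intro h
    rcases le_or_gt a b with hab | hab
    · exact (S0912.result _ a b hab hasLTensorMod).1 (TorTest.hasTorAmplitudeIn_of_stalk h)
    · have hb := TorTest.bounds_of_ta (𝟙 X) h
      have hz : IsZero (DCoh.toD X F) := MVPush.isZero_of_hd _ fun i => by
        haveI := hb.1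
        haveI := hb.2
        rcases lt_or_ge i a with hi | hi
        · exact DerivedCategory.isZero_of_isGE _ a i hi
        · exact DerivedCategory.isZero_of_isLE _ b i (by omega)
      refine ⟨0, fun i _ => (HomologicalComplex.eval _ _ i).map_isZero (isZero_zero _), fun i x => ?_,
        ⟨(DerivedCategory.Q.map_isZero (isZero_zero _)).iso hz⟩⟩
      haveI : Subsingleton ((DerSch.stalkFunctor X x).obj ((0 : CochainComplex X.Modules ℤ).X i)) :=
        ModuleCat.subsingleton_of_isZero ((DerSch.stalkFunctor X x).map_isZero
          ((HomologicalComplex.eval _ _ i).map_isZero (isZero_zero _)))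
      haveI : Module.Free (X.presheaf.stalk x) ((DerSch.stalkFunctor X x).obj ((0 : CochainComplex X.Modules ℤ).X i)) :=
        Module.Free.of_subsingleton _ _
      exact Module.Flat.of_free (R := X.presheaf.stalk x) (M := (DerSch.stalkFunctor X x).obj ((0 : CochainComplex X.Modules ℤ).X i))

end Groth.Agent.S6200
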