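import Groth.Statements.S6320
import Groth.Agent.H1CAlg.SimpleLoc
import Mathlib.RingTheory.FiniteLength
import Mathlib.LinearAlgebra.Dimension.Finrank
-- import your own Groth.Agent.* helpers here

set_option autoImplicit false
universe u
open CAlg

namespace Groth.Agent.S6320

/-- Let A be a local ring with maximal ideal m, B a semi-local ring with maximal ideals m₁, …, mₙ and A
→ B a ring map such that each mᵢ lies over m with [κ(mᵢ) : κ(m)] finite. Then for every B-module M
of finite length, length_A(M) = Σᵢ [κ(mᵢ) : κ(m)] · length_{B_{mᵢ}}(M_{mᵢ}); in particular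
length_A(M) is finite. -/
theorem result {A B : Type u} [CommRing A] [IsLocalRing A] [CommRing B] [Algebra A B] [Finite (MaximalSpectrum B)] (hover : ∀ n : MaximalSpectrum B, n.asIdeal.comap (algebraMap A B) = IsLocalRing.maximalIdeal A) (hfin : ∀ n : MaximalSpectrum B, Module.Finite (A ⧸ n.asIdeal.comap (algebraMap A B)) (B ⧸ n.asIdeal)) (M : Type u) [AddCommGroup M] [Module B M] [Module A M] [IsScalarTower A B M] (hM : IsFiniteLength B M) : Module.length A M = ∑ᶠ n : MaximalSpectrum B, (Module.finrank (A ⧸ n.asIdeal.comap (algebraMap A B)) (B ⧸ n.asIdeal) : ℕ∞) * Module.length (Localization.AtPrime n.asIdeal) (LocalizedModule n.asIdeal.primeCompl M) := by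
  classical
  let cst : MaximalSpectrum B → ℕ∞ := fun n => (Module.finrank (A ⧸ n.asIdeal.comap (algebraMap A B)) (B ⧸ n.asIdeal) : ℕ∞)
  show _ = ∑ᶠ n : MaximalSpectrum B, cst n * _
  haveI := Fintype.ofFinite (MaximalSpectrum B)
  rw [finsum_eq_sum_of_fintype]
  suffices key : ∀ (Q : Type u) [AddCommGroup Q] [Module B Q], IsFiniteLength B Q →
      ∀ [Module A Q] [IsScalarTower A B Q], Module.length A Q =
        ∑ n : MaximalSpectrum B, cst n * Module.length (Localization.AtPrime n.asIdeal) (LocalizedModule n.asIdeal.primeCompl Q) from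
    key M hM
  intro Q _ _ hQ
  induction hQ with
  | @of_subsingleton Q _ _ _ =>
    intro _ _
    rw [Module.length_eq_zero, Finset.sum_eq_zero fun n _ => ?_]
    haveI : Subsingleton (LocalizedModule n.asIdeal.primeCompl Q) :=
      LocalizedModule.subsingleton_iff.mpr fun y => ⟨1, n.asIdeal.primeCompl.one_mem, Subsingleton.elim _ _⟩
    rw [Module.length_eq_zero, mul_zero]
  | @of_simple_quotient Q _ _ P _ _ ih =>
    intro _ _
    have hA : Module.length A Q = Module.length A P + Module.length A (Q ⧸ P) :=
      Module.length_eq_add_of_exact (P.subtype.restrictScalars A) (P.mkQ.restrictScalars A) Subtype.coe_injective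
        P.mkQ_surjective (LinearMap.exact_subtype_mkQ P)
    have hB : ∀ n : MaximalSpectrum B, Module.length (Localization.AtPrime n.asIdeal) (LocalizedModule n.asIdeal.primeCompl Q) =
        Module.length (Localization.AtPrime n.asIdeal) (LocalizedModule n.asIdeal.primeCompl P) +
        Module.length (Localization.AtPrime n.asIdeal) (LocalizedModule n.asIdeal.primeCompl (Q ⧸ P)) := fun n =>
      Module.length_eq_add_of_exact (LocalizedModule.map n.asIdeal.primeCompl P.subtype)
        (LocalizedModule.map n.asIdeal.primeCompl P.mkQ) (LocalizedModule.map_injective _ _ Subtype.coe_injective)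
        (LocalizedModule.map_surjective _ _ P.mkQ_surjective)
        (LocalizedModule.map_exact _ _ _ (LinearMap.exact_subtype_mkQ P))
    simp only [hB, mul_add, Finset.sum_add_distrib]
    rw [hA, ih]
    congr 1
    obtain ⟨m', hm', ⟨e⟩⟩ := isSimpleModule_iff_quot_maximal.mp (inferInstance : IsSimpleModule B (Q ⧸ P))
    let n₀ : MaximalSpectrum B := ⟨m', hm'⟩
    have hkill : ∀ r ∈ m', ∀ y : Q ⧸ P, r • y = 0 := fun r hr y => by
      apply e.injective
      rw [map_smul, map_zero]
      obtain ⟨b, hb⟩ := Ideal.Quotient.mk_surjective (e y)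
      rw [← hb]
      exact Ideal.Quotient.eq_zero_iff_mem.mpr (Ideal.mul_mem_right b _ hr)
    rw [Finset.sum_eq_single n₀ (fun n _ hn => ?_) (fun h => absurd (Finset.mem_univ _) h)]
    · haveI := n₀.isMaximal
      rw [Groth.Agent.H1CAlg.length_localized_simple n₀.asIdeal (Q ⧸ P) m' hm' hkill, if_pos rfl, mul_one,
        (e.restrictScalars A).length_eq]
      show Module.length A (B ⧸ m') = (Module.finrank (A ⧸ m'.comap (algebraMap A B)) (B ⧸ m') : ℕ∞)
      haveI : (m'.comap (algebraMap A B)).IsMaximal := (hover n₀).symm ▸ IsLocalRing.maximalIdeal.isMaximal A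
      letI := Ideal.Quotient.field (m'.comap (algebraMap A B))
      haveI : Module.Finite (A ⧸ m'.comap (algebraMap A B)) (B ⧸ m') := hfin n₀
      rw [← Module.length_eq_finrank]
      exact Module.length_eq_of_surjective Ideal.Quotient.mk_surjective
    · haveI := n.isMaximal
      rw [Groth.Agent.H1CAlg.length_localized_simple n.asIdeal (Q ⧸ P) m' hm' hkill,
        if_neg (fun h => hn (MaximalSpectrum.ext h.symm)), mul_zero]

end Groth.Agent.S6320
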