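import Groth.Statements.S9392
import Groth.Agent.H02CA.N2

set_option autoImplicit false
universe u
open CAlg

namespace Groth.Agent.S9392

/-- A localization of an N-2 (Japanese) domain which is again a domain is N-2. -/
theorem result (R : Type u) [CommRing R] [IsDomain R] (M : Submonoid R)
    (S : Type u) [CommRing S] [IsDomain S] [Algebra R S] [IsLocalization M S]
    (h : CAlg.IsN2 R) : CAlg.IsN2 S := by
  haveI : IsFractionRing R (FractionRing S) := H02CA.isFractionRing_of_localization M S (FractionRing S)
  intro L _ _ _ _ hL
  letI : Algebra R L := ((algebraMap S L).comp (algebraMap R S)).toAlgebra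
  haveI : IsScalarTower R S L := IsScalarTower.of_algebraMap_eq fun _ => rfl
  haveI : IsScalarTower R (FractionRing S) L := IsScalarTower.of_algebraMap_eq fun r => by
    show algebraMap S L (algebraMap R S r) = algebraMap (FractionRing S) L (algebraMap S (FractionRing S) (algebraMap R S r))
    rw [← IsScalarTower.algebraMap_apply S (FractionRing S) L]
  exact H02CA.finite_integralClosure_of_isLocalization M (H02CA.finite_integralClosure_of_isN2 h (FractionRing S) L)

end Groth.Agent.S9392
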