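import Groth.Statements.S9394
import Groth.Agent.H02CA.N2

set_option autoImplicit false
universe u
open CAlg

namespace Groth.Agent.S9394

/-- Being N-2 (Japanese) can be checked on a finite cover of Spec R by principal opens whose rings are
N-2 domains. -/
theorem result (R : Type u) [CommRing R] [IsDomain R]
    {ι : Type u} [Finite ι] (f : ι → R) (hf : Ideal.span (Set.range f) = ⊤)
    (Rf : ι → Type u) [∀ i, CommRing (Rf i)] [∀ i, IsDomain (Rf i)] [∀ i, Algebra R (Rf i)]
    [∀ i, IsLocalization.Away (f i) (Rf i)] (h : ∀ i, CAlg.IsN2 (Rf i)) : CAlg.IsN2 R := by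
  let φ : ∀ i, Rf i →+* FractionRing R := fun i => IsLocalization.lift (M := Submonoid.powers (f i))
    (g := algebraMap R (FractionRing R)) fun y => IsUnit.mk0 _ (by
      obtain ⟨n, hn⟩ := y.2
      rw [← hn]
      simp [H02CA.ne_zero_of_away_nontrivial (f i) (Rf i)])
  letI : ∀ i, Algebra (Rf i) (FractionRing R) := fun i => (φ i).toAlgebra
  haveI : ∀ i, IsScalarTower R (Rf i) (FractionRing R) := fun i => IsScalarTower.of_algebraMap_eq fun r =>
    (IsLocalization.lift_eq _ r).symm
  intro L _ _ _ _ hL
  letI : ∀ i, Algebra (Rf i) L := fun i => ((algebraMap (FractionRing R) L).comp (φ i)).toAlgebra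
  haveI : ∀ i, IsScalarTower (Rf i) (FractionRing R) L := fun i => IsScalarTower.of_algebraMap_eq fun _ => rfl
  haveI : ∀ i, IsScalarTower R (Rf i) L := fun i => IsScalarTower.of_algebraMap_eq fun r => by
    show _ = algebraMap (FractionRing R) L (φ i (algebraMap R (Rf i) r))
    rw [IsLocalization.lift_eq, ← IsScalarTower.algebraMap_apply]
  refine H02CA.finite_integralClosure_of_cover f hf Rf fun i => ?_
  haveI : IsFractionRing (Rf i) (FractionRing R) :=
    IsFractionRing.isFractionRing_of_isDomain_of_isLocalization (Submonoid.powers (f i)) (Rf i) (FractionRing R)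
  exact H02CA.finite_integralClosure_of_isN2 (h i) (FractionRing R) L

end Groth.Agent.S9394
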