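import Groth.Statements.S9400
import Groth.Agent.S9394
import Mathlib.RingTheory.Localization.Ideal
import Mathlib.RingTheory.Localization.Finiteness

set_option autoImplicit false
universe u
open CAlg

namespace Groth.Agent.S9400

/-- Being a Nagata ring can be checked on a finite cover of Spec R by principal opens. -/
theorem result (R : Type u) [CommRing R]
    {ι : Type u} [Finite ι] (f : ι → R) (hf : Ideal.span (Set.range f) = ⊤)
    (h : ∀ i, CAlg.IsNagata (Localization.Away (f i))) : CAlg.IsNagata R := by
  classical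
  haveI := Fintype.ofFinite ι
  refine ⟨⟨fun I => ?_⟩, fun p hp => ?_⟩
  · refine Ideal.fg_of_localizationSpan (Set.range f) hf ?_
    rintro ⟨_, i, rfl⟩
    haveI := (h i).1
    exact IsNoetherian.noetherian _
  let J := {i : ι // f i ∉ p}
  let P : ∀ i : J, Ideal (Localization.Away (f i.1)) := fun i => p.map (algebraMap R (Localization.Away (f i.1)))
  haveI hP : ∀ i : J, (p.map (algebraMap R (Localization.Away (f i.1)))).IsPrime := fun i => IsLocalization.isPrime_of_isPrime_disjoint (Submonoid.powers (f i.1)) _ p hp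
    (Set.disjoint_left.mpr fun x ⟨n, hn⟩ hx => i.2 (hp.mem_of_pow_mem n (by rw [show f i.1 ^ n = x from hn]; exact hx)))
  haveI : ∀ i : J, IsLocalization.Away (Ideal.Quotient.mk p (f i.1)) (Localization.Away (f i.1) ⧸ p.map (algebraMap R (Localization.Away (f i.1)))) := fun i => by
    have h1 : Algebra.algebraMapSubmonoid (R ⧸ p) (Submonoid.powers (f i.1)) = Submonoid.powers (Ideal.Quotient.mk p (f i.1)) :=
      Submonoid.map_powers _ _
    show IsLocalization (Submonoid.powers (Ideal.Quotient.mk p (f i.1))) _
    rw [← h1]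
    infer_instance
  refine S9394.result (R ⧸ p) (fun i : J => Ideal.Quotient.mk p (f i.1)) ?_ (fun i : J => Localization.Away (f i.1) ⧸ p.map (algebraMap R (Localization.Away (f i.1)))) fun i => ?_
  · rw [eq_top_iff, ← Ideal.map_top (Ideal.Quotient.mk p), ← hf, Ideal.map_span, Ideal.span_le]
    rintro _ ⟨_, ⟨i, rfl⟩, rfl⟩
    by_cases hi : f i ∈ p
    · rw [Ideal.Quotient.eq_zero_iff_mem.mpr hi]; exact zero_mem _
    · exact Ideal.subset_span ⟨⟨i, hi⟩, rfl⟩
  · exact (h i.1).2 (p.map (algebraMap R (Localization.Away (f i.1))))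

end Groth.Agent.S9400
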