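import Groth.Statements.S0571
import Groth.Agent.H1CAlg.N1Local
-- import your own Groth.Agent.* helpers here

set_option autoImplicit false
universe u
open CAlg

namespace Groth.Agent.S0571

/-- A Noetherian domain `R` is N-1 exactly when (a) `R_f` is integrally closed for some nonzero `f`, and
(b) the localization of `R` at every maximal ideal is N-1. -/
theorem result (R : Type u) [CommRing R] [IsDomain R]
    [IsNoetherianRing R] :
    CAlg.IsN1 R ↔ ((∃ f : R, f ≠ 0 ∧ IsIntegrallyClosed (Localization.Away f)) ∧
      ∀ (m : Ideal R) [m.IsMaximal], CAlg.IsN1 (Localization.AtPrime m)) := by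
  constructor
  · intro h
    obtain ⟨c, hc, hIC⟩ := Groth.Agent.H05EGA4.exists_forall_isIntegrallyClosed_of_finite R h
    refine ⟨⟨c, hc, Groth.Agent.H1CAlg.isIntegrallyClosed_away hc hIC⟩, fun m _ => ?_⟩
    let Am := Localization.AtPrime m
    let K := FractionRing R
    haveI : IsFractionRing Am K := IsFractionRing.isFractionRing_of_isDomain_of_isLocalization m.primeCompl _ K
    haveI : Module.Finite Am (integralClosure Am K) :=
      Groth.Agent.H02CA.finite_integralClosure_of_isLocalization m.primeCompl
        (Groth.Agent.H02CA.finite_integralClosure_of_isN1 h K)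
    have key : ∀ (F : Type u) (_ : Field F) (_ : Algebra Am F) (_ : IsFractionRing Am F),
        Module.Finite Am (integralClosure Am F) := by
      intro F _ _ _
      let e : K ≃ₐ[Am] F := IsLocalization.algEquiv (nonZeroDivisors Am) K F
      have h1 : ∀ x : integralClosure Am K, e (x : K) ∈ integralClosure Am F := fun x => x.2.map e.toAlgHom
      exact Module.Finite.of_surjective
        (((e.toAlgHom.comp (integralClosure Am K).val).codRestrict _ h1).toLinearMap) fun y =>
          ⟨⟨e.symm y.1, y.2.map e.symm.toAlgHom⟩, Subtype.ext (e.apply_symm_apply _)⟩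
    exact key _ _ _ Localization.isLocalization
  · rintro ⟨⟨f, hf, hn⟩, hmax⟩
    let K := FractionRing R
    haveI := hn
    have hle : Submonoid.powers f ≤ nonZeroDivisors R := powers_le_nonZeroDivisors_of_noZeroDivisors hf
    letI : Algebra (Localization.Away f) K := IsLocalization.localizationAlgebraOfSubmonoidLe (Localization.Away f) K _ _ hle
    haveI : IsScalarTower R (Localization.Away f) K := IsLocalization.localization_isScalarTower_of_submonoid_le _ K _ _ hle
    haveI : IsDomain (Localization.Away f) := IsLocalization.isDomain_localization hle
    haveI : IsFractionRing (Localization.Away f) K :=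
      IsFractionRing.isFractionRing_of_isDomain_of_isLocalization (Submonoid.powers f) _ K
    refine Groth.Agent.H05EGA4.finite_integralClosure_of_local K hf ?_ fun p _ => ?_
    · refine Groth.Agent.H1CAlg.finite_localized_integralClosure _ hle (Localization.Away f) K ?_
      rw [IsIntegrallyClosed.integralClosure_eq_bot (Localization.Away f) K]
      exact Module.Finite.equiv (Algebra.botEquivOfInjective (IsFractionRing.injective (Localization.Away f) K)).symm.toLinearEquiv
    · obtain ⟨m, hm, hpm⟩ := Ideal.exists_le_maximal p (Ideal.IsPrime.ne_top inferInstance)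
      haveI := hm
      let Am := Localization.AtPrime m
      let Ap := Localization.AtPrime p
      have hlm : m.primeCompl ≤ nonZeroDivisors R := m.primeCompl_le_nonZeroDivisors
      haveI : IsFractionRing Am K := IsFractionRing.isFractionRing_of_isDomain_of_isLocalization m.primeCompl _ K
      have h1 : Module.Finite Am (integralClosure Am K) := Groth.Agent.H02CA.finite_integralClosure_of_isN1 (hmax m) K
      have hle' : m.primeCompl ≤ p.primeCompl := fun x hx hxp => hx (hpm hxp)
      letI : Algebra Am Ap := IsLocalization.localizationAlgebraOfSubmonoidLe Am Ap _ _ hle'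
      haveI : IsScalarTower R Am Ap := IsLocalization.localization_isScalarTower_of_submonoid_le Am Ap _ _ hle'
      haveI : IsLocalization (p.primeCompl.map (algebraMap R Am)) Ap :=
        IsLocalization.isLocalization_of_submonoid_le Am Ap _ _ hle'
      haveI : IsScalarTower Am Ap K := IsScalarTower.of_algebraMap_eq' (IsLocalization.ringHom_ext m.primeCompl (by
        rw [RingHom.comp_assoc, ← IsScalarTower.algebraMap_eq R Am Ap, ← IsScalarTower.algebraMap_eq R Ap K,
          ← IsScalarTower.algebraMap_eq R Am K]))
      exact Groth.Agent.H1CAlg.finite_localized_integralClosure _ p.primeCompl_le_nonZeroDivisors Ap K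
        (Groth.Agent.H02CA.finite_integralClosure_of_isLocalization (p.primeCompl.map (algebraMap R Am)) h1)

end Groth.Agent.S0571
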