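import Groth.Statements.S2072
import Groth.Agent.H1CAlg.AnUnramified
import Mathlib.RingTheory.Nilpotent.GeometricallyReduced
import Mathlib.RingTheory.LocalProperties.Reduced
import Mathlib.RingTheory.Localization.BaseChange
-- import your own Groth.Agent.* helpers here

set_option autoImplicit false
universe u
open CAlg

namespace Groth.Agent.S2072
open TensorProduct

/-- A Noetherian local domain whose completion with respect to the maximal ideal is reduced (an
analytically unramified local domain) is N-1: its integral closure in its fraction field is a finite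
module. -/
theorem result {R : Type u} [CommRing R] [IsDomain R] [IsLocalRing R]
    [IsNoetherianRing R] [IsReduced (AdicCompletion (IsLocalRing.maximalIdeal R) R)] : CAlg.IsN1 R := by
  let Ah := AdicCompletion (IsLocalRing.maximalIdeal R) R
  let Q := FractionRing Ah
  let K := FractionRing R
  haveI : Module.Flat R Ah := AdicCompletion.flat_of_isNoetherian _
  haveI : IsReduced Q := isReduced_localizationPreserves (nonZeroDivisors Ah) Q inferInstance
  have hu : ∀ y : nonZeroDivisors R, IsUnit (algebraMap R Q y) := fun y => by
    rw [IsScalarTower.algebraMap_apply R Ah Q]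
    refine IsLocalization.map_units Q (⟨algebraMap R Ah y, ?_⟩ : nonZeroDivisors Ah)
    have hinj : Function.Injective ((LinearMap.lsmul R R (y : R)).lTensor Ah) :=
      Module.Flat.lTensor_preserves_injective_linearMap _ fun a b hab =>
        mul_left_cancel₀ (nonZeroDivisors.ne_zero y.2) hab
    refine mem_nonZeroDivisors_iff_left.mpr fun z hz => ?_
    have h1 : z ⊗ₜ[R] (1 : R) = (0 : Ah ⊗[R] R) := hinj (by
      rw [map_zero, LinearMap.lTensor_tmul, LinearMap.lsmul_apply, ← TensorProduct.smul_tmul,
        Algebra.smul_def, hz, TensorProduct.zero_tmul])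
    simpa using congrArg (TensorProduct.rid R Ah) h1
  let g : K →ₐ[R] Q := IsLocalization.liftAlgHom (M := nonZeroDivisors R) (f := Algebra.ofId R Q) (fun y => hu y)
  let F : Q ⊗[R] K →ₐ[R] Q := Algebra.TensorProduct.lift (AlgHom.id R Q) g (fun _ _ => Commute.all _ _)
  have hF : Function.Injective F := by
    rw [injective_iff_map_eq_zero]
    intro z hz
    obtain ⟨w, rfl⟩ : ∃ w : Q, w ⊗ₜ[R] (1 : K) = z := by
      clear hz
      induction z using TensorProduct.induction_on with
      | zero => exact ⟨0, TensorProduct.zero_tmul _ _⟩
      | tmul a c =>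
        obtain ⟨x, y, hy, rfl⟩ := IsFractionRing.div_surjective R c
        obtain ⟨v, hv⟩ := hu ⟨y, hy⟩
        refine ⟨x • (↑v⁻¹ * a), ?_⟩
        rw [TensorProduct.smul_tmul, show x • (1 : K) = y • (algebraMap R K x / algebraMap R K y) by
          rw [Algebra.smul_def, Algebra.smul_def, mul_one]
          exact (mul_div_cancel₀ _ (IsFractionRing.to_map_ne_zero_of_mem_nonZeroDivisors hy)).symm,
          ← TensorProduct.smul_tmul, Algebra.smul_def, ← hv, ← mul_assoc, Units.mul_inv, one_mul]
      | add a b ha hb =>
        obtain ⟨u, rfl⟩ := ha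
        obtain ⟨v, rfl⟩ := hb
        exact ⟨u + v, TensorProduct.add_tmul _ _ _⟩
    have h1 : F (w ⊗ₜ 1) = w := by simp [F]
    rw [h1] at hz
    rw [hz, TensorProduct.zero_tmul]
  exact Groth.Agent.H1CAlg.finite_integralClosure_of_isReduced_tensor (R := Q) inferInstance (isReduced_of_injective F hF)

end Groth.Agent.S2072
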