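import Groth.Statements.S2355
import Groth.Agent.H11Ample.RelPullback

set_option autoImplicit false
universe u
open CategoryTheory CategoryTheory.Limits AlgebraicGeometry
open EGA2

namespace Groth.Agent.S2355

/-- Let f : X → Y be quasi-compact, g : X' → X quasi-affine and L an O_X-module ample relative to f.
Then g^* L is ample relative to g ≫ f. -/
theorem result {X X' Y : Scheme.{u}} (f : X ⟶ Y) [QuasiCompact f] (g : X' ⟶ X) (hg : Mor2.IsQuasiAffine g)
    (L : X.Modules) (hL : RelAmple.IsRelAmple f L) :
    RelAmple.IsRelAmple (g ≫ f) ((Scheme.Modules.pullback g).obj L) := by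
  exact H11Ample.isRelAmple_pullback_of_isQuasiAffine hg hL

end Groth.Agent.S2355
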