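import Groth.Statements.S4562
import Mathlib.FieldTheory.PurelyInseparable.PerfectClosure
import Mathlib.FieldTheory.Normal.Closure
import Mathlib.FieldTheory.Galois.Basic
import Mathlib.RingTheory.DedekindDomain.IntegralClosure
import Mathlib.FieldTheory.IsAlgClosed.AlgebraicClosure
-- import your own Groth.Agent.* helpers here

set_option autoImplicit false
universe u
open CAlg

namespace Groth.Agent.S4562

/-- Let A be a Noetherian domain with fraction field K. If the integral closure of A in every finite
purely inseparable extension of K is a finitely generated A-module, then A is Japanese (N-2). -/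
theorem result (A : Type u) [CommRing A] [IsDomain A]
    [IsNoetherianRing A]
    (h : ∀ (K' : Type u) [Field K'] [Algebra A K'] [Algebra (FractionRing A) K']
      [IsScalarTower A (FractionRing A) K'], FiniteDimensional (FractionRing A) K' →
      IsPurelyInseparable (FractionRing A) K' → Module.Finite A (integralClosure A K')) :
    CAlg.IsN2 A := by
  classical
  intro L _ _ _ _ hfin
  let K := FractionRing A
  haveI : FiniteDimensional K L := hfin
  let Ω := AlgebraicClosure L
  let M : IntermediateField K Ω := IntermediateField.normalClosure K L Ω
  let j : L →ₐ[K] M := (IsScalarTower.toAlgHom K L Ω).codRestrict M.toSubalgebra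
    fun x => (IsScalarTower.toAlgHom K L Ω).fieldRange_le_normalClosure ⟨x, rfl⟩
  letI : Algebra A M := ((algebraMap K M).comp (algebraMap A K)).toAlgebra
  haveI : IsScalarTower A K M := IsScalarTower.of_algebraMap_eq fun _ => rfl
  let F : IntermediateField K M := IntermediateField.fixedField (⊤ : Subgroup (M ≃ₐ[K] M))
  haveI : IsGalois F M := IsGalois.of_fixed_field M (⊤ : Subgroup (M ≃ₐ[K] M))
  have hF : IsPurelyInseparable K F := by
    refine (le_perfectClosure_iff K M F).mp fun x hx => ?_
    rw [mem_perfectClosure_iff_natSepDegree_eq_one]
    have hint : IsIntegral K x := IsIntegral.of_finite K x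
    rw [Polynomial.natSepDegree_eq_of_splits _ (Normal.splits (inferInstance : Normal K M) x)]
    have hroots : ((minpoly K x).aroots M).toFinset = {x} := by
      ext y
      rw [Multiset.mem_toFinset, Polynomial.mem_aroots, Finset.mem_singleton]
      refine ⟨fun ⟨_, hy⟩ => ?_, fun h => by rw [h]; exact ⟨minpoly.ne_zero hint, minpoly.aeval K x⟩⟩
      obtain ⟨σ, hσ⟩ := minpoly.exists_algEquiv_of_root' hint.isAlgebraic hy
      rw [← hσ]
      exact (IntermediateField.mem_fixedField_iff _ x).mp hx σ (Subgroup.mem_top σ)
    rw [hroots, Finset.card_singleton]
  letI : Algebra A F := ((algebraMap K F).comp (algebraMap A K)).toAlgebra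
  haveI : IsScalarTower A K F := IsScalarTower.of_algebraMap_eq fun _ => rfl
  haveI : IsScalarTower A F M := IsScalarTower.of_algebraMap_eq fun _ => rfl
  let B := integralClosure A F
  haveI hB : Module.Finite A B := h F inferInstance hF
  haveI : IsNoetherianRing B := IsNoetherianRing.of_finite A B
  haveI : IsFractionRing B F := integralClosure.isFractionRing_of_finite_extension K F
  haveI : IsIntegrallyClosed B := integralClosure.isIntegrallyClosedOfFiniteExtension K (L := F)
  haveI : Module.Finite B (integralClosure B M) := IsIntegralClosure.finite B F M (integralClosure B M)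
  haveI : Module.Finite A (integralClosure B M) := Module.Finite.trans B _
  let up : integralClosure B M →ₗ[A] integralClosure A M :=
    { toFun := fun x => ⟨x.1, isIntegral_trans (R := A) (x.1 : M) x.2⟩
      map_add' := fun _ _ => rfl
      map_smul' := fun _ _ => rfl }
  haveI : Module.Finite A (integralClosure A M) :=
    Module.Finite.of_surjective up fun x => ⟨⟨x.1, x.2.tower_top⟩, rfl⟩
  let jA : L →ₐ[A] M := j.restrictScalars A
  let down : integralClosure A L →ₗ[A] integralClosure A M :=
    ((jA.comp (integralClosure A L).val).codRestrict _ fun x => x.2.map jA).toLinearMap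
  exact Module.Finite.of_injective down fun x y hxy => Subtype.ext (jA.toRingHom.injective (congrArg Subtype.val hxy))

end Groth.Agent.S4562
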