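import Groth.Statements.S0567
import Groth.Agent.H1CAlg.NagataFiniteType
-- import your own Groth.Agent.* helpers here

set_option autoImplicit false
universe u
open CAlg

namespace Groth.Agent.S0567

/-- A ring is Nagata exactly when it is Noetherian and universally Japanese. -/
theorem result (R : Type u) [CommRing R] :
    CAlg.IsNagata R ↔ (IsNoetherianRing R ∧ CAlg.IsUniversallyJapanese R) := by
  constructor
  · intro hR
    refine ⟨hR.1, fun S _ _ _ hft => ?_⟩
    haveI := hft
    exact Groth.Agent.H1CAlg.isN2_of_finite_isNagata (R := S) (Groth.Agent.H1CAlg.isNagata_of_finiteType (R := R) hR)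
  · rintro ⟨hN, hUJ⟩
    exact ⟨hN, fun p _ => hUJ (R ⧸ p)
      ((inferInstance : Algebra.FiniteType R (R ⧸ p)))⟩

end Groth.Agent.S0567
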