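import Groth.Statements.S2092
import Groth.Agent.H05EGA4.GRSHom
import Mathlib.RingTheory.TensorProduct.MvPolynomial
import Mathlib.RingTheory.RegularLocalRing.Polynomial
-- import your own Groth.Agent.* helpers here

set_option autoImplicit false
universe u
open CAlg

namespace Groth.Agent.S2092

theorem isCohenMacaulayRing_mvPolynomial (R : Type u) [CommRing R] [LocCoh.IsCohenMacaulayRing R] (n : ℕ) :
    LocCoh.IsCohenMacaulayRing (MvPolynomial (Fin n) R) := by
  refine H05EGA4.isCohenMacaulayRing_iff_rs.mpr
    (H05EGA4.RS.of_flat (H05EGA4.isCohenMacaulayRing_iff_rs.mp ‹_›) fun p _ => ?_)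
  haveI : IsRegularRing (MvPolynomial (Fin n) p.ResidueField) := inferInstance
  haveI : IsRegularRing (p.Fiber (MvPolynomial (Fin n) R)) :=
    IsRegularRing.of_ringEquiv (MvPolynomial.algebraTensorAlgEquiv R p.ResidueField).toRingEquiv.symm
  refine H05EGA4.isCohenMacaulayRing_iff_rs.mp { isCohenMacaulayLocalRing_localization := fun q _ => ?_ }
  haveI : IsRegularLocalRing (Localization.AtPrime q) := isRegularRing_iff.mp inferInstance q
  exact H4Depth.isCohenMacaulayLocalRing_of_regular _


/-- Case `M = R`: if `R` is a Cohen–Macaulay ring then so is the polynomial ring `R[x_1, …, x_n]`. -/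
theorem result {R : Type u} [CommRing R] [LocCoh.IsCohenMacaulayRing R] (n : ℕ) :
    LocCoh.IsCohenMacaulayRing (MvPolynomial (Fin n) R) := by
  exact isCohenMacaulayRing_mvPolynomial R n

end Groth.Agent.S2092
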