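import Groth.Statements.S0603
import Groth.Agent.S2092
import Groth.Agent.H05EGA4.FormalCatenary
-- import your own Groth.Agent.* helpers here

set_option autoImplicit false
universe u
open CAlg

namespace Groth.Agent.S0603

/-- Every Cohen–Macaulay ring (Noetherian with all local rings Cohen–Macaulay) satisfies the universally
catenary chain condition. -/
theorem result (R : Type u) [CommRing R]
    [LocCoh.IsCohenMacaulayRing R] : CAlg.IsUniversallyCatenary R := by
  haveI : IsNoetherianRing R := inferInstance
  refine Groth.Agent.H05EGA4.isUniversallyCatenary_of_forall_mvPolynomial fun n => ?_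
  haveI := Groth.Agent.S2092.isCohenMacaulayRing_mvPolynomial R n
  refine Groth.Agent.H8Props.CatenaryBridge.isCatenary_of_localizations fun q =>
    ⟨Localization.AtPrime q.asIdeal, inferInstance, inferInstance, inferInstance, ?_⟩
  haveI := LocCoh.IsCohenMacaulayRing.isCohenMacaulayLocalRing_localization (R := MvPolynomial (Fin n) R) q.asIdeal
  exact (Groth.Agent.H05EGA4.isCatenary_and_isEquidim_of_isCohenMacaulay _).1

end Groth.Agent.S0603
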