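import Groth.Statements.S0573
import Groth.Agent.H1CAlg.AlgClosureFinite
import Groth.Agent.H1CAlg.NagataFiniteType
import Mathlib.RingTheory.Ideal.MinimalPrime.Noetherian
-- import your own Groth.Agent.* helpers here

set_option autoImplicit false
universe u
open CAlg

namespace Groth.Agent.S0573

/-- Stated for finite type rather than essentially finite type algebras: if `R` is a Nagata ring and `S`
a reduced `R`-algebra of finite type, then the integral closure of `R` in `S` is a finitely
generated `R`-module. -/
theorem result (R : Type u) [CommRing R] (hR : CAlg.IsNagata R)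
    (S : Type u) [CommRing S] [IsReduced S] [Algebra R S] [Algebra.FiniteType R S] :
    Module.Finite R (integralClosure R S) := by
  classical
  haveI := hR.1
  haveI : IsNoetherianRing S := Algebra.FiniteType.isNoetherianRing R S
  haveI : Finite (minimalPrimes S) := (minimalPrimes.finite_of_isNoetherianRing S).to_subtype
  have hfac : ∀ P : minimalPrimes S, Module.Finite R (integralClosure R (S ⧸ P.1)) := by
    rintro ⟨P, hP⟩
    haveI : P.IsPrime := hP.1.1
    let T := S ⧸ P
    let L := FractionRing T
    let p : Ideal R := RingHom.ker (algebraMap R T)
    haveI : p.IsPrime := RingHom.ker_isPrime _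
    let D := R ⧸ p
    let g : D →+* L := (algebraMap T L).comp (RingHom.kerLift (algebraMap R T))
    have hg : Function.Injective g := (IsFractionRing.injective T L).comp (RingHom.kerLift_injective _)
    letI : Algebra D L := g.toAlgebra
    haveI : IsScalarTower R D L := IsScalarTower.of_algebraMap_eq fun r => by
      rw [IsScalarTower.algebraMap_apply R T L]; rfl
    letI : Algebra (FractionRing D) L := (IsFractionRing.lift hg).toAlgebra
    haveI : IsScalarTower D (FractionRing D) L :=
      IsScalarTower.of_algebraMap_eq fun z => (IsFractionRing.lift_algebraMap hg z).symm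
    haveI : IsScalarTower R (FractionRing D) L := IsScalarTower.of_algebraMap_eq fun r => by
      rw [IsScalarTower.algebraMap_apply R D L, IsScalarTower.algebraMap_apply D (FractionRing D) L,
        ← IsScalarTower.algebraMap_apply R D (FractionRing D)]
    haveI : Algebra.EssFiniteType R L := Algebra.EssFiniteType.comp R T L
    haveI : Algebra.EssFiniteType (FractionRing D) L := .of_comp R (FractionRing D) L
    let K0 := algebraicClosure (FractionRing D) L
    haveI : FiniteDimensional (FractionRing D) K0 :=
      Groth.Agent.H1CAlg.finiteDimensional_algebraicClosure (FractionRing D) L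
    haveI : Module.Finite D (integralClosure D K0) := hR.2 p K0 ‹_›
    haveI : IsScalarTower D K0 L := IsScalarTower.of_algebraMap_eq fun _ => rfl
    haveI : IsScalarTower R D K0 := IsScalarTower.of_algebraMap_eq fun r => Subtype.ext (IsScalarTower.algebraMap_apply R D L r)
    haveI : Module.Finite R D :=
      Module.Finite.of_surjective (Ideal.Quotient.mkₐ R p).toLinearMap Ideal.Quotient.mk_surjective
    haveI : Module.Finite R (integralClosure D K0) := Module.Finite.trans D _
    have hint : ∀ z : integralClosure R T, IsIntegral D (algebraMap T L z.1) := fun z =>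
      IsIntegral.tower_top (R := R) (z.2.map (IsScalarTower.toAlgHom R T L))
    have hK0 : ∀ z : integralClosure R T, algebraMap T L z.1 ∈ K0 := fun z =>
      mem_algebraicClosure_iff.mpr ((hint z).tower_top.isAlgebraic)
    let j : integralClosure R T →ₗ[R] integralClosure D K0 :=
      { toFun := fun z => ⟨⟨_, hK0 z⟩, (isIntegral_algHom_iff (IsScalarTower.toAlgHom D K0 L)
          Subtype.val_injective).mp (hint z)⟩
        map_add' := fun u v => Subtype.ext (Subtype.ext (map_add _ _ _))
        map_smul' := fun c u => Subtype.ext (Subtype.ext (by
          show algebraMap T L (c • u.1) = c • algebraMap T L u.1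
          exact (IsScalarTower.toAlgHom R T L).toLinearMap.map_smul c u.1)) }
    exact Module.Finite.of_injective j fun u v huv =>
      Subtype.ext (IsFractionRing.injective T L (congrArg (fun w : integralClosure D K0 => ((w : K0) : L)) huv))
  haveI := hfac
  let j : integralClosure R S →ₗ[R] ((P : minimalPrimes S) → integralClosure R (S ⧸ P.1)) :=
    LinearMap.pi fun P => (((Ideal.Quotient.mkₐ R P.1).comp (integralClosure R S).val).codRestrict _
      fun z => z.2.map (Ideal.Quotient.mkₐ R P.1)).toLinearMap
  refine Module.Finite.of_injective j ((injective_iff_map_eq_zero j).mpr fun z hz => Subtype.ext ?_)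
  have hmem : (z : S) ∈ sInf (minimalPrimes S) := Ideal.mem_sInf.mpr fun {I} hI =>
    Ideal.Quotient.eq_zero_iff_mem.mp (congrArg Subtype.val (congrFun hz ⟨I, hI⟩))
  rw [minimalPrimes, Ideal.sInf_minimalPrimes] at hmem
  exact (nilradical_eq_zero S).le (by simpa [nilradical] using hmem)

end Groth.Agent.S0573
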