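import Groth.Statements.S6742
import Groth.Agent.H16Derived.ExtFin.Main
import Groth.Agent.H16Derived.FMKWit.Main
import Groth.Agent.H16Derived.QCohD.HomVanish

set_option autoImplicit false
universe u
open CategoryTheory AlgebraicGeometry
attribute [local instance] HasDerivedCategory.standard
open DEquiv

namespace Groth.Agent.S6742

attribute [local instance] HasDerivedCategory.standard
open DerivedCategory.TStructure (t)

/-- Let X be a scheme proper over a field k, let K be an object of D(O_X) which is bounded and has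
coherent cohomology sheaves, and let E be a perfect object of D(O_X). Then the k-vector spaces
Ext^i_X(E, K) = Hom(E, K⟦i⟧) (k-linear structure induced by X → Spec k) are finite-dimensional for
all i ∈ ℤ and nonzero for only finitely many i. -/
theorem result
    (k : Type u) [Field k] (X : Scheme.{u}) [X.Over (Spec (.of k))] [IsProper (X ↘ Spec (.of k))]
    (K : DCoh.D X) (hK : SGA6.cohbP X K) (E : DCoh.D X) (hE : DCoh.IsPerfect E) :
    (∀ i : ℤ, Module.Finite k (E ⟶ (shiftFunctor (DCoh.D X) i).obj K)) ∧
        Set.Finite {i : ℤ | Nontrivial (E ⟶ (shiftFunctor (DCoh.D X) i).obj K)} := by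
  obtain ⟨hKc, a, b, hKa, hKb⟩ := hK
  haveI := hKa; haveI := hKb
  haveI : IsLocallyNoetherian X := LocallyOfFiniteType.isLocallyNoetherian (X ↘ Spec (.of k))
  haveI : CompactSpace X := QuasiCompact.compactSpace_of_compactSpace (X ↘ Spec (.of k))
  haveI : QuasiSeparatedSpace X := quasiSeparatedSpace_of_quasiSeparated (X ↘ Spec (.of k))
  obtain ⟨a', b', hEa, hEb⟩ := H16Derived.FMKWit.exists_bounds_of_isPerfect hE
  haveI := hEa; haveI := hEb
  refine ⟨fun i => H16Derived.ExtFin.finite_hom k E K b' a (H16Derived.FMKWit.isCohD_of_isPerfect hE) hKc i, ?_⟩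
  obtain ⟨c, hc⟩ := H16Derived.QCohD.HomVanish.van_of_isPerfect hE
  refine (Set.finite_Icc (a - b') (b - c)).subset fun i hi => ?_
  haveI hN : Nontrivial (E ⟶ (shiftFunctor (DCoh.D X) i).obj K) := hi
  refine ⟨?_, ?_⟩ <;> by_contra hlt <;> refine not_subsingleton (E ⟶ (shiftFunctor (DCoh.D X) i).obj K) ?_
  · haveI : t.IsGE (K⟦i⟧) (a - i) := t.isGE_shift K a i (a - i) (by omega)
    haveI : t.IsLE E b' := hEb
    exact ⟨fun f g => (t.zero f b' (a - i) (by omega)).trans (t.zero g b' (a - i) (by omega)).symm⟩
  · have hsh : t.IsLE (K⟦i⟧) (b - i) := t.isLE_shift K b i (b - i) (by omega)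
    have hq := H16Derived.QCohD.HomVanish.isQCohD_shift (fun j => (hKc j).1) i
    exact ⟨fun f g => (hc _ hq (b - i) (by omega) hsh f).trans (hc _ hq (b - i) (by omega) hsh g).symm⟩

end Groth.Agent.S6742
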