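import Groth.Statements.S0792
import Groth.Agent.LeadProper.Supp
-- import your own Groth.Agent.* helpers here

set_option autoImplicit false
universe u
open Coherent

namespace Groth.Agent.S0792

open CategoryTheory AlgebraicGeometry in
/-- Let f : X → S be locally of finite type and F a quasi-coherent O_X-module of finite type. The
support of F is proper over S if and only if there are a closed subscheme i : Z → X with Z proper
over S and a quasi-coherent O_Z-module G of finite type with i_* G isomorphic to F. (The published
statement also gives a further equivalent condition, that the scheme-theoretic support of F is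
proper over S; it is not used here.) -/
theorem result {X S : Scheme.{u}} (f : X ⟶ S) [LocallyOfFiniteType f]
    (F : X.Modules) (hq : Coh.IsQCoh F) (hft : CohB1.IsFT F) :
    ClSub.IsProperOver f (CohB1.support F) ↔
      ∃ (Z : Scheme.{u}) (i : Z ⟶ X), IsClosedImmersion i ∧ IsProper (i ≫ f) ∧
        ∃ G : Z.Modules, Coh.IsQCoh G ∧ CohB1.IsFT G ∧
          Nonempty ((Scheme.Modules.pushforward i).obj G ≅ F) := by
  constructor
  · intro h
    set I := Fitt.sheafIdeal F 0
    have hr : Set.range I.subschemeι = CohB1.support F := by
      rw [Scheme.IdealSheafData.range_subschemeι, LeadProper.support_eq_fitt F hq hft]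
    haveI : IsIso ((Scheme.Modules.pullbackPushforwardAdjunction I.subschemeι).unit.app F) :=
      LeadProper.isIso_unit_of_killedByIdeal F hq _ (by
        rw [Scheme.IdealSheafData.ker_subschemeι]; exact LeadProper.killedByIdeal_fitt F hq hft)
    exact ⟨_, I.subschemeι, inferInstance, (LeadProper.isProperOver_iff f _ hr).1 h, _,
      H29Fitt.isQCoh_pullback _ F hq, H29Fitt.isFT_pullback _ F hq hft,
      ⟨(asIso ((Scheme.Modules.pullbackPushforwardAdjunction I.subschemeι).unit.app F)).symm⟩⟩
  · rintro ⟨Z, i, hi, hp, G, -, -, ⟨e⟩⟩
    exact LeadProper.isProperOver_mono ((LeadProper.isProperOver_iff f i rfl).2 hp)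
      (LeadProper.isClosed_support F hq hft) (LeadProper.support_subset_range F hq i e)

end Groth.Agent.S0792
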