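import Groth.Statements.S8886
import Mathlib.AlgebraicGeometry.Morphisms.SchemeTheoreticallyDominant
import Mathlib.AlgebraicGeometry.Fiber
import Mathlib.AlgebraicGeometry.FunctionField

set_option autoImplicit false
universe u
open CategoryTheory CategoryTheory.Limits AlgebraicGeometry TopologicalSpace
open SDiv

namespace Groth.Agent.S8886

/-- Let f : X ⟶ Y be a flat morphism of schemes with Y integral. If the scheme-theoretic fibre of f over
the generic point of Y is integral, then X is integral. -/
theorem result {X Y : Scheme.{u}} (f : X ⟶ Y) [Flat f] [IsIntegral Y]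
    (h : IsIntegral (f.fiber (genericPoint ↥Y))) : IsIntegral X := by
  haveI := h
  let η := genericPoint Y
  let g := Y.fromSpecResidueField η
  haveI : IsDominant g := ⟨by
    rw [denseRange_iff_closure_range, Scheme.range_fromSpecResidueField]
    exact (genericPoint_spec Y).def⟩
  haveI : QuasiCompact g := ⟨fun _ _ _ => (Set.toFinite _).isCompact⟩
  haveI : IsSchemeTheoreticallyDominant g := IsSchemeTheoreticallyDominant.of_isDominant g
  haveI hd : IsSchemeTheoreticallyDominant (f.fiberι η) :=
    inferInstanceAs (IsSchemeTheoreticallyDominant (pullback.fst f g))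
  haveI : QuasiCompact (f.fiberι η) := inferInstanceAs (QuasiCompact (pullback.fst f g))
  haveI : IsReduced X := IsSchemeTheoreticallyDominant.isReduced (f.fiberι η)
  have hdense := (f.fiberι η).denseRange
  haveI : IrreducibleSpace X := by
    refine irreducibleSpace_def _ |>.mpr ?_
    have := (((IrreducibleSpace.isIrreducible_univ (f.fiber η)).image _ (f.fiberι η).continuous.continuousOn).closure)
    rwa [Set.image_univ, hdense.closure_range] at this
  exact isIntegral_of_irreducibleSpace_of_isReduced X

end Groth.Agent.S8886
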