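import Groth.Statements.S8883
import Groth.Agent.H11GenFibre.Main

set_option autoImplicit false
universe u
open CategoryTheory CategoryTheory.Limits AlgebraicGeometry TopologicalSpace
open SDiv

namespace Groth.Agent.S8883

/-- Let φ : X ⟶ Y be flat, and quasi-compact or else locally of finite type, with every fibre an
integral scheme, where X is locally Noetherian and Y is locally Noetherian, integral and normal. If
an invertible O_X-module L becomes trivial on the scheme-theoretic fibre over the generic point of
Y, then L is isomorphic to φ^*N with N an invertible O_Y-module. -/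
theorem result {X Y : Scheme.{u}} (φ : X ⟶ Y) [IsLocallyNoetherian X]
    [IsLocallyNoetherian Y] [IsIntegral Y] (hY : Pi1.IsNormalScheme Y) [Flat φ]
    (hfib : ∀ y : ↥Y, IsIntegral (φ.fiber y)) (hφ : QuasiCompact φ ∨ LocallyOfFiniteType φ)
    (L : X.Modules) (hL : PicF.IsInvertible L)
    (hgen : Nonempty ((Scheme.Modules.pullback (φ.fiberι (genericPoint ↥Y))).obj L ≅
      Coh.structureModule (φ.fiber (genericPoint ↥Y)))) :
    ∃ N : Y.Modules, PicF.IsInvertible N ∧ Nonempty (L ≅ (Scheme.Modules.pullback φ).obj N) := by
  open H11GenFibre in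
  haveI := hfib (genericPoint Y)
  haveI : IsIntegral X := S8886.result φ inferInstance
  have hsurj := surjective_of_fibres φ hfib
  let η := genericPoint Y
  let ι := φ.fiberι η
  haveI : Flat (Y.fromSpecResidueField η) := by
    letI := (isField_generic' Y).toField
    haveI : IsIso (Y.residue η) := (ConcreteCategory.isIso_iff_bijective _).2
      ⟨(Y.residue η).hom.injective, Y.residue_surjective η⟩
    unfold Scheme.fromSpecResidueField
    infer_instance
  haveI : IsPreimmersion ι := inferInstanceAs (IsPreimmersion (pullback.fst φ (Y.fromSpecResidueField η)))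
  haveI : Flat ι := inferInstanceAs (Flat (pullback.fst φ (Y.fromSpecResidueField η)))
  obtain ⟨ξ', hξ'⟩ := (φ.range_fiberι η).ge (show genericPoint X ∈ φ ⁻¹' {η} from map_genericPoint φ hsurj)
  obtain ⟨θ⟩ := hgen
  obtain ⟨v₀, hv₀⟩ := exists_good_on_range ι θ
    (fun z => H8Props.bijective_stalkMap_of_flat ι z (Flat.stalkMap ι z)) hL ξ' hξ' fun z =>
      ι.isEmbedding.isInducing.specializes_iff.1 (by
        erw [hξ']; exact (genericPoint_spec X).specializes trivial)
  have hv₀' : ∀ z, φ z = η → Good L v₀ z := fun z hz => by
    obtain ⟨z', rfl⟩ := (φ.range_fiberι η).ge (show z ∈ φ ⁻¹' {η} from hz)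
    exact hv₀ z'
  haveI : Surjective φ := ⟨hsurj⟩
  refine exists_invertible φ hsurj v₀ hY hfib (fun O hO => ?_) hL hv₀'
  rcases hφ with h | h
  · exact (Flat.isQuotientMap_of_surjective φ).isOpen_preimage.1 hO
  · haveI : LocallyOfFinitePresentation φ := by
      rw [locallyOfFinitePresentation_iff]
      intro U hU V hV e
      haveI := IsLocallyNoetherian.component_noetherian (X := Y) ⟨U, hU⟩
      exact RingHom.FinitePresentation.of_finiteType.1 ((locallyOfFiniteType_iff φ).1 ‹_› hU hV e)
    rw [← Set.image_preimage_eq O hsurj]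
    exact φ.isOpenMap _ hO

end Groth.Agent.S8883
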