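import Groth.Statements.S2087
import Groth.Agent.H4DR.TorAmp.NilpotentPC
import Groth.Agent.H4DR.TorAmp.Exists
import Groth.Agent.H4DR.PCoh.Extend
import Mathlib.RingTheory.Flat.Localization
import Mathlib.RingTheory.LocalProperties.Submodule
import Mathlib.RingTheory.Localization.BaseChange
import Mathlib.RingTheory.Localization.Finiteness

set_option autoImplicit false
universe u
open CategoryTheory
attribute [local instance] HasDerivedCategory.standard
open CAlg

namespace Groth.Agent.S2087

theorem toAlgebra_eq {R S : Type u} [CommRing R] [CommRing S] [inst : Algebra R S] :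
    (algebraMap R S).toAlgebra = inst :=
  Algebra.algebra_ext _ _ fun _ => rfl

theorem finite_tensor {R S : Type u} [CommRing R] [CommRing S] [inst : Algebra R S] (M : ModuleCat.{u} R)
    (h : Module.Finite S ((ModuleCat.extendScalars.{u, u, u} (algebraMap R S)).obj M)) :
    Module.Finite S (TensorProduct R S M) := by
  have key : ∀ (a : Algebra R S), a = inst →
      @Module.Finite S (@TensorProduct R _ S M _ _ a.toModule _) _ _
        (letI := a; inferInstance) →
      @Module.Finite S (@TensorProduct R _ S M _ _ inst.toModule _) _ _ (letI := inst; inferInstance) := by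
    rintro _ rfl h
    exact h
  exact key (algebraMap R S).toAlgebra toAlgebra_eq h

theorem subsingleton_tensor {R S : Type u} [CommRing R] [CommRing S] [inst : Algebra R S]
    (M : ModuleCat.{u} R)
    (h : Subsingleton ((ModuleCat.extendScalars.{u, u, u} (algebraMap R S)).obj M)) :
    Subsingleton (TensorProduct R S M) := by
  have key : ∀ (a : Algebra R S), a = inst →
      Subsingleton (@TensorProduct R _ S M _ _ a.toModule _) →
      Subsingleton (@TensorProduct R _ S M _ _ inst.toModule _) := by
    rintro _ rfl h
    exact h
  exact key (algebraMap R S).toAlgebra toAlgebra_eq h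

/-- `m`-pseudo-coherence of a complex of `R`-modules may be checked after base change to each `R_{f_i}`
for finitely many `f_i` generating the unit ideal (the base change is taken termwise on a chosen
complex, which is the derived base change since `R → R_{f_i}` is flat). -/
theorem result {R : Type u} [CommRing R] {r : ℕ} (f : Fin r → R)
    (hf : Ideal.span (Set.range f) = ⊤) (K : DRing.Cx R) (m : ℤ)
    (hK : ∀ i, DRing.IsPseudoCoherent (Localization.Away (f i)) m
      (DRing.toD (((ModuleCat.extendScalars (algebraMap R (Localization.Away (f i)))).mapHomologicalComplex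
        (ComplexShape.up ℤ)).obj K))) :
    DRing.IsPseudoCoherent R m (DRing.toD K) := by
  haveI : ∀ k, DRing.HasLBaseChange (algebraMap R (Localization.Away (f k))) := fun k =>
    Groth.Agent.H4DR.TorAmp.hasLBaseChange _
  have hflat : ∀ k, (algebraMap R (Localization.Away (f k))).Flat := fun k => by
    rw [RingHom.flat_algebraMap_iff]
    exact IsLocalization.flat _ (Submonoid.powers (f k))
  let F := fun k => ModuleCat.extendScalars.{u, u, u} (algebraMap R (Localization.Away (f k)))
  haveI hex : ∀ k, Limits.PreservesFiniteLimits (F k) := fun k =>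
    ModuleCat.preservesFiniteLimits_extendScalars_of_flat (hflat k)
  have hK' : ∀ k, DRing.IsPseudoCoherent (Localization.Away (f k)) m
      ((F k).mapDerivedCategory.obj (DRing.toD K)) := fun k =>
    Groth.Agent.H4DR.PCoh.pc_of_iso ((F k).mapDerivedCategoryFactors.app K).symm (hK k)
  have hN : ∀ k, ∃ N : ℕ, ∀ i, m + N ≤ i → Subsingleton
      (Dual.HD (Localization.Away (f k)) ((F k).mapDerivedCategory.obj (DRing.toD K)) i) := fun k =>
    Groth.Agent.H4DR.PCoh.bounded_of_pc' (hK' k)
  choose N hN using hN
  let s : Set R := Set.range f
  have hv : ∀ i, m + (Finset.univ.sup N : ℕ) ≤ i → Subsingleton (Dual.HD R (DRing.toD K) i) := by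
    intro i hi
    refine subsingleton_of_forall_eq 0 fun x => ?_
    refine Module.eq_zero_of_isLocalized_span s hf
      (fun g => TensorProduct R (Localization.Away g.1) (Dual.HD R (DRing.toD K) i))
      (fun g => TensorProduct.mk R (Localization.Away g.1) (Dual.HD R (DRing.toD K) i) 1) x ?_
    rintro ⟨_, k, rfl⟩
    haveI := hN k i (le_trans (by
      have := Finset.le_sup (f := N) (Finset.mem_univ k)
      omega) hi)
    haveI : Subsingleton ((F k).obj
        ((DerivedCategory.homologyFunctor (ModuleCat.{u} R) i).obj (DRing.toD K))) :=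
      (Groth.Agent.H4DR.PCoh.hMap (F k) i (DRing.toD K)).toLinearEquiv.symm.injective.subsingleton
    haveI : Subsingleton (TensorProduct R (Localization.Away (f k)) (Dual.HD R (DRing.toD K) i)) :=
      subsingleton_tensor _ this
    exact Subsingleton.elim _ _
  refine Groth.Agent.H4DR.TorAmp.pc_of_reductions (fun k => algebraMap R (Localization.Away (f k)))
    (fun M hM => ?_) (Finset.univ.sup N) hv fun k => ?_
  · refine Module.Finite.of_localizationSpan' s hf
      (Mₚ := fun g => TensorProduct R (Localization.Away g.1) M)
      (Rₚ := fun g => Localization.Away g.1)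
      (fun g => TensorProduct.mk R (Localization.Away g.1) M 1) ?_
    rintro ⟨_, k, rfl⟩
    exact finite_tensor M (hM k)
  · obtain ⟨P, hP, ⟨e⟩⟩ := Groth.Agent.H4DR.TorAmp.exists_projRep
      (c := m + (Finset.univ.sup N : ℕ)) (fun i hi => hv i hi.le)
    exact Groth.Agent.H4DR.PCoh.pc_of_iso
      (((F k).mapDerivedCategory.mapIso e).symm ≪≫ (F k).mapDerivedCategoryFactors.app P ≪≫
        (Groth.Agent.H4DR.TorAmp.lbaseObj _ P
          (Groth.Agent.H4DR.TorAmp.isKFlat_of_flat hP.above hP.flat)).symm ≪≫
        (DRing.LBaseChange _).mapIso e) (hK' k)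

end Groth.Agent.S2087
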