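import Groth.Statements.S6498
import Groth.Agent.H16Derived.TorTest.PushTensorPC
import Groth.Agent.H16Derived.Exchange.RelCoh
-- import your own Groth.Agent.* helpers here

set_option autoImplicit false
set_option backward.isDefEq.respectTransparency false
universe u
open CategoryTheory CategoryTheory.Limits AlgebraicGeometry
attribute [local instance] HasDerivedCategory.standard
open IntMult
open Groth.Agent.H16Derived Groth.Agent.H16Derived.KFlat Groth.Agent.H16Derived.KFlat.Stalk
open Groth.Agent.H16Derived.Dual Groth.Agent.H16Derived.QCohD Groth.Agent.H8Props.PushPC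

namespace Groth.Agent.S6498

/-- Let X be a locally Noetherian scheme. If L and K lie in D^-_Coh(O_X) (bounded above with coherent
cohomology sheaves) then so does L ⊗^L_{O_X} K. Here K is presented by a cochain complex E and − ⊗^L
E is the prelude's total left derived functor DCoh.LTensorCx E, under its existence hypothesis
DCoh.HasLTensorCx E. (Part (1), coherence of the Tor sheaves of two coherent modules, is not
stated.) -/
theorem result (X : Scheme.{u}) [IsLocallyNoetherian X] (E : CochainComplex X.Modules ℤ) [DCoh.HasLTensorCx E] (L : DCoh.D X) (hL : DCoh.IsCohD L) (hLb : ∃ a : ℤ, ∀ i, a < i → IsZero (DCoh.HD L i)) (hE : DCoh.IsCohD (DCoh.toD X E)) (hEb : ∃ b : ℤ, ∀ i, b < i → IsZero (DCoh.HD (DCoh.toD X E) i)) : DCoh.IsCohD ((DCoh.LTensorCx E).obj L) ∧ ∃ n : ℤ, ∀ i, n < i → IsZero (DCoh.HD ((DCoh.LTensorCx E).obj L) i) := by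
  obtain ⟨a, ha⟩ := hLb
  obtain ⟨b, hb⟩ := hEb
  haveI : L.IsLE a := (DerivedCategory.isLE_iff _ _).2 fun i hi => ha i hi
  haveI : (DCoh.toD X E).IsLE b := (DerivedCategory.isLE_iff _ _).2 fun i hi => hb i hi
  have hpush : ∀ {K : DCoh.D X} (m : ℤ), DCoh.IsPseudoCoherentD m K ↔
      DCoh.IsPseudoCoherentD m ((pushD (𝟙 X)).obj K) := fun {K} m =>
    pc_pushD_iff (𝟙 X) (H8Props.RelPC.pcStr_of_isIso _) K m
  let R : DCoh.D X := ((Dual.T X).obj L).obj (DCoh.toD X E)
  have e : R ≅ (DCoh.LTensorCx E).obj L := (Dual.ltensorCxIsoT E).app L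
  have hpc : ∀ m, DCoh.IsPseudoCoherentD m ((DCoh.LTensorCx E).obj L) := fun m => by
    have h := TorTest.pc_pushD_tensor (𝟙 X) (H := DCoh.toD X E) (L := L) (a := m - a) (b := b) (c := m - b) (d := a)
      (Dual.isPseudoCoherentD_of_isCohD b hE _) ((hpush _).1 (Dual.isPseudoCoherentD_of_isCohD a hL _))
    rw [show max (m - a + a) (b + (m - b)) = m by simp] at h
    exact isPseudoCoherentD_of_iso e ((hpush _).2 h)
  have hq := BaseChange.isQCohD_of_pc hpc
  refine ⟨fun i => ⟨hq i, isFT_of_local fun x => ?_⟩, b + a, fun i hi => ?_⟩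
  · obtain ⟨U, hU, hxU, -⟩ := exists_isAffineOpen_mem_and_subset (show x ∈ (⊤ : X.Opens) from trivial)
    haveI : CompactSpace (U : Scheme.{u}) := isCompact_iff_compactSpace.mp hU.isCompact
    have hpcU := fun m => isPseudoCoherentD_rd U.ι (hpc m)
    have hc := ((isPseudoCoherentD_iff_isCoh (BaseChange.isQCohD_of_pc hpcU) i).1 (hpcU i)).1 i le_rfl
    exact ⟨_, U.ι, inferInstance, ⟨⟨x, hxU⟩, rfl⟩, (H10Coh.isCoh_of_iso (homologyRdIso U.ι _ i) hc).2⟩
  · haveI := TorTest.isLE_T L (DCoh.toD X E) a b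
    haveI : ((DCoh.LTensorCx E).obj L).IsLE (b + a) := DerivedCategory.TStructure.t.isLE_of_iso e (b + a)
    exact DerivedCategory.isZero_of_isLE _ (b + a) i hi

end Groth.Agent.S6498
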