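import Groth.Statements.S5779
import Mathlib
import Groth.Agent.H05EGA4.Regular2

set_option autoImplicit false
set_option maxHeartbeats 400000
universe u
open EGA41

open IsLocalRing TensorProduct RingTheory.Sequence Groth.Agent.H05EGA4 Groth.Agent

namespace Groth.Agent.S5779

/-- Let A be a Noetherian local ring with maximal ideal m and residue field k, (x_i)_{1 ≤ i ≤ r}
elements of m and J = x_1 A + ... + x_r A. Then A is regular with the classes of the x_i in m/m²
linearly independent over k (equivalently: the x_i are part of a regular system of parameters) if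
and only if the x_i are part of a system of parameters of A (dim(A/J) = dim(A) - r) and A/J is
regular. When these conditions hold, J is a prime ideal. -/
theorem result (A : Type u) [CommRing A] [IsLocalRing A]
    [IsNoetherianRing A] (r : ℕ) (x : Fin r → IsLocalRing.maximalIdeal A) :
    ((IsRegularLocalRing A ∧
        LinearIndependent (IsLocalRing.ResidueField A)
          (fun i => (IsLocalRing.maximalIdeal A).toCotangent (x i))) ↔
      (ringKrullDim (A ⧸ Ideal.span (Set.range fun i => (x i : A))) + r = ringKrullDim A ∧
        IsRegularLocalRing (A ⧸ Ideal.span (Set.range fun i => (x i : A))))) ∧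
    (IsRegularLocalRing (A ⧸ Ideal.span (Set.range fun i => (x i : A))) →
      ringKrullDim (A ⧸ Ideal.span (Set.range fun i => (x i : A))) + r = ringKrullDim A →
        (Ideal.span (Set.range fun i => (x i : A))).IsPrime) := by
  set J := Ideal.span (Set.range fun i => (x i : A)) with hJ
  refine ⟨⟨?_, ?_⟩, fun h _ => ?_⟩
  · rintro ⟨_, hli⟩
    classical
    obtain ⟨d, hd⟩ := exists_dim_eq_nat A
    have hfr : Module.finrank (ResidueField A) (CotangentSpace A) = d := by
      have h1 := (IsRegularLocalRing.spanFinrank_maximalIdeal (R := A)).trans hd
      rw [finrank_cotangent_eq]; exact_mod_cast h1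
    obtain ⟨κ, w, hli', hsp'⟩ : ∃ (κ : Type u) (w : κ → CotangentSpace A),
        LinearIndependent (ResidueField A) (Sum.elim (fun i => (maximalIdeal A).toCotangent (x i)) w) ∧
        Submodule.span (ResidueField A)
          (Set.range (Sum.elim (fun i => (maximalIdeal A).toCotangent (x i)) w)) = ⊤ := by
      obtain ⟨W', hW'⟩ := Submodule.exists_isCompl
        (Submodule.span (ResidueField A) (Set.range fun i => (maximalIdeal A).toCotangent (x i)))
      let b := Module.finBasis (ResidueField A) W'
      refine ⟨ULift.{u} (Fin (Module.finrank (ResidueField A) W')), fun k => (b k.down : CotangentSpace A), ?_, ?_⟩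
      · refine hli.sum_type ((b.linearIndependent.map' W'.subtype W'.ker_subtype).comp _ ULift.down_injective) ?_
        refine hW'.disjoint.mono_right (Submodule.span_le.mpr ?_)
        rintro _ ⟨k, rfl⟩
        exact (b k.down).2
      · rw [Set.Sum.elim_range, Submodule.span_union]
        refine eq_top_iff.mpr (hW'.sup_eq_top.ge.trans (sup_le_sup le_rfl ?_))
        intro z hz
        have h := congr(Submodule.map W'.subtype $(b.span_eq))
        rw [Submodule.map_span, Submodule.map_subtype_top] at h
        rw [← h] at hz
        refine Submodule.span_mono ?_ hz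
        rintro _ ⟨_, ⟨k, rfl⟩, rfl⟩
        exact ⟨ULift.up k, rfl⟩
    have : Finite κ := (hli'.comp Sum.inr Sum.inr_injective).finite
    have := Fintype.ofFinite κ
    choose y hy using fun k => (maximalIdeal A).toCotangent_surjective (w k)
    let g : Fin r ⊕ κ → maximalIdeal A := Sum.elim x y
    have hg : (fun i => (maximalIdeal A).toCotangent (g i)) =
        Sum.elim (fun i => (maximalIdeal A).toCotangent (x i)) w := by
      ext (i | k)
      · rfl
      · exact hy k
    have hcard : Fintype.card (Fin r ⊕ κ) = d := by
      rw [← hfr, ← finrank_span_eq_card hli', hsp', finrank_top]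
    have hspan : Submodule.span A (Set.range g) = ⊤ := by
      rw [← CotangentSpace.span_image_eq_top_iff, ← Set.range_comp,
        show (maximalIdeal A).toCotangent ∘ g = _ from hg]
      exact hsp'
    have hm : Ideal.span (Set.range fun i => (g i : A)) = maximalIdeal A := by
      have := congr(Submodule.map (maximalIdeal A).subtype $hspan)
      rwa [Submodule.map_span, Submodule.map_subtype_top, ← Set.range_comp] at this
    let e := (Fintype.equivFinOfCardEq hcard)
    obtain ⟨h1, h2⟩ := H4Depth.exists_regular_quotient_of_subset d hd (fun i => (g (e.symm i) : A))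
      ((congrArg Ideal.span (e.symm.surjective.range_comp fun i => (g i : A))).trans hm)
      (Finset.univ.image fun i => e (Sum.inl i))
    have hs : (fun i => (g (e.symm i) : A)) '' ((Finset.univ.image fun i => e (Sum.inl i) : Finset (Fin d)) : Set (Fin d)) =
        Set.range fun i => (x i : A) := by
      rw [Finset.coe_image, Finset.coe_univ, Set.image_univ, ← Set.range_comp]
      congr 1; ext i; simp [g]
    rw [hs] at h1 h2
    refine ⟨?_, h1⟩
    rw [h2, Finset.card_image_of_injective _ (show Function.Injective (fun i => e (Sum.inl i)) from e.injective.comp Sum.inl_injective), Finset.card_univ,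
      Fintype.card_fin, hd]
    have : r ≤ d := by rw [← hcard, Fintype.card_sum, Fintype.card_fin]; omega
    norm_cast
    omega
  · rintro ⟨hdim, hreg⟩
    obtain ⟨d, hd⟩ := exists_dim_eq_nat A
    obtain ⟨d', hd'⟩ := exists_dim_eq_nat (A ⧸ J)
    have hs' := (IsRegularLocalRing.spanFinrank_maximalIdeal (R := A ⧸ J)).trans hd'
    rw [hd, hd'] at hdim
    norm_cast at hdim hs'
    obtain ⟨y, hym, hy⟩ := exists_span_sumElim_eq J
    have h1 : (maximalIdeal A).spanFinrank ≤ r + (maximalIdeal (A ⧸ J)).spanFinrank :=
      spanFinrank_maximalIdeal_le_quotient _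
    have hA : IsRegularLocalRing A := .of_spanFinrank_maximalIdeal_le _ (by
      rw [hd]; exact_mod_cast (by omega : (maximalIdeal A).spanFinrank ≤ d))
    refine ⟨hA, ?_⟩
    let g : Fin r ⊕ Fin (maximalIdeal (A ⧸ J)).spanFinrank → maximalIdeal A :=
      Sum.elim x fun i => ⟨y i, hym i⟩
    have hspan : Submodule.span A (Set.range g) = ⊤ := by
      apply Submodule.map_injective_of_injective (maximalIdeal A).injective_subtype
      rw [Submodule.map_span, Submodule.map_subtype_top, ← Set.range_comp]
      refine Eq.trans ?_ hy
      rw [show (maximalIdeal A).subtype ∘ g = Sum.elim (fun i => (x i : A)) y from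
        funext fun i => by cases i <;> rfl, Set.Sum.elim_range]
      exact Ideal.span_union _ _
    rw [← CotangentSpace.span_image_eq_top_iff, ← Set.range_comp] at hspan
    have hli := linearIndependent_of_top_le_span_of_card_eq_finrank hspan.ge (by
      rw [Fintype.card_sum, Fintype.card_fin, Fintype.card_fin, finrank_cotangent_eq, hs', add_comm r d', hdim]
      have h2 := (IsRegularLocalRing.spanFinrank_maximalIdeal (R := A)).trans hd
      exact_mod_cast h2.symm)
    exact hli.comp Sum.inl Sum.inl_injective
  · have := H4Depth.isDomain_of_isRegularLocalRing (A ⧸ J)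
    exact (Ideal.Quotient.isDomain_iff_prime J).mp this


end Groth.Agent.S5779
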