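import Groth.Statements.S4575
import Mathlib
import Groth.Agent.H05EGA4.Regular2
import Groth.Agent.S5779

set_option autoImplicit false
set_option maxHeartbeats 400000
universe u
open IsLocalRing
open EGA41

open IsLocalRing TensorProduct RingTheory.Sequence Groth.Agent.H05EGA4 Groth.Agent

namespace Groth.Agent.S4575

/-- Let R be a regular local ring with maximal ideal m and n a proper ideal with R/n regular. Then
(n/n²) ⊗_R K → (m/m²) ⊗_R K is injective, K the residue field; stated in the equivalent form n ∩ m²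
= m·n (the kernel of n/mn → m/m² is (n ∩ m²)/mn). -/
theorem result {R : Type u} [CommRing R] [IsRegularLocalRing R]
    (n : Ideal R) (hn : n ≠ ⊤) (hreg : IsRegularRing (R ⧸ n)) :
    n ⊓ maximalIdeal R ^ 2 = maximalIdeal R * n := by
  have h79 := fun r (x : Fin r → maximalIdeal R) h => (Groth.Agent.S5779.result R r x).1.mp ⟨inferInstance, h⟩
  have hnm : n ≤ maximalIdeal R := le_maximalIdeal hn
  have : Nontrivial (R ⧸ n) := Ideal.Quotient.nontrivial_iff.mpr hn
  have : IsLocalRing (R ⧸ n) := .of_surjective' _ Ideal.Quotient.mk_surjective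
  have := IsRegularLocalRing.of_isRegularRing_of_isLocalRing (R ⧸ n)
  let W : Submodule (ResidueField R) (CotangentSpace R) :=
    Submodule.span (ResidueField R) ((maximalIdeal R).toCotangent '' {z : maximalIdeal R | (z : R) ∈ n})
  let b := Module.finBasis (ResidueField R) W
  have hWmem : ∀ v ∈ W, ∃ z : maximalIdeal R, (z : R) ∈ n ∧ (maximalIdeal R).toCotangent z = v := by
    intro v hv
    induction hv using Submodule.span_induction with
    | mem v hv => obtain ⟨z, hz, rfl⟩ := hv; exact ⟨z, hz, rfl⟩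
    | zero => exact ⟨0, n.zero_mem, map_zero _⟩
    | add a b _ _ ha hb =>
      obtain ⟨z, hz, rfl⟩ := ha
      obtain ⟨z', hz', rfl⟩ := hb
      exact ⟨z + z', n.add_mem hz hz', map_add _ _ _⟩
    | smul c a _ ha =>
      obtain ⟨z, hz, rfl⟩ := ha
      obtain ⟨c, rfl⟩ := Ideal.Quotient.mk_surjective c
      exact ⟨c • z, n.smul_mem c hz, map_smul _ c z⟩
  choose x hxn hx using fun i => hWmem (b i) (b i).2
  have hli : LinearIndependent (ResidueField R) (fun i => (maximalIdeal R).toCotangent (x i)) := by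
    simp only [hx]
    exact b.linearIndependent.map' W.subtype W.ker_subtype
  obtain ⟨hdim, hregJ⟩ := h79 _ x hli
  set J := Ideal.span (Set.range fun i => (x i : R)) with hJ
  have := H4Depth.isDomain_of_isRegularLocalRing (R ⧸ J)
  have hJn : J ≤ n := Ideal.span_le.mpr (by rintro _ ⟨i, rfl⟩; exact hxn i)
  obtain ⟨d, hd⟩ := exists_dim_eq_nat R
  obtain ⟨dJ, hdJ⟩ := exists_dim_eq_nat (R ⧸ J)
  obtain ⟨dn, hdn⟩ := exists_dim_eq_nat (R ⧸ n)
  have hge : dJ ≤ dn := by
    have h1 := (IsRegularLocalRing.spanFinrank_maximalIdeal (R := R)).trans hd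
    have h2 := (IsRegularLocalRing.spanFinrank_maximalIdeal (R := R ⧸ n)).trans hdn
    rw [hd, hdJ] at hdim
    norm_cast at h1 h2 hdim
    obtain ⟨y, hym, hy⟩ := exists_span_sumElim_eq n
    have htop : W ⊔ Submodule.span (ResidueField R)
        (Set.range fun i => (maximalIdeal R).toCotangent ⟨y i, hym i⟩) = ⊤ := by
      rw [← Submodule.span_union]
      have hspan : Submodule.span R ({z : maximalIdeal R | (z : R) ∈ n} ∪ Set.range fun i => (⟨y i, hym i⟩ : maximalIdeal R)) = ⊤ := by
        apply Submodule.map_injective_of_injective (maximalIdeal R).injective_subtype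
        rw [Submodule.map_span, Submodule.map_subtype_top, Set.image_union, ← Set.range_comp]
        refine Eq.trans ?_ hy
        rw [show (maximalIdeal R).subtype '' {z : maximalIdeal R | (z : R) ∈ n} = (n : Set R) by
          ext z
          exact ⟨fun ⟨w, hw, e⟩ => e ▸ hw, fun hz => ⟨⟨z, hnm hz⟩, hz, rfl⟩⟩]
        exact (Ideal.span_union _ _).trans (congrArg (· ⊔ _) (Ideal.span_eq n))
      rw [← CotangentSpace.span_image_eq_top_iff, Set.image_union, ← Set.range_comp] at hspan
      exact hspan
    have h3 : Module.finrank (ResidueField R) (CotangentSpace R) ≤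
        Module.finrank (ResidueField R) W + (maximalIdeal (R ⧸ n)).spanFinrank := by
      rw [← finrank_top, ← htop]
      refine le_trans (Submodule.finrank_add_le_finrank_add_finrank _ _) ?_
      gcongr
      exact (finrank_range_le_card _).trans (by rw [Fintype.card_fin])
    rw [finrank_cotangent_eq] at h3
    omega
  have hnJ : n = J := by
    by_contra hne
    obtain ⟨a, han, haJ⟩ := SetLike.exists_of_lt (lt_of_le_of_ne hJn (Ne.symm hne))
    have ha : Ideal.Quotient.mk J a ∈ nonZeroDivisors (R ⧸ J) :=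
      mem_nonZeroDivisors_of_ne_zero fun h => haJ (Ideal.Quotient.eq_zero_iff_mem.mp h)
    have h1 := ringKrullDim_quotient_succ_le_of_nonZeroDivisor ha
    have h2 : ringKrullDim (R ⧸ n) ≤ ringKrullDim ((R ⧸ J) ⧸ Ideal.span {Ideal.Quotient.mk J a}) := by
      refine ringKrullDim_le_of_surjective (Ideal.Quotient.lift _ (Ideal.Quotient.factor hJn) ?_) ?_
      · intro z hz
        obtain ⟨c, rfl⟩ := Ideal.mem_span_singleton'.mp hz
        rw [map_mul, Ideal.Quotient.factor_mk, Ideal.Quotient.eq_zero_iff_mem.mpr han, mul_zero]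
      · intro z
        obtain ⟨w, rfl⟩ := Ideal.Quotient.mk_surjective z
        exact ⟨Ideal.Quotient.mk _ (Ideal.Quotient.mk J w), rfl⟩
    rw [hdJ] at h1
    rw [hdn] at h2
    have h3 : ((dn : ℕ∞) : WithBot ℕ∞) + 1 ≤ (dJ : ℕ∞) := le_trans (by gcongr; exact h2) h1
    norm_cast at h3
    omega
  refine le_antisymm ?_ ?_
  · rintro z ⟨hzn, hz2⟩
    have hzJ : z ∈ Ideal.span (Set.range fun i => (x i : R)) := hJ ▸ hnJ ▸ hzn
    obtain ⟨a, ha⟩ := (Ideal.mem_span_range_iff_exists_fun (R := R)).mp hzJ
    have h0 : (maximalIdeal R).toCotangent (∑ i, a i • x i) = 0 := by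
      rw [Ideal.toCotangent_eq_zero]
      simpa [ha] using hz2
    rw [map_sum] at h0
    simp only [map_smul] at h0
    have hc := Fintype.linearIndependent_iff.mp hli (fun i => residue R (a i)) h0
    rw [← ha]
    exact Ideal.sum_mem _ fun i _ => Ideal.mul_mem_mul (Ideal.Quotient.eq_zero_iff_mem.mp (hc i)) (hxn i)
  · refine le_inf (Ideal.mul_le.mpr fun a _ b hb => n.mul_mem_left a hb) ?_
    rw [pow_two]
    exact Ideal.mul_mono le_rfl hnm


end Groth.Agent.S4575
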