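import Groth.Statements.S5754
import Groth.Agent.H05EGA4.DepthMisc

set_option autoImplicit false
universe u
open EGA41

open Groth.Agent Groth.Agent.H05EGA4 IsLocalRing
open scoped Pointwise

namespace Groth.Agent.S5754

/-- Let A be a Noetherian ring, M a finitely generated A-module and t an element of A which is
M-regular. For every associated prime p of M, every prime ideal minimal among those containing p +
tA is an associated prime of M/tM. -/
theorem result (A : Type u) [CommRing A]
    [IsNoetherianRing A] (M : Type u) [AddCommGroup M] [Module A M] [Module.Finite A M] (t : A)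
    (ht : IsSMulRegular M t) (p : Ideal A) (hp : p ∈ associatedPrimes A M) (q : Ideal A)
    (hq : q ∈ (p ⊔ Ideal.span {t}).minimalPrimes) : q ∈ associatedPrimes A (QuotSMulTop t M) := by
  obtain ⟨hpp, m₀, hm₀⟩ := isAssociatedPrime_iff.mp hp
  let T := Submodule.torsionBySet A M (p : Set A)
  have hm₀T : m₀ ∈ T := by
    rw [Submodule.mem_torsionBySet_iff]
    intro a
    have := hm₀.le a.2
    rwa [Submodule.mem_colon_singleton, Submodule.mem_bot] at this
  have hT : ∀ r : PrimeSpectrum A, r ∈ Module.support A T ↔ p ≤ r.asIdeal := by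
    intro r
    rw [Module.mem_support_iff_of_finite]
    refine ⟨fun h a ha => h (Module.mem_annihilator.mpr fun w => ?_), fun h a ha => h ?_⟩
    · exact Subtype.ext ((Submodule.mem_torsionBySet_iff _ _).mp w.2 ⟨a, ha⟩)
    · rw [hm₀, Submodule.mem_colon_singleton, Submodule.mem_bot]
      exact congrArg Subtype.val (Module.mem_annihilator.mp ha ⟨m₀, hm₀T⟩)
  have hsupp : ∀ r : PrimeSpectrum A, r ∈ Module.support A (QuotSMulTop t T) ↔ p ⊔ Ideal.span {t} ≤ r.asIdeal := by
    intro r
    rw [Module.support_quotSMulTop, Set.mem_inter_iff, hT, PrimeSpectrum.mem_zeroLocus, Set.singleton_subset_iff,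
      sup_le_iff, Ideal.span_singleton_le_iff_mem]
    rfl
  let f : QuotSMulTop t T →ₗ[A] QuotSMulTop t M := Submodule.mapQ _ _ T.subtype (by
    rintro _ ⟨w, -, rfl⟩
    exact Submodule.smul_mem_pointwise_smul (w : M) t ⊤ Submodule.mem_top)
  have hf : Function.Injective f := by
    rw [← LinearMap.ker_eq_bot, Submodule.ker_mapQ, eq_bot_iff]
    rintro _ ⟨w, ⟨m', -, hm'⟩, rfl⟩
    refine (Submodule.Quotient.mk_eq_zero _).mpr ⟨⟨m', ?_⟩, Submodule.mem_top, Subtype.ext hm'⟩
    rw [Submodule.mem_torsionBySet_iff]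
    intro a
    apply ht
    show t • (a : A) • m' = t • (0 : M)
    rw [smul_zero, smul_comm, show t • m' = (w : M) from hm']
    exact (Submodule.mem_torsionBySet_iff _ _).mp w.2 a
  haveI := hq.isPrime
  refine associatedPrimes.subset_of_injective hf
    (Module.associatedPrimes.minimalPrimes_annihilator_subset_associatedPrimes A _ ?_)
  refine ⟨⟨hq.isPrime, Module.mem_support_iff_of_finite.mp ((hsupp ⟨q, hq.isPrime⟩).mpr hq.1.2)⟩, fun r hr hrq => ?_⟩
  exact hq.2 ⟨hr.1, (hsupp ⟨r, hr.1⟩).mp (Module.mem_support_iff_of_finite.mpr hr.2)⟩ hrq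

end Groth.Agent.S5754
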