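import Groth.Statements.S14420
import Groth.Agent.H4LC.Annihilation
import Groth.Agent.H4Depth.IdealDepth
import Groth.Agent.H4Depth.LocDepth

set_option autoImplicit false
universe u
open CategoryTheory
open LocCoh

namespace Groth.Agent.S14420

/-- Let A be a Noetherian local ring and M, N nonzero finitely generated A-modules. Then Ext^i_A(N, M) =
0 for all i < depth M − dim Supp N. Here depth M = d and the Krull dimension of the support of N = r
are given as natural numbers and the conclusion is stated for every i with i + r < d. -/
theorem result (A : Type u) [CommRing A] [IsNoetherianRing A]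
    [IsLocalRing A] (M N : Type u) [AddCommGroup M] [Module A M] [AddCommGroup N] [Module A N]
    [Module.Finite A M] [Module.Finite A N] [Nontrivial M] [Nontrivial N]
    (d r i : ℕ) (hd : LocCoh.depth A M = d) (hr : Module.supportDim A N = r) (hi : i + r < d) :
    Subsingleton (Abelian.Ext (ModuleCat.of A N) (ModuleCat.of A M) i) := by

  refine H4Depth.subsingleton_ext_of_lt_idealDepth (I := Module.annihilator A N) (ModuleCat.of A N)
    (by rw [Module.support_eq_zeroLocus]) i ?_
  rw [H4Depth.idealDepth_eq_iInf_depth_localization]
  refine lt_of_lt_of_le (b := ((i + 1 : ℕ) : ℕ∞)) (by exact_mod_cast i.lt_succ_self) (le_iInf₂ fun p hp => ?_)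
  rcases subsingleton_or_nontrivial (LocalizedModule p.asIdeal.primeCompl M) with hs | hnt
  · rw [LocCoh.depth, H4Depth.idealDepth_eq_top (Subsingleton.elim _ _)]
    exact le_top
  have h1 := H4LC.depth_le_depth_localization_add_dim (M := M) p.asIdeal hnt
  have hsupp : p ∈ Module.support A N := by
    rw [Module.support_eq_zeroLocus]
    exact hp
  have h2 := (H4Depth.ringKrullDim_quotient_le_supportDim hsupp).trans hr.le
  rw [hd] at h1
  generalize LocCoh.depth (Localization.AtPrime p.asIdeal) (LocalizedModule p.asIdeal.primeCompl M) = x at h1 ⊢
  induction x with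
  | top => exact le_top
  | coe x =>
    have h3 := h1.trans (add_le_add le_rfl h2)
    have h4 : d ≤ x + r := by exact_mod_cast h3
    exact_mod_cast (show i + 1 ≤ x by omega)

end Groth.Agent.S14420
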