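import Groth.Statements.S5671
import Groth.Agent.S14420
import Groth.Agent.H4Goren.Basic
import Groth.Agent.H4Depth.CM

set_option autoImplicit false
universe u
open CategoryTheory
open Dual

namespace Groth.Agent.S5671

/-- First assertion, in the local-algebra form to which its proof reduces it: let `A` be a regular local
ring of dimension `n`, `p ≥ 0`, and `M` a finite `A`-module whose support has dimension at most `n -
p`. Then `Ext^i_A(M, A) = 0` for every `i < p`. (The geometric statement: on a nonsingular
`n`-dimensional variety the sheaves `Ext^i(F, L)` vanish for `i < p` when `F` is coherent with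
support of dimension `≤ n - p` and `L` is locally free.) -/
theorem result (A : Type u) [CommRing A] [IsRegularLocalRing A] (M : Type u) [AddCommGroup M] [Module A M] [Module.Finite A M] (p : ℕ) (hdim : Module.supportDim A M + p ≤ ringKrullDim A) (i : ℕ) (hi : i < p) : Subsingleton (Abelian.Ext (ModuleCat.of A M) (ModuleCat.of A A) i) := by

  rcases subsingleton_or_nontrivial M with hs | hnt
  · refine subsingleton_of_forall_eq 0 fun x => ?_
    rw [← one_smul A x]
    exact H4Depth.ext_smul_eq_zero_of_mem_annihilator_left
      (Module.mem_annihilator.2 fun m => Subsingleton.elim _ 0) x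
  haveI := H4Goren.isGorensteinLocalRing_of_isRegularLocalRing A
  obtain ⟨r, hr⟩ := H4Depth.exists_nat_supportDim_eq (R := A) (M := M)
  obtain ⟨n, hdepth, hn, -⟩ := H4Goren.depth_eq_ringKrullDim A
  refine S14420.result A A M n r i hdepth hr ?_
  rw [hr, hn] at hdim
  have : r + p ≤ n := by exact_mod_cast hdim
  omega

end Groth.Agent.S5671
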