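import Groth.Statements.S3621
import Groth.Agent.H4DualSch.Basic
import Groth.Agent.H4DR.Dualizing.GorensteinLocus
import Groth.Agent.H02CA.GorFlat

set_option autoImplicit false
set_option linter.style.haveILetI false
universe u
open CategoryTheory CategoryTheory.Limits AlgebraicGeometry
attribute [local instance] HasDerivedCategory.standard
open Dual3

namespace Groth.Agent.S3621

/-- Let X be a locally Noetherian scheme which has a dualizing complex (exactness instances as in the
definition of dualizing complexes on schemes). Then the set of points x of X whose local ring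
O_{X,x} is Gorenstein is open. -/
theorem result (X : Scheme.{u}) [IsLocallyNoetherian X] [∀ (U V : Scheme.{u}) (j : U ⟶ V) [IsOpenImmersion j], PreservesFiniteLimits (Scheme.Modules.restrictFunctor j)] [∀ (R : CommRingCat.{u}), PreservesFiniteLimits (tilde.functor R)] (K : DCoh.D X) (hK : Dual2.IsDualizingSch X K) : IsOpen {x : X | LocCoh.IsGorensteinLocalRing (X.presheaf.stalk x)} := by
  refine isOpen_iff_forall_mem_open.2 fun x hx => ?_
  obtain ⟨A, _, j, _, p, rfl⟩ : ∃ (A : Type u) (_ : CommRing A) (j : Spec (CommRingCat.of A) ⟶ X)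
      (_ : IsOpenImmersion j) (p : PrimeSpectrum A), j.base p = x := by
    obtain ⟨y, hy⟩ := X.affineCover.covers x
    exact ⟨_, inferInstance, X.affineCover.f (X.affineCover.idx x),
      (inferInstanceAs (IsOpenImmersion (X.affineCover.f (X.affineCover.idx x)))), y, hy⟩
  obtain ⟨ωA, hωA, -⟩ := hK A j
  haveI := Groth.Agent.H4DualSch.isNoetherianRing_chart j
  have hiff : ∀ q : PrimeSpectrum A, LocCoh.IsGorensteinLocalRing (X.presheaf.stalk (j.base q)) ↔
      LocCoh.IsGorensteinLocalRing (Localization.AtPrime q.asIdeal) := fun q => by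
    obtain ⟨e⟩ := Groth.Agent.H4DualSch.exists_stalk_ringEquiv j q
    exact (Groth.Agent.H02CA.GorFlat.gor_iff_of_ringEquiv e).symm
  refine ⟨j.base '' {q : PrimeSpectrum A | LocCoh.IsGorensteinLocalRing (Localization.AtPrime q.asIdeal)}, ?_,
    j.isOpenEmbedding.isOpenMap _ (Groth.Agent.H4DR.Dualizing.isOpen_gorenstein_locus hωA),
    ⟨p, (hiff p).1 hx, rfl⟩⟩
  rintro _ ⟨q, hq, rfl⟩
  exact (hiff q).2 hq

end Groth.Agent.S3621
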