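-- statement Lim.GrothFrozen.S2074 (Groth/Statements/S2074.lean; the theorem Lim.exists_isProper_descend_of_isLimit);
import Groth.Statements.S2074
import Groth.Agent.H7Lim.Proper.Descend

set_option autoImplicit false
universe u
open CategoryTheory AlgebraicGeometry
open Lim

namespace Groth.Agent.S2074
set_option backward.isDefEq.respectTransparency false

/-- Let `S = lim S_i` be a cofiltered limit of schemes with affine transition morphisms, `f₀ : X₀ → Y₀`
a morphism of quasi-compact quasi-separated schemes over a quasi-compact quasi-separated stage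
`S_{i₀}`, locally of finite type, and `f : X → Y` its base change to `S`. If `f` is proper then the
base change `f_i : X_i → Y_i` to some stage `S_i` is proper. (Base changes are expressed by pullback
squares.) -/
theorem result {I : Type u} [SmallCategory I] [IsCofiltered I]
    (D : I ⥤ Scheme.{u}) (c : Limits.Cone D) (hc : Limits.IsLimit c)
    [∀ (i j : I) (f : i ⟶ j), IsAffineHom (D.map f)] (i₀ : I) [CompactSpace (D.obj i₀)]
    [QuasiSeparatedSpace (D.obj i₀)] {X₀ Y₀ : Scheme.{u}} (f₀ : X₀ ⟶ Y₀) (g₀ : Y₀ ⟶ D.obj i₀)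
    [CompactSpace X₀] [QuasiSeparatedSpace X₀] [CompactSpace Y₀] [QuasiSeparatedSpace Y₀]
    {X Y : Scheme.{u}} (f : X ⟶ Y) (g : Y ⟶ c.pt) (qY : Y ⟶ Y₀) (qX : X ⟶ X₀)
    (hY : IsPullback qY g g₀ (c.π.app i₀)) (hX : IsPullback qX f f₀ qY) [LocallyOfFiniteType f₀] [IsProper f] :
    ∃ (i : I) (φ : i ⟶ i₀) (Xi Yi : Scheme.{u}) (fi : Xi ⟶ Yi) (gi : Yi ⟶ D.obj i) (pY : Yi ⟶ Y₀)
      (pX : Xi ⟶ X₀), IsPullback pY gi g₀ (D.map φ) ∧ IsPullback pX fi f₀ pY ∧ IsProper fi := by
  exact H7Lim.exists_descend_square hc (P := @IsProper) (Q := @LocallyOfFiniteType) i₀ f₀ g₀ H7Lim.descends_isProper hY hX inferInstance inferInstance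

end Groth.Agent.S2074
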