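-- statement Lim.GrothFrozen.S2079 (Groth/Statements/S2079.lean; the theorem Lim.proper_isLimit_of_proper_finitePresentation);
import Groth.Statements.S2079
import Groth.Agent.H7Lim.Proper.StructureMap

set_option autoImplicit false
universe u
open CategoryTheory AlgebraicGeometry
open Lim

namespace Groth.Agent.S2079
set_option backward.isDefEq.respectTransparency false

/-- Let `f : X → S` be proper with `S` quasi-compact and quasi-separated. Then `X` is the limit of a
cofiltered diagram of `S`-schemes which are proper and of finite presentation over `S`, with all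
transition morphisms and all projections `X → X_i` closed immersions. -/
theorem result {X S : Scheme.{u}} (f : X ⟶ S) [IsProper f] [CompactSpace S]
    [QuasiSeparatedSpace S] :
    ∃ (I : Type u) (_ : SmallCategory I) (_ : IsCofiltered I) (D : I ⥤ Over S) (c : Limits.Cone D)
      (_ : Limits.IsLimit c) (e : c.pt ≅ Over.mk f),
      (∀ (i j : I) (a : i ⟶ j), IsClosedImmersion (D.map a).left) ∧
      (∀ i, IsClosedImmersion (c.π.app i).left ∧ IsProper (D.obj i).hom ∧
        LocallyOfFinitePresentation (D.obj i).hom) := by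
  haveI : CompactSpace X := QuasiCompact.compactSpace_of_compactSpace f
  haveI : QuasiSeparatedSpace X := quasiSeparatedSpace_of_quasiSeparated f
  obtain ⟨I, _, _, _, D, c, hc, hfin, hcl, ⟨e⟩⟩ := H7Lim.Approx.exists_closedImmersion_system f
  obtain ⟨hc'⟩ := H7Lim.Approx.nonempty_isLimit_forget hc
  let E := D ⋙ Over.forget S
  haveI : ∀ (i j : Iᵒᵖ) (f : i ⟶ j), IsClosedImmersion (E.map f) := hcl
  haveI : ∀ (i j : Iᵒᵖ) (f : i ⟶ j), IsAffineHom (E.map f) := fun i j f ↦ inferInstance
  haveI : ∀ i, CompactSpace (E.obj i) := fun i ↦ (hfin i).2.2.2.1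
  haveI : ∀ i, QuasiSeparatedSpace (E.obj i) := fun i ↦ (hfin i).2.2.2.2
  haveI hlfp : ∀ i, LocallyOfFinitePresentation (D.obj i).hom := fun i ↦ (hfin i).1
  haveI : ∀ i, LocallyOfFiniteType ((fun i ↦ (D.obj i).hom) i) := fun i ↦ inferInstanceAs (LocallyOfFiniteType (D.obj i).hom)
  let i₀ : Iᵒᵖ := Classical.arbitrary _
  haveI : IsIso e.inv.left := inferInstanceAs (IsIso ((Over.forget S).map e.inv))
  haveI : IsProper (((Over.forget S).mapCone c).π.app i₀ ≫ (D.obj i₀).hom) := by
    show IsProper ((c.π.app i₀).left ≫ (D.obj i₀).hom)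
    rw [show (c.π.app i₀).left ≫ (D.obj i₀).hom = c.pt.hom from Over.w (c.π.app i₀),
      ← MorphismProperty.cancel_left_of_respectsIso @IsProper e.inv.left, Over.w e.inv]
    show IsProper f
    infer_instance
  obtain ⟨i₁, hi₁⟩ := H7Lim.exists_isProper_structureMap (c := (Over.forget S).mapCone c)
    (fun i ↦ (D.obj i).hom) (fun φ ↦ Over.w (D.map φ)) hc' i₀
  let J := {i : I // i₁.unop ≤ i}
  haveI : Nonempty J := ⟨⟨i₁.unop, le_rfl⟩⟩
  haveI : IsDirected J (fun a b => a ≤ b) := ⟨fun a b ↦ by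
    obtain ⟨k, hk₁, hk₂⟩ := directed_of (fun a b : I => a ≤ b) a.1 b.1
    exact ⟨⟨k, a.2.trans hk₁⟩, hk₁, hk₂⟩⟩
  have hmono : Monotone (Subtype.val : J → I) := fun _ _ h ↦ h
  haveI := H7Lim.Approx.initial_op_of_cofinal _ hmono fun j ↦ by
    obtain ⟨k, hk₁, hk₂⟩ := directed_of (fun a b : I => a ≤ b) i₁.unop j
    exact ⟨⟨k, hk₁⟩, hk₂⟩
  refine ⟨Jᵒᵖ, inferInstance, inferInstance, hmono.functor.op ⋙ D, c.whisker hmono.functor.op,
    (Functor.Initial.isLimitWhiskerEquiv hmono.functor.op c).symm hc, e, fun i j a ↦ hcl _ _ _,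
    fun i ↦ ⟨?_, hi₁ (Opposite.op i.unop.1) (homOfLE i.unop.2).op, hlfp _⟩⟩
  exact H7Lim.isClosedImmersion_π_app (c := (Over.forget S).mapCone c) hc' _

end Groth.Agent.S2079
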