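-- statement Lim.GrothFrozen.S9216 (Groth/Statements/S9216.lean; the theorem Lim.exists_closedSubscheme_finitePresentation_fibre_dim_le);
import Groth.Statements.S9216
import Groth.Agent.H7Lim.FibreDimDescend
import Groth.Agent.H7Lim.IdealSystem

set_option autoImplicit false
universe u
open CategoryTheory CategoryTheory.Limits AlgebraicGeometry
open Lim

namespace Groth.Agent.S9216
set_option backward.isDefEq.respectTransparency false

/-- Let S be a quasi-compact quasi-separated scheme, f : X → S a morphism of finite presentation and d a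
natural number. Let Z be a closed subscheme of X such that every fibre of Z → S has dimension at
most d. Then there is a closed subscheme Z' of X containing Z such that Z' → X is of finite
presentation and every fibre of Z' → S has dimension at most d. -/
theorem result {X S Z : Scheme.{u}} [CompactSpace S]
    [QuasiSeparatedSpace S] (f : X ⟶ S) [LocallyOfFinitePresentation f] [QuasiCompact f] [QuasiSeparated f]
    (d : ℕ) (ι : Z ⟶ X) [IsClosedImmersion ι] (hZ : ∀ s : S, topologicalKrullDim ↥((ι ≫ f).fiber s) ≤ d) :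
    ∃ (Z' : Scheme.{u}) (ι' : Z' ⟶ X) (k : Z ⟶ Z'), IsClosedImmersion ι' ∧ LocallyOfFinitePresentation ι' ∧
      k ≫ ι' = ι ∧ ∀ s : S, topologicalKrullDim ↥((ι' ≫ f).fiber s) ≤ d := by
  haveI : CompactSpace X := QuasiCompact.compactSpace_of_compactSpace f
  haveI : QuasiSeparatedSpace X := quasiSeparatedSpace_of_quasiSeparated f
  let D := H7Lim.ftSystem ι.ker
  let DS : (H7Lim.FTIdeal ι.ker)ᵒᵖ ⥤ Scheme.{u} := (Functor.const _).obj S
  let φ : D ⟶ DS :=
    { app := fun J => J.unop.1.subschemeι ≫ f
      naturality := fun J K a => by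
        simp only [D, DS, H7Lim.ftSystem, Functor.const_obj_map, Functor.const_obj_obj, Category.comp_id]
        rw [← Category.assoc, Scheme.IdealSheafData.inclusion_subschemeι] }
  haveI : ∀ i, CompactSpace (DS.obj i) := fun _ => inferInstanceAs (CompactSpace S)
  haveI : ∀ (i j) (a : i ⟶ j), IsAffineHom (DS.map a) := fun _ _ _ => inferInstanceAs (IsAffineHom (𝟙 S))
  haveI : ∀ i, LocallyOfFiniteType (φ.app i) := fun i =>
    inferInstanceAs (LocallyOfFiniteType (i.unop.1.subschemeι ≫ f))
  haveI : ∀ i, QuasiCompact (φ.app i) := fun i =>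
    inferInstanceAs (QuasiCompact (i.unop.1.subschemeι ≫ f))
  have hcl : ∀ i j (a : i ⟶ j),
      IsClosedImmersion (pullback.lift (D.map a) (φ.app i) (φ.naturality a)) := by
    intro i j a
    haveI : IsIso (DS.map a) := inferInstanceAs (IsIso (𝟙 S))
    haveI : IsClosedImmersion (pullback.lift (D.map a) (φ.app i) (φ.naturality a) ≫
        pullback.fst (φ.app j) (DS.map a)) := by
      rw [pullback.lift_fst]
      exact H7Lim.isClosedImmersion_ftSystem_map ι.ker a
    exact IsClosedImmersion.of_comp _ (pullback.fst (φ.app j) (DS.map a))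
  let e := ι.toImage
  have hd : ∀ s : S, topologicalKrullDim ↥((ι.ker.subschemeι ≫ f).fiber s) ≤ d := by
    intro s
    have hp : IsPullback e (ι ≫ f) (ι.ker.subschemeι ≫ f) (𝟙 S) :=
      IsPullback.of_horiz_isIso ⟨by rw [Category.comp_id, ← Category.assoc, Scheme.Hom.toImage_imageι]⟩
    refine le_of_eq_of_le ?_ (hZ s)
    exact (H8Props.FieldDim.dim_fiber_baseChange (ι.ker.subschemeι ≫ f) hp s).symm
  haveI : IsConnected (H7Lim.FTIdeal ι.ker)ᵒᵖ := IsCofiltered.isConnected _
  obtain ⟨J, hJ⟩ := H7Lim.exists_forall_dim_fiber_le φ (H7Lim.ftCone ι.ker)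
    (constCone (H7Lim.FTIdeal ι.ker)ᵒᵖ S) (H7Lim.isLimitFtCone ι.ker) (isLimitConstCone _ _) hcl
    (ι.ker.subschemeι ≫ f)
    (fun J => (Category.comp_id _).trans (by
      show _ = Scheme.IdealSheafData.inclusion J.unop.2.1 ≫ J.unop.1.subschemeι ≫ f
      rw [← Category.assoc, Scheme.IdealSheafData.inclusion_subschemeι])) d hd
  refine ⟨J.unop.1.subscheme, J.unop.1.subschemeι, e ≫ Scheme.IdealSheafData.inclusion J.unop.2.1,
    inferInstance, H7Lim.locallyOfFinitePresentation_of_ker_fg _ (fun U => ?_), ?_, hJ⟩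
  · rw [Scheme.IdealSheafData.ker_subschemeι]
    exact J.unop.2.2 U
  · rw [Category.assoc, Scheme.IdealSheafData.inclusion_subschemeι]
    exact Scheme.Hom.toImage_imageι ι

end Groth.Agent.S9216
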