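import Groth.Statements.S1416
import Groth.Agent.H7Flat.Chain.SupportFibreDim
import Groth.Agent.H22Alg.CohSupport
import Groth.Agent.H10Coh.FinType2
import Groth.Agent.H29Fitt.Sheaf
import Mathlib

set_option autoImplicit false
universe u
open FlatMor

namespace Groth.Agent.S1416

set_option backward.isDefEq.respectTransparency false
set_option maxHeartbeats 1000000

open TopologicalSpace Topology in
/-- The dimension is bounded by the dimensions of the members of an open cover. -/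
theorem dim_le_of_cover {T : Type u} [TopologicalSpace T] (r : WithBot ℕ∞)
    (h : ∀ x : T, ∃ W : Set T, IsOpen W ∧ x ∈ W ∧ topologicalKrullDim W ≤ r) : topologicalKrullDim T ≤ r := by
  rcases isEmpty_or_nonempty T with hT | hT
  · haveI : IsEmpty (IrreducibleCloseds T) := ⟨fun Z => hT.elim Z.2.nonempty.choose⟩
    rw [topologicalKrullDim, Order.krullDim_eq_bot]
    exact bot_le
  refine iSup_le fun p => ?_
  obtain ⟨x, hx⟩ := p.head.2.nonempty
  obtain ⟨W, hW, hxW, hdim⟩ := h x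
  have hmeet : ∀ i, ((Subtype.val : W → T) ⁻¹' (p i : Set T)).Nonempty := fun i =>
    ⟨⟨x, hxW⟩, (p.monotone (Fin.zero_le i)) hx⟩
  let p' : LTSeries {V : IrreducibleCloseds T | ((Subtype.val : W → T) ⁻¹' (V : Set T)).Nonempty} :=
    LTSeries.mk p.length (fun i => ⟨p i, hmeet i⟩) fun i j hij => p.strictMono hij
  refine le_trans (le_of_eq (by rfl)) ((Order.LTSeries.length_le_krullDim
    (p'.map _ (IrreducibleCloseds.orderIsoOfIsOpenEmbedding Subtype.val hW.isOpenEmbedding_subtypeVal).symm.strictMono)).trans hdim)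

open AlgebraicGeometry CategoryTheory in
/-- The dimension of the support in a fibre on an affine chart. -/
theorem dim_chart {X S : Scheme.{u}} (f : X ⟶ S) (F : X.Modules) (hF : Coh.IsCoh F) {V : S.Opens}
    (hV : IsAffineOpen V) {W : X.Opens} (hW : IsAffineOpen W) (hWV : W ≤ f ⁻¹ᵁ V)
    (t : Spec Γ(S, V)) [Algebra Γ(S, V) (Γ(X, W) ⧸ Module.annihilator Γ(X, W) Γ(F, W))]
    (halg : algebraMap Γ(S, V) (Γ(X, W) ⧸ Module.annihilator Γ(X, W) Γ(F, W)) =
      (Ideal.Quotient.mk _).comp (f.appLE V W hWV).hom) :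
    topologicalKrullDim ((Spec.map (CommRingCat.ofHom
        (algebraMap Γ(S, V) (Γ(X, W) ⧸ Module.annihilator Γ(X, W) Γ(F, W))))).fiber t) =
      topologicalKrullDim ↑(f ⁻¹' {hV.fromSpec t} ∩ CohB1.support F ∩ (W : Set X)) := by
  haveI : Module.Finite Γ(X, W) Γ(F, W) := @H10Coh.finite_sections _ F hF.1 hF.2 _ hW
  let I := Module.annihilator Γ(X, W) Γ(F, W)
  let g := Spec.map (CommRingCat.ofHom (algebraMap Γ(S, V) (Γ(X, W) ⧸ I)))
  let j : Spec (CommRingCat.of (Γ(X, W) ⧸ I)) → X :=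
    fun z => hW.fromSpec (PrimeSpectrum.comap (Ideal.Quotient.mk I) z)
  have hj : Topology.IsEmbedding j := hW.fromSpec.isOpenEmbedding.isEmbedding.comp
    (PrimeSpectrum.isClosedEmbedding_comap_of_surjective _ _ Ideal.Quotient.mk_surjective).isEmbedding
  have hjW : ∀ z, j z ∈ W := fun z => by
    have : j z ∈ Set.range hW.fromSpec := ⟨_, rfl⟩
    rwa [hW.range_fromSpec] at this
  have hpj : ∀ z, hW.primeIdealOf ⟨j z, hjW z⟩ = PrimeSpectrum.comap (Ideal.Quotient.mk I) z := fun z =>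
    hW.fromSpec.isOpenEmbedding.injective (hW.fromSpec_primeIdealOf _)
  have hfj : ∀ z, f (j z) = hV.fromSpec (g z) := fun z => by
    have h1 := IsAffineOpen.comap_primeIdealOf_appLE (f := f) V hV W hW hWV (hjW z)
    rw [hpj, ← PrimeSpectrum.comap_comp_apply] at h1
    show _ = hV.fromSpec (PrimeSpectrum.comap (algebraMap Γ(S, V) (Γ(X, W) ⧸ I)) z)
    rw [halg, h1, hV.fromSpec_primeIdealOf]
  have hrange : j '' (g ⁻¹' {t}) = f ⁻¹' {hV.fromSpec t} ∩ CohB1.support F ∩ (W : Set X) := by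
    ext x
    constructor
    · rintro ⟨z, hz, rfl⟩
      refine ⟨⟨(hfj z).trans (congrArg hV.fromSpec hz), ?_⟩, hjW z⟩
      show ¬ Subsingleton _
      rw [not_subsingleton_iff_nontrivial,
        H22Alg.CohSupport.nontrivial_stalk_iff F hF.1 hW ⟨j z, hjW z⟩, Module.mem_support_iff_of_finite, hpj]
      intro a ha
      show Ideal.Quotient.mk I a ∈ z.asIdeal
      rw [Ideal.Quotient.eq_zero_iff_mem.mpr ha]
      exact zero_mem _
    · rintro ⟨⟨hfx, hxs⟩, hxW⟩
      have hq : hW.primeIdealOf ⟨x, hxW⟩ ∈ Set.range (PrimeSpectrum.comap (Ideal.Quotient.mk I)) := by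
        rw [_root_.range_comap_of_surjective _ _ Ideal.Quotient.mk_surjective, Ideal.mk_ker, PrimeSpectrum.mem_zeroLocus]
        exact Module.mem_support_iff_of_finite.mp ((H22Alg.CohSupport.nontrivial_stalk_iff F hF.1 hW ⟨x, hxW⟩).mp
          (not_subsingleton_iff_nontrivial.mp hxs))
      obtain ⟨z, hz⟩ := hq
      have hzx : j z = x := by
        show hW.fromSpec (PrimeSpectrum.comap (Ideal.Quotient.mk I) z) = x
        rw [hz, hW.fromSpec_primeIdealOf]
      refine ⟨z, hV.fromSpec.isOpenEmbedding.injective ?_, hzx⟩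
      rw [← hfj z, hzx]
      exact hfx
  rw [IsHomeomorph.topologicalKrullDim_eq _ (g.fiberHomeo t).isHomeomorph, ← hrange]
  exact IsHomeomorph.topologicalKrullDim_eq _ (hj.homeomorphImage (g ⁻¹' {t})).isHomeomorph

open AlgebraicGeometry CategoryTheory in
/-- Sections of a flat module over affine opens are flat. -/
theorem flat_sections {X S : Scheme.{u}} (f : X ⟶ S) (F : X.Modules) (hF : Coh.IsQCoh F)
    (hfl : FlatMod.IsFlatOver f F) {V : S.Opens} (hV : IsAffineOpen V) {W : X.Opens} (hW : IsAffineOpen W)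
    (hWV : W ≤ f ⁻¹ᵁ V) :
    letI := (f.appLE V W hWV).hom.toAlgebra
    letI := Module.compHom Γ(F, W) (f.appLE V W hWV).hom
    Module.Flat Γ(S, V) Γ(F, W) := by
  letI := (f.appLE V W hWV).hom.toAlgebra
  letI := Module.compHom Γ(F, W) (f.appLE V W hWV).hom
  haveI : IsScalarTower Γ(S, V) Γ(X, W) Γ(F, W) := IsScalarTower.of_algebraMap_smul fun _ _ => rfl
  refine Module.flat_of_isLocalized_maximal Γ(X, W) Γ(F, W) (fun Q => LocalizedModule Q.primeCompl Γ(F, W))
    (fun Q => LocalizedModule.mkLinearMap Q.primeCompl Γ(F, W)) fun Q hQ => ?_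
  obtain ⟨x, rfl⟩ : ∃ x : W, (hW.primeIdealOf x).asIdeal = Q := ⟨⟨hW.fromSpec ⟨Q, hQ.isPrime⟩, by
      have : hW.fromSpec ⟨Q, hQ.isPrime⟩ ∈ Set.range hW.fromSpec := ⟨_, rfl⟩
      rwa [hW.range_fromSpec] at this⟩,
    congrArg PrimeSpectrum.asIdeal (hW.fromSpec.isOpenEmbedding.injective (hW.fromSpec_primeIdealOf _))⟩
  letI := TopCat.Presheaf.algebra_section_stalk X.presheaf x
  letI := TopCat.Presheaf.algebra_section_stalk S.presheaf (⟨f x.1, hWV x.2⟩ : V)
  letI := Module.compHom (F.presheaf.stalk x.1) (algebraMap Γ(X, W) (X.presheaf.stalk x.1))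
  letI := FlatMod.moduleStalkOver f F x.1
  haveI : Module.Flat (S.presheaf.stalk (f x.1)) (F.presheaf.stalk x.1) := hfl x.1
  letI := Module.compHom (F.presheaf.stalk x.1) (algebraMap Γ(S, V) (S.presheaf.stalk (f x.1)))
  haveI : IsScalarTower Γ(S, V) (S.presheaf.stalk (f x.1)) (F.presheaf.stalk x.1) :=
    IsScalarTower.of_algebraMap_smul fun _ _ => rfl
  have hcomm : ∀ a, (f.stalkMap x.1).hom (algebraMap Γ(S, V) (S.presheaf.stalk (f x.1)) a) =
      algebraMap Γ(X, W) (X.presheaf.stalk x.1) ((f.appLE V W hWV).hom a) := fun a => by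
    show f.stalkMap x.1 (S.presheaf.germ V (f x.1) (hWV x.2) a) = _
    rw [Scheme.Hom.germ_stalkMap_apply, Scheme.Hom.appLE, CommRingCat.hom_comp, RingHom.comp_apply]
    exact (TopCat.Presheaf.germ_res_apply X.presheaf _ x.1 x.2 _).symm
  haveI : IsScalarTower Γ(S, V) Γ(X, W) (F.presheaf.stalk x.1) := IsScalarTower.of_algebraMap_smul fun a m => by
    show algebraMap Γ(X, W) (X.presheaf.stalk x.1) ((f.appLE V W hWV).hom a) • m = (f.stalkMap x.1).hom (algebraMap Γ(S, V) (S.presheaf.stalk (f x.1)) a) • m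
    rw [hcomm]
  haveI : IsLocalizedModule (hW.primeIdealOf x).asIdeal.primeCompl (H29Fitt.germLin F x) :=
    H29Fitt.isLocalizedModule_germLin F hF hW x
  haveI : IsLocalization (hV.primeIdealOf ⟨f x.1, hWV x.2⟩).asIdeal.primeCompl (S.presheaf.stalk (f x.1)) :=
    hV.isLocalization_stalk ⟨f x.1, hWV x.2⟩
  haveI : Module.Flat Γ(S, V) (S.presheaf.stalk (f x.1)) :=
    IsLocalization.flat _ (hV.primeIdealOf ⟨f x.1, hWV x.2⟩).asIdeal.primeCompl
  haveI : Module.Flat Γ(S, V) (F.presheaf.stalk x.1) := Module.Flat.trans Γ(S, V) (S.presheaf.stalk (f x.1)) _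
  exact Module.Flat.of_linearEquiv
    ((IsLocalizedModule.iso (hW.primeIdealOf x).asIdeal.primeCompl (H29Fitt.germLin F x)).restrictScalars Γ(S, V))

open AlgebraicGeometry CategoryTheory Limits in
/-- Let f : X → S be locally of finite type with S irreducible with generic point η, and F a
quasi-coherent O_X-module of finite type which is flat over S. If the support of F in the fibre over
η has dimension ≤ r then the support of F in every fibre has dimension ≤ r (supports in fibres taken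
as subspaces of X: the points of the fibre where the stalk of F is nonzero). -/
theorem result {X S : Scheme.{u}} (f : X ⟶ S) [LocallyOfFiniteType f] [IrreducibleSpace ↑S]
    (F : X.Modules) (hF : Coh.IsCoh F) (hfl : FlatMod.IsFlatOver f F) (r : WithBot ℕ∞)
    (h : topologicalKrullDim ↑(f ⁻¹' {genericPoint ↑S} ∩ CohB1.support F) ≤ r) (s : S) :
    topologicalKrullDim ↑(f ⁻¹' {s} ∩ CohB1.support F) ≤ r := by
  refine dim_le_of_cover r fun x => ?_
  obtain ⟨x, hxs, hxF⟩ := x
  obtain ⟨V, hV, hxV, -⟩ := exists_isAffineOpen_mem_and_subset (X := S) (x := f x) (U := ⊤) trivial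
  obtain ⟨W, hW, hxW, hWV⟩ := exists_isAffineOpen_mem_and_subset (X := X) (x := x) (U := f ⁻¹ᵁ V) hxV
  refine ⟨Subtype.val ⁻¹' (W : Set X), W.2.preimage continuous_subtype_val, hxW, ?_⟩
  have hsV : s ∈ V := (show f x = s from hxs) ▸ hxV
  have hηV : genericPoint ↑S ∈ V := ((genericPoint_spec ↑S).specializes (Set.mem_univ s)).mem_open V.2 hsV
  letI : Algebra Γ(S, V) Γ(X, W) := (f.appLE V W hWV).hom.toAlgebra
  letI : Module Γ(S, V) Γ(F, W) := Module.compHom _ (algebraMap Γ(S, V) Γ(X, W))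
  haveI : IsScalarTower Γ(S, V) Γ(X, W) Γ(F, W) := IsScalarTower.of_algebraMap_smul fun _ _ => rfl
  haveI : Algebra.FiniteType Γ(S, V) Γ(X, W) := f.finiteType_appLE hV hW hWV
  haveI : Module.Finite Γ(X, W) Γ(F, W) := @H10Coh.finite_sections _ F hF.1 hF.2 _ hW
  haveI : Module.Flat Γ(S, V) Γ(F, W) := flat_sections f F hF.1 hfl hV hW hWV
  let I := Module.annihilator Γ(X, W) Γ(F, W)
  let C := Γ(X, W) ⧸ I
  haveI : Algebra.FiniteType Γ(S, V) C := Algebra.FiniteType.trans ‹Algebra.FiniteType Γ(S, V) Γ(X, W)› inferInstance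
  letI : Module C Γ(F, W) := (Module.isTorsionBySet_annihilator Γ(X, W) Γ(F, W)).module
  haveI : IsScalarTower Γ(X, W) C Γ(F, W) :=
    (Module.isTorsionBySet_annihilator Γ(X, W) Γ(F, W)).isScalarTower
  haveI : Module.Finite C Γ(F, W) := Module.Finite.of_restrictScalars_finite Γ(X, W) C Γ(F, W)
  haveI : IsScalarTower Γ(S, V) C Γ(F, W) := IsScalarTower.of_algebraMap_smul fun a m => by
    rw [IsScalarTower.algebraMap_apply Γ(S, V) Γ(X, W) C, algebraMap_smul, algebraMap_smul]
  have hann : Module.annihilator C Γ(F, W) ≤ nilradical C := fun c hc => by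
    obtain ⟨b, rfl⟩ := Ideal.Quotient.mk_surjective c
    rw [Ideal.Quotient.eq_zero_iff_mem.mpr (show b ∈ I from Module.mem_annihilator.mpr fun m => ?_)]
    · exact zero_mem _
    · have := Module.mem_annihilator.mp hc m
      rwa [← Ideal.Quotient.algebraMap_eq, algebraMap_smul] at this
  let t := hV.primeIdealOf ⟨s, hsV⟩
  let t₀ := hV.primeIdealOf ⟨genericPoint ↑S, hηV⟩
  have hsp : (t₀ : Spec Γ(S, V)) ⤳ t := by
    refine hV.fromSpec.isOpenEmbedding.isEmbedding.specializes_iff.mp ?_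
    rw [hV.fromSpec_primeIdealOf, hV.fromSpec_primeIdealOf]
    exact (genericPoint_spec ↑S).specializes (Set.mem_univ s)
  have key := H7Flat.Chain.dim_fiber_le_of_flat_faithful (A := Γ(S, V)) (C := C) (N := Γ(F, W)) hann hsp
  have e₁ := dim_chart f F hF hV hW hWV t rfl
  have e₂ := dim_chart f F hF hV hW hWV t₀ rfl
  rw [hV.fromSpec_primeIdealOf] at e₁ e₂
  let A₁ : Set X := f ⁻¹' {s} ∩ CohB1.support F
  let e : ↑(Subtype.val ⁻¹' (W : Set X) : Set A₁) ≃ₜ ↑(A₁ ∩ (W : Set X)) :=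
    { toFun := fun z => ⟨z.1.1, z.1.2, z.2⟩
      invFun := fun z => ⟨⟨z.1, z.2.1⟩, z.2.2⟩ }
  rw [IsHomeomorph.topologicalKrullDim_eq _ e.isHomeomorph]
  calc topologicalKrullDim ↑(A₁ ∩ (W : Set X)) = _ := e₁.symm
    _ ≤ _ := key
    _ = _ := e₂
    _ ≤ topologicalKrullDim ↑(f ⁻¹' {genericPoint ↑S} ∩ CohB1.support F) :=
      (Topology.IsEmbedding.inclusion Set.inter_subset_left).isInducing.topologicalKrullDim_le
    _ ≤ r := h

end Groth.Agent.S1416
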