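import Groth.Statements.S7169
import Groth.Agent.H8Props.PseudoCoh.Morphism

set_option autoImplicit false
universe u
attribute [local instance] HasDerivedCategory.standard
open FlatMor

namespace Groth.Agent.S7169

open AlgebraicGeometry CategoryTheory Limits in
/-- If X and Y are pseudo-coherent over a base scheme S (via g : Y → S and f ≫ g), then any S-morphism f
: X → Y is pseudo-coherent. -/
theorem result {X Y S : Scheme.{u}} (f : X ⟶ Y) (g : Y ⟶ S)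
    (hX : MoreMor.IsPseudoCoherentMor (f ≫ g)) (hY : MoreMor.IsPseudoCoherentMor g) : MoreMor.IsPseudoCoherentMor f := by
  rw [HasRingHomProperty.iff_exists_appLE (P := @MoreMor.IsPseudoCoherentMor)
    (fun R S T _ _ _ _ r _ g hg => (Groth.Agent.H8Props.PseudoCoh.pcRing_away r S).comp hg)]
  intro x
  obtain ⟨_, ⟨W, hW, rfl⟩, hxW, -⟩ :=
    S.isBasis_affineOpens.exists_subset_of_mem_open (u := Set.univ) (Set.mem_univ (g (f x))) isOpen_univ
  obtain ⟨_, ⟨V, hV, rfl⟩, hxV, hVW⟩ :=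
    Y.isBasis_affineOpens.exists_subset_of_mem_open (u := (g ⁻¹ᵁ W : Set Y)) hxW (g ⁻¹ᵁ W).2
  obtain ⟨_, ⟨U, hU, rfl⟩, hxU, hUV⟩ :=
    X.isBasis_affineOpens.exists_subset_of_mem_open (u := (f ⁻¹ᵁ V : Set X)) hxV (f ⁻¹ᵁ V).2
  refine ⟨⟨V, hV⟩, ⟨U, hU⟩, hxU, hUV, ?_⟩
  have h1 : Groth.Agent.H8Props.PseudoCoh.PCRing (g.appLE W V hVW).hom :=
    HasRingHomProperty.appLE (P := @MoreMor.IsPseudoCoherentMor) g hY ⟨W, hW⟩ ⟨V, hV⟩ hVW
  have h2 := HasRingHomProperty.appLE (P := @MoreMor.IsPseudoCoherentMor) (f ≫ g) hX ⟨W, hW⟩ ⟨U, hU⟩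
    (le_trans (α := X.Opens) hUV (fun y hy => hVW hy))
  refine Groth.Agent.H8Props.PseudoCoh.PCRing.of_comp h1 ?_
  rw [← CommRingCat.hom_comp, Scheme.Hom.appLE_comp_appLE f g W V U hVW hUV]
  exact h2

end Groth.Agent.S7169
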