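import Groth.Statements.S1561
import Mathlib
import Groth.Agent.H22Alg.GeomRegularAt
import Groth.Agent.H8Props.FieldDimFibre

set_option autoImplicit false
universe u
open CategoryTheory CategoryTheory.Limits AlgebraicGeometry
open Variety

namespace Groth.Agent.S1561

/-- Let X be reduced and locally of finite type over a perfect field k. Then a point lies in the smooth
locus of X → Spec k exactly when its local ring is regular, and this locus is dense in X. -/
theorem result (k : Type u) [Field k] (X : Scheme.{u}) [X.Over (Spec (CommRingCat.of k))] [PerfectField k] [IsReduced X]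
    [LocallyOfFinitePresentation (X ↘ (Spec (CommRingCat.of k)))] :
    (∀ x : X, x ∈ (X ↘ (Spec (CommRingCat.of k))).smoothLocus ↔ IsRegularLocalRing (X.presheaf.stalk x)) ∧
      Dense ((X ↘ (Spec (CommRingCat.of k))).smoothLocus : Set X) := by
  have key : ∀ x : X, x ∈ (X ↘ (Spec (CommRingCat.of k))).smoothLocus ↔ IsRegularLocalRing (X.presheaf.stalk x) := by
    refine fun x => ⟨Groth.Agent.H22Alg.GeomRegularAt.regular_of_mem_smoothLocus k X x, fun h => ?_⟩
    haveI := h
    letI := Curv2.stalkAlgebra k X x
    exact Groth.Agent.H22Alg.GeomRegularAt.mem_smoothLocus_of_isAdicFormallySmooth k X x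
      (Groth.Agent.H05EGA4.isAdicFormallySmooth_of_perfectField k (X.presheaf.stalk x))
  refine ⟨key, dense_iff_closure_eq.mpr (Set.eq_univ_of_forall fun y => ?_)⟩
  obtain ⟨η, hη, hc⟩ := Groth.Agent.H8Props.FieldDim.exists_component_generization y
  have hmem : η ∈ (X ↘ (Spec (CommRingCat.of k))).smoothLocus := by
    rw [key]
    let _ := (isField_stalk_of_closure_mem_irreducibleComponents X η hc).toField
    infer_instance
  exact closure_mono (Set.singleton_subset_iff.mpr hmem) hη.mem_closure

end Groth.Agent.S1561
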