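import Groth.Statements.S2054
import Groth.Agent.H1CAlg.ReflexiveNormal

set_option autoImplicit false
universe u
open CAlg

namespace Groth.Agent.S2054

/-- Let `R` be a Noetherian normal domain and `M` a finite `R`-module. Then `M` is reflexive (the map to
its double dual is bijective) if and only if `M` is torsion free and satisfies Serre's condition
`(S_2)`. -/
theorem result {R M : Type u} [CommRing R] [IsDomain R] [IsNoetherianRing R]
    [IsIntegrallyClosed R] [AddCommGroup M] [Module R M] [Module.Finite R M] :
    Module.IsReflexive R M ↔ NoZeroSMulDivisors R M ∧ LocCoh.HasSk 2 R M := by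
  rw [Groth.Agent.H1CAlg.isReflexive_iff_torsionFree_S2]
  refine and_congr_left' ⟨fun _ => ⟨fun h => smul_eq_zero.mp h⟩, fun h => ⟨fun r hr x y hxy => ?_⟩⟩
  exact sub_eq_zero.mp ((h.eq_zero_or_eq_zero_of_smul_eq_zero
    (show r • (x - y) = 0 by rw [smul_sub, sub_eq_zero]; exact hxy)).resolve_left hr.ne_zero)

end Groth.Agent.S2054
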