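import Groth.Statements.S1510
import Groth.Agent.H8Props.PseudoCoh.SmoothCancel

set_option autoImplicit false
universe u
attribute [local instance] HasDerivedCategory.standard
open FlatMor

namespace Groth.Agent.S1510

open AlgebraicGeometry CategoryTheory Limits in
/-- Let f : X → Y and g : Y → S with g smooth and f ≫ g perfect. Then f is perfect. -/
theorem result {X Y S : Scheme.{u}} (f : X ⟶ Y) (g : Y ⟶ S) [Smooth g] (h : MoreMor.IsPerfectMor (f ≫ g)) :
    MoreMor.IsPerfectMor f := by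
  rw [HasRingHomProperty.iff_exists_appLE (P := @MoreMor.IsPerfectMor)
    (fun R S T _ _ _ _ r _ g hg => (Groth.Agent.H8Props.PseudoCoh.perfRing_away r S).comp hg)]
  intro x
  obtain ⟨W, hW, V, hV, hxV, hVW, hstd⟩ := (Smooth.iff_forall_exists_isStandardSmooth g).mp ‹_› (f x)
  obtain ⟨_, ⟨U, hU, rfl⟩, hxU, hUV⟩ :=
    X.isBasis_affineOpens.exists_subset_of_mem_open (u := (f ⁻¹ᵁ V : Set X)) hxV (f ⁻¹ᵁ V).2
  refine ⟨⟨V, hV⟩, ⟨U, hU⟩, hxU, hUV, Groth.Agent.H8Props.PseudoCoh.perfRing_of_comp_isStandardSmooth hstd ?_ ?_⟩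
  · exact HasRingHomProperty.appLE (P := @MoreMor.IsPseudoCoherentMor) g
      (Groth.Agent.H8Props.PseudoCoh.isPseudoCoherentMor_of_flat g) ⟨W, hW⟩ ⟨V, hV⟩ hVW
  · rw [← CommRingCat.hom_comp, Scheme.Hom.appLE_comp_appLE f g W V U hVW hUV]
    exact HasRingHomProperty.appLE (P := @MoreMor.IsPerfectMor) (f ≫ g) h ⟨W, hW⟩ ⟨U, hU⟩ _

end Groth.Agent.S1510
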