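import Groth.Statements.S10829
import Mathlib
import Groth.Agent.H22Alg.ProjDim2

set_option autoImplicit false
universe u
open AlgebraicGeometry
open Variety

namespace Groth.Agent.S10829

/-- For a field k and a natural number n, projective n-space over k (Proj of the polynomial ring in n +
1 variables graded by degree) has Krull dimension n as a topological space. (The published statement
also gives affine n-space dimension n; that half is the Krull dimension of a polynomial ring and is
not restated here.) -/
theorem result (k : Type u) [Field k] (n : ℕ) :
    topologicalKrullDim ↥(CohB1.ProjSpace n k) = (n : WithBot ℕ∞) := by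
  obtain ⟨x, hx, hq⟩ := Groth.Agent.H22Alg.ProjDim.exists_bot_point k n
  have h : closure ({x} : Set (ProjectiveSpectrum (CohB1.polyGrading n k))) = Set.univ :=
    Set.eq_univ_of_forall fun y => (ProjectiveSpectrum.le_iff_mem_closure _ x y).mp
      (show x.asHomogeneousIdeal.toIdeal ≤ y.asHomogeneousIdeal.toIdeal from hx ▸ bot_le)
  have h1 := Groth.Agent.H22Alg.ProjDim.dim_closure k n x
  rw [h, hq, Nat.add_sub_cancel] at h1
  rw [← h1]
  exact (IsHomeomorph.topologicalKrullDim_eq _ (Homeomorph.Set.univ _).isHomeomorph).symm

end Groth.Agent.S10829
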