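import Groth.Statements.S1536
import Mathlib
import Groth.Agent.H22Alg.GlobalFunctions
import Groth.Agent.H10Coh.Pn.Results

set_option autoImplicit false
universe u
open CategoryTheory CategoryTheory.Limits AlgebraicGeometry
open Variety

namespace Groth.Agent.S1536

/-- For a proper scheme X over a field k which is geometrically reduced and geometrically connected,
H^0(X, O_X) is one-dimensional over k, i.e. the global functions are the constants. -/
theorem result (k : Type u) [Field k] (X : Scheme.{u}) [X.Over (Spec (CommRingCat.of k))] [IsProper (X ↘ (Spec (CommRingCat.of k)))]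
    [GeometricallyReduced (X ↘ (Spec (CommRingCat.of k)))] [GeometricallyConnected (X ↘ (Spec (CommRingCat.of k)))] :
    Module.finrank k (Coh.HH X (Coh.structureModule X) 0) = 1 := by
  set f := X ↘ Spec (CommRingCat.of k)
  letI := Groth.Agent.H22Alg.GlobalFunctions.algΓ f
  have hb : IsReduced (pullback f (Spec.map (CommRingCat.ofHom (algebraMap k k)))) :=
    GeometricallyReduced.geometrically_isReduced _ _ _ (.of_hasPullback _ _)
  haveI hid : IsIso (Spec.map (CommRingCat.ofHom (algebraMap k k))) := by
    rw [show CommRingCat.ofHom (algebraMap k k) = 𝟙 (CommRingCat.of k) from rfl, Spec.map_id]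
    infer_instance
  haveI : IsReduced X := isReduced_of_isOpenImmersion (inv (pullback.fst f (Spec.map (CommRingCat.ofHom (algebraMap k k)))))
  haveI : ConnectedSpace ↥(pullback f (Spec.map (CommRingCat.ofHom (algebraMap k k)))) :=
    GeometricallyConnected.geometrically_connectedSpace _ _ _ (.of_hasPullback _ _)
  haveI : ConnectedSpace X :=
    (pullback.fst f (Spec.map (CommRingCat.ofHom (algebraMap k k)))).surjective.connectedSpace
      (pullback.fst f (Spec.map (CommRingCat.ofHom (algebraMap k k)))).continuous
  let e : Coh.HH X (Coh.structureModule X) 0 ≃ₗ[k] Γ(X, ⊤) :=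
    { Groth.Agent.H10Coh.HH0Equiv (Coh.structureModule X) with
      map_smul' := fun c x => (Groth.Agent.H10Coh.HH0Equiv_smul (Coh.structureModule X)
        (f.appTop ((Scheme.ΓSpecIso (CommRingCat.of k)).inv c)) x).trans rfl }
  rw [e.finrank_eq]
  exact Groth.Agent.H22Alg.GlobalFunctions.finrank_algΓ_eq_one f

end Groth.Agent.S1536
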