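import Groth.Statements.S9372
import Groth.Agent.H29Omega.ConormalMapStalk
import Groth.Agent.H29Slice.RestrictKer
import Mathlib

set_option autoImplicit false
universe u
open OmegaSh

namespace Groth.Agent.S9372

open CategoryTheory CategoryTheory.Limits AlgebraicGeometry TopologicalSpace TensorProduct
open Groth.Agent.H06Mod Groth.Agent.H29Omega

attribute [local instance] Groth.Agent.H06Mod.stalkAlgebra

variable {Z X Z' X' : Scheme.{u}} {i : Z ⟶ X} {i' : Z' ⟶ X'} [IsImmersion i] [IsImmersion i']
  [QuasiCompact i] [QuasiCompact i'] {g : X ⟶ X'} {gZ : Z ⟶ Z'} (hsq : IsPullback i gZ g i')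

include hsq in
lemma ker_stalk_eq (z : Z) :
    RingHom.ker (i.stalkMap z).hom =
      (RingHom.ker (i'.stalkMap (gZ z)).hom).map (baseStalkMap i' i g gZ hsq.w.symm z).hom := by
  obtain ⟨U, hU, -, hcl⟩ := exists_affine_isClosedImmersion i' (gZ z) ⊤ trivial
  have hz : i z ∈ g ⁻¹ᵁ U.1 := by
    show (i ≫ g) z ∈ U.1
    rw [hsq.w]; exact hU
  obtain ⟨_, ⟨W, hW : IsAffineOpen W, rfl⟩, hzW, hle : W ≤ g ⁻¹ᵁ U.1⟩ :=
    X.isBasis_affineOpens.exists_subset_of_mem_open hz (g ⁻¹ᵁ U.1).isOpen
  obtain ⟨hcl', hker⟩ := H29Slice.restrict_baseChange hsq.flip U.2 hcl hW hle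
  rw [H29Slice.ker_stalkMap_of_restrict i' U hcl (gZ z) hU,
    H29Slice.ker_stalkMap_of_restrict i ⟨W, hW⟩ hcl' z hzW, hker, Ideal.map_map, Ideal.map_map]
  congr 1
  exact RingHom.ext fun s => (baseStalkMap_germ hsq.w.symm z U.1 hU W hle hzW s).symm

include hsq in
lemma surjective_stalk {φ : (Scheme.Modules.pullback gZ).obj (Omega.conormal i') ⟶ Omega.conormal i}
    (hφ : OmegaSh.IsConormalMap i i' g gZ φ) (z : Z) : Function.Surjective (stalkLin φ z) := by
  rw [← LinearMap.range_eq_top, eq_top_iff, ← span_cgen i z, Submodule.span_le]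
  rintro _ ⟨⟨a, ha⟩, rfl⟩
  have ha' := ha
  rw [ker_stalk_eq hsq z, Ideal.map] at ha'
  suffices ∀ a, a ∈ Submodule.span (X.presheaf.stalk (i z))
      ((baseStalkMap i' i g gZ hsq.w.symm z).hom '' (RingHom.ker (i'.stalkMap (gZ z)).hom : Set _)) →
      ∀ h : a ∈ RingHom.ker (i.stalkMap z).hom, cgen i z ⟨a, h⟩ ∈ LinearMap.range (stalkLin φ z) from
    this a ha' ha
  intro a ha
  induction ha using Submodule.span_induction with
  | mem x hx =>
    obtain ⟨b, hb, rfl⟩ := hx
    exact fun _ => ⟨_, stalkLin_conormalMap hφ z ⟨b, hb⟩⟩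
  | zero =>
    intro h
    rw [show (⟨0, h⟩ : RingHom.ker (i.stalkMap z).hom) = 0 from rfl, map_zero]
    exact zero_mem _
  | add x y hx hy ihx ihy =>
    intro h
    have hx' : x ∈ RingHom.ker (i.stalkMap z).hom := by rw [ker_stalk_eq hsq z]; exact hx
    have hy' : y ∈ RingHom.ker (i.stalkMap z).hom := by rw [ker_stalk_eq hsq z]; exact hy
    rw [show (⟨x + y, h⟩ : RingHom.ker (i.stalkMap z).hom) = ⟨x, hx'⟩ + ⟨y, hy'⟩ from rfl, map_add]
    exact add_mem (ihx hx') (ihy hy')
  | smul r x hx ih =>
    intro h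
    have hx' : x ∈ RingHom.ker (i.stalkMap z).hom := by rw [ker_stalk_eq hsq z]; exact hx
    rw [show (⟨r • x, h⟩ : RingHom.ker (i.stalkMap z).hom) = r • ⟨x, hx'⟩ from rfl, cgen_smul]
    exact Submodule.smul_mem _ _ (ih hx')

include hsq in
lemma injective_stalk {φ : (Scheme.Modules.pullback gZ).obj (Omega.conormal i') ⟶ Omega.conormal i}
    (hφ : OmegaSh.IsConormalMap i i' g gZ φ) [Flat g] (z : Z) : Function.Injective (stalkLin φ z) := by
  let N := ((Scheme.Modules.pullback gZ).obj (Omega.conormal i')).presheaf.stalk z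
  let β := (baseStalkMap i' i g gZ hsq.w.symm z).hom
  let J' := RingHom.ker (i'.stalkMap (gZ z)).hom
  let J := RingHom.ker (i.stalkMap z).hom
  letI : Algebra (X'.presheaf.stalk (i' (gZ z))) (X.presheaf.stalk (i z)) := β.toAlgebra
  haveI : Module.Flat (X'.presheaf.stalk (i' (gZ z))) (X.presheaf.stalk (i z)) := by
    have h : β.Flat := by
      show ((X'.presheaf.stalkSpecializes _ ≫ g.stalkMap (i z))).hom.Flat
      rw [CommRingCat.hom_comp]
      refine RingHom.Flat.comp ?_ (Flat.stalkMap g (i z))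
      refine RingHom.Flat.of_bijective ?_
      have e : g (i z) = i' (gZ z) := by
        show (i ≫ g) z = (gZ ≫ i') z
        rw [hsq.w]
      haveI : IsIso (X'.presheaf.stalkSpecializes (specializes_of_eq e)) :=
        ⟨⟨X'.presheaf.stalkSpecializes (specializes_of_eq e.symm), by simp, by simp⟩⟩
      exact ConcreteCategory.bijective_of_isIso _
    exact h
  let m : X.presheaf.stalk (i z) ⊗[X'.presheaf.stalk (i' (gZ z))] J' →ₗ[X.presheaf.stalk (i z)]
      X.presheaf.stalk (i z) :=
    LinearMap.liftBaseChange (X.presheaf.stalk (i z))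
      ((Algebra.linearMap _ (X.presheaf.stalk (i z))).comp (Submodule.subtype J'))
  have hm : Function.Injective m := by
    have h1 := Module.Flat.lTensor_preserves_injective_linearMap
      (M := X.presheaf.stalk (i z)) (Submodule.subtype J') Subtype.val_injective
    have h2 : ⇑m = ⇑(TensorProduct.rid (X'.presheaf.stalk (i' (gZ z))) (X.presheaf.stalk (i z))) ∘
        ⇑((Submodule.subtype J').lTensor (X.presheaf.stalk (i z))) := by
      funext t
      induction t using TensorProduct.induction_on with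
      | zero => simp
      | add a b ha hb => simp only [Function.comp_apply, map_add] at ha hb ⊢; rw [ha, hb]
      | tmul r a => simp [m, Algebra.smul_def, mul_comm]
    rw [h2]; exact (LinearEquiv.injective _).comp h1
  have hmr : LinearMap.range m = J := by
    refine le_antisymm ?_ ?_
    · rintro _ ⟨t, rfl⟩
      induction t using TensorProduct.induction_on with
      | zero => simp
      | add a b ha hb => rw [map_add]; exact add_mem ha hb
      | tmul r a =>
        simp only [m, LinearMap.liftBaseChange_tmul]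
        exact Ideal.mul_mem_left _ r (baseStalkMap_mem_ker hsq.w.symm z a)
    · rw [show J = _ from ker_stalk_eq hsq z, Ideal.map_le_iff_le_comap]
      intro a ha
      exact ⟨1 ⊗ₜ ⟨a, ha⟩, by simp [m]; rfl⟩
  let e : X.presheaf.stalk (i z) ⊗[X'.presheaf.stalk (i' (gZ z))] J' ≃ₗ[X.presheaf.stalk (i z)] J :=
    (LinearEquiv.ofInjective m hm).trans (LinearEquiv.ofEq _ _ hmr)
  letI : Module (X.presheaf.stalk (i z)) N := Module.compHom N (i.stalkMap z).hom
  letI : Module (X'.presheaf.stalk (i' (gZ z))) N := Module.compHom N β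
  haveI : IsScalarTower (X'.presheaf.stalk (i' (gZ z))) (X.presheaf.stalk (i z)) N :=
    .of_algebraMap_smul fun _ _ => rfl
  let f0 : J' →ₗ[X'.presheaf.stalk (i' (gZ z))] N :=
    { toFun := fun a => pullStalk gZ (Omega.conormal i') z (cgen i' (gZ z) a)
      map_add' := fun a b => by rw [map_add, map_add]
      map_smul' := fun r a => by
        rw [cgen_smul, pullStalk_smul]
        exact congrArg (· • _)
          (congr($(congrArg CommRingCat.Hom.hom (baseStalkMap_comp i' i g gZ hsq.w.symm z)) r)).symm }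
  let f : J →+ N :=
    ((f0.liftBaseChange (X.presheaf.stalk (i z))).comp e.symm.toLinearMap).toAddMonoidHom
  obtain ⟨ψ, hψ⟩ := exists_lift_cgen i z f (fun r a => map_smul
    ((f0.liftBaseChange (X.presheaf.stalk (i z))).comp e.symm.toLinearMap) r a)
  have key : ∀ a : J', ψ (cgen i z ⟨β a, baseStalkMap_mem_ker hsq.w.symm z a⟩) =
      pullStalk gZ (Omega.conormal i') z (cgen i' (gZ z) a) := by
    intro a
    rw [hψ]
    have he : e.symm ⟨β a, baseStalkMap_mem_ker hsq.w.symm z a⟩ = (1 : X.presheaf.stalk (i z)) ⊗ₜ a := by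
      rw [LinearEquiv.symm_apply_eq]
      refine Subtype.ext ?_
      show β a = m (1 ⊗ₜ a)
      simp [m]; rfl
    show f0.liftBaseChange _ (e.symm _) = _
    rw [he, LinearMap.liftBaseChange_tmul, one_smul]
    rfl
  refine Function.LeftInverse.injective (g := ψ) fun w => ?_
  obtain ⟨t, rfl⟩ := (pullStalkEquiv gZ (Omega.conormal i') z).surjective w
  induction t using TensorProduct.induction_on with
  | zero => simp
  | add a b ha hb => simp only [map_add, ha, hb]
  | tmul r c =>
    show ψ (stalkLin φ z (pullStalkLin gZ _ z (r ⊗ₜ c))) = pullStalkLin gZ _ z (r ⊗ₜ c)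
    rw [pullStalkLin_tmul, map_smul, map_smul]
    congr 1
    have hc : c ∈ Submodule.span (Z'.presheaf.stalk (gZ z)) (Set.range (cgen i' (gZ z))) := by
      rw [span_cgen]; trivial
    induction hc using Submodule.span_induction with
    | mem x hx =>
      obtain ⟨a, rfl⟩ := hx
      rw [stalkLin_conormalMap hφ z a]
      exact key a
    | zero => simp
    | add x y _ _ ihx ihy => simp only [map_add, ihx, ihy]
    | smul r x _ ih => rw [pullStalk_smul, map_smul, map_smul, ih]



open AlgebraicGeometry CategoryTheory in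
/-- In a cartesian square with i : Z → X, i' : Z' → X' quasi-compact immersions, g : X → X', gZ : Z →
Z', the canonical map gZ^* C_{Z'/X'} → C_{Z/X} is surjective, and an isomorphism when g is flat.
(The published statement allows arbitrary immersions; this row assumes i and i' quasi-compact.) -/
theorem result {Z X Z' X' : Scheme.{u}} (i : Z ⟶ X) (i' : Z' ⟶ X') [IsImmersion i] [IsImmersion i']
    [QuasiCompact i] [QuasiCompact i'] (g : X ⟶ X') (gZ : Z ⟶ Z') (hsq : IsPullback i gZ g i')
    (φ : (Scheme.Modules.pullback gZ).obj (Omega.conormal i') ⟶ Omega.conormal i) (hφ : OmegaSh.IsConormalMap i i' g gZ φ) :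
    Epi φ ∧ (Flat g → IsIso φ) := by
  haveI : Epi φ := Groth.Agent.H29Omega.epi_of_surjective_stalkLin φ (surjective_stalk hsq hφ)
  refine ⟨this, fun hg => ?_⟩
  haveI := hg
  exact Groth.Agent.H29Omega.isIso_of_bijective_stalkLin φ fun z => ⟨injective_stalk hsq hφ z, surjective_stalk hsq hφ z⟩

end Groth.Agent.S9372
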