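import Groth.Statements.S2451
import Groth.Agent.H05EGA4.GeomFibre
import Groth.Agent.H05EGA4.CompleteNormalization
import Groth.Agent.H05EGA4.GRing

set_option autoImplicit false
set_option linter.style.haveILetI false
universe u
open EGA41

open IsLocalRing TensorProduct Groth.Agent CAlgX Groth.Agent.H05EGA4

namespace Groth.Agent.S2451

/-- Let k ⊆ K be fields with the discrete topologies. Then K is a formally smooth k-algebra if and only
if K is separable over k (K ⊗_k k' reduced for every extension k', i.e. geometrically reduced). -/
theorem result {k K : Type u} [Field k] [Field K] [Algebra k K] :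
    Algebra.FormallySmooth k K ↔ Algebra.IsGeometricallyReduced k K := by
  refine ⟨fun _ => ?_, fun _ => formallySmooth_of_geometricallyReduced k K⟩
  exact isGeometricallyReduced_of_isGeometricallyRegular
    (isGeometricallyRegular_of_isAdicFormallySmooth (isAdicFormallySmooth_of_formallySmooth (maximalIdeal K)))


end Groth.Agent.S2451
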