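import Groth.Statements.S9406
import Groth.Agent.H05EGA4.Regular
import Groth.Agent.H06Desc.Noetherian
import Mathlib.RingTheory.Flat.Localization
import Mathlib.RingTheory.Spectrum.Prime.RingHom

set_option autoImplicit false
universe u
open CAlg

namespace Groth.Agent.S9406

/-- Regularity descends along faithfully flat ring maps: whenever S is a faithfully flat R-algebra whose
underlying ring is regular, the base ring R is regular as well. -/
theorem result (R : Type u) [CommRing R] (S : Type u) [CommRing S]
    [Algebra R S] [Module.FaithfullyFlat R S] [IsRegularRing S] : IsRegularRing R := by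
  haveI : IsNoetherianRing R := H06Desc.isNoetherianRing_of_faithfullyFlat (B := S)
  refine isRegularRing_iff.mpr fun p hp => ?_
  obtain ⟨q, hq⟩ := PrimeSpectrum.comap_surjective_of_faithfullyFlat (A := R) (B := S) ⟨p, hp⟩
  have hpq : q.asIdeal.comap (algebraMap R S) = p := congr_arg PrimeSpectrum.asIdeal hq
  haveI : q.asIdeal.LiesOver p := ⟨hpq.symm⟩
  haveI := (isRegularRing_iff.mp (inferInstance : IsRegularRing S)) q.asIdeal
  letI := Localization.AtPrime.algebraOfLiesOver p q.asIdeal
  haveI : Module.Flat (Localization.AtPrime p) (Localization.AtPrime q.asIdeal) := inferInstance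
  exact H05EGA4.isRegularLocalRing_of_flat (A := Localization.AtPrime p) (B := Localization.AtPrime q.asIdeal)

end Groth.Agent.S9406
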