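import Groth.Statements.S9442
import Groth.Agent.H02CA.GeomReducedField
import Groth.Agent.H02CA.RegularKer
import Groth.Agent.H02CA.SmoothRegular
import Mathlib.RingTheory.Smooth.Local
import Mathlib.RingTheory.Smooth.Locus
import Mathlib.RingTheory.LocalRing.Module
import Mathlib.RingTheory.RegularLocalRing.Polynomial

set_option autoImplicit false
universe u
open CAlg

namespace Groth.Agent.S9442

open TensorProduct IsLocalRing KaehlerDifferential in
theorem smooth_of_regular_quotient (k : Type u) [Field k] (P O : Type u) [CommRing P] [IsRegularLocalRing P]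
    [CommRing O] [IsRegularLocalRing O] [Algebra k P] [Algebra k O] [Algebra P O] [IsScalarTower k P O]
    [Algebra.FormallySmooth k P] [Algebra.EssFiniteType k P]
    (hsurj : Function.Surjective (algebraMap P O)) [Algebra.FormallySmooth k (ResidueField O)] :
    Algebra.FormallySmooth k O := by
  haveI : Module.Finite P Ω[P⁄k] := inferInstance
  haveI : Module.Free P Ω[P⁄k] := Module.free_of_flat_of_isLocalRing
  rw [Algebra.FormallySmooth.iff_injective_cotangentComplexBaseChange_residueField P hsurj (IsNoetherian.noetherian _)]
  set J := RingHom.ker (algebraMap P O)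
  haveI : IsRegularLocalRing (P ⧸ J) := IsRegularLocalRing.of_ringEquiv (RingHom.quotientKerEquivOfSurjective hsurj).symm
  have hκs : Function.Surjective (algebraMap P (ResidueField O)) := by
    rw [IsScalarTower.algebraMap_eq P O (ResidueField O), RingHom.coe_comp]
    exact residue_surjective.comp hsurj
  have hker : RingHom.ker (algebraMap P (ResidueField O)) = maximalIdeal P :=
    eq_maximalIdeal (RingHom.ker_isMaximal_of_surjective _ hκs)
  have hinjκ : Function.Injective (kerCotangentToTensor k P (ResidueField O)) :=
    (Algebra.FormallySmooth.kerCotangentToTensor_injective_iff hκs).mpr inferInstance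
  rw [injective_iff_map_eq_zero]
  intro z hz
  obtain ⟨x, rfl⟩ : ∃ x, (1 : ResidueField O) ⊗ₜ[P] x = z := TensorProduct.mk_surjective P _ (ResidueField O) hκs z
  rw [cotangentComplexBaseChange_tmul, one_smul, kerToTensor_apply] at hz
  have hxk : (x : P) ∈ RingHom.ker (algebraMap P (ResidueField O)) := by
    have hx0 : algebraMap P O (x : P) = 0 := x.2
    rw [RingHom.mem_ker, IsScalarTower.algebraMap_apply P O (ResidueField O), hx0, map_zero]
  have h2 : (RingHom.ker (algebraMap P (ResidueField O))).toCotangent ⟨x, hxk⟩ = 0 :=
    hinjκ (by rw [kerCotangentToTensor_toCotangent, map_zero]; exact hz)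
  have h2' : (x : P) ∈ maximalIdeal P ^ 2 :=
    (congrArg (fun I : Ideal P => (x : P) ∈ I ^ 2) hker).mp ((Ideal.toCotangent_eq_zero _ _).mp h2)
  have h3 := Groth.Agent.H02CA.inf_sq_le_mul_of_isRegularLocalRing J ⟨x.2, h2'⟩
  have h4 : x ∈ maximalIdeal P • (⊤ : Submodule P J) := by
    rw [Submodule.mem_smul_top_iff, smul_eq_mul, mul_comm]
    exact h3
  clear hz h2 h2' h3 hxk
  refine Submodule.smul_induction_on (p := fun x => (1 : ResidueField O) ⊗ₜ[P] x = 0) h4 (fun r hr y _ => ?_) (fun a b ha hb => ?_)
  · rw [← smul_tmul, show r • (1 : ResidueField O) = 0 by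
      rw [← Algebra.algebraMap_eq_smul_one]; exact RingHom.mem_ker.mp (hker.ge hr), zero_tmul]
  · rw [tmul_add, ha, hb, add_zero]

/-- For a finite type algebra S over a field k and a prime q of S with κ(q) separable over k, S is
smooth over k at q if and only if S_q is a regular local ring. -/
theorem result (k : Type u) [Field k]
    (S : Type u) [CommRing S] [Algebra k S] [Algebra.FiniteType k S] (q : Ideal S) [q.IsPrime]
    [Algebra.IsGeometricallyReduced k q.ResidueField] :
    Algebra.IsSmoothAt k q ↔ IsRegularLocalRing (Localization.AtPrime q) := by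
  haveI : Algebra.FinitePresentation k S := Algebra.FinitePresentation.of_finiteType.mp inferInstance
  haveI : IsNoetherianRing S := Algebra.FiniteType.isNoetherianRing k S
  constructor
  · intro h
    obtain ⟨f, hfq, hf⟩ := Algebra.IsSmoothAt.exists_notMem_smooth (R := k) q
    haveI := Groth.Agent.H02CA.isRegularRing_of_smooth k (Localization.Away f)
    have hdisj : Disjoint (Submonoid.powers f : Set S) q := (Ideal.disjoint_powers_iff_notMem_of_isPrime _).mpr hfq
    haveI := IsLocalization.isPrime_of_isPrime_disjoint (Submonoid.powers f) (Localization.Away f) q ‹_› hdisj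
    have hc := IsLocalization.under_map_of_isPrime_disjoint (Submonoid.powers f) (Localization.Away f) (I := q) ‹_› hdisj
    have aux : ∀ (r : Ideal S) [r.IsPrime], r = q → IsRegularLocalRing (Localization.AtPrime r) →
        IsRegularLocalRing (Localization.AtPrime q) := by
      intro r _ hr H
      subst hr
      exact H
    haveI : IsRegularLocalRing (Localization.AtPrime (q.map (algebraMap S (Localization.Away f)))) :=
      IsRegularRing.isRegularLocalRing_localization _
    exact aux _ hc (IsRegularLocalRing.of_ringEquiv
      (IsLocalization.localizationLocalizationAtPrimeIsoLocalization (Submonoid.powers f)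
        (q.map (algebraMap S (Localization.Away f)))).symm.toRingEquiv)
  · intro h
    obtain ⟨n, π, hπ⟩ := Algebra.FiniteType.iff_quotient_mvPolynomial''.mp ‹Algebra.FiniteType k S›
    let p := q.comap π.toRingHom
    letI : Algebra (Localization.AtPrime p) (Localization.AtPrime q) :=
      (Localization.localRingHom p q π.toRingHom rfl).toAlgebra
    haveI : IsScalarTower k (Localization.AtPrime p) (Localization.AtPrime q) := .of_algebraMap_eq fun r => by
      rw [RingHom.algebraMap_toAlgebra, IsScalarTower.algebraMap_apply k (MvPolynomial (Fin n) k) (Localization.AtPrime p),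
        Localization.localRingHom_to_map, IsScalarTower.algebraMap_apply k S (Localization.AtPrime q)]
      exact congrArg _ (π.commutes r).symm
    have hsurj : Function.Surjective (algebraMap (Localization.AtPrime p) (Localization.AtPrime q)) := by
      intro z
      obtain ⟨⟨a, b⟩, rfl⟩ := IsLocalization.mk'_surjective q.primeCompl z
      obtain ⟨a', rfl⟩ := hπ a
      obtain ⟨b', hb'⟩ := hπ b
      refine ⟨IsLocalization.mk' _ a' (⟨b', fun hb => b.2 (by rw [← hb']; exact hb)⟩ : p.primeCompl), ?_⟩
      rw [RingHom.algebraMap_toAlgebra, Localization.localRingHom_mk']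
      congr 1
      exact Subtype.ext hb'
    haveI : IsRegularLocalRing (Localization.AtPrime p) := IsRegularRing.isRegularLocalRing_localization p
    haveI : Algebra.FormallySmooth k (Localization.AtPrime p) := Algebra.FormallySmooth.comp k (MvPolynomial (Fin n) k) _
    haveI : Algebra.EssFiniteType k (Localization.AtPrime p) := Algebra.EssFiniteType.comp k (MvPolynomial (Fin n) k) _
    haveI : Algebra.EssFiniteType k (Localization.AtPrime q) := Algebra.EssFiniteType.comp k S _
    haveI : Algebra.EssFiniteType k q.ResidueField := Algebra.EssFiniteType.comp k (Localization.AtPrime q) _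
    haveI := Groth.Agent.H02CA.formallySmooth_of_isGeometricallyReduced k q.ResidueField
    exact smooth_of_regular_quotient k (Localization.AtPrime p) (Localization.AtPrime q) hsurj

end Groth.Agent.S9442
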