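import Groth.Statements.S5777
import Mathlib
import Groth.Agent.H05EGA4.FlatRegular

set_option autoImplicit false
set_option maxHeartbeats 400000
universe u
open EGA41

open IsLocalRing TensorProduct RingTheory.Sequence Groth.Agent.H05EGA4
open scoped Pointwise

namespace Groth.Agent.S5777

/-- Let φ : A → B be a local homomorphism of Noetherian local rings, M a finitely generated B-module and
(f_i)_{1 ≤ i ≤ n} an A-regular sequence of elements of the maximal ideal of A, generating the ideal
J. Then M is flat over A if and only if M/JM is flat over A/J and (f_i) is an M-regular sequence. -/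
theorem result (A B : Type u) [CommRing A] [CommRing B]
    [IsLocalRing A] [IsLocalRing B] [IsNoetherianRing A] [IsNoetherianRing B] [Algebra A B]
    [IsLocalHom (algebraMap A B)] (M : Type u) [AddCommGroup M] [Module B M] [Module A M]
    [IsScalarTower A B M] [Module.Finite B M] (fs : List A) (hfs : ∀ f ∈ fs, f ∈ IsLocalRing.maximalIdeal A)
    (hA : RingTheory.Sequence.IsWeaklyRegular A fs) :
    Module.Flat A M ↔
      Module.Flat (A ⧸ Ideal.ofList fs) (M ⧸ (Ideal.ofList fs • (⊤ : Submodule A M))) ∧
        RingTheory.Sequence.IsWeaklyRegular M fs := by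
  set J := Ideal.ofList fs
  let e : (A ⧸ J) ⊗[A] M ≃ₗ[A ⧸ J] M ⧸ (J • ⊤ : Submodule A M) :=
    (TensorProduct.quotTensorEquivQuotSMul M J).extendScalarsOfSurjective Ideal.Quotient.mk_surjective
  constructor
  · intro _
    refine ⟨Module.Flat.of_linearEquiv e.symm, ?_⟩
    exact ((TensorProduct.lid A M).isWeaklyRegular_congr fs).mp (hA.isWeaklyRegular_rTensor (M₂ := M))
  · rintro ⟨h1, h2⟩
    have : Module.Flat (A ⧸ J) ((A ⧸ J) ⊗[A] M) := Module.Flat.of_linearEquiv e
    refine Groth.Agent.H7Flat.flat_of_injective_of_flat_quotient (S := B) J ?_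
      (lTensor_ofList_injective fs h2)
    intro hJ
    have : J ≤ maximalIdeal A := Ideal.span_le.mpr hfs
    exact (maximalIdeal.isMaximal A).ne_top (top_le_iff.mp (hJ ▸ this))


end Groth.Agent.S5777
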