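import Groth.Statements.S13598
import Groth.Agent.H9Hens.PairOps
import Groth.Agent.H9Hens.Local
-- import your own Groth.Agent.* helpers here

set_option autoImplicit false
universe u
open Hensel

namespace Groth.Agent.S13598

/-- For a local ring A, a henselization A ⟶ S of A (S a henselian local ring, the structure map local,
and initial among local homomorphisms from A to henselian local rings) and an ideal I of A inside
the maximal ideal, the quotient S/IS with its induced algebra structure over A/I is a henselization
of A/I. (The local-ring and local-homomorphism instances on the quotients hold automatically; they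
are taken as hypotheses only so that the conclusion can be stated.) -/
theorem result {A S : Type u} [CommRing A] [IsLocalRing A] [CommRing S]
    [IsLocalRing S] [Algebra A S] [IsLocalHom (algebraMap A S)] [Hensel.IsHenselization A S]
    (I : Ideal A) (hI : I ≤ IsLocalRing.maximalIdeal A)
    [IsLocalRing (A ⧸ I)] [IsLocalRing (S ⧸ I.map (algebraMap A S))]
    [IsLocalHom (algebraMap (A ⧸ I) (S ⧸ I.map (algebraMap A S)))] :
    Hensel.IsHenselization (A ⧸ I) (S ⧸ I.map (algebraMap A S)) := by
  have := Hensel.IsHenselization.henselian (R := A) (S := S)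
  set J := I.map (algebraMap A S)
  have : HenselianRing (S ⧸ J) (IsLocalRing.maximalIdeal (S ⧸ J)) := by
    have := H9Hens.henselianRing_quotient (J := IsLocalRing.maximalIdeal S) J
    refine H9Hens.henselianRing_of_le (J := (IsLocalRing.maximalIdeal S).map (Ideal.Quotient.mk J))
      fun x hx => ?_
    obtain ⟨y, rfl⟩ := Ideal.Quotient.mk_surjective x
    exact Ideal.mem_map_of_mem _ ((IsLocalRing.mem_maximalIdeal y).mpr fun hy =>
      (IsLocalRing.mem_maximalIdeal _).mp hx (hy.map _))
  refine ⟨H9Hens.henselianLocalRing_of_henselianRing, fun T _ _ f hf => ?_⟩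
  have : IsLocalHom (Ideal.Quotient.mk I) :=
    IsLocalHom.of_surjective _ Ideal.Quotient.mk_surjective
  obtain ⟨g, hg, hgu⟩ := Hensel.IsHenselization.universal (R := A) (S := S) T
    (f.comp (Ideal.Quotient.mk I)) inferInstance
  have hJ : ∀ a ∈ J, g a = 0 := by
    intro a ha
    have : J ≤ RingHom.ker g := Ideal.map_le_iff_le_comap.mpr fun x hx => by
      rw [Ideal.mem_comap, RingHom.mem_ker, ← RingHom.comp_apply, hg, RingHom.comp_apply,
        Ideal.Quotient.eq_zero_iff_mem.mpr hx, map_zero]
    exact this ha
  refine ⟨Ideal.Quotient.lift J g hJ, ?_, fun g' hg' => ?_⟩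
  · refine Ideal.Quotient.ringHom_ext (RingHom.ext fun a => ?_)
    exact RingHom.congr_fun hg a
  · refine Ideal.Quotient.ringHom_ext ?_
    rw [Ideal.Quotient.lift_comp_mk]
    exact hgu _ (RingHom.ext fun a => RingHom.congr_fun hg' (Ideal.Quotient.mk I a))

end Groth.Agent.S13598
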