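import Groth.Statements.S0511
import Groth.Agent.H9Hens.LocalHens
import Groth.Agent.H9Hens.PtLocalProps
-- import your own Groth.Agent.* helpers here

set_option autoImplicit false
universe u
open Hensel

namespace Groth.Agent.S0511

/-- A local ring is Noetherian exactly when its henselization is Noetherian. -/
theorem result (R : Type u) [CommRing R] [IsLocalRing R] (S : Type u) [CommRing S] [IsLocalRing S]
    [Algebra R S] [IsLocalHom (algebraMap R S)] [Hensel.IsHenselization R S] :
    IsNoetherianRing R ↔ IsNoetherianRing S := by
  obtain ⟨π, hπ⟩ := H9Hens.exists_isPtColim_of_isHenselization (R := R) S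
  have := hπ.faithfullyFlat H9Hens.ker_algebraMap_residueField
  exact ⟨fun _ => hπ.isNoetherianRing H9Hens.ker_algebraMap_residueField, fun _ => H9Hens.isNoetherianRing_of_faithfullyFlat R S⟩

end Groth.Agent.S0511
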