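import Groth.Agent.H06Desc.FlatAlg
import Groth.Statements.S4656


set_option autoImplicit false
open CategoryTheory AlgebraicGeometry
universe u
open FDesc

namespace Groth.Agent.S4656

/-- Let f : X → Y and g : Y → Z be morphisms of schemes and x a point of X at which f is flat (the local
ring of X at x is flat over that of Y at f(x)). Then the composite g ∘ f is flat at x if and only if
g is flat at f(x). -/
theorem result {X Y Z : Scheme.{u}} (f : X ⟶ Y) (g : Y ⟶ Z) (x : X)
    (hf : (f.stalkMap x).hom.Flat) :
    ((f ≫ g).stalkMap x).hom.Flat ↔ (g.stalkMap (f x)).hom.Flat := by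
  rw [Scheme.Hom.stalkMap_comp]
  constructor
  · intro h
    have hloc : IsLocalHom (f.stalkMap x).hom := inferInstance
    algebraize [(g.stalkMap (f x)).hom, (f.stalkMap x).hom,
      ((f.stalkMap x).hom.comp (g.stalkMap (f x)).hom)]
    have : Module.Flat (Z.presheaf.stalk (g (f x))) (X.presheaf.stalk x) := h
    have : IsLocalHom (algebraMap (Y.presheaf.stalk (f x)) (X.presheaf.stalk x)) := hloc
    have := Module.FaithfullyFlat.of_flat_of_isLocalHom (A := Y.presheaf.stalk (f x))
      (B := X.presheaf.stalk x)
    exact Groth.Agent.H06Desc.flat_of_faithfullyFlat_top (R := Z.presheaf.stalk (g (f x))) (S := Y.presheaf.stalk (f x)) (T := X.presheaf.stalk x)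
  · intro h
    exact RingHom.Flat.comp h hf

end Groth.Agent.S4656
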