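import Groth.Statements.S9709
import Groth.Agent.H17.Imports

set_option autoImplicit false
universe u
open CategoryTheory CategoryTheory.Limits AlgebraicGeometry
open Mor

namespace Groth.Agent.S9709

/-- Let f : X ⟶ S be an integral morphism. Then every point x of X is closed in its fibre: a point of
f⁻¹(f x) specialising from x equals x. -/
theorem result {X S : Scheme.{u}} (f : X ⟶ S) [IsIntegralHom f] (x : X) :
    closure {x} ∩ f.base ⁻¹' {f.base x} = {x} := by
  refine subset_antisymm (fun z ⟨hz, hzf⟩ => ?_) (Set.singleton_subset_iff.mpr ⟨subset_closure rfl, rfl⟩)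
  replace hz : x ⤳ z := specializes_iff_mem_closure.mpr hz
  replace hzf : f z = f x := hzf
  obtain ⟨_, ⟨V, hV, rfl⟩, hxV, -⟩ :=
    S.isBasis_affineOpens.exists_subset_of_mem_open (Set.mem_univ (f x)) isOpen_univ
  replace hV : IsAffineOpen V := hV
  have hU : IsAffineOpen (f ⁻¹ᵁ V) := hV.preimage f
  have hxU : x ∈ f ⁻¹ᵁ V := hxV
  have hzU : z ∈ f ⁻¹ᵁ V := by show f z ∈ V; rw [hzf]; exact hxV
  let p := hU.primeIdealOf ⟨x, hxU⟩
  let q := hU.primeIdealOf ⟨z, hzU⟩
  have hpq : p ≤ q := by
    rw [PrimeSpectrum.le_iff_specializes]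
    apply hU.fromSpec.isOpenEmbedding.isInducing.specializes_iff.mp
    simpa [p, q, hU.fromSpec_primeIdealOf] using hz
  set φ := (f.appLE V (f ⁻¹ᵁ V) le_rfl).hom
  have hcomm : ∀ p, f (hU.fromSpec p) = hV.fromSpec (PrimeSpectrum.comap φ p) := fun p => by
    have := congr($(hV.SpecMap_appLE_fromSpec f hU le_rfl) p)
    rw [Scheme.Hom.comp_apply, Scheme.Hom.comp_apply] at this
    exact this.symm
  have hc : PrimeSpectrum.comap φ p = PrimeSpectrum.comap φ q := by
    apply hV.fromSpec.isOpenEmbedding.injective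
    rw [← hcomm, ← hcomm]; simp [p, q, hU.fromSpec_primeIdealOf, hzf]
  have hint : φ.IsIntegral := by
    simp only [φ, Scheme.Hom.appLE_eq_app]; exact f.isIntegral_app V hV
  algebraize [φ]
  have : p = q := by
    refine hpq.eq_or_lt.resolve_right fun hlt => ?_
    have := Ideal.IsIntegral.comap_lt_comap (R := Γ(S, V)) (PrimeSpectrum.asIdeal_lt_asIdeal _ _ |>.mpr hlt)
    exact this.ne congr($(hc).asIdeal)
  have := congr(hU.fromSpec $(this))
  simpa [p, q, hU.fromSpec_primeIdealOf] using this.symm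

end Groth.Agent.S9709
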