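import Groth.Statements.S9169
import Groth.Agent.H9CI.Nhd
import Groth.Agent.H9CI.RelGCIProps
import Groth.Agent.H9Synt.Transport
-- import your own Groth.Agent.* helpers here

set_option autoImplicit false
set_option linter.style.haveILetI false
universe u
open Synt

namespace Groth.Agent.S9169

universe v

/-- Primes not containing `g` extend to a localization at `g`, with the same local ring. -/
theorem exists_prime_away' {S : Type u} {T : Type v} [CommRing S] [CommRing T] [Algebra S T] (q : Ideal S) [q.IsPrime]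
    (g : S) (hg : g ∉ q) [IsLocalization.Away g T] :
    ∃ (q' : Ideal T) (_ : q'.IsPrime), q'.comap (algebraMap S T) = q ∧
      ∀ (k : Type u) [CommRing k] [Algebra k S] [Algebra k T] [IsScalarTower k S T],
        Nonempty (Localization.AtPrime q' ≃ₐ[k] Localization.AtPrime q) := by
  have hdisj : Disjoint (Submonoid.powers g : Set S) (q : Set S) := by
    rw [Set.disjoint_left]
    rintro _ ⟨i, rfl⟩ he
    exact hg (‹q.IsPrime›.mem_of_pow_mem i he)
  have := IsLocalization.isPrime_of_isPrime_disjoint (Submonoid.powers g) T q ‹_› hdisj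
  have hc := IsLocalization.under_map_of_isPrime_disjoint (Submonoid.powers g) T ‹q.IsPrime› hdisj
  change Ideal.comap _ _ = _ at hc
  refine ⟨q.map (algebraMap S T), this, hc, fun k _ _ _ _ => ?_⟩
  have h : IsLocalization.AtPrime (Localization.AtPrime (q.map (algebraMap S T))) q := by
    simpa only [hc] using IsLocalization.isLocalization_isLocalization_atPrime_isLocalization
      (M := Submonoid.powers g) (Localization.AtPrime (q.map (algebraMap S T))) (q.map (algebraMap S T))
  exact ⟨(IsLocalization.algEquiv q.primeCompl _ _).restrictScalars k⟩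

/-- The same for the standard localization. -/
theorem exists_prime_away {S : Type u} [CommRing S] (q : Ideal S) [q.IsPrime] (g : S) (hg : g ∉ q) :
    ∃ (q' : Ideal (Localization.Away g)) (_ : q'.IsPrime), q'.comap (algebraMap S (Localization.Away g)) = q ∧
      ∀ (k : Type u) [CommRing k] [Algebra k S],
        Nonempty (Localization.AtPrime q' ≃ₐ[k] Localization.AtPrime q) := by
  obtain ⟨q', h, hc, he⟩ := exists_prime_away' (T := Localization.Away g) q g hg
  exact ⟨q', h, hc, fun k _ _ => he k⟩

open TensorProduct in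
/-- Let R → S be a ring map and q a prime of S lying over p; write Q for the prime of the fibre ring
κ(p) ⊗ S that pulls back to q. Equivalent: (1) some basic open neighbourhood S_g of q is syntomic
over R; (2) some S_g is isomorphic over R to a relative global complete intersection; (3) some S_g
is of finite presentation over R, the local ring S_q is flat over R (equivalently over R_p), and the
fibre local ring (κ(p) ⊗ S)_Q is a complete intersection over κ(p). Stated as (1) ↔ (2) and (1) ↔
(3). -/
theorem result (R S : Type u) [CommRing R] [CommRing S] [Algebra R S]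
    (p : Ideal R) [p.IsPrime] (q : Ideal S) [q.IsPrime] [q.LiesOver p]
    (Q : Ideal (p.Fiber S)) [Q.IsPrime]
    (hQ : Q.comap (Algebra.TensorProduct.includeRight.toRingHom) = q) :
    ((∃ g : S, g ∉ q ∧ Synt.IsSyntomic R (Localization.Away g)) ↔
        ∃ g : S, g ∉ q ∧ ∃ (n c : ℕ) (F : Fin c → MvPolynomial (Fin n) R), Synt.IsRelGCI R n c F ∧
          Nonempty (Localization.Away g ≃ₐ[R] Synt.RelGCIRing R n c F)) ∧
      ((∃ g : S, g ∉ q ∧ Synt.IsSyntomic R (Localization.Away g)) ↔
        ∃ g : S, g ∉ q ∧ Algebra.FinitePresentation R (Localization.Away g) ∧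
          Module.Flat R (Localization.AtPrime q) ∧
          Synt.IsCIOver p.ResidueField (Localization.AtPrime Q)) := by
  have hqp : q.comap (algebraMap R S) = p := (Ideal.LiesOver.over (P := q) (p := p)).symm
  have h21 : (∃ g : S, g ∉ q ∧ ∃ (n c : ℕ) (F : Fin c → MvPolynomial (Fin n) R), Synt.IsRelGCI R n c F ∧
      Nonempty (Localization.Away g ≃ₐ[R] Synt.RelGCIRing R n c F)) →
      ∃ g : S, g ∉ q ∧ Synt.IsSyntomic R (Localization.Away g) := by
    rintro ⟨g, hg, n, c, F, hF, ⟨e⟩⟩
    exact ⟨g, hg, H9Synt.isSyntomic_of_algEquiv e.symm (H9CI.isSyntomic_relGCIRing F hF)⟩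
  have h13 : (∃ g : S, g ∉ q ∧ Synt.IsSyntomic R (Localization.Away g)) →
      ∃ g : S, g ∉ q ∧ Algebra.FinitePresentation R (Localization.Away g) ∧
        Module.Flat R (Localization.AtPrime q) ∧ Synt.IsCIOver p.ResidueField (Localization.AtPrime Q) := by
    rintro ⟨g, hg, hflat, hfp, hlci⟩
    refine ⟨g, hg, hfp, ?_, ?_⟩
    · obtain ⟨q', _, hq', e⟩ := exists_prime_away q g hg
      obtain ⟨e⟩ := e R
      haveI : Module.Flat (Localization.Away g) (Localization.AtPrime q') := IsLocalization.flat _ q'.primeCompl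
      haveI : Module.Flat R (Localization.AtPrime q') := Module.Flat.trans R (Localization.Away g) _
      exact Module.Flat.of_linearEquiv e.symm.toLinearEquiv
    · have hgQ : (1 : p.ResidueField) ⊗ₜ[R] g ∉ Q := fun h => hg (hQ ▸ (h : g ∈ Q.comap
        (Algebra.TensorProduct.includeRight : S →ₐ[R] p.Fiber S).toRingHom))
      obtain ⟨Q₁, _, hQ₁, e⟩ := exists_prime_away Q _ hgQ
      obtain ⟨e⟩ := e p.ResidueField
      have hL := H9Synt.isLCIOver_of_algEquiv
        (IsLocalization.Away.tensorProductEquivTMulRight R p.ResidueField g (Localization.Away g))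
        (hlci ⟨p, inferInstance⟩)
      exact H9CI.isCIOver_of_algEquiv e (H9CI.isCIOver_of_isLCIOver hL Q₁)
  have h32 : (∃ g : S, g ∉ q ∧ Algebra.FinitePresentation R (Localization.Away g) ∧
        Module.Flat R (Localization.AtPrime q) ∧ Synt.IsCIOver p.ResidueField (Localization.AtPrime Q)) →
      ∃ g : S, g ∉ q ∧ ∃ (n c : ℕ) (F : Fin c → MvPolynomial (Fin n) R), Synt.IsRelGCI R n c F ∧
        Nonempty (Localization.Away g ≃ₐ[R] Synt.RelGCIRing R n c F) := by
    rintro ⟨g, hg, hfp, hflat, hci⟩
    let T := Localization.Away g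
    have hgQ : (1 : p.ResidueField) ⊗ₜ[R] g ∉ Q := fun h => hg (hQ ▸ (h : g ∈ Q.comap
      (Algebra.TensorProduct.includeRight : S →ₐ[R] p.Fiber S).toRingHom))
    obtain ⟨q', _, hq', e⟩ := exists_prime_away q g hg
    obtain ⟨e⟩ := e R
    haveI : Module.Flat R (Localization.AtPrime q') := Module.Flat.of_linearEquiv e.toLinearEquiv
    let ε := IsLocalization.Away.tensorProductEquivTMulRight R p.ResidueField g T
    letI : Algebra (p.Fiber S) (p.Fiber T) := (ε.symm.toRingHom.comp
      (algebraMap (p.Fiber S) (Localization.Away ((1 : p.ResidueField) ⊗ₜ[R] g)))).toAlgebra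
    haveI : IsLocalization.Away ((1 : p.ResidueField) ⊗ₜ[R] g) (p.Fiber T) :=
      IsLocalization.isLocalization_of_algEquiv (Submonoid.powers ((1 : p.ResidueField) ⊗ₜ[R] g))
        (AlgEquiv.ofRingEquiv (f := ε.symm.toRingEquiv) fun _ => rfl)
    haveI : IsScalarTower p.ResidueField (p.Fiber S) (p.Fiber T) :=
      IsScalarTower.of_algebraMap_eq (R := p.ResidueField) (S := p.Fiber S) (A := p.Fiber T) fun r => by
        show _ = ε.symm (algebraMap (p.Fiber S) _ (algebraMap p.ResidueField (p.Fiber S) r))
        rw [← IsScalarTower.algebraMap_apply, ε.symm.commutes]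
    obtain ⟨Q', _, hQ', e'⟩ := exists_prime_away' (T := p.Fiber T) Q _ hgQ
    obtain ⟨e'⟩ := e' p.ResidueField
    have hci' := H9CI.isCIOver_of_algEquiv e'.symm hci
    have key : ∀ s : S, ε.symm (algebraMap (p.Fiber S) (Localization.Away ((1 : p.ResidueField) ⊗ₜ[R] g))
        ((1 : p.ResidueField) ⊗ₜ[R] s)) = (1 : p.ResidueField) ⊗ₜ[R] algebraMap S T s := fun s => by
      rw [AlgEquiv.symm_apply_eq]
      exact (IsLocalization.Away.tensorProductEquivTMulRight_tmul S g T (1 : p.ResidueField) s).symm
    have hQ'c : Q'.comap (Algebra.TensorProduct.includeRight : T →ₐ[R] p.Fiber T).toRingHom = q' := by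
      haveI : (Q'.comap (Algebra.TensorProduct.includeRight : T →ₐ[R] p.Fiber T).toRingHom).IsPrime :=
        Ideal.IsPrime.comap _
      refine (IsLocalization.orderEmbedding (Submonoid.powers g) T).injective (show Ideal.comap _ _ = Ideal.comap _ q' from ?_)
      rw [hq']
      ext s
      rw [← hQ, ← hQ']
      show ((1 : p.ResidueField) ⊗ₜ[R] algebraMap S T s ∈ Q') ↔
        ε.symm (algebraMap (p.Fiber S) _ ((1 : p.ResidueField) ⊗ₜ[R] s)) ∈ Q'
      rw [key]
    have hq'p : q'.comap (algebraMap R T) = p := by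
      rw [IsScalarTower.algebraMap_eq R S T, ← Ideal.comap_comap, hq', hqp]
    haveI := hfp
    obtain ⟨g', hg', n, c, F, hF, ⟨e''⟩⟩ := H9CI.exists_isRelGCI_nhd p q' hq'p Q' hQ'c hci'
    obtain ⟨a, ⟨_, i, rfl⟩, ha⟩ := IsLocalization.exists_mk'_eq (Submonoid.powers g) g'
    refine ⟨g * a, fun h => ?_, n, c, F, hF, ⟨?_⟩⟩
    · refine ((‹q.IsPrime›.mem_or_mem h).elim hg fun ha' => hg' ?_)
      rw [← hq'] at ha'
      rw [← ha, IsLocalization.mk'_eq_mul_mk'_one]
      exact Ideal.mul_mem_right _ _ ha'
    · have hassoc : Associated g' (algebraMap S T a) := ⟨(IsLocalization.map_units T (⟨g ^ i, i, rfl⟩ : Submonoid.powers g)).unit,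
        by rw [IsUnit.unit_spec, ← ha]; exact IsLocalization.mk'_spec T a _⟩
      let A := Localization.Away g'
      haveI : IsLocalization.Away (algebraMap S T a) A := IsLocalization.Away.of_associated hassoc
      haveI : IsLocalization.Away (g * a) A := mul_comm a g ▸ IsLocalization.Away.mul T A g a
      exact ((IsLocalization.algEquiv (Submonoid.powers (g * a)) (Localization.Away (g * a)) A).restrictScalars R).trans e''
  exact ⟨⟨fun h => h32 (h13 h), h21⟩, ⟨h13, fun h => h21 (h32 h)⟩⟩

end Groth.Agent.S9169
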