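import Groth.Statements.S9364
import Groth.Agent.H9CI.SyntomicScheme
-- import your own Groth.Agent.* helpers here

set_option autoImplicit false
set_option linter.style.haveILetI false
universe u
open Synt

namespace Groth.Agent.S9364

open AlgebraicGeometry CategoryTheory in
/-- Let f : X → S, x ∈ X and V ⊆ S an affine open neighbourhood of f x. Then f is syntomic at x if and
only if some affine open U ∋ x with f(U) ⊆ V has f|_U : U → V standard syntomic. -/
theorem result {X S : Scheme.{u}} (f : X ⟶ S) (x : X) (V : S.affineOpens)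
    (hV : f.base x ∈ V.1) :
    Synt.IsSyntomicAt f x ↔
      ∃ (U : X.affineOpens) (e : U.1 ≤ f ⁻¹ᵁ V.1), x ∈ U.1 ∧ Synt.IsStandardSyntomic (f.resLE V.1 U.1 e) := by
  constructor
  · rintro ⟨U₀, V₀, e₀, hx₀, h⟩
    obtain ⟨W, (hW : IsAffineOpen W), hxW, hWV⟩ := TopologicalSpace.Opens.isBasis_iff_nbhd.mp X.isBasis_affineOpens
      (show x ∈ f ⁻¹ᵁ V.1 from hV)
    obtain ⟨r, s, hxs, e, hs⟩ := exists_basicOpen_le_appLE_of_appLE_of_isAffine
      H9CI.stableUnderCompositionWithLocalizationAwayTarget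
      H9CI.syntomicHom_propertyIsLocal.localizationAwayPreserves x V V₀ ⟨W, hW⟩ U₀ hxW hx₀ e₀ h hV
    let U₁ : X.Opens := X.basicOpen s
    have hU₁ : IsAffineOpen U₁ := hW.basicOpen s
    have e₁ : U₁ ≤ f ⁻¹ᵁ V.1 := (X.basicOpen_le s).trans hWV
    have h₁ : H9CI.SyntomicHom (f.appLE V.1 U₁ e₁).hom := by
      haveI := V.2.isLocalization_basicOpen r
      rw [show f.appLE V.1 U₁ e₁ = S.presheaf.map (homOfLE (S.basicOpen_le r)).op ≫ f.appLE (S.basicOpen r) U₁ e from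
        (f.map_appLE e (homOfLE (S.basicOpen_le r)).op).symm]
      exact H9CI.stableUnderCompositionWithLocalizationAwaySource _ r _ hs
    letI alg := (f.appLE V.1 U₁ e₁).hom.toAlgebra
    let q := hU₁.primeIdealOf ⟨x, hxs⟩
    obtain ⟨g, hg, n, c, F, hF, ⟨ε⟩⟩ := H9CI.exists_isRelGCI_away_of_isSyntomic (R := Γ(S, V.1)) (S := Γ(X, U₁))
      h₁ q.asIdeal
    have hxg : x ∈ X.basicOpen g := by
      have h2 : q ∈ hU₁.fromSpec ⁻¹ᵁ X.basicOpen g := by
        rw [hU₁.fromSpec_preimage_basicOpen g]; exact hg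
      have h3 : hU₁.fromSpec q ∈ X.basicOpen g := h2
      rwa [hU₁.fromSpec_primeIdealOf] at h3
    have e₂ : X.basicOpen g ≤ f ⁻¹ᵁ V.1 := (X.basicOpen_le g).trans e₁
    refine ⟨⟨X.basicOpen g, hU₁.basicOpen g⟩, e₂, hxg, Γ(S, V.1), inferInstance, n, c, F, hF, ?_⟩
    letI : Algebra Γ(X, U₁) Γ(X, X.basicOpen g) := (X.presheaf.map (homOfLE (X.basicOpen_le g)).op).hom.toAlgebra
    haveI := hU₁.isLocalization_basicOpen g
    letI : Algebra Γ(S, V.1) Γ(X, X.basicOpen g) := (f.appLE V.1 (X.basicOpen g) e₂).hom.toAlgebra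
    haveI : IsScalarTower Γ(S, V.1) Γ(X, U₁) Γ(X, X.basicOpen g) := IsScalarTower.of_algebraMap_eq fun r => by
      show f.appLE V.1 (X.basicOpen g) e₂ r = (f.appLE V.1 U₁ e₁ ≫ X.presheaf.map (homOfLE (X.basicOpen_le g)).op) r
      rw [Scheme.Hom.appLE_map]
    let ε' : Γ(X, X.basicOpen g) ≃ₐ[Γ(S, V.1)] Synt.RelGCIRing Γ(S, V.1) n c F :=
      ((IsLocalization.algEquiv (Submonoid.powers g) Γ(X, X.basicOpen g) (Localization.Away g)).restrictScalars
        Γ(S, V.1)).trans ε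
    refine ⟨(hU₁.basicOpen g).isoSpec ≪≫ Scheme.Spec.mapIso ε'.toRingEquiv.toCommRingCatIso.symm.op, V.2.isoSpec, ?_⟩
    have hε : CommRingCat.ofHom (algebraMap Γ(S, V.1) (Synt.RelGCIRing Γ(S, V.1) n c F)) ≫
        ε'.toRingEquiv.toCommRingCatIso.inv = f.appLE V.1 (X.basicOpen g) e₂ := by
      ext r
      exact ε'.symm.commutes r
    simp only [Iso.trans_hom, Functor.mapIso_hom, Iso.op_hom, Iso.symm_hom, Category.assoc, IsAffineOpen.isoSpec_hom]
    rw [← Scheme.Opens.toSpecΓ_SpecMap_appLE, ← hε, Spec.map_comp]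
    rfl
  · rintro ⟨U, e, hxU, R, _, n, c, F, hF, e₁, e₂, he⟩
    refine ⟨U, V, e, hxU, ?_⟩
    show H9CI.SyntomicHom (f.appLE V.1 U.1 e).hom
    have hspec : H9CI.syntMor (Spec.map (CommRingCat.ofHom (algebraMap R (Synt.RelGCIRing R n c F)))) :=
      (HasRingHomProperty.Spec_iff (P := H9CI.syntMor)).mpr
        (H9CI.syntomicHom_algebraMap.mpr (H9CI.isSyntomic_relGCIRing F hF))
    have hres : H9CI.syntMor (f.resLE V.1 U.1 e) :=
      (MorphismProperty.arrow_mk_iso_iff H9CI.syntMor (Arrow.isoMk (f := Arrow.mk (f.resLE V.1 U.1 e))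
        (g := Arrow.mk (Spec.map (CommRingCat.ofHom (algebraMap R (Synt.RelGCIRing R n c F))))) e₁ e₂ he)).mpr hspec
    haveI : IsAffine (U.1 : Scheme.{u}) := U.2
    haveI : IsAffine (V.1 : Scheme.{u}) := V.2
    have h2 := HasRingHomProperty.appTop H9CI.syntMor _ hres
    have h3 : f.appLE V.1 U.1 e = V.1.topIso.inv ≫ (f.resLE V.1 U.1 e).appTop ≫ U.1.topIso.hom := by
      rw [Scheme.Hom.appTop, Scheme.Hom.resLE_app_top]
      simp only [Category.assoc, Iso.inv_hom_id, Category.comp_id, Iso.inv_hom_id_assoc]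
    rw [h3, CommRingCat.hom_comp, CommRingCat.hom_comp]
    exact H9CI.syntomicHom_respectsIso.right _ V.1.topIso.symm.commRingCatIsoToRingEquiv
      (H9CI.syntomicHom_respectsIso.left _ U.1.topIso.commRingCatIsoToRingEquiv h2)

end Groth.Agent.S9364
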