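import Groth.Statements.S18320
import Groth.Agent.H19Grp.GroupCI
import Groth.Agent.H19Grp.FlatMonoFactor
import Groth.Agent.H19Grp.QuotientDesc
import Groth.Agent.H19Grp.KernelSquare
import Groth.Agent.S5938

set_option autoImplicit false
set_option maxHeartbeats 1000000
set_option synthInstance.maxHeartbeats 100000
set_option linter.style.haveILetI false
set_option backward.isDefEq.respectTransparency false
universe u
open CategoryTheory CategoryTheory.Limits MonoidalCategory CartesianMonoidalCategory MonObj GrpObj AlgebraicGeometry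
open AlgGrp

namespace Groth.Agent.S18320

open Groth.Agent.H19Grp

theorem exists_kernel {K : Type u} [Field K] {G H : Over (Spec (CommRingCat.of K))} [GrpObj G] [GrpObj H]
    (g : G ⟶ H) [IsMonHom g] [IsFinite g.left] [LocallyOfFiniteType H.hom] (hinj : Function.Injective g.left) :
    ∃ (N : Over (Spec (CommRingCat.of K))) (_ : GrpObj N) (j : N ⟶ G), IsMonHom j ∧ AlgGrp.IsKernel j g ∧
      IsFinite N.hom ∧ IsClosedImmersion j.left ∧ ConnectedSpace N.left := by
  let S : Scheme.{u} := Spec (CommRingCat.of K)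
  let N : Over S := Over.mk (pullback.fst g.left (η[H]).left ≫ G.hom)
  let j : N ⟶ G := Over.homMk (pullback.fst g.left (η[H]).left) rfl
  have hN : N.hom = pullback.snd g.left (η[H]).left := by
    show pullback.fst g.left (η[H]).left ≫ G.hom = _
    have h0 : η[H].left ≫ H.hom = 𝟙 _ := Over.w η[H]
    rw [← Over.w g, ← Category.assoc, pullback.condition, Category.assoc, h0, Category.comp_id]
  haveI : IsFinite N.hom := by rw [hN]; exact MorphismProperty.pullback_snd _ _ inferInstance
  haveI : IsClosedImmersion (η[H]).left := isClosedImmersion_of_comp_eq_id H.hom _ (Over.w η[H])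
  haveI hjc : IsClosedImmersion j.left :=
    inferInstanceAs (IsClosedImmersion (pullback.fst g.left (η[H]).left))
  haveI : Mono j := Over.mono_of_mono_left _
  haveI : Subsingleton N.left := by
    refine ⟨fun a b => (pullback.fst g.left (η[H]).left).isClosedEmbedding.injective (hinj ?_)⟩
    rw [← Scheme.Hom.comp_apply, ← Scheme.Hom.comp_apply, pullback.condition, Scheme.Hom.comp_apply,
      Scheme.Hom.comp_apply]
    exact congrArg _ (Subsingleton.elim (α := PrimeSpectrum K) _ _)
  have hw : j ≫ g = toUnit N ≫ η[H] := by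
    apply Over.OverMorphism.ext
    show pullback.fst g.left (η[H]).left ≫ g.left = N.hom ≫ (η[H]).left
    rw [hN, pullback.condition]
  have hker : AlgGrp.IsKernel j g := isKernel_of (by rw [hw, Hom.one_def])
    (fun T a b h => (cancel_mono j).mp h) (fun T x hx => by
      refine ⟨Over.homMk (pullback.lift x.left T.hom ?_) ?_, ?_⟩
      · have := congrArg (·.left) hx
        rw [Hom.one_def] at this
        exact this
      · show pullback.lift _ _ _ ≫ N.hom = T.hom
        rw [hN, pullback.lift_snd]
      · exact Over.OverMorphism.ext (pullback.lift_fst _ _ _))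
  obtain ⟨e₀, he₀⟩ := kernel_lift hker η[G] (by rw [IsMonHom.one_hom g, Hom.one_def, toUnit_unique (toUnit (𝟙_ (Over S))) (𝟙 _), Category.id_comp])
  obtain ⟨m₀, hm₀⟩ := kernel_lift hker ((j ⊗ₘ j) ≫ μ[G]) (by
    rw [Category.assoc, IsMonHom.mul_hom g, ← Category.assoc, tensorHom_comp_tensorHom, kernel_comp_eq_one hker]
    have : ((1 : N ⟶ H) ⊗ₘ (1 : N ⟶ H)) ≫ μ[H] = fst N N ≫ (1 : N ⟶ H) * snd N N ≫ (1 : N ⟶ H) := by
      rw [Hom.mul_def]; congr 1
    rw [this, MonObj.comp_one, MonObj.comp_one, _root_.one_mul])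
  obtain ⟨i₀, hi₀⟩ := kernel_lift hker (j ≫ ι[G]) (by
    rw [Category.assoc, GrpObj.inv_hom g, ← Category.assoc, kernel_comp_eq_one hker, ← Hom.inv_def, inv_one])
  obtain ⟨gN, hj⟩ := exists_grpObj_of_mono G j e₀ he₀ m₀ hm₀ i₀ hi₀
  haveI : Nonempty N.left := ⟨e₀.left (IsLocalRing.closedPoint K)⟩
  haveI : PreconnectedSpace N.left := ⟨(Set.subsingleton_of_subsingleton).isPreconnected⟩
  exact ⟨N, gN, j, hj, hker, inferInstance, hjc, ⟨inferInstance⟩⟩

theorem tensorHom_fppf {S : Scheme.{u}} {G Q : Over S} (g : G ⟶ Q) [Flat g.left] [Surjective g.left]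
    [LocallyOfFinitePresentation g.left] :
    Flat (g ⊗ₘ g).left ∧ Surjective (g ⊗ₘ g).left ∧ LocallyOfFinitePresentation (g ⊗ₘ g).left :=
  ⟨MorphismProperty.pullbackMap (P := @Flat) (inferInstanceAs (Flat g.left))
      (inferInstanceAs (Flat g.left)) (Over.w g).symm (Over.w g).symm,
    MorphismProperty.pullbackMap (P := @Surjective) (inferInstanceAs (Surjective g.left))
      (inferInstanceAs (Surjective g.left)) (Over.w g).symm (Over.w g).symm,
    MorphismProperty.pullbackMap (P := @LocallyOfFinitePresentation) (inferInstanceAs (LocallyOfFinitePresentation g.left))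
      (inferInstanceAs (LocallyOfFinitePresentation g.left)) (Over.w g).symm (Over.w g).symm⟩

theorem exists_grpObj_image {S : Scheme.{u}} {G Q H : Over S} [GrpObj G] [GrpObj H] (g : G ⟶ Q) (i : Q ⟶ H)
    [Flat g.left] [Surjective g.left] [LocallyOfFinitePresentation g.left] [Mono i] [IsMonHom (g ≫ i)] :
    ∃ _ : GrpObj Q, IsMonHom i ∧ IsMonHom g := by
  obtain ⟨_, _, _⟩ := tensorHom_fppf g
  obtain ⟨m₀, hm₀, -⟩ := H19Grp.QuotientDesc.existsUnique_desc (g ⊗ₘ g) (μ[G] ≫ g) fun T a b hab => by
    rw [← cancel_mono i, Category.assoc, Category.assoc, Category.assoc, Category.assoc,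
      IsMonHom.mul_hom (g ≫ i), ← tensorHom_comp_tensorHom, Category.assoc, reassoc_of% hab]
  obtain ⟨i₀, hi₀, -⟩ := H19Grp.QuotientDesc.existsUnique_desc g (ι[G] ≫ g) fun T a b hab => by
    rw [← cancel_mono i, Category.assoc, Category.assoc, Category.assoc, Category.assoc,
      GrpObj.inv_hom (g ≫ i), Category.assoc, reassoc_of% hab]
  haveI : Epi (g ⊗ₘ g) := (Over.forget S).epi_of_epi_map (inferInstanceAs (Epi (g ⊗ₘ g).left))
  haveI : Epi g := (Over.forget S).epi_of_epi_map (inferInstanceAs (Epi g.left))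
  have hm : m₀ ≫ i = (i ⊗ₘ i) ≫ μ[H] := by
    rw [← cancel_epi (g ⊗ₘ g), reassoc_of% hm₀, ← Category.assoc (g ⊗ₘ g), tensorHom_comp_tensorHom,
      IsMonHom.mul_hom (g ≫ i)]
  have hi : i₀ ≫ i = i ≫ ι[H] := by
    rw [← cancel_epi g, reassoc_of% hi₀, GrpObj.inv_hom (g ≫ i), Category.assoc]
  obtain ⟨gQ, hmi⟩ := exists_grpObj_of_mono H i (η[G] ≫ g)
    (by rw [Category.assoc, IsMonHom.one_hom (g ≫ i)]) m₀ hm i₀ hi
  haveI := hmi
  refine ⟨gQ, hmi, ⟨?_, ?_⟩⟩
  · rw [← cancel_mono i, Category.assoc, IsMonHom.one_hom (g ≫ i), IsMonHom.one_hom i]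
  · rw [← cancel_mono i, Category.assoc, IsMonHom.mul_hom (g ≫ i), Category.assoc, IsMonHom.mul_hom i,
      ← Category.assoc, tensorHom_comp_tensorHom]

theorem isExactSeq_of_fppf {S : Scheme.{u}} {N G Q : Over S} [GrpObj N] [GrpObj G] [GrpObj Q]
    (j : N ⟶ G) [IsMonHom j] (v : G ⟶ Q) [IsMonHom v] (hker : AlgGrp.IsKernel j v)
    [Flat v.left] [Surjective v.left] [LocallyOfFinitePresentation v.left] :
    NonAbH1.IsExactSeq Scheme.fppfPrecoverage j v := by
  refine ⟨inferInstance, inferInstance, kernel_comp_eq_one hker, ?_, ?_⟩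
  · have e : (G ◁ j) ≫ μ[G] = fst G N * (snd G N ≫ j) := by
      rw [Hom.mul_def]
      congr 1
    rw [e]
    exact isPullback_kernel v j hker
  · refine ⟨Presieve.ofArrows (fun _ : PUnit.{u+1} => G.left) (fun _ => v.left), ?_, ?_⟩
    · rw [Scheme.fppfPrecoverage, Scheme.ofArrows_mem_precoverage_iff]
      exact ⟨fun a => ⟨⟨⟩, v.left.surjective a⟩, fun _ => ⟨inferInstance, inferInstance⟩⟩
    · rintro S' f ⟨i⟩
      exact ⟨𝟙 _, Category.id_comp _⟩

theorem isSmooth_of_frob {K : Type u} [Field K] (p : ℕ) [Fact p.Prime] [CharP K p]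
    (G : Over (Spec (CommRingCat.of K))) [GrpObj G] [LocallyOfFiniteType G.hom] (n : ℕ)
    (L : Type u) [Field L] [IsAlgClosed L] [Algebra K L] [CharP L p]
    (hn : ∀ x : ((Over.pullback (Spec.map (CommRingCat.ofHom (algebraMap K L)))).obj G).left, IsClosed {x} →
      ∀ t : ((Over.pullback (Spec.map (CommRingCat.ofHom (algebraMap K L)))).obj G).left.presheaf.stalk x,
        IsNilpotent t → t ^ p ^ n = 0)
    (Q : Over (Spec (CommRingCat.of K))) [GrpObj Q] [LocallyOfFiniteType Q.hom]
    (g : G ⟶ Q) [Flat g.left] [Surjective g.left] [LocallyOfFinitePresentation g.left] [QuasiCompact g.left]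
    (i : Q ⟶ (Over.pullback (FrobPow.frobN p n (Spec (CommRingCat.of K)))).obj G) [Mono i]
    (h : g ≫ i = FrobPow.relFrobN p n _ G) : Smooth Q.hom := by
  let S : Scheme.{u} := Spec (CommRingCat.of K)
  let S' : Scheme.{u} := Spec (CommRingCat.of L)
  let π : S' ⟶ S := Spec.map (CommRingCat.ofHom (algebraMap K L))
  let B := Over.pullback π
  let F := FrobPow.frobN p n S
  let F' := FrobPow.frobN p n S'
  haveI : IsIso F' := FrobPow.isIso_frobN_Spec p n L
  haveI : Surjective π := ⟨fun x => ⟨IsLocalRing.closedPoint L, Subsingleton.elim (α := PrimeSpectrum K) _ x⟩⟩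
  let G' := B.obj G
  let Q' := B.obj Q
  letI : GrpObj G' := Functor.grpObjObj
  letI : GrpObj Q' := Functor.grpObjObj
  haveI : LocallyOfFiniteType G'.hom := by dsimp [G', B]; infer_instance
  haveI : LocallyOfFiniteType Q'.hom := by dsimp [Q', B]; infer_instance
  haveI : FrobSch.IsCharP G.left p := FrobSch.IsCharP.of_hom G.hom p
  haveI : FrobSch.IsCharP G'.left p := FrobSch.IsCharP.of_hom G'.hom p
  haveI : FrobSch.IsCharP (pullback G.hom π) p := ‹FrobSch.IsCharP G'.left p›
  haveI := LocallyOfFiniteType.jacobsonSpace G'.hom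
  haveI := LocallyOfFiniteType.jacobsonSpace Q'.hom
  haveI := LocallyOfFiniteType.isLocallyNoetherian Q'.hom
  obtain ⟨r, hr⟩ := FrobPow.exists_factor_nilradical p n G'.left hn
  let PG := (Over.pullback F).obj G
  let Y := pullback PG.hom π
  let e : Y ⟶ G'.left := pullback.lift (pullback.fst PG.hom π ≫ pullback.fst G.hom F)
    (pullback.snd PG.hom π ≫ F') (by
      rw [Category.assoc, pullback.condition]
      show pullback.fst PG.hom π ≫ PG.hom ≫ F = _
      rw [pullback.condition_assoc, Category.assoc]
      congr 1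
      exact (FrobPow.frobN_comp p n π).symm)
  haveI : Mono e := by
    refine ⟨fun {T} a b hab => ?_⟩
    have h1 := congrArg (· ≫ pullback.fst G.hom π) hab
    have h2 := congrArg (· ≫ pullback.snd G.hom π) hab
    simp only [e, Category.assoc, pullback.lift_fst, pullback.lift_snd] at h1 h2
    rw [← Category.assoc a, ← Category.assoc b, cancel_mono] at h2
    apply pullback.hom_ext _ h2
    apply pullback.hom_ext
    · simpa only [Category.assoc] using h1
    · show (a ≫ pullback.fst PG.hom π) ≫ PG.hom = (b ≫ pullback.fst PG.hom π) ≫ PG.hom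
      rw [Category.assoc, Category.assoc, pullback.condition, reassoc_of% h2]
  haveI : Mono i.left := inferInstance
  haveI : Mono (B.map i) := inferInstance
  haveI : Mono (B.map i).left := inferInstance
  let m : Q'.left ⟶ G'.left := (B.map i).left ≫ e
  haveI : Mono m := mono_comp _ _
  let g' : G'.left ⟶ Q'.left := (B.map g).left
  have sq := H19Grp.isPullback_map π g
  haveI : Flat g' := MorphismProperty.of_isPullback sq (inferInstanceAs (Flat g.left))
  haveI : Surjective g' := MorphismProperty.of_isPullback sq (inferInstanceAs (Surjective g.left))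
  haveI : LocallyOfFinitePresentation g' :=
    MorphismProperty.of_isPullback sq (inferInstanceAs (LocallyOfFinitePresentation g.left))
  haveI : QuasiCompact g' := MorphismProperty.of_isPullback sq (inferInstanceAs (QuasiCompact g.left))
  have hgm : g' ≫ m = r ≫ G'.left.nilradical.subschemeι := by
    rw [hr]
    show (B.map g).left ≫ (B.map i).left ≫ e = _
    rw [← Category.assoc, ← Over.comp_left, ← Functor.map_comp, h]
    apply pullback.hom_ext
    · rw [Category.assoc, pullback.lift_fst]
      simp only [B, Over.pullback_map_left]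
      rw [pullback.lift_fst_assoc, Category.assoc, FrobPow.relFrobN_fst]
      exact (FrobPow.frobN_comp p n (pullback.fst G.hom π)).symm
    · rw [Category.assoc, pullback.lift_snd]
      simp only [B, Over.pullback_map_left]
      rw [pullback.lift_snd_assoc]
      exact (FrobPow.frobN_comp p n G'.hom).symm
  obtain ⟨t, ht, htm⟩ := FlatMonoFactor.exists_desc g' m r G'.left.nilradical.subschemeι hgm
  haveI : Mono t := by
    haveI : Mono (t ≫ G'.left.nilradical.subschemeι) := by rw [htm]; infer_instance
    exact mono_of_mono t G'.left.nilradical.subschemeι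
  -- generic flatness of `r` gives an open subscheme of `Q'` that is reduced
  haveI : QuasiCompact r := by
    haveI : QuasiCompact (r ≫ G'.left.nilradical.subschemeι) := by rw [hr]; infer_instance
    exact QuasiCompact.of_comp r G'.left.nilradical.subschemeι
  haveI : LocallyOfFiniteType r := by
    haveI : LocallyOfFiniteType (r ≫ (G'.left.nilradical.subschemeι ≫ G'.hom ≫ F')) := by
      rw [← Category.assoc, hr, ← Category.assoc, FrobPow.frobN_comp, Category.assoc]
      haveI : FrobSch.IsCharP S' p := inferInstance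
      infer_instance
    exact locallyOfFiniteType_of_comp r (G'.left.nilradical.subschemeι ≫ G'.hom ≫ F')
  obtain ⟨U, hUd, hUf, hUp⟩ := H7Flat.exists_dense_flatLFP r
  haveI : Nonempty G'.left := ⟨unitPt G'⟩
  haveI : Nonempty G'.left.nilradical.subscheme := ⟨r (unitPt G')⟩
  obtain ⟨u, hu⟩ := hUd.nonempty
  have hsr : Function.Surjective r := fun z => by
    refine ⟨G'.left.nilradical.subschemeι z, G'.left.nilradical.subschemeι.isClosedEmbedding.injective ?_⟩
    rw [← Scheme.Hom.comp_apply, hr]
    rfl
  let V : Q'.left.Opens := t ⁻¹ᵁ U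
  haveI : Nonempty (↑(t ⁻¹ᵁ U) : Scheme) := by
    obtain ⟨w, rfl⟩ := hsr u
    refine ⟨⟨g' w, ?_⟩⟩
    show t (g' w) ∈ U
    rwa [← Scheme.Hom.comp_apply, ht]
  haveI : Flat (t ∣_ U) := by
    have hgU : IsPullback (g' ∣_ (t ⁻¹ᵁ U)) ((g' ⁻¹ᵁ t ⁻¹ᵁ U).ι) ((t ⁻¹ᵁ U).ι) g' := isPullback_morphismRestrict _ _
    haveI : Flat (g' ∣_ (t ⁻¹ᵁ U)) := MorphismProperty.of_isPullback hgU.flip inferInstance
    haveI : Surjective (g' ∣_ (t ⁻¹ᵁ U)) := MorphismProperty.of_isPullback hgU.flip inferInstance
    haveI : Flat (g' ∣_ (t ⁻¹ᵁ U) ≫ t ∣_ U) := by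
      rw [← morphismRestrict_comp]
      subst ht
      exact hUf
    haveI : Flat (𝟙 _ ≫ g' ∣_ (t ⁻¹ᵁ U)) := by rw [Category.id_comp]; infer_instance
    haveI : Surjective (𝟙 _ ≫ g' ∣_ (t ⁻¹ᵁ U)) := by rw [Category.id_comp]; infer_instance
    exact H13Desc.flat_of_refinement (g' ∣_ (t ⁻¹ᵁ U)) (t ∣_ U) (𝟙 _)
  haveI : Mono (t ∣_ U) := by
    haveI : Mono ((t ∣_ U) ≫ U.ι) := by rw [morphismRestrict_ι]; infer_instance
    exact mono_of_mono _ U.ι
  haveI : IsLocallyNoetherian G'.left := LocallyOfFiniteType.isLocallyNoetherian G'.hom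
  haveI : IsLocallyNoetherian G'.left.nilradical.subscheme :=
    LocallyOfFiniteType.isLocallyNoetherian G'.left.nilradical.subschemeι
  haveI : LocallyOfFiniteType t := by
    haveI : LocallyOfFiniteType (t ≫ (G'.left.nilradical.subschemeι ≫ G'.hom ≫ F')) := by
      rw [reassoc_of% htm]
      have : m ≫ G'.hom = (B.map i).left ≫ pullback.snd PG.hom π ≫ F' := by
        show ((B.map i).left ≫ e) ≫ pullback.snd G.hom π = _
        rw [Category.assoc, pullback.lift_snd]
      rw [reassoc_of% this]
      have h3 : (B.map i).left ≫ pullback.snd PG.hom π = Q'.hom := Over.w (B.map i)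
      rw [reassoc_of% h3]
      infer_instance
    exact locallyOfFiniteType_of_comp t (G'.left.nilradical.subschemeι ≫ G'.hom ≫ F')
  haveI : IsOpenImmersion (t ∣_ U) := IsOpenImmersion.of_flat_of_mono _
  haveI : IsReduced (↑(t ⁻¹ᵁ U) : Scheme) := isReduced_of_isOpenImmersion (t ∣_ U)
  -- translate
  have hQ' : IsReduced Q'.left := by
    obtain ⟨⟨y₀, hy₀⟩⟩ := ‹Nonempty (↑(t ⁻¹ᵁ U) : Scheme)›
    obtain ⟨y, hy, hyc⟩ := nonempty_inter_closedPoints (Z := ((t ⁻¹ᵁ U : Q'.left.Opens) : Set Q'.left))
      ⟨y₀, hy₀⟩ (t ⁻¹ᵁ U).isOpen.isLocallyClosed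
    haveI hyred : _root_.IsReduced (Q'.left.presheaf.stalk y) :=
      isReduced_of_injective ((t ⁻¹ᵁ U).stalkIso ⟨y, hy⟩).inv.hom
        (ConcreteCategory.bijective_of_isIso ((t ⁻¹ᵁ U).stalkIso ⟨y, hy⟩).inv).1
    obtain ⟨eq, heq⟩ := exists_iso_unitPt Q' y hyc
    haveI : IsIso eq.hom.left := inferInstanceAs (IsIso ((Over.forget _).map eq.hom))
    haveI : IsIso eq.inv.left := inferInstanceAs (IsIso ((Over.forget _).map eq.inv))
    apply isReduced_left_of_isReduced_unit
    haveI : _root_.IsReduced (Q'.left.presheaf.stalk (eq.hom.left (unitPt Q'))) := heq ▸ hyred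
    exact isReduced_of_injective (inv (eq.hom.left.stalkMap (unitPt Q'))).hom
      (ConcreteCategory.bijective_of_isIso (inv (eq.hom.left.stalkMap (unitPt Q')))).1
  haveI := hQ'
  haveI : Smooth Q'.hom := smooth_of_isReduced_perfect Q'
  apply MorphismProperty.of_pullback_snd_of_descendsAlong (Q := @Surjective ⊓ @Flat ⊓ @QuasiCompact) (g := π)
  · exact ⟨⟨inferInstance, inferInstance⟩, inferInstance⟩
  · exact (inferInstance : Smooth Q'.hom)


/-- Let K be a field and G a K-group scheme whose structure morphism is locally of finite type. Then G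
is an extension of a smooth K-group scheme by a finite connected one: there are a K-group scheme H
with H → Spec K finite and H connected, a K-group scheme Q with Q → Spec K smooth, and homomorphisms
i : H → G and v : G → Q with i a closed immersion, such that 1 → H → G → Q → 1 is exact for the fppf
topology (i followed by v is trivial, G with H acting through i is a pseudo-torsor over Q, and v
acquires sections over the members of some fppf covering of Q). -/
theorem result (K : Type u) [Field K]
    (G : Over (Spec (CommRingCat.of K))) [GrpObj G] [LocallyOfFiniteType G.hom] :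
    ∃ (H Q : Over (Spec (CommRingCat.of K))) (_ : GrpObj H) (_ : GrpObj Q) (i : H ⟶ G) (v : G ⟶ Q),
      IsFinite H.hom ∧ ConnectedSpace H.left ∧ Smooth Q.hom ∧ IsClosedImmersion i.left ∧
        NonAbH1.IsExactSeq Scheme.fppfPrecoverage i v := by
  haveI : IsNoetherianRing (CommRingCat.of K) := inferInstanceAs (IsNoetherianRing K)
  obtain ⟨p, hp⟩ := CharP.exists K
  rcases CharP.char_is_prime_or_zero K p with hprime | rfl
  · haveI : Fact p.Prime := ⟨hprime⟩
    let L := AlgebraicClosure K
    haveI : CharP L p := charP_of_injective_algebraMap (algebraMap K L).injective p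
    let G' := (Over.pullback (Spec.map (CommRingCat.ofHom (algebraMap K L)))).obj G
    letI : GrpObj G' := Functor.grpObjObj
    haveI : LocallyOfFiniteType G'.hom := by dsimp [G']; infer_instance
    obtain ⟨n, hn⟩ := GroupCI.exists_nil_bound p G'
    haveI : FrobSch.IsCharP G.left p := FrobSch.IsCharP.of_hom G.hom p
    let F := FrobPow.frobN p n (Spec (CommRingCat.of K))
    let P := (Over.pullback F).obj G
    letI : GrpObj P := Functor.grpObjObj
    haveI : LocallyOfFiniteType P.hom := by dsimp [P]; infer_instance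
    let q := FrobPow.relFrobN p n _ G
    haveI : IsMonHom q := FrobPow.isMonHom_relFrobN p n _ G
    haveI : LocallyOfFiniteType q.left := by
      haveI : LocallyOfFiniteType (q.left ≫ P.hom) := by rw [Over.w q]; infer_instance
      exact locallyOfFiniteType_of_comp q.left P.hom
    haveI : IsIntegralHom q.left := by
      haveI : IsIntegralHom (q.left ≫ pullback.fst G.hom F) := by rw [FrobPow.relFrobN_fst]; infer_instance
      haveI : IsIntegralHom (pullback.fst G.hom F) := MorphismProperty.pullback_fst _ _ inferInstance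
      exact IsIntegralHom.of_comp q.left (pullback.fst G.hom F)
    haveI : IsFinite q.left := (IsFinite.iff_isIntegralHom_and_locallyOfFiniteType _).mpr ⟨inferInstance, inferInstance⟩
    have hinj : Function.Injective q.left := fun a b hab => by
      have h' : (q.left ≫ pullback.fst G.hom F) a = (q.left ≫ pullback.fst G.hom F) b :=
        congrArg (pullback.fst G.hom F) hab
      rw [FrobPow.relFrobN_fst] at h'
      exact h'
    obtain ⟨N, gN, j, hj, hker, hfin, hcl, hconn⟩ := exists_kernel q hinj
    haveI : IsLocallyNoetherian P.left := LocallyOfFiniteType.isLocallyNoetherian P.hom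
    haveI : LocallyOfFinitePresentation q.left := inferInstance
    haveI : Flat (pullback.fst q.left q.left) := by
      have hpb := (isPullback_kernel q j hker).map (Over.forget _)
      have hflat : Flat (fst G N).left := inferInstanceAs (Flat (pullback.fst G.hom N.hom))
      have h5 : hpb.isoPullback.inv ≫ (fst G N).left = pullback.fst q.left q.left := hpb.isoPullback_inv_fst
      rw [← h5]
      exact (MorphismProperty.cancel_left_of_respectsIso @Flat _ _).mpr hflat
    obtain ⟨Q₀, g₀, i₀, hs, hf, hfp, hmono, hfac⟩ := FlatMonoFactor.exists_factor q.left inferInstance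
    let Q : Over (Spec (CommRingCat.of K)) := Over.mk (i₀ ≫ P.hom)
    let g : G ⟶ Q := Over.homMk g₀ (by show g₀ ≫ i₀ ≫ P.hom = _; rw [reassoc_of% hfac]; exact Over.w q)
    let i : Q ⟶ P := Over.homMk i₀ rfl
    haveI : Mono i := (Over.forget _).mono_of_mono_map (inferInstanceAs (Mono i₀))
    haveI : Flat g.left := hf
    haveI : Surjective g.left := hs
    haveI : LocallyOfFinitePresentation g.left := hfp
    have hgi : g ≫ i = q := Over.OverMorphism.ext hfac
    haveI : IsMonHom (g ≫ i) := by rw [hgi]; infer_instance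
    obtain ⟨gQ, hmi, hmg⟩ := exists_grpObj_image g i
    haveI := hmg
    haveI := hmi
    haveI : QuasiCompact g.left := by
      haveI : QuasiCompact (g₀ ≫ i₀) := by rw [hfac]; infer_instance
      haveI : QuasiSeparated i₀ := inferInstance
      exact QuasiCompact.of_comp g₀ i₀
    haveI : LocallyOfFiniteType Q.hom := by
      haveI : LocallyOfFiniteType (g.left ≫ Q.hom) := by rw [Over.w g]; infer_instance
      exact S5938.result g.left Q.hom
    refine ⟨N, Q, gN, gQ, j, g, hfin, hconn, isSmooth_of_frob p G n L hn Q g i hgi, hcl, ?_⟩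
    have hkg : AlgGrp.IsKernel j g := isKernel_of
      ((cancel_mono i).mp (by rw [Category.assoc, hgi, kernel_comp_eq_one hker, MonObj.one_comp]))
      (fun T a b h => by haveI := kernel_mono hker; exact (cancel_mono j).mp h)
      (fun T x hx => kernel_lift hker x (by rw [← hgi, reassoc_of% hx, MonObj.one_comp]))
    exact isExactSeq_of_fppf j g hkg
  · haveI : CharZero K := CharP.charP_to_charZero K
    haveI := smooth_of_charZero G
    haveI : IsClosedImmersion (η[G]).left := isClosedImmersion_of_comp_eq_id G.hom _ (Over.w η[G])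
    haveI : IsMonHom (η[G]) := ⟨by simp, by simp [unitors_equal]⟩
    have hker : AlgGrp.IsKernel η[G] (𝟙 G) :=
      isKernel_of (by rw [Category.comp_id, Hom.one_def, toUnit_unique (toUnit (𝟙_ _)) (𝟙 _), Category.id_comp])
        (fun T a b _ => toUnit_unique a b)
        (fun T x hx => ⟨toUnit T, by rw [Category.comp_id] at hx; rw [hx, Hom.one_def]⟩)
    haveI : Flat (𝟙 G : G ⟶ G).left := by rw [Over.id_left]; infer_instance
    haveI : Surjective (𝟙 G : G ⟶ G).left := by rw [Over.id_left]; infer_instance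
    haveI : LocallyOfFinitePresentation (𝟙 G : G ⟶ G).left := by rw [Over.id_left]; infer_instance
    haveI : ConnectedSpace (Spec (CommRingCat.of K)) :=
      { toPreconnectedSpace := ⟨Set.subsingleton_of_subsingleton.isPreconnected⟩, toNonempty := inferInstance }
    exact ⟨𝟙_ _, G, inferInstance, inferInstance, η[G], 𝟙 G, inferInstanceAs (IsFinite (𝟙 (Spec (CommRingCat.of K)))),
      inferInstanceAs (ConnectedSpace (Spec (CommRingCat.of K))), inferInstance, inferInstance,
      isExactSeq_of_fppf η[G] (𝟙 G) hker⟩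

end Groth.Agent.S18320
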