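import Groth.Statements.S12898
import Groth.Agent.H4DR.TorAmp.Derived

set_option autoImplicit false
universe u
open CategoryTheory CategoryTheory.Limits
attribute [local instance] HasDerivedCategory.standard
open DRing

namespace Groth.Agent.S12898

/-- Let φ : R → A be a map of commutative rings. The derived base change functor D(R) → D(A), E ↦ E
⊗^L_R A (the total left derived functor of extension of scalars, whose existence is the stated
instance hypothesis, true), is left adjoint to the restriction functor D(A) → D(R). (Existence of an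
adjunction only.) -/
theorem result {R A : Type u} [CommRing R] [CommRing A] (φ : R →+* A)
    [DRing.HasLBaseChange φ] :
    Nonempty (DRing.LBaseChange φ ⊣ DRing.restrictD φ) := by
  let h := Groth.Agent.H4DR.TorAmp.extAdapted φ
  let P := Groth.Agent.H4DR.TorAmp.KF R
  haveI := Groth.Agent.H16Derived.LeftDerTri.isLocalization h
  let W := Groth.Agent.H16Derived.LeftDerTri.qis P
  let G := P.ι ⋙ ((ModuleCat.extendScalars.{u, u, u} φ).mapHomologicalComplex (ComplexShape.up ℤ) ⋙ DerivedCategory.Q)
  let e₁ : (P.ι ⋙ DerivedCategory.Q) ⋙ DRing.LBaseChange φ ≅ G :=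
    Groth.Agent.H16Derived.LeftDerTri.derivedIso ((DRing.baseChangeKh φ).totalLeftDerivedCounit DerivedCategory.Qh
      (HomotopyCategory.quasiIso (ModuleCat.{u} R) (ComplexShape.up ℤ))) h
  let e₂ : (P.ι ⋙ DerivedCategory.Q) ⋙ Groth.Agent.H25DTen.baseLF φ ≅ G :=
    NatIso.ofComponents
      (fun K => @asIso _ _ _ _ _ (Groth.Agent.H25DTen.isIso_baseα φ K.obj K.property))
      (fun f => (Groth.Agent.H25DTen.baseα φ).naturality (P.ι.map f))
  letI : Localization.Lifting (P.ι ⋙ DerivedCategory.Q) W G (DRing.LBaseChange φ) := ⟨e₁⟩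
  letI : Localization.Lifting (P.ι ⋙ DerivedCategory.Q) W G (Groth.Agent.H25DTen.baseLF φ) := ⟨e₂⟩
  exact ⟨(Groth.Agent.H25DTen.baseAdj' φ).ofNatIsoLeft
    (Localization.liftNatIso (P.ι ⋙ DerivedCategory.Q) W G G _ _ (Iso.refl _))⟩

end Groth.Agent.S12898
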