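import Groth.Statements.S9708
import Groth.Agent.H11Proj.ProjectiveProps
import Groth.Agent.H11Proj.QProjCriterion
import Groth.Agent.H11Ample.RelComp
-- import your own Groth.Agent.* helpers here

set_option autoImplicit false
universe u
open CategoryTheory CategoryTheory.Limits AlgebraicGeometry
open Mor

namespace Groth.Agent.S9708

/-- Let S be quasi-compact and quasi-separated and let f : X ⟶ Y and g : Y ⟶ S be projective. Then f ≫ g
is projective. Here projective means that the source is isomorphic over the target to the relative
Proj of a quasi-coherent graded algebra generated by its finite-type degree-one part; the published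
definition uses closed subschemes of P(E) with E of finite type, an equivalent condition. -/
theorem result {X Y S : Scheme.{u}} [CompactSpace ↥S] [QuasiSeparatedSpace ↥S]
    (f : X ⟶ Y) (g : Y ⟶ S) (hf : RelProj.IsProjective f) (hg : RelProj.IsProjective g) :
    RelProj.IsProjective (f ≫ g) := by
  haveI := H11Proj.isProper_of_isProjective hf
  haveI := H11Proj.isProper_of_isProjective hg
  obtain ⟨-, -, L, hL⟩ := H11Proj.isQuasiProjective_of_isProjective hf
  obtain ⟨-, -, K, hK⟩ := H11Proj.isQuasiProjective_of_isProjective hg
  obtain ⟨n₀, -, h⟩ := H11Ample.isRelAmple_comp_tensor hL hK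
  exact H11Proj.isProjective_of_isRelAmple (h n₀ le_rfl)

end Groth.Agent.S9708
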