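import Groth.Statements.S6862
import Mathlib.Algebra.Module.StablyFree.Basic
import Mathlib.RingTheory.Finiteness.Prod
import Mathlib.RingTheory.Finiteness.Basic

set_option autoImplicit false
universe u
open CAlg

namespace Groth.Agent.S6862

/-- Let `R` be a commutative ring and `P'`, `P`, `P''` finitely generated projective `R`-modules in an
exact sequence `0 → P' → P → P'' → 0`. Whenever two of the three are stably free, the remaining one
is stably free too (all three cases are stated). -/
theorem result {R : Type u} [CommRing R] {P' P P'' : Type u}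
    [AddCommGroup P'] [Module R P'] [Module.Finite R P'] [Module.Projective R P']
    [AddCommGroup P] [Module R P] [Module.Finite R P] [Module.Projective R P]
    [AddCommGroup P''] [Module R P''] [Module.Finite R P''] [Module.Projective R P'']
    (f : P' →ₗ[R] P) (g : P →ₗ[R] P'') (hf : Function.Injective f) (hg : Function.Surjective g)
    (hfg : Function.Exact f g) :
    (Module.IsStablyFree R P' → Module.IsStablyFree R P → Module.IsStablyFree R P'') ∧
    (Module.IsStablyFree R P' → Module.IsStablyFree R P'' → Module.IsStablyFree R P) ∧
    (Module.IsStablyFree R P → Module.IsStablyFree R P'' → Module.IsStablyFree R P') := by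
  obtain ⟨s, hs⟩ := Module.projective_lifting_property g LinearMap.id hg
  let e : P ≃ₗ[R] P' × P'' :=
    ((hfg.splitSurjectiveEquiv hf) ⟨s, hs⟩).1
  refine ⟨fun h₁ h₂ => ?_, fun h₁ h₂ => ?_, fun h₁ h₂ => ?_⟩
  all_goals
    obtain ⟨A, _, _, _, _, hA⟩ := h₁.exist_free_prod
    obtain ⟨B, _, _, _, _, hB⟩ := h₂.exist_free_prod
  · -- P' , P → P''
    let E : ((P × B) × A) ≃ₗ[R] P'' × ((P' × A) × B) :=
      ((e.prodCongr (LinearEquiv.refl R B)).prodCongr (LinearEquiv.refl R A)).trans
        { toFun := fun x => (x.1.1.2, ((x.1.1.1, x.2), x.1.2))
          invFun := fun y => (((y.2.1.1, y.1), y.2.2), y.2.1.2)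
          map_add' := fun x y => rfl
          map_smul' := fun r x => rfl
          left_inv := fun x => rfl
          right_inv := fun y => rfl }
    haveI : Module.Free R (P'' × ((P' × A) × B)) := Module.Free.of_equiv E
    exact .of_free_prod R P'' ((P' × A) × B)
  · -- P', P'' → P
    let E : ((P' × A) × (P'' × B)) ≃ₗ[R] P × (A × B) :=
      LinearEquiv.trans
        { toFun := fun x => ((x.1.1, x.2.1), (x.1.2, x.2.2))
          invFun := fun y => ((y.1.1, y.2.1), (y.1.2, y.2.2))
          map_add' := fun x y => rfl
          map_smul' := fun r x => rfl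
          left_inv := fun x => rfl
          right_inv := fun y => rfl }
        (e.symm.prodCongr (LinearEquiv.refl R (A × B)))
    haveI : Module.Free R (P × (A × B)) := Module.Free.of_equiv E
    exact .of_free_prod R P (A × B)
  · -- P, P'' → P'
    let E : ((P × A) × B) ≃ₗ[R] P' × ((P'' × B) × A) :=
      ((e.prodCongr (LinearEquiv.refl R A)).prodCongr (LinearEquiv.refl R B)).trans
        { toFun := fun x => (x.1.1.1, ((x.1.1.2, x.2), x.1.2))
          invFun := fun y => (((y.1, y.2.1.1), y.2.2), y.2.1.2)
          map_add' := fun x y => rfl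
          map_smul' := fun r x => rfl
          left_inv := fun x => rfl
          right_inv := fun y => rfl }
    haveI : Module.Free R (P' × ((P'' × B) × A)) := Module.Free.of_equiv E
    exact .of_free_prod R P' ((P'' × B) × A)

end Groth.Agent.S6862
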