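import Groth.Statements.S1067
import Groth.Agent.H16Derived.GenAmpleDetect
import Groth.Agent.H15Site.DerivedRetract
import Groth.Agent.H17.Horrocks.Koszul
import Groth.Agent.H10Coh.Stab.TwistInt

set_option autoImplicit false
universe u
open CategoryTheory CategoryTheory.Limits AlgebraicGeometry
attribute [local instance] HasDerivedCategory.standard
open Perf

namespace Groth.Agent.S1067

set_option linter.style.haveILetI false
set_option backward.isDefEq.respectTransparency false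
attribute [local instance] HasDerivedCategory.standard
open CategoryTheory.Limits CategoryTheory.Pretriangulated
open Groth.Agent Groth.Agent.H16Derived.GenAmple Groth.Agent.H22Alg

/-- No morphisms from any shift. -/
def Orth {X : Scheme.{u}} (K : DCoh.D X) (M : X.Modules) : Prop :=
  ∀ (m : ℤ) (φ : (DCoh.inD X M)⟦m⟧ ⟶ K), φ = 0

theorem Orth.of_iso {X : Scheme.{u}} {K : DCoh.D X} {M N : X.Modules} (e : M ≅ N) (h : Orth K M) : Orth K N := by
  intro m φ
  have := h m ((shiftFunctor _ m).map ((DerivedCategory.singleFunctor X.Modules 0).map e.hom) ≫ φ)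
  rwa [← cancel_epi ((shiftFunctor _ m).map ((DerivedCategory.singleFunctor X.Modules 0).map e.hom)), comp_zero]

theorem orth_zero {X : Scheme.{u}} {K : DCoh.D X} {M : X.Modules} (h : IsZero M) : Orth K M := fun m φ =>
  ((shiftFunctor _ m).map_isZero ((DerivedCategory.singleFunctor X.Modules 0).map_isZero h)).eq_of_src _ _

theorem orth_X₁ {X : Scheme.{u}} {K : DCoh.D X} {S : ShortComplex X.Modules} (hS : S.ShortExact)
    (h₂ : Orth K S.X₂) (h₃ : Orth K S.X₃) : Orth K S.X₁ := by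
  have h3 : ∀ (m : ℤ) (φ : (DCoh.inD X S.X₃)⟦m⟧ ⟶ K), φ = 0 := h₃
  intro m φ
  let T := hS.singleTriangle.invRotate
  have hT : T ∈ distTriang _ := inv_rot_of_distTriang _ hS.singleTriangle_distinguished
  let Tm := (Triangle.shiftFunctor _ m).obj T
  have hTm : Tm ∈ distTriang _ := Triangle.shift_distinguished T hT m
  obtain ⟨ψ, hψ⟩ := Triangle.yoneda_exact₂ Tm hTm φ (by
    let e : Tm.obj₁ ≅ (DCoh.inD X S.X₃)⟦(-1 : ℤ) + m⟧ := ((shiftFunctorAdd _ (-1 : ℤ) m).app _).symm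
    have := h3 ((-1 : ℤ) + m) (e.inv ≫ Tm.mor₁ ≫ φ)
    exact (cancel_epi e.inv).1 (this.trans comp_zero.symm))
  have hψ0 : ψ = 0 := h₂ m ψ
  rw [hψ, hψ0]
  exact comp_zero

theorem orth_biprod {X : Scheme.{u}} {K : DCoh.D X} {M N : X.Modules} (hM : Orth K M) (hN : Orth K N) :
    Orth K (M ⊞ N) := by
  intro m φ
  have h1 := hM m ((shiftFunctor _ m).map ((DerivedCategory.singleFunctor X.Modules 0).map biprod.inl) ≫ φ)
  have h2 := hN m ((shiftFunctor _ m).map ((DerivedCategory.singleFunctor X.Modules 0).map biprod.inr) ≫ φ)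
  let F := DerivedCategory.singleFunctor X.Modules 0 ⋙ shiftFunctor (DCoh.D X) m
  show (φ : F.obj (M ⊞ N) ⟶ K) = 0
  have hid : F.map (biprod.fst ≫ biprod.inl + biprod.snd ≫ biprod.inr : M ⊞ N ⟶ M ⊞ N) = 𝟙 _ := by
    rw [biprod.total, CategoryTheory.Functor.map_id]
  have h1' : F.map (biprod.inl : M ⟶ M ⊞ N) ≫ φ = 0 := h1
  have h2' : F.map (biprod.inr : N ⟶ M ⊞ N) ≫ φ = 0 := h2
  refine ((Category.id_comp φ).symm.trans (congrArg (· ≫ φ) hid.symm)).trans ?_
  rw [Functor.map_add, Functor.map_comp, Functor.map_comp, Preadditive.add_comp,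
    Category.assoc, Category.assoc, h1', h2', comp_zero, comp_zero, add_zero]

theorem orth_first {X : Scheme.{u}} {K : DCoh.D X} :
    ∀ (N : ℕ) (L : ℕ → X.Modules) (d : ∀ j, L j ⟶ L (j + 1)) (w : ∀ j, d j ≫ d (j + 1) = 0),
      (∀ j, (ShortComplex.mk (d j) (d (j + 1)) (w j)).Exact) → Mono (d 0) → IsZero (L (N + 1)) →
      (∀ j, Orth K (L (j + 1))) → Orth K (L 0)
  | 0, L, d, w, _, hm, hz, _ => orth_zero (IsZero.of_mono_eq_zero (d 0) (hz.eq_of_tgt _ _))
  | N + 1, L, d, w, hex, hm, hz, hP => by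
    let T : ShortComplex X.Modules := ShortComplex.mk (d 0) (cokernel.π (d 0)) (cokernel.condition _)
    have hT : T.ShortExact :=
      { exact := ShortComplex.exact_of_g_is_cokernel _ (cokernelIsCokernel (d 0)) }
    refine orth_X₁ hT (hP 0) ?_
    let L' : ℕ → X.Modules := fun | 0 => cokernel (d 0) | j + 1 => L (j + 2)
    let d' : ∀ j, L' j ⟶ L' (j + 1) := fun | 0 => cokernel.desc (d 0) (d 1) (w 0) | j + 1 => d (j + 2)
    have w' : ∀ j, d' j ≫ d' (j + 1) = 0 := fun
      | 0 => by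
        rw [← cancel_epi (cokernel.π (d 0))]
        simp only [d', cokernel.π_desc_assoc, w, comp_zero]
      | j + 1 => w (j + 2)
    refine orth_first N L' d' w' (fun j => ?_) ((hex 0).mono_cokernelDesc) hz (fun j => hP (j + 1))
    match j with
    | 0 =>
      let φ : ShortComplex.mk (d 1) (d 2) (w 1) ⟶ ShortComplex.mk (d' 0) (d' 1) (w' 0) :=
        { τ₁ := cokernel.π (d 0), τ₂ := 𝟙 _, τ₃ := 𝟙 _, comm₁₂ := by simp [d'], comm₂₃ := by simp [d'] }
      haveI : Epi φ.τ₁ := inferInstanceAs (Epi (cokernel.π (d 0)))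
      haveI : IsIso φ.τ₂ := inferInstanceAs (IsIso (𝟙 _))
      haveI : Mono φ.τ₃ := inferInstanceAs (Mono (𝟙 _))
      exact (ShortComplex.exact_iff_of_epi_of_isIso_of_mono φ).1 (hex 1)
    | j + 1 => exact hex (j + 2)

/-- Let R be a ring and X = P^n_R. The object O_X ⊕ O_X(-1) ⊕ … ⊕ O_X(-n) generates D_QCoh(O_X): if K ∈
D(O_X) has quasi-coherent cohomology sheaves and every morphism O_X(-d)[m] ⟶ K with 0 ≤ d ≤ n and m
∈ ℤ is zero, then K = 0. -/
theorem result (n : ℕ) (R : Type u) [CommRing R]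
    (K : DCoh.D (CohB1.ProjSpace n R)) (hK : DCoh.IsQCohD K)
    (h : ∀ (d : ℕ), d ≤ n → ∀ (m : ℤ) (φ : (DCoh.inD (CohB1.ProjSpace n R) (Twist.twistProjSpace n R (-(d : ℤ))))⟦m⟧ ⟶ K), φ = 0) :
    IsZero K := by
  let O : ℤ → (CohB1.ProjSpace n R).Modules := fun a => Twist.twistProjSpace n R a
  have hO : H10Coh.Stab.IsTwistFamily O := H10Coh.Stab.isTwistFamily_projSpace n R
  have hall : ∀ d : ℕ, Orth K (O (-(d : ℤ))) := by
    intro d
    induction d using Nat.strong_induction_on with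
    | _ d ih =>
    by_cases hd : d ≤ n
    · exact h d hd
    obtain ⟨h0, hex⟩ := KosTwist.exact (L := H10Coh.Pn.Od n R 1) (G := H10Coh.Pn.Od n R (-(d : ℤ)))
      (v := H17.Horrocks.coords n R)
      (H11Tilde.isInvertible_twist (H10Coh.Pn.Gr n R) (H17.PnExt.degOne n R) 1) H17.Horrocks.coords_cover 0
    obtain ⟨e⟩ := H17.Horrocks.nonempty_L_zero (KosTwist.A (H10Coh.Pn.Od n R 1) (H10Coh.Pn.Od n R (-(d : ℤ)))) (n + 1)
    refine Orth.of_iso e ?_
    refine orth_first (n + 1) _ _ _ hex h0 (KosLine.isZero_L _ _ _ (by omega)) fun j => ?_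
    refine KosLine.mem_L (A := KosTwist.A (H10Coh.Pn.Od n R 1) (H10Coh.Pn.Od n R (-(d : ℤ)))) (Orth K)
      (orth_zero (isZero_zero _)) (fun M N => orth_biprod) (n + 1) 0 (j + 1) fun hj => ?_
    obtain ⟨e'⟩ := H17.Horrocks.nonempty_A (n := n) (R := R) (-(d : ℤ)) (0 + (j + 1)) (-(((d - (j + 1) : ℕ)) : ℤ))
      (by omega)
    exact Orth.of_iso e'.symm (ih (d - (j + 1)) (by omega))
  let L := Twist.twistProjSpace n R 1
  have hL : CohB1.IsAmple L := H11Ample.isAmple_twistProjSpace n R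
  refine isZero_of_isAmple L hL (fun k => exact_tw (L := CohB1.tensorPow L k) (H11Ample.isInvertible_tensorPow hL.1 k)) hK
    fun k m => ?_
  let A := CohB1.tensorPow L k
  let B := O (-(k : ℤ))
  haveI := (exact_tw (L := A) (H11Ample.isInvertible_tensorPow hL.1 k)).1
  haveI := (exact_tw (L := A) (H11Ample.isInvertible_tensorPow hL.1 k)).2
  haveI := (exact_tw (L := B) (hO.inv _)).1
  haveI := (exact_tw (L := B) (hO.inv _)).2
  intro φ
  obtain ⟨a⟩ := hO.nonempty_tensorPow k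
  obtain ⟨z⟩ := hO.zero
  obtain ⟨ab⟩ := hO.add (k : ℤ) (-(k : ℤ))
  obtain ⟨ba⟩ := hO.add (-(k : ℤ)) (k : ℤ)
  let eAB : CohB1.tensorMod A B ≅ Coh.structureModule _ :=
    PicGrp.tensorModIso a (Iso.refl B) ≪≫ ab ≪≫ eqToIso (congrArg O (add_neg_cancel (k : ℤ))) ≪≫ z
  let eBA : CohB1.tensorMod B A ≅ Coh.structureModule _ :=
    PicGrp.tensorModIso (Iso.refl B) a ≪≫ ba ≪≫ eqToIso (congrArg O (neg_add_cancel (k : ℤ))) ≪≫ z
  let u : tw (Coh.structureModule (CohB1.ProjSpace n R)) ≅ 𝟭 _ := (asIso (sig (𝟙 (Coh.structureModule _)))).symm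
  let ρ : tw B ⋙ tw A ≅ 𝟭 _ := twCompIso B A ≪≫ (DCoh.tensorBi (X := CohB1.ProjSpace n R)).flip.mapIso eBA ≪≫ u
  let ρ' : tw A ⋙ tw B ≅ 𝟭 _ := twCompIso A B ≪≫ (DCoh.tensorBi (X := CohB1.ProjSpace n R)).flip.mapIso eAB ≪≫ u
  haveI : (tw A).Additive := Functor.additive_of_preserves_binary_products _
  haveI : (tw B).Additive := Functor.additive_of_preserves_binary_products _
  refine (H15Site.DerivedRetract.bijective_map (P := tw B) (R := tw A) (𝟙 _) ρ'.hom ρ
    (fun G => inferInstance) (fun G => inferInstance) _ _).1 ?_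
  show (tw B).mapDerivedCategory.map φ = (tw B).mapDerivedCategory.map 0
  rw [Functor.map_zero]
  let C := DerivedCategory.Q.objPreimage K
  let eC : DerivedCategory.Q.obj C ≅ K := DerivedCategory.Q.objObjPreimageIso K
  let eR : (tw B).mapDerivedCategory.obj ((tw A).mapDerivedCategory.obj K) ≅ K :=
    (tw B).mapDerivedCategory.mapIso ((tw A).mapDerivedCategory.mapIso eC.symm) ≪≫
      (H15Site.DerivedRetract.compFactors (tw A) (tw B)).app C ≪≫
      DerivedCategory.Q.mapIso (HomologicalComplex.Hom.isoOfComponents (fun i => ρ'.app (C.X i))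
        fun i j _ => (ρ'.hom.naturality (C.d i j)).symm) ≪≫ eC
  let eL : (tw B).mapDerivedCategory.obj ((DCoh.inD _ (Coh.structureModule (CohB1.ProjSpace n R)))⟦m⟧) ≅
      (DCoh.inD _ B)⟦m⟧ :=
    ((tw B).mapDerivedCategory.commShiftIso m).app _ ≪≫
      (shiftFunctor _ m).mapIso (((tw B).mapDerivedCategorySingleFunctor 0).app _ ≪≫
        (DerivedCategory.singleFunctor _ 0).mapIso
          (H10Coh.Tw.leftUnitIso B))
  have := hall k m (eL.inv ≫ (tw B).mapDerivedCategory.map φ ≫ eR.hom)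
  exact (cancel_mono eR.hom).1 ((cancel_epi eL.inv).1 (this.trans comp_zero.symm) |>.trans zero_comp.symm)

end Groth.Agent.S1067
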