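import Groth.Statements.S8669
import Groth.Agent.H16Derived.PBQCTriv

set_option autoImplicit false
universe v u
open CategoryTheory CategoryTheory.Limits AlgebraicGeometry
attribute [local instance] HasDerivedCategory.standard
open SGA6

namespace Groth.Agent.S8669

open Groth.Agent.H22Alg Groth.Agent.H22Alg.PB
open Groth.Agent.H16Derived.PBQC
open H16Derived.KFlat.Stalk
attribute [local instance 10000] Groth.Agent.H10Coh.hasSheafifyAb Groth.Agent.H10Coh.hasWeakSheafifyAb Groth.Agent.H10Coh.hasExtAb Groth.Agent.H10Coh.enoughInjAb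

theorem isPn_trivial (S : Scheme.{u}) (r : ℕ) :
    IsPn r (KRR.pr r S) (fun d => Twist.twistOver r S d) where
  tw := isTwistFamily_twistOver r S
  chart x := by
    let φ : (↑(⊤ : S.Opens) : Scheme.{u}) ⟶ S := (⊤ : S.Opens).ι
    haveI : IsIso φ := inferInstanceAs (IsIso S.topIso.hom)
    let ψ := KRR.projSpaceMap r φ
    haveI : IsIso ψ := MorphismProperty.of_isPullback (P := MorphismProperty.isomorphisms Scheme.{u})
      (KBaseChangeCl.isPullback_map φ).flip (MorphismProperty.isomorphisms.infer_property φ)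
    refine ⟨⟨⊤, ψ, inferInstance, (KBaseChangeCl.isPullback_map φ).w, ?_, BCReg.nonempty_pull_twist (n := r) φ (1 : ℤ)⟩, trivial⟩
    rw [Scheme.Hom.opensRange_of_isIso]
    rfl

/-- Equal classes of bundles have equal classes of direct images of high twists. -/
theorem eventually_zero' {X P : Scheme.{u}} [CompactSpace ↥X] {r : ℕ} {π : P ⟶ X} {O : ℤ → P.Modules}
    (hπ : IsPn r π O) {x : FreeAbelianGroup (Subtype (KRR.vbP P))} (hx : x ∈ KZero.relSub (KRR.vbP P)) :
    ∃ N₀ : ℕ, ∀ N : ℕ, N₀ ≤ N →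
      FreeAbelianGroup.lift (fun F : Subtype (KRR.vbP P) => cP π (tw O (N : ℤ) F.1)) x = 0 := by
  induction hx using AddSubgroup.closure_induction with
  | mem x hx =>
    obtain ⟨S, h₁, h₂, h₃, hS, rfl⟩ := hx
    obtain ⟨n₁, hn₁⟩ := exists_reg_twist hπ h₁
    obtain ⟨n₂, hn₂⟩ := exists_reg_twist hπ h₂
    obtain ⟨n₃, hn₃⟩ := exists_reg_twist hπ h₃
    refine ⟨max n₁ (max n₂ n₃), fun N hN => ?_⟩
    have key : ∀ {M : P.Modules}, FlatMod.IsFinLocFree M → Reg π O (tw O (N : ℤ) M) → Ac π (tw O (N : ℤ) M) :=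
      fun hM hR => ⟨hπ.finLocFree_tw _ hM, fun i hi => hπ.van_self (H8Props.FinLocFree.isQCoh_of_isFinLocFree _ (hπ.finLocFree_tw _ hM)) hR hi⟩
    have h := Groth.Agent.H16Derived.PBQC.push_additive hπ _ (shortExact_tw hπ.tw (N : ℤ) hS)
      (key h₁ (hn₁ N (by omega))) (key h₂ (hn₂ N (by omega))) (key h₃ (hn₃ N (by omega)))
    rw [map_sub, map_sub, FreeAbelianGroup.lift_apply_of, FreeAbelianGroup.lift_apply_of,
      FreeAbelianGroup.lift_apply_of, sub_sub, sub_eq_zero]
    exact h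
  | zero => exact ⟨0, fun _ _ => map_zero _⟩
  | add a b _ _ ha hb =>
    obtain ⟨Na, ha⟩ := ha
    obtain ⟨Nb, hb⟩ := hb
    exact ⟨max Na Nb, fun N hN => by rw [map_add, ha N (by omega), hb N (by omega), add_zero]⟩
  | neg a _ ha =>
    obtain ⟨Na, ha⟩ := ha
    exact ⟨Na, fun N hN => by rw [map_neg, ha N hN, neg_zero]⟩

/-- Let S be a quasi-compact scheme, f : P = P^r_S ⟶ S the projection, and F, G finite locally free
O_P-modules whose classes in K₀ of finite locally free O_P-modules coincide. Then there is n₀ such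
that for every n ≥ n₀ the modules f_*(F(n)) and f_*(G(n)) are finite locally free on S and have the
same class in K₀ of finite locally free O_S-modules, where F(n) = O_P(n) ⊗ F. (The published
statement is for the projective bundle of any finite locally free module of rank r + 1; this row
takes the trivial bundle.) -/
theorem result (S : Scheme.{u}) [CompactSpace ↥S] (r : ℕ)
    (F G : (KRR.PY r S).Modules) (hF : FlatMod.IsFinLocFree F) (hG : FlatMod.IsFinLocFree G)
    (h : KRR.cl (KRR.PY r S) F = KRR.cl (KRR.PY r S) G) :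
    ∃ n₀ : ℕ, ∀ n : ℕ, n₀ ≤ n →
      FlatMod.IsFinLocFree ((Scheme.Modules.pushforward (KRR.pr r S)).obj (KRR.twF r S (n : ℤ) F)) ∧
      FlatMod.IsFinLocFree ((Scheme.Modules.pushforward (KRR.pr r S)).obj (KRR.twF r S (n : ℤ) G)) ∧
      KRR.cl S ((Scheme.Modules.pushforward (KRR.pr r S)).obj (KRR.twF r S (n : ℤ) F)) =
        KRR.cl S ((Scheme.Modules.pushforward (KRR.pr r S)).obj (KRR.twF r S (n : ℤ) G)) := by
  have hπ := isPn_trivial S r
  obtain ⟨n₁, hn₁⟩ := Groth.Agent.H16Derived.PBQC.exists_reg_twist hπ hF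
  obtain ⟨n₂, hn₂⟩ := Groth.Agent.H16Derived.PBQC.exists_reg_twist hπ hG
  rw [KRR.cl, KRR.cl, KZero.clSub, KZero.clSub, dif_pos (show KRR.vbP _ F from hF),
    dif_pos (show KRR.vbP _ G from hG)] at h
  obtain ⟨n₀, hn₀⟩ := eventually_zero' hπ (QuotientAddGroup.eq_iff_sub_mem.1 h)
  refine ⟨max n₀ (max n₁ n₂), fun n hn => ?_⟩
  have a := hπ.finLocFree_tw (n : ℤ) hF
  have b := hπ.finLocFree_tw (n : ℤ) hG
  refine ⟨Groth.Agent.H16Derived.PBQC.finLocFree_push hπ a fun i hi => hπ.van_self (H8Props.FinLocFree.isQCoh_of_isFinLocFree _ a) (hn₁ n (by omega)) hi,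
    Groth.Agent.H16Derived.PBQC.finLocFree_push hπ b fun i hi => hπ.van_self (H8Props.FinLocFree.isQCoh_of_isFinLocFree _ b) (hn₂ n (by omega)) hi, ?_⟩
  have h0 := hn₀ n (by omega)
  rw [map_sub, FreeAbelianGroup.lift_apply_of, FreeAbelianGroup.lift_apply_of, sub_eq_zero] at h0
  exact h0

end Groth.Agent.S8669
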