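import Groth.Statements.S6236
import Groth.Agent.H8Props.RelPCLocal
import Groth.Agent.H8Props.RelPCCharts
import Groth.Agent.H16Derived.KFlat.PerfNoeth

set_option autoImplicit false
universe u
open CategoryTheory CategoryTheory.Limits AlgebraicGeometry
attribute [local instance] HasDerivedCategory.standard
open KSix

namespace Groth.Agent.S6236

open Groth.Agent.H16Derived.KFlat.Stalk Groth.Agent.H8Props.RelPC Groth.Agent.H8Props.PushPC

theorem exists_isLE_pc {Z : Scheme.{u}} [CompactSpace Z] (K : DCoh.D Z) (m : ℤ)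
    (h : DCoh.IsPseudoCoherentD m K) : ∃ b : ℤ, K.IsLE b := by
  have hE := (isPseudoCoherentD_iff m K).1 h
  refine exists_isLE_of_local fun x => ?_
  obtain ⟨V, hx, P, α, hP, h1, -⟩ := hE x
  obtain ⟨⟨a, b, hab⟩, -⟩ := hP
  refine ⟨V, max b m, hx, (DerivedCategory.isLE_iff _ _).2 fun i hi => ?_⟩
  haveI := h1 i (lt_of_le_of_lt (le_max_right _ _) hi)
  refine IsZero.of_iso ?_ (asIso ((DerivedCategory.homologyFunctor _ i).map α)).symm
  haveI : CochainComplex.IsStrictlyLE P (max b m) :=
    (CochainComplex.isStrictlyLE_iff _ _).2 fun j hj => hab j (Or.inr (lt_of_le_of_lt (le_max_left _ _) hj))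
  exact DerivedCategory.isZero_of_isLE _ (max b m) i hi

/-- Let f : X ⟶ Y be a morphism of schemes with X quasi-compact, n an integer, and E an object of D(O_X)
which is n-pseudo-coherent relative to f (chart form; in particular f is locally of finite type).
Then the cohomology of E is bounded above. (Without quasi-compactness of X the cohomology is only
locally bounded above.) -/
theorem result {X Y : Scheme.{u}} [CompactSpace X] (f : X ⟶ Y) (n : ℤ)
    (E : DCoh.D X) (hE : DerSch.IsPseudoCoherentRel f n E) : ∃ b : ℤ, E.IsLE b := by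
  refine exists_isLE_of_local fun x => ?_
  obtain ⟨U, V, k, φ, hx, hφ, hK⟩ := exists_chart hE x
  haveI := isClosedImmersion_chartImm U.2 φ hφ
  let g := DerSch.chartImm (U : X.Opens) φ
  obtain ⟨b, hb⟩ := exists_isLE_pc _ n ((chartPC_iff φ n E).1 hK)
  haveI := hb
  refine ⟨U, b, hx, (DerivedCategory.isLE_iff _ _).2 fun i hi => ?_⟩
  have hz : IsZero ((Scheme.Modules.pushforward g).obj (DCoh.HD ((rd (U : X.Opens).ι).obj E) i)) :=
    (DerivedCategory.isZero_of_isLE _ b i hi).of_iso (hdPushD g _ i).symm
  have hi' := Groth.Agent.H16Derived.ProjFormula.isIso_counit_of_isClosedImmersion g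
    (DCoh.HD ((rd (U : X.Opens).ι).obj E) i)
  exact ((Scheme.Modules.pullback g).map_isZero hz).of_iso (@asIso _ _ _ _ _ hi').symm

end Groth.Agent.S6236
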