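import Groth.Agent.H25Par.EulerMono
import Groth.Agent.H25Par.CurveLocFree
import Groth.Agent.H02CA.TorShBasic
import Groth.Agent.H22Alg.KAmple
import Groth.Agent.H11Tilde.ModLoc

/-! Maps between invertible modules on integral schemes, and degrees on curves. -/

set_option autoImplicit false
universe u

open CategoryTheory CategoryTheory.Limits AlgebraicGeometry

namespace Groth.Agent.H25RankTwo

variable {X : Scheme.{u}} [IsIntegral X]

theorem rankOne {L : X.Modules} (h : PicF.IsInvertible L) : FlatMod.IsFinLocFreeOfRank 1 L :=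
  H22Alg.KModel.finLocFreeOfRank_invertible h

theorem isCoh [IsLocallyNoetherian X] {L : X.Modules} (h : PicF.IsInvertible L) : Coh.IsCoh L :=
  H16Derived.KFlat.Stalk.isCoh_of_isFinLocFree (H22Alg.KModel.finLocFree_invertible h)

/-- Sections of an invertible module are determined at the generic point. -/
theorem eq_zero_of_germ [IsLocallyNoetherian X] {L : X.Modules} (h : PicF.IsInvertible L) {U : X.Opens}
    (hη : genericPoint X ∈ U) (s : Γ(L, U)) (hs : L.presheaf.germ U (genericPoint X) hη s = 0) : s = 0 := by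
  refine H02CA.TorShBasic.eq_zero_of_germ L s fun x hx => ?_
  obtain ⟨V, hV, hxV, hVU⟩ := exists_isAffineOpen_mem_and_subset (x := x) (U := U) hx
  rw [← TopCat.Presheaf.germ_res_apply L.presheaf (homOfLE hVU) x hxV s]
  have hs' : L.presheaf.germ V (genericPoint X) (H02CA.TorShBasic.generic_mem hxV)
      (L.presheaf.map (homOfLE hVU).op s) = 0 :=
    (TopCat.Presheaf.germ_res_apply L.presheaf (homOfLE hVU) _ _ s).trans hs
  obtain ⟨c, hc, hcs⟩ := H02CA.TorShBasic.exists_annihilator L (isCoh h).1 hV _ _ hs'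
  exact H02CA.TorShBasic.germ_eq_zero_of_annihilator L hxV
    (H25Par.isTorsionFree_of_locFree (H22Alg.KModel.finLocFree_invertible h) x) hc hcs

/-- A nonzero map between invertible modules is injective. -/
theorem eq_zero_or_mono [IsLocallyNoetherian X] {L M : X.Modules} (hL : PicF.IsInvertible L)
    (hM : PicF.IsInvertible M) (φ : L ⟶ M) : φ = 0 ∨ Mono φ := by
  let η := genericPoint X
  let ψ := (DerSch.stalkFunctor X η).map φ
  obtain ⟨hfree, hfin, hr⟩ := H25Par.finrank_stalk (rankOne hL) η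
  letI : Field (X.presheaf.stalk η) := inferInstanceAs (Field X.functionField)
  have hψ : ∀ (U : X.Opens) (hU : η ∈ U) (s : Γ(L, U)),
      ψ.hom (L.presheaf.germ U η hU s) = M.presheaf.germ U η hU (φ.app U s) :=
    fun U hU s => TopCat.Presheaf.stalkFunctor_map_germ_apply _ _ _ φ.mapPresheaf s
  by_cases hinj : Function.Injective ψ.hom
  · refine Or.inr (H11Tilde.mono_of_injective φ fun W s hs x hx => ⟨W, le_rfl, hx, ?_⟩)
    have hη := H02CA.TorShBasic.generic_mem hx
    have h0 : L.presheaf.germ W η hη s = 0 := hinj ((hψ W hη s).trans (by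
      rw [hs, map_zero]; exact (map_zero _).symm))
    rw [eq_zero_of_germ hL hη s h0, map_zero]
  · refine Or.inl (Scheme.Modules.hom_ext _ _ fun U => ?_)
    ext s
    show φ.app U s = 0
    rcases isEmpty_or_nonempty U with hUe | ⟨⟨x, hx⟩⟩
    · exact H02CA.TorShBasic.eq_zero_of_germ M _ fun x hx => (hUe.false ⟨x, hx⟩).elim
    refine eq_zero_of_germ hM (H02CA.TorShBasic.generic_mem hx) _ ?_
    rw [← hψ]
    obtain ⟨v, hv0, hv⟩ : ∃ v : L.presheaf.stalk η, v ≠ 0 ∧ ψ.hom v = 0 := by
      rw [injective_iff_map_eq_zero] at hinj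
      push Not at hinj
      obtain ⟨v, hv, hv0⟩ := hinj
      exact ⟨v, hv0, hv⟩
    obtain ⟨c, hc⟩ := exists_smul_eq_of_finrank_eq_one hr hv0 (L.presheaf.germ U η (H02CA.TorShBasic.generic_mem hx) s)
    rw [← hc]
    exact (map_smul ψ.hom c v).trans ((congrArg (fun t => c • t) hv).trans (smul_zero _))

variable (k : Type u) [Field k] [X.Over (Spec (CommRingCat.of k))] [IsProper (X ↘ Spec (CommRingCat.of k))]

theorem deg_le (hdim : topologicalKrullDim X ≤ 1) {L M : X.Modules} (hL : PicF.IsInvertible L)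
    (hM : PicF.IsInvertible M) (φ : L ⟶ M) (hφ : φ ≠ 0) : Curv2.deg k X L 1 ≤ Curv2.deg k X M 1 := by
  haveI : IsLocallyNoetherian X := LocallyOfFiniteType.isLocallyNoetherian (X ↘ Spec (CommRingCat.of k))
  haveI : Mono φ := (eq_zero_or_mono hL hM φ).resolve_left hφ
  have := H25Par.euler_le_of_mono (k := k) hdim (rankOne hL) (rankOne hM) φ
  unfold Curv2.deg
  omega

theorem deg_add {S : ShortComplex X.Modules} (hS : S.ShortExact) (h₁ : PicF.IsInvertible S.X₁)
    (h₂ : FlatMod.IsFinLocFreeOfRank 2 S.X₂) (h₃ : PicF.IsInvertible S.X₃) :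
    Curv2.deg k X S.X₂ 2 = Curv2.deg k X S.X₁ 1 + Curv2.deg k X S.X₃ 1 := by
  haveI : IsLocallyNoetherian X := LocallyOfFiniteType.isLocallyNoetherian (X ↘ Spec (CommRingCat.of k))
  have := H25Euler.euler_add (k := k) hS (isCoh h₁)
    (H16Derived.KFlat.Stalk.isCoh_of_isFinLocFree (H22Alg.KModel.finLocFree_of_rank h₂)) (isCoh h₃)
  unfold Curv2.deg
  push_cast
  linarith

end Groth.Agent.H25RankTwo
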