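-- statement FlatMor.GrothFrozen.S1297 (Groth/Statements/S1297.lean; the theorem FlatMor.isFinite_fromNormalization_of_isProper);
import Groth.Statements.S1297
import Groth.Agent.H10Coh.Proper2

set_option autoImplicit false
universe u
open FlatMor

namespace Groth.Agent.S1297
set_option backward.isDefEq.respectTransparency false

open AlgebraicGeometry CategoryTheory Limits in
/-- Stein factorization, Noetherian case: let f : X → S be a proper morphism with S locally Noetherian.
Then the normalization of S in X is finite over S (so that the Stein factorization of f is a proper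
morphism with geometrically connected fibres followed by a finite morphism). -/
theorem result {X S : Scheme.{u}} (f : X ⟶ S) [IsProper f] [IsLocallyNoetherian S] :
    IsFinite f.fromNormalization := by
  rw [isFinite_iff]
  refine ⟨inferInstance, fun U hU => ?_⟩
  rw [Scheme.Hom.fromNormalization_app f hU]
  letI := (f.app U).hom.toAlgebra
  have hcoh : Coh.IsCoh ((Coh.push f).obj (Coh.structureModule X)) :=
    H10Coh.isCoh_push_of_finH f _ (H10Coh.isCoh_structureModule' X) fun W hW => by
      haveI : IsNoetherianRing Γ(S, W) := IsLocallyNoetherian.component_noetherian ⟨W, hW⟩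
      rw [H10Coh.preΓ_eq_toΓ f hW]
      exact H10Coh.finH_proper _ _ (H10Coh.isCoh_restrict _ _ (H10Coh.isCoh_structureModule' X)) 0
  haveI : ((Coh.push f).obj (Coh.structureModule X)).IsQuasicoherent := hcoh.1
  haveI hfin : Module.Finite Γ(S, U) Γ(X, f ⁻¹ᵁ U) :=
    (H10Coh.isCoh_iff_finite_sections _).1 hcoh |>.2 U hU
  haveI : IsNoetherianRing Γ(S, U) := IsLocallyNoetherian.component_noetherian ⟨U, hU⟩
  haveI : IsNoetherian Γ(S, U) Γ(X, f ⁻¹ᵁ U) := isNoetherian_of_isNoetherianRing_of_finite _ _
  haveI : Module.Finite Γ(S, U) (integralClosure Γ(S, U) Γ(X, f ⁻¹ᵁ U)) :=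
    Module.IsNoetherian.finite Γ(S, U) (Subalgebra.toSubmodule (integralClosure Γ(S, U) Γ(X, f ⁻¹ᵁ U)))
  exact RingHom.Finite.comp (RingHom.Finite.of_surjective _
    (f.normalizationObjIso hU).symm.commRingCatIsoToRingEquiv.surjective)
    (RingHom.finite_algebraMap.2 inferInstance)

end Groth.Agent.S1297
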