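import Groth.Statements.S9634
import Groth.Agent.H06Red.Algebra

set_option autoImplicit false
universe u
open CAlg

namespace Groth.Agent.S9634

open TensorProduct in
/-- (1) ⇔ (4) ⇔ (5): for a field k and a k-algebra S the following are equivalent: (1) the ring k' ⊗_k S
is reduced whenever k'/k is a finite purely inseparable field extension; (4) S is geometrically
reduced in Mathlib's sense, which over a field amounts to k̄ ⊗_k S being reduced for an algebraic
closure k̄; (5) K ⊗_k S is reduced for all field extensions K/k. In (1) and (5) the test fields
range over field extensions in the universe of k; this is equivalent to the unrestricted notion,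
since an algebraic closure of k suffices as a test. -/
theorem result {k S : Type u} [Field k] [CommRing S] [Algebra k S] :
    [∀ (k' : Type u) [Field k'] [Algebra k k'] [Module.Finite k k'] [IsPurelyInseparable k k'], IsReduced (k' ⊗[k] S),
      Algebra.IsGeometricallyReduced k S,
      ∀ (K : Type u) [Field K] [Algebra k K], IsReduced (K ⊗[k] S)].TFAE := by
  tfae_have 2 → 3 := fun h K _ _ => H06Red.isReduced_field_tensor k S K
  tfae_have 3 → 1 := fun h k' _ _ _ _ => h k'
  tfae_have 1 → 2 := fun h => by
    rw [Algebra.isGeometricallyReduced_field_iff]
    let kb := AlgebraicClosure k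
    let P := perfectClosure k kb
    haveI : IsReduced (P ⊗[k] S) := by
      refine ⟨fun x ⟨n, hn⟩ => ?_⟩
      obtain ⟨s, hs⟩ := TensorProduct.exists_finset x
      classical
      let L : IntermediateField k P := IntermediateField.adjoin k ↑(s.image Prod.fst)
      have hinj : Function.Injective (Algebra.TensorProduct.map L.val (AlgHom.id k S)) :=
        Module.Flat.rTensor_preserves_injective_linearMap _ L.val.injective
      obtain ⟨z, hz⟩ : x ∈ (Algebra.TensorProduct.map L.val (AlgHom.id k S)).range := by
        rw [hs]
        exact Subalgebra.sum_mem _ fun p hp => ⟨(⟨p.1, IntermediateField.subset_adjoin k _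
          (Finset.mem_coe.mpr (Finset.mem_image_of_mem _ hp))⟩ : L) ⊗ₜ p.2, by simp⟩
      haveI : Module.Finite k L :=
        IntermediateField.finiteDimensional_adjoin fun a _ => Algebra.IsIntegral.isIntegral a
      haveI : IsPurelyInseparable k L := IsPurelyInseparable.tower_bot k L P
      haveI := h L
      simp only [AlgHom.toRingHom_eq_coe, RingHom.coe_coe] at hz
      rw [← hz, IsReduced.eq_zero z ⟨n, hinj (by rw [map_pow, hz, hn, map_zero])⟩, map_zero]
    haveI := H06Red.isGeometricallyReduced_of_perfectField P (P ⊗[k] S)
    haveI := H06Red.isReduced_field_tensor P (P ⊗[k] S) kb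
    exact isReduced_of_injective
      (Algebra.TensorProduct.cancelBaseChange k P P kb S).symm.toRingEquiv.toRingHom
      (Algebra.TensorProduct.cancelBaseChange k P P kb S).symm.injective
  tfae_finish

end Groth.Agent.S9634
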