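import Groth.Statements.S2329
import Groth.Agent.H11Ample.Tensor

set_option autoImplicit false
universe u
open CategoryTheory CategoryTheory.Limits AlgebraicGeometry
open EGA2

namespace Groth.Agent.S2329

/-- Let X be a quasi-compact separated scheme, L an ample invertible module and L' an invertible module.
Then there is n₀ > 0 such that L^{⊗n} ⊗ L' is ample and globally generated for every n ≥ n₀. -/
theorem result (X : Scheme.{u}) [CompactSpace X] [X.IsSeparated] (L L' : X.Modules) (hL : CohB1.IsAmple L) (hL' : PicF.IsInvertible L') :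
    ∃ n₀ : ℕ, 0 < n₀ ∧ ∀ n, n₀ ≤ n →
      CohB1.IsAmple (CohB1.tensorMod (CohB1.tensorPow L n) L') ∧ Curv2.IsGloballyGenerated (CohB1.tensorMod (CohB1.tensorPow L n) L') := by
  exact H11Ample.eventually_ample_tensor hL hL'

end Groth.Agent.S2329
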