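-- statement FlatMor.GrothFrozen.S0443 (Groth/Statements/S0443.lean; the theorem FlatMor.stalkMap_finite_of_finite_singleton_fibre);
import Groth.Statements.S0443
import Mathlib.AlgebraicGeometry.Morphisms.Finite
import Mathlib.RingTheory.Ideal.GoingUp
import Mathlib.AlgebraicGeometry.AffineScheme

set_option autoImplicit false
universe u
open FlatMor

namespace Groth.Agent.S0443

/-- If a prime of a finite algebra is the only one above its image, the map of local rings is finite. -/
theorem finite_localRingHom {R S : Type u} [CommRing R] [CommRing S] (f : R →+* S) (hf : f.Finite)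
    (p : Ideal R) [p.IsPrime] (q : Ideal S) [q.IsPrime] (h : p = q.comap f)
    (huniq : ∀ Q : Ideal S, Q.IsPrime → Q.comap f = p → Q = q) :
    (Localization.localRingHom p q f h).Finite := by
  classical
  letI := f.toAlgebra
  haveI : Module.Finite R S := hf
  have hden : ∀ s ∉ q, ∃ t : S, ∃ r ∉ p, s * t = f r := by
    intro s hs
    by_contra hcon
    push Not at hcon
    have hle : (Ideal.span {s}).comap (algebraMap R S) ≤ p := by
      intro r hr
      obtain ⟨t, ht⟩ := Ideal.mem_span_singleton'.1 hr
      by_contra hrp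
      exact hcon t r hrp (by rw [mul_comm]; exact ht)
    obtain ⟨Q, hQI, hQ, hQp⟩ := Ideal.exists_ideal_over_prime_of_isIntegral p _ hle
    rw [huniq Q hQ hQp] at hQI
    exact hs (hQI (Ideal.mem_span_singleton_self s))
  letI := (Localization.localRingHom p q f h).toAlgebra
  show Module.Finite (Localization.AtPrime p) (Localization.AtPrime q)
  obtain ⟨T, hT⟩ : (⊤ : Submodule R S).FG := Module.Finite.fg_top
  refine ⟨⟨T.image (algebraMap S (Localization.AtPrime q)), top_le_iff.1 fun z _ => ?_⟩⟩
  obtain ⟨⟨a, s, hs⟩, rfl⟩ := IsLocalization.mk'_surjective q.primeCompl z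
  obtain ⟨t, r, hr, hst⟩ := hden s hs
  have hat : ∀ b : S, algebraMap S (Localization.AtPrime q) b ∈
      Submodule.span (Localization.AtPrime p) (↑(T.image (algebraMap S (Localization.AtPrime q))) : Set _) := by
    intro b
    have hb : b ∈ Submodule.span R (T : Set S) := hT ▸ Submodule.mem_top
    induction hb using Submodule.span_induction with
    | mem x hx => exact Submodule.subset_span (Finset.mem_image_of_mem _ hx)
    | zero => simp
    | add x y _ _ hx hy => rw [map_add]; exact add_mem hx hy
    | smul c x _ hx =>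
      rw [Algebra.smul_def, map_mul, RingHom.algebraMap_toAlgebra, ← Localization.localRingHom_to_map p q f h c]
      exact Submodule.smul_mem _ (algebraMap R (Localization.AtPrime p) c) hx
  obtain ⟨v, hv⟩ := IsLocalization.map_units (Localization.AtPrime p) (⟨r, hr⟩ : p.primeCompl)
  have hmk : IsLocalization.mk' (Localization.AtPrime q) a ⟨s, hs⟩ =
      (↑v⁻¹ : Localization.AtPrime p) • algebraMap S (Localization.AtPrime q) (a * t) := by
    rw [IsLocalization.mk'_eq_iff_eq_mul, Algebra.smul_def, mul_assoc, ← map_mul,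
      show a * t * s = a * f r by rw [← hst]; ring, mul_comm a, map_mul,
      ← Localization.localRingHom_to_map p q f h r, ← mul_assoc, ← hv]
    show _ = Localization.localRingHom p q f h ↑v⁻¹ * Localization.localRingHom p q f h ↑v * _
    rw [← map_mul, Units.inv_mul, map_one, one_mul]
  show IsLocalization.mk' (Localization.AtPrime q) a ⟨s, hs⟩ ∈ _
  rw [hmk]
  exact Submodule.smul_mem _ _ (hat _)

open AlgebraicGeometry CategoryTheory Limits in
/-- For a finite morphism π : X → Y and a point x of X that is the only point of its fibre, the induced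
homomorphism of local rings O_{Y,π(x)} → O_{X,x} is finite. (The published lemma has further parts,
not stated here.) -/
theorem result {X Y : Scheme.{u}} (π : X ⟶ Y) [IsFinite π] (x : X) (hx : ∀ x' : ↑X, π x' = π x → x' = x) :
    (π.stalkMap x).hom.Finite := by
  obtain ⟨U, hU, hyU, -⟩ := exists_isAffineOpen_mem_and_subset (Set.mem_univ (π x)) (U := (⊤ : Y.Opens))
  have hV : IsAffineOpen (π ⁻¹ᵁ U) := hU.preimage π
  let φ := (π.appLE U (π ⁻¹ᵁ U) le_rfl).hom
  have hfin : φ.Finite := by
    have := IsFinite.finite_app (f := π) U hU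
    simp only [φ, ← Scheme.Hom.app_eq_appLE]; exact this
  have hp := congr($(IsAffineOpen.comap_primeIdealOf_appLE (f := π) U hU (π ⁻¹ᵁ U) hV le_rfl hyU).1).symm
  rw [RingHom.finite_respectsIso.arrow_mk_iso_iff (IsAffineOpen.arrowStalkMapIso π U hU (π ⁻¹ᵁ U) hV le_rfl hyU)]
  refine finite_localRingHom φ hfin _ _ hp fun Q hQ hQp => ?_
  have h1 : π (hV.fromSpec ⟨Q, hQ⟩) = π x := by
    have h2 := congrArg (fun m => m (⟨Q, hQ⟩ : PrimeSpectrum Γ(X, π ⁻¹ᵁ U))) (hU.SpecMap_appLE_fromSpec π hV le_rfl)
    simp only [Scheme.Hom.comp_apply] at h2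
    refine h2.symm.trans ?_
    rw [show Spec.map (π.appLE U (π ⁻¹ᵁ U) le_rfl) (⟨Q, hQ⟩ : PrimeSpectrum Γ(X, π ⁻¹ᵁ U)) =
      hU.primeIdealOf ⟨π x, hyU⟩ from PrimeSpectrum.ext hQp]
    exact hU.fromSpec_primeIdealOf _
  have h3 : hV.fromSpec ⟨Q, hQ⟩ = hV.fromSpec (hV.primeIdealOf ⟨x, hyU⟩) := by
    rw [hV.fromSpec_primeIdealOf]; exact hx _ h1
  exact congrArg PrimeSpectrum.asIdeal (hV.fromSpec.isOpenEmbedding.injective h3)

end Groth.Agent.S0443
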