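import Groth.Statements.S7640
import Mathlib
import Groth.Agent.H22Alg.DegBundle
import Groth.Agent.H22Alg.PushGeneric
import Groth.Agent.H28Int.Curves
import Groth.Agent.H28Int.Push
import Groth.Agent.H10Coh.ProjFormulaFLF

set_option autoImplicit false
universe u
open CategoryTheory CategoryTheory.Limits AlgebraicGeometry
open Variety

namespace Groth.Agent.S7640

/-- Let k be a field, let X and Y be proper curves over k (integral, proper over k, of dimension one)
and let f : X → Y be a morphism over k that is not constant, i.e. sends the generic point of X to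
that of Y. For a finite locally free module E of rank n on Y, the degree of f^*E is deg(X/Y) ·
deg(E), where deg(X/Y) is the degree of the function field of X over that of Y. -/
theorem result (k : Type u) [Field k] (X Y : Scheme.{u})
    [X.Over (Spec (CommRingCat.of k))] [Y.Over (Spec (CommRingCat.of k))] [IsIntegral X] [IsIntegral Y]
    [IsProper (X ↘ (Spec (CommRingCat.of k)))] [IsProper (Y ↘ (Spec (CommRingCat.of k)))]
    (hX : topologicalKrullDim X = 1) (hY : topologicalKrullDim Y = 1)
    (f : X ⟶ Y) (hf : f ≫ (Y ↘ (Spec (CommRingCat.of k))) = X ↘ (Spec (CommRingCat.of k)))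
    (hξ : f.base (genericPoint X) = genericPoint Y)
    (n : ℕ) (E : Y.Modules) (hE : FlatMod.IsFinLocFreeOfRank n E) :
    Curv2.deg k X ((Scheme.Modules.pullback f).obj E) n =
      (f.residueDegree (genericPoint X) : ℤ) * Curv2.deg k Y E n := by
  haveI := H28Int.isNoetherian k (X := X)
  haveI := H28Int.isNoetherian k (X := Y)
  have hclX : ∀ x : X, x ≠ genericPoint X → IsClosed ({x} : Set X) := fun x hx => by
    have hd : topologicalKrullDim (closure ({genericPoint X} : Set X)) ≤ ((1 : ℕ) : WithBot ℕ∞) :=
      (Topology.IsInducing.subtypeVal.topologicalKrullDim_le).trans hX.le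
    have h1 := H22Alg.DevLength.dim_closure_lt (genericPoint_specializes x) hx hd
    have h0 : topologicalKrullDim (closure ({x} : Set X)) ≤ ((0 : ℕ) : WithBot ℕ∞) := by
      rcases hD : topologicalKrullDim (closure ({x} : Set X)) with _ | p
      · exact bot_le
      · rw [hD] at h1
        have : p < (1 : ℕ∞) := WithBot.coe_lt_coe.1 h1
        exact WithBot.coe_le_coe.2 (ENat.lt_one_iff_eq_zero.1 this).le
    have hcl : closure ({x} : Set X) = {x} := by
      refine Set.Subset.antisymm (fun y hy => ?_) subset_closure
      by_contra hne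
      haveI : Nonempty (closure ({y} : Set X)) := ⟨⟨y, subset_closure rfl⟩⟩
      haveI : Nonempty (TopologicalSpace.IrreducibleCloseds (closure ({y} : Set X))) :=
        ⟨⟨closure {⟨y, subset_closure rfl⟩}, isIrreducible_singleton.closure, isClosed_closure⟩⟩
      have hpos : (0 : WithBot ℕ∞) ≤ topologicalKrullDim (closure ({y} : Set X)) := Order.krullDim_nonneg
      exact absurd (H22Alg.DevLength.dim_closure_lt (specializes_iff_mem_closure.2 hy) hne (d := 0) h0)
        (not_lt.2 (by simpa using hpos))
    exact hcl ▸ isClosed_closure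
  have hηY : ¬ IsClosed ({genericPoint Y} : Set Y) := fun hc => by
    have huniv : ({genericPoint Y} : Set Y) = Set.univ := Set.univ_subset_iff.1
      ((genericPoint_spec Y).symm.le.trans (closure_minimal subset_rfl hc))
    haveI : Subsingleton Y := ⟨fun a b => ((huniv ▸ Set.mem_univ a : a ∈ ({genericPoint Y} : Set Y)) : a = _).trans
      (huniv ▸ Set.mem_univ b : b ∈ ({genericPoint Y} : Set Y)).symm⟩
    haveI : Subsingleton (TopologicalSpace.IrreducibleCloseds Y) := ⟨fun A B => SetLike.ext' (
      (Subsingleton.eq_univ_of_nonempty A.isIrreducible.nonempty).trans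
        (Subsingleton.eq_univ_of_nonempty B.isIrreducible.nonempty).symm)⟩
    have h0 : topologicalKrullDim Y ≤ 0 :=
      Order.krullDim_nonpos_iff_forall_isMax.2 fun A B _ => (Subsingleton.elim B A).le
    rw [hY] at h0
    exact absurd h0 (by decide)
  rcases H28Int.Curves.finite_or_const k hX f hf with hfin | ⟨p, hp0, hp⟩
  swap
  · exfalso
    haveI : IsProper (f ≫ (Y ↘ Spec (CommRingCat.of k))) := hf.symm ▸ inferInstance
    haveI : IsProper f := IsProper.of_comp f (Y ↘ Spec (CommRingCat.of k))
    have hr : Set.range f.base = {genericPoint Y} := by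
      refine Set.eq_singleton_iff_unique_mem.2 ⟨⟨_, hξ⟩, ?_⟩
      rintro _ ⟨y, rfl⟩
      exact (hp y).trans ((hp _).symm.trans hξ)
    exact hηY (hr ▸ f.isClosedMap.isClosed_range)
  haveI := hfin
  have hfib : ∀ x, f.base x = f.base (genericPoint X) → x = genericPoint X := fun x hx => by
    by_contra hne
    refine hηY ?_
    have := f.isClosedMap _ (hclX x hne)
    rwa [Set.image_singleton, show f x = genericPoint Y from hx.trans hξ] at this
  let O := Coh.structureModule X
  let P := (Coh.push f).obj O
  have hP : Coh.IsCoh P := H10Coh.isCoh_push_of_isFinite f _ (H10Coh.isCoh_structureModule' X)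
  haveI : Module.Finite (Y.presheaf.stalk (f.base (genericPoint X))) (P.presheaf.stalk (f.base (genericPoint X))) :=
    H29Ref.finite_stalk P hP.2 _
  have hlen := H22Alg.PushGeneric.length_push_generic f f.isClosedMap hfib hξ
  have hEf : FlatMod.IsFinLocFree E := fun y => let ⟨U, hU⟩ := hE y; ⟨U, n, hU⟩
  have hiso := H10Coh.PF.isIso_ψ_of_isFinLocFree f hEf O
  let eP : CohB1.tensorMod P E ≅
      (Coh.push f).obj (CohB1.tensorMod O ((Scheme.Modules.pullback f).obj E)) :=
    @asIso _ _ _ _ _ hiso
  haveI : O.IsQuasicoherent := H10Coh.isQuasicoherent_unit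
  haveI : (CohB1.tensorMod O ((Scheme.Modules.pullback f).obj E)).IsQuasicoherent :=
    (H10Coh.TT.isCoh_tensorMod (H10Coh.isCoh_structureModule' X) (H16Derived.KFlat.Stalk.isCoh_of_isFinLocFree
      (H16Derived.KFlat.Stalk.isFinLocFree_pullback f hEf))).1
  have hdeg : Curv2.deg k X ((Scheme.Modules.pullback f).obj E) n = H22Alg.DegBundle.ψ k E n P := by
    show _ - _ = _ - _
    rw [H25Euler.euler_congr eP, H28Int.Push.euler_push k f hf, H28Int.Push.euler_push k f hf,
      H25Euler.euler_congr (H10Coh.Tw.leftUnitIso ((Scheme.Modules.pullback f).obj E))]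
  have hdY : ∀ F : Y.Modules, topologicalKrullDim (CohB1.support F) ≤ ((1 : ℕ) : WithBot ℕ∞) := fun F =>
    (Topology.IsInducing.subtypeVal.topologicalKrullDim_le).trans hY.le
  have hone : ∀ F : Y.Modules, Coh.IsCoh F → H22Alg.DegBundle.ψ k E n F =
      ((H22Alg.DevLength.len F (genericPoint Y)).toNat : ℤ) *
        H22Alg.DegBundle.ψ k E n (H25K.redMod (H22Alg.DevLength.cl (genericPoint Y))) := fun F hF => by
    rw [H22Alg.DevLength.eq_finsum (H22Alg.DegBundle.isAddFn_ψ k hE) (H22Alg.DegBundle.ψ_eq_zero k hE) hF (hdY F),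
      finsum_eq_single _ (genericPoint Y) fun y hy => if_neg fun he => ?_, if_pos]
    · rw [show closure ({genericPoint Y} : Set Y) = Set.univ from genericPoint_spec Y,
        (Homeomorph.Set.univ Y).isHomeomorph.topologicalKrullDim_eq, hY]
      rfl
    · exact (H22Alg.DevLength.dim_closure_lt (genericPoint_specializes y) hy
        ((Topology.IsInducing.subtypeVal.topologicalKrullDim_le).trans hY.le)).ne he
  have hO : H22Alg.DevLength.len (Coh.structureModule Y) (genericPoint Y) = 1 := by
    letI : Field (Y.presheaf.stalk (genericPoint Y)) := inferInstanceAs (Field Y.functionField)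
    show Module.length _ _ = 1
    rw [← (LinearEquiv.ofBijective (LinearMap.toSpanSingleton _ _ (H29Ref.oneStalk (genericPoint Y)))
      (H06EGA9.bijective_smul_oneStalk (genericPoint Y))).length_eq]
    exact Module.length_eq_one _ _
  rw [hdeg, hone P hP, ← H22Alg.DegBundle.ψ_structure k (X := Y), hone _ (H10Coh.isCoh_structureModule' Y), hO]
  have : H22Alg.DevLength.len P (genericPoint Y) = (f.residueDegree (genericPoint X) : ℕ∞) := by
    rw [← hξ]; exact hlen
  rw [this, ENat.toNat_natCast]
  simp

end Groth.Agent.S7640
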