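import Groth.Statements.S9370
import Mathlib

set_option autoImplicit false
universe u
open OmegaSh
open AlgebraicGeometry CategoryTheory TopologicalSpace Opposite

namespace Groth.Agent.S9370

/-- `d'` seen as a derivation into the pushforward. -/
noncomputable def pushDer {X S X' S' : Scheme.{u}} (f : X ⟶ S) (f' : X' ⟶ S') (h : X' ⟶ X)
    (b : S' ⟶ S) (hsq : f' ≫ b = h ≫ f) (Ω' : X'.Modules) (d' : OmegaSh.Der f' Ω') :
    OmegaSh.Der f ((Scheme.Modules.pushforward h).obj Ω') where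
  d {U} := (d'.app (h ⁻¹ᵁ U.unop)).comp (h.app U.unop).hom.toAddMonoidHom
  d_mul {U} a c := by
    change d'.app _ ((h.app U.unop).hom (a * c)) =
      (h.app U.unop).hom a • d'.app _ ((h.app U.unop).hom c) +
      (h.app U.unop).hom c • d'.app _ ((h.app U.unop).hom a)
    rw [map_mul]; exact d'.d_mul _ _
  d_map {U V} g x := by
    change d'.app _ ((h.app V.unop).hom ((X.presheaf.map g).hom x)) =
      Ω'.val.map ((Opens.map h.base).op.map g) (d'.app _ ((h.app U.unop).hom x))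
    rw [show (h.app V.unop).hom ((X.presheaf.map g).hom x) =
      (X'.presheaf.map ((Opens.map h.base).op.map g)).hom ((h.app U.unop).hom x) from
      congr($(h.naturality g) x)]
    exact d'.d_map _ _
  d_app {U} c := by
    obtain ⟨U⟩ := U
    change d'.app (h ⁻¹ᵁ f ⁻¹ᵁ U) ((h.app (f ⁻¹ᵁ U)).hom ((f.app U).hom c)) = 0
    have e : (h ≫ f).app U = f.app U ≫ h.app (f ⁻¹ᵁ U) := Scheme.Hom.comp_app h f U
    have hrw : ((h.app (f ⁻¹ᵁ U)).hom ((f.app U).hom c)) =
        (X'.presheaf.map (eqToHom (congrArg (· ⁻¹ᵁ U) hsq).symm).op).hom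
          ((f'.app (b ⁻¹ᵁ U)).hom ((b.app U).hom c)) := by
      have h1 := Scheme.Hom.congr_app hsq.symm U
      rw [Scheme.Hom.comp_app, Scheme.Hom.comp_app] at h1
      exact congr($h1 c)
    rw [hrw]
    have h0 : d'.d (X := op (f' ⁻¹ᵁ (b ⁻¹ᵁ U))) ((f'.app (b ⁻¹ᵁ U)).hom ((b.app U).hom c)) = 0 :=
      d'.d_app (X := op (b ⁻¹ᵁ U)) _
    have hm := d'.d_map (X := op (f' ⁻¹ᵁ (b ⁻¹ᵁ U))) (Y := op (h ⁻¹ᵁ f ⁻¹ᵁ U))
      (eqToHom (congrArg (· ⁻¹ᵁ U) hsq).symm).op ((f'.app (b ⁻¹ᵁ U)).hom ((b.app U).hom c))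
    refine Eq.trans hm ?_
    rw [h0]
    exact map_zero _



open AlgebraicGeometry CategoryTheory in
/-- For a commutative square h : X' → X over S' → S, with d : O_X → Ω the universal derivation of X/S
and d' : O_{X'} → Ω' the universal derivation of X'/S', there is a unique O_{X'}-linear c : h^*Ω →
Ω' with c(h^* d s) = d'(h♯ s) for all local functions s on X. -/
theorem result {X S X' S' : Scheme.{u}} (f : X ⟶ S) (f' : X' ⟶ S') (h : X' ⟶ X) (b : S' ⟶ S)
    (hsq : f' ≫ b = h ≫ f) (Ω : X.Modules) (d : OmegaSh.Der f Ω) (hd : OmegaSh.IsUniversal d)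
    (Ω' : X'.Modules) (d' : OmegaSh.Der f' Ω') (hd' : OmegaSh.IsUniversal d') :
    ∃! c : (Scheme.Modules.pullback h).obj Ω ⟶ Ω', OmegaSh.IsDiffCompat h d d' c := by
  obtain ⟨α, hα, huniq⟩ := hd _ (pushDer f f' h b hsq Ω' d')
  let adj := Scheme.Modules.pullbackPushforwardAdjunction h
  have key : ∀ c : (Scheme.Modules.pullback h).obj Ω ⟶ Ω', OmegaSh.IsDiffCompat h d d' c ↔
      d.postcomp (adj.homEquiv _ _ c).val = pushDer f f' h b hsq Ω' d' := by
    intro c
    have hval : ∀ (U : X.Opens) (m : Γ(Ω, U)), (adj.homEquiv _ _ c).app U m =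
        c.app (h ⁻¹ᵁ U) (OmegaSh.pullSect h Ω U m) := by
      intro U m
      rw [Adjunction.homEquiv_unit]
      rfl
    constructor
    · intro hc
      ext ⟨U⟩ s
      exact (hval U (d.app U s)).trans (hc U s)
    · intro hc U s
      rw [← hval]
      exact PresheafOfModules.Derivation.congr_d hc (X := op U) s
  refine ⟨(adj.homEquiv _ _).symm α, ?_, fun c hc ↦ ?_⟩
  · simp only; rw [key, Equiv.apply_symm_apply]; exact hα
  · rw [Equiv.eq_symm_apply]; exact huniq _ ((key c).mp hc)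

end Groth.Agent.S9370
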