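import Groth.Statements.S18351
import Groth.Agent.S9370
import Groth.Agent.H26Def.SqZero
import Groth.Agent.H17.Conormal.Trans
import Groth.Agent.H29Blow.IdealMod
import Mathlib.Algebra.Homology.DerivedCategory.Ext.ExtClass

set_option autoImplicit false
universe w u
open CategoryTheory CategoryTheory.Limits AlgebraicGeometry
open MultCurve

namespace Groth.Agent.S18351

/-- Morphisms out of a pullback agree when they agree on pulled back sections. -/
theorem hom_ext_pullSect {Z Z' : Scheme.{u}} (p : Z' ⟶ Z) {G : Z.Modules} {N : Z'.Modules}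
    {φ ψ : (Scheme.Modules.pullback p).obj G ⟶ N}
    (h : ∀ (U : Z.Opens) (s : Γ(G, U)), φ.app (p ⁻¹ᵁ U) (OmegaSh.pullSect p G U s) =
      ψ.app (p ⁻¹ᵁ U) (OmegaSh.pullSect p G U s)) : φ = ψ := by
  apply ((Scheme.Modules.pullbackPushforwardAdjunction p).homEquiv G N).injective
  rw [Adjunction.homEquiv_unit, Adjunction.homEquiv_unit]
  exact Scheme.Modules.hom_ext _ _ fun U => ConcreteCategory.hom_ext _ _ fun s => h U s

theorem pullbackId_inv_app {Z : Scheme.{u}} (M : Z.Modules) (U : Z.Opens) (s : Γ(M, U)) :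
    ((Scheme.Modules.pullbackId Z).inv.app M).app U s = OmegaSh.pullSect (𝟙 Z) M U s := by
  have h : ((Scheme.Modules.pullbackId Z).hom.app M).app U (OmegaSh.pullSect (𝟙 Z) M U s) = s :=
    congr($(congrArg (fun k => Scheme.Modules.Hom.app k U) (H17.Conormal.unit_comp_pullbackId M)) s)
  conv_lhs => rw [← h]
  exact congr($(congrArg (fun k => Scheme.Modules.Hom.app k U)
    ((Scheme.Modules.pullbackId Z).hom_inv_id_app M)) (OmegaSh.pullSect (𝟙 Z) M U s))

/-- The map `(i ≫ g)^* M ⟶ i^* N` induced by `c : g^* M ⟶ N`. -/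
theorem exists_comp_map {D C C' : Scheme.{u}} (i : D ⟶ C) (g : C ⟶ C') {M : C'.Modules} {N : C.Modules}
    (c : (Scheme.Modules.pullback g).obj M ⟶ N) :
    ∃ β : (Scheme.Modules.pullback (i ≫ g)).obj M ⟶ (Scheme.Modules.pullback i).obj N,
      ∀ (U : C'.Opens) (s : Γ(M, U)), β.app ((i ≫ g) ⁻¹ᵁ U) (OmegaSh.pullSect (i ≫ g) M U s) =
        OmegaSh.pullSect i N (g ⁻¹ᵁ U) (c.app (g ⁻¹ᵁ U) (OmegaSh.pullSect g M U s)) := by
  let γ : M ⟶ (Scheme.Modules.pushforward (i ≫ g)).obj ((Scheme.Modules.pullback i).obj N) :=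
    (Scheme.Modules.pullbackPushforwardAdjunction g).homEquiv _ _ c ≫
      (Scheme.Modules.pushforward g).map ((Scheme.Modules.pullbackPushforwardAdjunction i).unit.app N) ≫
      (Scheme.Modules.pushforwardComp i g).hom.app _
  refine ⟨((Scheme.Modules.pullbackPushforwardAdjunction (i ≫ g)).homEquiv _ _).symm γ, fun U s => ?_⟩
  have h := ((Scheme.Modules.pullbackPushforwardAdjunction (i ≫ g)).homEquiv _ _).apply_symm_apply γ
  rw [Adjunction.homEquiv_unit] at h
  refine (congr($(congr(Scheme.Modules.Hom.app $h U)) s)).trans ?_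
  simp only [γ, Adjunction.homEquiv_unit]
  rfl

/-- Let k be a field and D a reduced connected scheme locally of finite type over k with a universal
k-derivation d₂ : O_D → Ω₂. Let C and C′ be ribbons on D over k (k-schemes locally of finite type
with closed immersions i, i′ of D over k making them ribbons), each with its restricted cotangent
sequence presented by a universal k-derivation (d₁, resp. d₁′), the map from the conormal bundle (𝓛,
resp. 𝓛′) induced by it and the map to Ω₂ compatible with d₂, assumed short exact, with classes e_C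
∈ Ext¹(Ω₂, 𝓛) and e_{C′} ∈ Ext¹(Ω₂, 𝓛′). Let g : C ⟶ C′ be a morphism over D and over k, and let α :
𝓛′ → 𝓛 be the map of conormal bundles induced by g (pulled back along the identity of D). Then
e_{C′} composed with α equals e_C: together with the restriction to D of the differential of g, α is
a morphism from the restricted cotangent sequence of C′ to that of C. (This is the form in which the
blow-up morphism X ⟶ C of a ribbon C along an effective Cartier divisor of D relates the two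
classes; that such a blow-up X is again a ribbon on D, with conormal bundle 𝓛(δ), is a separate
statement, and the identification of α with multiplication by the section of δ is not asserted here.
Valid for every morphism of ribbons over D.) -/
theorem result (k : Type u) [Field k] (D : Scheme.{u})
    (pD : D ⟶ Spec (CommRingCat.of k)) [LocallyOfFiniteType pD] [ConnectedSpace D]
    (Ω₂ : D.Modules) (d₂ : OmegaSh.Der pD Ω₂) (hd₂ : OmegaSh.IsUniversal d₂) [HasExt.{w} D.Modules]
    (C : Scheme.{u}) (i : D ⟶ C) (pC : C ⟶ Spec (CommRingCat.of k)) [LocallyOfFiniteType pC]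
    (hp : i ≫ pC = pD) (hR : MultCurve.IsRibbon i)
    (Ω₁ : C.Modules) (d₁ : OmegaSh.Der pC Ω₁) (hd₁ : OmegaSh.IsUniversal d₁)
    (φ : Omega.conormal i ⟶ (Scheme.Modules.pullback i).obj Ω₁) (hφ : OmegaSh.IsConormalDiff i d₁ φ)
    (c : (Scheme.Modules.pullback i).obj Ω₁ ⟶ Ω₂) (hc : OmegaSh.IsDiffCompat i d₁ d₂ c)
    (hw : φ ≫ c = 0) (hS : (ShortComplex.mk φ c hw).ShortExact)
    (C' : Scheme.{u}) (i' : D ⟶ C') (pC' : C' ⟶ Spec (CommRingCat.of k)) [LocallyOfFiniteType pC']
    (hp' : i' ≫ pC' = pD) (hR' : MultCurve.IsRibbon i')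
    (Ω₁' : C'.Modules) (d₁' : OmegaSh.Der pC' Ω₁') (hd₁' : OmegaSh.IsUniversal d₁')
    (φ' : Omega.conormal i' ⟶ (Scheme.Modules.pullback i').obj Ω₁') (hφ' : OmegaSh.IsConormalDiff i' d₁' φ')
    (c' : (Scheme.Modules.pullback i').obj Ω₁' ⟶ Ω₂) (hc' : OmegaSh.IsDiffCompat i' d₁' d₂ c')
    (hw' : φ' ≫ c' = 0) (hS' : (ShortComplex.mk φ' c' hw').ShortExact)
    (g : C ⟶ C') (hgi : i ≫ g = i') (hgk : g ≫ pC' = pC)
    (α : (Scheme.Modules.pullback (𝟙 D)).obj (Omega.conormal i') ⟶ Omega.conormal i)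
    (hα : OmegaSh.IsConormalMap i i' g (𝟙 D) α) :
    hS'.extClass.comp (Abelian.Ext.mk₀ ((Scheme.Modules.pullbackId D).inv.app (Omega.conormal i') ≫ α)) (add_zero 1) =
      hS.extClass := by
  obtain ⟨hRP, -⟩ := hR
  haveI : IsClosedImmersion i := hRP.1
  haveI : IsClosedImmersion i' := hR'.1.1
  subst hp hgi
  -- the differential of `g`
  obtain ⟨c0, hc0, -⟩ := S9370.result pC' pC g (𝟙 _) (by rw [Category.comp_id, hgk]) Ω₁' d₁' hd₁' Ω₁ d₁ hd₁
  obtain ⟨β, hβ⟩ := exists_comp_map i g c0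
  have hβd : ∀ (U : C'.Opens) (s : Γ(C', U)),
      β.app ((i ≫ g) ⁻¹ᵁ U) (OmegaSh.pullSect (i ≫ g) Ω₁' U (d₁'.app U s)) =
        OmegaSh.pullSect i Ω₁ (g ⁻¹ᵁ U) (d₁.app (g ⁻¹ᵁ U) (g.app U s)) := fun U s =>
    (hβ U _).trans (congrArg (OmegaSh.pullSect i Ω₁ (g ⁻¹ᵁ U)) (hc0 U s))
  have h23 : β ≫ c = c' := by
    refine (S9370.result pC' (i ≫ pC) (i ≫ g) (𝟙 _) ?_ Ω₁' d₁' hd₁' Ω₂ d₂ hd₂).unique ?_ hc'
    · rw [Category.comp_id, Category.assoc, hgk]
    · intro U s
      show c.app _ (β.app ((i ≫ g) ⁻¹ᵁ U) (OmegaSh.pullSect (i ≫ g) Ω₁' U (d₁'.app U s))) = _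
      rw [hβd U s]
      exact (hc (g ⁻¹ᵁ U) (g.app U s)).trans (congrArg (d₂.app _) (congr($(Scheme.Hom.comp_app i g U) s)).symm)
  let α' : Omega.conormal (i ≫ g) ⟶ Omega.conormal i :=
    (Scheme.Modules.pullbackId D).inv.app (Omega.conormal (i ≫ g)) ≫ α
  have h12 : α' ≫ φ = φ' ≫ β := by
    refine hom_ext_pullSect (i ≫ g) fun U s' => ?_
    show φ.app _ (α.app _ (((Scheme.Modules.pullbackId D).inv.app (Omega.conormal (i ≫ g))).app ((i ≫ g) ⁻¹ᵁ U)
      (OmegaSh.conormalSect (i ≫ g) U s'))) = β.app _ (φ'.app _ (OmegaSh.conormalSect (i ≫ g) U s'))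
    rw [pullbackId_inv_app, hφ' U s', hβd]
    have h0 : i.app (g ⁻¹ᵁ U) (g.app U (OmegaSh.idealSect (i ≫ g).ker U s')) = 0 := by
      rw [← CategoryTheory.comp_apply, ← Scheme.Hom.comp_app]
      exact H26Def.app_idealModι (i ≫ g) U s'
    have h0' : (ClSub.toSubscheme i.ker).app (g ⁻¹ᵁ U)
        (show Γ(Coh.structureModule C, g ⁻¹ᵁ U) from g.app U (OmegaSh.idealSect (i ≫ g).ker U s')) = 0 := by
      show i.imageι.app _ (g.app U (OmegaSh.idealSect (i ≫ g).ker U s')) = 0
      have h3 : (i.toImage ≫ i.imageι).app _ (g.app U (OmegaSh.idealSect (i ≫ g).ker U s')) = 0 := by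
        rw [Scheme.Hom.congr_app i.toImage_imageι]
        show D.presheaf.map _ (i.app _ _) = 0
        rw [h0, map_zero]
      change i.toImage.app _ (i.imageι.app _ (g.app U (OmegaSh.idealSect (i ≫ g).ker U s'))) = 0 at h3
      exact (ConcreteCategory.bijective_of_isIso (i.toImage.app _)).1 (h3.trans (map_zero _).symm)
    obtain ⟨s, hs⟩ := H29Blow.exists_kernelι_app_eq (ClSub.toSubscheme i.ker) _ _ h0'
    have hs' : OmegaSh.idealSect i.ker (g ⁻¹ᵁ U) s = g.app U (OmegaSh.idealSect (i ≫ g).ker U s') := hs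
    have h1 := hα.2 U s' s hs' ((i ≫ g) ⁻¹ᵁ U) le_rfl le_rfl
    have e1 : ∀ (M : D.Modules) (W : D.Opens) (m : Γ(M, W)) (h : W ≤ W), M.presheaf.map (homOfLE h).op m = m := by
      intro M W m h
      rw [show (homOfLE h).op = 𝟙 (Opposite.op W) from rfl, CategoryTheory.Functor.map_id]
      rfl
    have h2 := (e1 _ _ _ _).symm.trans (h1.trans (e1 _ _ _ _))
    refine (congrArg (φ.app _) h2).trans ?_
    rw [← hs']
    exact hφ (g ⁻¹ᵁ U) s
  let F : ShortComplex.mk φ' c' hw' ⟶ ShortComplex.mk φ c hw :=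
    { τ₁ := α'
      τ₂ := β
      τ₃ := 𝟙 Ω₂
      comm₁₂ := h12
      comm₂₃ := by rw [Category.comp_id]; exact h23 }
  have h := ShortComplex.ShortExact.extClass_naturality hS' hS F
  rw [Abelian.Ext.mk₀_id_comp] at h
  exact h

end Groth.Agent.S18351
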