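import Groth.Statements.S1049
import Groth.Agent.H16Derived.DMinus.Equiv
import Groth.Agent.H16Derived.DMinus.CohQCoh
import Groth.Agent.H16Derived.DMinus.Bounded
import Groth.Agent.H17.QCohCat.Groth
import Groth.Agent.S7769
import Groth.Agent.S7445

set_option autoImplicit false
universe u
open CategoryTheory CategoryTheory.Limits AlgebraicGeometry
attribute [local instance] HasDerivedCategory.standard
open Perf

namespace Groth.Agent.S1049

set_option backward.isDefEq.respectTransparency false
set_option linter.style.haveILetI false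

/-- Let X be a Noetherian scheme. Granting that coherent modules contain zero and are closed under
kernels, cokernels and finite products in all O_X-modules, with exact inclusion (true on a
Noetherian scheme, carried as instance hypotheses; they make Coh(O_X) an abelian category), the
induced functor D(Coh(O_X)) ⥤ D(O_X) is fully faithful on bounded objects, and a bounded object of
D(O_X) with coherent cohomology sheaves is isomorphic to the image of a bounded object of
D(Coh(O_X)). -/
theorem result (X : Scheme.{u}) [IsNoetherian X]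
    [ObjectProperty.ContainsZero (fun M : X.Modules => Coh.IsCoh M)] [ObjectProperty.IsClosedUnderKernels (fun M : X.Modules => Coh.IsCoh M)]
    [ObjectProperty.IsClosedUnderCokernels (fun M : X.Modules => Coh.IsCoh M)] [ObjectProperty.IsClosedUnderFiniteProducts (fun M : X.Modules => Coh.IsCoh M)]
    [PreservesFiniteLimits (ObjectProperty.ι (fun M : X.Modules => Coh.IsCoh M))] [PreservesFiniteColimits (ObjectProperty.ι (fun M : X.Modules => Coh.IsCoh M))] :
    (∀ (M N : DerivedCategory (ObjectProperty.FullSubcategory (fun M : X.Modules => Coh.IsCoh M))) (a b : ℤ), M.IsGE a → M.IsLE b → N.IsGE a → N.IsLE b →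
      Function.Bijective (fun φ : M ⟶ N => (ObjectProperty.ι (fun M : X.Modules => Coh.IsCoh M)).mapDerivedCategory.map φ)) ∧
    ∀ (K : DCoh.D X) (a b : ℤ), K.IsGE a → K.IsLE b → DCoh.IsCohD K →
      ∃ M : DerivedCategory (ObjectProperty.FullSubcategory (fun M : X.Modules => Coh.IsCoh M)), M.IsGE a ∧ M.IsLE b ∧
        Nonempty ((ObjectProperty.ι (fun M : X.Modules => Coh.IsCoh M)).mapDerivedCategory.obj M ≅ K) := by
  let q : ObjectProperty X.Modules := fun M => Coh.IsQCoh M
  haveI : q.ContainsZero := inferInstanceAs ((QCohCat.isQCoh X).ContainsZero)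
  haveI : q.IsClosedUnderKernels := inferInstanceAs ((QCohCat.isQCoh X).IsClosedUnderKernels)
  haveI : q.IsClosedUnderCokernels := inferInstanceAs ((QCohCat.isQCoh X).IsClosedUnderCokernels)
  haveI : q.IsClosedUnderFiniteProducts := inferInstanceAs ((QCohCat.isQCoh X).IsClosedUnderFiniteProducts)
  haveI := q.preservesKernels_ι
  haveI := q.preservesCokernels_ι
  haveI : PreservesFiniteLimits q.ι := Functor.preservesFiniteLimits_of_preservesKernels _
  haveI : PreservesFiniteColimits q.ι := Functor.preservesFiniteColimits_of_preservesCokernels _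
  let H := ObjectProperty.ι (fun M : X.Modules => Coh.IsCoh M)
  let G := ObjectProperty.lift q H (fun M => M.property.1)
  haveI : G.Additive := ⟨fun {_ _} _ _ => rfl⟩
  haveI : PreservesFiniteLimits (G ⋙ q.ι) := inferInstanceAs (PreservesFiniteLimits H)
  haveI : PreservesFiniteColimits (G ⋙ q.ι) := inferInstanceAs (PreservesFiniteColimits H)
  haveI : PreservesFiniteLimits G := preservesFiniteLimits_of_reflects_of_preserves G q.ι
  haveI : PreservesFiniteColimits G := preservesFiniteColimits_of_reflects_of_preserves G q.ι
  letI := HasDerivedCategory.standard q.FullSubcategory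
  haveI : EnoughInjectives q.FullSubcategory := Groth.Agent.S7445.result X
  haveI := Groth.Agent.H16Derived.CohQCoh.isSerreClass (X := X)
  obtain ⟨e⟩ := Groth.Agent.H16Derived.BoundedEquiv.nonempty_mapDerivedCategory_comp q.ι G (H := H) (Iso.refl _)
  have hess : ∀ a, Groth.Agent.H16Derived.CohQCoh.cohIn X a → G.essImage a := fun a h => ⟨⟨a.obj, h⟩, ⟨Iso.refl _⟩⟩
  have hG : ∀ (N : DerivedCategory (ObjectProperty.FullSubcategory (fun M : X.Modules => Coh.IsCoh M))) (a : ℤ),
      N.IsGE a → (G.mapDerivedCategory.obj N).IsGE a := by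
    intro N a hN
    obtain ⟨K, hK, ⟨eK⟩⟩ := DerivedCategory.exists_iso_Q_obj_of_isGE N a
    haveI := hK
    haveI : CochainComplex.IsStrictlyGE ((G.mapHomologicalComplex (ComplexShape.up ℤ)).obj K) a := by
      rw [CochainComplex.isStrictlyGE_iff]
      exact fun n hn => G.map_isZero (CochainComplex.isZero_of_isStrictlyGE K a n hn)
    haveI : DerivedCategory.TStructure.t.IsGE ((G.mapHomologicalComplex (ComplexShape.up ℤ) ⋙ DerivedCategory.Q).obj K) a :=
      inferInstanceAs (DerivedCategory.TStructure.t.IsGE (DerivedCategory.Q.obj ((G.mapHomologicalComplex (ComplexShape.up ℤ)).obj K)) a)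
    exact DerivedCategory.TStructure.t.isGE_of_iso
      (G.mapDerivedCategory.mapIso eK ≪≫ G.mapDerivedCategoryFactors.app K).symm a
  have hbij : ∀ (M N : DerivedCategory (ObjectProperty.FullSubcategory (fun M : X.Modules => Coh.IsCoh M))) (a b : ℤ),
      M.IsLE b → N.IsGE a → Function.Bijective (fun φ : M ⟶ N => H.mapDerivedCategory.map φ) := by
    intro M N a b hM hN
    haveI := hM
    haveI := hG N a hN
    have h1 := Groth.Agent.H16Derived.MinusEquiv.bijective_map G (Groth.Agent.H16Derived.CohQCoh.hasLift (X := X))
      hess (fun x => x.property) M N b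
    have h2 := (Groth.Agent.H16Derived.BoundedEquiv.bijective_of_isGE q.ι (Groth.Agent.S7769.result X)
      (G.mapDerivedCategory.obj M) (G.mapDerivedCategory.obj N) a).comp h1
    have h3 := ((e.app M).homCongr (e.app N)).bijective.comp h2
    refine Eq.mp (congrArg Function.Bijective (funext fun φ => ?_)) h3
    show (e.app M).inv ≫ (G.mapDerivedCategory ⋙ q.ι.mapDerivedCategory).map φ ≫ (e.app N).hom = _
    exact ((Iso.inv_comp_eq (e.app M)).2 (e.hom.naturality φ))
  refine ⟨fun M N a b _ hM hN _ => hbij M N a b hM hN, fun K a b ha hb hK => ?_⟩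
  exact Groth.Agent.H16Derived.BoundedEquiv.exists_iso_bounded H (fun M N a b _ hM hN _ => (hbij M N a b hM hN).2)
    K a b ha hb (fun n => ⟨⟨_, hK n⟩, ⟨Iso.refl _⟩⟩)

end Groth.Agent.S1049
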