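import Groth.Statements.S6270
import Mathlib.RingTheory.Flat.Equalizer
import Mathlib.LinearAlgebra.TensorProduct.Quotient
import Mathlib.LinearAlgebra.TensorProduct.RightExactness
import Mathlib.Algebra.Module.Projective
import Mathlib.RingTheory.Nilpotent.Basic
import Mathlib.LinearAlgebra.Finsupp.LinearCombination

set_option autoImplicit false
universe u
open scoped TensorProduct
open CAlg

namespace Groth.Agent.S6270

open TensorProduct

theorem aux {R : Type u} [CommRing R] (I : Ideal R) (hI : IsNilpotent I) {M F : Type u} [AddCommGroup M] [Module R M] [Module.Flat R M] [AddCommGroup F] [Module R F] [Module.Projective R F] (π : F →ₗ[R] M) (hπ : Function.Surjective π) (hproj : Module.Projective (R ⧸ I) ((R ⧸ I) ⊗[R] M)) : Module.Projective R M := by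
  let K := LinearMap.ker π
  have hinj : ∀ (Q : Type u) [AddCommGroup Q] [Module R Q], Function.Injective (K.subtype.lTensor Q) :=
    fun Q _ _ => by
      refine LinearMap.lTensor_injective_of_exact_of_flat π hπ K.subtype ?_ ?_ Q
      · exact Subtype.val_injective
      · exact LinearMap.exact_subtype_ker_map π
  let ib : (R ⧸ I) ⊗[R] K →ₗ[R ⧸ I] (R ⧸ I) ⊗[R] F := K.subtype.baseChange (R ⧸ I)
  let pb : (R ⧸ I) ⊗[R] F →ₗ[R ⧸ I] (R ⧸ I) ⊗[R] M := π.baseChange (R ⧸ I)
  obtain ⟨s, hs⟩ := Module.projective_lifting_property pb LinearMap.id (LinearMap.lTensor_surjective (R ⧸ I) hπ)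
  have hex : Function.Exact ib pb := lTensor_exact (R ⧸ I) (LinearMap.exact_subtype_ker_map π) hπ
  have hiinj : Function.Injective ib := hinj (R ⧸ I)
  have hrange : ∀ z, z - s (pb z) ∈ LinearMap.range ib := fun z => by
    refine (hex (z - s (pb z))).mp ?_
    rw [map_sub, ← LinearMap.comp_apply pb s, hs, LinearMap.id_apply, sub_self]
  let r : (R ⧸ I) ⊗[R] F →ₗ[R ⧸ I] (R ⧸ I) ⊗[R] K :=
    (LinearEquiv.ofInjective ib hiinj).symm.toLinearMap ∘ₗ
      (LinearMap.id - s ∘ₗ pb).codRestrict _ hrange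
  have hr : ∀ y, r (ib y) = y := fun y => by
    apply (LinearEquiv.ofInjective ib hiinj).injective
    simp only [r, LinearMap.comp_apply, LinearEquiv.coe_coe, LinearEquiv.apply_symm_apply]
    ext
    simp [hex.apply_apply_eq_zero y]
  obtain ⟨r', hr'⟩ := Module.projective_lifting_property (TensorProduct.mk R (R ⧸ I) K 1)
    ((r.restrictScalars R) ∘ₗ TensorProduct.mk R (R ⧸ I) F 1)
    (by
      intro z
      induction z with
      | zero => exact ⟨0, map_zero _⟩
      | add a b ha hb => obtain ⟨a, rfl⟩ := ha; obtain ⟨b, rfl⟩ := hb; exact ⟨a + b, map_add _ _ _⟩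
      | tmul c k =>
        obtain ⟨c, rfl⟩ := Ideal.Quotient.mk_surjective c
        refine ⟨c • k, ?_⟩
        rw [map_smul, TensorProduct.mk_apply, smul_tmul', Algebra.smul_def, mul_one]; rfl)
  let e : Module.End R K := LinearMap.id - r' ∘ₗ K.subtype
  have he : ∀ y, e y ∈ I • (⊤ : Submodule R K) := fun y => by
    rw [← Submodule.Quotient.mk_eq_zero, ← (TensorProduct.quotTensorEquivQuotSMul K I).symm.map_eq_zero_iff,
      TensorProduct.quotTensorEquivQuotSMul_symm_mk]
    have h1 := LinearMap.congr_fun hr' (K.subtype y)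
    simp only [LinearMap.comp_apply, TensorProduct.mk_apply, LinearMap.coe_restrictScalars] at h1
    have h2 : r ((1 : R ⧸ I) ⊗ₜ[R] K.subtype y) = (1 : R ⧸ I) ⊗ₜ[R] y := hr ((1 : R ⧸ I) ⊗ₜ[R] y)
    show (1 : R ⧸ I) ⊗ₜ[R] (y - r' (K.subtype y)) = 0
    rw [tmul_sub, h1, h2, sub_self]
  have hpow : ∀ n y, (e ^ n) y ∈ I ^ n • (⊤ : Submodule R K) := by
    intro n
    induction n with
    | zero => intro y; simp
    | succ n ih =>
      intro y
      rw [show e ^ (n + 1) = e * e ^ n from pow_succ' e n, Module.End.mul_apply]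
      have : (I ^ n • (⊤ : Submodule R K)).map e ≤ I ^ n • (I • ⊤) := by
        rw [Submodule.map_smul'']
        exact Submodule.smul_mono le_rfl (by rintro _ ⟨z, -, rfl⟩; exact he z)
      rw [pow_succ, Submodule.mul_smul]
      exact this (Submodule.mem_map_of_mem (ih y))
  obtain ⟨N, hN⟩ := hI
  have hnil : IsNilpotent e := ⟨N, LinearMap.ext fun y => by simpa [hN] using hpow N y⟩
  obtain ⟨u, hu⟩ : ∃ u : K →ₗ[R] K, u * (r' ∘ₗ K.subtype) = 1 := by
    have : IsUnit (r' ∘ₗ K.subtype : Module.End R K) := by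
      have h := hnil.isUnit_one_sub
      rwa [show (1 : Module.End R K) - e = r' ∘ₗ K.subtype from sub_sub_cancel _ _] at h
    exact this.exists_left_inv
  let ρ : F →ₗ[R] K := u ∘ₗ r'
  let t : F →ₗ[R] F := LinearMap.id - K.subtype ∘ₗ ρ
  have ht : K ≤ LinearMap.ker t := fun y hy => by
    have : u (r' (K.subtype ⟨y, hy⟩)) = (⟨y, hy⟩ : K) := LinearMap.congr_fun hu ⟨y, hy⟩
    simp [t, ρ, LinearMap.mem_ker]
    rw [sub_eq_zero]
    exact (congrArg Subtype.val this).symm
  refine Module.Projective.of_split ((K.liftQ t ht) ∘ₗ (LinearMap.quotKerEquivOfSurjective π hπ).symm.toLinearMap) π ?_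
  ext m
  obtain ⟨z, rfl⟩ := hπ m
  simp only [LinearMap.comp_apply, LinearEquiv.coe_coe, LinearMap.id_apply]
  rw [← LinearMap.quotKerEquivOfSurjective_apply_mk π hπ z, LinearEquiv.symm_apply_apply, Submodule.liftQ_apply,
    LinearMap.quotKerEquivOfSurjective_apply_mk]
  simp [t, LinearMap.mem_ker.mp (ρ z).2]

/-- Let R be a ring, I ⊆ R a nilpotent ideal and M an R-module. If M is flat over R and M/IM (that is,
R/I ⊗ M) is a projective R/I-module, then M is a projective R-module. -/
theorem result {R : Type u} [CommRing R] (I : Ideal R) (hI : IsNilpotent I) (M : Type u) [AddCommGroup M] [Module R M] [Module.Flat R M] (hproj : Module.Projective (R ⧸ I) ((R ⧸ I) ⊗[R] M)) : Module.Projective R M := by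
  exact aux I hI (Finsupp.linearCombination R id : (M →₀ R) →ₗ[R] M) (Finsupp.linearCombination_surjective R Function.surjective_id) hproj

end Groth.Agent.S6270
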