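import Groth.Statements.S4406
import Groth.Agent.H11Proj.TwistBaseChange

set_option autoImplicit false
universe u
open CategoryTheory CategoryTheory.Limits AlgebraicGeometry
open EGA2

namespace Groth.Agent.S4406

/-- The twisting sheaves under base change: let A' → A be a ring homomorphism, S' a graded A'-algebra
and S = S' ⊗_{A'} A with the induced grading (here: any graded A-algebra S with a graded
homomorphism φ : S' → S exhibiting S as the base change of S'), and Φ : Proj S → Proj S' the induced
morphism. Then for every integer n the O-module Φ^*(O(n)) is isomorphic to O(n) on Proj S.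
(Existence of an isomorphism only; the published identification is canonical. The published
statement also covers a general graded S'-module M'; this row states the twisting sheaves only.) -/
theorem result {R R' A B : Type u} [CommRing R'] [CommRing R] [Algebra R' R]
    [CommRing B] [Algebra R' B] (ℬ : ℕ → Submodule R' B) [GradedAlgebra ℬ]
    [CommRing A] [Algebra R A] [Algebra R' A] [IsScalarTower R' R A] (𝒜 : ℕ → Submodule R A) [GradedAlgebra 𝒜]
    [Algebra B A] [IsScalarTower R' B A] [Algebra.IsPushout R' R B A]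
    (φ : ℬ →+*ᵍ 𝒜) (hφA : ∀ b : B, φ b = algebraMap B A b)
    (hφ : HomogeneousIdeal.irrelevant 𝒜 ≤ (HomogeneousIdeal.irrelevant ℬ).map φ) (n : ℤ) :
    Nonempty ((Scheme.Modules.pullback (Proj.map φ hφ)).obj (Twist.twist ℬ n) ≅ Twist.twist 𝒜 n) := by
  classical
  have h : IsBaseChange R (IsScalarTower.toAlgHom R' B A).toLinearMap := Algebra.IsPushout.out
  have he : ∀ (r : R) (b : B), h.equiv (r ⊗ₜ b) = r • φ b := fun r b => by
    rw [IsBaseChange.equiv_tmul, hφA]; rfl
  have hspan : ∀ D, ∀ a ∈ 𝒜 D, a ∈ Submodule.span R ((fun b => φ b) '' (ℬ D : Set B)) := by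
    intro D a ha
    obtain ⟨t, ht⟩ := TensorProduct.exists_finset (h.equiv.symm a)
    have h1 : a = ∑ i ∈ t, i.1 • φ i.2 := by
      rw [← h.equiv.apply_symm_apply a, ht, map_sum]
      exact Finset.sum_congr rfl fun i _ => he _ _
    rw [← DirectSum.decompose_of_mem_same 𝒜 ha, h1, DirectSum.decompose_sum, DFinsupp.finsetSum_apply,
      Submodule.coe_sum]
    refine sum_mem fun i _ => ?_
    rw [DirectSum.decompose_smul, DFinsupp.smul_apply, Submodule.coe_smul, ← GradedRingHom.map_directSumDecompose ℬ 𝒜 φ]
    exact Submodule.smul_mem _ _ (Submodule.subset_span ⟨_, (DirectSum.decompose ℬ i.2 D).2, rfl⟩)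
  have hinj : ∀ (ι : Type u) [Fintype ι] (r : ι → R) (b : ι → B),
      (∑ i, algebraMap R A (r i) * φ (b i)) = 0 → ∑ i, r i ⊗ₜ[R'] b i = (0 : TensorProduct R' R B) := by
    intro ι _ r b hz
    apply h.equiv.injective
    rw [map_sum, map_zero]
    refine Eq.trans (Finset.sum_congr rfl fun i _ => ?_) hz
    rw [he, Algebra.smul_def]
  exact ⟨@asIso _ _ _ _ _ (H11Proj.TwistBaseChange.isIso_transpose φ hφ (R := R) (R' := R')
    (fun r => SetLike.algebraMap_mem_graded ℬ r) (fun r => SetLike.algebraMap_mem_graded 𝒜 r)
    (fun r => by rw [hφA, ← IsScalarTower.algebraMap_apply, ← IsScalarTower.algebraMap_apply])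
    hspan hinj n)⟩

end Groth.Agent.S4406
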