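import Groth.Statements.S4466
import Groth.Agent.H10Coh.Pn.Results
import Groth.Agent.S0843
import Groth.Agent.S0845
import Groth.Agent.H3CAlg.FormsDim
import Mathlib.RingTheory.Binomial
-- import your own Groth.Agent.* helpers here

set_option autoImplicit false
set_option linter.style.haveILetI false
universe u
open Coherent

namespace Groth.Agent.S4466

open AlgebraicGeometry CategoryTheory in
/-- Let k be a field, r > 0 and n any integer. Then the Euler characteristic of the twisting sheaf O(n)
on projective r-space over k, namely the alternating sum of the dimensions of H^j(P^r_k, O(n)) for 0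
≤ j ≤ r, equals the binomial coefficient C(n+r, r), understood as the binomial polynomial evaluated
at the integer n+r (so that it makes sense and is correct for negative n too). -/
theorem result (k : Type u) [Field k] (r : ℕ) (hr : 0 < r)
    (n : ℤ) :
    ((Finset.range (r + 1)).sum fun j => (-1 : ℤ) ^ j *
        (Module.finrank k (Coh.HH (CohB1.ProjSpace r k) (Twist.twistProjSpace r k n) j) : ℤ)) =
      Ring.choose (n + r) r := by

  have hz : ∀ j : ℕ, ¬ (j = 0 ∧ 0 ≤ n) → ¬ (j = r ∧ n ≤ -((r : ℤ) + 1)) →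
      (-1 : ℤ) ^ j * (Module.finrank k (Coh.HH (CohB1.ProjSpace r k) (Twist.twistProjSpace r k n) j) : ℤ) = 0 :=
    fun j h₀ hn => by
      haveI : Subsingleton (Coh.HH (CohB1.ProjSpace r k) (Twist.twistProjSpace r k n) j) :=
        H10Coh.Pn.subsingleton_HH_Od (R := k) j h₀ hn
      rw [Module.finrank_zero_of_subsingleton, Nat.cast_zero, mul_zero]
  rcases le_or_gt 0 n with hn | hn
  · obtain ⟨d, rfl⟩ := Int.eq_ofNat_of_zero_le hn
    rw [Finset.sum_eq_single 0 (fun j _ hj => hz j (fun h => hj h.1) (by omega)) (by simp), pow_zero, one_mul]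
    obtain ⟨e⟩ := S0843.result k r d
    rw [e.finrank_eq, (H3CAlg.finrank_homogeneous (k := k) r d).2,
      show ((d : ℤ) + (r : ℤ)) = ((d + r : ℕ) : ℤ) by push_cast; ring, Ring.choose_natCast]
  rcases le_or_gt (-(r : ℤ)) n with hr' | hr'
  · rw [Finset.sum_eq_zero (fun j _ => hz j (by omega) (by omega))]
    obtain ⟨m, hm⟩ := Int.eq_ofNat_of_zero_le (show 0 ≤ n + r by omega)
    rw [hm, Ring.choose_natCast, Nat.choose_eq_zero_of_lt (by omega)]
    rfl
  obtain ⟨m, rfl⟩ : ∃ m : ℕ, n = -((r : ℤ) + 1 + m) := ⟨(-(n + r + 1)).toNat, by omega⟩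
  rw [Finset.sum_eq_single r (fun j _ hj => hz j (by omega) (fun h => hj h.1)) (by simp)]
  obtain ⟨e⟩ := S0845.result k r m
  rw [e.finrank_eq, (H3CAlg.finrank_homogeneous (k := k) r m).2,
    show -((r : ℤ) + 1 + m) + r = -((m + 1 : ℕ) : ℤ) by push_cast; ring, Ring.choose_neg,
    show (((m + 1 : ℕ) : ℤ) + (r : ℤ) - 1) = ((m + r : ℕ) : ℤ) by push_cast; ring, Ring.choose_natCast,
    Units.smul_def, smul_eq_mul, Int.coe_negOnePow_natCast]


end Groth.Agent.S4466
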