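import Groth.Statements.S5161
import Groth.Agent.H17.PuncturedAffine

set_option autoImplicit false
universe u
open AlgebraicGeometry
open LocCoh

namespace Groth.Agent.S5161

/-- Let A be a Noetherian ring, X = Spec A and Y ⊆ X a closed subset whose complement U is an affine
open. Then every irreducible component of Y has codimension ≤ 1 in X, i.e. the generic point of each
irreducible component of Y is a prime of height at most 1. -/
theorem result (A : Type u) [CommRing A] [IsNoetherianRing A] (U : (Spec (CommRingCat.of A)).Opens) (hU : IsAffineOpen U) (p : PrimeSpectrum A) (hpU : (p : (Spec (CommRingCat.of A) : Type u)) ∉ (U : Set (Spec (CommRingCat.of A) : Type u))) (hmin : ∀ q : PrimeSpectrum A, q.asIdeal ≤ p.asIdeal → (q : (Spec (CommRingCat.of A) : Type u)) ∉ (U : Set (Spec (CommRingCat.of A) : Type u)) → q = p) : p.asIdeal.height ≤ 1 := by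
  let B := Localization.AtPrime p.asIdeal
  let φ : Spec (CommRingCat.of B) ⟶ Spec (CommRingCat.of A) := Spec.map (CommRingCat.ofHom (algebraMap A B))
  have hφ : ∀ P : PrimeSpectrum B, φ P = P.comap (algebraMap A B) := fun P => rfl
  have haff : IsAffineOpen (φ ⁻¹ᵁ U) := hU.preimage φ
  have hd := Groth.Agent.H17.PuncturedAffine.ringKrullDim_le_one_of_isAffineOpen (A := B) (φ ⁻¹ᵁ U) haff (fun P => by
    change φ P ∈ U ↔ _
    rw [hφ]
    refine ⟨fun h he => hpU ?_, fun h => ?_⟩
    · subst he
      have e : (IsLocalRing.closedPoint B).comap (algebraMap A B) = p :=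
        PrimeSpectrum.ext (IsLocalization.AtPrime.comap_maximalIdeal B p.asIdeal)
      rw [e] at h
      exact h
    · by_contra hn
      have hle : (P.comap (algebraMap A B)).asIdeal ≤ p.asIdeal :=
        (Ideal.comap_mono (IsLocalRing.le_maximalIdeal P.isPrime.ne_top)).trans (IsLocalization.AtPrime.comap_maximalIdeal B p.asIdeal).le
      have he := congrArg PrimeSpectrum.asIdeal (hmin _ hle hn)
      refine h (PrimeSpectrum.ext ?_)
      rw [← IsLocalization.map_comap p.asIdeal.primeCompl B P.asIdeal]
      exact (congrArg (Ideal.map (algebraMap A B)) he).trans (IsLocalization.AtPrime.map_eq_maximalIdeal p.asIdeal B))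
  rw [IsLocalization.AtPrime.ringKrullDim_eq_height p.asIdeal B] at hd
  exact_mod_cast hd

end Groth.Agent.S5161
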