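import Groth.Statements.S17886
import Groth.Agent.H11Ample.RelQuasiAffine

set_option autoImplicit false
set_option linter.style.haveILetI false
universe u
open CategoryTheory AlgebraicGeometry
open FlatMor

namespace Groth.Agent.S17886

/-- Every point of a Noetherian scheme has a dense affine open neighbourhood. -/
theorem exists_dense_affine_nhd {X : Scheme.{u}} [IsNoetherian X] (x : X) :
    ∃ U : X.Opens, x ∈ U ∧ IsAffineOpen U ∧ Dense (U : Set X) := by
  classical
  have hfin : (irreducibleComponents X).Finite :=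
    TopologicalSpace.NoetherianSpace.finite_irreducibleComponents
  obtain ⟨V, hV, hxV, -⟩ := exists_isAffineOpen_mem_and_subset (X := X) (x := x) (U := ⊤) trivial
  have key : ∀ Z ∈ irreducibleComponents X, ∃ W : X.Opens, IsAffineOpen W ∧ (W : Set X).Nonempty ∧
      (W : Set X) ⊆ Z ∧ ∀ Z' ∈ irreducibleComponents X, Z' ≠ Z → Disjoint (W : Set X) Z' := by
    intro Z hZ
    have hcl := closure_sUnion_irreducibleComponents_sdiff_singleton hfin Z hZ
    have ho : IsOpen (⋃₀ (irreducibleComponents X \ {Z}))ᶜ := by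
      rw [Set.sUnion_eq_biUnion, isOpen_compl_iff]
      exact hfin.sdiff.isClosed_biUnion fun W hW => isClosed_of_mem_irreducibleComponents W hW.1
    have hne : (⋃₀ (irreducibleComponents X \ {Z}))ᶜ.Nonempty := by
      by_contra h
      rw [Set.not_nonempty_iff_eq_empty.1 h, closure_empty] at hcl
      exact hZ.1.nonempty.ne_empty hcl.symm
    obtain ⟨y, hy⟩ := hne
    obtain ⟨W, hW, hyW, hWle⟩ := exists_isAffineOpen_mem_and_subset (X := X) (x := y) (U := ⟨_, ho⟩) hy
    refine ⟨W, hW, ⟨y, hyW⟩, (fun z hz => ?_), fun Z' hZ' hne' => ?_⟩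
    · rw [← hcl]; exact subset_closure (hWle hz)
    · exact Set.disjoint_left.2 fun z hz hz' => hWle hz ⟨Z', ⟨hZ', hne'⟩, hz'⟩
  choose W hW hWne hWsub hWdis using key
  haveI : Finite {Z : Set X // Z ∈ irreducibleComponents X ∧ Disjoint Z (V : Set X)} :=
    (hfin.subset fun Z hZ => hZ.1).to_subtype
  let U : Option {Z : Set X // Z ∈ irreducibleComponents X ∧ Disjoint Z (V : Set X)} → X.Opens :=
    fun o => o.elim V fun Z => W Z.1 Z.2.1
  refine ⟨iSup U, TopologicalSpace.Opens.mem_iSup.2 ⟨none, hxV⟩,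
    IsAffineOpen.iSup_of_disjoint (fun o => ?_) (fun a b hab => ?_), ?_⟩
  · cases o with
    | none => exact hV
    | some Z => exact hW Z.1 Z.2.1
  · show Disjoint (U a) (U b)
    rw [← TopologicalSpace.Opens.coe_disjoint]
    match a, b with
    | none, none => exact absurd rfl hab
    | none, some Z => exact (Z.2.2.mono_left (hWsub Z.1 Z.2.1)).symm
    | some Z, none => exact Z.2.2.mono_left (hWsub Z.1 Z.2.1)
    | some Z, some Z' =>
      exact (hWdis Z.1 Z.2.1 Z'.1 Z'.2.1 fun h => hab (congrArg some (Subtype.ext h.symm))).mono_right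
        (hWsub Z'.1 Z'.2.1)
  · intro y
    obtain ⟨Z, hZ, hyZ⟩ : ∃ Z ∈ irreducibleComponents X, y ∈ Z :=
      ⟨irreducibleComponent y, irreducibleComponent_mem_irreducibleComponents y, mem_irreducibleComponent⟩
    have hne : (Z ∩ (iSup U : X.Opens)).Nonempty := by
      by_cases h : Disjoint Z (V : Set X)
      · obtain ⟨z, hz⟩ := hWne Z hZ
        exact ⟨z, hWsub Z hZ hz, TopologicalSpace.Opens.mem_iSup.2 ⟨some ⟨Z, hZ, h⟩, hz⟩⟩
      · obtain ⟨z, hzZ, hzV⟩ := Set.not_disjoint_iff.1 h
        exact ⟨z, hzZ, TopologicalSpace.Opens.mem_iSup.2 ⟨none, hzV⟩⟩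
    exact closure_mono Set.inter_subset_right
      (subset_closure_inter_of_isPreirreducible_of_isOpen hZ.1.2 (iSup U).isOpen hne hyZ)

/-- Let S be a Noetherian scheme and f : X → S separated and of finite type. Then X is covered by
finitely many affine opens U_1, …, U_n each of which is dense in X and quasi-projective over S (of
finite type with a relatively ample invertible module). -/
theorem result {S X : Scheme.{u}} (f : X ⟶ S)
    [IsNoetherian S] [IsSeparated f] [QuasiCompact f] [LocallyOfFiniteType f] :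
    ∃ (n : ℕ) (U : Fin n → X.Opens), (⨆ i, U i) = ⊤ ∧
      ∀ i, IsAffineOpen (U i) ∧ Dense ((U i : Set X)) ∧ RelProj.IsQuasiProjective ((U i).ι ≫ f) := by
  haveI : IsLocallyNoetherian X := LocallyOfFiniteType.isLocallyNoetherian f
  haveI : CompactSpace X := QuasiCompact.compactSpace_of_compactSpace f
  haveI : IsNoetherian X := ⟨⟩
  choose U hxU hU hdense using exists_dense_affine_nhd (X := X)
  obtain ⟨t, ht⟩ := isCompact_univ.elim_finite_subcover (fun x : X => (U x : Set X))
    (fun x => (U x).isOpen) fun x _ => Set.mem_iUnion.2 ⟨x, hxU x⟩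
  obtain ⟨n, ⟨e⟩⟩ := Finite.exists_equiv_fin ↥t
  refine ⟨n, fun i => U (e.symm i).1, eq_top_iff.2 fun x _ => ?_, fun i => ⟨hU _, hdense _, ?_⟩⟩
  · obtain ⟨y, hy, hxy⟩ := Set.mem_iUnion₂.1 (ht (Set.mem_univ x))
    exact TopologicalSpace.Opens.mem_iSup.2 ⟨e ⟨y, hy⟩, by simpa using hxy⟩
  show RelProj.IsQuasiProjective ((U (e.symm i).1).ι ≫ f)
  generalize (e.symm i).1 = x
  haveI : IsAffine (U x).toScheme := hU x
  haveI : QuasiCompact ((U x).ι ≫ f) := inferInstance
  refine ⟨inferInstance, inferInstance, Coh.structureModule _,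
    Groth.Agent.H11Ample.isQuasiAffineHom_iff.1 ⟨inferInstance, fun T hT => ?_⟩⟩
  haveI : CompactSpace (((U x).ι ≫ f) ⁻¹ᵁ T).toScheme :=
    isCompact_iff_compactSpace.1 (QuasiCompact.isCompact_preimage _ T.isOpen hT.isCompact)
  exact Scheme.IsQuasiAffine.of_isImmersion (((U x).ι ≫ f) ⁻¹ᵁ T).ι

end Groth.Agent.S17886
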