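import Groth.Statements.S6734
import Groth.Agent.H02CA.BoxEnv.Main
import Groth.Agent.S1109
import Groth.Agent.S1005
import Groth.Agent.H19Grp.RegularSmooth

set_option autoImplicit false
universe u
open CategoryTheory AlgebraicGeometry
attribute [local instance] HasDerivedCategory.standard
open DEquiv

namespace Groth.Agent.S6734

open CategoryTheory.Limits in
/-- Let X be a quasi-compact separated smooth scheme over a field k. Then one can find a pair E, G of
finite locally free O_X-modules for which O_Δ = Δ_* O_X belongs to ⟨E ⊠ G⟩, the smallest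
triangulated subcategory of D(O_{X ×_k X}) containing pr_1^* E ⊗ pr_2^* G and closed under direct
summands (Mathlib's triangulated envelope). -/
theorem result
    (k : Type u) [Field k] (X : Scheme.{u}) [X.Over (Spec (.of k))] [CompactSpace X] [IsSeparated (X ↘ Spec (.of k))] [Smooth (X ↘ Spec (.of k))] :
    ∃ (E G : X.Modules), FlatMod.IsFinLocFree E ∧ FlatMod.IsFinLocFree G ∧
      ObjectProperty.triangEnvelope
        (ObjectProperty.ofObj (fun _ : PUnit.{u + 1} => DCoh.inD (pullback (X ↘ Spec (.of k)) (X ↘ Spec (.of k))) (CohB1.tensorMod ((Scheme.Modules.pullback (pullback.fst (X ↘ Spec (.of k)) (X ↘ Spec (.of k)))).obj E)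
            ((Scheme.Modules.pullback (pullback.snd (X ↘ Spec (.of k)) (X ↘ Spec (.of k)))).obj G))))
        (DCoh.inD (pullback (X ↘ Spec (.of k)) (X ↘ Spec (.of k))) ((Coh.push (pullback.diagonal (X ↘ Spec (.of k)))).obj (Coh.structureModule X))) := by
  let a : X ⟶ Spec (CommRingCat.of k) := X ↘ Spec (.of k)
  haveI : IsLocallyNoetherian X := LocallyOfFiniteType.isLocallyNoetherian a
  haveI : IsLocallyNoetherian (pullback a a) := LocallyOfFiniteType.isLocallyNoetherian (pullback.fst a a)
  haveI : QuasiSeparatedSpace X := quasiSeparatedSpace_of_quasiSeparated a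
  haveI : CompactSpace (pullback a a : Scheme.{u}) := QuasiCompact.compactSpace_of_compactSpace (pullback.fst a a)
  haveI : QuasiSeparatedSpace (pullback a a : Scheme.{u}) := quasiSeparatedSpace_of_quasiSeparated (pullback.fst a a)
  haveI : Smooth (pullback.fst a a ≫ a) := inferInstance
  have hres : PerfAux.HasResolutionProperty X := S1109.result X
    (fun x => H19Grp.isRegularLocalRing_stalk_of_smooth a x)
    fun U V hU hV => by
      haveI : X.IsSeparated := by
        rw [Scheme.isSeparated_iff, ← Limits.terminal.comp_from a]; infer_instance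
      exact hU.inf hV
  have hreg : ∀ z : (pullback a a : Scheme.{u}), IsRegularLocalRing ((pullback a a).presheaf.stalk z) :=
    fun z => H19Grp.isRegularLocalRing_stalk_of_smooth (pullback.fst a a ≫ a) z
  have hD : Coh.IsCoh ((Coh.push (pullback.diagonal a)).obj (Coh.structureModule X)) :=
    H10Coh.isCoh_push_of_isFinite (f := pullback.diagonal a) (Coh.structureModule X) (H10Coh.isCoh_structureModule' X)
  have hsum : ∀ A B : X.Modules, FlatMod.IsFinLocFree A → FlatMod.IsFinLocFree B → FlatMod.IsFinLocFree (A ⊞ B) :=
    fun A B hA hB => H16Derived.KFlat.Stalk.isFinLocFree_biprod hA hB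
  exact H02CA.BoxEnv.mem_env (pullback.fst a a) (pullback.snd a a) hsum hsum
    (fun F hF => S6717.result k X X hres hres F hF.1 hF.2) _ hD
    (H16Derived.KFlat.Stalk.isPerfect_inD_of_isCoh hreg hD)

end Groth.Agent.S6734
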