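import Groth.Statements.S5778
import Groth.Agent.H05EGA4.Samuel
import Groth.Agent.H06QR.Regular
import Groth.Agent.H4Depth.Regular

set_option autoImplicit false
set_option linter.style.haveILetI false
universe u
open EGA41

open Groth.Agent Groth.Agent.H05EGA4 IsLocalRing Polynomial
open scoped Pointwise

namespace Groth.Agent.S5778

/-- Multiplication by a member of a quasi-regular sequence shifts the adic filtration strictly. -/
theorem mem_pow_of_mul_mem {R : Type u} [CommRing R] {r : ℕ} {g : Fin r → R} (hg : CAlgX.IsQuasiRegular g)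
    (i : Fin r) {y : R} {t : ℕ} (h : y * g i ∈ Ideal.span (Set.range g) ^ (t + 1)) :
    y ∈ Ideal.span (Set.range g) ^ t := by
  suffices H : ∀ j ≤ t, y ∈ Ideal.span (Set.range g) ^ j from H t le_rfl
  intro j
  induction j with
  | zero => intro _; rw [pow_zero, Ideal.one_eq_top]; trivial
  | succ j ih =>
    intro hj
    obtain ⟨P, hP, rfl⟩ := H06QR.exists_homogeneous g (ih (by omega))
    have hc : ∀ d, P.coeff d ∈ Ideal.span (Set.range g) := fun d => by
      have := hg (j + 1) (P * MvPolynomial.X i) (hP.mul (MvPolynomial.isHomogeneous_X R i))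
        (by rw [map_mul, MvPolynomial.eval_X]; exact Ideal.pow_le_pow_right (by omega) h) (d + Finsupp.single i 1)
      rwa [MvPolynomial.coeff_mul_X] at this
    rw [MvPolynomial.eval_eq, pow_succ']
    refine sum_mem fun d hd => Ideal.mul_mem_mul (hc d) ?_
    have h2 := H06QR.eval_mem g (k := j) (P := MvPolynomial.monomial d (1 : R))
      (MvPolynomial.isHomogeneous_monomial _ (by rw [hP.degree_eq_sum_deg_support hd]; rfl))
    rwa [MvPolynomial.eval_monomial, one_mul] at h2

theorem length_quotient_eq_samuel (A : Type u) [CommRing A] [IsLocalRing A] [IsNoetherianRing A]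
    [Finite (MaximalSpectrum A)] (n : ℕ) :
    Module.length A (A ⧸ maximalIdeal A ^ n) = (Samuel.samuel (A := A) A n : ℕ∞) := by
  rw [Samuel.samuel, Samuel.coLen, ENat.coe_toNat (Samuel.length_jacobson_ne_top n)]
  exact (Submodule.quotEquivOfEq _ _ (by rw [IsLocalRing.ringJacobson_eq_maximalIdeal, smul_eq_mul, Ideal.mul_top])).length_eq

theorem finite_maximalSpectrum (A : Type u) [CommRing A] [IsLocalRing A] : Finite (MaximalSpectrum A) :=
  @Finite.of_subsingleton _ ⟨fun a b => MaximalSpectrum.ext
    ((IsLocalRing.eq_maximalIdeal a.isMaximal).trans (IsLocalRing.eq_maximalIdeal b.isMaximal).symm)⟩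

theorem length_eq_choose : ∀ (r : ℕ) (A : Type u) [CommRing A] [IsLocalRing A] [IsNoetherianRing A] (g : Fin r → A),
    RingTheory.Sequence.IsWeaklyRegular A (List.ofFn g) → Ideal.span (Set.range g) = maximalIdeal A →
    ∀ s, Module.length A (A ⧸ maximalIdeal A ^ (s + 1)) = ((s + r).choose s : ℕ∞) := by
  intro r
  induction r with
  | zero =>
    intro A _ _ _ g _ hg s
    have h0 : maximalIdeal A = ⊥ := by rw [← hg, Set.range_eq_empty, Ideal.span_empty]
    rw [h0, ← Ideal.zero_eq_bot, zero_pow (Nat.succ_ne_zero s), Ideal.zero_eq_bot, (Submodule.quotEquivOfEqBot _ rfl).length_eq, Nat.add_zero, Nat.choose_self]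
    have : IsSimpleModule A A := by
      letI := (IsLocalRing.isField_iff_maximalIdeal_eq.mpr h0).toField
      infer_instance
    rw [Module.length_eq_one, Nat.cast_one]
  | succ r ih =>
    intro A _ _ _ g hreg hg
    haveI := finite_maximalSpectrum A
    have hq := H06QR.Regular.isQuasiRegular_of_isWeaklyRegular g hreg
    rw [List.ofFn_succ, RingTheory.Sequence.isWeaklyRegular_cons_iff'] at hreg
    let x := g 0
    let I := Ideal.span {x}
    have hxm : x ∈ maximalIdeal A := hg ▸ Ideal.subset_span ⟨0, rfl⟩
    have hI : I ≤ maximalIdeal A := (Ideal.span_singleton_le_iff_mem _).mpr hxm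
    haveI : Nontrivial (A ⧸ I) := Ideal.Quotient.nontrivial_iff.mpr
      (ne_top_of_le_ne_top (maximalIdeal.isMaximal A).ne_top hI)
    haveI : IsLocalRing (A ⧸ I) := .of_surjective' _ Ideal.Quotient.mk_surjective
    have hmap : maximalIdeal (A ⧸ I) = (maximalIdeal A).map (Ideal.Quotient.mk I) :=
      ((IsLocalRing.eq_maximalIdeal ((Ideal.map_eq_top_or_isMaximal_of_surjective _ Ideal.Quotient.mk_surjective
        (maximalIdeal.isMaximal A)).resolve_left fun h => by
          have := congrArg (Ideal.comap (Ideal.Quotient.mk I)) h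
          rw [Ideal.comap_map_of_surjective' _ Ideal.Quotient.mk_surjective, Ideal.mk_ker, sup_eq_left.mpr hI,
            Ideal.comap_top] at this
          exact (maximalIdeal.isMaximal A).ne_top this))).symm
    let g' : Fin r → A ⧸ I := fun i => Ideal.Quotient.mk I (g i.succ)
    have hreg' : RingTheory.Sequence.IsWeaklyRegular (A ⧸ I) (List.ofFn g') := by
      let e : QuotSMulTop x A ≃ₗ[A ⧸ I] (A ⧸ I) :=
        ((Submodule.quotEquivOfEq (x • (⊤ : Submodule A A)) I (by
          rw [← Submodule.ideal_span_singleton_smul, smul_eq_mul, Ideal.mul_top])).extendScalarsOfSurjective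
          Ideal.Quotient.mk_surjective)
      have := (e.isWeaklyRegular_congr _).mp hreg.2
      rwa [List.map_ofFn] at this
    have hg' : Ideal.span (Set.range g') = maximalIdeal (A ⧸ I) := by
      rw [hmap, ← hg, Ideal.map_span, ← Set.range_comp]
      refine le_antisymm (Ideal.span_mono ?_) (Ideal.span_le.mpr ?_)
      · rintro _ ⟨i, rfl⟩
        exact ⟨i.succ, rfl⟩
      · rintro _ ⟨i, rfl⟩
        refine Fin.cases ?_ (fun j => ?_) i
        · show Ideal.Quotient.mk I x ∈ _
          rw [Ideal.Quotient.eq_zero_iff_mem.mpr (Ideal.mem_span_singleton_self x)]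
          exact zero_mem _
        · exact Ideal.subset_span ⟨j, rfl⟩
    have key : ∀ s, Samuel.samuel (A := A) (QuotSMulTop x A) (s + 1) = (s + r).choose s := by
      intro s
      rw [← Nat.cast_inj (R := ℕ∞), ← ih (A ⧸ I) g' hreg' hg' s]
      rw [Samuel.samuel_quotSMulTop, Samuel.coLen, ENat.coe_toNat (Samuel.length_quotient_ne_top le_sup_left (Samuel.length_jacobson_ne_top (s + 1))),
        ← Module.length_eq_of_surjective (S := A) (R := A ⧸ I) Ideal.Quotient.mk_surjective, hmap, ← Ideal.map_pow]
      have h1 : (Ring.jacobson A ^ (s + 1) • ⊤ ⊔ (⊤ : Submodule A A).map (LinearMap.lsmul A A x)) =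
          (maximalIdeal A ^ (s + 1) ⊔ I) := by
        rw [IsLocalRing.ringJacobson_eq_maximalIdeal, smul_eq_mul, Ideal.mul_top]
        congr 1
        rw [show (⊤ : Submodule A A).map (LinearMap.lsmul A A x) = x • (⊤ : Submodule A A) from rfl,
          ← Submodule.ideal_span_singleton_smul, smul_eq_mul, Ideal.mul_top]
      rw [h1]
      exact ((Submodule.quotEquivOfEq _ _ (sup_comm _ _)).trans
        (DoubleQuot.quotQuotEquivQuotSupₐ A I (maximalIdeal A ^ (s + 1))).symm.toLinearEquiv).length_eq
    have hrec : ∀ s, (Samuel.samuel (A := A) A (s + 1) : ℚ) =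
        Samuel.samuel (A := A) (QuotSMulTop x A) (s + 1) + Samuel.samuel (A := A) A s := fun s => by
      rw [Samuel.samuel_add_eq (M := A) x (s + 1)]
      congr 2
      unfold Samuel.samuel
      congr 1
      rw [IsLocalRing.ringJacobson_eq_maximalIdeal]
      refine le_antisymm (fun y hy => ?_) (fun y hy => ?_)
      · rw [smul_eq_mul, Ideal.mul_top] at hy ⊢
        have hy' : y * g 0 ∈ Ideal.span (Set.range g) ^ (s + 1) := by
          rw [hg, mul_comm]
          exact hy
        have := mem_pow_of_mul_mem hq 0 hy'
        rwa [hg] at this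
      · rw [smul_eq_mul, Ideal.mul_top] at hy ⊢
        show x * y ∈ maximalIdeal A ^ (s + 1)
        rw [pow_succ']
        exact Ideal.mul_mem_mul hxm hy
    have h0 : Samuel.samuel (A := A) A 0 = 0 := by
      simp [Samuel.samuel, Samuel.coLen, Ideal.one_eq_top, Module.length_eq_zero, Submodule.Quotient.subsingleton_iff]
    intro s
    rw [length_quotient_eq_samuel, Nat.cast_inj]
    induction s with
    | zero =>
      have h1 := hrec 0
      rw [h0, Nat.cast_zero, add_zero, Nat.cast_inj] at h1
      rw [h1, key 0]
      simp
    | succ s ihs =>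
      have h1 := hrec (s + 1)
      rw [key, ihs, ← Nat.cast_add, Nat.cast_inj] at h1
      rw [h1, show s + 1 + (r + 1) = (s + 1 + r) + 1 by omega, Nat.choose_succ_succ, add_comm]
      congr 2
      omega

/-- Let A be a Noetherian local ring with maximal ideal m, residue field k, and let r be the dimension
of the k-vector space m/m². Then A is regular if and only if the canonical surjection of graded
k-algebras from the symmetric algebra of m/m² onto the associated graded ring of A for the m-adic
filtration is bijective. Since that surjection is bijective exactly when source and target have the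
same length in every degree, the condition is expressed here as: length_A(A/m^(s+1)) equals the
binomial coefficient C(s+r, r) for every s ≥ 0. -/
theorem result (A : Type u) [CommRing A] [IsLocalRing A]
    [IsNoetherianRing A] :
    IsRegularLocalRing A ↔
      ∀ s : ℕ, Module.length A (A ⧸ IsLocalRing.maximalIdeal A ^ (s + 1)) =
        ((s + Module.finrank (IsLocalRing.ResidueField A) (IsLocalRing.CotangentSpace A)).choose s : ℕ∞) := by
  haveI := finite_maximalSpectrum A
  rw [← IsLocalRing.spanFinrank_maximalIdeal_eq_finrank_cotangentSpace]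
  set r := (maximalIdeal A).spanFinrank with hr
  constructor
  · intro h
    obtain ⟨G, hGc, hG⟩ := Submodule.FG.exists_span_finset_card_eq_spanFinrank (IsNoetherian.noetherian (maximalIdeal A))
    let g : Fin r → A := fun i => (G.equivFinOfCardEq hGc).symm i
    have hg : Ideal.span (Set.range g) = maximalIdeal A := by
      rw [show Set.range g = (G : Set A) by
        rw [show g = Subtype.val ∘ (G.equivFinOfCardEq hGc).symm from rfl, Set.range_comp, Equiv.range_eq_univ, Set.image_univ, Subtype.range_coe]]
      exact hG
    exact length_eq_choose r A g (H4Depth.isRegular_ofFn_of_span_eq r ((isRegularLocalRing_iff A).mp h).symm g hg).1 hg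
  · intro h
    obtain ⟨P, hP⟩ := Samuel.exists_samuel_polynomial A A
    have hd := Samuel.natDegree_eq_supportDim A A hP
    rw [Module.supportDim_self_eq_ringKrullDim] at hd
    refine IsRegularLocalRing.of_spanFinrank_maximalIdeal_le A ?_
    rw [← hr, ← hd]
    let Q : ℚ[X] := Polynomial.C ((r.factorial : ℚ)⁻¹) * (Polynomial.X + Polynomial.C 1) ^ r
    have hQ : Q.natDegree = r := by
      rw [Polynomial.natDegree_C_mul (inv_ne_zero (by exact_mod_cast r.factorial_ne_zero)), Polynomial.natDegree_pow,
        Polynomial.natDegree_X_add_C, mul_one]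
    have hle : Q.natDegree ≤ (P.comp (Polynomial.X + Polynomial.C 1)).natDegree := by
      refine Samuel.natDegree_le_of_le ?_
      filter_upwards [(Filter.tendsto_add_atTop_nat 1).eventually hP] with n hn
      have h2 : Samuel.samuel (A := A) A (n + 1) = (n + r).choose r := by
        have := (length_quotient_eq_samuel A (n + 1)).symm.trans (h n)
        rw [Nat.cast_inj] at this
        rw [this]
        exact Nat.choose_symm_add
      rw [h2] at hn
      simp only [Q, Polynomial.eval_mul, Polynomial.eval_C, Polynomial.eval_pow, Polynomial.eval_add, Polynomial.eval_X,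
        Polynomial.eval_comp]
      rw [← Nat.cast_succ, ← hn]
      refine ⟨by positivity, ?_⟩
      have h3 := Nat.pow_le_choose (α := ℚ) r (n + r)
      rw [show n + r + 1 - r = n.succ by omega] at h3
      rw [inv_mul_eq_div]
      exact_mod_cast h3
    rw [hQ, Polynomial.natDegree_comp, Polynomial.natDegree_X_add_C, mul_one] at hle
    exact_mod_cast hle

end Groth.Agent.S5778
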