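import Groth.Statements.S9501
import Groth.Agent.H17.Imports
import Mathlib.AlgebraicGeometry.Normalization

set_option autoImplicit false
universe u
open SchMor

namespace Groth.Agent.S9501

open CategoryTheory Limits AlgebraicGeometry TopologicalSpace

open AlgebraicGeometry in
open CategoryTheory in
/-- Let f : X → S be a morphism of schemes, s a point of S and y a point of the fibre X_s = X ×_S Spec
κ(s), mapping to the point x of X (so that f(x) = s). Then the homomorphism of local rings O_{X,x} →
O_{X_s,y} induced by the projection X_s → X is surjective, with kernel the ideal generated by the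
image of the maximal ideal of O_{S,f(x)}; in other words O_{X_s,y} is identified with O_{X,x}/m_s
O_{X,x} = O_{X,x} ⊗_{O_{S,s}} κ(s). -/
theorem result
    {X S : Scheme.{u}} (f : X ⟶ S) (s : S) (y : ↥(f.fiber s)) :
    Function.Surjective ((f.fiberι s).stalkMap y).hom ∧
      RingHom.ker ((f.fiberι s).stalkMap y).hom =
        Ideal.map (f.stalkMap ((f.fiberι s).base y)).hom
          (IsLocalRing.maximalIdeal (S.presheaf.stalk (f.base ((f.fiberι s).base y)))) := by
  refine ⟨(f.fiberι s).stalkMap_surjective y, ?_⟩
  let x : X := f.fiberι s y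
  have hs : f x = s := by
    have : x ∈ f ⁻¹' {s} := (Scheme.Hom.range_fiberι f s) ▸ ⟨y, rfl⟩
    exact this
  set J := Ideal.map (f.stalkMap x).hom (IsLocalRing.maximalIdeal (S.presheaf.stalk (f x))) with hJdef
  have hJ : J ≤ IsLocalRing.maximalIdeal (X.presheaf.stalk x) :=
    ((IsLocalRing.local_hom_TFAE (f.stalkMap x).hom).out 0 2 (a := IsLocalHom (f.stalkMap x).hom) (b := J ≤ IsLocalRing.maximalIdeal _)).mp inferInstance
  apply le_antisymm
  · have : Nontrivial (X.presheaf.stalk x ⧸ J) :=
      Ideal.Quotient.nontrivial_iff.mpr (ne_top_of_le_ne_top (IsLocalRing.maximalIdeal.isMaximal _).ne_top hJ)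
    have : IsLocalRing (X.presheaf.stalk x ⧸ J) :=
      IsLocalRing.of_surjective' (Ideal.Quotient.mk J) Ideal.Quotient.mk_surjective
    let q : X.presheaf.stalk x ⟶ CommRingCat.of (X.presheaf.stalk x ⧸ J) := CommRingCat.ofHom (Ideal.Quotient.mk J)
    have hql : IsLocalHom q.hom := IsLocalHom.of_surjective _ Ideal.Quotient.mk_surjective
    let g₁ := Spec.map q ≫ X.fromSpecStalk x
    let ψ : S.residueField (f x) ⟶ CommRingCat.of (X.presheaf.stalk x ⧸ J) :=
      CommRingCat.ofHom (Ideal.Quotient.lift _ (q.hom.comp (f.stalkMap x).hom) fun a ha => by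
        exact Ideal.Quotient.eq_zero_iff_mem.mpr (Ideal.mem_map_of_mem _ ha))
    have hψ : S.residue (f x) ≫ ψ = f.stalkMap x ≫ q := rfl
    have hcond : g₁ ≫ f = Spec.map ((S.residueFieldCongr hs).inv ≫ ψ) ≫ S.fromSpecResidueField s := by
      rw [Spec.map_comp, Category.assoc, ← Scheme.residueFieldCongr_fromSpecResidueField hs]
      simp only [Category.assoc, ← Spec.map_comp_assoc, Iso.hom_inv_id]
      rw [← Scheme.SpecMap_stalkMap_fromSpecStalk, ← Spec.map_comp_assoc, ← hψ, Spec.map_comp, Category.assoc]
      simp [Scheme.fromSpecResidueField]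
    let g : Spec (CommRingCat.of (X.presheaf.stalk x ⧸ J)) ⟶ f.fiber s := pullback.lift g₁ _ hcond
    have hg : g ≫ f.fiberι s = g₁ := pullback.lift_fst _ _ _
    have hc : g (IsLocalRing.closedPoint _) = y := by
      apply (f.fiberι s).isEmbedding.injective
      rw [← Scheme.Hom.comp_apply, hg, Scheme.Hom.comp_apply]
      have : Spec.map q (IsLocalRing.closedPoint _) = IsLocalRing.closedPoint (X.presheaf.stalk x) :=
        IsLocalRing.comap_closedPoint q.hom
      rw [this, Scheme.fromSpecStalk_closedPoint]
    let θ := (f.fiber s).presheaf.stalkSpecializes (specializes_of_eq hc) ≫ Scheme.stalkClosedPointTo g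
    have hθ : Spec.map θ ≫ (f.fiber s).fromSpecStalk y = g := by
      rw [Spec.map_comp, Category.assoc, Scheme.SpecMap_stalkSpecializes_fromSpecStalk,
        Scheme.Spec_stalkClosedPointTo_fromSpecStalk]
    have hq : (f.fiberι s).stalkMap y ≫ θ = q := by
      apply Spec.map_injective
      rw [← cancel_mono (X.fromSpecStalk x), Spec.map_comp, Category.assoc,
        Scheme.SpecMap_stalkMap_fromSpecStalk, reassoc_of% hθ, hg]
    intro a ha
    rw [RingHom.mem_ker] at ha
    apply Ideal.Quotient.eq_zero_iff_mem.mp
    show q a = 0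
    rw [← hq, CommRingCat.comp_apply, ha, map_zero]
  · rw [hJdef, Ideal.map_le_iff_le_comap]
    intro a ha
    rw [Ideal.mem_comap, RingHom.mem_ker]
    let π := f.fiberToSpecResidueField s
    have hcomm : f.fiberι s ≫ f = π ≫ S.fromSpecResidueField s := pullback.condition
    have hfield : IsField ((Spec (S.residueField s)).presheaf.stalk (π y)) := by
      apply isField_stalk_of_closure_mem_irreducibleComponents
      rw [irreducibleComponents_eq_singleton]
      have : (closure {π y} : Set (Spec (S.residueField s))) = Set.univ :=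
        Set.eq_univ_of_forall fun z => Subsingleton.elim (π y) z ▸ subset_closure rfl
      simpa using this
    have h1 : (f.fiberι s ≫ f).stalkMap y a = (f.fiberι s).stalkMap y (f.stalkMap x a) := by
      rw [Scheme.Hom.stalkMap_comp]
      rfl
    have h2 : (f.fiberι s ≫ f).stalkMap y a = (π ≫ S.fromSpecResidueField s).stalkMap y
        (S.presheaf.stalkSpecializes (specializes_of_eq (congr($hcomm y)).symm) a) :=
      congr($(Scheme.Hom.stalkMap_congr_hom _ _ hcomm y) a)
    show (f.fiberι s).stalkMap y (f.stalkMap x a) = 0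
    rw [← h1, h2, Scheme.Hom.stalkMap_comp]
    show π.stalkMap y ((S.fromSpecResidueField s).stalkMap (π y) _) = 0
    let := hfield.toField
    suffices h : (S.fromSpecResidueField s).stalkMap (π y)
        ((S.presheaf.stalkSpecializes (specializes_of_eq (congr($hcomm y)).symm)) a) = 0 from
      (congrArg _ h).trans (map_zero _)
    by_contra hne
    have hu := isUnit_iff_ne_zero.mpr hne
    have hiso : IsIso (S.presheaf.stalkSpecializes (specializes_of_eq (congr($hcomm y)).symm)) :=
      (S.presheaf.stalkCongr (Inseparable.of_eq (congr($hcomm y)))).isIso_hom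
    exact (IsLocalRing.mem_maximalIdeal a).mp ha
      ((MulEquiv.isUnit_map (asIso (S.presheaf.stalkSpecializes (specializes_of_eq (congr($hcomm y)).symm))).commRingCatIsoToRingEquiv (x := a)).mp (isUnit_of_map_unit ((S.fromSpecResidueField s).stalkMap (π y)).hom _ hu))

end Groth.Agent.S9501
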