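-- statement Lim.GrothFrozen.S9221 (Groth/Statements/S9221.lean; the theorem Lim.exists_isProperOver_support_descend_of_locallyOfFiniteType);
import Groth.Statements.S9221
import Groth.Agent.H7Lim.Proper.Descend
import Groth.Agent.LeadProper.Supp

set_option autoImplicit false
universe u
open CategoryTheory AlgebraicGeometry
open Lim

namespace Groth.Agent.S9221
set_option backward.isDefEq.respectTransparency false

/-- Let S = lim S_i be a cofiltered limit of schemes with affine transition morphisms, S_{i₀} a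
quasi-compact quasi-separated stage, f₀ : X₀ → Y₀ a morphism of quasi-compact quasi-separated
schemes over S_{i₀}, and f : X → Y its base change along S → S_{i₀} (base changes expressed by
pullback squares). Let F₀ be a quasi-coherent O_{X₀}-module of finite type, with pullbacks F to X
and F_i to X_i, and assume f₀ is locally of finite type. If the support of F (a closed subset of X,
taken with its reduced structure; equivalently the scheme-theoretic support of F) is proper over Y,
then for some index i over i₀, with f_i : X_i → Y_i the base change of f₀ along S_i → S_{i₀}, the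
support of F_i is proper over Y_i. -/
theorem result {I : Type u} [SmallCategory I] [IsCofiltered I]
    (D : I ⥤ Scheme.{u}) (c : Limits.Cone D) (hc : Limits.IsLimit c)
    [∀ (i j : I) (f : i ⟶ j), IsAffineHom (D.map f)] (i₀ : I) [CompactSpace (D.obj i₀)]
    [QuasiSeparatedSpace (D.obj i₀)] {X₀ Y₀ : Scheme.{u}} (f₀ : X₀ ⟶ Y₀) (g₀ : Y₀ ⟶ D.obj i₀)
    [CompactSpace X₀] [QuasiSeparatedSpace X₀] [CompactSpace Y₀] [QuasiSeparatedSpace Y₀]
    [LocallyOfFiniteType f₀] (F₀ : X₀.Modules) [Coh.IsQCoh F₀] (hF₀ : CohB1.IsFT F₀)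
    {X Y : Scheme.{u}} (f : X ⟶ Y) (g : Y ⟶ c.pt) (qY : Y ⟶ Y₀) (qX : X ⟶ X₀)
    (hY : IsPullback qY g g₀ (c.π.app i₀)) (hX : IsPullback qX f f₀ qY) (hF : ClSub.IsProperOver f (CohB1.support ((Scheme.Modules.pullback qX).obj F₀))) :
    ∃ (i : I) (φ : i ⟶ i₀) (Xi Yi : Scheme.{u}) (fi : Xi ⟶ Yi) (gi : Yi ⟶ D.obj i) (pY : Yi ⟶ Y₀)
      (pX : Xi ⟶ X₀), IsPullback pY gi g₀ (D.map φ) ∧ IsPullback pX fi f₀ pY ∧ ClSub.IsProperOver fi (CohB1.support ((Scheme.Modules.pullback pX).obj F₀)) := by
  let Z : TopologicalSpace.Closeds X₀ := ⟨CohB1.support F₀, LeadProper.isClosed_support F₀ ‹_› hF₀⟩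
  let J := Scheme.IdealSheafData.vanishingIdeal Z
  let ι := J.subschemeι
  have hr : Set.range ι = CohB1.support F₀ := H17.range_vanishingIdeal_subschemeι Z
  haveI : QuasiCompact f₀ := (quasiCompact_iff_compactSpace f₀).mpr ‹_›
  haveI : CompactSpace J.subscheme := QuasiCompact.compactSpace_of_compactSpace ι
  haveI : QuasiSeparatedSpace J.subscheme := quasiSeparatedSpace_of_quasiSeparated ι
  have hsupp : CohB1.support ((Scheme.Modules.pullback qX).obj F₀) = qX ⁻¹' CohB1.support F₀ :=
    LeadProper.support_pullback F₀ ‹_› hF₀ qX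
  have hZX := Limits.pullback.fst qX ι
  have hrange : ∀ {T : Scheme.{u}} (q : T ⟶ X₀), Set.range (Limits.pullback.fst q ι) = q ⁻¹' CohB1.support F₀ :=
    fun q => by rw [Scheme.Pullback.range_fst, hr]
  haveI : LocallyOfFiniteType f := MorphismProperty.of_isPullback hX ‹_›
  have hp : IsProper (Limits.pullback.fst qX ι ≫ f) :=
    (LeadProper.isProperOver_iff f _ ((hrange qX).trans hsupp.symm)).1 hF
  have hsq : IsPullback (Limits.pullback.snd qX ι) (Limits.pullback.fst qX ι ≫ f) (ι ≫ f₀) qY :=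
    (IsPullback.of_hasPullback qX ι).flip.paste_vert hX
  obtain ⟨i, φ, Xi, Yi, fi, gi, pY, pX, hYi, hXi, hfi⟩ :=
    H7Lim.exists_descend_square hc (P := @IsProper) (Q := @LocallyOfFiniteType) i₀ (ι ≫ f₀) g₀
      H7Lim.descends_isProper hY hsq inferInstance hp
  let Wi := Limits.pullback f₀ pY
  let fW := Limits.pullback.snd f₀ pY
  let pW := Limits.pullback.fst f₀ pY
  haveI : LocallyOfFiniteType fW := MorphismProperty.pullback_snd _ _ ‹_›
  refine ⟨i, φ, Wi, Yi, fW, gi, pY, pW, hYi, IsPullback.of_hasPullback _ _, ?_⟩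
  rw [LeadProper.support_pullback F₀ ‹_› hF₀ pW, LeadProper.isProperOver_iff fW _ (hrange pW)]
  have hsq' : IsPullback (Limits.pullback.snd pW ι) (Limits.pullback.fst pW ι ≫ fW) (ι ≫ f₀) pY :=
    (IsPullback.of_hasPullback pW ι).flip.paste_vert (IsPullback.of_hasPullback f₀ pY)
  have e : (hXi.isoIsPullback _ _ hsq').inv ≫ fi = Limits.pullback.fst pW ι ≫ fW :=
    IsPullback.isoIsPullback_inv_snd _ _ hXi hsq'
  haveI := hfi
  rw [← e]
  infer_instance

end Groth.Agent.S9221
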