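import Groth.Statements.S5776
import Mathlib
import Groth.Agent.H05EGA4.FlatRegular

set_option autoImplicit false
set_option maxHeartbeats 400000
universe u
open EGA41

open IsLocalRing TensorProduct RingTheory.Sequence Groth.Agent.H05EGA4
open scoped Pointwise

namespace Groth.Agent.S5776

/-- Let A be a ring, M an A-module and (f_i)_{1 ≤ i ≤ n} an M-regular sequence of elements of A. Then
for any exponents v_i ≥ 1 the sequence (f_i ^ v_i) is again M-regular. -/
theorem result (A : Type u) [CommRing A] (M : Type u) [AddCommGroup M]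
    [Module A M] (n : ℕ) (f : Fin n → A) (v : Fin n → ℕ) (hv : ∀ i, 1 ≤ v i)
    (hf : RingTheory.Sequence.IsWeaklyRegular M (List.ofFn f)) :
    RingTheory.Sequence.IsWeaklyRegular M (List.ofFn fun i => f i ^ v i) := by
  induction n generalizing M with
  | zero => simp
  | succ n ih =>
    rw [List.ofFn_succ, isWeaklyRegular_cons_iff] at hf ⊢
    obtain ⟨h0, hrest⟩ := hf
    refine ⟨h0.pow _, ?_⟩
    have hrest' := ih (QuotSMulTop (f 0) M) (fun i => f i.succ) (fun i => v i.succ)
      (fun i => hv _) hrest
    generalize (List.ofFn fun i : Fin n => f i.succ ^ v i.succ) = rs at hrest' ⊢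
    obtain ⟨k, hk⟩ : ∃ k, v 0 = k + 1 := ⟨v 0 - 1, by have := hv 0; omega⟩
    rw [hk]
    clear hk
    induction k with
    | zero => rwa [zero_add, pow_one]
    | succ k ihk =>
      set r := f 0
      let φ : QuotSMulTop (r ^ (k + 1)) M →ₗ[A] QuotSMulTop (r ^ (k + 1 + 1)) M :=
        Submodule.mapQ _ _ (LinearMap.lsmul A M r) (by
          intro x hx
          obtain ⟨y, _, rfl⟩ := (Submodule.mem_smul_pointwise_iff_exists _ _ _).mp hx
          exact (Submodule.mem_smul_pointwise_iff_exists _ _ _).mpr
            ⟨y, trivial, by rw [pow_succ', mul_smul]; rfl⟩)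
      let ψ : QuotSMulTop (r ^ (k + 1 + 1)) M →ₗ[A] QuotSMulTop r M :=
        Submodule.mapQ _ _ LinearMap.id (by
          intro x hx
          obtain ⟨y, _, rfl⟩ := (Submodule.mem_smul_pointwise_iff_exists _ _ _).mp hx
          exact (Submodule.mem_smul_pointwise_iff_exists _ _ _).mpr
            ⟨r ^ (k + 1) • y, trivial, by rw [← mul_smul, ← pow_succ']⟩)
      refine isWeaklyRegular_of_exact rs φ ψ ?_ ?_ ?_ ihk hrest'
      · rw [injective_iff_map_eq_zero]
        intro x hx
        obtain ⟨x, rfl⟩ := Submodule.Quotient.mk_surjective _ x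
        obtain ⟨y, _, hy⟩ := (Submodule.mem_smul_pointwise_iff_exists _ _ _).mp
          ((Submodule.Quotient.mk_eq_zero _).mp hx)
        rw [Submodule.Quotient.mk_eq_zero, Submodule.mem_smul_pointwise_iff_exists]
        refine ⟨y, trivial, h0 ?_⟩
        show r • r ^ (k + 1) • y = r • x
        rw [← mul_smul, ← pow_succ']
        exact hy
      · intro y
        obtain ⟨y, rfl⟩ := Submodule.Quotient.mk_surjective _ y
        exact ⟨Submodule.Quotient.mk y, rfl⟩
      · intro y
        obtain ⟨y, rfl⟩ := Submodule.Quotient.mk_surjective _ y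
        constructor
        · intro hy
          obtain ⟨z, _, hz⟩ := (Submodule.mem_smul_pointwise_iff_exists _ _ _).mp
            ((Submodule.Quotient.mk_eq_zero _).mp hy)
          exact ⟨Submodule.Quotient.mk z, congrArg Submodule.Quotient.mk hz⟩
        · rintro ⟨z, hz⟩
          obtain ⟨z, rfl⟩ := Submodule.Quotient.mk_surjective _ z
          rw [← hz]
          show Submodule.Quotient.mk (r • z) = 0
          rw [Submodule.Quotient.mk_eq_zero, Submodule.mem_smul_pointwise_iff_exists]
          exact ⟨z, trivial, rfl⟩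


end Groth.Agent.S5776
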