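import Groth.Statements.S2063
import Groth.Agent.H1CAlg.JacobianRank
import Groth.Agent.H8Props.FieldDimSmooth
import Groth.Agent.H8Props.FieldDimHeight
import Mathlib.RingTheory.RegularLocalRing.Polynomial
import Mathlib.RingTheory.Kaehler.Polynomial
import Mathlib.RingTheory.Etale.Kaehler
import Mathlib.RingTheory.Smooth.Locus

set_option autoImplicit false
universe u
open CAlg

namespace Groth.Agent.S2063

open TensorProduct in
/-- Let `S` be of finite type over a field `k` and `𝔮` a prime of `S`. Smoothness of `S` over `k` at `𝔮`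
holds exactly when the `κ(𝔮)`-dimension of `Ω_{S/k} ⊗ κ(𝔮)` is at most the local dimension of `Spec
S` at `𝔮`. -/
theorem result {k S : Type u} [Field k] [CommRing S] [Algebra k S]
    [Algebra.FiniteType k S] (q : Ideal S) [q.IsPrime] :
    Algebra.IsSmoothAt k q ↔
      ((Module.finrank q.ResidueField (q.ResidueField ⊗[S] Ω[S⁄k]) : ℕ∞) : WithBot ℕ∞) ≤
        FlatMor.localDim (PrimeSpectrum S) ⟨q, inferInstance⟩ := by

  classical
  haveI : IsNoetherianRing S := Algebra.FiniteType.isNoetherianRing k S
  obtain ⟨N, π, hπ⟩ := Algebra.FiniteType.iff_quotient_mvPolynomial''.mp ‹Algebra.FiniteType k S›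
  let p := q.comap π.toRingHom
  letI : Algebra (Localization.AtPrime p) (Localization.AtPrime q) :=
    (Localization.localRingHom p q π.toRingHom rfl).toAlgebra
  haveI : IsScalarTower k (Localization.AtPrime p) (Localization.AtPrime q) := .of_algebraMap_eq fun r => by
    rw [RingHom.algebraMap_toAlgebra, IsScalarTower.algebraMap_apply k (MvPolynomial (Fin N) k) (Localization.AtPrime p),
      Localization.localRingHom_to_map, IsScalarTower.algebraMap_apply k S (Localization.AtPrime q)]
    exact congrArg _ (π.commutes r).symm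
  have hsurj : Function.Surjective (algebraMap (Localization.AtPrime p) (Localization.AtPrime q)) := by
    intro z
    obtain ⟨⟨a, b⟩, rfl⟩ := IsLocalization.mk'_surjective q.primeCompl z
    obtain ⟨a', rfl⟩ := hπ a
    obtain ⟨b', hb'⟩ := hπ b
    refine ⟨IsLocalization.mk' _ a' (⟨b', fun hb => b.2 (by rw [← hb']; exact hb)⟩ : p.primeCompl), ?_⟩
    rw [RingHom.algebraMap_toAlgebra, Localization.localRingHom_mk']
    congr 1
    exact Subtype.ext hb'
  haveI : IsRegularLocalRing (Localization.AtPrime p) := IsRegularRing.isRegularLocalRing_localization p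
  haveI : Algebra.FormallySmooth k (Localization.AtPrime p) := Algebra.FormallySmooth.comp k (MvPolynomial (Fin N) k) _
  haveI : Algebra.FormallyEtale (MvPolynomial (Fin N) k) (Localization.AtPrime p) :=
    Algebra.FormallyEtale.of_isLocalization p.primeCompl
  haveI : Algebra.FormallyEtale S (Localization.AtPrime q) := Algebra.FormallyEtale.of_isLocalization q.primeCompl
  let eP := KaehlerDifferential.tensorKaehlerEquivOfFormallyEtale k (MvPolynomial (Fin N) k) (Localization.AtPrime p)
  let eS := KaehlerDifferential.tensorKaehlerEquivOfFormallyEtale k S (Localization.AtPrime q)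
  let bPol := KaehlerDifferential.mvPolynomialBasis k (Fin N)
  haveI : Module.Free (MvPolynomial (Fin N) k) Ω[MvPolynomial (Fin N) k⁄k] := Module.Free.of_basis bPol
  haveI : Module.Finite (MvPolynomial (Fin N) k) Ω[MvPolynomial (Fin N) k⁄k] := Module.Finite.of_basis bPol
  haveI : Module.Free (Localization.AtPrime p) Ω[Localization.AtPrime p⁄k] := Module.Free.of_equiv eP
  haveI : Module.Finite (Localization.AtPrime p) Ω[Localization.AtPrime p⁄k] := Module.Finite.equiv eP
  have hN : Module.finrank q.ResidueField (q.ResidueField ⊗[Localization.AtPrime p] Ω[Localization.AtPrime p⁄k]) = N := by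
    rw [Module.finrank_baseChange, ← eP.finrank_eq, Module.finrank_baseChange,
      Module.finrank_eq_card_basis bPol, Fintype.card_fin]
  have hn : Module.finrank q.ResidueField (q.ResidueField ⊗[Localization.AtPrime q] Ω[Localization.AtPrime q⁄k]) =
      Module.finrank q.ResidueField (q.ResidueField ⊗[S] Ω[S⁄k]) :=
    ((LinearEquiv.baseChange (Localization.AtPrime q) q.ResidueField _ _ eS).symm.trans
      (TensorProduct.AlgebraTensorModule.cancelBaseChange S (Localization.AtPrime q) q.ResidueField q.ResidueField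
        Ω[S⁄k])).finrank_eq
  have hrank := Groth.Agent.H1CAlg.conormalRank_add_finrank k (Localization.AtPrime p) (Localization.AtPrime q) hsurj
  rw [hn, hN] at hrank
  show Algebra.FormallySmooth k (Localization.AtPrime q) ↔ _
  rw [Groth.Agent.H1CAlg.formallySmooth_iff_conormalRank k (Localization.AtPrime p) (Localization.AtPrime q) hsurj,
    IsLocalization.AtPrime.ringKrullDim_eq_height p, IsLocalization.AtPrime.ringKrullDim_eq_height q]
  -- dimension of the components through `q`
  let f : AlgebraicGeometry.Spec (CommRingCat.of S) ⟶ AlgebraicGeometry.Spec (CommRingCat.of k) :=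
    AlgebraicGeometry.Spec.map (CommRingCat.ofHom (algebraMap k S))
  haveI : AlgebraicGeometry.LocallyOfFiniteType f :=
    (AlgebraicGeometry.HasRingHomProperty.Spec_iff (P := @AlgebraicGeometry.LocallyOfFiniteType)).mpr
      (RingHom.finiteType_algebraMap.mpr inferInstance)
  have hD : FlatMor.localDim (PrimeSpectrum S) ⟨q, inferInstance⟩ =
      (q.height : WithBot ℕ∞) + ringKrullDim (S ⧸ q) :=
    Groth.Agent.H8Props.FieldDim.localDim_chart f (A := S) (CategoryTheory.CategoryStruct.id _) ⟨q, inferInstance⟩
  rw [hD]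
  haveI : IsDomain (S ⧸ q) := Ideal.Quotient.isDomain q
  haveI : Algebra.FiniteType k (S ⧸ q) :=
    Algebra.FiniteType.of_surjective (Ideal.Quotient.mkₐ k q) Ideal.Quotient.mk_surjective
  obtain ⟨e, he, -⟩ := Groth.Agent.H8Props.FieldDim.exists_dim_trdeg k (S ⧸ q)
  have hpq : ringKrullDim (MvPolynomial (Fin N) k ⧸ p) = (e : WithBot ℕ∞) := by
    rw [← he]
    refine ringKrullDim_eq_of_ringEquiv (RingEquiv.ofBijective (Ideal.quotientMap q π.toRingHom le_rfl)
      ⟨Ideal.quotientMap_injective, fun x => ?_⟩)
    obtain ⟨x, rfl⟩ := Ideal.Quotient.mk_surjective x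
    obtain ⟨y, rfl⟩ := hπ x
    exact ⟨Ideal.Quotient.mk _ y, rfl⟩
  have hpN := Groth.Agent.H8Props.FieldDim.height_add_dim_quotient k (MvPolynomial (Fin N) k) p
  rw [hpq, MvPolynomial.ringKrullDim_of_isNoetherianRing, ringKrullDim_eq_zero_of_field, zero_add, Nat.card_fin] at hpN
  obtain ⟨hp, hhp⟩ := ENat.ne_top_iff_exists.mp (Ideal.height_ne_top (Ideal.IsPrime.ne_top (I := p) inferInstance))
  obtain ⟨hq, hhq⟩ := ENat.ne_top_iff_exists.mp (Ideal.height_ne_top (Ideal.IsPrime.ne_top (I := q) inferInstance))
  rw [← hhp] at hpN ⊢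
  rw [← hhq, he]
  have hpN' : hp + e = N := by exact_mod_cast hpN
  norm_cast
  omega

end Groth.Agent.S2063
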