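import Groth.Statements.S9375
import Groth.Agent.H29Omega.ConormalDiffStalk
import Mathlib

set_option autoImplicit false
universe u
open OmegaSh

namespace Groth.Agent.S9375

open CategoryTheory CategoryTheory.Limits AlgebraicGeometry TopologicalSpace TensorProduct
open Groth.Agent.H06Mod Groth.Agent.H29Omega

attribute [local instance] Groth.Agent.H06Mod.stalkAlgebra

variable {Z X Y : Scheme.{u}} {p : X ⟶ Y} {i : Z ⟶ X} {j : Z ⟶ Y} [IsImmersion i] [IsImmersion j]
    [QuasiCompact i] [QuasiCompact j] (w : 𝟙 Z ≫ j = i ≫ p)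
    {Ω : X.Modules} {d : OmegaSh.Der p Ω} (hd : OmegaSh.IsUniversal d)
    {ψ : (Scheme.Modules.pullback (𝟙 Z)).obj (Omega.conormal j) ⟶ Omega.conormal i}
    (hψ : OmegaSh.IsConormalMap i j p (𝟙 Z) ψ)
    {φ : Omega.conormal i ⟶ (Scheme.Modules.pullback i).obj Ω} (hφ : OmegaSh.IsConormalDiff i d φ) (z : Z)

lemma exists_decomp (a : X.presheaf.stalk (i z)) :
    ∃ b, a - (baseStalkMap j i p (𝟙 Z) w z).hom b ∈ RingHom.ker (i.stalkMap z).hom := by
  obtain ⟨c, hc⟩ := (ConcreteCategory.bijective_of_isIso ((𝟙 Z : Z ⟶ Z).stalkMap z)).2 ((i.stalkMap z).hom a)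
  obtain ⟨b, hb⟩ := j.stalkMap_surjective ((𝟙 Z : Z ⟶ Z) z) c
  refine ⟨b, ?_⟩
  have h := congr($(congrArg CommRingCat.Hom.hom (baseStalkMap_comp j i p (𝟙 Z) w z)) b)
  rw [RingHom.mem_ker, map_sub, show (i.stalkMap z).hom ((baseStalkMap j i p (𝟙 Z) w z).hom b) = _ from h]
  show _ - ((𝟙 Z : Z ⟶ Z).stalkMap z).hom ((j.stalkMap _).hom b) = 0
  rw [show (j.stalkMap _).hom b = c from hb, hc, sub_self]

include w in
lemma D_base (b : Y.presheaf.stalk (j ((𝟙 Z : Z ⟶ Z) z))) :
    KaehlerDifferential.D (Y.presheaf.stalk (p.base (i.base z))) (X.presheaf.stalk (i.base z))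
      ((baseStalkMap j i p (𝟙 Z) w z).hom b) = 0 :=
  Derivation.map_algebraMap _ _

include hψ hd hφ in
lemma stalk_comp_zero (a : ((Scheme.Modules.pullback (𝟙 Z)).obj (Omega.conormal j)).presheaf.stalk z) :
    stalkLin φ z (stalkLin ψ z a) = 0 := by
  obtain ⟨e, he⟩ := exists_pullEquiv d hd i z
  obtain ⟨t, rfl⟩ := (pullStalkEquiv (𝟙 Z) (Omega.conormal j) z).surjective a
  induction t using TensorProduct.induction_on with
  | zero =>
    show stalkLin φ z (stalkLin ψ z (pullStalkLin _ _ z 0)) = 0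
    rw [map_zero, map_zero, map_zero]
  | add a b ha hb =>
    show stalkLin φ z (stalkLin ψ z (pullStalkLin _ _ z (a + b))) = 0
    rw [map_add, map_add, map_add]
    exact (congrArg₂ (· + ·) ha hb).trans (add_zero _)
  | tmul r c =>
    show stalkLin φ z (stalkLin ψ z (pullStalkLin _ _ z (r ⊗ₜ c))) = 0
    rw [pullStalkLin_tmul, map_smul, map_smul]
    have hc : c ∈ Submodule.span (Z.presheaf.stalk ((𝟙 Z : Z ⟶ Z) z))
        (Set.range (cgen j ((𝟙 Z : Z ⟶ Z) z))) := by
      rw [span_cgen]; trivial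
    suffices stalkLin φ z (stalkLin ψ z (pullStalk (𝟙 Z) (Omega.conormal j) z c)) = 0 by
      rw [this, smul_zero]
    induction hc using Submodule.span_induction with
    | mem x hx =>
      obtain ⟨b, rfl⟩ := hx
      refine e.injective ?_
      rw [stalkLin_conormalMap hψ z b, stalkLin_conormalDiff hφ z he, map_zero,
        show KaehlerDifferential.D _ _ _ = _ from D_base hψ.1 z b.1, TensorProduct.tmul_zero]
    | zero => rw [map_zero, map_zero, map_zero]
    | add x y _ _ ihx ihy => rw [map_add, map_add, map_add, ihx, ihy, add_zero]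
    | smul r x _ ih => rw [pullStalk_smul, map_smul, map_smul, ih, smul_zero]

include w hψ hd hφ in
lemma stalk_exact (v : (Omega.conormal i).presheaf.stalk z) (hv : stalkLin φ z v = 0) :
    ∃ u, stalkLin ψ z u = v := by
  obtain ⟨e, he⟩ := exists_pullEquiv d hd i z
  let P := LinearMap.range (stalkLin ψ z)
  let Q := (Omega.conormal i).presheaf.stalk z ⧸ P
  have hmem : ∀ (b : Y.presheaf.stalk (j ((𝟙 Z : Z ⟶ Z) z)))
      (h : (baseStalkMap j i p (𝟙 Z) w z).hom b ∈ RingHom.ker (i.stalkMap z).hom),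
      cgen i z ⟨_, h⟩ ∈ P := by
    intro b h
    have hb : b ∈ RingHom.ker (j.stalkMap ((𝟙 Z : Z ⟶ Z) z)).hom := by
      rw [RingHom.mem_ker] at h ⊢
      have h' := congr($(congrArg CommRingCat.Hom.hom (baseStalkMap_comp j i p (𝟙 Z) w z)) b)
      refine (ConcreteCategory.bijective_of_isIso ((𝟙 Z : Z ⟶ Z).stalkMap z)).1 ?_
      refine (h'.symm.trans h).trans ?_
      exact (map_zero _).symm
    exact ⟨_, stalkLin_conormalMap hψ z ⟨b, hb⟩⟩
  choose bf hbf using exists_decomp w z
  let D0 : X.presheaf.stalk (i z) → Q := fun a => P.mkQ (cgen i z ⟨_, hbf a⟩)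
  have hD : ∀ a b (h : a - (baseStalkMap j i p (𝟙 Z) w z).hom b ∈ RingHom.ker (i.stalkMap z).hom),
      D0 a = P.mkQ (cgen i z ⟨_, h⟩) := by
    intro a b h
    rw [← sub_eq_zero, ← map_sub, ← map_sub, Submodule.mkQ_apply, Submodule.Quotient.mk_eq_zero]
    have h2 : (baseStalkMap j i p (𝟙 Z) w z).hom (b - bf a) ∈ RingHom.ker (i.stalkMap z).hom := by
      rw [map_sub]
      simpa using sub_mem (hbf a) h
    convert hmem (b - bf a) h2 using 2
    exact Subtype.ext (by show (a - _) - (a - _) = (baseStalkMap j i p (𝟙 Z) w z).hom (b - bf a); rw [map_sub]; ring)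
  letI : Module (X.presheaf.stalk (i.base z)) Q := Module.compHom Q (i.stalkMap z).hom
  haveI : IsScalarTower (X.presheaf.stalk (i.base z)) (Z.presheaf.stalk z) Q :=
    .of_algebraMap_smul fun _ _ => rfl
  letI : Module (Y.presheaf.stalk (p.base (i.base z))) Q :=
    Module.compHom Q ((i.stalkMap z).hom.comp (p.stalkMap (i.base z)).hom)
  haveI : IsScalarTower (Y.presheaf.stalk (p.base (i.base z))) (X.presheaf.stalk (i.base z)) Q :=
    .of_algebraMap_smul fun _ _ => rfl
  have hadd : ∀ a b, D0 (a + b) = D0 a + D0 b := by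
    intro a b
    have h := add_mem (hbf a) (hbf b)
    have hh : a + b - (baseStalkMap j i p (𝟙 Z) w z).hom (bf a + bf b) ∈ RingHom.ker (i.stalkMap z).hom := by
      convert h using 1; rw [map_add]; ring
    have e2 : (⟨_, hh⟩ : RingHom.ker (i.stalkMap z).hom) = ⟨_, hbf a⟩ + ⟨_, hbf b⟩ :=
      Subtype.ext (by
        show a + b - _ = (a - (baseStalkMap j i p (𝟙 Z) w z).hom (bf a)) +
          (b - (baseStalkMap j i p (𝟙 Z) w z).hom (bf b))
        rw [map_add]; ring)
    rw [hD (a + b) _ hh, e2, map_add, map_add]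
  have hbase : ∀ r, D0 ((p.stalkMap (i.base z)).hom r) = 0 := by
    intro r
    have e1 : p (i z) = j ((𝟙 Z : Z ⟶ Z) z) := by
      show (i ≫ p) z = (𝟙 Z ≫ j) z
      rw [w]
    haveI : IsIso (Y.presheaf.stalkSpecializes (specializes_of_eq e1)) :=
      ⟨⟨Y.presheaf.stalkSpecializes (specializes_of_eq e1.symm), by simp, by simp⟩⟩
    obtain ⟨b, rfl⟩ := (ConcreteCategory.bijective_of_isIso
      (Y.presheaf.stalkSpecializes (specializes_of_eq e1))).2 r
    have h : (p.stalkMap (i.base z)).hom (Y.presheaf.stalkSpecializes (specializes_of_eq e1) b) -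
        (baseStalkMap j i p (𝟙 Z) w z).hom b ∈ RingHom.ker (i.stalkMap z).hom := by
      rw [show (baseStalkMap j i p (𝟙 Z) w z).hom b = (p.stalkMap (i.base z)).hom
        (Y.presheaf.stalkSpecializes (specializes_of_eq e1) b) from rfl, sub_self]
      exact zero_mem _
    rw [hD _ b h, show (⟨_, h⟩ : RingHom.ker (i.stalkMap z).hom) = 0 from Subtype.ext (sub_self _),
      map_zero, map_zero]
  have hmul : ∀ a b, D0 (a * b) = a • D0 b + b • D0 a := by
    intro a b
    let x : RingHom.ker (i.stalkMap z).hom := ⟨_, hbf a⟩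
    let y : RingHom.ker (i.stalkMap z).hom := ⟨_, hbf b⟩
    have h0 : cgen i z ((x : X.presheaf.stalk (i z)) • y) = 0 := by
      rw [cgen_smul, RingHom.mem_ker.1 x.2, zero_smul]
    have hm : a * b - (baseStalkMap j i p (𝟙 Z) w z).hom (bf a * bf b) =
        a * (y : X.presheaf.stalk (i z)) + b * x - x * y := by
      show _ = a * (b - _) + b * (a - _) - (a - _) * (b - _)
      rw [map_mul]; ring
    have hm' : a * b - (baseStalkMap j i p (𝟙 Z) w z).hom (bf a * bf b) ∈ RingHom.ker (i.stalkMap z).hom :=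
      hm ▸ sub_mem (add_mem (Ideal.mul_mem_left _ _ y.2) (Ideal.mul_mem_left _ _ x.2))
        (Ideal.mul_mem_left _ _ y.2)
    rw [hD (a * b) _ hm', show (⟨_, hm'⟩ : RingHom.ker (i.stalkMap z).hom) =
        a • y + b • x - (x : X.presheaf.stalk (i z)) • y from Subtype.ext hm,
      map_sub, map_add, h0, sub_zero, map_add, cgen_smul, cgen_smul, map_smul, map_smul]
    rfl
  let D : Derivation (Y.presheaf.stalk (p.base (i.base z))) (X.presheaf.stalk (i.base z)) Q :=
    Derivation.mk'
      { toFun := D0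
        map_add' := hadd
        map_smul' := fun r a => by
          rw [Algebra.smul_def, hmul, RingHom.algebraMap_toAlgebra, hbase r, smul_zero, add_zero]
          rfl } hmul
  let g : Z.presheaf.stalk z ⊗[X.presheaf.stalk (i.base z)]
      KaehlerDifferential (Y.presheaf.stalk (p.base (i.base z))) (X.presheaf.stalk (i.base z))
      →ₗ[Z.presheaf.stalk z] Q := D.liftKaehlerDifferential.liftBaseChange (Z.presheaf.stalk z)
  have hg : (g.comp e.toLinearMap).comp (stalkLin φ z) = P.mkQ := by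
    refine LinearMap.ext_on_range (span_cgen i z) fun a => ?_
    show g (e (stalkLin φ z (cgen i z a))) = _
    rw [stalkLin_conormalDiff hφ z he]
    show g ((1 : Z.presheaf.stalk z) ⊗ₜ _) = _
    rw [LinearMap.liftBaseChange_tmul, one_smul, Derivation.liftKaehlerDifferential_comp_D]
    show D0 a.1 = _
    rw [hD a.1 0 (by rw [map_zero, sub_zero]; exact a.2)]
    congr 2
    exact Subtype.ext (by show a.1 - _ = a.1; rw [map_zero, sub_zero])
  have hP : v ∈ P := by
    rw [← Submodule.Quotient.mk_eq_zero, ← Submodule.mkQ_apply, ← hg]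
    show g (e (stalkLin φ z v)) = 0
    rw [hv, map_zero, map_zero]
  exact hP

include w hd hφ in
lemma stalk_surjective : Function.Surjective (stalkLin φ z) := by
  obtain ⟨e, he⟩ := exists_pullEquiv d hd i z
  suffices ∀ t, ∃ v, e (stalkLin φ z v) = t by
    intro y
    obtain ⟨v, hv⟩ := this (e y)
    exact ⟨v, e.injective hv⟩
  have key : ∀ a, ∃ v, e (stalkLin φ z v) = (1 : Z.presheaf.stalk z) ⊗ₜ
      KaehlerDifferential.D (Y.presheaf.stalk (p.base (i.base z))) (X.presheaf.stalk (i.base z)) a := by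
    intro a
    obtain ⟨b, hb⟩ := exists_decomp w z a
    refine ⟨cgen i z ⟨_, hb⟩, ?_⟩
    rw [stalkLin_conormalDiff hφ z he, map_sub, show KaehlerDifferential.D _ _ _ = _ from D_base w z b,
      sub_zero]
  intro t
  induction t using TensorProduct.induction_on with
  | zero => exact ⟨0, by simp⟩
  | add a b ha hb =>
    obtain ⟨u, hu⟩ := ha
    obtain ⟨v, hv⟩ := hb
    exact ⟨u + v, by rw [map_add, map_add, hu, hv]⟩
  | tmul r ω =>
    have hω : ω ∈ Submodule.span (X.presheaf.stalk (i.base z)) (Set.range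
        (KaehlerDifferential.D (Y.presheaf.stalk (p.base (i.base z))) (X.presheaf.stalk (i.base z)))) := by
      rw [KaehlerDifferential.span_range_derivation]; trivial
    induction hω using Submodule.span_induction generalizing r with
    | mem x hx =>
      obtain ⟨a, rfl⟩ := hx
      obtain ⟨v, hv⟩ := key a
      exact ⟨r • v, by rw [map_smul, map_smul, hv, TensorProduct.smul_tmul', smul_eq_mul, mul_one]⟩
    | zero => exact ⟨0, by simp⟩
    | add x y _ _ ihx ihy =>
      obtain ⟨u, hu⟩ := ihx r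
      obtain ⟨v, hv⟩ := ihy r
      exact ⟨u + v, by rw [map_add, map_add, hu, hv, TensorProduct.tmul_add]⟩
    | smul c x _ ih =>
      obtain ⟨v, hv⟩ := ih (c • r)
      exact ⟨v, by rw [hv, TensorProduct.smul_tmul]⟩



open AlgebraicGeometry CategoryTheory Limits in
/-- For quasi-compact immersions i : Z → X and j : Z → Y with j = i ≫ p for p : X → Y, there is an exact
sequence C_{Z/Y} → C_{Z/X} → i^*Ω_{X/Y} → 0 with the canonical maps; Ω_{X/Y} is any receptacle of a
universal derivation. (The published statement allows arbitrary immersions; this row assumes i and j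
quasi-compact.) -/
theorem result {Z X Y : Scheme.{u}} (p : X ⟶ Y) (i : Z ⟶ X) (j : Z ⟶ Y) [IsImmersion i] [IsImmersion j]
    [QuasiCompact i] [QuasiCompact j] (hij : i ≫ p = j)
    (Ω : X.Modules) (d : OmegaSh.Der p Ω) (hd : OmegaSh.IsUniversal d)
    (ψ : (Scheme.Modules.pullback (𝟙 Z)).obj (Omega.conormal j) ⟶ Omega.conormal i) (hψ : OmegaSh.IsConormalMap i j p (𝟙 Z) ψ)
    (φ : Omega.conormal i ⟶ (Scheme.Modules.pullback i).obj Ω) (hφ : OmegaSh.IsConormalDiff i d φ) :
    ∃ w : ψ ≫ φ = 0, (ShortComplex.mk ψ φ w).Exact ∧ Epi φ := by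
  have hw : ψ ≫ φ = 0 := Groth.Agent.H29Omega.eq_zero_of_stalkLin _ fun z a =>
    (Groth.Agent.H29Omega.stalkLin_comp ψ φ z a).trans (stalk_comp_zero hd hψ hφ z a)
  exact ⟨hw, Groth.Agent.H29Omega.exact_of_stalks _ fun z v hv => stalk_exact hψ.1 hd hψ hφ z v hv,
    Groth.Agent.H29Omega.epi_of_surjective_stalkLin φ fun z => stalk_surjective hψ.1 hd hφ z⟩

end Groth.Agent.S9375
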