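import Groth.Statements.S9711
import Groth.Agent.S9375
import Groth.Agent.H17.LocusBC
import Mathlib

set_option autoImplicit false
universe u
open CategoryTheory CategoryTheory.Limits AlgebraicGeometry
open OmegaSh

namespace Groth.Agent.S9711

open Groth.Agent.H06Mod Groth.Agent.H29Omega TensorProduct

attribute [local instance] Groth.Agent.H06Mod.stalkAlgebra

variable {Z X Y : Scheme.{u}} {p : X ⟶ Y} {i : Z ⟶ X} {j : Z ⟶ Y} [IsImmersion i] [IsImmersion j]
    [QuasiCompact i] [QuasiCompact j] (w : 𝟙 Z ≫ j = i ≫ p)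
    {ψ : (Scheme.Modules.pullback (𝟙 Z)).obj (Omega.conormal j) ⟶ Omega.conormal i}
    (hψ : OmegaSh.IsConormalMap i j p (𝟙 Z) ψ) (z : Z)

include hψ in
lemma injective_stalk [Smooth p] : Function.Injective (stalkLin ψ z) := by
  let B := Y.presheaf.stalk (j ((𝟙 Z : Z ⟶ Z) z))
  let A := X.presheaf.stalk (i z)
  let C := Z.presheaf.stalk z
  let β : B →+* A := (baseStalkMap j i p (𝟙 Z) hψ.1 z).hom
  let πB : B →+* C := ((𝟙 Z : Z ⟶ Z).stalkMap z).hom.comp (j.stalkMap ((𝟙 Z : Z ⟶ Z) z)).hom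
  let πA : A →+* C := (i.stalkMap z).hom
  have hcomm : ∀ b, πA (β b) = πB b := fun b =>
    congr($(congrArg CommRingCat.Hom.hom (baseStalkMap_comp j i p (𝟙 Z) hψ.1 z)) b)
  have hbij := ConcreteCategory.bijective_of_isIso ((𝟙 Z : Z ⟶ Z).stalkMap z)
  have hsurj : Function.Surjective πB :=
    hbij.2.comp (j.stalkMap_surjective ((𝟙 Z : Z ⟶ Z) z))
  have hker : RingHom.ker πB = RingHom.ker (j.stalkMap ((𝟙 Z : Z ⟶ Z) z)).hom :=
    RingHom.ker_comp_of_injective _ hbij.1
  have hFS : β.FormallySmooth := by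
    show ((Y.presheaf.stalkSpecializes _ ≫ p.stalkMap (i z))).hom.FormallySmooth
    rw [CommRingCat.hom_comp]
    refine RingHom.FormallySmooth.comp ?_ ?_
    · refine RingHom.FormallySmooth.of_bijective ?_
      have e : p (i z) = j ((𝟙 Z : Z ⟶ Z) z) := by
        show (i ≫ p) z = (𝟙 Z ≫ j) z
        rw [hψ.1]
      haveI : IsIso (Y.presheaf.stalkSpecializes (specializes_of_eq e)) :=
        ⟨⟨Y.presheaf.stalkSpecializes (specializes_of_eq e.symm), by simp, by simp⟩⟩
      exact ConcreteCategory.bijective_of_isIso _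
    · rw [H17.LocusBC.formallySmooth_stalkMap_iff_mem, p.smoothLocus_eq_top]
      trivial
  letI : Algebra B A := β.toAlgebra
  haveI : Algebra.FormallySmooth B A := hFS
  letI : Algebra B C := πB.toAlgebra
  let I := RingHom.ker πB
  let f : A →ₐ[B] C := { πA with commutes' := hcomm }
  let q : (B ⧸ I ^ 2) →ₐ[B] C :=
    { Ideal.Quotient.lift (I ^ 2) πB (fun a ha => Ideal.pow_le_self two_ne_zero ha) with
      commutes' := fun b => rfl }
  have hq : Function.Surjective q := fun c => by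
    obtain ⟨b, rfl⟩ := hsurj c
    exact ⟨Ideal.Quotient.mk _ b, rfl⟩
  have hqk : ∀ x ∈ RingHom.ker (q : B ⧸ I ^ 2 →+* C), ∃ b ∈ I, Ideal.Quotient.mk (I ^ 2) b = x := by
    intro x hx
    obtain ⟨b, rfl⟩ := Ideal.Quotient.mk_surjective x
    exact ⟨b, hx, rfl⟩
  have hnil : IsNilpotent (RingHom.ker (q : B ⧸ I ^ 2 →+* C)) := by
    refine ⟨2, ?_⟩
    generalize RingHom.ker (q : B ⧸ I ^ 2 →+* C) = K at hqk
    rw [pow_two K, Ideal.zero_eq_bot, ← le_bot_iff, Ideal.mul_le]
    intro x hx y hy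
    obtain ⟨b, hb, rfl⟩ := hqk x hx
    obtain ⟨c, hc, rfl⟩ := hqk y hy
    rw [← map_mul, Ideal.mem_bot, Ideal.Quotient.eq_zero_iff_mem, pow_two]
    exact Ideal.mul_mem_mul hb hc
  let lift := Algebra.FormallySmooth.liftOfSurjective f q hq hnil
  have hlift : ∀ a, q (lift a) = πA a := fun a =>
    Algebra.FormallySmooth.liftOfSurjective_apply f q hq hnil a
  have hliftβ : ∀ b, lift (β b) = Ideal.Quotient.mk (I ^ 2) b := fun b => lift.commutes b
  -- the map on `I`
  let N := ((Scheme.Modules.pullback (𝟙 Z)).obj (Omega.conormal j)).presheaf.stalk z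
  let g : RingHom.ker (j.stalkMap ((𝟙 Z : Z ⟶ Z) z)).hom →+ N :=
    (pullStalk (𝟙 Z) (Omega.conormal j) z).hom.comp (cgen j ((𝟙 Z : Z ⟶ Z) z))
  have hg : ∀ (r : B) x, g (r • x) = πB r • g x := fun r x => by
    show pullStalk _ _ z (cgen j _ (r • x)) = _
    rw [cgen_smul, pullStalk_smul]
    rfl
  have hmem : ∀ {b : B}, b ∈ I → b ∈ RingHom.ker (j.stalkMap ((𝟙 Z : Z ⟶ Z) z)).hom := fun hb => hker ▸ hb
  have hg0 : ∀ (b : B) (hb : b ∈ I ^ 2) (h : b ∈ RingHom.ker (j.stalkMap ((𝟙 Z : Z ⟶ Z) z)).hom),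
      g ⟨b, h⟩ = 0 := by
    intro b hb
    rw [pow_two] at hb
    refine (Submodule.mul_induction_on (C := fun b => b ∈ I ∧ ∀ h, g ⟨b, h⟩ = 0) hb (fun x hx y hy => ?_)
      (fun x y ihx ihy => ?_)).2
    · refine ⟨Ideal.mul_mem_left _ x hy, fun h => ?_⟩
      rw [show (⟨x * y, h⟩ : RingHom.ker (j.stalkMap ((𝟙 Z : Z ⟶ Z) z)).hom) = x • ⟨y, hmem hy⟩ from rfl,
        hg, show πB x = 0 from hx, zero_smul]
    · refine ⟨add_mem ihx.1 ihy.1, fun h => ?_⟩
      rw [show (⟨x + y, h⟩ : RingHom.ker (j.stalkMap ((𝟙 Z : Z ⟶ Z) z)).hom) =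
        ⟨x, hmem ihx.1⟩ + ⟨y, hmem ihy.1⟩ from rfl, map_add, ihx.2, ihy.2, add_zero]
  have hex : ∀ a : RingHom.ker (i.stalkMap z).hom, ∃ b : RingHom.ker (j.stalkMap ((𝟙 Z : Z ⟶ Z) z)).hom,
      Ideal.Quotient.mk (I ^ 2) b.1 = lift a.1 := by
    intro a
    obtain ⟨b, hb⟩ := Ideal.Quotient.mk_surjective (lift a.1)
    refine ⟨⟨b, hmem ?_⟩, hb⟩
    show πB b = 0
    rw [show πB b = q (Ideal.Quotient.mk _ b) from rfl, hb, hlift]
    exact a.2
  choose bf hbf using hex
  have huniq : ∀ (a : RingHom.ker (i.stalkMap z).hom) b, Ideal.Quotient.mk (I ^ 2) b.1 = lift a.1 →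
      g (bf a) = g b := by
    intro a b hb
    rw [← sub_eq_zero, ← map_sub]
    exact hg0 _ (Ideal.Quotient.eq.1 ((hbf a).trans hb.symm)) _
  let F : RingHom.ker (i.stalkMap z).hom →+ N :=
    AddMonoidHom.mk' (fun a => g (bf a)) fun a b => by
      rw [← map_add]
      refine huniq (a + b) (bf a + bf b) ?_
      show Ideal.Quotient.mk (I ^ 2) ((bf a).1 + (bf b).1) = _
      rw [map_add, hbf, hbf, ← map_add]
      rfl
  obtain ⟨χ, hχ⟩ := exists_lift_cgen i z F (fun r a => by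
    obtain ⟨c, hc⟩ := Ideal.Quotient.mk_surjective (lift r)
    show g (bf (r • a)) = _ • g (bf a)
    rw [huniq (r • a) (c • bf a) (by
      show Ideal.Quotient.mk (I ^ 2) (c * (bf a).1) = lift (r * a.1)
      rw [map_mul, hc, hbf, map_mul]), hg,
      show πB c = q (Ideal.Quotient.mk _ c) from rfl, hc, hlift])
  refine Function.LeftInverse.injective (g := χ) fun v => ?_
  obtain ⟨t, rfl⟩ := (pullStalkEquiv (𝟙 Z) (Omega.conormal j) z).surjective v
  induction t using TensorProduct.induction_on with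
  | zero =>
    show χ (stalkLin ψ z (pullStalkLin _ _ z 0)) = pullStalkLin _ _ z 0
    rw [map_zero, map_zero, map_zero]
  | add a b ha hb =>
    show χ (stalkLin ψ z (pullStalkLin _ _ z (a + b))) = pullStalkLin _ _ z (a + b)
    rw [map_add, map_add, map_add]
    exact congrArg₂ (· + ·) ha hb
  | tmul r c =>
    show χ (stalkLin ψ z (pullStalkLin _ _ z (r ⊗ₜ c))) = pullStalkLin _ _ z (r ⊗ₜ c)
    rw [pullStalkLin_tmul, map_smul, map_smul]
    congr 1
    have hc : c ∈ Submodule.span (Z.presheaf.stalk ((𝟙 Z : Z ⟶ Z) z))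
        (Set.range (cgen j ((𝟙 Z : Z ⟶ Z) z))) := by
      rw [span_cgen]; trivial
    induction hc using Submodule.span_induction with
    | mem x hx =>
      obtain ⟨b, rfl⟩ := hx
      rw [stalkLin_conormalMap hψ z b, hχ]
      exact huniq ⟨_, baseStalkMap_mem_ker hψ.1 z b⟩ b (hliftβ b.1).symm
    | zero => rw [map_zero, map_zero, map_zero]
    | add x y _ _ ihx ihy => rw [map_add, map_add, map_add, ihx, ihy]
    | smul r x _ ih => rw [pullStalk_smul, map_smul, map_smul, ih]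



/-- Let p : X ⟶ Y be smooth and i : Z ⟶ X, j : Z ⟶ Y quasi-compact immersions with i ≫ p = j. Then the
canonical sequence 0 → C_{Z/Y} → C_{Z/X} → i^*Ω_{X/Y} → 0 is short exact; here Ω_{X/Y} is any
receptacle of a universal Y-derivation of O_X, the first map is the canonical map of conormal
sheaves and the second is the one induced by the derivation. (The published statement allows
arbitrary immersions; quasi-compactness of i and j is assumed here to form the conormal sheaves.) -/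
theorem result {Z X Y : Scheme.{u}} (p : X ⟶ Y) [Smooth p]
    (i : Z ⟶ X) (j : Z ⟶ Y) [IsImmersion i] [IsImmersion j] [QuasiCompact i] [QuasiCompact j] (hij : i ≫ p = j)
    (Ω : X.Modules) (d : OmegaSh.Der p Ω) (hd : OmegaSh.IsUniversal d)
    (ψ : (Scheme.Modules.pullback (𝟙 Z)).obj (Omega.conormal j) ⟶ Omega.conormal i)
    (hψ : OmegaSh.IsConormalMap i j p (𝟙 Z) ψ)
    (φ : Omega.conormal i ⟶ (Scheme.Modules.pullback i).obj Ω) (hφ : OmegaSh.IsConormalDiff i d φ) :
    ∃ w : ψ ≫ φ = 0, (ShortComplex.mk ψ φ w).ShortExact := by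
  obtain ⟨hw, hex, hepi⟩ := Groth.Agent.S9375.result p i j hij Ω d hd ψ hψ φ hφ
  refine ⟨hw, ?_⟩
  haveI := hepi
  haveI : Mono ψ := by
    have h : (ShortComplex.mk (0 : (Scheme.Modules.pullback (𝟙 Z)).obj (Omega.conormal j) ⟶ _) ψ
        zero_comp).Exact :=
      Groth.Agent.H29Omega.exact_of_stalks _ fun z v hv => ⟨v, by
        rw [injective_stalk hψ z (hv.trans (map_zero _).symm)]
        exact map_zero _⟩
    exact (ShortComplex.exact_iff_mono _ rfl).1 h
  exact { exact := hex }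

end Groth.Agent.S9711
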