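import Groth.Statements.S0586
import Groth.Agent.H1CAlg.MittagLeffler
import Mathlib.RingTheory.Flat.FaithfullyFlat.Algebra

set_option autoImplicit false
universe u
open CAlg

namespace Groth.Agent.S0586

open TensorProduct Groth.Agent.H1CAlg

theorem rTensor_lTensor_eq_zero {R : Type u} [CommRing R] {A B P P' : Type u} [AddCommGroup A] [Module R A]
    [AddCommGroup B] [Module R B] [AddCommGroup P] [Module R P] [AddCommGroup P'] [Module R P']
    (f : A →ₗ[R] B) (j : P →ₗ[R] P') (x : A ⊗[R] P) (h : f.rTensor P x = 0) :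
    f.rTensor P' (j.lTensor A x) = 0 := by
  rw [← LinearMap.comp_apply, LinearMap.rTensor_comp_lTensor, ← LinearMap.lTensor_comp_rTensor,
    LinearMap.comp_apply, h, map_zero]

theorem rTensor_eq_zero_of_components {R : Type u} [CommRing R] {S : Type u} [CommRing S] [Algebra R S]
    {M P₀ : Type u} [AddCommGroup M] [Module R M] [AddCommGroup P₀] [Module R P₀]
    (h : CAlg.IsMittagLeffler S (S ⊗[R] M)) {ι : Type u} (T : ι → Type u) [∀ a, AddCommGroup (T a)]
    [∀ a, Module R (T a)] [∀ a, Module S (T a)] [∀ a, IsScalarTower R S (T a)]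
    (f : P₀ →ₗ[R] M) (X : P₀ ⊗[R] (∀ a, T a))
    (hX : ∀ a, f.rTensor (T a) (TensorProduct.piRightHom R R P₀ T X a) = 0) : f.rTensor _ X = 0 := by
  -- compare with the base change
  let E (P : Type u) [AddCommGroup P] [Module R P] [Module S P] [IsScalarTower R S P] :
      (S ⊗[R] M) ⊗[S] P ≃+ M ⊗[R] P :=
    (TensorProduct.comm S _ P).toAddEquiv.trans
      ((TensorProduct.AlgebraTensorModule.cancelBaseChange R S S P M).toAddEquiv.trans
        (TensorProduct.comm R P M).toAddEquiv)
  have key : ∀ (a : ι) (z : (S ⊗[R] M) ⊗[S] (∀ a, T a)),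
      E (T a) (TensorProduct.piRightHom S S (S ⊗[R] M) T z a) =
        TensorProduct.piRightHom R R M T (E (∀ a, T a) z) a := by
    intro a z
    induction z with
    | zero => simp
    | add u v hu hv => simp only [map_add, Pi.add_apply, hu, hv]
    | tmul w q =>
      induction w with
      | zero => simp
      | add u v hu hv => simp only [add_tmul, map_add, Pi.add_apply, hu, hv]
      | tmul s m => simp [E]
  obtain ⟨z, hz⟩ := (E (∀ a, T a)).surjective (f.rTensor _ X)
  have : z = 0 := by
    apply h ι T
    rw [map_zero]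
    funext a
    apply (E (T a)).injective
    rw [key, hz, piRightHom_natural, hX, Pi.zero_apply, map_zero]
  rw [← hz, this, map_zero]

theorem lTensor_rTensor_comm {R : Type u} [CommRing R] {A B P P' : Type u} [AddCommGroup A] [Module R A]
    [AddCommGroup B] [Module R B] [AddCommGroup P] [Module R P] [AddCommGroup P'] [Module R P']
    (f : A →ₗ[R] B) (j : P →ₗ[R] P') (x : A ⊗[R] P) :
    j.lTensor B (f.rTensor P x) = f.rTensor P' (j.lTensor A x) := by
  rw [← LinearMap.comp_apply, LinearMap.lTensor_comp_rTensor, ← LinearMap.rTensor_comp_lTensor,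
    LinearMap.comp_apply]

/-- Let `R → S` be faithfully flat and `M` an `R`-module. If `S ⊗ M` is a Mittag-Leffler `S`-module then
`M` is a Mittag-Leffler `R`-module. -/
theorem result (R : Type u) [CommRing R] (S : Type u)
    [CommRing S] [Algebra R S] [Module.FaithfullyFlat R S] (M : Type u) [AddCommGroup M] [Module R M]
    (h : CAlg.IsMittagLeffler S (TensorProduct R S M)) : CAlg.IsMittagLeffler R M := by
  refine isMittagLeffler_of_fin_dominate fun n f => ?_
  -- the test family: all pairs of a quotient of a finite free module and an element killed by `f`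
  let ι := Σ (m : ℕ) (K : Submodule R (Fin m → R)), {x : (Fin n → R) ⊗[R] ((Fin m → R) ⧸ K) // f.rTensor _ x = 0}
  let Q : ι → Type u := fun a => (Fin a.1 → R) ⧸ a.2.1
  let T : ι → Type u := fun a => S ⊗[R] Q a
  let j : ∀ a, Q a →ₗ[R] T a := fun a => TensorProduct.mk R S (Q a) 1
  obtain ⟨X, hX⟩ := (piRightHom_bijective_of_finitePresentation (M := (Fin n → R)) T).2
    (fun a => (j a).lTensor (Fin n → R) a.2.2.1)
  have hfX : f.rTensor _ X = 0 :=
    rTensor_eq_zero_of_components h T f X fun a => by
      rw [congrFun hX a]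
      exact rTensor_lTensor_eq_zero f (j a) a.2.2.1 a.2.2.2
  obtain ⟨P', _, _, _, g, c, hfc, hg⟩ := exists_fp_factor f X hfX
  refine ⟨P', inferInstance, inferInstance, inferInstance, g, fun N _ _ => le_antisymm ?_ ?_⟩
  · refine ker_le_of_finitePresentation f g (fun Q' _ _ hQ' x hx => ?_) N
    obtain ⟨m, K, e, hK⟩ := Module.FinitePresentation.exists_fin R Q'
    have hx' : f.rTensor _ (e.toLinearMap.lTensor (Fin n → R) x) = 0 := by
      rw [← LinearMap.comp_apply, LinearMap.rTensor_comp_lTensor, ← LinearMap.lTensor_comp_rTensor,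
        LinearMap.comp_apply, LinearMap.mem_ker.mp hx, map_zero]
    let a : ι := ⟨m, K, ⟨e.toLinearMap.lTensor (Fin n → R) x, hx'⟩⟩
    have h1 : g.rTensor (T a) ((j a).lTensor _ a.2.2.1) = 0 :=
      (congrArg (g.rTensor (T a)) (congrFun hX a)).symm.trans (rTensor_component_eq_zero T g X hg a)
    have hinj : Function.Injective ((j a).lTensor P') := by
      have : ∀ z, TensorProduct.leftComm R P' S (Q a) ((j a).lTensor P' z) = (1 : S) ⊗ₜ[R] z := by
        intro z
        induction z with
        | zero => simp
        | tmul u v => exact TensorProduct.leftComm_tmul R u 1 v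
        | add u v hu hv => simp only [map_add, hu, hv, tmul_add]
      intro u v huv
      apply Module.FaithfullyFlat.tensorProduct_mk_injective (A := R) (B := S) (P' ⊗[R] Q a)
      simp only [TensorProduct.mk_apply, ← this, huv]
    have h2 : g.rTensor (Q a) a.2.2.1 = 0 := by
      apply hinj
      exact ((lTensor_rTensor_comm g (j a) a.2.2.1).trans h1).trans (map_zero _).symm
    have h3 : e.toLinearMap.lTensor P' (g.rTensor Q' x) = 0 := by
      exact (lTensor_rTensor_comm g e.toLinearMap x).trans h2
    rw [LinearMap.mem_ker]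
    exact (e.lTensor P').injective (h3.trans (map_zero (e.lTensor P')).symm)
  · rw [hfc, LinearMap.rTensor_comp]; exact LinearMap.ker_le_ker_comp _ _

end Groth.Agent.S0586
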