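import Groth.Statements.S6337
import Groth.Agent.H1CAlg.MLTensor
import Mathlib.LinearAlgebra.DirectSum.TensorProduct

set_option autoImplicit false
universe u
open CAlg

namespace Groth.Agent.S6337

open TensorProduct Groth.Agent.H1CAlg

/-- A direct sum of modules is Mittag-Leffler if and only if each summand is Mittag-Leffler. -/
theorem result (R : Type u) [CommRing R] {ι : Type u} (M : ι → Type u)
    [∀ i, AddCommGroup (M i)] [∀ i, Module R (M i)] :
    CAlg.IsMittagLeffler R (DirectSum ι M) ↔ ∀ i, CAlg.IsMittagLeffler R (M i) := by
  classical
  constructor
  · intro h i
    exact isMittagLeffler_of_universallyInjective (DirectSum.lof R ι M i)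
      (ui_of_leftInverse _ (DirectSum.component R ι M i) (LinearMap.ext fun x => by simp)) h
  · intro h κ Q _ _
    rw [injective_iff_map_eq_zero]
    intro x hx
    have key : ∀ (P : Type u) [AddCommGroup P] [Module R P] (j : ι) (z : DirectSum ι M ⊗[R] P),
        DirectSum.component R ι (fun i => M i ⊗[R] P) j (TensorProduct.directSumLeft R R M P z) =
          (DirectSum.component R ι M j).rTensor P z := by
      intro P _ _ j z
      induction z with
      | zero => simp
      | add a b ha hb => simp only [map_add, ha, hb]
      | tmul a p =>
        induction a using DirectSum.induction_on with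
        | zero => simp
        | add a b ha hb => simp only [add_tmul, map_add, ha, hb]
        | of i a =>
          rw [← DirectSum.lof_eq_of R]
          simp only [TensorProduct.directSumLeft_tmul_lof, LinearMap.rTensor_tmul]
          by_cases hij : j = i
          · subst hij; simp
          · simp [DirectSum.component.of, Ne.symm hij]
    apply (TensorProduct.directSumLeft R R M (∀ k, Q k)).injective
    rw [map_zero]
    refine DirectSum.ext_component R fun j => ?_
    rw [map_zero, key]
    apply h j κ Q
    rw [map_zero]
    funext k
    rw [piRightHom_natural, hx, Pi.zero_apply, Pi.zero_apply, map_zero]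

end Groth.Agent.S6337
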