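import Groth.Statements.S6285
import Mathlib.Algebra.MvPolynomial.CommRing
import Mathlib.LinearAlgebra.Matrix.Adjugate
import Mathlib.RingTheory.Ideal.Colon
import Mathlib.RingTheory.Finiteness.Cardinality
import Mathlib.RingTheory.Spectrum.Prime.Module

set_option autoImplicit false
universe u
open CAlg

namespace Groth.Agent.S6285

/-- For a ring R and an R-module M of finite presentation, the support Supp(M) is closed in Spec(R), and
its complement in Spec(R) is quasi-compact. -/
theorem result (R : Type u) [CommRing R] (M : Type u) [AddCommGroup M] [Module R M] [Module.FinitePresentation R M] : IsClosed (Module.support R M) ∧ IsCompact (Module.support R M)ᶜ := by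
  refine ⟨Module.isClosed_support, ?_⟩
  obtain ⟨n, K, e, hK⟩ := Module.FinitePresentation.exists_fin R M
  obtain ⟨m, g, hg⟩ := Submodule.fg_iff_exists_fin_generating_family.mp hK
  classical
  let A : Matrix (Fin n) (Fin m) R := Matrix.of fun i j => g j i
  let Xm : Matrix (Fin m) (Fin n) (MvPolynomial (Fin m × Fin n) R) := Matrix.of fun i j => MvPolynomial.X (i, j)
  let Pd : MvPolynomial (Fin m × Fin n) R := (A.map MvPolynomial.C * Xm : Matrix (Fin n) (Fin n) (MvPolynomial (Fin m × Fin n) R)).det
  let J : Ideal R := Ideal.span (Pd.support.image Pd.coeff : Finset R)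
  have hspec : ∀ B : Fin m → Fin n → R, MvPolynomial.eval (fun p => B p.1 p.2) Pd = (A * Matrix.of B).det := by
    intro B
    show MvPolynomial.eval (fun p : Fin m × Fin n => B p.1 p.2) (Matrix.det (A.map MvPolynomial.C * Xm : Matrix (Fin n) (Fin n) (MvPolynomial (Fin m × Fin n) R))) = _
    rw [RingHom.map_det]
    congr 1
    ext i j
    rw [RingHom.mapMatrix_apply, Matrix.map_apply, Matrix.mul_apply, Matrix.mul_apply, map_sum]
    refine Finset.sum_congr rfl fun k _ => ?_
    simp [Xm, Matrix.of_apply]
  have hJ : J ≤ Module.annihilator R M := by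
    rw [Ideal.span_le]
    intro c hc
    obtain ⟨d, -, rfl⟩ := Finset.mem_image.mp hc
    rw [SetLike.mem_coe, e.annihilator_eq, Submodule.annihilator_quotient, Submodule.mem_colon]
    intro v _
    obtain ⟨G, hG⟩ : ∃ G : Fin m → MvPolynomial (Fin m × Fin n) R,
        ∀ i, ∑ j, MvPolynomial.C (A i j) * G j = Pd * MvPolynomial.C (v i) := by
      have key : ∀ (A' : Matrix (Fin n) (Fin m) (MvPolynomial (Fin m × Fin n) R))
          (X' : Matrix (Fin m) (Fin n) (MvPolynomial (Fin m × Fin n) R)) (w : Fin n → MvPolynomial (Fin m × Fin n) R) (i : Fin n),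
          ∑ j, A' i j * (Matrix.mulVec (X' * (A' * X').adjugate) w) j = (A' * X').det * w i := by
        intro A' X' w i
        have := congrFun (Matrix.mulVec_mulVec w A' (X' * (A' * X').adjugate)) i
        rw [← Matrix.mul_assoc A' X' (A' * X').adjugate, Matrix.mul_adjugate, Matrix.smul_mulVec, Matrix.one_mulVec] at this
        simpa [Matrix.mulVec, dotProduct] using this
      exact ⟨_, fun i => key (A.map MvPolynomial.C) Xm (fun i => MvPolynomial.C (v i)) i⟩
    have : Pd.coeff d • v = ∑ j, (G j).coeff d • g j := by
      ext i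
      have := congrArg (MvPolynomial.coeff d) (hG i)
      simp only [MvPolynomial.coeff_sum, MvPolynomial.coeff_C_mul, mul_comm Pd] at this
      simp only [Finset.sum_apply, Pi.smul_apply, smul_eq_mul, mul_comm (Pd.coeff d), ← this]
      exact Finset.sum_congr rfl fun j _ => mul_comm _ _
    rw [this]
    exact Submodule.sum_mem _ fun j _ => K.smul_mem _ (hg ▸ Submodule.subset_span ⟨j, rfl⟩)
  have hJ' : ∀ f ∈ Module.annihilator R M, f ^ n ∈ J := by
    intro f hf
    rw [e.annihilator_eq, Submodule.annihilator_quotient] at hf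
    have : ∀ i : Fin n, ∃ c : Fin m → R, ∑ j, c j • g j = f • (Pi.single i 1 : Fin n → R) := fun i => by
      rw [← Submodule.mem_span_range_iff_exists_fun, hg]
      exact Submodule.mem_colon.mp hf _ trivial
    choose c hc using this
    have hAB : A * (Matrix.of fun j i => c i j) = f • (1 : Matrix (Fin n) (Fin n) R) := by
      ext k i
      have := congrFun (hc i) k
      simpa [Matrix.mul_apply, A, Matrix.one_apply, Pi.single_apply, mul_comm] using this
    have := hspec (fun j i => c i j)
    rw [hAB, Matrix.det_smul, Matrix.det_one, Fintype.card_fin, mul_one] at this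
    rw [← this, MvPolynomial.eval_eq]
    exact Submodule.sum_mem _ fun d hd => J.mul_mem_right _ (Ideal.subset_span (Finset.mem_image_of_mem _ hd))
  have : Module.support R M = PrimeSpectrum.zeroLocus ((Pd.support.image Pd.coeff : Finset R) : Set R) := by
    rw [Module.support_eq_zeroLocus, ← PrimeSpectrum.zeroLocus_span (s := ((_ : Finset R) : Set R))]
    ext P
    simp only [PrimeSpectrum.mem_zeroLocus, SetLike.coe_subset_coe]
    exact ⟨fun h => hJ.trans h, fun h f hf => P.2.mem_of_pow_mem n (h (hJ' f hf))⟩
  rw [this]
  rw [← Set.biUnion_of_singleton ((Pd.support.image Pd.coeff : Finset R) : Set R), PrimeSpectrum.zeroLocus_iUnion₂, Set.compl_iInter₂]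
  refine (Finset.finite_toSet _).isCompact_biUnion fun c _ => ?_
  rw [← PrimeSpectrum.basicOpen_eq_zeroLocus_compl]
  exact PrimeSpectrum.isCompact_basicOpen c

end Groth.Agent.S6285
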