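import Groth.Statements.S7412
import Mathlib.Algebra.Module.CharacterModule

set_option autoImplicit false
universe u
open Desc TensorProduct

namespace Groth.Agent.S7412

/-- Let `R` be a ring and `f : M → N` a map of `R`-modules. Then `f` is universally injective (`f ⊗ 1_P`
is injective for every `R`-module `P`; here `P` ranges over modules in the same universe, which
suffices) if and only if the map of character modules `C(N) → C(M)`, `C(-) = Hom_ℤ(-, ℚ/ℤ)`, is a
split surjection of `R`-modules. -/
theorem result {R : Type u} [CommRing R] {M N : Type u}
    [AddCommGroup M] [Module R M] [AddCommGroup N] [Module R N] (f : M →ₗ[R] N) :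
    (∀ (P : Type u) [AddCommGroup P] [Module R P], Function.Injective (f.lTensor P)) ↔
      ∃ g : CharacterModule M →ₗ[R] CharacterModule N, (CharacterModule.dual f).comp g = LinearMap.id := by
  constructor
  · intro h
    let c0 : CharacterModule (TensorProduct R (CharacterModule M) M) := CharacterModule.uncurry LinearMap.id
    obtain ⟨c, hc⟩ := CharacterModule.dual_surjective_iff_injective.mpr (h (CharacterModule M)) c0
    refine ⟨CharacterModule.curry c, LinearMap.ext fun p => DFunLike.ext _ _ fun m => ?_⟩
    exact congr($hc (p ⊗ₜ m))
  · rintro ⟨g, hg⟩ P _ _
    rw [← CharacterModule.dual_surjective_iff_injective]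
    intro c
    refine ⟨CharacterModule.uncurry (g ∘ₗ CharacterModule.curry c), DFunLike.ext _ _ fun z => ?_⟩
    induction z with
    | zero => simp only [map_zero]
    | add a b ha hb => simp only [map_add, ha, hb]
    | tmul p m => exact congr($hg (CharacterModule.curry c p) m)

end Groth.Agent.S7412
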