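import Groth.Statements.S0274
import Groth.Agent.S7412
import Mathlib.RingTheory.Flat.Tensor
import Mathlib.RingTheory.TensorProduct.Basic

set_option autoImplicit false
universe u
open scoped TensorProduct
open Pi1

namespace Groth.Agent.S0274

/-- Let R -> S be universally injective and M an R-module such that S ⊗_R M is flat over S. Then M is
flat over R. -/
theorem result (R S : Type u) [CommRing R] [CommRing S] [Algebra R S]
    (h : Pi1.UnivInjective R S) (M : Type u) [AddCommGroup M] [Module R M]
    [Module.Flat S (S ⊗[R] M)] : Module.Flat R M := by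
  obtain ⟨σ, hσ⟩ := (Groth.Agent.S7412.result (Algebra.linearMap R S)).1 h
  rw [Module.Flat.iff_characterModule_injective]
  obtain ⟨F, hF₁, hF₂, hF₃, p, hp⟩ : ∃ (F : Type u) (_ : AddCommGroup F) (_ : Module R F)
      (_ : Module.Free R F) (p : F →ₗ[R] M), Function.Surjective p :=
    ⟨M →₀ R, inferInstance, inferInstance, inferInstance, Finsupp.linearCombination R id,
      Finsupp.linearCombination_id_surjective R M⟩
  haveI hinjF : Module.Injective R (CharacterModule F) :=
    Module.Flat.iff_characterModule_injective.1 inferInstance
  haveI hinjS : Module.Injective S (CharacterModule (S ⊗[R] M)) :=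
    Module.Flat.iff_characterModule_injective.1 inferInstance
  let sec : ∀ (N : Type u) [AddCommGroup N] [Module R N],
      CharacterModule N →ₗ[R] CharacterModule (S ⊗[R] N) := fun N _ _ =>
    CharacterModule.dual (TensorProduct.comm R S N).toLinearMap ∘ₗ CharacterModule.uncurry ∘ₗ
      (LinearMap.llcomp R _ _ _ σ) ∘ₗ CharacterModule.curry ∘ₗ
        CharacterModule.dual (TensorProduct.rid R N).toLinearMap
  have hnat : ∀ g : CharacterModule M, CharacterModule.dual (p.baseChange S) (sec M g) =
      sec F (CharacterModule.dual p g) := by
    intro g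
    refine DFunLike.ext _ _ fun z => ?_
    induction z with
    | zero => exact (map_zero _).trans (map_zero _).symm
    | add a b ha hb => simp only [map_add, ha, hb]
    | tmul t x =>
      show σ (CharacterModule.curry (CharacterModule.dual (TensorProduct.rid R M).toLinearMap g) (p x)) t = _
      refine congrArg (fun c => σ c t) (DFunLike.ext _ _ fun r => ?_)
      exact congrArg g (p.map_smul r x).symm
  obtain ⟨ρ, hρ⟩ := hinjS.out (CharacterModule.dual (p.baseChange S))
    (CharacterModule.dual_injective_of_surjective _
      (by rw [LinearMap.baseChange_eq_ltensor]; exact LinearMap.lTensor_surjective S hp))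
    LinearMap.id
  let ρR : CharacterModule (S ⊗[R] F) →ₗ[R] CharacterModule (S ⊗[R] M) :=
    { toFun := ρ
      map_add' := ρ.map_add
      map_smul' := fun r x => by
        have e1 : r • x = algebraMap R S r • x :=
          DFunLike.ext _ _ fun z => congrArg x (algebraMap_smul S r z).symm
        refine (congrArg ρ e1).trans ((ρ.map_smul _ _).trans ?_)
        exact DFunLike.ext _ _ fun z => congrArg (ρ x) (algebraMap_smul S r z) }
  let ret : CharacterModule F →ₗ[R] CharacterModule M :=
    CharacterModule.dual ((TensorProduct.mk R S M) 1) ∘ₗ ρR ∘ₗ sec F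
  have hret : ∀ g, ret (CharacterModule.dual p g) = g := by
    intro g
    show CharacterModule.dual ((TensorProduct.mk R S M) 1) (ρ (sec F (CharacterModule.dual p g))) = g
    rw [← hnat g]
    refine (congrArg _ (hρ (sec M g))).trans (DFunLike.ext _ _ fun m => ?_)
    show σ (CharacterModule.curry (CharacterModule.dual (TensorProduct.rid R M).toLinearMap g) m) 1 = g m
    have h1 := congrArg (fun c : CharacterModule R => c 1)
      (LinearMap.congr_fun hσ (CharacterModule.curry (CharacterModule.dual (TensorProduct.rid R M).toLinearMap g) m))
    refine Eq.trans (congrArg _ (map_one (algebraMap R S)).symm) (h1.trans ?_)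
    show g ((1 : R) • m) = g m
    rw [one_smul]
  refine ⟨fun X Y _ _ _ _ f hf g => ?_⟩
  obtain ⟨k, hk⟩ := hinjF.out f hf (CharacterModule.dual p ∘ₗ g)
  exact ⟨ret ∘ₗ k, fun x => (congrArg ret (hk x)).trans (hret _)⟩

end Groth.Agent.S0274
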