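import Groth.Statements.S0277
import Groth.Agent.H18Et.UnivInjDescent
import Mathlib.RingTheory.FiniteType

set_option autoImplicit false
universe u
open scoped TensorProduct
open Pi1

namespace Groth.Agent.S0277

/-- Let R -> S be universally injective and A an R-algebra such that S ⊗_R A is of finite type over S.
Then A is of finite type over R. -/
theorem result (R S : Type u) [CommRing R] [CommRing S] [Algebra R S]
    (h : Pi1.UnivInjective R S) (A : Type u) [CommRing A] [Algebra R A]
    [Algebra.FiniteType S (S ⊗[R] A)] : Algebra.FiniteType R A := by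
  classical
  obtain ⟨g, hg⟩ := Algebra.FiniteType.out (R := S) (A := S ⊗[R] A)
  obtain ⟨s, hs⟩ := Groth.Agent.H18Et.exists_finset_fg_le (R := R) (S := S) A
    (Submodule.span S (g : Set (S ⊗[R] A))) ⟨g, rfl⟩
  let A₀ := Algebra.adjoin R (s : Set A)
  let q : S ⊗[R] A₀ →ₐ[S] S ⊗[R] A := Algebra.TensorProduct.map (AlgHom.id S S) A₀.val
  have hq : Function.Surjective q := by
    rw [← AlgHom.range_eq_top, eq_top_iff, ← hg, Algebra.adjoin_le_iff]
    intro x hx
    refine (Submodule.span_le (p := Subalgebra.toSubmodule q.range)).2 ?_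
      (hs (Submodule.subset_span hx))
    rintro _ ⟨m, hm, rfl⟩
    exact ⟨(1 : S) ⊗ₜ ⟨m, Algebra.subset_adjoin hm⟩, by simp [q]⟩
  have hq' : Function.Surjective (A₀.val.toLinearMap.lTensor S) := by
    intro x
    obtain ⟨y, rfl⟩ := hq x
    refine ⟨y, ?_⟩
    induction y with
    | zero => simp
    | add a b ha hb => rw [map_add, map_add, ha, hb]
    | tmul a b => simp [q]
  have := Groth.Agent.H18Et.surjective_of_lTensor_surjective h _ hq'
  exact ⟨⟨s, eq_top_iff.2 fun a _ => by obtain ⟨y, rfl⟩ := this a; exact y.2⟩⟩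

end Groth.Agent.S0277
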