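import Groth.Statements.S0278
import Groth.Agent.H18Et.UnivInjDescent
import Groth.Agent.S0277
import Mathlib.RingTheory.FinitePresentation
import Mathlib.LinearAlgebra.TensorProduct.RightExactness

set_option autoImplicit false
universe u
open scoped TensorProduct
open Pi1

namespace Groth.Agent.S0278

/-- Let R -> S be universally injective and A an R-algebra such that S ⊗_R A is of finite presentation
over S. Then A is of finite presentation over R. -/
theorem result (R S : Type u) [CommRing R] [CommRing S] [Algebra R S]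
    (h : Pi1.UnivInjective R S) (A : Type u) [CommRing A] [Algebra R A]
    [Algebra.FinitePresentation S (S ⊗[R] A)] : Algebra.FinitePresentation R A := by
  classical
  haveI : Algebra.FiniteType R A := Groth.Agent.S0277.result R S h A
  obtain ⟨n, φ, hφ⟩ := Algebra.FiniteType.iff_quotient_mvPolynomial''.1 (‹Algebra.FiniteType R A›)
  refine Algebra.FinitePresentation.of_surjective hφ ?_
  let q : S ⊗[R] MvPolynomial (Fin n) R →ₐ[S] S ⊗[R] A :=
    Algebra.TensorProduct.map (AlgHom.id S S) φ
  have hker : RingHom.ker q.toRingHom = (RingHom.ker φ).map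
      (Algebra.TensorProduct.includeRight : MvPolynomial (Fin n) R →ₐ[R] S ⊗[R] MvPolynomial (Fin n) R) :=
    Algebra.TensorProduct.lTensor_ker φ hφ
  have hfg : (RingHom.ker q.toRingHom).FG :=
    Algebra.FinitePresentation.ker_fG_of_surjective q (LinearMap.lTensor_surjective S hφ)
  rw [hker, Ideal.map] at hfg
  obtain ⟨s', hs', hspan⟩ := (Submodule.fg_span_iff_fg_span_finset_subset _).1 hfg
  obtain ⟨s, hs, he⟩ := Finset.subset_set_image_iff.1 hs'
  refine ⟨s, le_antisymm (Ideal.span_le.2 hs) fun x hx => ?_⟩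
  let I₀ : Ideal (MvPolynomial (Fin n) R) := Ideal.span (s : Set (MvPolynomial (Fin n) R))
  refine Ideal.Quotient.eq_zero_iff_mem.1 (Groth.Agent.H18Et.mk_one_injective_of_univInjective h
    (MvPolynomial (Fin n) R ⧸ I₀) ?_)
  let q₀ : S ⊗[R] MvPolynomial (Fin n) R →ₐ[R] S ⊗[R] (MvPolynomial (Fin n) R ⧸ I₀) :=
    Algebra.TensorProduct.map (AlgHom.id R S) (Ideal.Quotient.mkₐ R I₀)
  have hmem : (1 : S) ⊗ₜ[R] x ∈ RingHom.ker q₀ := by
    have : (1 : S) ⊗ₜ[R] x ∈ Ideal.span (s' : Set (S ⊗[R] MvPolynomial (Fin n) R)) :=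
      (congrArg (fun J : Submodule (S ⊗[R] MvPolynomial (Fin n) R) _ => (1 : S) ⊗ₜ[R] x ∈ J) hspan).mp
        (Submodule.subset_span ⟨x, hx, rfl⟩)
    refine Ideal.span_le.2 (fun z hz => ?_) this
    rw [← he, Finset.coe_image] at hz
    obtain ⟨m, hm, rfl⟩ := hz
    have : Ideal.Quotient.mk I₀ m = 0 := Ideal.Quotient.eq_zero_iff_mem.2 (Ideal.subset_span hm)
    simp [q₀, this]
  simpa [q₀] using hmem

end Groth.Agent.S0278
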