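import Groth.Statements.S4619
import Groth.Agent.H06Geom.SepClosedIn

set_option autoImplicit false
open CategoryTheory AlgebraicGeometry
universe u
open FBase

namespace Groth.Agent.S4619

/-- For a connected scheme: let X be a connected scheme over a field k and x a point of X whose residue
field κ(x) is a primary extension of k, i.e. the separable algebraic closure of k in κ(x) is k
itself (this holds in particular when x is a k-rational point). Then X is geometrically connected
over k. (The published statement concerns the connected component of x in an arbitrary scheme over
k; this row takes X connected.) -/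
theorem result {k : Type u} [Field k] {X : Scheme.{u}}
    [ConnectedSpace X] (f : X ⟶ Spec (CommRingCat.of k)) (x : X)
    (hx : FBase.ResidueFieldProp f x (fun K _ _ => separableClosure k K = ⊥)) :
    GeometricallyConnected f := by
  obtain ⟨φ, hφ, hP⟩ := hx
  letI := φ.toAlgebra
  let s := Spec.map (CommRingCat.ofHom (algebraMap k (AlgebraicClosure k)))
  let T := TensorProduct k (AlgebraicClosure k) (X.residueField x)
  have hT : ConnectedSpace (PrimeSpectrum T) := by
    have : Nontrivial T :=
      (Algebra.TensorProduct.includeLeft_injective (R := k) (A := AlgebraicClosure k) (B := X.residueField x)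
        (S := k) (algebraMap k (X.residueField x)).injective).nontrivial
    suffices PreconnectedSpace (PrimeSpectrum T) from ⟨inferInstance⟩
    rw [preconnectedSpace_iff_clopen]
    intro c hc
    obtain ⟨e, he, rfl⟩ := PrimeSpectrum.isClopen_iff.1 hc
    rcases H06Geom.isIdempotentElem_trivial hP e he with rfl | rfl
    · left; simp
    · right; simp
  haveI hc : ConnectedSpace ↥(Limits.pullback (X.fromSpecResidueField x ≫ f) s) := by
    let i : Limits.pullback (X.fromSpecResidueField x ≫ f) s ≅ Spec (CommRingCat.of T) :=
      Limits.pullbackSymmetry _ _ ≪≫ Limits.pullback.congrHom rfl hφ.symm ≪≫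
        pullbackSpecIso k (AlgebraicClosure k) (X.residueField x)
    exact i.hom.homeomorph.connectedSpace_iff.mpr hT
  haveI := H19Grp.geometricallyConnected_of_connectedSpace
    (Limits.pullback.snd (X.fromSpecResidueField x ≫ f) s)
  haveI : GeometricallyConnected (X.fromSpecResidueField x ≫ f) :=
    H06Desc.geometricallyConnected_of_pullback_snd _ s
  exact H06Desc.geometricallyConnected_of_source (X.fromSpecResidueField x) f

end Groth.Agent.S4619
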