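import Groth.Statements.S18483
import Groth.Agent.H28Neron.Spread

set_option autoImplicit false
universe u
open CategoryTheory CategoryTheory.Limits AlgebraicGeometry MonObj
open Neron

namespace Groth.Agent.S18483

/-- Let R be a Dedekind domain with fraction field K and N a proper smooth group scheme over Spec R,
with no connectedness condition on its fibres. Then N is a Néron model of its generic fibre N_K: N
is smooth, separated and of finite type over Spec R, and for every smooth Spec R-scheme Y
restriction to generic fibres is a bijection from R-morphisms Y → N onto K-morphisms Y_K → N_K. (The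
source allows any connected Dedekind scheme as base; the affine case is stated.) -/
theorem result (R : Type u) [CommRing R] [IsDedekindDomain R]
    (N : Over (Spec (CommRingCat.of R))) [GrpObj N] [IsProper N.hom] [Smooth N.hom] :
    Neron.IsNeronModelOf R N ((Neron.genericFibre R).obj N) (Iso.refl _) := by
  haveI : GrpObj (Over.mk N.hom) := ‹GrpObj N›
  refine ⟨inferInstance, inferInstance, inferInstance, inferInstance, fun Y hY => ⟨fun a b hab => ?_, fun h => ?_⟩⟩
  · exact Groth.Agent.H28Neron.hom_ext_genericFibre R Y N a b (by simpa using hab)
  · obtain ⟨g, ⟨hg1, hg2⟩, -⟩ := Groth.Agent.H28Neron.existsUnique_extension_generic Y.hom N.hom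
      (h.left ≫ CategoryTheory.Limits.pullback.fst N.hom (Neron.genPt R)) (by
        rw [Category.assoc, CategoryTheory.Limits.pullback.condition]
        erw [← Category.assoc, Over.w h, CategoryTheory.Limits.pullback.condition]
        rfl)
    refine ⟨Over.homMk g hg1, ?_⟩
    simp only [Iso.refl_hom, Category.comp_id]
    ext1
    apply CategoryTheory.Limits.pullback.hom_ext
    · erw [CategoryTheory.Limits.pullback.lift_fst]
      exact hg2
    · erw [CategoryTheory.Limits.pullback.lift_snd]
      exact (Over.w h).symm

end Groth.Agent.S18483
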