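import Groth.Statements.S14580
import Groth.Agent.H19Grp.AntiAffineGroup
import Groth.Agent.H19Grp.QuotientDesc
import Groth.Agent.H19Grp.Kernel

set_option autoImplicit false
set_option maxHeartbeats 1000000
set_option synthInstance.maxHeartbeats 100000
set_option linter.style.haveILetI false
set_option backward.isDefEq.respectTransparency false
universe u
open CategoryTheory MonoidalCategory CartesianMonoidalCategory MonObj GrpObj AlgebraicGeometry CategoryTheory.Limits
open AlgGrp

namespace Groth.Agent.S14580

/-- Let k be a field, G a proper k-group scheme of finite type and N ⊆ G the kernel of the affinization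
morphism G → Spec O(G), i.e. the fibre over the image of the unit section (the largest anti-affine
subgroup scheme of G). Then the image of N in G is the connected component of the identity: as N is
smooth, N is the reduced neutral component G⁰_red, which is therefore a smooth connected algebraic
group. -/
theorem result (k : Type u) [Field k]
    (G : Over (Spec (CommRingCat.of k))) [GrpObj G] [IsProper G.hom] (t : ↥((𝟙_ (Over (Spec (CommRingCat.of k)))).left)) :
    Set.range ⇑(pullback.fst G.left.toSpecΓ (η[G].left ≫ G.left.toSpecΓ)).base = connectedComponent ((η[G]).left.base t) := by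
  haveI : QuasiCompact G.hom := inferInstance
  obtain ⟨hfl, hs, hlft⟩ := Groth.Agent.H19Grp.Affinization.flat_surjective G
  let A := Groth.Agent.H19Grp.Affinization.aff G
  let ρ := Groth.Agent.H19Grp.Affinization.rho G
  haveI : Surjective ρ.left := hs
  haveI : IsSeparated A.hom := by
    show IsSeparated (Spec.map G.hom.appTop ≫ (Spec (CommRingCat.of k)).isoSpec.inv); infer_instance
  haveI : LocallyOfFiniteType A.hom := hlft
  haveI : IsProper A.hom := by
    haveI : UniversallyClosed (ρ.left ≫ A.hom) := by rw [Over.w ρ]; infer_instance
    haveI : UniversallyClosed A.hom := UniversallyClosed.of_comp_surjective ρ.left A.hom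
    exact ⟨⟩
  haveI : IsAffineHom A.hom := inferInstance
  haveI : IsFinite A.hom := IsFinite.iff_isProper_and_isAffineHom.mpr ⟨inferInstance, inferInstance⟩
  haveI : IsLocallyArtinian A.left := IsLocallyArtinian.of_locallyQuasiFinite A.hom
  haveI : DiscreteTopology ↥(Spec Γ(G.left, ⊤)) := inferInstanceAs (DiscreteTopology A.left)
  obtain ⟨-, -, hN⟩ := Groth.Agent.H19Grp.AffinizationKernel.smooth_and_connected G
  let e := η[G].left ≫ G.left.toSpecΓ
  have hrange : Set.range (pullback.fst G.left.toSpecΓ e) = G.left.toSpecΓ ⁻¹' {e t} := by
    rw [Scheme.Pullback.range_fst]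
    congr 1
    ext z
    constructor
    · rintro ⟨x, rfl⟩
      exact congrArg e (Subsingleton.elim (α := PrimeSpectrum k) x t)
    · rintro rfl
      exact ⟨t, rfl⟩
  refine subset_antisymm ?_ ?_
  · haveI : ConnectedSpace ↥(pullback G.left.toSpecΓ e) := hN
    refine (isPreconnected_range (pullback.fst G.left.toSpecΓ e).continuous).subset_connectedComponent ?_
    rw [hrange]
    rfl
  · rw [hrange]
    refine (IsClopen.preimage (isClopen_discrete {e t}) G.left.toSpecΓ.continuous).connectedComponent_subset ?_
    rfl

end Groth.Agent.S14580
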