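-- statement FlatMor.GrothFrozen.S1236 (Groth/Statements/S1236.lean; the theorem FlatMor.mem_weakAss_tensor_iff_of_flatAt);
import Groth.Statements.S1236
import Groth.Agent.H7Flat.WeakAssFlatAt

set_option autoImplicit false
universe u
open FlatMor

namespace Groth.Agent.S1236

open TensorProduct in
/-- Let S be a finite type R-algebra, N a finite S-module, M an R-module and q a prime of S over p such
that N_q is flat over R. Then q is a weakly associated prime of the S-module N ⊗_R M if and only if
p is a weakly associated prime of M and the extension of q to the fibre ring over p is an associated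
prime of the fibre module of N. -/
theorem result {R S : Type u} [CommRing R] [CommRing S] [Algebra R S] [Algebra.FiniteType R S]
    (N : Type u) [AddCommGroup N] [Module S N] [Module R N] [IsScalarTower R S N] [Module.Finite S N]
    (M : Type u) [AddCommGroup M] [Module R M]
    (p : Ideal R) [p.IsPrime] (q : Ideal S) [q.IsPrime] [q.LiesOver p] (hflat : FlatCA.FlatAt R q N) :
    q ∈ FlatCA.weakAss S (N ⊗[R] M) ↔
      (p ∈ FlatCA.weakAss R M ∧ FlatCA.fiberIdeal p q ∈ associatedPrimes (p.Fiber S) (FlatCA.fiberMod p S N)) := by
  exact H7Flat.WeakAssFlatAt.mem_weakAss_tensor_iff N M p q hflat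

end Groth.Agent.S1236
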