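import Groth.Statements.S7295
import Mathlib.CategoryTheory.Functor.Flat
import Mathlib.CategoryTheory.Sites.Pullback
import Mathlib.Algebra.Category.Grp.AB
import Mathlib.CategoryTheory.Limits.Final

set_option autoImplicit false
open CategoryTheory CategoryTheory.Limits AlgebraicGeometry Opposite
universe u
open ProEtS

namespace Groth.Agent.S7295

open CategoryTheory CategoryTheory.Limits in
noncomputable instance : HasFilteredColimitsOfSize.{u, u + 1} AddCommGrpCat.{u + 1} :=
  hasFilteredColimitsOfSize_of_univLE.{u, u + 1, u + 1, u + 1}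

open CategoryTheory CategoryTheory.Limits in
theorem ab5' : AB5OfSize.{u, u + 1} AddCommGrpCat.{u + 1} := AB5OfSize_of_univLE.{u, u + 1, u + 1, u + 1} AddCommGrpCat.{u + 1}

open CategoryTheory CategoryTheory.Limits in
theorem ab4' : AB4OfSize.{u} AddCommGrpCat.{u + 1} := AB4OfSize_shrink.{u, u + 1} AddCommGrpCat.{u + 1}

open CategoryTheory CategoryTheory.Limits in
theorem preservesMonomorphisms_lan_of_colim {C D : Type (u + 1)} [Category.{u} C] [Category.{u} D] (F : C ⥤ D)
    (h : ∀ (Z : D) (P Q : C ⥤ AddCommGrpCat.{u + 1}) (φ : P ⟶ Q) [Mono φ],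
      Mono (colim.map (Functor.whiskerLeft (CostructuredArrow.proj F Z) φ))) :
    (F.lan : (C ⥤ AddCommGrpCat.{u + 1}) ⥤ _).PreservesMonomorphisms := by
  refine ⟨fun {P Q} φ hφ => ?_⟩
  haveI : ∀ Z, Mono ((F.lan.map φ).app Z) := fun Z => by
    let hP : IsColimit ((Functor.LeftExtension.mk (F.leftKanExtension P) (F.leftKanExtensionUnit P)).coconeAt Z) := F.isPointwiseLeftKanExtensionLeftKanExtensionUnit P Z
    let hQ : IsColimit ((Functor.LeftExtension.mk (F.leftKanExtension Q) (F.leftKanExtensionUnit Q)).coconeAt Z) := F.isPointwiseLeftKanExtensionLeftKanExtensionUnit Q Z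
    let eP := hP.coconePointUniqueUpToIso (colimit.isColimit _)
    let eQ := hQ.coconePointUniqueUpToIso (colimit.isColimit _)
    have key : (F.lan.map φ).app Z ≫ eQ.hom = eP.hom ≫ colim.map (Functor.whiskerLeft (CostructuredArrow.proj F Z) φ) := by
      refine hP.hom_ext fun T => ?_
      have hη : ∀ x : C, (F.leftKanExtensionUnit P).app x ≫ (F.lan.map φ).app (F.obj x) = φ.app x ≫ (F.leftKanExtensionUnit Q).app x :=
        fun x => (F.leftKanExtension P).descOfIsLeftKanExtension_fac_app (F.leftKanExtensionUnit P) (F.leftKanExtension Q) (φ ≫ F.leftKanExtensionUnit Q) x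
      have eP1 := hP.comp_coconePointUniqueUpToIso_hom (colimit.isColimit _) T
      have eQ1 := hQ.comp_coconePointUniqueUpToIso_hom (colimit.isColimit _) T
      have nat : (F.leftKanExtension P).map T.hom ≫ (F.lan.map φ).app Z =
          (F.lan.map φ).app (F.obj T.left) ≫ (F.leftKanExtension Q).map T.hom := (F.lan.map φ).naturality T.hom
      have c0 : (((F.leftKanExtensionUnit P).app T.left ≫ (F.leftKanExtension P).map T.hom) ≫ ((F.lan.map φ).app Z ≫ eQ.hom)) = ((F.leftKanExtensionUnit P).app T.left ≫ ((F.leftKanExtension P).map T.hom ≫ (F.lan.map φ).app Z)) ≫ eQ.hom := by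
        simp only [Category.assoc]
      have c1 : ((F.leftKanExtensionUnit P).app T.left ≫ ((F.leftKanExtension P).map T.hom ≫ (F.lan.map φ).app Z)) ≫ eQ.hom = (((F.leftKanExtensionUnit P).app T.left ≫ (F.lan.map φ).app (F.obj T.left)) ≫ (F.leftKanExtension Q).map T.hom) ≫ eQ.hom :=            (congrArg (fun q => ((F.leftKanExtensionUnit P).app T.left ≫ q) ≫ eQ.hom) nat).trans (congrArg (fun q => q ≫ eQ.hom) (Category.assoc _ _ _).symm)
      have c2 : (((F.leftKanExtensionUnit P).app T.left ≫ (F.lan.map φ).app (F.obj T.left)) ≫ (F.leftKanExtension Q).map T.hom) ≫ eQ.hom = φ.app T.left ≫ (((F.leftKanExtensionUnit Q).app T.left ≫ (F.leftKanExtension Q).map T.hom) ≫ eQ.hom) :=            (congrArg (fun q => (q ≫ (F.leftKanExtension Q).map T.hom) ≫ eQ.hom) (hη T.left)).trans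
              ((congrArg (fun q => q ≫ eQ.hom) (Category.assoc _ _ _)).trans (Category.assoc _ _ _))
      have c3 : φ.app T.left ≫ (((F.leftKanExtensionUnit Q).app T.left ≫ (F.leftKanExtension Q).map T.hom) ≫ eQ.hom) = φ.app T.left ≫ colimit.ι (CostructuredArrow.proj F Z ⋙ Q) T := congrArg (fun q => φ.app T.left ≫ q) eQ1
      have c4 : φ.app T.left ≫ colimit.ι (CostructuredArrow.proj F Z ⋙ Q) T = colimit.ι (CostructuredArrow.proj F Z ⋙ P) T ≫ colim.map (Functor.whiskerLeft (CostructuredArrow.proj F Z) φ) :=            (ι_colimMap (Functor.whiskerLeft (CostructuredArrow.proj F Z) φ) T).symm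
      have c5 : colimit.ι (CostructuredArrow.proj F Z ⋙ P) T ≫ colim.map (Functor.whiskerLeft (CostructuredArrow.proj F Z) φ) = ((F.leftKanExtensionUnit P).app T.left ≫ (F.leftKanExtension P).map T.hom) ≫ eP.hom ≫ colim.map (Functor.whiskerLeft (CostructuredArrow.proj F Z) φ) :=            (congrArg (fun q => q ≫ colim.map (Functor.whiskerLeft (CostructuredArrow.proj F Z) φ)) eP1.symm).trans (Category.assoc _ _ _)
      exact Eq.trans (Eq.trans (Eq.trans (Eq.trans (Eq.trans (c0) c1) c2) c3) c4) c5
    haveI := h Z P Q φ
    have : Mono ((F.lan.map φ).app Z ≫ eQ.hom) := by rw [key]; exact @mono_comp _ _ _ _ _ eP.hom inferInstance _ this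
    exact mono_of_mono _ eQ.hom
  exact NatTrans.mono_of_mono_app _

open CategoryTheory CategoryTheory.Limits Opposite in
theorem preservesMonomorphisms_lan_overMap {C : Type (u + 1)} [Category.{u} C] {T S : C} (f : T ⟶ S) :
    ((Over.map f).op.lan : ((Over T)ᵒᵖ ⥤ AddCommGrpCat.{u + 1}) ⥤ _).PreservesMonomorphisms := by
  refine preservesMonomorphisms_lan_of_colim _ fun Z P Q φ hφ => ?_
  let J := CostructuredArrow (Over.map f).op Z
  let G := {g : Z.unop.left ⟶ T // g ≫ f = Z.unop.hom}
  let i : Discrete G ⥤ J := Discrete.functor fun g =>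
    CostructuredArrow.mk (S := (Over.map f).op) (Y := op (Over.mk g.1))
      (Over.homMk (𝟙 _) (by exact (Category.id_comp _).trans g.2) : Z.unop ⟶ (Over.map f).obj (Over.mk g.1)).op
  let gj : J → G := fun j => ⟨j.hom.unop.left ≫ j.left.unop.hom, by
    rw [Category.assoc]; exact Over.w j.hom.unop⟩
  have hgj : ∀ {j j' : J} (a : j ⟶ j'), gj j = gj j' := fun {j j'} a => Subtype.ext (by
    have h1 := congrArg (fun q => q.unop.left) (CostructuredArrow.w a)
    show j.hom.unop.left ≫ _ = j'.hom.unop.left ≫ _
    rw [← h1]
    show (j'.hom.unop.left ≫ a.left.unop.left) ≫ _ = _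
    rw [Category.assoc, Over.w])
  let R : J ⥤ Discrete G :=
    { obj := fun j => ⟨gj j⟩
      map := fun a => Discrete.eqToHom (hgj a)
      map_id := fun _ => Subsingleton.elim _ _
      map_comp := fun _ _ => Subsingleton.elim _ _ }
  have hi : ∀ g, gj (i.obj g) = g.as := fun g => Subtype.ext (Category.id_comp _)
  haveI : ∀ (j : J) (g : Discrete G), Subsingleton (j ⟶ i.obj g) := fun j g => ⟨fun a b => by
    have ha := congrArg (fun q => q.unop.left) (CostructuredArrow.w a)
    have hb := congrArg (fun q => q.unop.left) (CostructuredArrow.w b)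
    refine CostructuredArrow.hom_ext _ _ (Quiver.Hom.unop_inj (Over.OverMorphism.ext ?_))
    exact ((Category.id_comp _).symm.trans ha).trans (((Category.id_comp _).symm.trans hb).symm)⟩
  let adj : R ⊣ i := Adjunction.mkOfHomEquiv
    { homEquiv := fun j g =>
        { toFun := fun a => CostructuredArrow.homMk (S := (Over.map f).op)
            ((Over.homMk (U := Over.mk g.as.1) (V := j.left.unop) j.hom.unop.left
              (congrArg Subtype.val (Discrete.eq_of_hom a))).op)
            (Quiver.Hom.unop_inj (Over.OverMorphism.ext (Category.id_comp _)))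
          invFun := fun a => Discrete.eqToHom ((hgj a).trans (hi g))
          left_inv := fun _ => Subsingleton.elim _ _
          right_inv := fun _ => Subsingleton.elim _ _ }
      homEquiv_naturality_left_symm := fun _ _ => Subsingleton.elim _ _
      homEquiv_naturality_right := fun _ _ => Subsingleton.elim _ _ }
  haveI : i.Final := Functor.final_of_adjunction adj
  let π := CostructuredArrow.proj (Over.map f).op Z
  haveI : Mono (Functor.whiskerLeft (i ⋙ π) φ) :=
    @NatTrans.mono_of_mono_app _ _ _ _ _ _ _ fun x => inferInstanceAs (Mono (φ.app _))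
  haveI := ab4'.{u}
  haveI : Mono (colim.map (Functor.whiskerLeft (i ⋙ π) φ)) := inferInstance
  let e' := Functor.Final.colimIso (F := i) (E := AddCommGrpCat.{u + 1})
  exact ((MorphismProperty.monomorphisms _).arrow_mk_iso_iff ((Functor.mapArrowFunctor _ _).mapIso e' |>.app (Arrow.mk (Functor.whiskerLeft π φ)))).1 this

open CategoryTheory CategoryTheory.Limits AlgebraicGeometry in
theorem preservesMonomorphisms_sheafPullback_overMap {T S : Scheme.{u}} (f : T ⟶ S) :
    ((Over.map f).sheafPullback AddCommGrpCat.{u + 1} (Scheme.proetaleTopology.over T) (Scheme.proetaleTopology.over S)).PreservesMonomorphisms := by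
  haveI := preservesMonomorphisms_lan_overMap f
  haveI : (Functor.sheafPullbackConstruction.sheafPullback (Over.map f) AddCommGrpCat.{u + 1} (Scheme.proetaleTopology.over T) (Scheme.proetaleTopology.over S)).PreservesMonomorphisms := by
    haveI : (sheafToPresheaf (Scheme.proetaleTopology.over T) AddCommGrpCat.{u + 1}).PreservesMonomorphisms :=
      Functor.preservesMonomorphisms_of_adjunction (sheafificationAdjunction _ _)
    haveI : (presheafToSheaf (Scheme.proetaleTopology.over S) AddCommGrpCat.{u + 1}).PreservesMonomorphisms :=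
      preservesMonomorphisms_of_preservesLimitsOfShape _
    unfold Functor.sheafPullbackConstruction.sheafPullback; infer_instance
  exact Functor.PreservesMonomorphisms.of_iso (Functor.sheafPullbackConstruction.sheafPullbackIso (Over.map f) AddCommGrpCat.{u + 1} (Scheme.proetaleTopology.over T) (Scheme.proetaleTopology.over S)).symm

/-- Let f : T → S be a morphism of schemes and I an injective object of the category of abelian sheaves
on the big pro-etale site of S (the category of schemes over S with the pro-etale topology). Then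
the restriction of I to the small pro-etale site of T, along the functor sending a scheme V weakly
etale over T to the S-scheme V → T → S, is injective. The case where T = S and f is the identity is
the restriction to the small pro-etale site of S itself. (Continuity of the restriction functor is
carried as a binder.) -/
theorem result {T S : Scheme.{u}} (f : T ⟶ S)
    [(Scheme.ProEt.forget T ⋙ Over.map f).IsContinuous (Scheme.ProEt.topology T)
      (Scheme.proetaleTopology.over S)]
    (I : Sheaf (Scheme.proetaleTopology.over S) AddCommGrpCat.{u + 1}) [Injective I] :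
    Injective (((Scheme.ProEt.forget T ⋙ Over.map f).sheafPushforwardContinuous AddCommGrpCat.{u + 1}
      (Scheme.ProEt.topology T) (Scheme.proetaleTopology.over S)).obj I) := by
  let J := Scheme.proetaleTopology.{u}
  haveI := preservesMonomorphisms_sheafPullback_overMap f
  have h1 : Injective (((Over.map f).sheafPushforwardContinuous AddCommGrpCat.{u + 1} (J.over T) (J.over S)).obj I) :=
    Injective.injective_of_adjoint ((Over.map f).sheafAdjunctionContinuous AddCommGrpCat.{u + 1} (J.over T) (J.over S)) I
  haveI : RepresentablyFlat (Scheme.ProEt.forget T) := inferInstance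
  haveI : ((Scheme.ProEt.forget T).op.lan : _ ⥤ _ ⥤ AddCommGrpCat.{u + 1}).PreservesMonomorphisms := by
    refine preservesMonomorphisms_lan_of_colim _ fun Z P Q φ hφ => ?_
    haveI : IsFiltered (CostructuredArrow (Scheme.ProEt.forget T).op Z) := inferInstance
    haveI : Mono (Functor.whiskerLeft (CostructuredArrow.proj (Scheme.ProEt.forget T).op Z) φ) :=
      @NatTrans.mono_of_mono_app _ _ _ _ _ _ _ fun x => inferInstanceAs (Mono (φ.app _))
    haveI := ab5'.{u}
    haveI : PreservesFiniteLimits (colim (J := CostructuredArrow (Scheme.ProEt.forget T).op Z) (C := AddCommGrpCat.{u + 1})) := inferInstance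
    exact (colim (J := CostructuredArrow (Scheme.ProEt.forget T).op Z) (C := AddCommGrpCat.{u + 1})).map_mono _
  haveI : ((Scheme.ProEt.forget T).sheafPullback AddCommGrpCat.{u + 1} (Scheme.ProEt.topology T) (J.over T)).PreservesMonomorphisms := by
    haveI : (sheafToPresheaf (Scheme.ProEt.topology T) AddCommGrpCat.{u + 1}).PreservesMonomorphisms :=
      Functor.preservesMonomorphisms_of_adjunction (sheafificationAdjunction _ _)
    haveI : (presheafToSheaf (J.over T) AddCommGrpCat.{u + 1}).PreservesMonomorphisms :=
      preservesMonomorphisms_of_preservesLimitsOfShape _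
    haveI : (Functor.sheafPullbackConstruction.sheafPullback (Scheme.ProEt.forget T) AddCommGrpCat.{u + 1} (Scheme.ProEt.topology T) (J.over T)).PreservesMonomorphisms := by
      unfold Functor.sheafPullbackConstruction.sheafPullback; infer_instance
    exact Functor.PreservesMonomorphisms.of_iso (Functor.sheafPullbackConstruction.sheafPullbackIso (Scheme.ProEt.forget T) AddCommGrpCat.{u + 1} (Scheme.ProEt.topology T) (J.over T)).symm
  have h2 := Injective.injective_of_adjoint ((Scheme.ProEt.forget T).sheafAdjunctionContinuous AddCommGrpCat.{u + 1} (Scheme.ProEt.topology T) (J.over T)) (((Over.map f).sheafPushforwardContinuous AddCommGrpCat.{u + 1} (J.over T) (J.over S)).obj I)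
  exact Injective.of_iso (Iso.refl _) h2

end Groth.Agent.S7295
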