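import Groth.Statements.S9686
import Groth.Agent.H17.DimIneqScheme

set_option autoImplicit false
universe u
open CategoryTheory CategoryTheory.Limits AlgebraicGeometry
open Mor

namespace Groth.Agent.S9686

open CategoryTheory CategoryTheory.Limits AlgebraicGeometry TopologicalSpace Topology Cardinal

/-- Let Y be locally Noetherian and f : X ⟶ Y locally of finite type. If E bounds the transcendence
degree of κ(ξ) over κ(f ξ) for every generic point ξ of an irreducible component of X, then dim X ≤
dim Y + E. (The published bound is the supremum of these transcendence degrees; the statement with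
any upper bound E is equivalent.) -/
theorem result {X Y : Scheme.{u}} [IsLocallyNoetherian Y]
    (f : X ⟶ Y) [LocallyOfFiniteType f] (E : ℕ)
    (hE : ∀ ξ : X, closure {ξ} ∈ irreducibleComponents ↥X →
      letI := (f.residueFieldMap ξ).hom.toAlgebra
      Algebra.trdeg (Y.residueField (f.base ξ)) (X.residueField ξ) ≤ E) :
    topologicalKrullDim ↥X ≤ topologicalKrullDim ↥Y + E := by
  have hX : topologicalKrullDim X = Order.krullDim X :=
    Order.krullDim_eq_of_orderIso irreducibleSetEquivPoints
  have hY : topologicalKrullDim Y = Order.krullDim Y :=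
    Order.krullDim_eq_of_orderIso irreducibleSetEquivPoints
  rw [hX, Order.krullDim_eq_iSup_coheight]
  refine iSup_le fun x => ?_
  obtain ⟨b, hb, h⟩ := Groth.Agent.H17.DimIneq.scheme_ineq f x E fun ξ hξ _ => hE ξ hξ
  rw [ringKrullDim_stalk_eq_coheight] at hb h
  have hbY : (b : WithBot ℕ∞) ≤ topologicalKrullDim Y := by
    rw [hY, ← hb]; exact Order.coheight_le_krullDim _
  refine le_trans ?_ (add_le_add hbY (le_refl (E : WithBot ℕ∞)))
  refine WithBot.coe_le_coe.2 (show Order.coheight x ≤ b + (E : ℕ∞) from ?_)
  induction b with
  | top => simp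
  | coe b =>
    refine ENat.forall_natCast_le_iff_le.1 fun l hl => ?_
    have h' := le_trans (self_le_add_right _ _) (h l (WithBot.coe_le_coe.2 hl))
    rw [show ((b : ℕ∞) : Cardinal.{u}) = (b : Cardinal.{u}) from Cardinal.ofENat_nat b] at h'
    exact_mod_cast h'

end Groth.Agent.S9686
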