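import Groth.Statements.S9685
import Groth.Agent.H17.DimIneqScheme
import Groth.Agent.S9686

set_option autoImplicit false
universe u
open CategoryTheory CategoryTheory.Limits AlgebraicGeometry
open Mor

namespace Groth.Agent.S9685

open CategoryTheory CategoryTheory.Limits AlgebraicGeometry TopologicalSpace Topology Cardinal

/-- Let X and Y be integral schemes with Y locally Noetherian and f : X ⟶ Y dominant and locally of
finite type. If n is the transcendence degree of the function field of X over the function field of
Y (computed on residue fields at the generic points), then dim X ≤ dim Y + n, and equality holds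
when the underlying map of f is closed. -/
theorem result {X Y : Scheme.{u}} [IsIntegral X] [IsIntegral Y]
    [IsLocallyNoetherian Y] (f : X ⟶ Y) [IsDominant f] [LocallyOfFiniteType f] (n : ℕ)
    (hn : letI := (f.residueFieldMap (genericPoint ↥X)).hom.toAlgebra
      Algebra.trdeg (Y.residueField (f.base (genericPoint ↥X))) (X.residueField (genericPoint ↥X)) = n) :
    topologicalKrullDim ↥X ≤ topologicalKrullDim ↥Y + n ∧
      (IsClosedMap f.base → topologicalKrullDim ↥X = topologicalKrullDim ↥Y + n) := by
  have hle : topologicalKrullDim ↥X ≤ topologicalKrullDim ↥Y + n := by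
    refine Groth.Agent.S9686.result f n fun ξ hξ => ?_
    have h1 : closure ({ξ} : Set X) = Set.univ := Set.eq_univ_of_univ_subset
      (hξ.2 (IrreducibleSpace.isIrreducible_univ X) (Set.subset_univ _))
    rw [IsGenericPoint.eq h1 (genericPoint_spec X)]
    exact hn.le
  refine ⟨hle, fun hf => le_antisymm hle ?_⟩
  have hX : topologicalKrullDim X = Order.krullDim X :=
    Order.krullDim_eq_of_orderIso irreducibleSetEquivPoints
  have hY : topologicalKrullDim Y = Order.krullDim Y :=
    Order.krullDim_eq_of_orderIso irreducibleSetEquivPoints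
  have hgen : (n : WithBot ℕ∞) ≤ Groth.Agent.H8Props.FieldDim.cdim (f.asFiber (genericPoint ↥X)) := by
    obtain ⟨s, hs, hs'⟩ := Groth.Agent.H8Props.FieldDim.exists_trdeg_fiber f (f.asFiber (genericPoint ↥X))
    have key : ∀ x' : X, x' = genericPoint ↥X → @Algebra.trdeg (Y.residueField (f.base x')) (X.residueField x') _ _
        (f.residueFieldMap x').hom.toAlgebra = s → s = n := by
      rintro x' rfl h'
      rw [hn] at h'
      exact_mod_cast h'.symm
    rw [hs, key _ (f.fiberι_asFiber _) hs']
  have hsurj : f.base (genericPoint ↥X) = genericPoint ↥Y :=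
    ((genericPoint_spec X).image f.continuous).eq (by
      rw [Set.image_univ, f.denseRange.closure_range]; exact genericPoint_spec Y)
  rw [hX, hY]
  haveI : Nonempty Y := ⟨genericPoint ↥Y⟩
  haveI : Nonempty X := ⟨genericPoint ↥X⟩
  rw [Order.krullDim_eq_iSup_length (α := Y)]
  refine le_trans (le_of_eq (show (↑(⨆ c : LTSeries Y, (c.length : ℕ∞)) : WithBot ℕ∞) + (n : WithBot ℕ∞) =
    ↑((⨆ c : LTSeries Y, (c.length : ℕ∞)) + (n : ℕ∞)) from rfl)) ?_
  rw [ENat.iSup_add, WithBot.coe_iSup (OrderTop.bddAbove _)]
  refine iSup_le fun c => ?_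
  obtain ⟨x, -, hxy, hx⟩ := Groth.Agent.H17.DimIneq.exists_specializes f hf n (x := genericPoint ↥X)
    (y' := c.last) (hsurj ▸ genericPoint_specializes c.last) hgen
  refine le_trans ?_ (Order.height_le_krullDim x)
  exact WithBot.coe_le_coe.2 (Groth.Agent.H17.DimIneq.add_le_height f hf n c x hxy hx)

end Groth.Agent.S9685
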