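import Groth.Statements.S14727
import Mathlib.RingTheory.AdicCompletion.Functoriality
import Mathlib.RingTheory.Localization.AtPrime.Basic
import Mathlib.Tactic.LinearCombination.Lemmas
import Mathlib.Tactic.LinearCombination
import Mathlib.Tactic.Ring

set_option autoImplicit false
universe u
open ValPrufer

namespace Groth.Agent.S14727

/-- Let R be a semilocal ring (finitely many maximal ideals) and I an ideal of R of co-height zero, i.e.
every prime ideal containing I is maximal. Then the canonical map from the I-adic completion of R to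
the product, over the maximal ideals m ⊇ I, of the I-adic completions of the local rings R_m
(equivalently their IR_m-adic completions) is bijective; it is the continuous ring isomorphism of
the source, stated here as bijectivity of the canonical map of completed modules. -/
theorem result
    (R : Type u) [CommRing R] (hR : Finite (MaximalSpectrum R)) (I : Ideal R)
    (hI : ∀ (p : Ideal R), p.IsPrime → I ≤ p → p.IsMaximal) :
    Function.Bijective (LinearMap.pi (fun m : {m : MaximalSpectrum R // I ≤ m.asIdeal} =>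
      AdicCompletion.map I (Algebra.linearMap R (Localization.AtPrime m.1.asIdeal)))) := by
  classical
  let V := {m : MaximalSpectrum R // I ≤ m.asIdeal}
  have : Fintype V := Fintype.ofFinite V
  let q : V → ℕ → Ideal R := fun m n ↦ ((I ^ n).map (algebraMap R (Localization.AtPrime m.1.asIdeal))).comap
    (algebraMap R (Localization.AtPrime m.1.asIdeal))
  have hmem : ∀ (m : V) (n : ℕ) (z : Localization.AtPrime m.1.asIdeal),
      z ∈ (I ^ n • ⊤ : Submodule R (Localization.AtPrime m.1.asIdeal)) ↔
      z ∈ (I ^ n).map (algebraMap R (Localization.AtPrime m.1.asIdeal)) := fun m n z ↦ by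
    rw [Ideal.smul_top_eq_map, Submodule.restrictScalars_mem]
  -- powers of elements of `m'` lie in `q m'`
  have hrad : ∀ (m : V) (n : ℕ), ∀ v ∈ m.1.asIdeal, ∃ N, v ^ N ∈ q m n := by
    intro m n v hv
    have : algebraMap R (Localization.AtPrime m.1.asIdeal) v ∈
        ((I ^ n).map (algebraMap R (Localization.AtPrime m.1.asIdeal))).radical := by
      rw [Ideal.radical_eq_sInf, Submodule.mem_sInf]
      rintro P ⟨hP, hPp⟩
      rw [Ideal.map_le_iff_le_comap] at hP
      have hcp : (Ideal.comap (algebraMap R (Localization.AtPrime m.1.asIdeal)) P).IsPrime := Ideal.IsPrime.comap _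
      have h1 := hcp.le_of_pow_le hP
      have h2 := hI _ hcp h1
      have h3 : Ideal.comap (algebraMap R (Localization.AtPrime m.1.asIdeal)) P ≤ m.1.asIdeal := by
        intro x hx
        by_contra hxm
        exact hPp.ne_top (Ideal.eq_top_of_isUnit_mem _ hx (IsLocalization.map_units _ (⟨x, hxm⟩ : m.1.asIdeal.primeCompl)))
      show v ∈ Ideal.comap (algebraMap R (Localization.AtPrime m.1.asIdeal)) P
      rw [h2.eq_of_le m.1.isMaximal.ne_top h3]
      exact hv
    obtain ⟨N, hN⟩ := this
    exact ⟨N, by rwa [Ideal.mem_comap, map_pow]⟩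
  have hinj : ∀ (n : ℕ) (x : R), (∀ m : V, x ∈ q m n) → x ∈ I ^ n := by
    intro n x hx
    by_contra hxn
    have hne : Submodule.colon (I ^ n) ({x} : Set R) ≠ ⊤ := fun h ↦ hxn (by
      have h1 : (1 : R) ∈ Submodule.colon (I ^ n) ({x} : Set R) := h ▸ trivial
      simpa using Submodule.mem_colon_singleton.mp h1)
    obtain ⟨M, hM, hle⟩ := Ideal.exists_le_maximal _ hne
    have hIM : I ≤ M := hM.isPrime.le_of_pow_le (n := n) fun y hy ↦
      hle (Submodule.mem_colon_singleton.mpr (Ideal.mul_mem_right _ _ hy))
    have h2 := hx ⟨⟨M, hM⟩, hIM⟩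
    rw [Ideal.mem_comap, IsLocalization.algebraMap_mem_map_algebraMap_iff M.primeCompl] at h2
    obtain ⟨s, hs, hsx⟩ := h2
    exact hs (hle (Submodule.mem_colon_singleton.mpr hsx))
  have hsurj : ∀ (n : ℕ) (y : ∀ m : V, Localization.AtPrime m.1.asIdeal), ∃ x : R, ∀ m : V,
      algebraMap R _ x - y m ∈ (I ^ n).map (algebraMap R (Localization.AtPrime m.1.asIdeal)) := by
    intro n y
    -- separating elements
    have hu : ∀ m : V, ∃ u : R, u ∉ m.1.asIdeal ∧ ∀ m' : V, m' ≠ m → u ∈ q m' n := by
      intro m
      have hsep : ∀ m' : V, ∃ w : R, w ∉ m.1.asIdeal ∧ (m' ≠ m → w ∈ q m' n) := by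
        intro m'
        by_cases h : m' = m
        · exact ⟨1, fun h1 ↦ m.1.isMaximal.ne_top ((Ideal.eq_top_iff_one _).mpr h1), fun h' ↦ absurd h h'⟩
        · have hne : m'.1.asIdeal ≠ m.1.asIdeal := fun e ↦ h (Subtype.ext (MaximalSpectrum.ext e))
          obtain ⟨v, hv, hv'⟩ := SetLike.not_le_iff_exists.mp fun hle ↦
            hne (m'.1.isMaximal.eq_of_le m.1.isMaximal.ne_top hle)
          obtain ⟨N, hN⟩ := hrad m' n v hv
          exact ⟨v ^ N, fun h1 ↦ hv' (m.1.isMaximal.isPrime.mem_of_pow_mem N h1), fun _ ↦ hN⟩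
      choose w hw hw' using hsep
      refine ⟨∏ m' : V, w m', fun h1 ↦ ?_, fun m' hm' ↦ ?_⟩
      · obtain ⟨m', -, hm'⟩ := (Ideal.IsPrime.prod_mem_iff (hp := m.1.isMaximal.isPrime)).mp h1
        exact hw m' hm'
      · obtain ⟨c, hc⟩ := Finset.dvd_prod_of_mem w (Finset.mem_univ m')
        rw [hc]
        exact Ideal.mul_mem_right _ _ (hw' m' hm')
    choose u hu hu' using hu
    -- inverses modulo `q`
    have hrep : ∀ (m : V) (z : Localization.AtPrime m.1.asIdeal), ∃ c : R,
        algebraMap R _ c - z ∈ (I ^ n).map (algebraMap R (Localization.AtPrime m.1.asIdeal)) := by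
      intro m z
      obtain ⟨⟨a, s⟩, hz⟩ := IsLocalization.surj m.1.asIdeal.primeCompl z
      have htop : Ideal.span {(s : R)} ⊔ q m n = ⊤ := by
        by_contra hne
        obtain ⟨M, hM, hle⟩ := Ideal.exists_le_maximal _ hne
        have hsM : (s : R) ∈ M := hle (Ideal.mem_sup_left (Ideal.mem_span_singleton_self _))
        by_cases hmM : m.1.asIdeal ≤ M
        · exact s.2 (SetLike.mem_coe.mpr ((m.1.isMaximal.eq_of_le hM.ne_top hmM).symm.le hsM))
        · obtain ⟨v, hv, hv'⟩ := SetLike.not_le_iff_exists.mp hmM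
          obtain ⟨N, hN⟩ := hrad m n v hv
          exact hv' (hM.isPrime.mem_of_pow_mem N (hle (Ideal.mem_sup_right hN)))
      have h1 : (1 : R) ∈ Ideal.span {(s : R)} ⊔ q m n := htop ▸ trivial
      obtain ⟨b, hb, e, he, hbe⟩ := Submodule.mem_sup.mp h1
      obtain ⟨r, rfl⟩ := Ideal.mem_span_singleton'.mp hb
      refine ⟨a * r, ?_⟩
      have h2 := congrArg (algebraMap R (Localization.AtPrime m.1.asIdeal)) hbe
      rw [map_add, map_mul, map_one] at h2
      have : algebraMap R _ (a * r) - z = -(z * algebraMap R _ e) := by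
        rw [map_mul, ← hz]
        linear_combination z * h2
      rw [this]
      exact neg_mem (Ideal.mul_mem_left _ _ he)
    have hc : ∀ m : V, ∃ c : R, algebraMap R _ (u m * c) - y m ∈
        (I ^ n).map (algebraMap R (Localization.AtPrime m.1.asIdeal)) := by
      intro m
      obtain ⟨v, hv⟩ := (IsLocalization.map_units (Localization.AtPrime m.1.asIdeal)
        (⟨u m, hu m⟩ : m.1.asIdeal.primeCompl)).exists_left_inv
      obtain ⟨c, hc⟩ := hrep m (v * y m)
      refine ⟨c, ?_⟩
      have : algebraMap R _ (u m * c) - y m = algebraMap R _ (u m) * (algebraMap R _ c - v * y m) := by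
        rw [map_mul]
        linear_combination (y m) * hv
      rw [this]
      exact Ideal.mul_mem_left _ _ hc
    choose c hc using hc
    refine ⟨∑ m, u m * c m, fun m ↦ ?_⟩
    rw [map_sum, ← Finset.add_sum_erase _ _ (Finset.mem_univ m), add_sub_right_comm]
    refine add_mem (hc m) (Ideal.sum_mem _ fun m' hm' ↦ ?_)
    rw [map_mul]
    exact Ideal.mul_mem_right _ _ (hu' m' m (Finset.ne_of_mem_erase hm').symm)
  have hval : ∀ (x : AdicCompletion.AdicCauchySequence I R) (m : V) (n : ℕ),
      (AdicCompletion.map I (Algebra.linearMap R (Localization.AtPrime m.1.asIdeal))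
        (AdicCompletion.mk I R x)).val n = Submodule.Quotient.mk (algebraMap R _ (x.val n)) := by
    intro x m n
    rw [AdicCompletion.map_mk]
    rfl
  refine ⟨(injective_iff_map_eq_zero _).mpr fun z hz ↦ ?_, fun y ↦ ?_⟩
  · obtain ⟨x, rfl⟩ := AdicCompletion.mk_surjective I R z
    refine AdicCompletion.ext fun n ↦ ?_
    show Submodule.Quotient.mk (x.val n) = 0
    rw [Submodule.Quotient.mk_eq_zero, smul_eq_mul, Ideal.mul_top]
    refine hinj n _ fun m ↦ ?_
    have h1 := congrArg (fun w ↦ w.val n) (congrFun hz m)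
    simp only [LinearMap.pi_apply] at h1
    rw [hval] at h1
    exact (hmem m n _).mp ((Submodule.Quotient.mk_eq_zero _).mp h1)
  · choose ys hys using fun m : V ↦ AdicCompletion.mk_surjective I _ (y m)
    choose x hx using fun n ↦ hsurj n (fun m ↦ (ys m).val n)
    have hcauchy : ∀ {a b : ℕ}, a ≤ b → x a ≡ x b [SMOD (I ^ a • ⊤ : Submodule R R)] := by
      intro a b hab
      rw [SModEq.sub_mem, smul_eq_mul, Ideal.mul_top]
      refine hinj a _ fun m ↦ ?_
      have h1 := (hmem m a _).mp (SModEq.sub_mem.mp ((ys m).property hab))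
      have h2 := Ideal.map_mono (f := algebraMap R (Localization.AtPrime m.1.asIdeal))
        (Ideal.pow_le_pow_right hab) (hx b m)
      rw [Ideal.mem_comap, map_sub]
      have : algebraMap R _ (x a) - algebraMap R (Localization.AtPrime m.1.asIdeal) (x b) =
          (algebraMap R _ (x a) - (ys m).val a) - (algebraMap R _ (x b) - (ys m).val b) +
          ((ys m).val a - (ys m).val b) := by ring
      rw [this]
      exact add_mem (sub_mem (hx a m) h2) h1
    let xx : AdicCompletion.AdicCauchySequence I R := ⟨x, hcauchy⟩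
    refine ⟨AdicCompletion.mk I R xx, funext fun m ↦ AdicCompletion.ext fun n ↦ ?_⟩
    refine ((hval xx m n).trans ?_)
    rw [← hys m]
    show Submodule.Quotient.mk _ = Submodule.Quotient.mk _
    rw [Submodule.Quotient.eq]
    exact (hmem m n _).mpr (hx n m)

end Groth.Agent.S14727
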