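import Groth.Statements.S4533
import Mathlib
import Groth.Prelude.Def_EGA41
import Groth.Agent.H05EGA4.FSAdic
import Groth.Agent.S9316

set_option autoImplicit false
set_option linter.style.haveILetI false
universe u
open EGA41

open IsLocalRing TensorProduct Groth.Agent CAlgX Groth.Agent.H05EGA4

namespace Groth.Agent.S4533

/-- Let A carry the 𝔞-adic topology and let B = A[[T_1, …, T_n]] carry the product topology, i.e. the
adic topology of the ideal 𝔞B + (T_1, …, T_n) (the kernel of the constant-coefficient map added to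
the extension of 𝔞). Then B is a formally smooth A-algebra for these topologies. (The published
statement allows any linearly topologized base ring and any set of indeterminates with the product
topology; this row takes an adic base and finitely many indeterminates, where the product topology
is adic.) -/
theorem result (A : Type u) [CommRing A] (𝔞 : Ideal A) (n : ℕ) :
    EGA41.IsFormallySmoothAdic A 𝔞 (MvPowerSeries (Fin n) A)
      (𝔞.map (MvPowerSeries.C : A →+* MvPowerSeries (Fin n) A) ⊔
        RingHom.ker (MvPowerSeries.constantCoeff : MvPowerSeries (Fin n) A →+* A)) := by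
  intro C _ _ J hJ _ u ⟨k, hk⟩
  choose y hy using fun i => Ideal.Quotient.mk_surjective (u (MvPowerSeries.X i))
  obtain ⟨s, hs⟩ := hJ
  let I := Ideal.span (Set.range y)
  have hX : ∀ i, (MvPowerSeries.X i : MvPowerSeries (Fin n) A) ∈
      𝔞.map (MvPowerSeries.C : A →+* MvPowerSeries (Fin n) A) ⊔
        RingHom.ker (MvPowerSeries.constantCoeff : MvPowerSeries (Fin n) A →+* A) := fun i =>
    Submodule.mem_sup_right (by rw [RingHom.mem_ker]; simp)
  have hnil : I ≤ nilradical C := Ideal.span_le.mpr (by
    rintro _ ⟨i, rfl⟩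
    refine ⟨k * s, ?_⟩
    have h1 : y i ^ k ∈ J := by
      rw [← Ideal.Quotient.eq_zero_iff_mem, map_pow, hy, ← map_pow]
      exact hk _ (Ideal.pow_mem_pow (hX i) k)
    rw [pow_mul]
    have h2 := Ideal.pow_mem_pow h1 s
    rwa [hs] at h2)
  obtain ⟨N, hN⟩ := Ideal.exists_pow_le_of_le_radical_of_fg hnil (Submodule.fg_span (Set.finite_range y))
  have hbot : I ^ N = ⊥ := le_bot_iff.mp hN
  have := H02CA.AdicSmooth.isAdicComplete_of_pow_eq_bot hbot
  obtain ⟨v, hv⟩ := H02CA.PS.exists_algHom (R := A) (σ := Fin n) I y fun i => Ideal.subset_span ⟨i, rfl⟩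
  refine ⟨v, ?_⟩
  have hbot' : (I.map (Ideal.Quotient.mk J)) ^ N = ⊥ := by rw [← Ideal.map_pow, hbot, Ideal.map_bot]
  have := H02CA.AdicSmooth.isAdicComplete_of_pow_eq_bot hbot'
  refine H02CA.PS.algHom_ext (I.map (Ideal.Quotient.mk J)) (fun i => ?_) fun i => ?_
  · rw [AlgHom.comp_apply, hv]
    exact Ideal.mem_map_of_mem _ (Ideal.subset_span ⟨i, rfl⟩)
  · rw [AlgHom.comp_apply, hv]
    exact hy i


end Groth.Agent.S4533
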