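import Groth.Statements.S5770
import Mathlib
import Groth.Agent.H05EGA4.DimLocal

set_option autoImplicit false
set_option maxHeartbeats 400000
universe u
open EGA41

open IsLocalRing TensorProduct Groth.Agent.H05EGA4
open scoped Pointwise

namespace Groth.Agent.S5770

open TensorProduct in
/-- Let φ : A → B be a local homomorphism of Noetherian local rings, m the maximal ideal of A, k = A/m,
M a finitely generated A-module and N a finitely generated B-module. Then dim_B(M ⊗_A N) ≤ dim_A(M)
+ dim(N ⊗_A k), the last dimension being that of N/mN (over B ⊗_A k or, equivalently by finiteness,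
over B). -/
theorem result (A B : Type u) [CommRing A] [CommRing B] [IsLocalRing A]
    [IsLocalRing B] [IsNoetherianRing A] [IsNoetherianRing B] [Algebra A B] [IsLocalHom (algebraMap A B)]
    (M : Type u) [AddCommGroup M] [Module A M] [Module.Finite A M] (N : Type u) [AddCommGroup N] [Module B N]
    [Module A N] [IsScalarTower A B N] [Module.Finite B N] :
    Module.supportDim B (N ⊗[A] M) ≤ Module.supportDim A M +
      Module.supportDim B (N ⧸ ((IsLocalRing.maximalIdeal A).map (algebraMap A B) • (⊤ : Submodule B N))) := by
  cases subsingleton_or_nontrivial (N ⊗[A] M) with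
  | inl h => rw [(Module.supportDim_eq_bot_iff_subsingleton B _).mpr h]; exact bot_le
  | inr h =>
    have : Nontrivial M := by
      by_contra hM
      rw [not_nontrivial_iff_subsingleton] at hM
      exact false_of_nontrivial_of_subsingleton (N ⊗[A] M)
    rw [dimSupportQuot, Module.supportDim_eq_ringKrullDim_quotient_annihilator (R := A)]
    set I := Module.annihilator A M with hI
    set J := Module.annihilator B N with hJ
    have hIm : I ≤ maximalIdeal A := le_maximalIdeal (fun h => by
      rw [Ideal.eq_top_iff_one, hI, Module.mem_annihilator] at h
      exact not_subsingleton M ⟨fun x y => by rw [← one_smul A x, ← one_smul A y, h, h]⟩)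
    let K := J ⊔ I.map (algebraMap A B)
    have hK : ∀ r ∈ K, ∀ z : N ⊗[A] M, r • z = 0 := by
      have : K ≤ Module.annihilator B (N ⊗[A] M) := by
        refine sup_le ?_ (Ideal.map_le_iff_le_comap.mpr ?_)
        · intro r hr
          rw [Module.mem_annihilator]
          intro z
          induction z using TensorProduct.induction_on with
          | zero => simp
          | tmul n m => rw [TensorProduct.smul_tmul', Module.mem_annihilator.mp hr, zero_tmul]
          | add x y hx hy => rw [smul_add, hx, hy, add_zero]
        · intro r hr
          rw [Ideal.mem_comap, Module.mem_annihilator]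
          intro z
          induction z using TensorProduct.induction_on with
          | zero => simp
          | tmul n m =>
            rw [TensorProduct.smul_tmul', algebraMap_smul, TensorProduct.smul_tmul,
              Module.mem_annihilator.mp hr, tmul_zero]
          | add x y hx hy => rw [smul_add, hx, hy, add_zero]
      exact fun r hr z => Module.mem_annihilator.mp (this hr) z
    have hsub : Module.support B (N ⊗[A] M) ⊆ PrimeSpectrum.zeroLocus K := by
      intro P hP r hr
      obtain ⟨z, hz⟩ := Module.mem_support_iff'.mp hP
      by_contra hrP
      exact hz r hrP (hK r hr z)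
    have h1 : Module.supportDim B (N ⊗[A] M) ≤ ringKrullDim (B ⧸ K) := by
      rw [ringKrullDim_quotient]
      exact Order.krullDim_le_of_strictMono (fun x => ⟨x.1, hsub x.2⟩) (fun _ _ h => h)
    have hKeq : K ⊔ (maximalIdeal A).map (algebraMap A B) =
        J ⊔ (maximalIdeal A).map (algebraMap A B) := by
      simp only [K, sup_assoc, sup_eq_right.mpr (Ideal.map_mono (f := algebraMap A B) hIm)]
    refine h1.trans ?_
    rw [← hKeq]
    exact dimLocalHomQuot A B I K (Ideal.map_le_iff_le_comap.mp le_sup_right)


end Groth.Agent.S5770
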