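import Groth.Statements.S14272
import Groth.Agent.H8Props.HartogsTwo
import Mathlib.AlgebraicGeometry.Cover.Directed
import Mathlib.AlgebraicGeometry.Morphisms.Affine
import Mathlib.AlgebraicGeometry.Morphisms.QuasiCompact
import Mathlib.AlgebraicGeometry.Morphisms.FinitePresentation

set_option autoImplicit false
universe u
open FlatPur

namespace Groth.Agent.S14272

open AlgebraicGeometry CategoryTheory in
theorem precomp_bijective {T' T A : Scheme.{u}} [IsAffine A] [IsAffine T] (j : T' ⟶ T)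
    (hj : Function.Bijective j.appTop.hom) (g : T' ⟶ A) :
    ∃! h : T ⟶ A, j ≫ h = g := by
  haveI : IsIso j.appTop := (ConcreteCategory.isIso_iff_bijective _).mpr hj
  refine ⟨T.toSpecΓ ≫ Spec.map (g.appTop ≫ inv j.appTop) ≫ inv A.toSpecΓ, ?_, fun h hh => ?_⟩
  · show j ≫ _ = g
    rw [Scheme.toSpecΓ_naturality_assoc, ← Spec.map_comp_assoc, Category.assoc, IsIso.inv_hom_id,
      Category.comp_id, ← Scheme.toSpecΓ_naturality_assoc, IsIso.hom_inv_id, Category.comp_id]
  · have h1 := congrArg Scheme.Hom.appTop hh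
    rw [Scheme.Hom.comp_appTop] at h1
    rw [← h1, Category.assoc, IsIso.hom_inv_id, Category.comp_id,
      ← Scheme.toSpecΓ_naturality_assoc, IsIso.hom_inv_id, Category.comp_id]

open AlgebraicGeometry CategoryTheory in
theorem homOfLE_appTop_bijective {X : Scheme.{u}} {V W : X.Opens} (e : W ≤ V)
    (h : Function.Bijective (X.presheaf.map (homOfLE e).op).hom) :
    Function.Bijective (X.homOfLE e).appTop.hom := by
  rw [Scheme.homOfLE_appTop]
  have key : ∀ (A B : X.Opens) (e' : B ≤ A), A = V → B = W →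
      Function.Bijective (X.presheaf.map (homOfLE e').op).hom := by
    rintro _ _ e' rfl rfl
    exact h
  exact key _ _ _ V.ι_image_top W.ι_image_top

open AlgebraicGeometry CategoryTheory CategoryTheory.Limits in
/-- Let X be a scheme and U an open subscheme whose inclusion is quasi-compact, such that for every
point z of X outside U the maximal ideal of O_{X,z} contains two elements forming a weakly regular
sequence on that local ring. Then for every X-scheme Y that is affine and of finite presentation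
over X, the restriction map from X-sections of Y to U-sections of Y is bijective: every morphism U
-> Y over X extends uniquely to a section X -> Y. -/
theorem result (X : Scheme.{u}) (U : X.Opens) [QuasiCompact U.ι]
    (hZ : ∀ z : X, z ∉ U → ∃ a b : X.presheaf.stalk z, a ∈ IsLocalRing.maximalIdeal (X.presheaf.stalk z) ∧
      b ∈ IsLocalRing.maximalIdeal (X.presheaf.stalk z) ∧ RingTheory.Sequence.IsWeaklyRegular (X.presheaf.stalk z) [a, b])
    (Y : Scheme.{u}) (f : Y ⟶ X) [IsAffineHom f] [LocallyOfFinitePresentation f]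
    (t : (U : Scheme.{u}) ⟶ Y) (ht : t ≫ f = U.ι) :
    ∃! s : X ⟶ Y, s ≫ f = 𝟙 X ∧ U.ι ≫ s = t := by
  have hqc : ∀ V : X.affineOpens, IsCompact ((U ⊓ V.1 : X.Opens) : Set X) := fun V => by
    have := (U.ι.isCompact_preimage V.2.isCompact).image U.ι.continuous
    have h' : U.ι '' (U.ι ⁻¹' (V.1 : Set X)) = ((U ⊓ V.1 : X.Opens) : Set X) := by
      rw [Set.image_preimage_eq_inter_range, Scheme.Opens.range_ι, Set.inter_comm]
      rfl
    exact h' ▸ this
  have hbij : ∀ (V : X.affineOpens), Function.Bijective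
      (X.homOfLE (inf_le_right : U ⊓ V.1 ≤ V.1)).appTop.hom := fun V =>
    homOfLE_appTop_bijective _ (H8Props.HartogsTwo.bijective_restrict V.2 _ (hqc V)
      fun z hzV hzW => hZ z fun hzU => hzW ⟨hzU, hzV⟩)
  -- morphisms out of an affine open into an affine scheme are determined on `U ⊓ V`
  have hpre : ∀ (V : X.affineOpens) {A : Scheme.{u}} [IsAffine A]
      (g : ((U ⊓ V.1 : X.Opens) : Scheme.{u}) ⟶ A),
      ∃! h : (V.1 : Scheme.{u}) ⟶ A, X.homOfLE (inf_le_right : U ⊓ V.1 ≤ V.1) ≫ h = g :=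
    fun V {A} _ g => haveI : IsAffine V.1 := V.2; precomp_bijective _ (hbij V) g
  let IsSol (V : X.affineOpens) (s : (V.1 : Scheme.{u}) ⟶ Y) : Prop :=
    s ≫ f = V.1.ι ∧ X.homOfLE (inf_le_right : U ⊓ V.1 ≤ V.1) ≫ s =
      X.homOfLE (inf_le_left : U ⊓ V.1 ≤ U) ≫ t
  have hsol : ∀ V : X.affineOpens, ∃! s, IsSol V s := by
    intro V
    have : IsAffine (f ⁻¹ᵁ V.1) := V.2.preimage f
    have hrange : Set.range (X.homOfLE (inf_le_left : U ⊓ V.1 ≤ U) ≫ t) ⊆
        Set.range (f ⁻¹ᵁ V.1).ι := by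
      rintro _ ⟨z, rfl⟩
      rw [Scheme.Opens.range_ι]
      show f (t _) ∈ V.1
      rw [← Scheme.Hom.comp_apply t f, ht]
      have hz : U.ι (X.homOfLE (inf_le_left : U ⊓ V.1 ≤ U) z) = z.1 := Scheme.homOfLE_apply _ _
      exact hz ▸ z.2.2
    obtain ⟨h, hh, huniq⟩ := hpre V (IsOpenImmersion.lift (f ⁻¹ᵁ V.1).ι _ hrange)
    have hf : h ≫ (f ∣_ V.1) = 𝟙 _ := by
      haveI : IsAffine V.1 := V.2
      refine (hpre V _).unique (y₁ := h ≫ (f ∣_ V.1)) (y₂ := 𝟙 _) rfl ?_
      rw [Category.comp_id, reassoc_of% hh, ← cancel_mono V.1.ι, Category.assoc, morphismRestrict_ι,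
        IsOpenImmersion.lift_fac_assoc, Category.assoc, ht, Scheme.homOfLE_ι, Scheme.homOfLE_ι]
    refine ⟨h ≫ (f ⁻¹ᵁ V.1).ι, ⟨?_, ?_⟩, ?_⟩
    · rw [Category.assoc, ← morphismRestrict_ι, reassoc_of% hf]
    · rw [reassoc_of% hh, IsOpenImmersion.lift_fac]
    · rintro s ⟨hs1, hs2⟩
      have hsr : Set.range s ⊆ Set.range (f ⁻¹ᵁ V.1).ι := by
        rintro _ ⟨z, rfl⟩
        rw [Scheme.Opens.range_ι]
        show f (s z) ∈ V.1
        rw [← Scheme.Hom.comp_apply s f, hs1]
        exact z.2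
      have := huniq (IsOpenImmersion.lift (f ⁻¹ᵁ V.1).ι s hsr) (show _ = _ by
        rw [← cancel_mono (f ⁻¹ᵁ V.1).ι, Category.assoc, IsOpenImmersion.lift_fac,
          IsOpenImmersion.lift_fac, hs2])
      rw [← this, IsOpenImmersion.lift_fac]
  choose σ hσ hσu using hsol
  have hcompat : ∀ {V V' : X.affineOpens} (e : V ≤ V'), X.homOfLE e ≫ σ V' = σ V := by
    intro V V' e
    refine hσu V _ ⟨?_, ?_⟩
    · rw [Category.assoc, (hσ V').1, Scheme.homOfLE_ι]
    · rw [Scheme.homOfLE_homOfLE_assoc, ← Scheme.homOfLE_homOfLE_assoc X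
        (inf_le_inf_left U e) inf_le_right, (hσ V').2, Scheme.homOfLE_homOfLE_assoc]
  let s : X ⟶ Y := X.directedAffineCover.glueMorphismsOfLocallyDirected (fun V => σ V)
    fun hij => hcompat (leOfHom hij)
  have hs : ∀ V : X.affineOpens, V.1.ι ≫ s = σ V := fun V =>
    X.directedAffineCover.map_glueMorphismsOfLocallyDirected (fun V => σ V) _ V
  refine ⟨s, ⟨?_, ?_⟩, fun s' hs' => ?_⟩
  · refine X.directedAffineCover.hom_ext _ _ fun V => ?_
    show V.1.ι ≫ s ≫ f = V.1.ι ≫ 𝟙 X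
    rw [reassoc_of% (hs V), (hσ V).1, Category.comp_id]
  · refine Scheme.Cover.hom_ext (X.directedAffineCover.pullback₁ U.ι) _ _ fun V => ?_
    show pullback.fst U.ι (V : X.affineOpens).1.ι ≫ U.ι ≫ s = pullback.fst U.ι V.1.ι ≫ t
    rw [pullback.condition_assoc, hs V]
    have hr : Set.range (pullback.fst U.ι V.1.ι ≫ U.ι) ⊆ Set.range (U ⊓ V.1).ι := by
      rintro _ ⟨z, rfl⟩
      rw [Scheme.Opens.range_ι]
      refine ⟨?_, ?_⟩
      · rw [Scheme.Hom.comp_apply]; exact (pullback.fst U.ι V.1.ι z).2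
      · rw [pullback.condition, Scheme.Hom.comp_apply]; exact (pullback.snd U.ι V.1.ι z).2
    obtain ⟨k, hk⟩ : ∃ k, k ≫ (U ⊓ V.1).ι = pullback.fst U.ι V.1.ι ≫ U.ι :=
      ⟨IsOpenImmersion.lift _ _ hr, IsOpenImmersion.lift_fac _ _ _⟩
    have k1 : k ≫ X.homOfLE inf_le_left = pullback.fst U.ι V.1.ι := by
      rw [← cancel_mono U.ι, Category.assoc, Scheme.homOfLE_ι, hk]
    have k2 : k ≫ X.homOfLE inf_le_right = pullback.snd U.ι V.1.ι := by
      rw [← cancel_mono V.1.ι, Category.assoc, Scheme.homOfLE_ι, hk, pullback.condition]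
    rw [← k1, ← k2, Category.assoc, Category.assoc, (hσ V).2]
  · refine X.directedAffineCover.hom_ext _ _ fun V => ?_
    show V.1.ι ≫ s' = V.1.ι ≫ s
    rw [hs V]
    refine hσu V _ ⟨by rw [Category.assoc, hs'.1, Category.comp_id], ?_⟩
    rw [Scheme.homOfLE_ι_assoc, ← hs'.2, Scheme.homOfLE_ι_assoc]

end Groth.Agent.S14272
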