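import Groth.Statements.S2454
import Groth.Agent.H05EGA4.CohenMisc
import Groth.Agent.H05EGA4.CompleteCatenary
import Groth.Agent.H05EGA4.Completion
import Groth.Agent.S2630
import Groth.Agent.S2631

set_option autoImplicit false
universe u
open EGA41

open IsLocalRing Groth.Agent Groth.Agent.H05EGA4

namespace Groth.Agent.S2454

open IsLocalRing in
/-- Let A → B be a local homomorphism of Noetherian local rings making B a Cohen A-algebra. Then B, with
its adic topology, is formally smooth over A with its adic topology. -/
theorem result {A B : Type u} [CommRing A] [IsLocalRing A] [CommRing B] [IsLocalRing B]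
    [Algebra A B] [IsLocalHom (algebraMap A B)] (h : EGA41.IsCohenAlgebra A B) :
    EGA41.IsFormallySmoothAdic A (maximalIdeal A) B (maximalIdeal B) := by
  obtain ⟨-, -, -, _, hm, _⟩ := h
  have := formallySmooth_of_geometricallyReduced (ResidueField A) (ResidueField B)
  let e : ResidueField B ≃+* B ⧸ (maximalIdeal A).map (algebraMap A B) := Ideal.quotEquivOfEq hm.symm
  letI : Algebra (A ⧸ maximalIdeal A) (ResidueField B) := inferInstanceAs (Algebra (ResidueField A) (ResidueField B))
  have : Algebra.FormallySmooth (A ⧸ maximalIdeal A) (ResidueField B) :=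
    inferInstanceAs (Algebra.FormallySmooth (ResidueField A) (ResidueField B))
  have : Algebra.FormallySmooth (A ⧸ maximalIdeal A) (B ⧸ (maximalIdeal A).map (algebraMap A B)) :=
    Algebra.FormallySmooth.of_equiv
      (AlgEquiv.ofRingEquiv (f := e) fun x => by
        obtain ⟨a, rfl⟩ := Ideal.Quotient.mk_surjective x
        rfl)
  intro C _ _ J hJ hA u _
  obtain ⟨k, hk⟩ := hA
  exact exists_lift_of_flat_nilpotent B (maximalIdeal A) ⟨k, by rw [← Ideal.map_pow]; exact hk⟩ J hJ u


end Groth.Agent.S2454
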