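import Groth.Statements.S7372
-- import your own Groth.Agent.* helpers here
import Groth.Agent.H05EGA4.CurveNorm
import Groth.Agent.H26Blow.Proper
import Groth.Agent.H29Blow.Basic
import Groth.Agent.S1682
import Groth.Agent.S2348
import Groth.Agent.S2351
import Groth.Agent.S7684

set_option autoImplicit false
universe u
open CategoryTheory CategoryTheory.Limits AlgebraicGeometry
open Resolve

namespace Groth.Agent.S7372

open TopologicalSpace Groth.Agent

theorem isIso_restrict_of_le {X Y : Scheme.{u}} (f : X ⟶ Y) {U W : Y.Opens} (h : W ≤ U) [IsIso (f ∣_ U)] :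
    IsIso (f ∣_ W) := by
  have hW : U.ι ''ᵁ (U.ι ⁻¹ᵁ W) = W := by
    rw [Scheme.Hom.image_preimage_eq_opensRange_inf, Scheme.Opens.opensRange_ι]
    exact inf_eq_right.2 h
  have h1 : IsIso (f ∣_ U ∣_ (U.ι ⁻¹ᵁ W)) :=
    IsZariskiLocalAtTarget.restrict (P := MorphismProperty.isomorphisms Scheme) (f := f ∣_ U) ‹_› _
  have h2 : IsIso (f ∣_ U.ι ''ᵁ (U.ι ⁻¹ᵁ W)) :=
    ((MorphismProperty.isomorphisms Scheme).arrow_mk_iso_iff (morphismRestrictRestrict f U _)).1 h1
  rwa [hW] at h2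

theorem eq_of_map_eq_of_isIso {X Y : Scheme.{u}} (b : X ⟶ Y) (V : Y.Opens) [IsIso (b ∣_ V)] {x x' : X}
    (h : b x = b x') (hV : b x' ∈ V) : x = x' := by
  have hV' : b x ∈ V := h ▸ hV
  have hinj := (b ∣_ V).homeomorph.injective
  have : (⟨x, hV'⟩ : (b ⁻¹ᵁ V).toScheme) = ⟨x', hV⟩ := hinj (V.ι.isOpenEmbedding.injective
    ((congr($(morphismRestrict_ι b V) (⟨x, hV'⟩ : (b ⁻¹ᵁ V).toScheme))).trans
      (h.trans (congr($(morphismRestrict_ι b V) (⟨x', hV⟩ : (b ⁻¹ᵁ V).toScheme))).symm)))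
  exact congrArg (b ⁻¹ᵁ V).ι.base this

theorem isPrincipalIdealRing_stalk {N : Scheme.{u}} [IsIntegral N]
    (hN : ∀ U : N.affineOpens, (U.1 : Set N).Nonempty → IsDedekindDomain Γ(N, U.1)) (x : N) :
    IsPrincipalIdealRing (N.presheaf.stalk x) := by
  obtain ⟨W, hW, hx, -⟩ := exists_isAffineOpen_mem_and_subset (show x ∈ (⊤ : N.Opens) from trivial)
  haveI := hN ⟨W, hW⟩ ⟨x, hx⟩
  letI := TopCat.Presheaf.algebra_section_stalk N.presheaf ⟨x, hx⟩
  haveI := hW.isLocalization_stalk ⟨x, hx⟩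
  by_cases hp : (hW.primeIdealOf ⟨x, hx⟩).asIdeal = ⊥
  · have hF : IsField (N.presheaf.stalk x) := by
      rw [IsLocalRing.isField_iff_maximalIdeal_eq, ← IsLocalization.AtPrime.map_eq_maximalIdeal
        (hW.primeIdealOf ⟨x, hx⟩).asIdeal (N.presheaf.stalk x), hp, Ideal.map_bot]
    letI := hF.toField
    infer_instance
  · haveI := IsLocalization.AtPrime.isDiscreteValuationRing_of_dedekind_domain Γ(N, W) hp (N.presheaf.stalk x)
    infer_instance

theorem eq_of_specializes_of_isFinite {X Y : Scheme.{u}} (r : X ⟶ Y) [IsFinite r] (a b : X) (hab : a ⤳ b)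
    (h : r a = r b) : a = b := by
  haveI : DiscreteTopology ↥(r.base ⁻¹' {r b}) :=
    isDiscrete_iff_discreteTopology.1 (r.isDiscrete_preimage_singleton _)
  have h2 : (⟨a, h⟩ : ↥(r.base ⁻¹' {r b})) ⤳ ⟨b, rfl⟩ := (subtype_specializes_iff _ _).2 hab
  exact congrArg Subtype.val h2.eq

theorem isClosed_of_ne_generic {N Z Y : Scheme.{u}} [IsIntegral N] [IsIntegral Z] [IsIntegral Y] (r : Z ⟶ Y)
    [IsFinite r] (hdim : topologicalKrullDim Y ≤ 1) {ν : N ⟶ Y} (hν : ν (genericPoint N) = genericPoint Y)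
    {h : N ⟶ Z} (e : h ≫ r = ν) (hgenh : h (genericPoint N) = genericPoint Z) {z : Z} (hz : z ≠ genericPoint Z) :
    IsClosed ({z} : Set Z) := by
  letI := specializationOrder Y
  have hd : Order.krullDim Y ≤ 1 := by
    rw [← Order.krullDim_eq_of_orderIso (irreducibleSetEquivPoints (α := Y))]; exact hdim
  have hgen : r (genericPoint Z) = genericPoint Y := by rw [← hgenh, ← hν, ← e]; rfl
  have hne : r z ≠ genericPoint Y := fun hh => hz (eq_of_specializes_of_isFinite r _ _
    ((genericPoint_spec Z).specializes trivial) (hgen.trans hh.symm)).symm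
  rw [← closure_eq_iff_isClosed]
  refine Set.Subset.antisymm (fun w hw => ?_) subset_closure
  have hs : z ⤳ w := specializes_iff_mem_closure.2 hw
  refine (eq_of_specializes_of_isFinite r z w hs ?_).symm
  by_contra hne'
  have h1 : r w < r z := lt_of_le_of_ne (hs.map r.continuous) (Ne.symm hne')
  have h2 : r z < genericPoint Y := lt_of_le_of_ne ((genericPoint_spec Y).specializes trivial) hne
  rcases Order.krullDim_le_one_iff.1 hd (r z) with hmin | hmax
  · exact hmin.not_lt h1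
  · exact hmax.not_lt h2

theorem isEffCartier_comap_iso {X Y : Scheme.{u}} (e : X ⟶ Y) [IsIso e] {I : Y.IdealSheafData}
    (hI : BlowUp.IsEffCartierIdeal I) : BlowUp.IsEffCartierIdeal (I.comap e) := by
  intro x
  obtain ⟨U, hxU, f, hf, hIf⟩ := hI (e x)
  refine ⟨⟨e ⁻¹ᵁ U.1, U.2.preimage e⟩, hxU, (e.app U.1).hom f, ?_, ?_⟩
  · have hb : Function.Bijective (e.app U.1).hom := ConcreteCategory.bijective_of_isIso (e.app U.1)
    refine mem_nonZeroDivisors_iff_right.2 fun y hy => ?_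
    obtain ⟨y, rfl⟩ := hb.2 y
    rw [← map_mul] at hy
    rw [(mem_nonZeroDivisors_iff_right.1 hf) y (hb.1 (hy.trans (map_zero _).symm)), map_zero]
  · rw [H29Blow.ideal_comap I e U ⟨e ⁻¹ᵁ U.1, U.2.preimage e⟩ le_rfl, hIf, Ideal.map_span, Set.image_singleton,
      Scheme.Hom.appLE_eq_app]


theorem vanishing_ne_bot {Z : Scheme.{u}} [IsIntegral Z] (hη : ¬ IsClosed ({genericPoint Z} : Set Z)) {z : Z}
    (hz : IsClosed ({z} : Set Z)) : Scheme.IdealSheafData.vanishingIdeal ⟨{z}, hz⟩ ≠ ⊥ := by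
  intro h
  have h1 : (genericPoint Z) ∈ ((Scheme.IdealSheafData.vanishingIdeal ⟨{z}, hz⟩).support : Set Z) := by
    rw [h, Scheme.IdealSheafData.support_bot]; trivial
  rw [Scheme.IdealSheafData.coe_support_vanishingIdeal] at h1
  exact hη ((show genericPoint Z = z from h1) ▸ hz)

theorem step {Z' Z : Scheme.{u}} (b : Z' ⟶ Z) [IsIntegral Z] [IsNoetherian Z]
    (hη : ¬ IsClosed ({genericPoint Z} : Set Z)) {z : Z} (hz : IsClosed ({z} : Set Z))
    (hb : BlowUp.IsBlowUp b (Scheme.IdealSheafData.vanishingIdeal ⟨{z}, hz⟩)) :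
    ∃ (_ : IsIntegral Z') (_ : IsNoetherian Z'), IsProper b ∧ b (genericPoint Z') = genericPoint Z ∧
      ¬ IsClosed ({genericPoint Z'} : Set Z') ∧
      IsIso (b ∣_ (⟨{z}ᶜ, hz.isOpen_compl⟩ : Z.Opens)) := by
  obtain ⟨hint, hgen, -⟩ := S2348.result _ (vanishing_ne_bot hη hz) b hb
  haveI := hint
  haveI : IsProper b := H26Blow.isProper_of_isBlowUp hb fun w => by
    obtain ⟨U, hU, hw, -⟩ := exists_isAffineOpen_mem_and_subset (show w ∈ (⊤ : Z.Opens) from trivial)
    haveI : IsNoetherianRing Γ(Z, U) := IsLocallyNoetherian.component_noetherian ⟨U, hU⟩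
    exact ⟨⟨U, hU⟩, hw, IsNoetherian.noetherian _⟩
  haveI : CompactSpace Z' := QuasiCompact.compactSpace_of_compactSpace b
  haveI : IsLocallyNoetherian Z' := LocallyOfFiniteType.isLocallyNoetherian b
  haveI : IsNoetherian Z' := ⟨⟩
  refine ⟨hint, inferInstance, inferInstance, hgen, fun h => hη ?_, ?_⟩
  · have := b.isClosedMap _ h
    rwa [Set.image_singleton, hgen] at this
  · have he : (Scheme.IdealSheafData.vanishingIdeal ⟨{z}, hz⟩).support.compl = (⟨{z}ᶜ, hz.isOpen_compl⟩ : Z.Opens) :=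
      Opens.ext (by
        show ((Scheme.IdealSheafData.vanishingIdeal ⟨{z}, hz⟩).support : Set Z)ᶜ = _
        rw [Scheme.IdealSheafData.coe_support_vanishingIdeal]; rfl)
    exact he ▸ S1682.result _ b hb

theorem seq_props {Y X : Scheme.{u}} {g : Y ⟶ X} (hg : Resolve.IsPtBlowupSeq g) :
    ∀ [IsIntegral X] [IsNoetherian X], ¬ IsClosed ({genericPoint X} : Set X) →
      IsIntegral Y ∧ IsNoetherian Y ∧ IsProper g ∧ (∃ hi : IsIntegral Y, ¬ IsClosed ({genericPoint Y} : Set Y)) ∧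
        ∃ V : X.Opens, (V : Set X).Nonempty ∧ IsIso (g ∣_ V) := by
  induction hg with
  | @iso Y X e =>
    intro hX hX' hη
    haveI : Nonempty Y := ⟨e.inv (genericPoint X)⟩
    haveI : IsIntegral Y := isIntegral_of_isOpenImmersion e.hom
    haveI : CompactSpace Y := QuasiCompact.compactSpace_of_compactSpace e.hom
    haveI : IsLocallyNoetherian Y := LocallyOfFiniteType.isLocallyNoetherian e.hom
    refine ⟨inferInstance, ⟨⟩, inferInstance, ⟨inferInstance, fun h => hη ?_⟩, ⊤, ⟨genericPoint X, trivial⟩, inferInstance⟩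
    have := e.hom.isClosedMap _ h
    rwa [Set.image_singleton, genericPoint_eq_of_isOpenImmersion e.hom] at this
  | @step Y Z X b r z hz hb hr ih =>
    intro hX hX' hη
    obtain ⟨hZ, hZ', hp, ⟨_, hηZ⟩, V, hV, hi⟩ := ih hη
    haveI := hZ; haveI := hZ'; haveI := hp; haveI := hi
    obtain ⟨hY, hY', hpb, hgen, hηY, hib⟩ := step b hηZ hz hb
    haveI := hY; haveI := hY'; haveI := hpb
    refine ⟨hY, hY', inferInstance, ⟨hY, hηY⟩, ?_⟩
    let W : X.Opens := ⟨(r.base '' {z})ᶜ, (r.isClosedMap _ hz).isOpen_compl⟩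
    have hW : genericPoint X ∈ W := by
      rintro ⟨w, hw, he⟩
      exact hη (by rw [← he, ← Set.image_singleton]; exact r.isClosedMap _ ((show w = z from hw) ▸ hz))
    refine ⟨V ⊓ W, ⟨genericPoint X, ((genericPoint_spec X).mem_open_set_iff V.2).2 ⟨_, trivial, hV.choose_spec⟩, hW⟩, ?_⟩
    have h1 : IsIso (r ∣_ (V ⊓ W)) := isIso_restrict_of_le r inf_le_left
    have h2 : IsIso (b ∣_ (r ⁻¹ᵁ (V ⊓ W))) := by
      haveI := hib
      exact isIso_restrict_of_le b (U := ⟨{z}ᶜ, hz.isOpen_compl⟩) fun w hw hwz => hw.2 ⟨w, hwz, rfl⟩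
    rw [morphismRestrict_comp]
    exact IsIso.comp_isIso' h2 h1

theorem appLE_injective {X Y : Scheme.{u}} (g : X ⟶ Y) [IsIntegral Y] [IsDominant g] (U : Y.Opens) (V : X.Opens)
    (hV : V = g ⁻¹ᵁ U) : Function.Injective (g.appLE U V hV.le).hom := by
  subst hV
  refine (injective_iff_map_eq_zero _).2 fun a ha => ?_
  rw [← AlgebraicGeometry.basicOpen_eq_bot_iff]
  by_contra hne
  obtain ⟨w, hw⟩ := g.denseRange.exists_mem_open (Y.basicOpen a).2
    (Set.nonempty_iff_ne_empty.2 fun h => hne (SetLike.coe_injective h))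
  have h1 : w ∈ g ⁻¹ᵁ Y.basicOpen a := hw
  rw [Scheme.preimage_basicOpen] at h1
  rw [Scheme.Hom.appLE_eq_app] at ha
  rw [show g.app U a = 0 from ha, Scheme.basicOpen_zero] at h1
  exact h1

/-- The image of the sections of an intermediate curve in those of the normalization. -/
noncomputable def imMod {N Z Y : Scheme.{u}} (h : N ⟶ Z) (r : Z ⟶ Y) (ν : N ⟶ Y) (e : h ≫ r = ν) (U : Y.Opens) :
    letI := (ν.app U).hom.toAlgebra
    Submodule Γ(Y, U) Γ(N, ν ⁻¹ᵁ U) :=
  letI := (ν.app U).hom.toAlgebra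
  { carrier := Set.range (h.appLE (r ⁻¹ᵁ U) (ν ⁻¹ᵁ U) (by rw [← e]; exact le_rfl)).hom
    add_mem' := by rintro _ _ ⟨a, rfl⟩ ⟨b, rfl⟩; exact ⟨a + b, map_add _ _ _⟩
    zero_mem' := ⟨0, map_zero _⟩
    smul_mem' := by
      rintro c _ ⟨a, rfl⟩
      refine ⟨r.app U c * a, ?_⟩
      rw [map_mul, Algebra.smul_def]
      subst e
      congr 1
      show _ = ((h ≫ r).app U).hom c
      simp [Scheme.Hom.appLE]
      rfl }

/-- A nonzero ideal sheaf on a Dedekind scheme is effective Cartier. -/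
theorem isEffCartier_of_dedekind {N : Scheme.{u}} [IsIntegral N]
    (hN : ∀ U : N.affineOpens, (U.1 : Set N).Nonempty → IsDedekindDomain Γ(N, U.1))
    (J : N.IdealSheafData) (hJ : genericPoint N ∉ (J.support : Set N)) : BlowUp.IsEffCartierIdeal J := by
  intro x
  obtain ⟨W, hW, hx, -⟩ := exists_isAffineOpen_mem_and_subset (show x ∈ (⊤ : N.Opens) from trivial)
  haveI := hN ⟨W, hW⟩ ⟨x, hx⟩
  have hηW : genericPoint N ∈ W := ((genericPoint_spec N).mem_open_set_iff W.2).2 ⟨x, trivial, hx⟩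
  have hne : J.ideal ⟨W, hW⟩ ≠ ⊥ := by
    intro h0
    refine hJ ?_
    have h1 : genericPoint N ∈ N.zeroLocus (U := W) (J.ideal ⟨W, hW⟩ : Set Γ(N, W)) ∩ (W : Set N) := by
      refine ⟨(Scheme.mem_zeroLocus_iff N _ _).2 fun f hf hmem => ?_, hηW⟩
      rw [h0] at hf
      obtain rfl : f = 0 := hf
      rw [Scheme.basicOpen_zero] at hmem
      exact hmem
    rw [← J.coe_support_inter ⟨W, hW⟩] at h1
    exact h1.1
  let p := (hW.primeIdealOf ⟨x, hx⟩).asIdeal
  letI := TopCat.Presheaf.algebra_section_stalk N.presheaf ⟨x, hx⟩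
  haveI := hW.isLocalization_stalk ⟨x, hx⟩
  haveI : IsPrincipalIdealRing (N.presheaf.stalk x) := isPrincipalIdealRing_stalk hN x
  obtain ⟨t, ht⟩ := (IsPrincipalIdealRing.principal
    ((J.ideal ⟨W, hW⟩).map (algebraMap Γ(N, W) (N.presheaf.stalk x)))).principal
  -- a generator in the ideal
  have ht' : t ∈ (J.ideal ⟨W, hW⟩).map (algebraMap Γ(N, W) (N.presheaf.stalk x)) := by
    rw [ht]; exact Submodule.mem_span_singleton_self t
  obtain ⟨⟨⟨a, ha⟩, s⟩, has⟩ := (IsLocalization.mem_map_algebraMap_iff p.primeCompl (N.presheaf.stalk x)).1 ht'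
  have hspan : (J.ideal ⟨W, hW⟩).map (algebraMap Γ(N, W) (N.presheaf.stalk x)) =
      Ideal.span {algebraMap Γ(N, W) (N.presheaf.stalk x) a} := by
    rw [ht]
    show Ideal.span {t} = _
    rw [← has, Ideal.span_singleton_mul_right_unit (IsLocalization.map_units _ s)]
  haveI : IsNoetherianRing Γ(N, W) := inferInstance
  obtain ⟨S, hS⟩ := IsNoetherian.noetherian (J.ideal ⟨W, hW⟩)
  have hd : ∀ w ∈ J.ideal ⟨W, hW⟩, ∃ c : p.primeCompl, (c : Γ(N, W)) * w ∈ Ideal.span {a} := by
    intro w hw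
    have h1 : algebraMap Γ(N, W) (N.presheaf.stalk x) w ∈ (Ideal.span {a}).map (algebraMap Γ(N, W) (N.presheaf.stalk x)) := by
      rw [Ideal.map_span, Set.image_singleton, ← hspan]
      exact Ideal.mem_map_of_mem _ hw
    obtain ⟨c, hc, hcw⟩ := (IsLocalization.algebraMap_mem_map_algebraMap_iff p.primeCompl (N.presheaf.stalk x) _ _).1 h1
    exact ⟨⟨c, hc⟩, hcw⟩
  classical
  choose c hc using hd
  let c₀ : p.primeCompl := ∏ w ∈ S.attach, c w.1 (hS ▸ Submodule.subset_span w.2)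
  have hc₀ : ∀ w ∈ J.ideal ⟨W, hW⟩, (c₀ : Γ(N, W)) * w ∈ Ideal.span {a} := by
    intro w hw
    rw [← hS] at hw
    induction hw using Submodule.span_induction with
    | mem v hv =>
      obtain ⟨d, hd⟩ := Finset.dvd_prod_of_mem (fun w : {w // w ∈ S} => c w.1 (hS ▸ Submodule.subset_span w.2))
        (Finset.mem_attach S ⟨v, hv⟩)
      show ((c₀ : p.primeCompl) : Γ(N, W)) * v ∈ _
      rw [show c₀ = _ * d from hd, Submonoid.coe_mul, mul_comm _ (d : Γ(N, W)), mul_assoc]
      exact Ideal.mul_mem_left _ _ (hc v (hS ▸ Submodule.subset_span hv))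
    | zero => simp
    | add v v' _ _ h1 h2 => rw [mul_add]; exact add_mem h1 h2
    | smul r v _ h1 => rw [smul_eq_mul, mul_left_comm]; exact Ideal.mul_mem_left _ r h1
  have hxc : x ∈ N.basicOpen (c₀ : Γ(N, W)) := by
    rw [N.mem_basicOpen (hx := hx)]
    exact IsLocalization.map_units (N.presheaf.stalk x) c₀
  have hle : N.basicOpen (c₀ : Γ(N, W)) ≤ W := N.basicOpen_le _
  let O : N.affineOpens := ⟨N.basicOpen (c₀ : Γ(N, W)), hW.basicOpen _⟩
  let res := (N.presheaf.map (homOfLE hle).op).hom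
  have hu : IsUnit (res c₀) := RingedSpace.isUnit_res_basicOpen _ (c₀ : Γ(N, W))
  refine ⟨O, hxc, res a, ?_, ?_⟩
  · have hane : a ≠ 0 := fun h0 => hne ((Submodule.eq_bot_iff _).2 fun w hw => by
      have h1 := hc₀ w hw
      rw [h0, Ideal.span_singleton_zero, Ideal.mem_bot] at h1
      refine (mul_eq_zero.1 h1).resolve_left fun h2 => c₀.2 ?_
      rw [h2]; exact zero_mem _)
    haveI : Nonempty O.1 := ⟨⟨x, hxc⟩⟩
    haveI : IsDomain Γ(N, O.1) := IsIntegral.component_integral O.1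
    refine mem_nonZeroDivisors_of_ne_zero fun h0 => hane ?_
    haveI : Nonempty W := ⟨⟨x, hx⟩⟩
    exact map_injective_of_isIntegral N (homOfLE hle) (h0.trans (map_zero res).symm)
  · rw [← J.map_ideal (U := O) (V := ⟨W, hW⟩) hle]
    refine le_antisymm (Ideal.map_le_iff_le_comap.2 fun w hw => ?_) (Ideal.span_le.2 ?_)
    · have h1 := Ideal.mem_map_of_mem res (hc₀ w hw)
      rw [Ideal.map_span, Set.image_singleton, map_mul] at h1
      exact (Ideal.unit_mul_mem_iff_mem _ hu).1 h1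
    · rintro _ rfl
      exact Ideal.mem_map_of_mem res ha

/-- A closed point with invertible ideal on a curve is regular. -/
theorem regular_of_effCartier {Z : Scheme.{u}} [IsIntegral Z] [IsLocallyNoetherian Z]
    (hη : ¬ IsClosed ({genericPoint Z} : Set Z)) {z : Z} (hz : IsClosed ({z} : Set Z))
    (hI : BlowUp.IsEffCartierIdeal (Scheme.IdealSheafData.vanishingIdeal ⟨{z}, hz⟩)) :
    IsRegularLocalRing (Z.presheaf.stalk z) := by
  obtain ⟨⟨U, hU⟩, hzU, f, -, hf⟩ := hI z
  replace hU : IsAffineOpen U := hU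
  letI := TopCat.Presheaf.algebra_section_stalk Z.presheaf ⟨z, hzU⟩
  haveI := hU.isLocalization_stalk ⟨z, hzU⟩
  have hmax : (hU.primeIdealOf ⟨z, hzU⟩).asIdeal = Ideal.span {f} := by
    rw [← hf, Scheme.IdealSheafData.vanishingIdeal_ideal]
    have hset : hU.fromSpec ⁻¹' ({z} : Set Z) = {hU.primeIdealOf ⟨z, hzU⟩} := by
      ext q
      simp only [Set.mem_preimage, Set.mem_singleton_iff]
      constructor
      · intro hq
        exact hU.fromSpec.isOpenEmbedding.injective (hq.trans (hU.fromSpec_primeIdealOf ⟨z, hzU⟩).symm)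
      · rintro rfl; exact hU.fromSpec_primeIdealOf ⟨z, hzU⟩
    show _ = PrimeSpectrum.vanishingIdeal (hU.fromSpec ⁻¹' ({z} : Set Z))
    exact ((congrArg PrimeSpectrum.vanishingIdeal hset).trans (PrimeSpectrum.vanishingIdeal_singleton _)).symm
  haveI : IsNoetherianRing (Z.presheaf.stalk z) := inferInstance
  refine IsRegularLocalRing.of_spanFinrank_maximalIdeal_le _ ?_
  have hle : (IsLocalRing.maximalIdeal (Z.presheaf.stalk z)).spanFinrank ≤ 1 := by
    rw [← IsLocalization.AtPrime.map_eq_maximalIdeal (hU.primeIdealOf ⟨z, hzU⟩).asIdeal (Z.presheaf.stalk z),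
      hmax, Ideal.map_span, Set.image_singleton]
    exact (Submodule.spanFinrank_span_le_ncard_of_finite (Set.finite_singleton _)).trans (Set.ncard_singleton _).le
  refine le_trans (WithBot.coe_le_coe.2 (Nat.cast_le.2 hle)) ?_
  rw [ringKrullDim_stalk_eq_coheight]
  refine WithBot.coe_le_coe.2 ?_
  rw [Nat.cast_one, Order.one_le_iff_pos, pos_iff_ne_zero]
  intro h0
  letI := specializationOrder Z
  have hm : IsMax z := Order.coheight_eq_zero.1 h0
  have hle' : z ≤ genericPoint Z := (genericPoint_spec Z).specializes trivial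
  exact hη ((le_antisymm hle' (hm hle') : z = genericPoint Z) ▸ hz)

theorem exists_seq_of_finite (Y : Scheme.{u}) [IsIntegral Y] [IsNoetherian Y] (hdim : topologicalKrullDim Y ≤ 1)
    (hη : ¬ IsClosed ({genericPoint Y} : Set Y)) {N : Scheme.{u}} [IsIntegral N] (ν : N ⟶ Y) [IsFinite ν]
    (hν : ν (genericPoint N) = genericPoint Y)
    (hN : ∀ U : N.affineOpens, (U.1 : Set N).Nonempty → IsDedekindDomain Γ(N, U.1)) :
    ∃ (Y' : Scheme.{u}) (g : Y' ⟶ Y), Resolve.IsPtBlowupSeq g ∧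
      ∀ y : Y', IsRegularLocalRing (Y'.presheaf.stalk y) := by
  classical
  obtain ⟨s, hs⟩ := (isCompact_univ (X := Y)).elim_finite_subcover (fun U : Y.affineOpens => (U.1 : Set Y))
    (fun U => U.1.2) (fun y _ => by
      obtain ⟨U, hU, hy, -⟩ := exists_isAffineOpen_mem_and_subset (show y ∈ (⊤ : Y.Opens) from trivial)
      exact Set.mem_iUnion.2 ⟨⟨U, hU⟩, hy⟩)
  letI alg : ∀ U : {U // U ∈ s}, Algebra Γ(Y, U.1.1) Γ(N, ν ⁻¹ᵁ U.1.1) := fun U => (ν.app U.1.1).hom.toAlgebra
  haveI : ∀ U : {U // U ∈ s}, _root_.IsNoetherian Γ(Y, U.1.1) Γ(N, ν ⁻¹ᵁ U.1.1) := fun U => by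
    haveI : IsNoetherianRing Γ(Y, U.1.1) := IsLocallyNoetherian.component_noetherian U.1
    haveI : Module.Finite Γ(Y, U.1.1) Γ(N, ν ⁻¹ᵁ U.1.1) := (isFinite_iff ν).1 ‹_› |>.2 U.1.1 U.1.2
    exact isNoetherian_of_isNoetherianRing_of_finite _ _
  haveI : WellFoundedGT (∀ U : {U // U ∈ s}, Submodule Γ(Y, U.1.1) Γ(N, ν ⁻¹ᵁ U.1.1)) :=
    ⟨(Pi.wellFoundedLT (α := fun U : {U // U ∈ s} => (Submodule Γ(Y, U.1.1) Γ(N, ν ⁻¹ᵁ U.1.1))ᵒᵈ)).wf⟩
  suffices key : ∀ (M : ∀ U : {U // U ∈ s}, Submodule Γ(Y, U.1.1) Γ(N, ν ⁻¹ᵁ U.1.1)) (Z : Scheme.{u}) (r : Z ⟶ Y)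
      (h : N ⟶ Z) (e : h ≫ r = ν), Resolve.IsPtBlowupSeq r → IsIntegral Z → IsNoetherian Z → IsFinite r →
      (∀ U, M U = imMod h r ν e U.1.1) →
      ∃ (Y' : Scheme.{u}) (g : Y' ⟶ Y), Resolve.IsPtBlowupSeq g ∧
        ∀ y : Y', IsRegularLocalRing (Y'.presheaf.stalk y) by
    exact key _ Y (𝟙 Y) ν (Category.comp_id _) (Resolve.IsPtBlowupSeq.iso (Iso.refl Y)) inferInstance inferInstance
      inferInstance (fun U => rfl)
  intro M
  induction M using WellFoundedGT.induction with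
  | ind M ih =>
    intro Z r h e hr hZ hZ' hrf hM
    haveI := hZ; haveI := hZ'; haveI := hrf
    obtain ⟨-, -, -, ⟨_, hηZ⟩, -⟩ := seq_props hr hη
    by_cases hreg : ∀ z : Z, IsRegularLocalRing (Z.presheaf.stalk z)
    · exact ⟨Z, r, hr, hreg⟩
    push Not at hreg
    obtain ⟨z, hzreg⟩ := hreg
    -- generic points and surjectivity
    haveI : IsFinite (h ≫ r) := e ▸ ‹IsFinite ν›
    haveI : IsFinite h := MorphismProperty.of_postcomp (W := @IsFinite) (W' := @IsSeparated) h r inferInstance inferInstance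
    have hr0 : r (genericPoint Z) = r (h (genericPoint N)) := by
      have h1 : r (h (genericPoint N)) = genericPoint Y := by rw [← hν, ← e]; rfl
      rw [h1]
      refine (genericPoint_spec Y).specializes trivial |>.antisymm ?_ |>.eq.symm
      rw [← h1]
      exact ((genericPoint_spec Z).specializes trivial).map r.continuous
    have hfib := fun a b => eq_of_specializes_of_isFinite r a b
    have hgenh : h (genericPoint N) = genericPoint Z :=
      (hfib _ _ ((genericPoint_spec Z).specializes trivial) hr0).symm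
    haveI : IsDominant h := ⟨fun w => closure_mono
      (s := ({genericPoint Z} : Set Z)) (t := Set.range h.base) (fun v hv => ⟨genericPoint N, hgenh.trans hv.symm⟩)
      (specializes_iff_mem_closure.1 ((genericPoint_spec Z).specializes trivial))⟩
    have hzη : z ≠ genericPoint Z := by
      intro hzη
      subst hzη
      exact hzreg (by show IsRegularLocalRing Z.functionField; infer_instance)
    have hz : IsClosed ({z} : Set Z) := isClosed_of_ne_generic r hdim hν e hgenh hzη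
    obtain ⟨Z', b, hb⟩ := H26Blow.exists_isBlowUp (Scheme.IdealSheafData.vanishingIdeal ⟨{z}, hz⟩)
    obtain ⟨hZi, hZn, hbp, hgenb, hηZ', -⟩ := step b hηZ hz hb
    haveI := hZi; haveI := hZn; haveI := hbp
    have hcart : BlowUp.IsEffCartierIdeal ((Scheme.IdealSheafData.vanishingIdeal ⟨{z}, hz⟩).comap h) := by
      refine isEffCartier_of_dedekind hN _ fun hmem => hzη ?_
      rw [Scheme.IdealSheafData.support_comap] at hmem
      have h1 : h (genericPoint N) ∈ ((Scheme.IdealSheafData.vanishingIdeal ⟨{z}, hz⟩).support : Set Z) := hmem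
      rw [Scheme.IdealSheafData.coe_support_vanishingIdeal] at h1
      exact (hgenh.symm.trans h1).symm
    obtain ⟨h', hh', -⟩ := hb.2 N h hcart
    have e' : h' ≫ b ≫ r = ν := by rw [← Category.assoc, hh', e]
    haveI : IsFinite (h' ≫ b ≫ r) := e' ▸ ‹IsFinite ν›
    haveI : IsFinite h' := MorphismProperty.of_postcomp (W := @IsFinite) (W' := @IsSeparated) h' (b ≫ r) inferInstance inferInstance
    have hgenh' : h' (genericPoint N) = genericPoint Z' := by
      have hib := (step b hηZ hz hb).2.2.2.2.2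
      haveI := hib
      have hηV : genericPoint Z ∈ (⟨{z}ᶜ, hz.isOpen_compl⟩ : Z.Opens) := fun h => hzη h.symm
      have hbeq : b (h' (genericPoint N)) = b (genericPoint Z') := by
        rw [hgenb, ← hgenh, ← hh']; rfl
      exact eq_of_map_eq_of_isIso b (⟨{z}ᶜ, hz.isOpen_compl⟩ : Z.Opens) hbeq (by rw [hgenb]; exact hηV)
    haveI : IsDominant h' := ⟨fun w => closure_mono
      (s := ({genericPoint Z'} : Set Z')) (t := Set.range h'.base) (fun v hv => ⟨genericPoint N, hgenh'.trans hv.symm⟩)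
      (specializes_iff_mem_closure.1 ((genericPoint_spec Z').specializes trivial))⟩
    have hsurj : ∀ w : Z', w ∈ Set.range h'.base := fun w => by
      have hd : w ∈ closure (Set.range h') := h'.denseRange w
      rwa [h'.isClosedMap.isClosed_range.closure_eq] at hd
    haveI hr'f : IsFinite (b ≫ r) := by
      haveI : LocallyQuasiFinite (b ≫ r) := by
        refine locallyQuasiFinite_iff_finite_preimage_singleton.2 fun y => ?_
        refine ((ν.finite_preimage_singleton y).image h'.base).subset fun w hw => ?_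
        obtain ⟨n, rfl⟩ := hsurj w
        refine ⟨n, ?_, rfl⟩
        show ν n = y
        rw [← e']
        exact hw
      exact IsFinite.of_isProper_of_locallyQuasiFinite (b ≫ r)
    have hmono : ∀ U : {U // U ∈ s}, imMod h r ν e U.1.1 ≤ imMod h' (b ≫ r) ν e' U.1.1 := by
      rintro U _ ⟨a, rfl⟩
      refine ⟨b.app _ a, ?_⟩
      subst hh'
      rw [Scheme.Hom.comp_appLE]
      rfl
    refine ih (fun U => imMod h' (b ≫ r) ν e' U.1.1) ?_ Z' (b ≫ r) h' e'
      (Resolve.IsPtBlowupSeq.step b r z hz hb hr) hZi hZn hr'f (fun U => rfl)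
    refine lt_of_le_of_ne (fun U => (hM U).le.trans (hmono U)) fun heq => hzreg ?_
    have happ : ∀ U : {U // U ∈ s}, Function.Bijective (b.app (r ⁻¹ᵁ U.1.1)) := by
      intro U
      refine ⟨fun a a' haa => appLE_injective h (r ⁻¹ᵁ U.1.1) (ν ⁻¹ᵁ U.1.1) (by rw [← e, Scheme.Hom.comp_preimage]) ?_, fun w => ?_⟩
      · subst hh'
        rw [Scheme.Hom.comp_appLE]
        exact congrArg (h'.appLE _ _ _).hom haa
      · obtain ⟨a, ha⟩ : (h'.appLE ((b ≫ r) ⁻¹ᵁ U.1.1) (ν ⁻¹ᵁ U.1.1) (by rw [← e']; exact le_rfl)).hom w ∈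
            imMod h r ν e U.1.1 := by
          rw [← hM U, congrFun heq U]
          exact ⟨w, rfl⟩
        refine ⟨a, appLE_injective h' ((b ≫ r) ⁻¹ᵁ U.1.1) (ν ⁻¹ᵁ U.1.1) (by rw [← e', Scheme.Hom.comp_preimage]) ?_⟩
        refine Eq.trans ?_ ha
        subst hh'
        rw [Scheme.Hom.comp_appLE]
        rfl
    have hbiso : IsIso b := by
      refine (IsZariskiLocalAtTarget.iff_of_iSup_eq_top (P := MorphismProperty.isomorphisms Scheme)
        (fun U : {U // U ∈ s} => r ⁻¹ᵁ U.1.1) ?_).2 fun U => ?_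
      · refine eq_top_iff.2 fun w _ => ?_
        obtain ⟨U, hU⟩ := Set.mem_iUnion₂.1 (hs (Set.mem_univ (r w)))
        exact Opens.mem_iSup.2 ⟨⟨U, hU.1⟩, hU.2⟩
      · haveI : IsAffine (r ⁻¹ᵁ U.1.1).toScheme := U.1.2.preimage r
        have hVa : IsAffineOpen (b ⁻¹ᵁ (r ⁻¹ᵁ U.1.1)) := by
          have := U.1.2.preimage (b ≫ r); exact this
        haveI : IsAffine (b ⁻¹ᵁ (r ⁻¹ᵁ U.1.1)).toScheme := hVa
        haveI : IsIso ((b ∣_ r ⁻¹ᵁ U.1.1).appTop) := by
          rw [morphismRestrict_appTop]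
          haveI : IsIso (b.app (r ⁻¹ᵁ U.1.1)) := (ConcreteCategory.isIso_iff_bijective _).2 (happ U)
          haveI h1 : IsIso (b.app ((r ⁻¹ᵁ U.1.1).ι ''ᵁ ⊤)) := by rw [Scheme.Opens.ι_image_top]; infer_instance
          exact @IsIso.comp_isIso _ _ _ _ _ _ _ h1 (Functor.map_isIso _ _)
        exact (HasAffineProperty.iff_of_isAffine (P := MorphismProperty.isomorphisms Scheme)).2
          ⟨inferInstance, inferInstance⟩
    haveI := hbiso
    refine regular_of_effCartier hηZ hz ?_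
    have h2 : BlowUp.IsEffCartierIdeal (((Scheme.IdealSheafData.vanishingIdeal ⟨{z}, hz⟩).comap b).comap (inv b)) :=
      isEffCartier_comap_iso (inv b) hb.1
    rwa [← Scheme.IdealSheafData.comap_comp, IsIso.inv_hom_id, Scheme.IdealSheafData.comap_id] at h2


/-- Let Y be an integral Noetherian scheme of dimension one. Then Y has a resolution of singularities (a
proper morphism X → Y from an integral scheme with regular local rings which is an isomorphism over
a nonempty open of Y) if and only if there is a finite sequence of blowings up in closed points Y_n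
→ Y_{n-1} → … → Y_1 → Y with Y_n regular (all local rings regular). -/
theorem result (Y : Scheme.{u}) [IsIntegral Y] [IsNoetherian Y]
    (hdim : topologicalKrullDim Y = 1) :
    (∃ (X : Scheme.{u}) (g : X ⟶ Y), IsProper g ∧ IsIntegral X ∧
        (∃ V : Y.Opens, (V : Set Y).Nonempty ∧ IsIso (g ∣_ V)) ∧ ∀ x : X, IsRegularLocalRing (X.presheaf.stalk x)) ↔
      ∃ (Y' : Scheme.{u}) (g : Y' ⟶ Y), Resolve.IsPtBlowupSeq g ∧ ∀ y : Y', IsRegularLocalRing (Y'.presheaf.stalk y) := by
  have hη : ¬ IsClosed ({genericPoint Y} : Set Y) := fun h => by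
    haveI : Subsingleton Y := ⟨fun a b => by
      have key : ∀ c : Y, c = genericPoint Y := fun c => by
        have h1 := specializes_iff_mem_closure.1 ((genericPoint_spec Y).specializes (y := c) trivial)
        rwa [h.closure_eq] at h1
      rw [key a, key b]⟩
    have := topologicalKrullDim_zero_of_discreteTopology Y
    rw [hdim] at this
    exact absurd this (by decide)
  constructor
  · rintro ⟨X, g, hp, hX, ⟨V, hV, hi⟩, hreg⟩
    haveI := hi
    have halt : Curv2.IsAlteration g := by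
      refine ⟨hp, hX, inferInstance, ⟨(V.2.dense hV).mono fun y hy => ?_⟩, V, hV, inferInstance⟩
      exact ⟨_, (congr($(morphismRestrict_ι g V) (inv (g ∣_ V) ⟨y, hy⟩))).symm.trans
        (congrArg V.ι (congr($(IsIso.inv_hom_id (g ∣_ V)) ⟨y, hy⟩)))⟩
    haveI : QuasiCompact (Y.fromSpecStalk (genericPoint Y)) := inferInstance
    haveI : QuasiSeparated (Y.fromSpecStalk (genericPoint Y)) := inferInstance
    haveI : IsFinite (Curv2.normalizationι Y) := H05EGA4.CurveNorm.isFinite_normalizationι Y hdim.le g halt hreg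
    obtain ⟨_, -, -, hgen, -⟩ := S2351.result Y
    obtain ⟨-, -, -, hded⟩ := S7684.result Y hdim
    exact exists_seq_of_finite Y hdim.le hη (Curv2.normalizationι Y) hgen hded
  · rintro ⟨Y', g, hg, hreg⟩
    obtain ⟨hY', -, hp, -, hV⟩ := seq_props hg hη
    exact ⟨Y', g, hp, hY', hV, hreg⟩

end Groth.Agent.S7372
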