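import Groth.Statements.S7373
import Groth.Agent.S7372
import Groth.Agent.H11Strict.ClosedImm
import Groth.Agent.H26Blow.Exists

set_option autoImplicit false
set_option linter.style.haveILetI false
universe u
open CategoryTheory CategoryTheory.Limits AlgebraicGeometry
open Resolve

namespace Groth.Agent.S7373

open TopologicalSpace Groth.Agent

/-- Membership in the ideal sheaf of a closed point. -/
theorem mem_vanishing_point {X : Scheme.{u}} {x : X} (hx : IsClosed ({x} : Set X)) (V : X.affineOpens) (b : Γ(X, V.1)) :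
    b ∈ (Scheme.IdealSheafData.vanishingIdeal ⟨{x}, hx⟩).ideal V ↔ x ∉ X.basicOpen b := by
  rw [Scheme.IdealSheafData.vanishingIdeal_ideal]
  show b ∈ PrimeSpectrum.vanishingIdeal (V.2.fromSpec ⁻¹' ({x} : Set X)) ↔ _
  rw [PrimeSpectrum.mem_vanishingIdeal]
  constructor
  · intro h hb
    obtain ⟨q, hq⟩ : x ∈ Set.range V.2.fromSpec := by
      rw [V.2.range_fromSpec]; exact X.basicOpen_le b hb
    have hq' : q ∈ V.2.fromSpec ⁻¹ᵁ X.basicOpen b := by show V.2.fromSpec q ∈ X.basicOpen b; rw [hq]; exact hb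
    rw [V.2.fromSpec_preimage_basicOpen] at hq'
    exact hq' (h q hq)
  · intro h q hq
    by_contra hbq
    refine h ?_
    have hq' : q ∈ V.2.fromSpec ⁻¹ᵁ X.basicOpen b := by rw [V.2.fromSpec_preimage_basicOpen]; exact hbq
    rw [← (show V.2.fromSpec q = x from hq)]
    exact hq'

/-- The ideal of a closed point pulls back to the ideal of the point along a closed immersion. -/
theorem comap_vanishing_point {Z X : Scheme.{u}} (i : Z ⟶ X) [IsClosedImmersion i] {z : Z}
    (hz : IsClosed ({z} : Set Z)) (hx : IsClosed ({i z} : Set X)) :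
    (Scheme.IdealSheafData.vanishingIdeal ⟨{i z}, hx⟩).comap i = Scheme.IdealSheafData.vanishingIdeal ⟨{z}, hz⟩ := by
  refine H29Blow.ext_of_forall_exists fun w => ?_
  obtain ⟨V, hV, hwV, -⟩ := exists_isAffineOpen_mem_and_subset (show i w ∈ (⊤ : X.Opens) from trivial)
  refine ⟨⟨i ⁻¹ᵁ V, hV.preimage i⟩, hwV, ?_⟩
  rw [H29Blow.ideal_comap _ i ⟨V, hV⟩ ⟨i ⁻¹ᵁ V, hV.preimage i⟩ le_rfl, Scheme.Hom.appLE_eq_app]
  refine le_antisymm (Ideal.map_le_iff_le_comap.2 fun b hb => ?_) fun a ha => ?_
  · rw [Ideal.mem_comap, mem_vanishing_point, ← Scheme.preimage_basicOpen]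
    exact (mem_vanishing_point hx ⟨V, hV⟩ b).1 hb
  · obtain ⟨b, rfl⟩ := Scheme.Hom.app_surjective i V hV a
    refine Ideal.mem_map_of_mem _ ((mem_vanishing_point hx ⟨V, hV⟩ b).2 fun h => ?_)
    refine (mem_vanishing_point hz ⟨i ⁻¹ᵁ V, hV.preimage i⟩ _).1 ha ?_
    rw [← Scheme.preimage_basicOpen]
    exact h

/-- A sequence of point blowups of a closed subscheme extends to the ambient scheme. -/
theorem lift_seq {Yn Y : Scheme.{u}} {g : Yn ⟶ Y} (hg : Resolve.IsPtBlowupSeq g) :
    ∀ (X : Scheme.{u}) (i : Y ⟶ X) [IsClosedImmersion i],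
      ∃ (X' : Scheme.{u}) (G : X' ⟶ X), Resolve.IsPtBlowupSeq G ∧
        ∃ k : Yn ⟶ X', IsClosedImmersion k ∧ k ≫ G = g ≫ i := by
  induction hg with
  | @iso Yn Y e =>
    intro X i _
    exact ⟨X, (Iso.refl X).hom, Resolve.IsPtBlowupSeq.iso _, e.hom ≫ i, inferInstance, Category.comp_id _⟩
  | @step Yn Z Y b r z hz hb hr ih =>
    intro X i _
    obtain ⟨X₁, G₁, hG₁, k, hk, hkG⟩ := ih X i
    haveI := hk
    have hx : IsClosed ({k z} : Set X₁) := by
      rw [← Set.image_singleton]; exact k.isClosedEmbedding.isClosedMap _ hz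
    obtain ⟨X₂, b₂, hb₂⟩ := H26Blow.exists_isBlowUp (Scheme.IdealSheafData.vanishingIdeal ⟨{k z}, hx⟩)
    have hb' : BlowUp.IsBlowUp b ((Scheme.IdealSheafData.vanishingIdeal ⟨{k z}, hx⟩).comap k) := by
      rw [comap_vanishing_point k hz hx]; exact hb
    obtain ⟨k₂, hk₂, -⟩ := hb₂.2 Yn (b ≫ k) (by rw [Scheme.IdealSheafData.comap_comp]; exact hb'.1)
    exact ⟨X₂, b₂ ≫ G₁, Resolve.IsPtBlowupSeq.step b₂ G₁ (k z) hx hb₂ hG₁, k₂,
      (H11Strict.isClosedImmersion_of_isBlowUp _ k b₂ hb₂ b hb' k₂ hk₂).1,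
      by rw [← Category.assoc, hk₂, Category.assoc, hkG, Category.assoc]⟩

/-- Let X be a Noetherian scheme and Y ⊂ X an integral closed subscheme of dimension one (given by its
ideal sheaf I) whose normalization morphism is finite. Then there is a finite sequence of blowings
up in closed points g : X' → X such that the strict transform Y' of Y in X' is a regular curve: an
integral closed subscheme Y' ⊂ X' (ideal I') mapped by g into Y, isomorphically over a nonempty open
of Y, all of whose local rings are regular. (The quasi-compactness and quasi-separatedness binders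
on Spec K(Y) → Y always hold.) -/
theorem result (X : Scheme.{u}) [IsNoetherian X] (I : X.IdealSheafData)
    [IsIntegral I.subscheme] (hdim : topologicalKrullDim ↥I.subscheme = 1)
    [QuasiCompact (I.subscheme.fromSpecStalk (genericPoint ↥I.subscheme))]
    [QuasiSeparated (I.subscheme.fromSpecStalk (genericPoint ↥I.subscheme))]
    (hfin : IsFinite (Curv2.normalizationι I.subscheme)) :
    ∃ (X' : Scheme.{u}) (g : X' ⟶ X), Resolve.IsPtBlowupSeq g ∧
      ∃ (I' : X'.IdealSheafData) (g' : I'.subscheme ⟶ I.subscheme), IsIntegral I'.subscheme ∧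
        g' ≫ I.subschemeι = I'.subschemeι ≫ g ∧
        (∃ V : I.subscheme.Opens, (V : Set ↥I.subscheme).Nonempty ∧ IsIso (g' ∣_ V)) ∧
        ∀ y : ↥I'.subscheme, IsRegularLocalRing (I'.subscheme.presheaf.stalk y) := by
  haveI : IsNoetherian I.subscheme := by
    haveI : CompactSpace I.subscheme := QuasiCompact.compactSpace_of_compactSpace I.subschemeι
    haveI : IsLocallyNoetherian I.subscheme := LocallyOfFiniteType.isLocallyNoetherian I.subschemeι
    exact ⟨⟩
  have hη : ¬ IsClosed ({genericPoint I.subscheme} : Set I.subscheme) := fun h => by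
    haveI : Subsingleton I.subscheme := ⟨fun a b => by
      have key : ∀ c : I.subscheme, c = genericPoint I.subscheme := fun c => by
        have h1 := specializes_iff_mem_closure.1 ((genericPoint_spec I.subscheme).specializes (y := c) trivial)
        rwa [h.closure_eq] at h1
      rw [key a, key b]⟩
    have := topologicalKrullDim_zero_of_discreteTopology I.subscheme
    rw [hdim] at this
    exact absurd this (by decide)
  obtain ⟨_, -, -, hgen, -⟩ := S2351.result I.subscheme
  obtain ⟨-, -, -, hded⟩ := S7684.result I.subscheme hdim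
  haveI := hfin
  obtain ⟨Yn, g, hg, hreg⟩ := S7372.exists_seq_of_finite I.subscheme hdim.le hη (Curv2.normalizationι I.subscheme) hgen hded
  obtain ⟨hY, -, -, -, V, hV, hiso⟩ := S7372.seq_props hg hη
  haveI := hY
  obtain ⟨X', G, hG, k, hk, hkG⟩ := lift_seq hg X I.subschemeι
  haveI := hk
  haveI : IsIso k.toImage := inferInstance
  refine ⟨X', G, hG, k.ker, inv k.toImage ≫ g, ?_, ?_, ⟨V, hV, ?_⟩, fun y => ?_⟩
  · haveI : Nonempty k.ker.subscheme := ⟨k.toImage (genericPoint Yn)⟩
    exact isIntegral_of_isOpenImmersion (inv k.toImage)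
  · have h1 : k.toImage ≫ k.ker.subschemeι = k := k.toImage_imageι
    rw [Category.assoc, ← hkG, IsIso.inv_comp_eq]
    exact (congrArg (· ≫ G) h1).symm.trans (Category.assoc _ _ _)
  · haveI := hiso
    rw [morphismRestrict_comp]
    exact IsIso.comp_isIso' (IsZariskiLocalAtTarget.restrict (P := MorphismProperty.isomorphisms Scheme) (f := inv k.toImage) (inferInstanceAs (IsIso (inv k.toImage))) _) hiso
  · haveI := hreg ((inv k.toImage) y)
    exact IsRegularLocalRing.of_ringEquiv (asIso ((inv k.toImage).stalkMap y)).commRingCatIsoToRingEquiv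

end Groth.Agent.S7373
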