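import Groth.Statements.S3833
import Groth.Agent.H12AlgSp.DenseEtale
import Mathlib

set_option autoImplicit false
universe u
open CategoryTheory CategoryTheory.Limits AlgebraicGeometry TopologicalSpace
open Rat20

open Groth.Agent.H12AlgSp
namespace Groth.Agent.S3833

/-- Stated for a global section, the case of a section over an open subset U being the same statement
for the open subscheme U: let X be a scheme and s a global section of O_X which is regular in the
sense that its germ at every point x is a non-zero-divisor of the local ring O_{X,x} (on an affine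
scheme this is the same as being a non-zero-divisor of Γ(X, O_X), but not in general). Then the open
subset X_s where s is invertible is schematically dense in X. -/
theorem result (X : Scheme.{u}) (s : Γ(X, ⊤))
    (hs : ∀ x : ↥X, (X.presheaf.germ ⊤ x trivial s) ∈ nonZeroDivisors ↑(X.presheaf.stalk x)) :
    CInt.IsSchematicallyDense (X.basicOpen s) := by
  rw [Dense.isSchematicallyDense_iff]
  intro V t ht
  refine Dense.eq_zero_of_germ fun x hx => ?_
  obtain ⟨V', hV', hxV', hle⟩ := exists_isAffineOpen_mem_and_subset (x := x) (U := V) hx
  let t' := X.presheaf.map (homOfLE hle).op t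
  have ht' : Dense.Killed (X.basicOpen s) t' := ht.map hle
  let s' := X.presheaf.map (homOfLE (le_top : V' ≤ ⊤)).op s
  haveI := hV'.isLocalization_basicOpen s'
  have hzero : algebraMap Γ(X, V') Γ(X, X.basicOpen s') t' = 0 := by
    show X.presheaf.map (homOfLE (X.basicOpen_le s')).op t' = 0
    refine Dense.eq_zero_of_germ fun y hy => ?_
    rw [Dense.germ_map]
    refine ht' y (X.basicOpen_le s' hy) ?_
    rw [Scheme.basicOpen_res] at hy
    exact hy.2
  obtain ⟨⟨_, n, rfl⟩, hn⟩ := (IsLocalization.map_eq_zero_iff (Submonoid.powers s') Γ(X, X.basicOpen s') t').mp hzero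
  have h1 : X.presheaf.germ V' x hxV' (s' ^ n * t') = 0 := (congrArg _ hn).trans (map_zero _)
  have hs' : X.presheaf.germ V' x hxV' s' = X.presheaf.germ ⊤ x trivial s := Dense.germ_map _ x hxV' s
  have ht'' : X.presheaf.germ V' x hxV' t' = X.presheaf.germ V x hx t := Dense.germ_map hle x hxV' t
  rw [map_mul, map_pow, hs', ht''] at h1
  exact (mem_nonZeroDivisors_iff_right.mp (pow_mem (hs x) n)) _ (by rw [mul_comm]; exact h1)

end Groth.Agent.S3833
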