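-- statement FlatMor.GrothFrozen.S1254 (Groth/Statements/S1254.lean; the theorem FlatMor.projective_localization_of_flat_fp_of_completeDevissage);
import Groth.Statements.S1254
import Groth.Agent.H7Flat.DevissageSpread

set_option autoImplicit false
universe u
open FlatMor

namespace Groth.Agent.S1254

/-- Let S be a finitely presented R-algebra, N a finitely presented S-module which is flat over R, and 𝔯
a prime of R such that N/S/R admits a complete dévissage over 𝔯. Then for some f ∈ R outside 𝔯 the
localization N_f is projective over R_f, and is R_f-isomorphic to a finite product of free modules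
B_i^{r_i} over smooth R_f-algebras B_i whose fibres are geometrically irreducible. -/
theorem result {R S : Type u} [CommRing R] [CommRing S] [Algebra R S] [Algebra.FinitePresentation R S]
    (N : Type u) [AddCommGroup N] [Module S N] [Module R N] [IsScalarTower R S N] [Module.FinitePresentation S N] [Module.Flat R N]
    (rr : Ideal R) [rr.IsPrime] (D : FlatCA.CompleteDevissage R S N rr) :
    ∃ f : R, f ∉ rr ∧
      Module.Projective (Localization.Away f) (LocalizedModule (Submonoid.powers f) N) ∧
      ∃ (k : ℕ) (B : Fin k → Type u) (_ : ∀ i, CommRing (B i)) (_ : ∀ i, Algebra (Localization.Away f) (B i)) (r : Fin k → ℕ),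
        (∀ i, Algebra.Smooth (Localization.Away f) (B i) ∧ FlatCA.GeomIrredFibres (Localization.Away f) (B i)) ∧
        Nonempty (LocalizedModule (Submonoid.powers f) N ≃ₗ[Localization.Away f] (∀ i, Fin (r i) → B i)) := by
  classical
  haveI tRAM : ∀ i, IsScalarTower R (D.A i) (D.M i) := fun i => .of_algebraMap_smul fun x y => by
    rw [IsScalarTower.algebraMap_apply R (D.B i) (D.A i), algebraMap_smul, algebraMap_smul]
  haveI tRBM' : ∀ i, IsScalarTower R (D.B i) (D.M (i + 1)) := fun i => .of_algebraMap_smul fun x y => by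
    rw [← algebraMap_smul (D.A (i + 1)) (algebraMap R (D.B i) x) y, ← IsScalarTower.algebraMap_apply,
      algebraMap_smul]
  haveI : IsScalarTower R S (D.M 0) := .of_algebraMap_smul fun x y => by
    rw [← algebraMap_smul (D.A 0) (algebraMap R S x) y, ← IsScalarTower.algebraMap_apply, algebraMap_smul]
  have hsmooth : ∀ i, i < D.n → Algebra.Smooth R (D.B i) := D.smooth
  have hpow : ∀ {A : Type u} [CommRing A] [Algebra R A] (a : R),
      (∀ t ∈ Submonoid.powers a, algebraMap R A t ∈ Submonoid.powers (algebraMap R A a)) ∧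
      ∀ c ∈ Submonoid.powers (algebraMap R A a), ∃ t ∈ Submonoid.powers a, c ∣ algebraMap R A t := by
    intro A _ _ a
    refine ⟨?_, ?_⟩
    · rintro _ ⟨k, rfl⟩; exact ⟨k, (map_pow _ _ _).symm⟩
    · rintro _ ⟨k, rfl⟩; exact ⟨a ^ k, ⟨k, rfl⟩, by rw [map_pow]⟩
  have hFB : ∀ i, i < D.n → Algebra.FinitePresentation R (D.A i) →
      Module.FinitePresentation (D.B i) (D.A i) := fun i hi _ => by
    haveI := D.finiteBA i hi; haveI := hsmooth i hi
    haveI : Algebra.FinitePresentation (D.B i) (D.A i) :=
      Algebra.FinitePresentation.of_restrict_scalars_finitePresentation R (D.B i) (D.A i)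
    exact Module.FinitePresentation.of_finite_of_finitePresentation (D.B i) (D.A i)
  -- the modules are finitely presented and flat near `rr`
  have hchain : ∀ i, i < D.n → Module.FinitePresentation (D.B i) (D.M i) ∧
      ∃ g : R, g ∉ rr ∧ Module.Flat R (LocalizedModule (Submonoid.powers g) (D.M i)) := by
    intro i
    induction i with
    | zero =>
      intro hi
      haveI := D.fpSA; haveI := D.finiteM 0 hi
      haveI : Module.Finite S (D.A 0) := Module.Finite.of_surjective (Algebra.linearMap S (D.A 0)) D.surjSA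
      haveI : Module.FinitePresentation S (D.M 0) := Module.FinitePresentation.of_equiv D.isoN
      haveI : Module.FinitePresentation (D.A 0) (D.M 0) := H7Flat.DevissageChain.fp_of_restrictScalars (D := S)
      haveI := hFB 0 hi (Algebra.FinitePresentation.trans R S (D.A 0))
      refine ⟨Module.FinitePresentation.trans (D.B 0) (D.M 0) (D.A 0), 1,
        fun h => Ideal.IsPrime.ne_top inferInstance ((Ideal.eq_top_iff_one rr).mpr h), ?_⟩
      haveI : Module.Flat R (D.M 0) := Module.Flat.of_linearEquiv (D.isoN.restrictScalars R).symm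
      exact (H7Flat.FlatAtFinite.flat_localizedModule_iff R (Submonoid.powers (1 : R)) (D.M 0)).mpr
        fun a z hz => ⟨1, one_mem _, by
          rw [one_smul]
          exact Module.Flat.lTensor_preserves_injective_linearMap a.subtype a.subtype_injective
            (hz.trans (map_zero _).symm)⟩
    | succ i ih =>
      intro hi
      obtain ⟨hfp, g, hg, hfl⟩ := ih (by omega)
      haveI := hfp
      haveI := hsmooth i (by omega)
      obtain ⟨g', hg', -, -, hC⟩ := H7Flat.DevissageSpread.exists_step (D.geomIrred i (by omega)) (D.M i) rr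
        (D.α i) (D.fibreIso i (by omega)) g hg
        ((H7Flat.DevissageLoc.flat_localizedModule_comap (S := R) (C := D.B i) (D.M i) _ _
          (hpow g).1 (hpow g).2).mp hfl)
      haveI : Module.FinitePresentation (D.B i) (D.M i ⧸ LinearMap.range (D.α i)) :=
        Module.finitePresentation_of_surjective (LinearMap.range (D.α i)).mkQ
          (LinearMap.range (D.α i)).mkQ_surjective
          (by rw [Submodule.ker_mkQ, LinearMap.range_eq_map]; exact Module.Finite.fg_top.map (D.α i))
      haveI : Module.FinitePresentation (D.B i) (D.M (i + 1)) :=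
        Module.FinitePresentation.of_equiv (D.isoCoker i hi)
      haveI := D.fpBA' i hi; haveI := D.finiteM (i + 1) hi
      haveI : Module.Finite (D.B i) (D.A (i + 1)) :=
        Module.Finite.of_surjective (Algebra.linearMap (D.B i) (D.A (i + 1))) (D.surjBA' i hi)
      haveI : Module.FinitePresentation (D.A (i + 1)) (D.M (i + 1)) :=
        H7Flat.DevissageChain.fp_of_restrictScalars (D := D.B i)
      haveI := hFB (i + 1) hi (Algebra.FinitePresentation.trans R (D.B i) (D.A (i + 1)))
      refine ⟨Module.FinitePresentation.trans (D.B (i + 1)) (D.M (i + 1)) (D.A (i + 1)), g', hg', ?_⟩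
      haveI : Module.Flat R (LocalizedModule (Submonoid.powers g') (D.M i ⧸ LinearMap.range (D.α i))) :=
        (H7Flat.DevissageLoc.flat_localizedModule_comap (S := R) (C := D.B i) _ _ _
          (hpow g').1 (hpow g').2).mpr hC
      haveI := IsLocalizedModule.of_linearEquiv_right (Submonoid.powers g')
        (LocalizedModule.mkLinearMap (Submonoid.powers g') (D.M i ⧸ LinearMap.range (D.α i)))
        ((D.isoCoker i hi).restrictScalars R).symm
      exact Module.Flat.of_linearEquiv (IsLocalizedModule.iso (Submonoid.powers g')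
        (LocalizedModule.mkLinearMap (Submonoid.powers g') (D.M i ⧸ LinearMap.range (D.α i)) ∘ₗ
          ((D.isoCoker i hi).restrictScalars R).symm.toLinearMap))
  have hG : ∀ i : Fin D.n, ∃ g : R, g ∉ rr ∧
      Function.Injective (LocalizedModule.map (Submonoid.powers (algebraMap R (D.B i) g)) (D.α i)) := fun i => by
    obtain ⟨hfp, g, hg, hfl⟩ := hchain i i.2
    haveI := hfp; haveI := hsmooth i i.2
    obtain ⟨g', hg', -, hinj, -⟩ := H7Flat.DevissageSpread.exists_step (D.geomIrred i i.2) (D.M i) rr
        (D.α i) (D.fibreIso i i.2) g hg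
        ((H7Flat.DevissageLoc.flat_localizedModule_comap (S := R) (C := D.B i) (D.M i) _ _
          (hpow g).1 (hpow g).2).mp hfl)
    exact ⟨g', hg', hinj⟩
  choose G hGr hGinj using hG
  let f := ∏ i, G i
  have hf : f ∉ rr := fun h => by
    obtain ⟨i, -, hi⟩ := Ideal.IsPrime.prod_mem_iff.mp h
    exact hGr i hi
  have hinj : ∀ i, i < D.n →
      Function.Injective (LocalizedModule.map (Submonoid.powers (algebraMap R (D.B i) f)) (D.α i)) :=
    fun i hi => by
      obtain ⟨c, hc⟩ : G ⟨i, hi⟩ ∣ f := Finset.dvd_prod_of_mem G (Finset.mem_univ _)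
      refine (H7Flat.FiberBasis.injective_map_iff _ (D.α i)).mpr fun x hx => ?_
      obtain ⟨_, ⟨k, rfl⟩, hk⟩ := (H7Flat.FiberBasis.injective_map_iff _ (D.α i)).mp (hGinj ⟨i, hi⟩) x hx
      refine ⟨algebraMap R (D.B i) f ^ k, ⟨k, rfl⟩, ?_⟩
      rw [hc, map_mul, mul_pow, mul_comm, mul_smul]
      rw [show algebraMap R (D.B i) (G ⟨i, hi⟩) ^ k • x = 0 from hk, smul_zero]
  let Rf := Localization.Away f
  let B' : ℕ → Type u := fun i => Localization (Algebra.algebraMapSubmonoid (D.B i) (Submonoid.powers f))
  let X : ℕ → Type u := fun i => LocalizedModule (Submonoid.powers f) (D.M i)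
  have hpush : ∀ i, Algebra.IsPushout R Rf (D.B i) (B' i) := fun i =>
    (Algebra.isPushout_of_isLocalization (Submonoid.powers f) Rf (D.B i) (B' i)).symm
  have hsm' : ∀ i, i < D.n → Algebra.Smooth Rf (B' i) := fun i hi => by
    haveI := hsmooth i hi; haveI := hpush i
    exact Algebra.Smooth.of_equiv (Algebra.IsPushout.equiv R Rf (D.B i) (B' i))
  have hgi' : ∀ i, i < D.n → FlatCA.GeomIrredFibres Rf (B' i) := fun i hi => by
    haveI := hpush i
    exact H7Flat.DevissageSpread.geomIrred_baseChange (D.geomIrred i hi)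
  have hprojF : ∀ i, i < D.n → Module.Projective Rf (Fin (D.r i) → B' i) := fun i hi => by
    haveI := hsm' i hi
    haveI := H7Flat.DevissageChain.projective (R := Rf) (hgi' i hi)
    exact Module.Projective.of_equiv (DirectSum.linearEquivFunOnFintype Rf (Fin (D.r i)) fun _ => B' i)
  have hdown : ∀ k i, i + k + 1 = D.n → Module.Projective Rf (X i) ∧
      (i + 1 = D.n → Nonempty (X i ≃ₗ[Rf] (Fin (D.r i) → B' i))) ∧
      (i + 1 < D.n → Nonempty (X i ≃ₗ[Rf] (Fin (D.r i) → B' i) × X (i + 1))) := by
    intro k
    induction k with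
    | zero =>
      intro i hi
      haveI := hprojF i (by omega)
      let Q := D.M i ⧸ LinearMap.range (D.α i)
      haveI : Subsingleton Q := Submodule.Quotient.subsingleton_iff.mpr (LinearMap.range_eq_top.mpr (by
        rw [show i = D.n - 1 by omega]; exact D.cokerLast))
      obtain ⟨e⟩ := H7Flat.DevissageSpread.nonempty_equiv (M' := Q) (D.α i)
        ((LinearMap.range (D.α i)).mkQ.restrictScalars R) (LinearMap.exact_map_mkQ_range (D.α i))
        (LinearMap.range (D.α i)).mkQ_surjective f (hinj i (by omega))
      haveI : Unique (LocalizedModule (Submonoid.powers f) Q) := uniqueOfSubsingleton 0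
      let e' : X i ≃ₗ[Rf] (Fin (D.r i) → B' i) :=
        e ≪≫ₗ LinearEquiv.ofBijective (LinearMap.fst Rf _ _) ⟨fun a b h =>
          Prod.ext h (Subsingleton.elim _ _), fun a => ⟨(a, 0), rfl⟩⟩
      exact ⟨Module.Projective.of_equiv e'.symm, fun _ => ⟨e'⟩, fun h => absurd h (by omega)⟩
    | succ k ih =>
      intro i hi
      obtain ⟨hP, -, -⟩ := ih (i + 1) (by omega)
      haveI := hprojF i (by omega)
      haveI := hP
      obtain ⟨e⟩ := H7Flat.DevissageSpread.nonempty_equiv (M' := D.M (i + 1)) (D.α i)
        (((D.isoCoker i (by omega)).toLinearMap ∘ₗ (LinearMap.range (D.α i)).mkQ).restrictScalars R)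
        (fun y => by
          show D.isoCoker i (by omega) ((LinearMap.range (D.α i)).mkQ y) = 0 ↔ _
          rw [LinearEquiv.map_eq_zero_iff]
          exact (LinearMap.exact_map_mkQ_range (D.α i)) y)
        ((D.isoCoker i (by omega)).surjective.comp (LinearMap.range (D.α i)).mkQ_surjective) f (hinj i (by omega))
      haveI : Module.Projective Rf ((Fin (D.r i) → B' i) × X (i + 1)) := inferInstance
      exact ⟨Module.Projective.of_equiv e.symm, fun h => absurd h (by omega), fun _ => ⟨e⟩⟩
  obtain ⟨m, hm⟩ : ∃ m, D.n = m + 1 := ⟨D.n - 1, by have := D.pos; omega⟩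
  obtain ⟨eX⟩ := H7Flat.DevissageChain.nonempty_equiv (R := Rf) m X (fun i => Fin (D.r i) → B' i)
    (fun i hi => (hdown (D.n - i - 1) i (by omega)).2.2 (by omega)) ((hdown 0 m (by omega)).2.1 (by omega))
  haveI hX0 : Module.Projective Rf (X 0) := (hdown m 0 (by omega)).1
  haveI := IsLocalizedModule.of_linearEquiv_right (Submonoid.powers f)
    (LocalizedModule.mkLinearMap (Submonoid.powers f) (D.M 0)) (D.isoN.restrictScalars R)
  let eN : LocalizedModule (Submonoid.powers f) N ≃ₗ[Rf] X 0 :=
    LinearEquiv.extendScalarsOfIsLocalization (Submonoid.powers f) Rf (IsLocalizedModule.iso (Submonoid.powers f)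
      (LocalizedModule.mkLinearMap (Submonoid.powers f) (D.M 0) ∘ₗ (D.isoN.restrictScalars R).toLinearMap))
  exact ⟨f, hf, Module.Projective.of_equiv eN.symm, m + 1, fun i => B' i, fun i => inferInstance,
    fun i => inferInstance, fun i => D.r i,
    fun i => ⟨hsm' i (by omega), hgi' i (by omega)⟩, ⟨eN ≪≫ₗ eX⟩⟩

end Groth.Agent.S1254
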