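import Groth.Statements.S2069
import Mathlib.RingTheory.Ideal.AssociatedPrime.Basic
import Mathlib.RingTheory.Flat.Basic
import Mathlib.LinearAlgebra.TensorProduct.Pi
import Mathlib.LinearAlgebra.DirectSum.Finsupp
import Mathlib.RingTheory.LocalRing.ResidueField.Ideal
import Mathlib.Algebra.Module.LocalizedModule.Basic
import Mathlib.Algebra.Module.Torsion.Basic
import Mathlib.LinearAlgebra.FreeModule.Basic
import Mathlib.LinearAlgebra.Dimension.DivisionRing
-- import your own Groth.Agent.* helpers here

set_option autoImplicit false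
universe u
open CAlg

namespace Groth.Agent.S2069

open TensorProduct

variable {R S : Type u} [CommRing R] [CommRing S] [Algebra R S] {N : Type u} [AddCommGroup N] [Module S N]
  [Module R N] [IsScalarTower R S N]

theorem isAssociatedPrime_of_ann {X : Type u} [AddCommGroup X] [Module S X] {P : Ideal S} (hP : P.IsPrime) (x : X)
    (h1 : ∀ a : S, a • x = 0 → a ∈ P) (h2 : ∀ a ∈ P, ∃ n : ℕ, a ^ n • x = 0) : IsAssociatedPrime P X := by
  refine ⟨hP, x, le_antisymm (fun a ha => ?_) ?_⟩
  · obtain ⟨n, hn⟩ := h2 a ha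
    exact ⟨n, by rw [Submodule.mem_colon_singleton, Submodule.mem_bot]; exact hn⟩
  · rintro a ⟨n, hn⟩
    rw [Submodule.mem_colon_singleton, Submodule.mem_bot] at hn
    exact hP.mem_of_pow_mem n (h1 _ hn)

theorem exists_component {X : Type u} [AddCommGroup X] [Module S X] {P : Ideal S} (hP : P.IsPrime) {ι : Type u}
    (F : Finset ι) (w : ι → X) (h : ∀ a : S, (∀ i ∈ F, a • w i = 0) → a ∈ P) :
    ∃ i ∈ F, ∀ a : S, a • w i = 0 → a ∈ P := by
  classical
  by_contra hc
  push_neg at hc
  choose t ht htP using hc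
  have h1 : ∏ i : F, t i i.2 ∈ P := h _ fun i hi => by
    rw [← Finset.prod_erase_mul Finset.univ _ (Finset.mem_univ ⟨i, hi⟩), mul_smul, ht, smul_zero]
  obtain ⟨i, -, hi⟩ := hP.prod_mem_iff.mp h1
  exact htP i i.2 hi

variable (N) in
theorem lTensor_smul {X Y : Type u} [AddCommGroup X] [AddCommGroup Y] [Module R X] [Module R Y] (f : X →ₗ[R] Y)
    (a : S) (z : N ⊗[R] X) : f.lTensor N (a • z) = a • f.lTensor N z := by
  induction z using TensorProduct.induction_on with
  | zero => simp
  | tmul x y => simp [TensorProduct.smul_tmul']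
  | add x y hx hy => simp only [smul_add, map_add, hx, hy]

variable (N) in
/-- `f ⊗ N` as an `S`-linear map. -/
noncomputable def lMap {X Y : Type u} [AddCommGroup X] [AddCommGroup Y] [Module R X] [Module R Y] (f : X →ₗ[R] Y) :
    N ⊗[R] X →ₗ[S] N ⊗[R] Y :=
  { toFun := f.lTensor N, map_add' := map_add _, map_smul' := lTensor_smul N f }

variable (S N) in
/-- `N ⊗ R/p ≅ N/pN` over `S`. -/
theorem quotEquiv (p : Ideal R) :
    Nonempty ((N ⊗[R] (R ⧸ p)) ≃ₗ[S] N ⧸ p.map (algebraMap R S) • (⊤ : Submodule S N)) := by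
  set P := p.map (algebraMap R S) • (⊤ : Submodule S N)
  have hker : ∀ a ∈ p, ∀ n : N, a • n ∈ P := fun a ha n => by
    rw [← algebraMap_smul S a n]; exact Submodule.smul_mem_smul (Ideal.mem_map_of_mem _ ha) trivial
  let g : R ⧸ p →ₗ[R] N →ₗ[R] N ⧸ P :=
    Submodule.liftQ p ((LinearMap.lsmul R (N ⧸ P)).compl₂ (P.mkQ.restrictScalars R)) fun a ha =>
      LinearMap.ext fun n => by
        show a • P.mkQ n = 0
        rw [← LinearMap.map_smul_of_tower P.mkQ a n, Submodule.mkQ_apply, Submodule.Quotient.mk_eq_zero]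
        exact hker a ha n
  let f₀ : N ⊗[R] (R ⧸ p) →ₗ[R] N ⧸ P := TensorProduct.lift g.flip
  let f : N ⊗[R] (R ⧸ p) →ₗ[S] N ⧸ P :=
    { toFun := f₀
      map_add' := map_add _
      map_smul' := fun a z => by
        rw [RingHom.id_apply]
        induction z using TensorProduct.induction_on with
        | zero => simp
        | tmul n y =>
          obtain ⟨y, rfl⟩ := Submodule.Quotient.mk_surjective _ y
          show f₀ ((a • n) ⊗ₜ Submodule.Quotient.mk y) = a • f₀ (n ⊗ₜ Submodule.Quotient.mk y)
          show y • P.mkQ (a • n) = a • (y • P.mkQ n)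
          rw [map_smul, smul_comm]
        | add x y hx hy => rw [smul_add, map_add, map_add, hx, hy, smul_add] }
  let h₀ : N →ₗ[S] N ⊗[R] (R ⧸ p) :=
    { toFun := fun n => n ⊗ₜ Submodule.Quotient.mk 1
      map_add' := fun a b => TensorProduct.add_tmul a b _
      map_smul' := fun a n => (TensorProduct.smul_tmul' a n _).symm }
  have hle : P ≤ LinearMap.ker h₀ := by
    refine Submodule.smul_le.mpr fun a ha n _ => ?_
    induction ha using Submodule.span_induction with
    | mem a ha =>
      obtain ⟨a, ha, rfl⟩ := ha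
      rw [algebraMap_smul]
      show (a • n) ⊗ₜ[R] (Submodule.Quotient.mk 1 : R ⧸ p) = 0
      rw [TensorProduct.smul_tmul, ← Submodule.Quotient.mk_smul, smul_eq_mul, mul_one,
        (Submodule.Quotient.mk_eq_zero p).mpr ha, TensorProduct.tmul_zero]
    | zero => rw [zero_smul]; exact zero_mem _
    | add u v _ _ hu hv => rw [add_smul]; exact add_mem hu hv
    | smul c u _ hu => rw [smul_assoc]; exact Submodule.smul_mem _ c hu
  refine ⟨LinearEquiv.ofLinearMap f (P.liftQ h₀ hle) ?_ ?_⟩
  · refine Submodule.linearMap_qext _ (LinearMap.ext fun n => ?_)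
    show (1 : R) • P.mkQ n = P.mkQ n
    rw [one_smul]
  · refine LinearMap.ext fun z => ?_
    induction z using TensorProduct.induction_on with
    | zero => simp
    | tmul n y =>
      obtain ⟨y, rfl⟩ := Submodule.Quotient.mk_surjective _ y
      show P.liftQ h₀ hle (y • P.mkQ n) = n ⊗ₜ Submodule.Quotient.mk y
      rw [← LinearMap.map_smul_of_tower P.mkQ, Submodule.mkQ_apply, Submodule.liftQ_apply]
      show (y • n) ⊗ₜ[R] (Submodule.Quotient.mk 1 : R ⧸ p) = _
      rw [TensorProduct.smul_tmul, ← Submodule.Quotient.mk_smul, smul_eq_mul, mul_one]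
    | add x y hx hy => rw [map_add, hx, hy, map_add]

open TensorProduct in
/-- Let `R → S` be a ring map, `M` an `R`-module and `N` an `S`-module flat over `R`. Then a prime of
`S` is associated to `N ⊗_R M` if and only if it is associated to `N/𝔭N` for some prime `𝔭` of `R`
associated to `M`. -/
theorem result {R S M N : Type u} [CommRing R] [IsNoetherianRing R] [CommRing S]
    [Algebra R S] [AddCommGroup M] [Module R M] [AddCommGroup N] [Module S N] [Module R N]
    [IsScalarTower R S N] [Module.Flat R N] :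
    associatedPrimes S (N ⊗[R] M) =
      ⋃ p ∈ associatedPrimes R M, associatedPrimes S (N ⧸ p.map (algebraMap R S) • (⊤ : Submodule S N)) := by
  classical
  ext P
  rw [Set.mem_iUnion₂]
  constructor
  · rintro ⟨hP, z, hz⟩
    have hann : ∀ a : S, a • z = 0 → a ∈ P := fun a ha => hz.ge ⟨1, by
      rw [pow_one, Submodule.mem_colon_singleton, Submodule.mem_bot]; exact ha⟩
    have hrad : ∀ a ∈ P, ∃ n : ℕ, a ^ n • z = 0 := fun a ha => by
      obtain ⟨n, hn⟩ := hz.le ha
      exact ⟨n, (Submodule.mem_bot S).mp (Submodule.mem_colon_singleton.mp hn)⟩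
    set p := P.comap (algebraMap R S) with hp
    haveI : p.IsPrime := by rw [hp]; infer_instance
    -- a power of `p` kills `z`
    have hex : ∃ j : ℕ, ∃ s ∉ P, ∀ a ∈ p ^ j, a • (s • z) = 0 := by
      have h1 : p ≤ Ideal.radical (LinearMap.ker (LinearMap.toSpanSingleton R (N ⊗[R] M) z)) := fun a ha => by
        obtain ⟨n, hn⟩ := hrad _ (Ideal.mem_comap.mp ha)
        exact ⟨n, by rw [LinearMap.mem_ker, LinearMap.toSpanSingleton_apply, ← algebraMap_smul S (a ^ n) z, map_pow, hn]⟩
      obtain ⟨j, hj⟩ := Ideal.exists_pow_le_of_le_radical_of_fg h1 (IsNoetherian.noetherian p)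
      exact ⟨j, 1, fun h => hP.ne_top ((Ideal.eq_top_iff_one P).mpr h), fun a ha => by rw [one_smul]; exact hj ha⟩
    obtain ⟨s, hs, hj⟩ := Nat.find_spec hex
    have hpos : Nat.find hex ≠ 0 := fun h0 => hs (hann s (by
      have := hj 1 (by rw [h0, pow_zero, Ideal.one_eq_top]; trivial)
      rwa [one_smul] at this))
    obtain ⟨j, hj'⟩ := Nat.exists_eq_succ_of_ne_zero hpos
    rw [hj'] at hj
    obtain ⟨G, hG⟩ := IsNoetherian.noetherian (p ^ j)
    have hmin : ∀ a : S, (∀ g ∈ G, a • g • (s • z) = 0) → a ∈ P := by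
      intro a ha
      by_contra haP
      refine Nat.find_min hex (m := j) (by omega) ⟨a * s, fun h => (hP.mem_or_mem h).elim haP hs, fun b hb => ?_⟩
      rw [← hG] at hb
      induction hb using Submodule.span_induction with
      | mem g hg => rw [mul_smul, smul_comm]; exact ha g hg
      | zero => exact zero_smul R _
      | add u v _ _ hu hv => rw [add_smul, hu, hv, add_zero]
      | smul c u _ hu => rw [smul_assoc, hu, smul_zero]
    obtain ⟨g, hg, hgw⟩ := exists_component hP G (fun g => g • (s • z)) hmin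
    set w := g • (s • z) with hw
    have hwp : ∀ b ∈ p, b • w = 0 := fun b hb => by
      rw [hw, smul_smul]
      exact hj _ (by rw [pow_succ', ← hG]; exact Ideal.mul_mem_mul hb (Submodule.subset_span hg))
    have hwrad : ∀ a ∈ P, ∃ n : ℕ, a ^ n • w = 0 := fun a ha => by
      obtain ⟨n, hn⟩ := hrad a ha
      exact ⟨n, by rw [hw, smul_comm, smul_comm (a ^ n) s, hn, smul_zero, smul_zero]⟩
    -- `w` comes from `N ⊗ (0 :_M p)`
    obtain ⟨m, b, hb⟩ := Submodule.fg_iff_exists_fin_generating_family.mp (IsNoetherian.noetherian p)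
    let μ : M →ₗ[R] (Fin m → M) := LinearMap.pi fun i => LinearMap.lsmul R M (b i)
    let M₀ := LinearMap.ker μ
    obtain ⟨w₀, hw₀⟩ : ∃ w₀, M₀.subtype.lTensor N w₀ = w := by
      refine ((Module.Flat.lTensor_exact N (LinearMap.exact_subtype_ker_map μ)) w).mp ?_
      apply (TensorProduct.piRight R R N (fun _ : Fin m => M)).injective
      ext i
      rw [map_zero, Pi.zero_apply]
      have h1 : ∀ v : N ⊗[R] M, TensorProduct.piRight R R N (fun _ : Fin m => M) (μ.lTensor N v) i = b i • v := by
        intro v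
        induction v using TensorProduct.induction_on with
        | zero => simp
        | tmul x y => simp [μ]
        | add x y hx hy => rw [map_add, map_add, Pi.add_apply, hx, hy, smul_add]
      rw [h1]
      exact hwp _ (hb ▸ Submodule.subset_span ⟨i, rfl⟩)
    have hinj₀ : Function.Injective (M₀.subtype.lTensor N) :=
      Module.Flat.lTensor_preserves_injective_linearMap _ M₀.injective_subtype
    have hM₀ : ∀ a ∈ p, ∀ x : M₀, a • x = 0 := fun a ha x => Subtype.ext (by
      show a • x.1 = 0
      rw [← hb] at ha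
      induction ha using Submodule.span_induction with
      | mem a ha => obtain ⟨i, rfl⟩ := ha; exact congrFun x.2 i
      | zero => rw [zero_smul]
      | add u v _ _ hu hv => rw [add_smul, hu, hv, add_zero]
      | smul c u _ hu => rw [smul_assoc, hu, smul_zero])
    -- localise at `p`
    let V := LocalizedModule p.primeCompl M₀
    let ι : M₀ →ₗ[R] V := LocalizedModule.mkLinearMap _ M₀
    set v := ι.lTensor N w₀ with hv
    have hvann : ∀ a : S, a • v = 0 → a ∈ P := by
      intro a ha
      obtain ⟨t, ht⟩ := (Module.Flat.lTensor_exact N (LinearMap.exact_subtype_ker_map ι) (a • w₀)).mp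
        (by rw [lTensor_smul, ← hv, ha])
      have h2 : ∀ t : N ⊗[R] LinearMap.ker ι, ∃ c ∉ p, c • t = 0 := fun t => by
        induction t using TensorProduct.induction_on with
        | zero => exact ⟨1, fun h => Ideal.IsPrime.ne_top inferInstance ((Ideal.eq_top_iff_one p).mpr h), smul_zero _⟩
        | tmul x y =>
          obtain ⟨⟨c, hc⟩, hcy⟩ := (IsLocalizedModule.eq_zero_iff p.primeCompl ι).mp y.2
          exact ⟨c, hc, by rw [← TensorProduct.tmul_smul, show c • y = 0 from Subtype.ext hcy, TensorProduct.tmul_zero]⟩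
        | add x y hx hy =>
          obtain ⟨c, hc, hcx⟩ := hx
          obtain ⟨d, hd, hdy⟩ := hy
          exact ⟨c * d, Ideal.IsPrime.mul_notMem inferInstance hc hd,
            by rw [smul_add, mul_comm, mul_smul, hcx, smul_zero, zero_add, mul_comm, mul_smul, hdy, smul_zero]⟩
      obtain ⟨c, hc, hct⟩ := h2 t
      have h3 : c • (a • w₀) = 0 := by rw [← ht, ← map_smul, hct, map_zero]
      have h4 : (algebraMap R S c * a) • w = 0 := by
        rw [← hw₀, ← lTensor_smul, mul_smul, algebraMap_smul, h3, map_zero]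
      exact (hP.mem_or_mem (hgw _ h4)).resolve_left hc
    have hvrad : ∀ a ∈ P, ∃ n : ℕ, a ^ n • v = 0 := fun a ha => by
      obtain ⟨n, hn⟩ := hwrad a ha
      refine ⟨n, ?_⟩
      have h0 : a ^ n • w₀ = 0 := hinj₀ (by rw [lTensor_smul, hw₀, hn, map_zero])
      rw [hv, ← lTensor_smul, h0, map_zero]
    have hV : Module.IsTorsionBySet (Localization.AtPrime p) V
        (IsLocalRing.maximalIdeal (Localization.AtPrime p) : Set (Localization.AtPrime p)) := by
      intro y ⟨c, hc⟩
      show c • y = 0
      rw [SetLike.mem_coe, ← Localization.AtPrime.map_eq_maximalIdeal] at hc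
      induction hc using Submodule.span_induction with
      | mem c hc =>
        obtain ⟨a, ha, rfl⟩ := hc
        obtain ⟨⟨x, t⟩, rfl⟩ := IsLocalizedModule.mk'_surjective p.primeCompl ι y
        rw [Function.uncurry_apply_pair, algebraMap_smul, ← IsLocalizedModule.mk'_smul,
          hM₀ a ha x, IsLocalizedModule.mk'_zero]
      | zero => exact zero_smul _ _
      | add u w _ _ hu hw => rw [add_smul, hu, hw, add_zero]
      | smul c u _ hu => rw [smul_eq_mul, mul_smul, hu, smul_zero]
    letI : Module p.ResidueField V := hV.module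
    haveI : IsScalarTower R p.ResidueField V := hV.isScalarTower
    let bV := Module.Free.chooseBasis p.ResidueField V
    let e : V →ₗ[R] (_ →₀ p.ResidueField) := (bV.repr.restrictScalars R).toLinearMap
    let co := fun i => ((Finsupp.lapply i) ∘ₗ e).lTensor N v
    let φ := TensorProduct.finsuppRight R R N p.ResidueField (Module.Free.ChooseBasisIndex p.ResidueField V)
    have hco : ∀ (y : N ⊗[R] V) i, φ (e.lTensor N y) i = ((Finsupp.lapply i) ∘ₗ e).lTensor N y := fun y i => by
      induction y using TensorProduct.induction_on with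
      | zero => simp
      | tmul x y => simp [φ, TensorProduct.finsuppRight_apply_tmul_apply]
      | add x y hx hy => simp only [map_add, Finsupp.add_apply, hx, hy]
    obtain ⟨i, -, hi⟩ := exists_component hP (φ (e.lTensor N v)).support co (fun a ha => hvann a (by
      refine Module.Flat.lTensor_preserves_injective_linearMap (M := N) e bV.repr.injective ?_
      rw [map_zero]
      apply φ.injective
      ext i
      rw [map_zero, Finsupp.zero_apply, hco, lTensor_smul]
      by_cases hi : i ∈ (φ (e.lTensor N v)).support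
      · exact ha i hi
      · rw [← hco, Finsupp.notMem_support_iff.mp hi, smul_zero]))
    have hcorad : ∀ a ∈ P, ∃ n : ℕ, a ^ n • co i = 0 := fun a ha => by
      obtain ⟨n, hn⟩ := hvrad a ha
      exact ⟨n, by show a ^ n • ((Finsupp.lapply i) ∘ₗ e).lTensor N v = 0; rw [← lTensor_smul, hn, map_zero]⟩
    -- clear denominators
    let κ : R ⧸ p →ₗ[R] p.ResidueField := (IsScalarTower.toAlgHom R (R ⧸ p) p.ResidueField).toLinearMap
    have hκ : Function.Injective κ := IsFractionRing.injective (R ⧸ p) p.ResidueField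
    have hrep : ∀ y : N ⊗[R] p.ResidueField, ∃ (c : R) (u : N ⊗[R] (R ⧸ p)), c ∉ p ∧ c • y = κ.lTensor N u := by
      intro y
      induction y using TensorProduct.induction_on with
      | zero => exact ⟨1, 0, fun h => Ideal.IsPrime.ne_top inferInstance ((Ideal.eq_top_iff_one p).mpr h), by simp⟩
      | tmul x c =>
        obtain ⟨a, d, hd, rfl⟩ := IsFractionRing.div_surjective (R ⧸ p) c
        obtain ⟨d, rfl⟩ := Ideal.Quotient.mk_surjective d
        have hd0 : Ideal.Quotient.mk p d ≠ 0 := nonZeroDivisors.ne_zero hd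
        refine ⟨d, x ⊗ₜ a, fun h => hd0 (Ideal.Quotient.eq_zero_iff_mem.mpr h), ?_⟩
        rw [← TensorProduct.tmul_smul, LinearMap.lTensor_tmul]
        congr 1
        rw [Algebra.smul_def, IsScalarTower.algebraMap_apply R (R ⧸ p) p.ResidueField d]
        exact mul_div_cancel₀ _ fun h => hd0 ((IsFractionRing.to_map_eq_zero_iff).mp h)
      | add x y hx hy =>
        obtain ⟨c, u, hc, hcu⟩ := hx
        obtain ⟨d, u', hd, hdu⟩ := hy
        refine ⟨c * d, d • u + c • u', Ideal.IsPrime.mul_notMem inferInstance hc hd, ?_⟩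
        rw [smul_add, mul_comm, mul_smul, hcu, mul_comm, mul_smul, hdu, map_add, map_smul, map_smul]
    obtain ⟨c, u, hc, hcu⟩ := hrep (co i)
    refine ⟨p, ?_, ?_⟩
    · -- `p` is associated to `M`
      have hne : v ≠ 0 := fun h => hP.ne_top ((Ideal.eq_top_iff_one P).mpr (hvann 1 (by rw [h, smul_zero])))
      obtain ⟨x, hx⟩ : ∃ x : M₀, ι x ≠ 0 := by
        by_contra hall
        push_neg at hall
        apply hne
        rw [hv, show ι = 0 from LinearMap.ext hall, LinearMap.lTensor_zero, LinearMap.zero_apply]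
      refine isAssociatedPrime_iff.mpr ⟨inferInstance, x.1, le_antisymm (fun a ha => ?_) fun a ha => ?_⟩
      · rw [Submodule.mem_colon_singleton, Submodule.mem_bot]
        exact congrArg Subtype.val (hM₀ a ha x)
      · rw [Submodule.mem_colon_singleton, Submodule.mem_bot] at ha
        by_contra hap
        exact hx ((IsLocalizedModule.eq_zero_iff p.primeCompl ι).mpr ⟨⟨a, hap⟩, Subtype.ext ha⟩)
    · obtain ⟨eq⟩ := quotEquiv S N p
      have hκN : Function.Injective (κ.lTensor N) := Module.Flat.lTensor_preserves_injective_linearMap _ hκ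
      refine (eq.isAssociatedPrime_iff (I := P)).mp (isAssociatedPrime_of_ann hP u (fun a ha => ?_) fun a ha => ?_)
      · have h1 : (algebraMap R S c * a) • co i = 0 := by
          rw [mul_comm, mul_smul, algebraMap_smul, hcu, ← lTensor_smul, ha, map_zero]
        exact (hP.mem_or_mem (hi _ h1)).resolve_left hc
      · obtain ⟨n, hn⟩ := hcorad a ha
        refine ⟨n, hκN ?_⟩
        rw [lTensor_smul, ← hcu, smul_comm, hn, smul_zero, map_zero]
  · rintro ⟨p, hp, hP⟩
    obtain ⟨-, x, hx⟩ := isAssociatedPrime_iff.mp hp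
    let f : R ⧸ p →ₗ[R] M := Submodule.liftQ p (LinearMap.toSpanSingleton R M x) fun a ha => by
      rw [LinearMap.mem_ker, LinearMap.toSpanSingleton_apply]
      exact (Submodule.mem_bot R).mp (Submodule.mem_colon_singleton.mp (hx.le ha))
    have hf : Function.Injective f := LinearMap.ker_eq_bot.mp (Submodule.ker_liftQ_eq_bot _ _ _ fun a ha => by
      rw [LinearMap.mem_ker, LinearMap.toSpanSingleton_apply] at ha
      exact hx.ge (Submodule.mem_colon_singleton.mpr ((Submodule.mem_bot R).mpr ha)))
    obtain ⟨eq⟩ := quotEquiv S N p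
    exact ((eq.isAssociatedPrime_iff (I := P)).mpr hP).map_of_injective (lMap N f)
      (Module.Flat.lTensor_preserves_injective_linearMap f hf)

end Groth.Agent.S2069
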