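import Groth.Statements.S9687
import Groth.Agent.H17.DimIneqScheme

set_option autoImplicit false
universe u
open CategoryTheory CategoryTheory.Limits AlgebraicGeometry
open Mor

namespace Groth.Agent.S9687

open CategoryTheory CategoryTheory.Limits AlgebraicGeometry TopologicalSpace Topology Cardinal

/-- Let S be locally Noetherian, f : X ⟶ S locally of finite type and x a point of X with image s. Let n
be the transcendence degree of κ(x) over κ(s) and let E bound the transcendence degree of κ(ξ) over
κ(f ξ) for every generic point ξ of an irreducible component of X passing through x. Then dim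
O_{X,x} + n ≤ dim O_{S,s} + E. (The published statement takes E to be the maximum of these
transcendence degrees; the statement with any upper bound E is equivalent.) -/
theorem result {X S : Scheme.{u}} [IsLocallyNoetherian S]
    (f : X ⟶ S) [LocallyOfFiniteType f] (x : X) (n E : ℕ)
    (hn : letI := (f.residueFieldMap x).hom.toAlgebra
      Algebra.trdeg (S.residueField (f.base x)) (X.residueField x) = n)
    (hE : ∀ ξ : X, closure {ξ} ∈ irreducibleComponents ↥X → ξ ⤳ x →
      letI := (f.residueFieldMap ξ).hom.toAlgebra
      Algebra.trdeg (S.residueField (f.base ξ)) (X.residueField ξ) ≤ E) :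
    ringKrullDim (X.presheaf.stalk x) + n ≤ ringKrullDim (S.presheaf.stalk (f.base x)) + E := by
  obtain ⟨b, hb, h⟩ := Groth.Agent.H17.DimIneq.scheme_ineq f x E hE
  rw [hb]
  obtain ⟨a, ha⟩ : ∃ a : ℕ∞, ringKrullDim (X.presheaf.stalk x) = a :=
    ⟨_, ringKrullDim_stalk_eq_coheight x⟩
  rw [ha] at h ⊢
  refine WithBot.coe_le_coe.2 (show a + (n : ℕ∞) ≤ b + (E : ℕ∞) from ?_)
  induction b with
  | top => simp
  | coe b =>
    have key : ∀ l : ℕ, (l : ℕ∞) ≤ a → l + n ≤ b + E := fun l hl => by
      have h' := h l (WithBot.coe_le_coe.2 hl)
      rw [hn, show ((b : ℕ∞) : Cardinal.{u}) = (b : Cardinal.{u}) from Cardinal.ofENat_nat b] at h'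
      exact_mod_cast h'
    induction a with
    | top => exfalso; have := key (b + E + 1) le_top; omega
    | coe a => exact_mod_cast key a le_rfl

end Groth.Agent.S9687
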