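import Groth.Statements.S0576
import Groth.Agent.H1CAlg.NagataUnramified
-- import your own Groth.Agent.* helpers here

set_option autoImplicit false
universe u
open CAlg

namespace Groth.Agent.S0576

/-- A local domain which is a Nagata ring is analytically unramified, i.e. its completion at the maximal
ideal is reduced. -/
theorem result (R : Type u) [CommRing R] [IsDomain R]
    [IsLocalRing R] (hR : CAlg.IsNagata R) :
    IsReduced (AdicCompletion (IsLocalRing.maximalIdeal R) R) := by
  haveI := hR.1
  obtain ⟨d, hd⟩ : ∃ d : ℕ, ringKrullDim R < d := by
    have h := ringKrullDim_lt_top (R := R)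
    generalize ringKrullDim R = e at h ⊢
    induction e with
    | bot => exact ⟨0, WithBot.bot_lt_coe _⟩
    | coe e =>
      induction e with
      | top => exact absurd h (lt_irrefl _)
      | coe e => exact ⟨e + 1, by exact_mod_cast e.lt_succ_self⟩
  exact Groth.Agent.H1CAlg.isReduced_adicCompletion_of_isNagata d R hR hd

end Groth.Agent.S0576
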