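import Groth.Statements.S0678
import Groth.Agent.H1CAlg.ZarCover
import Groth.Agent.H1CAlg.ZarLocal
import Groth.Agent.H1CAlg.Components

set_option autoImplicit false
open CategoryTheory CategoryTheory.Limits AlgebraicGeometry Opposite Topology
universe u
open ProEtW

namespace Groth.Agent.S0678

open Groth.Agent.H1CAlg

theorem eq_of_le_of_comap_eq {A B : Type u} [CommRing A] [CommRing B] [Algebra A B]
    (h : EtPBC.IdentifiesLocalRings A B) {x n : Ideal B} [x.IsPrime] [hn : n.IsPrime] (hle : x ≤ n)
    (hc : x.comap (algebraMap A B) = n.comap (algebraMap A B)) : x = n := by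
  refine le_antisymm hle fun d hd => ?_
  obtain ⟨z, hz⟩ := (h ⟨n, hn⟩).2 (algebraMap B _ d)
  obtain ⟨a, ⟨s, hs⟩, rfl⟩ := IsLocalization.exists_mk'_eq (n.comap (algebraMap A B)).primeCompl z
  rw [Localization.localRingHom_mk', IsLocalization.mk'_eq_iff_eq_mul, ← map_mul] at hz
  obtain ⟨⟨t, ht⟩, hts⟩ := IsLocalization.exists_of_eq (M := n.primeCompl) hz
  have ha : algebraMap A B a ∈ n := by
    refine (hn.mem_or_mem ?_).resolve_left ht
    rw [hts]
    exact n.mul_mem_left t (n.mul_mem_right _ hd)
  have hax : a ∈ x.comap (algebraMap A B) := hc.ge ha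
  have h1 : t * (d * algebraMap A B s) ∈ x := by
    rw [← hts]
    exact x.mul_mem_left t hax
  exact ((‹x.IsPrime›.mem_or_mem ((‹x.IsPrime›.mem_or_mem h1).resolve_left fun h => ht (hle h)))).resolve_right
    fun h => hs (hle h)

theorem identifiesLocalRings_trans {A B C : Type u} [CommRing A] [CommRing B] [CommRing C]
    [Algebra A B] [Algebra B C] [Algebra A C] [IsScalarTower A B C]
    (h1 : EtPBC.IdentifiesLocalRings A B) (h2 : EtPBC.IdentifiesLocalRings B C) :
    EtPBC.IdentifiesLocalRings A C := fun q => by
  haveI := q.isPrime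
  let q' : PrimeSpectrum B := ⟨q.asIdeal.comap (algebraMap B C), Ideal.comap_isPrime _ _⟩
  let p := q.asIdeal.comap (algebraMap A C)
  have hp : p = q'.asIdeal.comap (algebraMap A B) := by
    show q.asIdeal.comap _ = (q.asIdeal.comap (algebraMap B C)).comap _
    rw [Ideal.comap_comap, ← IsScalarTower.algebraMap_eq]
  let F := Localization.localRingHom q'.asIdeal q.asIdeal (algebraMap B C) rfl
  let G := Localization.localRingHom p q'.asIdeal (algebraMap A B) hp
  have hG : Function.Bijective G := by
    have key : ∀ (p' : Ideal A) [p'.IsPrime] (h' : p' = q'.asIdeal.comap (algebraMap A B)),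
        Function.Bijective (Localization.localRingHom p' q'.asIdeal (algebraMap A B) h') := by
      intro p' _ h'
      subst h'
      exact h1 q'
    exact key p hp
  have hc : F.comp G = Localization.localRingHom p q.asIdeal (algebraMap A C) rfl :=
    (Localization.localRingHom_unique p q.asIdeal (algebraMap A C) rfl fun a => by
      show F (G (algebraMap A _ a)) = _
      rw [Localization.localRingHom_to_map, Localization.localRingHom_to_map,
        ← IsScalarTower.algebraMap_apply A B C]).symm
  rw [← hc]
  exact (h2 q).comp hG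

theorem t2Space_of_isMaximal {R : Type u} [CommRing R]
    (h : ∀ p : Ideal R, p.IsPrime → p.IsMaximal) : T2Space (PrimeSpectrum R) := by
  have hS : WLoc.Split R ⊥ := ⟨bot_le, fun x => by
    obtain ⟨e, y, he, hxy, n, hn⟩ := Zar.exists_unit_idem_of_isMaximal h x
    exact ⟨e, y, he, by rw [hxy, sub_self]; exact Ideal.zero_mem _, n, hn⟩⟩
  haveI := hS.t2Space_connectedComponents
  obtain ⟨φ, -⟩ := hS.exists_homeomorph
  haveI : T2Space (PrimeSpectrum.zeroLocus ((⊥ : Ideal R) : Set R)) := φ.symm.t2Space
  have huniv : ∀ x : PrimeSpectrum R, x ∈ PrimeSpectrum.zeroLocus ((⊥ : Ideal R) : Set R) :=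
    fun x a ha => by rw [show a = 0 from ha]; exact x.asIdeal.zero_mem
  exact T2Space.of_injective_continuous (f := fun x => (⟨x, huniv x⟩ :
    PrimeSpectrum.zeroLocus ((⊥ : Ideal R) : Set R))) (fun x y h => congrArg Subtype.val h)
    (continuous_id.subtype_mk huniv)

theorem isMaximal_quotient {R : Type u} [CommRing R] (I : Ideal R)
    (h : ∀ p : Ideal R, p.IsPrime → I ≤ p → p.IsMaximal) (P : Ideal (R ⧸ I)) (hP : P.IsPrime) :
    P.IsMaximal := by
  haveI := hP
  have hle : I ≤ P.comap (Ideal.Quotient.mk I) := fun a ha => by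
    rw [Ideal.mem_comap, Ideal.Quotient.eq_zero_iff_mem.2 ha]
    exact P.zero_mem
  haveI := h _ (Ideal.comap_isPrime (Ideal.Quotient.mk I) P) hle
  rw [← Ideal.map_comap_of_surjective _ Ideal.Quotient.mk_surjective P]
  refine Ideal.IsMaximal.map_of_surjective_of_ker_le Ideal.Quotient.mk_surjective ?_
  rwa [Ideal.mk_ker]

/-- For a ring A, every faithfully flat ind-Zariski A-algebra (filtered colimit of local isomorphisms)
has an A-algebra retraction if and only if Spec A is w-local and the space of connected components
of Spec A is extremally disconnected. -/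
theorem result (A : Type u) [CommRing A] :
    ProEtW.HasIndZariskiRetractions A ↔
      (ProEtW.IsWLocal (PrimeSpectrum A) ∧
        ExtremallyDisconnected (_root_.ConnectedComponents (PrimeSpectrum A))) := by
  constructor
  · intro hA
    let K : PrimeSpectrum A → Type u := fun p => p.asIdeal.ResidueField
    obtain ⟨H, _, _, π, hH⟩ := Zar.exists_isZarColim (A := A) (k := ∀ p, K p)
    have hS := hH.split fun x => Zar.exists_unit_idem_pi K (π x)
    haveI : Module.Flat A H := hH.flat
    obtain ⟨r⟩ := hA H (Zar.faithfullyFlat_of_image_closedPoints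
      (Zar.image_closedPoints_eq_univ π hS fun p => ⟨p, Ideal.ker_algebraMap_residueField _⟩))
      hH.isIndZariski
    have hr : Function.Surjective r := fun a => ⟨algebraMap A H a, r.commutes a⟩
    have hSA : WLoc.Split A ((RingHom.ker π).map r.toRingHom) := by
      refine ⟨fun x hx => ?_, fun x => ?_⟩
      · obtain ⟨y, hy, rfl⟩ := (Ideal.mem_map_iff_of_surjective r.toRingHom hr).1 hx
        rw [Ideal.mem_jacobson_bot]
        intro a
        have := (Ideal.mem_jacobson_bot.1 (hS.le_jac hy) (algebraMap A H a)).map r
        simpa using this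
      · obtain ⟨e, y, he, hxy, hx1⟩ := hS.split (algebraMap A H x)
        refine ⟨r e, r y, he.map r, ?_, ?_⟩
        · have := Ideal.mem_map_of_mem r.toRingHom hxy
          simpa using this
        · have := Ideal.map_radical_le r.toRingHom (Ideal.mem_map_of_mem r.toRingHom hx1)
          simpa using this
    refine ⟨hSA.isWLocal, ?_⟩
    haveI := Zar.extremallyDisconnected_of_pi π hS fun _ he => hH.exists_idem_lift he
    haveI := hS.t2Space_connectedComponents
    haveI := hSA.t2Space_connectedComponents
    let I := (PrimeSpectrum.continuous_comap r.toRingHom).connectedComponentsMap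
    let Q := (PrimeSpectrum.continuous_comap (algebraMap A H)).connectedComponentsMap
    have hQI : ∀ c, Q (I c) = c := fun c => by
      obtain ⟨x, rfl⟩ := ConnectedComponents.surjective_coe c
      show ConnectedComponents.mk
        (PrimeSpectrum.comap (algebraMap A H) (PrimeSpectrum.comap r.toRingHom x)) =
          ConnectedComponents.mk x
      rw [← PrimeSpectrum.comap_comp_apply, show r.toRingHom.comp (algebraMap A H) = RingHom.id A from
        RingHom.ext r.commutes]
      rfl
    have hI : Continuous I := Continuous.connectedComponentsMap_continuous _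
    have hQ : Continuous Q := Continuous.connectedComponentsMap_continuous _
    have hproj : CompactT2.Projective (ConnectedComponents (PrimeSpectrum A)) := by
      intro Y Z _ _ _ _ _ _ f g hf hg hgs
      obtain ⟨l, hl, hgl⟩ := CompactT2.ExtremallyDisconnected.projective
        (A := ConnectedComponents (PrimeSpectrum H)) (hf.comp hQ) hg hgs
      refine ⟨l ∘ I, hl.comp hI, funext fun c => ?_⟩
      have := congrFun hgl (I c)
      simp only [Function.comp_apply] at this ⊢
      rw [this, hQI]
    exact CompactT2.Projective.extremallyDisconnected hproj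
  · rintro ⟨hw, hED⟩ B _ _ hff hBz
    let J : Ideal A := PrimeSpectrum.vanishingIdeal (ProEtW.closedPoints (PrimeSpectrum A))
    have hS : WLoc.Split A J := WLoc.split_of_isWLocal hw
    haveI := hS.t2Space_connectedComponents
    have hidB := Zar.identifiesLocalRings_of_isIndZariski hBz
    -- all primes of `B` over closed points are maximal
    have hmax0 : ∀ q : Ideal B, q.IsPrime → J.map (algebraMap A B) ≤ q → q.IsMaximal := by
      intro q hq hle
      haveI := hq
      obtain ⟨n, hn, hqn⟩ := Ideal.exists_le_maximal q hq.ne_top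
      haveI := hn.isPrime
      have h1 : (q.comap (algebraMap A B)).IsMaximal :=
        hS.isMaximal_of_le (Ideal.map_le_iff_le_comap.1 hle)
      rw [eq_of_le_of_comap_eq hidB hqn
        (h1.eq_of_le (Ideal.comap_ne_top _ hn.ne_top) (Ideal.comap_mono hqn))]
      exact hn
    let k0 := B ⧸ J.map (algebraMap A B)
    have hk0 : ∀ P : Ideal k0, P.IsPrime → P.IsMaximal := isMaximal_quotient _ hmax0
    haveI : T2Space (PrimeSpectrum k0) := t2Space_of_isMaximal hk0
    let p0 : PrimeSpectrum k0 → ConnectedComponents (PrimeSpectrum A) := fun x =>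
      ConnectedComponents.mk (PrimeSpectrum.comap (algebraMap A k0) x)
    have hp0 : Continuous p0 :=
      ConnectedComponents.continuous_coe.comp (PrimeSpectrum.continuous_comap _)
    have hp0s : Function.Surjective p0 := fun c => by
      obtain ⟨⟨z, hz⟩, rfl⟩ := hS.bijective_mk.2 c
      haveI := hff
      obtain ⟨b, hb⟩ := PrimeSpectrum.comap_surjective_of_faithfullyFlat (A := A) (B := B) z
      have hJb : J.map (algebraMap A B) ≤ b.asIdeal := Ideal.map_le_iff_le_comap.2 fun a ha => by
        have : a ∈ (PrimeSpectrum.comap (algebraMap A B) b).asIdeal := hb ▸ hz ha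
        exact this
      obtain ⟨x, hx⟩ : b ∈ Set.range (PrimeSpectrum.comap (Ideal.Quotient.mk (J.map (algebraMap A B)))) := by
        rw [range_comap_of_surjective _ _ Ideal.Quotient.mk_surjective, Ideal.mk_ker]
        exact hJb
      refine ⟨x, ?_⟩
      show ConnectedComponents.mk (PrimeSpectrum.comap (algebraMap A k0) x) = _
      rw [IsScalarTower.algebraMap_eq A B k0, PrimeSpectrum.comap_comp_apply]
      show ConnectedComponents.mk (PrimeSpectrum.comap (algebraMap A B)
        (PrimeSpectrum.comap (Ideal.Quotient.mk _) x)) = _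
      rw [hx, hb]
    obtain ⟨s, hs, hps⟩ := CompactT2.ExtremallyDisconnected.projective
      (A := ConnectedComponents (PrimeSpectrum A)) continuous_id hp0 hp0s
    have hps' : ∀ c, p0 (s c) = c := fun c => congrFun hps c
    let K : Ideal k0 := PrimeSpectrum.vanishingIdeal (Set.range s)
    have hK : PrimeSpectrum.zeroLocus (K : Set k0) = Set.range s := by
      rw [PrimeSpectrum.zeroLocus_vanishingIdeal_eq_closure,
        (isCompact_range hs).isClosed.closure_eq]
    let k := k0 ⧸ K
    have hk : ∀ P : Ideal k, P.IsPrime → P.IsMaximal :=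
      isMaximal_quotient K fun P hP _ => hk0 P hP
    obtain ⟨H, _, _, π, hH⟩ := Zar.exists_isZarColim (A := B) (k := k)
    have hSH := hH.split fun x => Zar.exists_unit_idem_of_isMaximal hk (π x)
    letI : Algebra A H := ((algebraMap B H).comp (algebraMap A B)).toAlgebra
    haveI : IsScalarTower A B H := IsScalarTower.of_algebraMap_eq fun _ => rfl
    let πA : H →ₐ[A] k := π.restrictScalars A
    have hid : EtPBC.IdentifiesLocalRings A H :=
      identifiesLocalRings_trans hidB (Zar.identifiesLocalRings_of_isIndZariski hH.isIndZariski)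
    have hsurj : Function.Surjective π := fun y => by
      obtain ⟨y, rfl⟩ := Ideal.Quotient.mk_surjective y
      obtain ⟨b, rfl⟩ := Ideal.Quotient.mk_surjective y
      exact ⟨algebraMap B H b, π.commutes b⟩
    have hJH : ∀ a ∈ J, algebraMap A H a ∈ RingHom.ker π := fun a ha => by
      show π (algebraMap B H (algebraMap A B a)) = 0
      rw [π.commutes]
      show Ideal.Quotient.mk K (Ideal.Quotient.mk (J.map (algebraMap A B)) (algebraMap A B a)) = 0
      rw [Ideal.Quotient.eq_zero_iff_mem.2 (Ideal.mem_map_of_mem (algebraMap A B) ha), map_zero]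
    have hbij : Function.Bijective (algebraMap A H) := by
      refine Zar.bijective_of_identifiesLocalRings hid fun m hm => ?_
      let c : ConnectedComponents (PrimeSpectrum A) := ConnectedComponents.mk ⟨m, hm.isPrime⟩
      have hxK : K ≤ (s c).asIdeal :=
        SetLike.coe_subset_coe.1 (hK.ge ⟨c, rfl⟩ : s c ∈ PrimeSpectrum.zeroLocus (K : Set k0))
      haveI := (s c).isPrime
      let ρ : H →+* k0 ⧸ (s c).asIdeal := (Ideal.Quotient.factor hxK).comp π.toRingHom
      have hρA : ∀ a, ρ (algebraMap A H a) =
          Ideal.Quotient.mk (s c).asIdeal (algebraMap A k0 a) := fun a => by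
        show Ideal.Quotient.factor hxK (π (algebraMap B H (algebraMap A B a))) = _
        rw [π.commutes]
        rfl
      have hnA : (RingHom.ker ρ).comap (algebraMap A H) = m := by
        let y : PrimeSpectrum A := PrimeSpectrum.comap (algebraMap A k0) (s c)
        have hyJ : J ≤ y.asIdeal := fun a ha => by
          show algebraMap A k0 a ∈ (s c).asIdeal
          rw [show algebraMap A k0 a = 0 from
            Ideal.Quotient.eq_zero_iff_mem.2 (Ideal.mem_map_of_mem _ ha)]
          exact Ideal.zero_mem _
        have h1 := @hS.bijective_mk.1 ⟨y, hyJ⟩ ⟨⟨m, hm.isPrime⟩, hS.le_of_isMaximal hm⟩ (hps' c)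
        refine (Ideal.ext fun a => ?_).trans (congrArg (fun w => w.1.asIdeal) h1)
        show ρ (algebraMap A H a) = 0 ↔ algebraMap A k0 a ∈ (s c).asIdeal
        rw [hρA, Ideal.Quotient.eq_zero_iff_mem]
      refine ⟨RingHom.ker ρ, RingHom.ker_isPrime _, hnA, fun q hq hqm => ?_⟩
      haveI := hq
      obtain ⟨n', hn', hle⟩ := Ideal.exists_le_maximal q hq.ne_top
      haveI := hn'.isPrime
      have hkn : RingHom.ker π ≤ n' := hSH.le_of_isMaximal hn'
      have h6 : n'.comap (algebraMap A H) = m :=
        hS.eq_of_le_of_le (q := q.comap (algebraMap A H))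
          (hS.isMaximal_of_le fun a ha => hkn (hJH a ha)) hm (Ideal.comap_mono hle) hqm
      -- the point of `k0` under `n'` is the chosen one
      haveI : (n'.map π.toRingHom).IsPrime := Ideal.map_isPrime_of_surjective hsurj hkn
      let x' : PrimeSpectrum k0 := PrimeSpectrum.comap (Ideal.Quotient.mk K) ⟨n'.map π.toRingHom, ‹_›⟩
      obtain ⟨c', hc'⟩ : x' ∈ Set.range s := by
        rw [← hK]
        intro a ha
        show Ideal.Quotient.mk K a ∈ n'.map π.toRingHom
        rw [Ideal.Quotient.eq_zero_iff_mem.2 ha]
        exact Ideal.zero_mem _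
      have hcm : (n'.map π.toRingHom).comap π.toRingHom = n' := by
        refine (Ideal.comap_map_of_surjective π.toRingHom hsurj n').trans ?_
        rw [sup_eq_left]
        exact hkn
      have hcc : c' = c := by
        have h7 : p0 x' = c := by
          show ConnectedComponents.mk _ = ConnectedComponents.mk _
          congr 1
          refine PrimeSpectrum.ext (Eq.trans (Ideal.ext fun a => ?_) h6)
          show Ideal.Quotient.mk K (algebraMap A k0 a) ∈ n'.map π.toRingHom ↔ algebraMap A H a ∈ n'
          rw [← Ideal.ext_iff.1 hcm (algebraMap A H a), Ideal.mem_comap]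
          show _ ↔ π (algebraMap B H (algebraMap A B a)) ∈ _
          rw [π.commutes]
          rfl
        rw [← h7, ← hc', hps']
      refine hle.trans fun d hd => ?_
      obtain ⟨y, hy⟩ := Ideal.Quotient.mk_surjective (π d)
      show Ideal.Quotient.factor hxK (π d) = 0
      rw [← hy, Ideal.Quotient.factor_mk, Ideal.Quotient.eq_zero_iff_mem]
      have h8 : y ∈ x'.asIdeal := by
        show Ideal.Quotient.mk K y ∈ n'.map π.toRingHom
        rw [hy]
        exact Ideal.mem_map_of_mem π.toRingHom hd
      rw [← hc', hcc] at h8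
      exact h8
    exact ⟨(AlgEquiv.ofBijective (Algebra.ofId A H) hbij).symm.toAlgHom.comp
      (IsScalarTower.toAlgHom A B H)⟩

end Groth.Agent.S0678
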