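import Groth.Statements.S7127
import Groth.Agent.H9Hens.FlatEpi
-- import your own Groth.Agent.* helpers here

set_option autoImplicit false
universe u
open EtAlg

namespace Groth.Agent.S7127

open scoped TensorProduct

/-- Let A be a ring and B → C an A-algebra homomorphism between weakly étale A-algebras. Then C is
weakly étale over B. -/
theorem result (A B C : Type u) [CommRing A] [CommRing B] [CommRing C]
    [Algebra A B] [Algebra A C] [Algebra B C] [IsScalarTower A B C] [Algebra.WeaklyEtale A B]
    [Algebra.WeaklyEtale A C] : Algebra.WeaklyEtale B C := by
  have := H9Hens.flat_of_restrictScalars_of_flat_lmul' A B (Algebra.WeaklyEtale.flat_lmul' A B) C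
  refine ⟨this, ?_⟩
  let q := Algebra.TensorProduct.mapOfCompatibleSMul B A A C C
  have hq : Function.Surjective q := Algebra.TensorProduct.mapOfCompatibleSMul_surjective B A A C C
  refine H9Hens.flat_of_surjective_of_flat_comp (f := q.toRingHom)
    (g := (Algebra.TensorProduct.lmul' B (S := C)).toRingHom) hq ?_
  have heq : (Algebra.TensorProduct.lmul' B (S := C)).toRingHom.comp q.toRingHom =
      (Algebra.TensorProduct.lmul' A (S := C)).toRingHom := by
    refine RingHom.ext fun x => ?_
    induction x with
    | zero => simp
    | tmul a b => simp [q]
    | add a b ha hb => simp only [map_add, ha, hb]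
  rw [heq]
  exact Algebra.WeaklyEtale.flat_lmul' A C

end Groth.Agent.S7127
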