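-- statement FlatMor.GrothFrozen.S0426 (Groth/Statements/S0426.lean; the theorem FlatMor.weaklyEtale_field_extension_isSeparable);
import Groth.Statements.S0426
import Mathlib.RingTheory.Flat.TorsionFree
import Mathlib.RingTheory.DedekindDomain.Basic
import Mathlib.RingTheory.Flat.EquationalCriterion
import Mathlib.RingTheory.RingHom.Flat
import Mathlib.Algebra.DualNumber
import Mathlib.Algebra.Polynomial.Taylor
import Mathlib.FieldTheory.Minpoly.Field
import Mathlib.RingTheory.PrincipalIdealDomain

set_option autoImplicit false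
universe u
open FlatMor

namespace Groth.Agent.S0426

/-- If `e : B → C` is flat and `e a * f = 0` then, for any ring map `m` not killing `f`, there is
`g` killed by `a` whose image is not killed by `m`. -/
lemma exists_relation {B C D : Type*} [CommRing B] [CommRing C] [CommRing D] (e : B →+* C) (he : e.Flat)
    (a : B) (f : C) (m : C →+* D) (h : e a * f = 0) (hm : m f ≠ 0) :
    ∃ g, a * g = 0 ∧ m (e g) ≠ 0 := by
  letI := e.toAlgebra
  haveI : Module.Flat B C := he
  have h0 : ∑ i : Fin 1, (fun _ => a) i • (fun _ => f) i = 0 := by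
    simp only [Fin.sum_univ_one]
    exact h
  obtain ⟨k, c, y, hy, hc⟩ := (Module.Flat.iff_forall_isTrivialRelation.1 ‹_›) h0
  by_contra hall
  push Not at hall
  apply hm
  have hf : f = ∑ j, e (c 0 j) * y j := hy 0
  rw [hf, map_sum]
  refine Finset.sum_eq_zero fun j _ => ?_
  have := hc j
  simp only [Fin.sum_univ_one] at this
  rw [map_mul, hall _ this, zero_mul]

/-- A field extension L/K such that L is weakly étale over K (equivalently the multiplication map of L
⊗_K L is flat) is algebraic and separable. -/
theorem result {K L : Type u} [Field K] [Field L] [Algebra K L] [Algebra.WeaklyEtale K L] : Algebra.IsSeparable K L := by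
  classical
  refine ⟨fun x => ?_⟩
  by_contra hsep
  -- `p'(x) = 0` for the minimal polynomial `p` (which is `0` if `x` is transcendental)
  have hder : Polynomial.aeval x (Polynomial.derivative (minpoly K x)) = 0 := by
    by_contra hne
    have hint : IsIntegral K x := by
      by_contra hni
      apply hne
      rw [minpoly.eq_zero hni]; simp
    apply hsep
    refine (Polynomial.separable_iff_derivative_ne_zero (minpoly.irreducible hint)).2 ?_
    intro h0
    apply hne
    rw [h0]; simp
  let I : Ideal (Polynomial K) := RingHom.ker (Polynomial.aeval (R := K) x)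
  haveI : I.IsPrime := RingHom.ker_isPrime _
  let ι : (Polynomial K ⧸ I) →ₐ[K] L := Ideal.Quotient.liftₐ I (Polynomial.aeval x) (fun a h => h)
  have hιinj : Function.Injective ι := RingHom.lift_injective_of_ker_le_ideal _ _ le_rfl
  have hιflat : RingHom.Flat ι.toRingHom := by
    algebraize [ι.toRingHom]
    haveI : FaithfulSMul (Polynomial K ⧸ I) L := (faithfulSMul_iff_algebraMap_injective _ _).2 hιinj
    haveI : IsPrincipalIdealRing (Polynomial K ⧸ I) :=
      IsPrincipalIdealRing.of_surjective (Ideal.Quotient.mk I) Ideal.Quotient.mk_surjective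
    haveI : Module.IsTorsionFree (Polynomial K ⧸ I) L := Module.isTorsionFree_iff_algebraMap_injective.2 hιinj
    show Module.Flat (Polynomial K ⧸ I) L
    infer_instance
  let e : TensorProduct K (Polynomial K ⧸ I) L →ₐ[K] TensorProduct K L L :=
    Algebra.TensorProduct.map ι (AlgHom.id K L)
  have he :=
    RingHom.Flat.tensorProductMap (f := ι) (g := AlgHom.id K L) hιflat (RingHom.Flat.id L)
  let mul : TensorProduct K L L →ₐ[K] L := Algebra.TensorProduct.lmul' K
  have hmul : RingHom.Flat mul.toRingHom := Algebra.WeaklyEtale.flat_lmul' K L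
  let a : TensorProduct K (Polynomial K ⧸ I) L :=
    (Ideal.Quotient.mk I Polynomial.X) ⊗ₜ[K] (1 : L) - 1 ⊗ₜ[K] x
  have hιX : ι (Ideal.Quotient.mk I Polynomial.X) = x := Polynomial.aeval_X x
  have hea : e a = x ⊗ₜ[K] (1 : L) - 1 ⊗ₜ[K] x := by
    simp only [e, a, map_sub, Algebra.TensorProduct.map_tmul, hιX, map_one, AlgHom.id_apply]
  -- an element killed by `a` and not killed by the multiplication, using flatness of the multiplication
  obtain ⟨f, hfa, hfne⟩ : ∃ f, e a * f = 0 ∧ mul f ≠ 0 :=
    exists_relation mul.toRingHom hmul (e a) 1 (RingHom.id L)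
      (by show mul (e a) * 1 = 0; rw [hea]; simp [mul]) one_ne_zero
  -- descend the relation to `K[x] ⊗ L`, using flatness of `K[x] ⊗ L → L ⊗ L`
  obtain ⟨g, hga, hgne⟩ : ∃ g, a * g = 0 ∧ mul (e g) ≠ 0 :=
    exists_relation e.toRingHom he a f mul.toRingHom hfa hfne
  -- but `K[x] ⊗ L → L[ε]`, `x ↦ x + ε`, is well defined
  have hlift : ∀ P ∈ I, Polynomial.aeval (TrivSqZeroExt.inl x + DualNumber.eps : DualNumber L) P = 0 := by
    intro P hP
    have hP' : Polynomial.aeval x P = 0 := hP
    have hdP : Polynomial.aeval x (Polynomial.derivative P) = 0 := by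
      obtain ⟨q, rfl⟩ := minpoly.dvd K x hP'
      simp [hder]
    have hx : (TrivSqZeroExt.inl x : DualNumber L) = algebraMap L (DualNumber L) x := rfl
    rw [hx, Polynomial.aeval_add_of_sq_eq_zero _ _ _ (by rw [sq]; exact DualNumber.eps_mul_eps),
      Polynomial.aeval_algebraMap_apply, Polynomial.aeval_algebraMap_apply, hP', hdP]
    simp
  let φ : (Polynomial K ⧸ I) →ₐ[K] DualNumber L :=
    Ideal.Quotient.liftₐ I (Polynomial.aeval (TrivSqZeroExt.inl x + DualNumber.eps)) hlift
  have hφX : φ (Ideal.Quotient.mk I Polynomial.X) = TrivSqZeroExt.inl x + DualNumber.eps :=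
    Polynomial.aeval_X _
  let ψ : TensorProduct K (Polynomial K ⧸ I) L →ₐ[K] DualNumber L :=
    Algebra.TensorProduct.lift φ (IsScalarTower.toAlgHom K L (DualNumber L)) (fun _ _ => Commute.all _ _)
  have hψa : ψ a = DualNumber.eps := by
    simp only [ψ, a, map_sub, Algebra.TensorProduct.lift_tmul, hφX, map_one, mul_one, one_mul]
    show TrivSqZeroExt.inl x + DualNumber.eps - TrivSqZeroExt.inl x = _
    simp
  have hfst : ∀ h, TrivSqZeroExt.fst (ψ h) = mul (e h) := by
    intro h
    induction h with
    | zero => simp
    | add y z hy hz => simp [hy, hz]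
    | tmul y l =>
      obtain ⟨P, rfl⟩ := Ideal.Quotient.mk_surjective y
      simp only [ψ, e, mul, Algebra.TensorProduct.lift_tmul, Algebra.TensorProduct.map_tmul,
        AlgHom.id_apply, Algebra.TensorProduct.lmul'_apply_tmul]
      show TrivSqZeroExt.fst (Polynomial.aeval (TrivSqZeroExt.inl x + DualNumber.eps : DualNumber L) P *
        TrivSqZeroExt.inl l) = Polynomial.aeval x P * l
      rw [TrivSqZeroExt.fst_mul, TrivSqZeroExt.fst_inl]
      congr 1
      have := Polynomial.aeval_algHom_apply ((TrivSqZeroExt.fstHom L L L).restrictScalars K)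
        (TrivSqZeroExt.inl x + DualNumber.eps : DualNumber L) P
      simp at this
      exact this.symm
  apply hgne
  have := congrArg ψ hga
  rw [map_mul, hψa, map_zero] at this
  rw [← hfst]
  have := congrArg TrivSqZeroExt.snd this
  simpa [TrivSqZeroExt.snd_mul] using this

end Groth.Agent.S0426
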