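import Groth.Statements.S7130
import Mathlib.RingTheory.Ideal.Pure
import Mathlib.RingTheory.Flat.Localization
import Mathlib.RingTheory.Nilpotent.Basic
import Mathlib.RingTheory.LocalProperties.Reduced
import Mathlib.RingTheory.KrullDimension.Basic
import Mathlib.LinearAlgebra.Basis.VectorSpace
-- import your own Groth.Agent.* helpers here

set_option autoImplicit false
universe u
open EtAlg

namespace Groth.Agent.S7130

/-- (2) ⇔ (3) ⇔ (4): for a ring A the following are equivalent: every A-module is flat; A is reduced of
Krull dimension zero, in the sense that every prime ideal of A is maximal; the local ring A_p is a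
field for every prime p. (The further equivalent condition 'A has weak dimension at most zero'
coincides with the first condition by definition and is not listed separately.) -/
theorem result (A : Type u) [CommRing A] :
    List.TFAE [∀ (M : Type u) [AddCommGroup M] [Module A M], Module.Flat A M,
      IsReduced A ∧ ∀ p : Ideal A, p.IsPrime → p.IsMaximal,
      ∀ (p : Ideal A) [p.IsPrime], IsField (Localization.AtPrime p)] := by
  tfae_have 1 → 2 := fun h => by
    have key : ∀ a : A, ∃ c, a = a * a * c := fun a => by
      haveI : (Ideal.span {a}).Pure := h _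
      have : a ∈ Ideal.span {a} * Ideal.span {a} := by
        rw [Ideal.isIdempotentElem_of_pure (Ideal.span {a})]
        exact Ideal.mem_span_singleton_self a
      rw [Ideal.span_singleton_mul_span_singleton, Ideal.mem_span_singleton] at this
      obtain ⟨c, hc⟩ := this
      exact ⟨c, hc⟩
    refine ⟨(isReduced_iff_pow_one_lt 2 Nat.one_lt_two).mpr fun a ha => ?_, fun p hp => ?_⟩
    · obtain ⟨c, hc⟩ := key a
      rw [hc, ← sq, ha, zero_mul]
    · rw [Ideal.isMaximal_iff]
      refine ⟨fun h1 => hp.ne_top ((Ideal.eq_top_iff_one p).mpr h1), fun J a hJ haP haJ => ?_⟩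
      obtain ⟨c, hc⟩ := key a
      have : a * (1 - a * c) ∈ p := by
        rw [show a * (1 - a * c) = a - a * a * c by ring, ← hc, sub_self]; exact zero_mem _
      rw [show (1 : A) = (1 - a * c) + a * c by ring]
      exact add_mem (hJ ((hp.mem_or_mem this).resolve_left haP)) (J.mul_mem_right _ haJ)
  tfae_have 2 → 3 := by
    rintro ⟨hred, hmax⟩ p hp
    haveI : IsReduced (Localization.AtPrime p) :=
      isReduced_localizationPreserves p.primeCompl _ hred
    haveI : Ring.KrullDimLE 0 A := Ring.KrullDimLE.mk₀ hmax
    have hmin : ∀ q : Ideal (Localization.AtPrime p), q.IsPrime → q = IsLocalRing.maximalIdeal _ := by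
      intro q hq
      have hle : q.under A ≤ p :=
        (Ideal.comap_mono (IsLocalRing.le_maximalIdeal hq.ne_top)).trans_eq
          (Localization.AtPrime.under_maximalIdeal)
      have := (hmax (q.under A) inferInstance).eq_of_le hp.ne_top hle
      rw [← IsLocalization.map_comap p.primeCompl _ q]
      exact (congrArg (Ideal.map _) this).trans Localization.AtPrime.map_eq_maximalIdeal
    rw [IsLocalRing.isField_iff_maximalIdeal_eq, eq_bot_iff]
    intro x hx
    refine (nilpotent_iff_mem_prime.mpr fun q hq => ?_ : IsNilpotent x).eq_zero
    exact hmin q hq ▸ hx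
  tfae_have 3 → 1 := fun h M _ _ => by
    refine Module.flat_of_localized_maximal M fun P hP => ?_
    letI := (h P).toField
    exact Module.Flat.trans A (Localization.AtPrime P) _
  tfae_finish

end Groth.Agent.S7130
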