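import Groth.Statements.S0108
import Groth.Agent.H18Et.RootCover
import Groth.Agent.H18Et.MuConst

set_option autoImplicit false
set_option backward.isDefEq.respectTransparency.types false
set_option backward.isDefEq.respectTransparency false
open scoped Groth.Agent.H18Et
open CategoryTheory CategoryTheory.Limits AlgebraicGeometry Opposite
universe u
open EtBase

namespace Groth.Agent.S0108

/-- The Kummer sequence — when n is invertible on S, the n-th power map on the multiplicative group
sheaf is an epimorphism of étale sheaves (its kernel μ_n is, by definition in the prelude, the sheaf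
of n-th roots of unity, so the sequence 0 → μ_n → G_m → G_m → 0 is exact). -/
theorem result (S : Scheme.{u}) (n : ℕ) (hn : IsUnit (n : Γ(S, ⊤))) : Epi (EtCoh.powMap S n) := by
  have : CategoryTheory.Sheaf.IsLocallySurjective (EtCoh.powMap S n) := by
    refine ⟨fun {U} s => Groth.Agent.H18Et.mem_topology_of_forall_point _ fun w => ?_⟩
    obtain ⟨a, rfl⟩ := Groth.Agent.H18Et.MuConst.sec_surjective s
    haveI : Nonempty U.left := ⟨w⟩
    have hu : IsUnit (n : Γ(U.left, ⊤)) := by
      have := hn.map U.hom.appTop.hom
      rwa [map_natCast] at this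
    haveI : Nontrivial Γ(U.left, ⊤) := (U.left.evaluation ⊤ w trivial).hom.domain_nontrivial
    have hn0 : 0 < n := by
      rcases Nat.eq_zero_or_pos n with rfl | h
      · simp at hu
      · exact h
    have hcop : IsCoprime (Polynomial.X ^ n - Polynomial.C a.val)
        (Polynomial.derivative (Polynomial.X ^ n - Polynomial.C a.val)) := by
      obtain ⟨b, hb⟩ : ∃ b, a.val * b = 1 := ⟨_, a.mul_inv⟩
      obtain ⟨c, hc⟩ : ∃ c, (n : Γ(U.left, ⊤)) * c = 1 := ⟨_, hu.mul_val_inv⟩
      refine ⟨-Polynomial.C b, Polynomial.C b * Polynomial.C c * Polynomial.X, ?_⟩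
      have h1 : Polynomial.C a.val * Polynomial.C b = 1 := by rw [← Polynomial.C_mul, hb, map_one]
      have h2 : Polynomial.C (n : Γ(U.left, ⊤)) * Polynomial.C c = 1 := by
        rw [← Polynomial.C_mul, hc, map_one]
      have h3 : (Polynomial.X : Polynomial Γ(U.left, ⊤)) * Polynomial.X ^ (n - 1) = Polynomial.X ^ n := by
        rw [← pow_succ', Nat.sub_add_cancel hn0]
      rw [Polynomial.derivative_sub, Polynomial.derivative_C, Polynomial.derivative_X_pow, sub_zero]
      linear_combination h1 + (Polynomial.C b * Polynomial.X * Polynomial.X ^ (n - 1)) * h2 +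
        Polynomial.C b * h3
    obtain ⟨V, g, v, t, hv, ht⟩ := Groth.Agent.H18Et.RootCover.exists_root_nbhd U w
      (Polynomial.X ^ n - Polynomial.C a.val) (Polynomial.monic_X_pow_sub_C _ hn0.ne') hcop
      (by rw [Polynomial.natDegree_X_pow_sub_C]; exact hn0)
    simp only [Polynomial.map_sub, Polynomial.map_pow, Polynomial.map_X, Polynomial.map_C,
      Polynomial.eval_sub, Polynomial.eval_pow, Polynomial.eval_X, Polynomial.eval_C, sub_eq_zero] at ht
    have htu : IsUnit t := (isUnit_pow_iff hn0.ne').1 (ht ▸ a.isUnit.map g.left.appTop.hom)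
    refine ⟨V, g, v, ⟨Groth.Agent.H18Et.MuConst.sec htu.unit, ?_⟩, hv⟩
    rw [Groth.Agent.H18Et.MuConst.map_sec]
    change n • Groth.Agent.H18Et.MuConst.sec htu.unit = _
    rw [Groth.Agent.H18Et.MuConst.nsmul_sec]
    exact congrArg Groth.Agent.H18Et.MuConst.sec (Units.ext (by simpa using ht))
  exact Sheaf.epi_of_isLocallySurjective _

end Groth.Agent.S0108
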