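import Groth.Statements.S3246
import Groth.Agent.S0108

set_option autoImplicit false
universe u
open CategoryTheory CategoryTheory.Limits AlgebraicGeometry Opposite
open Dix

namespace Groth.Agent.S3246

/-- Let X be a scheme, ℓ a prime and n an integer with cd_ℓ(X) ≤ n (étale cohomology of ℓ-primary
torsion sheaves vanishes above degree n). Then the ℓ-primary torsion of H^i(X_ét, G_m) is zero for i
> n + 1; if moreover ℓ is invertible on X, it is zero for i > n. -/
theorem result (X : Scheme.{u}) (ℓ : ℕ) (hℓ : ℓ.Prime) (n : ℕ) (hcd : Dix.CohDimLEAt X ℓ n) : (∀ i : ℕ, n + 1 < i → ∀ ξ : EtCoh.H X (EtCoh.Gm X) i, (∃ k : ℕ, ℓ ^ k • ξ = 0) → ξ = 0) ∧ (Dix.InvertibleOn X ℓ → ∀ i : ℕ, n < i → ∀ ξ : EtCoh.H X (EtCoh.Gm X) i, (∃ k : ℕ, ℓ ^ k • ξ = 0) → ξ = 0) := by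
  have htor : ∀ (F : EtCoh.Ab X) (k : ℕ), (ℓ ^ k) • 𝟙 F = 0 → Dix.IsPrimaryTorsion ℓ F := fun F k hF U s x => by
    refine ⟨U, 𝟙 U, ⟨x, rfl⟩, k, ?_⟩
    have h := congrArg (fun φ : F ⟶ F => φ.hom.app (op U) s) hF
    rw [op_id, F.obj.map_id]
    change (ℓ ^ k) • s = 0
    have hsm : ∀ (N : ℕ), (N • 𝟙 F : F ⟶ F).hom.app (op U) s = N • s := fun N => by
      induction N with
      | zero => rw [zero_nsmul, zero_nsmul]; rfl
      | succ N ih =>
        rw [succ_nsmul, succ_nsmul]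
        exact congrArg (· + s) ih
    exact (hsm _).symm.trans h
  have hvan : ∀ (F : EtCoh.Ab X) (k : ℕ), (ℓ ^ k) • 𝟙 F = 0 → ∀ q, n < q → Subsingleton (EtCoh.H X F q) :=
    fun F k hF q hq => hcd F (htor F k hF) q hq
  -- the kernel and cokernel of the power map are killed by it
  have hker : ∀ N : ℕ, N • 𝟙 (kernel (EtCoh.powMap X N)) = 0 := fun N => by
    rw [← cancel_mono (kernel.ι (EtCoh.powMap X N)), zero_comp, Preadditive.nsmul_comp, Category.id_comp]
    have := kernel.condition (EtCoh.powMap X N)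
    rw [EtCoh.powMap, Preadditive.comp_nsmul, Category.comp_id] at this
    exact this
  have hcoker : ∀ N : ℕ, N • 𝟙 (cokernel (EtCoh.powMap X N)) = 0 := fun N => by
    rw [← cancel_epi (cokernel.π (EtCoh.powMap X N)), comp_zero, Preadditive.comp_nsmul, Category.comp_id]
    have := cokernel.condition (EtCoh.powMap X N)
    rw [EtCoh.powMap, Preadditive.nsmul_comp, Category.id_comp] at this
    exact this
  have hpow : ∀ (N i : ℕ) (ξ : EtCoh.H X (EtCoh.Gm X) i),
      Abelian.Ext.comp ξ (Abelian.Ext.mk₀ (EtCoh.powMap X N)) (add_zero i) = N • ξ := fun N i ξ => by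
    haveI : (EtCoh.HF X i).Additive := by unfold EtCoh.HF; infer_instance
    change (EtCoh.HF X i).map (EtCoh.powMap X N) ξ = N • ξ
    rw [EtCoh.powMap, Functor.map_nsmul, CategoryTheory.Functor.map_id]
    rfl
  constructor
  · rintro i hi ξ ⟨k, hk⟩
    let N := ℓ ^ k
    let p := EtCoh.powMap X N
    let im := Abelian.image p
    let g := Abelian.factorThruImage p
    let m := Abelian.image.ι p
    have hgm : g ≫ m = p := Abelian.image.fac p
    let S₁ : ShortComplex (EtCoh.Ab X) := ShortComplex.mk (kernel.ι p) g (by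
      rw [← cancel_mono m, Category.assoc, hgm, kernel.condition, zero_comp])
    have hS₁ : S₁.ShortExact := by
      haveI : Mono S₁.f := inferInstanceAs (Mono (kernel.ι p))
      haveI : Epi S₁.g := inferInstanceAs (Epi g)
      refine ⟨ShortComplex.exact_of_f_is_kernel _ (KernelFork.IsLimit.ofι _ _
        (fun x hx => kernel.lift p x (by rw [← hgm, ← Category.assoc, hx, zero_comp]))
        (fun x hx => kernel.lift_ι _ _ _) (fun x hx l hl => ?_))⟩
      rw [← cancel_mono (kernel.ι p), kernel.lift_ι]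
      exact hl
    let S₂ : ShortComplex (EtCoh.Ab X) := ShortComplex.mk m (cokernel.π p) (by
      rw [← cancel_epi g, ← Category.assoc, hgm, cokernel.condition, comp_zero])
    have hS₂ : S₂.ShortExact := by
      haveI : Mono S₂.f := inferInstanceAs (Mono m)
      haveI : Epi S₂.g := inferInstanceAs (Epi (cokernel.π p))
      exact ⟨ShortComplex.exact_kernel (cokernel.π p)⟩
    have h1 : Abelian.Ext.comp ξ (Abelian.Ext.mk₀ g) (add_zero i) = 0 := by
      obtain ⟨i', rfl⟩ : ∃ i', i = i' + 1 := ⟨i - 1, by omega⟩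
      obtain ⟨x₃, hx₃⟩ := Abelian.Ext.covariant_sequence_exact₁ _ hS₂
        (Abelian.Ext.comp ξ (Abelian.Ext.mk₀ g) (add_zero _)) (by
          rw [Abelian.Ext.comp_assoc_of_second_deg_zero, Abelian.Ext.mk₀_comp_mk₀]
          change Abelian.Ext.comp ξ (Abelian.Ext.mk₀ (g ≫ m)) (add_zero _) = 0
          rw [hgm, hpow]
          exact hk) rfl
      haveI : Subsingleton (EtCoh.H X S₂.X₃ i') := hvan _ k (hcoker N) i' (by omega)
      rw [← hx₃, Subsingleton.elim (α := EtCoh.H X S₂.X₃ i') x₃ 0, Abelian.Ext.zero_comp]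
    obtain ⟨x₁, hx₁⟩ := Abelian.Ext.covariant_sequence_exact₂ _ hS₁ ξ h1
    haveI : Subsingleton (EtCoh.H X S₁.X₁ i) := hvan _ k (hker N) i (by omega)
    rw [← hx₁, Subsingleton.elim (α := EtCoh.H X S₁.X₁ i) x₁ 0, Abelian.Ext.zero_comp]
  · rintro hinv i hi ξ ⟨k, hk⟩
    let N := ℓ ^ k
    have hu : IsUnit (N : Γ(X, ⊤)) := by
      refine X.toRingedSpace.isUnit_of_isUnit_germ ⊤ _ fun x hx => ?_
      refine (X.mem_basicOpen _ x hx).1 ((X.evaluation_ne_zero_iff_mem_basicOpen x hx _).1 ?_)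
      rw [map_natCast, Nat.cast_pow]
      exact pow_ne_zero _ (hinv x)
    haveI : Epi (EtCoh.powMap X N) := Groth.Agent.S0108.result X N hu
    let S : ShortComplex (EtCoh.Ab X) := ShortComplex.mk (kernel.ι (EtCoh.powMap X N)) (EtCoh.powMap X N) (kernel.condition _)
    haveI : Mono S.f := inferInstanceAs (Mono (kernel.ι (EtCoh.powMap X N)))
    haveI : Epi S.g := ‹Epi (EtCoh.powMap X N)›
    have hS : S.ShortExact := ⟨ShortComplex.exact_of_f_is_kernel _ (kernelIsKernel _)⟩
    obtain ⟨x₁, hx₁⟩ := Abelian.Ext.covariant_sequence_exact₂ _ hS ξ ((hpow N i ξ).trans hk)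
    haveI : Subsingleton (EtCoh.H X S.X₁ i) := hvan _ k (hker N) i hi
    rw [← hx₁, Subsingleton.elim (α := EtCoh.H X S.X₁ i) x₁ 0, Abelian.Ext.zero_comp]

end Groth.Agent.S3246
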