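import Groth.Statements.S6184
import Mathlib.CategoryTheory.Adjunction.Triple

set_option autoImplicit false
open CategoryTheory CategoryTheory.Limits AlgebraicGeometry Opposite
universe u
open BigSite

namespace Groth.Agent.S6184


universe v' u'
theorem isIso_unit_of_fullyFaithful {C : Type*} [Category C] {D : Type*} [Category D] (G : C ⥤ D)
    [G.Full] [G.Faithful] (J : GrothendieckTopology C) (K : GrothendieckTopology D)
    [G.IsContinuous J K] [G.IsCocontinuous J K] (A : Type*) [Category A]
    [∀ F : Cᵒᵖ ⥤ A, G.op.HasPointwiseRightKanExtension F]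
    [(G.sheafPushforwardContinuous A J K).IsRightAdjoint] (F : Sheaf J A) :
    IsIso ((G.sheafAdjunctionContinuous A J K).unit.app F) := by
  let t : Adjunction.Triple (G.sheafPullback A J K) (G.sheafPushforwardContinuous A J K)
      (G.sheafPushforwardCocontinuous A J K) :=
    ⟨G.sheafAdjunctionContinuous A J K, G.sheafAdjunctionCocontinuous A J K⟩
  haveI : ∀ F, IsIso ((G.sheafAdjunctionCocontinuous A J K).counit.app F) := fun F => by
    haveI : IsIso ((G.sheafAdjunctionCocontinuous A J K).counit.app F).hom := by
      rw [Functor.sheafAdjunctionCocontinuous_counit_app_hom, Functor.ranAdjunction_counit]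
      haveI : ∀ X, IsIso ((G.op.ranCounit.app F.obj).app X) := fun X =>
        (Functor.isPointwiseRightKanExtensionRanCounit G.op F.obj (G.op.obj X)).isIso_hom_app
      exact NatIso.isIso_of_isIso_app (G.op.ranCounit.app F.obj)
    haveI : IsIso ((sheafToPresheaf _ _).map ((G.sheafAdjunctionCocontinuous A J K).counit.app F)) := this
    exact isIso_of_reflects_iso _ (sheafToPresheaf _ _)
  haveI : IsIso t.adj₂.counit := NatIso.isIso_of_isIso_app _
  haveI : IsIso t.adj₁.unit := t.isIso_unit_iff_isIso_counit.mpr inferInstance
  exact inferInstanceAs (IsIso (t.adj₁.unit.app F))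


/-- Let X be a scheme, u the inclusion of the small etale site of X into the big etale site (X-schemes
with the etale topology), u_* restriction of sheaves along it and u^* its left adjoint. For every
sheaf of sets G and every abelian sheaf G on the small etale site, the unit G -> u_* u^* G is an
isomorphism (so u^* is fully faithful). Stated for sheaves of sets (first conjunct, with Mathlib's
sheaf pullback along the inclusion) and for abelian sheaves (second conjunct, the prelude's
adjunction on the big etale site). -/
theorem result (X : Scheme.{u}) :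
    (∀ G : EtDesc.Sh X, IsIso (((EtFppf.a X).sheafAdjunctionContinuous (Type (u + 1)) X.smallEtaleTopology
      (QuotSh.J Scheme.etalePrecoverage X)).unit.app G)) ∧
    (∀ G : EtCoh.Ab X, IsIso ((BigSite.piEtAdj Scheme.etalePrecoverage X).unit.app G)) := by
  haveI : (EtFppf.a X).Full := inferInstanceAs (Scheme.Etale.forget X).Full
  haveI : (EtFppf.a X).Faithful := inferInstanceAs (Scheme.Etale.forget X).Faithful
  exact ⟨fun G => isIso_unit_of_fullyFaithful (EtFppf.a X) _ _ _ G,
    fun G => isIso_unit_of_fullyFaithful (EtFppf.a X) _ _ _ G⟩

end Groth.Agent.S6184
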