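import Groth.Statements.S0103
import Groth.Agent.H9Et.GaAcyclic
import Groth.Agent.H9Et.ArtinSchreier
-- import your own Groth.Agent.* helpers here

set_option autoImplicit false
open CategoryTheory CategoryTheory.Limits AlgebraicGeometry Opposite
universe u
open EtBase

namespace Groth.Agent.S0103

/-- Let S be an affine scheme whose ring of global sections has prime characteristic p. Then the étale
cohomology H^q(S, Z/p) with constant Z/p coefficients vanishes for every q ≥ 2. -/
theorem result (S : Scheme.{u}) [IsAffine S] (p : ℕ) [Fact p.Prime] [CharP Γ(S, ⊤) p]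
    (q : ℕ) (hq : 2 ≤ q) : Subsingleton (EtCoh.H S (EtCoh.const S (ZMod p)) q) := by
  obtain ⟨q, rfl⟩ : ∃ r, q = r + 2 := ⟨q - 2, by omega⟩
  refine subsingleton_of_forall_eq 0 fun x => ?_
  obtain ⟨y, rfl⟩ := Abelian.Ext.covariant_sequence_exact₁ _ (Groth.Agent.H9Et.AS.shortExact_seq S p) x
    ((Groth.Agent.H9Et.subsingleton_H_Ga (q + 1)).elim _ _) (show q + 1 + 1 = q + 2 by omega)
  rw [(Groth.Agent.H9Et.subsingleton_H_Ga q).elim y 0]
  simp

end Groth.Agent.S0103
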