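import Groth.Statements.S0654
import Groth.Agent.H18Et.ExtZeroOpen
import Groth.Agent.H18Et.PushClosed

set_option autoImplicit false
open CategoryTheory CategoryTheory.Limits AlgebraicGeometry Opposite
universe u
open EtCore

namespace Groth.Agent.S0654

/-- Let i : Z -> X be a closed immersion and j : U -> X the open immersion of the complement of its
image. For every abelian sheaf F on the small etale site of X, the counit j_! (F|_U) -> F followed
by the unit F -> i_* i^{-1} F composes to zero and the resulting three-term sequence is short exact.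
(Continuity of the composition functor of etale sites, which always holds, is carried as an instance
hypothesis.) -/
theorem result {Z X : Scheme.{u}} (i : Z ⟶ X) [IsClosedImmersion i]
    (U : X.Opens) (hU : (U : Set X) = (Set.range i.base)ᶜ) [AlgebraicGeometry.Etale U.ι] [EtShriek.JCont U.ι]
    (F : EtCoh.Ab X) :
    ∃ w : (EtShriek.extZeroAdj U.ι).counit.app F ≫ (EtCoh.pullPushAdj i).unit.app F = 0,
      (ShortComplex.mk _ _ w).ShortExact := by
  haveI : IsOpenImmersion U.ι := inferInstance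
  have hr : ∀ {Ω : Type u} [Field Ω] [IsSepClosed Ω] (ξ : Spec (CommRingCat.of Ω) ⟶ X),
      ξ default ∈ Set.range U.ι ↔ ξ default ∉ Set.range i := fun ξ => by
    rw [Scheme.Opens.range_ι, hU]; rfl
  have hcl : IsClosed (Set.range i.base) := i.isClosedEmbedding.isClosed_range
  have hz : ∀ (Ω : Type u) [Field Ω] [IsSepClosed Ω] (ξ : Spec (CommRingCat.of Ω) ⟶ X),
      ξ default ∈ Set.range U.ι → IsZero ((EtCoh.stalk ξ).obj ((EtCoh.push i).obj ((EtCoh.pull i).obj F))) :=
    fun Ω _ _ ξ h => AddCommGrpCat.isZero_iff_subsingleton.2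
      (Groth.Agent.H18Et.subsingleton_stalk_push i hcl _ ξ ((hr ξ).1 h))
  have hu : ∀ (Ω : Type u) [Field Ω] [IsSepClosed Ω] (ξ : Spec (CommRingCat.of Ω) ⟶ X),
      ξ default ∉ Set.range U.ι → IsIso ((EtCoh.stalk ξ).map ((EtCoh.pullPushAdj i).unit.app F)) := by
    intro Ω _ _ ξ h
    have hmem : ξ default ∈ Set.range i := not_not.1 fun h' => h ((hr ξ).2 h')
    haveI : Surjective (pullback.snd i ξ) := ⟨fun p => by
      obtain ⟨z, hz⟩ := hmem
      obtain ⟨q, -, hq⟩ := Scheme.Pullback.exists_preimage_pullback z p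
        (hz.trans (congrArg ξ (Subsingleton.elim _ _)))
      exact ⟨q, hq⟩⟩
    haveI : IsIso (pullback.snd i ξ) := isIso_of_isClosedImmersion_of_surjective _
    have e : ξ = (inv (pullback.snd i ξ) ≫ pullback.fst i ξ) ≫ i := by
      rw [Category.assoc, pullback.condition, IsIso.inv_hom_id_assoc]
    rw [e]
    exact (ConcreteCategory.isIso_iff_bijective _).2
      (Groth.Agent.H18Et.bijective_stalk_unit (Groth.Agent.H18Et.liftsEtaleUniv_of_isClosedImmersion i) F _)
  have hc : ∀ (Ω : Type u) [Field Ω] [IsSepClosed Ω] (ξ : Spec (CommRingCat.of Ω) ⟶ X),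
      ξ default ∉ Set.range U.ι → IsZero ((EtCoh.stalk ξ).obj ((EtShriek.extZero U.ι).obj ((EtShriek.restrAlong U.ι).obj F))) :=
    fun Ω _ _ ξ h => Groth.Agent.H18Et.ExtZeroStalk.isZero_stalk_extZero_of_notMem U.ι ξ _ h
  haveI : ∀ (Ω : Type u) [Field Ω] [IsSepClosed Ω] (ξ : Spec (CommRingCat.of Ω) ⟶ X),
      (EtCoh.stalk ξ).Additive := fun Ω _ _ ξ => Groth.Agent.H18Et.stalk_additive ξ
  have w : (EtShriek.extZeroAdj U.ι).counit.app F ≫ (EtCoh.pullPushAdj i).unit.app F = 0 := by
    refine Groth.Agent.H18Et.ExtZeroStalk.eq_zero_of_stalk _ fun Ω _ _ ξ => ?_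
    by_cases h : ξ default ∈ Set.range U.ι
    · exact (hz Ω ξ h).eq_of_tgt _ _
    · exact (hc Ω ξ h).eq_of_src _ _
  refine ⟨w, ?_⟩
  refine ShortComplex.ShortExact.mk' ((Groth.Agent.H18Et.exact_iff_stalk _).2 fun Ω _ _ ξ => ?_)
    ((Groth.Agent.H18Et.mono_iff_stalk _).2 fun Ω _ _ ξ => ?_) ((Groth.Agent.H18Et.epi_iff_stalk _).2 fun Ω _ _ ξ => ?_)
  · by_cases h : ξ default ∈ Set.range U.ι
    · haveI := Groth.Agent.H18Et.ExtZeroStalk.isIso_stalk_counit_of_mem ξ F h
      exact (ShortComplex.exact_iff_epi _ ((hz Ω ξ h).eq_of_tgt _ _)).2 (inferInstanceAs (Epi ((EtCoh.stalk ξ).map _)))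
    · haveI := hu Ω ξ h
      exact (ShortComplex.exact_iff_mono _ ((hc Ω ξ h).eq_of_src _ _)).2 (inferInstanceAs (Mono ((EtCoh.stalk ξ).map _)))
  · by_cases h : ξ default ∈ Set.range U.ι
    · haveI := Groth.Agent.H18Et.ExtZeroStalk.isIso_stalk_counit_of_mem ξ F h
      exact (inferInstance : Mono ((EtCoh.stalk ξ).map ((EtShriek.extZeroAdj U.ι).counit.app F)))
    · exact ⟨fun a b _ => (hc Ω ξ h).eq_of_tgt a b⟩
  · by_cases h : ξ default ∈ Set.range U.ι
    · exact ⟨fun a b _ => (hz Ω ξ h).eq_of_src a b⟩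
    · haveI := hu Ω ξ h
      exact (inferInstance : Epi ((EtCoh.stalk ξ).map ((EtCoh.pullPushAdj i).unit.app F)))

end Groth.Agent.S0654
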