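-- statement FlatMor.GrothFrozen.S0432 (Groth/Statements/S0432.lean; the theorem FlatMor.pushout_of_two_closed_immersions_exists);
import Groth.Statements.S0432
import Groth.Agent.H7Flat.PushoutCartesian
import Groth.Agent.H7Flat.AdaptedPairs

set_option autoImplicit false
universe u
open FlatMor

namespace Groth.Agent.S0432

open AlgebraicGeometry CategoryTheory Limits in
/-- The pushout of two closed immersions Z → X and Z → Y exists in schemes, both maps into it are closed
immersions and the square is cartesian. -/
theorem result {X Y Z : Scheme.{u}} (i : Z ⟶ X) (j : Z ⟶ Y) [IsClosedImmersion i] [IsClosedImmersion j] :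
    ∃ (P : Scheme.{u}) (a : X ⟶ P) (b : Y ⟶ P), IsPushout i j a b ∧ IsPullback i j a b ∧ IsClosedImmersion a ∧ IsClosedImmersion b := by
  have hcov := Groth.Agent.H7Flat.exists_adapted_pair i j fun y => by
    classical
    by_cases hy : y ∈ Set.range j
    · obtain ⟨z, rfl⟩ := hy
      obtain ⟨U, hU, hzU, -⟩ := exists_isAffineOpen_mem_and_subset (Set.mem_univ (i z)) (U := (⊤ : X.Opens))
      refine ⟨U, hU, fun z' hz' => ?_⟩
      rw [j.isClosedEmbedding.injective (show j z' = j z from hz')]
      exact hzU
    · exact ⟨⊥, isAffineOpen_bot X, fun z hz => absurd ⟨z, hz⟩ hy⟩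
  exact ⟨_, _, _, Groth.Agent.H7Flat.glued_isPushout hcov, Groth.Agent.H7Flat.glued_isPullback hcov,
    Groth.Agent.H7Flat.inX_isClosedImmersion hcov, Groth.Agent.H7Flat.inY_isClosedImmersion hcov⟩

end Groth.Agent.S0432
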