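import Groth.Statements.S5176
import Groth.Agent.H18Et.StalkSets
import Groth.Agent.H16Derived.AcyclicLES

set_option autoImplicit false
universe u
open CategoryTheory CategoryTheory.Limits AlgebraicGeometry Opposite
open EtDepth

namespace Groth.Agent.S5176

theorem mono_of_le {X U V : Scheme.{u}} (j : U ⟶ X) [EtCoh.BCCont j] (k : V ⟶ X) [EtCoh.BCCont k]
    (t : U ⟶ V) (ht : t ≫ k = j) (F : EtCoh.Ab X) (h : Mono (EtDual.unitApp j F)) :
    Mono (EtDual.unitApp k F) := by
  refine Preadditive.mono_of_cancel_zero _ fun {K} ι hι => ?_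
  let A := (EtCoh.pull j).obj F
  let e : (EtCoh.push j).obj A ≅ (EtCoh.push k).obj ((EtCoh.push t).obj A) :=
    ((EtCoh.pushComp k t ≪≫ EtCoh.pushCongr ht).app A).symm
  let φ := EtDual.unitApp j F ≫ e.hom
  have hφ : EtDual.unitApp k F ≫ (EtCoh.push k).map (((EtCoh.pullPushAdj k).homEquiv _ _).symm φ) = φ :=
    ((EtCoh.pullPushAdj k).homEquiv_unit _ _ _).symm.trans (Equiv.apply_symm_apply _ _)
  have h0 : ι ≫ φ = 0 := by rw [← hφ, reassoc_of% hι, zero_comp]
  have h1 : ι ≫ EtDual.unitApp j F = 0 := by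
    rw [← cancel_mono e.hom, Category.assoc, h0, zero_comp]
  exact Limits.zero_of_comp_mono (EtDual.unitApp j F) h1

theorem isZero_secSupp_iff {X U : Scheme.{u}} (j : U ⟶ X) [EtCoh.BCCont j] (F : EtCoh.Ab X) :
    IsZero ((EtDual.secSupp j).obj F) ↔ Mono (EtDual.unitApp j F) :=
  ⟨fun h => Preadditive.mono_of_kernel_zero (h.eq_of_src _ _), fun _ => isZero_kernel_of_mono _⟩

theorem preservesFiniteLimits_secSupp {X U : Scheme.{u}} (j : U ⟶ X) [EtCoh.BCCont j] :
    PreservesFiniteLimits (EtDual.secSupp j) :=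
  ((EtDual.secSupp j).preservesFiniteLimits_tfae.out 0 3 rfl rfl).1 fun S hS => by
    haveI := H18Et.pull_preservesFiniteLimits j
    haveI := hS.mono_f
    haveI : PreservesFiniteLimits (EtCoh.push j) :=
      (EtCoh.pullPushAdj j).rightAdjoint_preservesLimits.preservesFiniteLimits
    haveI hPf : Mono ((EtCoh.push j).map ((EtCoh.pull j).map S.f)) := inferInstance
    haveI hm : Mono ((EtDual.secSupp j).map S.f) :=
      mono_of_mono_fac (show (EtDual.secSupp j).map S.f ≫ kernel.ι _ = kernel.ι _ ≫ S.f from kernel.lift_ι _ _ _)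
    haveI : Mono (S.map (EtDual.secSupp j)).f := hm
    refine ⟨ShortComplex.exact_of_f_is_kernel _ (KernelFork.IsLimit.ofι' _ (S.map (EtDual.secSupp j)).zero
      fun {W} k hk => ?_), hm⟩
    have hι : ∀ {A B : EtCoh.Ab X} (g : A ⟶ B),
        (EtDual.secSupp j).map g ≫ kernel.ι (EtDual.unitApp j B) = kernel.ι (EtDual.unitApp j A) ≫ g :=
      fun g => kernel.lift_ι _ _ _
    let k' : W ⟶ S.X₂ := k ≫ kernel.ι (EtDual.unitApp j S.X₂)
    have h0 : k' ≫ S.g = 0 :=
      (Category.assoc _ _ _).trans ((congrArg (fun x => k ≫ x) (hι S.g).symm).trans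
        ((Category.assoc _ _ _).symm.trans ((congrArg (fun x => x ≫ kernel.ι (EtDual.unitApp j S.X₃)) hk).trans zero_comp)))
    let l := hS.exact.lift k' h0
    have hl : l ≫ S.f = k' := hS.exact.lift_f _ h0
    have hk'0 : k' ≫ EtDual.unitApp j S.X₂ = 0 :=
      (Category.assoc _ _ _).trans ((congrArg (fun x => k ≫ x) (kernel.condition _)).trans comp_zero)
    have hl0 : l ≫ EtDual.unitApp j S.X₁ = 0 := by
      rw [← cancel_mono ((EtCoh.push j).map ((EtCoh.pull j).map S.f)), zero_comp, Category.assoc]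
      have hnat := (EtCoh.pullPushAdj j).unit.naturality S.f
      calc l ≫ EtDual.unitApp j S.X₁ ≫ (EtCoh.push j).map ((EtCoh.pull j).map S.f)
          = l ≫ S.f ≫ EtDual.unitApp j S.X₂ := congrArg (fun x => l ≫ x) hnat.symm
        _ = 0 := by rw [reassoc_of% hl, hk'0]
    refine ⟨kernel.lift _ l hl0, (cancel_mono (kernel.ι (EtDual.unitApp j S.X₂))).1 ?_⟩
    exact (Category.assoc _ _ _).trans ((congrArg (fun x => kernel.lift _ l hl0 ≫ x) (hι S.f)).trans
      ((Category.assoc _ _ _).symm.trans ((congrArg (fun x => x ≫ S.f) (kernel.lift_ι _ l hl0)).trans hl)))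

theorem depthGE_mono {X U V : Scheme.{u}} (j : U ⟶ X) [EtCoh.BCCont j] (k : V ⟶ X) [EtCoh.BCCont k]
    (t : U ⟶ V) (ht : t ≫ k = j) : ∀ (n : ℕ) (F : EtCoh.Ab X), EtDepth.DepthGE j F n → EtDepth.DepthGE k F n := by
  haveI := preservesFiniteLimits_secSupp j
  haveI := preservesFiniteLimits_secSupp k
  haveI := H18Et.pull_preservesFiniteLimits j
  intro n
  induction n with
  | zero => exact fun F _ p hp => absurd hp (Nat.not_lt_zero p)
  | succ n ih =>
    intro F hF
    haveI hm : Mono (EtDual.unitApp j F) :=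
      (isZero_secSupp_iff j F).1 ((hF 0 n.succ_pos).of_iso
        ((EtDual.secSupp j).rightDerivedZeroIsoSelf.app F).symm)
    intro p hp
    rcases p with _ | p
    · exact ((isZero_secSupp_iff k F).2 (mono_of_le j k t ht F hm)).of_iso
        ((EtDual.secSupp k).rightDerivedZeroIsoSelf.app F)
    let J := Injective.under ((EtCoh.pull j).obj F)
    let I := (EtCoh.push j).obj J
    haveI : Injective I := Injective.injective_of_adjoint (EtCoh.pullPushAdj j) J
    haveI hPι : Mono ((EtCoh.push j).map (Injective.ι ((EtCoh.pull j).obj F))) := by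
      haveI : PreservesFiniteLimits (EtCoh.push j) :=
        (EtCoh.pullPushAdj j).rightAdjoint_preservesLimits.preservesFiniteLimits
      infer_instance
    let i : F ⟶ I := EtDual.unitApp j F ≫ (EtCoh.push j).map (Injective.ι _)
    haveI : Mono i := mono_comp _ _
    let S := ShortComplex.mk i (cokernel.π i) (cokernel.condition i)
    have hS : S.ShortExact :=
      { exact := ShortComplex.exact_of_g_is_cokernel _ (cokernelIsCokernel i) }
    have hIj : ∀ q, IsZero ((EtDual.locCoh j q).obj I) := by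
      intro q
      rcases q with _ | q
      · refine ((isZero_secSupp_iff j I).2 ?_).of_iso ((EtDual.secSupp j).rightDerivedZeroIsoSelf.app I)
        exact mono_of_mono_fac ((EtCoh.pullPushAdj j).right_triangle_components J)
      · exact (EtDual.secSupp j).isZero_rightDerived_obj_injective_succ q I
    have hG : EtDepth.DepthGE j S.X₃ n := fun q hq => by
      obtain ⟨T, hT, e₁, e₂, e₃, -⟩ := H16Derived.AcyclicLES.exists_les (EtDual.secSupp j) S hS
      exact ((hT.homology_exact₃ (q : ℤ) ((q + 1 : ℕ) : ℤ) (by simp)).isZero_X₂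
        (((hIj q : IsZero ((EtDual.locCoh j q).obj S.X₂)).of_iso (e₂ q).some.symm).eq_of_src _ _)
        (((hF (q + 1) (by omega) : IsZero ((EtDual.locCoh j (q + 1)).obj S.X₁)).of_iso
          (e₁ (q + 1)).some.symm).eq_of_tgt _ _)).of_iso (e₃ q).some
    have hGk := ih S.X₃ hG p (by omega)
    have hIk := (EtDual.secSupp k).isZero_rightDerived_obj_injective_succ p I
    obtain ⟨T, hT, e₁, e₂, e₃, -⟩ := H16Derived.AcyclicLES.exists_les (EtDual.secSupp k) S hS
    exact ((hT.homology_exact₁ (p : ℤ) ((p + 1 : ℕ) : ℤ) (by simp)).isZero_X₂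
      ((hGk.of_iso (e₃ p).some.symm).eq_of_src _ _)
      ((hIk.of_iso (e₂ (p + 1)).some.symm).eq_of_tgt _ _)).of_iso (e₁ (p + 1)).some

/-- For an abelian sheaf. Let X be a scheme, j : U → X and k : V → X open immersions with U ⊆ V, so that
the closed complement Z of V is contained in the closed complement Y of U, F an abelian sheaf on the
small étale site of X and n ≥ 0. If the Y-étale depth of F is ≥ n (the local cohomology sheaves
H^p_Y(F) vanish for p < n), then the Z-étale depth of F is ≥ n. -/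
theorem result {X U V : Scheme.{u}} (j : U ⟶ X) [IsOpenImmersion j] [EtCoh.BCCont j] (k : V ⟶ X) [IsOpenImmersion k] [EtCoh.BCCont k] (hUV : Set.range j.base ⊆ Set.range k.base) (F : EtCoh.Ab X) (n : ℕ) (h : EtDepth.DepthGE j F n) : EtDepth.DepthGE k F n := by
  exact depthGE_mono j k (IsOpenImmersion.lift k j hUV) (IsOpenImmersion.lift_fac k j hUV) n F h

end Groth.Agent.S5176
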