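import Groth.Statements.S15922
import Groth.Agent.H29RR.GenPoint
import Groth.Agent.H29RR.Generation
import Groth.Agent.H25Euler.ParSh
import Groth.Agent.H25Euler.Mult

set_option autoImplicit false
universe u
open CategoryTheory CategoryTheory.Limits AlgebraicGeometry
open Curves

namespace Groth.Agent.S15922

/-- Let k be an algebraically closed field, X a curve over k (proper over k, reduced, connected, every
irreducible component of dimension one) and P a closed point of X, with m_P the ideal sheaf of the
reduced point P viewed as an O_X-module. Then m_P is a torsion-free sheaf of rank one and degree -1: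
regular elements of each local ring O_{X,x} act injectively on the stalk of m_P at x, the stalk at
every generic point of an irreducible component has dimension one over the local ring there, and
χ(X, m_P) - χ(X, O_X) = -1. -/
theorem result (k : Type u) [Field k] [IsAlgClosed k] (X : Scheme.{u}) [X.Over (Spec (CommRingCat.of k))] [IsProper (X ↘ (Spec (CommRingCat.of k)))] [IsReduced X] [ConnectedSpace X]
    (hequi : ∀ Z ∈ irreducibleComponents (X : Type u), topologicalKrullDim Z = 1)
    (P : X) (hP : IsClosed ({P} : Set X)) :
    TorSh.IsTorsionFree (ClSub.idealMod (Scheme.IdealSheafData.vanishingIdeal ⟨{P}, hP⟩)) ∧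
    (∀ η : X, closure ({η} : Set X) ∈ irreducibleComponents (X : Type u) →
      Module.finrank (X.presheaf.stalk η) ((ClSub.idealMod (Scheme.IdealSheafData.vanishingIdeal ⟨{P}, hP⟩)).presheaf.stalk η) = 1) ∧
    Curv2.deg k X (ClSub.idealMod (Scheme.IdealSheafData.vanishingIdeal ⟨{P}, hP⟩)) 1 = -1 := by
  haveI := H29RR.isNoetherian_of_proper (k := k) (X := X)
  rw [← H29RR.ptIdeal_eq_vanishingIdeal hP]
  let I := H29RR.ptIdeal P
  have hsupp : (I.support : Set X) = {P} := by
    rw [← Scheme.IdealSheafData.range_subschemeι]
    exact H29RR.range_subscheme_pt hP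
  haveI : Mono (ClSub.idealModι I) := inferInstanceAs (Mono (Limits.kernel.ι _))
  refine ⟨H25Euler.isTorsionFree_of_mono (ClSub.idealModι I) (fun x => by
    haveI := (H25Par.finrank_stalk (H29RR.rank_one_of_isInvertible (H11Ample.isInvertible_structureModule (X := X))) x).1
    infer_instance), fun η hη => ?_, ?_⟩
  · have hne : η ∉ (I.support : Set X) := by
      rw [hsupp, Set.mem_singleton_iff]
      rintro rfl
      have h1 := hequi _ hη
      rw [hP.closure_eq] at h1
      haveI : Subsingleton ↥({η} : Set X) := Set.subsingleton_singleton.coe_sort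
      have h0 : topologicalKrullDim ↥({η} : Set X) ≤ 0 := topologicalKrullDim_zero_of_discreteTopology _
      rw [h1] at h0
      exact absurd h0 (by norm_num)
    haveI := H25Euler.isIso_stalk_idealModι I hne
    let e := (asIso ((DerSch.stalkFunctor X η).map (ClSub.idealModι I))).toLinearEquiv
    exact e.finrank_eq.trans (H25Par.finrank_stalk (H29RR.rank_one_of_isInvertible (H11Ample.isInvertible_structureModule (X := X))) η).2.2
  · have hI : Coh.IsCoh (ClSub.idealMod I) := H10Coh.isCoh_kernel _ (H10Coh.isCoh_structureModule' X)
      (H24FSch.isCoh_pushforward_of_isClosedImmersion I.subschemeι (H10Coh.isCoh_structureModule' _)).1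
    obtain ⟨-, -, h⟩ := H29RR.twist_point (k := k) hP (H11Ample.isInvertible_structureModule (X := X)) hI
    rw [H29RR.finrank_residue_eq_one hP, H25Euler.euler_congr (H10Coh.Tw.rightUnitIso (ClSub.idealMod I))] at h
    show Curv2.euler k X (ClSub.idealMod I) - (1 : ℕ) * Curv2.euler k X (Coh.structureModule X) = -1
    omega

end Groth.Agent.S15922
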