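import Groth.Statements.S9802
import Groth.Agent.H8Props.NagataAffine
import Groth.Agent.H17.Reduced

set_option autoImplicit false
set_option linter.style.haveILetI false
universe u
open CategoryTheory AlgebraicGeometry TopologicalSpace
open Props

namespace Groth.Agent.S9802
open Groth.Agent in
theorem isN2_of_ringEquiv {R S : Type u} [CommRing R] [IsDomain R] [CommRing S] [IsDomain S] (e : R ≃+* S)
    (h : CAlg.IsN2 R) : CAlg.IsN2 S := by
  letI := e.toRingHom.toAlgebra
  haveI := H8Props.NagataAffine.isLocalization_bot_of_bijective (R := R) (S := S) e.bijective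
  exact S9392.result R ⊥ S h

theorem isIntegral_vanishingIdeal {X : Scheme.{u}} (Z : Set X) (hZ : IsClosed Z) (x : X) (hx : closure {x} = Z) :
    IsIntegral (Scheme.IdealSheafData.vanishingIdeal (X := X) ⟨Z, hZ⟩).subscheme ∧
    ∃ t, closure ({t} : Set (Scheme.IdealSheafData.vanishingIdeal (X := X) ⟨Z, hZ⟩).subscheme) = Set.univ ∧
      (Scheme.IdealSheafData.vanishingIdeal (X := X) ⟨Z, hZ⟩).subschemeι t = x := by
  let I := Scheme.IdealSheafData.vanishingIdeal (X := X) ⟨Z, hZ⟩
  have hr : Set.range I.subschemeι = Z := by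
    rw [Scheme.IdealSheafData.range_subschemeι, Scheme.IdealSheafData.coe_support_vanishingIdeal]
    rfl
  obtain ⟨t, ht⟩ : x ∈ Set.range I.subschemeι := hr.symm ▸ hx ▸ subset_closure rfl
  have h1 : closure ({t} : Set I.subscheme) = Set.univ := Set.eq_univ_of_forall fun w => by
    refine (I.subschemeι.isEmbedding.isInducing.specializes_iff.1 ?_).mem_closure
    rw [ht, specializes_iff_mem_closure, hx, ← hr]
    exact Set.mem_range_self w
  haveI : IrreducibleSpace I.subscheme :=
    (irreducibleSpace_def _).2 (show IsIrreducible (Set.univ : Set I.subscheme) from h1 ▸ isIrreducible_singleton.closure)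
  haveI : IsReduced I.subscheme := Groth.Agent.H17.isReduced_vanishingIdeal_subscheme _
  exact ⟨isIntegral_of_irreducibleSpace_of_isReduced _, t, h1, ht⟩

theorem ker_app_eq {X Z : Scheme.{u}} (i : Z ⟶ X) [IsIntegral Z] {U : X.Opens} (hU : IsAffineOpen U)
    (p : PrimeSpectrum Γ(X, U)) (hp : i (genericPoint Z) = hU.fromSpec p) :
    RingHom.ker (i.app U).hom = p.asIdeal := by
  ext s
  have hi : i (genericPoint Z) ∈ X.basicOpen s ↔ s ∉ p.asIdeal := by
    rw [hp]
    change p ∈ hU.fromSpec ⁻¹ᵁ X.basicOpen s ↔ _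
    rw [hU.fromSpec_preimage_basicOpen]
    rfl
  rw [RingHom.mem_ker, ← basicOpen_eq_bot_iff, ← Scheme.preimage_basicOpen]
  constructor
  · intro h
    by_contra hs
    have : genericPoint Z ∈ i ⁻¹ᵁ X.basicOpen s := hi.2 hs
    rw [h] at this
    exact this
  · intro hs
    refine TopologicalSpace.Opens.ext (Set.eq_empty_iff_forall_notMem.2 fun z hz => ?_)
    exact hi.1 ((genericPoint_specializes z).mem_open (i ⁻¹ᵁ X.basicOpen s).isOpen hz) hs


/-- A locally Noetherian scheme is Nagata (every affine open has a Nagata coordinate ring) if and only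
if every integral closed subscheme is Japanese (every nonempty affine open of it has an N-2
coordinate ring). -/
theorem result (X : Scheme.{u})
    [IsLocallyNoetherian X] :
    (∀ U : X.Opens, IsAffineOpen U → CAlg.IsNagata Γ(X, U)) ↔
      ∀ (Z : Scheme.{u}) (i : Z ⟶ X) [IsClosedImmersion i] [IsIntegral Z]
        (V : Z.Opens) [Nonempty V], IsAffineOpen V → CAlg.IsN2 Γ(Z, V) := by
    constructor
    · intro h Z i _ _ V _ hV
      let ι : Type _ := {U : X.affineOpens // Nonempty (i ⁻¹ᵁ U.1)}
      haveI : ∀ j : ι, Nonempty (i ⁻¹ᵁ j.1.1) := fun j => j.2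
      refine H8Props.NagataAffine.isN2_affineOpen Z (fun j : ι => i ⁻¹ᵁ j.1.1) ?_
        (fun j => j.1.2.preimage i) V hV fun j => ?_
      · refine eq_top_iff.2 fun z _ => ?_
        obtain ⟨U, hU, hz, -⟩ := exists_isAffineOpen_mem_and_subset (x := i z) (U := ⊤) trivial
        exact TopologicalSpace.Opens.mem_iSup.2 ⟨⟨⟨U, hU⟩, ⟨⟨z, hz⟩⟩⟩, hz⟩
      · haveI : (RingHom.ker (i.app j.1.1).hom).IsPrime := RingHom.ker_isPrime _
        exact isN2_of_ringEquiv
          (RingHom.quotientKerEquivOfSurjective (i.app_surjective j.1.1 j.1.2))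
          ((h j.1.1 j.1.2).2 _)
    · intro h U hU
      haveI : IsNoetherianRing Γ(X, U) := IsLocallyNoetherian.component_noetherian ⟨U, hU⟩
      refine ⟨inferInstance, fun p hp => ?_⟩
      let x : X := hU.fromSpec ⟨p, hp⟩
      obtain ⟨hint, t, ht, htx⟩ := isIntegral_vanishingIdeal (closure {x}) isClosed_closure x rfl
      let I := Scheme.IdealSheafData.vanishingIdeal (X := X) ⟨closure {x}, isClosed_closure⟩
      haveI : IsIntegral I.subscheme := hint
      have hgen : genericPoint I.subscheme = t := (genericPoint_spec _).eq ht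
      have hxU : x ∈ U := hU.range_fromSpec.le ⟨_, rfl⟩
      haveI : Nonempty (I.subschemeι ⁻¹ᵁ U) := ⟨⟨t, show I.subschemeι t ∈ U from htx ▸ hxU⟩⟩
      have hN := h I.subscheme I.subschemeι (I.subschemeι ⁻¹ᵁ U) (hU.preimage _)
      have hk := ker_app_eq I.subschemeι hU ⟨p, hp⟩ (by rw [hgen, htx])
      exact isN2_of_ringEquiv ((Ideal.quotEquivOfEq hk.symm).trans
        (RingHom.quotientKerEquivOfSurjective (I.subschemeι.app_surjective U hU))).symm hN

end Groth.Agent.S9802
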