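import Groth.Statements.S8725
import Groth.Agent.H18AS.Main

set_option autoImplicit false
universe u
open CategoryTheory CategoryTheory.Limits AlgebraicGeometry
open SGA7II

namespace Groth.Agent.S8725

/-- In the form statable without the Frobenius action: let k be a separably closed field of
characteristic p > 0 and X a proper k-scheme. Then for every i the etale cohomology group H^i(X_et,
Z/p) is finite, of order at most p^(dim_k H^i(X, O_X)). (The published statement identifies
H^i(X_et, Z/p) with the Frobenius-fixed vectors of H^i(X, O_X); this row states only the resulting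
finiteness and order bound.) -/
theorem result (k : Type u) [Field k] [IsSepClosed k] (p : ℕ)
    [Fact p.Prime] [CharP k p] (X : Scheme.{u}) [X.Over (Spec (CommRingCat.of k))]
    [IsProper (X ↘ Spec (CommRingCat.of k))] (i : ℕ) :
    Finite (EtCoh.H X (EtCoh.const X (ZMod p)) i) ∧
      Nat.card (EtCoh.H X (EtCoh.const X (ZMod p)) i) ≤
        p ^ Module.finrank k (Coh.HH X (Coh.structureModule X) i) := by
  have h0 := H18AS.natCast_eq_zero p (X ↘ Spec (CommRingCat.of k))
  have hp : p.Prime := Fact.out
  cases subsingleton_or_nontrivial Γ(X, ⊤) with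
  | inl hs =>
    haveI : IsEmpty X :=
      ⟨fun x => not_subsingleton_iff_nontrivial.2 (X.evaluation ⊤ x trivial).hom.domain_nontrivial hs⟩
    haveI := H18AS.subsingleton_H_of_isEmpty (EtCoh.const X (ZMod p)) i
    refine ⟨inferInstance, ?_⟩
    rw [Nat.card_unique]
    exact Nat.one_le_pow _ _ hp.pos
  | inr hn =>
    haveI : CharP Γ(X, ⊤) p := (CharP.charP_iff_prime_eq_zero hp).2 h0
    obtain ⟨e, T, hT, hx⟩ := H18AS.exists_semilinear p h0 (k := k) i
    haveI := H18AS.finiteDimensional_HH (X := X) (k := k) i
    obtain ⟨hfin, hle⟩ := H18AS.natCard_fixed_le p T hT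
    haveI := hfin.to_subtype
    let Φ : EtCoh.H X (EtCoh.const X (ZMod p)) i → {v | T v = v} := fun x =>
      ⟨e (Sheaf.H.map (H9Et.AS.toGa X p) i x), by
        show T _ = _
        rw [← sub_eq_zero, ← hx, ← H18AS.wp_eq p h0, ← Sheaf.H.map_comp_apply, H9Et.AS.toGa_comp_wp,
          Sheaf.H.map_apply, CategoryTheory.Abelian.Ext.mk₀_zero, CategoryTheory.Abelian.Ext.comp_zero,
          map_zero]⟩
    have hΦ : Function.Injective Φ := fun x y h =>
      H18AS.injective_map_toGa p h0 (k := k) i (e.injective (congrArg Subtype.val h))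
    exact ⟨Finite.of_injective Φ hΦ, (Nat.card_le_card_of_injective Φ hΦ).trans hle⟩

end Groth.Agent.S8725
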