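import Groth.Statements.S0134
import Groth.Agent.H18Et.Cons.TorsionColim

set_option autoImplicit false
universe u
open CategoryTheory CategoryTheory.Limits AlgebraicGeometry Opposite
open EtPBC

namespace Groth.Agent.S0134

/-- (2): on a quasi-compact quasi-separated scheme X every torsion abelian sheaf on X_et is the colimit
of a filtered diagram of constructible abelian sheaves. -/
theorem result (X : Scheme.{u}) [CompactSpace X] [QuasiSeparatedSpace X]
    (F : EtCoh.Ab X) (hF : EtCoh.IsTorsion F) :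
    ∃ (J : Type (u + 1)) (_ : SmallCategory J) (_ : IsFiltered J) (D : J ⥤ EtCoh.Ab X)
      (c : Cocone D) (_ : IsColimit c), (∀ j, EtPBC.IsConstructible (D.obj j)) ∧ Nonempty (c.pt ≅ F) := by
  have hQe : ∀ {A B : EtCoh.Ab X} (g : A ⟶ B) [Epi g], EtPBC.IsConstructible A →
      (fun _ : EtCoh.Ab X => True) A → (fun _ : EtCoh.Ab X => True) B :=
    fun _ _ _ _ => trivial
  haveI := Groth.Agent.H18Et.Cons.isFiltered_idxCat (F := F) (Q := fun _ : EtCoh.Ab X => True)
    (fun _ _ => trivial) (fun _ _ _ _ _ _ => trivial) hQe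
  obtain ⟨hc⟩ := Groth.Agent.H18Et.Cons.nonempty_isColimit_idxCocone (F := F) (Q := fun _ : EtCoh.Ab X => True)
    (fun _ _ => trivial) (fun _ _ _ _ _ _ => trivial) hQe
    (fun f hC => ⟨_, 𝟙 _, f, hC, trivial, Category.id_comp f⟩) hF
  exact ⟨_, inferInstance, inferInstance, _, _, hc,
    fun j => Groth.Agent.H18Et.Cons.Idx.isConstructible j, ⟨Iso.refl _⟩⟩

end Groth.Agent.S0134
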