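import Groth.Statements.S0651
import Groth.Agent.H18Et.EtaleRestrict
import Mathlib.CategoryTheory.Adjunction.Triple

set_option autoImplicit false
open CategoryTheory CategoryTheory.Limits AlgebraicGeometry Opposite
universe u
open EtCore

namespace Groth.Agent.S0651

/-- For an open immersion j : U -> X and an abelian sheaf F on the small etale site of U, the counit
j^{-1} j_* F -> F of the pullback/direct image adjunction and the unit F -> j^{-1} j_! F of the
extension-by-zero/restriction adjunction are isomorphisms. (Continuity of the composition functor of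
etale sites, which always holds, is carried as an instance hypothesis.) -/
theorem result {U X : Scheme.{u}} (j : U ⟶ X) [IsOpenImmersion j]
    [AlgebraicGeometry.Etale j] [EtShriek.JCont j] (F : EtCoh.Ab U) :
    IsIso ((EtCoh.pullPushAdj j).counit.app F) ∧ IsIso ((EtShriek.extZeroAdj j).unit.app F) := by
  let a : EtShriek.compEtale j ⊣ EtCoh.bc j := Groth.Agent.H18Et.EtaleRestrict.emapAdj j
  let adj' : EtShriek.restrAlong j ⊣ EtCoh.push j :=
    a.sheafPushforwardContinuous (E := AddCommGrpCat.{u + 1}) U.smallEtaleTopology X.smallEtaleTopology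
  haveI hc : IsIso adj'.counit := by
    haveI : IsIso a.unit := @Adjunction.unit_isIso_of_L_fully_faithful _ _ _ _ (EtShriek.compEtale j) _ a inferInstance inferInstance
    refine @NatIso.isIso_of_isIso_app _ _ _ _ _ _ _ fun S => ?_
    refine (isIso_iff_of_reflects_iso _ (sheafToPresheaf _ _)).1 ?_
    refine @NatIso.isIso_of_isIso_app _ _ _ _ _ _ _ fun V => ?_
    haveI : IsIso (a.unit.app V.unop) := inferInstance
    haveI h1 : IsIso (a.unit.app V.unop).op := isIso_op _
    exact @Functor.map_isIso _ _ _ _ _ _ S.obj (a.unit.app V.unop).op h1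
  have hR : (EtCoh.push j).FullyFaithful := adj'.fullyFaithfulROfIsIsoCounit
  haveI := hR.full
  haveI := hR.faithful
  let t : Adjunction.Triple (EtShriek.extZero j) (EtShriek.restrAlong j) (EtCoh.push j) := ⟨EtShriek.extZeroAdj j, adj'⟩
  haveI : IsIso (EtShriek.extZeroAdj j).unit := t.isIso_unit_iff_isIso_counit.2 hc
  exact ⟨inferInstance, inferInstance⟩

end Groth.Agent.S0651
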