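import Groth.Statements.S9262
import Groth.Agent.H9Hens.LocalHens
import Groth.Agent.H9Hens.StrictHens
import Groth.Agent.H9Hens.PtLocalProps
import Groth.Agent.H4Depth.Regular
import Mathlib.RingTheory.DiscreteValuationRing.TFAE
-- import your own Groth.Agent.* helpers here

set_option autoImplicit false
universe u
open Hensel

namespace Groth.Agent.S9262

theorem isDVR_iff (R : Type u) [CommRing R] [IsLocalRing R] [IsNoetherianRing R] :
    (∃ _ : IsDomain R, IsDiscreteValuationRing R) ↔ IsRegularLocalRing R ∧ ringKrullDim R = 1 := by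
  refine ⟨fun ⟨_, _⟩ => ⟨inferInstance, IsPrincipalIdealRing.ringKrullDim_eq_one R
    (IsDiscreteValuationRing.not_isField R)⟩, fun ⟨_, hd⟩ => ?_⟩
  have := H4Depth.isDomain_of_isRegularLocalRing R
  have hnf : ¬IsField R := fun hf => by
    rw [ringKrullDim_eq_zero_of_isField hf] at hd; exact absurd hd (by simp)
  refine ⟨this, ((IsDiscreteValuationRing.TFAE R hnf).out 0 5).mpr ?_⟩
  have h := (IsRegularLocalRing.iff_finrank_cotangentSpace (R := R)).mp inferInstance
  rw [hd] at h
  exact_mod_cast h

/-- Let R be a Noetherian local ring with henselization S and strict henselization T. Then R is a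
discrete valuation ring exactly when S is one, and exactly when T is one. -/
theorem result (R S T : Type u)
    [CommRing R] [IsLocalRing R] [IsNoetherianRing R] [CommRing S] [IsLocalRing S] [Algebra R S]
    [IsLocalHom (algebraMap R S)] [Hensel.IsHenselization R S] [CommRing T] [IsLocalRing T]
    [Algebra R T] [IsLocalHom (algebraMap R T)] [Hensel.IsStrictHenselization R T] :
    ((∃ _ : IsDomain R, IsDiscreteValuationRing R) ↔ (∃ _ : IsDomain S, IsDiscreteValuationRing S)) ∧
      ((∃ _ : IsDomain R, IsDiscreteValuationRing R) ↔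
        (∃ _ : IsDomain T, IsDiscreteValuationRing T)) := by
  obtain ⟨π, hπ⟩ := H9Hens.exists_isPtColim_of_isHenselization (R := R) S
  obtain ⟨k, _, _, _, _, _, π', hπ'⟩ := H9Hens.exists_isPtColim_of_isStrictHenselization (R := R) T
  have := hπ.faithfullyFlat H9Hens.ker_algebraMap_residueField
  have := hπ.isNoetherianRing H9Hens.ker_algebraMap_residueField
  have := hπ'.faithfullyFlat H9Hens.ker_algebraMap_of_tower
  have := hπ'.isNoetherianRing H9Hens.ker_algebraMap_of_tower
  rw [isDVR_iff R, isDVR_iff S, isDVR_iff T, hπ.ringKrullDim_eq H9Hens.ker_algebraMap_residueField,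
    hπ'.ringKrullDim_eq H9Hens.ker_algebraMap_of_tower,
    ← H9Hens.isRegularLocalRing_iff_of_map_maximalIdeal R S
      (hπ.map_maximalIdeal H9Hens.ker_algebraMap_residueField),
    ← H9Hens.isRegularLocalRing_iff_of_map_maximalIdeal R T
      (hπ'.map_maximalIdeal H9Hens.ker_algebraMap_of_tower)]
  exact ⟨Iff.rfl, Iff.rfl⟩

end Groth.Agent.S9262
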