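import Groth.Statements.S0556
import Groth.Agent.H22Alg.KrullAkizuki
import Mathlib.RingTheory.Algebraic.Integral
import Mathlib.RingTheory.IntegralClosure.IsIntegralClosure.Basic
-- import your own Groth.Agent.* helpers here

set_option autoImplicit false
universe u
open CAlg

namespace Groth.Agent.S0556

/-- Any domain `A` sandwiched between a one-dimensional Noetherian domain `R` and a field `L` of finite
degree over the fraction field of `R` is itself Noetherian. -/
theorem result (R : Type u) [CommRing R]
    [IsDomain R] [IsNoetherianRing R] (hdim : ringKrullDim R = 1) (K L : Type u) [Field K] [Field L]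
    [Algebra R K] [IsFractionRing R K] [Algebra K L] [FiniteDimensional K L] [Algebra R L]
    [IsScalarTower R K L] (A : Type u) [CommRing A] [Algebra R A] [Algebra A L]
    [IsScalarTower R A L] (hA : Function.Injective (algebraMap A L)) :
    IsNoetherianRing A := by
  classical
  let A' : Subalgebra R L := (IsScalarTower.toAlgHom R A L).range
  haveI : Ring.KrullDimLE 1 R := Ring.krullDimLE_iff.mpr (le_of_eq hdim)
  obtain ⟨s, hsA, hspan, hsli⟩ := exists_linearIndependent K (A' : Set L)
  haveI : Finite s := hsli.finite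
  haveI : Algebra.IsAlgebraic R L :=
    (IsFractionRing.comap_isAlgebraic_iff (A := R) (K := K) (C := L)).mpr inferInstance
  have hy : ∀ x : s, ∃ y : R, y ≠ 0 ∧ IsIntegral R (y • (x : L)) := fun x =>
    (Algebra.IsAlgebraic.isAlgebraic (R := R) (x : L)).exists_integral_multiple
  choose y hy0 hyint using hy
  let T : Set L := Set.range fun x : s => y x • (x : L)
  let B : Subalgebra R L := Algebra.adjoin R T
  haveI : Module.Finite R B := Module.Finite.iff_fg.mpr
    (fg_adjoin_of_finite (Set.finite_range _) (by rintro _ ⟨x, rfl⟩; exact hyint x))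
  haveI : IsNoetherianRing B := IsNoetherianRing.of_finite R B
  haveI : Algebra.IsIntegral R B := Algebra.IsIntegral.of_finite R B
  haveI : Ring.KrullDimLE 1 B := Ring.krullDimLE_one_iff_of_noZeroDivisors.mpr fun P hP hPp => by
    haveI := hPp
    have hc : P.comap (algebraMap R B) ≠ ⊥ := fun h => hP (Ideal.eq_bot_of_comap_eq_bot h)
    exact Ideal.isMaximal_of_isIntegral_of_isMaximal_comap P
      (Ring.krullDimLE_one_iff_of_noZeroDivisors.mp inferInstance _ hc inferInstance)
  have hBA : ∀ b : B, (b : L) ∈ A' := fun b =>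
    Algebra.adjoin_le (R := R) (by rintro _ ⟨x, rfl⟩; exact A'.smul_mem (hsA x.2) _) b.2
  let φ : FractionRing B →+* L :=
    IsFractionRing.lift (g := B.val.toRingHom) Subtype.val_injective
  have hφ : ∀ b : B, φ (algebraMap B (FractionRing B) b) = (b : L) := fun b => IsFractionRing.lift_algebraMap _ b
  let C : Subalgebra B (FractionRing B) :=
    { (A'.toSubsemiring.comap φ) with
      algebraMap_mem' := fun b => show φ (algebraMap B (FractionRing B) b) ∈ A' by rw [hφ]; exact hBA b }
  haveI : IsNoetherianRing C := Groth.Agent.H22Alg.isNoetherianRing_subalgebra C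
  have hR : ∀ r : R, algebraMap R L r ∈ φ.fieldRange := fun r =>
    ⟨algebraMap B _ (algebraMap R B r), hφ _⟩
  have hK : ∀ c : K, algebraMap K L c ∈ φ.fieldRange := fun c => by
    obtain ⟨a, b, -, rfl⟩ := IsFractionRing.div_surjective R c
    rw [map_div₀, ← IsScalarTower.algebraMap_apply, ← IsScalarTower.algebraMap_apply]
    exact div_mem (hR a) (hR b)
  have hmem : ∀ a ∈ A', a ∈ φ.fieldRange := by
    intro a ha
    have ha' : a ∈ Submodule.span K s := hspan ▸ Submodule.subset_span ha
    clear ha
    induction ha' using Submodule.span_induction with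
    | mem x hx =>
      have h1 : y ⟨x, hx⟩ • x ∈ φ.fieldRange :=
        ⟨algebraMap B _ ⟨_, Algebra.subset_adjoin ⟨⟨x, hx⟩, rfl⟩⟩, hφ _⟩
      have h0 : algebraMap R L (y ⟨x, hx⟩) ≠ 0 := by
        rw [IsScalarTower.algebraMap_apply R K L, Ne, map_eq_zero]
        exact fun h => hy0 ⟨x, hx⟩ (IsFractionRing.injective R K (h.trans (map_zero _).symm))
      have : x = (y ⟨x, hx⟩ • x) / algebraMap R L (y ⟨x, hx⟩) := by rw [Algebra.smul_def]; field_simp
      rw [this]
      exact div_mem h1 (hR _)
    | zero => exact zero_mem _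
    | add u v _ _ hu hv => exact add_mem hu hv
    | smul c u _ hu => rw [Algebra.smul_def]; exact mul_mem (hK c) hu
  let e : C →+* A' := (φ.comp C.val.toRingHom).codRestrict A' fun c => c.2
  haveI : IsNoetherianRing A' := isNoetherianRing_of_surjective C A' e fun a => by
    obtain ⟨z, hz⟩ := hmem a.1 a.2
    exact ⟨⟨z, show φ z ∈ A' by rw [hz]; exact a.2⟩, Subtype.ext hz⟩
  exact isNoetherianRing_of_ringEquiv A' (AlgEquiv.ofInjective (IsScalarTower.toAlgHom R A L) hA).symm.toRingEquiv

end Groth.Agent.S0556
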