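import Groth.Statements.S6370
import Groth.Agent.S0556
import Mathlib.RingTheory.DedekindDomain.IntegralClosure
import Mathlib.RingTheory.Ideal.MinimalPrime.Noetherian
-- import your own Groth.Agent.* helpers here

set_option autoImplicit false
universe u
open CAlg

namespace Groth.Agent.S6370

/-- Krull–Akizuki for a finite extension: quotients of intermediate rings by a nonzero element of the
base are finite over the base. -/
theorem finite_quotient (R : Type u) [CommRing R] [IsDomain R] [IsNoetherianRing R] [Ring.KrullDimLE 1 R]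
    (K L : Type u) [Field K] [Field L] [Algebra R K] [IsFractionRing R K] [Algebra K L] [FiniteDimensional K L]
    [Algebra R L] [IsScalarTower R K L] (A : Type u) [CommRing A] [Algebra R A] [Algebra A L]
    [IsScalarTower R A L] (hA : Function.Injective (algebraMap A L)) (a : R) (ha : a ≠ 0) :
    Module.Finite R (A ⧸ Ideal.span {algebraMap R A a}) := by
  classical
  let A' : Subalgebra R L := (IsScalarTower.toAlgHom R A L).range
  obtain ⟨s, hsA, hspan, hsli⟩ := exists_linearIndependent K (A' : Set L)
  haveI : Finite s := hsli.finite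
  haveI : Algebra.IsAlgebraic R L :=
    (IsFractionRing.comap_isAlgebraic_iff (A := R) (K := K) (C := L)).mpr inferInstance
  have hy : ∀ x : s, ∃ y : R, y ≠ 0 ∧ IsIntegral R (y • (x : L)) := fun x =>
    (Algebra.IsAlgebraic.isAlgebraic (R := R) (x : L)).exists_integral_multiple
  choose y hy0 hyint using hy
  let T : Set L := Set.range fun x : s => y x • (x : L)
  let B : Subalgebra R L := Algebra.adjoin R T
  haveI : Module.Finite R B := Module.Finite.iff_fg.mpr
    (fg_adjoin_of_finite (Set.finite_range _) (by rintro _ ⟨x, rfl⟩; exact hyint x))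
  haveI : IsNoetherianRing B := IsNoetherianRing.of_finite R B
  haveI : Algebra.IsIntegral R B := Algebra.IsIntegral.of_finite R B
  haveI : Ring.KrullDimLE 1 B := Ring.krullDimLE_one_iff_of_noZeroDivisors.mpr fun P hP hPp => by
    haveI := hPp
    have hc : P.comap (algebraMap R B) ≠ ⊥ := fun h => hP (Ideal.eq_bot_of_comap_eq_bot h)
    exact Ideal.isMaximal_of_isIntegral_of_isMaximal_comap P
      (Ring.krullDimLE_one_iff_of_noZeroDivisors.mp inferInstance _ hc inferInstance)
  have hBA : ∀ b : B, (b : L) ∈ A' := fun b =>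
    Algebra.adjoin_le (R := R) (by rintro _ ⟨x, rfl⟩; exact A'.smul_mem (hsA x.2) _) b.2
  let φ : FractionRing B →+* L :=
    IsFractionRing.lift (g := B.val.toRingHom) Subtype.val_injective
  have hφ : ∀ b : B, φ (algebraMap B (FractionRing B) b) = (b : L) := fun b => IsFractionRing.lift_algebraMap _ b
  let C : Subalgebra B (FractionRing B) :=
    { (A'.toSubsemiring.comap φ) with
      algebraMap_mem' := fun b => show φ (algebraMap B (FractionRing B) b) ∈ A' by rw [hφ]; exact hBA b }
  have hR : ∀ r : R, algebraMap R L r ∈ φ.fieldRange := fun r =>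
    ⟨algebraMap B _ (algebraMap R B r), hφ _⟩
  have hK : ∀ c : K, algebraMap K L c ∈ φ.fieldRange := fun c => by
    obtain ⟨a, b, -, rfl⟩ := IsFractionRing.div_surjective R c
    rw [map_div₀, ← IsScalarTower.algebraMap_apply, ← IsScalarTower.algebraMap_apply]
    exact div_mem (hR a) (hR b)
  have hmem : ∀ a ∈ A', a ∈ φ.fieldRange := by
    intro a ha
    have ha' : a ∈ Submodule.span K s := hspan ▸ Submodule.subset_span ha
    clear ha
    induction ha' using Submodule.span_induction with
    | mem x hx =>
      have h1 : y ⟨x, hx⟩ • x ∈ φ.fieldRange :=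
        ⟨algebraMap B _ ⟨_, Algebra.subset_adjoin ⟨⟨x, hx⟩, rfl⟩⟩, hφ _⟩
      have h0 : algebraMap R L (y ⟨x, hx⟩) ≠ 0 := by
        rw [IsScalarTower.algebraMap_apply R K L, Ne, map_eq_zero]
        exact fun h => hy0 ⟨x, hx⟩ (IsFractionRing.injective R K (h.trans (map_zero _).symm))
      have : x = (y ⟨x, hx⟩ • x) / algebraMap R L (y ⟨x, hx⟩) := by rw [Algebra.smul_def]; field_simp
      rw [this]
      exact div_mem h1 (hR _)
    | zero => exact zero_mem _
    | add u v _ _ hu hv => exact add_mem hu hv
    | smul c u _ hu => rw [Algebra.smul_def]; exact mul_mem (hK c) hu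
  let e : C →+* A' := (φ.comp C.val.toRingHom).codRestrict A' fun c => c.2
  have he : Function.Surjective e := fun a => by
    obtain ⟨z, hz⟩ := hmem a.1 a.2
    exact ⟨⟨z, show φ z ∈ A' by rw [hz]; exact a.2⟩, Subtype.ext hz⟩
  let g : C →+* A := (AlgEquiv.ofInjective (IsScalarTower.toAlgHom R A L) hA).symm.toRingEquiv.toRingHom.comp e
  have hg : Function.Surjective g :=
    (AlgEquiv.ofInjective (IsScalarTower.toAlgHom R A L) hA).symm.surjective.comp he
  have hgR : ∀ r : R, g (algebraMap B C (algebraMap R B r)) = algebraMap R A r := fun r => by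
    have h1 : e (algebraMap B C (algebraMap R B r)) = algebraMap R A' r := Subtype.ext (hφ _)
    show (AlgEquiv.ofInjective (IsScalarTower.toAlgHom R A L) hA).symm (e _) = _
    rw [h1, AlgEquiv.commutes]
  set b := algebraMap R B a with hb
  have hb0 : b ≠ 0 := fun h => ha (by
    have := congrArg Subtype.val h
    simp only [hb] at this
    have h2 : algebraMap R L a = 0 := this
    rw [IsScalarTower.algebraMap_apply R K L, map_eq_zero] at h2
    exact IsFractionRing.injective R K (h2.trans (map_zero _).symm))
  obtain ⟨hnoeth, -⟩ := isFiniteLength_iff_isNoetherian_isArtinian.mp (Groth.Agent.H22Alg.quot_finite_length C hb0)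
  haveI := hnoeth
  haveI : Module.Finite R (C ⧸ Ideal.span {algebraMap B C b}) := Module.Finite.trans B _
  let ψ : (C ⧸ Ideal.span {algebraMap B C b}) →+* A ⧸ Ideal.span {algebraMap R A a} :=
    Ideal.quotientMap _ g ((Ideal.span_singleton_le_iff_mem _).mpr (by
      rw [Ideal.mem_comap, hb, hgR]; exact Ideal.mem_span_singleton_self _))
  refine Module.Finite.of_surjective (R := R) (M := C ⧸ Ideal.span {algebraMap B C b})
    ({ toFun := ψ, map_add' := map_add ψ, map_smul' := fun r z => by
        obtain ⟨z, rfl⟩ := Ideal.Quotient.mk_surjective z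
        show Ideal.Quotient.mk _ (g (r • z)) = r • Ideal.Quotient.mk _ (g z)
        rw [Algebra.smul_def, map_mul, show algebraMap R C r = algebraMap B C (algebraMap R B r) from rfl, hgR,
          ← Algebra.smul_def]
        rfl } :
      (C ⧸ Ideal.span {algebraMap B C b}) →ₗ[R] A ⧸ Ideal.span {algebraMap R A a}) fun z => ?_
  obtain ⟨z, rfl⟩ := Ideal.Quotient.mk_surjective z
  obtain ⟨c, rfl⟩ := hg z
  exact ⟨Ideal.Quotient.mk _ c, rfl⟩

/-- For a one-dimensional Noetherian domain A with fraction field K, a finite field extension L of K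
(separable or not) and B the integral closure of A in L: B is a Dedekind domain, Spec B → Spec A is
surjective and has finite fibres, and at every maximal ideal Q of B the residue field B/Q is finite
over A/(Q ∩ A). -/
theorem result (A K L B : Type u) [CommRing A] [IsDomain A]
    [IsNoetherianRing A] (hdim : ringKrullDim A = 1) [Field K] [Algebra A K] [IsFractionRing A K]
    [Field L] [Algebra K L] [FiniteDimensional K L] [Algebra A L] [IsScalarTower A K L]
    [CommRing B] [IsDomain B] [Algebra A B] [Algebra B L] [IsScalarTower A B L] [IsIntegralClosure B A L] :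
    IsDedekindDomain B ∧ Function.Surjective (PrimeSpectrum.comap (algebraMap A B)) ∧
      (∀ p : PrimeSpectrum A, (PrimeSpectrum.comap (algebraMap A B) ⁻¹' {p}).Finite) ∧
      ∀ Q : Ideal B, Q.IsMaximal → Module.Finite (A ⧸ Q.comap (algebraMap A B)) (B ⧸ Q) := by
  classical
  haveI : Ring.KrullDimLE 1 A := Ring.krullDimLE_iff.mpr (le_of_eq hdim)
  have hBL : Function.Injective (algebraMap B L) := IsIntegralClosure.algebraMap_injective B A L
  haveI : IsNoetherianRing B := Groth.Agent.S0556.result A hdim K L B hBL
  haveI : Algebra.IsAlgebraic A L :=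
    (IsFractionRing.comap_isAlgebraic_iff (A := A) (K := K) (C := L)).mpr inferInstance
  haveI : IsFractionRing B L :=
    IsIntegralClosure.isFractionRing_of_finite_extension A K L B
  haveI : Algebra.IsIntegral A B := IsIntegralClosure.isIntegral_algebra A L
  have hinj : Function.Injective (algebraMap A B) := fun x y h => by
    have h1 := congrArg (algebraMap B L) h
    rw [← IsScalarTower.algebraMap_apply, ← IsScalarTower.algebraMap_apply,
      IsScalarTower.algebraMap_apply A K L, IsScalarTower.algebraMap_apply A K L] at h1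
    exact IsFractionRing.injective A K ((algebraMap K L).injective h1)
  haveI : FaithfulSMul A B := (faithfulSMul_iff_algebraMap_injective A B).mpr hinj
  haveI : Ring.DimensionLEOne B := ⟨fun {P} hP hPp => by
    have hc : P.comap (algebraMap A B) ≠ ⊥ := fun h => hP (Ideal.eq_bot_of_comap_eq_bot h)
    exact Ideal.isMaximal_of_isIntegral_of_isMaximal_comap P
      (Ring.krullDimLE_one_iff_of_noZeroDivisors.mp inferInstance _ hc inferInstance)⟩
  haveI : IsIntegrallyClosed B := by
    refine (isIntegrallyClosed_iff L).mpr fun {x} hx => ?_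
    exact ⟨IsIntegralClosure.mk' B x (isIntegral_trans (R := A) x hx), IsIntegralClosure.algebraMap_mk' B x _⟩
  haveI : IsDedekindDomain B := { }
  have hfin : ∀ Q : Ideal B, Q.IsMaximal → ∀ a : A, a ≠ 0 → algebraMap A B a ∈ Q →
      Module.Finite (A ⧸ Q.comap (algebraMap A B)) (B ⧸ Q) := by
    intro Q _ a ha haQ
    haveI := finite_quotient A K L B hBL a ha
    haveI : Module.Finite A (B ⧸ Q) := Module.Finite.of_surjective
      (Ideal.Quotient.factorₐ A ((Ideal.span_singleton_le_iff_mem Q).mpr haQ)).toLinearMap
      (Ideal.Quotient.factor_surjective ((Ideal.span_singleton_le_iff_mem Q).mpr haQ))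
    exact Module.Finite.of_restrictScalars_finite A _ _
  refine ⟨inferInstance, fun p => ?_, fun p => ?_, fun Q hQ => ?_⟩
  · obtain ⟨Q, -, hQp, hQ⟩ := Ideal.exists_ideal_over_prime_of_isIntegral (S := B) p.asIdeal ⊥ (by
      rw [← RingHom.ker_eq_comap_bot, (RingHom.injective_iff_ker_eq_bot _).mp hinj]; exact bot_le)
    exact ⟨⟨Q, hQp⟩, PrimeSpectrum.ext hQ⟩
  · by_cases hp : p.asIdeal = ⊥
    · refine (Set.finite_singleton (⟨⊥, Ideal.isPrime_bot⟩ : PrimeSpectrum B)).subset fun P hP => PrimeSpectrum.ext ?_
      exact Ideal.eq_bot_of_comap_eq_bot (R := A) ((congrArg PrimeSpectrum.asIdeal hP).trans hp)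
    · have h0 : p.asIdeal.map (algebraMap A B) ≠ ⊥ := fun h => hp (by
        rw [Ideal.map_eq_bot_iff_le_ker, (RingHom.injective_iff_ker_eq_bot _).mp hinj] at h
        exact eq_bot_iff.mpr h)
      refine ((Ideal.finite_minimalPrimes_of_isNoetherianRing B (p.asIdeal.map (algebraMap A B))).preimage
        (fun x _ y _ h => PrimeSpectrum.ext h)).subset fun P hP => ?_
      have hle : p.asIdeal.map (algebraMap A B) ≤ P.asIdeal :=
        Ideal.map_le_iff_le_comap.mpr (le_of_eq (congrArg PrimeSpectrum.asIdeal hP).symm)
      refine ⟨⟨P.isPrime, hle⟩, fun Q hQ hQP => ?_⟩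
      have hQ0 : Q ≠ ⊥ := fun h => h0 (eq_bot_iff.mpr (hQ.2.trans h.le))
      exact ((hQ.1.isMaximal_of_ne_bot hQ0).eq_of_le P.isPrime.ne_top hQP).ge
  · haveI := hQ
    have hnf : ¬ IsField A := fun h => by
      rw [ringKrullDim_eq_zero_of_isField h] at hdim
      exact zero_ne_one hdim
    have hc : Q.comap (algebraMap A B) ≠ ⊥ := fun h =>
      hnf (by
      have hm : (⊥ : Ideal A).IsMaximal := h ▸ Ideal.isMaximal_comap_of_isIntegral_of_isMaximal Q
      by_contra hnf'
      exact Ring.ne_bot_of_isMaximal_of_not_isField hm hnf' rfl)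
    obtain ⟨a, haQ, ha⟩ := (Submodule.ne_bot_iff _).mp hc
    exact hfin Q hQ a ha haQ

end Groth.Agent.S6370
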