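import Groth.Statements.S3244
import Groth.Agent.S0108

set_option autoImplicit false
universe u
open CategoryTheory AlgebraicGeometry
open Dix

namespace Groth.Agent.S3244

/-- Kummer theory at finite level: let n > 0 be an integer invertible on the scheme X (nonzero in every
residue field). Then for every i ≥ 1 the image of H^i(X_ét, μ_n) → H^i(X_ét, G_m), induced by the
inclusion μ_n → G_m, is exactly the subgroup of elements of H^i(X_ét, G_m) killed by n; in
particular H²(X_ét, μ_n) maps onto the n-torsion of the cohomological Brauer group H²(X_ét, G_m).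
(The published statement gives exact sequences obtained as the colimit of these over the powers n =
ℓ^m of a prime ℓ.) -/
theorem result (X : Scheme.{u}) (n : ℕ) (hn : 0 < n) (hX : Dix.InvertibleOn X n) (i : ℕ) (hi : 1 ≤ i) : Set.range ⇑((EtCoh.HF X i).map (EtCoh.muι X n)) = {ξ : (EtCoh.HF X i).obj (EtCoh.Gm X) | n • ξ = 0} := by
  have hu : IsUnit (n : Γ(X, ⊤)) := by
    refine X.toRingedSpace.isUnit_of_isUnit_germ ⊤ _ fun x hx => ?_
    refine (X.mem_basicOpen _ x hx).1 ((X.evaluation_ne_zero_iff_mem_basicOpen x hx _).1 ?_)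
    rw [map_natCast]
    exact hX x
  haveI : Epi (EtCoh.powMap X n) := Groth.Agent.S0108.result X n hu
  let S : ShortComplex (EtCoh.Ab X) := ShortComplex.mk (EtCoh.muι X n) (EtCoh.powMap X n) (Limits.kernel.condition _)
  have hexact : S.Exact := ShortComplex.exact_of_f_is_kernel _ (Limits.kernelIsKernel _)
  haveI : Mono S.f := inferInstanceAs (Mono (Limits.kernel.ι (EtCoh.powMap X n)))
  haveI : Epi S.g := ‹Epi (EtCoh.powMap X n)›
  have hS : S.ShortExact := ⟨hexact⟩
  have hpow : ∀ ξ : (EtCoh.HF X i).obj (EtCoh.Gm X), (EtCoh.HF X i).map (EtCoh.powMap X n) ξ = n • ξ := fun ξ => by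
    haveI : (EtCoh.HF X i).Additive := by unfold EtCoh.HF; infer_instance
    rw [EtCoh.powMap, Functor.map_nsmul, CategoryTheory.Functor.map_id]
    rfl
  ext ξ
  constructor
  · rintro ⟨η, rfl⟩
    change n • _ = 0
    rw [← hpow, ← CategoryTheory.ConcreteCategory.comp_apply, ← Functor.map_comp,
      show EtCoh.muι X n ≫ EtCoh.powMap X n = 0 from Limits.kernel.condition _]
    haveI : (EtCoh.HF X i).Additive := by unfold EtCoh.HF; infer_instance
    rw [Functor.map_zero]
    rfl
  · intro h
    obtain ⟨η, hη⟩ := Abelian.Ext.covariant_sequence_exact₂ _ hS ξ ((hpow ξ).trans h)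
    exact ⟨η, hη⟩

end Groth.Agent.S3244
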