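import Groth.Statements.S6658
import Groth.Agent.H23Geom.SecSupp
import Groth.Agent.H13Desc.DerivedComm

set_option autoImplicit false
universe u
open CategoryTheory CategoryTheory.Limits AlgebraicGeometry Opposite
open EtDual

namespace Groth.Agent.S6658.Aux

set_option backward.isDefEq.respectTransparency false
set_option backward.isDefEq.respectTransparency.types false

variable {X U : Scheme.{u}} (j : U ⟶ X) [IsOpenImmersion j]

/-- `G ↦ j_* j⁻¹ G`. -/
noncomputable abbrev R : EtCoh.Ab X ⥤ EtCoh.Ab X := EtCoh.pull j ⋙ EtCoh.push j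

theorem main (F : EtCoh.Ab X) :
    Nonempty (cokernel (EtDual.unitApp j F) ≅ (EtDual.locCoh j 1).obj F) ∧
      ∀ p : ℕ, 1 ≤ p →
        Nonempty ((EtCoh.Rpush j p).obj ((EtCoh.pull j).obj F) ≅ (EtDual.locCoh j (p + 1)).obj F) := by
  haveI := H18Et.pull_preservesFiniteLimits j
  haveI : PreservesFiniteColimits (EtCoh.pull j) :=
    ⟨fun _ _ _ => (EtCoh.pullPushAdj j).leftAdjoint_preservesColimits.preservesColimitsOfShape⟩
  haveI : PreservesFiniteLimits (EtCoh.push j) :=
    (EtCoh.pullPushAdj j).rightAdjoint_preservesLimits.preservesFiniteLimits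
  obtain ⟨I⟩ : Nonempty (InjectiveResolution F) := HasInjectiveResolution.out
  let K := I.cocomplex
  let K₁ := ((EtDual.secSupp j).mapHomologicalComplex (ComplexShape.up ℕ)).obj K
  let K₃ := ((R j).mapHomologicalComplex (ComplexShape.up ℕ)).obj K
  let f : K₁ ⟶ K :=
    { f := fun i => kernel.ι (EtDual.unitApp j (K.X i))
      comm' := fun a b _ => (kernel.lift_ι _ _ _).symm }
  let g : K ⟶ K₃ :=
    { f := fun i => EtDual.unitApp j (K.X i)
      comm' := fun a b _ => ((EtCoh.pullPushAdj j).unit.naturality (K.d a b)).symm }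
  let T : ShortComplex (CochainComplex (EtCoh.Ab X) ℕ) :=
    ShortComplex.mk f g (by ext i : 1; exact kernel.condition _)
  have hT : T.ShortExact := HomologicalComplex.shortExact_of_degreewise_shortExact T fun i => by
    haveI := I.injective i
    haveI : Epi (T.map (HomologicalComplex.eval _ _ i)).g := H23Geom.SecSupp.epi_unit j (K.X i)
    haveI : Mono (T.map (HomologicalComplex.eval _ _ i)).f :=
      inferInstanceAs (Mono (kernel.ι (EtDual.unitApp j (K.X i))))
    exact { exact := ShortComplex.exact_of_f_is_kernel _ (kernelIsKernel (EtDual.unitApp j (K.X i))) }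
  have e₁ : ∀ q, (EtDual.locCoh j q).obj F ≅ K₁.homology q := fun q => I.isoRightDerivedObj _ q
  have hK : ∀ q, IsZero (K.homology (q + 1)) := fun q =>
    (K.exactAt_iff_isZero_homology _).1 (I.cocomplex_exactAt_succ q)
  constructor
  · let η : F ⟶ K.X 0 := I.ι.f 0
    have hl : IsLimit (KernelFork.ofι η I.ι_f_zero_comp_complex_d) := I.isLimitKernelFork
    let a₂ := IsLimit.conePointUniqueUpToIso hl (K.cyclesIsKernel 0 1 (by simp))
    let a₃ := IsLimit.conePointUniqueUpToIso (KernelFork.mapIsLimit _ hl (R j)) (K₃.cyclesIsKernel 0 1 (by simp))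
    have h₂ : a₂.hom ≫ K.iCycles 0 = η :=
      IsLimit.conePointUniqueUpToIso_hom_comp hl _ WalkingParallelPair.zero
    have h₃ : a₃.hom ≫ K₃.iCycles 0 = (R j).map η :=
      IsLimit.conePointUniqueUpToIso_hom_comp (KernelFork.mapIsLimit _ hl (R j)) _ WalkingParallelPair.zero
    let b₂ := a₂ ≪≫ asIso (K.homologyπ 0)
    let b₃ := a₃ ≪≫ asIso (K₃.homologyπ 0)
    have hsq : EtDual.unitApp j F ≫ b₃.hom = b₂.hom ≫ HomologicalComplex.homologyMap g 0 := by
      have : EtDual.unitApp j F ≫ a₃.hom = a₂.hom ≫ HomologicalComplex.cyclesMap g 0 := by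
        rw [← cancel_mono (K₃.iCycles 0), Category.assoc, Category.assoc, HomologicalComplex.cyclesMap_i,
          h₃, ← Category.assoc, h₂]
        exact ((EtCoh.pullPushAdj j).unit.naturality η).symm
      simp only [b₂, b₃, Iso.trans_hom, asIso_hom, Category.assoc]
      rw [reassoc_of% this, HomologicalComplex.homologyπ_naturality]
    have hep : Epi (hT.δ 0 1 (by simp)) :=
      (hT.homology_exact₁ 0 1 (by simp)).epi_f ((hK 0).eq_of_tgt _ _)
    have hc := (hT.homology_exact₃ 0 1 rfl).gIsCokernel
    exact ⟨cokernel.mapIso _ _ b₂ b₃ hsq ≪≫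
      colimit.isoColimitCocone ⟨_, hc⟩ ≪≫ (e₁ 1).symm⟩
  · intro p hp
    obtain ⟨p, rfl⟩ : ∃ m, p = m + 1 := ⟨p - 1, by omega⟩
    have e₃ : (EtCoh.Rpush j (p + 1)).obj ((EtCoh.pull j).obj F) ≅ K₃.homology (p + 1) :=
      (H13Desc.DerivedComm.mapResolution (EtCoh.pull j)
        (fun J hJ => H18Et.EtaleRestrict.injective_pull j J) I).isoRightDerivedObj (EtCoh.push j) (p + 1) ≪≫
        (HomologicalComplex.homologyFunctor _ _ _).mapIso
          (HomologicalComplex.Hom.isoOfComponents (fun i => Iso.refl _) (fun a b _ => (Category.id_comp _).trans (Category.comp_id _).symm))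
    haveI : IsIso (hT.δ (p + 1) (p + 1 + 1) rfl) :=
      hT.isIso_δ _ _ rfl (hK p) (hK (p + 1))
    exact ⟨e₃ ≪≫ asIso (hT.δ (p + 1) (p + 1 + 1) rfl) ≪≫ (e₁ (p + 1 + 1)).symm⟩

end Groth.Agent.S6658.Aux

namespace Groth.Agent.S6658

/-- The exact sequence and the isomorphisms: let j : U → X be an open immersion of schemes with closed
complement Z and F an abelian sheaf on the small etale site of X. Write H^q_Z(F) for the q-th local
cohomology sheaf of F with support in Z, kept as a sheaf on X (the q-th right derived functor of G ↦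
ker(G → j_* j⁻¹ G)). Then the cokernel of the unit F → j_* j⁻¹ F is isomorphic to H^1_Z(F), and for
every p ≥ 1 the higher direct image R^p j_* (j⁻¹ F) is isomorphic to H^{p+1}_Z(F). (The published
statement also gives the distinguished triangle behind these isomorphisms and identifies them with
its connecting maps; this row asserts only that isomorphisms exist.) -/
theorem result {X U : Scheme.{u}} (j : U ⟶ X) [IsOpenImmersion j]
    (F : EtCoh.Ab X) :
    Nonempty (cokernel (EtDual.unitApp j F) ≅ (EtDual.locCoh j 1).obj F) ∧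
      ∀ p : ℕ, 1 ≤ p →
        Nonempty ((EtCoh.Rpush j p).obj ((EtCoh.pull j).obj F) ≅ (EtDual.locCoh j (p + 1)).obj F) := by
  exact Aux.main j F

end Groth.Agent.S6658
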