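import Groth.Statements.S8871
import Groth.Agent.H29Ref.Generic
import Groth.Agent.H29Fitt.Sheaf
import Groth.Agent.H29Blow.PointsOfAffine
import Groth.Agent.H4Depth.DepthLemmas

set_option autoImplicit false
universe u
open CategoryTheory CategoryTheory.Limits AlgebraicGeometry TopologicalSpace
open SDiv

namespace Groth.Agent.S8871

/-- Associated points in terms of an affine chart. -/
theorem isAssPoint_iff {X : Scheme.{u}} [IsLocallyNoetherian X] (F : X.Modules) (hF : Coh.IsQCoh F)
    {V : X.Opens} (hV : IsAffineOpen V) (z : V) :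
    Curv2.IsAssPoint F z.1 ↔ (hV.primeIdealOf z).asIdeal ∈ associatedPrimes Γ(X, V) Γ(F, V) := by
  haveI : IsNoetherianRing Γ(X, V) := IsLocallyNoetherian.component_noetherian ⟨V, hV⟩
  letI := TopCat.Presheaf.algebra_section_stalk X.presheaf z
  letI := Module.compHom (F.presheaf.stalk z.1) (algebraMap Γ(X, V) (X.presheaf.stalk z.1))
  haveI : IsScalarTower Γ(X, V) (X.presheaf.stalk z.1) (F.presheaf.stalk z.1) :=
    .of_algebraMap_smul fun _ _ => rfl
  haveI := hV.isLocalization_stalk z
  haveI := H29Fitt.isLocalizedModule_germLin F hF hV z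
  have h := Set.ext_iff.mp (Module.associatedPrimes.preimage_comap_associatedPrimes_eq_associatedPrimes_of_isLocalizedModule
    (R' := X.presheaf.stalk z.1) (hV.primeIdealOf z).asIdeal.primeCompl (H29Fitt.germLin F z))
    (IsLocalRing.maximalIdeal (X.presheaf.stalk z.1))
  rw [Set.mem_preimage, show Ideal.comap (algebraMap Γ(X, V) (X.presheaf.stalk z.1))
    (IsLocalRing.maximalIdeal (X.presheaf.stalk z.1)) = (hV.primeIdealOf z).asIdeal from
      IsLocalization.AtPrime.under_maximalIdeal (X.presheaf.stalk z.1) (hV.primeIdealOf z).asIdeal] at h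
  exact h.symm



/-- Let X be a locally Noetherian scheme and F a coherent O_X-module. Then F has no embedded associated
points (every associated point of F is maximal among the associated points of F under
specialization) if and only if F has property (S_1): for every point x, depth F_x ≥ min(1, dim Supp
F_x), where dim Supp F_x is the Krull dimension of the support of the O_{X,x}-module F_x (for F_x =
0 the depth is infinite and the support empty, so the condition holds). -/
theorem result (X : Scheme.{u}) [IsLocallyNoetherian X] (F : X.Modules) (hF : Coh.IsCoh F) :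
    (∀ x : ↥X, Curv2.IsAssPoint F x → ∀ y : ↥X, Curv2.IsAssPoint F y → y ⤳ x → y = x) ↔
      ∀ x : ↥X, min (1 : WithBot ℕ∞) (Module.supportDim ↑(X.presheaf.stalk x) ↑(F.presheaf.stalk x)) ≤
        ((LocCoh.depth (X.presheaf.stalk x) (F.presheaf.stalk x) : ℕ∞) : WithBot ℕ∞) := by
  have hloc : ∀ x : X, ∃ (V : X.Opens) (hV : IsAffineOpen V) (hx : x ∈ V), True := fun x => by
    obtain ⟨V, hV, hxV, -⟩ := exists_isAffineOpen_mem_and_subset (X := X) (x := x) (U := ⊤) trivial
    exact ⟨V, hV, hxV, trivial⟩
  constructor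
  · intro h x
    haveI := H29Ref.finite_stalk F hF.2 x
    rcases subsingleton_or_nontrivial (F.presheaf.stalk x) with hs | hs
    · rw [Module.supportDim_eq_bot_of_subsingleton]; exact min_le_of_right_le bot_le
    by_cases hd : (1 : ℕ∞) ≤ LocCoh.depth (X.presheaf.stalk x) (F.presheaf.stalk x)
    · exact min_le_of_left_le (by exact_mod_cast hd)
    refine min_le_of_right_le ?_
    have hsm : IsLocalRing.maximalIdeal (X.presheaf.stalk x) • (⊤ : Submodule (X.presheaf.stalk x) (F.presheaf.stalk x)) ≠ ⊤ :=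
      fun he => not_subsingleton (F.presheaf.stalk x) (Submodule.subsingleton_iff _ |>.mp (subsingleton_of_bot_eq_top
        (Submodule.eq_bot_of_le_smul_of_le_jacobson_bot _ _ Module.Finite.fg_top he.ge
          (IsLocalRing.maximalIdeal_le_jacobson ⊥)).symm))
    have h0 : LocCoh.depth (X.presheaf.stalk x) (F.presheaf.stalk x) = 0 :=
      Order.lt_one_iff.mp (not_le.mp hd)
    obtain ⟨p, hp, hmp⟩ := (H4Depth.idealDepth_eq_zero_iff_exists_associatedPrime hsm).mp h0
    have hass : Curv2.IsAssPoint F x :=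
      by
      show IsAssociatedPrime _ _
      rw [(IsLocalRing.maximalIdeal.isMaximal (X.presheaf.stalk x)).eq_of_le hp.isPrime.ne_top hmp]
      exact hp
    -- every prime of the support is the maximal ideal
    have hsup : ∀ q ∈ Module.support (X.presheaf.stalk x) (F.presheaf.stalk x),
        q = IsLocalRing.closedPoint (X.presheaf.stalk x) := by
      intro q hq
      rw [Module.support_eq_zeroLocus] at hq
      obtain ⟨r, hr, hrq⟩ := Ideal.exists_minimalPrimes_le
        (show Module.annihilator (X.presheaf.stalk x) (F.presheaf.stalk x) ≤ q.asIdeal from hq)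
      have hra : r ∈ associatedPrimes (X.presheaf.stalk x) (F.presheaf.stalk x) :=
        Module.associatedPrimes.minimalPrimes_annihilator_subset_associatedPrimes _ _ hr
      suffices r = IsLocalRing.maximalIdeal (X.presheaf.stalk x) from
        PrimeSpectrum.ext (le_antisymm (IsLocalRing.le_maximalIdeal q.2.ne_top) (this.ge.trans hrq))
      obtain ⟨V, hV, hxV, -⟩ := hloc x
      haveI : IsNoetherianRing Γ(X, V) := IsLocallyNoetherian.component_noetherian ⟨V, hV⟩
      letI := TopCat.Presheaf.algebra_section_stalk X.presheaf (⟨x, hxV⟩ : V)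
      letI := Module.compHom (F.presheaf.stalk x) (algebraMap Γ(X, V) (X.presheaf.stalk x))
      haveI : IsScalarTower Γ(X, V) (X.presheaf.stalk x) (F.presheaf.stalk x) :=
        .of_algebraMap_smul fun _ _ => rfl
      haveI := hV.isLocalization_stalk ⟨x, hxV⟩
      haveI := H29Fitt.isLocalizedModule_germLin F hF.1 hV ⟨x, hxV⟩
      have hc := Module.associatedPrimes.comap_mem_associatedPrimes_of_mem_associatedPrimes_of_isLocalizedModule_of_fg
        (R' := X.presheaf.stalk x) (hV.primeIdealOf ⟨x, hxV⟩).asIdeal.primeCompl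
        (H29Fitt.germLin F ⟨x, hxV⟩) r hra (IsNoetherian.noetherian _)
      haveI := hra.isPrime
      obtain ⟨z, hz⟩ := H29Blow.exists_primeIdealOf_eq hV ⟨r.comap (algebraMap Γ(X, V) (X.presheaf.stalk x)), inferInstance⟩
      have hzx : z.1 ⤳ x := (H29Blow.primeIdealOf_le_iff hV z ⟨x, hxV⟩).mp (by
        rw [hz]
        show r.comap _ ≤ (hV.primeIdealOf ⟨x, hxV⟩).asIdeal
        refine le_of_le_of_eq ?_ (IsLocalization.AtPrime.under_maximalIdeal (X.presheaf.stalk x) (hV.primeIdealOf ⟨x, hxV⟩).asIdeal)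
        exact Ideal.comap_mono (IsLocalRing.le_maximalIdeal hra.isPrime.ne_top))
      have hzass : Curv2.IsAssPoint F z.1 := (isAssPoint_iff F hF.1 hV z).mpr (by rw [hz]; exact hc)
      obtain rfl : z = ⟨x, hxV⟩ := Subtype.ext (h x hass z.1 hzass hzx)
      have h2 : r.comap (algebraMap Γ(X, V) (X.presheaf.stalk x)) =
          (IsLocalRing.maximalIdeal (X.presheaf.stalk x)).comap (algebraMap Γ(X, V) (X.presheaf.stalk x)) := by
        refine Eq.trans ?_ (IsLocalization.AtPrime.under_maximalIdeal (X.presheaf.stalk x) (hV.primeIdealOf ⟨x, hxV⟩).asIdeal).symm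
        exact (congrArg PrimeSpectrum.asIdeal hz).symm
      exact (IsLocalization.map_comap (hV.primeIdealOf ⟨x, hxV⟩).asIdeal.primeCompl (X.presheaf.stalk x) r).symm.trans
        ((congrArg (Ideal.map (algebraMap Γ(X, V) (X.presheaf.stalk x))) h2).trans
          (IsLocalization.map_comap (hV.primeIdealOf ⟨x, hxV⟩).asIdeal.primeCompl (X.presheaf.stalk x) _))
    rw [h0, Module.supportDim]
    haveI : Subsingleton (Module.support (X.presheaf.stalk x) (F.presheaf.stalk x)) :=
      ⟨fun a b => Subtype.ext ((hsup _ a.2).trans (hsup _ b.2).symm)⟩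
    exact Order.krullDim_nonpos_of_subsingleton
  · intro h x hx y hy hyx
    by_contra hne
    obtain ⟨V, hV, hxV, -⟩ := hloc x
    haveI : IsNoetherianRing Γ(X, V) := IsLocallyNoetherian.component_noetherian ⟨V, hV⟩
    have hyV : y ∈ V := hyx.mem_open V.2 hxV
    letI := TopCat.Presheaf.algebra_section_stalk X.presheaf (⟨x, hxV⟩ : V)
    letI := Module.compHom (F.presheaf.stalk x) (algebraMap Γ(X, V) (X.presheaf.stalk x))
    haveI : IsScalarTower Γ(X, V) (X.presheaf.stalk x) (F.presheaf.stalk x) :=
      .of_algebraMap_smul fun _ _ => rfl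
    haveI := hV.isLocalization_stalk ⟨x, hxV⟩
    haveI := H29Fitt.isLocalizedModule_germLin F hF.1 hV ⟨x, hxV⟩
    haveI := H29Ref.finite_stalk F hF.2 x
    let P := (hV.primeIdealOf ⟨x, hxV⟩).asIdeal
    let Q := (hV.primeIdealOf ⟨y, hyV⟩).asIdeal
    have hQP : Q ≤ P := (H29Blow.primeIdealOf_le_iff hV ⟨y, hyV⟩ ⟨x, hxV⟩).mpr hyx
    have hd : Disjoint (P.primeCompl : Set Γ(X, V)) Q := Set.disjoint_left.mpr fun a ha haQ => ha (hQP haQ)
    haveI hQ' : (Q.map (algebraMap Γ(X, V) (X.presheaf.stalk x))).IsPrime :=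
      IsLocalization.isPrime_of_isPrime_disjoint P.primeCompl _ Q inferInstance hd
    have hQc : (Q.map (algebraMap Γ(X, V) (X.presheaf.stalk x))).comap (algebraMap _ _) = Q :=
      IsLocalization.comap_map_of_isPrime_disjoint P.primeCompl (X.presheaf.stalk x) inferInstance hd
    have hassQ : Q.map (algebraMap Γ(X, V) (X.presheaf.stalk x)) ∈
        associatedPrimes (X.presheaf.stalk x) (F.presheaf.stalk x) :=
      Module.associatedPrimes.mem_associatedPrimes_of_comap_mem_associatedPrimes_of_isLocalizedModule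
        P.primeCompl (H29Fitt.germLin F ⟨x, hxV⟩) _ (by rw [hQc]; exact (isAssPoint_iff F hF.1 hV ⟨y, hyV⟩).mp hy)
    have hmem : ∀ q : Ideal (X.presheaf.stalk x), (hq : IsAssociatedPrime q (F.presheaf.stalk x)) →
        (⟨q, hq.isPrime⟩ : PrimeSpectrum _) ∈ Module.support (X.presheaf.stalk x) (F.presheaf.stalk x) := fun q hq => by
      rw [Module.support_eq_zeroLocus]; exact Submodule.annihilator_top.symm.le.trans hq.annihilator_le
    have hlt : (⟨_, hassQ.isPrime⟩ : PrimeSpectrum (X.presheaf.stalk x)) < ⟨_, hx.isPrime⟩ := by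
      refine lt_of_le_of_ne (IsLocalRing.le_maximalIdeal hassQ.isPrime.ne_top) fun he => hne ?_
      have h2 := congrArg (fun p : PrimeSpectrum _ => p.asIdeal.comap (algebraMap Γ(X, V) (X.presheaf.stalk x))) he
      dsimp only at h2
      rw [hQc, show Ideal.comap (algebraMap Γ(X, V) (X.presheaf.stalk x)) (IsLocalRing.maximalIdeal (X.presheaf.stalk x)) = P
        from IsLocalization.AtPrime.under_maximalIdeal (X.presheaf.stalk x) P] at h2
      have h3 : hV.primeIdealOf ⟨y, hyV⟩ = hV.primeIdealOf ⟨x, hxV⟩ := PrimeSpectrum.ext h2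
      exact (hV.fromSpec_primeIdealOf ⟨y, hyV⟩).symm.trans ((congrArg _ h3).trans (hV.fromSpec_primeIdealOf ⟨x, hxV⟩))
    let s : LTSeries (Module.support (X.presheaf.stalk x) (F.presheaf.stalk x)) :=
      (RelSeries.singleton _ (⟨_, hmem _ hassQ⟩ : Module.support (X.presheaf.stalk x) (F.presheaf.stalk x))).snoc
        ⟨_, hmem _ hx⟩ (show (⟨_, hmem _ hassQ⟩ : Module.support (X.presheaf.stalk x) (F.presheaf.stalk x)) < ⟨_, hmem _ hx⟩ from hlt)
    have h1 : (1 : WithBot ℕ∞) ≤ Module.supportDim (X.presheaf.stalk x) (F.presheaf.stalk x) :=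
      Order.LTSeries.length_le_krullDim s
    have h2 := (le_min le_rfl h1).trans (h x)
    have h3 : (1 : ℕ∞) ≤ LocCoh.depth (X.presheaf.stalk x) (F.presheaf.stalk x) := by exact_mod_cast h2
    haveI : Nontrivial (F.presheaf.stalk x) := by
      by_contra hn
      rw [not_nontrivial_iff_subsingleton] at hn
      exact Set.eq_empty_iff_forall_notMem.mp (associatedPrimes.eq_empty_of_subsingleton) _ hx
    have hsm : IsLocalRing.maximalIdeal (X.presheaf.stalk x) • (⊤ : Submodule (X.presheaf.stalk x) (F.presheaf.stalk x)) ≠ ⊤ :=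
      fun he => not_subsingleton (F.presheaf.stalk x) (Submodule.subsingleton_iff _ |>.mp (subsingleton_of_bot_eq_top
        (Submodule.eq_bot_of_le_smul_of_le_jacobson_bot _ _ Module.Finite.fg_top he.ge
          (IsLocalRing.maximalIdeal_le_jacobson ⊥)).symm))
    have h4 : LocCoh.depth (X.presheaf.stalk x) (F.presheaf.stalk x) = 0 :=
      (H4Depth.idealDepth_eq_zero_iff_exists_associatedPrime hsm).mpr ⟨_, hx, le_rfl⟩
    rw [h4] at h3
    exact absurd h3 (by decide)

end Groth.Agent.S8871
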