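import Groth.Statements.S9753
import Groth.Agent.H9Hens.BranchScheme
-- import your own Groth.Agent.* helpers here

set_option autoImplicit false
universe u
open Brnch

namespace Groth.Agent.S9753

open AlgebraicGeometry CategoryTheory Limits in
/-- Let X be a scheme and x ∈ X. Over all étale neighbourhoods (U, u) of (X, x) (g : U ⟶ X étale with g
u = x), take the count (in ℕ∞) of irreducible components of U containing u; the supremum of these
counts is the geometric branch number of X at x. -/
theorem result (X : Scheme.{u}) (x : X) :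
    Brnch.numGeomBranchesAt X x = ⨆ (U : Scheme.{u}) (g : U ⟶ X) (u : U) (_ : Etale g ∧ g u = x),
      {Z : Set ↑U | Z ∈ irreducibleComponents ↑U ∧ u ∈ Z}.encard := by
  classical
  obtain ⟨k, _, _, _, _, _, H, _, _, _, _, π, hπ, hH⟩ :=
    Groth.Agent.H9Hens.exists_isStrictHenselization_colim (X.presheaf.stalk x)
  have hker := Groth.Agent.H9Hens.ker_algebraMap_of_tower (R := X.presheaf.stalk x) (k := k)
  have : IsSepClosed k := IsSepClosure.sep_closed (IsLocalRing.ResidueField (X.presheaf.stalk x))
  have hcard : Brnch.numGeomBranchesAt X x = (minimalPrimes H).encard :=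
    (Groth.Agent.H9Hens.card_minimalPrimes_strictHenselization (X.presheaf.stalk x) H).symm
  rw [hcard]
  refine le_antisymm (Groth.Agent.H9Hens.BranchNbhd.encard_le_of_finset fun Q hQ => ?_)
    (iSup_le fun U => iSup_le fun g => iSup_le fun u => iSup_le fun h => ?_)
  · obtain ⟨U, g, t, pt, hE, -, hx, hle⟩ :=
      Groth.Agent.H9Hens.BranchNbhd.exists_card_le_components x hker hπ Q hQ
    exact hle.trans (le_iSup_of_le U (le_iSup_of_le g (le_iSup_of_le (t pt)
      (le_iSup_of_le ⟨hE, hx⟩ le_rfl))))
  · obtain ⟨hE, rfl⟩ := h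
    exact Groth.Agent.H9Hens.BranchNbhd.encard_components_le (g u) hπ g u rfl
      fun V hV hu W hW hx e =>
        Groth.Agent.H9Hens.BranchNbhd.exists_chart_point_isSepClosed g u V hu W hx e hker hV hW

end Groth.Agent.S9753
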