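import Groth.Statements.S9782
import Groth.Agent.H9Hens.BranchScheme
import Groth.Agent.S9236
import Groth.Agent.S9753
-- import your own Groth.Agent.* helpers here

set_option autoImplicit false
universe u
open Brnch

namespace Groth.Agent.S9782

open AlgebraicGeometry CategoryTheory Limits in
/-- The local ring of X at x is geometrically unibranch exactly when, for each étale morphism g : U ⟶ X
and each point u over x, the point u lies on a single irreducible component of U. -/
theorem result (X : Scheme.{u}) (x : X) :
    CAlg2.IsGeomUnibranch ↑(X.presheaf.stalk x) ↔ ∀ (U : Scheme.{u}) (g : U ⟶ X) (u : U), Etale g → g u = x →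
      {Z : Set ↑U | Z ∈ irreducibleComponents ↑U ∧ u ∈ Z}.encard = 1 := by
  rw [← Groth.Agent.S9236.result]
  change Brnch.numGeomBranchesAt X x = 1 ↔ _
  rw [Groth.Agent.S9753.result X x]
  constructor
  · intro h U g u hE hx
    exact le_antisymm (h ▸ (le_iSup_of_le U (le_iSup_of_le g (le_iSup_of_le u
      (le_iSup_of_le ⟨hE, hx⟩ le_rfl))))) (Groth.Agent.H9Hens.BranchNbhd.one_le_encard_components U u)
  · intro h
    refine le_antisymm (iSup_le fun U => iSup_le fun g => iSup_le fun u => iSup_le fun hg =>
      (h U g u hg.1 hg.2).le) ?_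
    exact le_iSup_of_le X (le_iSup_of_le (𝟙 X) (le_iSup_of_le x (le_iSup_of_le ⟨inferInstance, rfl⟩
      (Groth.Agent.H9Hens.BranchNbhd.one_le_encard_components X x))))

end Groth.Agent.S9782
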