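import Groth.Statements.S2462
import Mathlib
import Groth.Prelude.Def_EGA41
import Groth.Agent.H05EGA4.FSAdic
import Groth.Agent.S9316

set_option autoImplicit false
set_option linter.style.haveILetI false
universe u
open EGA41

open IsLocalRing TensorProduct Groth.Agent CAlgX Groth.Agent.H05EGA4

namespace Groth.Agent.S2462

open IsLocalRing in
/-- Let A carry the 𝔞-adic and B the 𝔟-adic topology with B formally smooth over A; let C be a complete
Noetherian local A-algebra with 𝔞C inside the maximal ideal (continuity of A → C) and J ≠ C an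
ideal. Then every A-algebra homomorphism u : B → C/J sending 𝔟 into the maximal ideal of C/J
(continuity) is induced by an A-algebra homomorphism v : B → C sending 𝔟 into the maximal ideal of
C. -/
theorem result {A B C : Type u} [CommRing A] (𝔞 : Ideal A) [CommRing B] [Algebra A B] (𝔟 : Ideal B)
    (hB : EGA41.IsFormallySmoothAdic A 𝔞 B 𝔟)
    [CommRing C] [IsLocalRing C] [IsNoetherianRing C] [IsAdicComplete (maximalIdeal C) C] [Algebra A C]
    (hA : 𝔞.map (algebraMap A C) ≤ maximalIdeal C) (J : Ideal C) (hJ : J ≠ ⊤)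
    (u : B →ₐ[A] C ⧸ J) (hu : 𝔟.map u.toRingHom ≤ (maximalIdeal C).map (Ideal.Quotient.mk J)) :
    ∃ v : B →ₐ[A] C, 𝔟.map v.toRingHom ≤ maximalIdeal C ∧ (Ideal.Quotient.mkₐ A J).comp v = u := by
  have hJm : J ≤ maximalIdeal C := le_maximalIdeal hJ
  have hum : ∀ x ∈ 𝔟, ∀ c, u x = Ideal.Quotient.mk J c → c ∈ maximalIdeal C := fun x hx c hc => by
    have h1 : u x ∈ _ := hu (Ideal.mem_map_of_mem u.toRingHom hx)
    rw [hc, ← Ideal.mem_comap, Ideal.comap_map_of_surjective' _ Ideal.Quotient.mk_surjective, Ideal.mk_ker,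
      sup_eq_left.mpr hJm] at h1
    exact h1
  obtain ⟨v, hv⟩ := exists_lift_formallySmoothAdic hB (maximalIdeal C) ⟨1, by rwa [pow_one]⟩ J hJm u
    ⟨1, by rwa [pow_one]⟩
  have hcomp : ∀ x, Ideal.Quotient.mk J (v x) = u x := fun x => by
    obtain ⟨c, hc⟩ := Ideal.Quotient.mk_surjective (u x)
    rw [← hc, Ideal.Quotient.eq]
    exact mem_of_forall_mem_sup_pow (hv x c hc.symm)
  exact ⟨v, Ideal.map_le_iff_le_comap.mpr fun x hx => hum x hx (v x) (hcomp x).symm, AlgHom.ext hcomp⟩


end Groth.Agent.S2462
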