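import Groth.Statements.S2041
import Groth.Agent.H1CAlg.EtaleNbhd
import Groth.Agent.H9Hens.Annihilator
import Mathlib.Tactic.LinearCombination

set_option autoImplicit false
universe u
open CAlg

namespace Groth.Agent.S2041

open scoped TensorProduct

open TensorProduct in
/-- Let `I ⊆ A` be an ideal, `A → B` integral and `ē` an idempotent of `B/IB`. Then there is an étale
`A`-algebra `A'` with `A/I → A'/IA'` bijective and an idempotent of `A' ⊗ B` whose class modulo `I`
agrees with that of any lift of `ē`. -/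
theorem result {A B : Type u} [CommRing A] [CommRing B] [Algebra A B]
    [Algebra.IsIntegral A B] (I : Ideal A) (e : B ⧸ I.map (algebraMap A B)) (he : IsIdempotentElem e) :
    ∃ (A' : Type u) (_ : CommRing A') (_ : Algebra A A'), Algebra.Etale A A' ∧
      Function.Bijective (algebraMap (A ⧸ I) (A' ⧸ I.map (algebraMap A A'))) ∧
      ∃ e' : A' ⊗[A] B, IsIdempotentElem e' ∧
        ∀ b : B, Ideal.Quotient.mk (I.map (algebraMap A B)) b = e →
          e' - 1 ⊗ₜ b ∈ I.map (algebraMap A (A' ⊗[A] B)) := by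
  open Polynomial Groth.Agent.H9Hens Groth.Agent.H1CAlg.Nbhd in
  obtain ⟨b₀, hb₀⟩ := Ideal.Quotient.mk_surjective e
  open Polynomial Groth.Agent.H9Hens Groth.Agent.H1CAlg.Nbhd in
  obtain ⟨G, N, hN, hG, hGb, hGmap⟩ := exists_monic_annihilator_integral (I := I) b₀ (by
    rw [← Ideal.Quotient.eq_zero_iff_mem, map_sub, map_mul, hb₀, he.eq, sub_self])
  open Polynomial Groth.Agent.H9Hens Groth.Agent.H1CAlg.Nbhd in
  obtain ⟨T, _, _, hT, σ, hb, g', h', -, -, ⟨u, v, huv⟩, hprod, hgm, hhm⟩ :=
    exists_etale_factorization G hG (X ^ N) ((X - 1) ^ N) (monic_X_pow N)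
      (((monic_X_sub_C (1 : A ⧸ I)).pow N) |> fun h => by simpa using h)
      (IsCoprime.pow (⟨1, -1, by ring⟩)) hGmap
  let z : T ⊗[A] B := 1 ⊗ₜ b₀
  open Polynomial in
  have hz : aeval z g' * aeval z h' = 0 := by
    rw [← map_mul, ← hprod, aeval_map_algebraMap]
    show aeval ((Algebra.TensorProduct.includeRight : B →ₐ[A] T ⊗[A] B) b₀) G = 0
    rw [aeval_algHom_apply, hGb, map_zero]
  let L := I.map (algebraMap A (T ⊗[A] B))
  have hle : I.map (algebraMap A T) ≤ L.comap (algebraMap T (T ⊗[A] B)) := by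
    rw [← Ideal.map_le_iff_le_comap, Ideal.map_map, ← IsScalarTower.algebraMap_eq]
  have hone : ∀ x : B, x ∈ I.map (algebraMap A B) → (1 : T) ⊗ₜ[A] x ∈ L := by
    intro x hx
    have h := Ideal.mem_map_of_mem (Algebra.TensorProduct.includeRight : B →ₐ[A] T ⊗[A] B).toRingHom hx
    rwa [Ideal.map_map, AlgHom.toRingHom_eq_coe, AlgHom.comp_algebraMap] at h
  let q := Ideal.quotientMap L (algebraMap T (T ⊗[A] B)) hle
  open Polynomial in
  have hev : ∀ r : T[X], Ideal.Quotient.mk L (aeval z r) =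
      eval₂ q (Ideal.Quotient.mk L z) (r.map (Ideal.Quotient.mk (I.map (algebraMap A T)))) := fun r => by
    rw [aeval_def, hom_eval₂, eval₂_map]
    rfl
  have hidem : Ideal.Quotient.mk L z * Ideal.Quotient.mk L z = Ideal.Quotient.mk L z := by
    rw [← map_mul, Ideal.Quotient.eq, show z * z - z = (1 : T) ⊗ₜ[A] (b₀ * b₀ - b₀) by
      simp [z, TensorProduct.tmul_sub]]
    refine hone _ ?_
    rw [← Ideal.Quotient.eq_zero_iff_mem, map_sub, map_mul, hb₀, he.eq, sub_self]
  obtain ⟨N', rfl⟩ := Nat.exists_eq_add_of_le' hN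
  open Polynomial in
  have hg0 : Ideal.Quotient.mk L (aeval z g') = Ideal.Quotient.mk L z := by
    rw [hev, Groth.Agent.H1CAlg.Nbhd.map_mk_eq hb σ, hgm, Polynomial.map_pow, map_X, eval₂_X_pow]
    exact IsIdempotentElem.pow_succ_eq _ hidem
  open Polynomial in
  have hh0 : Ideal.Quotient.mk L z * Ideal.Quotient.mk L (aeval z h') = 0 := by
    rw [hev, Groth.Agent.H1CAlg.Nbhd.map_mk_eq hb σ, hhm, Polynomial.map_pow, Polynomial.map_sub, map_X,
      Polynomial.map_one, eval₂_pow, eval₂_sub, eval₂_X, eval₂_one, pow_succ]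
    linear_combination (Ideal.Quotient.mk L z - 1) ^ N' * hidem
  open Polynomial in
  have h1 : aeval z u * aeval z g' + aeval z v * aeval z h' = 1 := by
    rw [← map_mul, ← map_mul, ← map_add, huv, map_one]
  open Polynomial in
  refine ⟨T, inferInstance, inferInstance, hT, Groth.Agent.H1CAlg.Nbhd.bijective_algebraMap T hb,
    aeval z u * aeval z g', ?_, fun b hb' => ?_⟩
  · rw [IsIdempotentElem]
    linear_combination (Polynomial.aeval z u * Polynomial.aeval z g') * h1 -
      Polynomial.aeval z u * Polynomial.aeval z v * hz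
  · have hdiff : (1 : T) ⊗ₜ[A] b - z ∈ L := by
      rw [← TensorProduct.tmul_sub]
      exact hone _ (Ideal.Quotient.eq.mp (hb'.trans hb₀.symm))
    rw [← Ideal.Quotient.eq]
    rw [Ideal.Quotient.eq.mpr hdiff, map_mul, hg0]
    have h2 := congrArg (fun t => Ideal.Quotient.mk L z * Ideal.Quotient.mk L t) h1
    simp only [map_add, map_mul, map_one, mul_one, hg0] at h2
    linear_combination h2 - Ideal.Quotient.mk L (Polynomial.aeval z v) * hh0 -
      Ideal.Quotient.mk L (Polynomial.aeval z u) * hidem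

end Groth.Agent.S2041
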