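import Groth.Statements.S4542
import Mathlib
import Groth.Prelude.Def_EGA41
import Groth.Agent.H05EGA4.FSAdic
import Groth.Agent.S9316

set_option autoImplicit false
set_option linter.style.haveILetI false
universe u
open EGA41

open IsLocalRing TensorProduct Groth.Agent CAlgX Groth.Agent.H05EGA4

namespace Groth.Agent.S4542

/-- Let B (𝔟-adic) be formally smooth over A (𝔞-adic); let C be a topological A-algebra for the 𝔠-adic
topology (a power of 𝔞 maps into 𝔠) which is complete, and J an ideal which is closed, i.e. C/J is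
Hausdorff for the 𝔠-adic topology, and whose powers tend to 0, i.e. some power of J lies in 𝔠. Then
every continuous A-algebra homomorphism u : B → C/J (a power of 𝔟 maps into the image of 𝔠) factors
as B → C → C/J with B → C a continuous A-algebra homomorphism (a power of 𝔟 maps into 𝔠). -/
theorem result {A B C : Type u} [CommRing A] [CommRing B] [CommRing C] [Algebra A B]
    [Algebra A C] (𝔞 : Ideal A) (𝔟 : Ideal B) (𝔠 : Ideal C) (hB : EGA41.IsFormallySmoothAdic A 𝔞 B 𝔟)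
    [IsAdicComplete 𝔠 C] (hAC : ∃ k : ℕ, (𝔞 ^ k).map (algebraMap A C) ≤ 𝔠)
    (J : Ideal C) (hJ : ∃ t : ℕ, J ^ t ≤ 𝔠) [IsHausdorff (𝔠.map (Ideal.Quotient.mk J)) (C ⧸ J)]
    (u : B →ₐ[A] C ⧸ J) (hu : ∃ k : ℕ, (𝔟 ^ k).map u.toRingHom ≤ 𝔠.map (Ideal.Quotient.mk J)) :
    ∃ v : B →ₐ[A] C, (∃ k : ℕ, (𝔟 ^ k).map v.toRingHom ≤ 𝔠) ∧ (Ideal.Quotient.mkₐ A J).comp v = u := by
  obtain ⟨t, ht⟩ := hJ
  obtain ⟨k, hk⟩ := hu
  obtain ⟨a, ha⟩ := hAC
  let m := 𝔠 ⊔ J
  have hpow : m ^ (t + 1) ≤ 𝔠 := by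
    refine ((add_comm t 1) ▸ Ideal.sup_pow_add_le_pow_sup_pow (n := 1) (m := t) : m ^ (t + 1) ≤ 𝔠 ^ 1 ⊔ J ^ t).trans ?_
    rw [pow_one]
    exact sup_le le_rfl ht
  have : IsAdicComplete m C :=
    H24Adic.isAdicComplete_of_pow_le (I := 𝔠) (a := t + 1) (b := 1) hpow (by rw [pow_one]; exact le_sup_left) C
  have hum : ∀ x ∈ 𝔟 ^ k, ∀ c, u x = Ideal.Quotient.mk J c → c ∈ m := fun x hx c hc => by
    have h1 : u x ∈ _ := hk (Ideal.mem_map_of_mem u.toRingHom hx)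
    rw [hc, ← Ideal.mem_comap, Ideal.comap_map_of_surjective' _ Ideal.Quotient.mk_surjective, Ideal.mk_ker] at h1
    exact h1
  obtain ⟨v, hv⟩ := exists_lift_formallySmoothAdic hB m ⟨a, ha.trans le_sup_left⟩ J le_sup_right u ⟨k, hum⟩
  have hmk : m.map (Ideal.Quotient.mk J) = 𝔠.map (Ideal.Quotient.mk J) := by
    rw [Ideal.map_sup, Ideal.map_quotient_self, sup_bot_eq]
  have hcomp : ∀ x, Ideal.Quotient.mk J (v x) = u x := fun x => by
    obtain ⟨c, hc⟩ := Ideal.Quotient.mk_surjective (u x)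
    rw [← hc]
    refine sub_eq_zero.mp (IsHausdorff.haus (I := 𝔠.map (Ideal.Quotient.mk J)) inferInstance _ fun n => ?_)
    rw [SModEq.sub_mem, sub_zero, smul_eq_mul, Ideal.mul_top, ← hmk, ← map_sub, ← Ideal.map_pow]
    have h1 := Ideal.mem_map_of_mem (Ideal.Quotient.mk J) (hv x c hc.symm n)
    rwa [Ideal.map_sup, Ideal.map_quotient_self, bot_sup_eq] at h1
  refine ⟨v, ⟨k * (t + 1), ?_⟩, AlgHom.ext hcomp⟩
  rw [pow_mul, Ideal.map_pow]
  refine le_trans (Ideal.pow_right_mono (Ideal.map_le_iff_le_comap.mpr fun x hx => ?_) _) hpow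
  exact hum x hx (v x) (hcomp x).symm


end Groth.Agent.S4542
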