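import Groth.Statements.S2085
import Groth.Agent.H1CAlg.Associated

set_option autoImplicit false
universe u
open CAlg

namespace Groth.Agent.S2085

/-- Let `M` be a finite module over a Noetherian ring `R`. Then every associated prime of `M` is minimal
in the support of `M` (no embedded primes) if and only if `M` satisfies Serre's condition `(S_1)`. -/
theorem result {R M : Type u} [CommRing R] [IsNoetherianRing R] [AddCommGroup M] [Module R M]
    [Module.Finite R M] :
    (∀ p ∈ associatedPrimes R M, p ∈ (Module.annihilator R M).minimalPrimes) ↔ LocCoh.HasSk 1 R M := by
  exact Groth.Agent.H1CAlg.hasSk_one_iff.symm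

end Groth.Agent.S2085
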