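import Groth.Statements.S2114
import Groth.Agent.H02CA.N2
import Mathlib.RingTheory.ZariskisMainTheorem
import Mathlib.FieldTheory.AlgebraicClosure
import Mathlib.FieldTheory.IntermediateField.Adjoin.Algebra
-- import your own Groth.Agent.* helpers here

set_option autoImplicit false
universe u
open CAlg

namespace Groth.Agent.S2114

/-- Let `R ⊆ S` be an extension of domains which is of finite type and quasi-finite, with `R` Noetherian
and N-2 (integral closures in finite extensions of the fraction field are finite). Then `S` is N-2. -/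
theorem result {R S : Type u} [CommRing R] [IsDomain R] [IsNoetherianRing R] [CommRing S]
    [IsDomain S] [Algebra R S] (hinj : Function.Injective (algebraMap R S)) [Algebra.FiniteType R S]
    [Algebra.QuasiFinite R S] (hR : CAlg.IsN2 R) : CAlg.IsN2 S := by
  classical
  intro L _ _ _ _ hfin
  haveI : FiniteDimensional (FractionRing S) L := hfin
  haveI : IsNoetherianRing S := Algebra.FiniteType.isNoetherianRing R S
  -- elements witnessing Zariski's main theorem
  have hZ : ∀ P : Ideal S, P.IsPrime → ∃ r ∉ P, IsIntegral R r ∧ ∀ x, ∃ m, IsIntegral R (r ^ m * x) := fun P hP =>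
    Algebra.zariskisMainProperty_iff.mp (Algebra.ZariskisMainProperty.of_finiteType (R := R) P)
  let Z : Set S := {r | IsIntegral R r ∧ ∀ x, ∃ m, IsIntegral R (r ^ m * x)}
  have hspan : Ideal.span Z = ⊤ := by
    by_contra hne
    obtain ⟨P, hP, hle⟩ := Ideal.exists_le_maximal _ hne
    obtain ⟨r, hr, h1, h2⟩ := hZ P hP.isPrime
    exact hr (hle (Ideal.subset_span ⟨h1, h2⟩))
  obtain ⟨G, hGZ, hG⟩ := Submodule.mem_span_finite_of_mem_span ((Ideal.eq_top_iff_one _).mp hspan)
  have hGtop : Ideal.span (G : Set S) = ⊤ := (Ideal.eq_top_iff_one _).mpr hG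
  let K := FractionRing R
  have hSL : Function.Injective (algebraMap S L) := by
    rw [IsScalarTower.algebraMap_eq S (FractionRing S) L]
    exact (algebraMap (FractionRing S) L).injective.comp (IsFractionRing.injective S (FractionRing S))
  letI : Algebra R L := ((algebraMap S L).comp (algebraMap R S)).toAlgebra
  haveI : IsScalarTower R S L := IsScalarTower.of_algebraMap_eq fun _ => rfl
  have hRL : Function.Injective (algebraMap R L) := hSL.comp hinj
  letI : Algebra K L := (IsFractionRing.lift hRL).toAlgebra
  haveI : IsScalarTower R K L := IsScalarTower.of_algebraMap_eq fun z => (IsFractionRing.lift_algebraMap hRL z).symm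
  let E := algebraicClosure K L
  have hS : ∀ s : S, algebraMap S L s ∈ E := by
    intro s
    obtain ⟨g, hgG, hg0⟩ : ∃ g ∈ G, g ≠ 0 := by
      by_contra hall
      push Not at hall
      have : Ideal.span (G : Set S) = ⊥ := Ideal.span_eq_bot.mpr hall
      exact bot_ne_top (this.symm.trans hGtop)
    obtain ⟨hgi, hgx⟩ := hGZ hgG
    obtain ⟨m, hm⟩ := hgx s
    have h1 : algebraMap S L (g ^ m * s) ∈ E :=
      mem_algebraicClosure_iff.mpr ((hm.map (IsScalarTower.toAlgHom R S L)).tower_top.isAlgebraic)
    have h2 : algebraMap S L (g ^ m) ∈ E :=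
      mem_algebraicClosure_iff.mpr (((hgi.pow m).map (IsScalarTower.toAlgHom R S L)).tower_top.isAlgebraic)
    rw [show algebraMap S L s = algebraMap S L (g ^ m * s) / algebraMap S L (g ^ m) by
      rw [map_mul, mul_div_cancel_left₀]
      exact (map_ne_zero_iff _ hSL).mpr (pow_ne_zero m hg0)]
    exact div_mem h1 h2
  have hFS : ∀ f : FractionRing S, algebraMap (FractionRing S) L f ∈ E := fun f => by
    obtain ⟨a, b, -, rfl⟩ := IsFractionRing.div_surjective (A := S) f
    rw [map_div₀, ← IsScalarTower.algebraMap_apply, ← IsScalarTower.algebraMap_apply]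
    exact div_mem (hS a) (hS b)
  letI : Algebra (FractionRing S) E := ((algebraMap (FractionRing S) L).codRestrict E.toSubfield.toSubring hFS).toAlgebra
  haveI : IsScalarTower (FractionRing S) E L := IsScalarTower.of_algebraMap_eq fun _ => rfl
  haveI : Algebra.IsAlgebraic K E := algebraicClosure.isAlgebraic K L
  haveI : Algebra.IsAlgebraic K L := ⟨fun z => by
    have h1 : IsIntegral E z := (IsIntegral.of_finite (FractionRing S) z).tower_top
    exact (isIntegral_trans (R := K) (A := E) z h1).isAlgebraic⟩
  haveI : Algebra.EssFiniteType R L := by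
    haveI : Algebra.EssFiniteType S L := Algebra.EssFiniteType.comp S (FractionRing S) L
    exact Algebra.EssFiniteType.comp R S L
  haveI : Algebra.EssFiniteType K L := .of_comp R K L
  haveI : FiniteDimensional K L := Algebra.finite_of_essFiniteType_of_isAlgebraic
  haveI : Module.Finite R (integralClosure R L) := Groth.Agent.H02CA.finite_integralClosure_of_isN2 hR K L
  obtain ⟨B, hB⟩ := Module.Finite.fg_top (R := R) (M := integralClosure R L)
  let c : integralClosure R L → integralClosure S L := fun z => ⟨z.1, z.2.tower_top⟩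
  refine ⟨⟨B.image c, eq_top_iff.mpr fun z _ => ?_⟩⟩
  have hc : ∀ w, c w ∈ Submodule.span S (↑(B.image c) : Set (integralClosure S L)) := by
    intro w
    have hw : w ∈ Submodule.span R (B : Set (integralClosure R L)) := hB ▸ trivial
    induction hw using Submodule.span_induction with
    | mem g hg => exact Submodule.subset_span (Finset.mem_coe.mpr (Finset.mem_image_of_mem _ hg))
    | zero => exact zero_mem _
    | add u v _ _ hu hv => exact add_mem hu hv
    | smul r u _ hu =>
      rw [show c (r • u) = algebraMap R S r • c u from Subtype.ext (algebraMap_smul S r (u : L)).symm]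
      exact Submodule.smul_mem _ _ hu
  have hpow : ∀ g ∈ G, ∃ N : ℕ, g ^ N • z ∈ Submodule.span S (↑(B.image c) : Set (integralClosure S L)) := by
    intro g hg
    obtain ⟨hgi, hgx⟩ := hGZ hg
    obtain ⟨P, hPm, hPz⟩ : IsIntegral S (z : L) := z.2
    choose m hm using fun j => hgx (P.coeff j)
    refine ⟨(Finset.range (P.natDegree + 1)).sup m, ?_⟩
    set N := (Finset.range (P.natDegree + 1)).sup m
    have hint : IsIntegral (integralClosure R S) (g ^ N • (z : L)) := by
      have hscale : ∀ j, IsIntegral R ((P.scaleRoots (g ^ N)).coeff j) := by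
        intro j
        rw [Polynomial.coeff_scaleRoots]
        rcases lt_trichotomy j P.natDegree with hj | rfl | hj
        · obtain ⟨e, he⟩ : ∃ e, N * (P.natDegree - j) = m j + e :=
            Nat.exists_eq_add_of_le ((Finset.le_sup (f := m) (Finset.mem_range.mpr (Nat.lt_succ_of_lt hj))).trans
              (Nat.le_mul_of_pos_right N (Nat.sub_pos_of_lt hj)))
          rw [← pow_mul, he, pow_add, show P.coeff j * (g ^ m j * g ^ e) = g ^ e * (g ^ m j * P.coeff j) by ring]
          exact (hgi.pow e).mul (hm j)
        · rw [hPm.coeff_natDegree, Nat.sub_self, pow_zero, mul_one]; exact isIntegral_one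
        · rw [Polynomial.coeff_eq_zero_of_natDegree_lt hj, zero_mul]; exact isIntegral_zero
      have hlift : P.scaleRoots (g ^ N) ∈ Polynomial.lifts (algebraMap (integralClosure R S) S) := by
        rw [Polynomial.lifts_iff_coeff_lifts]
        exact fun j => ⟨⟨_, hscale j⟩, rfl⟩
      obtain ⟨Q, hQ, -, hQm⟩ := Polynomial.lifts_and_degree_eq_and_monic hlift ((Polynomial.monic_scaleRoots_iff _).mpr hPm)
      refine ⟨Q, hQm, ?_⟩
      rw [← Polynomial.aeval_def, ← Polynomial.aeval_map_algebraMap S, hQ, Algebra.smul_def]
      exact Polynomial.scaleRoots_aeval_eq_zero (by rw [Polynomial.aeval_def]; exact hPz)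
    haveI : Algebra.IsIntegral R (integralClosure R S) := inferInstance
    have hfinal : IsIntegral R (g ^ N • (z : L)) := isIntegral_trans (R := R) (A := integralClosure R S) _ hint
    exact (show c ⟨_, hfinal⟩ = g ^ N • z from Subtype.ext rfl) ▸ hc _
  choose! N hN using hpow
  refine Submodule.mem_of_span_eq_top_of_smul_pow_mem _ (G : Set S) hGtop z fun g => ⟨N g, hN g g.2⟩

end Groth.Agent.S2114
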