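import Groth.Statements.S6299
import Groth.Agent.H1CAlg.NagataUnramified
import Mathlib.RingTheory.PowerSeries.Ideal
-- import your own Groth.Agent.* helpers here

set_option autoImplicit false
universe u
open CAlg

namespace Groth.Agent.S6299

/-- Let R be a Noetherian normal domain. Then the power series ring R[[x]] is a Noetherian normal domain
(here: it is an integrally closed domain and a Noetherian ring). -/
theorem result (R : Type u) [CommRing R] [IsDomain R] [IsNoetherianRing R] [IsIntegrallyClosed R] : IsIntegrallyClosed (PowerSeries R) ∧ IsNoetherianRing (PowerSeries R) := by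
  classical
  refine ⟨?_, inferInstance⟩
  let A := PowerSeries R
  let L := FractionRing A
  let K := FractionRing R
  rw [isIntegrallyClosed_iff L]
  intro z hz
  obtain ⟨f, g, hg, rfl⟩ := IsFractionRing.div_surjective (A := A) z
  have hg0 : g ≠ 0 := nonZeroDivisors.ne_zero hg
  obtain ⟨P₀, hP₀, hP₀z⟩ := hz
  let κ : A →+* PowerSeries K := PowerSeries.map (algebraMap R K)
  have hκ : Function.Injective κ := fun u v huv => PowerSeries.ext fun n =>
    IsFractionRing.injective R K (by
      have := congrArg (PowerSeries.coeff n) huv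
      rwa [PowerSeries.coeff_map, PowerSeries.coeff_map] at this)
  -- the quotient exists over every discrete valuation ring `R_p`
  have hloc : ∀ (p : Ideal R) [p.IsPrime], IsPrincipalIdealRing (Localization.AtPrime p) →
      ∃ h : PowerSeries (Localization.AtPrime p),
        PowerSeries.map (algebraMap R (Localization.AtPrime p)) f =
          PowerSeries.map (algebraMap R (Localization.AtPrime p)) g * h := by
    intro p _ hpid
    let V := Localization.AtPrime p
    haveI := hpid
    haveI : IsDomain V := IsLocalization.isDomain_of_le_nonZeroDivisors _ p.primeCompl_le_nonZeroDivisors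
    let B := PowerSeries V
    let φ : A →+* B := PowerSeries.map (algebraMap R V)
    let F := FractionRing B
    have hφ : Function.Injective φ := fun u v huv => PowerSeries.ext fun n =>
      IsLocalization.injective V p.primeCompl_le_nonZeroDivisors (by
        have := congrArg (PowerSeries.coeff n) huv
        rwa [PowerSeries.coeff_map, PowerSeries.coeff_map] at this)
    have hψ : Function.Injective ((algebraMap B F).comp φ) := (IsFractionRing.injective B F).comp hφ
    let ψ : L →+* F := IsFractionRing.lift hψ
    have hψa : ∀ a, ψ (algebraMap A L a) = algebraMap B F (φ a) := fun a => IsFractionRing.lift_algebraMap hψ a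
    have hint : IsIntegral B (ψ (algebraMap A L f / algebraMap A L g)) := by
      refine ⟨P₀.map φ, hP₀.map _, ?_⟩
      rw [Polynomial.eval₂_map, show (algebraMap B F).comp φ = ψ.comp (algebraMap A L) from
        RingHom.ext fun a => (hψa a).symm, ← Polynomial.hom_eval₂, hP₀z, map_zero]
    obtain ⟨h, hh⟩ := IsIntegrallyClosed.isIntegral_iff.mp hint
    refine ⟨h, IsFractionRing.injective B F ?_⟩
    rw [map_div₀, hψa, hψa, eq_div_iff (show algebraMap B F (φ g) ≠ 0 from ((map_ne_zero_iff ((algebraMap B F).comp φ) hψ).mpr hg0))] at hh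
    rw [map_mul, mul_comm]
    exact hh.symm
  have hmapK : ∀ (p : Ideal R) [p.IsPrime] (e : Localization.AtPrime p →+* K),
      e.comp (algebraMap R _) = algebraMap R K → IsPrincipalIdealRing (Localization.AtPrime p) →
      ∃ h : PowerSeries (Localization.AtPrime p), κ f = κ g * PowerSeries.map e h := by
    intro p _ e he hpid
    obtain ⟨h, hh⟩ := hloc p hpid
    refine ⟨h, ?_⟩
    have := congrArg (PowerSeries.map e) hh
    rwa [map_mul, ← RingHom.comp_apply, ← RingHom.comp_apply, ← PowerSeries.map_comp, he] at this
  have hex : ∀ (p : Ideal R) [p.IsPrime], ∃ e : Localization.AtPrime p →+* K, e.comp (algebraMap R _) = algebraMap R K :=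
    fun p _ => ⟨IsLocalization.lift (M := p.primeCompl) (g := algebraMap R K) fun y =>
      IsUnit.mk0 _ ((map_ne_zero_iff _ (IsFractionRing.injective R K)).mpr (nonZeroDivisors.ne_zero (p.primeCompl_le_nonZeroDivisors y.2))),
      IsLocalization.lift_comp _⟩
  obtain ⟨e₀, he₀⟩ := hex ⊥
  haveI : IsFractionRing R (Localization.AtPrime (⊥ : Ideal R)) := by
    have h : (⊥ : Ideal R).primeCompl = nonZeroDivisors R := by
      ext; simp [Ideal.primeCompl, mem_nonZeroDivisors_iff_ne_zero]
    show IsLocalization _ _
    rw [← h]; infer_instance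
  obtain ⟨h₀, hh₀⟩ := hmapK ⊥ e₀ he₀ (by letI := IsFractionRing.toField R (K := Localization.AtPrime (⊥ : Ideal R)); infer_instance)
  let hK := PowerSeries.map e₀ h₀
  -- its coefficients lie in `R`
  have hcoef : ∀ n, ∃ r : R, algebraMap R K r = PowerSeries.coeff n hK := by
    intro n
    obtain ⟨a, b, hb, hab⟩ := IsFractionRing.div_surjective (A := R) (PowerSeries.coeff n hK)
    have hb0 : b ≠ 0 := nonZeroDivisors.ne_zero hb
    suffices hdvd : a ∈ Ideal.span {b} by
      obtain ⟨c, rfl⟩ := Ideal.mem_span_singleton.mp hdvd
      exact ⟨c, by rw [← hab, map_mul, mul_div_cancel_left₀]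
                   exact (map_ne_zero_iff _ (IsFractionRing.injective R K)).mpr hb0⟩
    by_contra hab'
    obtain ⟨p, hp, hle⟩ := exists_le_isAssociatedPrime_of_isNoetherianRing R (Ideal.Quotient.mk (Ideal.span {b}) a)
      (mt Ideal.Quotient.eq_zero_iff_mem.mp hab')
    haveI := hp.isPrime
    obtain ⟨t, -, htp, ht, -⟩ := Groth.Agent.H1CAlg.exists_uniformizer_mem_of_isIntegrallyClosed hb0 (p := p) hp
    let V := Localization.AtPrime p
    haveI : IsDomain V := IsLocalization.isDomain_of_le_nonZeroDivisors _ p.primeCompl_le_nonZeroDivisors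
    haveI : IsNoetherianRing V := IsLocalization.isNoetherianRing p.primeCompl V inferInstance
    have hpid : IsPrincipalIdealRing V := ((tfae_of_isNoetherianRing_of_isLocalRing_of_isDomain V).out 4 0
      (a := (IsLocalRing.maximalIdeal V).IsPrincipal) (b := IsPrincipalIdealRing V)).mp
      ⟨algebraMap R V t, le_antisymm ht ((Ideal.span_singleton_le_iff_mem _).mpr
        ((IsLocalization.AtPrime.to_map_mem_maximal_iff V p t).mpr htp))⟩
    obtain ⟨e, he⟩ := hex p
    obtain ⟨h, hh⟩ := hmapK p e he hpid
    have heq : hK = PowerSeries.map e h :=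
      mul_left_cancel₀ ((map_ne_zero_iff _ hκ).mpr hg0) (hh₀.symm.trans hh)
    obtain ⟨⟨c, s⟩, hcs⟩ := IsLocalization.surj p.primeCompl (PowerSeries.coeff n h)
    have hK' : (algebraMap R K a / algebraMap R K b) * algebraMap R K s = algebraMap R K c := by
      rw [hab, heq, PowerSeries.coeff_map, ← he, RingHom.comp_apply, RingHom.comp_apply, ← map_mul, hcs]
    rw [div_mul_eq_mul_div, div_eq_iff ((map_ne_zero_iff _ (IsFractionRing.injective R K)).mpr hb0), ← map_mul, ← map_mul] at hK'
    refine s.2 (hle (Submodule.mem_colon_singleton.mpr ((Submodule.mem_bot R).mpr ?_)))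
    rw [Algebra.smul_def, Ideal.Quotient.algebraMap_eq, ← map_mul, Ideal.Quotient.eq_zero_iff_mem,
      Ideal.mem_span_singleton, mul_comm, IsFractionRing.injective R K hK']
    exact dvd_mul_left _ _
  choose r hr using hcoef
  refine ⟨PowerSeries.mk r, ?_⟩
  have hfg : f = g * PowerSeries.mk r := hκ (by
    rw [map_mul, hh₀]
    refine congrArg (κ g * ·) (PowerSeries.ext fun n => ?_)
    rw [PowerSeries.coeff_map (algebraMap R K), PowerSeries.coeff_mk, hr])
  rw [hfg, map_mul, mul_div_cancel_left₀]
  exact (map_ne_zero_iff _ (IsFractionRing.injective A L)).mpr hg0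

end Groth.Agent.S6299
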