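import Groth.Statements.S2235
import Groth.Agent.H05EGA4.KosTransfer

set_option autoImplicit false
universe u
open TensorProduct
open Disc

namespace Groth.Agent.S2235

/-- Let A -> P be a ring map, f_1, ..., f_n a Koszul-regular sequence in P with B = P/(f_1, ..., f_n)
flat over A, and g_1, ..., g_n a Koszul-regular sequence in P tensor_A B generating the kernel of
the multiplication map P tensor_A B -> B. Write f_i tensor 1 = sum_j c_ij g_j. Then the annihilator
of the kernel of B tensor_A B -> B is the principal ideal generated by the image of det(c_ij). -/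
theorem result {A P : Type u} [CommRing A] [CommRing P] [Algebra A P]
    {n : ℕ} (f : Fin n → P) (hf : LCI.IsKoszulRegularSeq P (List.ofFn f))
    [Module.Flat A (P ⧸ Ideal.span (Set.range f))]
    (g : Fin n → P ⊗[A] (P ⧸ Ideal.span (Set.range f)))
    (hg : LCI.IsKoszulRegularSeq (P ⊗[A] (P ⧸ Ideal.span (Set.range f))) (List.ofFn g))
    (hgker : Ideal.span (Set.range g) = RingHom.ker (Algebra.TensorProduct.productMap
      (Ideal.Quotient.mkₐ A (Ideal.span (Set.range f))) (AlgHom.id A (P ⧸ Ideal.span (Set.range f)))))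
    (c : Matrix (Fin n) (Fin n) (P ⊗[A] (P ⧸ Ideal.span (Set.range f))))
    (hc : ∀ i, f i ⊗ₜ[A] (1 : P ⧸ Ideal.span (Set.range f)) = ∑ j, c i j * g j) :
    Submodule.annihilator (RingHom.ker
        (Algebra.TensorProduct.lmul' (S := P ⧸ Ideal.span (Set.range f)) A)) =
      Ideal.span {Algebra.TensorProduct.map (Ideal.Quotient.mkₐ A (Ideal.span (Set.range f)))
        (AlgHom.id A (P ⧸ Ideal.span (Set.range f))) (Matrix.det c)} := by
  classical
  let I := Ideal.span (Set.range f)
  let π := Algebra.TensorProduct.map (Ideal.Quotient.mkₐ A I) (AlgHom.id A (P ⧸ I))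
  have hπ : Function.Surjective π :=
    TensorProduct.map_surjective Ideal.Quotient.mk_surjective Function.surjective_id
  let F : Fin n → P ⊗[A] (P ⧸ I) := fun i => f i ⊗ₜ[A] (1 : P ⧸ I)
  have hkerπ : RingHom.ker π = Ideal.span (Set.range F) := by
    refine (Algebra.TensorProduct.rTensor_ker _ Ideal.Quotient.mk_surjective).trans ?_
    rw [show RingHom.ker (Ideal.Quotient.mkₐ A I) = I from Ideal.Quotient.mkₐ_ker A I, Ideal.map_span, ← Set.range_comp]
    rfl
  have hker : RingHom.ker (Algebra.TensorProduct.lmul' (S := P ⧸ I) A) =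
      Ideal.span (Set.range fun j => π (g j)) := by
    rw [show (Set.range fun j => π (g j)) = π '' Set.range g from Set.range_comp π g, ← Ideal.map_span, hgker,
      Algebra.TensorProduct.productMap_eq_comp_map]
    exact (Ideal.map_comap_of_surjective _ hπ _).symm
  have hF : Groth.Agent.H05EGA4.KosModel.Exact F :=
    Groth.Agent.H05EGA4.KosTransfer.exact_baseChange f (Groth.Agent.H05EGA4.KosTransfer.exact_of_ofFn f hf)
  rw [hker]
  ext y
  obtain ⟨x, rfl⟩ := hπ y
  constructor
  · intro hx
    have hx' : ∀ j, x * g j ∈ Ideal.span (Set.range F) := fun j => by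
      rw [← hkerπ, RingHom.mem_ker, map_mul]
      exact Submodule.mem_annihilator.1 hx _ (Ideal.subset_span ⟨j, rfl⟩)
    have h := Groth.Agent.H05EGA4.KosModel.colon_le_det F g hF c hc x hx'
    obtain ⟨a, ha, b, hb, rfl⟩ := Submodule.mem_sup.1 h
    obtain ⟨e, rfl⟩ := Ideal.mem_span_singleton'.1 hb
    rw [← hkerπ, RingHom.mem_ker] at ha
    rw [map_add, ha, zero_add, map_mul]
    exact Ideal.mul_mem_left _ _ (Ideal.mem_span_singleton_self _)
  · intro hx
    obtain ⟨e, he⟩ := Ideal.mem_span_singleton'.1 hx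
    rw [← he]
    refine Ideal.mul_mem_left _ e ?_
    rw [Submodule.mem_annihilator_span]
    rintro ⟨_, j, rfl⟩
    show π c.det * π (g j) = 0
    rw [← map_mul, ← RingHom.mem_ker, hkerπ]
    have h : c.det * g j = ∑ i, c.adjugate j i * F i := by
      simp only [F, hc, Finset.mul_sum, ← mul_assoc]
      rw [Finset.sum_comm]
      simp only [← Finset.sum_mul, ← Matrix.mul_apply, Matrix.adjugate_mul, Matrix.smul_apply, Matrix.one_apply,
        smul_eq_mul, mul_ite, mul_one, mul_zero, ite_mul, zero_mul, Finset.sum_ite_eq, Finset.mem_univ, if_true]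
    rw [h]
    exact sum_mem fun i _ => Ideal.mul_mem_left _ _ (Ideal.subset_span ⟨i, rfl⟩)

end Groth.Agent.S2235
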