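import Groth.Statements.S4710
import Groth.Agent.H05EGA4.GeomReducedNagata
import Groth.Agent.H8Props.NagataAffine
import Groth.Agent.H4Depth.Regular
import Groth.Agent.S0567
import Groth.Agent.S0603
import Groth.Agent.S2619

set_option autoImplicit false
set_option linter.style.haveILetI false
set_option maxHeartbeats 800000
set_option synthInstance.maxHeartbeats 200000
universe u
open EGA4

open IsLocalRing TensorProduct Groth.Agent Groth.Agent.H05EGA4

namespace Groth.Agent.S4710

/-- Last assertion, case of rings of fractions: if A is a Noetherian ring all of whose quotient domains
are Japanese (a Nagata ring), then so is every ring of fractions S⁻¹A. -/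
theorem result (A : Type u) [CommRing A] (hA : CAlg.IsNagata A) (S : Submonoid A) :
    CAlg.IsNagata (Localization S) := by
  exact H8Props.NagataAffine.isNagata_of_isLocalization S (Localization S) hA


end Groth.Agent.S4710
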