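import Groth.Statements.S2138
import Mathlib.RingTheory.Flat.Basic
import Mathlib.RingTheory.LocalRing.ResidueField.Ideal
import Mathlib.RingTheory.TensorProduct.Basic
import Mathlib.LinearAlgebra.DirectSum.Finsupp
import Mathlib.Algebra.Module.LocalizedModule.Basic
import Mathlib.LinearAlgebra.TensorProduct.RightExactness
import Mathlib.Algebra.Module.Torsion.Basic
import Mathlib.LinearAlgebra.FreeModule.Basic
import Mathlib.LinearAlgebra.Dimension.DivisionRing
-- import your own Groth.Agent.* helpers here

set_option autoImplicit false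
universe u
open CAlg

namespace Groth.Agent.S2138

open TensorProduct

variable {R S : Type u} [CommRing R] [CommRing S] [Algebra R S]

theorem reg_of {A X : Type u} [CommRing A] [AddCommGroup X] [Module A X] {r : A}
    (h : ∀ x : X, r • x = 0 → x = 0) : IsSMulRegular X r := fun a b e =>
  sub_eq_zero.mp (h _ (by rw [smul_sub]; exact sub_eq_zero.mpr e))

theorem tmul_eq_zero_of_mem {V : Type u} [AddCommGroup V] [Module R V] (P : Ideal R) (v : V)
    (hv : ∀ a ∈ P, a • v = 0) {y : S} (hy : y ∈ P.map (algebraMap R S)) : y ⊗ₜ[R] v = 0 := by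
  induction hy using Submodule.span_induction with
  | mem y hy =>
    obtain ⟨a, ha, rfl⟩ := hy
    rw [Algebra.algebraMap_eq_smul_one, TensorProduct.smul_tmul, hv a ha, TensorProduct.tmul_zero]
  | zero => rw [TensorProduct.zero_tmul]
  | add a b _ _ ha hb => rw [TensorProduct.add_tmul, ha, hb, add_zero]
  | smul c a _ ha => rw [← TensorProduct.smul_tmul', ha, smul_zero]

theorem mem_map_of_tmul_eq_zero (P : Ideal R) {y : S}
    (h : y ⊗ₜ[R] (Ideal.Quotient.mk P 1) = (0 : S ⊗[R] (R ⧸ P))) : y ∈ P.map (algebraMap R S) := by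
  let f : R ⧸ P →ₗ[R] S →ₗ[R] S ⧸ P.map (algebraMap R S) :=
    Submodule.liftQ P ((LinearMap.lsmul R (S ⧸ P.map (algebraMap R S))).compl₂ (Ideal.Quotient.mkₐ R (P.map (algebraMap R S))).toLinearMap)
      (fun a ha => LinearMap.ext fun s => by
        show a • Ideal.Quotient.mk (P.map (algebraMap R S)) s = 0
        rw [← Ideal.Quotient.mkₐ_eq_mk R, ← map_smul, Ideal.Quotient.mkₐ_eq_mk, Algebra.smul_def,
          Ideal.Quotient.eq_zero_iff_mem]
        exact Ideal.mul_mem_right _ _ (Ideal.mem_map_of_mem _ ha))
  have h1 := congrArg (TensorProduct.lift f.flip) h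
  rw [map_zero, TensorProduct.lift.tmul] at h1
  rw [← Ideal.Quotient.eq_zero_iff_mem]
  exact (one_smul R (Ideal.Quotient.mk (P.map (algebraMap R S)) y)).symm.trans h1

variable [Module.Flat R S] (p : Ideal R) [p.IsPrime] [(p.map (algebraMap R S)).IsPrime]

theorem comap_eq : (p.map (algebraMap R S)).comap (algebraMap R S) = p := by
  refine le_antisymm (fun t ht => ?_) Ideal.le_comap_map
  by_contra htp
  have hinj : Function.Injective ((LinearMap.lsmul R (R ⧸ p) t).lTensor S) :=
    Module.Flat.lTensor_preserves_injective_linearMap _ ((injective_iff_map_eq_zero _).mpr fun x hx => by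
      have h0 : Ideal.Quotient.mk p t * x = 0 := by
        rw [← hx, LinearMap.lsmul_apply, Algebra.smul_def]; rfl
      exact (mul_eq_zero.mp h0).resolve_left fun h => htp (Ideal.Quotient.eq_zero_iff_mem.mp h))
  have hz : (1 : S) ⊗ₜ[R] Ideal.Quotient.mk p 1 = 0 := hinj (by
    rw [map_zero, LinearMap.lTensor_tmul, LinearMap.lsmul_apply, ← TensorProduct.smul_tmul,
      ← Algebra.algebraMap_eq_smul_one]
    exact tmul_eq_zero_of_mem p _ (fun a ha => by
      rw [Algebra.smul_def, map_one, mul_one]; exact Ideal.Quotient.eq_zero_iff_mem.mpr ha) ht)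
  exact Ideal.IsPrime.ne_top inferInstance ((Ideal.eq_top_iff_one _).mpr (mem_map_of_tmul_eq_zero p hz))

variable {p}

/-- `s ∉ pS` is regular on `S ⊗ κ(p)`. -/
theorem regular_residueField {s : S} (hs : s ∉ p.map (algebraMap R S)) :
    IsSMulRegular (S ⊗[R] p.ResidueField) s := by
  let q := p.map (algebraMap R S)
  let L := FractionRing (S ⧸ q)
  let g : S →ₐ[R] L := (IsScalarTower.toAlgHom R (S ⧸ q) L).comp (Ideal.Quotient.mkₐ R q)
  have hg : ∀ a, g a = 0 ↔ a ∈ q := fun a => by
    show algebraMap (S ⧸ q) L (Ideal.Quotient.mk q a) = 0 ↔ _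
    rw [IsFractionRing.to_map_eq_zero_iff, Ideal.Quotient.eq_zero_iff_mem]
  have hgR : p ≤ RingHom.ker (algebraMap R L) := fun a ha => by
    rw [RingHom.mem_ker, ← AlgHom.commutes g, hg]; exact Ideal.mem_map_of_mem _ ha
  have hgU : p.primeCompl ≤ (IsUnit.submonoid L).comap (algebraMap R L) := fun a ha => by
    refine (IsUnit.mk0 _ fun h => ha ?_)
    rw [← AlgHom.commutes g, hg] at h
    exact (comap_eq (S := S) p).le h
  let κL : p.ResidueField →ₐ[R] L := Ideal.ResidueField.liftₐ p (Algebra.ofId R L) hgR hgU
  let φ : S ⊗[R] p.ResidueField →ₐ[R] L := Algebra.TensorProduct.lift g κL (fun _ _ => Commute.all _ _)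
  have hrep : ∀ z : S ⊗[R] p.ResidueField, ∃ (t : R) (a : S), t ∉ p ∧ t • z = a ⊗ₜ 1 := by
    intro z
    induction z using TensorProduct.induction_on with
    | zero => exact ⟨1, 0, fun h => Ideal.IsPrime.ne_top inferInstance ((Ideal.eq_top_iff_one p).mpr h), by simp⟩
    | tmul a c =>
      obtain ⟨u, v, hv, rfl⟩ := IsFractionRing.div_surjective (R ⧸ p) c
      obtain ⟨u, rfl⟩ := Ideal.Quotient.mk_surjective u
      obtain ⟨v, rfl⟩ := Ideal.Quotient.mk_surjective v
      have hv0 : Ideal.Quotient.mk p v ≠ 0 := nonZeroDivisors.ne_zero hv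
      refine ⟨v, u • a, fun h => hv0 (Ideal.Quotient.eq_zero_iff_mem.mpr h), ?_⟩
      rw [← TensorProduct.tmul_smul, TensorProduct.smul_tmul]
      congr 1
      rw [Algebra.smul_def, Algebra.smul_def, mul_one, IsScalarTower.algebraMap_apply R (R ⧸ p) p.ResidueField v,
        IsScalarTower.algebraMap_apply R (R ⧸ p) p.ResidueField u]
      exact mul_div_cancel₀ _ fun h => hv0 ((IsFractionRing.to_map_eq_zero_iff).mp h)
    | add x y hx hy =>
      obtain ⟨t, a, ht, hxa⟩ := hx
      obtain ⟨t', b, ht', hyb⟩ := hy
      refine ⟨t * t', t' • a + t • b, Ideal.IsPrime.mul_notMem inferInstance ht ht', ?_⟩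
      rw [smul_add, mul_comm, mul_smul, hxa, mul_comm, mul_smul, hyb, TensorProduct.add_tmul,
        TensorProduct.smul_tmul', TensorProduct.smul_tmul']
  have hφ : ∀ z, φ z = 0 → z = 0 := by
    intro z hz
    obtain ⟨t, a, ht, hta⟩ := hrep z
    have h1 := congrArg φ hta
    rw [map_smul, hz, smul_zero, Algebra.TensorProduct.lift_tmul, map_one, mul_one] at h1
    have h0 : t • z = 0 := by
      rw [hta]
      exact tmul_eq_zero_of_mem p _ (fun b hb => by
        rw [Algebra.smul_def, mul_one, Ideal.algebraMap_residueField_eq_zero.mpr hb]) ((hg a).mp h1.symm)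
    have hinj : Function.Bijective ((LinearMap.lsmul R p.ResidueField t).lTensor S) := by
      have hne : algebraMap R p.ResidueField t ≠ 0 := fun h => ht (Ideal.algebraMap_residueField_eq_zero.mp h)
      exact ⟨Module.Flat.lTensor_preserves_injective_linearMap _ fun x y h => mul_left_cancel₀ hne (by
        simpa [Algebra.smul_def] using h), LinearMap.lTensor_surjective _ fun x => ⟨x / algebraMap R _ t, by
          simp only [LinearMap.lsmul_apply, Algebra.smul_def]; field_simp⟩⟩
    refine hinj.1 ?_
    rw [map_zero, show (LinearMap.lsmul R p.ResidueField t).lTensor S z = t • z from ?_, h0]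
    clear hz hta h0 hinj h1
    induction z using TensorProduct.induction_on with
    | zero => simp
    | tmul x y => simp
    | add x y hx hy => simp only [map_add, hx, hy, smul_add]
  refine reg_of fun z hz => hφ z ?_
  have h1 := congrArg φ hz
  rw [map_zero, show s • z = (s ⊗ₜ 1) * z by rw [Algebra.smul_def]; rfl, map_mul,
    Algebra.TensorProduct.lift_tmul, map_one, mul_one] at h1
  exact (mul_eq_zero.mp h1).resolve_left fun h => hs ((hg s).mp h)

/-- `s ∉ pS` is regular on `S ⊗ M` for `M` killed by a power of `p` and without `(R ∖ p)`-torsion. -/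
theorem regular_tensor {s : S} (hs : s ∉ p.map (algebraMap R S)) : ∀ (n : ℕ) (M : Type u) [AddCommGroup M]
    [Module R M], (∀ a ∈ p ^ n, ∀ x : M, a • x = 0) → (∀ t ∉ p, IsSMulRegular M t) →
      IsSMulRegular (S ⊗[R] M) s
  | 0, M, _, _, hM, _ => by
    haveI : Subsingleton M := subsingleton_of_forall_eq 0 fun x => by
      rw [← one_smul R x]; exact hM 1 (by simp) x
    exact fun x y _ => Subsingleton.elim x y
  | 1, M, _, _, hM, htf => by
    let V := LocalizedModule p.primeCompl M
    let ι : M →ₗ[R] V := LocalizedModule.mkLinearMap _ M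
    have hι : Function.Injective ι := (injective_iff_map_eq_zero _).mpr fun x hx => by
      obtain ⟨⟨t, ht⟩, htx⟩ := (IsLocalizedModule.eq_zero_iff p.primeCompl ι).mp hx
      exact (htf t ht).right_eq_zero_of_smul htx
    have hV : Module.IsTorsionBySet (Localization.AtPrime p) V
        (IsLocalRing.maximalIdeal (Localization.AtPrime p) : Set (Localization.AtPrime p)) := by
      intro v ⟨b, hb⟩
      show b • v = 0
      rw [SetLike.mem_coe, ← Localization.AtPrime.map_eq_maximalIdeal] at hb
      induction hb using Submodule.span_induction with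
      | mem b hb =>
        obtain ⟨a, ha, rfl⟩ := hb
        obtain ⟨⟨x, t⟩, rfl⟩ := IsLocalizedModule.mk'_surjective p.primeCompl ι v
        rw [Function.uncurry_apply_pair, algebraMap_smul, ← IsLocalizedModule.mk'_smul,
          hM a (by simpa using ha) x, IsLocalizedModule.mk'_zero]
      | zero => exact zero_smul _ _
      | add u w _ _ hu hw => rw [add_smul, hu, hw, add_zero]
      | smul c u _ hu => rw [smul_eq_mul, mul_smul, hu, smul_zero]
    letI : Module p.ResidueField V := hV.module
    haveI : IsScalarTower R p.ResidueField V := hV.isScalarTower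
    let b := Module.Free.chooseBasis p.ResidueField V
    have hsm : ∀ {X Y : Type u} [AddCommGroup X] [AddCommGroup Y] [Module R X] [Module R Y] (f : X →ₗ[R] Y)
        (z : S ⊗[R] X), f.lTensor S (s • z) = s • f.lTensor S z := fun f z => by
      rw [← LinearMap.baseChange_eq_ltensor, map_smul]
    refine reg_of (A := S) (X := S ⊗[R] M) (r := s) fun z hz => ?_
    refine Module.Flat.lTensor_preserves_injective_linearMap (M := S) ι hι ?_
    rw [map_zero]
    let e : V →ₗ[R] (_ →₀ p.ResidueField) := (b.repr.restrictScalars R).toLinearMap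
    refine Module.Flat.lTensor_preserves_injective_linearMap (M := S) e b.repr.injective ?_
    rw [map_zero]
    refine (TensorProduct.finsuppRight R R S p.ResidueField _).injective ?_
    rw [map_zero]
    refine Finsupp.ext fun i => ?_
    rw [Finsupp.zero_apply]
    have hc : ∀ w : S ⊗[R] V, TensorProduct.finsuppRight R R S p.ResidueField _ (e.lTensor S w) i =
        ((Finsupp.lapply i) ∘ₗ e).lTensor S w := fun w => by
      induction w using TensorProduct.induction_on with
      | zero => simp
      | tmul x y => simp [TensorProduct.finsuppRight_apply_tmul_apply]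
      | add x y hx hy => simp only [map_add, Finsupp.add_apply, hx, hy]
    rw [hc, ← LinearMap.lTensor_comp_apply]
    exact (regular_residueField hs).right_eq_zero_of_smul (by rw [← hsm, hz, map_zero])
  | n + 2, M, _, _, hM, htf => by
    let M₀ : Submodule R M :=
      { carrier := {x | ∀ a ∈ p, a • x = 0}
        add_mem' := fun hx hy a ha => by rw [smul_add, hx a ha, hy a ha, add_zero]
        zero_mem' := fun a _ => smul_zero a
        smul_mem' := fun c x hx a ha => by rw [smul_comm, hx a ha, smul_zero] }
    have h0 := regular_tensor hs 1 M₀ (fun a ha x => Subtype.ext (x.2 a (by simpa using ha)))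
      (fun t ht x y h => Subtype.ext (htf t ht (congrArg Subtype.val h)))
    have h1 := regular_tensor hs (n + 1) (M ⧸ M₀) (fun a ha x => by
        obtain ⟨x, rfl⟩ := Submodule.Quotient.mk_surjective _ x
        rw [← Submodule.Quotient.mk_smul, Submodule.Quotient.mk_eq_zero]
        intro b hb
        rw [smul_smul]
        exact hM _ (by rw [mul_comm, pow_succ]; exact Ideal.mul_mem_mul ha hb) x)
      (fun t ht => reg_of fun x hx => by
        obtain ⟨x, rfl⟩ := Submodule.Quotient.mk_surjective _ x
        rw [← Submodule.Quotient.mk_smul, Submodule.Quotient.mk_eq_zero] at hx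
        rw [Submodule.Quotient.mk_eq_zero]
        exact fun a ha => (htf t ht).right_eq_zero_of_smul (by rw [smul_comm]; exact hx a ha))
    have hex := lTensor_exact S (LinearMap.exact_subtype_mkQ M₀) (Submodule.mkQ_surjective M₀)
    refine reg_of (A := S) (X := S ⊗[R] M) (r := s) fun z hz => ?_
    have hsm : ∀ {X Y : Type u} [AddCommGroup X] [AddCommGroup Y] [Module R X] [Module R Y] (f : X →ₗ[R] Y)
        (z : S ⊗[R] X), f.lTensor S (s • z) = s • f.lTensor S z := fun f z => by
      rw [← LinearMap.baseChange_eq_ltensor, map_smul]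
    obtain ⟨w, rfl⟩ := (hex z).mp (h1.right_eq_zero_of_smul (by rw [← hsm, hz, map_zero]))
    rw [← hsm] at hz
    rw [h0.right_eq_zero_of_smul (Module.Flat.lTensor_preserves_injective_linearMap (M := S) _
      M₀.injective_subtype (hz.trans (map_zero _).symm)), map_zero]

/-- Let `R → S` be flat and `𝔭` a prime of `R` whose extension `𝔮 = 𝔭S` is prime. Then for every `n` the
extension to `S` of the symbolic power `𝔭^{(n)}` (the contraction of `𝔭ⁿR_𝔭`) equals the symbolic
power `𝔮^{(n)}`. -/
theorem result {R S : Type u} [CommRing R] [CommRing S] [Algebra R S] [Module.Flat R S]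
    (p : Ideal R) [p.IsPrime] [(p.map (algebraMap R S)).IsPrime] (n : ℕ) :
    (((p ^ n).map (algebraMap R (Localization.AtPrime p))).comap (algebraMap R (Localization.AtPrime p))).map
        (algebraMap R S) =
      (((p.map (algebraMap R S)) ^ n).map (algebraMap S (Localization.AtPrime (p.map (algebraMap R S))))).comap
        (algebraMap S (Localization.AtPrime (p.map (algebraMap R S)))) := by
  set q := p.map (algebraMap R S) with hq
  set P := ((p ^ n).map (algebraMap R (Localization.AtPrime p))).comap (algebraMap R (Localization.AtPrime p))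
  refine le_antisymm (Ideal.map_le_iff_le_comap.mpr fun x hx => ?_) fun y hy => ?_
  · obtain ⟨t, ht, htx⟩ := (IsLocalization.algebraMap_mem_map_algebraMap_iff p.primeCompl _ _ _).mp hx
    rw [Ideal.mem_comap, Ideal.mem_comap, IsLocalization.algebraMap_mem_map_algebraMap_iff q.primeCompl]
    refine ⟨algebraMap R S t, fun h => ht ((comap_eq (S := S) p).le h), ?_⟩
    rw [← map_mul, ← Ideal.map_pow]
    exact Ideal.mem_map_of_mem _ htx
  · rw [Ideal.mem_comap, IsLocalization.algebraMap_mem_map_algebraMap_iff q.primeCompl] at hy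
    obtain ⟨s, hs, hsy⟩ := hy
    have hP : p ^ n ≤ P := Ideal.le_comap_map
    have hreg := regular_tensor (S := S) hs n (R ⧸ P) (fun a ha x => by
        obtain ⟨x, rfl⟩ := Ideal.Quotient.mk_surjective x
        rw [Algebra.smul_def, ← Ideal.Quotient.mk_algebraMap, ← map_mul, Ideal.Quotient.eq_zero_iff_mem]
        exact P.mul_mem_right _ (hP ha))
      (fun t ht => reg_of fun x hx => by
        obtain ⟨x, rfl⟩ := Ideal.Quotient.mk_surjective x
        rw [Algebra.smul_def, ← Ideal.Quotient.mk_algebraMap, ← map_mul, Ideal.Quotient.eq_zero_iff_mem,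
          Algebra.algebraMap_self_apply, Ideal.mem_comap, map_mul] at hx
        rw [Ideal.Quotient.eq_zero_iff_mem, Ideal.mem_comap]
        exact (Ideal.unit_mul_mem_iff_mem _ (IsLocalization.map_units (Localization.AtPrime p) (⟨t, ht⟩ : p.primeCompl))).mp hx)
    refine mem_map_of_tmul_eq_zero P (hreg.right_eq_zero_of_smul ?_)
    rw [TensorProduct.smul_tmul', smul_eq_mul]
    refine tmul_eq_zero_of_mem P _ (fun a ha => ?_) (Ideal.map_mono hP (by rw [Ideal.map_pow]; exact hsy))
    rw [Algebra.smul_def, map_one, mul_one]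
    exact Ideal.Quotient.eq_zero_iff_mem.mpr ha

end Groth.Agent.S2138
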