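import Groth.Statements.S3416
import Groth.Agent.H06Conn.ReducedFibre
import Groth.Agent.H05EGA4.ConsChart
import Groth.Agent.S1339
import Groth.Agent.H18HTop.SpecLiftDVR

set_option autoImplicit false
open CategoryTheory AlgebraicGeometry
universe u
open EGA43

namespace Groth.Agent.S3416

open Groth.Agent

/-- Let Y be locally Noetherian, f : X ⟶ Y proper and n(z) the geometric number of connected components
of the fibre over z. Let y be a point such that f is universally open at every point of the fibre
over y and that fibre is geometrically reduced over the residue field of y. Then n is constant on a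
neighbourhood of y. -/
theorem result {X Y : Scheme.{u}} [IsLocallyNoetherian Y]
    (f : X ⟶ Y) [IsProper f] (y : Y) (h : ∀ x : X, f.base x = y → EGA43.IsUnivOpenAt f x)
    (hred : GeometricallyReduced (f.fiberToSpecResidueField y)) :
    ∃ V ∈ nhds y, ∀ z ∈ V, MoreMor.nGeomConnComp f z = MoreMor.nGeomConnComp f y := by
  haveI : LocallyOfFinitePresentation f := H18HTop.locallyOfFinitePresentation_of_noetherian f
  obtain ⟨hind, -⟩ := H05EGA4.ConsChart.isLocallyConstructible_iff.mp (S1339.result f (MoreMor.nGeomConnComp f y))
  refine ⟨_, (isOpen_interior.mem_nhds ((H05EGA4.ConsChart.mem_interior_iff hind y).mpr fun y' hy' => ?_)),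
    fun z hz => (interior_subset hz :)⟩
  exact le_antisymm (H06Conn.nGeomConnComp_ge_of_specializes f hy' h hred)
    (H06Conn.nGeomConnComp_le_of_specializes f hy' h)

end Groth.Agent.S3416
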