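import Groth.Statements.S9386
import Groth.Agent.H29Omega.LocalRingFE

set_option autoImplicit false
universe u
open OmegaSh

namespace Groth.Agent.S9386

open AlgebraicGeometry CategoryTheory in
/-- For a cartesian square X' = X ×_S S' with projection g' : X' → X, the canonical map g'^*Ω_{X/S} →
Ω_{X'/S'} is an isomorphism (receptacle form: Ω_{X/S}, Ω_{X'/S'} are any modules carrying universal
derivations and the map is pinned by its values on pulled-back differentials). -/
theorem result {X S X' S' : Scheme.{u}} (f : X ⟶ S) (g : S' ⟶ S) (g' : X' ⟶ X) (f' : X' ⟶ S')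
    (hsq : IsPullback g' f' f g) (Ω : X.Modules) (d : OmegaSh.Der f Ω) (hd : OmegaSh.IsUniversal d)
    (Ω' : X'.Modules) (d' : OmegaSh.Der f' Ω') (hd' : OmegaSh.IsUniversal d')
    (c : (Scheme.Modules.pullback g').obj Ω ⟶ Ω') (hc : OmegaSh.IsDiffCompat g' d d' c) : IsIso c := by
  refine Groth.Agent.H29Omega.isIso_of_bijective_stalkLin c fun x' => ?_
  exact (Groth.Agent.H29Omega.bijective_stalk_diffCompat_iff g g' hsq.w d hd d' hd' c hc x').2
    (Groth.Agent.H29Omega.isBaseChange_map_stalk_of_isPullback f g g' f' hsq x')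

end Groth.Agent.S9386
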