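import Groth.Statements.S10945
import Groth.Agent.H10Coh.FinType
import Groth.Agent.H11Tilde.TwistPow
-- import your own Groth.Agent.* helpers here

set_option autoImplicit false
universe u
open CategoryTheory AlgebraicGeometry Opposite
open Coherent

namespace Groth.Agent.S10945


theorem exists_lift_unit {X : Scheme.{u}} {M N : X.Modules} (g : M ⟶ N)
    (hg : Function.Surjective (g.val.app (op ⊤)).hom) (h : Coh.structureModule X ⟶ N) :
    ∃ h' : Coh.structureModule X ⟶ M, h' ≫ g = h := by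
  obtain ⟨t, ht⟩ := hg (h.app ⊤ (1 : Γ(X, ⊤)))
  refine ⟨Groth.Agent.H11Tilde.homOfGlobal M t, ?_⟩
  refine Scheme.Modules.hom_ext _ _ fun V => ?_
  ext (r : Γ(X, V))
  show g.app V (r • M.presheaf.map (homOfLE (le_top : V ≤ ⊤)).op t) = h.app V r
  rw [Scheme.Modules.Hom.app_smul]
  have h1 : g.app V (M.presheaf.map (homOfLE (le_top : V ≤ ⊤)).op t) =
      N.presheaf.map (homOfLE (le_top : V ≤ ⊤)).op (g.app ⊤ t) :=
    congr($(g.mapPresheaf.naturality (homOfLE (le_top : V ≤ ⊤)).op) t)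
  have h2 : h.app V (X.presheaf.map (homOfLE (le_top : V ≤ ⊤)).op (1 : Γ(X, ⊤))) =
      N.presheaf.map (homOfLE (le_top : V ≤ ⊤)).op (h.app ⊤ (1 : Γ(X, ⊤))) :=
    congr($(h.mapPresheaf.naturality (homOfLE (le_top : V ≤ ⊤)).op) (1 : Γ(X, ⊤)))
  have h3 : g.app ⊤ t = h.app ⊤ (1 : Γ(X, ⊤)) := ht
  rw [h1, h3, ← h2, map_one]
  refine (Scheme.Modules.Hom.app_smul h (show Γ(X, V) from r) (1 : Γ(X, V))).symm.trans ?_
  exact congrArg (h.app V) (mul_one (show Γ(X, V) from r))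



/-- Let X be a scheme and 0 → F' → F → F'' → 0 a short exact sequence of O_X-modules whose map on global
sections Γ(X, F) → Γ(X, F'') is surjective. If F' and F'' are generated by global sections (each is
a quotient of a free O_X-module), then F is generated by global sections. -/
theorem result (X : Scheme.{u})
    (S : ShortComplex X.Modules) (hS : S.ShortExact)
    (hsurj : Function.Surjective (S.g.val.app (op ⊤)).hom)
    (h1 : Curv2.IsGloballyGenerated S.X₁) (h3 : Curv2.IsGloballyGenerated S.X₃) :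
    Curv2.IsGloballyGenerated S.X₂ := by

  obtain ⟨ι₁, p₁, hp₁⟩ := h1
  obtain ⟨ι₃, p₃, hp₃⟩ := h3
  choose q hq using fun j => exists_lift_unit S.g hsurj (Groth.Agent.H10Coh.freeIncl ι₃ j ≫ p₃)
  obtain ⟨a, ha⟩ := Groth.Agent.H10Coh.exists_free_desc (I := ι₁ ⊕ ι₃) (N := S.X₂)
    (Sum.elim (fun i => Groth.Agent.H10Coh.freeIncl ι₁ i ≫ p₁ ≫ S.f) q)
  refine ⟨ι₁ ⊕ ι₃, a, ?_⟩
  have p₁' : ∃ p : Groth.Agent.H10Coh.freeMod X ι₁ ⟶ S.X₁, p = p₁ ∧ Epi p := ⟨p₁, rfl, hp₁⟩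
  have p₃' : ∃ p : Groth.Agent.H10Coh.freeMod X ι₃ ⟶ S.X₃, p = p₃ ∧ Epi p := ⟨p₃, rfl, hp₃⟩
  obtain ⟨P₁, hP₁, hEpi₁⟩ := p₁'
  obtain ⟨P₃, hP₃, hEpi₃⟩ := p₃'
  refine @Preadditive.epi_of_cancel_zero X.Modules _ _ _ _ a fun {R} k hk => ?_
  have hf : S.f ≫ k = 0 := by
    rw [← cancel_epi P₁, Limits.comp_zero]
    refine Groth.Agent.H10Coh.free_hom_ext _ _ fun i => ?_
    erw [Limits.comp_zero]
    rw [← Category.assoc P₁, ← Category.assoc, hP₁]
    exact (congrArg (· ≫ k) (ha (Sum.inl i)).symm).trans (by erw [Category.assoc, hk, Limits.comp_zero])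
  obtain ⟨k', hk'⟩ : ∃ k', S.g ≫ k' = k :=
    haveI := hS.epi_g
    ⟨hS.exact.desc k hf, hS.exact.g_desc k hf⟩
  suffices k' = 0 by rw [← hk', this, Limits.comp_zero]
  rw [← cancel_epi P₃, Limits.comp_zero]
  refine Groth.Agent.H10Coh.free_hom_ext _ _ fun j => ?_
  erw [Limits.comp_zero]
  rw [← Category.assoc, hP₃]
  refine (congrArg (· ≫ k') (hq j).symm).trans ?_
  rw [Category.assoc, hk']
  exact (congrArg (· ≫ k) (ha (Sum.inr j)).symm).trans (by erw [Category.assoc, hk, Limits.comp_zero])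


end Groth.Agent.S10945
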