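import Groth.Statements.S1527
import Mathlib
import Groth.Agent.H22Alg.DegBundle
import Groth.Agent.H11Ample.Global
import Groth.Agent.H25Par.StalkProd

set_option autoImplicit false
universe u
open CategoryTheory CategoryTheory.Limits AlgebraicGeometry
open Variety

namespace Groth.Agent.S1527

/-- On a proper scheme over a field, a coherent module whose support has dimension at most zero is
globally generated (a quotient of a free module). -/
theorem result (k : Type u) [Field k] (X : Scheme.{u}) [X.Over (Spec (CommRingCat.of k))] [IsProper (X ↘ (Spec (CommRingCat.of k)))]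
    (F : X.Modules) (hF : Coh.IsCoh F) (hsupp : topologicalKrullDim (CohB1.support F) ≤ 0) :
    Curv2.IsGloballyGenerated F := by
  haveI := Groth.Agent.H28Int.isNoetherian k (X := X)
  obtain ⟨hfin, hcl⟩ := Groth.Agent.H22Alg.DegBundle.finite_closed_of_dim_zero hF (by simpa using hsupp)
  refine Groth.Agent.H11Ample.isGloballyGenerated_of_locally F (fun g : Γ(F, ⊤) => g) fun W t x hx => ?_
  obtain ⟨g, hg⟩ : ∃ g : Γ(F, ⊤), F.presheaf.germ ⊤ x trivial g = F.presheaf.germ W x hx t := by
    by_cases hs : x ∈ CohB1.support F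
    · classical
      obtain ⟨q, hq⟩ := (Groth.Agent.H25Par.germs_bijective (k := k) F hfin hcl fun y hy => not_not.1 hy).2
        (Function.update 0 ⟨x, hs⟩ (F.presheaf.germ W x hx t))
      have h1 := congrFun hq ⟨x, hs⟩
      rw [Function.update_self] at h1
      exact ⟨_, h1⟩
    · haveI : Subsingleton (F.presheaf.stalk x) := not_not.1 hs
      exact ⟨0, Subsingleton.elim _ _⟩
  obtain ⟨V, hxV, iU, iV, h⟩ := F.presheaf.germ_eq x (U := ⊤) (V := W) trivial hx g t hg
  refine ⟨V, iV.le, hxV, ?_⟩
  rw [show (F.presheaf.map (homOfLE iV.le).op) t = F.presheaf.map (homOfLE (le_top : V ≤ ⊤)).op g from h.symm]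
  exact Submodule.subset_span ⟨g, rfl⟩

end Groth.Agent.S1527
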