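import Mathlib.RingTheory.Flat.FaithfullyFlat.Algebra
import Mathlib.RingTheory.Length
import Mathlib.RingTheory.LocalRing.ResidueField.Defs
import Mathlib.RingTheory.FiniteLength

/-! # Length under flat local base change, with independent universes (after `S2498`) -/

set_option autoImplicit false
open TensorProduct
universe u v

namespace Groth.Agent.H25Len

theorem length_baseChange {A : Type u} {B : Type v} [CommRing A] [CommRing B]
    [IsLocalRing A] [IsLocalRing B] [Algebra A B] [IsLocalHom (algebraMap A B)]
    (M : Type u) [AddCommGroup M] [Module A M]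
    (N : Type v) [AddCommGroup N] [Module B N] [Module A N] [IsScalarTower A B N] [Module.FaithfullyFlat A N]
    (hN : IsFiniteLength B (N ⧸ ((IsLocalRing.maximalIdeal A).map (algebraMap A B) • (⊤ : Submodule B N)))) :
    Module.length B (N ⊗[A] M) =
      Module.length A M * Module.length B (N ⧸ ((IsLocalRing.maximalIdeal A).map (algebraMap A B) • (⊤ : Submodule B N))) := by
  classical
  set m := IsLocalRing.maximalIdeal A with hm
  set P : Submodule B N := m.map (algebraMap A B) • ⊤ with hP
  -- N/(mB)N ≃ N ⊗ A/m, B-linearly
  let π : N →ₗ[B] N ⊗[A] (A ⧸ m) :=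
    { toFun := fun n => n ⊗ₜ[A] (1 : A ⧸ m)
      map_add' := fun a b => add_tmul a b _
      map_smul' := fun c a => (smul_tmul' c a _).symm }
  have hπs : Function.Surjective π := by
    intro t
    induction t using TensorProduct.induction_on with
    | zero => exact ⟨0, map_zero _⟩
    | tmul n a =>
      obtain ⟨a, rfl⟩ := Ideal.Quotient.mk_surjective a
      refine ⟨a • n, ?_⟩
      show (a • n) ⊗ₜ[A] (1 : A ⧸ m) = _
      rw [smul_tmul, ← Ideal.Quotient.algebraMap_eq, Algebra.algebraMap_eq_smul_one]
    | add x y hx hy =>
      obtain ⟨a, rfl⟩ := hx; obtain ⟨b, rfl⟩ := hy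
      exact ⟨a + b, map_add _ _ _⟩
  have hPres : P.restrictScalars A = m • (⊤ : Submodule A N) := by
    rw [hP, Ideal.smul_restrictScalars, Submodule.restrictScalars_top]
  have hπk : LinearMap.ker π = P := by
    ext n
    rw [LinearMap.mem_ker]
    have h1 : π n = 0 ↔ TensorProduct.tensorQuotEquivQuotSMul N m (n ⊗ₜ[A] Ideal.Quotient.mk m 1) = 0 := by
      rw [LinearEquiv.map_eq_zero_iff, map_one]; rfl
    rw [h1, TensorProduct.tensorQuotEquivQuotSMul_tmul_mk, one_smul, Submodule.Quotient.mk_eq_zero,
      ← hPres, Submodule.restrictScalars_mem]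
  have eπ : (N ⧸ P) ≃ₗ[B] N ⊗[A] (A ⧸ m) :=
    (Submodule.quotEquivOfEq _ _ hπk.symm).trans (π.quotKerEquivOfSurjective hπs)
  set ℓ := Module.length B (N ⧸ P) with hℓ
  let F : Submodule A M → Submodule B (N ⊗[A] M) := fun p =>
    LinearMap.range (AlgebraTensorModule.lTensor B N p.subtype)
  have hFmono : Monotone F := by
    intro p q h
    rintro _ ⟨t, rfl⟩
    refine ⟨AlgebraTensorModule.lTensor B N (Submodule.inclusion h) t, ?_⟩
    rw [← LinearMap.comp_apply, ← AlgebraTensorModule.lTensor_comp, Submodule.subtype_comp_inclusion]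
  have hFstrict : StrictMono F := by
    intro p q h
    refine lt_of_le_of_ne (hFmono h.le) fun heq => h.not_ge ?_
    have hz : p.mkQ.comp q.subtype = 0 := by
      rw [Module.FaithfullyFlat.zero_iff_lTensor_zero A N]
      refine LinearMap.ext fun t => ?_
      have ht : AlgebraTensorModule.lTensor B N q.subtype t ∈ F p := heq ▸ ⟨t, rfl⟩
      obtain ⟨s, hs⟩ := ht
      have hs' : LinearMap.lTensor N q.subtype t = LinearMap.lTensor N p.subtype s := hs.symm
      have hzero : p.mkQ.comp p.subtype = 0 := LinearMap.ext fun z => by simp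
      rw [LinearMap.lTensor_comp, LinearMap.comp_apply, hs', ← LinearMap.comp_apply,
        ← LinearMap.lTensor_comp, hzero, LinearMap.lTensor_zero, LinearMap.zero_apply,
        LinearMap.zero_apply]
    intro x hx
    have := LinearMap.congr_fun hz ⟨x, hx⟩
    simpa [Submodule.Quotient.mk_eq_zero] using this
  have hℓ0 : ℓ ≠ 0 := by
    rw [hℓ, Ne, Module.length_eq_zero_iff, Submodule.Quotient.subsingleton_iff]
    intro htop
    apply Module.FaithfullyFlat.submodule_ne_top (R := A) (M := N) (IsLocalRing.maximalIdeal.isMaximal A)
    rw [← hPres, htop, Submodule.restrictScalars_top]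
  by_cases hfin : IsFiniteLength A M
  · obtain ⟨s, hs_bot, hs_top⟩ := isFiniteLength_iff_exists_compositionSeries.mp hfin
    rw [← Module.length_compositionSeries s hs_bot hs_top]
    suffices ∀ k, Module.length B (N ⊗[A] (s k)) = (k : ℕ) * ℓ by
      have h2 := this (Fin.last _)
      rw [Fin.val_last] at h2
      rw [← h2]
      exact (AlgebraTensorModule.congr (LinearEquiv.refl B N)
        ((LinearEquiv.ofEq _ _ hs_top).trans Submodule.topEquiv)).length_eq.symm
    intro k
    induction k using Fin.induction with
    | zero =>
      have h0 : s 0 = ⊥ := hs_bot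
      rw [(AlgebraTensorModule.congr (LinearEquiv.refl B N) (LinearEquiv.ofEq _ _ h0)).length_eq]
      simp
    | succ i hi =>
      have hstep : s i.castSucc ⋖ s i.succ := s.step i
      let f : (s i.castSucc) →ₗ[A] (s i.succ) := Submodule.inclusion hstep.le
      have key : IsSimpleModule A (_ ⧸ LinearMap.range f) := by
        rw [Submodule.range_inclusion, ← covBy_iff_quot_is_simple hstep.le]; exact hstep
      obtain ⟨m', hm', ⟨e⟩⟩ := isSimpleModule_iff_quot_maximal.mp key
      obtain rfl := IsLocalRing.eq_maximalIdeal hm'
      let g := e.toLinearMap.comp (LinearMap.range f).mkQ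
      have hgs : Function.Surjective g := e.surjective.comp (Submodule.mkQ_surjective _)
      have hfg : Function.Exact f g := by
        rw [LinearMap.exact_iff]
        simp [g, f]
      have hinj : Function.Injective (AlgebraTensorModule.lTensor B N f) := by
        have := Module.Flat.lTensor_preserves_injective_linearMap (M := N) f
          (Submodule.inclusion_injective _)
        exact this
      rw [Module.length_eq_add_of_exact (AlgebraTensorModule.lTensor B N f)
        (AlgebraTensorModule.lTensor B N g) hinj (LinearMap.lTensor_surjective N hgs)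
        (lTensor_exact N hfg hgs), hi, ← eπ.length_eq, Fin.val_succ, Fin.val_castSucc,
        Nat.cast_succ, add_one_mul]
  · have hM : Module.length A M = ⊤ := by
      by_contra h; exact hfin (Module.length_ne_top_iff.1 h)
    have hle : Module.length A M ≤ Module.length B (N ⊗[A] M) := by
      rw [← WithBot.coe_le_coe, Module.coe_length, Module.coe_length]
      exact Order.krullDim_le_of_strictMono F hFstrict
    rw [hM, top_le_iff] at hle
    rw [hle, hM, ENat.top_mul hℓ0]


end Groth.Agent.H25Len
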