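import Groth.Statements.S16105
import Groth.Agent.H20Comod.Invariants
import Groth.Agent.H20Comod.LinRed
import Groth.Agent.H24Adic.Basic
import Mathlib.RingTheory.Filtration
import Mathlib.RingTheory.HopkinsLevitzki

set_option autoImplicit false
universe u v w w'
open LunaSt

namespace Groth.Agent.S16105
theorem chevalley_lemma {S : Type u} [CommRing S] [IsNoetherianRing S] (p : Ideal S) [p.IsMaximal]
    [IsAdicComplete p S] {N : Type v} [AddCommGroup N] [Module S N] [Module.Finite S N]
    (F : ℕ → Submodule S N) (hanti : Antitone F) (hpow : ∀ j, p ^ j • ⊤ ≤ F j)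
    (hbot : ∀ x, (∀ j, x ∈ F j) → x = 0) (s : ℕ) : ∃ j, F j ≤ p ^ s • ⊤ := by
  haveI := Groth.Agent.H24Adic.isAdicComplete_of_finite (I := p) (M := N)
  let T : ℕ → ℕ → Submodule S N := fun s j => F j ⊔ p ^ s • ⊤
  have hst : ∀ s, ∃ j, ∀ i, j ≤ i → T s j = T s i := fun s => by
    let Q := N ⧸ (p ^ s • ⊤ : Submodule S N)
    haveI : Ring.KrullDimLE 0 (S ⧸ p ^ s) := Ring.krullDimLE_zero_iff.2 fun q hq => by
      have hm : (q.comap (Ideal.Quotient.mk (p ^ s))) = p :=
        ((inferInstance : p.IsMaximal).eq_of_le (Ideal.IsPrime.ne_top (Ideal.comap_isPrime _ _))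
          ((Ideal.comap_isPrime _ q).le_of_pow_le (n := s) fun a ha => by
            rw [Ideal.mem_comap, Ideal.Quotient.eq_zero_iff_mem.2 ha]; exact q.zero_mem)).symm
      rw [← Ideal.map_comap_of_surjective _ Ideal.Quotient.mk_surjective q, hm]
      exact Ideal.IsMaximal.map_of_surjective_of_ker_le Ideal.Quotient.mk_surjective (by
        rw [Ideal.mk_ker]
        rcases Nat.eq_zero_or_pos s with rfl | hs
        · exfalso
          refine hq.ne_top (Ideal.eq_top_iff_one q |>.2 ?_)
          rw [show (1 : S ⧸ p ^ 0) = 0 from (Ideal.Quotient.eq_zero_iff_mem (a := (1 : S))).2 (by simp)]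
          exact q.zero_mem
        · exact Ideal.pow_le_self hs.ne')
    haveI : IsArtinianRing (S ⧸ p ^ s) := isArtinianRing_iff_krullDimLE_zero.2 inferInstance
    haveI : Module.Finite (S ⧸ p ^ s) Q := Module.Finite.of_restrictScalars_finite S _ _
    haveI : IsArtinian (S ⧸ p ^ s) Q := inferInstance
    haveI : IsArtinian S Q := isArtinian_of_surjective_algebraMap (R := S ⧸ p ^ s) Ideal.Quotient.mk_surjective
    obtain ⟨j, hj⟩ := IsArtinian.monotone_stabilizes (R := S) (M := Q)
      ⟨fun i => OrderDual.toDual ((F i).map (Submodule.mkQ _)), fun a b h => Submodule.map_mono (hanti h)⟩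
    refine ⟨j, fun i hi => ?_⟩
    have := congrArg (fun X => Submodule.comap (Submodule.mkQ (p ^ s • ⊤ : Submodule S N)) (OrderDual.ofDual X)) (hj i hi)
    change ((F j).map (Submodule.mkQ _)).comap _ = ((F i).map (Submodule.mkQ _)).comap _ at this
    simpa [T, Submodule.comap_map_mkQ, sup_comm] using this
  choose J hJ using hst
  refine ⟨J s, fun x hx => ?_⟩
  have hmemT : ∀ {t : ℕ} {y : N}, y ∈ T t (J t) → ∀ i, y ∈ T t i := fun {t y} hy i => by
    rw [hJ t (max i (J t)) (le_max_right _ _)] at hy
    exact sup_le_sup_right (hanti (le_max_left _ _)) _ hy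
  have hstep : ∀ t y, y ∈ T t (J t) → ∃ y', y' ∈ T (t + 1) (J (t + 1)) ∧ y' - y ∈ (p ^ t • ⊤ : Submodule S N) := by
    intro t y hy
    obtain ⟨f, hf, e, he, rfl⟩ := Submodule.mem_sup.1 (hmemT hy (J (t + 1)))
    exact ⟨f, Submodule.mem_sup_left hf, by rw [show f - (f + e) = -e by abel]; exact neg_mem he⟩
  choose g hg hg' using hstep
  have hx0 : x ∈ T s (J s) := Submodule.mem_sup_left hx
  let seq : (t : ℕ) → {y : N // y ∈ T (s + t) (J (s + t))} :=
    fun t => Nat.rec ⟨x, hx0⟩ (fun t y => ⟨g (s + t) y.1 y.2, hg (s + t) y.1 y.2⟩) t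
  have hdiff : ∀ a b, a ≤ b → (seq a).1 - (seq b).1 ∈ (p ^ (s + a) • ⊤ : Submodule S N) := by
    intro a b hab
    induction b, hab using Nat.le_induction with
    | base => simp
    | succ b hab ih =>
      have h1 : (seq (b + 1)).1 - (seq b).1 ∈ (p ^ (s + b) • ⊤ : Submodule S N) := hg' _ _ _
      have h2 := Submodule.sub_mem _ ih (Submodule.smul_mono (Ideal.pow_le_pow_right (by omega : s + a ≤ s + b)) le_rfl h1)
      rwa [sub_sub, add_sub_cancel] at h2
  obtain ⟨L, hL⟩ := IsPrecomplete.prec (inferInstance : IsPrecomplete p N) (f := fun a => (seq a).1)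
    fun {a b} hab => SModEq.sub_mem.2 (Submodule.smul_mono (Ideal.pow_le_pow_right (Nat.le_add_left a s)) le_rfl (hdiff a b hab))
  have hL' : ∀ a, (seq a).1 - L ∈ (p ^ (s + a) • ⊤ : Submodule S N) := fun a => by
    have h2 := Submodule.add_mem _ (hdiff a (s + a) (Nat.le_add_left a s)) (SModEq.sub_mem.1 (hL (s + a)))
    rwa [sub_add_sub_cancel] at h2
  have hL0 : L = 0 := hbot L fun j => by
    have h1 := hmemT (seq j).2 j
    have h3 : L ∈ T (s + j) j := by
      rw [← sub_sub_cancel (seq j).1 L]
      exact Submodule.sub_mem _ h1 (Submodule.mem_sup_right (hL' j))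
    refine (sup_le le_rfl ?_ : T (s + j) j ≤ F j) h3
    exact (Submodule.smul_mono (Ideal.pow_le_pow_right (Nat.le_add_left j s)) le_rfl).trans (hpow j)
  have h0 := hL' 0
  rw [hL0, sub_zero] at h0
  exact h0


/-- The key claim of its proof. Let k be a field and H a commutative Hopf algebra of finite type over k
all of whose finite-dimensional comodules are semisimple (a linearly reductive affine group G = Spec
H). Let A be a Noetherian commutative k-algebra with a coaction of H that is an algebra map (an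
action of G on Spec A), let m be a maximal ideal of A stable under the coaction (for instance the
ideal of a closed point fixed by G), and assume that the ring of invariants A^G is a Noetherian
local ring, complete with respect to its maximal ideal. Let M be a finite A-module with a compatible
H-coaction (a coherent G-module on Spec A). Then (i) an invariant element of M which lies in m^n M
for every n is zero, and (ii) for every sequence of invariants x_0, x_1, … with x_(n+1) − x_n ∈ m^n
M there is an invariant x with x − x_n ∈ m^n M for all n. In other words M^G → lim_n M^G/(m^n M)^G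
is bijective: the m-adic filtration and the filtration by powers of the maximal ideal of A^G induce
the same topology on M^G. (The ring of invariants is assumed Noetherian here; this also follows from
linear reductivity.) -/
theorem result
    (k : Type u) [Field k] (H : Type v) [CommRing H] [HopfAlgebra k H] [Algebra.FiniteType k H]
    (hG : HopfRep.IsLinearlyReductive k H)
    (A : Type w) [CommRing A] [Algebra k A] [IsNoetherianRing A]
    [HopfRep.Comod k H A] [GLin.IsCoactAlg k H A]
    (m : Ideal A) [m.IsMaximal] (hm : HopfRep.IsSubcomod (k := k) (A := H) (m.restrictScalars k))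
    [IsLocalRing ↥(GLin.invariants k H A)] [IsNoetherianRing ↥(GLin.invariants k H A)]
    [IsAdicComplete (IsLocalRing.maximalIdeal ↥(GLin.invariants k H A)) ↥(GLin.invariants k H A)]
    (M : Type w') [AddCommGroup M] [Module k M] [Module A M] [IsScalarTower k A M] [Module.Finite A M]
    [HopfRep.Comod k H M] [TameAct.IsHopfMod k H A M] :
    (∀ x ∈ HopfRep.fixedPts k H M, (∀ n : ℕ, x ∈ (m ^ n • ⊤ : Submodule A M)) → x = 0) ∧
      ∀ x : ℕ → M, (∀ n, x n ∈ HopfRep.fixedPts k H M) →
        (∀ n, x (n + 1) - x n ∈ (m ^ n • ⊤ : Submodule A M)) →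
          ∃ y ∈ HopfRep.fixedPts k H M, ∀ n, y - x n ∈ (m ^ n • ⊤ : Submodule A M) := by
  open Groth.Agent.H20Comod in
  classical
  obtain ⟨α, hα, h1⟩ := exists_isIntegral_of_isLinearlyReductive hG
  let S := GLin.invariants k H A
  set p := IsLocalRing.maximalIdeal S
  have hp : ∀ s : S, s ∈ p ↔ (s : A) ∈ m := by
    intro s
    refine ⟨fun hs => ?_, fun hs hu => ‹m.IsMaximal›.ne_top (Ideal.eq_top_of_isUnit_mem _ hs (hu.map S.val))⟩
    by_contra hsm
    obtain ⟨a, ha⟩ := ‹m.IsMaximal›.exists_inv hsm
    obtain ⟨i, hi, hai⟩ := ha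
    have h2 := congrArg (actL α) hai
    rw [map_add, mul_comm a, actL_mul_of_fixed α s.2, actL_eq_self_of_fixed h1 (one_mem S)] at h2
    have hiu : (⟨actL α i, actL_mem_fixedPts hα h1 i⟩ : S) ∈ p := fun hu =>
      ‹m.IsMaximal›.ne_top (Ideal.eq_top_of_isUnit_mem m (actL_mem_of_isSubcomod hm α hi) (hu.map S.val))
    refine (IsLocalRing.maximalIdeal.isMaximal S).ne_top ((Ideal.eq_top_iff_one p).2 ?_)
    have h3 : (1 : S) = s * ⟨actL α a, actL_mem_fixedPts hα h1 a⟩ + ⟨actL α i, actL_mem_fixedPts hα h1 i⟩ :=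
      Subtype.ext h2.symm
    rw [h3]
    exact add_mem (p.mul_mem_right _ hs) hiu
  let N : Submodule S M :=
    { (HopfRep.fixedPts k H M).toAddSubmonoid with
      smul_mem' := fun s x hx => by
        show HopfRep.Comod.coact (k := k) (A := H) ((s : A) • x) = ((s : A) • x) ⊗ₜ[k] (1 : H)
        rw [coact_smul_of_fixed s.2, show HopfRep.Comod.coact (k := k) (A := H) x = x ⊗ₜ[k] (1 : H) from hx]
        rfl }
  have hNfg : N.FG := by
    obtain ⟨s, hs, hspan⟩ := exists_finset_span_fixedPts (R := A) (M := M) hα h1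
    exact ⟨s, le_antisymm (Submodule.span_le.2 hs) hspan⟩
  haveI : Module.Finite S N := Module.Finite.iff_fg.2 hNfg
  let F : ℕ → Submodule S N := fun j => ((m ^ j • ⊤ : Submodule A M).restrictScalars S).comap N.subtype
  have hzero : ∀ x : N, (∀ j, x ∈ F j) → x = 0 := by
    intro x hx
    obtain ⟨r, hr⟩ := (m.mem_iInf_smul_pow_eq_bot_iff (x : M)).1 ((Submodule.mem_iInf _).2 hx)
    have h2 := congrArg (actL α) hr
    rw [actL_smul_fixed α _ x.2, actL_eq_self_of_fixed h1 x.2] at h2
    set t : S := ⟨actL α (r : A), actL_mem_fixedPts hα h1 _⟩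
    have ht : t ∈ p := (hp t).2 (actL_mem_of_isSubcomod hm α r.2)
    obtain ⟨u, hu⟩ := IsLocalRing.isUnit_one_sub_self_of_mem_nonunits t ht
    have h3 : (1 - t) • x = 0 := Subtype.ext (by
      rw [sub_smul, one_smul, Submodule.coe_sub, Submodule.coe_smul, Submodule.coe_zero]
      show (x : M) - (actL α (r : A)) • (x : M) = 0
      rw [h2, sub_self])
    rw [← hu] at h3
    exact (IsUnit.smul_eq_zero ⟨u, rfl⟩).1 h3
  have hpow : ∀ j, p ^ j • ⊤ ≤ F j := by
    intro j
    refine Submodule.smul_le.2 fun a ha x _ => ?_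
    refine (show (a : A) • (x : M) ∈ (m ^ j • ⊤ : Submodule A M) from Submodule.smul_mem_smul ?_ Submodule.mem_top)
    have hmap : p.map S.val.toRingHom ≤ m := Ideal.map_le_iff_le_comap.2 fun s hs => (hp s).1 hs
    refine Ideal.pow_right_mono hmap j ?_
    rw [← Ideal.map_pow]
    exact Ideal.mem_map_of_mem _ ha
  have hanti : Antitone F := fun a b hab =>
    Submodule.comap_mono fun y hy => Submodule.smul_mono (Ideal.pow_le_pow_right hab) le_rfl hy
  refine ⟨fun x hx hxn => congrArg Subtype.val (hzero ⟨x, hx⟩ hxn), fun x hx hdiff => ?_⟩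
  haveI := Groth.Agent.H24Adic.isAdicComplete_of_finite (I := p) (M := N)
  let x' : ℕ → N := fun n => ⟨x n, hx n⟩
  have hd : ∀ a b, a ≤ b → x' b - x' a ∈ F a := by
    intro a b hab
    induction b, hab using Nat.le_induction with
    | base => simp
    | succ b hab ih =>
      have h1 : x' (b + 1) - x' b ∈ F b := hdiff b
      have := (F a).add_mem (hanti hab h1) ih
      rwa [sub_add_sub_cancel] at this
  choose J hJ using fun s => chevalley_lemma p F hanti hpow hzero s
  let K : ℕ → ℕ := fun s => (Finset.range (s + 1)).sum J + s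
  have hKJ : ∀ s, J s ≤ K s := fun s => le_add_right (Finset.single_le_sum (f := J) (fun _ _ => Nat.zero_le _) (Finset.self_mem_range_succ s))
  have hKmono : Monotone K := fun a b hab => add_le_add (Finset.sum_le_sum_of_subset (Finset.range_mono (by omega))) hab
  obtain ⟨L, hL⟩ := IsPrecomplete.prec (inferInstance : IsPrecomplete p N) (f := fun a => x' (K a))
    fun {a b} hab => (SModEq.sub_mem.2 (hJ a (hanti (hKJ a) (hd _ _ (hKmono hab))))).symm
  refine ⟨L, L.2, fun n => ?_⟩
  have h1 : x' (K n) - L ∈ F n := hpow n (SModEq.sub_mem.1 (hL n))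
  have h2 : x' (K n) - x' n ∈ F n := hd n (K n) (Nat.le_add_left _ _)
  have h3 := (F n).sub_mem h2 h1
  rw [sub_sub_sub_cancel_left] at h3
  exact h3

end Groth.Agent.S16105
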