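-- statement FlatMor.GrothFrozen.S1373 (Groth/Statements/S1373.lean; the theorem FlatMor.universallyOpen_iff_isOpenMap_affineSpace_map);
import Groth.Statements.S1373
import Groth.Agent.H7Flat.UnivOpen

set_option autoImplicit false
universe u
open FlatMor

namespace Groth.Agent.S1373

open AlgebraicGeometry CategoryTheory Limits in
/-- (1) ⇔ (3): a morphism f : X → S is universally open if and only if for every n the induced morphism
from affine n-space over X to affine n-space over S is open. -/
theorem result {X S : Scheme.{u}} (f : X ⟶ S) :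
    UniversallyOpen f ↔ ∀ n : ℕ, IsOpenMap ⇑(AffineSpace.map (ULift.{u} (Fin n)) f) := by
  refine ⟨fun h n => h.universally_isOpenMap _ _ _ (AffineSpace.isPullback_map f), fun h => ?_⟩
  have hemb : ∀ {A B : Scheme.{u}} (g : A ⟶ B) [IsOpenImmersion g] (σ : Type u),
      IsOpenImmersion (AffineSpace.map σ g) := fun {A B} g _ σ =>
    MorphismProperty.of_isPullback (P := @IsOpenImmersion) (AffineSpace.isPullback_map g).flip inferInstance
  wlog hS : ∃ R, S = Spec R generalizing X S
  · rw [IsZariskiLocalAtTarget.iff_of_openCover (P := @UniversallyOpen) S.affineCover]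
    intro j
    refine this (pullback.snd f (S.affineCover.f j)) (fun n U hU => ?_) ⟨_, rfl⟩
    have e : AffineSpace.map (ULift.{u} (Fin n)) (pullback.fst f (S.affineCover.f j)) ≫
        AffineSpace.map _ f = AffineSpace.map _ (pullback.snd f (S.affineCover.f j)) ≫
          AffineSpace.map _ (S.affineCover.f j) := by
      rw [← AffineSpace.map_comp, ← AffineSpace.map_comp, pullback.condition]
    haveI := hemb (pullback.fst f (S.affineCover.f j)) (ULift.{u} (Fin n))
    haveI := hemb (S.affineCover.f j) (ULift.{u} (Fin n))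
    have h1 := h n _ ((AffineSpace.map (ULift.{u} (Fin n)) (pullback.fst f (S.affineCover.f j))).isOpenEmbedding.isOpenMap U hU)
    rw [← Set.image_comp] at h1
    have e' : (⇑(AffineSpace.map (ULift.{u} (Fin n)) f) ∘
        ⇑(AffineSpace.map (ULift.{u} (Fin n)) (pullback.fst f (S.affineCover.f j)))) =
      (⇑(AffineSpace.map (ULift.{u} (Fin n)) (S.affineCover.f j))) ∘
        ⇑(AffineSpace.map (ULift.{u} (Fin n)) (pullback.snd f (S.affineCover.f j))) := by
      rw [← TopCat.coe_comp, ← TopCat.coe_comp, ← Scheme.Hom.comp_base, ← Scheme.Hom.comp_base, e]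
    rw [e', Set.image_comp] at h1
    exact (AffineSpace.map (ULift.{u} (Fin n)) (S.affineCover.f j)).isOpenEmbedding.isOpen_iff_image_isOpen.2 h1
  obtain ⟨R, rfl⟩ := hS
  wlog hX : ∃ C, X = Spec C generalizing X
  · rw [IsZariskiLocalAtSource.iff_of_openCover (P := @UniversallyOpen) X.affineCover]
    intro j
    refine this (X.affineCover.f j ≫ f) (fun n => ?_) ⟨_, rfl⟩
    haveI := hemb (X.affineCover.f j) (ULift.{u} (Fin n))
    have := (h n).comp (AffineSpace.map (ULift.{u} (Fin n)) (X.affineCover.f j)).isOpenEmbedding.isOpenMap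
    rw [AffineSpace.map_comp, Scheme.Hom.comp_base]
    exact this
  obtain ⟨C, rfl⟩ := hX
  obtain ⟨φ, rfl : Spec.map φ = f⟩ := Spec.homEquiv.symm.surjective f
  algebraize [φ.hom]
  have H : ∀ n : ℕ, IsOpenMap (PrimeSpectrum.comap (MvPolynomial.map (σ := ULift.{u} (Fin n)) (algebraMap R C))) := by
    intro n
    have h1 : topologically @IsOpenMap (AffineSpace.map (ULift.{u} (Fin n)) (Spec.map φ)) := h n
    exact ((topologically @IsOpenMap).arrow_mk_iso_iff (AffineSpace.mapSpecMap φ)).1 h1
  have hkey : ∀ (B : CommRingCat.{u}) (ψ : R ⟶ B),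
      topologically @IsOpenMap (pullback.fst (Spec.map ψ) (Spec.map φ)) := by
    intro B ψ
    letI : Algebra R B := ψ.hom.toAlgebra
    have h2 : topologically @IsOpenMap ((pullbackSpecIso R B C).inv ≫
        pullback.fst (Spec.map (CommRingCat.ofHom (algebraMap R B))) (Spec.map (CommRingCat.ofHom (algebraMap R C)))) := by
      rw [pullbackSpecIso_inv_fst']
      exact Groth.Agent.H7Flat.isOpenMap_comap_baseChange H _
    exact (MorphismProperty.cancel_left_of_respectsIso (P := topologically @IsOpenMap)
      (pullbackSpecIso R B C).inv _).1 h2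
  refine ⟨fun T' T i₁ i₂ f' hsq => ?_⟩
  show topologically @IsOpenMap f'
  rw [IsZariskiLocalAtTarget.iff_of_openCover (P := topologically @IsOpenMap) T.affineCover]
  intro j
  have sq : IsPullback (pullback.snd f' (T.affineCover.f j)) (pullback.fst f' (T.affineCover.f j) ≫ i₁)
      (T.affineCover.f j ≫ i₂) (Spec.map φ) :=
    (IsPullback.of_hasPullback f' (T.affineCover.f j)).flip.paste_vert hsq
  obtain ⟨ψ, hψ⟩ := Spec.homEquiv.symm.surjective (T.affineCover.f j ≫ i₂)
  replace hψ : Spec.map ψ = T.affineCover.f j ≫ i₂ := hψ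
  rw [← hψ] at sq
  show topologically @IsOpenMap (pullback.snd f' (T.affineCover.f j))
  rw [← sq.isoPullback_hom_fst]
  exact (MorphismProperty.cancel_left_of_respectsIso (P := topologically @IsOpenMap) _ _).2 (hkey _ ψ)

end Groth.Agent.S1373
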