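import Groth.Statements.S0549
import Groth.Agent.S0548
import Groth.Agent.H4Depth.Regular
import Mathlib.RingTheory.DiscreteValuationRing.Basic
import Mathlib.RingTheory.DiscreteValuationRing.TFAE

set_option autoImplicit false
universe u
open CAlg

namespace Groth.Agent.S0549

theorem dvr_iff (A : Type u) [CommRing A] [IsLocalRing A] [IsNoetherianRing A] :
    (∃ _ : IsDomain A, IsDiscreteValuationRing A) ↔ IsRegularLocalRing A ∧ ringKrullDim A = 1 := by
  constructor
  · rintro ⟨hd, hdvr⟩
    have hdim : ringKrullDim A = 1 := by
      refine le_antisymm ?_ ?_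
      · exact Ring.krullDimLE_iff.mp inferInstance
      · by_contra hlt
        have h0 : Ring.KrullDimLE 0 A := by
          rw [Ring.krullDimLE_iff]
          exact Order.le_of_lt_succ (not_le.mp hlt)
        exact IsDiscreteValuationRing.not_isField A (Ring.KrullDimLE.isField_of_isDomain)
    refine ⟨IsRegularLocalRing.of_spanFinrank_maximalIdeal_le _ ?_, hdim⟩
    obtain ⟨ϖ, hϖ⟩ := IsDiscreteValuationRing.exists_irreducible A
    rw [hdim, hϖ.maximalIdeal_eq]
    exact_mod_cast (Submodule.spanFinrank_span_le_ncard_of_finite (Set.finite_singleton ϖ)).trans_eq (Set.ncard_singleton ϖ)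
  · rintro ⟨hreg, hdim⟩
    haveI := H4Depth.isDomain_of_isRegularLocalRing A
    refine ⟨inferInstance, ?_⟩
    have hnf : ¬ IsField A := fun h => by
      rw [ringKrullDim_eq_zero_of_isField h] at hdim
      exact zero_ne_one hdim
    rw [((IsDiscreteValuationRing.TFAE A hnf).out 0 4 rfl rfl)]
    have h1 : (IsLocalRing.maximalIdeal A).spanFinrank = 1 := by
      have := (isRegularLocalRing_iff A).mp hreg
      rw [hdim] at this
      exact_mod_cast this
    exact ((Submodule.spanFinrank_eq_one_iff _).mp h1).1

/-- A Noetherian local ring is a discrete valuation ring exactly when its completion at the maximal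
ideal is a discrete valuation ring. -/
theorem result (A : Type u) [CommRing A] [IsLocalRing A]
    [IsNoetherianRing A] :
    (∃ _ : IsDomain A, IsDiscreteValuationRing A) ↔
      ∃ _ : IsDomain (AdicCompletion (IsLocalRing.maximalIdeal A) A),
        IsDiscreteValuationRing (AdicCompletion (IsLocalRing.maximalIdeal A) A) := by
  haveI := H05EGA4.isNoetherianRing_adicCompletion A (IsLocalRing.maximalIdeal A)
  rw [dvr_iff, dvr_iff, H05EGA4.ringKrullDim_adicCompletion, S0548.result]

end Groth.Agent.S0549
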