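import Groth.Statements.S2587
import Groth.Agent.H06EGA14.DvrCriterionScheme

set_option autoImplicit false
open CategoryTheory AlgebraicGeometry
universe u
open EGA43

namespace Groth.Agent.S2587

open TopologicalSpace Topology CategoryTheory.Limits
set_option linter.style.haveILetI false

open CategoryTheory.Limits in
/-- Let Y be locally Noetherian, f : X ⟶ Y a morphism locally of finite type, and x ∈ X. The morphism f
is universally open at x exactly when: for every discrete valuation ring A and every morphism g :
Spec A ⟶ Y sending the closed point to f x, every point x' of X ×_Y Spec A lying over x and over the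
closed point of Spec A is a specialization of some point of X ×_Y Spec A lying over the generic
point of Spec A. -/
theorem result {X Y : Scheme.{u}} [IsLocallyNoetherian Y] (f : X ⟶ Y)
    [LocallyOfFiniteType f] (x : X) :
    EGA43.IsUnivOpenAt f x ↔
      ∀ (A : Type u) [CommRing A] [IsDomain A] [IsDiscreteValuationRing A]
        (g : Spec (CommRingCat.of A) ⟶ Y), g.base (IsLocalRing.closedPoint A) = f.base x →
        ∀ x' : ↥(pullback f g), (pullback.fst f g).base x' = x →
          (pullback.snd f g).base x' = IsLocalRing.closedPoint A →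
          ∃ z' : ↥(pullback f g), z' ⤳ x' ∧ (pullback.snd f g).base z' ≠ IsLocalRing.closedPoint A := by
  refine ⟨fun hx A _ _ _ g _ x' hx' hcl => ?_, H06EGA14.isUnivOpenAt_of_dvr f x⟩
  haveI : IsNoetherianRing A := inferInstance
  haveI : IsLocallyNoetherian (pullback f g) :=
    LocallyOfFiniteType.isLocallyNoetherian (pullback.snd f g)
  let E : Set ↥(pullback f g) := {z | (pullback.snd f g).base z ≠ IsLocalRing.closedPoint A}
  have hclsd : IsClosed ({IsLocalRing.closedPoint A} : Set (PrimeSpectrum A)) :=
    (PrimeSpectrum.isClosed_singleton_iff_isMaximal _).mpr (IsLocalRing.maximalIdeal.isMaximal A)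
  have hEo : IsOpen E := hclsd.isOpen_compl.preimage (pullback.snd f g).continuous
  obtain ⟨η, hη⟩ : ∃ η : PrimeSpectrum A, η ≠ IsLocalRing.closedPoint A :=
    ⟨⊥, fun h => IsDiscreteValuationRing.not_isField A
      (IsLocalRing.isField_iff_maximalIdeal_eq.mpr (congrArg PrimeSpectrum.asIdeal h).symm)⟩
  have hcl' : x' ∈ closure E := by
    rw [mem_closure_iff_nhds]
    intro N hN
    have h1 := hx _ g x' hx' N hN
    rw [hcl] at h1
    obtain ⟨O, hO, hOopen, hmO⟩ := mem_nhds_iff.mp h1
    obtain ⟨z, hzN, hz⟩ := hO ((IsLocalRing.specializes_closedPoint η).mem_open hOopen hmO)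
    exact ⟨z, hzN, fun h => hη (hz.symm.trans h)⟩
  obtain ⟨(V : (pullback f g).Opens), (hV : IsAffineOpen V), hxV, -⟩ := Opens.isBasis_iff_nbhd.mp
    (pullback f g).isBasis_affineOpens (show x' ∈ (⊤ : (pullback f g).Opens) from trivial)
  obtain ⟨v, rfl⟩ : x' ∈ Set.range hV.fromSpec := by rw [hV.range_fromSpec]; exact hxV
  haveI : IsNoetherianRing Γ(pullback f g, V) := IsLocallyNoetherian.component_noetherian ⟨V, hV⟩
  haveI : NoetherianSpace (Spec Γ(pullback f g, V)) :=
    inferInstanceAs (NoetherianSpace (PrimeSpectrum Γ(pullback f g, V)))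
  have hv : v ∈ closure (hV.fromSpec ⁻¹' E) :=
    hV.fromSpec.isOpenEmbedding.isOpenMap.preimage_closure_subset_closure_preimage hcl'
  obtain ⟨w, hw, hwv⟩ := H8Props.FieldDim.exists_specializes_of_mem_closure
    (hEo.preimage hV.fromSpec.continuous) hv
  exact ⟨hV.fromSpec w, hwv.map hV.fromSpec.continuous, hw⟩

end Groth.Agent.S2587
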