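import Groth.Statements.S5165
import Groth.Agent.H4LC.RegularPDBound

set_option autoImplicit false
universe u
open CategoryTheory
open LocCoh

namespace Groth.Agent.S5165

/-- Suppose A is a regular Noetherian ring and consider a finitely generated A-module M. Then some
natural number d bounds the projective dimension of M (equivalently, p ↦ proj.dim M_p stays bounded
as p ranges over Spec A, and this holds even if the Krull dimension of A is infinite). -/
theorem result (A : Type u) [CommRing A] [IsRegularRing A] (M : Type u) [AddCommGroup M] [Module A M] [Module.Finite A M] : ∃ d : ℕ, HasProjectiveDimensionLE (ModuleCat.of A M) d := by
  exact Groth.Agent.H4LC.exists_projectiveDimension_bound M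

end Groth.Agent.S5165
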