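import Groth.Statements.S5789
import Groth.Agent.H05EGA4.Dim

set_option autoImplicit false
universe u
open CategoryTheory
open EGA41

open CategoryTheory Abelian Groth.Agent.H05EGA4

namespace Groth.Agent.S5789

/-- Let A be a Noetherian ring, M a finitely generated A-module and n ≥ 0. Then M has projective
dimension at most n if and only if Ext^(n+1)_A(M, N) = 0 for every monogenous A-module N, i.e. every
N = A/I with I an ideal. -/
theorem result (A : Type u) [CommRing A] [IsNoetherianRing A]
    (M : Type u) [AddCommGroup M] [Module A M] [Module.Finite A M] (n : ℕ) :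
    HasProjectiveDimensionLT (ModuleCat.of A M) (n + 1) ↔
      ∀ I : Ideal A, Subsingleton (Abelian.Ext (ModuleCat.of A M) (ModuleCat.of A (A ⧸ I)) (n + 1)) := by
  exact ⟨fun h I => subsingleton_of_forall_eq 0 fun x => x.eq_zero_of_hasProjectiveDimensionLT (n + 1) le_rfl,
    hasProjectiveDimensionLT_of_ext_quotient n M⟩


end Groth.Agent.S5789
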