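import Groth.Statements.S17754
import Groth.Agent.S5165
import Groth.Agent.S5789
import Mathlib.RingTheory.PicardGroup

set_option autoImplicit false
universe u
open CAlg

namespace Groth.Agent.S17754

/-- Let R be a complete Noetherian local ring with maximal ideal m, and let I_0 ⊇ I_1 ⊇ I_2 ⊇ ⋯ be a
descending sequence of ideals of R whose intersection is zero. Then for every natural number n there
is an index s with I_s contained in m^n; that is, the filtration by the I_s is at least as fine as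
the m-adic one. -/
theorem result (R : Type u) [CommRing R] [IsNoetherianRing R] [IsLocalRing R] [IsAdicComplete (IsLocalRing.maximalIdeal R) R] (I : ℕ → Ideal R) (hI : Antitone I) (hinf : ⨅ s, I s = ⊥) (n : ℕ) : ∃ s : ℕ, I s ≤ IsLocalRing.maximalIdeal R ^ n := by
  classical
  set 𝔪 := IsLocalRing.maximalIdeal R with h𝔪
  by_contra hcon
  push Not at hcon
  have hstab : ∀ m : ℕ, ∃ s₀, ∀ s, s₀ ≤ s → I s ⊔ 𝔪 ^ m = I s₀ ⊔ 𝔪 ^ m := by
    intro m
    haveI : IsArtinianRing (R ⧸ 𝔪 ^ (m + 1)) := IsLocalRing.quotient_artinian_of_mem_minimalPrimes_of_isLocalRing _ (by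
      rw [← Ideal.radical_minimalPrimes, Ideal.radical_pow _ m.succ_ne_zero, (IsLocalRing.maximalIdeal.isMaximal R).isPrime.radical,
        Ideal.minimalPrimes_eq_subsingleton_self]
      rfl)
    obtain ⟨s₀, hs₀⟩ := IsArtinian.monotone_stabilizes
      (⟨fun s => OrderDual.toDual ((I s).map (Ideal.Quotient.mk (𝔪 ^ (m + 1)))),
        fun a b hab => Ideal.map_mono (hI hab)⟩ : ℕ →o (Ideal (R ⧸ 𝔪 ^ (m + 1)))ᵒᵈ)
    refine ⟨s₀, fun s hs => ?_⟩
    have h0 : (I s₀).map (Ideal.Quotient.mk (𝔪 ^ (m + 1))) = (I s).map (Ideal.Quotient.mk (𝔪 ^ (m + 1))) := hs₀ s hs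
    have h1 := congrArg (Ideal.comap (Ideal.Quotient.mk (𝔪 ^ (m + 1)))) h0
    simp only [Ideal.comap_map_of_surjective _ Ideal.Quotient.mk_surjective, ← RingHom.ker_eq_comap_bot,
      Ideal.mk_ker] at h1
    have := congrArg (· ⊔ 𝔪 ^ m) h1
    simpa [sup_assoc, sup_of_le_right (Ideal.pow_le_pow_right (I := 𝔪) m.le_succ)] using this.symm
  choose S hS using hstab
  let J : ℕ → Ideal R := fun m => I (S m) ⊔ 𝔪 ^ m
  have hJle : ∀ m s, J m ≤ I s ⊔ 𝔪 ^ m := fun m s => by
    show I (S m) ⊔ 𝔪 ^ m ≤ _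
    rw [← hS m _ (le_max_left (S m) s)]
    exact sup_le_sup_right (hI (le_max_right _ _)) _
  have hJsucc : ∀ m, J m ≤ J (m + 1) ⊔ 𝔪 ^ m := fun m => by
    refine (hJle m (S (m + 1))).trans ?_
    exact sup_le (le_sup_of_le_left le_sup_left) le_sup_right
  have hx0 : ∃ x ∈ J n, x ∉ 𝔪 ^ n :=
    Set.not_subset.mp fun h => hcon (S n) (fun y hy => h (Ideal.mem_sup_left hy))
  obtain ⟨x₀, hx₀, hx₀n⟩ := hx0
  have hstep : ∀ k (x : R), x ∈ J (n + k) → ∃ y ∈ J (n + k + 1), y - x ∈ 𝔪 ^ (n + k) := by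
    intro k x hx
    obtain ⟨y, hy, z, hz, rfl⟩ := Submodule.mem_sup.mp (hJsucc _ hx)
    exact ⟨y, hy, by simpa using hz⟩
  choose! y hy hyd using hstep
  let x : ℕ → R := fun k => Nat.rec x₀ (fun k xk => y k xk) k
  have hx : ∀ k, x k ∈ J (n + k) := fun k => by
    induction k with
    | zero => exact hx₀
    | succ k ih => exact hy k _ ih
  have hcauchy : ∀ {a b : ℕ}, a ≤ b → x b - x a ∈ 𝔪 ^ (n + a) := by
    intro a b hab
    obtain ⟨t, rfl⟩ := Nat.exists_eq_add_of_le hab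
    induction t with
    | zero => simp
    | succ t ih =>
      rw [← sub_add_sub_cancel (x (a + (t + 1))) (x (a + t))]
      exact Ideal.add_mem _ (Ideal.pow_le_pow_right (by omega) (hyd (a + t) _ (hx _))) (ih (Nat.le_add_right _ _))
  obtain ⟨L, hL⟩ := IsPrecomplete.prec (I := 𝔪) (M := R) inferInstance (f := x) fun {a b} hab =>
    SModEq.symm (SModEq.sub_mem.mpr (by
      rw [smul_eq_mul, Ideal.mul_top]; exact Ideal.pow_le_pow_right (Nat.le_add_left a n) (hcauchy hab)))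
  have hL' : ∀ m, x m - L ∈ 𝔪 ^ m := fun m => by
    have := SModEq.sub_mem.mp (hL m); rwa [smul_eq_mul, Ideal.mul_top] at this
  have hLn : ∀ k, x k - L ∈ 𝔪 ^ (n + k) := fun k => by
    rw [← sub_add_sub_cancel (x k) (x (n + k))]
    exact Ideal.add_mem _ (by rw [← neg_sub]; exact neg_mem (hcauchy (Nat.le_add_left k n))) (hL' _)
  have hL0 : L = 0 := by
    have hmem : L ∈ ⨅ s, I s := Submodule.mem_iInf _ |>.mpr fun s => by
      have h2 : Ideal.Quotient.mk (I s) L ∈ (⨅ m : ℕ, 𝔪 ^ m • ⊤ : Submodule R (R ⧸ I s)) := by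
        refine Submodule.mem_iInf _ |>.mpr fun m => ?_
        have h1 : L ∈ I s ⊔ 𝔪 ^ (n + m) := by
          rw [← sub_sub_cancel (x m) L]
          exact sub_mem (hJle _ s (hx m)) (Ideal.mem_sup_right (hLn m))
        obtain ⟨a, ha, b, hb, hab⟩ := Submodule.mem_sup.mp h1
        rw [← hab, map_add, Ideal.Quotient.eq_zero_iff_mem.mpr ha, zero_add,
          show Ideal.Quotient.mk (I s) b = b • (1 : R ⧸ I s) from (Algebra.algebraMap_eq_smul_one b)]
        exact Submodule.smul_mem_smul (Ideal.pow_le_pow_right (Nat.le_add_left m n) hb) trivial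
      rw [Ideal.iInf_pow_smul_eq_bot_of_le_jacobson 𝔪 (IsLocalRing.maximalIdeal_le_jacobson ⊥), Submodule.mem_bot] at h2
      exact Ideal.Quotient.eq_zero_iff_mem.mp h2
    rwa [hinf, Submodule.mem_bot] at hmem
  exact hx₀n (by simpa [x, hL0] using hLn 0)

end Groth.Agent.S17754
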