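import Groth.Statements.S3450
import Groth.Agent.S17754
import Groth.Agent.H06Jacobson.Rings
import Groth.Agent.H05EGA4.CompleteNormalization

set_option autoImplicit false
universe u
open EGA43

open Groth.Agent

namespace Groth.Agent.S3450

open IsLocalRing

/-- A finite local map to a DVR with kernel a given one-dimensional prime. -/
theorem exists_dvr (A : Type u) [CommRing A] [IsNoetherianRing A] [IsLocalRing A]
    [IsAdicComplete (maximalIdeal A) A] (P : Ideal A) [P.IsPrime] (hP : ringKrullDim (A ⧸ P) = 1) :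
    ∃ (V : Type u) (_ : CommRing V) (_ : IsDomain V) (_ : IsDiscreteValuationRing V) (φ : A →+* V),
      IsLocalHom φ ∧ φ.Finite ∧ RingHom.ker φ = P := by
  let B := A ⧸ P
  let K := FractionRing B
  let V := integralClosure B K
  haveI : Module.Finite B V :=
    (H05EGA4.isNagata_of_isAdicComplete A).2 P K (Module.Finite.self _)
  haveI : IsScalarTower A B V := IsScalarTower.of_algebraMap_eq fun _ => rfl
  haveI : Module.Finite A B := Module.Finite.of_surjective (Ideal.Quotient.mkₐ A P).toLinearMap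
    Ideal.Quotient.mk_surjective
  haveI : Module.Finite A V := Module.Finite.trans B V
  haveI : IsNoetherianRing V := IsNoetherianRing.of_finite A V
  obtain ⟨_, -⟩ := H05EGA4.isAdicComplete_of_finite_domain (A := A) (A' := V)
  haveI : Ring.KrullDimLE 1 B := Ring.krullDimLE_iff.mpr (by rw [hP]; rfl)
  haveI : Ring.DimensionLEOne B := ⟨fun {q} hq0 hq => (Ring.krullDimLE_one_iff_of_isPrime_bot.mp ‹_› q hq0 hq)⟩
  haveI : Ring.DimensionLEOne V := Ring.DimensionLEOne.integralClosure B K
  haveI : IsIntegrallyClosed V := integralClosure.isIntegrallyClosedOfFiniteExtension K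
  haveI : IsDedekindDomain V := {}
  have hBV : Function.Injective (algebraMap B V) := fun a b h => IsFractionRing.injective B K (congrArg Subtype.val h)
  have hnf : ¬ IsField V := fun hF => by
    have : IsField B := (Algebra.IsIntegral.isField_iff_isField hBV).mpr hF
    rw [ringKrullDim_eq_zero_of_isField this] at hP
    exact absurd hP (by decide)
  refine ⟨V, inferInstance, inferInstance, ((IsDiscreteValuationRing.TFAE V hnf).out 2 0).mp ‹IsDedekindDomain V›,
    algebraMap A V, ?_, RingHom.finite_algebraMap.mpr inferInstance, ?_⟩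
  · exact ((local_hom_TFAE _).out 0 2).mpr H05EGA4.map_le_maximalIdeal_of_finite
  · ext a
    rw [RingHom.mem_ker, IsScalarTower.algebraMap_apply A B V, ← (algebraMap B V).map_zero, hBV.eq_iff]
    exact Ideal.Quotient.eq_zero_iff_mem

/-- One-dimensional primes are dense in a reduced local ring which is not a field. -/
theorem exists_prime (A : Type u) [CommRing A] [IsNoetherianRing A] [IsLocalRing A] [IsReduced A]
    (hA : ¬ IsField A) {f : A} (hf : f ≠ 0) :
    ∃ P : Ideal A, ∃ _ : P.IsPrime, ringKrullDim (A ⧸ P) = 1 ∧ f ∉ P := by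
  obtain ⟨hJ, hcl⟩ := H06Jacobson.punctured A
  have hne : ∃ q : PrimeSpectrum A, q ≠ closedPoint A ∧ f ∉ q.asIdeal := by
    by_contra! h
    have hnil : ∀ g ∈ maximalIdeal A, f * g = 0 := fun g hg => by
      have : f * g ∈ nilradical A := by
        rw [nilradical_eq_sInf]
        refine Ideal.mem_sInf.mpr fun {J} hJ' => ?_
        by_cases he : (⟨J, hJ'⟩ : PrimeSpectrum A) = closedPoint A
        · exact Ideal.mul_mem_left _ _ (by rw [show J = maximalIdeal A from congrArg PrimeSpectrum.asIdeal he]; exact hg)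
        · exact Ideal.mul_mem_right _ _ (h _ he)
      rwa [nilradical_eq_zero, Ideal.zero_eq_bot, Ideal.mem_bot] at this
    by_cases hu : IsUnit f
    · have hm : maximalIdeal A = ⊥ := eq_bot_iff.mpr fun g hg => Ideal.mem_bot.mpr (hu.mul_right_eq_zero.mp (hnil g hg))
      exact hA (IsLocalRing.isField_iff_maximalIdeal_eq.mpr hm)
    · exact hf (IsNilpotent.eq_zero ⟨2, by rw [pow_two]; exact hnil f hu⟩)
  obtain ⟨q, hq1, hq2⟩ := hne
  obtain ⟨⟨P, hPX⟩, hPf, hP⟩ := nonempty_inter_closedPoints
    (Z := (Subtype.val ⁻¹' (PrimeSpectrum.basicOpen f : Set (PrimeSpectrum A)) :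
      Set ({closedPoint A}ᶜ : Set (PrimeSpectrum A)))) ⟨⟨q, hq1⟩, hq2⟩
    ((PrimeSpectrum.basicOpen f).2.preimage continuous_subtype_val).isLocallyClosed
  exact ⟨P.asIdeal, P.2, (hcl ⟨P, hPX⟩).mp hP, hPf⟩

/-- Let A be a Noetherian local ring which is reduced, complete (for the topology defined by its maximal
ideal m) and not a field. Then for every n there are finitely many local homomorphisms φ_i : A → V_i
into discrete valuation rings, each making V_i a finite A-algebra, such that the intersection of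
their kernels is contained in mⁿ. (Equivalently: such finite intersections form a base of
neighbourhoods of 0 for the m-adic topology.) -/
theorem result (A : Type u) [CommRing A] [IsNoetherianRing A]
    [IsLocalRing A] [IsReduced A] [IsAdicComplete (IsLocalRing.maximalIdeal A) A] (hA : ¬ IsField A) (n : ℕ) :
    ∃ (k : ℕ) (V : Fin k → Type u) (_ : ∀ i, CommRing (V i)) (_ : ∀ i, IsDomain (V i))
      (_ : ∀ i, IsDiscreteValuationRing (V i)) (φ : ∀ i, A →+* V i),
      (∀ i, IsLocalHom (φ i) ∧ (φ i).Finite) ∧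
        ⨅ i, RingHom.ker (φ i) ≤ IsLocalRing.maximalIdeal A ^ n := by
  classical
  let 𝔪 := IsLocalRing.maximalIdeal A
  let Q := {P : Ideal A // ∃ _ : P.IsPrime, ringKrullDim (A ⧸ P) = 1}
  let F : Finset Q → Ideal A := fun s => s.inf fun P => P.1
  have hmin : ∀ N : ℕ, ∃ s : Finset Q, ∀ t : Finset Q, F s ⊔ 𝔪 ^ N ≤ F t ⊔ 𝔪 ^ N := by
    intro N
    haveI : IsArtinianRing (A ⧸ 𝔪 ^ N) := by
      rcases N with _ | N
      · haveI : Subsingleton (A ⧸ 𝔪 ^ 0) := Ideal.Quotient.subsingleton_iff.mpr (by simp)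
        infer_instance
      · haveI : Nontrivial (A ⧸ 𝔪 ^ (N + 1)) := Ideal.Quotient.nontrivial_iff.mpr
          fun h => (IsLocalRing.maximalIdeal.isMaximal A).ne_top (top_le_iff.mp (h ▸ Ideal.pow_le_self N.succ_ne_zero))
        haveI : IsLocalRing (A ⧸ 𝔪 ^ (N + 1)) := IsLocalRing.of_surjective' _ Ideal.Quotient.mk_surjective
        refine (isArtinianRing_iff_isNilpotent_maximalIdeal _).mpr ⟨N + 1, ?_⟩
        rw [← IsLocalRing.map_maximalIdeal_of_surjective _ Ideal.Quotient.mk_surjective, ← Ideal.map_pow, Ideal.map_quotient_self]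
        rfl
    obtain ⟨J, ⟨s, rfl⟩, hJ⟩ := IsArtinian.set_has_minimal
      (Set.range fun s : Finset Q => (F s ⊔ 𝔪 ^ N).map (Ideal.Quotient.mk (𝔪 ^ N))) (Set.range_nonempty _)
    refine ⟨s, fun t => ?_⟩
    have h1 : F (s ∪ t) ⊔ 𝔪 ^ N ≤ F t ⊔ 𝔪 ^ N := sup_le_sup_right (Finset.inf_mono Finset.subset_union_right) _
    refine le_trans ?_ h1
    have h2 : (F (s ∪ t) ⊔ 𝔪 ^ N).map (Ideal.Quotient.mk (𝔪 ^ N)) = (F s ⊔ 𝔪 ^ N).map (Ideal.Quotient.mk (𝔪 ^ N)) :=
      eq_of_le_of_not_lt (Ideal.map_mono (sup_le_sup_right (Finset.inf_mono Finset.subset_union_left) _))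
        (hJ _ ⟨s ∪ t, rfl⟩)
    have h3 := congrArg (Ideal.comap (Ideal.Quotient.mk (𝔪 ^ N))) h2
    rw [Ideal.comap_map_of_surjective _ Ideal.Quotient.mk_surjective,
      Ideal.comap_map_of_surjective _ Ideal.Quotient.mk_surjective, ← RingHom.ker_eq_comap_bot, Ideal.mk_ker,
      sup_assoc, sup_idem, sup_assoc, sup_idem] at h3
    exact h3.ge
  choose S hS using hmin
  let T : ℕ → Finset Q := fun N => (Finset.range (N + 1)).biUnion S
  obtain ⟨N, hN⟩ := S17754.result A (fun N => F (T N))
    (fun a b hab => Finset.inf_mono (Finset.biUnion_subset_biUnion_of_subset_left _ (Finset.range_mono (by omega)))) (by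
      refine eq_bot_iff.mpr fun x hx => ?_
      rw [Ideal.mem_iInf] at hx
      by_contra hx0
      rw [Ideal.mem_bot] at hx0
      obtain ⟨P, hP, hdim, hPx⟩ := exists_prime A hA hx0
      refine hPx ?_
      rw [← Ideal.Quotient.eq_zero_iff_mem, ← Ideal.mem_bot,
        ← Ideal.iInf_pow_eq_bot_of_isLocalRing (I := 𝔪.map (Ideal.Quotient.mk P)) (fun h => by
          have h2 := congrArg (Ideal.comap (Ideal.Quotient.mk P)) h
          rw [Ideal.comap_map_of_surjective _ Ideal.Quotient.mk_surjective, ← RingHom.ker_eq_comap_bot, Ideal.mk_ker,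
            Ideal.comap_top, sup_eq_left.mpr (IsLocalRing.le_maximalIdeal hP.ne_top)] at h2
          exact (IsLocalRing.maximalIdeal.isMaximal A).ne_top h2), Ideal.mem_iInf]
      intro N
      have h1 : x ∈ F {⟨P, hP, hdim⟩} ⊔ 𝔪 ^ N := hS N _ (Ideal.mem_sup_left
        (SetLike.le_def.mp (Finset.inf_mono (Finset.subset_biUnion_of_mem S (Finset.self_mem_range_succ N))) (hx N)))
      have h2 := Ideal.mem_map_of_mem (Ideal.Quotient.mk P) h1
      rw [Ideal.map_sup, Ideal.map_pow, show F {⟨P, hP, hdim⟩} = P from Finset.inf_singleton,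
        Ideal.map_quotient_self, bot_sup_eq] at h2
      exact h2) n
  let s := T N
  let e := s.equivFin.symm
  have hex : ∀ i, ∃ (V : Type u) (_ : CommRing V) (_ : IsDomain V) (_ : IsDiscreteValuationRing V) (φ : A →+* V),
      IsLocalHom φ ∧ φ.Finite ∧ RingHom.ker φ = (e i).1.1 := fun i => by
    haveI := (e i).1.2.1
    exact exists_dvr A _ (e i).1.2.2
  choose V hR hD hV φ hφ1 hφ2 hφ3 using hex
  refine ⟨s.card, V, hR, hD, hV, φ, fun i => ⟨hφ1 i, hφ2 i⟩, le_trans ?_ hN⟩
  refine Finset.le_inf fun P hP => ?_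
  refine iInf_le_of_le (s.equivFin ⟨P, hP⟩) ?_
  rw [hφ3]
  simp [e]

end Groth.Agent.S3450
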