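import Groth.Statements.S4781
import Groth.Agent.H8Props.FibreCorollaries
import Groth.Agent.H8Props.Reduced
import Groth.Agent.H17.Image

set_option autoImplicit false
universe u
open CategoryTheory AlgebraicGeometry
open Cons9

namespace Groth.Agent.S4781

/-- Let S be a Noetherian irreducible scheme with generic point η, let X be an irreducible scheme and f
: X ⟶ S a dominant morphism of finite type. Then there is an open neighbourhood U of η in S such
that, for every s ∈ U, all irreducible components of the fibre f⁻¹(s) have dimension equal to dim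
f⁻¹(η). Fibres are taken as subspaces of X and dimensions are topological Krull dimensions. -/
theorem result {X S : Scheme.{u}} (f : X ⟶ S)
    [IsNoetherian S] [IrreducibleSpace S] [IrreducibleSpace X] [IsDominant f]
    [LocallyOfFiniteType f] [QuasiCompact f] :
    ∃ U : S.Opens, genericPoint S ∈ U ∧ ∀ s ∈ U, ∀ T ∈ irreducibleComponents ↥(⇑f ⁻¹' {s}),
      topologicalKrullDim ↥T = topologicalKrullDim ↥(⇑f ⁻¹' {genericPoint S}) := by
  haveI := Groth.Agent.H8Props.isReduced_nilradical_subscheme X
  haveI := Groth.Agent.H8Props.isReduced_nilradical_subscheme S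
  let i := S.nilradical.subschemeι
  let j := X.nilradical.subschemeι
  have hi : Function.Surjective i := fun y => by
    have : y ∈ Set.range i := by
      rw [Scheme.IdealSheafData.range_subschemeι, Scheme.support_nilradical]; trivial
    exact this
  have hj : Function.Surjective j := fun y => by
    have : y ∈ Set.range j := by
      rw [Scheme.IdealSheafData.range_subschemeι, Scheme.support_nilradical]; trivial
    exact this
  obtain ⟨g, hg⟩ := Groth.Agent.H17.exists_lift_of_range_subset (j ≫ f) i (by rw [hi.range_eq]; exact Set.subset_univ _)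
  let ej := j.isEmbedding.toHomeomorphOfSurjective hj
  let ei := i.isEmbedding.toHomeomorphOfSurjective hi
  haveI : IrreducibleSpace X.nilradical.subscheme := ej.irreducibleSpace_iff.mpr ‹_›
  haveI : IrreducibleSpace S.nilradical.subscheme := ei.irreducibleSpace_iff.mpr ‹_›
  haveI : IsIntegral X.nilradical.subscheme := isIntegral_of_irreducibleSpace_of_isReduced _
  haveI : IsIntegral S.nilradical.subscheme := isIntegral_of_irreducibleSpace_of_isReduced _
  have hgi : ∀ z, f (j z) = i (g z) := fun z => by
    rw [← Scheme.Hom.comp_apply, ← hg, Scheme.Hom.comp_apply]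
  haveI : IsDominant g := ⟨by
    have h1 : DenseRange (ei.symm ∘ f) := ei.symm.surjective.denseRange.comp f.denseRange ei.symm.continuous
    refine h1.mono ?_
    rintro _ ⟨x, rfl⟩
    obtain ⟨z, rfl⟩ := hj x
    exact ⟨z, (ei.symm_apply_eq.mpr (hgi z)).symm⟩⟩
  haveI : LocallyOfFiniteType (g ≫ i) := hg ▸ inferInstance
  haveI : LocallyOfFiniteType g := locallyOfFiniteType_of_comp g i
  haveI : QuasiCompact (g ≫ i) := hg ▸ inferInstance
  haveI : QuasiCompact g := QuasiCompact.of_comp g i
  obtain ⟨U, hU, hdim⟩ := Groth.Agent.H8Props.FieldDim.exists_nhd_components_dim g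
  have hη : i (genericPoint S.nilradical.subscheme) = genericPoint S := by
    have h1 := (genericPoint_spec S.nilradical.subscheme).image i.continuous
    rw [Set.image_univ, hi.range_eq, closure_univ] at h1
    exact h1.eq (genericPoint_spec S)
  refine ⟨⟨ei '' (U : Set S.nilradical.subscheme), ei.isOpenMap _ U.2⟩, ⟨_, hU, hη⟩, ?_⟩
  rintro _ ⟨s, hs, rfl⟩
  show ∀ T ∈ irreducibleComponents ↥(⇑f ⁻¹' {i s}), _
  have hfib : ∀ s, ∃ φ : ↥(⇑g ⁻¹' {s}) ≃ₜ ↥(⇑f ⁻¹' {i s}), True := fun s => by
    refine ⟨(j.isEmbedding.comp Topology.IsEmbedding.subtypeVal).toHomeomorph.trans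
      (Homeomorph.setCongr ?_), trivial⟩
    ext x
    constructor
    · rintro ⟨⟨z, hz⟩, rfl⟩
      show f (j z) = i s
      rw [hgi, show g z = s from hz]
    · intro hx
      obtain ⟨z, rfl⟩ := hj x
      refine ⟨⟨z, i.isEmbedding.injective ?_⟩, rfl⟩
      rw [← hgi]; exact hx
  obtain ⟨φ, -⟩ := hfib s
  obtain ⟨φ₀, -⟩ := hfib (genericPoint S.nilradical.subscheme)
  intro T hT
  have hdim0 : topologicalKrullDim ↥(⇑f ⁻¹' {genericPoint S}) =
      topologicalKrullDim (g.fiber (genericPoint S.nilradical.subscheme)) := by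
    rw [← hη, ← IsHomeomorph.topologicalKrullDim_eq _ φ₀.isHomeomorph,
      IsHomeomorph.topologicalKrullDim_eq _ (g.fiberHomeo _).isHomeomorph]
  rw [hdim0]
  have h2 := (Groth.Agent.H8Props.FieldDim.components_dim_fiber_iff g s _).mp (hdim s hs) _
    (preimage_mem_irreducibleComponents hT φ.isOpenEmbedding
      (by rw [φ.surjective.range_eq, Set.inter_univ]; exact hT.1.nonempty))
  rwa [Groth.Agent.H8Props.FieldDim.dim_preimage φ.isEmbedding, φ.surjective.range_eq, Set.inter_univ] at h2

end Groth.Agent.S4781
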