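import Groth.Statements.S3426
import Groth.Agent.H06EGA9.UnramifiedLocus

set_option autoImplicit false
open CategoryTheory AlgebraicGeometry
universe u
open EGA43

namespace Groth.Agent.S3426

open Topology Set Groth.Agent.H06EGA9

open CategoryTheory.Limits in
/-- Let g : Y ⟶ S and f : X ⟶ Y be such that X and Y are of finite presentation over S (locally of
finite presentation, quasi-compact and quasi-separated). For each point s of S let f_s be the
induced morphism from the fibre of f ≫ g over s to the fibre of g over s. Then the set of s for
which f_s is a monomorphism is locally constructible in S. -/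
theorem result {X Y S : Scheme.{u}} (f : X ⟶ Y) (g : Y ⟶ S)
    [LocallyOfFinitePresentation g] [QuasiCompact g] [QuasiSeparated g]
    [LocallyOfFinitePresentation (f ≫ g)] [QuasiCompact (f ≫ g)] [QuasiSeparated (f ≫ g)] :
    Topology.IsLocallyConstructible {s : S |
      Mono (pullback.lift (pullback.fst (f ≫ g) (S.fromSpecResidueField s) ≫ f) (pullback.snd (f ≫ g) (S.fromSpecResidueField s))
          ((Category.assoc _ _ _).trans pullback.condition) :
        pullback (f ≫ g) (S.fromSpecResidueField s) ⟶ pullback g (S.fromSpecResidueField s))} := by
  haveI : LocallyOfFinitePresentation f := H7Lim.locallyOfFinitePresentation_of_comp f g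
  haveI : QuasiCompact f := QuasiCompact.of_comp f g
  haveI : QuasiSeparated f := QuasiSeparated.of_comp f g
  haveI : LocallyOfFinitePresentation (pullback.diagonal f) := Groth.Agent.S4599.result f
  have hlft : ∀ s : S, LocallyOfFiniteType (fibMap f g s) := fun s =>
    MorphismProperty.of_isPullback (isPullback_fibMap f g s) inferInstance
  simp only [mono_iff, universallyInjective_fibMap_iff, formallyUnramified_fibMap_iff, Set.setOf_and]
  refine IsLocallyConstructible.inter
    (isLocallyConstructible_setOf_fibre_subset (pullback.fst f f ≫ f ≫ g) ?_)
    (isLocallyConstructible_setOf_fibre_subset (f ≫ g) (isLocallyConstructible_unramSet f))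
  rw [← Set.image_univ]
  exact (pullback.diagonal f).isLocallyConstructible_image .univ

end Groth.Agent.S3426
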