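import Groth.Statements.S9612
import Mathlib.RingTheory.PrincipalIdealDomain
import Mathlib.Tactic.Linarith
import Mathlib.Algebra.EuclideanDomain.Int

set_option autoImplicit false
universe u
open CAlg

namespace Groth.Agent.S9612

/-- A finite type ℤ-algebra is a Jacobson ring. -/
theorem result {S : Type u} [CommRing S] [Algebra.FiniteType ℤ S] :
    IsJacobsonRing S := by
  have hZ : IsJacobsonRing ℤ := by
    rw [isJacobsonRing_iff_prime_eq]
    intro P hP
    by_cases h0 : P = ⊥
    · subst h0
      refine le_antisymm ?_ Ideal.le_jacobson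
      intro x hx
      rw [Ideal.mem_bot]
      obtain ⟨z, hz⟩ := Ideal.mem_jacobson_iff.mp hx x
      rw [Ideal.mem_bot] at hz
      have h1 : IsUnit (x * x + 1) := IsUnit.of_mul_eq_one z (by linarith)
      rcases Int.isUnit_iff.mp h1 with h | h <;> nlinarith
    · exact Ideal.jacobson_eq_self_of_isMaximal (H := IsPrime.to_maximal_ideal h0)
  exact isJacobsonRing_of_finiteType (A := ℤ)

end Groth.Agent.S9612
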