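import Groth.Statements.S4492
import Mathlib


set_option autoImplicit false
set_option backward.isDefEq.respectTransparency false
universe u
open FlatCx

namespace Groth.Agent.S4492

open CategoryTheory CategoryTheory.Limits in
/-- (The published statement is for arbitrary abelian categories; this row is for functors between
module categories.) Let F be an additive functor from A-modules to B-modules which is half exact
(every short exact sequence 0 → E' → E → E'' → 0 goes to a sequence F(E') → F(E) → F(E'') exact at
the middle) and such that F(S) has finite length for every simple A-module S. Then F(E) has finite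
length for every A-module E of finite length; and for every short exact sequence 0 → E' → E → E'' →
0 of A-modules with E of finite length one has length F(E) ≤ length F(E') + length F(E''), with
equality if and only if 0 → F(E') → F(E) → F(E'') → 0 is (short) exact. Lengths are Mathlib's,
valued in ℕ∞. -/
theorem result {A B : Type u} [Ring A] [Ring B]
    (F : ModuleCat.{u} A ⥤ ModuleCat.{u} B) [F.Additive]
    (hF : ∀ S : ShortComplex (ModuleCat.{u} A), S.ShortExact → (S.map F).Exact)
    (hS : ∀ M : ModuleCat.{u} A, IsSimpleModule A M → Module.length B (F.obj M) ≠ ⊤) :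
    (∀ E : ModuleCat.{u} A, Module.length A E ≠ ⊤ → Module.length B (F.obj E) ≠ ⊤) ∧
      ∀ S : ShortComplex (ModuleCat.{u} A), S.ShortExact → Module.length A S.X₂ ≠ ⊤ →
        Module.length B (F.obj S.X₂) ≤ Module.length B (F.obj S.X₁) + Module.length B (F.obj S.X₃) ∧
          (Module.length B (F.obj S.X₂) = Module.length B (F.obj S.X₁) + Module.length B (F.obj S.X₃) ↔
            (S.map F).ShortExact) := by
  classical
  -- half exactness gives subadditivity, with equality iff short exact
  have sub : ∀ S : ShortComplex (ModuleCat.{u} A), S.ShortExact →
      Module.length B (F.obj S.X₂) ≤ Module.length B (F.obj S.X₁) + Module.length B (F.obj S.X₃) ∧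
      (Module.length B (F.obj S.X₁) ≠ ⊤ → Module.length B (F.obj S.X₃) ≠ ⊤ →
        (Module.length B (F.obj S.X₂) = Module.length B (F.obj S.X₁) + Module.length B (F.obj S.X₃) ↔
          (S.map F).ShortExact)) := by
    intro S hS
    have hex := (ShortComplex.ShortExact.moduleCat_exact_iff_function_exact _).mp (hF S hS)
    let f : F.obj S.X₁ →ₗ[B] F.obj S.X₂ := (F.map S.f).hom
    let g : F.obj S.X₂ →ₗ[B] F.obj S.X₃ := (F.map S.g).hom
    have h2 : Module.length B (F.obj S.X₂) = Module.length B (LinearMap.range f) + Module.length B (LinearMap.range g) := by
      refine Module.length_eq_add_of_exact (LinearMap.range f).subtype g.rangeRestrict (Submodule.subtype_injective _)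
        g.surjective_rangeRestrict ?_
      rw [LinearMap.exact_iff, Submodule.range_subtype, LinearMap.ker_rangeRestrict]
      exact LinearMap.exact_iff.mp hex
    have hf : Module.length B (F.obj S.X₁) = Module.length B (LinearMap.ker f) + Module.length B (LinearMap.range f) := by
      refine Module.length_eq_add_of_exact (LinearMap.ker f).subtype f.rangeRestrict (Submodule.subtype_injective _)
        f.surjective_rangeRestrict ?_
      rw [LinearMap.exact_iff, Submodule.range_subtype, LinearMap.ker_rangeRestrict]
    have hg : Module.length B (F.obj S.X₃) = Module.length B (LinearMap.range g) + Module.length B ((F.obj S.X₃) ⧸ LinearMap.range g) :=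
      Module.length_eq_add_of_exact (LinearMap.range g).subtype (LinearMap.range g).mkQ (Submodule.subtype_injective _)
        (Submodule.mkQ_surjective _) (LinearMap.exact_subtype_mkQ _)
    refine ⟨?_, fun h1 h3 => ?_⟩
    · rw [h2, hf, hg]
      exact add_le_add le_add_self le_self_add
    · rw [h2]
      rw [hf] at h1 ⊢
      rw [hg] at h3 ⊢
      have hf' : Function.Injective f ↔ Module.length B (LinearMap.ker f) = 0 := by
        rw [Module.length_eq_zero_iff, Submodule.subsingleton_iff_eq_bot, LinearMap.ker_eq_bot]
      have hg' : Function.Surjective g ↔ Module.length B ((F.obj S.X₃) ⧸ LinearMap.range g) = 0 := by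
        rw [Module.length_eq_zero_iff, Submodule.Quotient.subsingleton_iff, LinearMap.range_eq_top]
      generalize Module.length B (LinearMap.ker f) = a at hf' h1
      generalize Module.length B (LinearMap.range f) = b at h1
      generalize Module.length B (LinearMap.range g) = c at h3
      generalize Module.length B ((F.obj S.X₃) ⧸ LinearMap.range g) = d at hg' h3
      simp only [ne_eq, ENat.add_eq_top, not_or] at h1 h3
      lift a to ℕ using h1.1
      lift b to ℕ using h1.2
      lift c to ℕ using h3.1
      lift d to ℕ using h3.2
      constructor
      · intro he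
        have he' : b + c = a + b + (c + d) := by exact_mod_cast he
        exact { exact := hF S hS
                mono_f := (ModuleCat.mono_iff_injective _).mpr (hf'.mpr (by exact_mod_cast (by omega : a = 0)))
                epi_g := (ModuleCat.epi_iff_surjective _).mpr (hg'.mpr (by exact_mod_cast (by omega : d = 0))) }
      · intro hse
        have ha : a = 0 := by exact_mod_cast hf'.mp hse.moduleCat_injective_f
        have hd : d = 0 := by exact_mod_cast hg'.mp hse.moduleCat_surjective_g
        subst ha hd
        simp
  have fin : ∀ E : ModuleCat.{u} A, Module.length A E ≠ ⊤ → Module.length B (F.obj E) ≠ ⊤ := by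
    intro E hE
    suffices h : ∀ (M : Type u) [AddCommGroup M] [Module A M], IsFiniteLength A M →
        Module.length B (F.obj (ModuleCat.of A M)) ≠ ⊤ from h E (Module.length_ne_top_iff.mp hE)
    intro M _ _ hM
    induction hM with
    | of_subsingleton =>
      rename_i M _ _ _
      haveI : Subsingleton ↥(F.obj (ModuleCat.of A M)) :=
        ModuleCat.subsingleton_of_isZero (F.map_isZero (ModuleCat.isZero_of_subsingleton _))
      rw [Module.length_eq_zero]
      exact ENat.zero_ne_top
    | of_simple_quotient hN ih =>
      rename_i M _ _ N _
      refine ne_top_of_le_ne_top ?_ (sub (ShortComplex.mk (ModuleCat.ofHom N.subtype) (ModuleCat.ofHom N.mkQ)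
        (ModuleCat.hom_ext (LinearMap.ext fun x => (Submodule.Quotient.mk_eq_zero N).mpr x.2)))
        { exact := (ShortComplex.ShortExact.moduleCat_exact_iff_function_exact _).mpr (LinearMap.exact_subtype_mkQ N)
          mono_f := (ModuleCat.mono_iff_injective _).mpr N.subtype_injective
          epi_g := (ModuleCat.epi_iff_surjective _).mpr N.mkQ_surjective }).1
      rw [ne_eq, ENat.add_eq_top, not_or]
      exact ⟨ih, hS (ModuleCat.of A (M ⧸ N)) ‹_›⟩
  refine ⟨fin, fun S hS' hlen => ?_⟩
  refine ⟨(sub S hS').1, (sub S hS').2 (fin _ (ne_top_of_le_ne_top hlen ?_)) (fin _ (ne_top_of_le_ne_top hlen ?_))⟩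
  · exact Module.length_le_of_injective S.f.hom hS'.moduleCat_injective_f
  · exact Module.length_le_of_surjective S.g.hom hS'.moduleCat_surjective_g

end Groth.Agent.S4492
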