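import Groth.Statements.S4878


set_option autoImplicit false
universe u
open TensorProduct
open EGA43

namespace Groth.Agent.S4878

/-- Let A be a commutative ring, (u_i : M → M_i) a family of A-linear maps whose kernels have zero
intersection, and N a projective A-module. Then the kernels of the maps u_i ⊗ 1 : M ⊗_A N → M_i ⊗_A
N have zero intersection. -/
theorem result {A : Type u} [CommRing A]
    {M : Type u} [AddCommGroup M] [Module A M] {ι : Type u} (M' : ι → Type u)
    [∀ i, AddCommGroup (M' i)] [∀ i, Module A (M' i)] (u : ∀ i, M →ₗ[A] M' i)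
    (hu : ⨅ i, LinearMap.ker (u i) = ⊥)
    (N : Type u) [AddCommGroup N] [Module A N] [Module.Projective A N] :
    ⨅ i, LinearMap.ker ((u i).rTensor N) = ⊥ := by
  rw [eq_bot_iff]
  intro x hx
  obtain ⟨s, hs⟩ := Module.projective_def.mp (inferInstance : Module.Projective A N)
  have hinj : Function.Injective (s.lTensor M) := fun a b hab => by
    have h1 : ∀ c, (Finsupp.linearCombination A _root_.id).lTensor M (s.lTensor M c) = c := by
      intro c
      rw [← LinearMap.lTensor_comp_apply,
        show Finsupp.linearCombination A _root_.id ∘ₗ s = LinearMap.id from LinearMap.ext hs]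
      simp
    rw [← h1 a, ← h1 b, hab]
  simp only [Submodule.mem_iInf, LinearMap.mem_ker] at hx
  let π : (n : N) → M ⊗[A] N →ₗ[A] M := fun n =>
    (TensorProduct.rid A M).toLinearMap ∘ₗ ((Finsupp.lapply n).comp s).lTensor M
  have hcomm : ∀ (i : ι) (n : N) (z : M ⊗[A] N), u i (π n z) =
      (TensorProduct.rid A (M' i)).toLinearMap
        (((Finsupp.lapply n).comp s).lTensor (M' i) ((u i).rTensor N z)) := by
    intro i n z
    induction z using TensorProduct.induction_on with
    | zero => simp
    | tmul a b => simp [π]
    | add a b ha hb => simp [map_add, ha, hb]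
  have h0 : ∀ n, π n x = 0 := fun n => by
    have : π n x ∈ ⨅ i, LinearMap.ker (u i) := by
      simp only [Submodule.mem_iInf, LinearMap.mem_ker]
      intro i
      rw [hcomm, hx i]
      simp
    rwa [hu] at this
  rw [Submodule.mem_bot]
  apply hinj
  rw [map_zero]
  classical
  apply (TensorProduct.finsuppScalarRight A A M N).injective
  rw [map_zero]
  ext n
  have h1 : ∀ z : M ⊗[A] N, TensorProduct.finsuppScalarRight A A M N (s.lTensor M z) n = π n z := by
    intro z
    induction z using TensorProduct.induction_on with
    | zero => simp
    | tmul a b => simp [π, TensorProduct.finsuppScalarRight_apply_tmul_apply]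
    | add a b ha hb => simp [map_add, ha, hb]
  simp [h1, h0]

end Groth.Agent.S4878
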