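import Groth.Statements.S6073
import Groth.Agent.H06GenSub.Commutator
import Groth.Agent.H19Grp.Neutral
-- import your own Groth.Agent.* helpers here

set_option autoImplicit false
universe u
open CategoryTheory CategoryTheory.Limits MonoidalCategory CartesianMonoidalCategory MonObj GrpObj AlgebraicGeometry
open SGA3

namespace Groth.Agent.S6073

open Groth.Agent Groth.Agent.H06GenSub Groth.Agent.H06GenSub.Commutator
open Groth.Agent.H06GenSub.Borel (pt₀)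
open scoped commutatorElement

set_option backward.isDefEq.respectTransparency false

variable {k : Type u} [Field k]

local notation "pt" => 𝟙_ (Over (Spec (CommRingCat.of k)))

/-- The rational points of a subgroup scheme. -/
noncomputable def pts {A G : Over (Spec (CommRingCat.of k))} [GrpObj A] [GrpObj G] (a : A ⟶ G) [IsMonHom a] :
    Subgroup (pt ⟶ G) where
  carrier := Set.range fun x : pt ⟶ A => x ≫ a
  one_mem' := ⟨1, MonObj.one_comp a⟩
  mul_mem' := by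
    rintro _ _ ⟨x, rfl⟩ ⟨y, rfl⟩
    exact ⟨x * y, MonObj.mul_comp _ _ _⟩
  inv_mem' := by
    rintro _ ⟨x, rfl⟩
    exact ⟨x⁻¹, GrpObj.inv_comp _ _⟩

theorem exists_conj {A G : Over (Spec (CommRingCat.of k))} [GrpObj A] [GrpObj G] (a : A ⟶ G) [IsMonHom a]
    [IsClosedImmersion a.left] (hN : AlgGrp.IsNormalHom a) (g : pt ⟶ G) :
    ∃ φ : A ⟶ A, (1 : pt ⟶ A) ≫ φ = 1 ∧ ∀ w : pt ⟶ A, g * (w ≫ a) * g⁻¹ = (w ≫ φ) ≫ a := by
  haveI : Mono a := Over.mono_of_mono_left _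
  obtain ⟨φ, hφ⟩ := hN A (toUnit A ≫ g) (𝟙 A)
  have h : ∀ w : pt ⟶ A, g * (w ≫ a) * g⁻¹ = (w ≫ φ) ≫ a := fun w => by
    have h1 := congrArg (fun t => w ≫ t) hφ
    simp only [MonObj.comp_mul, GrpObj.comp_inv, Category.id_comp, ← Category.assoc,
      Subsingleton.elim (w ≫ toUnit A) (𝟙 pt)] at h1
    exact h1
  refine ⟨φ, ?_, h⟩
  rw [← cancel_mono a, ← h, MonObj.one_comp, _root_.mul_one, mul_inv_cancel]

theorem normal_closure {M : Type*} [Group M] (C : Set M) (hC : ∀ g, ∀ c ∈ C, g * c * g⁻¹ ∈ C) :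
    (Subgroup.closure C).Normal := by
  refine ⟨fun c hc g => ?_⟩
  induction hc using Subgroup.closure_induction with
  | mem x hx => exact Subgroup.subset_closure (hC g x hx)
  | one => simp
  | mul x y _ _ hx hy =>
    rw [show g * (x * y) * g⁻¹ = (g * x * g⁻¹) * (g * y * g⁻¹) by group]
    exact mul_mem hx hy
  | inv x _ hx =>
    rw [show g * x⁻¹ * g⁻¹ = (g * x * g⁻¹)⁻¹ by group]
    exact inv_mem hx

variable [IsAlgClosed k] {G A B : Over (Spec (CommRingCat.of k))} [GrpObj G] [GrpObj A] [GrpObj B]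
  [LocallyOfFiniteType G.hom] [LocallyOfFiniteType A.hom] [LocallyOfFiniteType B.hom]
  [QuasiCompact A.hom] [QuasiCompact B.hom] [GeometricallyReduced A.hom] [GeometricallyReduced B.hom]
  (a : A ⟶ G) [IsMonHom a] [IsClosedImmersion a.left] (b : B ⟶ G) [IsMonHom b] [IsClosedImmersion b.left]

/-- The commutators of two normal subgroup schemes of finite type have bounded width. -/
theorem exists_bound_normal (hA : AlgGrp.IsNormalHom a) (hB : AlgGrp.IsNormalHom b) :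
    ∃ N : ℕ, (⋃ n, lenSet (cmap a b) n) ⊆ closure (lenSet (cmap a b) N) := by
  haveI : LocallyOfFiniteType (A ⊗ B).hom :=
    inferInstanceAs (LocallyOfFiniteType (pullback.fst A.hom B.hom ≫ A.hom))
  obtain ⟨XA, ja, NA, _, clA, _, _, _, _, ⟨x₁, hx₁⟩, hclA, hcharA⟩ := exists_component A
  obtain ⟨XB, jb, NB, _, clB, _, _, _, _, ⟨y₁, hy₁⟩, hclB, hcharB⟩ := exists_component B
  let C := cmap a b
  let C₁ := cmap (ja ≫ a) b
  let C₂ := cmap a (jb ≫ b)
  obtain ⟨N₁, hN₁⟩ := exists_bound_points (ja ≫ a) b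
    (Or.inl ⟨inferInstance, x₁, by rw [← Category.assoc, hx₁, MonObj.one_comp]⟩)
  obtain ⟨N₂, hN₂⟩ := exists_bound_points a (jb ≫ b)
    (Or.inr ⟨inferInstance, y₁, by rw [← Category.assoc, hy₁, MonObj.one_comp]⟩)
  have hle₁ : ∀ n, lenSet C₁ n ⊆ lenSet C n := fun n => by
    have e : C₁ = (ja ⊗ₘ 𝟙 B) ≫ C := by rw [comp_cmap, Category.id_comp]
    rw [e]; exact lenSet_comp _ _ n
  have hle₂ : ∀ n, lenSet C₂ n ⊆ lenSet C n := fun n => by
    have e : C₂ = (𝟙 A ⊗ₘ jb) ≫ C := by rw [comp_cmap, Category.id_comp]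
    rw [e]; exact lenSet_comp _ _ n
  let P := pts a
  let Q := pts b
  haveI hPn : P.Normal := ⟨by
    rintro _ ⟨x, rfl⟩ g
    obtain ⟨φ, -, hφ⟩ := exists_conj a hA g
    exact ⟨x ≫ φ, (hφ x).symm⟩⟩
  haveI hQn : Q.Normal := ⟨by
    rintro _ ⟨x, rfl⟩ g
    obtain ⟨φ, -, hφ⟩ := exists_conj b hB g
    exact ⟨x ≫ φ, (hφ x).symm⟩⟩
  let H₁ : Subgroup (pt ⟶ G) := Subgroup.closure (Set.range fun z : pt ⟶ XA ⊗ B => z ≫ C₁)
  let H₂ : Subgroup (pt ⟶ G) := Subgroup.closure (Set.range fun z : pt ⟶ A ⊗ XB => z ≫ C₂)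
  haveI hH₁ : H₁.Normal := normal_closure _ (by
    rintro g _ ⟨z, rfl⟩
    obtain ⟨φ, hφ1, hφ⟩ := exists_conj a hA g
    obtain ⟨ψ, -, hψ⟩ := exists_conj b hB g
    obtain ⟨z', hz'⟩ := hcharA φ hφ1 (z ≫ fst XA B)
    refine ⟨lift z' (z ≫ snd XA B ≫ ψ), ?_⟩
    show lift z' _ ≫ C₁ = g * (z ≫ C₁) * g⁻¹
    have e : z ≫ C₁ = ⁅((z ≫ fst XA B) ≫ ja) ≫ a, (z ≫ snd XA B) ≫ b⁆ := by
      simp only [C₁, cmap, commutatorElement_def, MonObj.comp_mul, GrpObj.comp_inv, Category.assoc]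
    rw [lift_cmap, e, conjugate_commutatorElement, hφ, hψ, ← Category.assoc z', hz']
    simp only [Category.assoc])
  haveI hH₂ : H₂.Normal := normal_closure _ (by
    rintro g _ ⟨z, rfl⟩
    obtain ⟨φ, -, hφ⟩ := exists_conj a hA g
    obtain ⟨ψ, hψ1, hψ⟩ := exists_conj b hB g
    obtain ⟨z', hz'⟩ := hcharB ψ hψ1 (z ≫ snd A XB)
    refine ⟨lift (z ≫ fst A XB ≫ φ) z', ?_⟩
    show lift _ z' ≫ C₂ = g * (z ≫ C₂) * g⁻¹
    have e : z ≫ C₂ = ⁅(z ≫ fst A XB) ≫ a, ((z ≫ snd A XB) ≫ jb) ≫ b⁆ := by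
      simp only [C₂, cmap, commutatorElement_def, MonObj.comp_mul, GrpObj.comp_inv, Category.assoc]
    rw [lift_cmap, e, conjugate_commutatorElement, hφ, hψ, ← Category.assoc z', hz']
    simp only [Category.assoc])
  let K := H₁ ⊔ H₂
  haveI : K.Normal := Subgroup.sup_normal H₁ H₂
  let π := QuotientGroup.mk' K
  haveI : (P.map π).Normal := Subgroup.Normal.map inferInstance π (QuotientGroup.mk'_surjective K)
  haveI : (Q.map π).Normal := Subgroup.Normal.map inferInstance π (QuotientGroup.mk'_surjective K)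
  have hK₁ : ∀ (z : pt ⟶ XA) (y : pt ⟶ B), π ⁅(z ≫ ja) ≫ a, y ≫ b⁆ = 1 := fun z y =>
    (QuotientGroup.eq_one_iff _).mpr (Subgroup.mem_sup_left (Subgroup.subset_closure
      ⟨lift z y, by show lift z y ≫ C₁ = _; rw [lift_cmap, Category.assoc]⟩))
  have hK₂ : ∀ (x : pt ⟶ A) (z : pt ⟶ XB), π ⁅x ≫ a, (z ≫ jb) ≫ b⁆ = 1 := fun x z =>
    (QuotientGroup.eq_one_iff _).mpr (Subgroup.mem_sup_right (Subgroup.subset_closure
      ⟨lift x z, by show lift x z ≫ C₂ = _; rw [lift_cmap, Category.assoc]⟩))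
  let F : (pt ⟶ A) × (pt ⟶ B) → (pt ⟶ G) ⧸ K := fun t => π ⁅t.1 ≫ a, t.2 ≫ b⁆
  let cl : (pt ⟶ A) × (pt ⟶ B) → NA × NB := fun t => (clA t.1, clB t.2)
  have hF : ∀ t t', cl t = cl t' → F t = F t' := by
    rintro ⟨x, y⟩ ⟨x', y'⟩ h
    obtain ⟨h1, h2⟩ := Prod.mk.injEq .. |>.mp h
    obtain ⟨z, hz⟩ := hclA x x' h1
    obtain ⟨w, hw⟩ := hclB y y' h2
    have ex : x' = x * (z ≫ ja) := by rw [hz, mul_inv_cancel_left]
    have ey : y' = y * (w ≫ jb) := by rw [hw, mul_inv_cancel_left]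
    show π ⁅x ≫ a, y ≫ b⁆ = π ⁅x' ≫ a, y' ≫ b⁆
    have e1 : π ⁅x' ≫ a, y' ≫ b⁆ = π ⁅x ≫ a, y' ≫ b⁆ := by
      rw [ex, MonObj.mul_comp,
        show ⁅(x ≫ a) * ((z ≫ ja) ≫ a), y' ≫ b⁆ =
          (x ≫ a) * ⁅(z ≫ ja) ≫ a, y' ≫ b⁆ * (x ≫ a)⁻¹ * ⁅x ≫ a, y' ≫ b⁆ by
          simp only [commutatorElement_def]; group,
        map_mul, map_mul, map_mul, hK₁, _root_.mul_one, map_inv, mul_inv_cancel, _root_.one_mul]
    have e2 : π ⁅x ≫ a, y' ≫ b⁆ = π ⁅x ≫ a, y ≫ b⁆ := by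
      rw [ey, MonObj.mul_comp,
        show ⁅x ≫ a, (y ≫ b) * ((w ≫ jb) ≫ b)⁆ =
          ⁅x ≫ a, y ≫ b⁆ * ((y ≫ b) * ⁅x ≫ a, (w ≫ jb) ≫ b⁆ * (y ≫ b)⁻¹) by
          simp only [commutatorElement_def]; group,
        map_mul, map_mul, map_mul, hK₂, _root_.mul_one, map_inv, mul_inv_cancel, _root_.mul_one]
    rw [e1, e2]
  have hfinF : (Set.range F).Finite := by
    refine ((Set.toFinite (Set.range cl)).image fun n => F (Function.invFun cl n)).subset ?_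
    rintro _ ⟨t, rfl⟩
    exact ⟨cl t, ⟨t, rfl⟩, hF _ _ (Function.invFun_eq ⟨t, rfl⟩)⟩
  haveI : Finite (⁅P.map π, Q.map π⁆ : Subgroup _) := by
    refine Baer.finite_commutator _ _ (hfinF.subset ?_) ?_
    · rintro _ ⟨_, ⟨_, ⟨x, rfl⟩, rfl⟩, _, ⟨_, ⟨y, rfl⟩, rfl⟩, rfl⟩
      exact ⟨(x, y), map_commutatorElement π _ _⟩
    · rintro _ ⟨_, ⟨y, rfl⟩, rfl⟩
      obtain ⟨n, m, hnm, he⟩ : ∃ n m : ℕ, n < m ∧ clB (y ^ n) = clB (y ^ m) := by
        obtain ⟨n, m, hne, he⟩ := Finite.exists_ne_map_eq_of_infinite fun n : ℕ => clB (y ^ n)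
        rcases Nat.lt_or_gt_of_ne hne with h | h
        · exact ⟨n, m, h, he⟩
        · exact ⟨m, n, h, he.symm⟩
      refine ⟨m - n, Nat.sub_pos_of_lt hnm, ?_⟩
      obtain ⟨w, hw⟩ := hclB _ _ he
      rintro _ ⟨_, ⟨x, rfl⟩, rfl⟩
      have e : w ≫ jb = y ^ (m - n) := by
        rw [hw, inv_mul_eq_iff_eq_mul, ← pow_add, Nat.add_sub_cancel' hnm.le]
      have e' : ((y ≫ b) ^ (m - n) : pt ⟶ G) = (w ≫ jb) ≫ b := by
        rw [e]
        clear e hw hnm he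
        induction m - n with
        | zero => rw [pow_zero, pow_zero, MonObj.one_comp]
        | succ i ih => rw [pow_succ, pow_succ, ih, MonObj.mul_comp]
      rw [← map_pow, e', ← map_commutatorElement, hK₂]
  have hgen : Subgroup.closure (Set.range fun z : pt ⟶ A ⊗ B => z ≫ C) = ⁅P, Q⁆ := by
    rw [range_cmap]
    congr 1
    ext g
    exact ⟨fun ⟨x, y, h⟩ => ⟨_, ⟨x, rfl⟩, _, ⟨y, rfl⟩, h⟩,
      fun ⟨_, ⟨x, hx⟩, _, ⟨y, hy⟩, h⟩ => ⟨x, y, by rw [← hx, ← hy] at h; exact h⟩⟩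
  have hR : ∀ q : (⁅P.map π, Q.map π⁆ : Subgroup _), ∃ (r : pt ⟶ G) (n : ℕ),
      π r = q.1 ∧ r.left pt₀ ∈ lenSet C n := by
    rintro ⟨q, hq⟩
    rw [← Subgroup.map_commutator, ← hgen] at hq
    obtain ⟨r, hr, rfl⟩ := hq
    have h : r.left pt₀ ∈ wordSet (X := fun _ : PUnit.{u+1} => A ⊗ B) (single C) := by
      refine (Rational.mem_wordSet_iff_mem_closure (X := fun _ : PUnit.{u+1} => A ⊗ B) (f := single C) r).mpr
        (Subgroup.closure_mono ?_ hr)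
      rintro _ ⟨z, rfl⟩
      exact ⟨PUnit.unit, z, rfl⟩
    rw [wordSet_single, Set.mem_iUnion] at h
    obtain ⟨n, hn⟩ := h
    exact ⟨r, n, rfl, hn⟩
  choose r n hr hn using hR
  haveI := Fintype.ofFinite (⁅P.map π, Q.map π⁆ : Subgroup ((pt ⟶ G) ⧸ K))
  have hunit : ∀ (T : Over (Spec (CommRingCat.of k))) (t : T.left), (1 : T ⟶ G).left t ∈ Set.range C.left :=
    one_mem_range_cmap a b 1 1 (MonObj.one_comp a)
  refine ⟨Finset.univ.sup n + (N₁ + N₂), subset_closure_of_points C _ fun g hg => ?_⟩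
  rw [hgen] at hg
  have hq : π g ∈ ⁅P.map π, Q.map π⁆ := by
    rw [← Subgroup.map_commutator]; exact ⟨g, hg, rfl⟩
  have hk : (r ⟨π g, hq⟩)⁻¹ * g ∈ H₁ ⊔ H₂ := by
    refine (QuotientGroup.eq_one_iff _).mp ?_
    show π ((r ⟨π g, hq⟩)⁻¹ * g) = 1
    rw [map_mul, map_inv, hr, inv_mul_cancel]
  obtain ⟨h₁, hh₁, h₂, hh₂, he⟩ := Subgroup.mem_sup_of_normal_right.mp hk
  have e : g = r ⟨π g, hq⟩ * (h₁ * h₂) := by rw [he, mul_inv_cancel_left]
  rw [e]
  refine mem_lenSet_mul _ _ pt₀ ?_ (mem_lenSet_mul _ _ pt₀ (hle₁ _ (hN₁ _ hh₁)) (hle₂ _ (hN₂ _ hh₂)))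
  exact lenSet_mono hunit (Finset.le_sup (f := n) (Finset.mem_univ _)) (hn _)


/-- Let k be an algebraically closed field, G a group scheme locally of finite type over k, and a : A →
G, b : B → G two closed subgroup schemes which are geometrically reduced over k, such that either
(a) A and B are normal in G and of finite type over k, or (b) A is connected and B is of finite type
over k. Let i : Γ → G be the commutator subgroup scheme (A, B): the smallest closed subgroup scheme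
of G through which A ×_k B → G, (x, y) ↦ a(x) b(y) a(x)⁻¹ b(y)⁻¹, factors. Then the image of Γ(k) in
G(k) is the commutator subgroup of the images of A(k) and B(k): the subgroup of G(k) generated by
the commutators of a k-point of A with a k-point of B. -/
theorem result (k : Type u) [Field k] [IsAlgClosed k]
    (G A B : Over (Spec (CommRingCat.of k))) [GrpObj G] [GrpObj A] [GrpObj B] [LocallyOfFiniteType G.hom]
    (a : A ⟶ G) [IsMonHom a] [IsClosedImmersion a.left] (b : B ⟶ G) [IsMonHom b] [IsClosedImmersion b.left]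
    [GeometricallyReduced A.hom] [GeometricallyReduced B.hom] [QuasiCompact B.hom]
    (hcase : (AlgGrp.IsNormalHom a ∧ AlgGrp.IsNormalHom b ∧ QuasiCompact A.hom) ∨ ConnectedSpace A.left)
    (Γ : Over (Spec (CommRingCat.of k))) [GrpObj Γ] (i : Γ ⟶ G) [IsMonHom i] [IsClosedImmersion i.left]
    (hf : ∃ f' : A ⊗ B ⟶ Γ, f' ≫ i = (((fst A B) ≫ a) * ((snd A B) ≫ b) * ((fst A B) ≫ a)⁻¹ * ((snd A B) ≫ b)⁻¹))
    (hmin : ∀ (Γ' : Over (Spec (CommRingCat.of k))) (_ : GrpObj Γ') (i' : Γ' ⟶ G), IsMonHom i' → IsClosedImmersion i'.left →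
        (∃ f'' : A ⊗ B ⟶ Γ', f'' ≫ i' = (((fst A B) ≫ a) * ((snd A B) ≫ b) * ((fst A B) ≫ a)⁻¹ * ((snd A B) ≫ b)⁻¹)) → ∃ j : Γ ⟶ Γ', j ≫ i' = i) :
    Set.range (fun z : 𝟙_ (Over (Spec (CommRingCat.of k))) ⟶ Γ => z ≫ i) =
      ((⁅Subgroup.closure (Set.range (fun x : 𝟙_ (Over (Spec (CommRingCat.of k))) ⟶ A => x ≫ a)),
         Subgroup.closure (Set.range (fun y : 𝟙_ (Over (Spec (CommRingCat.of k))) ⟶ B => y ≫ b))⁆ : Subgroup (𝟙_ (Over (Spec (CommRingCat.of k))) ⟶ G)) :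
        Set (𝟙_ (Over (Spec (CommRingCat.of k))) ⟶ G)) := by
  haveI : IsSeparated G.hom := H19Grp.AffineQuotient.isSeparated_of_grp G
  haveI : LocallyOfFiniteType A.hom := by rw [← Over.w a]; infer_instance
  haveI : LocallyOfFiniteType B.hom := by rw [← Over.w b]; infer_instance
  haveI : QuasiCompact A.hom := by
    rcases hcase with ⟨-, -, h⟩ | h
    · exact h
    · haveI := h
      haveI : CompactSpace A.left := by
        have hc := H19Grp.isCompact_component_ept A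
        rw [PreconnectedSpace.connectedComponent_eq_univ] at hc
        exact isCompact_univ_iff.mp hc
      exact (HasAffineProperty.iff_of_isAffine (P := @QuasiCompact)).mpr inferInstance
  haveI : LocallyOfFiniteType (A ⊗ B).hom :=
    inferInstanceAs (LocallyOfFiniteType (pullback.fst A.hom B.hom ≫ A.hom))
  haveI : QuasiCompact (A ⊗ B).hom :=
    inferInstanceAs (QuasiCompact (pullback.fst A.hom B.hom ≫ A.hom))
  haveI : GeometricallyReduced (A ⊗ B).hom := geometricallyReduced_tensor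
  have hbound : ∃ N : ℕ, (⋃ n, lenSet (cmap a b) n) ⊆ closure (lenSet (cmap a b) N) :=
    hcase.elim (fun h => exists_bound_normal a b h.1 h.2.1)
      (fun h => exists_bound a b (Or.inl ⟨h, 1, MonObj.one_comp a⟩))
  obtain ⟨N, hN⟩ := hbound
  rw [range_points_smallest (cmap a b) hN i hf fun Γ' h' i' hm hc hfac => hmin Γ' h' i' hm hc hfac,
    range_cmap]
  have hPa : Subgroup.closure (Set.range fun x : 𝟙_ (Over (Spec (CommRingCat.of k))) ⟶ A => x ≫ a) = pts a := Subgroup.closure_eq (pts a)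
  have hPb : Subgroup.closure (Set.range fun y : 𝟙_ (Over (Spec (CommRingCat.of k))) ⟶ B => y ≫ b) = pts b := Subgroup.closure_eq (pts b)
  rw [hPa, hPb]
  congr 2
  ext g
  exact ⟨fun ⟨x, y, h⟩ => ⟨_, ⟨x, rfl⟩, _, ⟨y, rfl⟩, h⟩,
    fun ⟨_, ⟨x, hx⟩, _, ⟨y, hy⟩, h⟩ => ⟨x, y, by rw [← hx, ← hy] at h; exact h⟩⟩

end Groth.Agent.S6073
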