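import Groth.Statements.S5366
import Groth.Agent.H19Grp.PointsEq
-- import your own Groth.Agent.* helpers here

set_option autoImplicit false
universe u
open CategoryTheory CategoryTheory.Limits MonoidalCategory CartesianMonoidalCategory MonObj GrpObj AlgebraicGeometry
open SGA3

namespace Groth.Agent.S5366

open Groth.Agent.H19Grp
open scoped commutatorElement

set_option backward.isDefEq.respectTransparency false

/-- The commutator of the subgroups generated by conjugation invariant sets is generated by the commutators. -/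
theorem commutator_closure {M : Type*} [Group M] (A B : Set M) (hA : ∀ g, ∀ a ∈ A, g * a * g⁻¹ ∈ A)
    (hB : ∀ g, ∀ b ∈ B, g * b * g⁻¹ ∈ B) :
    ⁅Subgroup.closure A, Subgroup.closure B⁆ = Subgroup.closure (Set.image2 (fun a b => ⁅a, b⁆) A B) := by
  let C := Set.image2 (fun a b : M => ⁅a, b⁆) A B
  refine le_antisymm ?_ ((Subgroup.closure_le _).mpr ?_)
  · have hC : ∀ g, ∀ c ∈ C, g * c * g⁻¹ ∈ C := by
      rintro g _ ⟨a, ha, b, hb, rfl⟩
      exact ⟨_, hA g a ha, _, hB g b hb, (conjugate_commutatorElement a b g).symm⟩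
    haveI : (Subgroup.closure C).Normal := by
      refine ⟨fun c hc g => ?_⟩
      induction hc using Subgroup.closure_induction with
      | mem x hx => exact Subgroup.subset_closure (hC g x hx)
      | one => simp
      | mul x y _ _ hx hy =>
        rw [show g * (x * y) * g⁻¹ = (g * x * g⁻¹) * (g * y * g⁻¹) by group]
        exact mul_mem hx hy
      | inv x _ hx =>
        rw [show g * x⁻¹ * g⁻¹ = (g * x * g⁻¹)⁻¹ by group]
        exact inv_mem hx
    let π := QuotientGroup.mk' (Subgroup.closure C)
    have h1 : Subgroup.closure A ≤ (Subgroup.centralizer (π '' B)).comap π := by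
      refine (Subgroup.closure_le _).mpr fun a ha => Subgroup.mem_comap.mpr ?_
      rw [Subgroup.mem_centralizer_iff]
      rintro _ ⟨b, hb, rfl⟩
      have h : π ⁅a, b⁆ = 1 := (QuotientGroup.eq_one_iff _).mpr (Subgroup.subset_closure ⟨a, ha, b, hb, rfl⟩)
      rw [map_commutatorElement, commutatorElement_eq_one_iff_mul_comm] at h
      exact h.symm
    refine Subgroup.commutator_le.mpr fun a ha b hb => (QuotientGroup.eq_one_iff _).mp ?_
    have h2 : Subgroup.closure B ≤ (Subgroup.centralizer {π a}).comap π := by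
      refine (Subgroup.closure_le _).mpr fun b hb => Subgroup.mem_comap.mpr ?_
      rw [Subgroup.mem_centralizer_iff]
      rintro x (rfl : x = π a)
      exact (Subgroup.mem_centralizer_iff.mp (Subgroup.mem_comap.mp (h1 ha)) (π b) ⟨b, hb, rfl⟩).symm
    show π ⁅a, b⁆ = 1
    rw [map_commutatorElement, commutatorElement_eq_one_iff_mul_comm]
    exact Subgroup.mem_centralizer_iff.mp (Subgroup.mem_comap.mp (h2 hb)) (π a) rfl
  · rintro _ ⟨a, ha, b, hb, rfl⟩
    exact Subgroup.commutator_mem_commutator (Subgroup.subset_closure ha) (Subgroup.subset_closure hb)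

/-- The values of the iterated commutator of derived length `n`. -/
def dVal (M : Type*) [Group M] : ℕ → Set M
  | 0 => Set.univ
  | n + 1 => Set.image2 (fun a b => ⁅a, b⁆) (dVal M n) (dVal M n)

/-- The values of the iterated commutator of nilpotency length `n`. -/
def cVal (M : Type*) [Group M] : ℕ → Set M
  | 0 => Set.univ
  | n + 1 => Set.image2 (fun a b => ⁅a, b⁆) (cVal M n) Set.univ

theorem dVal_conj {M : Type*} [Group M] : ∀ n, ∀ g : M, ∀ a ∈ dVal M n, g * a * g⁻¹ ∈ dVal M n
  | 0, _, _, _ => trivial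
  | n + 1, g, _, ⟨a, ha, b, hb, rfl⟩ =>
    ⟨_, dVal_conj n g a ha, _, dVal_conj n g b hb, (conjugate_commutatorElement a b g).symm⟩

theorem cVal_conj {M : Type*} [Group M] : ∀ n, ∀ g : M, ∀ a ∈ cVal M n, g * a * g⁻¹ ∈ cVal M n
  | 0, _, _, _ => trivial
  | n + 1, g, _, ⟨a, ha, b, _, rfl⟩ =>
    ⟨_, cVal_conj n g a ha, _, trivial, (conjugate_commutatorElement a b g).symm⟩

theorem derivedSeries_eq {M : Type*} [Group M] : ∀ n, derivedSeries M n = Subgroup.closure (dVal M n)
  | 0 => by simp [dVal]
  | n + 1 => by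
    rw [derivedSeries_succ, derivedSeries_eq n, commutator_closure _ _ (dVal_conj n) (dVal_conj n)]
    rfl

theorem lowerCentralSeries_eq {M : Type*} [Group M] :
    ∀ n, (⊤ : Subgroup M).lowerCentralSeries n = Subgroup.closure (cVal M n)
  | 0 => by simp [cVal]
  | n + 1 => by
    have h := commutator_closure (cVal M n) Set.univ (cVal_conj n) (fun _ _ _ => trivial)
    rw [Subgroup.closure_univ, ← lowerCentralSeries_eq n] at h
    exact h

theorem closure_eq_bot_iff_forall {M : Type*} [Group M] (A : Set M) :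
    Subgroup.closure A = ⊥ ↔ ∀ a ∈ A, a = 1 := by
  rw [Subgroup.closure_eq_bot_iff]
  rfl

variable {k : Type u} [Field k] {G : Over (Spec (CommRingCat.of k))} [GrpObj G] [Smooth G.hom]

theorem commutatorElement_comp {T W : Over (Spec (CommRingCat.of k))} (t : T ⟶ W) (a b : W ⟶ G) :
    t ≫ ⁅a, b⁆ = ⁅t ≫ a, t ≫ b⁆ := by
  simp only [commutatorElement_def, MonObj.comp_mul, GrpObj.comp_inv]

/-- The iterated commutators of derived length `n` are the values of one morphism from a smooth scheme. -/
theorem exists_dVal_universal : ∀ n : ℕ, ∃ (W : Over (Spec (CommRingCat.of k))) (w : W ⟶ G), Smooth W.hom ∧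
    ∀ T : Over (Spec (CommRingCat.of k)), dVal (T ⟶ G) n = Set.range fun t : T ⟶ W => t ≫ w
  | 0 => ⟨G, 𝟙 G, inferInstance, fun T => by
      ext g
      exact ⟨fun _ => ⟨g, Category.comp_id g⟩, fun _ => trivial⟩⟩
  | n + 1 => by
    obtain ⟨W, w, hW, h⟩ := exists_dVal_universal n
    refine ⟨W ⊗ W, ⁅fst W W ≫ w, snd W W ≫ w⁆, PointsDense.smooth_tensor W W, fun T => ?_⟩
    show Set.image2 _ (dVal (T ⟶ G) n) (dVal (T ⟶ G) n) = _
    rw [h T]
    ext g
    constructor
    · rintro ⟨_, ⟨a, rfl⟩, _, ⟨b, rfl⟩, rfl⟩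
      exact ⟨lift a b, by simp only [commutatorElement_comp, lift_fst_assoc, lift_snd_assoc]⟩
    · rintro ⟨t, rfl⟩
      exact ⟨_, ⟨t ≫ fst W W, rfl⟩, _, ⟨t ≫ snd W W, rfl⟩, by
        simp only [commutatorElement_comp, Category.assoc]⟩

/-- The iterated commutators of nilpotency length `n` are the values of one morphism from a smooth scheme. -/
theorem exists_cVal_universal : ∀ n : ℕ, ∃ (W : Over (Spec (CommRingCat.of k))) (w : W ⟶ G), Smooth W.hom ∧
    ∀ T : Over (Spec (CommRingCat.of k)), cVal (T ⟶ G) n = Set.range fun t : T ⟶ W => t ≫ w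
  | 0 => ⟨G, 𝟙 G, inferInstance, fun T => by
      ext g
      exact ⟨fun _ => ⟨g, Category.comp_id g⟩, fun _ => trivial⟩⟩
  | n + 1 => by
    obtain ⟨W, w, hW, h⟩ := exists_cVal_universal n
    refine ⟨W ⊗ G, ⁅fst W G ≫ w, snd W G⁆, PointsDense.smooth_tensor W G, fun T => ?_⟩
    show Set.image2 _ (cVal (T ⟶ G) n) Set.univ = _
    rw [h T]
    ext g
    constructor
    · rintro ⟨_, ⟨a, rfl⟩, b, -, rfl⟩
      exact ⟨lift a b, by simp only [commutatorElement_comp, lift_fst_assoc, lift_snd]⟩
    · rintro ⟨t, rfl⟩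
      exact ⟨_, ⟨t ≫ fst W G, rfl⟩, t ≫ snd W G, trivial, by
        simp only [commutatorElement_comp, Category.assoc]⟩

/-- A family of subgroups generated by the values of one morphism from a smooth scheme vanishes as soon as
it vanishes on geometric points. -/
theorem forall_eq_bot {W : Over (Spec (CommRingCat.of k))} [Smooth W.hom] (w : W ⟶ G) (Ω : Type u) [Field Ω]
    [Algebra k Ω] [IsAlgClosed Ω] (V : ∀ T : Over (Spec (CommRingCat.of k)), Subgroup (T ⟶ G))
    (hV : ∀ T, V T = Subgroup.closure (Set.range fun t : T ⟶ W => t ≫ w))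
    (h : V (Over.mk (Spec.map (CommRingCat.ofHom (algebraMap k Ω)))) = ⊥)
    (T : Over (Spec (CommRingCat.of k))) : V T = ⊥ := by
  haveI : IsSeparated G.hom := PointsDense.isSeparated_grp G
  have hw : w = 1 := PointsDense.hom_eq (K := Ω) w 1 fun t => by
    rw [MonObj.comp_one]
    rw [hV, closure_eq_bot_iff_forall] at h
    exact h _ ⟨t, rfl⟩
  rw [hV, closure_eq_bot_iff_forall]
  rintro _ ⟨t, rfl⟩
  show t ≫ w = 1
  rw [hw, MonObj.comp_one]


/-- (i) ⟺ (iii): let G be a smooth group scheme of finite type over a field k, Ω an algebraically closed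
extension field of k and n a natural number. Then G is solvable of class n (the n-th term of the
derived series of the group G(T) is trivial for every k-scheme T) if and only if the n-th term of
the derived series of the group of Ω-points G(Ω) is trivial; and G is nilpotent of class n (the n-th
term of the lower central series of G(T) is trivial for every T) if and only if the n-th term of the
lower central series of G(Ω) is trivial. -/
theorem result (k : Type u) [Field k] (G : Over (Spec (CommRingCat.of k))) [GrpObj G]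
    [Smooth G.hom] [QuasiCompact G.hom] (Ω : Type u) [Field Ω] [Algebra k Ω] [IsAlgClosed Ω] (n : ℕ) :
    ((∀ T : Over (Spec (CommRingCat.of k)), derivedSeries (T ⟶ G) n = ⊥) ↔ derivedSeries ((Over.mk (Spec.map (CommRingCat.ofHom (algebraMap k Ω))) : Over (Spec (CommRingCat.of k))) ⟶ G) n = ⊥) ∧
    ((∀ T : Over (Spec (CommRingCat.of k)), Subgroup.lowerCentralSeries (⊤ : Subgroup (T ⟶ G)) n = ⊥) ↔ Subgroup.lowerCentralSeries (⊤ : Subgroup (((Over.mk (Spec.map (CommRingCat.ofHom (algebraMap k Ω))) : Over (Spec (CommRingCat.of k))) ⟶ G))) n = ⊥) := by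
  obtain ⟨W, w, hW, hd⟩ := exists_dVal_universal (G := G) n
  obtain ⟨W', w', hW', hc⟩ := exists_cVal_universal (G := G) n
  exact ⟨⟨fun h => h _, fun h => forall_eq_bot w Ω (fun T => derivedSeries (T ⟶ G) n)
      (fun T => by rw [derivedSeries_eq, hd T]) h⟩,
    ⟨fun h => h _, fun h => forall_eq_bot w' Ω (fun T => (⊤ : Subgroup (T ⟶ G)).lowerCentralSeries n)
      (fun T => by rw [lowerCentralSeries_eq, hc T]) h⟩⟩

end Groth.Agent.S5366
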