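-- statement FlatMor.GrothFrozen.S1333 (Groth/Statements/S1333.lean; the theorem FlatMor.isLocallyConstructible_fibre_dim_eq);
import Groth.Statements.S1333
import Groth.Agent.H7Flat.FibreDimConstructible

set_option autoImplicit false
universe u
open FlatMor
set_option backward.isDefEq.respectTransparency false
set_option linter.style.haveILetI false

namespace Groth.Agent.S1333

open AlgebraicGeometry CategoryTheory Limits in
/-- For a morphism of finite presentation (locally of finite presentation, quasi-compact,
quasi-separated), each level set of the function sending a point of the target to the dimension of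
its fibre is locally constructible. -/
theorem result {X Y : Scheme.{u}} (f : X ⟶ Y) [LocallyOfFinitePresentation f] [QuasiCompact f] [QuasiSeparated f]
    (n : WithBot ℕ∞) :
    Topology.IsLocallyConstructible {y : ↑Y | topologicalKrullDim ↑(f.fiber y) = n} := by
  have hle := Groth.Agent.H7Flat.isLocallyConstructible_dim_fiber_le f
  have hlt : Topology.IsLocallyConstructible {y : ↑Y | topologicalKrullDim ↑(f.fiber y) < n} := by
    match n with
    | ⊥ => simp
    | (⊤ : ℕ∞) =>
      convert! Topology.IsLocallyConstructible.univ using 1
      refine Set.eq_univ_of_forall fun y => ?_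
      obtain ⟨m, hm⟩ := Groth.Agent.H7Flat.exists_nat_dim_fiber f y
      exact lt_of_le_of_lt hm (WithBot.coe_lt_coe.2 (ENat.natCast_lt_top m))
    | ((0 : ℕ) : ℕ∞) =>
      convert! hle ⊥ using 1
      ext y
      simp only [Set.mem_ofPred_eq]
      exact (WithBot.lt_coe_bot.trans le_bot_iff.symm)
    | ((m + 1 : ℕ) : ℕ∞) =>
      convert! hle ((m : ℕ∞) : WithBot ℕ∞) using 1
      ext y
      simp only [Set.mem_ofPred_eq]
      match topologicalKrullDim ↑(f.fiber y) with
      | ⊥ => simp
      | (a : ℕ∞) =>
        rw [WithBot.coe_lt_coe, WithBot.coe_le_coe, Nat.cast_add, Nat.cast_one]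
        exact ENat.lt_add_one_iff (ENat.natCast_ne_top m)
  convert! (hle n).inter (Groth.Agent.H7Lim.isLocallyConstructible_compl hlt) using 1
  ext y
  simp [le_antisymm_iff]

end Groth.Agent.S1333
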