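import Groth.Statements.S6076
import Groth.Agent.H06GenSub.Lists
import Groth.Agent.H12AlgSp.LocPCancel

set_option autoImplicit false
universe u
open CategoryTheory CategoryTheory.Limits MonoidalCategory CartesianMonoidalCategory MonObj GrpObj AlgebraicGeometry
open SGA3

namespace Groth.Agent.S6076

open Groth.Agent.H06GenSub

set_option maxHeartbeats 1000000
set_option backward.isDefEq.respectTransparency false

/-- Constructible sets are clopen in the constructible topology. -/
theorem isClopen_constructibleTopology {X : Type u} [TopologicalSpace X] [CompactSpace X] {s : Set X}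
    (hs : Topology.IsConstructible s) : @IsClopen X (constructibleTopology X) s := by
  induction hs using Topology.IsConstructible.empty_union_induction with
  | open_retrocompact U hU hUc =>
    have hc := hUc.isCompact
    refine ⟨?_, hc.isOpen_constructibleTopology_of_isOpen hU⟩
    refine @IsClosed.mk X (constructibleTopology X) U ?_
    exact IsCompact.isOpen_constructibleTopology_of_isClosed (by rwa [compl_compl]) hU.isClosed_compl
  | union s _ t _ hs ht => exact @IsClopen.union X (constructibleTopology X) _ _ hs ht
  | compl s _ hs => exact @IsClopen.compl X (constructibleTopology X) _ hs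

/-- A cover of an affine scheme by constructible sets has a finite subcover. -/
theorem exists_finite_subcover {V : Scheme.{u}} [IsAffine V] {J : Type u} (s : J → Set V)
    (hs : ∀ i, Topology.IsConstructible (s i)) (hcov : ∀ v, ∃ i, v ∈ s i) :
    ∃ F : Finset J, ∀ v, ∃ i ∈ F, v ∈ s i := by
  obtain ⟨F, hF⟩ := (isCompact_univ (X := WithConstructibleTopology V)).elim_finite_subcover
    (fun i => {z | z.ofTopology ∈ s i})
    (fun i => WithConstructibleTopology.isOpen_iff.mpr (isClopen_constructibleTopology (hs i)).2)
    (fun z _ => Set.mem_iUnion.mpr (hcov z.ofTopology))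
  refine ⟨F, fun v => ?_⟩
  obtain ⟨i, hi, hv⟩ := Set.mem_iUnion₂.mp (hF (Set.mem_univ (WithTopology.toTopology _ v)))
  exact ⟨i, hi, hv⟩

theorem wordSrc_lfp {S : Scheme.{u}} {X : Over S} [LocallyOfFinitePresentation X.hom] :
    ∀ l : List (PUnit.{u+1} × Bool), LocallyOfFinitePresentation (wordSrc (fun _ : PUnit.{u+1} => X) l).hom
  | [] => inferInstanceAs (LocallyOfFinitePresentation (𝟙 S))
  | (_, _) :: l => by
    haveI := wordSrc_lfp (X := X) l
    exact inferInstanceAs (LocallyOfFinitePresentation (CategoryTheory.Limits.pullback.fst X.hom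
      (wordSrc (fun _ : PUnit.{u+1} => X) l).hom ≫ X.hom))

/-- (iii) ⟹ (iv): let S be a scheme, X an S-scheme which is flat and locally of finite presentation over
S, H an S-group scheme locally of finite presentation over S with reduced fibres and quasi-compact
underlying space, and f : X → H an S-morphism. Say that a point h of H lies under a word of length n
in f when there are an S-scheme T, a point p of T, T-valued points x_1, …, x_n of X and signs such
that the T-valued point f(x_1)^{±1} ⋯ f(x_n)^{±1} of H maps p to h. If every point of H lies under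
some word in f, then there is a natural number n such that every point of H lies under a word of
length at most n. (The published statement concludes with words of one fixed length n and an
fppf-covering word morphism; for the constant group of order two over a field and f the non-trivial
point, the points under words of length n alternate between the two points of H, so only the bound
on the length is stated here, and the covering assertion is not stated.) -/
theorem result (S : Scheme.{u}) (X H : Over S) [GrpObj H]
    [Flat X.hom] [LocallyOfFinitePresentation X.hom] [LocallyOfFinitePresentation H.hom]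
    (hred : ∀ s : S, IsReduced (H.hom.fiber s)) [CompactSpace H.left] (f : X ⟶ H)
    (hsurj : ∀ h : H.left, ∃ (n : ℕ) (T : Over S) (p : T.left) (x : Fin n → (T ⟶ X)) (ε : Fin n → Bool),
      ((List.ofFn fun j : Fin n => if ε j then x j ≫ f else (x j ≫ f)⁻¹).prod : T ⟶ H).left.base p = h) :
    ∃ n : ℕ, ∀ h : H.left, ∃ (m : ℕ) (_ : m ≤ n) (T : Over S) (p : T.left) (x : Fin m → (T ⟶ X)) (ε : Fin m → Bool),
      ((List.ofFn fun j : Fin m => if ε j then x j ≫ f else (x j ≫ f)⁻¹).prod : T ⟶ H).left.base p = h := by
  have hcover : ∀ h : H.left, ∃ n : ℕ, h ∈ lenSet f n := fun h => by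
    obtain ⟨n, T, p, x, ε, hp⟩ := hsurj h
    exact ⟨n, by rw [lenSet_eq]; exact ⟨T, p, x, ε, hp⟩⟩
  have haff : ∀ V : H.left.Opens, IsAffineOpen V → ∃ n : ℕ, ∀ v ∈ V, ∃ m ≤ n, v ∈ lenSet f m := by
    intro V hV
    haveI : IsAffine V.toScheme := hV
    let I := Σ n : ℕ, Σ ε : Fin n → Bool,
      {W : (wordSrc (fun _ : PUnit.{u+1} => X) (List.ofFn fun j => (PUnit.unit, ε j))).left.Opens //
        IsAffineOpen W ∧ W ≤ (word (X := fun _ : PUnit.{u+1} => X) (single f)
          (List.ofFn fun j => (PUnit.unit, ε j))).left ⁻¹ᵁ V}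
    let φ : ∀ q : I, q.2.2.1.toScheme ⟶ V.toScheme := fun q =>
      (word (X := fun _ : PUnit.{u+1} => X) (single f) (List.ofFn fun j => (PUnit.unit, q.2.1 j))).left.resLE V
        q.2.2.1 q.2.2.2.2
    have hs : ∀ q : I, Topology.IsConstructible (Set.range (φ q)) := fun q => by
      haveI : IsAffine q.2.2.1.toScheme := q.2.2.2.1
      haveI := wordSrc_lfp (X := X) (List.ofFn fun j => (PUnit.unit, q.2.1 j))
      haveI : LocallyOfFinitePresentation (φ q) := by
        let w := word (X := fun _ : PUnit.{u+1} => X) (single f) (List.ofFn fun j => (PUnit.unit, q.2.1 j))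
        haveI : LocallyOfFinitePresentation (φ q ≫ V.ι ≫ H.hom) := by
          rw [← Category.assoc, Scheme.Hom.resLE_comp_ι, Category.assoc, Over.w w]
          infer_instance
        exact H12AlgSp.lfp_of_comp (φ q) (V.ι ≫ H.hom)
      haveI : QuasiCompact (φ q) := inferInstance
      haveI : CompactSpace q.2.2.1.toScheme := inferInstance
      rw [← Set.image_univ]
      exact (φ q).isConstructible_image
        (IsRetrocompact.univ.isConstructible isOpen_univ)
    have hV' : ∀ v : V.toScheme, ∃ q : I, v ∈ Set.range (φ q) := fun v => by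
      obtain ⟨n, hn⟩ := hcover (V.ι v)
      rw [lenSet_eq_iUnion, Set.mem_iUnion] at hn
      obtain ⟨ε, y, hy⟩ := hn
      let w := word (X := fun _ : PUnit.{u+1} => X) (single f) (List.ofFn fun j => (PUnit.unit, ε j))
      obtain ⟨W, hW, hyW, hle⟩ := exists_isAffineOpen_mem_and_subset (U := w.left ⁻¹ᵁ V) (x := y)
        (show w.left y ∈ V by rw [hy]; exact v.2)
      refine ⟨⟨n, ε, W, hW, hle⟩, ⟨y, hyW⟩, V.ι.isOpenEmbedding.injective ?_⟩
      rw [← Scheme.Hom.comp_apply, Scheme.Hom.resLE_comp_ι, Scheme.Hom.comp_apply]
      exact hy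
    obtain ⟨F, hF⟩ := exists_finite_subcover (fun q : I => Set.range (φ q)) hs hV'
    refine ⟨F.sup fun q => q.1, fun v hv => ?_⟩
    obtain ⟨q, hq, y, hy⟩ := hF ⟨v, hv⟩
    refine ⟨q.1, Finset.le_sup (f := fun q : I => q.1) hq, ?_⟩
    rw [lenSet_eq_iUnion, Set.mem_iUnion]
    refine ⟨q.2.1, (q.2.2.1.ι y), ?_⟩
    rw [← Scheme.Hom.comp_apply, ← Scheme.Hom.resLE_comp_ι _ q.2.2.2.2, Scheme.Hom.comp_apply]
    exact congrArg V.ι hy
  let 𝒰 := H.left.affineCover.finiteSubcover
  choose N hN using fun i : 𝒰.I₀ => haff (𝒰.f i).opensRange (isAffineOpen_opensRange (𝒰.f i))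
  haveI : Fintype 𝒰.I₀ := Fintype.ofFinite _
  refine ⟨Finset.univ.sup N, fun h => ?_⟩
  obtain ⟨i, hi⟩ : ∃ i, h ∈ (𝒰.f i).opensRange := by
    simpa using 𝒰.isOpenCover_opensRange.exists_mem h
  obtain ⟨m, hm, hmem⟩ := hN i h hi
  rw [lenSet_eq] at hmem
  exact ⟨m, hm.trans (Finset.le_sup (Finset.mem_univ i)), hmem⟩

end Groth.Agent.S6076
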