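import Groth.Statements.S5367
import Groth.Agent.H06GenSub.ClassLocus
import Groth.Agent.S1333
import Groth.Agent.S1339
import Groth.Agent.S6076
import Groth.Agent.H7Flat.GeomInt.Counts
-- import your own Groth.Agent.* helpers here

set_option autoImplicit false
universe u
open CategoryTheory CategoryTheory.Limits MonoidalCategory CartesianMonoidalCategory MonObj GrpObj AlgebraicGeometry
open SGA3

namespace Groth.Agent.S5367

open CategoryTheory.Limits TopologicalSpace
open Groth.Agent Groth.Agent.H06GenSub Groth.Agent.H06GenSub.ClassLocus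

set_option backward.isDefEq.respectTransparency false

/-- The dimension of a scheme of finite type over a field is finite. -/
theorem exists_dim_le {k : Type u} [Field k] {Z : Scheme.{u}} (f : Z ⟶ Spec (CommRingCat.of k))
    [LocallyOfFiniteType f] [QuasiCompact f] : ∃ d : ℕ, topologicalKrullDim Z ≤ (d : WithBot ℕ∞) := by
  classical
  haveI : IsLocallyNoetherian Z := LocallyOfFiniteType.isLocallyNoetherian f
  haveI : CompactSpace Z := QuasiCompact.compactSpace_of_compactSpace f
  haveI : IsNoetherian Z := {}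
  choose c hc using fun z : Z => H8Props.FieldDim.exists_nat_cdim f z
  have hfin := NoetherianSpace.finite_irreducibleComponents (α := Z)
  choose g hg using fun C : {C // C ∈ irreducibleComponents Z} =>
    QuasiSober.sober C.2.1 (isClosed_of_mem_irreducibleComponents _ C.2)
  haveI := hfin.fintype
  refine ⟨Finset.univ.sup fun C => c (g C), ?_⟩
  rw [H8Props.FieldDim.dim_eq_iSup_cdim]
  refine iSup_le fun z => ?_
  let C : {C // C ∈ irreducibleComponents Z} := ⟨_, irreducibleComponent_mem_irreducibleComponents z⟩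
  refine le_trans (H3CAlg.PruferFibreDim.cdim_mono ((hg C).specializes mem_irreducibleComponent)) ?_
  rw [hc]
  have h1 : c (g C) ≤ Finset.univ.sup fun C => c (g C) :=
    Finset.le_sup (f := fun C => c (g C)) (Finset.mem_univ C)
  exact_mod_cast h1

variable {S : Scheme.{u}} (G : Over S) [GrpObj G] [LocallyOfFinitePresentation G.hom] [QuasiCompact G.hom]
  [QuasiSeparated G.hom] (hsm : ∀ s : S, Smooth (G.hom.fiberToSpecResidueField s))

include hsm in
theorem smooth_geomFibre (s : S) : Smooth (Red.geomFibre s G).hom := by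
  haveI : Smooth (pullback.snd G.hom (S.fromSpecResidueField s)) := hsm s
  let j := Spec.map (CommRingCat.ofHom (algebraMap (S.residueField s) (AlgebraicClosure (S.residueField s))))
  show Smooth (pullback.snd G.hom (j ≫ S.fromSpecResidueField s))
  refine (MorphismProperty.cancel_left_of_respectsIso @Smooth
    (pullbackLeftPullbackSndIso G.hom (S.fromSpecResidueField s) j).hom _).mp ?_
  rw [pullbackLeftPullbackSndIso_hom_snd]
  infer_instance

theorem mk_algebraMap_self (K : Type u) [Field K] :
    Over.mk (Spec.map (CommRingCat.ofHom (algebraMap K K))) = 𝟙_ (Over (Spec (CommRingCat.of K))) := by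
  rw [Algebra.algebraMap_self]
  simp
  rfl

include hsm in
/-- A uniform bound on classes near each point. -/
theorem exists_bound (s₀ : S) : ∃ (U : S.Opens) (n : ℕ), s₀ ∈ U ∧ IsAffineOpen U ∧ ∀ s ∈ U,
    ((∃ m, derivedSeries (Over.mk (Red.geomPt s) ⟶ G) m = ⊥) → derivedSeries (Over.mk (Red.geomPt s) ⟶ G) n = ⊥) ∧
    ((∃ m, (⊤ : Subgroup (Over.mk (Red.geomPt s) ⟶ G)).lowerCentralSeries m = ⊥) →
      (⊤ : Subgroup (Over.mk (Red.geomPt s) ⟶ G)).lowerCentralSeries n = ⊥) := by
  obtain ⟨U, hU, hs₀, -⟩ := exists_isAffineOpen_mem_and_subset (X := S) (x := s₀) (U := ⊤) trivial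
  haveI : IsAffine U.toScheme := hU
  let same : U.toScheme → Set U.toScheme := fun p =>
    U.ι ⁻¹' ({y | topologicalKrullDim ↑(G.hom.fiber y) = topologicalKrullDim ↑(G.hom.fiber (U.ι p))} ∩
      {y | MoreMor.nGeomConnComp G.hom y = MoreMor.nGeomConnComp G.hom (U.ι p)})
  have hsame : ∀ p, Topology.IsConstructible (same p) := fun p =>
    (H7Lim.isLocallyConstructible_preimage ((S1333.result G.hom _).inter (S1339.result G.hom _)) U.ι).isConstructible
  obtain ⟨F, hF⟩ := S6076.exists_finite_subcover same hsame fun v => ⟨v, rfl, rfl⟩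
  choose d hd using fun p : U.toScheme =>
    (exists_dim_le (G.hom.fiberToSpecResidueField (U.ι p)))
  let cc : U.toScheme → ℕ := fun p => (MoreMor.nGeomConnComp G.hom (U.ι p)).toNat
  refine ⟨U, F.sup fun p => cc p + (d p + 1), hs₀, hU, fun s hs => ?_⟩
  obtain ⟨p, hp, hdim, hcount⟩ := hF ⟨s, hs⟩
  haveI := smooth_geomFibre G hsm s
  let K := AlgebraicClosure (S.residueField s)
  let H := Red.geomFibre s G
  haveI : QuasiCompact H.hom := inferInstanceAs (QuasiCompact (pullback.snd G.hom (Red.geomPt s)))
  haveI : LocallyOfFiniteType H.hom := inferInstanceAs (LocallyOfFiniteType (pullback.snd G.hom (Red.geomPt s)))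
  have hdimH : topologicalKrullDim H.left = topologicalKrullDim ↑(G.hom.fiber s) := by
    let j := Spec.map (CommRingCat.ofHom (algebraMap (S.residueField s) K))
    let e := pullbackLeftPullbackSndIso G.hom (S.fromSpecResidueField s) j
    have hsq : IsPullback (e.inv ≫ pullback.fst _ _) (pullback.snd G.hom (Red.geomPt s))
        (pullback.snd G.hom (S.fromSpecResidueField s)) j :=
      (IsPullback.of_hasPullback (pullback.snd G.hom (S.fromSpecResidueField s)) j).of_iso e (Iso.refl _)
        (Iso.refl _) (Iso.refl _) (by simp) (by simpa using (pullbackLeftPullbackSndIso_hom_snd _ _ _).symm) (by simp) (by simp)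
    haveI : LocallyOfFiniteType (pullback.snd G.hom (S.fromSpecResidueField s)) := inferInstance
    exact H8Props.FieldDim.dim_baseChange (k := S.residueField s) (K := K) _ _ _ hsq
  have hdH : topologicalKrullDim H.left ≤ (d p : WithBot ℕ∞) := by
    rw [hdimH, show topologicalKrullDim ↑(G.hom.fiber s) = _ from hdim]; exact hd p
  have hcH : ENat.card (_root_.ConnectedComponents H.left) ≤ (cc p : ℕ∞) := by
    show ENat.card (_root_.ConnectedComponents ↥(pullback G.hom (Red.geomPt s))) ≤ _
    rw [(H7Flat.GeomInt.nGeom_eq G.hom (Red.geomPt s) (y := s) ((Scheme.Hom.comp_apply _ _ _).trans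
      (S.fromSpecResidueField_apply s _))).2, show MoreMor.nGeomConnComp G.hom s = _ from hcount]
    refine (ENat.coe_toNat ?_).ge
    rw [← show MoreMor.nGeomConnComp G.hom s = _ from hcount,
      ← (H7Flat.GeomInt.nGeom_eq G.hom (Red.geomPt s) (y := s) ((Scheme.Hom.comp_apply _ _ _).trans
      (S.fromSpecResidueField_apply s _))).2]
    haveI : IsLocallyNoetherian H.left := LocallyOfFiniteType.isLocallyNoetherian H.hom
    haveI : CompactSpace H.left := QuasiCompact.compactSpace_of_compactSpace H.hom
    haveI : IsNoetherian H.left := {}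
    haveI : LocallyConnectedSpace H.left :=
      H17.locallyConnectedSpace_of_locallyNoetherian fun x => ⟨Set.univ, Filter.univ_mem, inferInstance⟩
    exact (ENat.card_lt_top.mpr (inferInstanceAs (Finite (_root_.ConnectedComponents H.left)))).ne
  have hb := ClassBound.bound (G := H) hdH hcH
  have hle : cc p + (d p + 1) ≤ F.sup fun p => cc p + (d p + 1) :=
    Finset.le_sup (f := fun p => cc p + (d p + 1)) hp
  constructor
  · rintro ⟨m, hm⟩
    refine le_bot_iff.mp ((derivedSeries_antitone _ hle).trans ?_)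
    rw [(map_derived (ptsEquiv G (Red.geomPt s)) _).mpr
      (hb.1 ⟨m, (map_derived (ptsEquiv G (Red.geomPt s)) m).mp hm⟩)]
  · rintro ⟨m, hm⟩
    refine le_bot_iff.mp ((Subgroup.lowerCentralSeries_antitone _ hle).trans ?_)
    rw [(map_lower (ptsEquiv G (Red.geomPt s)) _).mpr
      (hb.2 ⟨m, (map_lower (ptsEquiv G (Red.geomPt s)) m).mp hm⟩)]

include hsm in
theorem solvable_iff (s : S) : Red.IsSolvableGrp (Red.geomFibre s G) ↔
    ∃ n, derivedSeries (Over.mk (Red.geomPt s) ⟶ G) n = ⊥ := by
  haveI := smooth_geomFibre G hsm s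
  haveI : QuasiCompact (Red.geomFibre s G).hom := inferInstanceAs (QuasiCompact (pullback.snd G.hom (Red.geomPt s)))
  refine exists_congr fun n => ?_
  rw [(S5366.result (AlgebraicClosure (S.residueField s)) (Red.geomFibre s G)
    (AlgebraicClosure (S.residueField s)) n).1, map_derived (ptsEquiv G (Red.geomPt s)), mk_algebraMap_self]

include hsm in
theorem nilpotent_iff (s : S) : AGF.IsNilpotentGrp (Red.geomFibre s G) ↔
    ∃ n, (⊤ : Subgroup (Over.mk (Red.geomPt s) ⟶ G)).lowerCentralSeries n = ⊥ := by
  haveI := smooth_geomFibre G hsm s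
  haveI : QuasiCompact (Red.geomFibre s G).hom := inferInstanceAs (QuasiCompact (pullback.snd G.hom (Red.geomPt s)))
  refine exists_congr fun n => ?_
  simp only [← Subgroup.lowerCentralSeries_eq_bot_iff_upperCentralSeries_eq_top]
  rw [(S5366.result (AlgebraicClosure (S.residueField s)) (Red.geomFibre s G)
    (AlgebraicClosure (S.residueField s)) n).2, map_lower (ptsEquiv G (Red.geomPt s)), mk_algebraMap_self]

theorem isLocallyConstructible_of_nhds {T : Type u} [TopologicalSpace T] (A : Set T)
    (h : ∀ x, ∃ (U : Set T) (B : Set T), x ∈ U ∧ IsOpen U ∧ Topology.IsLocallyConstructible B ∧ U ∩ A = U ∩ B) :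
    Topology.IsLocallyConstructible A := by
  intro x
  obtain ⟨U, B, hxU, hU, hB, he⟩ := h x
  obtain ⟨V, hV, hVo, hVc⟩ := hB x
  refine ⟨U ∩ V, Filter.inter_mem (hU.mem_nhds hxU) hV, hU.inter hVo, ?_⟩
  have h1 : Subtype.val ⁻¹' A = (Set.inclusion (Set.inter_subset_right : U ∩ V ⊆ V)) ⁻¹' (Subtype.val ⁻¹' B) := by
    ext z
    exact ⟨fun hz => (he.le ⟨z.2.1, hz⟩).2, fun hz => (he.ge ⟨z.2.1, hz⟩).2⟩
  rw [h1]
  refine hVc.preimage_of_isOpenEmbedding ?_
  exact .inclusion _ ((hU.inter hVo).preimage continuous_subtype_val)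


/-- Let G be an S-group scheme of finite presentation over S such that every fibre G_s is smooth over
κ(s). Then the set of points s of S such that the geometric fibre of G at s is solvable (resp.
nilpotent) is locally constructible in S. (The row tests the geometric fibre over an algebraic
closure of κ(s), which is solvable or nilpotent exactly when G_s is.) -/
theorem result (S : Scheme.{u}) (G : Over S) [GrpObj G]
    [LocallyOfFinitePresentation G.hom] [QuasiCompact G.hom] [QuasiSeparated G.hom]
    (hsm : ∀ s : S, Smooth (G.hom.fiberToSpecResidueField s)) :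
    Topology.IsLocallyConstructible {s : S | Red.IsSolvableGrp (Red.geomFibre s G)} ∧
    Topology.IsLocallyConstructible {s : S | AGF.IsNilpotentGrp (Red.geomFibre s G)} := by
  constructor
  · refine isLocallyConstructible_of_nhds _ fun s₀ => ?_
    obtain ⟨U, n, hs₀, -, hn⟩ := exists_bound G hsm s₀
    obtain ⟨W, w, _, _, _, hd⟩ := exists_dVal (G := G) n
    refine ⟨U, _, hs₀, U.2, isLocallyConstructible_trivial w, ?_⟩
    ext s
    refine and_congr_right fun hs => ?_
    rw [Set.mem_setOf_eq, Set.mem_setOf_eq, solvable_iff G hsm s]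
    have hiff : derivedSeries (Over.mk (Red.geomPt s) ⟶ G) n = ⊥ ↔
        ∀ t : Over.mk (Red.geomPt s) ⟶ W, t ≫ w = 1 := by
      rw [S5366.derivedSeries_eq, hd, S5366.closure_eq_bot_iff_forall, Set.forall_mem_range]
    exact ⟨fun h => hiff.mp ((hn s hs).1 h), fun h => ⟨n, hiff.mpr h⟩⟩
  · refine isLocallyConstructible_of_nhds _ fun s₀ => ?_
    obtain ⟨U, n, hs₀, -, hn⟩ := exists_bound G hsm s₀
    obtain ⟨W, w, _, _, _, hd⟩ := exists_cVal (G := G) n
    refine ⟨U, _, hs₀, U.2, isLocallyConstructible_trivial w, ?_⟩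
    ext s
    refine and_congr_right fun hs => ?_
    rw [Set.mem_setOf_eq, Set.mem_setOf_eq, nilpotent_iff G hsm s]
    have hiff : (⊤ : Subgroup (Over.mk (Red.geomPt s) ⟶ G)).lowerCentralSeries n = ⊥ ↔
        ∀ t : Over.mk (Red.geomPt s) ⟶ W, t ≫ w = 1 := by
      rw [S5366.lowerCentralSeries_eq, hd, S5366.closure_eq_bot_iff_forall, Set.forall_mem_range]
    exact ⟨fun h => hiff.mp ((hn s hs).2 h), fun h => ⟨n, hiff.mpr h⟩⟩

end Groth.Agent.S5367
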