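-- statement FlatMor.GrothFrozen.S0420 (Groth/Statements/S0420.lean; the theorem FlatMor.geometrically_connected_fibres_near_generic_point);
import Groth.Statements.S0420
import Groth.Agent.H7Flat.GeomInt.Counts

set_option autoImplicit false
universe u
open FlatMor

namespace Groth.Agent.S0420

open AlgebraicGeometry CategoryTheory Limits in
/-- For a morphism of finite type to an irreducible scheme whose generic fibre is geometrically
connected, all fibres over some nonempty open of the target are geometrically connected. -/
theorem result {X Y : Scheme.{u}} (f : X ⟶ Y) [IrreducibleSpace ↑Y] [LocallyOfFiniteType f] [QuasiCompact f]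
    (h : GeometricallyConnected (f.fiberToSpecResidueField (genericPoint ↑Y))) :
    ∃ V : Y.Opens, (V : Set ↑Y).Nonempty ∧ GeometricallyConnected (f ∣_ V) := by
  obtain ⟨O, hη, hO⟩ := H7Flat.GeomInt.exists_opens_counts f (genericPoint ↑Y)
  refine ⟨O, ⟨_, hη⟩, ?_⟩
  rw [GeometricallyConnected.iff_geometricallyConnected_fiber]
  intro v
  rw [H7Flat.GeomInt.geometricallyConnected_fiber_iff,
    (H7Flat.GeomInt.nGeom_baseChange (isPullback_morphismRestrict f O).flip v).2]
  exact (hO _ v.2 (genericPoint_specializes _)).2.trans
    ((H7Flat.GeomInt.geometricallyConnected_fiber_iff f _).1 h)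

end Groth.Agent.S0420
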