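import Groth.Statements.S2150
import Groth.Agent.H02CA.GeomIrred
import Groth.Agent.S2451

set_option autoImplicit false
universe u
open CAlg

namespace Groth.Agent.S2150

open TensorProduct in
/-- For a field extension `K/k`, the spectrum of `k' ⊗_k K` is irreducible for every field extension
`k'/k` (geometric irreducibility, extensions in the same universe) if and only if every element of
`K` which is separable algebraic over `k` lies in `k`. -/
theorem result {k K : Type u} [Field k] [Field K] [Algebra k K] :
    (∀ (k' : Type u) [Field k'] [Algebra k k'], IrreducibleSpace (PrimeSpectrum (k' ⊗[k] K))) ↔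
      ∀ α : K, IsSeparable k α → α ∈ Set.range (algebraMap k K) := by

  classical
  have aux : ∀ (F E R : Type u) [Field F] [Field E] [Algebra F E] [IsPurelyInseparable F E] [CommRing R]
      [Algebra F R], IrreducibleSpace (PrimeSpectrum R) → IrreducibleSpace (PrimeSpectrum (E ⊗[F] R)) := by
    intro F E R _ _ _ _ _ _ hR
    exact Groth.Agent.H02CA.GeomIrred.irreducibleSpace_of_ringEquiv (Algebra.TensorProduct.comm F E R).toRingEquiv
      ((PrimeSpectrum.isHomeomorph_comap_of_isPurelyInseparable F E R).homeomorph.irreducibleSpace_iff.mpr hR)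
  constructor
  · intro h α hα
    let L := IntermediateField.adjoin k ({α} : Set K)
    haveI : Algebra.IsSeparable k L :=
      (IntermediateField.isSeparable_adjoin_simple_iff_isSeparable k K).mpr hα
    haveI : FiniteDimensional k L := IntermediateField.adjoin.finiteDimensional hα.isIntegral
    haveI : Algebra.FormallyEtale k L := Algebra.FormallyEtale.of_isSeparable k L
    haveI : Algebra.IsGeometricallyReduced k L := Groth.Agent.S2451.result.mp inferInstance
    let kb := AlgebraicClosure k
    let j : kb ⊗[k] L →ₐ[kb] kb ⊗[k] K := Algebra.TensorProduct.map (AlgHom.id kb kb) L.val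
    have hj : Function.Injective j :=
      Module.Flat.lTensor_preserves_injective_linearMap L.val.toLinearMap L.val.injective
    have hirr : IrreducibleSpace (PrimeSpectrum (kb ⊗[k] L)) :=
      Groth.Agent.H02CA.GeomIrred.irreducibleSpace_of_injective (A := kb ⊗[k] L) (B := kb ⊗[k] K) j.toRingHom hj (h kb)
    haveI : IsReduced (kb ⊗[k] L) := inferInstance
    have hp := PrimeSpectrum.irreducibleSpace_iff_isPrime_nilradical.mp hirr
    rw [nilradical_eq_zero] at hp
    haveI : (⊥ : Ideal (kb ⊗[k] L)).IsPrime := hp
    haveI : IsDomain (kb ⊗[k] L) := IsDomain.of_bot_isPrime (kb ⊗[k] L)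
    haveI : Module.Finite kb (kb ⊗[k] L) := inferInstance
    have hbij : Function.Bijective (algebraMap kb (kb ⊗[k] L)) :=
      IsAlgClosed.algebraMap_bijective_of_isIntegral
    have h1 : Module.finrank kb (kb ⊗[k] L) = 1 := by
      rw [← (LinearEquiv.ofBijective (Algebra.linearMap kb (kb ⊗[k] L)) hbij).finrank_eq, Module.finrank_self]
    rw [Module.finrank_baseChange] at h1
    have hbot : L = ⊥ := IntermediateField.finrank_eq_one_iff.mp h1
    have hmem : α ∈ L := IntermediateField.mem_adjoin_simple_self k α
    rw [hbot] at hmem
    exact IntermediateField.mem_bot.mp hmem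
  · intro h
    -- separable irreducible polynomials over `k` stay irreducible over `K`
    have hirrK : ∀ f : Polynomial k, Irreducible f → f.Monic → f.Separable →
        Irreducible (f.map (algebraMap k K)) := by
      intro f hf hfm hfs
      obtain ⟨g', hg', hg'f⟩ := Polynomial.exists_irreducible_of_natDegree_pos
        (f := f.map (algebraMap k K)) (by rw [Polynomial.natDegree_map]; exact hf.natDegree_pos)
      let g := normalize g'
      have hgm : g.Monic := Polynomial.monic_normalize hg'.ne_zero
      have hgf : g ∣ f.map (algebraMap k K) := normalize_dvd_iff.mpr hg'f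
      have hgirr : Irreducible g := (normalize_associated g').symm.irreducible hg'
      let Kb := AlgebraicClosure K
      let i : K →ₐ[k] Kb := IsScalarTower.toAlgHom k K Kb
      have hlift : g.map (algebraMap K Kb) ∈ Polynomial.lifts (algebraMap (separableClosure k Kb) Kb) := by
        refine (IsAlgClosed.splits (g.map (algebraMap K Kb))).mem_lift_of_roots_mem_range (hgm.map _) _ fun a ha => ?_
        have hmem : a ∈ separableClosure k Kb := by
          rw [mem_separableClosure_iff]
          refine hfs.of_dvd (minpoly.dvd k a ?_)
          have hroot : (g.map (algebraMap K Kb)).eval a = 0 := (Polynomial.mem_roots'.mp ha).2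
          obtain ⟨c, hc⟩ := hgf
          have := congrArg (fun P : Polynomial K => (P.map (algebraMap K Kb)).eval a) hc
          simp only [Polynomial.map_mul, Polynomial.eval_mul, hroot, zero_mul, Polynomial.map_map,
            ← IsScalarTower.algebraMap_eq] at this
          rw [Polynomial.aeval_def, Polynomial.eval₂_eq_eval_map]
          exact this
        exact ⟨⟨a, hmem⟩, rfl⟩
      have hcoeff : ∀ n, g.coeff n ∈ Set.range (algebraMap k K) := by
        intro n
        apply h
        obtain ⟨c, hc⟩ := (Polynomial.lifts_iff_coeff_lifts _).mp hlift n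
        rw [Polynomial.coeff_map] at hc
        have hmem : i (g.coeff n) ∈ separableClosure k Kb := by
          show algebraMap K Kb (g.coeff n) ∈ separableClosure k Kb
          rw [← hc]
          exact c.2
        exact mem_separableClosure_iff.mp ((map_mem_separableClosure_iff i).mp hmem)
      obtain ⟨g₀, hg₀, -, hg₀m⟩ := Polynomial.lifts_and_natDegree_eq_and_monic
        ((Polynomial.lifts_iff_coeff_lifts g).mpr hcoeff) hgm
      have hdvd : g₀ ∣ f := (Polynomial.map_dvd_map' (algebraMap k K)).mp (hg₀ ▸ hgf)
      have hnu : ¬ IsUnit g₀ := fun hu => hgirr.not_isUnit (hg₀ ▸ hu.map (Polynomial.mapRingHom (algebraMap k K)))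
      have heq : g₀ = f := Polynomial.eq_of_monic_of_associated hg₀m hfm
        (((hf.dvd_iff).mp hdvd).resolve_left hnu).symm
      rw [← heq, hg₀]
      exact hgirr
    intro k' _ _
    refine Groth.Agent.H02CA.GeomIrred.irreducibleSpace_of_algClosure ?_ k'
    refine Groth.Agent.H02CA.GeomIrred.irreducibleSpace_of_finite_subextensions fun L hL => ?_
    let Ls := separableClosure k L
    obtain ⟨β, hβ⟩ := Field.exists_primitive_element k Ls
    have hβi : IsIntegral k β := Algebra.IsIntegral.isIntegral β
    have hβs : IsSeparable k β := Algebra.IsSeparable.isSeparable k β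
    let fK := (minpoly k β).map (algebraMap k K)
    haveI : Fact (Irreducible fK) := ⟨hirrK _ (minpoly.irreducible hβi) (minpoly.monic hβi) hβs⟩
    let φ : AdjoinRoot fK →ₐ[K] K ⊗[k] Ls :=
      AdjoinRoot.liftAlgHom fK (Algebra.ofId K (K ⊗[k] Ls)) ((1 : K) ⊗ₜ[k] β) (by
        rw [Polynomial.eval₂_map]
        have : (Algebra.TensorProduct.includeRight : Ls →ₐ[k] K ⊗[k] Ls) β = (1 : K) ⊗ₜ[k] β := rfl
        rw [← this]
        have h2 := Polynomial.aeval_algHom_apply (Algebra.TensorProduct.includeRight : Ls →ₐ[k] K ⊗[k] Ls) β (minpoly k β)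
        rw [minpoly.aeval, map_zero, Polynomial.aeval_def] at h2
        exact h2)
    haveI : Module.Finite k Ls := inferInstance
    haveI : Module.Finite K (AdjoinRoot fK) :=
      ((minpoly.monic hβi).map (algebraMap k K)).finite_adjoinRoot
    have hrk : Module.finrank K (AdjoinRoot fK) = Module.finrank K (K ⊗[k] Ls) := by
      rw [PowerBasis.finrank (AdjoinRoot.powerBasis (Fact.out : Irreducible fK).ne_zero),
        AdjoinRoot.powerBasis_dim, Module.finrank_baseChange, Polynomial.natDegree_map,
        ← IntermediateField.adjoin.finrank hβi, hβ, IntermediateField.finrank_top']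
    have hφi : Function.Injective φ := φ.toRingHom.injective
    have hφ : Function.Bijective φ :=
      ⟨hφi, (LinearMap.injective_iff_surjective_of_finrank_eq_finrank (f := φ.toLinearMap) hrk).mp hφi⟩
    have hR : IrreducibleSpace (PrimeSpectrum (Ls ⊗[k] K)) :=
      Groth.Agent.H02CA.GeomIrred.irreducibleSpace_of_ringEquiv
        ((Algebra.TensorProduct.comm k Ls K).toRingEquiv.trans (RingEquiv.ofBijective φ hφ).symm) inferInstance
    exact Groth.Agent.H02CA.GeomIrred.irreducibleSpace_of_ringEquiv
      (Algebra.TensorProduct.cancelBaseChange k Ls L L K).symm.toRingEquiv (aux Ls L (Ls ⊗[k] K) hR)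

end Groth.Agent.S2150
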