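import Groth.Statements.S2561
import Groth.Agent.H06FlatVal.Scheme
import Groth.Agent.H06FlatVal.MaximalImage
import Groth.Agent.H06SecComp.Interior
import Groth.Agent.H06EGA15.DimConst
import Groth.Agent.H06EGA14.DvrBase
import Groth.Agent.H18HTop.SpecLiftDVR

set_option autoImplicit false
open CategoryTheory AlgebraicGeometry
universe u
open EGA43

namespace Groth.Agent.S2561

open Groth.Agent

/-- Let Y be locally Noetherian, f : X ⟶ Y locally of finite type, x a point of X with y = f x. Suppose
that f is universally open at the generic point of every irreducible component of the fibre over y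
passing through x, that this fibre is geometrically reduced at x, and that the local ring of Y at y
is reduced. Then the local homomorphism O_{Y,y} ⟶ O_{X,x} is flat. -/
theorem result {X Y : Scheme.{u}} [IsLocallyNoetherian Y]
    (f : X ⟶ Y) [LocallyOfFiniteType f] (x : X)
    (hopen : ∀ z : ↥(f.fiber (f.base x)), f.asFiber x ∈ closure {z} →
      (∀ z' : ↥(f.fiber (f.base x)), z ∈ closure {z'} → z' = z) →
      EGA43.IsUnivOpenAt f ((f.fiberι (f.base x)).base z))
    (hred : FBase.IsGeomReducedAt (f.fiberToSpecResidueField (f.base x)) (f.asFiber x))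
    (hy : _root_.IsReduced (Y.presheaf.stalk (f.base x))) :
    (f.stalkMap x).hom.Flat := by
  haveI : _root_.IsReduced (Y.presheaf.stalk (f x)) := hy
  haveI : IsNoetherianRing (Y.presheaf.stalk (f x)) := inferInstance
  refine H06FlatVal.flat_stalkMap_of_forall_dvr f x fun D _ _ _ φ _ x' h1 h2 => ?_
  let k := Spec.map (CommRingCat.ofHom φ) ≫ Y.fromSpecStalk (f x)
  let p := Limits.pullback.fst f k
  let q := Limits.pullback.snd f k
  have hfp : ∀ z, f (p z) = k (q z) := fun z => by
    rw [← Scheme.Hom.comp_apply, Limits.pullback.condition, Scheme.Hom.comp_apply]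
  refine H06EGA14.flat_stalkMap_of_isOpenAt q x' h2 (fun z hz hzq hmax => ?_) ?_
  · have hfz : f (p z) = f x := by rw [hfp, hzq, ← hfp, show p x' = x from h1]
    obtain ⟨v, hv⟩ := (f.range_fiberι (f x)).ge (show p z ∈ f ⁻¹' {f x} from hfz)
    have hmaxp := H06FlatVal.maximal_fst_of_maximal f k z (fun z' h3 h4 => hmax z' (h3.trans hzq) h4)
    have hopen' : EGA43.IsUnivOpenAt f (p z) := by
      rw [← hv]
      refine hopen v ?_ (fun v' hv' => ?_)
      · refine ((f.fiberι (f x)).isEmbedding.isInducing.specializes_iff.mp ?_).mem_closure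
        rw [hv, f.fiberι_asFiber]
        exact h1 ▸ hz.map p.continuous
      · refine (f.fiberι (f x)).isEmbedding.injective ((hmaxp (f.fiberι (f x) v') ?_ ?_).trans hv.symm)
        · rw [(f.range_fiberι (f x)).le (Set.mem_range_self v'), hfz]
        · have := (specializes_iff_mem_closure.mpr hv').map (f.fiberι (f x)).continuous
          rwa [hv] at this
    exact hopen' _ k z rfl
  · obtain ⟨v, hv⟩ := (f.range_fiberι (k (q.base x'))).ge (show p x' ∈ f ⁻¹' {k (q x')} from hfp x')
    refine H06EGA15.isReduced_stalk_fiber_of_isGeomReducedAt f k _ (q.asFiber x') v ?_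
      (H06SecComp.isGeomReducedAt_of_fiberι f hred _ v (hv.trans h1))
    show p (q.fiberι _ (q.asFiber x')) = _
    rw [q.fiberι_asFiber, hv]

end Groth.Agent.S2561
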