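import Groth.Statements.S2567
import Groth.Agent.H06GeomRed.Open
import Groth.Agent.H06GeomRed.Reduced

set_option autoImplicit false
open CategoryTheory AlgebraicGeometry
universe u
open EGA43

namespace Groth.Agent.S2567

open Groth.Agent TensorProduct

/-- Reduced case (the source only needs f flat and of finite presentation at the point x): let f : X ⟶ Y
be flat and locally of finite presentation, x a point of X with y = f x. If the local ring of Y at y
is reduced and the fibre of f over y is geometrically reduced at x, then the local ring of X at x is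
reduced. -/
theorem result {X Y : Scheme.{u}} (f : X ⟶ Y) [Flat f]
    [LocallyOfFinitePresentation f] (x : X) (hy : FBase.IsReducedAt Y (f.base x))
    (hx : FBase.IsGeomReducedAt (f.fiberToSpecResidueField (f.base x)) (f.asFiber x)) :
    FBase.IsReducedAt X x := by
  obtain ⟨V, hV, hxV, -⟩ := exists_isAffineOpen_mem_and_subset (X := Y) (x := f x) (U := ⊤) trivial
  have hopen := H06GeomRed.isOpen_setOf_flat_and_mem_locus f
  obtain ⟨W, hW, hxW, hWle⟩ := exists_isAffineOpen_mem_and_subset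
    (U := (⟨_, hopen⟩ : X.Opens) ⊓ f ⁻¹ᵁ V) (x := x) ⟨⟨Flat.stalkMap f x, hx⟩, hxV⟩
  have e : W ≤ f ⁻¹ᵁ V := fun w hw => (hWle hw).2
  algebraize [(f.appLE V W e).hom]
  haveI : Algebra.FinitePresentation Γ(Y, V) Γ(X, W) := f.finitePresentation_appLE hV hW e
  haveI : Module.Flat Γ(Y, V) Γ(X, W) := (HasRingHomProperty.appLE @Flat f ‹_› ⟨V, hV⟩ ⟨W, hW⟩ e :)
  let p := (hV.primeIdealOf ⟨f x, hxV⟩).asIdeal
  let q := (hW.primeIdealOf ⟨x, hxW⟩).asIdeal
  haveI : p.IsPrime := (hV.primeIdealOf ⟨f x, hxV⟩).isPrime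
  haveI : q.IsPrime := (hW.primeIdealOf ⟨x, hxW⟩).isPrime
  let Rp := Localization.AtPrime p
  haveI : _root_.IsReduced Rp := by
    letI := TopCat.Presheaf.algebra_section_stalk Y.presheaf ⟨f x, hxV⟩
    haveI : IsLocalization.AtPrime (Y.presheaf.stalk (f x)) p := hV.isLocalization_stalk ⟨f x, hxV⟩
    haveI : _root_.IsReduced (Y.presheaf.stalk (f x)) := hy
    let u := IsLocalization.algEquiv p.primeCompl Rp (Y.presheaf.stalk (f x))
    exact isReduced_of_injective u.toRingEquiv.toRingHom u.injective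
  letI := Algebra.TensorProduct.rightAlgebra (R := Γ(Y, V)) (A := Rp) (B := Γ(X, W))
  haveI : _root_.IsReduced (Rp ⊗[Γ(Y, V)] Γ(X, W)) := H06GeomRed.isReduced_of_flat_of_reduced_fibres (R := Rp)
    fun P => by
      let K := P.asIdeal.ResidueField
      obtain ⟨j, hj, hjr, -⟩ := H7Flat.GeomReduced.exists_chart f hV hW e K
      haveI := hj
      haveI : IsReduced (Spec (CommRingCat.of (K ⊗[Γ(Y, V)] Γ(X, W)))) := by
        haveI : ∀ Q : ↥(Spec (CommRingCat.of (K ⊗[Γ(Y, V)] Γ(X, W)))),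
            _root_.IsReduced ((Spec (CommRingCat.of (K ⊗[Γ(Y, V)] Γ(X, W)))).presheaf.stalk Q) := fun Q => by
          haveI := (H06GeomRed.mem_locus_iff f _).mp (hWle (hjr.le ⟨Q, rfl⟩)).1.2 K _ (j Q) rfl
          exact isReduced_of_injective (asIso (j.stalkMap Q)).commRingCatIsoToRingEquiv.symm.toRingHom
            (asIso (j.stalkMap Q)).commRingCatIsoToRingEquiv.symm.injective
        exact isReduced_of_isReduced_stalk _
      haveI : _root_.IsReduced (K ⊗[Γ(Y, V)] Γ(X, W)) := (affine_isReduced_iff _).1 ‹IsReduced _›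
      let u : (Rp ⊗[Γ(Y, V)] Γ(X, W)) ⊗[Rp] K ≃+* K ⊗[Γ(Y, V)] Γ(X, W) :=
        (Algebra.TensorProduct.comm Rp (Rp ⊗[Γ(Y, V)] Γ(X, W)) K).toRingEquiv.trans
          (Algebra.TensorProduct.cancelBaseChange Γ(Y, V) Rp Rp K Γ(X, W)).toRingEquiv
      exact isReduced_of_injective u.toRingHom u.injective
  letI := TopCat.Presheaf.algebra_section_stalk X.presheaf ⟨x, hxW⟩
  haveI : IsLocalization.AtPrime (X.presheaf.stalk x) q := hW.isLocalization_stalk ⟨x, hxW⟩
  refine H7Flat.GeomReduced.isReduced_localization_of_forall q (X.presheaf.stalk x) fun ν hν => ?_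
  haveI : IsLocalization (Algebra.algebraMapSubmonoid Γ(X, W) p.primeCompl) (Rp ⊗[Γ(Y, V)] Γ(X, W)) :=
    IsLocalization.tensorRight Rp p.primeCompl
  obtain ⟨⟨s, t, ht, rfl⟩, hsν⟩ := (IsLocalization.map_eq_zero_iff (Algebra.algebraMapSubmonoid Γ(X, W) p.primeCompl)
    (Rp ⊗[Γ(Y, V)] Γ(X, W)) ν).mp (hν.map _).eq_zero
  refine ⟨_, fun hmem => ht ?_, hsν⟩
  have hpq : q.comap (algebraMap Γ(Y, V) Γ(X, W)) = p := by
    refine congrArg PrimeSpectrum.asIdeal (hV.fromSpec.isOpenEmbedding.injective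
      (a₁ := Spec.map (f.appLE V W e) (hW.primeIdealOf ⟨x, hxW⟩)) ?_)
    have h1 : hV.fromSpec (Spec.map (f.appLE V W e) (hW.primeIdealOf ⟨x, hxW⟩)) =
        f (hW.fromSpec (hW.primeIdealOf ⟨x, hxW⟩)) :=
      congrArg (fun φ : Spec Γ(X, W) ⟶ Y => φ (hW.primeIdealOf ⟨x, hxW⟩))
        (IsAffineOpen.SpecMap_appLE_fromSpec f hV hW e)
    exact (h1.trans (congrArg f (hW.fromSpec_primeIdealOf ⟨x, hxW⟩))).trans (hV.fromSpec_primeIdealOf ⟨f x, hxV⟩).symm
  exact hpq.le hmem

end Groth.Agent.S2567
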