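import Groth.Statements.S3408
import Groth.Agent.S2561
import Groth.Agent.S2567
import Groth.Agent.H06GeomRed.Open
import Groth.Agent.H18HTop.SpecLiftDVR

set_option autoImplicit false
open CategoryTheory AlgebraicGeometry
universe u
open EGA43

namespace Groth.Agent.S3408

open Groth.Agent

/-- Let Y be locally Noetherian, f : X ⟶ Y locally of finite type, x a point of X and y = f x. Suppose f
is universally open at the generic point of every irreducible component of X_y passing through x,
X_y is geometrically reduced at x, and the local ring O_{Y,y} is reduced. Then there is an open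
neighbourhood U of x such that the restriction of f to U is flat and U is a reduced scheme. -/
theorem result {X Y : Scheme.{u}} [IsLocallyNoetherian Y] (f : X ⟶ Y)
    [LocallyOfFiniteType f] (x : X)
    (hopen : ∀ z : ↥(f.fiber (f.base x)), f.asFiber x ∈ closure {z} →
      (∀ z' : ↥(f.fiber (f.base x)), z ∈ closure {z'} → z' = z) →
      EGA43.IsUnivOpenAt f ((f.fiberι (f.base x)).base z))
    (hred : FBase.IsGeomReducedAt (f.fiberToSpecResidueField (f.base x)) (f.asFiber x))
    (hy : _root_.IsReduced (Y.presheaf.stalk (f.base x))) :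
    ∃ U : X.Opens, x ∈ U ∧ Flat (U.ι ≫ f) ∧ IsReduced (U : Scheme.{u}) := by
  haveI : LocallyOfFinitePresentation f := H18HTop.locallyOfFinitePresentation_of_noetherian f
  haveI : IsLocallyNoetherian X := LocallyOfFiniteType.isLocallyNoetherian f
  have hflat := S2561.result f x hopen hred hy
  let O : X.Opens := ⟨_, H06GeomRed.isOpen_setOf_flat_and_mem_locus f⟩
  obtain ⟨U₁, hxU₁, hU₁, hinj⟩ := X.exists_germ_injective x
  have hxO : x ∈ O := ⟨hflat, hred⟩
  haveI : Flat (O.ι ≫ f) := (Flat.iff_flat_stalkMap _).mpr fun w => by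
    rw [Scheme.Hom.stalkMap_comp]
    simp only [CommRingCat.hom_comp]
    exact RingHom.Flat.comp (O.range_ι.le ⟨w, rfl⟩ : O.ι w ∈ O).1
      (RingHom.Flat.of_bijective (ConcreteCategory.bijective_of_isIso (O.ι.stalkMap w)))
  obtain ⟨x', rfl⟩ := O.range_ι.ge hxO
  haveI hx' : _root_.IsReduced (O.toScheme.presheaf.stalk x') :=
    S2567.result (O.ι ≫ f) x' hy ((H06GeomRed.mem_locus_openImmersion_comp O.ι f x').mpr hred)
  haveI : _root_.IsReduced (X.presheaf.stalk (O.ι x')) :=
    isReduced_of_injective (asIso (O.ι.stalkMap x')).commRingCatIsoToRingEquiv.toRingHom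
      (asIso (O.ι.stalkMap x')).commRingCatIsoToRingEquiv.injective
  haveI : _root_.IsReduced Γ(X, U₁) := isReduced_of_injective _ hinj
  haveI : IsReduced (Spec Γ(X, U₁)) := inferInstance
  haveI : IsReduced U₁.toScheme := isReduced_of_isOpenImmersion hU₁.isoSpec.hom
  refine ⟨O ⊓ U₁, ⟨hxO, hxU₁⟩, ?_, isReduced_of_isOpenImmersion (X.homOfLE (inf_le_right : O ⊓ U₁ ≤ U₁))⟩
  rw [← X.homOfLE_ι (inf_le_left : O ⊓ U₁ ≤ O), Category.assoc]
  infer_instance

end Groth.Agent.S3408
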