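import Groth.Statements.S0508
import Groth.Agent.H9Hens.LocalHens
-- import your own Groth.Agent.* helpers here

set_option autoImplicit false
universe u
open Hensel

namespace Groth.Agent.S0508

/-- The henselization of a local ring induces an isomorphism on residue fields. -/
theorem result (R : Type u) [CommRing R] [IsLocalRing R] (S : Type u) [CommRing S] [IsLocalRing S]
    [Algebra R S] [IsLocalHom (algebraMap R S)] [Hensel.IsHenselization R S] :
    Function.Bijective (IsLocalRing.ResidueField.map (algebraMap R S)) := by
  obtain ⟨π, hπ⟩ := H9Hens.exists_isPtColim_of_isHenselization (R := R) S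
  refine ⟨RingHom.injective _, fun y => ?_⟩
  obtain ⟨x, rfl⟩ := IsLocalRing.residue_surjective y
  obtain ⟨a, ha⟩ := IsLocalRing.residue_surjective (π x)
  refine ⟨IsLocalRing.residue R a, ?_⟩
  rw [IsLocalRing.ResidueField.map_residue]
  refine (Ideal.Quotient.eq.mpr ?_ : IsLocalRing.residue S (algebraMap R S a) = IsLocalRing.residue S x)
  rw [hπ.maximalIdeal_eq, RingHom.mem_ker, map_sub, π.commutes, ← ha, sub_eq_zero]
  rfl

end Groth.Agent.S0508
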