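import Groth.Statements.S7654
import Groth.Agent.H06DeltaBC.Main
import Groth.Agent.H05EGA4.Regular2
import Groth.Agent.S0507
import Groth.Agent.S0508
import Groth.Agent.S0509
import Groth.Agent.S0511
import Groth.Agent.S0538
import Groth.Agent.S0539
import Groth.Agent.S0540

set_option autoImplicit false
universe u
open CategoryTheory CategoryTheory.Limits AlgebraicGeometry
open Variety

namespace Groth.Agent.S7654

/-- For a reduced local Nagata ring A of Krull dimension one, the δ-invariant does not change on passing
to a henselization of A, to a strict henselization of A, or to the completion of A. -/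
theorem result (A : Type u) [CommRing A] [IsLocalRing A]
    [IsReduced A] (hN : CAlg.IsNagata A) (hdim : ringKrullDim A = 1) :
    (∀ (B : Type u) [CommRing B] [IsLocalRing B] [Algebra A B] [IsLocalHom (algebraMap A B)],
        Hensel.IsHenselization A B → Curv2.deltaInv B = Curv2.deltaInv A) ∧
      (∀ (B : Type u) [CommRing B] [IsLocalRing B] [Algebra A B] [IsLocalHom (algebraMap A B)],
        Hensel.IsStrictHenselization A B → Curv2.deltaInv B = Curv2.deltaInv A) ∧
      Curv2.deltaInv (Curv2.cpl A) = Curv2.deltaInv A := by
  haveI : IsNoetherianRing A := hN.1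
  have hsep : ∀ (B : Type u) [CommRing B] [IsLocalRing B] [Algebra A B] [IsLocalHom (algebraMap A B)],
      Function.Surjective (IsLocalRing.ResidueField.map (algebraMap A B)) →
        Algebra.IsSeparable (IsLocalRing.ResidueField A) (IsLocalRing.ResidueField B) := by
    intro B _ _ _ _ hs
    exact ⟨fun x => by obtain ⟨y, rfl⟩ := hs x; exact isSeparable_algebraMap y⟩
  refine ⟨fun B _ _ _ _ hB => ?_, fun B _ _ _ _ hB => ?_, ?_⟩
  · haveI := hB
    haveI := hsep B (Groth.Agent.S0508.result A B).2
    haveI := (Groth.Agent.S0511.result A B).mp inferInstance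
    haveI := Groth.Agent.S0509.result A B
    exact H06DeltaBC.deltaInv_eq A B hN hdim (Groth.Agent.S0507.result A B)
  · haveI := hB
    haveI := (Hensel.IsStrictHenselization.isSepClosure (R := A) (S := B)).2
    haveI := (Groth.Agent.S0540.result A B).mp inferInstance
    haveI := Groth.Agent.S0539.result A B
    exact H06DeltaBC.deltaInv_eq A B hN hdim (Groth.Agent.S0538.result A B)
  · haveI : IsNoetherianRing (Curv2.cpl A) := H05EGA4.isNoetherianRing_adicCompletion A _
    haveI := hsep (Curv2.cpl A) (AdicCompletion.residueField_map_bijective A).2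
    haveI : Module.FaithfullyFlat A (Curv2.cpl A) := Module.FaithfullyFlat.of_flat_of_isLocalHom
    exact H06DeltaBC.deltaInv_eq A (Curv2.cpl A) hN hdim AdicCompletion.maximalIdeal_eq_map.symm

end Groth.Agent.S7654
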