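import Groth.Statements.S7421
import Mathlib.RingTheory.Nilpotent.Basic
import Mathlib.AlgebraicGeometry.Properties

set_option autoImplicit false
universe u
open CategoryTheory AlgebraicGeometry
open HTop

namespace Groth.Agent.S7421

/-- A seminormal ring is reduced, and a seminormal scheme is reduced. -/
theorem result :
    (∀ (A : Type u) [CommRing A], HTop.IsSeminormalRing A → IsReduced A) ∧
    ∀ (X : Scheme.{u}), HTop.IsSeminormal X → AlgebraicGeometry.IsReduced X := by
  have hring : ∀ (A : Type u) [CommRing A], HTop.IsSeminormalRing A → _root_.IsReduced A := by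
    intro A _ h
    rw [isReduced_iff_pow_one_lt 2 one_lt_two]
    intro x hx
    obtain ⟨c, -, hc⟩ := h 0 0 (by simp)
    exact (hc x ⟨hx.symm, by rw [pow_succ, hx, zero_mul]⟩).trans (hc 0 ⟨by simp, by simp⟩).symm
  refine ⟨hring, fun X h => ?_⟩
  have : ∀ x : X, _root_.IsReduced (X.presheaf.stalk x) := fun x => by
    obtain ⟨⟨U, hU⟩, hxU, hUs⟩ := h x
    have := hring Γ(X, U) hUs
    letI := TopCat.Presheaf.algebra_section_stalk X.presheaf ⟨x, hxU⟩
    have := hU.isLocalization_stalk ⟨x, hxU⟩
    exact isReduced_localizationPreserves (hU.primeIdealOf ⟨x, hxU⟩).asIdeal.primeCompl (X.presheaf.stalk x) ‹_›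
  exact isReduced_of_isReduced_stalk X

end Groth.Agent.S7421
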