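import Groth.Statements.S12905
import Mathlib
import Groth.Agent.H28Int.Vanishing
import Groth.Agent.H28Int.Core
import Groth.Agent.H10Coh.Stab.TwistInt
import Groth.Agent.H10Coh.TwistExact
import Groth.Agent.H10Coh.AmpleDevissage

set_option autoImplicit false
universe u
open CategoryTheory CategoryTheory.Limits AlgebraicGeometry
open Variety

namespace Groth.Agent.S12905

/-- Let k be a field and φ : F' → F a monomorphism of coherent modules on P^n_k whose cokernel has
support of Krull dimension at most zero (a finite set of closed points, possibly empty). If F' is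
m-regular then F is m-regular. (The published statement is the case of an ideal sheaf contained in
the ideal sheaf of a curve with quotient supported at finitely many points, phrased as an inequality
of regularities; the argument gives the form stated here.) -/
theorem result (k : Type u) [Field k] (n : ℕ)
    (F' F : (CohB1.ProjSpace n k).Modules) (hF' : Coh.IsCoh F') (hF : Coh.IsCoh F) (φ : F' ⟶ F) [Mono φ]
    (hsupp : topologicalKrullDim (CohB1.support (cokernel φ)) ≤ 0) (m : ℤ)
    (h : Curv2.IsMRegular k n F' m) : Curv2.IsMRegular k n F m := by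
  haveI : IsProper (CohB1.ProjSpace n k ↘ Spec (CommRingCat.of k)) :=
    inferInstanceAs (IsProper (CohB1.ProjSpace.toSpec n k))
  haveI := H28Int.isNoetherian k (X := CohB1.ProjSpace n k)
  haveI : (CohB1.ProjSpace n k).IsSeparated := Scheme.IsSeparated.mk (by
    rw [← terminal.comp_from (CohB1.ProjSpace.toSpec n k)]; infer_instance)
  intro i hi hin
  have hO := H10Coh.Stab.isTwistFamily_projSpace n k
  have hS : (ShortComplex.mk φ (cokernel.π φ) (cokernel.condition φ)).ShortExact :=
    ShortComplex.ShortExact.mk' (ShortComplex.exact_cokernel φ) inferInstance inferInstance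
  have hS' := H10Coh.Tw.shortExact_seq hS (hO.inv (m - i))
  have hQ := H10Coh.isCoh_cokernel φ hF'.1 hF
  refine @Equiv.subsingleton _ _ (H10Coh.HHEquiv _ i).toEquiv
    (H10Coh.Tw.subsingleton_X₂ (H10Coh.shortExact_sh hS')
      (@Equiv.subsingleton _ _ (H10Coh.HHEquiv _ i).toEquiv.symm (h i hi hin)) ?_)
  have hQ' : Coh.IsCoh (CohB1.tensorMod (cokernel φ) (Twist.twistProjSpace n k (m - i))) :=
    H11Ample.isCoh_tensor hQ (hO.inv _)
  exact H28Int.subsingleton_HnM_of_support
    ⟨CohB1.support (cokernel φ), H10Coh.isClosed_support _ hQ.2⟩ 0 (by simpa using hsupp) _ hQ'.1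
    (H25Euler.support_tensor_subset _ _) i (by omega)

end Groth.Agent.S12905
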