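import Groth.Statements.S14059
import Groth.Agent.H19Grp.Cartier
import Mathlib

set_option autoImplicit false
set_option linter.style.haveILetI false
universe u
open CategoryTheory MonoidalCategory CartesianMonoidalCategory MonObj GrpObj AlgebraicGeometry
open GrpSch

namespace Groth.Agent.S14059

theorem resMap_bijective {k : Type u} [Field k] [IsAlgClosed k] {X : Scheme.{u}}
    (f : X ⟶ Spec (CommRingCat.of k)) [LocallyOfFiniteType f] (x : X) (hx : IsClosed ({x} : Set X)) :
    Function.Bijective (((X.residue x).hom.comp
      ((X.presheaf.germ ⊤ x trivial).hom.comp (Coh.toGlobal f))) : k → X.residueField x) := by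
  let ψ : CommRingCat.of k ⟶ X.residueField x :=
    (Scheme.ΓSpecIso (CommRingCat.of k)).inv ≫ f.appTop ≫ X.presheaf.germ ⊤ x trivial ≫ X.residue x
  have h : (residueFieldIsoBase f x hx).inv = ψ := by
    apply Spec.map_injective
    rw [SpecMap_residueFieldIsoBase_inv]
    apply ext_of_isAffine
    rw [Scheme.fromSpecResidueField, Category.assoc, Scheme.Hom.comp_appTop, Scheme.Hom.comp_appTop,
      Scheme.fromSpecStalk_appTop, ← cancel_mono (Scheme.ΓSpecIso _).hom]
    refine Eq.trans ?_ (Scheme.ΓSpecIso_naturality ψ).symm
    simp [ψ, Scheme.ΓSpecIso_naturality]
  have := ConcreteCategory.bijective_of_isIso (residueFieldIsoBase f x hx).inv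
  rw [h] at this
  exact this


/-- Let k be an algebraically closed field and G a group scheme of finite type over k, with unit point e
(the image of the unit section). Then the tangent space of G at e is zero, that is the cotangent
space m_e/m_e² of the local ring O_{G,e} vanishes, if and only if G is isomorphic over k to a finite
disjoint union of copies of Spec k, stated as: the underlying space of G is finite and discrete and
the structure map k → O_{G,g} is bijective for every point g. (The published statement is over an
arbitrary field; the group scheme of cube roots of unity over the rationals has zero tangent space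
at the unit but a point with residue field larger than the base field, and the printed argument
translates by rational points, so the base field is taken algebraically closed here.) -/
theorem result (k : Type u) [Field k] [IsAlgClosed k]
    (G : Over (Spec (CommRingCat.of k))) [GrpObj G] [LocallyOfFiniteType G.hom] [QuasiCompact G.hom]
    (e : G.left) (he : e ∈ Set.range (η[G]).left.base) :
    letI : G.left.Over (Spec (CommRingCat.of k)) := ⟨G.hom⟩
    Subsingleton (IsLocalRing.CotangentSpace (G.left.presheaf.stalk e)) ↔
      (Finite G.left ∧ DiscreteTopology G.left ∧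
        ∀ g : G.left, Function.Bijective (Curv2.stalkMap k G.left g)) := by
  letI : G.left.Over (Spec (CommRingCat.of k)) := ⟨G.hom⟩
  haveI := LocallyOfFiniteType.jacobsonSpace G.hom
  haveI : IsLocallyNoetherian G.left := LocallyOfFiniteType.isLocallyNoetherian G.hom
  obtain ⟨e₀, rfl⟩ := he
  obtain rfl : e₀ = IsLocalRing.closedPoint k := Subsingleton.elim (α := PrimeSpectrum k) _ _
  rw [IsLocalRing.subsingleton_cotangentSpace_iff]
  constructor
  · intro hF
    have hfield : ∀ x : G.left, IsClosed ({x} : Set G.left) → IsField (G.left.presheaf.stalk x) := by
      intro x hx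
      obtain ⟨α, hα⟩ := Groth.Agent.H19Grp.exists_iso_unitPt G x hx
      haveI : IsIso α.hom.left := inferInstanceAs (IsIso ((Over.forget _).map α.hom))
      rw [← hα]
      exact MulEquiv.isField hF
        (asIso (α.hom.left.stalkMap (Groth.Agent.H19Grp.unitPt G))).commRingCatIsoToRingEquiv.toMulEquiv
    have hclosed : ∀ y : G.left, IsClosed ({y} : Set G.left) := by
      intro y
      obtain ⟨x, hxy, hx⟩ := nonempty_inter_closedPoints (X := G.left) (Z := closure {y})
        ⟨y, subset_closure rfl⟩ isClosed_closure.isLocallyClosed
      have hyx : y ⤳ x := specializes_iff_mem_closure.mpr hxy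
      have hmem : y ∈ Set.range (G.left.fromSpecStalk x) := by
        rw [Scheme.range_fromSpecStalk]; exact hyx
      obtain ⟨p, hp⟩ := hmem
      letI := (hfield x hx).toField
      rw [Subsingleton.elim (α := PrimeSpectrum (G.left.presheaf.stalk x)) p
        (IsLocalRing.closedPoint _), Scheme.fromSpecStalk_closedPoint] at hp
      rw [← hp]; exact hx
    haveI : CompactSpace G.left := QuasiCompact.compactSpace_of_compactSpace G.hom
    haveI : IsNoetherian G.left := {}
    haveI : T1Space G.left := ⟨hclosed⟩
    haveI : Finite G.left := by
      have hsub : (Set.univ : Set (Set G.left)) ∩ Set.range (fun y : G.left => ({y} : Set G.left)) ⊆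
          irreducibleComponents G.left := by
        rintro _ ⟨-, y, rfl⟩
        refine ⟨isIrreducible_singleton, fun Z hZ hy => ?_⟩
        have hg := hZ.closure.isGenericPoint_genericPoint isClosed_closure
        have hcl : closure Z = {hZ.closure.genericPoint} := hg.def.symm.trans (hclosed _).closure_eq
        intro z hz
        have h1 : z ∈ ({hZ.closure.genericPoint} : Set G.left) := hcl ▸ subset_closure hz
        have h2 : y ∈ ({hZ.closure.genericPoint} : Set G.left) := hcl ▸ subset_closure (hy rfl)
        simp only [Set.mem_singleton_iff] at h1 h2 ⊢
        rw [h1, h2]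
      have hfin := TopologicalSpace.NoetherianSpace.finite_irreducibleComponents (α := G.left)
      rw [Set.univ_inter] at hsub
      have := hfin.subset hsub
      exact (Set.finite_range_iff Set.singleton_injective).mp this
    refine ⟨‹Finite G.left›, inferInstance, fun g => ?_⟩
    letI := (hfield g (hclosed g)).toField
    have hb := resMap_bijective G.hom g (hclosed g)
    have hres : Function.Injective (G.left.residue g).hom := RingHom.injective _
    refine ⟨fun a b hab => hb.1 (congrArg (G.left.residue g).hom hab), fun s => ?_⟩
    obtain ⟨a, ha⟩ := hb.2 ((G.left.residue g).hom s)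
    exact ⟨a, hres ha⟩
  · rintro ⟨-, -, hbij⟩
    exact MulEquiv.isField (Field.toIsField k)
      (RingEquiv.ofBijective _ (hbij (η[G].left (IsLocalRing.closedPoint k)))).symm.toMulEquiv

end Groth.Agent.S14059
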