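import Groth.Statements.S1647
import Mathlib
import Groth.Agent.H22Alg.CMField

set_option autoImplicit false
universe u
open CategoryTheory CategoryTheory.Limits AlgebraicGeometry
open Variety

namespace Groth.Agent.S1647

/-- Let F be a coherent module on P^n_k which is m-regular. Then F(m) = F ⊗ O(m) is globally generated. -/
theorem result (k : Type u) [Field k] (n : ℕ) (F : (CohB1.ProjSpace n k).Modules) (hF : Coh.IsCoh F) (m : ℤ)
    (h : Curv2.IsMRegular k n F m) : Curv2.IsGloballyGenerated (CohB1.tensorMod F (Twist.twistProjSpace n k m)) := by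
  letI : (CohB1.ProjSpace n k).Over (Spec (CommRingCat.of k)) := ⟨CohB1.ProjSpace.toSpec n k⟩
  haveI : IsProper (CohB1.ProjSpace n k ↘ Spec (CommRingCat.of k)) :=
    inferInstanceAs (IsProper (CohB1.ProjSpace.toSpec n k))
  haveI : CompactSpace (CohB1.ProjSpace n k) := H11Ample.compactSpace_projSpace n k
  haveI : QuasiSeparatedSpace (CohB1.ProjSpace n k) :=
    quasiSeparatedSpace_of_quasiSeparated (CohB1.ProjSpace n k ↘ Spec (CommRingCat.of k))
  exact H22Alg.CMField.isGloballyGenerated (H22Alg.CMField.setup k n) (H11Ample.isAmple_twistProjSpace n k) hF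
    ((H22Alg.CMField.reg_iff hF m).2 h)

end Groth.Agent.S1647
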