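import Groth.Statements.S9318
import Groth.Agent.H02CA.AdicSmooth

set_option autoImplicit false
universe u
open CAlg

namespace Groth.Agent.S9318

/-- Let `R → S` be a ring map and `𝔫 ⊆ S` a finitely generated ideal, and let `S^` be the `𝔫`-adic
completion of `S`. Then `R → S` is formally smooth for the `𝔫`-adic topology if and only if `R → S^`
is formally smooth for the adic topology of the extension of `𝔫` to `S^`. No Noetherian hypothesis
is made on `S`. -/
theorem result {R S : Type u} [CommRing R] [CommRing S]
    [Algebra R S] (𝔫 : Ideal S) (h𝔫 : 𝔫.FG) :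
    CAlgX.IsAdicFormallySmooth R S 𝔫 ↔
      CAlgX.IsAdicFormallySmooth R (AdicCompletion 𝔫 S) (𝔫.map (algebraMap S (AdicCompletion 𝔫 S))) := by
  exact H02CA.AdicSmooth.iff_adicCompletion 𝔫 h𝔫

end Groth.Agent.S9318
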