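import Groth.Statements.S12726
import Groth.Agent.H24Art.Tangent

set_option autoImplicit false
universe u v
open CategoryTheory
open ArtFun

namespace Groth.Agent.S12726

/-- For functors, if F is a functor on Artinian local Λ-algebras with residue field k with F(k) a point
and satisfying (S2), then its tangent space F(k[ε]) admits the natural k-vector space structure:
scalar multiplication by c is F(ε ↦ cε) and the sum of the two projections of an element of F(k[ε₁,
ε₂]) is its image under εᵢ ↦ ε. -/
theorem result {Λ : Type u} {k : Type u} [CommRing Λ] [Field k] [Algebra Λ k]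
    [IsNoetherianRing Λ] [Module.Finite Λ k]
    (F : ArtFun.Art Λ k ⥤ Type v) (h0 : ArtFun.H0 F) (h2 : ArtFun.Heps F) :
    Nonempty (ArtFun.TangentStr F) := by
  exact Groth.Agent.H24Art.nonempty_tangentStr h0 h2

end Groth.Agent.S12726
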