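import Groth.Statements.S15131
import Groth.Agent.H24Art.Double

set_option autoImplicit false
universe u v
open CategoryTheory
open ArtFun

namespace Groth.Agent.S15131

/-- Let k be a field and F a functor on local Artinian k-algebras with residue field k with F(k) a
single point, satisfying (H1) (the comparison map of A₁ ×_A A₂ is surjective when A₂ → A is a small
extension) and (H2) (it is bijective when A = k and A₂ = k[ε]). If the tangent space F(k[ε]) is a
single point then F is the one-point functor: every F(A) has exactly one element. (The converse is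
clear.) -/
theorem result
    {k : Type u} [Field k] (F : ArtFun.Art k k ⥤ Type v)
    (h0 : ArtFun.H0 F) (h1 : ArtFun.Hbar F) (h2 : ArtFun.Heps F)
    (ht : Subsingleton (ArtFun.TangentSpace F)) (A : ArtFun.Art k k) :
    Nonempty (F.obj A) ∧ Subsingleton (F.obj A) := by
  have hne : Nonempty (F.obj A) := h0.1.map (F.map (⟨Algebra.ofId k A, AlgHom.ext fun c => A.res.commutes c⟩ : ArtFun.Art.base k k ⟶ A))
  refine ⟨hne, ?_⟩
  refine Groth.Agent.H24Art.art_induction (fun A => Subsingleton (F.obj A)) ?_ ?_ h0.2 A
  · intro A B e he hA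
    exact (Groth.Agent.H24Art.map_bijective_of_isIso F e).injective.subsingleton
  · intro A B p hp hA
    refine ⟨fun y y' => ?_⟩
    obtain ⟨P, p₁, p₂, g, d, hP, hPg, hd₁, hd₂, hdg⟩ := Groth.Agent.H24Art.exists_double hp
    obtain ⟨w, hw⟩ := h1 p₁ p₂ p p hP hp ⟨(y, y'), Subsingleton.elim _ _⟩
    have e₁ : F.map p₁ w = y := congrArg (fun z => z.1.1) hw
    have e₂ : F.map p₂ w = y' := congrArg (fun z => z.1.2) hw
    rw [← e₁, ← e₂]
    exact (Groth.Agent.H24Art.snd_eq_fst_of_diff F h2 hPg hd₁ hd₂ hdg w (ht.elim _ _)).symm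

end Groth.Agent.S15131
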