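import Groth.Statements.S9763


set_option autoImplicit false
universe u
open FlatMor

namespace Groth.Agent.S9763
open CategoryTheory AlgebraicGeometry in
theorem exists_lift_opens {X : Scheme.{u}} {A : Type u} [CommRing A] (I : Ideal A) (hI : I ^ 2 = ⊥)
    (U : X.Opens) (a : Spec (CommRingCat.of (A ⧸ I)) ⟶ U) (l : Spec (CommRingCat.of A) ⟶ X)
    (hl : Spec.map (CommRingCat.ofHom (Ideal.Quotient.mk I)) ≫ l = a ≫ U.ι) :
    ∃ m : Spec (CommRingCat.of A) ⟶ U, m ≫ U.ι = l := by
  refine ⟨IsOpenImmersion.lift U.ι l ?_, IsOpenImmersion.lift_fac _ _ _⟩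
  rintro _ ⟨p, rfl⟩
  have hp : p ∈ Set.range (PrimeSpectrum.comap (Ideal.Quotient.mk I)) := by
    rw [range_comap_of_surjective _ _ Ideal.Quotient.mk_surjective, Ideal.mk_ker]
    intro x hx
    exact p.2.mem_of_pow_mem 2
      (by have := Ideal.pow_mem_pow hx 2; rw [hI] at this; rw [Ideal.mem_bot] at this; simp [this])
  obtain ⟨q, rfl⟩ := hp
  rw [Scheme.Opens.range_ι]
  show (Spec.map (CommRingCat.ofHom (Ideal.Quotient.mk I)) ≫ l) q ∈ U
  rw [hl]
  exact (a q).2


open AlgebraicGeometry CategoryTheory Limits in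
/-- Let f : X ⟶ S be formally smooth (infinitesimal lifting against square-zero thickenings of affine
schemes), and let U be an open of X and V an open of S with U contained in the preimage of V under
f. Then the induced morphism U ⟶ V is formally smooth. -/
theorem result {X S : Scheme.{u}} (f : X ⟶ S) (hf : MoreMor.IsFormallySmoothHom f)
    (U : X.Opens) (V : S.Opens) (h : U ≤ f ⁻¹ᵁ V) : MoreMor.IsFormallySmoothHom (f.resLE V U h) := by
  intro A _ I hI a b hab
  have hab' : Spec.map (CommRingCat.ofHom (Ideal.Quotient.mk I)) ≫ (b ≫ V.ι) = (a ≫ U.ι) ≫ f := by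
    rw [← Category.assoc, hab, Category.assoc, Scheme.Hom.resLE_comp_ι, ← Category.assoc]
  obtain ⟨l, hla, hlb⟩ := hf A I hI (a ≫ U.ι) (b ≫ V.ι) hab'
  obtain ⟨m, hm⟩ := exists_lift_opens I hI U a l hla
  refine ⟨m, ?_, ?_⟩
  · rw [← cancel_mono U.ι, Category.assoc, hm, hla]
  · rw [← cancel_mono V.ι, Category.assoc, Scheme.Hom.resLE_comp_ι, ← Category.assoc, hm, hlb]

end Groth.Agent.S9763
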