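import Groth.Statements.S8906
import Groth.Agent.H17.KoszulBC
import Groth.Agent.H29Slice.RegImm
import Groth.Agent.H29Slice.TransBC
import Groth.Agent.H29Slice.SeqOps

set_option autoImplicit false
universe u
open CategoryTheory CategoryTheory.Limits AlgebraicGeometry TopologicalSpace
open SDiv

namespace Groth.Agent.S8906

/-- Let i : Z ⟶ X be an immersion which is regular of one of the four kinds (regular, Koszul-regular,
H_1-regular or quasi-regular) and g : X' ⟶ X a flat morphism. Then the base change Z ×_X X' ⟶ X' of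
i is a regular immersion of the same kind. -/
theorem result {Z X X' : Scheme.{u}} (i : Z ⟶ X) (k : RegImm.Kind)
    (hi : RegImm.IsRegularImmersion k i) (g : X' ⟶ X) [Flat g] :
    RegImm.IsRegularImmersion k (pullback.snd i g) := by
  haveI := hi.1
  have hsq := IsPullback.of_hasPullback i g
  refine ⟨MorphismProperty.of_isPullback (P := @IsImmersion) hsq hi.1, fun z' => ?_⟩
  obtain ⟨U, hz, hcl, rs, hrs, hker⟩ := hi.2 (pullback.fst i g z')
  have hzz : pullback.snd i g z' ∈ g ⁻¹ᵁ U.1 := by
    show g (pullback.snd i g z') ∈ U.1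
    rw [← Scheme.Hom.comp_apply, ← hsq.w]
    exact hz
  obtain ⟨W, hW, hzW, hWU⟩ := exists_isAffineOpen_mem_and_subset (U := g ⁻¹ᵁ U.1) hzz
  obtain ⟨hcl', hker'⟩ := Groth.Agent.H29Slice.restrict_baseChange hsq U.2 hcl hW (e := hWU)
  letI := (g.appLE U.1 W hWU).hom.toAlgebra
  haveI : Module.Flat Γ(X, U.1) Γ(X', W) := HasRingHomProperty.appLE @Flat g inferInstance U ⟨W, hW⟩ hWU
  have hk : RingHom.ker ((pullback.snd i g).app W).hom =
      Ideal.ofList (rs.map (algebraMap Γ(X, U.1) Γ(X', W))) := by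
    rw [hker', hker, Ideal.map_ofList]
    rfl
  refine ⟨⟨W, hW⟩, hzW, hcl', rs.map (algebraMap Γ(X, U.1) Γ(X', W)), ?_, hk⟩
  cases k with
  | koszul => exact Groth.Agent.H17.KoszulBC.isKoszulRegularSeq_map _ hrs
  | regular =>
    exact H29Slice.isRegular_of_mem _ z' hzW hrs.toIsWeaklyRegular.of_flat hk
  | h1 => exact H29Slice.seq_flat (Or.inl rfl) hrs
  | quasi => exact H29Slice.seq_flat (Or.inr rfl) hrs

end Groth.Agent.S8906
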