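import Groth.Statements.S10869
import Groth.Agent.H10Inj.GGOn
-- import your own Groth.Agent.* helpers here

set_option autoImplicit false
set_option linter.style.haveILetI false
set_option backward.isDefEq.respectTransparency false
universe u
open Coh

namespace Groth.Agent.S10869

open CategoryTheory AlgebraicGeometry TopologicalSpace Opposite Groth.Agent.H10Inj.GGOn

attribute [local instance] H06Mod.stalkAlgebra

variable {X S : Scheme.{u}} (f : X ⟶ S) (F : X.Modules)

/-- The stalk of the counit on a pulled-back germ. -/
theorem counit_pullStalk (x : X) (U : S.Opens) (hx : f x ∈ U) (t : Γ(F, f ⁻¹ᵁ U)) :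
    H06Mod.stalkLin ((Scheme.Modules.pullbackPushforwardAdjunction f).counit.app F) x
        (H06Mod.pullStalk f ((Scheme.Modules.pushforward f).obj F) x
          (((Scheme.Modules.pushforward f).obj F).presheaf.germ U (f x) hx (H11Ample.pushSec f F U t))) =
      F.presheaf.germ (f ⁻¹ᵁ U) x hx t := by
  erw [H06Mod.pullStalk_germ, H06Mod.stalkLin_germ, H11Ample.counit_app_pullSect]
  rfl

theorem epi_counit_iff_spansOn [QuasiCompact f] [QuasiSeparated f] (hF : Coh.IsQCoh F) :
    Epi ((Scheme.Modules.pullbackPushforwardAdjunction f).counit.app F) ↔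
      ∀ U : S.Opens, IsAffineOpen U → SpansOn F (f ⁻¹ᵁ U) := by
  rw [H8Props.FunDescent.epi_iff]
  constructor
  · intro h U hU x hx
    haveI : F.IsQuasicoherent := hF
    have hG : Coh.IsQCoh ((Scheme.Modules.pushforward f).obj F) :=
      H10Coh.isQuasicoherent_pushforward f F
    let P := Submodule.span (X.presheaf.stalk x)
      (Set.range fun t : Γ(F, f ⁻¹ᵁ U) => F.presheaf.germ (f ⁻¹ᵁ U) x hx t)
    change P = ⊤
    rw [eq_top_iff]
    rintro w -
    obtain ⟨v, rfl⟩ := h x w
    obtain ⟨v, rfl⟩ := (H06Mod.pullStalkLin_bijective f ((Scheme.Modules.pushforward f).obj F) x).2 v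
    induction v using TensorProduct.induction_on with
    | zero => rw [map_zero, map_zero]; exact zero_mem _
    | add a b ha hb => rw [map_add, map_add]; exact add_mem ha hb
    | tmul r m =>
      rw [H06Mod.pullStalkLin_tmul, map_smul]
      refine P.smul_mem _ ?_
      have hm : m ∈ Submodule.span (S.presheaf.stalk (f x))
          (Set.range fun s : Γ((Scheme.Modules.pushforward f).obj F, U) =>
            ((Scheme.Modules.pushforward f).obj F).presheaf.germ U (f x) hx s) :=
        (H29Ref.span_germ_all _ hG hU le_rfl (f x) hx).symm ▸ Submodule.mem_top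
      induction hm using Submodule.span_induction with
      | mem z hz =>
        obtain ⟨s, rfl⟩ := hz
        erw [counit_pullStalk f F x U hx s]
        exact Submodule.subset_span ⟨s, rfl⟩
      | zero => rw [map_zero, map_zero]; exact zero_mem _
      | add a b _ _ ha hb => rw [map_add, map_add]; exact add_mem ha hb
      | smul c a _ ha =>
        rw [H06Mod.pullStalk_smul, map_smul]
        exact P.smul_mem _ ha
  · intro h x
    obtain ⟨U, hU, hxU, -⟩ :=
      exists_isAffineOpen_mem_and_subset (x := f x) (U := ⊤) (Opens.mem_top _)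
    rw [← LinearMap.range_eq_top, eq_top_iff, ← h U hU x hxU, Submodule.span_le]
    rintro _ ⟨t, rfl⟩
    exact ⟨_, counit_pullStalk f F x U hxU t⟩



open CategoryTheory AlgebraicGeometry in
/-- For f : X → S quasi-compact and quasi-separated and F a quasi-coherent O_X-module, the counit
f^*f_*F → F is an epimorphism iff F is a quotient of f^*G for some quasi-coherent O_S-module G, iff
the restriction of F to the inverse image of every affine open of S is globally generated. -/
theorem result {X S : Scheme.{u}} (f : X ⟶ S) [QuasiCompact f] [QuasiSeparated f]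
    (F : X.Modules) (hF : Coh.IsQCoh F) :
    (Epi ((Scheme.Modules.pullbackPushforwardAdjunction f).counit.app F) ↔
      ∃ G : S.Modules, Coh.IsQCoh G ∧ ∃ φ : (Scheme.Modules.pullback f).obj G ⟶ F, Epi φ) ∧
    (Epi ((Scheme.Modules.pullbackPushforwardAdjunction f).counit.app F) ↔
      ∀ U : S.Opens, IsAffineOpen U → Curv2.IsGloballyGenerated (F.restrict (f ⁻¹ᵁ U).ι)) := by
  have h2 := epi_counit_iff_spansOn f F hF
  refine ⟨⟨fun h => ⟨_, ?_, _, h⟩, ?_⟩, ?_⟩
  · haveI : F.IsQuasicoherent := hF
    exact H10Coh.isQuasicoherent_pushforward f F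
  · rintro ⟨G, -, φ, hφ⟩
    have e : (Scheme.Modules.pullback f).map
        ((Scheme.Modules.pullbackPushforwardAdjunction f).homEquiv G F φ) ≫
          (Scheme.Modules.pullbackPushforwardAdjunction f).counit.app F = φ := by
      exact ((Scheme.Modules.pullbackPushforwardAdjunction f).homEquiv_counit G F _).symm.trans
        (Equiv.symm_apply_apply _ φ)
    haveI := hφ
    exact epi_of_epi_fac e
  · simp only [isGloballyGenerated_restrict_iff]
    exact h2


end Groth.Agent.S10869
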