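import Groth.Statements.S8270
import Groth.Agent.H11Sym.SymSheaf

set_option autoImplicit false
universe u
open CategoryTheory CategoryTheory.Limits AlgebraicGeometry Opposite TopologicalSpace
open EGA2

namespace Groth.Agent.S8270

/-- For a quasi-coherent O_S-module E the symmetric algebra Sym(E) exists as a quasi-coherent
O_S-algebra: there are a quasi-coherent O_S-algebra A and a module map j : E → A through which every
module map from E to a quasi-coherent O_S-algebra extends uniquely to an algebra homomorphism. -/
theorem result {S : Scheme.{u}} (E : S.Modules) (hE : Coh.IsQCoh E) :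
    ∃ (A : RelSpec.QCAlg S) (j : E ⟶ A.toModule), RelSpec.IsSymAlg E A j := by
  obtain ⟨A, j, hj⟩ := H11Sym.exists_affSym E hE
  exact ⟨A, j, hj.isSymAlg⟩

end Groth.Agent.S8270
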