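import Groth.Statements.S7572
import Groth.Agent.H15Site.TopPushforward

set_option linter.style.haveILetI false
open CategoryTheory CategoryTheory.Limits Opposite

set_option autoImplicit false
universe u
open CategoryTheory TopologicalSpace
open ShSp

namespace Groth.Agent.S7572

/-- Let i : Z → X be the inclusion of a closed subset (a closed embedding) and F a sheaf of sets on Z.
Then (i_* F)_x is a one-point set for x ∉ Z, and the counit i⁻¹ i_* F → F is an isomorphism (whence
(i_* F)_{i(z)} = F_z). -/
theorem result {Z X : TopCat.{u}} (i : Z ⟶ X) (hi : Topology.IsClosedEmbedding i)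
    (F : Z.Sheaf (Type u)) :
    (∀ x : X, x ∉ Set.range i →
      Nonempty (Unique (((TopCat.Sheaf.pushforward (Type u) i).obj F).presheaf.stalk x))) ∧
    IsIso ((TopCat.Sheaf.pullbackPushforwardAdjunction (Type u) i).counit.app F) := by
  refine ⟨fun x hx => ?_, ?_⟩
  · let E : Opens X := ⟨(Set.range i)ᶜ, hi.isClosed_range.isOpen_compl⟩
    have hu : ∀ W : Opens X, W ≤ E → ∃! _s : F.1.obj (op ((Opens.map i).obj W)), True := by
      intro W hW
      obtain ⟨s, -, hs⟩ := F.existsUnique_gluing' (fun e : PEmpty.{u+1} => e.elim)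
        ((Opens.map i).obj W) (fun e => e.elim) (fun z hz => absurd ⟨z, rfl⟩ (hW hz))
        (fun e => e.elim) (fun e => e.elim)
      exact ⟨s, trivial, fun t _ => hs t (fun e => e.elim)⟩
    let G := ((TopCat.Sheaf.pushforward (Type u) i).obj F).presheaf
    let s₀ : G.obj (op E) := (hu E le_rfl).exists.choose
    refine ⟨⟨⟨G.germ E x hx s₀⟩, fun t => ?_⟩⟩
    obtain ⟨W, hxW, hWE, s, rfl⟩ : ∃ (W : Opens X) (hxW : x ∈ W) (_ : W ≤ E) (s : G.obj (op W)),
        G.germ W x hxW s = t := by
      obtain ⟨W, hxW, s, rfl⟩ := TopCat.Presheaf.exists_germ_eq G t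
      exact ⟨W ⊓ E, ⟨hxW, hx⟩, inf_le_right, G.map (homOfLE inf_le_left).op s, G.germ_res_apply _ _ _ _⟩
    show _ = G.germ E x hx s₀
    rw [← G.germ_res_apply (homOfLE hWE) x hxW s₀]
    congr 1
    exact (hu W hWE).unique trivial trivial
  · haveI : (TopCat.Sheaf.pushforward (Type u) i).IsRightAdjoint :=
      (TopCat.Sheaf.pullbackPushforwardAdjunction (Type u) i).isRightAdjoint
    exact Groth.Agent.H15Site.isIso_counit_of_isInducing i (Type u) hi.isInducing _ F

end Groth.Agent.S7572
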