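import Groth.Statements.S7573
import Groth.Agent.H15Site.TopPushforward
import Groth.Agent.S7572

set_option linter.style.haveILetI false
open CategoryTheory CategoryTheory.Limits Opposite

set_option autoImplicit false
universe u
open CategoryTheory TopologicalSpace
open ShSp

namespace Groth.Agent.S7573

/-- Let i : Z → X be the inclusion of a closed subset (a closed embedding). Then i_* : Sh(Z) → Sh(X) on
sheaves of sets is fully faithful, and its essential image consists exactly of the sheaves G whose
stalk G_x is a one-point set for every x ∈ X not in Z. -/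
theorem result {Z X : TopCat.{u}} (i : Z ⟶ X) (hi : Topology.IsClosedEmbedding i) :
    (TopCat.Sheaf.pushforward (Type u) i).Full ∧ (TopCat.Sheaf.pushforward (Type u) i).Faithful ∧
    ∀ G : X.Sheaf (Type u), (TopCat.Sheaf.pushforward (Type u) i).essImage G ↔
      ∀ x : X, x ∉ Set.range i → Nonempty (Unique (G.presheaf.stalk x)) := by
  obtain ⟨hF, hFa⟩ := Groth.Agent.H15Site.pushforward_full_faithful i (Type u) hi.isInducing
  refine ⟨hF, hFa, fun G => ⟨?_, fun hG => ?_⟩⟩
  · rintro ⟨F, ⟨e⟩⟩ x hx
    obtain ⟨h⟩ := (Groth.Agent.S7572.result i hi F).1 x hx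
    exact ⟨@Equiv.unique _ _ h ((TopCat.Sheaf.forget (Type u) X ⋙ TopCat.Presheaf.stalkFunctor (Type u) x).mapIso e).toEquiv.symm⟩
  let E : Opens X := ⟨(Set.range i)ᶜ, hi.isClosed_range.isOpen_compl⟩
  have hsub : ∀ W : Opens X, W ≤ E → ∀ a b : G.presheaf.obj (op W), a = b := fun W hW a b =>
    TopCat.Presheaf.section_ext G W a b fun x hx => by
      obtain ⟨h⟩ := hG x (hW hx)
      exact Subsingleton.elim _ _
  obtain ⟨e₀⟩ : Nonempty (G.presheaf.obj (op E)) := by
    have hc : ∀ x : E, ∃ (W : Opens X) (_ : x.1 ∈ W), W ≤ E ∧ Nonempty (G.presheaf.obj (op W)) := by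
      intro x
      obtain ⟨h⟩ := hG x.1 x.2
      obtain ⟨W, hW, s, -⟩ := TopCat.Presheaf.exists_germ_eq G.presheaf h.default
      exact ⟨W ⊓ E, ⟨hW, x.2⟩, inf_le_right, ⟨G.presheaf.map (homOfLE inf_le_left).op s⟩⟩
    choose W hxW hWE hs using hc
    obtain ⟨s, -⟩ := G.existsUnique_gluing' W E (fun x => homOfLE (hWE x))
      (fun x hx => Opens.mem_iSup.2 ⟨⟨x, hx⟩, hxW ⟨x, hx⟩⟩) (fun x => (hs x).some)
      (fun x y => hsub _ (inf_le_left.trans (hWE x)) _ _)
    exact ⟨s⟩
  let R := Groth.Agent.H15Site.largestOpen i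
  have hmR := Groth.Agent.H15Site.map_largestOpen i hi.isInducing
  have hle : ∀ {U : Opens X} {V : Opens Z}, (Opens.map i).obj U ≤ V → U ≤ R.obj V := fun h => le_sSup h
  have hER : ∀ V : Opens Z, E ≤ R.obj V := fun V => hle fun z hz => absurd ⟨z, rfl⟩ hz
  have hF : TopCat.Presheaf.IsSheaf (R.op ⋙ G.presheaf) := by
    rw [TopCat.Presheaf.isSheaf_iff_isSheafUniqueGluing]
    intro ι V sf hsf
    let W : Option ι → Opens X := fun o => o.elim E fun k => R.obj (V k)
    let sg : ∀ o, G.presheaf.obj (op (W o)) := fun o => match o with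
      | none => e₀
      | some k => sf k
    have hW : ∀ o, W o ≤ R.obj (iSup V) := fun o => match o with
      | none => hER _
      | some k => (R.map (homOfLE (le_iSup V k))).le
    have hcov : R.obj (iSup V) ≤ iSup W := by
      intro x hx
      by_cases hr : x ∈ Set.range i
      · obtain ⟨z, rfl⟩ := hr
        have hz : z ∈ iSup V := (hmR _).le hx
        obtain ⟨k, hk⟩ := Opens.mem_iSup.1 hz
        exact Opens.mem_iSup.2 ⟨some k, ((hmR (V k)).ge hk : z ∈ (Opens.map i).obj (R.obj (V k)))⟩
      · exact Opens.mem_iSup.2 ⟨none, hr⟩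
    have hc : TopCat.Presheaf.IsCompatible G.1 W sg := by
      rintro (_ | a) (_ | b)
      · exact hsub _ inf_le_left _ _
      · exact hsub _ inf_le_left _ _
      · exact hsub _ inf_le_right _ _
      · have h₁ : R.obj (V a) ⊓ R.obj (V b) ≤ R.obj (V a ⊓ V b) :=
          hle (le_inf (fun z hz => (hmR (V a)).le hz.1) (fun z hz => (hmR (V b)).le hz.2))
        have h := congrArg (G.presheaf.map (homOfLE h₁).op) (hsf a b)
        simp only [Functor.comp_map] at h
        erw [← ConcreteCategory.comp_apply, ← ConcreteCategory.comp_apply, ← Functor.map_comp, ← Functor.map_comp] at h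
        exact h
    obtain ⟨s, hs, hu⟩ := G.existsUnique_gluing' W (R.obj (iSup V)) (fun o => homOfLE (hW o)) hcov sg hc
    refine ⟨s, fun k => ?_, fun t ht => hu t fun o => ?_⟩
    · exact hs (some k)
    · cases o with
      | none => exact hsub E le_rfl _ _
      | some k => exact ht k
  let α : (Opens.map i).op ⋙ R.op ⋙ G.presheaf ⟶ G.presheaf :=
    { app := fun U => G.presheaf.map (homOfLE (hle (le_refl ((Opens.map i).obj U.unop)))).op
      naturality := fun U U' k => by
        simp only [Functor.comp_map, ← Functor.map_comp]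
        congr 1 }
  have : ∀ U, IsIso (α.app U) := by
    intro U
    rw [isIso_iff_bijective]
    refine ⟨fun a b hab => TopCat.Presheaf.section_ext G _ a b fun x hx => ?_, fun s => ?_⟩
    · by_cases hr : x ∈ Set.range i
      · obtain ⟨z, rfl⟩ := hr
        have hz : z ∈ (Opens.map i).obj U.unop := (hmR _).le hx
        have hab' := congrArg (G.presheaf.germ U.unop (i z) hz) hab
        simp only [α] at hab'
        exact ((G.presheaf.germ_res_apply _ (i z) hz a).symm.trans hab').trans (G.presheaf.germ_res_apply _ (i z) hz b)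
      · obtain ⟨h⟩ := hG x hr
        exact Subsingleton.elim _ _
    · let W : Option PUnit.{u+1} → Opens X := fun o => o.elim E fun _ => U.unop
      let sg : ∀ o, G.presheaf.obj (op (W o)) := fun o => match o with
        | none => e₀
        | some _ => s
      obtain ⟨t, ht, -⟩ := G.existsUnique_gluing' W (R.obj ((Opens.map i).obj U.unop))
        (fun o => homOfLE (match o with | none => hER _ | some _ => hle le_rfl)) (by
          intro x hx
          by_cases hr : x ∈ Set.range i
          · obtain ⟨z, rfl⟩ := hr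
            exact Opens.mem_iSup.2 ⟨some PUnit.unit, ((hmR _).le hx : z ∈ (Opens.map i).obj U.unop)⟩
          · exact Opens.mem_iSup.2 ⟨none, hr⟩) sg (by
          rintro (_ | a) (_ | b)
          · rfl
          · exact hsub _ inf_le_left _ _
          · exact hsub _ inf_le_right _ _
          · rfl)
      exact ⟨t, ht (some PUnit.unit)⟩

  refine ⟨⟨R.op ⋙ G.presheaf, hF⟩, ⟨?_⟩⟩
  exact (fullyFaithfulSheafToPresheaf (Opens.grothendieckTopology X) (Type u)).preimageIso (NatIso.ofComponents (fun U => @asIso _ _ _ _ (α.app U) (this U)) (fun k => α.naturality k))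

end Groth.Agent.S7573
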