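import Groth.Statements.S11133
import Groth.Agent.H10Coh.FlatBC.FlatSheaf
-- import your own Groth.Agent.* helpers here

set_option autoImplicit false
universe u
open CategoryTheory AlgebraicGeometry
open Coherent

namespace Groth.Agent.S11133

attribute [local instance 10000] Groth.Agent.H10Coh.hasSheafifyAb Groth.Agent.H10Coh.hasWeakSheafifyAb Groth.Agent.H10Coh.hasExtAb Groth.Agent.H10Coh.enoughInjAb

/-- Let f : X → Y be quasi-compact and quasi-separated, g : Y' → Y flat, and X' the fibre product with
projections g' : X' → X, f' : X' → Y'. For a quasi-coherent O_X-module M the base change morphism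
g^* f_* M → f'_* g'^* M, namely the composite g^* f_* M → g^* f_* g'_* g'^* M = g^* g_* f'_* g'^* M
→ f'_* g'^* M of the unit of g', the identification of the two composite direct images, and the
counit of g, is an isomorphism. -/
theorem result {X Y X' Y' : Scheme.{u}} (f : X ⟶ Y) (g : Y' ⟶ Y)
    (g' : X' ⟶ X) (f' : X' ⟶ Y') (h : IsPullback g' f' f g) [QuasiCompact f] [QuasiSeparated f] [Flat g]
    (M : X.Modules) [Coh.IsQCoh M] :
    IsIso ((Scheme.Modules.pullback g).map ((Scheme.Modules.pushforward f).map
        ((Scheme.Modules.pullbackPushforwardAdjunction g').unit.app M)) ≫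
      (Scheme.Modules.pullback g).map ((Scheme.Modules.pushforwardComp g' f ≪≫
          Scheme.Modules.pushforwardCongr h.w ≪≫ (Scheme.Modules.pushforwardComp f' g).symm).hom.app
        ((Scheme.Modules.pullback g').obj M)) ≫
      (Scheme.Modules.pullbackPushforwardAdjunction g).counit.app
        ((Scheme.Modules.pushforward f').obj ((Scheme.Modules.pullback g').obj M))) := by
  haveI : Flat g' := MorphismProperty.of_isPullback (P := @Flat) h.flip inferInstance
  haveI := H10Coh.enoughInjMod X
  haveI := H10Coh.enoughInjMod X'
  haveI : M.IsQuasicoherent := ‹Coh.IsQCoh M›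
  haveI : ∀ k, Injective ((H10Coh.MRes.inj ((Scheme.Modules.pullback g').obj M)).I k) := fun k =>
    H10Coh.injective_mI _ k
  have hN : ((Scheme.Modules.pushforward f).obj M).IsQuasicoherent :=
    H10Coh.isQuasicoherent_pushforward f M
  have hα : H10Coh.FBC.α₀ (g' := g') M (H10Coh.MRes.inj M)
      (H10Coh.MRes.inj ((Scheme.Modules.pullback g').obj M)) rfl rfl =
      (Scheme.Modules.pullbackPushforwardAdjunction g').unit.app M :=
    (Category.id_comp _).trans ((congrArg (_ ≫ ·) ((Scheme.Modules.pushforward g').map_id _)).trans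
      (Category.comp_id _))
  haveI := H10Coh.FBC.isIso_transpose g (N := (Scheme.Modules.pushforward f).obj M) hN
    (H10Coh.FBC.τPush h ((Scheme.Modules.pullbackPushforwardAdjunction g').unit.app M))
    (fun V V' hV hV' hle => hα ▸ H10Coh.FBC.bijective_locLin_zero h
      (H10Coh.FBC.gres (g' := g') (H10Coh.MRes.inj M) (H10Coh.MRes.inj ((Scheme.Modules.pullback g').obj M)) M rfl rfl)
      ‹Coh.IsQCoh M› hle hV hV')
  have e := (Scheme.Modules.pullbackPushforwardAdjunction g).homEquiv_counit _ _
    (H10Coh.FBC.τPush h ((Scheme.Modules.pullbackPushforwardAdjunction g').unit.app M))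
  rw [H10Coh.FBC.τPush, Functor.map_comp, Category.assoc] at e
  exact e ▸ this


end Groth.Agent.S11133
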