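import Groth.Statements.S9716
import Groth.Agent.H8Props.FinLocFree.Global
-- import your own Groth.Agent.* helpers here

set_option autoImplicit false
universe u
open CategoryTheory AlgebraicGeometry
open Mor

namespace Groth.Agent.S9716

/-- (1) ⇔ (2): a morphism f : X ⟶ S is affine with direct image f_*O_X a finite locally free O_S-module
(locally on S isomorphic to a finite direct sum of copies of the structure sheaf, of possibly
varying rank) if and only if f is finite, flat and locally of finite presentation. -/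
theorem result {X S : Scheme.{u}} (f : X ⟶ S) :
    (IsAffineHom f ∧ FlatMod.IsFinLocFree ((Scheme.Modules.pushforward f).obj (Coh.structureModule X))) ↔
      Mor2.IsFinLocFree f := by
  constructor
  · rintro ⟨hA, hF⟩
    haveI := hA
    have key : ∀ (W : S.Opens), IsAffineOpen W →
        (f.app W).hom.Finite ∧ (f.app W).hom.Flat ∧ (f.app W).hom.FinitePresentation := by
      intro W hW
      obtain ⟨h1, h2⟩ := Groth.Agent.H8Props.FinLocFree.finite_projective_sections _ hF hW
      letI := (f.app W).hom.toAlgebra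
      haveI : Module.Finite Γ(S, W) Γ(X, f ⁻¹ᵁ W) := h1
      haveI : Module.Projective Γ(S, W) Γ(X, f ⁻¹ᵁ W) := h2
      haveI : Module.FinitePresentation Γ(S, W) Γ(X, f ⁻¹ᵁ W) := Module.finitePresentation_of_projective _ _
      exact ⟨h1, (inferInstance : Module.Flat Γ(S, W) Γ(X, f ⁻¹ᵁ W)),
        (inferInstance : Algebra.FinitePresentation Γ(S, W) Γ(X, f ⁻¹ᵁ W))⟩
    haveI hfin : IsFinite f := ⟨fun W hW => (key W hW).1⟩
    refine ⟨hfin, ?_, ?_⟩
    · refine (HasRingHomProperty.iff_exists_appLE (P := @Flat) (RingHom.Flat.stableUnderComposition.stableUnderCompositionWithLocalizationAway RingHom.Flat.holdsForLocalizationAway).1).mpr fun x => ?_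
      obtain ⟨W, hW, hxW, -⟩ := exists_isAffineOpen_mem_and_subset (TopologicalSpace.Opens.mem_top (f x))
      exact ⟨⟨W, hW⟩, ⟨f ⁻¹ᵁ W, hW.preimage f⟩, hxW, le_rfl, by rw [← Scheme.Hom.app_eq_appLE]; exact (key W hW).2.1⟩
    · refine (HasRingHomProperty.iff_exists_appLE (P := @LocallyOfFinitePresentation) (RingHom.finitePresentation_stableUnderComposition.stableUnderCompositionWithLocalizationAway RingHom.finitePresentation_holdsForLocalizationAway).1).mpr fun x => ?_
      obtain ⟨W, hW, hxW, -⟩ := exists_isAffineOpen_mem_and_subset (TopologicalSpace.Opens.mem_top (f x))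
      exact ⟨⟨W, hW⟩, ⟨f ⁻¹ᵁ W, hW.preimage f⟩, hxW, le_rfl, by rw [← Scheme.Hom.app_eq_appLE]; exact (key W hW).2.2⟩
  · rintro ⟨hfin, hflat, hlfp⟩
    haveI := hfin; haveI := hflat; haveI := hlfp
    refine ⟨inferInstance, ?_⟩
    have hq : Coh.IsQCoh ((Scheme.Modules.pushforward f).obj (Coh.structureModule X)) :=
      @Groth.Agent.H10Coh.isQuasicoherent_pushforward_of_isAffineHom _ _ f _ _ Groth.Agent.H10Coh.isQuasicoherent_unit
    refine Groth.Agent.H8Props.FinLocFree.isFinLocFree_of_sections _ hq fun y => ?_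
    obtain ⟨W, hW, hxW, -⟩ := exists_isAffineOpen_mem_and_subset (TopologicalSpace.Opens.mem_top y)
    letI := (f.app W).hom.toAlgebra
    have hf' : Module.Flat Γ(S, W) Γ(X, f ⁻¹ᵁ W) := by
      have := HasRingHomProperty.appLE @Flat f hflat ⟨W, hW⟩ ⟨f ⁻¹ᵁ W, hW.preimage f⟩ le_rfl
      rw [← Scheme.Hom.app_eq_appLE] at this
      exact this
    haveI : Module.Finite Γ(S, W) Γ(X, f ⁻¹ᵁ W) := f.finite_app W hW
    haveI : Algebra.FinitePresentation Γ(S, W) Γ(X, f ⁻¹ᵁ W) := by
      have := HasRingHomProperty.appLE @LocallyOfFinitePresentation f hlfp ⟨W, hW⟩ ⟨f ⁻¹ᵁ W, hW.preimage f⟩ le_rfl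
      rw [← Scheme.Hom.app_eq_appLE] at this
      exact this
    exact ⟨W, hW, hxW, Module.FinitePresentation.of_finite_of_finitePresentation Γ(S, W) Γ(X, f ⁻¹ᵁ W), hf'⟩

end Groth.Agent.S9716
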