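import Groth.Statements.S4652
import Groth.Agent.H16Derived.KFlat.PerfTilde
import Groth.Agent.H7Lim.ModLocFree

set_option autoImplicit false
open CategoryTheory AlgebraicGeometry
universe u
open FDesc

namespace Groth.Agent.S4652

open Groth.Agent
set_option linter.style.haveILetI false
set_option backward.isDefEq.respectTransparency false

/-- Let X be a scheme, F a finitely presented O_X-module and x a point of X. Then F_x is a flat module
over the local ring O_{X,x} if and only if x has an open neighbourhood U such that the restriction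
of F to U is finite locally free. -/
theorem result {X : Scheme.{u}} (F : X.Modules) (hF : CohB1.IsFP F) (x : X) :
    FlatMod.IsFlatAt F x ↔ ∃ U : X.Opens, x ∈ U ∧ FlatMod.IsFinLocFree ((Scheme.Modules.pullback U.ι).obj F) := by
  refine ⟨fun h => ?_, ?_⟩
  · have hq := H29Fitt.isQCoh_of_isFP F hF
    obtain ⟨_, ⟨U, hU : IsAffineOpen U, rfl⟩, hxU, -⟩ :=
      X.isBasis_affineOpens.exists_subset_of_mem_open (Set.mem_univ x) isOpen_univ
    let P := hU.primeIdealOf ⟨x, hxU⟩
    haveI := H8Props.FinLocFree.finitePresentation_sections F hF hU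
    letI := TopCat.Presheaf.algebra_section_stalk X.presheaf (⟨x, hxU⟩ : U)
    letI := Module.compHom (F.presheaf.stalk x) (algebraMap Γ(X, U) (X.presheaf.stalk x))
    haveI : IsScalarTower Γ(X, U) (X.presheaf.stalk x) (F.presheaf.stalk x) :=
      .of_algebraMap_smul fun _ _ => rfl
    haveI := H29Fitt.isLocalizedModule_germLin F hq hU ⟨x, hxU⟩
    haveI : IsLocalization.AtPrime (X.presheaf.stalk x) P.asIdeal := hU.isLocalization_stalk ⟨x, hxU⟩
    have h1 : Module.Flat Γ(X, U) (F.presheaf.stalk x) :=
      (Module.flat_iff_of_isLocalization (X.presheaf.stalk x) P.asIdeal.primeCompl (F.presheaf.stalk x)).1 h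
    have h2 : Module.Flat Γ(X, U) (LocalizedModule P.asIdeal.primeCompl Γ(F, U)) :=
      (Module.Flat.equiv_iff (IsLocalizedModule.iso P.asIdeal.primeCompl (H29Fitt.germLin F ⟨x, hxU⟩))).2 h1
    haveI : Module.Flat (Localization.AtPrime P.asIdeal) (LocalizedModule P.asIdeal.primeCompl Γ(F, U)) :=
      (Module.flat_iff_of_isLocalization (Localization.AtPrime P.asIdeal) P.asIdeal.primeCompl _).2 h2
    haveI : Module.Free (Localization.AtPrime P.asIdeal) (LocalizedModule P.asIdeal.primeCompl Γ(F, U)) :=
      Module.free_of_flat_of_isLocalRing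
    obtain ⟨f, r, m, hf, hs, hi⟩ := H8Props.FinLocFree.exists_basis_upTo (M := Γ(F, U)) P.asIdeal
    haveI := H8Props.FinLocFree.isIso_basicHom F hq hU f m hs hi
    refine ⟨X.basicOpen f, ?_, ?_⟩
    · by_contra hn
      refine hf ((H29Blow.mem_primeIdealOf_iff hU ⟨x, hxU⟩ f).mpr fun hu => hn ?_)
      exact (X.mem_basicOpen f x hxU).mpr hu
    · refine H7Lim.ModLocFree.isFinLocFree_of_iso
        ((Scheme.Modules.restrictFunctorIsoPullback (X.basicOpen f).ι).app F) ?_
      refine H7Lim.ModLocFree.isFinLocFree_of_iso (asIso (H29Fitt.basicHom F f m)) ?_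
      exact fun z => ⟨⊤, r, trivial, ⟨(Scheme.Modules.restrictFunctorIsoPullback _).app _ ≪≫
        H16Derived.KFlat.Stalk.freeModPullbackIso _ r⟩⟩
  · rintro ⟨U, hxU, hfree⟩
    refine H16Derived.KFlat.Stalk.isFlatAt_of_restrict U.ι ⟨x, hxU⟩ ?_
    exact H8Props.FinLocFree.isFlatAt_of_isFinLocFree _
      (H7Lim.ModLocFree.isFinLocFree_of_iso ((Scheme.Modules.restrictFunctorIsoPullback U.ι).app F).symm hfree) _

end Groth.Agent.S4652
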