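import Groth.Statements.S8873
import Mathlib
import Groth.Agent.H29Fitt.FP

set_option autoImplicit false
universe u
open CategoryTheory CategoryTheory.Limits AlgebraicGeometry TopologicalSpace
open SDiv

namespace Groth.Agent.S8873

/-- Let S be a scheme and F a finitely presented O_S-module. Then for every r the Fitting ideal sheaf
Fit_r(F) is of finite type: its ideal of sections over every affine open is finitely generated. -/
theorem result (S : Scheme.{u}) (F : S.Modules) (hF : CohB1.IsFP F) (r : ℕ) :
    BlowUp.IsFiniteTypeIdeal (Fitt.sheafIdeal F r) := by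
  intro U
  rw [Groth.Agent.H29Fitt.sheafIdeal_ideal F (Groth.Agent.H29Fitt.isQCoh_of_isFP F hF)
    (Groth.Agent.H29Fitt.isFT_of_isFP F hF)]
  exact Groth.Agent.H29Fitt.fg_ideal F hF r U

end Groth.Agent.S8873
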