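import Groth.Statements.S8876
import Mathlib
import Groth.Agent.H29Fitt.Sheaf

set_option autoImplicit false
universe u
open CategoryTheory CategoryTheory.Limits AlgebraicGeometry TopologicalSpace
open SDiv

namespace Groth.Agent.S8876

/-- Let S be a scheme and F a quasi-coherent O_S-module of finite type. Then the closed subset of S cut
out by Fit_0(F) equals the support of F (the scheme-theoretic support and the Fit_0 subscheme have
the same underlying set). -/
theorem result (S : Scheme.{u}) (F : S.Modules) (hF : Coh.IsQCoh F) (hft : CohB1.IsFT F) :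
    ((Fitt.sheafIdeal F 0).support : Set ↥S) = CohB1.support F := by
  ext x
  obtain ⟨_, ⟨U, hU : IsAffineOpen U, rfl⟩, hxU, -⟩ :=
    S.isBasis_affineOpens.exists_subset_of_mem_open (Set.mem_univ x) isOpen_univ
  haveI := Groth.Agent.H29Fitt.finite_sections F hF hft ⟨U, hU⟩
  haveI := TopCat.Presheaf.algebra_section_stalk S.presheaf (⟨x, hxU⟩ : U)
  rw [SetLike.mem_coe, Groth.Agent.H29Fitt.mem_support_iff F hF hft 0 hU ⟨x, hxU⟩]
  have h := Set.ext_iff.mp (Groth.Agent.H29Fitt.zeroLocus_ideal_zero (R := Γ(S, U)) (M := Γ(F, U)))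
    (hU.primeIdealOf ⟨x, hxU⟩)
  rw [PrimeSpectrum.mem_zeroLocus, SetLike.coe_subset_coe] at h
  rw [h, Module.mem_support_iff]
  letI := TopCat.Presheaf.algebra_section_stalk S.presheaf (⟨x, hxU⟩ : U)
  letI := Module.compHom (F.presheaf.stalk x) (algebraMap Γ(S, U) (S.presheaf.stalk x))
  haveI := Groth.Agent.H29Fitt.isLocalizedModule_germLin F hF hU ⟨x, hxU⟩
  have e := IsLocalizedModule.iso (hU.primeIdealOf ⟨x, hxU⟩).asIdeal.primeCompl
    (Groth.Agent.H29Fitt.germLin F (⟨x, hxU⟩ : U))
  change _ ↔ ¬ Subsingleton (F.presheaf.stalk x)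
  rw [not_subsingleton_iff_nontrivial]
  exact e.toEquiv.nontrivial_congr

end Groth.Agent.S8876
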