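import Groth.Statements.S0047
import Groth.Agent.H10Coh.Support
import Groth.Agent.H10Coh.Affine
import Groth.Agent.H10Coh.CohLocal
import Mathlib.Topology.NoetherianSpace

set_option autoImplicit false
set_option linter.style.haveILetI false
universe u
open CategoryTheory AlgebraicGeometry Opposite TopologicalSpace
open Coherent

attribute [local instance 10000] Groth.Agent.H10Coh.hasSheafifyAb Groth.Agent.H10Coh.hasWeakSheafifyAb
  Groth.Agent.H10Coh.hasExtAb Groth.Agent.H10Coh.enoughInjAb

namespace Groth.Agent.LeadS0047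

theorem finite_inter {X : Scheme.{u}} [IsLocallyNoetherian X] {V : X.Opens} (hV : IsAffineOpen V)
    {S : Set X} (hS : IsClosed S) (h0 : ∀ x ∈ S, IsClosed ({x} : Set X)) : (S ∩ V).Finite := by
  haveI : IsNoetherianRing Γ(X, V) := IsLocallyNoetherian.component_noetherian ⟨V, hV⟩
  haveI : NoetherianSpace (V : Set X) := noetherianSpace_of_isAffineOpen V hV
  haveI : NoetherianSpace (S ∩ V : Set X) := by
    let e : (S ∩ V : Set X) → (V : Set X) := fun x => ⟨x.1, x.2.2⟩
    have he : Topology.IsInducing e := Topology.IsInducing.of_comp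
      (continuous_subtype_val.subtype_mk _) continuous_subtype_val Topology.IsInducing.subtypeVal
    exact he.noetherianSpace
  have hsub : ∀ c ∈ irreducibleComponents (S ∩ V : Set X), c.Subsingleton := by
    intro c hc
    have hirr : IsIrreducible (closure (Subtype.val '' c)) :=
      (hc.1.image _ continuous_subtype_val.continuousOn).closure
    obtain ⟨z, hz⟩ := QuasiSober.sober hirr isClosed_closure
    obtain ⟨a, ha⟩ := hc.1.1
    have hzS : z ∈ S := closure_minimal (by rintro _ ⟨w, -, rfl⟩; exact w.2.1) hS hz.mem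
    have hsing : closure (Subtype.val '' c) = {z} := hz.def.symm.trans (h0 z hzS).closure_eq
    intro p hp q hq
    refine Subtype.ext ?_
    have h1 : p.1 ∈ ({z} : Set X) := hsing ▸ subset_closure ⟨p, hp, rfl⟩
    have h2 : q.1 ∈ ({z} : Set X) := hsing ▸ subset_closure ⟨q, hq, rfl⟩
    exact (Set.mem_singleton_iff.1 h1).trans (Set.mem_singleton_iff.1 h2).symm
  have : (Set.univ : Set (S ∩ V : Set X)).Finite := by
    rw [← sUnion_irreducibleComponents]
    exact NoetherianSpace.finite_irreducibleComponents.sUnion fun c hc => (hsub c hc).finite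
  exact Set.finite_coe_iff.1 (Set.finite_univ_iff.1 this)

theorem isClosed_of_subset {X : Scheme.{u}} [IsLocallyNoetherian X] {S A : Set X}
    (hS : IsClosed S) (h0 : ∀ x ∈ S, IsClosed ({x} : Set X)) (hA : A ⊆ S) : IsClosed A := by
  rw [← isOpen_compl_iff, isOpen_iff_forall_mem_open]
  intro x hx
  obtain ⟨V, hV, hxV, -⟩ := exists_isAffineOpen_mem_and_subset (U := (⊤ : X.Opens)) (x := x) trivial
  have hfin : (A ∩ V).Finite := (finite_inter hV hS h0).subset fun y hy => ⟨hA hy.1, hy.2⟩
  have hcl : IsClosed (A ∩ V) := by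
    rw [← Set.biUnion_of_singleton (A ∩ V)]
    exact hfin.isClosed_biUnion fun y hy => h0 y (hA hy.1)
  exact ⟨(V : Set X) \ (A ∩ V), fun y hy hyA => hy.2 ⟨hyA, hy.1⟩, V.2.sdiff hcl, hxV, fun h => hx h.1⟩

end Groth.Agent.LeadS0047

namespace Groth.Agent.S0047

open AlgebraicGeometry in
/-- On a locally Noetherian scheme, a coherent module whose support consists of closed points (i.e. has
dimension ≤ 0) satisfies H^i(X, F) = 0 for all i > 0. (Global generation is not stated.) -/
theorem result (X : Scheme.{u}) [IsLocallyNoetherian X]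
    (M : X.Modules) (hM : Coh.IsCoh M) (h0 : ∀ x ∈ CohB1.support M, IsClosed ({x} : Set X))
    (i : ℕ) (hi : 0 < i) : Subsingleton (Coh.HH X M i) := by
  obtain ⟨n, rfl⟩ := Nat.exists_eq_succ_of_ne_zero hi.ne'
  have hS := H10Coh.isClosed_support M hM.2
  refine @Equiv.subsingleton _ _ (H10Coh.HHEquiv M (n + 1)).toEquiv
    (H10Coh.subsingleton_of_flasque (fun (W V : X.Opens) hVW t => ?_) n _)
  let O : X.Opens := W ⊓ ⟨(CohB1.support M ∩ (V : Set X))ᶜ,
    (LeadS0047.isClosed_of_subset hS h0 Set.inter_subset_left).isOpen_compl⟩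
  have hz : ∀ s : Γ(M, V ⊓ O), s = 0 := fun s => by
    refine TopCat.Presheaf.section_ext (⟨M.presheaf, M.isSheaf⟩ : TopCat.Sheaf Ab.{u} X) _ _ _ fun y hy => ?_
    show M.presheaf.germ _ y hy s = M.presheaf.germ _ y hy 0
    haveI : Subsingleton (M.presheaf.stalk y) := by
      by_contra hns
      exact hy.2.2 ⟨hns, hy.1⟩
    exact Subsingleton.elim _ _
  obtain ⟨w, hw1, -⟩ := H10Coh.glue_two M (U := V) (V := O) (show Γ(M, V) from t) 0
    ((hz _).trans (map_zero _).symm)
  have hW : W ≤ V ⊔ O := fun x hx => by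
    by_cases hxV : x ∈ V
    · exact Or.inl hxV
    · exact Or.inr ⟨hx, fun h => hxV h.2⟩
  refine ⟨H10Coh.rs M hW w, ?_⟩
  show H10Coh.rs M hVW (H10Coh.rs M hW w) = t
  rw [H10Coh.rs_rs]
  exact hw1

end Groth.Agent.S0047
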