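import Groth.Statements.S14512
import Groth.Agent.H29CurveDual.SingularEmbedding
import Groth.Agent.H28Curve.ProjLine
import Groth.Agent.H27Weil.Geometry
import Groth.Agent.H29RR.PointAux
import Groth.Agent.H29RR.Consts

set_option autoImplicit false
universe u
open CategoryTheory CategoryTheory.Limits AlgebraicGeometry
open Curves

namespace Groth.Agent.S14512

attribute [local instance 10000] H10Coh.hasSheafifyAb H10Coh.hasWeakSheafifyAb H10Coh.hasExtAb H10Coh.enoughInjAb
attribute [local instance] Curv2.resAlgebra

/-- A closed immersion between integral curves is an isomorphism. -/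
theorem isIso_of_closedImmersion_curves {X Y : Scheme.{u}} [IsIntegral Y] [IsNoetherian Y] (f : X ⟶ Y)
    [IsClosedImmersion f] (hX : topologicalKrullDim X = 1) (hY : topologicalKrullDim Y ≤ 1) : IsIso f := by
  have hg : genericPoint Y ∈ Set.range f := by
    by_contra hg
    have hS := f.isClosedEmbedding.isClosed_range
    haveI : QuasiSober (Set.range f) := hS.isClosedEmbedding_subtypeVal.quasiSober
    haveI : CompactSpace (Set.range f) := isCompact_iff_compactSpace.mp hS.isCompact
    haveI : TopologicalSpace.NoetherianSpace (Set.range f) := Topology.IsInducing.subtypeVal.noetherianSpace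
    have hd := H25Euler.dim_lt_of_forall_ne (Set.range f) hS
      (fun y _ => ⟨genericPoint Y, genericPoint_specializes y, hg⟩)
      (d := 1) (lt_of_le_of_lt hY (by norm_num))
    rw [← IsHomeomorph.topologicalKrullDim_eq _ f.isClosedEmbedding.isEmbedding.toHomeomorph.isHomeomorph, hX] at hd
    exact lt_irrefl _ (hd.trans_le (by norm_num))
  haveI : Surjective f := ⟨fun y => by
    have : closure {genericPoint Y} ⊆ Set.range f :=
      (f.isClosedEmbedding.isClosed_range).closure_subset_iff.2 (Set.singleton_subset_iff.2 hg)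
    exact this ((genericPoint_specializes y).mem_closure)⟩
  exact isIso_of_isClosedImmersion_of_surjective f


/-- Let k be an algebraically closed field and X a complete curve over k (integral, proper over k, of
dimension one) of arithmetic genus dim_k H^1(X, O_X) = 0. Then X is smooth over k. (Over a
non-closed field an integral proper curve with vanishing H^1 need not be smooth, e.g. a projective
line over an inseparable extension of k viewed over k.) -/
theorem result (k : Type u) [Field k] [IsAlgClosed k] (X : Scheme.{u}) [X.Over (Spec (CommRingCat.of k))]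
    [IsIntegral X] [IsProper (X ↘ (Spec (CommRingCat.of k)))] (hdim : topologicalKrullDim X = 1)
    (hg : Curv2.genus k X = 0) :
    Smooth (X ↘ (Spec (CommRingCat.of k))) := by
  let p := X ↘ Spec (CommRingCat.of k)
  haveI := H29RR.isNoetherian_of_proper (k := k) (X := X)
  haveI : JacobsonSpace X := LocallyOfFiniteType.jacobsonSpace p
  obtain ⟨x, hxV, hx⟩ := nonempty_inter_closedPoints (Z := (p.smoothLocus : Set X))
    (p.dense_smoothLocus_of_perfectField.nonempty) p.smoothLocus.2.isLocallyClosed
  rw [mem_closedPoints_iff] at hx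
  haveI : Smooth (p.smoothLocus.ι ≫ p) := by
    rw [← Scheme.Hom.smoothLocus_eq_top_iff, ← Scheme.Hom.preimage_smoothLocus_eq]
    exact TopologicalSpace.Opens.ext (Set.eq_univ_of_forall fun z => z.2)
  haveI := H19Grp.isRegularLocalRing_stalk_of_smooth (p.smoothLocus.ι ≫ p) ⟨x, hxV⟩
  haveI : IsRegularLocalRing (X.presheaf.stalk x) :=
    IsRegularLocalRing.of_ringEquiv (p.smoothLocus.stalkIso ⟨x, hxV⟩).commRingCatIsoToRingEquiv
  obtain ⟨L, hL, -, hdeg, -, -⟩ := H29RR.exists_add_point (k := k) hx
    (H29RR.isInvertible_pt_of_regular (k := k) hdim hx) (H11Ample.isInvertible_structureModule (X := X))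
  rw [H29RR.finrank_residue_eq_one (k := k) hx, H29RR.deg_structureModule] at hdeg
  have h0 := H29RR.finrank_h0_structure k X
  obtain ⟨n, r, hr, hrk, -, hn⟩ := H29CurveDual.exists_closedImmersion_of_deg_ge (k := k) hdim.le h0 hL
    (by rw [hg, hdeg]; norm_num)
  obtain rfl : n = 1 := by rw [hg, hdeg] at hn; omega
  haveI := hr
  obtain ⟨hint, -, hPdim⟩ := H28Curve.projLine_facts k
  haveI : IsIntegral (CohB1.ProjSpace 1 k) := hint
  haveI : IsProper (CohB1.ProjSpace.toSpec 1 k) := H27Weil.isProper_toSpec 1 k
  letI : (CohB1.ProjSpace 1 k).Over (Spec (CommRingCat.of k)) := ⟨CohB1.ProjSpace.toSpec 1 k⟩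
  haveI : IsProper ((CohB1.ProjSpace 1 k) ↘ Spec (CommRingCat.of k)) :=
    inferInstanceAs (IsProper (CohB1.ProjSpace.toSpec 1 k))
  haveI := H29RR.isNoetherian_of_proper (k := k) (X := CohB1.ProjSpace 1 k)
  haveI : IsIso r := isIso_of_closedImmersion_curves r hdim hPdim.le
  haveI : Smooth (CohB1.ProjSpace.toSpec 1 k) := H26Smooth.smooth_toSpec 1 k
  rw [← hrk]
  infer_instance

end Groth.Agent.S14512
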