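import Groth.Statements.S4642
import Groth.Agent.H06EGA9.ProductDim

set_option autoImplicit false
open CategoryTheory AlgebraicGeometry
universe u
open FBase

namespace Groth.Agent.S4642

open Groth.Agent.H8Props.FieldDim Groth.Agent.H06EGA9 CategoryTheory.Limits TopologicalSpace Set
set_option backward.isDefEq.respectTransparency false

/-- Let X be a scheme locally of finite type over a field k and K an extension field of k. Then X ⊗_k K
and X have the same dimension. (Dimension is the Krull dimension of the underlying topological
space, which for schemes locally of finite type over a field agrees with the supremum of the
transcendence degrees of the residue fields at maximal points.) -/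
theorem result {k K : Type u} [Field k] [Field K] [Algebra k K] {X : Scheme.{u}}
    (f : X ⟶ Spec (CommRingCat.of k)) [LocallyOfFiniteType f] :
    topologicalKrullDim ↥(FBase.bc f K) = topologicalKrullDim ↥X := by
  exact dim_baseChange (k := k) (K := K) f _ _ (IsPullback.of_hasPullback f _)

end Groth.Agent.S4642
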