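import Groth.Statements.S2909
import Groth.Agent.H18Quot.Categorical
import Mathlib.RingTheory.Adjoin.Tower

set_option autoImplicit false
open CategoryTheory CategoryTheory.Limits AlgebraicGeometry
universe u
open SGA1

namespace Groth.Agent.S2909

/-- Let a finite group G act on a scheme X by automorphisms over a scheme Z (structure morphism f), and
let p : X ⟶ Y be a quotient of X by G with Y ⟶ Z the induced morphism q (so p ≫ q = f). Then X is
affine over Z iff Y is, X is separated over Z iff Y is; if f is locally of finite type then p is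
finite; and if moreover Z is locally Noetherian and f quasi-compact then q is of finite type
(locally of finite type and quasi-compact). -/
theorem result {X Y Z : Scheme.{u}} {G : Type u} [Group G] [Finite G] (ρ : G →* Aut X)
    (p : X ⟶ Y) (hp : SGA1.IsQuot ρ p) (f : X ⟶ Z) (q : Y ⟶ Z) (hq : p ≫ q = f) (hρ : ∀ g : G, (ρ g).hom ≫ f = f) :
    (IsAffineHom f ↔ IsAffineHom q) ∧ (IsSeparated f ↔ IsSeparated q) ∧
    (LocallyOfFiniteType f → IsFinite p) ∧
    (IsLocallyNoetherian Z → LocallyOfFiniteType f → QuasiCompact f → LocallyOfFiniteType q ∧ QuasiCompact q) := by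
  subst hq
  haveI := hp.affine
  haveI : IsIntegralHom p := H18Quot.isIntegralHom hp
  haveI : Surjective p := ⟨Groth.Agent.H27Quot.surjective hp⟩
  have hfin : LocallyOfFiniteType (p ≫ q) → IsFinite p := fun hf => by
    haveI := hf
    haveI := locallyOfFiniteType_of_comp p q
    exact (IsFinite.iff_isIntegralHom_and_locallyOfFiniteType p).mpr ⟨inferInstance, inferInstance⟩
  refine ⟨⟨fun hf => ?_, fun hf => ?_⟩, ⟨fun hf => ?_, fun hf => ?_⟩, hfin, fun hZ hf hfqc => ?_⟩
  · exact ⟨fun V hV => Groth.Agent.H27Quot.isAffineOpen_of_preimage hp (hV.preimage (p ≫ q))⟩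
  · haveI := hf
    infer_instance
  · refine ⟨IsClosedImmersion.of_isPreimmersion _ ?_⟩
    let m : Limits.pullback (p ≫ q) (p ≫ q) ⟶ Limits.pullback q q :=
      Limits.pullback.map (p ≫ q) (p ≫ q) q q p p (𝟙 Z) (by simp) (by simp)
    haveI : IsIntegralHom m := MorphismProperty.pullbackMap (P := @IsIntegralHom) ‹_› ‹_› rfl rfl
    have e : Limits.pullback.diagonal (p ≫ q) ≫ m = p ≫ Limits.pullback.diagonal q := by
      apply Limits.pullback.hom_ext <;> simp only [m, Limits.pullback.map, Category.assoc, Limits.pullback.lift_fst, Limits.pullback.lift_snd, Limits.pullback.diagonal_fst, Limits.pullback.diagonal_snd, Category.comp_id] <;> erw [← Category.assoc] <;> simp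
    have h : Set.range (Limits.pullback.diagonal q) = m '' Set.range (Limits.pullback.diagonal (p ≫ q)) := by
      rw [← Set.range_comp]
      refine (Function.Surjective.range_comp (Groth.Agent.H27Quot.surjective hp) _).symm.trans ?_
      exact congrArg Set.range (funext fun x => (congr($e x)).symm)
    rw [h]
    haveI := hf
    exact m.isClosedMap _ (Limits.pullback.diagonal (p ≫ q)).isClosedEmbedding.isClosed_range
  · haveI := hf
    infer_instance
  · haveI := hfin hf
    refine ⟨?_, ?_⟩
    · rw [HasRingHomProperty.iff_appLE (P := @LocallyOfFiniteType)]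
      intro V U e
      haveI : IsNoetherianRing Γ(Z, V.1) := IsLocallyNoetherian.component_noetherian V
      have hA : IsAffineOpen (p ⁻¹ᵁ U.1) := U.2.preimage p
      have h1 : ((p ≫ q).appLE V.1 (p ⁻¹ᵁ U.1) (fun x hx => e hx)).hom.FiniteType :=
        LocallyOfFiniteType.finiteType_appLE _ V.2 hA _
      have h2 : (p.app U.1).hom.Finite := IsFinite.finite_app (f := p) U.1 U.2
      let g := (q.appLE V.1 U.1 e).hom
      let h := (p.app U.1).hom
      have hc : ((p ≫ q).appLE V.1 (p ⁻¹ᵁ U.1) (fun x hx => e hx)).hom = h.comp g := by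
        rw [← Scheme.Hom.appLE_comp_appLE p q V.1 U.1 (p ⁻¹ᵁ U.1) e le_rfl, Scheme.Hom.appLE_eq_app]
        rfl
      rw [hc] at h1
      letI := g.toAlgebra
      letI := h.toAlgebra
      letI := (h.comp g).toAlgebra
      haveI : IsScalarTower Γ(Z, V.1) Γ(Y, U.1) Γ(X, p ⁻¹ᵁ U.1) := IsScalarTower.of_algebraMap_eq fun _ => rfl
      exact ⟨fg_of_fg_of_fg Γ(Z, V.1) Γ(Y, U.1) Γ(X, p ⁻¹ᵁ U.1) h1.out (by exact h2.1) (hp.injective _)⟩
    · rw [quasiCompact_iff_forall_isAffineOpen]
      intro V hV
      rw [show ((q ⁻¹ᵁ V : Y.Opens) : Set Y) = p '' ((p ≫ q) ⁻¹ᵁ V : X.Opens) from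
        (Set.image_preimage_eq _ (Groth.Agent.H27Quot.surjective hp)).symm]
      exact (quasiCompact_iff_forall_isAffineOpen.mp hfqc V hV).image p.continuous

end Groth.Agent.S2909
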