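import Groth.Statements.S18900
import Groth.Agent.H25FinCov.Cover
import Mathlib.RingTheory.Localization.NormTrace
import Mathlib.LinearAlgebra.Matrix.Adjugate

set_option autoImplicit false
universe u
open CategoryTheory CategoryTheory.Limits AlgebraicGeometry
open DblCov

namespace Groth.Agent.S18900

open TopologicalSpace Opposite

section alg
variable {A B : Type u} [CommRing A] [CommRing B] [Algebra A B]

/-- `b ↦ tr b - b`. -/
noncomputable def S : B →ₗ[A] B := Algebra.linearMap A B ∘ₗ Algebra.trace A B - LinearMap.id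

theorem S_apply (b : B) : S (A := A) b = algebraMap A B (Algebra.trace A B b) - b := rfl

theorem leftMul_S (b : Module.Basis (Fin 2) A B) (y : B) :
    Algebra.leftMulMatrix b (S (A := A) y) = (Algebra.leftMulMatrix b y).adjugate := by
  rw [S_apply, map_sub, AlgHom.commutes, Algebra.trace_eq_matrix_trace b, Matrix.trace_fin_two,
    Matrix.adjugate_fin_two]
  ext i j
  fin_cases i <;> fin_cases j <;> simp [Matrix.algebraMap_matrix_apply]

theorem S_mul (b : Module.Basis (Fin 2) A B) (y z : B) : S (A := A) (y * z) = S (A := A) y * S (A := A) z := by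
  refine Algebra.leftMulMatrix_injective b ?_
  have hc : ∀ y z : B, Algebra.leftMulMatrix b y * Algebra.leftMulMatrix b z =
      Algebra.leftMulMatrix b z * Algebra.leftMulMatrix b y := fun y z => by
    rw [← map_mul, mul_comm, map_mul]
  rw [leftMul_S, map_mul (Algebra.leftMulMatrix b), map_mul (Algebra.leftMulMatrix b), leftMul_S, leftMul_S,
    hc y z, Matrix.adjugate_mul_distrib]

theorem S_one (b : Module.Basis (Fin 2) A B) : S (A := A) (1 : B) = 1 := by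
  refine Algebra.leftMulMatrix_injective b ?_
  rw [leftMul_S, map_one, Matrix.adjugate_one]

theorem S_S (b : Module.Basis (Fin 2) A B) (y : B) : S (A := A) (S (A := A) y) = y := by
  refine Algebra.leftMulMatrix_injective b ?_
  rw [leftMul_S, leftMul_S]
  ext i j
  fin_cases i <;> fin_cases j <;> simp [Matrix.adjugate_fin_two]

/-- The involution. -/
noncomputable def sigma (b : Module.Basis (Fin 2) A B) : B →ₐ[A] B :=
  AlgHom.ofLinearMap S (S_one b) (S_mul b)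

theorem algebraMap_inj (b : Module.Basis (Fin 2) A B) : Function.Injective (algebraMap A B) :=
  fun x y h => (Matrix.scalar_inj (n := Fin 2)).mp (by
    have := congrArg (Algebra.leftMulMatrix b) h
    rw [AlgHom.commutes, AlgHom.commutes] at this
    exact this)

theorem mem_range_of_fixed (h2 : IsUnit (2 : A)) {y : B} (hy : S (A := A) y = y) :
    y ∈ Set.range (algebraMap A B) := by
  obtain ⟨h, hh⟩ := h2.exists_left_inv
  refine ⟨h * Algebra.trace A B y, ?_⟩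
  have h1 : algebraMap A B (Algebra.trace A B y) = 2 * y := by
    rw [S_apply] at hy
    linear_combination hy
  rw [map_mul, h1, ← mul_assoc, ← map_ofNat (algebraMap A B) 2, ← map_mul, hh, map_one, one_mul]

end alg

section geo
variable {X Y : Scheme.{u}} (f : X ⟶ Y)

/-- An affine open with a basis of two sections upstairs. -/
def IsGood (W : Y.Opens) : Prop :=
  IsAffineOpen W ∧ letI := (f.app W).hom.toAlgebra
    Nonempty (Module.Basis (Fin 2) Γ(Y, W) Γ(X, f ⁻¹ᵁ W))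

/-- The involution on sections. -/
noncomputable def SW (W : Y.Opens) : Γ(X, f ⁻¹ᵁ W) → Γ(X, f ⁻¹ᵁ W) :=
  letI := (f.app W).hom.toAlgebra
  fun s => S (A := Γ(Y, W)) s

/-- The involution on sections over a good open as a ring map. -/
noncomputable def sW {W : Y.Opens} (hW : IsGood f W) : Γ(X, f ⁻¹ᵁ W) ⟶ Γ(X, f ⁻¹ᵁ W) :=
  letI := (f.app W).hom.toAlgebra
  CommRingCat.ofHom (sigma hW.2.some).toRingHom

theorem sW_apply {W : Y.Opens} (hW : IsGood f W) (s : Γ(X, f ⁻¹ᵁ W)) : (sW f hW).hom s = SW f W s := rfl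

theorem sW_sW {W : Y.Opens} (hW : IsGood f W) : sW f hW ≫ sW f hW = 𝟙 _ := by
  letI := (f.app W).hom.toAlgebra
  ext s
  exact S_S hW.2.some s

theorem app_sW {W : Y.Opens} (hW : IsGood f W) : f.app W ≫ sW f hW = f.app W := by
  letI := (f.app W).hom.toAlgebra
  ext a
  exact (sigma hW.2.some).commutes a

theorem app_injective_good {W : Y.Opens} (hW : IsGood f W) : Function.Injective (f.app W).hom := by
  letI := (f.app W).hom.toAlgebra
  exact algebraMap_inj hW.2.some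

theorem exists_good [IsFinite f] [Flat f] [LocallyOfFinitePresentation f] (hrk : ∀ y : Y, f.finrank y = 2)
    (U : Y.Opens) (y : Y) (hy : y ∈ U) : ∃ W, IsGood f W ∧ y ∈ W ∧ W ≤ U := by
  obtain ⟨W₀, hyW, ⟨e⟩⟩ := H25FinCov.isFinLocFreeOfRank_of_isCover f 2
    ⟨⟨inferInstance, inferInstance, inferInstance⟩, hrk⟩ y
  obtain ⟨V, hV, hyV, hle⟩ := exists_isAffineOpen_mem_and_subset (U := U ⊓ W₀) (x := y) ⟨hy, hyW⟩
  obtain ⟨c⟩ := H8Props.FinLocFree.exists_basis_of_chart _ e (le_trans hle inf_le_right)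
  exact ⟨V, ⟨hV, ⟨c⟩⟩, hyV, le_trans hle inf_le_left⟩

theorem good_basicOpen [IsAffineHom f] {U : Y.Opens} (hU : IsGood f U) (r : Γ(Y, U)) (hle : Y.basicOpen r ≤ U) :
    IsGood f (Y.basicOpen r) ∧ ∀ s : Γ(X, f ⁻¹ᵁ U),
      X.presheaf.map (homOfLE (f.preimage_mono hle)).op (SW f U s) =
        SW f (Y.basicOpen r) (X.presheaf.map (homOfLE (f.preimage_mono hle)).op s) := by
  obtain ⟨hUa, hb⟩ := hU
  letI := (f.app U).hom.toAlgebra
  obtain ⟨b⟩ := hb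
  letI : Algebra Γ(Y, U) Γ(Y, Y.basicOpen r) := (Y.presheaf.map (homOfLE hle).op).hom.toAlgebra
  letI : Algebra Γ(X, f ⁻¹ᵁ U) Γ(X, f ⁻¹ᵁ Y.basicOpen r) :=
    (X.presheaf.map (homOfLE (f.preimage_mono hle)).op).hom.toAlgebra
  letI := (f.app (Y.basicOpen r)).hom.toAlgebra
  letI : Algebra Γ(Y, U) Γ(X, f ⁻¹ᵁ Y.basicOpen r) :=
    ((f.app (Y.basicOpen r)).hom.comp (Y.presheaf.map (homOfLE hle).op).hom).toAlgebra
  haveI : IsScalarTower Γ(Y, U) Γ(Y, Y.basicOpen r) Γ(X, f ⁻¹ᵁ Y.basicOpen r) :=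
    IsScalarTower.of_algebraMap_eq fun _ => rfl
  haveI : IsScalarTower Γ(Y, U) Γ(X, f ⁻¹ᵁ U) Γ(X, f ⁻¹ᵁ Y.basicOpen r) :=
    IsScalarTower.of_algebraMap_eq fun a =>
      congrArg (fun φ => φ.hom a) (f.naturality (homOfLE hle).op)
  haveI : IsLocalization.Away r Γ(Y, Y.basicOpen r) := hUa.isLocalization_of_eq_basicOpen r (homOfLE hle) rfl
  haveI : IsLocalization (Algebra.algebraMapSubmonoid Γ(X, f ⁻¹ᵁ U) (Submonoid.powers r))
      Γ(X, f ⁻¹ᵁ Y.basicOpen r) := by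
    rw [Algebra.algebraMapSubmonoid, Submonoid.map_powers]
    exact (hUa.preimage f).isLocalization_of_eq_basicOpen _ (homOfLE (f.preimage_mono hle))
      (Scheme.preimage_basicOpen f r)
  refine ⟨⟨hUa.basicOpen r, ⟨b.localizationLocalization Γ(Y, Y.basicOpen r) (Submonoid.powers r)
    Γ(X, f ⁻¹ᵁ Y.basicOpen r)⟩⟩, fun s => ?_⟩
  haveI := Module.Free.of_basis b
  haveI := Module.Finite.of_basis b
  show algebraMap Γ(X, f ⁻¹ᵁ U) Γ(X, f ⁻¹ᵁ Y.basicOpen r) (S (A := Γ(Y, U)) s) =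
    S (A := Γ(Y, Y.basicOpen r)) (algebraMap Γ(X, f ⁻¹ᵁ U) Γ(X, f ⁻¹ᵁ Y.basicOpen r) s)
  rw [S_apply, S_apply, map_sub, ← IsScalarTower.algebraMap_apply,
    Algebra.trace_localization Γ(Y, U) (Submonoid.powers r), ← IsScalarTower.algebraMap_apply]

variable [IsAffineHom f]

/-- The local piece. -/
noncomputable def k {W : Y.Opens} (hW : IsGood f W) : (f ⁻¹ᵁ W : Scheme.{u}) ⟶ (f ⁻¹ᵁ W : Scheme.{u}) :=
  (hW.1.preimage f).isoSpec.hom ≫ Spec.map (sW f hW) ≫ (hW.1.preimage f).isoSpec.inv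

theorem homOfLE_isoSpec {V U : X.Opens} (hV : IsAffineOpen V) (hU : IsAffineOpen U) (h : V ≤ U) :
    X.homOfLE h ≫ hU.isoSpec.hom = hV.isoSpec.hom ≫ Spec.map (X.presheaf.map (homOfLE h).op) := by
  rw [← cancel_mono hU.fromSpec]
  simp only [Category.assoc, IsAffineOpen.isoSpec_hom_fromSpec, Scheme.homOfLE_ι,
    IsAffineOpen.map_fromSpec hU hV]

theorem k_ι {W : Y.Opens} (hW : IsGood f W) :
    k f hW ≫ (f ⁻¹ᵁ W).ι =
      (hW.1.preimage f).isoSpec.hom ≫ Spec.map (sW f hW) ≫ (hW.1.preimage f).fromSpec := by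
  simp [k, IsAffineOpen.isoSpec_inv_ι]

theorem k_res {U : Y.Opens} (hU : IsGood f U) (r : Γ(Y, U)) (W : Y.Opens) (hr : W = Y.basicOpen r)
    (hW : IsGood f W) (hle : W ≤ U) :
    X.homOfLE (f.preimage_mono hle) ≫ k f hU ≫ (f ⁻¹ᵁ U).ι = k f hW ≫ (f ⁻¹ᵁ W).ι := by
  subst hr
  have hs : sW f hU ≫ X.presheaf.map (homOfLE (f.preimage_mono hle)).op =
      X.presheaf.map (homOfLE (f.preimage_mono hle)).op ≫ sW f hW := by
    ext s
    exact (good_basicOpen f hU r hle).2 s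
  rw [k_ι, k_ι, ← Category.assoc, homOfLE_isoSpec (hW.1.preimage f) (hU.1.preimage f) (f.preimage_mono hle), Category.assoc,
    ← Spec.map_comp_assoc, hs, Spec.map_comp_assoc,
    IsAffineOpen.map_fromSpec (hU.1.preimage f) (hW.1.preimage f)]

theorem k_comp {W : Y.Opens} (hW : IsGood f W) :
    k f hW ≫ (f ⁻¹ᵁ W).ι ≫ f = (f ⁻¹ᵁ W).ι ≫ f := by
  rw [← Category.assoc, k_ι, Category.assoc, Category.assoc,
    ← IsAffineOpen.SpecMap_appLE_fromSpec f hW.1 (hW.1.preimage f) le_rfl, ← Spec.map_comp_assoc]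
  have e : f.appLE W (f ⁻¹ᵁ W) le_rfl ≫ sW f hW = f.appLE W (f ⁻¹ᵁ W) le_rfl := by
    rw [← Scheme.Hom.app_eq_appLE]
    exact app_sW f hW
  rw [e, IsAffineOpen.SpecMap_appLE_fromSpec f hW.1 (hW.1.preimage f) le_rfl,
    IsAffineOpen.isoSpec_hom_fromSpec_assoc]

theorem k_k {W : Y.Opens} (hW : IsGood f W) : k f hW ≫ k f hW = 𝟙 _ := by
  simp only [k, Category.assoc, Iso.inv_hom_id_assoc]
  rw [← Spec.map_comp_assoc, sW_sW, Spec.map_id, Category.id_comp, Iso.hom_inv_id]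

/-- Existence of the global involution. -/
theorem exists_glue [IsFinite f] [Flat f] [LocallyOfFinitePresentation f] (hrk : ∀ y : Y, f.finrank y = 2) :
    ∃ σ : X ⟶ X, ∀ (W : Y.Opens) (hW : IsGood f W), (f ⁻¹ᵁ W).ι ≫ σ = k f hW ≫ (f ⁻¹ᵁ W).ι := by
  let ι := {W : Y.Opens // IsGood f W}
  let 𝒰 : X.OpenCover := X.openCoverOfIsOpenCover (fun W : ι => f ⁻¹ᵁ W.1) (top_le_iff.1 fun x _ => by
    obtain ⟨W, hW, hxW, -⟩ := exists_good f hrk ⊤ (f x) trivial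
    exact Opens.mem_iSup.2 ⟨⟨W, hW⟩, hxW⟩)
  have key : ∀ (U V : ι),
      pullback.fst (f ⁻¹ᵁ U.1).ι (f ⁻¹ᵁ V.1).ι ≫ k f U.2 ≫ (f ⁻¹ᵁ U.1).ι =
        pullback.snd (f ⁻¹ᵁ U.1).ι (f ⁻¹ᵁ V.1).ι ≫ k f V.2 ≫ (f ⁻¹ᵁ V.1).ι := by
    intro U V
    let c : pullback (f ⁻¹ᵁ U.1).ι (f ⁻¹ᵁ V.1).ι ⟶ X := pullback.fst _ _ ≫ (f ⁻¹ᵁ U.1).ι
    have hc : ∀ z, f (c z) ∈ U.1 ⊓ V.1 := fun z => by
      refine ⟨(pullback.fst (f ⁻¹ᵁ U.1).ι (f ⁻¹ᵁ V.1).ι z).2, ?_⟩
      have e : c = pullback.snd _ _ ≫ (f ⁻¹ᵁ V.1).ι := pullback.condition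
      rw [e]
      exact (pullback.snd (f ⁻¹ᵁ U.1).ι (f ⁻¹ᵁ V.1).ι z).2
    choose r r' hrr hmem using fun z => exists_basicOpen_le_affine_inter U.2.1 V.2.1 (f (c z)) (hc z)
    refine (Scheme.openCoverOfIsOpenCover _ (fun z => c ⁻¹ᵁ f ⁻¹ᵁ Y.basicOpen (r z)) ?_).hom_ext _ _
      fun z => ?_
    · exact top_le_iff.1 fun z _ => Opens.mem_iSup.2 ⟨z, hmem z⟩
    · let W := Y.basicOpen (r z)
      have hW : IsGood f W := (good_basicOpen f U.2 (r z) (Y.basicOpen_le _)).1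
      have hWV : W ≤ V.1 := (hrr z).trans_le (Y.basicOpen_le _)
      let O := c ⁻¹ᵁ f ⁻¹ᵁ W
      have hrange : Set.range (O.ι ≫ c) ⊆ Set.range (f ⁻¹ᵁ W).ι := by
        rintro _ ⟨w, rfl⟩
        rw [Scheme.Opens.range_ι]
        exact w.2
      let l := IsOpenImmersion.lift (f ⁻¹ᵁ W).ι (O.ι ≫ c) hrange
      have hl : l ≫ (f ⁻¹ᵁ W).ι = O.ι ≫ c := IsOpenImmersion.lift_fac _ _ _
      have e₁ : l ≫ X.homOfLE (f.preimage_mono (Y.basicOpen_le (r z))) = O.ι ≫ pullback.fst _ _ := by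
        rw [← cancel_mono (f ⁻¹ᵁ U.1).ι, Category.assoc, Scheme.homOfLE_ι, hl, Category.assoc]
      have e₂ : l ≫ X.homOfLE (f.preimage_mono hWV) = O.ι ≫ pullback.snd _ _ := by
        rw [← cancel_mono (f ⁻¹ᵁ V.1).ι, Category.assoc, Scheme.homOfLE_ι, hl, Category.assoc,
          ← pullback.condition]
      change O.ι ≫ _ = O.ι ≫ _
      rw [← Category.assoc, ← e₁, ← Category.assoc O.ι, ← e₂, Category.assoc, Category.assoc,
        k_res f U.2 (r z) W rfl hW (Y.basicOpen_le _), k_res f V.2 (r' z) W (hrr z) hW hWV]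
  exact ⟨𝒰.glueMorphisms (fun U : ι => k f U.2 ≫ (f ⁻¹ᵁ U.1).ι) key, fun W hW =>
    𝒰.ι_glueMorphisms (fun U : ι => k f U.2 ≫ (f ⁻¹ᵁ U.1).ι) key ⟨W, hW⟩⟩

theorem app_injective [IsFinite f] [Flat f] [LocallyOfFinitePresentation f]
    (hrk : ∀ y : Y, f.finrank y = 2) (U : Y.Opens) : Function.Injective (f.app U).hom := by
  rw [injective_iff_map_eq_zero]
  intro a ha
  refine Y.sheaf.eq_of_locally_eq' (fun i : {W : Y.Opens // IsGood f W ∧ W ≤ U} => i.1) U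
    (fun i => homOfLE i.2.2) (fun y hy => ?_) a 0 fun i => ?_
  · obtain ⟨W, hW, hyW, hle⟩ := exists_good f hrk U y hy
    exact Opens.mem_iSup.2 ⟨⟨W, hW, hle⟩, hyW⟩
  · refine app_injective_good f i.2.1 ?_
    rw [map_zero]
    refine Eq.trans ?_ (map_zero _).symm
    refine (congrArg (fun φ => φ.hom a) (f.naturality (homOfLE i.2.2).op)).trans ?_
    show (X.presheaf.map ((Opens.map f.base).map (homOfLE i.2.2).op.unop).op).hom ((f.app U).hom a) = 0
    rw [ha, map_zero]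

theorem appLE_eq {σ : X ⟶ X} {W : Y.Opens} (hW : IsGood f W)
    (hσ : (f ⁻¹ᵁ W).ι ≫ σ = k f hW ≫ (f ⁻¹ᵁ W).ι) (e : f ⁻¹ᵁ W ≤ σ ⁻¹ᵁ (f ⁻¹ᵁ W)) :
    σ.appLE (f ⁻¹ᵁ W) (f ⁻¹ᵁ W) e = sW f hW := by
  refine Spec.map_injective ?_
  rw [← cancel_mono (hW.1.preimage f).fromSpec, IsAffineOpen.SpecMap_appLE_fromSpec,
    ← IsAffineOpen.isoSpec_inv_ι, Category.assoc, hσ, k_ι, Iso.inv_hom_id_assoc,
    IsAffineOpen.isoSpec_inv_ι]

theorem range_iff_aux [IsFinite f] [Flat f] [LocallyOfFinitePresentation f]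
    (hrk : ∀ y : Y, f.finrank y = 2) (h2 : IsUnit (2 : Γ(Y, ⊤))) {σ : X ⟶ X}
    (hσ : ∀ (W : Y.Opens) (hW : IsGood f W), (f ⁻¹ᵁ W).ι ≫ σ = k f hW ≫ (f ⁻¹ᵁ W).ι)
    (hinv : σ ≫ f = f) (U : Y.Opens) (s : Γ(X, f ⁻¹ᵁ U)) (e : f ⁻¹ᵁ U ≤ σ ⁻¹ᵁ (f ⁻¹ᵁ U))
    (hs : (σ.appLE (f ⁻¹ᵁ U) (f ⁻¹ᵁ U) e).hom s = s) : s ∈ Set.range (f.app U).hom := by
  let ι := {W : Y.Opens // IsGood f W ∧ W ≤ U}
  have hcov : U ≤ ⨆ i : ι, i.1 := fun y hy => by
    obtain ⟨W, hW, hyW, hle⟩ := exists_good f hrk U y hy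
    exact Opens.mem_iSup.2 ⟨⟨W, hW, hle⟩, hyW⟩
  have hloc : ∀ i : ι, ∃ a : Γ(Y, i.1),
      (f.app i.1).hom a = X.presheaf.map (homOfLE (f.preimage_mono i.2.2)).op s := fun i => by
    letI := (f.app i.1).hom.toAlgebra
    refine mem_range_of_fixed ?_ ?_
    · have := h2.map (Y.presheaf.map (homOfLE (le_top : i.1 ≤ ⊤)).op).hom
      rwa [map_ofNat] at this
    · have eW : f ⁻¹ᵁ i.1 ≤ σ ⁻¹ᵁ (f ⁻¹ᵁ i.1) := by rw [← Scheme.Hom.comp_preimage, hinv]
      show SW f i.1 _ = _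
      rw [← sW_apply f i.2.1, ← appLE_eq f i.2.1 (hσ _ i.2.1) eW]
      conv_rhs => rw [← hs]
      rw [← CommRingCat.comp_apply, ← CommRingCat.comp_apply, Scheme.Hom.map_appLE, Scheme.Hom.appLE_map]
  choose a ha using hloc
  have hcomp : TopCat.Presheaf.IsCompatible Y.sheaf.obj (fun i : ι => i.1) a := fun i j => by
    refine app_injective f hrk _ ?_
    refine (congrArg (fun φ => φ.hom (a i)) (f.naturality (Opens.infLELeft i.1 j.1).op)).trans ?_
    refine Eq.trans ?_ (congrArg (fun φ => φ.hom (a j)) (f.naturality (Opens.infLERight i.1 j.1).op)).symm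
    show (X.presheaf.map _).hom ((f.app i.1).hom (a i)) = (X.presheaf.map _).hom ((f.app j.1).hom (a j))
    rw [ha, ha, ← CommRingCat.comp_apply, ← CommRingCat.comp_apply, ← X.presheaf.map_comp,
      ← X.presheaf.map_comp]
    rfl
  obtain ⟨a₀, ha₀, -⟩ := Y.sheaf.existsUnique_gluing' (fun i : ι => i.1) U (fun i => homOfLE i.2.2) hcov a hcomp
  refine ⟨a₀, X.sheaf.eq_of_locally_eq' (fun i : ι => f ⁻¹ᵁ i.1) (f ⁻¹ᵁ U)
    (fun i => homOfLE (f.preimage_mono i.2.2)) ?_ _ _ fun i => ?_⟩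
  · intro x hx
    obtain ⟨i, hi⟩ := Opens.mem_iSup.1 (hcov hx)
    exact Opens.mem_iSup.2 ⟨i, hi⟩
  · refine ((congrArg (fun φ => φ.hom a₀) (f.naturality (homOfLE i.2.2).op)).symm).trans ?_
    exact (congrArg (f.app i.1).hom (ha₀ i)).trans (ha i)

end geo


/-- Let f : X → Y be a double cover, i.e. a finite, flat, locally finitely presented morphism of rank 2
at every point, and assume 2 is invertible in O_Y(Y). Then X carries a Y-automorphism σ with σ ∘ σ =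
id such that f is the quotient of X by the group generated by σ: f is affine and σ-invariant, and
over every open subset of Y the sections of O_Y are exactly the σ-invariant sections of O_X. (The
source adds that σ has order exactly 2, which holds as soon as X is non-empty.) -/
theorem result {X Y : Scheme.{u}} (f : X ⟶ Y)
    [IsFinite f] [Flat f] [LocallyOfFinitePresentation f] (hrk : ∀ y : Y, f.finrank y = 2)
    (h2 : IsUnit (2 : Γ(Y, ⊤))) :
    ∃ σ : Aut X, σ.hom ≫ f = f ∧ σ * σ = 1 ∧ SGA1.IsQuot (Subgroup.zpowers σ).subtype f := by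
  obtain ⟨σ, hσ⟩ := exists_glue f hrk
  have hX : ∀ {Z : Scheme.{u}} (a b : X ⟶ Z), (∀ (W : Y.Opens) (_ : IsGood f W),
      (f ⁻¹ᵁ W).ι ≫ a = (f ⁻¹ᵁ W).ι ≫ b) → a = b := fun a b h =>
    (X.openCoverOfIsOpenCover (fun W : {W : Y.Opens // IsGood f W} => f ⁻¹ᵁ W.1)
      (top_le_iff.1 fun x _ => by
        obtain ⟨W, hW, hxW, -⟩ := exists_good f hrk ⊤ (f x) trivial
        exact TopologicalSpace.Opens.mem_iSup.2 ⟨⟨W, hW⟩, hxW⟩)).hom_ext _ _ fun W => h W.1 W.2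
  have hinv : σ ≫ f = f := hX _ _ fun W hW => by
    rw [← Category.assoc, hσ W hW, Category.assoc, k_comp]
  have hsq : σ ≫ σ = 𝟙 X := hX _ _ fun W hW => by
    rw [← Category.assoc, hσ W hW, Category.assoc, hσ W hW, ← Category.assoc, k_k, Category.id_comp,
      Category.comp_id]
  let τ : Aut X := ⟨σ, σ, hsq, hsq⟩
  have hττ : τ * τ = 1 := CategoryTheory.Aut.ext hsq
  have hpow : ∀ g : Subgroup.zpowers τ, (g : Aut X) = 1 ∨ (g : Aut X) = τ := fun g => by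
    obtain ⟨n, hn⟩ := g.2
    rw [← hn]
    obtain ⟨m, rfl | rfl⟩ := Int.even_or_odd' n
    · left
      show τ ^ (2 * m) = 1
      rw [zpow_mul, zpow_two, hττ, one_zpow]
    · right
      show τ ^ (2 * m + 1) = τ
      rw [zpow_add, zpow_mul, zpow_two, hττ, one_zpow, one_mul, zpow_one]
  refine ⟨τ, hinv, hττ, ⟨inferInstance, fun g => ?_, app_injective f hrk, fun U s => ⟨?_, fun h => ?_⟩⟩⟩
  · rcases hpow g with h | h
    · show (g : Aut X).hom ≫ f = f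
      rw [h]; exact Category.id_comp f
    · show (g : Aut X).hom ≫ f = f
      rw [h]; exact hinv
  · rintro ⟨a, rfl⟩ g
    have key : ∀ (ρ : X ⟶ X) (hρ : ρ ≫ f = f) (e : f ⁻¹ᵁ U ≤ ρ ⁻¹ᵁ (f ⁻¹ᵁ U)),
        (ρ.appLE (f ⁻¹ᵁ U) (f ⁻¹ᵁ U) e).hom ((f.app U).hom a) = (f.app U).hom a := fun ρ hρ e => by
      rw [← CommRingCat.comp_apply, Scheme.Hom.app_eq_appLE f, Scheme.Hom.appLE_comp_appLE]
      have : ∀ (φ : X ⟶ Y) (_ : φ = f) (e' : f ⁻¹ᵁ U ≤ φ ⁻¹ᵁ U),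
          (φ.appLE U (f ⁻¹ᵁ U) e').hom a = (f.appLE U (f ⁻¹ᵁ U) le_rfl).hom a := by
        rintro _ rfl _; rfl
      exact this _ hρ _
    refine key _ ?_ _
    rcases hpow g with h | h
    · show (g : Aut X).hom ≫ f = f
      rw [h]; exact Category.id_comp f
    · show (g : Aut X).hom ≫ f = f
      rw [h]; exact hinv
  · exact range_iff_aux f hrk h2 hσ hinv U s _ (h ⟨τ, Subgroup.mem_zpowers τ⟩)

end Groth.Agent.S18900
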