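import Groth.Statements.S7635
import Groth.Agent.H10Coh.Kunneth.Main
import Groth.Agent.H28Int.FieldExt

set_option autoImplicit false
set_option linter.style.haveILetI false
set_option backward.isDefEq.respectTransparency.types false
set_option synthInstance.maxHeartbeats 400000
set_option maxHeartbeats 1000000
universe u
open CategoryTheory CategoryTheory.Limits AlgebraicGeometry
open scoped TensorProduct
open Variety

namespace Groth.Agent.S7635

/-- Let X and Y be quasi-compact schemes over a field k whose diagonal morphisms over k are affine (for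
instance X and Y separated over k), F a quasi-coherent O_X-module and G a quasi-coherent O_Y-module.
Then for every n ≥ 0 the k-vector space H^n(X ×_k Y, pr_1^*F ⊗ pr_2^*G) is isomorphic to ⊕_{p+q=n}
H^p(X, F) ⊗_k H^q(Y, G). (The published statement asserts that the canonical map built from
pullbacks and cup products is an isomorphism; this row asserts only that some k-linear isomorphism
exists.) -/
theorem result (k : Type u) [Field k] (X : Scheme.{u}) [X.Over (Spec (CommRingCat.of k))] [CompactSpace ↥X] [IsAffineHom (pullback.diagonal (X ↘ (Spec (CommRingCat.of k))))]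
    (Y : Scheme.{u}) [Y.Over (Spec (CommRingCat.of k))] [CompactSpace ↥Y] [IsAffineHom (pullback.diagonal (Y ↘ (Spec (CommRingCat.of k))))]
    (F : X.Modules) (hF : Coh.IsQCoh F) (G : Y.Modules) (hG : Coh.IsQCoh G) (n : ℕ) :
    letI : (pullback (X ↘ (Spec (CommRingCat.of k))) (Y ↘ (Spec (CommRingCat.of k)))).Over (Spec (CommRingCat.of k)) := ⟨pullback.fst (X ↘ (Spec (CommRingCat.of k))) (Y ↘ (Spec (CommRingCat.of k))) ≫ (X ↘ (Spec (CommRingCat.of k)))⟩
    Nonempty ((Π p : Fin (n + 1), Coh.HH X F (p : ℕ) ⊗[k] Coh.HH Y G (n - (p : ℕ))) ≃ₗ[k]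
      Coh.HH (pullback (X ↘ (Spec (CommRingCat.of k))) (Y ↘ (Spec (CommRingCat.of k)))) (CohB1.tensorMod ((Scheme.Modules.pullback (pullback.fst (X ↘ (Spec (CommRingCat.of k))) (Y ↘ (Spec (CommRingCat.of k))))).obj F)
        ((Scheme.Modules.pullback (pullback.snd (X ↘ (Spec (CommRingCat.of k))) (Y ↘ (Spec (CommRingCat.of k))))).obj G)) n) := by
  letI hO : (pullback (X ↘ (Spec (CommRingCat.of k))) (Y ↘ (Spec (CommRingCat.of k)))).Over (Spec (CommRingCat.of k)) :=
    ⟨pullback.fst (X ↘ (Spec (CommRingCat.of k))) (Y ↘ (Spec (CommRingCat.of k))) ≫ (X ↘ (Spec (CommRingCat.of k)))⟩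
  haveI : F.IsQuasicoherent := hF
  haveI : QuasiCompact (X ↘ Spec (CommRingCat.of k)) := inferInstance
  haveI : QuasiCompact (Y ↘ Spec (CommRingCat.of k)) := inferInstance
  have hsq := IsPullback.of_hasPullback (X ↘ Spec (CommRingCat.of k)) (Y ↘ Spec (CommRingCat.of k))
  have hfl := H28Int.FieldExt.isFlatOver_of_field (X ↘ Spec (CommRingCat.of k)) F
  have hH : ∀ p : ℕ, Module.Flat k (Coh.HH X F p) := fun p => inferInstance
  haveI := H4RepDual.hasExtModules Y
  haveI := H10Coh.Kunneth.preservesFiniteLimits_ΦK hsq F hfl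
  have good := H10Coh.Kunneth.good_of_qcoh hsq rfl F hfl hH G hG
  let e : Fin (n + 1) ≃ (Finset.HasAntidiagonal.antidiagonal n : Finset (ℕ × ℕ)) :=
    { toFun := fun p => ⟨((p : ℕ), n - p), Finset.HasAntidiagonal.mem_antidiagonal.mpr (Nat.add_sub_cancel' (Nat.lt_succ_iff.1 p.2))⟩
      invFun := fun pq => ⟨pq.1.1, Nat.lt_succ_iff.2 ((Nat.le_add_right _ _).trans_eq (Finset.HasAntidiagonal.mem_antidiagonal.mp pq.2))⟩
      left_inv := fun p => rfl
      right_inv := fun pq => by
        obtain ⟨⟨p, q⟩, h⟩ := pq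
        have : p + q = n := Finset.HasAntidiagonal.mem_antidiagonal.mp h
        apply Subtype.ext
        simp only [Prod.mk.injEq, true_and]
        omega }
  exact ⟨(DirectSum.linearEquivFunOnFintype k (Fin (n + 1)) _).symm ≪≫ₗ
    (DirectSum.lequivCongrLeft k (M := fun pq : (Finset.HasAntidiagonal.antidiagonal n : Finset (ℕ × ℕ)) =>
      Coh.HH X F pq.1.1 ⊗[k] Coh.HH Y G pq.1.2) e.symm).symm ≪≫ₗ
    LinearEquiv.ofBijective _ (H10Coh.Kunneth.bijective_Θn _ good n)⟩

end Groth.Agent.S7635
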