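import Groth.Statements.S14354
import Groth.Agent.H10Coh.Support
import Groth.Agent.H11Tilde.ModLoc
import Groth.Agent.H10Coh.FinType2
import Groth.Agent.H16Derived.MVPush.Support
-- import your own Groth.Agent.* helpers here

set_option autoImplicit false
set_option linter.style.haveILetI false
set_option backward.isDefEq.respectTransparency false
universe u
open CategoryTheory CategoryTheory.Limits AlgebraicGeometry Opposite
open Coh

namespace Groth.Agent.S14354

section
open AlgebraicGeometry CategoryTheory CategoryTheory.Limits TopologicalSpace Opposite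

variable {X : Scheme.{u}} (G : ℕᵒᵖ ⥤ X.Modules) (V : X.Opens)

/-- The transition maps on sections. -/
noncomputable def tr {a b : ℕ} (h : a ≤ b) (x : Γ(G.obj (op b), V)) : Γ(G.obj (op a), V) :=
  (G.map (homOfLE h).op).app V x

theorem tr_tr {a b c : ℕ} (h : a ≤ b) (h' : b ≤ c) (x : Γ(G.obj (op c), V)) :
    tr G V h (tr G V h' x) = tr G V (h.trans h') x := by
  have e : G.map (homOfLE h').op ≫ G.map (homOfLE h).op = G.map (homOfLE (h.trans h')).op := by
    rw [← G.map_comp]; rfl
  exact congr(($e).app V x)

theorem tr_self {a : ℕ} (h : a ≤ a) (x : Γ(G.obj (op a), V)) : tr G V h x = x := by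
  have e : G.map (homOfLE h).op = 𝟙 (G.obj (op a)) := G.map_id _
  exact congr(($e).app V x)

/-- A section coming from every later stage. -/
def Stable (m : ℕ) (t : Γ(G.obj (op m), V)) : Prop :=
  ∀ (d : ℕ) (h : m ≤ d), ∃ a, tr G V h a = t

/-- The images of the transition maps stabilise. -/
def Stabilizes : Prop :=
  ∀ m : ℕ, ∃ (D : ℕ) (hD : m ≤ D), ∀ a : Γ(G.obj (op D), V), Stable G V m (tr G V hD a)

theorem exists_next (hst : Stabilizes G V) (m : ℕ) (t : Γ(G.obj (op m), V)) (ht : Stable G V m t) :
    ∃ t' : Γ(G.obj (op (m + 1)), V), Stable G V (m + 1) t' ∧ tr G V (Nat.le_succ m) t' = t := by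
  obtain ⟨D, hD, h⟩ := hst (m + 1)
  obtain ⟨a, rfl⟩ := ht D ((Nat.le_succ m).trans hD)
  exact ⟨tr G V hD a, h a, tr_tr G V _ _ a⟩

/-- A compatible sequence through a stable section. -/
noncomputable def seq (hst : Stabilizes G V) (e : ℕ) (t : Γ(G.obj (op e), V)) (ht : Stable G V e t) :
    ∀ k : ℕ, {s : Γ(G.obj (op (e + k)), V) // Stable G V (e + k) s}
  | 0 => ⟨t, ht⟩
  | k + 1 => ⟨(exists_next G V hst (e + k) (seq hst e t ht k).1 (seq hst e t ht k).2).choose,
      (exists_next G V hst (e + k) (seq hst e t ht k).1 (seq hst e t ht k).2).choose_spec.1⟩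

theorem tr_seq (hst : Stabilizes G V) (e : ℕ) (t : Γ(G.obj (op e), V)) (ht : Stable G V e t) :
    ∀ (k l : ℕ) (h : e + k ≤ e + l), tr G V h (seq G V hst e t ht l).1 = (seq G V hst e t ht k).1 := by
  intro k l
  induction l with
  | zero =>
    intro h
    obtain rfl : k = 0 := by omega
    exact tr_self G V h _
  | succ l ih =>
    intro h
    rcases Nat.lt_or_ge k (l + 1) with hk | hk
    · rw [← tr_tr G V (show e + k ≤ e + l by omega) (Nat.le_succ (e + l))]
      refine Eq.trans ?_ (ih (by omega))
      exact congrArg _ (exists_next G V hst (e + l) _ (seq G V hst e t ht l).2).choose_spec.2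
    · obtain rfl : k = l + 1 := by omega
      exact tr_self G V h _

theorem exists_limit_preimage (hst : Stabilizes G V) (e : ℕ) (t : Γ(G.obj (op e), V))
    (ht : Stable G V e t) : ∃ s : Γ(limit G, V), (limit.π G (op e)).app V s = t := by
  let s : ∀ k : ℕ, Γ(G.obj (op k), V) := fun k =>
    tr G V (Nat.le_add_left k e) (seq G V hst e t ht k).1
  let F := Scheme.Modules.toPresheaf X ⋙ (evaluation (X.Opens)ᵒᵖ AddCommGrpCat.{u}).obj (op V) ⋙
    CategoryTheory.forget AddCommGrpCat.{u}
  have hc : ∀ {i j : ℕᵒᵖ} (φ : i ⟶ j), tr G V φ.unop.le (s i.unop) = s j.unop := by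
    intro i j φ
    have h := φ.unop.le
    simp only [s, tr_tr]
    rw [← tr_seq G V hst e t ht j.unop i.unop (by omega), tr_tr]
  let σ : (G ⋙ F).sections := ⟨fun i => s i.unop, fun {i j} φ => by
    have e2 : φ = (homOfLE φ.unop.le).op := Quiver.Hom.unop_inj (Subsingleton.elim _ _)
    refine Eq.trans ?_ (hc φ)
    exact congrArg (fun ψ => (G.map ψ).app V (s i.unop)) e2⟩
  haveI : PreservesLimitsOfSize.{0, 0} (Scheme.Modules.toPresheaf X) := preservesLimitsOfSize_shrink _
  haveI : PreservesLimitsOfSize.{0, 0} ((evaluation (X.Opens)ᵒᵖ AddCommGrpCat.{u}).obj (op V)) :=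
    preservesLimitsOfSize_shrink _
  haveI : PreservesLimitsOfSize.{0, 0} (CategoryTheory.forget AddCommGrpCat.{u}) :=
    preservesLimitsOfSize_shrink _
  haveI : PreservesLimit G F := inferInstance
  let hl := isLimitOfPreserves F (limit.isLimit G)
  refine ⟨(Types.isLimitEquivSections hl).symm σ, ?_⟩
  have := congrArg (fun w => w.1 (op e)) ((Types.isLimitEquivSections hl).apply_symm_apply σ)
  refine this.trans ?_
  show tr G V (Nat.le_add_left e e) (seq G V hst e t ht e).1 = t
  exact tr_seq G V hst e t ht 0 e (by omega)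

end

section
open AlgebraicGeometry CategoryTheory CategoryTheory.Limits TopologicalSpace Opposite

theorem isQCoh_imageSubobject {X : Scheme.{u}} {A B : X.Modules} (φ : A ⟶ B) (hA : Coh.IsQCoh A)
    (hB : Coh.IsQCoh B) : Coh.IsQCoh (imageSubobject φ : X.Modules) := by
  haveI : A.IsQuasicoherent := hA
  haveI : B.IsQuasicoherent := hB
  haveI := H10Coh.isQuasicoherent_cokernel φ
  haveI : (Abelian.image φ).IsQuasicoherent := H10Coh.isQuasicoherent_kernel (cokernel.π φ)
  exact H10Coh.isQuasicoherent_of_iso ((imageSubobjectIso φ).trans (Abelian.imageIsoImage φ).symm).symm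

/-- Sections of the image over affine opens are the range. -/
theorem exists_of_imageSubobject_eq {X : Scheme.{u}} {A A' B : X.Modules} (φ : A ⟶ B) (φ' : A' ⟶ B)
    (hA : Coh.IsQCoh A) (hA' : Coh.IsQCoh A') (hB : Coh.IsQCoh B) (h : imageSubobject φ = imageSubobject φ')
    {V : X.Opens} (hV : IsAffineOpen V) (a : Γ(A, V)) : ∃ a' : Γ(A', V), φ'.app V a' = φ.app V a := by
  haveI : A'.IsQuasicoherent := hA'
  haveI : (imageSubobject φ' : X.Modules).IsQuasicoherent := isQCoh_imageSubobject φ' hA' hB
  let ψ : A ⟶ (imageSubobject φ' : X.Modules) := factorThruImageSubobject φ ≫ Subobject.ofLE _ _ h.le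
  obtain ⟨a', ha'⟩ := H10Coh.surjective_app_of_epi (factorThruImageSubobject φ') hV (ψ.app V a)
  refine ⟨a', ?_⟩
  have e : ψ ≫ (imageSubobject φ').arrow = φ := by
    simp [ψ, Subobject.ofLE_arrow]
  conv_rhs => rw [← e]
  conv_lhs => rw [← imageSubobject_arrow_comp φ']
  exact congrArg ((imageSubobject φ').arrow.app V) ha'

end


/-- Let X be a locally Noetherian scheme and (G_e)_{e ∈ ℕ} an inverse system of coherent O_X-modules
satisfying the Mittag-Leffler condition, in the sense that for every e the image subobject of G_d ⟶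
G_e is the same for all sufficiently large d. Then for every e the support of the image of the
canonical map lim_d G_d ⟶ G_e is closed in X. (The published statement is the case where G_e is the
i-th cohomology sheaf of the Fourier–Mukai transform of the e-th member of a Mittag-Leffler inverse
system of coherent modules on an abelian variety; the argument uses only the coherence of the G_e
and their Mittag-Leffler condition, which is the form stated here.) -/
theorem result (X : Scheme.{u}) [IsLocallyNoetherian X]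
    (G : ℕᵒᵖ ⥤ X.Modules) (hG : ∀ n : ℕᵒᵖ, Coh.IsCoh (G.obj n))
    (hML : ∀ e : ℕ, ∃ (d : ℕ) (hd : e ≤ d), ∀ (d' : ℕ) (hd' : d ≤ d'),
      imageSubobject (G.map (homOfLE (hd.trans hd')).op) = imageSubobject (G.map (homOfLE hd).op))
    (e : ℕ) : IsClosed (CohB1.support (image (limit.π G (op e)))) := by
  obtain ⟨D, hD, hDe⟩ := hML e
  have hq : ∀ n, Coh.IsQCoh (G.obj n) := fun n => (hG n).1
  have hst : ∀ V : X.Opens, IsAffineOpen V → Stabilizes G V := by
    intro V hV m
    obtain ⟨D', hD', h⟩ := hML m
    refine ⟨D', hD', fun a d hd => ?_⟩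
    rcases le_total D' d with h1 | h1
    · exact exists_of_imageSubobject_eq _ _ (hq _) (hq _) (hq _) (h d h1).symm hV a
    · exact ⟨tr G V h1 a, tr_tr G V hd h1 a⟩
  let φ := G.map (homOfLE hD).op
  let J : X.Modules := (imageSubobject φ : X.Modules)
  have hJq : Coh.IsQCoh J := isQCoh_imageSubobject φ (hq _) (hq _)
  have hJ : Coh.IsCoh J := Groth.Agent.H10Coh.isCoh_of_mono (imageSubobject φ).arrow hJq (hG _)
  let u : limit G ⟶ J := limit.π G (op D) ≫ factorThruImageSubobject φ
  have hu : u ≫ (imageSubobject φ).arrow = limit.π G (op e) := by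
    simp [u, φ, J]
  haveI : Epi u := by
    refine Groth.Agent.H11Tilde.epi_of_locally_surjective u fun W t x hx => ?_
    obtain ⟨_, ⟨V, hV : IsAffineOpen V, rfl⟩, hxV, hVW⟩ :=
      X.isBasis_affineOpens.exists_subset_of_mem_open hx W.isOpen
    refine ⟨V, hVW, hxV, ?_⟩
    haveI : (G.obj (op D)).IsQuasicoherent := hq _
    haveI : J.IsQuasicoherent := hJq
    obtain ⟨a, ha⟩ := Groth.Agent.H10Coh.surjective_app_of_epi (factorThruImageSubobject φ) hV
      (J.presheaf.map (homOfLE hVW).op t)
    have hs : Stable G V e (tr G V hD a) := fun d hd => by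
      rcases le_total D d with h1 | h1
      · exact exists_of_imageSubobject_eq _ _ (hq _) (hq _) (hq _) (hDe d h1).symm hV a
      · exact ⟨tr G V h1 a, tr_tr G V hd h1 a⟩
    obtain ⟨s, hs'⟩ := exists_limit_preimage G V (hst V hV) e _ hs
    refine ⟨s, Groth.Agent.H10Coh.injective_app_of_mono' (imageSubobject φ).arrow V ?_⟩
    refine Eq.trans ?_ (congrArg _ ha)
    refine Eq.trans ?_ ((congr(($(imageSubobject_arrow_comp φ)).app V a)).trans rfl).symm
    exact (congr(($hu).app V s)).trans hs'
  have hiso : J ≅ image (limit.π G (op e)) := by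
    haveI : StrongEpi u := strongEpi_of_epi u
    exact image.isoStrongEpiMono u (imageSubobject φ).arrow hu
  have e' : CohB1.support (image (limit.π G (op e))) = CohB1.support J :=
    (Groth.Agent.H16Derived.MVPush.support_iso hiso).symm
  rw [e']
  exact Groth.Agent.H10Coh.isClosed_support J hJ.2

end Groth.Agent.S14354
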