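import Groth.Statements.S10858
import Groth.Agent.H8Props.FunDescent.Stalk
import Groth.Agent.H16Derived.KFlat.PerfFibre
import Groth.Agent.H16Derived.KFlat.PerfAmp
import Groth.Agent.H16Derived.KFlat.PerfFlat
import Groth.Agent.H06EGA11.InjFlat
import Groth.Agent.H16Derived.KFlat.PerfCohLocal
-- import your own Groth.Agent.* helpers here

set_option autoImplicit false
set_option linter.style.haveILetI false
set_option backward.isDefEq.respectTransparency false
universe u
open RepF

namespace Groth.Agent.S10858

section
open AlgebraicGeometry CategoryTheory CategoryTheory.Limits TensorProduct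
open Groth.Agent.H06Mod Groth.Agent.H16Derived.KFlat.Stalk

attribute [local instance] stalkAlgebra

variable {S : Scheme.{u}} {U E : S.Modules} (ι : U ⟶ E)

/-- The stalk of `ι` at every point is a split injection. -/
def SplitAt : Prop :=
  ∀ y : S, ∃ l, l ∘ₗ stalkLin ι y = LinearMap.id

theorem mono_pullback_of_split (h : SplitAt ι) {T : Scheme.{u}} (f : T ⟶ S) :
    Mono ((Scheme.Modules.pullback f).map ι) := by
  refine (H8Props.FunDescent.mono_iff _).2 fun x => ?_
  obtain ⟨l, hl⟩ := h (f x)
  have e : (stalkLin ((Scheme.Modules.pullback f).map ι) x) ∘ (pullStalkEquiv f U x) =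
      (pullStalkEquiv f E x) ∘ ((stalkLin ι (f x)).lTensor (T.presheaf.stalk x)) :=
    funext (H8Props.FunDescent.pullStalkEquiv_naturality f ι x)
  rw [← Function.Injective.of_comp_iff' _ (pullStalkEquiv f U x).bijective, e,
    (pullStalkEquiv f E x).injective.of_comp_iff]
  have h' : (l.lTensor (T.presheaf.stalk x)) ∘ₗ ((stalkLin ι (f x)).lTensor (T.presheaf.stalk x)) =
      LinearMap.id := by
    rw [← LinearMap.lTensor_comp, hl, LinearMap.lTensor_id]
  exact Function.HasLeftInverse.injective ⟨_, LinearMap.congr_fun h'⟩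

theorem free_stalk (hE : FlatMod.IsFinLocFree E) (y : S) :
    Module.Finite (S.presheaf.stalk y) (E.presheaf.stalk y) ∧
      Module.Free (S.presheaf.stalk y) (E.presheaf.stalk y) := by
  haveI : Module.Finite (S.presheaf.stalk y) (E.presheaf.stalk y) :=
    finite_stalk E (H29Fitt.isFT_of_isFP E (H8Props.FinLocFree.isFP_of_isFinLocFree E hE)) y
  haveI : Module.Flat (S.presheaf.stalk y) (E.presheaf.stalk y) := isFlat_of_isFinLocFree hE y
  exact ⟨inferInstance, Module.free_of_flat_of_isLocalRing⟩

theorem splitAt_of_fibres (hU : CohB1.IsFT U) (hE : FlatMod.IsFinLocFree E)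
    (h : ∀ s : S, Mono ((Scheme.Modules.pullback (S.fromSpecResidueField s)).map ι)) : SplitAt ι := by
  intro s
  let g := S.fromSpecResidueField s
  let p : Spec (S.residueField s) := default
  have hp := isField_stalk_residueField s p
  obtain ⟨y, hy, rfl⟩ : ∃ y, y = g p ∧ y = s := ⟨_, rfl, Scheme.fromSpecResidueField_apply _ _⟩
  haveI : Module.Finite (S.presheaf.stalk (g p)) (U.presheaf.stalk (g p)) := finite_stalk U hU _
  obtain ⟨_, _⟩ := free_stalk hE (g p)
  have hinj := (H8Props.FunDescent.mono_iff _).1 (h y) p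
  have e : (stalkLin ((Scheme.Modules.pullback g).map ι) p) ∘ (pullStalkEquiv g U p) =
      (pullStalkEquiv g E p) ∘ ((stalkLin ι (g p)).lTensor ((Spec (S.residueField y)).presheaf.stalk p)) :=
    funext (H8Props.FunDescent.pullStalkEquiv_naturality g ι p)
  rw [← Function.Injective.of_comp_iff' _ (pullStalkEquiv g U p).bijective, e,
    (pullStalkEquiv g E p).injective.of_comp_iff] at hinj
  suffices hK : Function.Injective ((stalkLin ι (g p)).lTensor
      (IsLocalRing.ResidueField (S.presheaf.stalk (g p)))) by
    have := (IsLocalRing.split_injective_iff_lTensor_residueField_injective (stalkLin ι (g p))).2 hK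
    rwa [← hy] at this
  let R := S.presheaf.stalk (g p)
  let K := IsLocalRing.ResidueField R
  let F := (Spec (S.residueField y)).presheaf.stalk p
  letI : Field F := hp.toField
  have h0 : ∀ a ∈ IsLocalRing.maximalIdeal R, (g.stalkMap p).hom a = 0 := fun a ha => by
    by_contra hne
    exact ha (IsUnit.of_map (g.stalkMap p).hom a (Ne.isUnit hne))
  letI : Algebra K F :=
    (Ideal.Quotient.lift (IsLocalRing.maximalIdeal R) (g.stalkMap p).hom h0).toAlgebra
  haveI : IsScalarTower R K F := IsScalarTower.of_algebraMap_eq fun _ => rfl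
  let i : K →ₗ[K] F := Algebra.linearMap K F
  obtain ⟨r, hr⟩ := i.exists_leftInverse_of_injective
    (LinearMap.ker_eq_bot.2 (algebraMap K F).injective)
  have hir : (r.restrictScalars R) ∘ₗ (i.restrictScalars R) = LinearMap.id :=
    LinearMap.ext fun z => LinearMap.congr_fun hr z
  have hU' : Function.Injective ((i.restrictScalars R).rTensor (U.presheaf.stalk (g p))) := by
    refine Function.HasLeftInverse.injective ⟨(r.restrictScalars R).rTensor _, fun z => ?_⟩
    rw [← LinearMap.rTensor_comp_apply, hir, LinearMap.rTensor_id, LinearMap.id_apply]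
  intro a b hab
  refine hU' (hinj ?_)
  rw [← LinearMap.comp_apply, ← LinearMap.comp_apply, LinearMap.lTensor_comp_rTensor,
    ← LinearMap.rTensor_comp_lTensor, LinearMap.comp_apply, LinearMap.comp_apply, hab]

theorem splitAt_of_coker [Mono ι] (hU : CohB1.IsFT U) (hE : FlatMod.IsFinLocFree E)
    (hC : FlatMod.IsFinLocFree (cokernel ι)) : SplitAt ι := by
  intro y
  obtain ⟨_, _⟩ := free_stalk hC y
  let T : ShortComplex S.Modules := ShortComplex.mk ι (cokernel.π ι) (cokernel.condition ι)
  have hT : T.ShortExact :=
    { exact := ShortComplex.exact_of_g_is_cokernel _ (cokernelIsCokernel ι) }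
  obtain ⟨s, hs⟩ := Module.projective_lifting_property (stalkLin (cokernel.π ι) y) LinearMap.id
    (stalk_surjective T hT y)
  have t := (Function.Exact.split_tfae (stalk_exact T hT y) (stalk_injective T hT y)
    (stalk_surjective T hT y)).out 0 1
  exact t.1 ⟨s, hs⟩

theorem mono_and_isFinLocFree_of_split (hU : CohB1.IsFT U) (hE : FlatMod.IsFinLocFree E)
    (h : SplitAt ι) : Mono ι ∧ FlatMod.IsFinLocFree (cokernel ι) := by
  haveI hm : Mono ι := (H8Props.FunDescent.mono_iff _).2 fun y => by
    obtain ⟨l, hl⟩ := h y
    exact Function.HasLeftInverse.injective ⟨l, LinearMap.congr_fun hl⟩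
  refine ⟨hm, ?_⟩
  let T : ShortComplex S.Modules := ShortComplex.mk ι (cokernel.π ι) (cokernel.condition ι)
  have hT : T.ShortExact :=
    { exact := ShortComplex.exact_of_g_is_cokernel _ (cokernelIsCokernel ι) }
  have hflat : FlatMod.IsFlat (cokernel ι) := fun y => by
    obtain ⟨l, hl⟩ := h y
    haveI : Module.Flat (S.presheaf.stalk y) (E.presheaf.stalk y) := isFlat_of_isFinLocFree hE y
    have t := (Function.Exact.split_tfae (stalk_exact T hT y) (stalk_injective T hT y)
      (stalk_surjective T hT y)).out 1 0
    obtain ⟨s, hs⟩ := t.1 ⟨l, hl⟩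
    exact Module.Flat.of_retract s (stalkLin (cokernel.π ι) y) hs
  refine isFinLocFree_of_local fun x => ?_
  obtain ⟨W, hxW, G, hG⟩ := H10Coh.exists_generators_nhd U hU x
  refine ⟨W.toScheme, W.ι, inferInstance, by rwa [Scheme.Opens.opensRange_ι], ?_⟩
  let R' := Scheme.Modules.restrictFunctor W.ι
  let π' : H10Coh.freeMod W.toScheme G.I ⟶ R'.obj U := G.π
  haveI : Epi π' := G.epi
  haveI := Fintype.ofFinite G.I
  haveI : PreservesFiniteColimits R' := by
    haveI : R'.IsLeftAdjoint := (Scheme.Modules.restrictAdjunction W.ι).isLeftAdjoint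
    exact PreservesColimitsOfSize.preservesFiniteColimits _
  have hfp : CohB1.IsFP (cokernel (π' ≫ R'.map ι)) :=
    H06EGA11.isFP_cokernel (isFP_restrict W.ι (H8Props.FinLocFree.isFP_of_isFinLocFree E hE))
      (H8Props.FinLocFree.isFP_of_isFinLocFree _ (isFinLocFree_free G.I)) _
  have hiso : R'.obj (cokernel ι) ≅ cokernel (π' ≫ R'.map ι) :=
    PreservesCokernel.iso R' ι ≪≫ (cokernelEpiComp π' (R'.map ι)).symm
  exact isFinLocFree_of_isFP_flat (isFP_of_iso hiso.symm hfp) (isFlat_restrictFunctor W.ι hflat)

end


open AlgebraicGeometry CategoryTheory CategoryTheory.Limits in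
/-- Equivalence of (ii), (iv) and (iii): let S be a scheme and ι : U → E a homomorphism of O_S-modules
with U of finite type and E finite locally free. Then ι is a monomorphism with finite locally free
cokernel if and only if the pullback f^*ι is a monomorphism for every morphism of schemes f : T → S,
and this holds if and only if the pullback of ι along Spec κ(s) → S (the fibre map U(s) → E(s)) is a
monomorphism for every point s of S. (Two further equivalent conditions of the published statement,
splitting on affine opens and surjectivity of the dual map, are not included.) -/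
theorem result {S : Scheme.{u}}
    {U E : S.Modules} (hU : CohB1.IsFT U) (hE : FlatMod.IsFinLocFree E) (ι : U ⟶ E) :
    ((Mono ι ∧ FlatMod.IsFinLocFree (cokernel ι)) ↔
        ∀ (T : Scheme.{u}) (f : T ⟶ S), Mono ((Scheme.Modules.pullback f).map ι)) ∧
      ((∀ (T : Scheme.{u}) (f : T ⟶ S), Mono ((Scheme.Modules.pullback f).map ι)) ↔
        ∀ s : S, Mono ((Scheme.Modules.pullback (S.fromSpecResidueField s)).map ι)) := by
  have h1 : (∀ (T : Scheme.{u}) (f : T ⟶ S), Mono ((Scheme.Modules.pullback f).map ι)) → SplitAt ι :=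
    fun h => splitAt_of_fibres ι hU hE fun s => h _ _
  refine ⟨⟨fun ⟨_, hC⟩ T f => mono_pullback_of_split ι (splitAt_of_coker ι hU hE hC) f,
    fun h => mono_and_isFinLocFree_of_split ι hU hE (h1 h)⟩,
    fun h s => h _ _, fun h T f => mono_pullback_of_split ι (splitAt_of_fibres ι hU hE h) f⟩

end Groth.Agent.S10858
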