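import Groth.Statements.S3551
import Groth.Agent.H11Tilde.GammaStar.Finite

set_option autoImplicit false
universe u
open CategoryTheory CategoryTheory.Limits AlgebraicGeometry
open EGA2

open TopologicalSpace Opposite
namespace Groth.Agent.S3551

/-- Let S be a graded ring whose irrelevant ideal S_+ is generated by finitely many elements of degree
one, and X = Proj S. Then every quasi-coherent O_X-module of finite type is isomorphic to N~ for
some finitely generated graded S-module N (graded in nonnegative degrees). -/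
theorem result {R A : Type u} [CommRing R] [CommRing A] [Algebra R A] (𝒜 : ℕ → Submodule R A) [GradedAlgebra 𝒜]
    (s : Finset A) (hs1 : ∀ f ∈ s, f ∈ 𝒜 1)
    (hs : (HomogeneousIdeal.irrelevant 𝒜).toIdeal = Ideal.span (s : Set A))
    (F : (Proj 𝒜).Modules) (hF : Coh.IsQCoh F) (hFT : CohB1.IsFT F) :
    ∃ (N : Type u) (_ : AddCommGroup N) (_ : Module R N) (_ : Module A N) (_ : IsScalarTower R A N)
      (𝒩 : ℕ → Submodule R N) (_ : DirectSum.Decomposition 𝒩) (_ : SetLike.GradedSMul 𝒜 𝒩),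
      Module.Finite A N ∧ Nonempty (GrTilde.tilde 𝒜 𝒩 0 ≅ F) := by
  classical
  let f : ↥(s : Set A) → A := fun i => i.1
  have hf : ∀ i, f i ∈ 𝒜 1 := fun i => hs1 i.1 i.2
  have hcov : ∀ x : Proj 𝒜, ∃ i, f i ∉ x.asHomogeneousIdeal := fun x => by
    by_contra hne
    push Not at hne
    exact x.not_irrelevant_le (hs.le.trans (Ideal.span_le.2 fun a ha => hne ⟨a, ha⟩))
  haveI : F.IsQuasicoherent := hF
  obtain ⟨e⟩ := Groth.Agent.H11Tilde.nonempty_tilde_gamma_iso hf F hcov hF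
  let M := ↥(Groth.Agent.H11Tilde.gamma 𝒜 f hf F)
  have hfin : ∀ i, Module.Finite Γ(Proj 𝒜, Proj.basicOpen 𝒜 (f i))
      Γ(GrMod.tilde 𝒜 (Groth.Agent.H11Tilde.piece 𝒜 f hf F) 0, Proj.basicOpen 𝒜 (f i)) := fun i => by
    haveI := Groth.Agent.H10Coh.finite_sections F hFT (Proj.isAffineOpen_basicOpen 𝒜 (f i) (hf i) Nat.one_pos)
    refine Groth.Agent.H10Coh.finite_of_semilinear (RingHom.id _) (e.inv.app (Proj.basicOpen 𝒜 (f i))).hom
      (fun a m => Scheme.Modules.Hom.app_smul _ _ _) fun y => ⟨e.hom.app (Proj.basicOpen 𝒜 (f i)) y, ?_⟩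
    exact congrArg (fun φ => φ.app (Proj.basicOpen 𝒜 (f i)) y) e.hom_inv_id
  obtain ⟨N, dec₀, hN, ⟨e'⟩⟩ := Groth.Agent.H11Tilde.exists_fg_iso 𝒜 (Groth.Agent.H11Tilde.piece 𝒜 f hf F) f hf hcov hfin
  letI : Module R ↥N := Module.compHom ↥N (algebraMap R A)
  haveI : IsScalarTower R A ↥N := ⟨fun r a m => by
    change (r • a) • m = algebraMap R A r • (a • m)
    rw [Algebra.smul_def, mul_smul]⟩
  let 𝒩 : ℕ → Submodule R ↥N := fun n =>
    { (Groth.Agent.H11Tilde.subPiece (Groth.Agent.H11Tilde.piece 𝒜 f hf F) N n).toAddSubmonoid with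
      smul_mem' := fun r m hm => by
        have h := SetLike.GradedSMul.smul_mem (A := 𝒜)
          (B := Groth.Agent.H11Tilde.subPiece (Groth.Agent.H11Tilde.piece 𝒜 f hf F) N)
          (SetLike.algebraMap_mem_graded 𝒜 r) hm
        rw [show (0 : ℕ) +ᵥ n = n from zero_add n] at h
        exact h }
  haveI : AddSubgroupClass (Submodule R ↥N) ↥N := { add_mem := fun ha hb => Submodule.add_mem _ ha hb, zero_mem := fun S => S.zero_mem, neg_mem := fun {S x} hx => by rw [← neg_one_smul R x]; exact S.smul_mem _ hx }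
  letI dec : DirectSum.Decomposition 𝒩 :=
    { decompose' := dec₀.decompose', left_inv := dec₀.left_inv, right_inv := dec₀.right_inv }
  haveI hsm : SetLike.GradedSMul 𝒜 𝒩 := ⟨fun {_ _ _ _} ha hm =>
    (SetLike.GradedSMul.smul_mem (B := Groth.Agent.H11Tilde.subPiece (Groth.Agent.H11Tilde.piece 𝒜 f hf F) N) ha hm :)⟩
  exact ⟨↥N, inferInstance, inferInstance, inferInstance, inferInstance, 𝒩, dec, hsm, hN,
    ⟨Groth.Agent.H11Tilde.tildeIsoOfPiecesEq 𝒜 𝒩
      (Groth.Agent.H11Tilde.subPiece (Groth.Agent.H11Tilde.piece 𝒜 f hf F) N) (fun _ _ => Iff.rfl) 0 ≪≫ e' ≪≫ e⟩⟩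

end Groth.Agent.S3551
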