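import Groth.Statements.S9579
import Groth.Agent.H11Proj.VeroneseTilde

set_option autoImplicit false
universe u
open CategoryTheory CategoryTheory.Limits AlgebraicGeometry TopologicalSpace Opposite
open Constr

namespace Groth.Agent.S9579

/-- Let S be a graded ring, d ≥ 1, S' = S^{(d)} the graded ring with S'_n = S_{nd} (here: a graded ring
S' with an injective algebra homomorphism φ : S' → S carrying S'_n onto S_{nd}), and i : Proj S ≅
Proj S' the canonical isomorphism (any isomorphism which over each standard open D_+(g), g ∈ S'_n, n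
> 0, is induced by S'_(g) ≅ S_(φ g), b/g^k ↦ φ(b)/φ(g)^k). Let M be a graded S-module (graded in
non-negative degrees here) and M' = M^{(d)} the graded S'-module with M'_n = M_{nd}, presented as a
graded S'-module with an injective φ-semilinear map v : M' → M carrying M'_n onto M_{nd} for every
n. Then M~ on Proj S is isomorphic to the inverse image i^*(M'~). (Existence of an isomorphism only;
the published isomorphism is canonical and compatible with the multiplication maps.) -/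
theorem result {R A : Type u} [CommRing R] [CommRing A] [Algebra R A] (𝒜 : ℕ → Submodule R A) [GradedAlgebra 𝒜]
    {B : Type u} [CommRing B] [Algebra R B] (ℬ : ℕ → Submodule R B) [GradedAlgebra ℬ]
    (d : ℕ) (hd : 0 < d) (φ : B →ₐ[R] A) (hφ : Function.Injective φ)
    (hdeg : ∀ n : ℕ, Submodule.map φ.toLinearMap (ℬ n) = 𝒜 (n * d))
    (e : Proj 𝒜 ≅ Proj ℬ)
    (he : ∀ (n : ℕ) (g : B) (hn : 0 < n) (hg : g ∈ ℬ n)
        (θ : CommRingCat.of (HomogeneousLocalization.Away ℬ g) ⟶ CommRingCat.of (HomogeneousLocalization.Away 𝒜 (φ g))),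
        (algebraMap (HomogeneousLocalization.Away 𝒜 (φ g)) (Localization.Away (φ g))).comp θ.hom =
          (Localization.awayMap φ.toRingHom g).comp
            (algebraMap (HomogeneousLocalization.Away ℬ g) (Localization.Away g)) →
        Proj.awayι 𝒜 (φ g) ((hdeg n).le (Submodule.mem_map_of_mem hg)) (Nat.mul_pos hn hd) ≫ e.hom =
          Spec.map θ ≫ Proj.awayι ℬ g hg hn)
    {M : Type u} [AddCommGroup M] [Module R M] [Module A M] [IsScalarTower R A M] (ℳ : ℕ → Submodule R M)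
    [DirectSum.Decomposition ℳ] [SetLike.GradedSMul 𝒜 ℳ]
    {N : Type u} [AddCommGroup N] [Module R N] [Module B N] [IsScalarTower R B N] (𝒩 : ℕ → Submodule R N)
    [DirectSum.Decomposition 𝒩] [SetLike.GradedSMul ℬ 𝒩]
    (v : N →ₛₗ[φ.toRingHom] M) (hv : Function.Injective v)
    (hvdeg : ∀ n : ℕ, (𝒩 n : Set N).image v = (ℳ (n * d) : Set M)) :
    Nonempty (GrTilde.tilde 𝒜 ℳ 0 ≅ (Scheme.Modules.pullback e.hom).obj (GrTilde.tilde ℬ 𝒩 0)) := by
  have h' : ∀ (m : ℕ) (b : B), b ∈ ℬ m → φ.toRingHom b ∈ 𝒜 (m * d) :=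
    fun m b hb => (hdeg m).le (Submodule.mem_map_of_mem hb)
  have hsurj : ∀ (m : ℕ) (a : A), a ∈ 𝒜 (m * d) → ∃ b ∈ ℬ m, φ.toRingHom b = a := fun m a ha => by
    rw [← hdeg] at ha
    exact ha
  have hrad : ∀ (k : ℕ), 0 < k → ∀ a ∈ 𝒜 k, ∃ j, ∃ m, 0 < m ∧ ∃ b ∈ ℬ m, φ.toRingHom b = a ^ (j + 1) := by
    intro k hk a ha
    refine ⟨d - 1, k, hk, ?_⟩
    rw [Nat.sub_add_cancel hd]
    have : a ^ d ∈ 𝒜 (k * d) := by
      rw [mul_comm, ← smul_eq_mul]
      exact SetLike.pow_mem_graded d ha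
    exact hsurj k _ this
  have hp : ∀ (m : ℕ) (g : B) (hm : 0 < m) (hg : g ∈ ℬ m),
      Proj.awayι 𝒜 (φ.toRingHom g) (h' _ _ hg) (Nat.mul_pos hm hd) ≫ e.hom =
        Spec.map (CommRingCat.ofHom (H11Proj.Regrade.awayHom h' hg)) ≫ Proj.awayι ℬ g hg hm := fun m g hm hg =>
    he m g hm hg (CommRingCat.ofHom (H11Proj.Regrade.awayHom h' hg))
      (RingHom.ext fun z => H11Proj.Regrade.val_awayHom h' hg z)
  obtain ⟨i⟩ := H11Proj.Regrade.nonempty_tilde_iso_pullback h' hd hrad e.hom hp ℳ 𝒩 v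
    (fun m x hx => (hvdeg m).le ⟨x, hx, rfl⟩) hsurj hv (fun m x hx => (hvdeg m).ge hx) 0
  rw [zero_mul] at i
  exact ⟨i⟩

end Groth.Agent.S9579
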