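import Groth.Statements.S19349
import Groth.Agent.H10Coh.Serre
import Groth.Agent.H29Fitt.PullbackQCoh
import Groth.Agent.H11Tilde.QCohCrit
import Groth.Agent.H11Tilde.ModLoc
import Groth.Agent.H10Coh.QCohOps
import Groth.Agent.H10Coh.FinType2
import Groth.Agent.H29Blow.QCohLoc
import Groth.Agent.H29Blow.QCohExt
import Mathlib

set_option autoImplicit false
universe u
open RigCh

namespace Groth.Agent.S19349

open AlgebraicGeometry CategoryTheory CategoryTheory.Limits

/-- The kernel of a strict transform map is quasi-coherent. -/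
theorem isQuasicoherent_kernel_strict {X : Scheme.{u}} {M G : X.Modules} [M.IsQuasicoherent] (E : X.IdealSheafData)
    (hE : BlowUp.IsEffCartierIdeal E) (π : M ⟶ G)
    [Epi π] (hπ : ∀ (V : X.affineOpens) (m : Γ(M, V.1)), π.app V.1 m = 0 ↔ BlowUp.KilledByPowerNear E M V m) :
    (kernel π).IsQuasicoherent := by
  choose U hxU f hf hI using hE
  have hι : ∀ (W : X.Opens), Function.Injective ((kernel.ι π).app W) := fun W =>
    Groth.Agent.H10Coh.injective_app_of_mono' _ W
  have hlift : ∀ (V : X.affineOpens) (m : Γ(M, V.1)), π.app V.1 m = 0 →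
      ∃ k : Γ(kernel π, V.1), (kernel.ι π).app V.1 k = m := fun V m hm =>
    Groth.Agent.H10Coh.exists_app_eq_of_exact (Groth.Agent.H10Coh.shortExact_kernel π) V.1 m hm
  refine Groth.Agent.H11Tilde.isQuasicoherent_of_basicOpen_localization _ (fun x => (U x).1) ?_
    (fun x => (U x).2) ?_ ?_
  · rw [TopologicalSpace.IsOpenCover, eq_top_iff]
    exact fun x _ => TopologicalSpace.Opens.mem_iSup.2 ⟨x, hxU x⟩
  · intro x r s hs
    obtain ⟨n, hn⟩ := _root_.H29Blow.exists_pow_smul_eq_zero M inferInstance (U x).2 r ((kernel.ι π).app _ s)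
      (by rw [← Groth.Agent.H11Tilde.app_map_apply, hs, map_zero])
    exact ⟨n, hι _ (((kernel.ι π).app_smul _ _).trans (hn.trans (map_zero ((kernel.ι π).app _).hom).symm))⟩
  · intro x r s'
    obtain ⟨n, t, ht⟩ := _root_.H29Blow.exists_pow_smul_eq_res M inferInstance (U x).2 r ((kernel.ι π).app _ s')
    let W : X.affineOpens := ⟨X.basicOpen r, (U x).2.basicOpen r⟩
    obtain ⟨m, hm⟩ := (hπ W _).1 (show π.app _ ((kernel.ι π).app _ s') = 0 by
      rw [← ConcreteCategory.comp_apply, ← Scheme.Modules.Hom.comp_app, kernel.condition]; rfl)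
    let ρ := X.presheaf.map (homOfLE (X.basicOpen_le r)).op
    have hfm : ρ (f x ^ m) ∈ (E ^ m).ideal W := by
      rw [← show ((E ^ m).ideal (U x)).map ρ.hom = (E ^ m).ideal W from
        (E ^ m).map_ideal' (U := W) (V := U x) _]
      refine Ideal.mem_map_of_mem _ ?_
      rw [Scheme.IdealSheafData.ideal_pow, Pi.pow_apply, hI]
      exact Ideal.pow_mem_pow (Ideal.mem_span_singleton_self _) m
    obtain ⟨l, hl⟩ := _root_.H29Blow.exists_pow_smul_eq_zero M inferInstance (U x).2 r (f x ^ m • t) (by
      rw [Scheme.Modules.map_smul, ht, smul_smul, mul_comm, mul_smul]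
      exact (congrArg (_ • ·) (hm _ hfm)).trans (smul_zero _))
    obtain ⟨k, hk⟩ := hlift (U x) (r ^ l • t) ((hπ _ _).2 ⟨m, fun a ha => by
      rw [Scheme.IdealSheafData.ideal_pow, Pi.pow_apply, hI, Ideal.span_singleton_pow,
        Ideal.mem_span_singleton'] at ha
      obtain ⟨c, rfl⟩ := ha
      rw [mul_smul, smul_comm (f x ^ m), hl, smul_zero]⟩)
    refine ⟨n + l, k, hι _ ?_⟩
    rw [Groth.Agent.H11Tilde.app_map_apply, hk, Scheme.Modules.Hom.app_smul, Scheme.Modules.map_smul, ht,
      smul_smul, ← map_mul, ← pow_add, add_comm]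


open AlgebraicGeometry CategoryTheory in
/-- Let X be a separated scheme of finite type over a field k, I a quasi-coherent ideal sheaf on X, b :
X' → X a blowing up of X in I and F a coherent O_X-module. Then any strict transform G of F along b
(an epimorphism from the pullback of F onto G whose kernel consists, affine-locally, of the sections
annihilated by a power of the exceptional ideal) is a coherent module on X': quasi-coherent of
finite type, X' being again of finite type over k. (The source assumes k of positive characteristic;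
this plays no role here.) -/
theorem result (k : Type u) [Field k]
    (X : Scheme.{u}) (f : X ⟶ Spec (CommRingCat.of k)) [IsSeparated f] [QuasiCompact f] [LocallyOfFiniteType f]
    (I : X.IdealSheafData) {X' : Scheme.{u}} (b : X' ⟶ X) (hb : BlowUp.IsBlowUp b I)
    (F : X.Modules) (hF : Coh.IsCoh F) (G : X'.Modules) (π : (Scheme.Modules.pullback b).obj F ⟶ G)
    (hG : BlowUp.IsStrictTransform b I F G π) : Coh.IsCoh G := by
  have hq := Groth.Agent.H29Fitt.isQCoh_pullback b F hF.1
  haveI : ((Scheme.Modules.pullback b).obj F).IsQuasicoherent := hq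
  have hM : Coh.IsCoh ((Scheme.Modules.pullback b).obj F) :=
    ⟨hq, Groth.Agent.H29Fitt.isFT_pullback b F hF.1 hF.2⟩
  haveI := hG.1
  haveI := isQuasicoherent_kernel_strict _ hb.1 π hG.2
  exact Groth.Agent.H10Coh.isCoh_of_iso (IsColimit.coconePointUniqueUpToIso (cokernelIsCokernel (kernel.ι π))
    (Abelian.epiIsCokernelOfKernel (KernelFork.ofι (kernel.ι π) (kernel.condition π)) (kernelIsKernel π)))
    (Groth.Agent.H10Coh.isCoh_cokernel _ inferInstance hM)

end Groth.Agent.S19349
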