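import Groth.Statements.S0033
import Groth.Agent.H10Coh.FlatBC.FlatSheaf
-- import your own Groth.Agent.* helpers here

set_option autoImplicit false
universe u
open Coherent

namespace Groth.Agent.S0033

attribute [local instance 10000] Groth.Agent.H10Coh.hasSheafifyAb Groth.Agent.H10Coh.hasWeakSheafifyAb Groth.Agent.H10Coh.hasExtAb Groth.Agent.H10Coh.enoughInjAb

open AlgebraicGeometry CategoryTheory in
/-- For a cartesian square with f : X → S quasi-compact quasi-separated and g : S' → S flat, and F
quasi-coherent on X, the pullback g^* R^i f_* F is isomorphic to R^i f'_* (g'^* F). Only the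
existence of an isomorphism is asserted (the published statement asserts that the base change map is
an isomorphism). -/
theorem result {X S X' S' : Scheme.{u}} (f : X ⟶ S) (g : S' ⟶ S)
    (g' : X' ⟶ X) (f' : X' ⟶ S') (h : IsPullback g' f' f g) [QuasiCompact f] [QuasiSeparated f]
    [Flat g] [HasInjectiveResolutions X.Modules] [HasInjectiveResolutions X'.Modules]
    (M : X.Modules) [Coh.IsQCoh M] (i : ℕ) :
    Nonempty ((Scheme.Modules.pullback g).obj ((Coh.Rpush f i).obj M) ≅
      (Coh.Rpush f' i).obj ((Scheme.Modules.pullback g').obj M)) := by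
  haveI : Flat g' := MorphismProperty.of_isPullback (P := @Flat) h.flip inferInstance
  haveI : QuasiCompact f' := MorphismProperty.of_isPullback (P := @QuasiCompact) h inferInstance
  haveI : QuasiSeparated f' := MorphismProperty.of_isPullback (P := @QuasiSeparated) h inferInstance
  haveI := H10Coh.enoughInjMod X
  haveI := H10Coh.enoughInjMod X'
  haveI : M.IsQuasicoherent := ‹Coh.IsQCoh M›
  haveI hq : ((Scheme.Modules.pullback g').obj M).IsQuasicoherent :=
    H29Fitt.isQCoh_pullback g' M ‹Coh.IsQCoh M›
  haveI : ∀ k, Injective ((H10Coh.MRes.inj ((Scheme.Modules.pullback g').obj M)).I k) := fun k =>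
    H10Coh.injective_mI _ k
  cases i with
  | zero =>
    have : (Scheme.Modules.pushforward f).IsRightAdjoint :=
      (Scheme.Modules.pullbackPushforwardAdjunction f).isRightAdjoint
    have : (Scheme.Modules.pushforward f').IsRightAdjoint :=
      (Scheme.Modules.pullbackPushforwardAdjunction f').isRightAdjoint
    have hN : ((Scheme.Modules.pushforward f).obj M).IsQuasicoherent :=
      H10Coh.isQuasicoherent_pushforward f M
    haveI := H10Coh.FBC.isIso_transpose g (N := (Scheme.Modules.pushforward f).obj M) hN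
      (H10Coh.FBC.τPush h (H10Coh.FBC.α₀ (g' := g') M (H10Coh.MRes.inj M)
        (H10Coh.MRes.inj ((Scheme.Modules.pullback g').obj M)) rfl rfl))
      (fun V V' hV hV' hle => H10Coh.FBC.bijective_locLin_zero h
        (H10Coh.FBC.gres (g' := g') (H10Coh.MRes.inj M) (H10Coh.MRes.inj ((Scheme.Modules.pullback g').obj M)) M rfl rfl)
        ‹Coh.IsQCoh M› hle hV hV')
    exact ⟨(Scheme.Modules.pullback g).mapIso ((Scheme.Modules.pushforward f).rightDerivedZeroIsoSelf.app M) ≪≫
      asIso (((Scheme.Modules.pullbackPushforwardAdjunction g).homEquiv _ _).symm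
        (H10Coh.FBC.τPush h (H10Coh.FBC.α₀ (g' := g') M (H10Coh.MRes.inj M)
          (H10Coh.MRes.inj ((Scheme.Modules.pullback g').obj M)) rfl rfl))) ≪≫
      ((Scheme.Modules.pushforward f').rightDerivedZeroIsoSelf.app _).symm⟩
  | succ n =>
    have hN := @H10Coh.isQuasicoherent_hdir _ _ f (H10Coh.MRes.inj M) n _ _ ‹M.IsQuasicoherent›
    haveI := H10Coh.FBC.isIso_transpose g hN
      (H10Coh.FBC.τHdir h
        (H10Coh.FBC.gres (g' := g') (H10Coh.MRes.inj M) (H10Coh.MRes.inj ((Scheme.Modules.pullback g').obj M)) M rfl rfl) n)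
      (fun V V' hV hV' hle => H10Coh.FBC.bijective_locLin_hdir h
        (H10Coh.FBC.gres (g' := g') (H10Coh.MRes.inj M) (H10Coh.MRes.inj ((Scheme.Modules.pullback g').obj M)) M rfl rfl)
        ‹Coh.IsQCoh M› n hle hV hV')
    exact ⟨(Scheme.Modules.pullback g).mapIso (H10Coh.nonempty_rpush_iso_hdir f M n).some ≪≫
      asIso (((Scheme.Modules.pullbackPushforwardAdjunction g).homEquiv _ _).symm
        (H10Coh.FBC.τHdir h
          (H10Coh.FBC.gres (g' := g') (H10Coh.MRes.inj M) (H10Coh.MRes.inj ((Scheme.Modules.pullback g').obj M)) M rfl rfl) n)) ≪≫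
      (H10Coh.nonempty_rpush_iso_hdir f' _ n).some.symm⟩


end Groth.Agent.S0033
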