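import Groth.Statements.S0247
import Groth.Agent.H18Pur.Equivalence
import Groth.Agent.H05EGA4.Regular

set_option autoImplicit false
universe u
open Pi1

namespace Groth.Agent.S0247

open AlgebraicGeometry CategoryTheory CategoryTheory.Limits in
/-- For a regular local ring A of Krull dimension at least 2, every finite etale cover of the punctured
spectrum of A extends to a finite etale cover of Spec A. -/
theorem result (A : Type u) [CommRing A] [IsRegularLocalRing A] (h : (2 : WithBot ℕ∞) ≤ ringKrullDim A) :
    FEt.PurityHolds A := by
  haveI : IsNoetherianRing (CommRingCat.of A) := inferInstanceAs (IsNoetherianRing A)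
  have hreg : ∀ y : Spec (CommRingCat.of A), IsRegularLocalRing ((Spec (CommRingCat.of A)).presheaf.stalk y) := fun y => by
    haveI : IsRegularLocalRing (Localization.AtPrime y.asIdeal) :=
      Groth.Agent.H05EGA4.isRegularLocalRing_localization A y.asIdeal
    exact IsRegularLocalRing.of_ringEquiv
      (Spec.stalkIso (CommRingCat.of A) y).commRingCatIsoToRingEquiv.symm
  refine Groth.Agent.H18Pur.restrict_essSurj hreg (FEt.puncturedSpec A) fun x hx => ?_
  have hx' : x = IsLocalRing.closedPoint A := not_not.mp hx
  subst hx'
  haveI : IsLocalization.AtPrime (Localization.AtPrime (IsLocalRing.maximalIdeal A)) (IsLocalRing.maximalIdeal A) :=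
    inferInstance
  rw [ringKrullDim_eq_of_ringEquiv
    (Spec.stalkIso (CommRingCat.of A) (IsLocalRing.closedPoint A)).commRingCatIsoToRingEquiv]
  show 2 ≤ ringKrullDim (Localization.AtPrime (IsLocalRing.maximalIdeal A))
  rw [IsLocalization.AtPrime.ringKrullDim_eq_height (IsLocalRing.maximalIdeal A) (Localization.AtPrime (IsLocalRing.maximalIdeal A)),
    IsLocalRing.maximalIdeal_height_eq_ringKrullDim]
  exact h

end Groth.Agent.S0247
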