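import Groth.Statements.S0291
import Groth.Agent.H05EGA4.ClosedAlong
import Groth.Agent.H4Depth.SkFree
import Mathlib

set_option autoImplicit false
universe u
open Pi1

namespace Groth.Agent.S0291

open AlgebraicGeometry CategoryTheory CategoryTheory.Limits in
/-- Let A be a Noetherian local ring and B a finite A-algebra such that the local rings of Spec B at all
closed points have depth at least 2. Then restriction from global sections of Spec B to sections
over the preimage of the punctured spectrum of A is an isomorphism. -/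
theorem result (A B : Type u) [CommRing A] [IsNoetherianRing A] [IsLocalRing A] [CommRing B] [Algebra A B]
    [Module.Finite A B]
    (h : ∀ (m : Ideal B) (_ : m.IsMaximal), (2 : ℕ∞) ≤ LocCoh.depth (Localization.AtPrime m) (Localization.AtPrime m)) :
    IsIso ((Spec (CommRingCat.of B)).presheaf.map (homOfLE (le_top :
      Spec.map (CommRingCat.ofHom (algebraMap A B)) ⁻¹ᵁ FEt.puncturedSpec A ≤ ⊤)).op) := by
  haveI : IsNoetherianRing B := IsNoetherianRing.of_finite A B
  let J : Ideal B := (IsLocalRing.maximalIdeal A).map (algebraMap A B)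
  have hU : Spec.map (CommRingCat.ofHom (algebraMap A B)) ⁻¹ᵁ FEt.puncturedSpec A =
      Groth.Agent.H05EGA4.ClosedAlong.UJ B J := by
    refine TopologicalSpace.Opens.ext (Set.ext fun (q : PrimeSpectrum B) => ?_)
    show PrimeSpectrum.comap (algebraMap A B) q ≠ IsLocalRing.closedPoint A ↔ ¬ J ≤ q.asIdeal
    rw [not_iff_not, Ideal.map_le_iff_le_comap, PrimeSpectrum.ext_iff]
    exact ⟨fun e => e.ge, fun e => ((IsLocalRing.maximalIdeal.isMaximal A).eq_of_le
      (PrimeSpectrum.comap (algebraMap A B) q).isPrime.ne_top e).symm⟩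
  have hb : Function.Bijective (StructureSheaf.toOpenₗ B B (Groth.Agent.H05EGA4.ClosedAlong.UJ B J)) := by
    refine Groth.Agent.H1CAlg.bijective_of_depth_two _ fun p hp => ?_
    by_cases hle : J ≤ p
    · refine Or.inr ⟨?_, Groth.Agent.H05EGA4.ClosedAlong.notMem_associatedPrimes J p hle⟩
      obtain ⟨e⟩ := Groth.Agent.H4Depth.exists_localizedModule_self_equiv p
      rw [Groth.Agent.H4Depth.depth_congr e]
      refine h p (Ideal.isMaximal_of_isIntegral_of_isMaximal_comap (R := A) p ?_)
      rw [← (IsLocalRing.maximalIdeal.isMaximal A).eq_of_le (Ideal.IsPrime.comap _).ne_top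
        (Ideal.map_le_iff_le_comap.1 hle)]
      infer_instance
    · exact Or.inl (Groth.Agent.H05EGA4.ClosedAlong.bijective_map J p hle)
  have key : ∀ W : (Spec (CommRingCat.of B)).Opens, W = Groth.Agent.H05EGA4.ClosedAlong.UJ B J →
      IsIso ((Spec (CommRingCat.of B)).presheaf.map (homOfLE (le_top : W ≤ ⊤)).op) := by
    rintro W rfl
    rw [ConcreteCategory.isIso_iff_bijective]
    exact (Function.Bijective.of_comp_iff _
      (StructureSheaf.toOpenₗ_top_bijective (R := B) (M := B))).1 hb
  exact key _ hU

end Groth.Agent.S0291
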