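import Groth.Statements.S0376
import Groth.Agent.H4DR.Dualizing.FiniteMap
import Groth.Agent.H4DR.Dualizing.Gorenstein
import Groth.Agent.H05EGA4.CohenStructure

set_option autoImplicit false
universe u v
open CategoryTheory
attribute [local instance] HasDerivedCategory.standard
open Dual

namespace Groth.Agent.S0376

/-- A complete Noetherian local ring has a dualizing complex. -/
theorem result (A : Type u) [CommRing A] [IsLocalRing A] [IsNoetherianRing A] [IsAdicComplete (IsLocalRing.maximalIdeal A) A] : ∃ ω : Dual.D A, Dual.IsDualizing A ω := by
  obtain ⟨R, _, f, hR, hf⟩ := H05EGA4.exists_surjective_of_isRegularLocalRing A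
  obtain ⟨N, hN⟩ := (H4Goren.isGorensteinLocalRing_of_isRegularLocalRing R).exists_hasInjectiveDimensionLT
  exact H4DR.Dualizing.exists_isDualizing_finite f (RingHom.Finite.of_surjective f hf)
    (H4DR.Dualizing.isDualizing_inD_self N)

end Groth.Agent.S0376
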