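import Groth.Statements.S0581
import Groth.Agent.H05EGA4.CompleteNormalization

set_option autoImplicit false
universe u
open CAlg

open IsLocalRing Groth.Agent Groth.Agent.H05EGA4

namespace Groth.Agent.S0581

/-- A complete Noetherian local domain `R` contains a subring `R₀` over which it is module-finite with
the same residue field, where `R₀` is a power series ring in finitely many variables over a field or
over a Cohen ring. Stated with `R₀` given as the image of an injective ring map. -/
theorem result (R : Type u) [CommRing R]
    [IsDomain R] [IsLocalRing R] [IsNoetherianRing R] [IsAdicComplete (IsLocalRing.maximalIdeal R) R] :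
    ∃ (Λ : Type u) (_ : CommRing Λ) (n : ℕ) (f : MvPowerSeries (Fin n) Λ →+* R),
      (IsField Λ ∨ CAlg.IsCohenRing Λ) ∧ Function.Injective f ∧ f.Finite ∧
      Function.Surjective ((IsLocalRing.residue R).comp f) := by
  obtain ⟨Λ, i, n, f, h1, h2, h3, h4⟩ := exists_coefficientRing_of_domain R
  exact ⟨Λ, i, n, f, h1.imp And.left And.left, h2, h3, h4⟩


end Groth.Agent.S0581
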