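import Groth.Statements.S0532
import Groth.Agent.H9Hens.EtaleQuotLift
import Groth.Agent.H9Hens.Local
import Mathlib.RingTheory.Etale.QuasiFinite
-- import your own Groth.Agent.* helpers here

set_option autoImplicit false
universe u
open Hensel

namespace Groth.Agent.S0532

open scoped TensorProduct

/-- If `A` is Henselian at `I`, every finite étale `A/I`-algebra is the base change of a finite étale
`A`-algebra. -/
theorem result (A : Type u) [CommRing A] (I : Ideal A) [HenselianRing A I]
    (C : Type u) [CommRing C] [Algebra (A ⧸ I) C] [Module.Finite (A ⧸ I) C] [Algebra.Etale (A ⧸ I) C] :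
    ∃ (B : Type u) (_ : CommRing B) (_ : Algebra A B), Module.Finite A B ∧ Algebra.Etale A B ∧
      Nonempty (TensorProduct A (A ⧸ I) B ≃ₐ[A ⧸ I] C) := by
  obtain ⟨S, _, _, hS, ⟨e⟩⟩ := H9Hens.exists_etale_lift_quotient A I C
  have hker : I.map (algebraMap A S) ≤ RingHom.ker
      (Algebra.TensorProduct.includeRight : S →ₐ[A] (A ⧸ I) ⊗[A] S) :=
    Ideal.map_le_iff_le_comap.mpr fun a ha => by
      rw [Ideal.mem_comap, RingHom.mem_ker, AlgHom.commutes,
        Algebra.TensorProduct.algebraMap_apply, Ideal.Quotient.algebraMap_eq,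
        Ideal.Quotient.eq_zero_iff_mem.mpr ha, TensorProduct.zero_tmul]
  have hfin0 : Module.Finite A (S ⧸ (I.map (algebraMap A S) ⊔ Ideal.span {1 - (1 : S)})) := by
    have : Module.Finite (A ⧸ I) ((A ⧸ I) ⊗[A] S) := Module.Finite.equiv e.symm.toLinearEquiv
    have : Module.Finite (A ⧸ I) (S ⧸ I.map (algebraMap A S)) :=
      Module.Finite.equiv (Algebra.TensorProduct.quotIdealMapEquivQuotTensor S I).symm.toLinearEquiv
    have : Module.Finite A (S ⧸ I.map (algebraMap A S)) := Module.Finite.trans (A ⧸ I) _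
    rw [sub_self, Ideal.span_singleton_zero, sup_bot_eq]
    exact this
  obtain ⟨i, hi, hi1, hfin⟩ := H9Hens.exists_finitePart (1 : S) (by simp) hfin0
    (fun q _ _ => inferInstance)
  let B := S ⧸ Ideal.span {1 - i}
  have : IsLocalization.Away i B := IsLocalization.away_of_isIdempotentElem hi
    (by rw [Ideal.Quotient.algebraMap_eq, Ideal.mk_ker]) Ideal.Quotient.mk_surjective
  have : Algebra.Etale S B := Algebra.Etale.of_isLocalizationAway i
  refine ⟨B, inferInstance, inferInstance, hfin, Algebra.Etale.comp A S B, ⟨?_⟩⟩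
  let F : S →ₐ[A] B := Ideal.Quotient.mkₐ A _
  let Φ := Algebra.TensorProduct.map (AlgHom.id (A ⧸ I) (A ⧸ I)) F
  have hΦ : Function.Bijective Φ := by
    refine ⟨?_, ?_⟩
    · let G : B →ₐ[A] (A ⧸ I) ⊗[A] S := Ideal.Quotient.liftₐ _ Algebra.TensorProduct.includeRight
        fun x hx => by
          obtain ⟨y, rfl⟩ := Ideal.mem_span_singleton'.mp hx
          exact hker (Ideal.mul_mem_left _ _ (by rw [← neg_sub]; exact neg_mem hi1))
      let Ψ : (A ⧸ I) ⊗[A] B →ₐ[A ⧸ I] (A ⧸ I) ⊗[A] S :=
        Algebra.TensorProduct.lift (Algebra.ofId _ _) G fun _ _ => Commute.all _ _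
      have hG : ∀ s, G (F s) = (1 : A ⧸ I) ⊗ₜ[A] s := fun s => rfl
      have h : Ψ.comp Φ = AlgHom.id (A ⧸ I) _ := Algebra.TensorProduct.ext' fun a s => by
        rw [AlgHom.comp_apply, Algebra.TensorProduct.map_tmul, Algebra.TensorProduct.lift_tmul,
          hG, AlgHom.id_apply, AlgHom.id_apply, Algebra.ofId_apply,
          Algebra.TensorProduct.algebraMap_apply, Algebra.TensorProduct.tmul_mul_tmul, one_mul,
          mul_one, Algebra.algebraMap_self_apply]
      exact Function.LeftInverse.injective (g := Ψ) fun x => DFunLike.congr_fun h x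
    · intro x
      induction x using TensorProduct.induction_on with
      | zero => exact ⟨0, map_zero _⟩
      | tmul a b =>
        obtain ⟨s, rfl⟩ := Ideal.Quotient.mk_surjective b
        exact ⟨a ⊗ₜ s, Algebra.TensorProduct.map_tmul _ _ _ _⟩
      | add x y hx hy =>
        obtain ⟨u, hu⟩ := hx; obtain ⟨v, hv⟩ := hy
        exact ⟨u + v, by rw [map_add, hu, hv]⟩
  exact (AlgEquiv.ofBijective Φ hΦ).symm.trans e

end Groth.Agent.S0532
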