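import Groth.Statements.S0239
import Groth.Agent.H18Et.FEtRestrict
import Groth.Agent.H9Hens.SchemeSections
import Groth.Agent.S0532

set_option autoImplicit false
universe u
open Pi1

namespace Groth.Agent.S0239

open AlgebraicGeometry CategoryTheory CategoryTheory.Limits in
/-- For a henselian pair (A, I) in Mathlib's sense, restricting finite etale covers from Spec A to the
closed subscheme Spec (A/I) is an equivalence of categories. -/
theorem result (A : Type u) [CommRing A] (I : Ideal A) [HenselianRing A I] :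
    (FEt.restrict (Spec.map (CommRingCat.ofHom (Ideal.Quotient.mk I)))).IsEquivalence := by
  let g := Spec.map (CommRingCat.ofHom (Ideal.Quotient.mk I))
  have hgr : Set.range g = PrimeSpectrum.zeroLocus (I : Set A) := by
    refine (range_comap_of_surjective _ _ Ideal.Quotient.mk_surjective).trans ?_
    rw [Ideal.mk_ker]
  haveI hgc : IsClosedImmersion g := IsClosedImmersion.spec_of_surjective _ Ideal.Quotient.mk_surjective
  have hMC : H18Et.FEtRestrict.MeetsClopens g := by
    intro V hV hne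
    obtain ⟨J, rfl⟩ := (PrimeSpectrum.isClosed_iff_zeroLocus_ideal V).mp hV.1
    have hJ : J ≠ ⊤ := fun h => by
      subst h
      simp only [Submodule.top_coe, PrimeSpectrum.zeroLocus_univ] at hne
      obtain ⟨x, hx⟩ := hne
      exact hx.elim
    obtain ⟨m, hm, hJm⟩ := Ideal.exists_le_maximal J hJ
    exact ⟨⟨m, hm.isPrime⟩, hJm, hgr ▸
      ((HenselianRing.jac (I := I)).trans (sInf_le ⟨bot_le, hm⟩) : I ≤ m)⟩
  have hCD : H18Et.FEtRestrict.ClopensDescend g := by
    intro P W' hW'
    let π : P.left ⟶ Spec (CommRingCat.of A) := P.hom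
    haveI : IsFinite π := P.prop.1
    haveI : IsAffine P.left := isAffine_of_isAffineHom π
    let e := P.left.isoSpec
    let φ := Spec.preimage (e.inv ≫ π)
    have hφ : e.hom ≫ Spec.map φ = π := by rw [Spec.map_preimage, Iso.hom_inv_id_assoc]
    have hfin : φ.hom.Finite := by
      rw [← IsFinite.SpecMap_iff, Spec.map_preimage]; infer_instance
    letI : Algebra A Γ(P.left, ⊤) := φ.hom.toAlgebra
    haveI : Module.Finite A Γ(P.left, ⊤) := hfin
    let J := I.map (algebraMap A Γ(P.left, ⊤))
    let ι := (e.hom : P.left ⟶ _)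
    have hj : Topology.IsClosedEmbedding (pullback.fst π g ≫ ι) :=
      (pullback.fst π g ≫ ι).isClosedEmbedding
    have hr : Set.range (pullback.fst π g ≫ ι) = PrimeSpectrum.zeroLocus (J : Set Γ(P.left, ⊤)) := by
      have h1 : Set.range (pullback.fst π g) = π ⁻¹' PrimeSpectrum.zeroLocus (I : Set A) := by
        rw [← hgr]; exact Scheme.Pullback.range_fst _ _
      have h2 : π ⁻¹' PrimeSpectrum.zeroLocus (I : Set A) =
          ι ⁻¹' PrimeSpectrum.zeroLocus (J : Set Γ(P.left, ⊤)) := by
        have h3 : PrimeSpectrum.comap φ.hom ⁻¹' PrimeSpectrum.zeroLocus (I : Set A) =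
            PrimeSpectrum.zeroLocus (J : Set Γ(P.left, ⊤)) := by
          rw [PrimeSpectrum.preimage_comap_zeroLocus]
          exact (PrimeSpectrum.zeroLocus_span _).symm
        rw [← h3, ← hφ]
        rfl
      simp only [Scheme.Hom.comp_base, TopCat.coe_comp, Set.range_comp]
      rw [h1, h2]
      exact Set.image_preimage_eq _ e.hom.surjective
    have H := (H9Hens.clopen_lift_iff J (pullback.fst π g ≫ ι) hj hr).mpr (fun b hb => by
      obtain ⟨x, hx, hxb⟩ := H9Hens.exists_idem_lift (I := I) b hb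
      refine ⟨x, ⟨hx, hxb⟩, fun y hy => ?_⟩
      refine H9Hens.idem_eq_of_sub_mem
        (H9Hens.map_le_jacobson_of_isIntegral (HenselianRing.jac (I := I))) hy.1 hx ?_
      simpa using Ideal.sub_mem J hy.2 hxb) W' hW'
    obtain ⟨U, ⟨hU, hUW⟩, -⟩ := H
    exact ⟨ι ⁻¹' U, hU.preimage ι.continuous, hUW⟩
  haveI := H18Et.FEtRestrict.faithful g hMC
  haveI := H18Et.FEtRestrict.full g hMC hCD
  haveI : (FEt.restrict g).EssSurj := ⟨fun V => by
    let π : V.left ⟶ Spec (CommRingCat.of (A ⧸ I)) := V.hom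
    haveI : IsFinite π := V.prop.1
    haveI : Etale π := V.prop.2
    haveI : IsAffine V.left := isAffine_of_isAffineHom π
    let e := V.left.isoSpec
    let φ := Spec.preimage (e.inv ≫ π)
    have hφ : e.hom ≫ Spec.map φ = π := by rw [Spec.map_preimage, Iso.hom_inv_id_assoc]
    letI : Algebra (A ⧸ I) Γ(V.left, ⊤) := φ.hom.toAlgebra
    haveI : Module.Finite (A ⧸ I) Γ(V.left, ⊤) := by
      refine (RingHom.finite_algebraMap (A := A ⧸ I) (B := Γ(V.left, ⊤))).mp ?_
      show φ.hom.Finite
      rw [← IsFinite.SpecMap_iff, Spec.map_preimage]; infer_instance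
    haveI : Algebra.Etale (A ⧸ I) Γ(V.left, ⊤) := by
      refine RingHom.etale_algebraMap.mp ?_
      show φ.hom.Etale
      rw [← HasRingHomProperty.Spec_iff (P := @Etale), Spec.map_preimage]; infer_instance
    obtain ⟨B, _, _, hBf, hBe, ⟨θ⟩⟩ := Groth.Agent.S0532.result A I Γ(V.left, ⊤)
    let q := Spec.map (CommRingCat.ofHom (algebraMap A B))
    have hq1 : IsFinite q := (IsFinite.SpecMap_iff _).mpr (RingHom.finite_algebraMap.mpr hBf)
    have hq2 : Etale q := (HasRingHomProperty.Spec_iff (P := @Etale)).mpr (RingHom.etale_algebraMap.mpr hBe)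
    refine ⟨MorphismProperty.Over.mk ⊤ q ⟨hq1, hq2⟩, ⟨MorphismProperty.Over.isoMk
      (pullbackSymmetry q g ≪≫ pullbackSpecIso A (A ⧸ I) B ≪≫
        Scheme.Spec.mapIso θ.toRingEquiv.toCommRingCatIso.op.symm ≪≫ e.symm) ?_⟩⟩
    show (_ ≫ _ ≫ _ ≫ e.inv) ≫ π = pullback.snd q g
    simp only [Category.assoc]
    rw [← hφ, Iso.inv_hom_id_assoc]
    have h4 : CommRingCat.ofHom (algebraMap (A ⧸ I) (TensorProduct A (A ⧸ I) B)) =
        φ ≫ CommRingCat.ofHom θ.symm.toAlgHom.toRingHom := by
      ext x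
      exact (θ.symm.commutes x).symm
    rw [← cancel_epi (pullbackSymmetry _ _).inv, Iso.inv_hom_id_assoc, pullbackSymmetry_inv_comp_snd,
      ← cancel_epi (pullbackSpecIso A (A ⧸ I) B).inv, Iso.inv_hom_id_assoc, pullbackSpecIso_inv_fst]
    refine Eq.trans ?_ (congrArg (fun t => Spec.map t) h4.symm)
    rw [Spec.map_comp]
    rfl⟩
  exact ⟨inferInstance, inferInstance, inferInstance⟩

end Groth.Agent.S0239
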