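import Groth.Statements.S14269
import Groth.Agent.H11LefFEt.VDim

set_option autoImplicit false
universe u
open Pi1

namespace Groth.Agent.S14269

open AlgebraicGeometry CategoryTheory CategoryTheory.Limits in
/-- Let A be a Noetherian local ring of virtual dimension at least 2, the virtual dimension being
expressed through a presentation of the adic completion of A as a quotient S/I of a complete regular
local ring S of Krull dimension d by an ideal I generated by a finite set of at most d - 2 elements.
Then the restriction functor from finite etale covers of Spec A to finite etale covers of the
punctured spectrum is fully faithful, and the punctured spectrum is connected. (The published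
statement also records the surjectivity of the induced map on etale fundamental groups, which is the
usual reformulation of full faithfulness and is not restated here.) -/
theorem result (A : Type u) [CommRing A] [IsNoetherianRing A] [IsLocalRing A]
    (S : Type u) [CommRing S] [IsRegularLocalRing S] [IsAdicComplete (IsLocalRing.maximalIdeal S) S]
    (d : ℕ) (hd : ringKrullDim S = d) (s : Finset S) (hs : s.card + 2 ≤ d)
    (e : AdicCompletion (IsLocalRing.maximalIdeal A) A ≃+* S ⧸ Ideal.span (s : Set S)) :
    ((FEt.restrict (FEt.puncturedSpec A).ι).Full ∧ (FEt.restrict (FEt.puncturedSpec A).ι).Faithful) ∧
      ConnectedSpace ↥(FEt.puncturedSpec A : Scheme.{u}) := by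
  exact ⟨Groth.Agent.H11LefFEt.VDim.full_faithful A (Groth.Agent.H11LefFEt.VDim.exists_ne_closedPoint A S d hd s hs e)
    fun P z hz => Groth.Agent.H11LefFEt.VDim.isPreconnected_gens A S d hd s hs e P z hz,
    Groth.Agent.H11LefFEt.VDim.connectedSpace A S d hd s hs e⟩

end Groth.Agent.S14269
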