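import Groth.Statements.S1186
import Groth.Agent.H05EGA4.PushoutEt
import Groth.Agent.S1465
import Groth.Agent.H28Pinch.Glued
import Groth.Agent.H8Props.PushoutProps.Basic

set_option autoImplicit false
set_option backward.isDefEq.respectTransparency false
set_option backward.isDefEq.respectTransparency.types false
universe u
open Pi1

namespace Groth.Agent.S1186

open AlgebraicGeometry CategoryTheory CategoryTheory.Limits in
/-- Let i : Z ⟶ X be a closed immersion and j : Z ⟶ Y an integral morphism such that every fibre of j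
lies in the preimage under i of some affine open of X, and let a : X ⟶ W, b : Y ⟶ W exhibit W as the
pushout of i and j in the category of schemes. If U is finite étale over X and V is finite étale
over Y with U ×_X Z ≅ V ×_Y Z over Z, then there is a finite étale cover T of W whose restrictions
to X and to Y are isomorphic to U and to V respectively. (This is the essential-surjectivity part of
an equivalence between finite étale covers of W and the 2-fibre product of the categories of finite
étale covers of X and of Y over that of Z; only the gluing of objects is asserted, and the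
compatibility of the two identifications over Z is not asserted.) -/
theorem result {Z X Y W : Scheme.{u}} (i : Z ⟶ X) [IsClosedImmersion i] (j : Z ⟶ Y) [IsIntegralHom j]
    (h3 : ∀ y : Y, ∃ U : X.Opens, IsAffineOpen U ∧ ∀ z : Z, j.base z = y → i.base z ∈ U)
    (a : X ⟶ W) (b : Y ⟶ W) (hpo : IsPushout i j a b)
    (U : FEt.Cat X) (V : FEt.Cat Y) (e : (FEt.restrict i).obj U ≅ (FEt.restrict j).obj V) :
    ∃ T : FEt.Cat W, Nonempty ((FEt.restrict a).obj T ≅ U) ∧ Nonempty ((FEt.restrict b).obj T ≅ V) := by
  haveI : IsFinite U.hom := U.prop.1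
  haveI : Etale U.hom := U.prop.2
  haveI : IsFinite V.hom := V.prop.1
  haveI : Etale V.hom := V.prop.2
  have haff : ∀ y : Y, ∃ O : X.Opens, IsAffineOpen O ∧ j ⁻¹' {y} ⊆ (i ⁻¹ᵁ O : Set ↑Z) := fun y => by
    obtain ⟨O, hO, hsub⟩ := h3 y
    exact ⟨O, hO, fun z hz => hsub z hz⟩
  let h' : pullback U.hom i ⟶ Z := pullback.snd U.hom i
  have hX : IsPullback h' (pullback.fst U.hom i) i U.hom := (IsPullback.of_hasPullback U.hom i).flip
  let el : pullback U.hom i ≅ pullback V.hom j :=
    (MorphismProperty.Over.forget _ ⊤ Z ⋙ CategoryTheory.Over.forget Z).mapIso e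
  have hel : el.hom ≫ pullback.snd V.hom j = h' := Over.w e.hom.hom
  have hY : IsPullback h' (el.hom ≫ pullback.fst V.hom j) j V.hom :=
    (IsPullback.of_hasPullback V.hom j).flip.of_iso el.symm (Iso.refl _) (Iso.refl _) (Iso.refl _)
      (by simp [← hel]) (by simp) (by simp) (by simp)
  haveI : IsFinite h' := MorphismProperty.pullback_snd (P := @IsFinite) _ _ inferInstance
  obtain ⟨W₁, W', a₁, b₁, a', b', k, hW, hW', hka, hkb, _, _, _, hga, hfb⟩ :=
    Groth.Agent.S1465.result i j haff (pullback.fst U.hom i) (el.hom ≫ pullback.fst V.hom j) U.hom V.hom h' hX hY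
  haveI : Etale k := Groth.Agent.H05EGA4.PushoutEt.etale_of_isPushout i j haff b₁ a₁ hW.flip U.hom V.hom
    (pullback.fst U.hom i) (el.hom ≫ pullback.fst V.hom j) h' hX hY b' a' hW'.flip k hkb hka
  haveI : IsFinite k := by
    haveI : IsClosedImmersion (pullback.fst U.hom i) := inferInstance
    haveI : IsIntegralHom (el.hom ≫ pullback.fst V.hom j) := inferInstance
    obtain ⟨hb₁, ha₁, -⟩ := Groth.Agent.H8Props.PushoutProps.pushout_facts i j haff b₁ a₁ hW.flip
    haveI := hb₁
    haveI := ha₁
    have haff' : ∀ y : V.left, ∃ O : U.left.Opens, IsAffineOpen O ∧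
        (el.hom ≫ pullback.fst V.hom j) ⁻¹' {y} ⊆ ((pullback.fst U.hom i) ⁻¹ᵁ O : Set ↑(pullback U.hom i)) := fun y => by
      obtain ⟨O, hO, hsub⟩ := haff (V.hom y)
      refine ⟨U.hom ⁻¹ᵁ O, hO.preimage U.hom, fun z hz => ?_⟩
      show U.hom (pullback.fst U.hom i z) ∈ O
      rw [← Scheme.Hom.comp_apply, ← hX.w, Scheme.Hom.comp_apply]
      refine hsub ?_
      show j (h' z) = V.hom y
      rw [← Scheme.Hom.comp_apply, hY.w, Scheme.Hom.comp_apply,
        show (el.hom ≫ pullback.fst V.hom j) z = y from hz]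
      rfl
    obtain ⟨-, -, hjs⟩ := Groth.Agent.H8Props.PushoutProps.pushout_facts _ _ haff' b' a' hW'.flip
    haveI : UniversallyClosed (b' ≫ k) := by rw [hkb]; infer_instance
    haveI : UniversallyClosed (a' ≫ k) := by rw [hka]; infer_instance
    haveI : UniversallyClosed k := Groth.Agent.H28Pinch.universallyClosed_of_pair b' a' k hjs
    haveI : IsProper k := {}
    exact IsFinite.of_isProper_of_locallyQuasiFinite k
  let ι : W₁ ≅ W := hW.flip.isoIsPushout _ _ hpo
  have hιa : b₁ ≫ ι.hom = a := hW.flip.inl_isoIsPushout_hom _ _ hpo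
  have hιb : a₁ ≫ ι.hom = b := hW.flip.inr_isoIsPushout_hom _ _ hpo
  have hTa : IsPullback b' U.hom (k ≫ ι.hom) a :=
    hfb.flip.of_iso (Iso.refl _) (Iso.refl _) (Iso.refl _) ι (by simp) (by simp) (by simp) (by simp [hιa])
  have hTb : IsPullback a' V.hom (k ≫ ι.hom) b :=
    hga.flip.of_iso (Iso.refl _) (Iso.refl _) (Iso.refl _) ι (by simp) (by simp) (by simp) (by simp [hιb])
  refine ⟨MorphismProperty.Over.mk ⊤ (k ≫ ι.hom) ⟨inferInstance, inferInstance⟩, ⟨?_⟩, ⟨?_⟩⟩
  · exact MorphismProperty.Over.isoMk hTa.isoPullback.symm (hTa.isoPullback_inv_snd)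
  · exact MorphismProperty.Over.isoMk hTb.isoPullback.symm (hTb.isoPullback_inv_snd)

end Groth.Agent.S1186
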