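import Groth.Statements.S8847
import Groth.Agent.H29Slice.Fibre
import Mathlib

set_option autoImplicit false
universe u
open CategoryTheory CategoryTheory.Limits AlgebraicGeometry TopologicalSpace
open SDiv

namespace Groth.Agent.S8847

theorem finitePresentation_appLE_quot {X S : Scheme.{u}} (f : X ⟶ S) (I : X.IdealSheafData)
    [LocallyOfFinitePresentation (I.subschemeι ≫ f)]
    (U : S.affineOpens) (V : X.affineOpens) (e : V.1 ≤ f ⁻¹ᵁ U.1) :
    ((Ideal.Quotient.mk (I.ideal V)).comp (f.appLE U.1 V.1 e).hom).FinitePresentation := by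
  have h2 := LocallyOfFinitePresentation.finitePresentation_appLE (I.subschemeι ≫ f) U.2
    (V.2.preimage I.subschemeι) (fun y hy => e hy)
  rwa [← Scheme.Hom.appLE_comp_appLE I.subschemeι f U.1 V.1 (I.subschemeι ⁻¹ᵁ V.1) e le_rfl,
    ← Scheme.Hom.app_eq_appLE, Scheme.IdealSheafData.subschemeι_app, ← Category.assoc,
    CommRingCat.hom_comp, RingHom.finitePresentation_respectsIso.cancel_right_isIso, CommRingCat.hom_comp,
    CommRingCat.hom_ofHom] at h2



/-- Let φ : X ⟶ S be flat and locally of finite presentation and let 𝓘 be a quasi-coherent ideal sheaf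
on X whose closed subscheme Z is flat and locally of finite presentation over S. If for every point
s of S the inverse image ideal of 𝓘 on the scheme-theoretic fibre X_s is the ideal sheaf of an
effective Cartier divisor of X_s, then 𝓘 is the ideal sheaf of an effective Cartier divisor of X;
together with the flatness of Z over S this says Z is a relative effective Cartier divisor. -/
theorem result {X S : Scheme.{u}} (φ : X ⟶ S) [Flat φ] [LocallyOfFinitePresentation φ]
    (𝓘 : X.IdealSheafData) [Flat (𝓘.subschemeι ≫ φ)] [LocallyOfFinitePresentation (𝓘.subschemeι ≫ φ)]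
    (hfib : ∀ s : ↥S, BlowUp.IsEffCartierIdeal (𝓘.comap (φ.fiberι s))) :
    BlowUp.IsEffCartierIdeal 𝓘 := by
  refine (H29Slice.isEffCartier_and_flat_of_fibres φ 𝓘 (fun x _ =>
    H29Slice.exists_principal_nhd φ 𝓘 x (hfib _) fun U hxU => ?_) hfib).1
  obtain ⟨W, hW, hxW, -⟩ := exists_isAffineOpen_mem_and_subset (Opens.mem_top (φ x))
  obtain ⟨U', hU', hxU', hle⟩ := exists_isAffineOpen_mem_and_subset (U := U.1 ⊓ φ ⁻¹ᵁ W) (x := x)
    ⟨hxU, hxW⟩
  have e : U' ≤ φ ⁻¹ᵁ W := fun y hy => (hle hy).2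
  refine ⟨⟨U', hU'⟩, hxU', fun y hy => (hle hy).1, ?_⟩
  have h1 := finitePresentation_appLE_quot φ 𝓘 ⟨W, hW⟩ ⟨U', hU'⟩ e
  let J : Ideal Γ(X, U') := 𝓘.ideal ⟨U', hU'⟩
  letI : Algebra Γ(S, W) Γ(X, U') := (φ.appLE W U' e).hom.toAlgebra
  haveI : Algebra.FinitePresentation Γ(S, W) (Γ(X, U') ⧸ J) := h1
  haveI : Algebra.FinitePresentation Γ(S, W) Γ(X, U') :=
    LocallyOfFinitePresentation.finitePresentation_appLE φ hW hU' e
  have h3 := Algebra.FinitePresentation.ker_fG_of_surjective (Ideal.Quotient.mkₐ Γ(S, W) J)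
    (Ideal.Quotient.mkₐ_surjective Γ(S, W) J)
  have h4 : J.FG := by
    rwa [show RingHom.ker (Ideal.Quotient.mkₐ Γ(S, W) J).toRingHom = J from
      Ideal.Quotient.mkₐ_ker Γ(S, W) J] at h3
  exact h4

end Groth.Agent.S8847
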