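import Groth.Statements.S14503
import Groth.Agent.H22Alg.DetLengthGeneral
import Groth.Agent.H22Alg.FiniteLength
import Groth.Agent.H22Alg.OrdFrac
import Mathlib.RingTheory.Norm.Basic

set_option autoImplicit false
universe u
open IntTh

namespace Groth.Agent.S14503

open Matrix

/-- Let A ⊆ B be a module-finite extension of domains with A Noetherian local of Krull dimension one, K
⊆ L their fraction fields, and r ∈ B nonzero. Then B/rB has finite length as an A-module and
length_A(B/rB) equals the order at the closed point of A of the norm N_{L/K}(r), i.e.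
length_A(A/(a)) − length_A(A/(b)) for N_{L/K}(r) = a/b. -/
theorem result (A : Type u) [CommRing A] [IsDomain A]
    [IsNoetherianRing A] [IsLocalRing A] (hA : ringKrullDim A = 1) (B : Type u) [CommRing B]
    [IsDomain B] [Algebra A B] (hinj : Function.Injective (algebraMap A B)) [Module.Finite A B]
    (K L : Type u) [Field K] [Field L] [Algebra A K] [IsFractionRing A K] [Algebra B L]
    [IsFractionRing B L] [Algebra K L] [Algebra A L] [IsScalarTower A B L] [IsScalarTower A K L]
    [FiniteDimensional K L] (r : B) (hr : r ≠ 0) :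
    Module.length A (B ⧸ Ideal.span {r}) < ⊤ ∧
      ((Module.length A (B ⧸ Ideal.span {r})).toNat : ℤ) =
        CycAlg.ordFrac A K (Algebra.norm K (algebraMap B L r)) := by
  have hA' : Ring.KrullDimLE 1 A := (Ring.krullDimLE_iff (n := 1)).mpr (by rw [hA]; rfl)
  set φ : B →ₗ[A] L := (IsScalarTower.toAlgHom A B L).toLinearMap
  have hφ : Function.Injective φ := IsFractionRing.injective B L
  have hAK : Function.Injective (algebraMap A K) := IsFractionRing.injective A K
  let T : Subalgebra K L := Algebra.adjoin K (Set.range (algebraMap B L))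
  have hspan : Submodule.span K (Set.range (algebraMap B L)) = ⊤ := by
    have h1 : Subalgebra.toSubmodule T = Submodule.span K (Set.range (algebraMap B L)) := by
      rw [Algebra.adjoin_eq_span]
      congr 1
      show ((Submonoid.closure ((algebraMap B L).range : Set L) : Submonoid L) : Set L) = _
      exact congrArg SetLike.coe (Submonoid.closure_eq (algebraMap B L).range.toSubmonoid)
    rw [← h1, eq_top_iff]
    intro z _
    obtain ⟨x, y, _, rfl⟩ := IsFractionRing.div_surjective B z
    have hT : ∀ w, algebraMap B L w ∈ T := fun w => Algebra.subset_adjoin ⟨w, rfl⟩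
    show algebraMap B L x / algebraMap B L y ∈ T
    rw [div_eq_mul_inv]
    exact T.mul_mem (hT x) (T.inv_mem_of_algebraic (x := ⟨_, hT y⟩) (Algebra.IsAlgebraic.isAlgebraic _))
  obtain ⟨s, hs, hsb, hli⟩ := exists_linearIndependent K (Set.range (algebraMap B L))
  rw [hspan] at hsb
  let b₀ : Module.Basis s K L := Module.Basis.mk hli (by rw [Subtype.range_coe]; exact hsb.ge)
  have : Fintype s := FiniteDimensional.fintypeBasisIndex b₀
  set n := Fintype.card s
  let b : Module.Basis (Fin n) K L := b₀.reindex (Fintype.equivFin s)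
  have hb : ∀ i, ∃ w : B, φ w = b i := fun i => by
    simp only [b, Module.Basis.reindex_apply, b₀, Module.Basis.mk_apply]
    exact hs ((Fintype.equivFin s).symm i).2
  choose e he using hb
  let ι : (Fin n → A) →ₗ[A] B := Fintype.linearCombination A e
  have hι : ∀ v, φ (ι v) = ∑ i, algebraMap A K (v i) • b i := fun v => by
    simp only [ι, Fintype.linearCombination_apply, map_sum, map_smul, he, algebraMap_smul]
  have hinjι : Function.Injective ι := by
    intro v w h
    have h' := congrArg φ h
    rw [hι, hι] at h'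
    funext i
    apply hAK
    have := congrArg (fun z => b.repr z i) h'
    simpa only [b.repr_sum_self] using this
  have hfin : Module.length A (B ⧸ LinearMap.range ι) ≠ ⊤ := by
    refine Groth.Agent.H22Alg.length_ne_top_of_support_maximal fun p hp => ?_
    obtain ⟨m, hm⟩ := Module.mem_support_iff'.mp hp
    obtain ⟨z, rfl⟩ := Submodule.Quotient.mk_surjective _ m
    obtain ⟨a, ha⟩ := IsLocalization.exist_integer_multiples_of_finite (nonZeroDivisors A) (fun i => b.repr (φ z) i)
    choose v hv using ha
    have hap : (a : A) ∈ p.asIdeal := by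
      by_contra hap
      refine hm a hap ?_
      rw [← Submodule.Quotient.mk_smul, Submodule.Quotient.mk_eq_zero]
      refine ⟨v, hφ ?_⟩
      rw [hι, map_smul, ← algebraMap_smul K (a : A) (φ z)]
      conv_rhs => rw [← b.sum_repr (φ z), Finset.smul_sum]
      refine Finset.sum_congr rfl fun i _ => ?_
      rw [hv i, smul_assoc, algebraMap_smul]
    have hne : p.asIdeal ≠ ⊥ := fun h => nonZeroDivisors.coe_ne_zero a (by rwa [h, Ideal.mem_bot] at hap)
    exact Ideal.isMaximal_of_isPrime_of_ne_bot p.asIdeal hne
  -- lengths of cokernels of composites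
  have hcomp : ∀ {X : Type u} [AddCommGroup X] [Module A X] {W : Type u} [AddCommGroup W] [Module A W]
      (f : X →ₗ[A] B), Function.Injective f → ∀ h : W →ₗ[A] X,
      Module.length A (B ⧸ LinearMap.range (f ∘ₗ h)) =
        Module.length A (X ⧸ LinearMap.range h) + Module.length A (B ⧸ LinearMap.range f) := by
    intro X _ _ W _ _ f hf h
    have hsub : LinearMap.range (f ∘ₗ h) ≤ LinearMap.range f := LinearMap.range_comp_le_range _ _
    refine Module.length_eq_add_of_exact
      (Submodule.mapQ (LinearMap.range h) (LinearMap.range (f ∘ₗ h)) f (by rintro _ ⟨w, rfl⟩; exact ⟨w, rfl⟩))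
      (Submodule.factor hsub) ?_ (Submodule.factor_surjective hsub) ?_
    · rw [injective_iff_map_eq_zero]
      intro z hz
      obtain ⟨y, rfl⟩ := Submodule.Quotient.mk_surjective _ z
      rw [Submodule.mapQ_apply, Submodule.Quotient.mk_eq_zero] at hz
      obtain ⟨w, hw⟩ := hz
      rw [Submodule.Quotient.mk_eq_zero]
      exact ⟨w, hf hw⟩
    · intro z
      obtain ⟨z, rfl⟩ := Submodule.Quotient.mk_surjective _ z
      show Submodule.Quotient.mk z = 0 ↔ _
      rw [Submodule.Quotient.mk_eq_zero]
      constructor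
      · rintro ⟨y, rfl⟩
        exact ⟨Submodule.Quotient.mk y, rfl⟩
      · rintro ⟨w, hw⟩
        obtain ⟨y, rfl⟩ := Submodule.Quotient.mk_surjective _ w
        rw [Submodule.mapQ_apply, Submodule.Quotient.eq] at hw
        have := Submodule.sub_mem _ (LinearMap.mem_range_self f y) (hsub hw)
        rwa [sub_sub_cancel] at this
  let μ : B → (B →ₗ[A] B) := fun z => LinearMap.mulLeft A z
  have hquot : ∀ z : B, Module.length A (B ⧸ LinearMap.range (μ z)) = Module.length A (B ⧸ Ideal.span {z}) := fun z =>
    LinearEquiv.length_eq ((Submodule.quotEquivOfEq _ ((Ideal.span {z}).restrictScalars A) (by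
      ext w
      rw [Submodule.restrictScalars_mem, Ideal.mem_span_singleton']
      exact ⟨fun ⟨y, hy⟩ => ⟨y, (mul_comm y z).trans hy⟩, fun ⟨y, hy⟩ => ⟨y, (mul_comm z y).trans hy⟩⟩)).trans
        (Submodule.Quotient.restrictScalarsEquiv A _))
  have hmat : ∀ (z : B) (N : Matrix (Fin n) (Fin n) A), z ≠ 0 →
      (∀ v, μ z (ι v) = ι (N *ᵥ v)) → N.det ∈ nonZeroDivisors A →
      Module.length A (B ⧸ Ideal.span {z}) = Ring.ord A N.det := by
    intro z N hz hN hdet
    have hμ : Function.Injective (μ z) := mul_right_injective₀ hz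
    have h1 := hcomp ι hinjι N.mulVecLin
    have h2 := hcomp (μ z) hμ ι
    have e : ι ∘ₗ N.mulVecLin = μ z ∘ₗ ι := LinearMap.ext fun v => (hN v).symm
    rw [e] at h1
    rw [h1, hquot, add_comm (Module.length A (B ⧸ LinearMap.range ι))] at h2
    rw [← Groth.Agent.H22Alg.cokerLength_eq_ord_det N hdet]
    exact ((ENat.add_left_injective_of_ne_top hfin) h2).symm
  obtain ⟨c, hc⟩ := IsLocalization.exist_integer_multiples_of_finite (nonZeroDivisors A)
    (fun ij : Fin n × Fin n => b.repr (φ r * b ij.2) ij.1)
  choose N' hN' using hc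
  let N : Matrix (Fin n) (Fin n) A := Matrix.of fun i j => N' (i, j)
  have hc0 : (c : A) ≠ 0 := nonZeroDivisors.coe_ne_zero c
  have hcB : algebraMap A B c ≠ 0 := (map_ne_zero_iff _ hinj).mpr hc0
  have hNe : ∀ v, μ (algebraMap A B c * r) (ι v) = ι (N *ᵥ v) := fun v => by
    apply hφ
    rw [hι, show φ (μ (algebraMap A B c * r) (ι v)) = φ (algebraMap A B c) * φ r * φ (ι v) by
      simp [μ, φ, IsScalarTower.algebraMap_apply A B L, mul_assoc], hι, Finset.mul_sum]
    simp only [Matrix.mulVec, dotProduct, map_sum, map_mul, Finset.sum_smul]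
    rw [Finset.sum_comm]
    refine Finset.sum_congr rfl fun j _ => ?_
    have hcL : φ (algebraMap A B c) = algebraMap K L (algebraMap A K c) := by
      rw [← IsScalarTower.algebraMap_apply A K L]
      exact (IsScalarTower.algebraMap_apply A B L (c : A)).symm
    conv_lhs => rw [mul_smul_comm, mul_assoc, ← b.sum_repr (φ r * b j), hcL, ← Algebra.smul_def, Finset.smul_sum,
      Finset.smul_sum]
    refine Finset.sum_congr rfl fun i _ => ?_
    have := hN' (i, j)
    rw [Algebra.smul_def] at this
    rw [show N i j = N' (i, j) from rfl, this, smul_smul, smul_smul]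
    congr 1
    ring
  have hnorm : algebraMap A K N.det = algebraMap A K c ^ n * Algebra.norm K (φ r) := by
    rw [Algebra.norm_eq_matrix_det b, RingHom.map_det]
    have : (algebraMap A K).mapMatrix N = algebraMap A K c • Algebra.leftMulMatrix b (φ r) := by
      ext i j
      rw [RingHom.mapMatrix_apply, Matrix.map_apply, Matrix.smul_apply, Algebra.leftMulMatrix_eq_repr_mul]
      exact (hN' (i, j)).trans (algebraMap_smul K (c : A) _).symm
    rw [this, Matrix.det_smul, Fintype.card_fin]
  have hdet : N.det ∈ nonZeroDivisors A := by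
    rw [mem_nonZeroDivisors_iff_ne_zero]
    intro h0
    rw [h0, map_zero, zero_eq_mul, pow_eq_zero_iff', Algebra.norm_eq_zero_iff,
      map_eq_zero_iff _ hAK, map_eq_zero_iff _ hφ] at hnorm
    rcases hnorm with h | h
    · exact hc0 h.1
    · exact hr h
  have h1 := hmat _ N (mul_ne_zero hcB hr) hNe hdet
  have hcn : (c : A) ^ n ∈ nonZeroDivisors A := pow_mem c.2 n
  have hdc : ((c : A) • (1 : Matrix (Fin n) (Fin n) A)).det = (c : A) ^ n := by
    rw [Matrix.det_smul, Fintype.card_fin, Matrix.det_one, mul_one]
  have h2 := hmat _ ((c : A) • (1 : Matrix (Fin n) (Fin n) A)) hcB (fun v => by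
    rw [Matrix.smul_mulVec, Matrix.one_mulVec, map_smul, Algebra.smul_def]; rfl) (hdc ▸ hcn)
  rw [hdc] at h2
  have hsplit : Module.length A (B ⧸ Ideal.span {algebraMap A B c * r}) =
      Module.length A (B ⧸ Ideal.span {r}) + Module.length A (B ⧸ Ideal.span {algebraMap A B c}) := by
    rw [← hquot, ← hquot r, ← hquot (algebraMap A B c)]
    have e : μ (algebraMap A B c * r) = μ (algebraMap A B c) ∘ₗ μ r := LinearMap.ext fun v => mul_assoc _ _ _
    rw [e]
    exact hcomp (μ (algebraMap A B c)) (mul_right_injective₀ hcB) (μ r)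
  rw [h1, h2] at hsplit
  have hordN : Ring.ord A N.det ≠ ⊤ := Ring.ord_ne_top hdet
  rw [hsplit] at hordN
  have hlen : Module.length A (B ⧸ Ideal.span {r}) < ⊤ := (ENat.add_lt_top.mp hordN.lt_top).1
  refine ⟨hlen, ?_⟩
  have heq := congrArg ENat.toNat hsplit
  rw [ENat.toNat_add hlen.ne (Ring.ord_ne_top hcn)] at heq
  have hne : Algebra.norm K (φ r) = algebraMap A K N.det / algebraMap A K ((c : A) ^ n) := by
    rw [hnorm, map_pow, mul_div_cancel_left₀]
    exact pow_ne_zero _ ((map_ne_zero_iff _ hAK).mpr hc0)
  rw [show algebraMap B L r = φ r from rfl, hne, Groth.Agent.H22Alg.cycOrdFrac_div K hdet hcn, heq]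
  push_cast
  ring

end Groth.Agent.S14503
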