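import Groth.Statements.S2189
import Groth.Agent.H11Misc.Vasconcelos
import Groth.Agent.H4Depth.Spread
import Mathlib.RingTheory.Localization.Algebra
import Mathlib.LinearAlgebra.Matrix.NonsingularInverse

set_option autoImplicit false
set_option linter.style.haveILetI false
universe u
open CategoryTheory IsLocalRing
noncomputable section

namespace Groth.Agent.S2189

variable {R : Type u} [CommRing R] [IsNoetherianRing R]

theorem isUnit_end {R A M : Type u} [CommRing R] [CommRing A] [Algebra R A] [AddCommGroup M] [Module A M]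
    [Module R M] [IsScalarTower R A M] (s : R) (h : IsUnit (algebraMap R A s)) :
    IsUnit (algebraMap R (Module.End R M) s) := by
  simpa using h.map (Algebra.lsmul R R M : A →ₐ[R] Module.End R M)

theorem hasProjectiveDimensionLT_map (I : Ideal R) (n : ℕ)
    (hpd : HasProjectiveDimensionLT (ModuleCat.of R I) (n + 1)) (p : Ideal R) [p.IsPrime] :
    HasProjectiveDimensionLT
      (ModuleCat.of (Localization.AtPrime p) (I.map (algebraMap R (Localization.AtPrime p)))) (n + 1) := by
  haveI : HasProjectiveDimensionLE (ModuleCat.of R I) n := hpd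
  have h := ModuleCat.localizedModule_hasProjectiveDimensionLE n p.primeCompl (ModuleCat.of R I)
  haveI := ModuleCat.localizedModule_isLocalizedModule (ModuleCat.of R I) p.primeCompl
  refine @hasProjectiveDimensionLT_of_iso _ _ _ _ _ ?_ (n + 1) h
  exact ((IsLocalizedModule.linearEquiv p.primeCompl ((ModuleCat.of R I).localizedModuleMkLinearMap p.primeCompl)
    (Algebra.idealMap I (S := Localization.AtPrime p))).extendScalarsOfIsLocalization p.primeCompl
      (Localization.AtPrime p)).toModuleIso

theorem exists_regular_generators (I : Ideal R) (n : ℕ)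
    (hpd : HasProjectiveDimensionLT (ModuleCat.of R I) (n + 1))
    [Module.Projective (R ⧸ I) I.Cotangent] (p : Ideal R) [p.IsPrime] (hIp : I ≤ p) :
    ∃ (r : ℕ) (x : Fin r → Localization.AtPrime p), RingTheory.Sequence.IsRegular (Localization.AtPrime p) (List.ofFn x) ∧
      Ideal.span (Set.range x) = I.map (algebraMap R (Localization.AtPrime p)) := by
  classical
  let Rp := Localization.AtPrime p
  let J : Ideal Rp := I.map (algebraMap R Rp)
  have hJ : J ≤ maximalIdeal Rp := by
    rw [← Localization.AtPrime.map_eq_maximalIdeal]; exact Ideal.map_mono hIp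
  have hJtop : J ≠ ⊤ := fun h => (maximalIdeal.isMaximal Rp).ne_top (top_le_iff.1 (h ▸ hJ))
  -- a projective coordinate system of the conormal module
  have hcotfin : Module.Finite (R ⧸ I) I.Cotangent := by
    haveI : Module.Finite R I.Cotangent := Module.Finite.of_surjective I.toCotangent I.toCotangent_surjective
    exact Module.Finite.of_restrictScalars_finite R _ _
  obtain ⟨k, P, hP⟩ := Module.Finite.exists_fin' (R ⧸ I) I.Cotangent
  obtain ⟨σ, hσ⟩ := Module.projective_lifting_property P LinearMap.id hP
  choose w hw using fun i : Fin k => I.toCotangent_surjective (P (Pi.single i 1))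
  -- the coordinates, extended to the localization
  let q : (R ⧸ I) →ₗ[R] Rp ⧸ J := Submodule.liftQ I (Algebra.linearMap R (Rp ⧸ J)) fun z hz =>
    Ideal.Quotient.eq_zero_iff_mem.2 (Ideal.mem_map_of_mem _ hz)
  have hu : ∀ s : p.primeCompl, IsUnit (algebraMap R (Module.End R (Rp ⧸ J)) s) := fun s =>
    isUnit_end (A := Rp) _ (IsLocalization.map_units Rp s)
  let c : Fin k → (J →ₗ[Rp] Rp ⧸ J) := fun i => (IsLocalizedModule.lift p.primeCompl (Algebra.idealMap I (S := Rp))
    (q ∘ₗ ((LinearMap.proj i ∘ₗ σ).restrictScalars R) ∘ₗ I.toCotangent) hu).extendScalarsOfIsLocalization p.primeCompl Rp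
  let w' : Fin k → J := fun i => ⟨algebraMap R Rp (w i), Ideal.mem_map_of_mem _ (w i).2⟩
  let T : J →ₗ[Rp] J.Cotangent := J.toCotangent -
    ∑ i, ((LinearMap.toSpanSingleton (Rp ⧸ J) _ (J.toCotangent (w' i))).restrictScalars Rp) ∘ₗ c i
  have hT : T = 0 := by
    refine LinearMap.restrictScalars_injective R (IsLocalizedModule.ext p.primeCompl (Algebra.idealMap I (S := Rp))
      (fun s => isUnit_end (A := Rp) _ (IsLocalization.map_units Rp s)) ?_)
    ext z
    show T (Algebra.idealMap I (S := Rp) z) = 0
    simp only [T, LinearMap.sub_apply, LinearMap.coe_sum, Finset.sum_apply, LinearMap.comp_apply,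
      LinearMap.restrictScalars_apply, LinearMap.toSpanSingleton_apply]
    have hc : ∀ i, c i (Algebra.idealMap I (S := Rp) z) = q (σ (I.toCotangent z) i) := fun i =>
      IsLocalizedModule.lift_apply p.primeCompl (Algebra.idealMap I (S := Rp)) _ hu z
    choose t ht using fun i => Ideal.Quotient.mk_surjective (σ (I.toCotangent z) i)
    have hqt : ∀ i, c i (Algebra.idealMap I (S := Rp) z) = Ideal.Quotient.mk J (algebraMap R Rp (t i)) := fun i => by
      rw [hc, ← ht]; rfl
    simp only [hqt]
    rw [sub_eq_zero]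
    have key : I.toCotangent z = I.toCotangent (∑ i, t i • w i) := by
      conv_lhs => rw [← LinearMap.id_apply (R := R ⧸ I) (I.toCotangent z), ← hσ, LinearMap.comp_apply,
        pi_eq_sum_univ' (σ (I.toCotangent z)), map_sum]
      rw [map_sum]
      refine Finset.sum_congr rfl fun i _ => ?_
      rw [map_smul, map_smul, hw, ← ht]
      rfl
    rw [Ideal.toCotangent_eq] at key
    have key2 : J.toCotangent (Algebra.idealMap I (S := Rp) z) = J.toCotangent (∑ i, algebraMap R Rp (t i) • w' i) := by
      rw [Ideal.toCotangent_eq]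
      have h1 := Ideal.mem_map_of_mem (algebraMap R Rp) key
      rw [Ideal.map_pow] at h1
      simpa [w', map_sub, map_sum, Algebra.smul_def] using h1
    rw [key2, map_sum]
    refine Finset.sum_congr rfl fun i _ => ?_
    rw [map_smul]
    rfl
  -- minimal generators
  obtain ⟨r, f, hf, hker⟩ := H05EGA4.exists_minimal_surjection (A := Rp) J
  let v : Fin r → J := fun j => f (Pi.single j 1)
  choose a ha using fun i => hf (w' i)
  let ψ : Fin r → (J →ₗ[Rp] Rp ⧸ J) := fun j => ∑ i, a i j • c i
  have hexp : ∀ z : J, J.toCotangent z = ∑ j, ψ j z • J.toCotangent (v j) := fun z => by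
    have h0 : T z = 0 := by rw [hT]; rfl
    simp only [T, LinearMap.sub_apply, LinearMap.coe_sum, Finset.sum_apply, LinearMap.comp_apply,
      LinearMap.restrictScalars_apply, LinearMap.toSpanSingleton_apply, sub_eq_zero] at h0
    have hwv : ∀ i, J.toCotangent (w' i) = ∑ j, a i j • J.toCotangent (v j) := fun i => by
      conv_lhs => rw [← ha i, pi_eq_sum_univ' (a i), map_sum, map_sum]
      simp only [v, map_smul]
    simp only [hwv, Finset.smul_sum] at h0
    rw [h0, Finset.sum_comm]
    refine Finset.sum_congr rfl fun j _ => ?_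
    simp only [ψ, LinearMap.coe_sum, Finset.sum_apply, LinearMap.smul_apply, Finset.sum_smul]
    refine Finset.sum_congr rfl fun i _ => ?_
    obtain ⟨t, ht⟩ := Ideal.Quotient.mk_surjective (c i z)
    rw [← ht]
    show t • a i j • J.toCotangent (v j) = (a i j * t) • J.toCotangent (v j)
    rw [smul_smul, mul_comm]
  let E : Matrix (Fin r) (Fin r) (Rp ⧸ J) := Matrix.of fun l j => ψ j (v l)
  choose t ht using fun (z : J) (j : Fin r) => Ideal.Quotient.mk_surjective (ψ j z)
  have hsq : ∀ z : J, (z : Rp) - ∑ j, t z j * (v j : Rp) ∈ J ^ 2 := fun z => by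
    have h1 : J.toCotangent z = J.toCotangent (∑ j, t z j • v j) := by
      rw [hexp z, map_sum]
      refine Finset.sum_congr rfl fun j _ => ?_
      rw [map_smul, ← ht]
      rfl
    rw [Ideal.toCotangent_eq] at h1
    simpa using h1
  have hE2 : E * E = E := by
    ext l j
    have hz : (⟨_, Ideal.pow_le_self two_ne_zero (hsq (v l))⟩ : J) = v l - ∑ i, t (v l) i • v i :=
      Subtype.ext (by simp)
    have h0 := H11Misc.Vasconcelos.map_sq_eq_zero (ψ j) (hsq (v l)) (Ideal.pow_le_self two_ne_zero (hsq (v l)))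
    rw [hz, map_sub, map_sum, sub_eq_zero] at h0
    simp only [Matrix.mul_apply, E, Matrix.of_apply]
    rw [h0]
    refine Finset.sum_congr rfl fun i _ => ?_
    rw [map_smul, ← ht (v l) i]
    rfl
  have hres : ∀ l j, t (v l) j - (if l = j then 1 else 0) ∈ maximalIdeal Rp := fun l j => by
    obtain ⟨e, he⟩ : ∃ e : Fin r → Rp, (∀ i, e i ∈ J) ∧ ∑ i, e i * (v i : Rp) = (v l : Rp) - ∑ i, t (v l) i * (v i : Rp) := by
      have hspan : J = Ideal.span (Set.range fun i => (v i : Rp)) := by
        refine le_antisymm (fun z hz => ?_) (Ideal.span_le.2 ?_)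
        · obtain ⟨d, hd⟩ := hf ⟨z, hz⟩
          rw [pi_eq_sum_univ' d, map_sum] at hd
          rw [show z = ((⟨z, hz⟩ : J) : Rp) from rfl, ← hd, AddSubmonoidClass.coe_finsetSum]
          refine Ideal.sum_mem _ fun i _ => ?_
          rw [map_smul, Submodule.coe_smul, smul_eq_mul]
          exact Ideal.mul_mem_left _ _ (Ideal.subset_span ⟨i, rfl⟩)
        · rintro _ ⟨i, rfl⟩; exact (v i).2
      have h2 : (v l : Rp) - ∑ i, t (v l) i * (v i : Rp) ∈ J • Submodule.span Rp (Set.range fun i => (v i : Rp)) := by
        rw [← Ideal.span, ← hspan, smul_eq_mul, ← pow_two]; exact hsq _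
      obtain ⟨e, he, hsum⟩ := (Submodule.mem_ideal_smul_span_iff_exists_sum J _ _).1 h2
      refine ⟨e, he, ?_⟩
      rw [← hsum, Finsupp.sum_fintype _ _ (fun i => by simp)]
      rfl
    let d : Fin r → Rp := Pi.single l 1 - t (v l) - e
    have hd : d ∈ LinearMap.ker f := by
      rw [LinearMap.mem_ker]
      refine Subtype.ext ?_
      rw [pi_eq_sum_univ' d, map_sum, AddSubmonoidClass.coe_finsetSum]
      simp only [map_smul, Submodule.coe_smul, smul_eq_mul]
      show ∑ i, d i * (v i : Rp) = 0
      simp only [d, Pi.sub_apply, sub_mul, Finset.sum_sub_distrib, he.2, Pi.single_apply]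
      simp
    have h1 := add_mem (hker d hd j) (hJ (he.1 j))
    simp only [d, Pi.sub_apply, sub_add_cancel, Pi.single_apply] at h1
    by_cases h : l = j
    · subst h; simpa using neg_mem h1
    · simpa [h, Ne.symm h] using neg_mem h1
  haveI : Nontrivial (Rp ⧸ J) := Ideal.Quotient.nontrivial_iff.2 hJtop
  have hdet : IsUnit E.det := by
    let tm : Matrix (Fin r) (Fin r) Rp := Matrix.of fun l j => t (v l) j
    have h1 : (Ideal.Quotient.mk J).mapMatrix tm = E := Matrix.ext fun l j => ht _ _
    rw [← h1, ← RingHom.map_det]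
    refine IsUnit.map _ (notMem_maximalIdeal.1 fun hm => ?_)
    have h2 : (residue Rp).mapMatrix tm = 1 := Matrix.ext fun l j => by
      have h3 := (residue_eq_zero_iff _).2 (hres l j)
      rw [map_sub, sub_eq_zero] at h3
      rw [RingHom.mapMatrix_apply, Matrix.map_apply, Matrix.one_apply]
      show residue Rp (t (v l) j) = _
      rw [h3]
      split <;> simp
    have h4 := (residue_eq_zero_iff tm.det).2 hm
    rw [RingHom.map_det, h2, Matrix.det_one] at h4
    exact one_ne_zero h4
  have hE : E = 1 := by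
    have h1 := congrArg (fun M => E⁻¹ * M) hE2
    simpa [← mul_assoc, Matrix.nonsing_inv_mul E hdet] using h1
  obtain ⟨x, hx, hreg⟩ := H11Misc.Vasconcelos.exists_isRegular r Rp J hJtop n
    (hasProjectiveDimensionLT_map I n hpd p) (fun j => (v j : Rp)) (fun j => (v j).2) ψ fun i j => by
      have := congrFun (congrFun hE j) i
      simp only [E, Matrix.of_apply, Matrix.one_apply] at this
      rw [this]
      simp only [eq_comm]
  refine ⟨r, x, hreg, le_antisymm (Ideal.span_le.2 ?_) ?_⟩
  · rintro _ ⟨i, rfl⟩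
    have := add_mem (Ideal.pow_le_self two_ne_zero (hx i)) (v i).2
    rwa [sub_add_cancel] at this
  · refine Submodule.le_of_le_smul_of_le_jacobson_bot (I := J) (IsNoetherian.noetherian J)
      (hJ.trans (jacobson_eq_maximalIdeal ⊥ bot_ne_top).ge) ?_
    intro z hz
    obtain ⟨d, hd⟩ := hf ⟨z, hz⟩
    rw [pi_eq_sum_univ' d, map_sum] at hd
    rw [show z = ((⟨z, hz⟩ : J) : Rp) from rfl, ← hd, AddSubmonoidClass.coe_finsetSum]
    refine Submodule.sum_mem _ fun i _ => ?_
    rw [map_smul, Submodule.coe_smul, show ((v i : J) : Rp) = x i + -(x i - v i) by ring]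
    refine Submodule.smul_mem _ _ (Submodule.add_mem_sup (Ideal.subset_span ⟨i, rfl⟩) (neg_mem ?_))
    show x i - v i ∈ J • J
    rw [smul_eq_mul, ← pow_two]; exact hx i

theorem exists_notMem_isRegular_away (p : Ideal R) [p.IsPrime] (I : Ideal R) (hIp : I ≤ p) {r : ℕ}
    (x : Fin r → Localization.AtPrime p) (hreg : RingTheory.Sequence.IsRegular (Localization.AtPrime p) (List.ofFn x))
    (hx : Ideal.span (Set.range x) = I.map (algebraMap R (Localization.AtPrime p))) :
    ∃ g : R, g ∉ p ∧ ∃ rs : List (Localization.Away g),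
      RingTheory.Sequence.IsRegular (Localization.Away g) rs ∧
        Ideal.ofList rs = I.map (algebraMap R (Localization.Away g)) := by
  classical
  let Rp := Localization.AtPrime p
  -- integral representatives
  have hrep : ∀ i, ∃ (y : R) (c : Rpˣ), y ∈ I ∧ algebraMap R Rp y = c * x i := fun i => by
    have hxi : x i ∈ I.map (algebraMap R Rp) := hx ▸ Ideal.subset_span ⟨i, rfl⟩
    obtain ⟨⟨⟨y, hy⟩, s⟩, hs⟩ := (IsLocalization.mem_map_algebraMap_iff p.primeCompl Rp).1 hxi
    exact ⟨y, (IsLocalization.map_units Rp s).unit, hy, by rw [IsUnit.unit_spec, mul_comm]; exact hs.symm⟩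
  choose y c hyI hyc using hrep
  let ys := List.ofFn y
  have hregy : RingTheory.Sequence.IsWeaklyRegular Rp (ys.map (algebraMap R Rp)) := by
    have h := H4Depth.isWeaklyRegular_unit_smul (List.ofFn fun i => (x i, c i)) Rp
      (by rw [List.map_ofFn]; exact hreg.toIsWeaklyRegular)
    rw [List.map_ofFn] at h
    rw [show ys.map (algebraMap R Rp) = List.ofFn (fun i => (c i : Rp) * x i) by
      rw [List.map_ofFn]; exact congrArg List.ofFn (funext hyc)]
    exact h
  have hspan : (Ideal.ofList ys).map (algebraMap R Rp) = I.map (algebraMap R Rp) := by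
    rw [Ideal.map_ofList, List.map_ofFn, Ideal.ofList, ← hx]
    refine le_antisymm (Ideal.span_le.2 ?_) (Ideal.span_le.2 ?_)
    · intro z hz
      obtain ⟨i, rfl⟩ := List.mem_ofFn.1 hz
      simp only [Function.comp_apply, hyc]
      exact Ideal.mul_mem_left _ _ (Ideal.subset_span ⟨i, rfl⟩)
    · rintro _ ⟨i, rfl⟩
      rw [show x i = ((c i)⁻¹ : Rpˣ) * algebraMap R Rp (y i) by rw [hyc, Units.inv_mul_cancel_left]]
      exact Ideal.mul_mem_left _ _ (Ideal.subset_span (List.mem_ofFn.2 ⟨i, rfl⟩))
  -- colon bounds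
  have hcol : ∀ i : Fin ys.length, ∃ f ∉ p, ∀ m : R, ys[i.1] • m ∈ Ideal.ofList (ys.take i.1) →
      f • m ∈ Ideal.ofList (ys.take i.1) := fun i => by
    refine H4Depth.exists_smul_mem_colon p _ _ fun m hm => ?_
    have h1 := hregy.regular_mod_prev i.1 (by simp)
    rw [isSMulRegular_quotient_iff_mem_of_smul_mem] at h1
    have h2 := h1 (algebraMap R Rp m) (by
      rw [smul_eq_mul (α := Rp), List.getElem_map, ← map_mul, ← List.map_take, ← Ideal.map_ofList,
        smul_eq_mul (α := Ideal Rp), Ideal.mul_top]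
      exact Ideal.mem_map_of_mem _ hm)
    rw [← List.map_take, ← Ideal.map_ofList, smul_eq_mul (α := Ideal Rp), Ideal.mul_top,
      IsLocalization.algebraMap_mem_map_algebraMap_iff p.primeCompl] at h2
    exact h2
  choose f hf hfm using hcol
  obtain ⟨G, hG⟩ := IsNoetherian.noetherian I
  have hgen : ∀ z ∈ G, ∃ s ∉ p, s * z ∈ Ideal.ofList ys := fun z hz => by
    have : algebraMap R Rp z ∈ (Ideal.ofList ys).map (algebraMap R Rp) :=
      hspan ▸ Ideal.mem_map_of_mem _ (hG ▸ Submodule.subset_span hz)
    exact (IsLocalization.algebraMap_mem_map_algebraMap_iff p.primeCompl Rp _ z).1 this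
  choose! s hs hsm using hgen
  let g := (∏ i, f i) * ∏ z ∈ G, s z
  have hg : g ∉ p := fun h => ((‹p.IsPrime›).mem_or_mem h).elim
    (fun h' => by obtain ⟨i, -, hi⟩ := (Ideal.IsPrime.prod_mem_iff).1 h'; exact hf i hi)
    (fun h' => by obtain ⟨z, hz, hi⟩ := (Ideal.IsPrime.prod_mem_iff).1 h'; exact hs z hz hi)
  have hgu : IsUnit (algebraMap R (Localization.Away g) g) := IsLocalization.Away.algebraMap_isUnit g
  have hideal : Ideal.ofList (ys.map (algebraMap R (Localization.Away g))) = I.map (algebraMap R (Localization.Away g)) := by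
    rw [← Ideal.map_ofList]
    refine le_antisymm (Ideal.map_mono (Ideal.span_le.2 fun z hz => ?_)) ?_
    · obtain ⟨i, rfl⟩ := List.mem_ofFn.1 hz
      exact hyI i
    · rw [← hG, show (Submodule.span R (G : Set R)) = Ideal.span (G : Set R) from rfl, Ideal.map_span, Ideal.span_le]
      rintro _ ⟨z, hz, rfl⟩
      have hu : IsUnit (algebraMap R (Localization.Away g) (s z)) := by
        refine isUnit_of_dvd_unit (map_dvd _ ?_) hgu
        exact (Finset.dvd_prod_of_mem s hz).mul_left _
      rw [SetLike.mem_coe, ← Ideal.unit_mul_mem_iff_mem _ hu, ← map_mul]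
      exact Ideal.mem_map_of_mem _ (hsm z hz)
  have hweak : RingTheory.Sequence.IsWeaklyRegular (Localization.Away g) (ys.map (algebraMap R (Localization.Away g))) := by
    refine ⟨fun i hi => ?_⟩
    rw [List.length_map] at hi
    rw [isSMulRegular_quotient_iff_mem_of_smul_mem, ← List.map_take, ← Ideal.map_ofList,
      smul_eq_mul (α := Ideal (Localization.Away g)), Ideal.mul_top, List.getElem_map]
    intro z hz
    obtain ⟨⟨m, u⟩, rfl⟩ := IsLocalization.mk'_surjective (Submonoid.powers g) z
    have hu := IsLocalization.map_units (Localization.Away g) u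
    rw [← Ideal.unit_mul_mem_iff_mem _ hu, smul_eq_mul, mul_left_comm, IsLocalization.mk'_spec', ← map_mul,
      IsLocalization.algebraMap_mem_map_algebraMap_iff (Submonoid.powers g)] at hz
    obtain ⟨a, ha, ha'⟩ := hz
    have h3 := hfm ⟨i, hi⟩ (a * m) (by rwa [smul_eq_mul, mul_left_comm])
    rw [IsLocalization.mk'_mem_map_algebraMap_iff]
    refine ⟨g * a, mul_mem (Submonoid.mem_powers g) ha, ?_⟩
    rw [mul_assoc, show g = f ⟨i, hi⟩ * ((∏ j ∈ Finset.univ.erase ⟨i, hi⟩, f j) * ∏ z ∈ G, s z) by
      rw [← mul_assoc, Finset.mul_prod_erase _ _ (Finset.mem_univ _)], mul_right_comm, mul_comm]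
    exact Ideal.mul_mem_left _ _ (by simpa using h3)
  refine ⟨g, hg, _, ⟨hweak, fun htop => ?_⟩, hideal⟩
  rw [smul_eq_mul, Ideal.mul_top, hideal] at htop
  obtain ⟨a, ha, ha'⟩ := (IsLocalization.algebraMap_mem_map_algebraMap_iff (Submonoid.powers g)
    (Localization.Away g) I 1).1 (htop ▸ Submodule.mem_top)
  obtain ⟨e, rfl⟩ := ha
  exact hg ((‹p.IsPrime›).mem_of_pow_mem e (hIp (by simpa using ha')))

/-- Let R be a Noetherian ring and I an ideal which has finite projective dimension as an R-module and
whose conormal module I/I^2 is finite locally free (projective) over R/I. Then I is a regular ideal: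
for every prime p containing I there is g outside p such that the extension of I to R_g is generated
by a regular sequence of R_g. -/
theorem result {R : Type u} [CommRing R]
    [IsNoetherianRing R] (I : Ideal R) (n : ℕ)
    (hpd : HasProjectiveDimensionLT (ModuleCat.of R I) n)
    [Module.Projective (R ⧸ I) I.Cotangent] (p : Ideal R) [p.IsPrime] (hIp : I ≤ p) :
    ∃ g : R, g ∉ p ∧ ∃ rs : List (Localization.Away g),
      RingTheory.Sequence.IsRegular (Localization.Away g) rs ∧
        Ideal.ofList rs = I.map (algebraMap R (Localization.Away g)) := by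
  obtain ⟨r, x, hreg, hx⟩ := exists_regular_generators I n
    (hasProjectiveDimensionLT_of_ge _ n _ (Nat.le_succ n)) p hIp
  exact exists_notMem_isRegular_away p I hIp x hreg hx

end Groth.Agent.S2189
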