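import Groth.Statements.S9174
import Groth.Agent.H02CA.FibreLocalDim
import Groth.Agent.H8Props.FlatFibreConst
import Groth.Agent.H8Props.CMAt
import Groth.Agent.H1CAlg.LocalDim
import Groth.Agent.S5758

set_option autoImplicit false
universe u
open CAlg

namespace Groth.Agent.S9174

section
open Groth.Agent.H8Props IsLocalRing
open scoped TensorProduct

variable {R S : Type u} [CommRing R] [CommRing S] [Algebra R S]

theorem nonempty_fibLocRing_equiv (p : PrimeSpectrum R) (Q : PrimeSpectrum (p.asIdeal.Fiber S))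
    (r : PrimeSpectrum S)
    (hr : Q.asIdeal.comap (Algebra.TensorProduct.includeRight : S →ₐ[R] p.asIdeal.Fiber S).toRingHom = r.asIdeal)
    (hp : r.asIdeal.comap (algebraMap R S) = p.asIdeal) :
    Nonempty (Localization.AtPrime Q.asIdeal ≃+* EGA4.FibLocRing R S r.asIdeal) := by
  obtain ⟨rI, hrI⟩ := r
  obtain rfl : Q.asIdeal.comap (Algebra.TensorProduct.includeRight : S →ₐ[R] p.asIdeal.Fiber S).toRingHom = rI := hr
  refine ⟨(Ideal.Fiber.algEquivAux₂ p.asIdeal Q.asIdeal).toRingEquiv.trans (Ideal.quotEquivOfEq ?_)⟩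
  dsimp only at hp ⊢
  rw [Ideal.map_map, ← IsScalarTower.algebraMap_eq]
  exact congrArg (Ideal.map _) hp.symm

variable [Algebra.FiniteType R S]

/-- The fibre dimension at `q` is the dimension of the local ring of the fibre plus that of the
closure of the point. -/
theorem fibreDim_eq (q : PrimeSpectrum S) :
    ∃ Q : PrimeSpectrum ((q.asIdeal.under R).Fiber S),
      Q.asIdeal.comap (Algebra.TensorProduct.includeRight : S →ₐ[R] (q.asIdeal.under R).Fiber S).toRingHom = q.asIdeal ∧
      Nonempty (Localization.AtPrime Q.asIdeal ≃+* EGA4.FibLocRing R S q.asIdeal) ∧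
      FlatMor.fibreDimAt (AlgebraicGeometry.Spec.map (CommRingCat.ofHom (algebraMap R S))) q =
        ringKrullDim (EGA4.FibLocRing R S q.asIdeal) +
          ringKrullDim ((q.asIdeal.under R).Fiber S ⧸ Q.asIdeal) := by
  let p : PrimeSpectrum R := PrimeSpectrum.comap (algebraMap R S) q
  let Q : PrimeSpectrum ((q.asIdeal.under R).Fiber S) := PrimeSpectrum.preimageEquivFiber R S p ⟨q, rfl⟩
  have hQ : Q.asIdeal.comap (Algebra.TensorProduct.includeRight : S →ₐ[R] (q.asIdeal.under R).Fiber S).toRingHom = q.asIdeal :=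
    congrArg (fun x => PrimeSpectrum.asIdeal x.1) ((PrimeSpectrum.preimageEquivFiber R S p).symm_apply_apply ⟨q, rfl⟩)
  obtain ⟨e⟩ : Nonempty (Localization.AtPrime Q.asIdeal ≃+* EGA4.FibLocRing R S q.asIdeal) :=
    nonempty_fibLocRing_equiv p Q q hQ rfl
  refine ⟨Q, hQ, ⟨e⟩, ?_⟩
  rw [Groth.Agent.H02CA.fibreDimAt_eq_localDim_fiber q Q hQ,
    Groth.Agent.H1CAlg.localDim_spec_eq_height_add (k := (q.asIdeal.under R).ResidueField),
    ← ringKrullDim_eq_of_ringEquiv e, IsLocalization.AtPrime.ringKrullDim_eq_height Q.asIdeal (Localization.AtPrime Q.asIdeal)]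

/-- The local ring of the fibre of a quotient. -/
theorem ringKrullDim_fibLocRing_quotient (q : Ideal S) [q.IsPrime] (J : Ideal S) (hJ : J ≤ q)
    (qT : Ideal (S ⧸ J)) [qT.IsPrime] (hqT : qT.comap (Ideal.Quotient.mk J) = q) :
    ringKrullDim (EGA4.FibLocRing R (S ⧸ J) qT) =
      ringKrullDim (EGA4.FibLocRing R S q ⧸ J.map (algebraMap S (EGA4.FibLocRing R S q))) := by
  let T := Localization.AtPrime qT
  let l : Localization.AtPrime q →+* T := Localization.localRingHom q qT (Ideal.Quotient.mk J) hqT.symm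
  have hl : Function.Surjective l := by
    intro x
    obtain ⟨a, ⟨t, ht⟩, rfl⟩ := IsLocalization.exists_mk'_eq qT.primeCompl x
    obtain ⟨a, rfl⟩ := Ideal.Quotient.mk_surjective a
    obtain ⟨t, rfl⟩ := Ideal.Quotient.mk_surjective t
    have ht' : t ∈ q.primeCompl := fun h => ht (by rw [← hqT] at h; exact h)
    exact ⟨IsLocalization.mk' _ a ⟨t, ht'⟩, Localization.localRingHom_mk' _ _ _ _ _ _⟩
  have hk : RingHom.ker l = J.map (algebraMap S (Localization.AtPrime q)) := by
    refine le_antisymm (fun x hx => ?_) (Ideal.map_le_iff_le_comap.2 fun j hj => ?_)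
    · obtain ⟨a, s, rfl⟩ := IsLocalization.exists_mk'_eq q.primeCompl x
      rw [RingHom.mem_ker, Localization.localRingHom_mk', IsLocalization.mk'_eq_zero_iff] at hx
      obtain ⟨⟨t, ht⟩, hta⟩ := hx
      obtain ⟨t, rfl⟩ := Ideal.Quotient.mk_surjective t
      rw [← map_mul, Ideal.Quotient.eq_zero_iff_mem] at hta
      refine (IsLocalization.mk'_mem_map_algebraMap_iff q.primeCompl _ _ _ _).2
        ⟨t, fun h => ht (by rw [← hqT] at h; exact h), hta⟩
    · rw [Ideal.mem_comap, RingHom.mem_ker]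
      show Localization.localRingHom q qT (Ideal.Quotient.mk J) hqT.symm (algebraMap S _ j) = 0
      rw [Localization.localRingHom_to_map, Ideal.Quotient.eq_zero_iff_mem.2 hj, map_zero]
  have hp : qT.comap (algebraMap R (S ⧸ J)) = q.comap (algebraMap R S) := by
    rw [IsScalarTower.algebraMap_eq R S (S ⧸ J), ← Ideal.comap_comap, Ideal.Quotient.algebraMap_eq, hqT]
  let I := (q.comap (algebraMap R S)).map (algebraMap R (Localization.AtPrime q))
  have hI : I.map l = (qT.comap (algebraMap R (S ⧸ J))).map (algebraMap R T) := by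
    rw [hp, Ideal.map_map]
    congr 1
    refine RingHom.ext fun c => ?_
    rw [RingHom.comp_apply, IsScalarTower.algebraMap_apply R S (Localization.AtPrime q),
      Localization.localRingHom_to_map, IsScalarTower.algebraMap_apply R (S ⧸ J) T,
      IsScalarTower.algebraMap_apply R S (S ⧸ J), Ideal.Quotient.algebraMap_eq]
  let g : Localization.AtPrime q →+* EGA4.FibLocRing R (S ⧸ J) qT := (Ideal.Quotient.mk _).comp l
  have hg : Function.Surjective g := Ideal.Quotient.mk_surjective.comp hl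
  have hgk : RingHom.ker g = I ⊔ J.map (algebraMap S (Localization.AtPrime q)) := by
    rw [← RingHom.comap_ker, Ideal.mk_ker, ← hI, Ideal.comap_map_of_surjective _ hl,
      ← RingHom.ker_eq_comap_bot, hk]
  have e1 : Localization.AtPrime q ⧸ RingHom.ker g ≃+* EGA4.FibLocRing R (S ⧸ J) qT :=
    RingHom.quotientKerEquivOfSurjective hg
  rw [← ringKrullDim_eq_of_ringEquiv e1]
  refine ringKrullDim_eq_of_ringEquiv ((Ideal.quotEquivOfEq hgk).trans
    ((DoubleQuot.quotQuotEquivQuotSup I (J.map (algebraMap S (Localization.AtPrime q)))).symm.trans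
      (Ideal.quotEquivOfEq ?_)))
  rw [Ideal.map_map, IsScalarTower.algebraMap_eq S (Localization.AtPrime q) (EGA4.FibLocRing R S q),
    Ideal.Quotient.algebraMap_eq]

/-- The closure of a point in its fibre is not changed by passing to a closed subscheme. -/
theorem dim_quotient_fibre_eq {p p' : Ideal R} [p.IsPrime] [p'.IsPrime] (hp : p' = p) (J : Ideal S)
    (Q : PrimeSpectrum (p.Fiber S)) (Q' : PrimeSpectrum (p'.Fiber (S ⧸ J)))
    (h : Q.asIdeal.comap (Algebra.TensorProduct.includeRight : S →ₐ[R] p.Fiber S).toRingHom =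
      (Q'.asIdeal.comap (Algebra.TensorProduct.includeRight : (S ⧸ J) →ₐ[R] p'.Fiber (S ⧸ J)).toRingHom).comap
        (Ideal.Quotient.mk J))
    (hover : (Q.asIdeal.comap (Algebra.TensorProduct.includeRight : S →ₐ[R] p.Fiber S).toRingHom).comap
      (algebraMap R S) = p) :
    ringKrullDim (p'.Fiber (S ⧸ J) ⧸ Q'.asIdeal) = ringKrullDim (p.Fiber S ⧸ Q.asIdeal) := by
  subst hp
  let π' : p'.Fiber S →ₐ[p'.ResidueField] p'.Fiber (S ⧸ J) :=
    Algebra.TensorProduct.map (AlgHom.id p'.ResidueField p'.ResidueField) (Ideal.Quotient.mkₐ R J)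
  have hs : Function.Surjective π' :=
    LinearMap.lTensor_surjective p'.ResidueField (g := (Ideal.Quotient.mkₐ R J).toLinearMap) Ideal.Quotient.mk_surjective
  let P : PrimeSpectrum (p'.Fiber S) := PrimeSpectrum.comap π'.toRingHom Q'
  have hPQ : P = Q := by
    let pp : PrimeSpectrum R := ⟨p', inferInstance⟩
    apply (PrimeSpectrum.preimageEquivFiber R S pp).symm.injective
    apply Subtype.ext
    apply PrimeSpectrum.ext
    show Ideal.comap _ (Q'.asIdeal.comap π'.toRingHom) = Ideal.comap _ Q.asIdeal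
    erw [h]
    rw [Ideal.comap_comap, Ideal.comap_comap]
    congr 1
  subst hPQ
  let g : p'.Fiber S →+* p'.Fiber (S ⧸ J) ⧸ Q'.asIdeal := (Ideal.Quotient.mk Q'.asIdeal).comp π'.toRingHom
  have hg : P.asIdeal = RingHom.ker g := by
    rw [← RingHom.comap_ker, Ideal.mk_ker]
    rfl
  exact (ringKrullDim_eq_of_ringEquiv ((Ideal.quotEquivOfEq hg).trans
    (RingHom.quotientKerEquivOfSurjective (f := g) (Ideal.Quotient.mk_surjective.comp hs)))).symm

theorem regular_iff_le (d : ℕ)
    (hCM : ∀ p : PrimeSpectrum R, LocCoh.IsCohenMacaulayRing (p.asIdeal.Fiber S))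
    (heq : ∀ p : PrimeSpectrum R, ∀ P ∈ minimalPrimes (p.asIdeal.Fiber S),
      ringKrullDim (p.asIdeal.Fiber S ⧸ P) = (d : WithBot ℕ∞))
    (f : List S) (qT : PrimeSpectrum (S ⧸ Ideal.ofList f)) :
    (RingTheory.Sequence.IsRegular (EGA4.FibLocRing R S (qT.asIdeal.comap (Ideal.Quotient.mk (Ideal.ofList f))))
        (f.map (algebraMap S (EGA4.FibLocRing R S (qT.asIdeal.comap (Ideal.Quotient.mk (Ideal.ofList f)))))) ↔
      FlatMor.fibreDimAt (AlgebraicGeometry.Spec.map (CommRingCat.ofHom (algebraMap R (S ⧸ Ideal.ofList f)))) qT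
        + (f.length : WithBot ℕ∞) = (d : WithBot ℕ∞)) ∧
    (d : WithBot ℕ∞) ≤ FlatMor.fibreDimAt (AlgebraicGeometry.Spec.map (CommRingCat.ofHom (algebraMap R (S ⧸ Ideal.ofList f)))) qT
        + (f.length : WithBot ℕ∞) := by
  classical
  let J := Ideal.ofList f
  have hJdef : J = Ideal.ofList f := rfl
  let q : PrimeSpectrum S := PrimeSpectrum.comap (Ideal.Quotient.mk J) qT
  obtain ⟨Q, hQ, ⟨e⟩, hdim⟩ := fibreDim_eq (R := R) q
  obtain ⟨Q', hQ', -, hdim'⟩ := fibreDim_eq (R := R) qT
  have hqq : q.asIdeal.under R = qT.asIdeal.under R := by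
    show (qT.asIdeal.comap (Ideal.Quotient.mk J)).comap (algebraMap R S) = _
    rw [Ideal.comap_comap, ← Ideal.Quotient.algebraMap_eq, ← IsScalarTower.algebraMap_eq]
  have hquot := dim_quotient_fibre_eq hqq.symm J Q Q' (by rw [hQ, hQ']; try rfl) (by rw [hQ]; try rfl)
  haveI := hCM ⟨q.asIdeal.under R, inferInstance⟩
  haveI := LocCoh.IsCohenMacaulayRing.isCohenMacaulayLocalRing_localization Q.asIdeal
  haveI hC : LocCoh.IsCohenMacaulayLocalRing (EGA4.FibLocRing R S q.asIdeal) :=
    CMAt.isCohenMacaulayLocalRing_of_ringEquiv (R := Localization.AtPrime Q.asIdeal) (S := EGA4.FibLocRing R S q.asIdeal) e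
  let C := EGA4.FibLocRing R S q.asIdeal
  have hmax : ∀ x ∈ f.map (algebraMap S C), x ∈ maximalIdeal C := by
    intro x hx
    obtain ⟨s, hs, rfl⟩ := List.mem_map.1 hx
    have hsq : s ∈ q.asIdeal := by
      show Ideal.Quotient.mk J s ∈ qT.asIdeal
      rw [Ideal.Quotient.eq_zero_iff_mem.2 (Ideal.subset_span (α := S) (s := {x | x ∈ f}) hs : s ∈ J)]
      exact qT.asIdeal.zero_mem
    have h1 : algebraMap S (Localization.AtPrime q.asIdeal) s ∈ maximalIdeal (Localization.AtPrime q.asIdeal) :=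
      (IsLocalization.AtPrime.to_map_mem_maximal_iff _ q.asIdeal s).2 hsq
    rw [IsScalarTower.algebraMap_apply S (Localization.AtPrime q.asIdeal) C, Ideal.Quotient.algebraMap_eq]
    haveI : IsLocalHom (Ideal.Quotient.mk ((q.asIdeal.comap (algebraMap R S)).map
        (algebraMap R (Localization.AtPrime q.asIdeal)))) :=
      IsLocalHom.of_surjective _ Ideal.Quotient.mk_surjective
    exact (mem_maximalIdeal _).2 fun hu => h1
      ((isUnit_map_iff (Ideal.Quotient.mk ((q.asIdeal.comap (algebraMap R S)).map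
        (algebraMap R (Localization.AtPrime q.asIdeal)))) _).1 hu)
  have hCM' : LocCoh.IsCohenMacaulayModule C C := LocCoh.IsCohenMacaulayLocalRing.supportDim_eq_depth
  have h58 := (Groth.Agent.S5758.result C C hCM' (f.map (algebraMap S C)) hmax).1
  have hreg : RingTheory.Sequence.IsRegular C (f.map (algebraMap S C)) ↔
      RingTheory.Sequence.IsWeaklyRegular C (f.map (algebraMap S C)) :=
    RingTheory.Sequence.isRegular_iff_isWeaklyRegular_of_subset_jacobson_annihilator
      fun x hx => by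
        rw [show Module.annihilator C C = ⊥ from Module.annihilator_eq_bot.2 inferInstance, IsLocalRing.jacobson_eq_maximalIdeal _ bot_ne_top]
        exact hmax x hx
  have hT := ringKrullDim_fibLocRing_quotient (R := R) q.asIdeal J (Ideal.mk_ker (I := J) ▸ Ideal.ker_le_comap _)
    qT.asIdeal rfl
  rw [show FlatMor.fibreDimAt (AlgebraicGeometry.Spec.map (CommRingCat.ofHom (algebraMap R (S ⧸ Ideal.ofList f)))) qT =
    ringKrullDim (EGA4.FibLocRing R S q.asIdeal ⧸ J.map (algebraMap S (EGA4.FibLocRing R S q.asIdeal))) +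
      ringKrullDim ((q.asIdeal.under R).Fiber S ⧸ Q.asIdeal) from hdim'.trans (congrArg₂ (· + ·) hT hquot)]
  have hD : ringKrullDim C + ringKrullDim ((q.asIdeal.under R).Fiber S ⧸ Q.asIdeal) = (d : WithBot ℕ∞) := by
    rw [← hdim, Groth.Agent.H02CA.fibreDimAt_eq_localDim_fiber q Q hQ,
      Groth.Agent.H1CAlg.localDim_spec_eq_iSup (k := (q.asIdeal.under R).ResidueField)]
    refine le_antisymm (iSup_le fun w => ?_) ?_
    · obtain ⟨m, hm, hle⟩ := Ideal.exists_minimalPrimes_le (I := (⊥ : Ideal ((q.asIdeal.under R).Fiber S)))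
        (J := w.1.asIdeal) bot_le
      rw [← heq ⟨q.asIdeal.under R, inferInstance⟩ m hm]
      exact ringKrullDim_le_of_surjective _ (Ideal.Quotient.factor_surjective hle)
    · obtain ⟨m, hm, hle⟩ := Ideal.exists_minimalPrimes_le (I := (⊥ : Ideal ((q.asIdeal.under R).Fiber S)))
        (J := Q.asIdeal) bot_le
      rw [← heq ⟨q.asIdeal.under R, inferInstance⟩ m hm]
      exact le_iSup_of_le ⟨⟨m, hm.1.1⟩, hle⟩ le_rfl
  rw [← hD]
  obtain ⟨m, hm⟩ : ∃ m : ℕ, ringKrullDim ((q.asIdeal.under R).Fiber S ⧸ Q.asIdeal) = (m : WithBot ℕ∞) := by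
    haveI : Algebra.FiniteType (q.asIdeal.under R).ResidueField ((q.asIdeal.under R).Fiber S) := inferInstance
    haveI : Algebra.FiniteType (q.asIdeal.under R).ResidueField ((q.asIdeal.under R).Fiber S ⧸ Q.asIdeal) :=
      Algebra.FiniteType.of_surjective (Ideal.Quotient.mkₐ _ Q.asIdeal) Ideal.Quotient.mk_surjective
    obtain ⟨s, hs, -⟩ := Groth.Agent.H8Props.FieldDim.exists_dim_trdeg (q.asIdeal.under R).ResidueField
      ((q.asIdeal.under R).Fiber S ⧸ Q.asIdeal)
    exact ⟨s, hs⟩
  rw [hm, add_right_comm]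
  refine ⟨?_, ?_⟩
  · show RingTheory.Sequence.IsRegular C (f.map (algebraMap S C)) ↔ _
    rw [hreg, h58, List.length_map, Module.supportDim_self_eq_ringKrullDim,
      show (Ideal.ofList (f.map (algebraMap S C)) • ⊤ : Submodule C C) = J.map (algebraMap S C) by
        rw [smul_eq_mul, Ideal.mul_top, hJdef, Ideal.map_ofList],
      Module.supportDim_quotient_eq_ringKrullDim]
    exact ⟨fun h => by rw [h], fun h => ENat.WithBot.add_natCast_cancel.mp h⟩
  · gcongr
    have h1 := ringKrullDim_le_ringKrullDim_quotient_add_encard (R := C) {x | x ∈ f.map (algebraMap S C)} (fun x hx => by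
      rw [IsLocalRing.ringJacobson_eq_maximalIdeal]
      exact hmax x hx)
    rw [show Ideal.span {x | x ∈ f.map (algebraMap S C)} = J.map (algebraMap S C) by
      rw [hJdef, Ideal.map_ofList]] at h1
    refine h1.trans ?_
    gcongr
    have h2 : ({x | x ∈ f.map (algebraMap S C)} : Set C).encard ≤ ((f.length : ℕ) : ℕ∞) := by
      rw [show ({x | x ∈ f.map (algebraMap S C)} : Set C) = ((f.map (algebraMap S C)).toFinset : Set C) by
        ext; simp, Set.encard_coe_eq_coe_finsetCard]
      exact_mod_cast (List.toFinset_card_le _).trans (by rw [List.length_map])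
    exact_mod_cast h2

end


/-- Let R → S be of finite type with every fibre ring κ(p) ⊗ S Cohen–Macaulay and equidimensional of
dimension d, and let f_1, …, f_i ∈ S. The primes q ⊇ (f_1, …, f_i) at which the f_j form a regular
sequence in the fibre local ring S_q/pS_q (p = q ∩ R) form an open subset of V(f_1, …, f_i): there
is an open U of Spec S whose trace on V(f_1, …, f_i) is exactly this set. -/
theorem result (R S : Type u) [CommRing R] [CommRing S]
    [Algebra R S] [Algebra.FiniteType R S] (d : ℕ)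
    (hCM : ∀ p : PrimeSpectrum R, LocCoh.IsCohenMacaulayRing (p.asIdeal.Fiber S))
    (heq : ∀ p : PrimeSpectrum R, ∀ P ∈ minimalPrimes (p.asIdeal.Fiber S),
      ringKrullDim (p.asIdeal.Fiber S ⧸ P) = (d : WithBot ℕ∞))
    (f : List S) :
    ∃ U : Set (PrimeSpectrum S), IsOpen U ∧ ∀ q : PrimeSpectrum S, Ideal.ofList f ≤ q.asIdeal →
      (q ∈ U ↔ RingTheory.Sequence.IsRegular (EGA4.FibLocRing R S q.asIdeal)
        (f.map (algebraMap S (EGA4.FibLocRing R S q.asIdeal)))) := by
  classical
  let J := Ideal.ofList f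
  let φT := AlgebraicGeometry.Spec.map (CommRingCat.ofHom (algebraMap R (S ⧸ J)))
  haveI : AlgebraicGeometry.LocallyOfFiniteType φT :=
    (AlgebraicGeometry.HasRingHomProperty.Spec_iff (P := @AlgebraicGeometry.LocallyOfFiniteType)).mpr
      (RingHom.finiteType_algebraMap.mpr inferInstance)
  let emb : PrimeSpectrum (S ⧸ J) → PrimeSpectrum S := PrimeSpectrum.comap (Ideal.Quotient.mk J)
  let V : Set (PrimeSpectrum (S ⧸ J)) :=
    {x | FlatMor.fibreDimAt φT x + (f.length : WithBot ℕ∞) ≤ (d : WithBot ℕ∞)}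
  have hV : IsOpen V := by
    rcases lt_or_ge d f.length with hlt | hge
    · convert isOpen_empty
      refine Set.eq_empty_iff_forall_notMem.2 fun x hx => ?_
      obtain ⟨n, hn⟩ : ∃ n : ℕ, FlatMor.fibreDimAt φT x = (n : WithBot ℕ∞) := by
        haveI := Groth.Agent.H8Props.FieldDim.locallyOfFiniteType_fiberToSpec φT (φT x)
        exact Groth.Agent.H8Props.FieldDim.exists_nat_localDim
          (k := (AlgebraicGeometry.Spec (CommRingCat.of R)).residueField (φT x))
          (φT.fiberToSpecResidueField (φT x)) (φT.asFiber x)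
      have hx' : FlatMor.fibreDimAt φT x + (f.length : WithBot ℕ∞) ≤ (d : WithBot ℕ∞) := hx
      rw [hn, ← Nat.cast_add, Nat.cast_le] at hx'
      omega
    · rw [show V = {x | FlatMor.fibreDimAt φT x ≤ ((d - f.length : ℕ) : WithBot ℕ∞)} from ?_]
      · exact Groth.Agent.H8Props.FieldDim.isOpen_fibreDimAt_le φT _
      refine Set.ext fun x => ?_
      show FlatMor.fibreDimAt φT x + (f.length : WithBot ℕ∞) ≤ (d : WithBot ℕ∞) ↔
        FlatMor.fibreDimAt φT x ≤ ((d - f.length : ℕ) : WithBot ℕ∞)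
      conv_lhs => rw [show ((d : ℕ) : WithBot ℕ∞) = ((d - f.length : ℕ) : WithBot ℕ∞) + (f.length : WithBot ℕ∞) by
        rw [← Nat.cast_add, Nat.sub_add_cancel hge]]
      exact ENat.WithBot.add_le_add_natCast_right_iff
  have hemb : Topology.IsClosedEmbedding emb :=
    PrimeSpectrum.isClosedEmbedding_comap_of_surjective _ _ Ideal.Quotient.mk_surjective
  obtain ⟨U, hU, hUV⟩ := hemb.isInducing.isOpen_iff.1 hV
  refine ⟨U, hU, fun q hq => ?_⟩
  obtain ⟨qT, rfl⟩ : q ∈ Set.range emb := by
    rw [range_comap_of_surjective _ _ Ideal.Quotient.mk_surjective, Ideal.mk_ker]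
    exact hq
  show qT ∈ emb ⁻¹' U ↔ _
  rw [hUV]
  refine Iff.trans ?_ (regular_iff_le d hCM heq f qT).1.symm
  refine ⟨fun h => le_antisymm h ?_, fun h => le_of_eq h⟩
  exact (regular_iff_le d hCM heq f qT).2

end Groth.Agent.S9174
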