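import Groth.Statements.S1721
import Groth.Agent.H4DR.FlatBC.Polynomial
import Groth.Agent.H4DR.Dualizing.Dimension
import Groth.Agent.H8Props.UnivCatenary

set_option autoImplicit false
universe u
open CategoryTheory
attribute [local instance] HasDerivedCategory.standard
open Dual

namespace Groth.Agent.S1721

/-- A Noetherian ring admitting a dualizing complex is universally catenary. (Finiteness of the
dimension is a separate, earlier result.) -/
theorem result (A : Type u) [CommRing A] [IsNoetherianRing A] (ω : Dual.D A) (hω : Dual.IsDualizing A ω) : CAlg.IsUniversallyCatenary A := by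
  refine ⟨inferInstance, fun S _ _ _ => H8Props.UnivCatenary.isCatenary_of_finiteType (A := A) fun n => ?_⟩
  obtain ⟨ω', h'⟩ := H4DR.FlatBC.exists_isDualizing_mvPolynomial hω n
  exact H4DR.Dualizing.isCatenary h'

end Groth.Agent.S1721
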