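import Groth.Statements.S1575
import Groth.Agent.H17.ZDepth.Two
import Groth.Agent.H17.PushColim

set_option autoImplicit false
universe u
open CategoryTheory CategoryTheory.Limits AlgebraicGeometry
open Divisors

namespace Groth.Agent.S1575

/-- Let X be locally Noetherian, F coherent, and U open such that at every point outside U the stalk of
F has depth at least two over the local ring. Then F → j_*(F|_U) is an isomorphism: for every open
V, restriction of sections Γ(V, F) → Γ(V ∩ U, F) is a bijection. -/
theorem result (X : Scheme.{u}) [IsLocallyNoetherian X]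
    (F : X.Modules) (hF : Coh.IsCoh F) (U : X.Opens)
    (hdepth : ∀ x : X, x ∉ U → 2 ≤ LocCoh.depth (X.presheaf.stalk x) (F.presheaf.stalk x)) (V : X.Opens) :
    Function.Bijective (F.val.presheaf.map (homOfLE (inf_le_left : V ⊓ U ≤ V)).op) := by
  let Z : Set X := (U : Set X)ᶜ
  have hZc : IsClosed Z := U.isOpen.isClosed_compl
  have hZ : StableUnderSpecialization Z := hZc.stableUnderSpecialization
  have hcl : ∀ x : X, ZClos.IsZClosedAt Z F x := fun x =>
    H17.ZDepth.isZClosedAt_of_depth hZ hF x fun x' _ hx' => hdepth x' hx'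
  haveI hρ : IsIso (ZClos.rhoApp Z F) := H17.PushColim.isIso_of_stalkAb _ fun x =>
    (ConcreteCategory.isIso_iff_bijective _).2 (hcl x)
  let T : ZClos.Cl Z := ⟨⟨Z, hZc⟩, subset_rfl⟩
  have hT : IsTerminal T := IsTerminal.ofUniqueHom (fun S => homOfLE S.2) (fun S m => Subsingleton.elim _ _)
  haveI := isIso_ι_of_isTerminal hT ((ZClos.diagram Z).obj F)
  haveI : IsIso (ZClos.toDiagram Z F T) := by
    have h : IsIso (ZClos.toDiagram Z F T ≫ colimit.ι ((ZClos.diagram Z).obj F) T) := by
      rw [← ZClos.rhoApp_eq]; exact hρ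
    exact IsIso.of_isIso_comp_right _ (colimit.ι ((ZClos.diagram Z).obj F) T)
  have hU : T.U = U := by ext x; exact not_not
  have hb := ConcreteCategory.bijective_of_isIso ((ZClos.toDiagram Z F T).app V)
  have hle : V ⊓ U = T.U.ι ''ᵁ T.U.ι ⁻¹ᵁ V := by
    rw [ZClos.ι_image_preimage, hU, inf_comm]
  have key : ∀ (W W' : X.Opens) (e : W = W') (h : W ≤ V) (h' : W' ≤ V),
      Function.Bijective (F.presheaf.map (homOfLE h').op) → Function.Bijective (F.presheaf.map (homOfLE h).op) := by
    rintro W W' rfl h h' hh; exact hh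
  exact key _ _ hle inf_le_left (T.U.ι.image_preimage_le V) hb

end Groth.Agent.S1575
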