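import Groth.Statements.S2930
import Groth.Agent.H4LC.FaltingsApps

set_option autoImplicit false
universe u
open LocCoh

namespace Groth.Agent.S2930

/-- (ii)⇔(iii): Let A be a Noetherian ring which is a quotient of a regular ring, I an ideal, M a finite
A-module and n ≥ 0. Then H^i_I(M) is a finite A-module for every i ≤ n if and only if depth M_p ≥ n
for every prime p not containing I for which V(p) ∩ V(I) has codimension 1 in V(p), i.e. for which
there is a prime q ⊇ I covering p. -/
theorem result (R : Type u) [CommRing R] [IsRegularRing R] (A : Type u) [CommRing A] [IsNoetherianRing A] (π : R →+* A) (hπ : Function.Surjective π) (I : Ideal A) (M : Type u) [AddCommGroup M] [Module A M] [Module.Finite A M] (n : ℕ) : (∀ i : ℕ, i ≤ n → Module.Finite A (LocCoh.H I i M)) ↔ ∀ p q : PrimeSpectrum A, ¬ I ≤ p.asIdeal → I ≤ q.asIdeal → p ⋖ q → (n : ℕ∞) ≤ LocCoh.depth (Localization.AtPrime p.asIdeal) (LocalizedModule p.asIdeal.primeCompl M) := by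
  let : Algebra R A := π.toAlgebra
  let : Module R M := Module.compHom M π
  have : IsScalarTower R A M := IsScalarTower.of_algebraMap_smul fun _ _ => rfl
  constructor
  · intro h p q hp hq hcov
    have h1 := Groth.Agent.H4LC.le_depth_add_height_of_finite I M n h p hp
    have h2 : ((I ⊔ p.asIdeal).map (Ideal.Quotient.mk p.asIdeal)).height ≤ 1 :=
      (Groth.Agent.H4LC.height_sup_map_mk_le_relCodim I p).trans
        (Groth.Agent.H4LC.relCodim_eq_one_of_covBy (S := R) hπ hp hq hcov).le
    have h3 := h1.trans (add_le_add le_rfl h2)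
    rw [Nat.cast_add, Nat.cast_one] at h3
    exact (ENat.addLECancellable_of_ne_top ENat.one_ne_top).add_le_add_iff_right.1 h3
  · intro h i hi
    refine Groth.Agent.H4LC.finite_H_of_quotient (S := R) hπ M I i fun p hp hc j hj => ?_
    obtain ⟨q, hq, hcov⟩ := Groth.Agent.H4LC.exists_covBy_of_relCodim_eq_one hp hc
    exact (Groth.Agent.H4LC.natCast_le_depth_iff M p n).1 (h p q hp hq hcov) j (by omega)

end Groth.Agent.S2930
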