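import Groth.Statements.S13590
import Groth.Agent.S6857
import Groth.Agent.H15Site.OverInj
import Groth.Agent.H10Coh.OpenEmb

set_option autoImplicit false
universe u
open CategoryTheory TopologicalSpace
open SuppFam

namespace Groth.Agent.S13590

attribute [local instance 10000] Groth.Agent.H10Coh.hasSheafifyAb Groth.Agent.H10Coh.hasWeakSheafifyAb Groth.Agent.H10Coh.hasExtAb Groth.Agent.H10Coh.enoughInjAb
open Groth.Agent.H15Site Groth.Agent.H15Site.OverInj CategoryTheory.Limits Opposite

theorem injective_restr {X : TopCat.{u}} (V : Opens X) (F : CohTop.Ab X) [Injective F] :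
    Injective ((CohTop.restrFunctor V).obj F) := by
  haveI := injective_obj F
  haveI := injective_restrict V F.obj
  let G := ((Opens.grothendieckTopology X).overPullback AddCommGrpCat.{u} V).obj F
  haveI : Injective G.obj := injective_restrict V F.obj
  haveI : Injective G := injective_sheaf G
  haveI h1 : Injective (V.sheafEquivOver.functor.obj G) :=
    Injective.injective_of_adjoint V.sheafEquivOver.symm.toAdjunction G
  exact Injective.of_iso (V.overPullbackSheafEquivOver.app F) h1

theorem injective_sectSupp {Y : TopCat.{u}} (U : Opens Y) (G : CohTop.Ab Y) [Injective G] :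
    Injective (CohCx.sectSupp U G) := by
  let i := CohCx.inclCompl U
  have hi : Topology.IsClosedEmbedding i := U.isOpen.isClosed_compl.isClosedEmbedding_subtypeVal
  obtain ⟨hfc, hfull, hfaith, hess, -⟩ := Groth.Agent.S6857.result i hi
  haveI := hfull
  haveI := hfaith
  haveI := ClosedPushAb.push_isRightAdjoint i
  let j := CohCx.incl U
  have hj : Topology.IsOpenEmbedding j := U.isOpenEmbedding'
  let adj := TopCat.Sheaf.pullbackPushforwardAdjunction AddCommGrpCat.{u} j
  let η := adj.unit.app G
  let ι : CohCx.sectSupp U G ⟶ G := kernel.ι η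
  let e := hj.sheafPullbackIso AddCommGrpCat.{u}
  have hη : ∀ {A : CohTop.Ab Y} (φ : A ⟶ G), φ ≫ η = 0 ↔ (H10Coh.Rf hj).map φ = 0 := by
    intro A φ
    have h1 : φ ≫ η = adj.homEquiv _ _ ((TopCat.Sheaf.pullback AddCommGrpCat.{u} j).map φ) := by
      rw [Adjunction.homEquiv_unit]
      exact (adj.unit.naturality φ)
    haveI : (TopCat.Sheaf.pushforward AddCommGrpCat.{u} j).Additive := inferInstanceAs (CohTop.push j).Additive
    rw [h1]
    have h0 : ∀ B C, adj.homEquiv B C 0 = 0 := fun B C => by
      rw [Adjunction.homEquiv_unit, Functor.map_zero, comp_zero]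
    have hnat : (TopCat.Sheaf.pullback AddCommGrpCat.{u} j).map φ ≫ e.hom.app G =
        e.hom.app A ≫ (hj.sheafPullback AddCommGrpCat.{u}).map φ := e.hom.naturality φ
    constructor
    · intro h
      have h2 : (TopCat.Sheaf.pullback AddCommGrpCat.{u} j).map φ = 0 :=
        (adj.homEquiv _ _).injective (h.trans (h0 _ _).symm)
      rw [h2] at hnat
      exact (cancel_epi (e.hom.app A)).mp ((hnat.symm.trans zero_comp).trans comp_zero.symm)
    · intro h
      have h2 : (TopCat.Sheaf.pullback AddCommGrpCat.{u} j).map φ = 0 := by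
        refine (cancel_mono (e.hom.app G)).mp (hnat.trans ?_)
        rw [show (hj.sheafPullback AddCommGrpCat.{u}).map φ = 0 from h]
        exact comp_zero.trans zero_comp.symm
      rw [h2]
      exact h0 _ _
  have hvan : ∀ (B : CohTop.Ab (TopCat.of ((U : Set Y)ᶜ : Set Y))) (φ : (CohTop.push i).obj B ⟶ G), φ ≫ η = 0 := by
    intro B φ
    rw [hη]
    refine Sheaf.hom_ext (NatTrans.ext (funext fun W => ?_))
    have hb : (Opens.map i).obj (H10Coh.im hj W.unop) = ⊥ := le_bot_iff.1 fun z hz => by
      obtain ⟨w, -, hw⟩ := hz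
      exact absurd (show (i z : Y) ∈ U from hw ▸ w.2) z.2
    have := ClosedPushAb.subsingleton_sections_bot B hb
    ext s
    have hs : s = 0 := Subsingleton.elim (α := B.obj.obj (op ((Opens.map i).obj (H10Coh.im hj W.unop)))) _ _
    rw [hs, map_zero]
    rfl
  have hι : (H10Coh.Rf hj).map ι = 0 := (hη ι).mp (kernel.condition η)
  haveI hR : (sheafToPresheaf (Opens.grothendieckTopology Y) AddCommGrpCat.{u}).IsRightAdjoint :=
    (sheafificationAdjunction _ _).isRightAdjoint
  haveI : Mono ι := inferInstanceAs (Mono (kernel.ι η))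
  haveI : Mono ι.hom := inferInstanceAs (Mono ((sheafToPresheaf _ _).map ι))
  have hKe : (CohTop.push i).essImage (CohCx.sectSupp U G) := by
    rw [hess]
    intro y hy
    have hyU : y ∈ U := not_not.mp fun h => hy ⟨⟨y, h⟩, rfl⟩
    refine @AddCommGrpCat.isZero_of_subsingleton _ ⟨fun a b => ?_⟩
    suffices h0 : ∀ a : CohTop.stalk (CohCx.sectSupp U G) y, a = 0 from (h0 a).trans (h0 b).symm
    intro a
    obtain ⟨W, hW, s, rfl⟩ := TopCat.Presheaf.exists_germ_eq (CohCx.sectSupp U G).obj a
    let W' : Opens (TopCat.of U) := (Opens.map j).obj W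
    have hle : H10Coh.im hj W' ≤ W := by rintro _ ⟨z, hz, rfl⟩; exact hz
    have hz : ι.hom.app (op (H10Coh.im hj W')) ((CohCx.sectSupp U G).obj.map (homOfLE hle).op s) = 0 :=
      congr($(congrArg (fun φ : (H10Coh.Rf hj).obj (CohCx.sectSupp U G) ⟶ (H10Coh.Rf hj).obj G => φ.hom.app (op W')) hι) ((CohCx.sectSupp U G).obj.map (homOfLE hle).op s))
    have hz' : (CohCx.sectSupp U G).obj.map (homOfLE hle).op s = 0 :=
      (AddCommGrpCat.mono_iff_injective _).1 inferInstance (hz.trans (map_zero _).symm)
    rw [← TopCat.Presheaf.germ_res_apply (CohCx.sectSupp U G).obj (homOfLE hle) y ⟨⟨y, hyU⟩, hW, rfl⟩ s, hz',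
      map_zero]
  obtain ⟨C, ⟨eC⟩⟩ := hKe
  haveI : Injective C := ⟨fun {A B} g a ha => by
    let χ := Injective.factorThru ((CohTop.push i).map g ≫ eC.hom ≫ ι) ((CohTop.push i).map a)
    let L : (CohTop.push i).obj B ⟶ CohCx.sectSupp U G := kernel.lift η χ (hvan B χ)
    have hL : L ≫ ι = χ := kernel.lift_ι η χ (hvan B χ)
    refine ⟨(CohTop.push i).preimage (L ≫ eC.inv), (CohTop.push i).map_injective ?_⟩
    rw [Functor.map_comp, Functor.map_preimage, ← cancel_mono eC.hom, Category.assoc, Category.assoc,
      Iso.inv_hom_id, Category.comp_id, ← cancel_mono ι, Category.assoc, Category.assoc, hL]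
    exact Injective.comp_factorThru _ _⟩
  exact Injective.of_iso eC (ClosedPushAb.push_injective i C)

/-- For an abelian sheaf `F` on a topological space `X` and a locally closed `Z = V ∖ W` (`W ≤ V`
opens), if `F` is injective then the sheaf `Γ_Z(F) = i_* i^!(F)` of sections of `F` with supports in
`Z` is injective. -/
theorem result {X : TopCat.{u}} (F : CohTop.Ab X) {W V : Opens X} (h : W ≤ V)
    (hF : Injective F) : Injective ((SuppFam.sectSuppLC h).obj F) := by
  haveI := hF
  haveI := injective_restr V F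
  haveI h1 : Injective ((LocCohZ.sectSuppF (SuppFam.inOpen V W)).obj ((CohTop.restrFunctor V).obj F)) :=
    injective_sectSupp _ _
  exact ClosedPushAb.push_injective (CohCx.incl V) _

end Groth.Agent.S13590
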