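import Groth.Statements.S6022
import Groth.Agent.H15Site.LocCohVanish

set_option autoImplicit false
universe u
open CategoryTheory CategoryTheory.Limits TopologicalSpace
open LocCohZ

set_option linter.style.haveILetI false
set_option linter.unusedSectionVars false
set_option backward.isDefEq.respectTransparency false
open Groth.Agent.H15Site Groth.Agent.H10Coh


namespace Groth.Agent.S6022

/-- Consider a topological space X carrying a sheaf of abelian groups F, a natural number n, and a
closed subset Y of X whose complement is the open set U. The local cohomology sheaves ℋ^i_Y(F) are
zero for every i < n exactly when, for each open V of X, the groups H^i_{Y∩V}(V, F) are zero for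
every i < n. -/
theorem result {X : TopCat.{u}} (F : CohTop.Ab X) (U : Opens X) (n : ℕ) :
    (∀ i : ℕ, i < n → IsZero ((LocCohZ.HZsh U i).obj F)) ↔
      ∀ (V : Opens X) (i : ℕ), i < n → Subsingleton (LocCohZ.HZ F i (inf_le_left : V ⊓ U ≤ V)) := by
  exact LocCoh.vanish_aux U n F

end Groth.Agent.S6022
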