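import Groth.Statements.S6026
import Groth.Agent.H15Site.LocCohRestr

set_option autoImplicit false
universe u
open CategoryTheory CategoryTheory.Limits TopologicalSpace
open LocCohZ

set_option linter.style.haveILetI false
set_option linter.unusedSectionVars false
set_option backward.isDefEq.respectTransparency false
open Groth.Agent.H15Site Groth.Agent.H10Coh CategoryTheory CategoryTheory.Limits Opposite

attribute [local instance 10000] Groth.Agent.H10Coh.hasSheafifyAb Groth.Agent.H10Coh.hasWeakSheafifyAb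
  Groth.Agent.H10Coh.hasExtAb Groth.Agent.H10Coh.enoughInjAb

lemma Groth.Agent.S6026.isIso_zmap {X : TopCat.{u}} {A B : Opens X} (h : A ≤ B) (h' : B ≤ A) :
    IsIso (zmap h) :=
  ⟨zmap h', (CohFree.freeSheafMap_comp _ _ _).symm.trans (CohFree.freeSheafMap_id _ _),
    (CohFree.freeSheafMap_comp _ _ _).symm.trans (CohFree.freeSheafMap_id _ _)⟩


namespace Groth.Agent.S6026

/-- Let X be a topological space, W ⊆ V opens of X and Z = V − W. For every i there is an isomorphism
H^i_Z(X, F) ≅ H^i_Z(V, F|_V), natural in the abelian sheaf F on X, between cohomology with supports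
in Z computed on X and computed on the open subspace V. (Existence of a natural family of
isomorphisms; the published statement has the canonical maps of cohomological functors.) -/
theorem result {X : TopCat.{u}} {W V : Opens X} (h : W ≤ V) (i : ℕ) :
    ∃ e : ∀ F : CohTop.Ab X,
        LocCohZ.HZ F i h ≃+ LocCohZ.HZc (CohTop.restr F V) i ((Opens.map (CohCx.incl V)).obj W),
      ∀ (F G : CohTop.Ab X) (φ : F ⟶ G) (x : LocCohZ.HZ F i h),
        e G (LocCohZ.map φ i h x) =
          LocCohZ.map ((CohTop.restrFunctor V).map φ) i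
            (le_top : (Opens.map (CohCx.incl V)).obj W ≤ ⊤) (e F x) := by
  let j := CohCx.incl V
  have hj : Topology.IsOpenEmbedding j := V.isOpenEmbedding'
  haveI := LocCoh.Rf_preservesFiniteLimits hj
  haveI := LocCohRestr.pfc hj
  haveI : (Rf hj).Additive := { map_add := rfl }
  let W' : Opens (TopCat.of V) := (Opens.map j).obj W
  let h' : W' ≤ ⊤ := le_top
  have htop : im hj (⊤ : Opens (TopCat.of V)) ≤ V := by rintro _ ⟨z, -, rfl⟩; exact z.2
  have htop' : V ≤ im hj (⊤ : Opens (TopCat.of V)) := fun z hz => ⟨⟨z, hz⟩, trivial, rfl⟩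
  have hW : im hj W' ≤ W := by rintro _ ⟨z, hz, rfl⟩; exact hz
  have hW' : W ≤ im hj W' := fun z hz => ⟨⟨z, h hz⟩, hz, rfl⟩
  haveI := Groth.Agent.S6026.isIso_zmap htop htop'
  haveI := Groth.Agent.S6026.isIso_zmap hW hW'
  have hsq : ∀ {F : CohTop.Ab X} (χ : Zsh V ⟶ F),
      zmap h' ≫ genR hj ⊤ ≫ (Rf hj).map (zmap htop ≫ χ) =
        genR hj W' ≫ (Rf hj).map (zmap hW ≫ zmap h ≫ χ) := fun χ => by
    rw [← Category.assoc, genR_natural hj h', Category.assoc, ← Functor.map_comp]
    congr 2
    exact ((Category.assoc _ _ _).symm.trans (congrArg (· ≫ χ)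
      ((CohFree.freeSheafMap_comp _ _ _).symm.trans
        ((congrArg (CohCx.freeSheafMap _) (Subsingleton.elim _ (homOfLE hW ≫ homOfLE h))).trans
          (CohFree.freeSheafMap_comp _ (homOfLE hW) (homOfLE h)))))).trans
      (Category.assoc _ _ _)
  let e : zq h' ⟶ (Rf hj).obj (zq h) := cokernel.desc _
    (genR hj ⊤ ≫ (Rf hj).map (zmap htop ≫ cokernel.π _)) (by
      refine (hsq _).trans ?_
      rw [cokernel.condition, comp_zero, Functor.map_zero, comp_zero])
  have h0 : ∀ F : CohTop.Ab X, Function.Bijective fun φ : zq h ⟶ F => e ≫ (Rf hj).map φ := by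
    intro F
    have hπ : ∀ φ : zq h ⟶ F, cokernel.π _ ≫ e ≫ (Rf hj).map φ =
        genR hj ⊤ ≫ (Rf hj).map (zmap htop ≫ cokernel.π _ ≫ φ) := fun φ => by
      rw [cokernel.π_desc_assoc, Category.assoc, ← Functor.map_comp, Category.assoc]
    refine ⟨fun φ₁ φ₂ hφ => ?_, fun ψ => ?_⟩
    · apply (cancel_epi (cokernel.π _)).1
      apply (cancel_epi (zmap htop)).1
      apply (genR_bijective hj ⊤ F).1
      exact (hπ φ₁).symm.trans ((congrArg (cokernel.π _ ≫ ·) hφ).trans (hπ φ₂))
    · obtain ⟨θ, hθ⟩ := (genR_bijective hj ⊤ F).2 (cokernel.π _ ≫ ψ)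
      let χ : Zsh V ⟶ F := inv (zmap htop) ≫ θ
      have hθχ : zmap htop ≫ χ = θ := IsIso.hom_inv_id_assoc _ _
      have hχ : zmap h ≫ χ = 0 := by
        apply (cancel_epi (zmap hW)).1
        rw [comp_zero]
        apply (genR_bijective hj W' F).1
        refine (hsq χ).symm.trans ?_
        rw [hθχ]
        refine (congrArg (zmap h' ≫ ·) hθ).trans ?_
        refine (cokernel.condition_assoc _ _).trans (zero_comp.trans ?_)
        dsimp only
        erw [Functor.map_zero]
        exact comp_zero.symm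
      refine ⟨cokernel.desc _ χ hχ, ?_⟩
      apply (cancel_epi (cokernel.π _)).1
      refine (hπ _).trans ?_
      rw [cokernel.π_desc, hθχ]
      exact hθ
  have hJ : ∀ (J : CohTop.Ab X) [Injective J] (n : ℕ),
      Subsingleton (Abelian.Ext.{u} (zq h') ((Rf hj).obj J) (n + 1)) := fun J _ n => by
    haveI : Injective ((Rf hj).obj J) := Groth.Agent.S13590.injective_restr V J
    exact subsingleton_of_forall_eq 0 fun x => Abelian.Ext.eq_zero_of_injective x
  exact ⟨fun F => AddEquiv.ofBijective (extMap (Rf hj) e F i) (extMap_bijective (Rf hj) e h0 hJ i F),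
    fun F G φ x => extMap_naturality (Rf hj) e φ i x⟩

end Groth.Agent.S6026
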