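import Groth.Statements.S6031
import Groth.Agent.H15Site.LocCoh
import Groth.Agent.H10Coh.Affine

set_option autoImplicit false
universe u
open CategoryTheory CategoryTheory.Limits TopologicalSpace AlgebraicGeometry
open LocCohZ

set_option linter.style.haveILetI false
set_option linter.unusedSectionVars false
set_option backward.isDefEq.respectTransparency false
open Groth.Agent.H15Site Groth.Agent.H10Coh


namespace Groth.Agent.S6031

/-- Let Y be an affine scheme, U an open subset with closed complement Z and M a quasi-coherent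
O_Y-module with underlying abelian sheaf F. Then 0 → H^0_Z(Y, F) → H^0(Y, F) → H^0(U, F) → H^1_Z(Y,
F) → 0 is exact, i.e. the connecting map H^0(U, F) → H^1_Z(Y, F) is surjective, and the connecting
maps H^i(U, F) → H^{i+1}_Z(Y, F) are bijective for all i ≥ 1. (The published statement assumes U
quasi-compact; the printed proof of these two assertions only uses the vanishing of the higher
cohomology of F on the affine scheme Y, so U is an arbitrary open here.) -/
theorem result (Y : Scheme.{u}) [IsAffine Y] (M : Y.Modules)
    (hM : Coh.IsQCoh M) (U : Y.Opens) :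
    Function.Surjective (LocCohZ.delta (X := Y.carrier) (Coh.toAb M) 0 (le_top : U ≤ ⊤)) ∧
      ∀ i : ℕ, 1 ≤ i →
        Function.Bijective (LocCohZ.delta (X := Y.carrier) (Coh.toAb M) i (le_top : U ≤ ⊤)) := by
  haveI : M.IsQuasicoherent := hM
  have hz : ∀ i : ℕ, Subsingleton (CohTop.HU (X := Y.carrier) (Coh.toAb M) (i + 1) ⊤) := fun i =>
    subsingleton_HnM_of_isAffineOpen M (isAffineOpen_top Y) i
  refine ⟨fun x => ?_, fun i hi => ?_⟩
  · haveI := hz 0
    exact (LocCoh.exact_delta _ 0 _ x).1 (Subsingleton.elim _ _)
  · obtain ⟨k, rfl⟩ := Nat.exists_eq_succ_of_ne_zero (by omega : i ≠ 0)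
    refine ⟨(injective_iff_map_eq_zero _).2 fun y hy => ?_, fun x => ?_⟩
    · obtain ⟨z, rfl⟩ := (LocCoh.exact_res _ (k + 1) _ y).1 hy
      haveI := hz k
      exact (congrArg _ (Subsingleton.elim z 0)).trans (map_zero _)
    · haveI := hz (k + 1)
      exact (LocCoh.exact_delta _ (k + 1) _ x).1 (Subsingleton.elim _ _)

end Groth.Agent.S6031
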