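import Groth.Statements.S6032
import Groth.Agent.H02CA.CechModH
import Groth.Agent.H02CA.ExtCechRingIso
import Groth.Agent.H15Site.LocCoh
import Groth.Agent.S2438
import Groth.Agent.S2439
import Groth.Agent.S2442
import Groth.Agent.S6031

set_option autoImplicit false
universe u
open CategoryTheory CategoryTheory.Limits TopologicalSpace AlgebraicGeometry
open LocCohZ

namespace Groth.Agent.S6032
open CategoryTheory CategoryTheory.Limits TopologicalSpace AlgebraicGeometry Opposite Groth.Agent.H15Site Groth.Agent.H10Coh H02CA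

attribute [local instance 10000] hasSheafifyAb hasWeakSheafifyAb hasExtAb enoughInjAb

section Aux

variable {Y : Scheme.{u}} (F : CohTop.Ab Y.toTopCat) (W : Y.Opens)

theorem nonempty_zero :
    Nonempty (LocCohZ.HZ (X := Y.toTopCat) F 0 (le_top : W ≤ ⊤) ≃+
      (F.obj.map (homOfLE (le_top : W ≤ ⊤)).op).hom.ker) := by
  let r := (F.obj.map (homOfLE (le_top : W ≤ ⊤)).op).hom
  let t := LocCohZ.toHU (X := Y.toTopCat) F 0 (le_top : W ≤ ⊤)
  let e := H10Coh.H0Equiv (X := Y.toTopCat) F ⊤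
  have hr : ∀ z, r (e (t z)) = 0 := fun z => by
    have h := (LocCoh.exact_toHU F 0 (le_top : W ≤ ⊤)).apply_apply_eq_zero z
    exact ((H10Coh.H0Equiv_res (X := Y.toTopCat) (le_top : W ≤ ⊤) (t z)).symm.trans
      (congrArg (H10Coh.H0Equiv F W) h)).trans (map_zero _)
  let φ := (e.toAddMonoidHom.comp t).codRestrict r.ker hr
  refine ⟨AddEquiv.ofBijective φ ⟨fun a b h =>
    LocCoh.toHU_injective_zero F _ (e.injective (congrArg Subtype.val h)), fun y => ?_⟩⟩
  obtain ⟨z, hz⟩ := (LocCoh.exact_toHU F 0 (le_top : W ≤ ⊤) (e.symm y.1)).1 (by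
    apply (H10Coh.H0Equiv (X := Y.toTopCat) F W).injective
    refine ((H10Coh.H0Equiv_res (X := Y.toTopCat) (le_top : W ≤ ⊤) (e.symm y.1)).trans ?_).trans (map_zero _).symm
    rw [AddEquiv.apply_symm_apply]
    exact y.2)
  exact ⟨z, Subtype.ext ((congrArg e hz).trans (e.apply_symm_apply _))⟩

theorem nonempty_one (hs : Function.Surjective (LocCohZ.delta (X := Y.toTopCat) F 0 (le_top : W ≤ ⊤))) :
    Nonempty (LocCohZ.HZ (X := Y.toTopCat) F 1 (le_top : W ≤ ⊤) ≃+
      (F.obj.obj (op W) : Type u) ⧸ (F.obj.map (homOfLE (le_top : W ≤ ⊤)).op).hom.range) := by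
  let r := (F.obj.map (homOfLE (le_top : W ≤ ⊤)).op).hom
  let e := H10Coh.H0Equiv (X := Y.toTopCat) F W
  let φ := (LocCohZ.delta (X := Y.toTopCat) F 0 (le_top : W ≤ ⊤)).comp e.symm.toAddMonoidHom
  have hker : φ.ker = r.range := by
    ext s
    rw [AddMonoidHom.mem_ker]
    constructor
    · intro h
      obtain ⟨m, hm⟩ := (LocCoh.exact_res F 0 (le_top : W ≤ ⊤) (e.symm s)).1 h
      exact ⟨H10Coh.H0Equiv F ⊤ m, ((H10Coh.H0Equiv_res (X := Y.toTopCat) (le_top : W ≤ ⊤) m).symm.trans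
        (congrArg e hm)).trans (e.apply_symm_apply s)⟩
    · rintro ⟨m, rfl⟩
      refine (LocCoh.exact_res F 0 (le_top : W ≤ ⊤) (e.symm (r m))).2
        ⟨(H10Coh.H0Equiv (X := Y.toTopCat) F ⊤).symm m, e.injective ?_⟩
      refine (H10Coh.H0Equiv_res (X := Y.toTopCat) (le_top : W ≤ ⊤) _).trans ?_
      rw [AddEquiv.apply_symm_apply, AddEquiv.apply_symm_apply]
  exact ⟨((QuotientAddGroup.quotientAddEquivOfEq hker).symm.trans
    (QuotientAddGroup.quotientKerEquivOfSurjective φ (hs.comp e.symm.surjective))).symm⟩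

end Aux

theorem aux (A : Type u) [CommRing A] (fs : List A) (M : Type u) [AddCommGroup M] [Module A M] :
    ∃ gs : List Γ(Spec (CommRingCat.of A), ⊤),
      LocCoh.puncturedOpen A (Ideal.span {a | a ∈ fs}) =
        (⨆ j : Fin gs.length, (Spec (CommRingCat.of A)).basicOpen (gs.get j)) ∧
      (∀ j : Fin gs.length, IsAffineOpen ((Spec (CommRingCat.of A)).basicOpen (gs.get j))) ∧
      ∀ i : ℕ, Nonempty (CohIII.koszulHLim fs (ModuleCat.of A M) i ≃+
        CohIII.koszulHLim gs (ModuleCat.of Γ(Spec (CommRingCat.of A), ⊤)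
          ((AlgebraicGeometry.tilde (R := CommRingCat.of A) (ModuleCat.of A M)).val.obj (op ⊤))) i) := by
  let R := CommRingCat.of A
  let σ : A →+* Γ(Spec R, ⊤) := (Scheme.ΓSpecIso R).inv.hom
  have hσ : ∀ a : A, (Spec R).basicOpen (σ a) = PrimeSpectrum.basicOpen a := fun a =>
    basicOpen_eq_of_affine (R := R) a
  refine ⟨fs.map σ, ?_, fun j => (isAffineOpen_top (Spec R)).basicOpen _, fun i => ?_⟩
  · refine TopologicalSpace.Opens.ext (Set.ext fun (x : Spec R) => ?_)
    change x ∈ (PrimeSpectrum.zeroLocus ((Ideal.span {a | a ∈ fs} : Ideal A) : Set A))ᶜ ↔ _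
    refine Iff.trans ?_ (Iff.symm Opens.mem_iSup)
    rw [PrimeSpectrum.zeroLocus_span]
    refine Iff.trans (Iff.trans (Set.mem_compl_iff _ _)
      (not_congr (PrimeSpectrum.mem_zeroLocus (R := A) x _))) ?_
    rw [Set.not_subset]
    constructor
    · rintro ⟨a, ha, hax⟩
      obtain ⟨k, hk⟩ := List.get_of_mem (List.mem_map_of_mem (f := σ) ha)
      exact ⟨k, by rw [hk, hσ]; exact hax⟩
    · rintro ⟨k, hk⟩
      obtain ⟨a, ha, hak⟩ := List.mem_map.1 (List.get_mem (fs.map σ) k)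
      rw [← hak, hσ] at hk
      exact ⟨a, ha, hk⟩
  · let Mt := AlgebraicGeometry.tilde (R := R) (ModuleCat.of A M)
    obtain ⟨e₁⟩ := KEC.nonempty_koszulHLim_equiv (ModuleCat.of A M) fs i
    obtain ⟨e₂⟩ := KEC.nonempty_koszulHLim_equiv
      (ModuleCat.of Γ(Spec R, ⊤) (Mt.val.obj (op ⊤))) (fs.map σ) i
    let t := (AlgebraicGeometry.tilde.isoTop (R := R) (ModuleCat.of A M)).toLinearEquiv
    obtain ⟨e₃⟩ := RingIso.nonempty_extCechH_equiv σ (ModuleCat.of A M)
      (ModuleCat.of Γ(Spec R, ⊤) (Mt.val.obj (op ⊤))) (t.toAddEquiv.toAddMonoidHom)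
      (fun a x => by
        refine (t.map_smul a x).trans ?_
        refine (AlgebraicGeometry.Scheme.Modules.smul_Spec_def a (t x)).trans ?_
        have h := CM.ρ_top (X := Spec R) (σ a)
        exact congrArg (· • (show Γ(Mt, ⊤) from t x)) h)
      t.bijective fs (i : ℤ)
    exact ⟨(e₁.toAddEquiv.trans e₃).trans e₂.toAddEquiv.symm⟩


/-- Let A be a commutative ring, f = (f_1, …, f_r) a finite family of elements of A with zero locus Y in
X = Spec A, and M an A-module with associated sheaf M~. For every i the group colim_n H^i(f^n, M)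
(direct limit of Koszul cohomology of the powers) is isomorphic to H^i_Y(X, M~). (Existence of an
additive isomorphism in each degree; the published statement has an isomorphism of ∂-functors in M.) -/
theorem result (A : Type u) [CommRing A] (fs : List A) (M : Type u)
    [AddCommGroup M] [Module A M] (i : ℕ) :
    Nonempty (CohIII.koszulHLim fs (ModuleCat.of A M) i ≃+
      LocCohZ.HZM (Spec (CommRingCat.of A)) (AlgebraicGeometry.tilde (R := CommRingCat.of A) (ModuleCat.of A M)) i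
        (LocCoh.puncturedOpen A (Ideal.span {a | a ∈ fs}))) := by
  obtain ⟨gs, hV, haff, hk⟩ := aux A fs M
  let Mt := AlgebraicGeometry.tilde (R := CommRingCat.of A) (ModuleCat.of A M)
  haveI : Coh.IsQCoh Mt := inferInstance
  rw [hV]
  obtain ⟨hs, hb⟩ := S6031.result (Spec (CommRingCat.of A)) Mt inferInstance
    (⨆ j : Fin gs.length, (Spec (CommRingCat.of A)).basicOpen (gs.get j))
  obtain ⟨e⟩ := hk i
  rcases i with _ | _ | i
  · obtain ⟨e₁⟩ := (S2442.result (Spec (CommRingCat.of A)) gs Mt).1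
    obtain ⟨e₂⟩ := nonempty_zero (Y := Spec (CommRingCat.of A)) (Coh.toAb Mt)
      (⨆ j : Fin gs.length, (Spec (CommRingCat.of A)).basicOpen (gs.get j))
    exact ⟨(e.trans e₁.symm).trans e₂.symm⟩
  · obtain ⟨e₁⟩ := (S2442.result (Spec (CommRingCat.of A)) gs Mt).2
    obtain ⟨e₂⟩ := nonempty_one (Y := Spec (CommRingCat.of A)) (Coh.toAb Mt)
      (⨆ j : Fin gs.length, (Spec (CommRingCat.of A)).basicOpen (gs.get j)) hs
    exact ⟨(e.trans e₁.symm).trans e₂.symm⟩
  · obtain ⟨e₁⟩ := S2439.result (Spec (CommRingCat.of A)) gs haff Mt (i + 1) (by omega)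
    obtain ⟨e₂⟩ := H02CA.CM.nonempty_HHon_HnM Mt
      (⨆ j : Fin gs.length, (Spec (CommRingCat.of A)).basicOpen (gs.get j)) (i + 1)
    exact ⟨((e.trans e₁.symm).trans e₂).trans (AddEquiv.ofBijective _ (hb (i + 1) (by omega)))⟩

end Groth.Agent.S6032
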