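import Groth.Statements.S6039
import Groth.Agent.H15Site.LocCohDepth

set_option autoImplicit false
universe u
open CategoryTheory CategoryTheory.Limits TopologicalSpace AlgebraicGeometry Opposite
open LocCohZ

set_option linter.style.haveILetI false
set_option backward.isDefEq.respectTransparency false

namespace Groth.Agent.S6039

/-- Let X be a locally Noetherian scheme, Y a closed subset with open complement U and M a coherent
O_X-module. Then depth M_x ≥ 2 for every x ∈ Y if and only if, for every open V of X, the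
restriction map Γ(V, M) → Γ(V ∩ U, M) is bijective. -/
theorem result (X : Scheme.{u}) [IsLocallyNoetherian X] (U : X.Opens)
    (M : X.Modules) (hM : Coh.IsCoh M) :
    (∀ x : X, x ∉ (U : Set X) → (2 : ℕ∞) ≤ LocCoh.depth (X.presheaf.stalk x) (M.presheaf.stalk x)) ↔
      ∀ V : X.Opens, Function.Bijective (M.val.map (homOfLE (inf_le_left : V ⊓ U ≤ V)).op).hom := by
  have key : ∀ (V : X.Opens),
      Function.Bijective (CohTop.res (X := X.carrier) (Coh.toAb M) 0 (inf_le_left : V ⊓ U ≤ V)) ↔
        Function.Bijective (M.val.map (homOfLE (inf_le_left : V ⊓ U ≤ V)).op).hom := fun V => by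
    have e : (M.val.map (homOfLE (inf_le_left : V ⊓ U ≤ V)).op).hom ∘
        (H10Coh.H0Equiv (X := X.carrier) (Coh.toAb M) V) =
        (H10Coh.H0Equiv (X := X.carrier) (Coh.toAb M) (V ⊓ U)) ∘
          (CohTop.res (X := X.carrier) (Coh.toAb M) 0 (inf_le_left : V ⊓ U ≤ V)) :=
      funext fun x => (H10Coh.H0Equiv_res (X := X.carrier) (F := Coh.toAb M) inf_le_left x).symm
    rw [← Function.Bijective.of_comp_iff _ (H10Coh.H0Equiv (X := X.carrier) (Coh.toAb M) V).bijective, e,
      Function.Bijective.of_comp_iff' (H10Coh.H0Equiv (X := X.carrier) (Coh.toAb M) (V ⊓ U)).bijective]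
  constructor
  · intro h V
    have hz := (S6022.result (X := X.carrier) (Coh.toAb M) U 2).1
      ((H15Site.LocCohDepth.isZero_HZsh_below_iff_depth hM U 2).2 h) V
    exact (key V).1 (((H15Site.LocCoh.subsingleton_HZ_iff_res (Coh.toAb M) _ 1).1
      fun i hi => hz i (by omega)).1 0 Nat.zero_lt_one)
  · intro h x hx
    obtain ⟨_, ⟨V, hV, rfl⟩, hxV, -⟩ :=
      X.isBasis_affineOpens.exists_subset_of_mem_open (Set.mem_univ x) isOpen_univ
    haveI := hM.1
    haveI : Subsingleton (CohTop.HU (X := X.carrier) (Coh.toAb M) 1 V) :=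
      H10Coh.subsingleton_HnM_of_isAffineOpen M hV 0
    have hz := (H15Site.LocCoh.subsingleton_HZ_iff_res (X := X.carrier) (Coh.toAb M)
      (inf_le_left : V ⊓ U ≤ V) 1).2 ⟨fun i hi => by
        obtain rfl : i = 0 := by omega
        exact (key V).2 (h V), Function.injective_of_subsingleton _⟩
    exact (H15Site.LocCohDepth.subsingleton_HZ_iff_depth hM U hV 2).1
      (fun i hi => hz i (by omega)) x hxV hx

end Groth.Agent.S6039
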