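import Groth.Statements.S8855
import Groth.Agent.H13CInt.Spread

set_option autoImplicit false
universe u
open CategoryTheory CategoryTheory.Limits AlgebraicGeometry TopologicalSpace
open SDiv

namespace Groth.Agent.S8855

/-- Regularity of an immersion from that of a closed immersion into an open subscheme. -/
theorem regularAt_of_open {Z X : Scheme.{u}} (W : X.Opens) (j : Z ⟶ (W : Scheme.{u})) [IsClosedImmersion j]
    (U₁ : (W : Scheme.{u}).Opens) (hU₁ : IsAffineOpen U₁) (z : Z) (hz : j z ∈ U₁)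
    (rs : List Γ((W : Scheme.{u}), U₁)) (hrs : RingTheory.Sequence.IsRegular Γ((W : Scheme.{u}), U₁) rs)
    (hker : RingHom.ker (j.app U₁).hom = Ideal.ofList rs) :
    RegImm.IsRegularImmersionAt RegImm.Kind.regular (j ≫ W.ι) z := by
  let U' : X.Opens := W.ι ''ᵁ U₁
  let e : Γ(X, U') ≃+* Γ((W : Scheme.{u}), U₁) := (W.ι.appIso U₁).commRingCatIsoToRingEquiv
  haveI : IsClosedImmersion ((j ≫ W.ι) ∣_ U') := by
    rw [morphismRestrict_comp]
    haveI : IsClosedImmersion (W.ι ∣_ U') := IsClosedImmersion.of_isPreimmersion _ (by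
      rw [Set.range_eq_univ.mpr fun y => ?_]
      · exact isClosed_univ
      obtain ⟨w, hw, hwy⟩ := y.2
      refine ⟨⟨w, show W.ι w ∈ U' from ⟨w, hw, rfl⟩⟩, Subtype.ext ?_⟩
      rw [morphismRestrict_base_coe]; exact hwy)
    haveI : IsClosedImmersion (j ∣_ (W.ι ⁻¹ᵁ U')) := IsZariskiLocalAtTarget.restrict (P := @IsClosedImmersion) ‹IsClosedImmersion j› _
    exact MorphismProperty.comp_mem @IsClosedImmersion _ _ ‹_› ‹_›
  refine ⟨⟨U', hU₁.image_of_isOpenImmersion W.ι⟩, ⟨j z, hz, rfl⟩, inferInstance, rs.map e.symm,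
    H13CInt.isRegular_map_ringEquiv e.symm hrs, ?_⟩
  have hsym : (Ideal.ofList (rs.map e.symm)) = (Ideal.ofList rs).comap (e : Γ(X, U') →+* Γ((W : Scheme.{u}), U₁)) := by
    rw [show Ideal.ofList (rs.map e.symm) = (Ideal.ofList rs).map (e.symm : Γ((W : Scheme.{u}), U₁) →+* Γ(X, U'))
      from (Ideal.map_ofList _ _).symm]
    exact Ideal.map_symm e
  show RingHom.ker ((j ≫ W.ι).app U').hom = _
  rw [hsym, ← hker]
  ext a
  rw [RingHom.mem_ker, Ideal.mem_comap, RingHom.mem_ker]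
  show (W.ι.app U' ≫ j.app (W.ι ⁻¹ᵁ U')).hom a = 0 ↔ _
  have hpre : W.ι ⁻¹ᵁ U' = U₁ := W.ι.preimage_image_eq U₁
  have hnat : j.app (W.ι ⁻¹ᵁ U') = (W : Scheme.{u}).presheaf.map (eqToHom hpre.symm).op ≫ j.app U₁ ≫
      Z.presheaf.map (eqToHom (congrArg (fun O => j ⁻¹ᵁ O) hpre)).op := by
    rw [← Category.assoc, j.naturality, Category.assoc, ← Functor.map_comp]
    simp [eqToHom_map]
  rw [hnat]
  show (Z.presheaf.map _).hom ((j.app U₁).hom _) = 0 ↔ _
  rw [map_eq_zero_iff _ (ConcreteCategory.bijective_of_isIso _).1]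
  have he : W.ι.app U' ≫ (W : Scheme.{u}).presheaf.map (eqToHom hpre.symm).op = (W.ι.appIso U₁).hom := by
    rw [Scheme.Hom.appIso_hom]
  exact Iff.of_eq (congrArg (fun t => (j.app U₁).hom t = 0) congr($(he) a))



/-- Let i : Z ⟶ X be an immersion of schemes with Z and X regular (locally Noetherian, all local rings
regular local rings). Then i is a regular immersion. -/
theorem result {Z X : Scheme.{u}} (i : Z ⟶ X) [IsImmersion i]
    [IsLocallyNoetherian X] [IsLocallyNoetherian Z]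
    (hX : ∀ x : ↥X, IsRegularLocalRing ↑(X.presheaf.stalk x)) (hZ : ∀ z : ↥Z, IsRegularLocalRing ↑(Z.presheaf.stalk z)) :
    RegImm.IsRegularImmersion RegImm.Kind.regular i := by
  refine ⟨inferInstance, fun z => ?_⟩
  let W := i.coborderRange
  let j : Z ⟶ (W : Scheme.{u}) := i.liftCoborder
  have hji : j ≫ W.ι = i := i.liftCoborder_ι
  haveI : IsRegularLocalRing ((W : Scheme.{u}).presheaf.stalk (j z)) := by
    haveI := hX (W.ι (j z))
    exact IsRegularLocalRing.of_ringEquiv (asIso (W.ι.stalkMap (j z))).commRingCatIsoToRingEquiv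
  haveI : IsRegularLocalRing ((W : Scheme.{u}).presheaf.stalk (j z) ⧸ RingHom.ker (j.stalkMap z).hom) := by
    haveI := hZ z
    exact IsRegularLocalRing.of_ringEquiv (RingHom.quotientKerEquivOfSurjective (j.stalkMap_surjective z)).symm
  obtain ⟨V, hzV, hcl, hreg⟩ := (H13CInt.regularNear_iff j z).mpr (H13CInt.isRegularIdeal_of_regular_quotient _)
  obtain ⟨U, hU, hzU, rs, hrs, hker⟩ := hreg ⟨z, hzV⟩
  rw [← hji]
  refine regularAt_of_open W j (V.ι ''ᵁ U) (hU.image_of_isOpenImmersion V.ι) z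
    ⟨_, hzU, morphismRestrict_base_coe j V ⟨z, hzV⟩⟩ rs hrs ?_
  refine Eq.trans ?_ hker
  rw [Scheme.Hom.ker_apply, morphismRestrict_app]
  ext a
  show (j.app (V.ι ''ᵁ U)).hom a = 0 ↔ (Z.presheaf.map _).hom ((j.app (V.ι ''ᵁ U)).hom a) = 0
  exact (map_eq_zero_iff _ (ConcreteCategory.bijective_of_isIso _).1).symm

end Groth.Agent.S8855
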