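import Groth.Statements.S5112
import Groth.Agent.H25Div.LocalSpec
import Groth.Agent.H29Ref.DivIdeal
import Groth.Agent.H8Props.FinLocFree.Sheaf
import Groth.Agent.H26CDiv.Generization

set_option autoImplicit false
universe u
open CategoryTheory CategoryTheory.Limits AlgebraicGeometry TopologicalSpace
open Div21

namespace Groth.Agent.S5112

open CategoryTheory CategoryTheory.Limits AlgebraicGeometry TopologicalSpace
open Groth.Agent

/-- The cycle is principal at a point exactly when the associated module is free there. -/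
theorem exists_fun_iff_free (X : Scheme.{u}) [IsIntegral X] [IsLocallyNoetherian X]
    (hX : Pi1.IsNormalScheme X) {F : X.Modules} (hF : RefHull.IsRef1 F)
    {v : F.presheaf.stalk (genericPoint X)} (hv : v ≠ 0) (x : X) :
    (∃ f : X.functionField, f ≠ 0 ∧ ∀ z : X, Order.coheight z = 1 → z ⤳ x → H29Ref.secO F z v = Scheme.ord f z) ↔
      Module.Free (X.presheaf.stalk x) (F.presheaf.stalk x) := by
  have hIC : ∀ x : X, IsIntegrallyClosed (X.presheaf.stalk x) := fun x => (hX x).2
  have hFt := H29Ref.isTorsionFree_of_isReflexive F hF.1 hF.2.1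
  have hη := H29Ref.stalkFree_generic F hF.1 hF.2.2
  letI := (H29Ref.isField_generic (X := X)).toField
  constructor
  · rintro ⟨f, hf, hord⟩
    haveI := (hX x).1
    haveI := (hX x).2
    haveI : IsNoetherianRing (X.presheaf.stalk x) := inferInstance
    haveI : Module.IsReflexive (X.presheaf.stalk x) (F.presheaf.stalk x) :=
      (H29Ref.isReflexive_iff F hF.1).1 hF.2.1 x
    let φ : X.presheaf.stalk (genericPoint X) := f
    obtain ⟨σ, hσ⟩ : ∃ σ, σ = φ⁻¹ • v := ⟨_, rfl⟩
    -- at the points of codimension one the candidate generates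
    have hz : ∀ z : X, Order.coheight z = 1 → z ⤳ x →
        ∃ t : F.presheaf.stalk z, H29Ref.IsStalkGen F z t ∧ H29Ref.sp F z t = σ := by
      intro z hz1 hzx
      obtain ⟨t, ht⟩ := H29Ref.exists_isStalkGen_of_isRef1 hX F hF z hz1
      obtain ⟨ψ, hψ⟩ := ht.exists_smul v
      have hψ0 : (ψ : X.functionField) ≠ 0 := fun h => hv (by rw [hψ, show ψ = 0 from h, zero_smul])
      have e := (hord z hz1 hzx).symm.trans (H29Ref.secO_eq hz1 ht hv (φ := ψ) hψ)
      let K : Type u := X.functionField
      let r : X.functionField := (ψ : K) / (f : K)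
      have hr0 : r ≠ 0 := div_ne_zero (G₀ := K) hψ0 hf
      have hrf : r * f = ψ := div_mul_cancel₀ (G₀ := K) _ hf
      have hr : Scheme.ord r z = 0 := by
        have h1 := Scheme.ord_mul (x := z) hr0 hf
        rw [hrf, ← e] at h1
        linarith
      obtain ⟨a, ha⟩ := (H26CDiv.ord_nonneg_iff_reg hIC hz1 hr0).1 hr.ge
      have hau : IsUnit a := (H26CDiv.ord_spec_eq_zero_iff hIC hz1
        (fun h => hr0 (by rw [← ha, h, map_zero]))).1 (by rw [ha, hr])
      have hsp : H29Ref.sp F z (a • t) = σ := by
        rw [H29Ref.sp_smul]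
        rw [hσ, hψ, smul_smul]
        congr 1
        show algebraMap (X.presheaf.stalk z) X.functionField a = _
        rw [ha, mul_comm]
        exact div_eq_mul_inv (G := K) _ _
      refine ⟨a • t, H29Ref.IsStalkGen.mk' hη ?_ ?_, hsp⟩
      · rw [← ht.span_eq]; exact Submodule.span_singleton_smul_eq hau t
      · rw [hsp, hσ]; exact smul_ne_zero (inv_ne_zero hf) hv
    -- the candidate lies in the stalk
    obtain ⟨V, hV, hxV, -⟩ := exists_isAffineOpen_mem_and_subset (X := X) (x := x) (U := ⊤) trivial
    obtain ⟨c₀, n₀, hc₀, hcn⟩ := H29Ref.exists_smul_eq_germ F hF.1.1 hV (H29Ref.genericPoint_mem hxV) σ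
    let c := X.presheaf.germ V x hxV c₀
    let n := F.presheaf.germ V x hxV n₀
    have hcne : c ≠ 0 := fun h => hc₀ (germ_injective_of_isIntegral X x hxV (h.trans (map_zero _).symm))
    have hn : H29Ref.sp F x n = H29Ref.spO x c • σ := by
      rw [H29Ref.sp_germ, H29Ref.spO_germ, hcn]
    obtain ⟨m, hm⟩ := H29Ref.exists_smul_eq_of_height_one (N := F.presheaf.stalk x) c hcne n fun q _ hq => by
      obtain ⟨z, hzx, rfl⟩ := H26CDiv.exists_qOf_eq q
      have hz1 : Order.coheight z = 1 := by
        have h := H26CDiv.height_qOf hzx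
        rw [hq] at h
        exact (WithBot.coe_injective h).symm
      obtain ⟨t, -, ht⟩ := hz z hz1 hzx
      obtain ⟨g, w, hgw⟩ := H29Blow.exists_germ_eq_smul F hF.1.1 hV ⟨z, hzx.mem_open V.2 hxV⟩ t
      obtain ⟨a, s, hs, has⟩ := H26CDiv.exists_mul_spec hzx (w : X.presheaf.stalk z)
      refine ⟨a, fun ha => (H26CDiv.mem_qOf_iff hzx a).1 ha (has ▸ w.isUnit.mul (not_not.1 hs)),
        s • F.presheaf.germ V x hxV g, H29Ref.sp_injective F hF.1.1 hFt x ?_⟩
      have hsp : H29Ref.sp F x (F.presheaf.germ V x hxV g) = H29Ref.spO z (w : X.presheaf.stalk z) • σ := by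
        rw [H29Ref.sp_germ, ← ht, ← H29Ref.sp_smul, ← hgw, H29Ref.sp_germ]
      have he : ∀ b, H29Ref.spO z (H26CDiv.spec hzx b) = H29Ref.spO x b := fun b => H26CDiv.algebraMap_spec hzx b
      rw [H29Ref.sp_smul, H29Ref.sp_smul, H29Ref.sp_smul, hn, hsp, smul_smul, smul_smul, smul_smul,
        ← he a, ← has, map_mul, he s]
      congr 1
      ring
    have hσm : H29Ref.sp F x m = σ := by
      have h1 := congrArg (H29Ref.sp F x) hm
      rw [H29Ref.sp_smul, hn] at h1
      exact smul_right_injective _ ((map_ne_zero_iff _ (H29Ref.spO_injective x)).2 hcne) h1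
    have hσ0 : σ ≠ 0 := hσ ▸ smul_ne_zero (inv_ne_zero hf) hv
    have hm0 : m ≠ 0 := fun h => hσ0 (by rw [← hσm, h, map_zero])
    refine Module.Free.of_equiv (LinearEquiv.ofBijective (LinearMap.toSpanSingleton (X.presheaf.stalk x) _ m)
      ⟨(injective_iff_map_eq_zero _).2 fun r hr => ?_, fun w => ?_⟩)
    · have h1 := congrArg (H29Ref.sp F x) hr
      rw [LinearMap.toSpanSingleton_apply, H29Ref.sp_smul, hσm, map_zero, smul_eq_zero_iff_left hσ0] at h1
      exact (map_eq_zero_iff _ (H29Ref.spO_injective x)).1 h1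
    · by_cases hw : w = 0
      · exact ⟨0, by simp [hw]⟩
      obtain ⟨lam, hlam⟩ := (H29Ref.bijective_toSpan hη hσ0).2 (H29Ref.sp F x w)
      have hlam : lam • σ = H29Ref.sp F x w := hlam
      have hl0 : (lam : X.functionField) ≠ 0 := fun h => hw (H29Ref.sp_injective F hF.1.1 hFt x (by
        rw [← hlam, show lam = 0 from h, zero_smul, map_zero]))
      obtain ⟨r, hr⟩ := H26CDiv.reg_of_ord hIC hl0 (x := x) fun z hzx hz1 => by
        obtain ⟨t, ht, htσ⟩ := hz z hz1 hzx
        let wz : F.presheaf.stalk z := F.presheaf.stalkSpecializes hzx w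
        have hwz : H29Ref.sp F z wz = H29Ref.sp F x w := congr($(F.presheaf.stalkSpecializes_comp
          ((genericPoint_spec X).specializes (Set.mem_univ z)) hzx) w)
        obtain ⟨b, hb⟩ := Submodule.mem_span_singleton.1 (ht.span_eq.symm ▸ Submodule.mem_top : wz ∈ _)
        have : H29Ref.spO z b = lam := H29Ref.smul_right_inj F hσ0 (by
          rw [← htσ, ← H29Ref.sp_smul, hb, hwz, ← hlam, htσ])
        exact (H26CDiv.ord_nonneg_iff_reg hIC hz1 hl0).2 ⟨b, this⟩
      refine ⟨r, H29Ref.sp_injective F hF.1.1 hFt x ?_⟩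
      rw [LinearMap.toSpanSingleton_apply, H29Ref.sp_smul, hσm, ← hlam]
      exact congrArg (· • σ) hr
  · intro hfree
    haveI := hfree
    haveI := H29Ref.finite_stalk F hF.1.2 x
    have h1 := H29Ref.stalkFree_one_of_free F hF.1 hη x
    obtain ⟨U, hxU, ⟨e⟩⟩ := H8Props.FunDescent.isFreeOfRankNear_of_stalkFree_of_isFP F
      (H10Coh.isFP_of_isCoh F hF.1) h1
    obtain ⟨V, hV, hxV, hVU⟩ := exists_isAffineOpen_mem_and_subset (X := X) (x := x) (U := U) hxU
    obtain ⟨b⟩ := H8Props.FinLocFree.exists_basis_of_chart F e (V := V) hVU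
    have hspan : ∀ y : V, Submodule.span (X.presheaf.stalk y.1) {F.presheaf.germ V y.1 y.2 (b 0)} = ⊤ := fun y => by
      have h := H29Ref.span_germ_affine F hF.1.1 hV b b.span_eq y
      rwa [Set.range_unique] at h
    have hηV : genericPoint X ∈ V := H29Ref.genericPoint_mem hxV
    obtain ⟨φ, hφ⟩ := Submodule.mem_span_singleton.1 ((hspan ⟨_, hηV⟩).symm ▸ Submodule.mem_top :
      v ∈ Submodule.span (X.presheaf.stalk (genericPoint X)) {F.presheaf.germ V (genericPoint X) hηV (b 0)})
    refine ⟨φ, fun h => hv (by rw [← hφ, show φ = 0 from h, zero_smul]), fun z hz1 hzx => ?_⟩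
    have hzV : z ∈ V := hzx.mem_open V.2 hxV
    have hg : H29Ref.IsStalkGen F z (F.presheaf.germ V z hzV (b 0)) :=
      H29Ref.IsStalkGen.mk' hη (hspan ⟨z, hzV⟩) (by
        rw [H29Ref.sp_germ]; intro h0; exact hv (by rw [← hφ, h0, smul_zero]))
    exact H29Ref.secO_eq hz1 hg hv (φ := φ) (by rw [H29Ref.sp_germ]; exact hφ.symm)

/-- The implication from (b) to (a), for an integral scheme (a normal locally Noetherian scheme is the
disjoint union of its integral components): let X be a normal locally Noetherian integral scheme and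
S a subset of X. A codimension-1 cycle Z (an integer-valued function on points, zero off the points
of codimension 1, i.e. of coheight 1, with locally finite support) is principal at a point x when
there is a nonzero rational function whose order at every codimension-1 point generizing x is the
value of Z there (the trace of Z on Spec O_{X,x} is a principal divisor). Suppose (b): for every
point x of X which is not a generization of a point of S (the closure of x does not meet S) and
whose local ring has dimension at least 2, the local ring O_{X,x} is parafactorial. Then (a): every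
codimension-1 cycle which is principal at all points of S is principal at every point of X (it is
locally principal). (The published statement asserts that (a) and (b) are equivalent. The
implication from (a) to (b) fails: on the quotient of the real 2-sphere x² + y² + z² = 1 by (x, y,
z) ↦ (−x, −y, z), a normal Noetherian integral surface with exactly two singular points and divisor
class group of order 2, take S to be one singular point; every cycle principal there is principal
everywhere, while the local ring at the other singular point has dimension 2 and is not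
parafactorial. This row states the implication from (b) to (a), which the published argument does
prove.) -/
theorem result (X : Scheme.{u}) [IsIntegral X]
    [IsLocallyNoetherian X] (hX : Pi1.IsNormalScheme X) (S : Set ↥X)
    (hpar : ∀ x : ↥X, closure {x} ∩ S = ∅ → (2 : WithBot ℕ∞) ≤ ringKrullDim ↑(X.presheaf.stalk x) →
        ParaF.IsParafactorialLocalRing ↑(X.presheaf.stalk x))
    (Z : ↥X → ℤ) (hZ : ∀ x : ↥X, Order.coheight x ≠ 1 → Z x = 0)
    (hZfin : ∀ x : ↥X, ∃ W : X.Opens, x ∈ W ∧ {z : ↥X | z ∈ W ∧ Z z ≠ 0}.Finite)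
    (hS : ∀ s : ↥X, s ∈ S →
        ∃ f : ↑X.functionField, f ≠ 0 ∧ ∀ x' : ↥X, Order.coheight x' = 1 → x' ⤳ s → Z x' = Scheme.ord f x')
    (x : ↥X) :
    ∃ f : ↑X.functionField, f ≠ 0 ∧ ∀ x' : ↥X, Order.coheight x' = 1 → x' ⤳ x → Z x' = Scheme.ord f x' := by
  classical
  obtain ⟨F, hF, v, hv, hvD⟩ := H29Ref.exists_isRef1_hasOrd hX Z
    (fun x hx => not_not.mp fun h => hx (hZ x h)) fun W hW => by
      choose t ht htfin using hZfin
      obtain ⟨T, hT⟩ := hW.isCompact.elim_nhds_subcover (fun y => (t y : Set X))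
        fun y _ => (t y).2.mem_nhds (ht y)
      refine (T.finite_toSet.biUnion fun y _ => htfin y).subset ?_
      rintro w ⟨hwW, hw⟩
      obtain ⟨y, hy, hwy⟩ := Set.mem_iUnion₂.mp (hT.2 hwW)
      exact Set.mem_iUnion₂.mpr ⟨y, hy, hwy, hw⟩
  suffices hfree : Module.Free (X.presheaf.stalk x) (F.presheaf.stalk x) by
    obtain ⟨f, hf, h⟩ := (exists_fun_iff_free X hX hF hv x).2 hfree
    exact ⟨f, hf, fun z hz hzx => (hvD z hz).symm.trans (h z hz hzx)⟩
  have hfin : ∀ y : X, Order.coheight y ≠ ⊤ := fun y h => by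
    have hlt := ringKrullDim_lt_top (R := X.presheaf.stalk y)
    rw [ringKrullDim_stalk_eq_coheight, h] at hlt
    exact lt_irrefl _ hlt
  suffices h : ∀ (N : ℕ) (y : X), (Order.coheight y).toNat = N →
      Module.Free (X.presheaf.stalk y) (F.presheaf.stalk y) from h _ x rfl
  intro N
  induction N using Nat.strong_induction_on with
  | _ N ih =>
  intro y hy
  by_cases hys : (closure {y} ∩ S : Set X).Nonempty
  · obtain ⟨s, hsy, hsS⟩ := hys
    obtain ⟨f, hf, h⟩ := hS s hsS
    exact (exists_fun_iff_free X hX hF hv y).1 ⟨f, hf, fun z hz hzy =>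
      (hvD z hz).trans (h z hz (hzy.trans (specializes_iff_mem_closure.2 hsy)))⟩
  haveI := H29Ref.finite_stalk F hF.1.2 y
  by_cases hd : (2 : WithBot ℕ∞) ≤ ringKrullDim (X.presheaf.stalk y)
  · refine H25Div.free_of_parafactorial hX y hF hd (hpar y (Set.not_nonempty_iff_eq_empty.1 hys) hd) fun z hzy hne => ?_
    refine ih _ ?_ z rfl
    rw [← hy]
    have hlt : Order.coheight z < Order.coheight y := by
      refine Order.coheight_strictAnti (lt_of_le_not_ge (show y ≤ z from hzy) fun h => hne ?_) (hfin z).lt_top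
      exact (hzy.antisymm (show y ⤳ z from h)).eq
    exact ENat.natCast_lt_natCast.1 (by rwa [ENat.natCast_toNat_eq_self.2 (hfin z), ENat.natCast_toNat_eq_self.2 (hfin y)]) 
  · haveI := H29Ref.isTorsionFree_of_isReflexive F hF.1 hF.2.1 y
    refine H29Ref.free_of_dim_le_one hX y ?_ _
    rw [ringKrullDim_stalk_eq_coheight] at hd ⊢
    obtain ⟨m, hm⟩ := ENat.ne_top_iff_exists.1 (hfin y)
    rw [← hm] at hd ⊢
    have h2 : ¬ ((2 : ℕ∞) ≤ (m : ℕ∞)) := fun h => hd (WithBot.coe_le_coe.2 h)
    have h3 : m ≤ 1 := by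
      by_contra hc
      exact h2 (show ((2 : ℕ) : ℕ∞) ≤ (m : ℕ∞) from Nat.cast_le.2 (by omega))
    exact WithBot.coe_le_coe.2 (show (m : ℕ∞) ≤ ((1 : ℕ) : ℕ∞) from Nat.cast_le.2 h3)

end Groth.Agent.S5112
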