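import Groth.Statements.S3841
import Groth.Agent.S5112
import Groth.Agent.H29Ref.DenseExt
import Groth.Agent.H29Ref.DivIdeal

set_option autoImplicit false
universe u
open CategoryTheory CategoryTheory.Limits AlgebraicGeometry TopologicalSpace
open Div21

namespace Groth.Agent.S3841

open CategoryTheory CategoryTheory.Limits AlgebraicGeometry TopologicalSpace
open Groth.Agent

variable {X : Scheme.{u}} [IsIntegral X] [IsLocallyNoetherian X]

theorem secO_fun {x : X} (hx : Order.coheight x = 1) {f : X.functionField} (hf : f ≠ 0) :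
    H29Ref.secO (Coh.structureModule X) x
      ((f : X.presheaf.stalk (genericPoint X)) • H29Ref.oneStalk (genericPoint X)) = Scheme.ord f x := by
  have hg : H29Ref.IsStalkGen (Coh.structureModule X) x (H29Ref.oneStalk x) := by
    refine H29Ref.IsStalkGen.mk' ⟨(Module.Basis.singleton (Fin 1) _).map (H29Ref.unitEquiv _)⟩
      (eq_top_iff.mpr fun v _ => ?_) (by rw [H29Ref.sp_oneStalk]; exact H29Ref.oneStalk_ne_zero _)
    obtain ⟨r, rfl⟩ := (H29Ref.bijective_smul_oneStalk x).2 v
    exact Submodule.smul_mem _ _ (Submodule.mem_span_singleton_self _)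
  refine H29Ref.secO_eq hx hg (fun h => hf ?_) (φ := f) (by rw [H29Ref.sp_oneStalk])
  exact (H29Ref.bijective_smul_oneStalk (genericPoint X)).1
    (h.trans (zero_smul (X.presheaf.stalk (genericPoint X)) (H29Ref.oneStalk (genericPoint X))).symm)

theorem trivial_of_fun (hX : Pi1.IsNormalScheme X) {F : X.Modules} (hF : RefHull.IsRef1 F)
    {v : F.presheaf.stalk (genericPoint X)} (hv : v ≠ 0) {f : X.functionField} (hf : f ≠ 0)
    (h : ∀ x, Order.coheight x = 1 → H29Ref.secO F x v = Scheme.ord f x) :
    Nonempty (F ≅ Coh.structureModule X) :=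
  H29Ref.nonempty_iso_of_secO_eq hX hF H29Ref.isRef1_structureModule hv
    (w := (f : X.presheaf.stalk (genericPoint X)) • H29Ref.oneStalk (genericPoint X))
    (fun h0 => hf ((H29Ref.bijective_smul_oneStalk (genericPoint X)).1
      (h0.trans (zero_smul (X.presheaf.stalk (genericPoint X)) (H29Ref.oneStalk (genericPoint X))).symm)))
    fun x hx => (h x hx).trans (secO_fun hx hf).symm

theorem fun_of_trivial (hX : Pi1.IsNormalScheme X) {F : X.Modules} (hF : RefHull.IsRef1 F) {D : X → ℤ}
    (hD : H29Ref.HasOrd F D) (e : F ≅ Coh.structureModule X) :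
    ∃ f : X.functionField, f ≠ 0 ∧ ∀ x, Order.coheight x = 1 → Scheme.ord f x = D x := by
  obtain ⟨w, hw, hD⟩ := hD.iso hX hF e
  obtain ⟨r, hr⟩ := (H29Ref.bijective_smul_oneStalk (genericPoint X)).2 w
  have hr0 : (r : X.functionField) ≠ 0 := fun h => hw (by rw [← hr]; simp only [show r = 0 from h, zero_smul])
  exact ⟨r, hr0, fun x hx => (secO_fun hx hr0).symm.trans ((congrArg _ hr).trans (hD x hx))⟩

theorem ufd_of_principal (x : X)
    (h : ∀ (z : X) (hzx : z ⤳ x), Order.coheight z = 1 → (H26CDiv.qOf hzx).IsPrincipal) :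
    UniqueFactorizationMonoid (X.presheaf.stalk x) := by
  rw [UniqueFactorizationMonoid.iff_exists_prime_mem_of_isPrime]
  intro P hP0 hP
  obtain ⟨a₀, ha₀P, ha₀⟩ := Submodule.exists_mem_ne_zero_of_ne_bot hP0
  obtain ⟨q, hqmin, hqP⟩ := Ideal.exists_minimalPrimes_le
    (show Ideal.span {a₀} ≤ P from (Ideal.span_singleton_le_iff_mem P).2 ha₀P)
  haveI hq : q.IsPrime := hqmin.1.1
  have hq0 : q ≠ ⊥ := fun h0 => ha₀ (by
    have := hqmin.1.2 (Ideal.mem_span_singleton_self a₀)
    rwa [h0, Ideal.mem_bot] at this)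
  have hqh : q.height = 1 := by
    refine le_antisymm (Ideal.height_le_one_of_isPrincipal_of_mem_minimalPrimes (Ideal.span {a₀}) q hqmin)
      (Order.one_le_iff_pos.2 (pos_iff_ne_zero.2 fun h0 => hq0 ?_))
    rwa [Ideal.height_eq_zero_iff, IsDomain.minimalPrimes_eq_singleton_bot, Set.mem_singleton_iff] at h0
  obtain ⟨z, hzx, hzq⟩ := H26CDiv.exists_qOf_eq q
  have hz : Order.coheight z = 1 := by
    have h := H26CDiv.height_qOf hzx
    rw [hzq, hqh] at h
    exact (WithBot.coe_injective h).symm
  obtain ⟨a, ha⟩ := (hzq ▸ h z hzx hz : q.IsPrincipal)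
  have ha0 : a ≠ 0 := fun h => hq0 (by rw [ha, h]; exact Submodule.span_zero_singleton _)
  refine ⟨a, hqP (ha ▸ Submodule.mem_span_singleton_self a), (Ideal.span_singleton_prime ha0).1 ?_⟩
  exact (show q = Ideal.span {a} from ha) ▸ hq

theorem isNormal_of_ufd (h : ∀ x : X, UniqueFactorizationMonoid (X.presheaf.stalk x)) :
    Pi1.IsNormalScheme X := fun x => by
  haveI := h x
  letI : GCDMonoid (X.presheaf.stalk x) := UniqueFactorizationMonoid.toGCDMonoid _
  exact ⟨inferInstance, inferInstance⟩

theorem invertible_isRef1 {L : X.Modules} (hL : PicF.IsInvertible L) : RefHull.IsRef1 L := by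
  have hLc := H11Ample.isCoh_of_isInvertible hL
  have hfree : ∀ x : X, H8Props.FunDescent.StalkFree L 1 x := fun x => by
    obtain ⟨U, hU, ⟨e⟩⟩ := hL x
    exact H8Props.FunDescent.stalkFree_of_isFreeOfRankNear L hLc.1 (p := 1)
      ⟨U, hU, ⟨e ≪≫ (coproductUniqueIso fun _ : Fin 1 => Coh.structureModule (U : Scheme.{u})).symm⟩⟩
  refine ⟨hLc, (H29Ref.isReflexive_iff _ hLc).mpr fun x => ?_, H29Ref.genInvertible_of_stalkFree _ hLc (hfree _)⟩
  obtain ⟨b⟩ := hfree x
  haveI := Module.Free.of_basis b
  haveI := Module.Finite.of_basis b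
  exact (inferInstance : Module.IsReflexive (X.presheaf.stalk x) (L.presheaf.stalk x))

/-- A finitely supported cycle is principal when the prime cycles are. -/
theorem fun_of_prime_cycles (h : ∀ x₀ : X, Order.coheight x₀ = 1 → ∃ f : X.functionField, f ≠ 0 ∧
      Scheme.ord f x₀ = 1 ∧ ∀ x : X, x ≠ x₀ → Order.coheight x = 1 → Scheme.ord f x = 0)
    (S : Finset X) : ∀ Z : X → ℤ, (∀ x, Order.coheight x = 1 → Z x ≠ 0 → x ∈ S) →
      ∃ f : X.functionField, f ≠ 0 ∧ ∀ x, Order.coheight x = 1 → Scheme.ord f x = Z x := by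
  classical
  have hone : ∀ x : X, Scheme.ord (1 : X.functionField) x = 0 := fun x => by
    have h6 := H29Ref.ord_unit (X := X) (x := x) isUnit_one
    rw [map_one] at h6
    exact h6
  induction S using Finset.induction with
  | empty =>
    exact fun Z hZ => ⟨1, one_ne_zero, fun x hx => (hone x).trans (by
      by_contra hne; exact absurd (hZ x hx (Ne.symm hne)) (Finset.notMem_empty x))⟩
  | insert x₀ S hx₀ ih =>
    intro Z hZ
    obtain ⟨g, hg0, hg⟩ := ih (fun x => if x = x₀ then 0 else Z x) fun x hx hne => by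
      split at hne
      · exact absurd rfl hne
      · next hxx => exact (Finset.mem_insert.1 (hZ x hx hne)).resolve_left hxx
    by_cases hc : Order.coheight x₀ = 1
    · obtain ⟨f, hf0, hf1, hf⟩ := h x₀ hc
      have key : ∀ n : ℤ, ∃ F : X.functionField, F ≠ 0 ∧ Scheme.ord F x₀ = n ∧
          ∀ x, x ≠ x₀ → Order.coheight x = 1 → Scheme.ord F x = 0 := by
        intro n
        induction n with
        | zero => exact ⟨1, one_ne_zero, hone x₀, fun x _ _ => hone x⟩
        | succ n ih =>
          obtain ⟨F, hF0, hF1, hF⟩ := ih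
          refine ⟨F * f, mul_ne_zero hF0 hf0, by rw [Scheme.ord_mul hF0 hf0, hF1, hf1], fun x hne hx => ?_⟩
          rw [Scheme.ord_mul hF0 hf0, hF x hne hx, hf x hne hx, add_zero]
        | pred n ih =>
          obtain ⟨F, hF0, hF1, hF⟩ := ih
          have e : ∀ x, Scheme.ord (F / f) x + Scheme.ord f x = Scheme.ord F x := fun x => by
            rw [← Scheme.ord_mul (div_ne_zero hF0 hf0) hf0, div_mul_cancel₀ _ hf0]
          refine ⟨F / f, div_ne_zero hF0 hf0, ?_, fun x hne hx => ?_⟩
          · have := e x₀; omega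
          · have := e x; have := hF x hne hx; have := hf x hne hx; omega
      obtain ⟨F, hF0, hF1, hF⟩ := key (Z x₀)
      refine ⟨g * F, mul_ne_zero hg0 hF0, fun x hx => ?_⟩
      rw [Scheme.ord_mul hg0 hF0, hg x hx]
      by_cases hxx : x = x₀
      · subst hxx; rw [if_pos rfl, hF1, zero_add]
      · rw [if_neg hxx, hF x hxx hx, add_zero]
    · exact ⟨g, hg0, fun x hx => (hg x hx).trans (if_neg fun e => hc (by rw [← e]; exact hx))⟩

theorem iso_of_restrict (hX : Pi1.IsNormalScheme X) {F : X.Modules} (hF : RefHull.IsRef1 F) (U : X.Opens)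
    (hU : ∀ x : X, x ∉ U → (2 : WithBot ℕ∞) ≤ ringKrullDim (X.presheaf.stalk x))
    (e : F.restrict U.ι ≅ Coh.structureModule (U : Scheme.{u})) : Nonempty (F ≅ Coh.structureModule X) := by
  have hd : ∀ x : X, x ∉ U → (2 : ℕ∞) ≤ LocCoh.depth (X.presheaf.stalk x) (X.presheaf.stalk x) := fun x hx => by
    haveI := (hX x).1
    haveI := (hX x).2
    exact H1CAlg.depth_ge_two_of_isIntegrallyClosed (hU x hx)
  haveI := H29Ref.isIso_unit_of_depth_two U hd F hF.1 hF.2.1
  haveI := H29Ref.isIso_unit_of_depth_two U hd (Coh.structureModule X) H29Ref.isRef1_structureModule.1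
    H29Ref.isRef1_structureModule.2.1
  exact ⟨asIso ((Scheme.Modules.restrictAdjunction U.ι).unit.app F) ≪≫
    (Scheme.Modules.pushforward U.ι).mapIso (e ≪≫ (Scheme.Modules.restrictUnitIso U.ι).symm) ≪≫
    (asIso ((Scheme.Modules.restrictAdjunction U.ι).unit.app (Coh.structureModule X))).symm⟩

/-- Let X be a Noetherian (locally Noetherian and quasi-compact) integral scheme; points of codimension
1 are the points of coheight 1 in the specialization order. The following are equivalent. (1) For
every point ζ of codimension 1 there is a global section g of O_X cutting out the closure of ζ with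
its reduced structure: at each specialization x of ζ the ideal of that closure in O_{X,x} (the prime
ideal of O_{X,x} corresponding to ζ, the preimage of the maximal ideal of O_{X,ζ}) is generated by
the germ of g, and g is invertible at the points outside the closure. (2) X is normal and every
prime cycle of codimension 1 is principal: for every point x₀ of codimension 1 there is a nonzero
rational function with order of vanishing 1 at x₀ and 0 at every other point of codimension 1. (3)
Every local ring of X is a unique factorisation domain and every invertible O_X-module is trivial.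
(4) X is normal and for every open subset U of X every invertible O_U-module is trivial. (The
published statement assumes X only locally Noetherian; quasi-compactness, which its published proof
uses, is added here.) -/
theorem result (X : Scheme.{u}) [IsIntegral X]
    [IsLocallyNoetherian X] [CompactSpace X] :
    List.TFAE [
      ∀ ζ : ↥X, Order.coheight ζ = 1 → ∃ g : Γ(X, ⊤),
        (∀ (x : ↥X) (h : ζ ⤳ x),
          (IsLocalRing.maximalIdeal ↑(X.presheaf.stalk ζ)).comap (X.presheaf.stalkSpecializes h).hom =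
            Ideal.span {X.presheaf.germ ⊤ x trivial g}) ∧
        ∀ x : ↥X, ¬ ζ ⤳ x → IsUnit (X.presheaf.germ ⊤ x trivial g),
      Pi1.IsNormalScheme X ∧ ∀ x₀ : ↥X, Order.coheight x₀ = 1 → ∃ f : ↑X.functionField, f ≠ 0 ∧
        Scheme.ord f x₀ = 1 ∧ ∀ x : ↥X, x ≠ x₀ → Order.coheight x = 1 → Scheme.ord f x = 0,
      (∀ x : ↥X, UniqueFactorizationMonoid ↑(X.presheaf.stalk x)) ∧
        ∀ L : X.Modules, PicF.IsInvertible L → Nonempty (L ≅ Coh.structureModule X),
      Pi1.IsNormalScheme X ∧ ∀ (U : X.Opens) (L : (U : Scheme.{u}).Modules),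
        PicF.IsInvertible L → Nonempty (L ≅ Coh.structureModule (U : Scheme.{u}))] := by
  classical
  tfae_have 1 → 3 := by
    intro h1
    have hufd : ∀ x : X, UniqueFactorizationMonoid (X.presheaf.stalk x) := fun x =>
      ufd_of_principal x fun z hzx hz => by
        obtain ⟨g, hg, -⟩ := h1 z hz
        exact ⟨⟨_, hg x hzx⟩⟩
    have hX := isNormal_of_ufd hufd
    have hIC : ∀ x : X, IsIntegrallyClosed (X.presheaf.stalk x) := fun x => (hX x).2
    refine ⟨hufd, fun L hL => ?_⟩
    have h2 : ∀ x₀ : X, Order.coheight x₀ = 1 → ∃ f : X.functionField, f ≠ 0 ∧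
        Scheme.ord f x₀ = 1 ∧ ∀ x : X, x ≠ x₀ → Order.coheight x = 1 → Scheme.ord f x = 0 := by
      intro z hz
      obtain ⟨g, hg, hunit⟩ := h1 z hz
      haveI := H26CDiv.isDVR hIC hz
      have hmax : IsLocalRing.maximalIdeal (X.presheaf.stalk z) =
          Ideal.span {X.presheaf.germ ⊤ z trivial g} := by
        rw [← hg z specializes_rfl, TopCat.Presheaf.stalkSpecializes_refl]
        exact (Ideal.comap_id _).symm
      have hirr : Irreducible (X.presheaf.germ ⊤ z trivial g) :=
        (IsDiscreteValuationRing.irreducible_iff_uniformizer _).2 hmax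
      let gK : X.functionField := X.presheaf.germ ⊤ (genericPoint X) trivial g
      have hgK : ∀ x : X, H29Ref.spO x (X.presheaf.germ ⊤ x trivial g) = gK := fun x => H29Ref.spO_germ (U := ⊤) x trivial g
      have hgK0 : gK ≠ 0 := by
        rw [← hgK z]; exact (map_ne_zero_iff _ (H29Ref.spO_injective z)).2 hirr.ne_zero
      refine ⟨gK, hgK0, ?_, fun x hne hx => ?_⟩
      · haveI : Ring.KrullDimLE 1 (X.presheaf.stalk z) := krullDimLE_of_coheight_le hz.le
        rw [Scheme.ord_eq_iff hz hgK0, ← hgK z]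
        exact Ring.ordFrac_irreducible hirr
      · have hns : ¬ z ⤳ x := fun hs => hne (by
          by_contra hne'
          have hlt : x < z := lt_of_le_not_ge hs fun h => hne' (hs.antisymm h).eq.symm
          have h3 := Order.coheight_add_one_le hlt
          rw [hz, hx] at h3
          norm_num at h3)
        rw [← hgK x]
        exact H29Ref.ord_unit (hunit x hns)
    have hLr := invertible_isRef1 hL
    obtain ⟨D, v, hv, hvD⟩ := H29Ref.exists_hasOrd hLr
    obtain ⟨T, hT⟩ : ∃ T : Finset X, ∀ x, Order.coheight x = 1 → H29Ref.secO L x v ≠ 0 → x ∈ T := by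
      have hη := H29Ref.stalkFree_generic L hLr.1 hLr.2.2
      choose W hW hxW _ using fun y : X => exists_isAffineOpen_mem_and_subset (X := X) (x := y) (U := ⊤) trivial
      obtain ⟨T, hT⟩ := isCompact_univ.elim_nhds_subcover (fun y => (W y : Set X))
        fun y _ => (W y).2.mem_nhds (hxW y)
      refine ⟨(T.finite_toSet.biUnion fun y _ => H29Ref.finite_secO_ne_zero L hLr.1 hη v hv (hW y)).toFinset,
        fun x hx hne => ?_⟩
      rw [Set.Finite.mem_toFinset]
      obtain ⟨y, hy, hxy⟩ := Set.mem_iUnion₂.mp (hT.2 (Set.mem_univ x))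
      exact Set.mem_iUnion₂.mpr ⟨y, hy, hxy, hx, hne⟩
    obtain ⟨f, hf, hfZ⟩ := fun_of_prime_cycles h2 T (fun x => H29Ref.secO L x v) hT
    exact trivial_of_fun hX hLr hv hf fun x hx => (hfZ x hx).symm
  tfae_have 3 → 4 := by
    rintro ⟨hufd, hpic⟩
    refine ⟨isNormal_of_ufd hufd, fun U L hL => ?_⟩
    obtain ⟨L', hL', ⟨e⟩⟩ := H29Ref.exists_invertible_extension U L hL fun x _ => hufd x
    obtain ⟨e'⟩ := hpic L' hL'
    exact ⟨e.symm ≪≫ (Scheme.Modules.restrictFunctor U.ι).mapIso e' ≪≫ Scheme.Modules.restrictUnitIso U.ι⟩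
  tfae_have 4 → 2 := by
    rintro ⟨hX, hpic⟩
    refine ⟨hX, fun x₀ hx₀ => ?_⟩
    obtain ⟨F, hF, hFord⟩ := H29Ref.exists_isRef1_hasOrd hX (fun y => if y = x₀ then 1 else 0)
      (fun y hy => by split at hy <;> [subst_vars; exact absurd rfl hy]; exact hx₀)
      (fun W _ => (Set.finite_singleton x₀).subset fun w hw => by
        by_contra h; exact hw.2 (if_neg h))
    let U : X.Opens := ⟨{y | FlatFun.IsFreeOfRankNear F 1 y}, isOpen_iff_forall_mem_open.2 fun y hy => by
      obtain ⟨W, hyW, hW⟩ := hy
      exact ⟨W, fun w hw => ⟨W, hw, hW⟩, W.2, hyW⟩⟩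
    have hη := H29Ref.stalkFree_generic F hF.1 hF.2.2
    have hU : ∀ x : X, x ∉ U → (2 : WithBot ℕ∞) ≤ ringKrullDim (X.presheaf.stalk x) := fun x hx => by
      by_contra hd
      refine hx ?_
      haveI := H29Ref.finite_stalk F hF.1.2 x
      haveI := H29Ref.isTorsionFree_of_isReflexive F hF.1 hF.2.1 x
      haveI := H29Ref.free_of_dim_le_one hX x (by
        rw [ringKrullDim_stalk_eq_coheight] at hd ⊢
        rcases eq_or_ne (Order.coheight x) ⊤ with h | h
        · rw [h] at hd; exact absurd (WithBot.coe_le_coe.2 (le_top : (2 : ℕ∞) ≤ ⊤)) hd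
        · obtain ⟨m, hm⟩ := ENat.ne_top_iff_exists.1 h
          rw [← hm] at hd ⊢
          have h3 : m ≤ 1 := by
            by_contra hc
            exact hd (WithBot.coe_le_coe.2 (show ((2 : ℕ) : ℕ∞) ≤ (m : ℕ∞) from Nat.cast_le.2 (by omega)))
          exact WithBot.coe_le_coe.2 (show (m : ℕ∞) ≤ ((1 : ℕ) : ℕ∞) from Nat.cast_le.2 h3)) (F.presheaf.stalk x)
      exact H8Props.FunDescent.isFreeOfRankNear_of_stalkFree_of_isFP F (H10Coh.isFP_of_isCoh F hF.1)
        (H29Ref.stalkFree_one_of_free F hF.1 hη x)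
    have hinv : PicF.IsInvertible (F.restrict U.ι) := by
      intro y
      obtain ⟨V, hyV, ⟨e⟩⟩ := H29Ref.exists_iso_of_isFreeOfRankNear_one F y.1 y.2
      refine ⟨U.ι ⁻¹ᵁ V, hyV, ⟨?_⟩⟩
      let g : ((U.ι ⁻¹ᵁ V : (U : Scheme.{u}).Opens) : Scheme.{u}) ⟶ (V : Scheme.{u}) :=
        IsOpenImmersion.lift V.ι ((U.ι ⁻¹ᵁ V).ι ≫ U.ι) (by
          rw [Scheme.Opens.range_ι]; rintro _ ⟨w, rfl⟩; exact w.2)
      have hg : g ≫ V.ι = (U.ι ⁻¹ᵁ V).ι ≫ U.ι := IsOpenImmersion.lift_fac _ _ _
      haveI : IsOpenImmersion g := by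
        have : IsOpenImmersion (g ≫ V.ι) := by rw [hg]; infer_instance
        exact IsOpenImmersion.of_comp g V.ι
      exact ((Scheme.Modules.restrictFunctorComp (U.ι ⁻¹ᵁ V).ι U.ι).app F).symm ≪≫
        (Scheme.Modules.restrictFunctorCongr hg.symm).app F ≪≫
        (Scheme.Modules.restrictFunctorComp g V.ι).app F ≪≫
        (Scheme.Modules.restrictFunctor g).mapIso e ≪≫ Scheme.Modules.restrictUnitIso g
    obtain ⟨e⟩ := hpic U _ hinv
    obtain ⟨E⟩ := iso_of_restrict hX hF U hU e
    obtain ⟨f, hf, hfD⟩ := fun_of_trivial hX hF hFord E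
    exact ⟨f, hf, (hfD x₀ hx₀).trans (if_pos rfl), fun x hne hx => (hfD x hx).trans (if_neg hne)⟩
  tfae_have 2 → 1 := by
    rintro ⟨hX, h2⟩ z hz
    have hIC : ∀ x : X, IsIntegrallyClosed (X.presheaf.stalk x) := fun x => (hX x).2
    obtain ⟨f, hf, hf1, hf0⟩ := h2 z hz
    have hnn : ∀ y : X, Order.coheight y = 1 → 0 ≤ Scheme.ord f y := fun y hy => by
      by_cases hyz : y = z
      · subst hyz; omega
      · exact (hf0 y hyz hy).ge
    let σ := (f : X.presheaf.stalk (genericPoint X)) • H29Ref.oneStalk (genericPoint X)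
    obtain ⟨s, hs⟩ := H29Ref.exists_section hX (Coh.structureModule X) H29Ref.isRef1_structureModule.1
      H29Ref.isRef1_structureModule.2.1 ⊤ trivial σ fun x _ hdim => by
      have hx : Order.coheight x = 1 := by
        rw [ringKrullDim_stalk_eq_coheight] at hdim
        exact WithBot.coe_injective hdim
      obtain ⟨a, ha⟩ := (H26CDiv.ord_nonneg_iff_reg hIC hx hf).1 (hnn x hx)
      refine ⟨a • H29Ref.oneStalk x, ?_⟩
      rw [H29Ref.sp_smul, H29Ref.sp_oneStalk]
      exact congrArg (· • H29Ref.oneStalk (genericPoint X)) ha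
    let g : Γ(X, ⊤) := s
    have hgη : X.presheaf.germ ⊤ (genericPoint X) trivial g = (f : X.presheaf.stalk (genericPoint X)) :=
      (H29Ref.bijective_smul_oneStalk (genericPoint X)).1
        ((H29Ref.germ_unit_eq_smul (genericPoint X) (U := ⊤) trivial g).symm.trans hs)
    have hgx : ∀ x : X, algebraMap (X.presheaf.stalk x) X.functionField (X.presheaf.germ ⊤ x trivial g) = f :=
      fun x => (H29Ref.spO_germ (U := ⊤) x trivial g).trans hgη
    refine ⟨g, fun x hzx => ?_, fun x hns => ?_⟩
    · show H26CDiv.qOf hzx = _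
      refine le_antisymm (fun c hc => ?_) ((Ideal.span_singleton_le_iff_mem _).2 ?_)
      · rw [Ideal.mem_span_singleton]
        by_cases hc0 : c = 0
        · exact hc0 ▸ dvd_zero _
        let cK := algebraMap (X.presheaf.stalk x) X.functionField c
        have hcK : cK ≠ 0 := fun h0 => hc0 (IsFractionRing.injective (X.presheaf.stalk x) X.functionField
          (h0.trans (map_zero _).symm))
        obtain ⟨r, hr⟩ := H26CDiv.reg_of_ord hIC (div_ne_zero hcK hf) (x := x) fun y hy hy1 => by
          have h0 := (H26CDiv.ord_nonneg_iff_reg hIC hy1 hcK).2 (H26CDiv.Reg.of_specializes hy ⟨c, rfl⟩)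
          have hm := Scheme.ord_mul (x := y) (div_ne_zero hcK hf) hf
          rw [div_mul_cancel₀ _ hf] at hm
          by_cases hyz : y = z
          · subst hyz
            have hnu : Scheme.ord cK y ≠ 0 := fun h00 =>
              (H26CDiv.mem_qOf_iff hy c).1 hc ((H26CDiv.ord_spec_eq_zero_iff hIC hy1 fun hs0 => hcK (by
                show algebraMap _ _ c = 0
                rw [← H26CDiv.algebraMap_spec hy, hs0, map_zero])).1
                (by rw [H26CDiv.algebraMap_spec]; exact h00))
            omega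
          · have := hf0 y hyz hy1; omega
        refine ⟨r, IsFractionRing.injective (X.presheaf.stalk x) X.functionField ?_⟩
        rw [map_mul, hr, hgx, mul_comm]
        exact (div_mul_cancel₀ _ hf).symm
      · rw [H26CDiv.mem_qOf_iff]
        intro hu
        have h1 := (H26CDiv.ord_spec_eq_zero_iff hIC hz hu.ne_zero).2 hu
        rw [H26CDiv.algebraMap_spec, hgx, hf1] at h1
        exact one_ne_zero h1
    · obtain ⟨b, hb⟩ := H26CDiv.reg_of_ord hIC (inv_ne_zero hf) (x := x) fun y hy hy1 => by
        have hne : y ≠ z := fun e => hns (e ▸ hy)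
        have hm := Scheme.ord_mul (x := y) (inv_ne_zero hf) hf
        rw [inv_mul_cancel₀ hf] at hm
        have h1 : Scheme.ord (1 : X.functionField) y = 0 := by
          have h6 := H29Ref.ord_unit (X := X) (x := y) isUnit_one
          rw [map_one] at h6; exact h6
        have := hf0 y hne hy1
        omega
      refine IsUnit.of_mul_eq_one b (IsFractionRing.injective (X.presheaf.stalk x) X.functionField ?_)
      rw [map_mul, hgx, hb, map_one, mul_inv_cancel₀ hf]
  tfae_finish

end Groth.Agent.S3841
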