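import Groth.Statements.S4715
import Groth.Agent.H05EGA4.Topo

set_option autoImplicit false
set_option backward.isDefEq.respectTransparency.types false
universe u
open EGA4

open Groth.Agent.H05EGA4 Topology TopologicalSpace

namespace Groth.Agent.S4715

open AlgebraicGeometry CategoryTheory in
/-- Let f : X → Y be a quasi-finite morphism (of finite type with discrete fibres) of locally Noetherian
schemes. Then dim X is at most the dimension of the closure of f(X), which is at most dim Y. -/
theorem result {X Y : Scheme.{u}} (f : X ⟶ Y) [IsLocallyNoetherian X] [IsLocallyNoetherian Y]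
    [LocallyQuasiFinite f] [LocallyOfFiniteType f] [QuasiCompact f] :
    topologicalKrullDim X ≤ topologicalKrullDim (closure (Set.range f.base)) ∧
      topologicalKrullDim (closure (Set.range f.base)) ≤ topologicalKrullDim Y := by
  refine ⟨?_, topologicalKrullDim_subspace_le _ _⟩
  have : QuasiSober (closure (Set.range f.base)) := isClosed_closure.isClosedEmbedding_subtypeVal.quasiSober
  refine dim_le_of_fibre_discrete (f := fun x => (⟨f.base x, subset_closure ⟨x, rfl⟩⟩ : closure (Set.range f.base)))
    (by fun_prop) fun a b hab e => ?_
  exact eq_of_specializes_of_fibre f hab (congrArg Subtype.val e)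


end Groth.Agent.S4715
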