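import Groth.Statements.S0094
import Groth.Agent.H9Et.GeomConnOfAlgClosed
import Groth.Agent.H18PBC.GeomConn
import Groth.Agent.H18PBC.FieldExt
-- import your own Groth.Agent.* helpers here

set_option autoImplicit false
open CategoryTheory CategoryTheory.Limits AlgebraicGeometry Opposite
universe u
open EtBase

namespace Groth.Agent.S0094

/-- For a flat quasi-compact morphism with connected geometric fibres, global sections of an abelian
étale sheaf on the base agree with global sections of its pullback: the unit of the
pullback–pushforward adjunction is bijective on global sections (the source proves this for sheaves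
of sets; the abelian case is stated). -/
theorem result {T S : Scheme.{u}} (f : T ⟶ S) [Flat f] [QuasiCompact f] [EtCoh.BCCont f]
    (hc : ∀ (Ω : Type u) [Field Ω] [IsAlgClosed Ω] (s : Spec (CommRingCat.of Ω) ⟶ S),
      ConnectedSpace ↥(pullback f s))
    (F : EtCoh.Ab S) :
    Function.Bijective (((EtCoh.pullPushAdj f).unit.app F).hom.app (op (EtCoh.top S))) := by
  haveI := Groth.Agent.H9Et.geometricallyConnected_of_algClosed f hc
  exact Groth.Agent.H18PBC.bijective_unit_geomConn f (Groth.Agent.H18PBC.isUnivSubmersive_of_flat f) F

end Groth.Agent.S0094
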