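import Groth.Statements.S9467
import Groth.Agent.H9Hens.StrictTensor
-- import your own Groth.Agent.* helpers here

set_option autoImplicit false
universe u
open Hensel

namespace Groth.Agent.S9467

open TensorProduct in
/-- An element of a tensor product involves finitely many elements. -/
theorem exists_finset (A B M : Type u) [CommRing A] [CommRing B] [Algebra A B] [CommRing M] [Algebra A M]
    (d : M ⊗[A] B) : ∃ s : Finset B, ∀ B₀ : Subalgebra A B, (s : Set B) ⊆ B₀ →
      ∃ d₀ : M ⊗[A] B₀, Algebra.TensorProduct.map (AlgHom.id M M) B₀.val d₀ = d := by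
  classical
  induction d using TensorProduct.induction_on with
  | zero => exact ⟨∅, fun B₀ _ => ⟨0, map_zero _⟩⟩
  | tmul m b =>
    exact ⟨{b}, fun B₀ hB => ⟨m ⊗ₜ ⟨b, hB (Finset.mem_singleton_self b)⟩, by simp⟩⟩
  | add x y hx hy =>
    obtain ⟨s, hs⟩ := hx
    obtain ⟨t, ht⟩ := hy
    refine ⟨s ∪ t, fun B₀ hB => ?_⟩
    rw [Finset.coe_union, Set.union_subset_iff] at hB
    obtain ⟨x₀, rfl⟩ := hs B₀ hB.1
    obtain ⟨y₀, rfl⟩ := ht B₀ hB.2
    exact ⟨x₀ + y₀, map_add _ _ _⟩


open TensorProduct in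
/-- Let A → B and A → C be ring maps, D = B ⊗_A C, and p_D a prime of D with images p_B, p_C, p_A in B,
C, A. Let A^{sh}, B^{sh}, C^{sh}, D^{sh} be strict henselizations of the local rings A_{p_A},
B_{p_B}, C_{p_C}, D_{p_D}, equipped with local homomorphisms A^{sh} → B^{sh} → D^{sh} and A^{sh} →
C^{sh} → D^{sh} forming a commutative square compatible with A → B → D and A → C → D (such maps are
the ones attached to a compatible choice of residue-field embeddings into one separably closed
field, and are unique given that choice). If every finite subset of B lies in an A-subalgebra of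
finite type that is quasi-finite over A (so that B is a directed union of quasi-finite A-algebras of
finite type), then the induced A^{sh}-algebra map B^{sh} ⊗_{A^{sh}} C^{sh} → D^{sh} is bijective.
(Two further published cases, B integral over A and B_{p_B} a directed union of quasi-finite
A_{p_A}-algebras of finite type, are stated separately.) -/
theorem result (A B C : Type u) [CommRing A] [CommRing B]
    [CommRing C] [Algebra A B] [Algebra A C]
    (pA : Ideal A) [pA.IsPrime] (pB : Ideal B) [pB.IsPrime] [pB.LiesOver pA]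
    (pC : Ideal C) [pC.IsPrime] [pC.LiesOver pA]
    (pD : Ideal (B ⊗[A] C)) [pD.IsPrime] [pD.LiesOver pB]
    (hDC : pD.comap (Algebra.TensorProduct.includeRight : C →ₐ[A] B ⊗[A] C).toRingHom = pC)
    (Ash : Type u) [CommRing Ash] [IsLocalRing Ash] [Algebra (Localization.AtPrime pA) Ash]
    [IsLocalHom (algebraMap (Localization.AtPrime pA) Ash)]
    [Hensel.IsStrictHenselization (Localization.AtPrime pA) Ash] [Algebra A Ash]
    [IsScalarTower A (Localization.AtPrime pA) Ash]
    (Bsh : Type u) [CommRing Bsh] [IsLocalRing Bsh] [Algebra (Localization.AtPrime pB) Bsh]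
    [IsLocalHom (algebraMap (Localization.AtPrime pB) Bsh)]
    [Hensel.IsStrictHenselization (Localization.AtPrime pB) Bsh] [Algebra B Bsh]
    [IsScalarTower B (Localization.AtPrime pB) Bsh] [Algebra A Bsh] [IsScalarTower A B Bsh]
    [Algebra Ash Bsh] [IsScalarTower A Ash Bsh] [IsLocalHom (algebraMap Ash Bsh)]
    (Csh : Type u) [CommRing Csh] [IsLocalRing Csh] [Algebra (Localization.AtPrime pC) Csh]
    [IsLocalHom (algebraMap (Localization.AtPrime pC) Csh)]
    [Hensel.IsStrictHenselization (Localization.AtPrime pC) Csh] [Algebra C Csh]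
    [IsScalarTower C (Localization.AtPrime pC) Csh] [Algebra A Csh] [IsScalarTower A C Csh]
    [Algebra Ash Csh] [IsScalarTower A Ash Csh] [IsLocalHom (algebraMap Ash Csh)]
    (Dsh : Type u) [CommRing Dsh] [IsLocalRing Dsh] [Algebra (Localization.AtPrime pD) Dsh]
    [IsLocalHom (algebraMap (Localization.AtPrime pD) Dsh)]
    [Hensel.IsStrictHenselization (Localization.AtPrime pD) Dsh] [Algebra (B ⊗[A] C) Dsh]
    [IsScalarTower (B ⊗[A] C) (Localization.AtPrime pD) Dsh]
    [Algebra Bsh Dsh] [IsLocalHom (algebraMap Bsh Dsh)] [Algebra B Dsh] [IsScalarTower B Bsh Dsh]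
    [IsScalarTower B (B ⊗[A] C) Dsh]
    [Algebra Csh Dsh] [IsLocalHom (algebraMap Csh Dsh)]
    (hC : ∀ c : C, algebraMap Csh Dsh (algebraMap C Csh c) = algebraMap (B ⊗[A] C) Dsh (1 ⊗ₜ[A] c))
    [Algebra Ash Dsh] [IsScalarTower Ash Bsh Dsh] [IsScalarTower Ash Csh Dsh]
    (hB : ∀ s : Finset B, ∃ B₀ : Subalgebra A B, (↑s : Set B) ⊆ ↑B₀ ∧
      Algebra.FiniteType A ↥B₀ ∧ Algebra.QuasiFinite A ↥B₀) :
    Function.Bijective (Algebra.TensorProduct.lift (IsScalarTower.toAlgHom Ash Bsh Dsh)
      (IsScalarTower.toAlgHom Ash Csh Dsh) (fun _ _ => Commute.all _ _)) := by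
  haveI : HenselianLocalRing Ash := Hensel.IsStrictHenselization.henselian (R := Localization.AtPrime pA)
  haveI : IsSepClosed (IsLocalRing.ResidueField Ash) :=
    (Hensel.IsStrictHenselization.isSepClosure (R := Localization.AtPrime pA) (S := Ash)).sep_closed
  suffices hint : ∀ (T : Type u) [CommRing T] [IsLocalRing T] [Algebra Ash T] [IsLocalHom (algebraMap Ash T)]
      (g : Ash ⊗[A] B →ₐ[Ash] T), (∀ s, g (1 ⊗ₜ s) ∈ IsLocalRing.maximalIdeal T ↔ s ∈ pB) → ∀ d,
      IsIntegral Ash (g d) ∧ (IsUnit (g d) → ∃ e, IsIntegral Ash e ∧ g d * e = 1) by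
    obtain ⟨hi, hp⟩ := Groth.Agent.H9Hens.integral_strictHenselization (p := pA) (q := pB) (Rh := Ash) (Sh := Bsh) hint
    exact Groth.Agent.H9Hens.bijective_strictHenselization_tensor (pB := pB) (pC := pC) (pD := pD) hC
  intro T _ _ _ _ g hg d
  · classical
    obtain ⟨s, hs⟩ := exists_finset A B Ash d
    obtain ⟨B₀, hsB, hft, hqf⟩ := hB s
    obtain ⟨d₀, rfl⟩ := hs B₀ hsB
    let g₀ := g.comp (Algebra.TensorProduct.map (AlgHom.id Ash Ash) B₀.val)
    exact Groth.Agent.H9Hens.isIntegral_of_factor g₀ (pB.comap B₀.val.toRingHom)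
      (fun x => Iff.trans (Iff.rfl : x ∈ pB.comap B₀.val.toRingHom ↔ (x : B) ∈ pB)
        ((hg (x : B)).symm.trans (by simp [g₀]))) d₀

end Groth.Agent.S9467
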