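import Groth.Statements.S14620
import Groth.Agent.H9Hens.SepClosed
import Groth.Agent.H9Hens.Local
import Groth.Agent.H9Hens.PairOps
import Mathlib.RingTheory.LocalRing.ResidueField.Basic
-- import your own Groth.Agent.* helpers here

set_option autoImplicit false
universe u
open Hensel

namespace Groth.Agent.S14620

/-- In the strictly henselian case, let f : A → B be a finite local homomorphism of local rings. If A is
strictly henselian (henselian local with separably closed residue field), then so is B. -/
theorem result {A B : Type u} [CommRing A] [IsLocalRing A]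
    [CommRing B] [IsLocalRing B] (f : A →+* B) (hf : f.Finite) [IsLocalHom f]
    (hA : EtCoh.IsStrictlyHenselianLocalRing A) : EtCoh.IsStrictlyHenselianLocalRing B := by
  obtain ⟨_, _⟩ := hA
  let : Algebra A B := f.toAlgebra
  have : Module.Finite A B := hf
  have : IsLocalHom (algebraMap A B) := ‹IsLocalHom f›
  have : HenselianRing A (IsLocalRing.maximalIdeal A) := inferInstance
  let mB := (IsLocalRing.maximalIdeal A).map (algebraMap A B)
  have : HenselianRing B mB := H9Hens.henselianRing_of_isIntegral B
  have hle : mB ≤ IsLocalRing.maximalIdeal B := IsLocalRing.map_maximalIdeal_le (algebraMap A B)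
  have hrad : mB.radical = IsLocalRing.maximalIdeal B := by
    refine le_antisymm ((IsLocalRing.maximalIdeal.isMaximal B).isPrime.radical_le_iff.mpr hle) ?_
    rw [Ideal.radical_eq_sInf]
    refine le_sInf fun P ⟨hP, hPp⟩ => ?_
    have : (P.comap (algebraMap A B)).IsMaximal := by
      have h : P.comap (algebraMap A B) = IsLocalRing.maximalIdeal A :=
        le_antisymm (IsLocalRing.le_maximalIdeal (Ideal.comap_ne_top _ hPp.ne_top))
          (Ideal.map_le_iff_le_comap.mp hP)
      rw [h]; exact IsLocalRing.maximalIdeal.isMaximal A
    have : P.IsMaximal := Ideal.isMaximal_of_isIntegral_of_isMaximal_comap P this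
    exact (IsLocalRing.eq_maximalIdeal this).ge
  have h := H9Hens.henselianRing_radical (I := mB)
  rw [hrad] at h
  refine ⟨H9Hens.henselianLocalRing_of_henselianRing, ?_⟩
  exact H9Hens.isSepClosed_of_isAlgebraic (IsLocalRing.ResidueField A)

end Groth.Agent.S14620
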