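import Groth.Statements.S3047
import Groth.Agent.H18Et.StalkSets

set_option autoImplicit false
open CategoryTheory CategoryTheory.Limits AlgebraicGeometry Opposite
universe u
open EtDesc

namespace Groth.Agent.S3047

/-- For a surjective morphism of schemes f : X' -> X, the inverse image functor f^* on sheaves of sets
for the small etale sites is faithful and reflects isomorphisms. -/
theorem result {X' X : Scheme.{u}} (f : X' ⟶ X) [Surjective f] :
    (EtDesc.pullSh f).Faithful ∧ (EtDesc.pullSh f).ReflectsIsomorphisms := by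
  have key : ∀ {F G : EtDesc.Sh X} (φ : F ⟶ G)
      (ξ : ∀ x' : X', Spec (CommRingCat.of (SeparableClosure (X'.residueField x'))) ⟶ X'),
      ∀ x', (((Scheme.pointSmallEtale (ξ x')).sheafFiber (A := Type (u + 1))).map ((EtDesc.pullSh f).map φ)) =
        ((Groth.Agent.H18Et.stalkPullShIso f (ξ x')).hom.app F) ≫
          ((Scheme.pointSmallEtale (ξ x' ≫ f)).sheafFiber.map φ) ≫
          ((Groth.Agent.H18Et.stalkPullShIso f (ξ x')).inv.app G) := fun φ ξ x' => by
    rw [← NatTrans.naturality_assoc, Iso.hom_inv_id_app]; simp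
  have hinj : ∀ {F G : EtDesc.Sh X} (φ : F ⟶ G) (x' : X'),
      Function.Bijective ((Scheme.pointSmallEtale (Groth.Agent.H18Et.geomPt x')).sheafFiber.map ((EtDesc.pullSh f).map φ)) →
      Function.Bijective ((Scheme.pointSmallEtale (Groth.Agent.H18Et.geomPt x' ≫ f)).sheafFiber.map φ) := by
    intro F G φ x'
    simp only [← isIso_iff_bijective]
    intro h
    rw [key φ Groth.Agent.H18Et.geomPt x'] at h
    exact (isIso_comp_right_iff _ _).1 ((isIso_comp_left_iff _ _).1 h)
  have hbase : ∀ x' : X', (Groth.Agent.H18Et.geomPt x' ≫ f).base default = f.base x' := fun x' => by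
    rw [Scheme.Hom.comp_apply, Groth.Agent.H18Et.geomPt_base]
  constructor
  · suffices ∀ F : EtDesc.Sh X, Mono ((EtDesc.adjSh f).unit.app F) from
      (EtDesc.adjSh f).faithful_L_of_mono_unit_app
    intro F
    refine Groth.Agent.H18Et.mono_of_stalkSh _ fun x => ?_
    obtain ⟨x', rfl⟩ := f.surjective x
    refine ⟨_, inferInstance, SeparableClosure.isSepClosed _, Groth.Agent.H18Et.geomPt x' ≫ f, hbase x', ?_⟩
    have : Mono ((EtDesc.pullSh f).map ((EtDesc.adjSh f).unit.app F)) := (⟨_, (EtDesc.adjSh f).left_triangle_components F⟩ : SplitMono _).mono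
    have h := (Groth.Agent.H18Et.mono_iff_stalkSh _).1 this _ (Groth.Agent.H18Et.geomPt x')
    rw [key _ Groth.Agent.H18Et.geomPt x', ← CategoryTheory.mono_iff_injective, mono_comp_iff_of_isIso,
      mono_comp_iff_of_mono] at h
    · exact (CategoryTheory.mono_iff_injective _).1 h
  · refine ⟨fun {F G} φ hφ => ?_⟩
    have hb : ∀ x : X, ∃ (Ω : Type u) (_ : Field Ω) (_ : IsSepClosed Ω)
      (ξ : Spec (CommRingCat.of Ω) ⟶ X), ξ.base default = x ∧
        Function.Bijective ((Scheme.pointSmallEtale ξ).sheafFiber.map φ) := fun x => by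
      obtain ⟨x', rfl⟩ := f.surjective x
      exact ⟨_, _, _, _, hbase x', hinj φ x' ((isIso_iff_bijective _).1 inferInstance)⟩
    have := Groth.Agent.H18Et.mono_of_stalkSh φ fun x => by
      obtain ⟨Ω, a, b, ξ, h1, h2⟩ := hb x; exact ⟨Ω, a, b, ξ, h1, h2.1⟩
    have := Groth.Agent.H18Et.isLocallySurjective_of_stalk φ fun x => by
      obtain ⟨Ω, a, b, ξ, h1, h2⟩ := hb x; exact ⟨Ω, a, b, ξ, h1, h2.2⟩
    have : Epi φ := Sheaf.epi_of_isLocallySurjective φ
    exact isIso_of_mono_of_epi φ

end Groth.Agent.S3047
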