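import Groth.Statements.S3883
import Groth.Agent.H18Et.PushClosed

set_option autoImplicit false
open CategoryTheory CategoryTheory.Limits AlgebraicGeometry Opposite
universe u
open EtDesc

open scoped Groth.Agent.H18Et

namespace Groth.Agent.S3883

/-- Let i : Y -> X be a closed immersion and j : U -> X an open immersion whose image is the complement
of the image of i. Then the direct image functor i_* on etale sheaves of sets is fully faithful, and
a sheaf of sets F on X is isomorphic to some i_* G if and only if j^* F is a final object. -/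
theorem result {Y X U : Scheme.{u}} (i : Y ⟶ X)
    [IsClosedImmersion i] (j : U ⟶ X) [IsOpenImmersion j]
    (hU : Set.range j.base = (Set.range i.base)ᶜ) :
    (EtDesc.pushSh i).Full ∧ (EtDesc.pushSh i).Faithful ∧
    ∀ F : EtDesc.Sh X, (EtDesc.pushSh i).essImage F ↔ IsIso (terminal.from ((EtDesc.pullSh j).obj F)) := by
  have hi : Groth.Agent.H18Et.LiftsEtaleUniv i :=
    Groth.Agent.H18Et.liftsEtaleUniv_of_isClosedImmersion i
  have hcl := i.isClosedEmbedding.isClosed_range
  refine ⟨(Groth.Agent.H18Et.pushSh_full_faithful hi).1, (Groth.Agent.H18Et.pushSh_full_faithful hi).2,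
    fun F => ?_⟩
  have hj : ∀ {Ω : Type u} [Field Ω] [IsSepClosed Ω] (ζ : Spec (CommRingCat.of Ω) ⟶ U),
      (ζ ≫ j).base default ∉ Set.range i.base := fun ζ =>
    show j.base (ζ.base default) ∈ (Set.range i.base)ᶜ from hU ▸ Set.mem_range_self _
  constructor
  · rintro ⟨G, ⟨e⟩⟩
    refine Groth.Agent.H18Et.isIso_of_stalkSh _ fun u =>
      ⟨_, _, SeparableClosure.isSepClosed _, Groth.Agent.H18Et.geomPt u, Groth.Agent.H18Et.geomPt_base u, ?_⟩
    let ζ := Groth.Agent.H18Et.geomPt u
    let Φ := Scheme.pointSmallEtale ζ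
    have e1 : (Φ.sheafFiber).obj ((EtDesc.pullSh j).obj F) ≅
        (Scheme.pointSmallEtale (ζ ≫ j)).sheafFiber.obj ((EtDesc.pushSh i).obj G) :=
      (Groth.Agent.H18Et.stalkPullShIso j ζ).app F ≪≫
        (Scheme.pointSmallEtale (ζ ≫ j)).sheafFiber.mapIso e.symm
    have hs := Groth.Agent.H18Et.subsingleton_stalkSh_push i hcl G (ζ ≫ j) (hj ζ)
    have hn := Groth.Agent.H18Et.nonempty_stalkSh_push i hcl G (ζ ≫ j) (hj ζ)
    have : Subsingleton (Φ.sheafFiber.obj ((EtDesc.pullSh j).obj F)) :=
      e1.toEquiv.subsingleton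
    have : Nonempty (Φ.sheafFiber.obj ((EtDesc.pullSh j).obj F)) := hn.map e1.inv
    have hT : IsTerminal (Φ.sheafFiber.obj (⊤_ (EtDesc.Sh U))) :=
      terminalIsTerminal.isTerminalObj Φ.sheafFiber _
    have := Types.isTerminalEquivUnique _ hT
    exact ⟨fun a b _ => Subsingleton.elim a b, fun b => ⟨Classical.arbitrary _, Subsingleton.elim _ _⟩⟩
  · intro hF
    have : IsIso ((EtDesc.adjSh i).unit.app F) := Groth.Agent.H18Et.isIso_of_stalkSh _ fun x => by
      by_cases hx : x ∈ Set.range i.base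
      · obtain ⟨y, rfl⟩ := hx
        exact ⟨_, _, SeparableClosure.isSepClosed _, Groth.Agent.H18Et.geomPt y ≫ i,
          Groth.Agent.H18Et.geomPt_comp_base i y,
          Groth.Agent.H18Et.bijective_stalk_unitSh hi F (Groth.Agent.H18Et.geomPt y)⟩
      · have hxj : x ∈ Set.range j.base := hU ▸ hx
        obtain ⟨u, rfl⟩ := hxj
        let ζ := Groth.Agent.H18Et.geomPt u
        refine ⟨_, _, SeparableClosure.isSepClosed _, ζ ≫ j,
          Groth.Agent.H18Et.geomPt_comp_base j u, ?_⟩
        have h1 := Groth.Agent.H18Et.subsingleton_stalkSh_push i hcl ((EtDesc.pullSh i).obj F) (ζ ≫ j) (hj ζ)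
        have h2 := Groth.Agent.H18Et.nonempty_stalkSh_push i hcl ((EtDesc.pullSh i).obj F) (ζ ≫ j) (hj ζ)
        have hT : IsTerminal ((Scheme.pointSmallEtale ζ).sheafFiber.obj (⊤_ (EtDesc.Sh U))) :=
          terminalIsTerminal.isTerminalObj (Scheme.pointSmallEtale ζ).sheafFiber _
        let e1 : (Scheme.pointSmallEtale (ζ ≫ j)).sheafFiber.obj F ≅
            (Scheme.pointSmallEtale ζ).sheafFiber.obj (⊤_ (EtDesc.Sh U)) :=
          ((Groth.Agent.H18Et.stalkPullShIso j ζ).app F).symm ≪≫
            (Scheme.pointSmallEtale ζ).sheafFiber.mapIso (asIso (terminal.from _))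
        have := Types.isTerminalEquivUnique _ hT
        have : Subsingleton ((Scheme.pointSmallEtale (ζ ≫ j)).sheafFiber.obj F) :=
          e1.toEquiv.subsingleton
        exact ⟨fun a b _ => this.elim a b, fun b => ⟨e1.inv default, h1.elim _ _⟩⟩
    exact ⟨_, ⟨(asIso ((EtDesc.adjSh i).unit.app F)).symm⟩⟩

end Groth.Agent.S3883
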