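import Groth.Statements.S3473
import Groth.Agent.S3047
import Groth.Agent.S3883
import Groth.Agent.H18Et.BaseChangeSh
import Groth.Agent.H29Blow.PointsOfAffine

set_option autoImplicit false
universe u
open CategoryTheory CategoryTheory.Limits AlgebraicGeometry Opposite
open EtAcyc

namespace Groth.Agent.S3473

open Groth.Agent.H18Et

theorem exists_section_avoid {X Y : Scheme.{u}} (g : X ⟶ Y) {U : Y.Opens} (hU : IsAffineOpen U) {W : X.Opens}
    (hW : IsAffineOpen W) (hle : W ≤ g ⁻¹ᵁ U) {y : Y} (hy : y ∈ U) (hn : y ∉ Set.range g.base) :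
    ∃ s : Γ(Y, U), y ∈ Y.basicOpen s ∧ ∀ w ∈ W, g.base w ∈ Y.basicOpen s → ¬ y ⤳ g.base w := by
  have hp : ∀ {V : Y.Opens} (hV : IsAffineOpen V) (a : Γ(Y, V)) (z : Y) (hz : z ∈ V),
      a ∈ (hV.primeIdealOf ⟨z, hz⟩).asIdeal ↔ z ∉ Y.basicOpen a := fun {V} hV a z hz => by
    rw [H29Blow.mem_primeIdealOf_iff, Y.mem_basicOpen a z hz]
  let p := (hU.primeIdealOf ⟨y, hy⟩).asIdeal
  let φ := (g.appLE U W hle).hom
  have hφ : ∀ (a : Γ(Y, U)) (w : X) (hw : w ∈ W),
      φ a ∈ (hW.primeIdealOf ⟨w, hw⟩).asIdeal ↔ g.base w ∉ Y.basicOpen a := fun a w hw => by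
    rw [H29Blow.mem_primeIdealOf_iff, ← X.mem_basicOpen _ w hw]
    show w ∉ X.basicOpen (g.appLE U W hle a) ↔ _
    rw [Scheme.Hom.appLE, CommRingCat.comp_apply, Scheme.basicOpen_res, ← Scheme.preimage_basicOpen]
    exact not_congr ⟨fun h => h.2, fun h => ⟨hw, h⟩⟩
  by_cases hd : Disjoint ((p.map φ : Ideal Γ(X, W)) : Set Γ(X, W)) (p.primeCompl.map φ : Submonoid Γ(X, W))
  · obtain ⟨P, hP, hle', hdis⟩ := Ideal.exists_le_prime_disjoint _ _ hd
    obtain ⟨w, hw, hwP⟩ : ∃ (w : X) (hw : w ∈ W), (hW.primeIdealOf ⟨w, hw⟩).asIdeal = P := by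
      refine ⟨hW.fromSpec ⟨P, hP⟩, hW.range_fromSpec.le ⟨_, rfl⟩, ?_⟩
      have e : hW.primeIdealOf ⟨hW.fromSpec ⟨P, hP⟩, hW.range_fromSpec.le ⟨_, rfl⟩⟩ = ⟨P, hP⟩ := by
        apply hW.fromSpec.isOpenEmbedding.injective
        exact hW.fromSpec_primeIdealOf _
      rw [e]
    refine (hn ⟨w, ?_⟩).elim
    have e : hU.primeIdealOf ⟨g.base w, hle hw⟩ = hU.primeIdealOf ⟨y, hy⟩ := by
      refine PrimeSpectrum.ext (Ideal.ext fun a => ?_)
      rw [hp hU a _ (hle hw), ← hφ a w hw, hwP]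
      exact ⟨fun h => by_contra fun h' => Set.disjoint_left.mp hdis h ⟨a, h', rfl⟩,
        fun h => hle' (Ideal.mem_map_of_mem φ h)⟩
    exact (hU.fromSpec_primeIdealOf ⟨g.base w, hle hw⟩).symm.trans
      ((congrArg hU.fromSpec.base e).trans (hU.fromSpec_primeIdealOf ⟨y, hy⟩))
  · obtain ⟨_, h1, s, hs, rfl⟩ := Set.not_disjoint_iff.mp hd
    refine ⟨s, by_contra fun h => hs ((hp hU s y hy).2 h), fun w hw hws hspec => ?_⟩
    refine (hφ s w hw).1 ?_ hws
    refine (Ideal.map_le_iff_le_comap.2 fun a ha => ?_) h1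
    refine (hφ a w hw).2 fun h => (hp hU a y hy).1 ha (hspec.mem_open (Y.basicOpen a).isOpen h)

theorem not_minusOne_of_not_surjective {X Y : Scheme.{u}} (g : X ⟶ Y) [QuasiCompact g]
    (h : EtAcyc.IsMinusOneAcyclic g) : Function.Surjective g.base := by
  classical
  intro y
  by_contra hn
  obtain ⟨U, hU, hy, -⟩ := exists_isAffineOpen_mem_and_subset (X := Y) (U := ⊤) (x := y) trivial
  have hc : IsCompact ((g ⁻¹ᵁ U : X.Opens) : Set X) := g.isCompact_preimage hU.isCompact
  obtain ⟨A, hAfin, hA⟩ := isCompact_and_isOpen_iff_finite_and_eq_biUnion_affineOpens.1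
    ⟨hc, (g ⁻¹ᵁ U).isOpen⟩
  have hWle : ∀ W : A, (W.1.1 : X.Opens) ≤ g ⁻¹ᵁ U := fun W w hw => by
    rw [← SetLike.mem_coe, hA]
    exact Set.mem_biUnion W.2 hw
  choose s hs1 hs2 using fun W : A => exists_section_avoid g hU W.1.2 (hWle W) hy (fun h => hn h)
  haveI := hAfin.fintype
  obtain ⟨U', hyU', hU'U, hU'⟩ : ∃ U' : Y.Opens, y ∈ U' ∧ U' ≤ U ∧ ∀ W : A, U' ≤ Y.basicOpen (s W) :=
    ⟨U ⊓ Finset.univ.inf fun W : A => Y.basicOpen (s W),
      ⟨hy, by
        suffices ∀ T : Finset A, y ∈ T.inf fun W : A => Y.basicOpen (s W) from this _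
        intro T
        induction T using Finset.induction with
        | empty => trivial
        | insert a T _ ih => rw [Finset.inf_insert]; exact ⟨hs1 a, ih⟩⟩,
      inf_le_left, fun W => inf_le_right.trans (Finset.inf_le (Finset.mem_univ W))⟩
  let y' : U'.toScheme := ⟨y, hyU'⟩
  let I := Scheme.IdealSheafData.vanishingIdeal (X := U'.toScheme) ⟨closure {y'}, isClosed_closure⟩
  let i := I.subschemeι
  have hrange : Set.range i.base = closure {y'} := by
    rw [I.range_subschemeι]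
    rfl
  have hcl : IsClosed (Set.range i.base) := hrange ▸ isClosed_closure
  let P : (I.subscheme.Etale)ᵒᵖ ⥤ Type (u + 1) := (Functor.const _).obj (ULift.{u + 1} Bool)
  let G : EtDesc.Sh I.subscheme := (presheafToSheaf I.subscheme.smallEtaleTopology (Type (u + 1))).obj P
  let V : Y.Etale := Scheme.Etale.mk U'.ι
  let T : U'.toScheme.Etale := EtCoh.top U'.toScheme
  let O := (EtCoh.bc i).obj T
  let sec : Bool → ((EtDesc.pushSh i).obj G).obj.obj (op T) := fun b =>
    (toSheafify I.subscheme.smallEtaleTopology P).app (op O) ⟨b⟩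
  have hne : sec true ≠ sec false := fun he => by
    have hR := Presheaf.equalizerSieve_mem I.subscheme.smallEtaleTopology
      (toSheafify I.subscheme.smallEtaleTopology P) (X := op O) ⟨true⟩ ⟨false⟩ he
    obtain ⟨z, hz⟩ : y' ∈ Set.range i.base := hrange ▸ subset_closure rfl
    obtain ⟨w, hw⟩ : ∃ w : O.left, O.hom.base w = z := by
      obtain ⟨w, -, hw⟩ := Scheme.Pullback.exists_preimage_pullback (f := T.hom) (g := i)
        (i.base z) z rfl
      exact ⟨w, hw⟩
    obtain ⟨x, -⟩ := exists_fiber_over (U := O) w (geomPt z) ((geomPt_base z).trans hw.symm)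
    obtain ⟨W, a, ha, -⟩ := (Scheme.pointSmallEtale (geomPt z)).jointly_surjective _ hR x
    exact Bool.noConfusion (ULift.up_inj.mp ha)
  refine hne ?_
  haveI := h V ((EtDesc.pushSh i).obj G)
  let η := (EtDesc.adjSh (EtAcyc.prj g V)).unit.app ((EtDesc.pushSh i).obj G)
  haveI : (sheafToPresheaf U'.toScheme.smallEtaleTopology (Type (u + 1))).IsRightAdjoint :=
    (sheafificationAdjunction _ _).isRightAdjoint
  haveI : Mono η.hom := inferInstanceAs (Mono ((sheafToPresheaf _ _).map η))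
  refine (mono_iff_injective (η.hom.app (op T))).1 inferInstance ?_
  refine sect_ext (F := (EtDesc.pullSh (EtAcyc.prj g V)).obj ((EtDesc.pushSh i).obj G))
    (U := (EtCoh.bc (EtAcyc.prj g V)).obj T) _ _ fun Ω _ _ ξ x => ?_
  have hout : (ξ ≫ EtAcyc.prj g V).base default ∉ Set.range i.base := by
    rw [hrange]
    intro hmem
    let q := ξ.base default
    let w : X := (pullback.snd V.hom g).base q
    let z : U'.toScheme := (EtAcyc.prj g V).base q
    have hzw : g.base w = U'.ι.base z := by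
      have e := congrArg (fun k : pullback V.hom g ⟶ Y => k.base q) (pullback.condition (f := V.hom) (g := g))
      exact e.symm
    have hzU : g.base w ∈ U' := by rw [hzw]; exact z.2
    obtain ⟨W, hWA, hwW⟩ := Set.mem_iUnion₂.1 (hA.le (show w ∈ ((g ⁻¹ᵁ U : X.Opens) : Set X) from hU'U hzU))
    refine hs2 ⟨W, hWA⟩ w hwW (hU' ⟨W, hWA⟩ hzU) ?_
    rw [hzw]
    exact (specializes_iff_mem_closure.2 (show z ∈ closure {y'} from hmem)).map U'.ι.continuous
  haveI hss := subsingleton_stalkSh_push i hcl G (ξ ≫ EtAcyc.prj g V) hout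
  haveI : Subsingleton ((Scheme.pointSmallEtale ξ).sheafFiber.obj
      ((EtDesc.pullSh (EtAcyc.prj g V)).obj ((EtDesc.pushSh i).obj G))) :=
    @Equiv.subsingleton _ _ ((stalkPullShIso (EtAcyc.prj g V) ξ).app ((EtDesc.pushSh i).obj G)).toEquiv hss
  exact Subsingleton.elim _ _

/-- Let g : X → Y be a morphism of schemes. If g is surjective then g is (-1)-acyclic (for every etale V
→ Y and every sheaf of sets F on V, F → g'_* g'^* F is a monomorphism, g' the projection X ×_Y V →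
V); conversely, if g is quasi-compact, quasi-separated and (-1)-acyclic then g is surjective. -/
theorem result {X Y : Scheme.{u}} (g : X ⟶ Y) :
    (Function.Surjective g.base → EtAcyc.IsMinusOneAcyclic g) ∧
      (∀ [QuasiCompact g] [QuasiSeparated g], EtAcyc.IsMinusOneAcyclic g → Function.Surjective g.base) := by
  refine ⟨fun hg V F => ?_, fun h => not_minusOne_of_not_surjective g h⟩
  haveI : Surjective g := ⟨hg⟩
  haveI := (Groth.Agent.S3047.result (EtAcyc.prj g V)).1
  infer_instance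

end Groth.Agent.S3473
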