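import Groth.Statements.S1662
import Groth.Agent.H29Blow.Relative
import Groth.Agent.H29Blow.RelCartier
import Mathlib

set_option autoImplicit false
universe u
open CategoryTheory CategoryTheory.Limits AlgebraicGeometry
open Divisors

namespace Groth.Agent.S1662

/-- Let f : X → S, D an effective Cartier divisor on X such that D → S is flat, and g : S' → S any
morphism. Then the inverse image of D in X ×_S S' is an effective Cartier divisor. -/
theorem result {X S S' : Scheme.{u}} (f : X ⟶ S) (D : X.IdealSheafData) (hD : BlowUp.IsEffCartierIdeal D)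
    [Flat (D.subschemeι ≫ f)] (g : S' ⟶ S) :
    BlowUp.IsEffCartierIdeal (D.comap (pullback.fst f g)) := by
  intro x'
  have hc : IsPullback (pullback.fst f g) (pullback.snd f g) f g := IsPullback.of_hasPullback f g
  let x := pullback.fst f g x'
  obtain ⟨V, hV, hxV, -⟩ := exists_isAffineOpen_mem_and_subset (U := (⊤ : S.Opens)) (x := f x) trivial
  obtain ⟨U, hxU, hUV, a, ha, haU⟩ := _root_.H29Blow.exists_gen hD (x := x) (W := f ⁻¹ᵁ V) hxV
  have hxV' : g (pullback.snd f g x') ∈ V := by
    rw [← Scheme.Hom.comp_apply, ← pullback.condition]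
    exact hxV
  obtain ⟨V', hV', hxV'', hVV'⟩ := exists_isAffineOpen_mem_and_subset (U := g ⁻¹ᵁ V) (x := pullback.snd f g x') hxV'
  let U' : (pullback f g).Opens := pullback.fst f g ⁻¹ᵁ U.1 ⊓ pullback.snd f g ⁻¹ᵁ V'
  have hp : IsPushout (f.appLE V U.1 hUV) (g.appLE V V' hVV')
      ((pullback.fst f g).appLE U.1 U' inf_le_left) ((pullback.snd f g).appLE V' U' inf_le_right) :=
    (isIso_pushoutSection_iff hc hVV' hUV (UY := U') rfl).mp
      (isIso_pushoutSection_of_isAffineOpen hc hVV' hUV rfl hV hV' U.2)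
  have hU' : IsAffineOpen U' := by
    haveI : IsAffine _ := hV
    haveI : IsAffine _ := hV'
    haveI : IsAffine _ := U.2
    exact .of_isIso (Scheme.Hom.isPullback_resLE hc hVV' hUV (UY := U') rfl).isoPullback.hom
  refine ⟨⟨U', hU'⟩, ⟨hxU, hxV''⟩, (pullback.fst f g).appLE U.1 U' inf_le_left a, ?_, ?_⟩
  · have hflat := _root_.H29Blow.flat_appLE_quot f D ⟨V, hV⟩ U hUV
    rw [haU] at hflat
    letI := (f.appLE V U.1 hUV).hom.toAlgebra
    letI := (g.appLE V V' hVV').hom.toAlgebra
    letI := ((pullback.fst f g).appLE U.1 U' inf_le_left).hom.toAlgebra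
    letI := ((pullback.snd f g).appLE V' U' inf_le_right).hom.toAlgebra
    letI : Algebra Γ(S, V) Γ(pullback f g, U') :=
      (((pullback.fst f g).appLE U.1 U' inf_le_left).hom.comp (f.appLE V U.1 hUV).hom).toAlgebra
    haveI : IsScalarTower Γ(S, V) Γ(X, U.1) Γ(pullback f g, U') := .of_algebraMap_eq fun _ => rfl
    haveI : IsScalarTower Γ(S, V) Γ(S', V') Γ(pullback f g, U') :=
      IsScalarTower.of_algebraMap_eq' (congrArg CommRingCat.Hom.hom hp.w)
    haveI : Algebra.IsPushout Γ(S, V) Γ(S', V') Γ(X, U.1) Γ(pullback f g, U') :=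
      (CommRingCat.isPushout_iff_isPushout.mp hp.flip)
    haveI : Module.Flat Γ(S, V) (Γ(X, U.1) ⧸ Ideal.span {a}) := hflat
    exact Groth.Agent.H29Blow.mem_nonZeroDivisors_pushout (R₀ := Γ(S, V)) (R := Γ(S', V')) a
      fun k hk => by rw [mem_nonZeroDivisors_iff_right.1 ha k hk, map_zero]
  · rw [_root_.H29Blow.ideal_comap D (pullback.fst f g) U ⟨U', hU'⟩ inf_le_left, haU, Ideal.map_span,
      Set.image_singleton]

end Groth.Agent.S1662
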