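import Groth.Statements.S2199
import Groth.Agent.H11Tor.Nilpotent

set_option autoImplicit false
universe u
open LCI

namespace Groth.Agent.S2199

/-- For a Noetherian local ring (A, m) and proper ideals I inside J such that A/J has finite
Tor-dimension as a module over A/I (canonical algebra structure), the map I/mI -> J/mJ is injective:
an element of I lying in mJ already lies in mI. -/
theorem result {A : Type u} [CommRing A] [IsNoetherianRing A] [IsLocalRing A]
    (I J : Ideal A) (hIJ : I ≤ J) (hJ : J ≠ ⊤) [Algebra (A ⧸ I) (A ⧸ J)]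
    [IsScalarTower A (A ⧸ I) (A ⧸ J)] (hfd : DRing.HasFiniteTorDim (A ⧸ I) (A ⧸ J))
    (x : A) (hx : x ∈ I) (hxm : x ∈ IsLocalRing.maximalIdeal A * J) :
    x ∈ IsLocalRing.maximalIdeal A * I := by
  classical
  by_contra hxI
  set m := IsLocalRing.maximalIdeal A with hm
  have hI : I ≠ ⊤ := fun h => hJ (top_le_iff.mp (h ▸ hIJ))
  have hIm : I ≤ m := IsLocalRing.le_maximalIdeal hI
  obtain ⟨I', ⟨h1, h2, hxI'⟩, hmax⟩ := set_has_maximal_iff_noetherian.mpr (inferInstance : IsNoetherian A A)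
    {K : Ideal A | m * I ≤ K ∧ K ≤ I ∧ x ∉ K} ⟨m * I, le_rfl, Ideal.mul_le.mpr fun _ _ _ hb => I.mul_mem_left _ hb, hxI⟩
  have hgen : I ≤ I' ⊔ Ideal.span {x} := by
    intro y hy
    by_cases hyI : y ∈ I'
    · exact Submodule.mem_sup_left hyI
    have hlt : I' < I' ⊔ Ideal.span {y} := lt_of_le_of_ne le_sup_left fun e =>
      hyI (e ▸ Submodule.mem_sup_right (Ideal.mem_span_singleton_self y))
    have hx' : x ∈ I' ⊔ Ideal.span {y} := by
      by_contra hx'
      exact hmax _ ⟨h1.trans le_sup_left, sup_le h2 ((Ideal.span_singleton_le_iff_mem _).mpr hy), hx'⟩ hlt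
    obtain ⟨i, hi, z, hz, hiz⟩ := Submodule.mem_sup.mp hx'
    obtain ⟨r, rfl⟩ := Ideal.mem_span_singleton'.mp hz
    have hr : IsUnit r := by
      by_contra hr
      exact hxI' (hiz ▸ add_mem hi (h1 (Ideal.mul_mem_mul hr hy)))
    obtain ⟨v, rfl⟩ := hr
    refine Submodule.mem_sup.mpr ⟨-((↑v⁻¹ : A) * i), neg_mem (Ideal.mul_mem_left I' _ hi), (↑v⁻¹ : A) * x,
      Ideal.mul_mem_left _ _ (Ideal.mem_span_singleton_self x), ?_⟩
    rw [← hiz, mul_add, ← mul_assoc, Units.inv_mul, one_mul, neg_add_cancel_left]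
  obtain ⟨N, gens, hgens⟩ := Submodule.fg_iff_exists_fin_generating_family.mp (IsNoetherian.noetherian J)
  have hxm' : x ∈ m • Submodule.span A (Set.range gens) := by rw [hgens]; exact hxm
  obtain ⟨c, hc, hcx⟩ := (Submodule.mem_ideal_smul_span_iff_exists_sum m gens x).mp hxm'
  let π : A ⧸ I' →+* A ⧸ I := Ideal.Quotient.factor h2
  have hπ : Function.Surjective π := Ideal.Quotient.factor_surjective h2
  have hkπ : ∀ a, π a = 0 ↔ ∃ b, a = Ideal.Quotient.mk I' x * b := by
    intro a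
    obtain ⟨a, rfl⟩ := Ideal.Quotient.mk_surjective a
    constructor
    · intro ha
      obtain ⟨i, hi, z, hz, hiz⟩ := Submodule.mem_sup.mp (hgen (Ideal.Quotient.eq_zero_iff_mem.mp ha))
      obtain ⟨b, rfl⟩ := Ideal.mem_span_singleton'.mp hz
      refine ⟨Ideal.Quotient.mk I' b, ?_⟩
      rw [← hiz, map_add, Ideal.Quotient.eq_zero_iff_mem.mpr hi, zero_add, map_mul, mul_comm]
    · rintro ⟨b, hb⟩
      rw [hb, map_mul]
      show Ideal.Quotient.mk I x * _ = 0
      rw [Ideal.Quotient.eq_zero_iff_mem.mpr hx, zero_mul]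
  have hann : ∀ a, Ideal.Quotient.mk I' x * a = 0 ↔ a ∈ m.map (Ideal.Quotient.mk I') := by
    intro a
    obtain ⟨a, rfl⟩ := Ideal.Quotient.mk_surjective a
    rw [← map_mul, Ideal.Quotient.eq_zero_iff_mem, Ideal.mem_map_iff_of_surjective _ Ideal.Quotient.mk_surjective]
    constructor
    · intro h
      refine ⟨a, ?_, rfl⟩
      by_contra ha
      obtain ⟨v, rfl⟩ : IsUnit a := by
        by_contra hu
        exact ha ((IsLocalRing.mem_maximalIdeal a).mpr hu)
      exact hxI' ((Ideal.mul_unit_mem_iff_mem I' v.isUnit).mp h)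
    · rintro ⟨b, hb, hab⟩
      have h3 : x * a - x * b ∈ I' := by
        rw [← mul_sub]
        exact Ideal.mul_mem_left I' _ (Ideal.Quotient.eq.mp hab.symm)
      have := add_mem h3 (h1 (mul_comm b x ▸ Ideal.mul_mem_mul hb hx))
      rwa [sub_add_cancel] at this
  have hmap : (m.map (Ideal.Quotient.mk I')).map π = (m.map (Ideal.Quotient.mk I)).map (algebraMap (A ⧸ I) (A ⧸ I)) := by
    rw [Algebra.algebraMap_self, Ideal.map_id, Ideal.map_map]
    rfl
  have hspan : Ideal.span (Set.range fun j => π (Ideal.Quotient.mk I' (gens j))) = J.map (Ideal.Quotient.mk I) := by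
    rw [← hgens, ← Ideal.span, Ideal.map_span, ← Set.range_comp]
    rfl
  have hsurj : Function.Surjective (Algebra.linearMap (A ⧸ I) (A ⧸ J)) := by
    intro z
    obtain ⟨a, rfl⟩ := Ideal.Quotient.mk_surjective z
    exact ⟨Ideal.Quotient.mk I a, (IsScalarTower.algebraMap_apply A (A ⧸ I) (A ⧸ J) a).symm⟩
  have hker : Ideal.span (Set.range fun j => π (Ideal.Quotient.mk I' (gens j))) =
      LinearMap.ker (Algebra.linearMap (A ⧸ I) (A ⧸ J)) := by
    rw [hspan]
    ext z
    obtain ⟨a, rfl⟩ := Ideal.Quotient.mk_surjective z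
    rw [LinearMap.mem_ker, Algebra.linearMap_apply,
      show algebraMap (A ⧸ I) (A ⧸ J) (Ideal.Quotient.mk I a) = Ideal.Quotient.mk J a from
        (IsScalarTower.algebraMap_apply A (A ⧸ I) (A ⧸ J) a).symm,
      Ideal.Quotient.eq_zero_iff_mem, Ideal.mem_map_iff_of_surjective _ Ideal.Quotient.mk_surjective]
    constructor
    · rintro ⟨b, hb, hab⟩
      have := sub_mem hb (hIJ (Ideal.Quotient.eq.mp hab))
      rwa [sub_sub_cancel] at this
    · exact fun h => ⟨a, h, rfl⟩
  obtain ⟨k, hk⟩ := hfd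
  obtain ⟨i, hi⟩ := H11Tor.nilpotent_of_torDim (R := A ⧸ I) (P := A ⧸ I) π hπ (Ideal.Quotient.mk I' x) 1 hkπ
    (m.map (Ideal.Quotient.mk I')) hann (Ideal.mem_map_of_mem _ (hIm hx)) (m.map (Ideal.Quotient.mk I)) hmap
    (fun j => Ideal.Quotient.mk I' (gens j)) (fun j => Ideal.Quotient.mk I' (c j))
    (by rw [mul_one, ← hcx, Finsupp.sum_fintype _ _ (fun i => zero_smul A (gens i)), map_sum]; simp [smul_eq_mul])
    (fun j => Ideal.mem_map_of_mem _ (hc j))
    ⟨k, H8Props.PseudoCoh.hasTorDimLE_of_equiv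
      ((Submodule.quotEquivOfEq _ _ hker).trans (LinearMap.quotKerEquivOfSurjective _ hsurj)).symm hk⟩
  rw [map_one, one_pow, hspan, Algebra.algebraMap_self, Ideal.map_id, ← Ideal.map_sup,
    Ideal.mem_map_iff_of_surjective _ Ideal.Quotient.mk_surjective] at hi
  obtain ⟨a, ha, ha1⟩ := hi
  rw [← map_one (Ideal.Quotient.mk I), Ideal.Quotient.eq] at ha1
  have h5 := sub_mem ((sup_le (IsLocalRing.le_maximalIdeal hJ) le_rfl : J ⊔ m ≤ m) ha) (hIm ha1)
  rw [sub_sub_cancel] at h5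
  exact (Ideal.ne_top_iff_one m).mp (IsLocalRing.maximalIdeal.isMaximal A).ne_top h5

end Groth.Agent.S2199
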