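import Groth.Statements.S2200
import Groth.Agent.S2199
import Groth.Agent.H13CInt.MinGen

set_option autoImplicit false
universe u
open LCI

namespace Groth.Agent.S2200

/-- Let (A, m) be a Noetherian local ring and I, J proper ideals with I inside J. If J is cut out by a
regular sequence and A/J has finite Tor-dimension as an A/I-module (canonical algebra structure),
then I is cut out by a regular sequence of A and the image of J in A/I by one of A/I. -/
theorem result {A : Type u} [CommRing A] [IsNoetherianRing A] [IsLocalRing A]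
    (I J : Ideal A) (hIJ : I ≤ J) (hJ : J ≠ ⊤) [Algebra (A ⧸ I) (A ⧸ J)]
    [IsScalarTower A (A ⧸ I) (A ⧸ J)] (hfd : DRing.HasFiniteTorDim (A ⧸ I) (A ⧸ J))
    (hJreg : ∃ rs : List A, Ideal.ofList rs = J ∧ RingTheory.Sequence.IsRegular A rs) :
    (∃ rs : List A, Ideal.ofList rs = I ∧ RingTheory.Sequence.IsRegular A rs) ∧
      ∃ rs' : List (A ⧸ I), Ideal.ofList rs' = J.map (Ideal.Quotient.mk I) ∧
        RingTheory.Sequence.IsRegular (A ⧸ I) rs' := by
  classical
  have hI : I ≠ ⊤ := fun h => hJ (top_le_iff.mp (h ▸ hIJ))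
  have hJm : J ≤ IsLocalRing.maximalIdeal A := IsLocalRing.le_maximalIdeal hJ
  obtain ⟨a, x, -, hx, hminx⟩ := H13CInt.exists_completion (Fin.elim0 : Fin 0 → A) (J := I) (K := I) (by simp)
  simp only [Set.range_eq_empty, Ideal.span_empty, bot_sup_eq] at hx
  have hxI : ∀ i, x i ∈ I := fun i => hx.le (Ideal.subset_span ⟨i, rfl⟩)
  have hmingenx : H13CInt.MinGen x := fun c hc => hminx Fin.elim0 c (by simpa using hc)
  obtain ⟨b, y, hyJ, hy, hminy⟩ := H13CInt.exists_completion x (J := J) (K := J) (by rw [hx, sup_eq_right.mpr hIJ])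
  obtain ⟨n, f, hf, hfJ⟩ := H13CInt.exists_fun_of_isRegularIdeal
    (show CInt.IsRegularIdeal J from ⟨hJreg.choose, hJreg.choose_spec.2, hJreg.choose_spec.1⟩)
  have hmin : H13CInt.MinGen (Fin.append x y) := by
    intro c hc
    rw [Fin.sum_univ_add] at hc
    simp only [Fin.append_left, Fin.append_right] at hc
    have hd := hminy _ _ hc
    have h1 : ∑ i, c (Fin.castAdd b i) * x i ∈ IsLocalRing.maximalIdeal A * I := by
      refine Groth.Agent.S2199.result I J hIJ hJ hfd _ (Ideal.sum_mem _ fun i _ => I.mul_mem_left _ (hxI i)) ?_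
      rw [eq_neg_of_add_eq_zero_left hc]
      exact neg_mem (Ideal.sum_mem _ fun i _ => Ideal.mul_mem_mul (hd i) (hyJ i))
    rw [← hx, ← Ideal.smul_eq_mul, Submodule.mem_ideal_smul_span_iff_exists_sum] at h1
    obtain ⟨r, hr, hsum⟩ := h1
    rw [Finsupp.sum_fintype _ _ (fun i => zero_smul A (x i))] at hsum
    have h2 := hmingenx (fun i => c (Fin.castAdd b i) - r i) (by
      simp only [sub_mul, Finset.sum_sub_distrib]
      rw [sub_eq_zero, ← hsum]
      rfl)
    exact Fin.addCases (fun i => by simpa using add_mem (h2 i) (hr i)) hd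
  have hreg := H13CInt.isRegular_of_minGen hf.toIsWeaklyRegular (fun i => hJm (hfJ.le (Ideal.subset_span ⟨i, rfl⟩)))
    ((H13CInt.span_range_append x y).trans (hy.trans hfJ.symm)) hmin
  obtain ⟨hwx, hwy⟩ := H13CInt.isWeaklyRegular_ofFn_append x y hreg
  rw [hx] at hwy
  refine ⟨⟨List.ofFn x, by rw [H13CInt.ofList_ofFn, hx], ?_⟩, ⟨(List.ofFn y).map (Ideal.Quotient.mk I), ?_, ?_⟩⟩
  · rw [IsLocalRing.isRegular_iff_isWeaklyRegular_of_subset_maximalIdeal
      (List.forall_mem_ofFn_iff.2 fun i => hJm (hIJ (hxI i)))]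
    exact hwx
  · rw [← Ideal.map_ofList, H13CInt.ofList_ofFn]
    conv_rhs => rw [← hy, Ideal.map_sup, hx, Ideal.map_quotient_self, bot_sup_eq]
  · haveI := Ideal.Quotient.nontrivial_iff.2 hI
    haveI : IsLocalRing (A ⧸ I) := IsLocalRing.of_surjective' _ Ideal.Quotient.mk_surjective
    haveI : IsLocalHom (Ideal.Quotient.mk I) := IsLocalHom.of_surjective _ Ideal.Quotient.mk_surjective
    rw [IsLocalRing.isRegular_iff_isWeaklyRegular_of_subset_maximalIdeal ?_]
    · exact H13CInt.isWeaklyRegular_map_quotient hwy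
    · intro r hr
      obtain ⟨s, hs, rfl⟩ := List.mem_map.mp hr
      obtain ⟨i, rfl⟩ := (List.mem_ofFn' _ _).mp hs
      rw [IsLocalRing.mem_maximalIdeal, mem_nonunits_iff, isUnit_map_iff]
      exact (IsLocalRing.mem_maximalIdeal _).mp (hJm (hyJ i))

end Groth.Agent.S2200
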