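import Groth.Statements.S9821


set_option autoImplicit false
universe u
open CategoryTheory CategoryTheory.Limits AlgebraicGeometry TopologicalSpace Opposite
open Props

namespace Groth.Agent.S9821

/-- An integral scheme is normal if and only if the coordinate ring of every nonempty affine open is an
integrally closed domain. -/
theorem result (X : Scheme.{u}) [IsIntegral X] :
    Pi1.IsNormalScheme X ↔ ∀ (U : X.Opens) [Nonempty U], IsAffineOpen U → IsIntegrallyClosed Γ(X, U) := by
  constructor
  · intro hN U hne hU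
    refine IsIntegrallyClosed.of_localization_maximal fun q _ hq ↦ ?_
    let p : PrimeSpectrum Γ(X, U) := ⟨q, inferInstance⟩
    · have hx : hU.fromSpec p ∈ U := by
        have : hU.fromSpec p ∈ Set.range hU.fromSpec := ⟨p, rfl⟩
        rwa [hU.range_fromSpec] at this
      have := (hN (hU.fromSpec p)).2
      let := TopCat.Presheaf.algebra_section_stalk X.presheaf (⟨hU.fromSpec p, hx⟩ : U)
      have : IsLocalization p.asIdeal.primeCompl (X.presheaf.stalk (hU.fromSpec p)) :=
        hU.isLocalization_stalk' p hx
      exact IsIntegrallyClosed.of_equiv (IsLocalization.algEquiv p.asIdeal.primeCompl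
        (X.presheaf.stalk (hU.fromSpec p)) (Localization.AtPrime p.asIdeal)).toRingEquiv
  · intro h x
    obtain ⟨U, hU, hxU, -⟩ : ∃ U : X.Opens, IsAffineOpen U ∧ x ∈ U ∧ U ≤ ⊤ :=
      TopologicalSpace.Opens.isBasis_iff_nbhd.mp X.isBasis_affineOpens (U := ⊤) trivial
    have : Nonempty U := ⟨⟨x, hxU⟩⟩
    have := h U hU
    let := TopCat.Presheaf.algebra_section_stalk X.presheaf (⟨x, hxU⟩ : U)
    have := hU.isLocalization_stalk ⟨x, hxU⟩
    have hM : (hU.primeIdealOf ⟨x, hxU⟩).asIdeal.primeCompl ≤ nonZeroDivisors Γ(X, U) :=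
      Ideal.primeCompl_le_nonZeroDivisors _
    exact ⟨IsLocalization.isDomain_of_le_nonZeroDivisors (X.presheaf.stalk x) hM,
      isIntegrallyClosed_of_isLocalization _ _ hM⟩

end Groth.Agent.S9821
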