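import Groth.Statements.S1545
import Mathlib
import Groth.Agent.S2521
import Groth.Agent.H06Desc.Geom

set_option autoImplicit false
universe u
open CategoryTheory CategoryTheory.Limits AlgebraicGeometry
open Variety

namespace Groth.Agent.S1545

/-- For a field extension k' of k, a point x of X and a point x' of X_{k'} over x, X is geometrically
reduced at x if and only if X_{k'} is geometrically reduced at x' (over k'). -/
theorem result (k : Type u) [Field k] (X : Scheme.{u}) [X.Over (Spec (CommRingCat.of k))] (k' : Type u) [Field k'] [Algebra k k']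
    (x : X) (x' : Curv2.bc k X k') (hx : Curv2.bcFst k X k' x' = x) :
    Curv2.IsGeomReducedAt k X x ↔
      @Curv2.IsGeomReducedAt k' _ (Curv2.bc k X k') ⟨Curv2.bcSnd k X k'⟩ x' := by
  open CategoryTheory.Limits in
  set f := X ↘ Spec (CommRingCat.of k)
  set g := Spec.map (CommRingCat.ofHom (algebraMap k k'))
  have key : ∀ (K : Type u) [Field K] [Algebra k' K] [Algebra k K] [IsScalarTower k k' K],
      ∃ e : pullback (pullback.snd f g) (Spec.map (CommRingCat.ofHom (algebraMap k' K))) ≅
        pullback f (Spec.map (CommRingCat.ofHom (algebraMap k K))),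
        e.hom ≫ pullback.fst _ _ = pullback.fst _ _ ≫ pullback.fst f g := by
    intro K _ _ _ _
    have hc : Spec.map (CommRingCat.ofHom (algebraMap k' K)) ≫ g = Spec.map (CommRingCat.ofHom (algebraMap k K)) := by
      rw [← Spec.map_comp, ← CommRingCat.ofHom_comp, ← IsScalarTower.algebraMap_eq]
    refine ⟨pullbackLeftPullbackSndIso f g _ ≪≫ pullback.congrHom rfl hc, ?_⟩
    rw [Iso.trans_hom, Category.assoc, pullback.congrHom_hom]
    erw [pullback.lift_fst, Category.comp_id]
    exact pullbackLeftPullbackSndIso_hom_fst _ _ _
  constructor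
  · intro h
    letI : (Curv2.bc k X k').Over (Spec (CommRingCat.of k')) := ⟨Curv2.bcSnd k X k'⟩
    intro K _ _ x'' hx''
    letI : Algebra k K := ((algebraMap k' K).comp (algebraMap k k')).toAlgebra
    haveI : IsScalarTower k k' K := IsScalarTower.of_algebraMap_eq fun _ => rfl
    obtain ⟨e, he⟩ := key K
    have h1 := h K (e.hom x'') (by
      show (pullback.fst f _) (e.hom x'') = x
      rw [← Scheme.Hom.comp_apply, he, Scheme.Hom.comp_apply]
      exact (congrArg (pullback.fst f g) hx'').trans hx)
    exact isReduced_of_injective (asIso (e.hom.stalkMap x'')).inv.hom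
      (asIso (e.hom.stalkMap x'')).symm.commRingCatIsoToRingEquiv.injective
  · intro h
    obtain ⟨x'', hx''⟩ := (pullback.fst (pullback.snd f g) (Spec.map (CommRingCat.ofHom (algebraMap k' (AlgebraicClosure k'))))).surjective x'
    obtain ⟨e, he⟩ := key (AlgebraicClosure k')
    haveI h1 : _root_.IsReduced ((pullback (pullback.snd f g) (Spec.map (CommRingCat.ofHom (algebraMap k' (AlgebraicClosure k'))))).presheaf.stalk x'') := h (AlgebraicClosure k') x'' hx''
    refine Groth.Agent.S2521.result f x (e.hom x'') ?_ ?_
    · show (pullback.fst f _) (e.hom x'') = x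
      rw [← Scheme.Hom.comp_apply, he, Scheme.Hom.comp_apply, hx'']
      exact hx
    · exact isReduced_of_injective (e.hom.stalkMap x'').hom
        (asIso (e.hom.stalkMap x'')).commRingCatIsoToRingEquiv.injective

end Groth.Agent.S1545
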