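import Groth.Statements.S5038
import Mathlib
import Groth.Agent.H9Hens.SchemeSections
-- import your own Groth.Agent.* helpers here

set_option autoImplicit false
open CategoryTheory AlgebraicGeometry
universe u
open Hensel

namespace Groth.Agent.S5038

/-- Let A be a henselian local ring with residue field k, S = Spec A, and f : X ⟶ S a smooth morphism.
Then the map from sections of f to k-points of the closed fibre is surjective: every u₀ : Spec k ⟶ X
lying over the closed point extends to a section u of f. -/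
theorem result (A : Type u) [CommRing A] [HenselianLocalRing A]
    {X : Scheme.{u}} (f : X ⟶ Spec (CommRingCat.of A)) [Smooth f]
    (u₀ : Spec (CommRingCat.of (IsLocalRing.ResidueField A)) ⟶ X)
    (h₀ : u₀ ≫ f = Spec.map (CommRingCat.ofHom (IsLocalRing.residue A))) :
    ∃ u : Spec (CommRingCat.of A) ⟶ X, u ≫ f = 𝟙 _ ∧
      Spec.map (CommRingCat.ofHom (IsLocalRing.residue A)) ≫ u = u₀ := by
  obtain ⟨S, j, ψ, _, hx, hψ⟩ :=
    H9Hens.exists_affine_chart f (u₀.base (IsLocalRing.closedPoint _))
  obtain ⟨φ, hφ⟩ := H9Hens.exists_lift_of_closedPoint_mem j u₀ hx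
  have hsm : ψ.hom.Smooth := by
    rw [← HasRingHomProperty.Spec_iff (P := @Smooth), hψ]; infer_instance
  algebraize [ψ.hom]
  have hcomp : ψ ≫ φ = CommRingCat.ofHom (IsLocalRing.residue A) := Spec.map_injective (by
    rw [Spec.map_comp, hψ, ← Category.assoc, hφ, h₀])
  let σ : S →ₐ[A] A ⧸ IsLocalRing.maximalIdeal A :=
    { (φ.hom : S →+* A ⧸ IsLocalRing.maximalIdeal A) with
      commutes' := fun a => RingHom.congr_fun (congrArg CommRingCat.Hom.hom hcomp) a }
  have := H9Hens.henselianRing_maximalIdeal A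
  obtain ⟨τ, hτ⟩ := H9Hens.exists_algHom_lift_smooth σ
  refine ⟨Spec.map (CommRingCat.ofHom τ.toRingHom) ≫ j, ?_, ?_⟩
  · rw [Category.assoc, ← hψ, ← Spec.map_comp, ← Spec.map_id]
    congr 1
    ext a
    exact τ.commutes a
  · rw [← hφ, ← Category.assoc, ← Spec.map_comp]
    congr 2
    ext s
    exact AlgHom.congr_fun hτ s

end Groth.Agent.S5038
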