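import Groth.Statements.S10696
import Groth.Agent.H13AlgSp.GlueElem.Chart
-- import your own Groth.Agent.* helpers here

set_option autoImplicit false
set_option backward.isDefEq.respectTransparency false
universe u
open CategoryTheory CategoryTheory.Limits AlgebraicGeometry
open AlgSp

namespace Groth.Agent.S10696

/-- Let `U`, `V` be algebraic spaces over `S`, `V' ⊂ V` an open subspace and `f' : V' → U` a separated
etale morphism. Then there are an algebraic space `W` and morphisms `j : U → W`, `f : V → W` making
the square on `V' → V`, `f'`, `f`, `j` a pushout in the category of algebraic spaces over `S`, with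
`(U ⊂ W, f : V → W)` an elementary distinguished square whose cartesian corner is `V'` (the square
is also a fibre product square). (The published statement does not assert that the square is
cartesian; this row does, as the construction gives it.) -/
theorem result {S : Scheme.{u}} {U V V' : AlgSp.Space S} (jV : V' ⟶ V)
    (hjV : AlgSp.RepWith @IsOpenImmersion jV.hom) (f' : V' ⟶ U) (hsep : AlgSp.IsSeparatedMor f'.hom)
    (het : AlgSp.IsEtaleMor f'.hom) :
    ∃ (W : AlgSp.Space S) (j : U ⟶ W) (f : V ⟶ W), IsPushout jV f' f j ∧
      IsPullback jV.hom f'.hom f.hom j.hom ∧ AlgSp.IsElemDistSq j.hom f.hom := by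
  have hW := Groth.Agent.H13AlgSp.GlueElem.main hjV U.property V.property V'.property het
  have := Groth.Agent.H13AlgSp.GlueElem.mono_jV hjV
  have hp := Groth.Agent.H13AlgSp.GlueElem.isPushout jV.hom f'.hom
  let W : AlgSp.Space S := ⟨_, hW.1⟩
  let j : U ⟶ W := InducedCategory.homMk (Groth.Agent.H13AlgSp.GlueElem.inr jV.hom f'.hom)
  let f : V ⟶ W := InducedCategory.homMk (Groth.Agent.H13AlgSp.GlueElem.inl jV.hom f'.hom)
  refine ⟨W, j, f, ?_, Groth.Agent.H13AlgSp.GlueElem.isPullback jV.hom f'.hom,
    Groth.Agent.H13AlgSp.GlueElem.isElemDistSq hjV U.property V.property V'.property het⟩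
  refine IsPushout.of_isColimit' ⟨InducedCategory.hom_ext hp.w⟩ (PushoutCocone.IsColimit.mk _
    (fun s => InducedCategory.homMk (hp.desc s.inl.hom s.inr.hom (congrArg InducedCategory.Hom.hom s.condition)))
    (fun s => InducedCategory.hom_ext (hp.inl_desc _ _ _)) (fun s => InducedCategory.hom_ext (hp.inr_desc _ _ _))
    (fun s m h₁ h₂ => InducedCategory.hom_ext (hp.hom_ext ?_ ?_)))
  · exact (congrArg InducedCategory.Hom.hom h₁).trans (hp.inl_desc _ _ _).symm
  · exact (congrArg InducedCategory.Hom.hom h₂).trans (hp.inr_desc _ _ _).symm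

end Groth.Agent.S10696
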