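import Groth.Statements.S9987
import Groth.Agent.H12AlgSp.EtStalk

set_option autoImplicit false
set_option backward.isDefEq.respectTransparency false
universe u
open CategoryTheory CategoryTheory.Limits AlgebraicGeometry Opposite
open AlgSp

namespace Groth.Agent.S9987

/-- For a closed immersion i : Z ⟶ X of algebraic spaces over S (representable, every base change to a
scheme a closed immersion), the comparison map O_X ⟶ i_* O_Z of sheaves of rings on the small etale
site of X is locally surjective. (The published statement also asserts that i_* O_Z is a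
quasi-coherent O_X-module and that the kernel of O_X ⟶ i_* O_Z is a quasi-coherent sheaf of ideals;
those two assertions are the closed-immersion cases of the general facts that direct images along
quasi-compact quasi-separated morphisms preserve quasi-coherence and that the kernel ideal of a
quasi-compact morphism is quasi-coherent, a closed immersion being quasi-compact and separated, and
only the surjectivity is stated here.) -/
theorem result {S : Scheme.{u}} {Z X : AlgSp.Space S} (i : Z ⟶ X)
    (hi : AlgSp.RepWith @IsClosedImmersion i.hom) :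
    Presheaf.IsLocallySurjective (AlgSp.etTop X.obj) (AlgSp.bcRingHom hi.1).hom := by
  refine ⟨fun {E} s => Groth.Agent.H12AlgSp.mem_etTop_of_forall_point _ fun x => ?_⟩
  obtain ⟨(A : E.obj.left.left.Opens), hA, hxA, -⟩ := TopologicalSpace.Opens.isBasis_iff_nbhd.mp E.obj.left.left.isBasis_affineOpens
    (TopologicalSpace.Opens.mem_top x)
  let T : Over S := Over.mk (A.ι ≫ E.obj.left.hom)
  let j : T ⟶ E.obj.left := Over.homMk A.ι rfl
  have hT : RepWith @Etale ((AlgSp.yon S).map j ≫ E.obj.hom) :=
    (RepWith (S := S) @Etale).comp_mem _ _ ((repWith_yon_map_iff _ _).2 (inferInstanceAs (Etale A.ι))) E.property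
  let E' : EtOver X.obj := EtOver.mk ((AlgSp.yon S).map j ≫ E.obj.hom) hT
  let g : E' ⟶ E := EtOver.homMk j rfl
  refine ⟨E', g, ⟨x, hxA⟩, ?_, rfl⟩
  have hc : IsClosedImmersion (hi.1.snd E'.obj.hom).left :=
    hi.property E'.obj.hom (hi.1.fst E'.obj.hom) (hi.1.snd E'.obj.hom) (hi.1.isPullback E'.obj.hom)
  have : IsAffine A.toScheme := hA
  have hsur : Function.Surjective (hi.1.snd E'.obj.hom).left.appTop.hom :=
    (hi.1.snd E'.obj.hom).left.app_surjective ⊤ (isAffineOpen_top A.toScheme)
  obtain ⟨w, hw⟩ := hsur ((EtOver.bcMap hi.1 g).hom.left.left.appTop.hom s.down)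
  exact ⟨ULift.up w, ULift.ext _ _ hw⟩

end Groth.Agent.S9987
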