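import Groth.Statements.S6279
import Groth.Agent.H1CAlg.Normal
import Mathlib.Algebra.Ring.Pi
import Mathlib.RingTheory.Spectrum.Prime.Basic
import Mathlib.Algebra.Ring.Equiv

set_option autoImplicit false
universe u
open CAlg

namespace Groth.Agent.S6279

/-- A finite product of normal rings is normal (a ring is normal when every localization at a prime is
an integrally closed domain). -/
theorem result {ι : Type u} [Finite ι] (A : ι → Type u) [∀ i, CommRing (A i)] (hA : ∀ i, EGA4.IsNormalRing (A i)) : EGA4.IsNormalRing (∀ i, A i) := by
  intro q _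
  classical
  cases nonempty_fintype ι
  -- `q` is pulled back from one factor
  obtain ⟨i, hi⟩ : ∃ i, (Pi.single i (1 : A i)) ∉ q := by
    by_contra hall
    push_neg at hall
    refine (inferInstance : q.IsPrime).ne_top ((Ideal.eq_top_iff_one _).mpr ?_)
    rw [show (1 : ∀ i, A i) = ∑ i, Pi.single i (1 : A i) from (Finset.univ_sum_single (1 : ∀ i, A i)).symm]
    exact q.sum_mem fun i _ => hall i
  let π := Pi.evalRingHom A i
  have hπ : Function.Surjective π := fun x => ⟨Pi.single i x, by simp [π]⟩
  have hker : RingHom.ker π ≤ q := fun x hx => by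
    have : x * Pi.single i (1 : A i) = 0 := by
      funext j
      by_cases h : j = i
      · subst h; simp [show x j = 0 from hx]
      · simp [h]
    exact ((inferInstance : q.IsPrime).mem_or_mem (this ▸ q.zero_mem)).resolve_right hi
  let P : Ideal (A i) := q.map π
  haveI : P.IsPrime := Ideal.map_isPrime_of_surjective hπ hker
  have hqP : q = P.comap π := by
    rw [Ideal.comap_map_of_surjective _ hπ]
    exact (sup_eq_left.mpr hker).symm
  let F := Localization.localRingHom q P π hqP
  have hbij : Function.Bijective F := by
    constructor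
    · rw [injective_iff_map_eq_zero]
      intro x hx
      obtain ⟨a, s, rfl⟩ := IsLocalization.exists_mk'_eq q.primeCompl x
      rw [Localization.localRingHom_mk', IsLocalization.mk'_eq_zero_iff] at hx
      obtain ⟨u, hu⟩ := hx
      rw [IsLocalization.mk'_eq_zero_iff]
      refine ⟨⟨Pi.single i (u : A i), fun h => u.2 ?_⟩, ?_⟩
      · have := Ideal.mem_map_of_mem π h
        simpa [π] using this
      · funext j
        by_cases h : j = i
        · subst h; simpa [π] using hu
        · simp [h]
    · intro y
      obtain ⟨a, s, rfl⟩ := IsLocalization.exists_mk'_eq P.primeCompl y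
      obtain ⟨a', ha⟩ := hπ a
      obtain ⟨s', hs⟩ := hπ (s : A i)
      refine ⟨IsLocalization.mk' _ a' (⟨s', fun h => s.2 (hs ▸ Ideal.mem_map_of_mem π h)⟩ : q.primeCompl), ?_⟩
      rw [Localization.localRingHom_mk']
      exact congrArg₂ _ ha (Subtype.ext hs)
  let e := RingEquiv.ofBijective F hbij
  obtain ⟨hd, hc⟩ := hA i P
  exact ⟨e.toMulEquiv.isDomain (Localization.AtPrime P), IsIntegrallyClosed.of_equiv e.symm⟩

end Groth.Agent.S6279
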