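import Groth.Statements.S10239
import Groth.Agent.H12AlgSp.EtBranches

set_option autoImplicit false
universe u
open CategoryTheory CategoryTheory.Limits AlgebraicGeometry Topology TopologicalSpace
open AlgSp

namespace Groth.Agent.S10239

/-- (1) ⇔ (4) ⇔ (5): let X be an algebraic space over a scheme S, x ∈ |X| and n ≥ 1 an integer. The
following are equivalent: (1) for every scheme U, etale h_U ⟶ X and u ∈ U over x the local ring of U
at u has at most n minimal primes, and for some such (U, u) exactly n; (4) for every such (U, u) the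
number of geometric branches of U at u is n; (5) for every geometric point x̄ over x the etale local
ring of X at x̄ has exactly n minimal primes. -/
theorem result {S : Scheme.{u}} (X : AlgSp.Space S) (x : AlgSp.Points X.obj)
    (n : ℕ) (hn : 1 ≤ n) :
    (((∀ (U : Over S) (a : (AlgSp.yon S).obj U ⟶ X.obj) (u : ↥U.left),
        AlgSp.RepWith @Etale a → AlgSp.Points.ofPt a u = x → (minimalPrimes ↥(U.left.presheaf.stalk u)).encard ≤ n) ∧
        AlgSp.HasAt (fun U u => (minimalPrimes ↥(U.presheaf.stalk u)).encard = n) X.obj x) ↔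
      (∀ (U : Over S) (a : (AlgSp.yon S).obj U ⟶ X.obj) (u : ↥U.left),
        AlgSp.RepWith @Etale a → AlgSp.Points.ofPt a u = x → Brnch.numGeomBranchesAt U.left u = n)) ∧
    ((∀ (U : Over S) (a : (AlgSp.yon S).obj U ⟶ X.obj) (u : ↥U.left),
        AlgSp.RepWith @Etale a → AlgSp.Points.ofPt a u = x → Brnch.numGeomBranchesAt U.left u = n) ↔
      ∀ p : AlgSp.FieldPt X.obj, p.IsGeometric → AlgSp.Points.mk p = x →
        (minimalPrimes ↥(AlgSp.OEtStalk p)).encard = n) := by
  have hX := X.property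
  let Chart := fun (P : ∀ (U : Over S), ↥U.left → Prop) => ∀ (U : Over S) (a : (AlgSp.yon S).obj U ⟶ X.obj)
    (u : ↥U.left), AlgSp.RepWith @Etale a → AlgSp.Points.ofPt a u = x → P U u
  have key : ∀ (p : AlgSp.FieldPt X.obj), p.IsGeometric → ∀ (U : Over S) (a : (AlgSp.yon S).obj U ⟶ X.obj)
      (u : ↥U.left), AlgSp.RepWith @Etale a → AlgSp.Points.ofPt a u = AlgSp.Points.mk p →
      (minimalPrimes ↥(AlgSp.OEtStalk p)).encard = Brnch.numGeomBranchesAt U.left u ∧
      (minimalPrimes ↥(U.left.presheaf.stalk u)).encard ≤ (minimalPrimes ↥(AlgSp.OEtStalk p)).encard := by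
    intro p hp U a u ha hu
    have := Groth.Agent.H12AlgSp.isSepClosed_of_isGeometric hp
    obtain ⟨ξ, rfl, ⟨e⟩⟩ := Groth.Agent.H12AlgSp.exists_stalk_equiv hX hp ha hu
    rw [Groth.Agent.H12AlgSp.encard_minimalPrimes_congr e, Groth.Agent.H12AlgSp.encard_minimalPrimes_etaleLocalRing]
    exact ⟨rfl, (Groth.Agent.H12AlgSp.encard_minimalPrimes_stalk_le ξ).trans
      (Groth.Agent.H12AlgSp.encard_minimalPrimes_etaleLocalRing ξ).le⟩
  have h54 : (∀ p : AlgSp.FieldPt X.obj, p.IsGeometric → AlgSp.Points.mk p = x →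
        (minimalPrimes ↥(AlgSp.OEtStalk p)).encard = n) →
      Chart (fun U u => Brnch.numGeomBranchesAt U.left u = n) := by
    intro h U a u ha hu
    obtain ⟨p, hp, hpx⟩ := Groth.Agent.H12AlgSp.exists_geometric_over hX x
    exact ((key p hp U a u ha (hu.trans hpx.symm)).1).symm.trans (h p hp hpx)
  have h45 : Chart (fun U u => Brnch.numGeomBranchesAt U.left u = n) →
      ∀ p : AlgSp.FieldPt X.obj, p.IsGeometric → AlgSp.Points.mk p = x →
        (minimalPrimes ↥(AlgSp.OEtStalk p)).encard = n := by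
    intro h p hp hpx
    obtain ⟨U, a, ha, has⟩ := hX.atlas
    obtain ⟨u, hu⟩ := Groth.Agent.H12AlgSp.surjective_ofPt_of_repWith le_rfl has x
    exact ((key p hp U a u ha (hu.trans hpx.symm)).1).trans (h U a u ha hu)
  refine ⟨⟨fun ⟨hle, U₀, a₀, u₀, ha₀, hu₀, heq⟩ => h54 fun p hp hpx => ?_, fun h => ?_⟩, ⟨h45, h54⟩⟩
  · have := Groth.Agent.H12AlgSp.isSepClosed_of_isGeometric hp
    refine le_antisymm (le_of_not_gt fun hlt => ?_) ?_
    · obtain ⟨Q, hQ, hQn⟩ := Set.exists_subset_encard_eq (Order.add_one_le_of_lt hlt)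
      have hfin : Q.Finite := Set.finite_of_encard_eq_coe (k := n + 1) (by rw [hQn]; push_cast; rfl)
      obtain ⟨U, a, u, ha, hu, h⟩ := Groth.Agent.H12AlgSp.exists_chart_encard_le hX hp hfin.toFinset
        (fun q hq => hQ (hfin.mem_toFinset.1 hq))
      have h2 : ((n + 1 : ℕ) : ℕ∞) ≤ n := by
        refine le_trans (le_of_eq ?_) (h.trans (hle U a u ha (hu.trans hpx)))
        rw [← hfin.encard_eq_coe_toFinset_card, hQn]
        push_cast
        rfl
      exact absurd (Nat.cast_le.1 h2) (Nat.not_succ_le_self n)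
    · exact heq.ge.trans (key p hp U₀ a₀ u₀ ha₀ (hu₀.trans hpx.symm)).2
  · obtain ⟨p, hp, hpx⟩ := Groth.Agent.H12AlgSp.exists_geometric_over hX x
    have := Groth.Agent.H12AlgSp.isSepClosed_of_isGeometric hp
    have hn' := h45 h p hp hpx
    have hfin : (minimalPrimes ↥(AlgSp.OEtStalk p)).Finite := Set.finite_of_encard_eq_coe hn'
    obtain ⟨U, a, u, ha, hu, hge⟩ := Groth.Agent.H12AlgSp.exists_chart_encard_le hX hp hfin.toFinset
      (fun q hq => hfin.mem_toFinset.1 hq)
    rw [← hfin.encard_eq_coe_toFinset_card, hn'] at hge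
    refine ⟨fun U' a' u' ha' hu' => (key p hp U' a' u' ha' (hu'.trans hpx.symm)).2.trans hn'.le,
      U, a, u, ha, hu.trans hpx, ?_⟩
    exact le_antisymm ((key p hp U a u ha hu).2.trans hn'.le) hge

end Groth.Agent.S10239
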