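import Groth.Statements.S1182
import Groth.Agent.H05EGA4.NormalTensorGeom
import Groth.Agent.H18Et.EtaleNormal
import Groth.Agent.H7Flat.SpecializationDense
import Mathlib.RingTheory.RingHom.StandardSmooth
import Mathlib.RingTheory.Smooth.StandardSmoothOfFree

set_option autoImplicit false
universe u
open Desc

namespace Groth.Agent.S1182



theorem isNormalRing_of_domain (R : Type u) [CommRing R] [IsDomain R] [IsIntegrallyClosed R] :
    EGA4.IsNormalRing R := fun p _ =>
  ⟨IsLocalization.isDomain_of_le_nonZeroDivisors _ p.primeCompl_le_nonZeroDivisors,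
    isIntegrallyClosed_of_isLocalization (Localization.AtPrime p) p.primeCompl p.primeCompl_le_nonZeroDivisors⟩

theorem isNormalRing_mvPolynomial (R : Type u) [CommRing R] (h : EGA4.IsNormalRing R) (n : ℕ) :
    EGA4.IsNormalRing (MvPolynomial (Fin n) R) := by
  intro P hP
  let p := P.comap (algebraMap R (MvPolynomial (Fin n) R))
  obtain ⟨h1, h2⟩ := h p
  haveI := h1
  haveI := h2
  letI : Algebra (MvPolynomial (Fin n) R) (MvPolynomial (Fin n) (Localization.AtPrime p)) :=
    MvPolynomial.algebraMvPolynomial
  haveI : IsLocalization (p.primeCompl.map MvPolynomial.C)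
      (MvPolynomial (Fin n) (Localization.AtPrime p)) :=
    MvPolynomial.isLocalization p.primeCompl (Localization.AtPrime p)
  haveI : IsIntegrallyClosed (MvPolynomial (Fin n) (Localization.AtPrime p)) :=
    Groth.Agent.H7Flat.isIntegrallyClosed_mvPolynomial_fin (Localization.AtPrime p) n
  refine Groth.Agent.H05EGA4.normal_atPrime_of_isLocalization (p.primeCompl.map MvPolynomial.C)
    (isNormalRing_of_domain (MvPolynomial (Fin n) (Localization.AtPrime p))) P ?_
  rintro _ ⟨r, hr, rfl⟩ hmem
  exact hr hmem

theorem isNormalRing_of_standardSmooth (R S : Type u) [CommRing R] [CommRing S] [Algebra R S]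
    [Algebra.IsStandardSmooth R S] (h : EGA4.IsNormalRing R) : EGA4.IsNormalRing S := by
  obtain ⟨n, g, -, hg⟩ := RingHom.IsStandardSmooth.exists_etale_mvPolynomial
    (RingHom.isStandardSmooth_algebraMap.mpr ‹Algebra.IsStandardSmooth R S›)
  letI := g.toAlgebra
  haveI : Algebra.Etale (MvPolynomial (Fin n) R) S := hg
  intro q _
  obtain ⟨h1, h2⟩ := isNormalRing_mvPolynomial R h n (q.comap (algebraMap (MvPolynomial (Fin n) R) S))
  exact Groth.Agent.H18Et.EtaleNormal.isDomain_isIntegrallyClosed_atPrime_of_atPrime _ S q h1 h2



/-- Let A → B be a smooth ring map. If A is a normal ring (all local rings integrally closed domains)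
then so is B; and if moreover A → B is faithfully flat and B is normal, then A is normal. So
normality can be checked smooth-locally. -/
theorem result (A B : Type u) [CommRing A] [CommRing B] [Algebra A B] [Algebra.Smooth A B] :
    (EGA4.IsNormalRing A → EGA4.IsNormalRing B) ∧
    (Module.FaithfullyFlat A B → EGA4.IsNormalRing B → EGA4.IsNormalRing A) := by
  refine ⟨fun hA q _ => ?_, fun hff hB => ?_⟩
  · haveI : Algebra.IsSmoothAt A q := inferInstance
    obtain ⟨g, hg, hS⟩ := Algebra.IsSmoothAt.exists_notMem_isStandardSmooth A q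
    haveI := hS
    refine Groth.Agent.H05EGA4.normal_atPrime_of_isLocalization (Submonoid.powers g)
      (isNormalRing_of_standardSmooth A (Localization.Away g) hA) q ?_
    rintro _ ⟨k, rfl⟩ hmem
    exact hg (Ideal.IsPrime.mem_of_pow_mem inferInstance k hmem)
  · haveI := hff
    exact Groth.Agent.H05EGA4.isNormalRing_of_faithfullyFlat hB

end Groth.Agent.S1182
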