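import Groth.Statements.S2070
import Groth.Agent.H05EGA4.NormalTensorGeom
import Groth.Agent.S1182

set_option autoImplicit false
universe u
open CAlg

namespace Groth.Agent.S2070

open TensorProduct Groth.Agent

theorem isNormal_perfect {k A : Type u} [Field k] [CommRing A] [Algebra k A]
    (h : ∀ (k' : Type u) [Field k'] [Algebra k k'], Module.Finite k k' → IsPurelyInseparable k k' →
      EGA4.IsNormalRing (k' ⊗[k] A))
    (P : Type u) [Field P] [Algebra k P] [IsPurelyInseparable k P] : EGA4.IsNormalRing (A ⊗[k] P) := by
  haveI : Algebra.IsAlgebraic k P := IsPurelyInseparable.isAlgebraic k P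
  refine H05EGA4.isNormalRing_of_cover fun Fs => ?_
  obtain ⟨B0, hB0, hsub⟩ := H05EGA4.exists_fg_subalgebra_finset Fs
  haveI : Algebra.FiniteType k B0 := (Subalgebra.fg_iff_finiteType _).mp hB0
  haveI : Algebra.IsIntegral k B0 :=
    ⟨fun x => (isIntegral_algHom_iff B0.val Subtype.val_injective).1 (Algebra.IsIntegral.isIntegral (x : P))⟩
  letI : Field B0 := (isField_of_isIntegral_of_isField' (Field.toIsField k) : IsField B0).toField
  haveI : IsPurelyInseparable k B0 := by
    rw [isPurelyInseparable_iff_pow_mem k (ringExpChar k)]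
    intro x
    obtain ⟨n, y, hy⟩ := IsPurelyInseparable.pow_mem k (ringExpChar k) (x : P)
    exact ⟨n, y, Subtype.ext hy⟩
  exact ⟨_, inferInstance, (Algebra.TensorProduct.map (AlgHom.id k A) B0.val).toRingHom,
    H05EGA4.tensorProductMap_injective _ Subtype.val_injective,
    H05EGA4.isNormalRing_of_ringEquiv (Algebra.TensorProduct.comm k B0 A).toRingEquiv
      (h B0 Algebra.IsIntegral.finite inferInstance),
    hsub⟩

theorem isGeomNormal_of_perfect {P C : Type u} [Field P] [PerfectField P] [CommRing C] [Algebra P C]
    (hC : EGA4.IsNormalRing C) : EGA4.IsGeomNormal P C := by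
  intro F _ _ hF
  haveI := hF
  haveI : Algebra.IsAlgebraic P F := Algebra.IsAlgebraic.of_finite P F
  haveI : Algebra.IsSeparable P F := inferInstance
  haveI : Algebra.FormallyEtale P F := Algebra.FormallyEtale.of_isSeparable P F
  haveI : Algebra.FinitePresentation P F := Algebra.FinitePresentation.of_finiteType.mp inferInstance
  haveI : Algebra.Etale P F := ⟨inferInstance, inferInstance⟩
  haveI : Algebra.Smooth C (C ⊗[P] F) := inferInstance
  exact H05EGA4.isNormalRing_of_ringEquiv (Algebra.TensorProduct.comm P C F).toRingEquiv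
    ((S1182.result C (C ⊗[P] F)).1 hC)

theorem isNormal_algebraic {k A : Type u} [Field k] [CommRing A] [Algebra k A]
    (h : ∀ (k' : Type u) [Field k'] [Algebra k k'], Module.Finite k k' → IsPurelyInseparable k k' →
      EGA4.IsNormalRing (k' ⊗[k] A))
    (P L : Type u) [Field P] [Algebra k P] [IsPurelyInseparable k P] [PerfectField P]
    [Field L] [Algebra k L] [Algebra P L] [IsScalarTower k P L] [Algebra.IsAlgebraic P L] :
    EGA4.IsNormalRing (A ⊗[k] L) := by
  have h1 : EGA4.IsNormalRing (P ⊗[k] A) :=
    H05EGA4.isNormalRing_of_ringEquiv (Algebra.TensorProduct.comm k A P).toRingEquiv (isNormal_perfect h P)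
  exact H05EGA4.isNormalRing_of_ringEquiv (Algebra.TensorProduct.comm k L A).toRingEquiv
      (H05EGA4.isNormalRing_of_ringEquiv (Algebra.TensorProduct.cancelBaseChange k P P L A).toRingEquiv
        (H05EGA4.isNormalRing_of_ringEquiv (Algebra.TensorProduct.comm P (P ⊗[k] A) L).toRingEquiv
          (H05EGA4.isNormalRing_tensor_of_isAlgebraic (isGeomNormal_of_perfect h1) L)))

theorem isGeomNormal_of_purelyInseparable {k A : Type u} [Field k] [CommRing A] [Algebra k A]
    (h : ∀ (k' : Type u) [Field k'] [Algebra k k'], Module.Finite k k' → IsPurelyInseparable k k' →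
      EGA4.IsNormalRing (k' ⊗[k] A)) : EGA4.IsGeomNormal k A := by
  let L := AlgebraicClosure k
  let P := perfectClosure k L
  haveI : PerfectField L := inferInstance
  haveI : PerfectField P := inferInstance
  haveI : Algebra.IsAlgebraic P L := Algebra.IsAlgebraic.tower_top (K := k) P
  have h3 : EGA4.IsNormalRing (A ⊗[k] L) := isNormal_algebraic h P L
  intro k' _ _ hk'
  haveI := hk'
  haveI : Algebra.IsAlgebraic k k' := Algebra.IsAlgebraic.of_finite k k'
  let j : k' →ₐ[k] L := IsAlgClosed.lift
  letI : Algebra k' L := j.toRingHom.toAlgebra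
  haveI : IsScalarTower k k' L := IsScalarTower.of_algebraMap_eq fun r => (j.commutes r).symm
  letI := (Algebra.TensorProduct.map (AlgHom.id k A) (IsScalarTower.toAlgHom k k' L)).toRingHom.toAlgebra
  haveI := H05EGA4.faithfullyFlat_tensorProductMap (k := k) A k' L
  exact H05EGA4.isNormalRing_of_ringEquiv (Algebra.TensorProduct.comm k A k').toRingEquiv
    (H05EGA4.isNormalRing_of_faithfullyFlat (S := A ⊗[k] L) h3)

theorem isNormalRing_field (K : Type u) [Field K] : EGA4.IsNormalRing K :=
  S1182.isNormalRing_of_domain K

/-- Let `A` be an algebra over a field `k`. Then all local rings of `k' ⊗ A` are integrally closed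
domains for every field extension `k'/k` if and only if this holds for every finite purely
inseparable extension `k'/k` (extensions in the same universe). -/
theorem result {k A : Type u} [Field k] [CommRing A] [Algebra k A] :
    (∀ (k' : Type u) [Field k'] [Algebra k k'] (P : Ideal (k' ⊗[k] A)) [P.IsPrime],
        IsDomain (Localization.AtPrime P) ∧ IsIntegrallyClosed (Localization.AtPrime P)) ↔
      ∀ (k' : Type u) [Field k'] [Algebra k k'], Module.Finite k k' → IsPurelyInseparable k k' →
        ∀ (P : Ideal (k' ⊗[k] A)) [P.IsPrime],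
          IsDomain (Localization.AtPrime P) ∧ IsIntegrallyClosed (Localization.AtPrime P) := by
  refine ⟨fun h k' _ _ _ _ => h k', fun h k' _ _ => ?_⟩
  exact H05EGA4.isNormalRing_of_ringEquiv (Algebra.TensorProduct.comm k A k').toRingEquiv
    (H05EGA4.isNormalRing_tensor_of_isGeomNormal_general
      (isGeomNormal_of_purelyInseparable fun k'' _ _ hf hp => h k'' hf hp) k' (isNormalRing_field k'))

end Groth.Agent.S2070
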