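import Groth.Statements.S1366
import Groth.Agent.S7409
import Groth.Agent.H06Proper.HenselianProperPart
import Groth.Agent.H9Hens.ProperPairApps

set_option backward.isDefEq.respectTransparency false

set_option autoImplicit false
universe u
open FlatMor

namespace Groth.Agent.S1366

open AlgebraicGeometry CategoryTheory Limits in
/-- Let (A, I) be a henselian pair and X a separated scheme of finite type over Spec A, with X_0 its
base change to Spec (A/I). If Y is an open and closed subset of X_0 which (as an open subscheme) is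
proper over Spec (A/I), then there is an open and closed subset W of X, proper over Spec A as an
open subscheme, whose preimage in X_0 is exactly Y. -/
theorem result {A : Type u} [CommRing A] (I : Ideal A) [HenselianRing A I]
    {X : Scheme.{u}} (f : X ⟶ Spec (CommRingCat.of A)) [IsSeparated f] [LocallyOfFiniteType f] [QuasiCompact f]
    (Y : (pullback f (Spec.map (CommRingCat.ofHom (Ideal.Quotient.mk I)))).Opens) (hYc : IsClosed (Y : Set ↑(pullback f (Spec.map (CommRingCat.ofHom (Ideal.Quotient.mk I))))))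
    (hYp : IsProper (Y.ι ≫ pullback.snd f (Spec.map (CommRingCat.ofHom (Ideal.Quotient.mk I))))) :
    ∃ W : X.Opens, IsClosed (W : Set ↑X) ∧ IsProper (W.ι ≫ f) ∧
      pullback.fst f (Spec.map (CommRingCat.ofHom (Ideal.Quotient.mk I))) ⁻¹ᵁ W = Y := by
  let q := Spec.map (CommRingCat.ofHom (Ideal.Quotient.mk I))
  let V0 : Set (Spec (CommRingCat.of A)) := PrimeSpectrum.zeroLocus (I : Set A)
  have hV0 : IsClosed V0 := PrimeSpectrum.isClosed_zeroLocus _
  haveI : IsClosedImmersion q := IsClosedImmersion.spec_of_surjective _ Ideal.Quotient.mk_surjective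
  let ι₀ := pullback.fst f q
  haveI : IsClosedImmersion ι₀ := inferInstance
  let Ys : Set X := ι₀ '' (Y : Set ↑(pullback f q))
  -- every nonempty closed subset of the base meets the closed fibre
  have hmeet : ∀ T : Set (Spec (CommRingCat.of A)), IsClosed T → T.Nonempty → (T ∩ V0).Nonempty := by
    rintro T hT ⟨z, hz⟩
    obtain ⟨M, hM, hle⟩ := Ideal.exists_le_maximal z.asIdeal z.2.ne_top
    let zM : Spec (CommRingCat.of A) := ⟨M, hM.isPrime⟩
    have hsp : z ⤳ zM := (PrimeSpectrum.le_iff_specializes z zM).1 hle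
    refine ⟨zM, hsp.mem_closed hT hz, ?_⟩
    show (I : Set A) ⊆ M
    intro a ha
    have hj := (HenselianRing.jac (R := A) (I := I)) ha
    rw [Ideal.jacobson, Ideal.mem_sInf] at hj
    exact hj ⟨bot_le, hM⟩
  obtain ⟨n, X', π, j, hj, hjS, hπ, hsurj⟩ := Groth.Agent.S7409.result f
  haveI := hj
  haveI := hπ
  haveI := hsurj
  let t := CohB1.ProjSpaceOver.toBase n (Spec (CommRingCat.of A))
  have htj : ∀ a, t (j a) = f (π a) := fun a => by
    rw [← Scheme.Hom.comp_apply, hjS, Scheme.Hom.comp_apply]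
  -- the image of the proper part in the projective space
  let c := pullback.fst π (Y.ι ≫ ι₀) ≫ j
  haveI : IsProper (c ≫ t) := by
    have e : c ≫ t = pullback.snd π (Y.ι ≫ ι₀) ≫ (Y.ι ≫ pullback.snd f q) ≫ q := by
      simp only [c, t, Category.assoc, hjS]
      rw [pullback.condition_assoc]
      simp only [ι₀, Category.assoc]
      rw [pullback.condition]
    rw [e]
    haveI := hYp
    haveI : IsProper q := inferInstance
    haveI : IsProper ((Y.ι ≫ pullback.snd f q) ≫ q) := inferInstance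
    infer_instance
  haveI : IsProper c := IsProper.of_comp c t
  let D0 := Set.range c
  have hD0 : IsClosed D0 := c.isClosedMap.isClosed_range
  have hD0' : D0 = j '' (π ⁻¹' Ys) := by
    show Set.range c = _
    rw [Scheme.Hom.comp_base, TopCat.coe_comp, Set.range_comp, Scheme.Pullback.range_fst]
    congr 2
    rw [Scheme.Hom.comp_base, TopCat.coe_comp, Set.range_comp, Scheme.Opens.range_ι]
  have hrange : Set.range ι₀ = f ⁻¹' V0 := Groth.Agent.H9Hens.ProperPairApps.range_fst_quotient I f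
  let C : Set X' := π ⁻¹' (ι₀ '' (Y : Set ↑(pullback f q))ᶜ)
  have hC : IsClosed C :=
    (ι₀.isClosedEmbedding.isClosedMap _ Y.2.isClosed_compl).preimage π.continuous
  -- the closure of the image of `j`
  let Zc : TopologicalSpace.Closeds (CohB1.ProjSpaceOver n (Spec (CommRingCat.of A))) :=
    ⟨closure (Set.range j), isClosed_closure⟩
  let i := (Scheme.IdealSheafData.vanishingIdeal Zc).subschemeι
  have hi : Set.range i = closure (Set.range j) := H17.range_vanishingIdeal_subschemeι _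
  let B := closure (Set.range j) \ Set.range j
  have hB : IsClosed B := by
    have : B = (coborder (Set.range j))ᶜ := by
      simp [B, coborder, Set.sdiff_eq]
    rw [this]
    exact j.isLocallyClosed_range.isOpen_coborder.isClosed_compl
  -- closed subsets of `X'` are closed in the projective space up to `B`
  have hclj : ∀ T : Set X', IsClosed T → IsClosed (B ∪ j '' T) := by
    intro T hT
    have : B ∪ j '' T = B ∪ closure (j '' T) := by
      refine Set.Subset.antisymm (Set.union_subset_union_right _ subset_closure) ?_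
      rintro x (hx | hx)
      · exact Or.inl hx
      · by_cases hxr : x ∈ Set.range j
        · obtain ⟨a, rfl⟩ := hxr
          have ha : a ∈ closure T := by
            rw [j.isEmbedding.isInducing.closure_eq_preimage_closure_image]
            exact hx
          rw [hT.closure_eq] at ha
          exact Or.inr ⟨a, ha, rfl⟩
        · exact Or.inl ⟨closure_mono (Set.image_subset_range _ _) hx, hxr⟩
    rw [this]
    exact hB.union isClosed_closure
  let K := B ∪ j '' C
  have hK : IsClosed K := hclj C hC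
  let i₀ := pullback.fst (i ≫ t) q
  have hrange' : Set.range i₀ = (i ≫ t) ⁻¹' V0 :=
    Groth.Agent.H9Hens.ProperPairApps.range_fst_quotient I (i ≫ t)
  -- over the closed fibre the closure is the disjoint union of `D0` and `K`
  have hdk : ∀ a, (i ≫ t) a ∈ V0 → (i a ∈ D0 ↔ i a ∉ K) := by
    intro a ha
    rw [Scheme.Hom.comp_apply] at ha
    constructor
    · intro hD hK'
      rw [hD0'] at hD
      obtain ⟨b, hb, hba⟩ := hD
      rcases hK' with hK' | ⟨b', hb', hba'⟩
      · exact hK'.2 ⟨b, hba⟩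
      · obtain rfl := j.isEmbedding.injective (hba'.trans hba.symm)
        obtain ⟨y, hy, hy'⟩ := hb
        obtain ⟨y', hy1, hy1'⟩ := hb'
        obtain rfl := ι₀.isClosedEmbedding.injective (hy'.trans hy1'.symm)
        exact hy1 hy
    · intro hnK
      have hac : i a ∈ closure (Set.range j) := hi.le ⟨a, rfl⟩
      by_cases hr : i a ∈ Set.range j
      · obtain ⟨b, hb⟩ := hr
        have hb0 : π b ∈ Set.range ι₀ := by
          rw [hrange]
          show f (π b) ∈ V0
          rw [← htj, hb]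
          exact ha
        obtain ⟨y, hy⟩ := hb0
        rw [hD0']
        refine ⟨b, ?_, hb⟩
        by_contra hyY
        exact hnK (Or.inr ⟨b, ⟨y, fun hy' => hyY ⟨y, hy', hy⟩, hy⟩, hb⟩)
      · exact absurd (Or.inl ⟨hac, hr⟩) hnK
  let V : Set ↑(pullback (i ≫ t) q) := i₀ ⁻¹' (i ⁻¹' D0)
  have hV : IsClopen V := by
    refine ⟨(hD0.preimage i.continuous).preimage i₀.continuous, isClosed_compl_iff.1 ?_⟩
    have : Vᶜ = i₀ ⁻¹' (i ⁻¹' K) := by
      ext v
      have hv : (i ≫ t) (i₀ v) ∈ V0 := hrange'.le ⟨v, rfl⟩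
      show ¬ (i (i₀ v) ∈ D0) ↔ i (i₀ v) ∈ K
      rw [hdk _ hv, not_not]
    rw [this]
    exact (hK.preimage i.continuous).preimage i₀.continuous
  obtain ⟨U, ⟨hU, hUV⟩, -⟩ := Groth.Agent.H9Hens.ProperPairApps.uniqueLift_fibre I (i ≫ t) V hV
  have hUD : ∀ a, (i ≫ t) a ∈ V0 → (a ∈ U ↔ i a ∈ D0) := by
    intro a ha
    obtain ⟨v, rfl⟩ := hrange'.ge ha
    exact Set.ext_iff.1 hUV v
  let W1 := i '' U
  let W2 := i '' Uᶜ
  have hW1 : IsClosed W1 := i.isClosedEmbedding.isClosedMap _ hU.1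
  have hW2 : IsClosed W2 := i.isClosedEmbedding.isClosedMap _ hU.compl.1
  have hdisj : ∀ x, x ∈ W1 → x ∉ W2 := by
    rintro x ⟨a, ha, rfl⟩ ⟨a', ha', haa'⟩
    obtain rfl := i.isEmbedding.injective haa'
    exact ha' ha
  have hmem : ∀ b : X', j b ∈ W1 ∨ j b ∈ W2 := fun b => by
    obtain ⟨a, ha⟩ := hi.ge (subset_closure ⟨b, rfl⟩)
    by_cases haU : a ∈ U
    exacts [Or.inl ⟨a, haU, ha⟩, Or.inr ⟨a, haU, ha⟩]
  have hsub : W1 ⊆ Set.range j := by
    intro x hx
    by_contra hxr
    have hne : (t '' (W1 ∩ B)).Nonempty := by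
      refine ⟨t x, x, ⟨hx, ?_, hxr⟩, rfl⟩
      obtain ⟨a, -, rfl⟩ := hx
      exact hi.le ⟨a, rfl⟩
    obtain ⟨z, ⟨y, ⟨⟨a, ha, rfl⟩, hyB⟩, rfl⟩, hz⟩ :=
      hmeet _ (t.isClosedMap _ (hW1.inter hB)) hne
    have hat : (i ≫ t) a ∈ V0 := by rw [Scheme.Hom.comp_apply]; exact hz
    have := (hUD a hat).1 ha
    rw [hD0'] at this
    obtain ⟨b, -, hb⟩ := this
    exact hyB.2 ⟨b, hb⟩
  -- points of `W1` over the closed fibre lie over the given part
  have hfib : ∀ b : X', j b ∈ W1 → f (π b) ∈ V0 → π b ∈ Ys := by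
    rintro b ⟨a, ha, hab⟩ hb
    have hat : (i ≫ t) a ∈ V0 := by rw [Scheme.Hom.comp_apply, hab, htj]; exact hb
    have := (hUD a hat).1 ha
    rw [hab, hD0'] at this
    obtain ⟨b', hb', hbb'⟩ := this
    obtain rfl := j.isEmbedding.injective hbb'
    exact hb'
  have hfib' : ∀ b : X', π b ∈ Ys → j b ∈ W1 := by
    intro b hb
    obtain ⟨a, ha⟩ := hi.ge (subset_closure ⟨b, rfl⟩)
    refine ⟨a, ?_, ha⟩
    obtain ⟨y, hyY, hy⟩ := hb
    have hbV : f (π b) ∈ V0 := hrange.le ⟨y, hy⟩
    have hat : (i ≫ t) a ∈ V0 := by rw [Scheme.Hom.comp_apply, ha, htj]; exact hbV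
    refine (hUD a hat).2 ?_
    rw [ha, hD0']
    exact ⟨b, ⟨y, hyY, hy⟩, rfl⟩
  let W' : X'.Opens := ⟨(j ⁻¹' W2)ᶜ, (hW2.preimage j.continuous).isOpen_compl⟩
  have hW' : ∀ b, b ∈ W' ↔ j b ∈ W1 :=
    fun b => ⟨fun h => (hmem b).resolve_right h, fun h => hdisj _ h⟩
  let Ws := π '' (j ⁻¹' W1)
  let Wc := π '' (j ⁻¹' W2)
  have hWs : IsClosed Ws := π.isClosedMap _ (hW1.preimage j.continuous)
  have hWc : IsClosed Wc := π.isClosedMap _ (hW2.preimage j.continuous)
  have hWeq : Ws = Wcᶜ := by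
    refine Set.Subset.antisymm ?_ ?_
    · rintro _ ⟨b, hb, rfl⟩ hbc
      have hT : IsClosed (W1 ∩ (B ∪ j '' (π ⁻¹' Wc))) := hW1.inter (hclj _ (hWc.preimage π.continuous))
      obtain ⟨z, ⟨x, ⟨hx1, hx2⟩, rfl⟩, hz⟩ := hmeet _ (t.isClosedMap _ hT)
        ⟨t (j b), j b, ⟨hb, Or.inr ⟨b, hbc, rfl⟩⟩, rfl⟩
      rcases hx2 with hxB | ⟨a, ⟨a', ha', haa'⟩, rfl⟩
      · exact hxB.2 (hsub hx1)
      · have hY := hfib a hx1 (by rw [← htj]; exact hz)
        exact hdisj _ (hfib' a' (by rw [haa']; exact hY)) ha'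
    · intro x hx
      obtain ⟨b, rfl⟩ := π.surjective x
      rcases hmem b with hb | hb
      exacts [⟨b, hb, rfl⟩, absurd ⟨b, hb, rfl⟩ hx]
  let W : X.Opens := ⟨Ws, hWeq ▸ hWc.isOpen_compl⟩
  refine ⟨W, hWs, ?_, ?_⟩
  · have hle : W' ≤ π ⁻¹ᵁ W := fun b hb => ⟨b, (hW' b).1 hb, rfl⟩
    let r := π.resLE W W' hle
    have hr : r ≫ W.ι = W'.ι ≫ π := π.resLE_comp_ι hle
    haveI : Surjective r := ⟨fun x => by
      obtain ⟨b, hb, hbx⟩ := x.2
      refine ⟨⟨b, (hW' b).2 hb⟩, W.ι.isEmbedding.injective ?_⟩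
      rw [← Scheme.Hom.comp_apply, hr]
      exact hbx⟩
    haveI : IsClosedImmersion (W'.ι ≫ j) := .of_isPreimmersion _ (by
      rw [Scheme.Hom.comp_base, TopCat.coe_comp, Set.range_comp, Scheme.Opens.range_ι]
      have : j '' (W' : Set X') = W1 := by
        ext x
        exact ⟨fun ⟨b, hb, e⟩ => e ▸ (hW' b).1 hb,
          fun hx => by obtain ⟨b, rfl⟩ := hsub hx; exact ⟨b, (hW' b).2 hx, rfl⟩⟩
      rw [this]
      exact hW1)
    haveI : IsProper (r ≫ (W.ι ≫ f)) := by
      rw [← Category.assoc, hr, Category.assoc, ← hjS, ← Category.assoc]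
      infer_instance
    haveI : UniversallyClosed (W.ι ≫ f) := UniversallyClosed.of_comp_surjective r (W.ι ≫ f)
    exact {}
  · ext p
    show ι₀ p ∈ Ws ↔ p ∈ Y
    constructor
    · rintro ⟨b, hb, hbp⟩
      have hbV : f (π b) ∈ V0 := hrange.le ⟨p, hbp.symm⟩
      obtain ⟨y, hy, hyb⟩ := hfib b hb hbV
      obtain rfl := ι₀.isClosedEmbedding.injective (hyb.trans hbp)
      exact hy
    · intro hp
      obtain ⟨b, hb⟩ := π.surjective (ι₀ p)
      exact ⟨b, hfib' b (hb ▸ ⟨p, hp, rfl⟩), hb⟩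

end Groth.Agent.S1366
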