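import Groth.Statements.S10338
import Groth.Agent.H12AlgSp.DecentPoint

set_option autoImplicit false
universe u
open CategoryTheory CategoryTheory.Limits AlgebraicGeometry Topology TopologicalSpace
open AlgSp

namespace Groth.Agent.S10338

/-- For a decent algebraic space X over a scheme S the topological space |X| is Kolmogorov (T0). -/
theorem result {S : Scheme.{u}} (X : AlgSp.Space S) (hX : AlgSp.IsDecent X.obj) :
    T0Space (AlgSp.Points X.obj) := by
  exact Groth.Agent.H12AlgSp.t0Space_points X.property hX

end Groth.Agent.S10338
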