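import Groth.Statements.S6689
import Groth.Prelude.Def_FixPt
import Groth.Agent.H25Constr.Pull
import Groth.Agent.H18Et.LC.Wrap

set_option autoImplicit false
universe u
open CategoryTheory CategoryTheory.Limits AlgebraicGeometry Opposite
attribute [local instance] HasDerivedCategory.standard
open EtModD

namespace Groth.Agent.S6689

open CategoryTheory.Functor in
theorem nonempty_homology_mapDerivedCategory {A : Type*} [Category* A] [Abelian A] [HasDerivedCategory A]
    {B : Type*} [Category* B] [Abelian B] [HasDerivedCategory B]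
    (F : A ⥤ B) [F.Additive] [PreservesFiniteLimits F] [PreservesFiniteColimits F] (K : DerivedCategory A) (n : ℤ) :
    Nonempty ((DerivedCategory.homologyFunctor B n).obj (F.mapDerivedCategory.obj K) ≅
      F.obj ((DerivedCategory.homologyFunctor A n).obj K)) := by
  let L := DerivedCategory.Q.objPreimage K
  let e : DerivedCategory.Q.obj L ≅ K := DerivedCategory.Q.objObjPreimageIso K
  exact ⟨(DerivedCategory.homologyFunctor B n).mapIso (F.mapDerivedCategory.mapIso e.symm) ≪≫
    (DerivedCategory.homologyFunctor B n).mapIso (F.mapDerivedCategoryFactors.app L) ≪≫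
    (DerivedCategory.homologyFunctorFactors B n).app _ ≪≫
    (L.sc n).mapHomologyIso F ≪≫
    F.mapIso (((DerivedCategory.homologyFunctorFactors A n).app L).symm ≪≫
      (DerivedCategory.homologyFunctor A n).mapIso e)⟩

theorem isConstructible_pull (Λ : Type (u + 1)) [CommRing Λ] {X Y : Scheme.{u}} (f : X ⟶ Y)
    (F : EtModW.Mod Λ Y) (hF : EtModW.IsConstructible Λ F) :
    EtModW.IsConstructible Λ ((EtModW.pull Λ f).obj F) := by
  intro V hV
  have h := Groth.Agent.H25Constr.strata_comp f
    (fun _ g => EtModW.IsFTLocConst Λ ((EtModW.pull Λ g).obj F))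
    (fun _ _ a g _ hg => Groth.Agent.H18Et.LC.isFTLocConst_of_iso Λ ((FixPt.pullComp (Λ := Λ) a g).app F).symm
      (Groth.Agent.H18Et.LC.isFTLocConst_pull Λ a hg)) hF V hV
  exact Groth.Agent.H25Constr.strata_congr (fun _ g _ hg =>
    Groth.Agent.H18Et.LC.isFTLocConst_of_iso Λ ((FixPt.pullComp (Λ := Λ) g f).app F) hg) h

/-- Let Λ be a Noetherian ring, f : X → Y a morphism of schemes and K an object of D(Y_et, Λ) whose
cohomology sheaves are all constructible sheaves of Λ-modules. Then all cohomology sheaves of f⁻¹ K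
are constructible, where f⁻¹ on derived categories is induced by the exact inverse image functor on
sheaves of Λ-modules (its left exactness is carried as an instance hypothesis). -/
theorem result (Λ : Type (u + 1)) [CommRing Λ] [IsNoetherianRing Λ] {X Y : Scheme.{u}}
    (f : X ⟶ Y) [PreservesFiniteLimits (EtModW.pull Λ f)] (K : EtModD.D Λ Y)
    (hK : ∀ i : ℤ, EtModW.IsConstructible Λ (EtModD.HD K i)) (i : ℤ) :
    EtModW.IsConstructible Λ (EtModD.HD ((EtModW.pull Λ f).mapDerivedCategory.obj K) i) := by
  haveI : PreservesFiniteColimits (EtModW.pull Λ f) :=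
    by
    haveI := (FixPt.pullPushAdj (Λ := Λ) f).leftAdjoint_preservesColimits
    exact PreservesColimitsOfSize.preservesFiniteColimits.{0, 0} _
  obtain ⟨e⟩ := nonempty_homology_mapDerivedCategory (EtModW.pull Λ f) K i
  obtain ⟨e'⟩ : Nonempty ((EtModW.pull Λ f).obj (EtModD.HD K i) ≅
      EtModD.HD ((EtModW.pull Λ f).mapDerivedCategory.obj K) i) := ⟨e.symm⟩
  have h := isConstructible_pull Λ f _ (hK i)
  exact fun U hU => Groth.Agent.H25Constr.strata_congr (fun _ g _ hg =>
    Groth.Agent.H18Et.LC.isFTLocConst_of_iso Λ ((EtModW.pull Λ g).mapIso e') hg) (h U hU)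

end Groth.Agent.S6689
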