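import Groth.Statements.S2080
import Groth.Agent.H17.GenFiniteDense

set_option autoImplicit false
universe u
open CategoryTheory AlgebraicGeometry
open Mor

namespace Groth.Agent.S2080

open CategoryTheory CategoryTheory.Limits AlgebraicGeometry TopologicalSpace
open Groth.Agent.H17 Groth.Agent.H17.GenFinite

/-- Let `f : X → Y` be locally of finite type, quasi-compact and quasi-separated, and `η` a generic
point of an irreducible component of `Y`. Then `f⁻¹{η}` is finite if and only if there is an affine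
open `V ∋ η` such that `f⁻¹(V) → V` is finite. -/
theorem result {X Y : Scheme.{u}} (f : X ⟶ Y) [LocallyOfFiniteType f]
    [QuasiCompact f] [QuasiSeparated f] (η : Y) (hη : closure {η} ∈ irreducibleComponents (Y : Type u)) :
    (f.base ⁻¹' {η}).Finite ↔ ∃ V : Y.Opens, IsAffineOpen V ∧ η ∈ V ∧ IsFinite (f ∣_ V) := by
  classical
  have hη' : η ∈ genericPoints Y := hη
  constructor
  · intro hfin
    obtain ⟨V₀, hV₀, hηV, -⟩ := exists_isAffineOpen_mem_and_subset (U := (⊤ : Y.Opens)) (x := η) trivial
    set O := f ⁻¹ᵁ V₀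
    haveI : IsAffine (V₀ : Scheme.{u}) := hV₀
    haveI : QuasiSeparated (f ∣_ V₀) := inferInstance
    haveI : QuasiSeparatedSpace (O : Scheme.{u}) :=
      quasiSeparatedSpace_of_quasiSeparated (f ∣_ V₀)
    set S : Set (O : Scheme.{u}) := O.ι.base ⁻¹' (f.base ⁻¹' {η})
    have hS : S.Finite := hfin.preimage O.ι.isOpenEmbedding.injective.injOn
    have hSgen : S ⊆ genericPoints (O : Scheme.{u}) := by
      intro z hz
      refine mem_genericPoints_iff.2 fun z' hz' => O.ι.isOpenEmbedding.injective ?_
      exact mem_genericPoints_iff.1 (mem_genericPoints_of_finite_fibre f hη' hfin (x := O.ι z) hz) _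
        (hz'.map O.ι.continuous)
    obtain ⟨U', hU', hd⟩ := exists_disjoint_affine_nhds S hS hSgen (fun _ => ⊤) (fun _ _ => trivial)
    let U : X → X.Opens := fun x => if hx : x ∈ O then O.ι ''ᵁ U' ⟨x, hx⟩ else ⊥
    have hmem : ∀ x ∈ f.base ⁻¹' {η}, x ∈ O := fun x hx => by
      show f x ∈ V₀
      rw [show f x = η from hx]; exact hηV
    obtain ⟨s, hs, hfin'⟩ := exists_isFinite_nhd f hη' hV₀ hηV
      (f.isCompact_preimage hV₀.isCompact) hfin U (fun x hx => by
        obtain ⟨h1, h2, -⟩ := hU' ⟨x, hmem x hx⟩ hx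
        simp only [U, dif_pos (hmem x hx)]
        refine ⟨h1.image_of_isOpenImmersion O.ι, ⟨_, h2, rfl⟩, ?_⟩
        rintro _ ⟨w, -, rfl⟩
        exact w.2) (fun a ha b hb hab => by
        simp only [Function.onFun, U, dif_pos (hmem a ha), dif_pos (hmem b hb), ← Opens.coe_disjoint]
        have h := hd (show (⟨a, hmem a ha⟩ : (O : Scheme.{u})) ∈ S from ha)
          (show (⟨b, hmem b hb⟩ : (O : Scheme.{u})) ∈ S from hb) (fun h => hab (congrArg Subtype.val h))
        rw [Function.onFun, ← Opens.coe_disjoint] at h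
        exact Set.disjoint_image_of_injective O.ι.isOpenEmbedding.injective h)
    exact ⟨Y.basicOpen s, hV₀.basicOpen s, hs, hfin'⟩
  · rintro ⟨V, -, hηV, hV⟩
    exact finite_preimage_of_isFinite_morphismRestrict f hηV

end Groth.Agent.S2080
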