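import Groth.Statements.S10463
import Groth.Agent.H13AlgSp.ExtRep

set_option autoImplicit false
universe u
open CategoryTheory CategoryTheory.Limits AlgebraicGeometry Topology TopologicalSpace
open AlgSp

namespace Groth.Agent.S10463

/-- Let k be a field with algebraic closure k̄ and X a quasi-separated algebraic space over k. If X_K is
a scheme for some field extension K of k, then X_{k̄} is a scheme. -/
theorem result (k : Type u) [Field k]
    (X : AlgSp.Space (Spec (CommRingCat.of k))) (hqs : AlgSp.IsQuasiSeparatedSp X.obj)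
    (K : Type u) [Field K] [Algebra k K] (h : (X.obj ⨯ (AlgSp.yon (Spec (CommRingCat.of k))).obj (Over.mk (Spec.map (CommRingCat.ofHom (algebraMap k K))))).obj.IsRepresentable)
    (kbar : Type u) [Field kbar] [Algebra k kbar] [IsAlgClosure k kbar] :
    (X.obj ⨯ (AlgSp.yon (Spec (CommRingCat.of k))).obj (Over.mk (Spec.map (CommRingCat.ofHom (algebraMap k kbar))))).obj.IsRepresentable := by
  classical
  have : IsAlgClosed kbar := IsAlgClosure.isAlgClosed k
  obtain ⟨U, p, hp, hps⟩ := X.property.atlas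
  have ho := H12AlgSp.isOpenMap_ofPt_of_repWith H12AlgSp.etale_le_universallyOpen hp
  let O : U.left.affineOpens → Set (AlgSp.Points X.obj) := fun B => AlgSp.Points.ofPt p '' (B.1 : Set U.left)
  have hO : ∀ B, IsOpen (O B) := fun B => ho _ B.1.2
  have key : ∀ B, (H13AlgSp.bcSp (H12AlgSp.openSub (O B)) kbar).obj.IsRepresentable := fun B => by
    have hj := H12AlgSp.repWith_openSubι (hO B)
    have hsp : AlgSp.IsAlgSpace (H12AlgSp.openSub (O B)) := H12AlgSp.isAlgSpace_of_representable _ hj.1 X.property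
    have := H12AlgSp.mono_of_openImmersion hj
    have hOc : IsCompact (O B) := B.2.isCompact.image (AlgSp.Points.continuous_ofPt p)
    have hemb : IsEmbedding (AlgSp.Points.map (H12AlgSp.openSubι (O B))) :=
      (IsOpenEmbedding.of_continuous_injective_isOpenMap (AlgSp.Points.continuous_map _) (H12AlgSp.injective_map_of_mono _)
        (H12AlgSp.isOpenMap_map_of_repWith (fun _ _ k (_ : IsOpenImmersion k) => inferInstance) hj)).isEmbedding
    have : CompactSpace (AlgSp.Points (H12AlgSp.openSub (O B))) :=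
      isCompact_univ_iff.1 (hemb.isCompact_iff.2 (by rwa [Set.image_univ, H12AlgSp.range_openSubι X.property]))
    obtain ⟨W, ⟨μ⟩⟩ := H13AlgSp.isRepresentable_of_openImmersion
      (H12AlgSp.repWith_of_isPullback (H13AlgSp.isPullback_prod_map_fst'
        (Y := (AlgSp.yon _).obj (H13AlgSp.extObj k K)) (H12AlgSp.openSubι (O B))).flip hj) h
    obtain ⟨L, _, _, hL, -, hrep⟩ := H13AlgSp.exists_separable_representable K hsp
      (H12AlgSp.isQuasiCompactSp_of_compactSpace hsp) (H12AlgSp.isQuasiSeparatedSp_of_mono hqs (H12AlgSp.openSubι (O B)))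
      (H12AlgSp.isRepresentable_iff_exists_iso.2 ⟨W, ⟨μ⟩⟩)
    exact H13AlgSp.representable_prod_of_hom (H13AlgSp.extHom (IsAlgClosed.lift : L →ₐ[k] kbar)) hrep
  choose W hW using fun B => H12AlgSp.isRepresentable_iff_exists_iso.1 (key B)
  let j := fun B => (hW B).some.hom ≫ prod.map (H12AlgSp.openSubι (O B)) (𝟙 _)
  have hjo : ∀ B, AlgSp.RepWith @IsOpenImmersion (j B) := fun B => MorphismProperty.RespectsIso.precomp _ _ _
    (H12AlgSp.repWith_of_isPullback (H13AlgSp.isPullback_prod_map_fst'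
      (Y := (AlgSp.yon _).obj (H13AlgSp.extObj k kbar)) (H12AlgSp.openSubι (O B))).flip (H12AlgSp.repWith_openSubι (hO B)))
  obtain ⟨M, e, he⟩ := H12AlgSp.exists_iso_of_openCover W j hjo fun T y t => by
    obtain ⟨u, hu⟩ := H12AlgSp.surjective_ofPt_of_repWith le_rfl hps (AlgSp.Points.map prod.fst (AlgSp.Points.ofPt y t))
    obtain ⟨B, hB, huB, -⟩ := exists_isAffineOpen_mem_and_subset (TopologicalSpace.Opens.mem_top u)
    refine ⟨⟨B, hB⟩, ?_⟩
    obtain ⟨z, hz⟩ := (H12AlgSp.range_openSubι X.property (O ⟨B, hB⟩)).ge (⟨u, huB, hu⟩ : _ ∈ O ⟨B, hB⟩)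
    obtain ⟨a, -, ha⟩ := H12AlgSp.exists_point_of_isPullback (H13AlgSp.isPullback_prod_map_fst'
      (Y := (AlgSp.yon _).obj (H13AlgSp.extObj k kbar)) (H12AlgSp.openSubι (O ⟨B, hB⟩))).flip z (AlgSp.Points.ofPt y t) hz
    refine ⟨AlgSp.Points.map (hW ⟨B, hB⟩).some.inv a, ?_⟩
    simp only [j, ← AlgSp.Points.map_comp, Iso.inv_hom_id_assoc, ha]
  exact H12AlgSp.isRepresentable_iff_exists_iso.2 ⟨M, ⟨asIso e⟩⟩

end Groth.Agent.S10463
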