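import Groth.Statements.S10119
import Groth.Agent.H12AlgSp.GroupSpaceField
import Groth.Agent.S10463
-- import your own Groth.Agent.* helpers here

set_option autoImplicit false
universe u
open CategoryTheory CategoryTheory.Limits AlgebraicGeometry MonoidalCategory MonObj
open AlgSp

namespace Groth.Agent.S10119

/-- Let `k` be a field with algebraic closure `k̄` and `G` a separated group algebraic space over `k`.
Then `G_{k̄}` is a scheme. -/
theorem result (k : Type u) [Field k]
    (G : Over ((AlgSp.yon (Spec (CommRingCat.of k))).obj (Over.mk (𝟙 _)))) [GrpObj G]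
    (hG : AlgSp.IsAlgSpace G.left) (hsep : AlgSp.IsSeparatedSp G.left) :
    (G.left ⨯ ((AlgSp.yon (Spec (CommRingCat.of k))).obj (Over.mk (Spec.map (CommRingCat.ofHom (algebraMap k (AlgebraicClosure k))))))).obj.IsRepresentable := by
  obtain ⟨K, _, _, -, h⟩ := Groth.Agent.H12AlgSp.exists_isRepresentable_bc_groupSpace G hG hsep
  have hqs : IsQuasiSeparatedSp G.left := ⟨hsep.1, fun _ _ _ _ m sq =>
    have : IsClosedImmersion m.left := hsep.2 _ _ m sq
    (inferInstance : QuasiCompact m.left)⟩
  exact Groth.Agent.S10463.result k ⟨G.left, hG⟩ hqs K h (AlgebraicClosure k)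

end Groth.Agent.S10119
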