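-- statement FlatMor.GrothFrozen.S0411 (Groth/Statements/S0411.lean; the theorem FlatMor.finite_set_in_affine_open_of_separated_locally_quasi_finite);
import Groth.Statements.S0411
import Groth.Agent.H17.AssPts
import Mathlib.AlgebraicGeometry.ZariskisMainTheorem

set_option autoImplicit false
universe u
open FlatMor
open AlgebraicGeometry CategoryTheory TopologicalSpace

namespace Groth.Agent.S0411

open AlgebraicGeometry CategoryTheory Limits in
/-- For a separated, locally quasi-finite morphism (locally of finite type with discrete fibres) to an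
affine scheme, every finite set of points of the source lies in an affine open. -/
theorem result {X Y : Scheme.{u}} (f : X ⟶ Y) [IsAffine Y] [IsSeparated f] [LocallyQuasiFinite f] [LocallyOfFiniteType f] (T : Finset ↑X) :
    ∃ U : X.Opens, IsAffineOpen U ∧ ∀ x ∈ T, x ∈ U := by
  classical
  choose V hV hxV _ using fun x : X => exists_isAffineOpen_mem_and_subset (Set.mem_univ x) (U := (⊤ : X.Opens))
  let W : X.Opens := ⨆ x : T, V x.1
  have hWc : IsCompact (W : Set X) := by
    rw [Opens.coe_iSup]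
    exact isCompact_iUnion fun x => (hV x.1).isCompact
  haveI : CompactSpace W.toScheme := isCompact_iff_compactSpace.mp hWc
  let g : W.toScheme ⟶ Y := W.ι ≫ f
  haveI : QuasiCompact g := (quasiCompact_iff_compactSpace g).2 inferInstance
  haveI : IsAffine g.normalization := isAffine_of_isAffineHom g.fromNormalization
  let a := g.toNormalization
  have hTW : ∀ x ∈ T, x ∈ W := fun x hx => Opens.mem_iSup.2 ⟨⟨x, hx⟩, hxV x⟩
  let I : Ideal Γ(g.normalization, ⊤) := Ideal.span {r | g.normalization.basicOpen r ≤ a.opensRange}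
  have hA := isAffineOpen_top g.normalization
  obtain ⟨r, hrI, hr⟩ : ∃ r ∈ I, ∀ x : T, r ∉ (hA.primeIdealOf ⟨a ⟨x.1, hTW x.1 x.2⟩, trivial⟩).asIdeal := by
    by_contra h
    push Not at h
    have hsub : (I : Set Γ(g.normalization, ⊤)) ⊆ ⋃ x ∈ ((Finset.univ : Finset T) : Set T),
        ((hA.primeIdealOf ⟨a ⟨x.1, hTW x.1 x.2⟩, trivial⟩).asIdeal : Set Γ(g.normalization, ⊤)) := fun r hr => by
      obtain ⟨x, hx⟩ := h r hr
      exact Set.mem_iUnion₂.2 ⟨x, Finset.mem_coe.2 (Finset.mem_univ x), hx⟩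
    rcases isEmpty_or_nonempty T with hT | ⟨⟨x₀⟩⟩
    · exact (h 0 (zero_mem I)).elim fun x _ => hT.false x
    obtain ⟨x, -, hx⟩ := (Ideal.subset_union_prime x₀ x₀ (fun i _ _ _ => inferInstance)).1 hsub
    obtain ⟨r, hr, hxr⟩ := hA.exists_basicOpen_le (V := a.opensRange) ⟨a ⟨x.1, hTW x.1 x.2⟩, ⟨_, rfl⟩⟩ trivial
    exact (Groth.Agent.H17.AssPts.mem_primeIdealOf hA (by trivial) r).1 (hx (Ideal.subset_span hr)) hxr
  have hle : g.normalization.basicOpen r ≤ a.opensRange := by
    intro y hy
    by_contra hya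
    refine (Groth.Agent.H17.AssPts.mem_primeIdealOf hA (by trivial) r).1 ?_ hy
    refine (Ideal.span_le.2 fun s hs => ?_) hrI
    exact (Groth.Agent.H17.AssPts.mem_primeIdealOf hA (by trivial) s).2 fun hys => hya (hs hys)
  let D : W.toScheme.Opens := a ⁻¹ᵁ g.normalization.basicOpen r
  have hD : IsAffineOpen D := by
    refine (a.isAffineOpen_iff_of_isOpenImmersion).1 ?_
    rw [Scheme.Hom.image_preimage_eq_opensRange_inf, inf_eq_right.2 hle]
    exact hA.basicOpen r
  refine ⟨W.ι ''ᵁ D, hD.image_of_isOpenImmersion W.ι, fun x hx => ⟨⟨x, hTW x hx⟩, ?_, rfl⟩⟩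
  show a ⟨x, hTW x hx⟩ ∈ g.normalization.basicOpen r
  by_contra hc
  exact hr ⟨x, hx⟩ ((Groth.Agent.H17.AssPts.mem_primeIdealOf hA (by trivial) r).2 hc)

end Groth.Agent.S0411
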