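import Groth.Statements.S10298
import Groth.Agent.H13AlgSp.AffineLocal

set_option autoImplicit false
set_option backward.isDefEq.respectTransparency false
universe u
open CategoryTheory CategoryTheory.Limits AlgebraicGeometry
open AlgSp

namespace Groth.Agent.S10298

/-- For a quasi-compact quasi-separated morphism of schemes, the relative normalization of schemes is
the normalization in the sense of algebraic spaces. -/
theorem result {S : Scheme.{u}} {V U N : Over S} (g : V ⟶ U)
    [QuasiCompact g.left] [QuasiSeparated g.left] (f' : V ⟶ N) (ν : N ⟶ U)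
    (e : N.left ≅ g.left.normalization) (he1 : f'.left ≫ e.hom = g.left.toNormalization)
    (he2 : e.hom ≫ g.left.fromNormalization = ν.left) :
    AlgSp.IsRelNormalization ((AlgSp.yon S).map g) ((AlgSp.yon S).map ν) ((AlgSp.yon S).map f') := by
  have hg' : f' ≫ ν = g := by
    refine Over.OverMorphism.ext ?_
    rw [Over.comp_left, ← he2, ← Category.assoc, he1]
    exact Scheme.Hom.toNormalization_fromNormalization _
  have hν : IsIntegralHom ν.left := by rw [← he2]; infer_instance
  refine ⟨by rw [← Functor.map_comp, hg'],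
    Groth.Agent.H13AlgSp.isIntegralMor_iff.2 ((repWith_yon_map_iff _ ν).2 hν), fun Z hZ π k hπ hk => ?_⟩
  have hπ' := Groth.Agent.H13AlgSp.isIntegralMor_iff.1 hπ
  obtain ⟨W, i, fst, sq⟩ := hπ'.1 (𝟙 ((AlgSp.yon S).obj U))
  have : IsIso fst := sq.isIso_fst_of_isIso
  have hi : IsIntegralHom i.left := hπ'.property _ fst i sq
  have hfi : (AlgSp.yon S).map i = fst ≫ π := by rw [sq.w, Category.comp_id]
  obtain ⟨k₀, hk₀⟩ := (AlgSp.yon S).map_surjective (k ≫ inv fst)
  have hki : k₀ ≫ i = g := (AlgSp.yon S).map_injective (by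
    rw [Functor.map_comp, hk₀, hfi, Category.assoc, IsIso.inv_hom_id_assoc, hk])
  have H : g.left = k₀.left ≫ i.left := by rw [← Over.comp_left, hki]
  let d := g.left.normalizationDesc k₀.left i.left H
  have hd : (e.hom ≫ d) ≫ W.hom = N.hom := by
    rw [← Over.w i, Category.assoc, ← Category.assoc d, Scheme.Hom.normalizationDesc_comp, ← Category.assoc,
      he2, Over.w]
  let h₀ : N ⟶ W := Over.homMk (e.hom ≫ d) hd
  have hh1 : f' ≫ h₀ = k₀ := by
    refine Over.OverMorphism.ext ?_
    change f'.left ≫ e.hom ≫ d = k₀.left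
    rw [← Category.assoc, he1]
    exact Scheme.Hom.toNormalization_normalizationDesc _ _ _ H
  have hh2 : h₀ ≫ i = ν := by
    refine Over.OverMorphism.ext ?_
    change (e.hom ≫ d) ≫ i.left = ν.left
    rw [Category.assoc, Scheme.Hom.normalizationDesc_comp, he2]
  refine ⟨(AlgSp.yon S).map h₀ ≫ fst, ⟨?_, ?_⟩, fun m hm => ?_⟩
  · rw [← Functor.map_comp_assoc, hh1, hk₀, Category.assoc, IsIso.inv_hom_id, Category.comp_id]
  · rw [Category.assoc, ← hfi, ← Functor.map_comp, hh2]
  obtain ⟨m₀, hm₀⟩ := (AlgSp.yon S).map_surjective (m ≫ inv fst)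
  have hm1 : f' ≫ m₀ = k₀ := (AlgSp.yon S).map_injective (by
    rw [Functor.map_comp, hm₀, hk₀, ← Category.assoc, hm.1])
  have hm2 : m₀ ≫ i = ν := (AlgSp.yon S).map_injective (by
    rw [Functor.map_comp, hm₀, hfi, Category.assoc, IsIso.inv_hom_id_assoc, hm.2])
  suffices m₀ = h₀ by rw [← this, hm₀, Category.assoc, IsIso.inv_hom_id, Category.comp_id]
  refine Over.OverMorphism.ext ?_
  rw [← cancel_epi e.inv]
  refine Scheme.Hom.normalization.hom_ext g.left (e.inv ≫ m₀.left) (e.inv ≫ h₀.left) i.left ?_ ?_ ?_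
  · rw [← he1]
    simp only [Category.assoc, Iso.hom_inv_id_assoc, ← Over.comp_left, hm1, hh1]
  · rw [Category.assoc, ← Over.comp_left, hm2, ← he2, Iso.inv_hom_id_assoc]
  · rw [Category.assoc, ← Over.comp_left, hh2, ← he2, Iso.inv_hom_id_assoc]

end Groth.Agent.S10298
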