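import Groth.Statements.S9385
import Groth.Agent.H17.Image
import Groth.Agent.H17.Reduced
import Groth.Agent.H17.SchDense

set_option autoImplicit false
universe u
open SchDense

namespace Groth.Agent.S9385

open CategoryTheory Limits AlgebraicGeometry TopologicalSpace

open AlgebraicGeometry CategoryTheory in
/-- Let h : Z → X be an immersion, and suppose that either Z is reduced or h is quasi-compact. Write Z̄
⊆ X for the scheme-theoretic image of h. Then Z → Z̄ is an open immersion identifying Z with a
scheme-theoretically dense (in the for-every-open sense) and topologically dense open subscheme of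
Z̄. -/
theorem result {Z X : Scheme.{u}} (h : Z ⟶ X) [IsImmersion h]
    (hyp : QuasiCompact h ∨ IsReduced Z) :
    ∃ hI : IsOpenImmersion h.toImage,
      (∀ W : h.image.Opens, IsSchemeTheoreticallyDominant
          (h.image.homOfLE (inf_le_right : @Scheme.Hom.opensRange _ _ h.toImage hI ⊓ W ≤ W))) ∧
        DenseRange h.toImage.base := by
  rcases hyp with hqc | hZ
  · refine ⟨inferInstance, fun W => ⟨Groth.Agent.H17.ker_eq_bot_homOfLE_of_injective _ W fun V => ?_⟩,
      IsDominant.denseRange⟩
    have : IsSchemeTheoreticallyDominant h.toImage := ⟨Groth.Agent.H17.ker_toImage h⟩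
    intro a b hab
    apply h.toImage.app_injective V
    have e : h.toImage ⁻¹ᵁ V ≤ h.toImage ⁻¹ᵁ (V ⊓ h.toImage.opensRange) := fun x hx => ⟨hx, x, rfl⟩
    have h1 := congrArg (fun t => Z.presheaf.map (homOfLE e).op (h.toImage.app _ t)) hab
    simp only [← ConcreteCategory.comp_apply] at h1
    rw [Scheme.Hom.naturality, Category.assoc, ← Functor.map_comp] at h1
    have e0 := (CategoryTheory.Functor.map_id Z.presheaf (Opposite.op (h.toImage ⁻¹ᵁ V)))
    rw [Subsingleton.elim (_ ≫ _) (𝟙 _), e0, Category.comp_id] at h1
    exact h1
  · have hIR : IsReduced h.image := by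
      rw [Scheme.Hom.image, Groth.Agent.H17.ker_eq_vanishingIdeal]
      exact Groth.Agent.H17.isReduced_vanishingIdeal_subscheme _
    let C := h.coborderRange
    let i : (h.imageι ⁻¹ᵁ C : h.image.Opens).toScheme ⟶ C.toScheme := h.imageι ∣_ C
    have hr : Set.range h.liftCoborder = Set.range i := by
      ext y
      constructor
      · rintro ⟨z, rfl⟩
        refine ⟨⟨h.toImage z, ?_⟩, Subtype.ext ?_⟩
        · show h.imageι (h.toImage z) ∈ C
          rw [← Scheme.Hom.comp_apply, h.toImage_imageι]
          exact subset_coborder ⟨z, rfl⟩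
        · rw [morphismRestrict_base]
          show h.imageι (h.toImage z) = C.ι (h.liftCoborder z)
          rw [← Scheme.Hom.comp_apply, h.toImage_imageι, ← Scheme.Hom.comp_apply, h.liftCoborder_ι]
      · rintro ⟨w, rfl⟩
        have hw : h.imageι w.1 ∈ closure (Set.range h) := by
          have : h.imageι w.1 ∈ Set.range h.imageι := ⟨_, rfl⟩
          rw [Scheme.IdealSheafData.range_subschemeι, Groth.Agent.H17.ker_eq_vanishingIdeal,
            Scheme.IdealSheafData.coe_support_vanishingIdeal] at this
          exact this
        have : h.imageι w.1 ∈ closure (Set.range h) ∩ coborder (Set.range h) := ⟨hw, w.2⟩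
        rw [closure_inter_coborder] at this
        obtain ⟨z, hz⟩ := this
        refine ⟨z, Subtype.ext ?_⟩
        rw [morphismRestrict_base]
        show C.ι (h.liftCoborder z) = h.imageι w.1
        rw [← Scheme.Hom.comp_apply, h.liftCoborder_ι, hz]
    obtain ⟨e, he⟩ := Groth.Agent.H17.exists_iso_of_range_eq h.liftCoborder i hr
    have hti : h.toImage = e.hom ≫ (h.imageι ⁻¹ᵁ C).ι := by
      rw [← cancel_mono h.imageι, h.toImage_imageι, Category.assoc, ← morphismRestrict_ι,
        reassoc_of% he, h.liftCoborder_ι]
    have hI : IsOpenImmersion h.toImage := hti ▸ inferInstance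
    have hd : DenseRange h.toImage.base := by
      rw [denseRange_iff_closure_range, h.imageι.isEmbedding.closure_eq_preimage_closure_image,
        Set.eq_univ_iff_forall]
      intro y
      rw [Set.mem_preimage]
      have : h.imageι y ∈ Set.range h.imageι := ⟨_, rfl⟩
      rw [Scheme.IdealSheafData.range_subschemeι, Groth.Agent.H17.ker_eq_vanishingIdeal,
        Scheme.IdealSheafData.coe_support_vanishingIdeal] at this
      rw [← Set.range_comp, ← TopCat.coe_comp, ← Scheme.Hom.comp_base, h.toImage_imageι]
      exact this
    refine ⟨hI, fun W => ?_, hd⟩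
    exact Groth.Agent.H17.isSchemeTheoreticallyDominant_homOfLE_of_dense _ W hd

end Groth.Agent.S9385
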