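import Groth.Statements.S1883
import Groth.Agent.H19Grp.GrpdDimStab

set_option autoImplicit false
universe u
open CategoryTheory CategoryTheory.Limits AlgebraicGeometry
open Grpd

namespace Groth.Agent.S1883

/-- Let (U, R, s, t, c) be a groupoid scheme over S with U the spectrum of a field and s, t locally of
finite type. Then R and its stabilizer group scheme G have equal dimension (G is the base change of
(t, s) along the diagonal of U). (A groupoid scheme carries U, R, s, t, c, e, i over S with the
groupoid axioms on T-points; 'finite locally free' is finite, flat and locally of finite
presentation; C ⊂ Γ(U) is the ring of functions a with s♯(a) = t♯(a) and M = Spec C.) -/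
theorem result (S : Scheme.{u}) (G : Grpd.GroupoidScheme S) (k : Type u) [Field k] (eU : G.U ≅ Spec (CommRingCat.of k)) [LocallyOfFiniteType G.s] [LocallyOfFiniteType G.t] : topologicalKrullDim G.R = topologicalKrullDim G.stabilizer := by
  exact Groth.Agent.H19Grp.dim_eq_dim_stabilizer G k eU

end Groth.Agent.S1883
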