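-- statement FlatMor.GrothFrozen.S1386 (Groth/Statements/S1386.lean; the theorem FlatMor.critere_platitude_par_fibres);
import Groth.Statements.S1386
import Groth.Agent.H7Flat.FibreCriterionFT

set_option autoImplicit false
universe u
open FlatMor

namespace Groth.Agent.S1386

open AlgebraicGeometry CategoryTheory Limits in
/-- Fibrewise flatness criterion (critère de platitude par fibres), for the structure sheaf: let f : X →
Y and g : Y → S be morphisms of schemes with X locally of finite presentation over S (via g ∘ f) and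
Y locally of finite type over S. For a point x of X with images y = f(x) and s = g(y) the following
are equivalent: (1) X → S is flat at x and the induced morphism of fibres X_s → Y_s is flat at x;
(2) Y → S is flat at y and f is flat at x. Moreover the set of points x at which (2) holds is open
in X. The published statement treats a finitely presented quasi-coherent O_X-module; here the module
is O_X. -/
theorem result {X Y S : Scheme.{u}} (f : X ⟶ Y) (g : Y ⟶ S) [LocallyOfFinitePresentation (f ≫ g)] [LocallyOfFiniteType g] :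
    (∀ x : X, ((f ≫ g).stalkMap x).hom.Flat ∧ ((MoreMor.fiberMap f g (g (f x))).stalkMap ((f ≫ g).asFiber x)).hom.Flat ↔
        (g.stalkMap (f x)).hom.Flat ∧ (f.stalkMap x).hom.Flat) ∧
      IsOpen {x : ↑X | (g.stalkMap (f x)).hom.Flat ∧ (f.stalkMap x).hom.Flat} := by
  have hconv : ∀ x : X, (g.stalkMap (f x)).hom.Flat ∧ (f.stalkMap x).hom.Flat →
      ((f ≫ g).stalkMap x).hom.Flat ∧
        ((MoreMor.fiberMap f g (g (f x))).stalkMap ((f ≫ g).asFiber x)).hom.Flat := by
    rintro x ⟨hg, hf⟩
    refine ⟨(S4656.result f g x hf).mpr hg, ?_⟩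
    refine Groth.Agent.H8Props.FibreCriterion.flat_stalkMap_baseChange
      (Groth.Agent.H8Props.FibreCriterion.isPullback_fiberMap f g (g (f x))) ((f ≫ g).asFiber x) ?_
    have e : (f ≫ g).fiberι (g (f x)) ((f ≫ g).asFiber x) = x := (f ≫ g).fiberι_asFiber x
    exact e.symm ▸ hf
  refine ⟨fun x => ⟨fun h => ?_, hconv x⟩, isOpen_iff_forall_mem_open.mpr fun x hx => ?_⟩
  · obtain ⟨N, -, hx, hN⟩ := Groth.Agent.H7Flat.exists_nhds_flat_of_fiberMap f g x h.1 h.2
    exact hN x hx
  · obtain ⟨h1, h2⟩ := hconv x hx
    obtain ⟨N, hN, hxN, hflat⟩ := Groth.Agent.H7Flat.exists_nhds_flat_of_fiberMap f g x h1 h2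
    exact ⟨N, hflat, hN, hxN⟩

end Groth.Agent.S1386
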