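import Groth.Statements.S4613
import Mathlib

set_option autoImplicit false
universe u
open AlgebraicGeometry CategoryTheory
open EGA41


namespace Groth.Agent.S4613

/-- For a closed immersion j : X → Y: j is locally of finite presentation if and only if its ideal sheaf
is of finite type, i.e. for every affine open U of Y the kernel of Γ(U, O_Y) → Γ(j⁻¹U, O_X) is
finitely generated. (An immersion with image closed in an open U reduces to this case.) -/
theorem result {X Y : Scheme.{u}} (j : X ⟶ Y)
    [IsClosedImmersion j] :
    LocallyOfFinitePresentation j ↔ ∀ U : Y.affineOpens, (RingHom.ker (j.app U).hom).FG := by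
  have hker : ∀ {A B : CommRingCat.{u}} (φ : A ⟶ B), Function.Surjective φ.hom →
      (φ.hom.FinitePresentation ↔ (RingHom.ker φ.hom).FG) := by
    intro A B φ hφ
    refine ⟨fun h => ?_, RingHom.FinitePresentation.of_surjective _ hφ⟩
    letI := φ.hom.toAlgebra
    haveI : Algebra.FinitePresentation A B := h
    exact Algebra.FinitePresentation.ker_fG_of_surjective (Algebra.ofId A B) hφ
  constructor
  · intro h U
    have hV : IsAffineOpen (j ⁻¹ᵁ U.1) := U.2.preimage j
    have := HasRingHomProperty.appLE (@LocallyOfFinitePresentation) j h U ⟨_, hV⟩ le_rfl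
    rw [← Scheme.Hom.app_eq_appLE] at this
    exact (hker _ (j.app_surjective U.1 U.2)).mp this
  · intro h
    rw [IsZariskiLocalAtTarget.iff_of_iSup_eq_top (P := @LocallyOfFinitePresentation) _ (iSup_affineOpens_eq_top Y)]
    intro U
    haveI : IsAffine U.1.toScheme := U.2
    haveI : IsAffine (j ⁻¹ᵁ U.1).toScheme := U.2.preimage j
    rw [HasRingHomProperty.iff_of_isAffine (P := @LocallyOfFinitePresentation), morphismRestrict_appTop]
    refine (RingHom.finitePresentation_respectsIso.cancel_right_isIso (j.app (U.1.ι ''ᵁ ⊤)) _).mpr ?_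
    have hU : IsAffineOpen (U.1.ι ''ᵁ ⊤) := by rw [Scheme.Opens.ι_image_top]; exact U.2
    exact (hker _ (j.app_surjective _ hU)).mpr (h ⟨_, hU⟩)

end Groth.Agent.S4613
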