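import Groth.Statements.S17254
import Groth.Agent.H12Pic.Cube.Main

set_option autoImplicit false
universe u
open CategoryTheory CategoryTheory.Limits MonoidalCategory CartesianMonoidalCategory AlgebraicGeometry
open PicF

namespace Groth.Agent.S17254

/-- Let k be a field and X, Y, Z schemes over k with k-rational points x₀, y₀, z₀; assume X is proper
and geometrically integral over k, Y is proper, geometrically reduced and geometrically connected
over k, and Z is of finite type and geometrically integral over k. Let L be an invertible module on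
X ×_k Y ×_k Z whose pullbacks to the slices {x₀} × Y × Z, X × {y₀} × Z and X × Y × {z₀} are all
trivial. Then L is trivial: isomorphic to the structure sheaf. -/
theorem result (k : Type u) [Field k]
    (X Y Z : Over (Spec (CommRingCat.of k)))
    [IsProper X.hom] [GeometricallyIntegral X.hom]
    [IsProper Y.hom] [GeometricallyReduced Y.hom] [GeometricallyConnected Y.hom]
    [LocallyOfFiniteType Z.hom] [QuasiCompact Z.hom] [GeometricallyIntegral Z.hom]
    (x₀ : 𝟙_ (Over (Spec (CommRingCat.of k))) ⟶ X) (y₀ : 𝟙_ (Over (Spec (CommRingCat.of k))) ⟶ Y)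
    (z₀ : 𝟙_ (Over (Spec (CommRingCat.of k))) ⟶ Z)
    (L : (X ⊗ Y ⊗ Z).left.Modules) (hL : PicF.IsInvertible L)
    (hx : Nonempty ((Scheme.Modules.pullback (lift (toUnit (Y ⊗ Z) ≫ x₀) (𝟙 (Y ⊗ Z))).left).obj L ≅ Coh.structureModule (Y ⊗ Z).left))
    (hy : Nonempty ((Scheme.Modules.pullback (lift (fst X Z) (lift (toUnit (X ⊗ Z) ≫ y₀) (snd X Z))).left).obj L ≅ Coh.structureModule (X ⊗ Z).left))
    (hz : Nonempty ((Scheme.Modules.pullback (lift (fst X Y) (lift (snd X Y) (toUnit (X ⊗ Y) ≫ z₀))).left).obj L ≅ Coh.structureModule (X ⊗ Y).left)) :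
    Nonempty (L ≅ Coh.structureModule (X ⊗ Y ⊗ Z).left) := by
  haveI : IsIntegral Z.left := GeometricallyIntegral.isIntegral_of_subsingleton Z.hom
  haveI : IsReduced Y.left :=
    GeometricallyReduced.geometrically_isReduced (f := Y.hom) _ _ _ (IsPullback.of_id_fst (f := Y.hom))
  haveI : ConnectedSpace Y.left :=
    GeometricallyConnected.geometrically_connectedSpace (f := Y.hom) _ _ _ (IsPullback.of_id_fst (f := Y.hom))
  haveI : X.left.IsSeparated := ⟨by
    rw [← terminal.comp_from X.hom]; exact MorphismProperty.comp_mem _ _ _ inferInstance inferInstance⟩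
  haveI : CompactSpace X.left := QuasiCompact.compactSpace_of_compactSpace X.hom
  haveI : LocallyOfFinitePresentation X.hom :=
    LocallyOfFinitePresentation.iff_locallyOfFiniteType.2 inferInstance
  have wx : x₀.left ≫ X.hom = 𝟙 _ := Over.w x₀
  have wy : y₀.left ≫ Y.hom = 𝟙 _ := Over.w y₀
  have wz : z₀.left ≫ Z.hom = 𝟙 _ := Over.w z₀
  have hK := fun s => Groth.Agent.H12Pic.isIso_appTop_fiber_of_geomIntegral X.hom s
  let 𝒰 := X.left.affineCover.finiteSubcover
  have hY : Function.Injective y₀.left.appTop := by
    letI := Groth.Agent.H22Alg.GlobalFunctions.algΓ (k := k) Y.hom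
    have h1 := Groth.Agent.H22Alg.GlobalFunctions.finrank_algΓ_eq_one (k := k) Y.hom
    refine (injective_iff_map_eq_zero y₀.left.appTop.hom).2 fun a ha => ?_
    haveI : Nontrivial Γ(Y.left, ⊤) := Module.nontrivial_of_finrank_eq_succ h1
    obtain ⟨c, rfl⟩ := (finrank_eq_one_iff_of_nonzero' (1 : Γ(Y.left, ⊤)) one_ne_zero).1 h1 a
    rw [Algebra.smul_def, mul_one] at ha ⊢
    have e : (Scheme.ΓSpecIso (CommRingCat.of k)).inv ≫ Y.hom.appTop ≫ y₀.left.appTop =
        (Scheme.ΓSpecIso (CommRingCat.of k)).inv := by
      rw [← Scheme.Hom.comp_appTop, wy, Scheme.Hom.id_appTop]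
      exact Category.comp_id _
    have hc : c = 0 := (ConcreteCategory.bijective_of_isIso (Scheme.ΓSpecIso (CommRingCat.of k)).inv).1
      (((ConcreteCategory.congr_hom e c).symm.trans ha).trans (map_zero _).symm)
    rw [hc, map_zero]
  let D : Groth.Agent.H12Pic.Cube.CubeData X.hom Y.hom Z.hom L :=
    { hL := hL
      ι := 𝒰.I₀
      finite := Fintype.ofFinite _
      U := fun i => (𝒰.f i).opensRange
      cover :=
        { aff := fun i => isAffineOpen_opensRange (𝒰.f i)
          aff₂ := fun i j => (isAffineOpen_opensRange (𝒰.f i)).inf (isAffineOpen_opensRange (𝒰.f j))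
          flat := fun i => Groth.Agent.H12Pic.Cube.flatOn_of_field _ _
          flat₂ := fun i j => Groth.Agent.H12Pic.Cube.flatOn_of_field _ _
          cover := fun x => ⟨𝒰.idx x, 𝒰.covers x⟩ }
      hΓ := fun {T} t W => by
        haveI : IsProper (pullback.snd X.hom t) := MorphismProperty.pullback_snd _ _ inferInstance
        haveI : Flat (pullback.snd X.hom t) := MorphismProperty.pullback_snd _ _ inferInstance
        haveI : LocallyOfFinitePresentation (pullback.snd X.hom t) :=
          MorphismProperty.pullback_snd _ _ inferInstance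
        haveI := Groth.Agent.LeadBC.GenBC.isIso_app_of_fibres (pullback.snd X.hom t)
          (Groth.Agent.LeadBC.GenBC.isIso_appTop_fibre_baseChange X.hom (IsPullback.of_hasPullback X.hom t) hK) W
        exact ConcreteCategory.bijective_of_isIso ((pullback.snd X.hom t).app W)
      x₀ := x₀.left
      hx₀ := wx
      y₀ := y₀.left
      hy₀ := wy
      hY := hY
      z₀ := z₀.left
      hz₀ := wz
      triv_x := fun l h1 h2 => by
        have e : (lift (toUnit (Y ⊗ Z) ≫ x₀) (𝟙 (Y ⊗ Z))).left = l := by
          apply pullback.hom_ext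
          · refine Eq.trans ?_ h1.symm
            exact congrArg Over.Hom.left (lift_fst (toUnit (Y ⊗ Z) ≫ x₀) (𝟙 (Y ⊗ Z)))
          · refine Eq.trans ?_ h2.symm
            exact congrArg Over.Hom.left (lift_snd (toUnit (Y ⊗ Z) ≫ x₀) (𝟙 (Y ⊗ Z)))
        exact e ▸ hx
      triv_y := fun b hb h1 h2 => by
        have e : (lift (fst X Z) (lift (toUnit (X ⊗ Z) ≫ y₀) (snd X Z))).left =
            Groth.Agent.H12Pic.Cube.bT X.hom _ b hb := by
          apply pullback.hom_ext
          · refine Eq.trans ?_ (Groth.Agent.H12Pic.Cube.bT_fst X.hom _ b hb).symm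
            exact congrArg Over.Hom.left (lift_fst (fst X Z) (lift (toUnit (X ⊗ Z) ≫ y₀) (snd X Z)))
          · refine Eq.trans ?_ (Groth.Agent.H12Pic.Cube.bT_snd X.hom _ b hb).symm
            refine (congrArg Over.Hom.left (lift_snd (fst X Z) (lift (toUnit (X ⊗ Z) ≫ y₀) (snd X Z)))).trans ?_
            apply pullback.hom_ext
            · refine (congrArg Over.Hom.left (lift_fst (toUnit (X ⊗ Z) ≫ y₀) (snd X Z))).trans ?_
              rw [Category.assoc, h1]
              show ((pullback.fst X.hom Z.hom ≫ X.hom) ≫ y₀.left) = _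
              rw [pullback.condition, Category.assoc]
            · refine (congrArg Over.Hom.left (lift_snd (toUnit (X ⊗ Z) ≫ y₀) (snd X Z))).trans ?_
              rw [Category.assoc, h2, Category.comp_id]
              rfl
        exact e ▸ hy
      triv_z := fun b hb h1 h2 => by
        have e : (lift (fst X Y) (lift (snd X Y) (toUnit (X ⊗ Y) ≫ z₀))).left =
            Groth.Agent.H12Pic.Cube.bT X.hom _ b hb := by
          apply pullback.hom_ext
          · refine Eq.trans ?_ (Groth.Agent.H12Pic.Cube.bT_fst X.hom _ b hb).symm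
            exact congrArg Over.Hom.left (lift_fst (fst X Y) (lift (snd X Y) (toUnit (X ⊗ Y) ≫ z₀)))
          · refine Eq.trans ?_ (Groth.Agent.H12Pic.Cube.bT_snd X.hom _ b hb).symm
            refine (congrArg Over.Hom.left (lift_snd (fst X Y) (lift (snd X Y) (toUnit (X ⊗ Y) ≫ z₀)))).trans ?_
            apply pullback.hom_ext
            · refine (congrArg Over.Hom.left (lift_fst (snd X Y) (toUnit (X ⊗ Y) ≫ z₀))).trans ?_
              rw [Category.assoc, h1, Category.comp_id]
              rfl
            · refine (congrArg Over.Hom.left (lift_snd (snd X Y) (toUnit (X ⊗ Y) ≫ z₀))).trans ?_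
              rw [Category.assoc, h2]
              show ((pullback.fst X.hom Y.hom ≫ X.hom) ≫ z₀.left) = _
              rw [pullback.condition, Category.assoc]
        exact e ▸ hz }
  exact Groth.Agent.H12Pic.Cube.nonempty_iso_structureModule D

end Groth.Agent.S17254
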