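import Groth.Statements.S7549
import Groth.Agent.H28Top.Noeth

set_option autoImplicit false
universe u
open PtTop

namespace Groth.Agent.S7549

/-- Let X be a Jacobson space and X₀ ⊆ X the subspace of closed points. (a) For U ⊆ X open, U is
quasi-compact if and only if U ∩ X₀ is quasi-compact, and U is retrocompact in X if and only if U ∩
X₀ is retrocompact in X₀. (b) The rule E ↦ E ∩ X₀ is an inclusion-preserving and
inclusion-reflecting bijection between the constructible subsets of X and the constructible subsets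
of X₀. -/
theorem result {X : Type u} [TopologicalSpace X] [JacobsonSpace X] :
    (∀ U : Set X, IsOpen U →
      (IsCompact U ↔ IsCompact ((Subtype.val : closedPoints X → X) ⁻¹' U)) ∧
      (IsRetrocompact U ↔ IsRetrocompact ((Subtype.val : closedPoints X → X) ⁻¹' U))) ∧
    (∀ E : Set X, Topology.IsConstructible E →
      Topology.IsConstructible ((Subtype.val : closedPoints X → X) ⁻¹' E)) ∧
    (∀ E E' : Set X, Topology.IsConstructible E → Topology.IsConstructible E' →
      ((Subtype.val : closedPoints X → X) ⁻¹' E ⊆ Subtype.val ⁻¹' E' ↔ E ⊆ E')) ∧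
    (∀ F : Set (closedPoints X), Topology.IsConstructible F →
      ∃ E : Set X, Topology.IsConstructible E ∧ (Subtype.val : closedPoints X → X) ⁻¹' E = F) := by
  classical
  let val : closedPoints X → X := Subtype.val
  have dense : ∀ L : Set X, IsLocallyClosed L → val ⁻¹' L = ∅ → L = ∅ := fun L hL h => by
    by_contra hne
    obtain ⟨z, hz, hzc⟩ := nonempty_inter_closedPoints (Set.nonempty_iff_ne_empty.mpr hne) hL
    exact Set.eq_empty_iff_forall_notMem.mp h ⟨z, hzc⟩ hz
  have hsub : ∀ U V : Set X, IsOpen U → IsOpen V → val ⁻¹' U ⊆ val ⁻¹' V → U ⊆ V := fun U V hU hV h x hx => by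
    by_contra hxV
    exact Set.eq_empty_iff_forall_notMem.mp (dense (U ∩ Vᶜ) (hU.isLocallyClosed.inter hV.isClosed_compl.isLocallyClosed)
      (Set.eq_empty_iff_forall_notMem.mpr fun z hz => hz.2 (h hz.1))) x ⟨hx, hxV⟩
  have hcpt : ∀ U : Set X, IsOpen U → (IsCompact U ↔ IsCompact (val ⁻¹' U)) := by
    intro U hU
    constructor
    · intro hc
      refine isCompact_of_finite_subcover fun {ι} O hO hcov => ?_
      choose O' hO' hOO' using fun i => isOpen_induced_iff.mp (hO i)
      have h1 : U ⊆ ⋃ i, O' i := hsub U _ hU (isOpen_iUnion hO') (by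
        rw [Set.preimage_iUnion]
        exact hcov.trans (Set.iUnion_mono fun i => (hOO' i).ge))
      obtain ⟨t, ht⟩ := hc.elim_finite_subcover O' hO' h1
      refine ⟨t, fun z hz => ?_⟩
      obtain ⟨i, hi, hzi⟩ := Set.mem_iUnion₂.mp (ht hz)
      exact Set.mem_biUnion hi ((hOO' i).le hzi)
    · intro hc
      refine isCompact_of_finite_subcover fun {ι} O hO hcov => ?_
      obtain ⟨t, ht⟩ := hc.elim_finite_subcover (fun i => val ⁻¹' O i) (fun i => (hO i).preimage continuous_subtype_val)
        (by rw [← Set.preimage_iUnion]; exact Set.preimage_mono hcov)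
      exact ⟨t, hsub U _ hU (isOpen_biUnion fun i _ => hO i) (by simpa only [Set.preimage_iUnion₂] using ht)⟩
  have hret : ∀ U : Set X, IsOpen U → (IsRetrocompact U ↔ IsRetrocompact (val ⁻¹' U)) := by
    intro U hU
    constructor
    · intro h V hV hVo
      obtain ⟨W, hW, rfl⟩ := isOpen_induced_iff.mp hVo
      exact (hcpt _ (hU.inter hW)).mp (h ((hcpt W hW).mpr hV) hW)
    · intro h W hW hWo
      exact (hcpt _ (hU.inter hWo)).mpr (h ((hcpt W hWo).mp hW) (hWo.preimage continuous_subtype_val))
  have hconstr : ∀ E : Set X, Topology.IsConstructible E → Topology.IsConstructible (val ⁻¹' E) := fun E hE =>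
    hE.preimage continuous_subtype_val fun U hU h => (hret U hU).mp h
  refine ⟨fun U hU => ⟨hcpt U hU, hret U hU⟩, hconstr, fun E E' hE hE' => ⟨fun h => ?_, fun h => Set.preimage_mono h⟩, fun F hF => ?_⟩
  · intro x hx
    by_contra hx'
    obtain ⟨t, ht, hEt⟩ := Groth.Agent.H28Top.exists_finset_isLocallyClosed (hE.sdiff hE')
    have hx2 : x ∈ E \ E' := ⟨hx, hx'⟩
    rw [hEt] at hx2
    obtain ⟨L, hL, hxL⟩ := Set.mem_iUnion₂.mp hx2
    refine Set.eq_empty_iff_forall_notMem.mp (dense L (ht L hL) (Set.eq_empty_iff_forall_notMem.mpr fun z hz => ?_)) x hxL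
    have hzE : (val z) ∈ E \ E' := hEt ▸ Set.mem_biUnion hL hz
    exact hzE.2 (h hzE.1)
  · induction hF using Topology.IsConstructible.empty_union_induction with
    | open_retrocompact O hO hOr =>
      obtain ⟨O', hO', rfl⟩ := isOpen_induced_iff.mp hO
      exact ⟨O', ((hret O' hO').mpr hOr).isConstructible hO', rfl⟩
    | union s hs t ht ihs iht =>
      obtain ⟨a, ha, rfl⟩ := ihs
      obtain ⟨b, hb, rfl⟩ := iht
      exact ⟨a ∪ b, ha.union hb, rfl⟩
    | compl s hs ih =>
      obtain ⟨a, ha, rfl⟩ := ih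
      exact ⟨aᶜ, Topology.isConstructible_compl.mpr ha, rfl⟩

end Groth.Agent.S7549
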