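import Groth.Statements.S3577
import Groth.Agent.H11Norm.Main
import Groth.Agent.H11Norm.ChartRestrict

set_option autoImplicit false
universe u
open CategoryTheory CategoryTheory.Limits AlgebraicGeometry
open EGA2

namespace Groth.Agent.S3577

/-- Let Y be an affine scheme, X a Noetherian reduced scheme, f : X → Y a quasi-compact morphism and g :
X' → X a finite surjective morphism. Assume that at every point x of X either the local ring of X at
x is an integrally closed domain, or the direct image of the structure sheaf of X' is locally free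
on some open neighbourhood of x. Then an invertible O_X-module L is ample relative to f if and only
if its inverse image on X' is ample relative to f ∘ g. -/
theorem result {X X' Y : Scheme.{u}} [IsAffine Y]
    [IsNoetherian X] [IsReduced X] (f : X ⟶ Y) [QuasiCompact f] (g : X' ⟶ X) [IsFinite g] [Surjective g]
    (hW : ∀ x : X, (IsDomain (X.presheaf.stalk x) ∧ IsIntegrallyClosed (X.presheaf.stalk x)) ∨
      ∃ T : X.Opens, x ∈ T ∧ FlatMod.IsFinLocFree (((Coh.push g).obj (Coh.structureModule X')).restrict T.ι))
    (L : X.Modules) (hL : PicF.IsInvertible L) :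
    RelAmple.IsRelAmple f L ↔ RelAmple.IsRelAmple (g ≫ f) ((Scheme.Modules.pullback g).obj L) := by
  constructor
  · exact H11Ample.isRelAmple_pullback_of_isQuasiAffine (H11Norm.isQuasiAffine_of_isAffineHom g)
  · intro hA
    obtain ⟨Z, -, h, hh, hiso, -, d, hd⟩ := H11Norm.exists_model g ⊤ fun x _ => (hW x).imp_right
      fun ⟨T, hxT, hT⟩ => by
        obtain ⟨U, r, hxU, -, hU⟩ := H11Norm.exists_chart_of_restrict g hT hxT
        exact ⟨U, r, hxU, hU⟩
    haveI := hh
    haveI : IsIso h := by
      have e : (h ∣_ ⊤) ≫ (⊤ : X.Opens).ι = (h ⁻¹ᵁ ⊤).ι ≫ h := morphismRestrict_ι h ⊤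
      haveI := hiso
      haveI : IsIso (⊤ : X.Opens).ι := (Scheme.topIso X).isIso_hom
      haveI : IsIso (h ⁻¹ᵁ (⊤ : X.Opens)).ι := (Scheme.topIso Z).isIso_hom
      haveI : IsIso ((h ⁻¹ᵁ (⊤ : X.Opens)).ι ≫ h) := by rw [← e]; infer_instance
      exact IsIso.of_isIso_comp_left (h ⁻¹ᵁ (⊤ : X.Opens)).ι h
    haveI : CompactSpace Z := QuasiCompact.compactSpace_of_compactSpace h
    rw [H11Ample.isRelAmple_iff_isAmple_of_isAffine] at hA ⊢
    exact (H11Ample.isAmple_pullback_iso_iff (asIso h) L).1 (H11Norm.isAmple_of_relNorm d hd hL hA)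

end Groth.Agent.S3577
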