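import Groth.Statements.S4381
import Groth.Agent.H11Ample.RelAmple

set_option autoImplicit false
universe u
open CategoryTheory CategoryTheory.Limits AlgebraicGeometry
open EGA2

namespace Groth.Agent.S4381

/-- Let Y be an affine scheme, f : X → Y a quasi-compact morphism and L an O_X-module. Then L is ample
relative to f if and only if L is an ample O_X-module. -/
theorem result {X Y : Scheme.{u}} [IsAffine Y] (f : X ⟶ Y) [QuasiCompact f] (L : X.Modules) :
    RelAmple.IsRelAmple f L ↔ CohB1.IsAmple L := by
  exact H11Ample.isRelAmple_iff_isAmple_of_isAffine

end Groth.Agent.S4381
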