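import Groth.Statements.S16712
import Mathlib
import Groth.Agent.H22Alg.Kleiman

set_option autoImplicit false
universe u
open CategoryTheory CategoryTheory.Limits AlgebraicGeometry TopologicalSpace
open Variety

namespace Groth.Agent.S16712

/-- Let X and X' be proper schemes over a field k, f : X' → X a surjective k-morphism and L an
invertible O_X-module. Then L is nef, meaning χ(O_C ⊗ L) - χ(O_C) ≥ 0 for every integral closed
subscheme C ⊆ X of dimension one, if and only if the pullback f^*L is nef on X' in the same sense. -/
theorem result (k : Type u) [Field k] (X X' : Scheme.{u})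
    [X.Over (Spec (CommRingCat.of k))] [IsProper (X ↘ (Spec (CommRingCat.of k)))]
    [X'.Over (Spec (CommRingCat.of k))] [IsProper (X' ↘ (Spec (CommRingCat.of k)))]
    (f : X' ⟶ X) (hf : f ≫ (X ↘ (Spec (CommRingCat.of k))) = X' ↘ (Spec (CommRingCat.of k)))
    [Surjective f] (L : X.Modules) (hL : PicF.IsInvertible L) :
    (∀ C : X.IdealSheafData, IsIntegral C.subscheme →
        topologicalKrullDim (C.support : Set X) = 1 →
          0 ≤ Curv2.euler k X (CohB1.tensorMod (ClSub.quotMod C) L) - Curv2.euler k X (ClSub.quotMod C)) ↔
      (∀ C' : X'.IdealSheafData, IsIntegral C'.subscheme →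
        topologicalKrullDim (C'.support : Set X') = 1 →
          0 ≤ Curv2.euler k X' (CohB1.tensorMod (ClSub.quotMod C') ((Scheme.Modules.pullback f).obj L)) -
            Curv2.euler k X' (ClSub.quotMod C')) := by
  refine (H22Alg.Kleiman.nef_iff k L).symm.trans (Iff.trans ?_ (H22Alg.Kleiman.nef_iff k _))
  exact ⟨H22Alg.Kleiman.nef_pullback k f hf hL, H22Alg.Kleiman.nef_descend k f hf hL⟩

end Groth.Agent.S16712
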