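import Groth.Statements.S4278
import Groth.Agent.H12Pic.AlgEquivEuler
-- import your own Groth.Agent.* helpers here

set_option autoImplicit false
universe u
open CategoryTheory CategoryTheory.Limits AlgebraicGeometry
open Pic13

namespace Groth.Agent.S4278

/-- Let k be an algebraically closed field, X a proper k-scheme and L an invertible O_X-module which is
τ-equivalent to zero. Then L is numerically equivalent to zero: its restriction to every integral
closed curve Y ⊆ X has degree χ(L|_Y) - χ(O_Y) = 0. -/
theorem result (k : Type u) [Field k] [IsAlgClosed k] (X : Scheme.{u}) [X.Over (Spec (CommRingCat.of k))]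
    [IsProper (X ↘ Spec (CommRingCat.of k))]
    (L : X.Modules) (hL : PicF.IsInvertible L) (hτ : Pic13.IsTauEquivZero k X L) : Pic13.IsNumEquivZero k X L := by
  open Groth.Agent Groth.Agent.H28Int in
  intro Y i _ _ hY
  letI : Y.Over (Spec (CommRingCat.of k)) := ⟨i ≫ (X ↘ Spec (CommRingCat.of k))⟩
  haveI : IsProper (Y ↘ Spec (CommRingCat.of k)) := inferInstanceAs (IsProper (i ≫ _))
  haveI := isNoetherian k (X := X)
  let O := Coh.structureModule Y
  haveI : O.IsQuasicoherent := H10Coh.isQuasicoherent_unit
  have hP : PicF.IsInvertible ((Scheme.Modules.pullback i).obj L) := H11Ample.isInvertible_pullback i hL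
  have hA : Coh.IsCoh ((Coh.push i).obj O) := LeadDev.isCoh_push_structure i
  have hd : topologicalKrullDim (CohB1.support ((Coh.push i).obj O)) < ((2 : ℕ) : WithBot ℕ∞) := by
    have hs : CohB1.support ((Coh.push i).obj O) ⊆ Set.range i := fun x hx => by
      by_contra hxr
      exact LeadDev.notMem_support_push i O hxr hx
    refine ((dim_le_of_subset hs).trans (le_of_eq ?_)).trans_lt
      (show (1 : WithBot ℕ∞) < ((2 : ℕ) : WithBot ℕ∞) by exact_mod_cast Nat.one_lt_two)
    rw [← hY]
    exact (IsHomeomorph.topologicalKrullDim_eq _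
      i.isClosedEmbedding.isEmbedding.toHomeomorph.isHomeomorph).symm
  have h1 := H12Pic.AlgEquivEuler.euler_twist_of_tauEquiv k hL hτ 2 hA hd
  have h2 := Num.D_push_structure k i rfl hL
  change Curv2.euler k X ((Coh.push i).obj O) - Curv2.euler k X (CohB1.tensorMod L ((Coh.push i).obj O)) = _ at h2
  refine (Curves.curveDeg_eq k (Y := Y) hY hP).trans ?_
  show -(Curv2.euler k Y O - Curv2.euler k Y (CohB1.tensorMod ((Scheme.Modules.pullback i).obj L) O)) = 0
  rw [H25Euler.euler_congr (H10Coh.Tw.rightUnitIso ((Scheme.Modules.pullback i).obj L))]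
  rw [h1, sub_self] at h2
  dsimp only [O] at h2 ⊢
  omega

end Groth.Agent.S4278
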