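import Groth.Statements.S1702
import Groth.Agent.H29Blow.Relative

set_option autoImplicit false
universe u
open CategoryTheory CategoryTheory.Limits AlgebraicGeometry TopologicalSpace
open SDiv

namespace Groth.Agent.S1702

/-- Let f : X ⟶ S be a morphism and 𝓘₁, 𝓘₂ ideal sheaves of effective Cartier divisors on X whose closed
subschemes are flat over S. Then the product ideal 𝓘₁𝓘₂ (the sum of the divisors) is again the ideal
of an effective Cartier divisor flat over S. -/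
theorem result {X S : Scheme.{u}} (f : X ⟶ S) (𝓘₁ 𝓘₂ : X.IdealSheafData)
    (h₁ : (BlowUp.IsEffCartierIdeal 𝓘₁ ∧ Flat (𝓘₁.subschemeι ≫ f))) (h₂ : (BlowUp.IsEffCartierIdeal 𝓘₂ ∧ Flat (𝓘₂.subschemeι ≫ f))) : (BlowUp.IsEffCartierIdeal (𝓘₁ * 𝓘₂) ∧ Flat ((𝓘₁ * 𝓘₂).subschemeι ≫ f)) := by
  haveI := h₁.2
  haveI := h₂.2
  exact ⟨H29Blow.isEffCartierIdeal_mul h₁.1 h₂.1, H29Blow.flat_mul f h₁.1 h₂.1⟩

end Groth.Agent.S1702
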