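import Groth.Statements.S14811
import Groth.Agent.H12Pic.NefBC

set_option autoImplicit false
set_option linter.style.haveILetI false
universe u
open CategoryTheory CategoryTheory.Limits AlgebraicGeometry
open Pic13

namespace Groth.Agent.S14811

open Groth.Agent.H22Alg in
/-- Numerically trivial means nef with nef inverse. -/
theorem numTriv_iff {X : Scheme.{u}} (k : Type u) [Field k] [X.Over (Spec (CommRingCat.of k))]
    [IsProper (X ↘ Spec (CommRingCat.of k))] {L L' : X.Modules} (hL : PicF.IsInvertible L) (hL' : PicF.IsInvertible L')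
    (e : CohB1.tensorMod L L' ≅ Coh.structureModule X) :
    Pic13.IsNumEquivZero k X L ↔ Kleiman.Nef k L ∧ Kleiman.Nef k L' := by
  haveI := Groth.Agent.H28Int.isNoetherian k (X := X)
  have hsum : ∀ (Z : Scheme.{u}) (i : Z ⟶ X) [IsClosedImmersion i] [IsIntegral Z],
      topologicalKrullDim Z = ((1 : ℕ) : WithBot ℕ∞) →
      NefQ.Q k [L] (ClSub.quotMod i.ker) + NefQ.Q k [L'] (ClSub.quotMod i.ker) = 0 := fun Z i _ _ hd => by
    rw [← NefQ.Q_cons_tensor k (l := []) (by simp) hL hL' (Groth.Agent.LeadDev.isCoh_push_structure _)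
      (Groth.Agent.H12Pic.NefBC.support_quotMod_ker_le k i hd), Groth.Agent.H12Pic.NefBC.Q_congr k e]
    show (-1 : ℤ) ^ 1 * Groth.Agent.H28Int.D k [Coh.structureModule X] _ = 0
    rw [Groth.Agent.H28Int.D_cons_structure k (l := []) (by simp), mul_zero]
  constructor
  · intro h
    have h0 : ∀ (Z : Scheme.{u}) (i : Z ⟶ X) [IsClosedImmersion i] [IsIntegral Z],
        topologicalKrullDim Z = ((1 : ℕ) : WithBot ℕ∞) → NefQ.Q k [L] (ClSub.quotMod i.ker) = 0 := fun Z i _ _ hd => by
      rw [← Groth.Agent.H12Pic.NefBC.curveDeg_eq_Q k i (hd.trans (by simp)) hL]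
      exact h Z i inferInstance (hd.trans (by simp))
    exact ⟨fun Z i _ _ hd => (h0 Z i hd).ge, fun Z i _ _ hd => by linarith [hsum Z i hd, h0 Z i hd]⟩
  · rintro ⟨h1, h2⟩ Y i _ hY hd
    rw [Groth.Agent.H12Pic.NefBC.curveDeg_eq_Q k i hd hL]
    have hd' : topologicalKrullDim Y = ((1 : ℕ) : WithBot ℕ∞) := hd.trans (by simp)
    linarith [hsum Y i hd', h1 Y i hd', h2 Y i hd']

/-- Let X be a proper scheme over a field k, L an invertible O_X-module and k ⊆ E an arbitrary field
extension. Then L is numerically trivial on X (degree 0 on every closed subscheme of X which is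
integral of dimension one) if and only if the pullback of L to X_E = X ×_k Spec E is numerically
trivial on X_E regarded as a scheme over E. -/
theorem result (k : Type u) [Field k] (X : Scheme.{u})
    [X.Over (Spec (CommRingCat.of k))] [IsProper (X ↘ Spec (CommRingCat.of k))] (L : X.Modules) (hL : PicF.IsInvertible L)
    (E : Type u) [Field E] [Algebra k E] :
    Pic13.IsNumEquivZero k X L ↔
      @Pic13.IsNumEquivZero E _ (pullback (X ↘ Spec (CommRingCat.of k)) (Spec.map (CommRingCat.ofHom (algebraMap k E))))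
        ⟨pullback.snd (X ↘ Spec (CommRingCat.of k)) (Spec.map (CommRingCat.ofHom (algebraMap k E)))⟩
        ((Scheme.Modules.pullback (pullback.fst (X ↘ Spec (CommRingCat.of k)) (Spec.map (CommRingCat.ofHom (algebraMap k E))))).obj L) := by
  haveI := Groth.Agent.H28Int.isNoetherian k (X := X)
  letI : (pullback (X ↘ Spec (CommRingCat.of k)) (Spec.map (CommRingCat.ofHom (algebraMap k E)))).Over
      (Spec (CommRingCat.of E)) := ⟨pullback.snd _ _⟩
  haveI : IsProper (pullback (X ↘ Spec (CommRingCat.of k)) (Spec.map (CommRingCat.ofHom (algebraMap k E))) ↘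
      Spec (CommRingCat.of E)) := inferInstanceAs (IsProper (pullback.snd _ _))
  set q := pullback.fst (X ↘ Spec (CommRingCat.of k)) (Spec.map (CommRingCat.ofHom (algebraMap k E)))
  have hsq : IsPullback q (pullback (X ↘ Spec (CommRingCat.of k)) (Spec.map (CommRingCat.ofHom (algebraMap k E))) ↘
      Spec (CommRingCat.of E)) (X ↘ Spec (CommRingCat.of k)) (Spec.map (CommRingCat.ofHom (algebraMap k E))) :=
    IsPullback.of_hasPullback _ _
  obtain ⟨L', hL', ⟨e₀⟩⟩ := Groth.Agent.H11Sym.exists_inverse hL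
  let e := Groth.Agent.H10Coh.Tw.commIso L L' ≪≫ e₀
  let eE : CohB1.tensorMod ((Scheme.Modules.pullback q).obj L) ((Scheme.Modules.pullback q).obj L') ≅
      Coh.structureModule _ :=
    ((Groth.Agent.H16Derived.KFlat.Stalk.pullTensorLIso q L').app L).symm ≪≫
      (Scheme.Modules.pullback q).mapIso e ≪≫ Groth.Agent.H16Derived.KFlat.Stalk.structurePullbackIso q
  rw [numTriv_iff k hL hL' e, numTriv_iff E (Groth.Agent.H11Ample.isInvertible_pullback q hL)
    (Groth.Agent.H11Ample.isInvertible_pullback q hL') eE,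
    Groth.Agent.H12Pic.NefBC.nef_bc_iff k E hsq hL, Groth.Agent.H12Pic.NefBC.nef_bc_iff k E hsq hL']

end Groth.Agent.S14811
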