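import Groth.Agent.H22Alg.VarDim
import Groth.Agent.H22Alg.FibreCount
import Groth.Agent.H7Flat.FibreDim
import Groth.Agent.H7Flat.FibreDimGeneric
import Groth.Agent.H06EGA9.ProductDim
import Mathlib.RingTheory.Ideal.KrullsHeightTheorem

/-! Dimension bounds for loci of large fibres and for cuts by few equations, over a field. -/

set_option autoImplicit false
set_option linter.style.haveILetI false
universe u

open CategoryTheory AlgebraicGeometry
open Groth.Agent.H8Props.FieldDim

namespace Groth.Agent.H25Cut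

variable {k : Type u} [Field k] {X C : Scheme.{u}}

/-- `j ≤ a` iff not `a ≤ below j`. -/
noncomputable def below : ℕ → WithBot ℕ∞
  | 0 => ⊥
  | m + 1 => ((m : ℕ) : WithBot ℕ∞)

theorem natCast_le_iff (j : ℕ) (a : WithBot ℕ∞) : (j : WithBot ℕ∞) ≤ a ↔ ¬ a ≤ below j := by
  cases j with
  | zero =>
    induction a using WithBot.recBotCoe with
    | bot => simp [below]
    | coe e => simp [below]
  | succ m =>
    induction a using WithBot.recBotCoe with
    | bot => simp [below]
    | coe e =>
      induction e using ENat.recTopCoe with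
      | top =>
        exact iff_of_true (WithBot.coe_le_coe.mpr le_top) fun h => absurd h (not_le.mpr (WithBot.coe_lt_coe.mpr (ENat.natCast_lt_top m)))
      | coe s =>
        simp only [below]
        norm_cast
        omega

/-- A bound with a natural number added passes to suprema. -/
theorem iSup_add_le {ι : Sort*} (g : ι → WithBot ℕ∞) (j n : ℕ) (h : ∀ i, g i + (j : WithBot ℕ∞) ≤ n) :
    (⨆ i, g i) + (j : WithBot ℕ∞) ≤ n := by
  let b : WithBot ℕ∞ := if j ≤ n then ((n - j : ℕ) : WithBot ℕ∞) else ⊥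
  have hb : b + (j : WithBot ℕ∞) ≤ n := by
    simp only [b]
    split_ifs with hjn
    · exact le_of_eq (by rw [← Nat.cast_add, Nat.sub_add_cancel hjn])
    · simp
  refine le_trans ?_ hb
  gcongr
  refine iSup_le fun i => ?_
  have hi := h i
  generalize g i = a at hi
  induction a using WithBot.recBotCoe with
  | bot => exact bot_le
  | coe e =>
    induction e using ENat.recTopCoe with
    | top =>
      have h2 : ((⊤ : ℕ∞) + (j : ℕ∞)) ≤ (n : ℕ∞) := WithBot.coe_le_coe.mp hi
      rw [top_add, top_le_iff] at h2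
      exact absurd h2 (ENat.natCast_ne_top n)
    | coe s =>
      have hs : s + j ≤ n := by exact_mod_cast hi
      simp only [b, if_pos (show j ≤ n by omega)]
      exact WithBot.coe_le_coe.mpr (Nat.cast_le.mpr (show s ≤ n - j by omega))

/-- The dimension of a closed subset through the closures of its points, with a number added. -/
theorem dim_add_le {T : Type u} [TopologicalSpace T] [QuasiSober T] {S : Set T} (hS : IsClosed S) (j n : ℕ)
    (h : ∀ y ∈ S, cdim y + (j : WithBot ℕ∞) ≤ n) : topologicalKrullDim S + (j : WithBot ℕ∞) ≤ n := by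
  haveI : QuasiSober S := hS.isClosedEmbedding_subtypeVal.quasiSober
  rw [dim_eq_iSup_cdim]
  exact iSup_add_le _ j n fun y => by rw [H06EGA9.cdim_subtype hS y]; exact h y y.2

theorem cdim_le_dim {T : Type u} [TopologicalSpace T] {S : Set T} (hS : IsClosed S) {x : T} (hx : x ∈ S) :
    cdim x ≤ topologicalKrullDim S :=
  dim_mono (closure_minimal (Set.singleton_subset_iff.mpr hx) hS)

theorem cdim_le_univ {T : Type u} [TopologicalSpace T] (x : T) : cdim x ≤ topologicalKrullDim T :=
  topologicalKrullDim_subspace_le T _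

section

variable (qX : X ⟶ Spec (CommRingCat.of k)) [LocallyOfFiniteType qX] (f : C ⟶ X) [LocallyOfFiniteType f]

include qX

/-- A point with fibre of dimension at least `j` is dominated by a point of dimension at least `j` more. -/
theorem exists_point {j : ℕ} {y : X} (h : (j : WithBot ℕ∞) ≤ topologicalKrullDim (f.fiber y)) :
    ∃ x : C, f x = y ∧ cdim y + (j : WithBot ℕ∞) ≤ cdim x := by
  haveI := locallyOfFiniteType_fiberToSpec f y
  obtain ⟨u, hu⟩ : ∃ u : f.fiber y, (j : WithBot ℕ∞) ≤ cdim u := by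
    by_contra hc
    push Not at hc
    rw [natCast_le_iff, dim_eq_iSup_cdim] at h
    exact h (iSup_le fun u => not_not.mp ((natCast_le_iff j _).not.mp (not_le.mpr (hc u))))
  refine ⟨f.fiberι y u, (f.range_fiberι y).subset (Set.mem_range_self u), ?_⟩
  rw [H22Alg.FibreCount.cdim_fiber (f ≫ qX) qX f rfl u, add_comm]
  exact add_le_add_left hu _ |>.trans_eq rfl

/-- Every point lies over a point with a large enough fibre. -/
theorem exists_level (x : C) : ∃ j : ℕ, (j : WithBot ℕ∞) ≤ topologicalKrullDim (f.fiber (f x)) ∧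
    cdim x = cdim (f x) + (j : WithBot ℕ∞) := by
  haveI := locallyOfFiniteType_fiberToSpec f (f x)
  obtain ⟨j, hj⟩ := exists_nat_cdim (k := X.residueField (f x)) (f.fiberToSpecResidueField (f x)) (f.asFiber x)
  exact ⟨j, hj ▸ cdim_le_univ _, by rw [cdim_eq_add (f ≫ qX) qX f rfl x, hj, add_comm]⟩

end

/-- The closure of a locus of large fibres only has points below points of that locus. -/
theorem exists_specializes_of_mem_closure (f : C ⟶ X) [LocallyOfFiniteType f] [QuasiCompact f] {j : ℕ} {y : X}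
    (h : y ∈ closure {x : X | (j : WithBot ℕ∞) ≤ topologicalKrullDim (f.fiber x)}) :
    ∃ t : X, t ⤳ y ∧ (j : WithBot ℕ∞) ≤ topologicalKrullDim (f.fiber t) := by
  by_contra hc
  obtain ⟨V, hyV, hV⟩ := H7Flat.exists_nhd_dim_fiber_le f y (below j) fun t ht => by
    by_contra hn
    exact hc ⟨t, ht, (natCast_le_iff j _).mpr hn⟩
  obtain ⟨z, hzV, hz⟩ := mem_closure_iff.mp h V V.2 hyV
  exact (natCast_le_iff j _).mp hz (hV z hzV)

theorem cdim_mono' {T : Type u} [TopologicalSpace T] {a b : T} (h : a ⤳ b) : cdim b ≤ cdim a :=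
  dim_mono (specializes_iff_closure_subset.mp h)

/-- An immersion preserves the dimensions of closures of points. -/
theorem cdim_of_isImmersion {W : Scheme.{u}} (qX : X ⟶ Spec (CommRingCat.of k)) [LocallyOfFiniteType qX]
    (i : W ⟶ X) [IsImmersion i] (w : W) : cdim (i w) = cdim w := by
  rw [cdim_eq_add (i ≫ qX) qX i rfl w]
  have h0 : cdim (i.asFiber w) = 0 := by
    haveI : Subsingleton (i.fiber (i w)) := ⟨fun a b => (i.fiberι _).isEmbedding.injective
      (i.isEmbedding.injective (((i.range_fiberι _).subset (Set.mem_range_self a)).trans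
        ((i.range_fiberι _).subset (Set.mem_range_self b)).symm))⟩
    refine le_antisymm ((cdim_le_univ _).trans (H8Props.FieldDim.dim_subsingleton_le)) (H22Alg.FibreCount.cdim_nonneg _)
  rw [h0, zero_add]

/-- Krull: a point cut out by `c` functions loses at most `c` dimensions. -/
theorem cdim_cut_le (f : X ⟶ Spec (CommRingCat.of k)) [LocallyOfFiniteType f] {η t : X} (h : η ⤳ t)
    {V : X.Opens} (hV : IsAffineOpen V) (ht : t ∈ V) (s : Set Γ(X, V)) (hs : s.Finite) (c : ℕ) (hc : s.ncard ≤ c)
    (hst : ∀ g ∈ s, t ∉ X.basicOpen g)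
    (hmin : ∀ z : X, η ⤳ z → z ⤳ t → (∀ g ∈ s, z ∉ X.basicOpen g) → z = t) :
    cdim η ≤ cdim t + (c : WithBot ℕ∞) := by
  classical
  obtain ⟨q, rfl⟩ : t ∈ Set.range hV.fromSpec := by rw [hV.range_fromSpec]; exact ht
  obtain ⟨p, rfl⟩ : η ∈ Set.range hV.fromSpec := by rw [hV.range_fromSpec]; exact h.mem_open V.2 ht
  obtain ⟨alg, hj⟩ := exists_algebra_chart f (A := Γ(X, V)) hV.fromSpec
  haveI := finiteType_of_chart f (A := Γ(X, V)) hV.fromSpec hj
  erw [cdim_eq_chart f (A := Γ(X, V)) hV.fromSpec q, cdim_eq_chart f (A := Γ(X, V)) hV.fromSpec p]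
  have hpq : p.asIdeal ≤ q.asIdeal :=
    (PrimeSpectrum.le_iff_specializes p q).mpr (hV.fromSpec.isOpenEmbedding.isInducing.specializes_iff.mp h)
  have hmem : ∀ (r : PrimeSpectrum Γ(X, V)) (g : Γ(X, V)), hV.fromSpec r ∉ X.basicOpen g ↔ g ∈ r.asIdeal := by
    intro r g
    rw [← not_iff_not, not_not]
    show r ∈ hV.fromSpec ⁻¹ᵁ X.basicOpen g ↔ _
    rw [hV.fromSpec_preimage_basicOpen g]
    rfl
  haveI : Algebra.FiniteType k (Γ(X, V) ⧸ p.asIdeal) :=
    Algebra.FiniteType.trans (R := k) (S := Γ(X, V)) inferInstance inferInstance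
  haveI := q.2
  haveI := p.2
  let m := Ideal.Quotient.mk p.asIdeal
  haveI : (q.asIdeal.map m).IsPrime := Ideal.isPrime_map_quotientMk_of_isPrime hpq
  have hcomap : (q.asIdeal.map m).comap m = q.asIdeal := by
    rw [Ideal.comap_map_of_surjective _ Ideal.Quotient.mk_surjective, ← RingHom.ker_eq_comap_bot,
      Ideal.mk_ker, sup_eq_left.2 hpq]
  haveI : IsNoetherianRing (Γ(X, V) ⧸ p.asIdeal) := Algebra.FiniteType.isNoetherianRing k _
  have hmin' : q.asIdeal.map m ∈ (Ideal.span (m '' s)).minimalPrimes := by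
    refine ⟨⟨inferInstance, Ideal.span_le.mpr ?_⟩, fun r hr hrq => ?_⟩
    · rintro _ ⟨g, hg, rfl⟩
      exact Ideal.mem_map_of_mem _ ((hmem q g).mp (hst g hg))
    · haveI := hr.1
      let z : PrimeSpectrum Γ(X, V) := ⟨r.comap m, inferInstance⟩
      have hzq : z.asIdeal ≤ q.asIdeal := (Ideal.comap_mono hrq).trans hcomap.le
      have hpz : p.asIdeal ≤ z.asIdeal := fun a ha => by
        show m a ∈ r
        rw [Ideal.Quotient.eq_zero_iff_mem.mpr ha]
        exact zero_mem _
      have := hmin (hV.fromSpec z) (((PrimeSpectrum.le_iff_specializes p z).mp hpz).map hV.fromSpec.continuous)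
        (((PrimeSpectrum.le_iff_specializes z q).mp hzq).map hV.fromSpec.continuous)
        fun g hg => (hmem z g).mpr (hr.2 (Ideal.subset_span ⟨g, hg, rfl⟩))
      have hzq' : r.comap m = q.asIdeal := congrArg PrimeSpectrum.asIdeal (hV.fromSpec.isOpenEmbedding.injective this)
      rw [← hzq', Ideal.map_comap_of_surjective _ Ideal.Quotient.mk_surjective]
  have hht : (q.asIdeal.map m).height ≤ (c : ℕ∞) := by
    have h1 := Ideal.height_le_card_of_mem_minimalPrimes_span (hs.image m) hmin' 
    refine h1.trans ?_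
    rw [ENat.natCast_le_natCast]
    exact le_trans (Set.ncard_image_le hs) hc
  rw [← height_add_dim_quotient k (Γ(X, V) ⧸ p.asIdeal) (q.asIdeal.map m),
    ringKrullDim_eq_of_ringEquiv (DoubleQuot.quotQuotEquivQuotOfLE hpq), add_comm]
  exact add_le_add le_rfl (by exact_mod_cast hht)

/-- Over an affine open where an immersion is cut by functions, its image is their common zero locus. -/
theorem mem_range_iff_cut {W : Scheme.{u}} (i : W ⟶ X) {U : X.Opens} (hU : IsAffineOpen U)
    [IsClosedImmersion (i ∣_ U)] (rs : List Γ(X, U)) (hker : RingHom.ker (i.app U).hom = Ideal.ofList rs)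
    {x : X} (hx : x ∈ U) : x ∈ Set.range i ↔ ∀ g ∈ rs, x ∉ X.basicOpen g := by
  constructor
  · rintro ⟨w, rfl⟩ g hg hmem
    have h0 : i.app U g = 0 := RingHom.mem_ker.mp (hker.ge (Ideal.subset_span hg))
    have : w ∈ i ⁻¹ᵁ X.basicOpen g := hmem
    rw [Scheme.preimage_basicOpen, h0, Scheme.basicOpen_zero] at this
    exact this
  · intro h
    by_contra hxr
    have hxc : x ∉ closure (Set.range i) := by
      intro hc
      have h1 : (⟨x, hx⟩ : U) ∈ U.ι ⁻¹' closure (Set.range i) := hc
      rw [U.ι.isOpenEmbedding.isOpenMap.preimage_closure_eq_closure_preimage U.ι.continuous] at h1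
      have h2 : U.ι ⁻¹' Set.range i = Set.range (i ∣_ U) := by
        ext y
        constructor
        · rintro ⟨w, hw⟩
          exact ⟨⟨w, show i w ∈ U by rw [hw]; exact y.2⟩, U.ι.isOpenEmbedding.injective
            ((morphismRestrict_base_coe i U _).trans hw)⟩
        · rintro ⟨w, rfl⟩
          exact ⟨w.1, (morphismRestrict_base_coe i U w).symm⟩
      rw [h2, (i ∣_ U).isClosedEmbedding.isClosed_range.closure_eq, ← h2] at h1
      exact hxr h1
    obtain ⟨g, hg, hxg⟩ := hU.exists_basicOpen_le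
      (V := ⟨(closure (Set.range i))ᶜ, isClosed_closure.isOpen_compl⟩) ⟨x, hxc⟩ hx
    haveI : IsAffine U := hU
    haveI : IsAffine (i ⁻¹ᵁ U) := isAffine_of_isAffineHom (i ∣_ U)
    have hW : IsAffineOpen (i ⁻¹ᵁ U) := ‹IsAffine (i ⁻¹ᵁ U : W.Opens)›
    have hempty : W.basicOpen (i.app U g) = ⊥ := by
      rw [← Scheme.preimage_basicOpen]
      ext w
      exact iff_of_false (fun hw => hg hw (subset_closure ⟨w, rfl⟩)) id
    obtain ⟨N, hN⟩ := (Scheme.isNilpotent_iff_basicOpen_eq_bot_of_isCompact hW.isCompact _).mpr hempty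
    have hmem : g ^ N ∈ Ideal.ofList rs := hker ▸ RingHom.mem_ker.mpr ((map_pow _ _ _).trans hN)
    have hle : Ideal.ofList rs ≤ RingHom.ker (X.evaluation U x hx).hom :=
      Ideal.span_le.mpr fun r hr => RingHom.mem_ker.mpr <| by
        by_contra hne
        exact h r hr ((X.evaluation_ne_zero_iff_mem_basicOpen x hx r).mp hne)
    have h3 := RingHom.mem_ker.mp (hle hmem)
    rw [map_pow] at h3
    exact (X.evaluation_ne_zero_iff_mem_basicOpen x hx g).mpr hxg (pow_eq_zero_iff'.mp h3).1

section Preimage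

variable {W : Scheme.{u}} (qX : X ⟶ Spec (CommRingCat.of k)) [LocallyOfFiniteType qX] (π : C ⟶ X)
  [LocallyOfFiniteType π] (ι : W ⟶ X) [IsImmersion ι]

include qX

theorem range_fst_eq : Set.range (Limits.pullback.fst π ι) = π ⁻¹' Set.range ι :=
  Scheme.Pullback.range_fst π ι

/-- The subspace of a closed subset lying over an immersion is sober, and dimensions of closures of its
points are those in the ambient scheme. -/
theorem cdim_inter {P : Set C} (hP : IsClosed P) :
    QuasiSober ↥(P ∩ π ⁻¹' Set.range ι : Set C) ∧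
      ∀ y : ↥(P ∩ π ⁻¹' Set.range ι : Set C), cdim y = cdim (y : C) := by
  let g := Limits.pullback.fst π ι
  have hT : IsClosed (g ⁻¹' P) := hP.preimage g.continuous
  have he : Topology.IsEmbedding (g ∘ ((↑) : g ⁻¹' P → _)) := g.isEmbedding.comp Topology.IsEmbedding.subtypeVal
  have hr : Set.range (g ∘ ((↑) : g ⁻¹' P → _)) = P ∩ π ⁻¹' Set.range ι := by
    rw [Set.range_comp, Subtype.range_coe, Set.image_preimage_eq_inter_range, range_fst_eq qX]
  haveI : QuasiSober ↥(g ⁻¹' P) := hT.isClosedEmbedding_subtypeVal.quasiSober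
  let e := he.toHomeomorph.trans (Homeomorph.setCongr hr)
  refine ⟨e.symm.isOpenEmbedding.quasiSober, fun y => ?_⟩
  obtain ⟨a, rfl⟩ := e.surjective y
  haveI : LocallyOfFiniteType g := inferInstance
  rw [H22Alg.FibreCount.cdim_emb e.isClosedEmbedding a, H06EGA9.cdim_subtype hT a,
    ← cdim_of_isImmersion (π ≫ qX) g a.1]
  rfl

theorem dim_preimage_range : topologicalKrullDim (π ⁻¹' Set.range ι : Set C) =
    ⨆ t : ↥(Limits.pullback π ι), cdim (Limits.pullback.fst π ι t) := by
  rw [← range_fst_eq qX, dim_range (Limits.pullback.fst π ι).isEmbedding, dim_eq_iSup_cdim]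
  simp only [cdim_of_isImmersion (π ≫ qX) (Limits.pullback.fst π ι)]

/-- A point over the immersion is bounded by the dimension of the preimage. -/
theorem cdim_le_preimage {t : C} (ht : π t ∈ Set.range ι) :
    cdim t ≤ topologicalKrullDim (π ⁻¹' Set.range ι : Set C) := by
  rw [dim_preimage_range qX]
  obtain ⟨t', rfl⟩ : t ∈ Set.range (Limits.pullback.fst π ι) := by rw [range_fst_eq qX]; exact ht
  exact le_iSup (fun t' => cdim (Limits.pullback.fst π ι t')) t'

theorem preimage_add_le (j n : ℕ) (h : ∀ t : C, π t ∈ Set.range ι → cdim t + (j : WithBot ℕ∞) ≤ n) :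
    topologicalKrullDim (π ⁻¹' Set.range ι : Set C) + (j : WithBot ℕ∞) ≤ n := by
  rw [dim_preimage_range qX]
  exact iSup_add_le _ j n fun t => h _ ((range_fst_eq qX π ι).le ⟨t, rfl⟩)

end Preimage

theorem natCast_add_cancel {a : ℕ} {x y : WithBot ℕ∞} (h : (a : WithBot ℕ∞) + x ≤ a + y) : x ≤ y := by
  induction x using WithBot.recBotCoe with
  | bot => exact bot_le
  | coe x =>
    induction y using WithBot.recBotCoe with
    | bot =>
      rw [WithBot.add_bot, le_bot_iff] at h
      exact absurd h WithBot.coe_ne_bot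
    | coe y =>
      have h' : (a : ℕ∞) + x ≤ (a : ℕ∞) + y := WithBot.coe_le_coe.mp h
      exact WithBot.coe_le_coe.mpr ((ENat.add_le_add_iff_left (ENat.natCast_ne_top a)).mp h')

/-- A point of a locally closed subset has closure of dimension at most that of the subset. -/
theorem cdim_le_locallyClosed (qX : X ⟶ Spec (CommRingCat.of k)) [LocallyOfFiniteType qX] {F U : Set X}
    (hF : IsClosed F) (hU : IsOpen U) {p : X} (hpF : p ∈ F) (hpU : p ∈ U) :
    cdim p ≤ topologicalKrullDim (F ∩ U : Set X) := by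
  obtain ⟨V, hV, hpV, hVU⟩ := exists_isAffineOpen_mem_and_subset (U := (⟨U, hU⟩ : X.Opens)) hpU
  rw [cdim_eq_inter qX p hV hpV]
  exact dim_mono (Set.inter_subset_inter (closure_minimal (Set.singleton_subset_iff.mpr hpF) hF) hVU)

section WellIntersect

open CategoryTheory.Limits

variable {S : Scheme.{u}} (q : S ⟶ Spec (CommRingCat.of k)) (f : X ⟶ S) [LocallyOfFiniteType q]
  [LocallyOfFiniteType f] [IsSeparated f]

include q

/-- A pair of points with the same image, off the diagonal, bounds the off-diagonal double locus. -/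
theorem cdim_le_offDiag {Y Z : Set X} (hY : IsClosed Y) (hZ : IsClosed Z) {p : ↥(pullback f f)}
    (hpY : pullback.fst f f p ∈ Y) (hpZ : pullback.snd f f p ∈ Z) (hp : p ∉ Set.range (pullback.diagonal f)) :
    cdim (pullback.fst f f p) ≤
      topologicalKrullDim {p : ↥(pullback f f) | pullback.fst f f p ∈ Y ∧ pullback.snd f f p ∈ Z ∧
        p ∉ Set.range (pullback.diagonal f)} := by
  let qP := (pullback.fst f f ≫ f) ≫ q
  have h1 : cdim (pullback.fst f f p) ≤ cdim p := by
    rw [cdim_eq_add qP (f ≫ q) (pullback.fst f f) (Category.assoc _ _ _).symm p]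
    exact le_add_of_nonneg_left (H22Alg.FibreCount.cdim_nonneg _)
  refine h1.trans (le_of_le_of_eq (cdim_le_locallyClosed qP
    (F := pullback.fst f f ⁻¹' Y ∩ pullback.snd f f ⁻¹' Z) (U := (Set.range (pullback.diagonal f))ᶜ)
    ((hY.preimage (pullback.fst f f).continuous).inter (hZ.preimage (pullback.snd f f).continuous))
    (pullback.diagonal f).isClosedEmbedding.isClosed_range.isOpen_compl ⟨hpY, hpZ⟩ hp) ?_)
  exact congrArg (fun T : Set ↥(pullback f f) => topologicalKrullDim T) (Set.ext fun p => and_assoc)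

/-- Well intersection forbids a partner off the diagonal for the generic point. -/
theorem no_partner {Y Z : Set X} (hY : IsClosed Y) (hZ : IsClosed Z) {η : X} (hη : IsGenericPoint η Y)
    (hWI : topologicalKrullDim {p : ↥(pullback f f) | pullback.fst f f p ∈ Y ∧ pullback.snd f f p ∈ Z ∧
        p ∉ Set.range (pullback.diagonal f)} + topologicalKrullDim S ≤ topologicalKrullDim Y + topologicalKrullDim Z)
    (hZS : topologicalKrullDim Z < topologicalKrullDim S) {p : ↥(pullback f f)} (hpY : pullback.fst f f p = η)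
    (hpZ : pullback.snd f f p ∈ Z) : p ∈ Set.range (pullback.diagonal f) := by
  by_contra hp
  obtain ⟨a, ha⟩ := exists_nat_cdim (f ≫ q) η
  have hle := cdim_le_offDiag q f hY hZ (hpY ▸ hη.mem) hpZ hp
  rw [hpY] at hle
  rw [H06EGA9.dim_eq_cdim_of_isGenericPoint hη] at hWI
  have := (add_le_add_left hle _).trans hWI
  rw [ha] at this
  exact not_le.mpr hZS (natCast_add_cancel this)

end WellIntersect

/-- `iSup_add_le` with an arbitrary bound. -/
theorem iSup_add_le' {ι : Sort*} (g : ι → WithBot ℕ∞) (j : ℕ) (B : WithBot ℕ∞)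
    (h : ∀ i, g i + (j : WithBot ℕ∞) ≤ B) : (⨆ i, g i) + (j : WithBot ℕ∞) ≤ B := by
  induction B using WithBot.recBotCoe with
  | bot =>
    have : (⨆ i, g i) = ⊥ := le_bot_iff.mp (iSup_le fun i => by
      rcases WithBot.add_eq_bot.mp (le_bot_iff.mp (h i)) with h1 | h1
      exacts [h1.le, absurd h1 (WithBot.natCast_ne_bot j)])
    rw [this, WithBot.bot_add]
  | coe B =>
    induction B using ENat.recTopCoe with
    | top => exact le_top
    | coe n => exact iSup_add_le g j n h

/-- The dimension of a locally closed subset. -/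
theorem dim_locallyClosed (qX : X ⟶ Spec (CommRingCat.of k)) [LocallyOfFiniteType qX] {F U : Set X}
    (hF : IsClosed F) (hU : IsOpen U) :
    topologicalKrullDim (F ∩ U : Set X) = ⨆ t : (F ∩ U : Set X), cdim (t : X) := by
  refine le_antisymm ?_ (iSup_le fun t => cdim_le_locallyClosed qX hF hU t.2.1 t.2.2)
  haveI : QuasiSober F := hF.isClosedEmbedding_subtypeVal.quasiSober
  have he : Topology.IsOpenEmbedding (Set.inclusion (Set.inter_subset_left : F ∩ U ⊆ F)) := by
    refine ⟨Topology.IsEmbedding.inclusion _, ?_⟩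
    rw [Set.range_inclusion]
    have : {x : F | (x : X) ∈ F ∩ U} = Subtype.val ⁻¹' U := Set.ext fun x => ⟨fun h => h.2, fun h => ⟨x.2, h⟩⟩
    rw [this]
    exact hU.preimage continuous_subtype_val
  haveI : QuasiSober ↥(F ∩ U : Set X) := he.quasiSober
  rw [dim_eq_iSup_cdim]
  refine iSup_mono fun t => ?_
  show topologicalKrullDim _ ≤ _
  rw [Topology.IsEmbedding.subtypeVal.closure_eq_preimage_closure_image, Set.image_singleton,
    dim_preimage Topology.IsEmbedding.subtypeVal]
  exact dim_mono Set.inter_subset_left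

/-- Along a morphism all of whose fibres have dimension `d`, preimages gain `d` dimensions. -/
theorem dim_preimage_add {P : Scheme.{u}} (qX : X ⟶ Spec (CommRingCat.of k)) [LocallyOfFiniteType qX]
    (h : P ⟶ X) [LocallyOfFiniteType h] (d : ℕ) (hd : ∀ t : X, topologicalKrullDim (h.fiber t) = d) {F U : Set X}
    (hF : IsClosed F) (hU : IsOpen U) :
    topologicalKrullDim (h ⁻¹' (F ∩ U) : Set P) = topologicalKrullDim (F ∩ U : Set X) + (d : WithBot ℕ∞) := by
  have e : topologicalKrullDim (h ⁻¹' (F ∩ U) : Set P) = ⨆ p : (h ⁻¹' F ∩ h ⁻¹' U : Set P), cdim (p : P) :=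
    dim_locallyClosed (h ≫ qX) (hF.preimage h.continuous) (hU.preimage h.continuous)
  rw [e, dim_locallyClosed qX hF hU]
  refine le_antisymm (iSup_le fun p => ?_) (iSup_add_le' _ d _ fun t => ?_)
  · haveI := locallyOfFiniteType_fiberToSpec h (h p.1)
    rw [cdim_eq_add (h ≫ qX) qX h rfl p.1, add_comm]
    exact add_le_add (le_iSup (fun t : (F ∩ U : Set X) => cdim (t : X)) ⟨h p.1, p.2⟩)
      ((cdim_le_univ _).trans (hd _).le)
  · obtain ⟨x, hx, hxd⟩ := exists_point qX h (hd (t : X)).ge
    exact hxd.trans (le_iSup_of_le (⟨x, show h x ∈ F by rw [hx]; exact t.2.1, show h x ∈ U by rw [hx]; exact t.2.2⟩ :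
      (h ⁻¹' F ∩ h ⁻¹' U : Set P)) le_rfl)

theorem natCast_add_cancel_iff {a : ℕ} {x y : WithBot ℕ∞} : x + (a : WithBot ℕ∞) ≤ y + a ↔ x ≤ y :=
  ⟨fun h => natCast_add_cancel (a := a) (by rwa [add_comm _ x, add_comm _ y]), fun h => add_le_add_left h _⟩

end Groth.Agent.H25Cut
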