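import Groth.Statements.S12111
import Groth.Agent.H22Alg.CMField
import Groth.Agent.H8Props.AmpleBatch

set_option autoImplicit false
set_option linter.style.haveILetI false
universe u
open CategoryTheory CategoryTheory.Limits AlgebraicGeometry
open Pic13

namespace Groth.Agent.S12111

/-- Let k be an algebraically closed field, i : X ⟶ P^n_k a closed immersion and O_X(1) = i^*O(1). If a
coherent O_X-module F is m-regular (H^q(X, F(m - q)) = 0 for every q ≥ 1) then for every integer n'
≥ m, F is n'-regular and F(n') is generated by its global sections. (The published statement is for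
a projective k-scheme with an ample O_X(1) generated by its sections at the points of the support of
F; this row is the case of a closed subscheme of projective space.) -/
theorem result (k : Type u) [Field k] [IsAlgClosed k] (n : ℕ) {X : Scheme.{u}}
    (i : X ⟶ CohB1.ProjSpace n k) [IsClosedImmersion i] (F : X.Modules) (hF : Coh.IsCoh F) (m : ℤ)
    (h : Pic13.IsMRegular k i F m) (n' : ℤ) (hn' : m ≤ n') :
    Pic13.IsMRegular k i F n' ∧ Curv2.IsGloballyGenerated (Pic13.twistOn k i F n') := by
  let O : ℤ → X.Modules := fun a => (Scheme.Modules.pullback i).obj (Twist.twistProjSpace n k a)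
  have hs₀ := H22Alg.CMField.setup k n
  have hs : H22Alg.CMField.Setup O n (fun l => H11Ample.pullTop i (H22Alg.CMField.coords k n l)) :=
    { fam := hs₀.fam.pullback i
      cover := fun z => by
        obtain ⟨l, hl, hz⟩ := hs₀.cover (i z)
        refine ⟨l, hl, ?_⟩
        have h1 := H11Ample.gen_smul_pullSect i (hs₀.fam.inv 1) (H22Alg.CMField.coords k n l)
          (isUnit_one (M := Γ(X, ⊤)))
        rw [one_smul] at h1
        exact h1.ge hz }
  have hreg : ∀ a, H22Alg.CMField.Reg O F a ↔ Pic13.IsMRegular k i F a := fun a =>
    forall₂_congr fun q _ => H22Alg.CMField.van_iff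
  obtain ⟨t, rfl⟩ := Int.le.dest hn'
  have h1 := H22Alg.CMField.reg_add hs ((hreg m).2 h) t
  haveI : CompactSpace ↥(CohB1.ProjSpace n k) := H11Ample.compactSpace_projSpace n k
  haveI : CompactSpace ↥X := i.isClosedEmbedding.compactSpace
  have hA := H11Ample.isAmple_twistProjSpace n k
  haveI : QuasiSeparatedSpace ↥(CohB1.ProjSpace n k) := H11Ample.quasiSeparatedSpace_of_isAmple hA
  have hA' : CohB1.IsAmple (O 1) :=
    H8Props.Ample.isAmple_pullback_of_isEmbedding i i.isClosedEmbedding.isEmbedding hA
  haveI : QuasiSeparatedSpace ↥X := H11Ample.quasiSeparatedSpace_of_isAmple hA'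
  exact ⟨(hreg _).1 h1, H22Alg.CMField.isGloballyGenerated hs hA' hF h1⟩

end Groth.Agent.S12111
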