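import Groth.Statements.S12112
import Groth.Agent.S11296
import Groth.Agent.S0012
import Groth.Agent.H22Alg.CurveAmple
import Groth.Agent.H28Int.Push
import Groth.Agent.H22Alg.KPushCl
import Groth.Agent.H10Coh.SerreVanishing2

set_option autoImplicit false
set_option linter.style.haveILetI false
set_option backward.isDefEq.respectTransparency.types false
universe u
open CategoryTheory CategoryTheory.Limits AlgebraicGeometry
open Pic13

namespace Groth.Agent.S12112

/-- Let k be an algebraically closed field, i : X ⟶ P^n_k a closed k-immersion, O_X(1) = i^*O(1), and F,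
G coherent O_X-modules with a short exact sequence 0 → F(-1) → F → G → 0 and G m-regular. Then (i)
H^q(X, F(n')) = 0 for q ≥ 2 and n' ≥ m - q; (ii) h^1(F(n' - 1)) ≥ h^1(F(n')) for n' ≥ m - 1, h^1
being the dimension over k; (iii) H^1(X, F(n')) = 0 for n' ≥ (m - 1) + h^1(F(m - 1)); in particular
F is (m + h^1(F(m - 1)))-regular. (The published statement takes F(-1) → F given by a section of
O_X(1); the printed argument uses only the short exact sequence and its twists, so any short exact
sequence of this shape is allowed here.) -/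
theorem result (k : Type u) [Field k] [IsAlgClosed k] (n : ℕ) (X : Scheme.{u})
    [X.Over (Spec (CommRingCat.of k))] (i : X ⟶ CohB1.ProjSpace n k) [IsClosedImmersion i]
    (hi : i ≫ CohB1.ProjSpace.toSpec n k = X ↘ Spec (CommRingCat.of k))
    (F G : X.Modules) (hF : Coh.IsCoh F) (hG : Coh.IsCoh G)
    (f : Pic13.twistOn k i F (-1) ⟶ F) (g : F ⟶ G) (hfg : f ≫ g = 0) (hS : (ShortComplex.mk f g hfg).ShortExact)
    (m : ℤ) (hGm : Pic13.IsMRegular k i G m) :
    (∀ (q : ℕ) (n' : ℤ), 2 ≤ q → m - q ≤ n' → Subsingleton (Coh.HH X (Pic13.twistOn k i F n') q)) ∧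
    (∀ n' : ℤ, m - 1 ≤ n' →
      Module.finrank k (Coh.HH X (Pic13.twistOn k i F n') 1) ≤ Module.finrank k (Coh.HH X (Pic13.twistOn k i F (n' - 1)) 1)) ∧
    (∀ n' : ℤ, (m - 1) + (Module.finrank k (Coh.HH X (Pic13.twistOn k i F (m - 1)) 1) : ℤ) ≤ n' →
      Subsingleton (Coh.HH X (Pic13.twistOn k i F n') 1)) ∧
    Pic13.IsMRegular k i F (m + Module.finrank k (Coh.HH X (Pic13.twistOn k i F (m - 1)) 1)) := by
  let P := CohB1.ProjSpace n k
  let O : ℤ → P.Modules := fun a => Twist.twistProjSpace n k a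
  letI : P.Over (Spec (CommRingCat.of k)) := ⟨CohB1.ProjSpace.toSpec n k⟩
  haveI : IsNoetherian P := H22Alg.CMHyper.noetherian k n
  haveI : IsLocallyNoetherian X := LocallyOfFiniteType.isLocallyNoetherian i
  have hO : ∀ a, PicF.IsInvertible (O a) := fun a => (H22Alg.CMField.setup k n).fam.inv a
  let push := Scheme.Modules.pushforward i
  have hh : ∀ {M N : P.Modules} (_ : M ≅ N) {q : ℕ}, Subsingleton (Coh.HH P M q) → Subsingleton (Coh.HH P N q) :=
    fun e _ h => H22Alg.CMField.van_iff.1 (H10Coh.Tw.subsingleton_of_iso e (H22Alg.CMField.van_iff.2 h))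
  have hπ : ∀ (M : X.Modules) (a : ℤ),
      Nonempty (CohB1.tensorMod (push.obj M) (O a) ≅ push.obj (Pic13.twistOn k i M a)) :=
    fun M a => H10Coh.Tw.nonempty_push_tensor_iso i M (hO a)
  have hq : ∀ {M : X.Modules}, Coh.IsCoh M → ∀ a, (Pic13.twistOn k i M a).IsQuasicoherent :=
    fun hM a => (H11Ample.isCoh_tensor hM (H11Ample.isInvertible_pullback i (hO a))).1
  have hsub : ∀ {M : X.Modules}, Coh.IsCoh M → ∀ (a : ℤ) (q : ℕ),
      Subsingleton (Coh.HH P (CohB1.tensorMod (push.obj M) (O a)) q) ↔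
        Subsingleton (Coh.HH X (Pic13.twistOn k i M a) q) := by
    intro M hM a q
    haveI : Coh.IsQCoh (Pic13.twistOn k i M a) := hq hM a
    obtain ⟨e⟩ := hπ M a
    obtain ⟨e₂⟩ := S0012.result i (Pic13.twistOn k i M a) q
    exact ⟨fun h => @Equiv.subsingleton _ _ e₂.toEquiv (hh e h),
      fun h => hh e.symm (@Equiv.subsingleton _ _ e₂.symm.toEquiv h)⟩
  have hrk : ∀ {M : X.Modules}, Coh.IsCoh M → ∀ (a : ℤ) (q : ℕ),
      Module.finrank k (Coh.HH P (CohB1.tensorMod (push.obj M) (O a)) q) =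
        Module.finrank k (Coh.HH X (Pic13.twistOn k i M a) q) := by
    intro M hM a q
    haveI := hq hM a
    obtain ⟨e⟩ := hπ M a
    rw [H22Alg.CurveAmple.finrank_HH_congr e q]
    exact H28Int.Push.finrank_HH_push k i hi (Pic13.twistOn k i M a) q
  have hS' := H22Alg.KPushCl.shortExact_push i hS
  obtain ⟨e₁⟩ := hπ F (-1)
  let ι : CohB1.tensorMod (push.obj F) (O (-1)) ⟶ push.obj F := e₁.hom ≫ push.map f
  haveI : Mono (push.map f) := hS'.mono_f
  haveI : Mono ι := mono_comp _ _
  let eC : cokernel ι ≅ push.obj G := cokernelEpiComp e₁.hom (push.map f) ≪≫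
    IsColimit.coconePointUniqueUpToIso (cokernelIsCokernel (push.map f)) hS'.gIsCokernel
  have hpF : Coh.IsCoh (push.obj F) := H24FSch.isCoh_pushforward_of_isClosedImmersion i hF
  have hreg : Curv2.IsMRegular k n (cokernel ι) m := fun q hq _ =>
    hh (PicGrp.tensorModIso eC (Iso.refl _)).symm ((hsub hG _ q).2 (hGm q hq))
  obtain ⟨h1, h2, h3, -⟩ := S11296.result k n (push.obj F) hpF ι m hreg
  refine ⟨fun q n' hq hn' => (hsub hF n' q).1 (h1 q n' hq hn'), fun n' hn' => ?_, fun n' hn' => ?_, fun q hq => ?_⟩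
  · rw [← hrk hF, ← hrk hF]
    exact h2 n' hn'
  · refine (hsub hF n' 1).1 (h3 n' ?_)
    rwa [hrk hF]
  · rcases hq.lt_or_eq with h | h
    · exact (hsub hF _ q).1 (h1 q _ h (by omega))
    · subst h
      refine (hsub hF _ 1).1 (h3 _ ?_)
      rw [hrk hF]
      push_cast
      omega

end Groth.Agent.S12112
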