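import Groth.Statements.S6487
import Groth.Agent.H12Pic.CurveFam.PointFamily
import Groth.Agent.H12Pic.CurveFam.DegZero
import Groth.Agent.H19Grp.SepPoints
import Groth.Agent.H22Alg.VarGeom
import Groth.Agent.H22Alg.VarDim
import Groth.Agent.H28Int.FieldExt
import Groth.Agent.H29RR.Choice
import Groth.Agent.H29RR.CurveIntegral

set_option autoImplicit false
set_option linter.style.haveILetI false
universe u
open CategoryTheory CategoryTheory.Limits AlgebraicGeometry
open PicF

namespace Groth.Agent.S6487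

open Groth.Agent
open Groth.Agent.H25Theta (pb pT pC pI tI)

attribute [local instance] Curv2.resAlgebra

/-- Vanishing of the first cohomology of modules of large degree over any field. -/
theorem h1_vanish (K : Type u) [Field K] (Y : Scheme.{u}) [Y.Over (Spec (CommRingCat.of K))]
    [IsProper (Y ↘ Spec (CommRingCat.of K))] [Smooth (Y ↘ Spec (CommRingCat.of K))]
    [GeometricallyConnected (Y ↘ Spec (CommRingCat.of K))] (hdim : topologicalKrullDim Y = 1) {M : Y.Modules}
    (hM : PicF.IsInvertible M) (hdeg : 2 * (Curv2.genus K Y : ℤ) - 1 ≤ Curv2.deg K Y M 1) :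
    Subsingleton (Coh.HH Y M 1) := by
  let f := Y ↘ Spec (CommRingCat.of K)
  let Ω := AlgebraicClosure K
  let b := Spec.map (CommRingCat.ofHom (algebraMap K Ω))
  let Z := pullback f b
  letI : Z.Over (Spec (CommRingCat.of Ω)) := ⟨pullback.snd f b⟩
  have hsq : IsPullback (pullback.fst f b) (Z ↘ Spec (CommRingCat.of Ω)) f b := IsPullback.of_hasPullback f b
  haveI : IsProper (Z ↘ Spec (CommRingCat.of Ω)) := MorphismProperty.of_isPullback hsq inferInstance
  haveI : Smooth (Z ↘ Spec (CommRingCat.of Ω)) := MorphismProperty.of_isPullback hsq inferInstance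
  haveI : GeometricallyConnected (Z ↘ Spec (CommRingCat.of Ω)) := MorphismProperty.of_isPullback hsq inferInstance
  haveI := H29RR.isIntegral_of_geomConnected Ω Z
  haveI := H29RR.isNoetherian_of_proper (k := K) (X := Y)
  have hZ : topologicalKrullDim Z = 1 := (H8Props.FieldDim.dim_baseChange _ _ _ hsq).trans hdim
  have hO := H10Coh.isCoh_structureModule' Y
  have hMc := H11Ample.isCoh_of_isInvertible hM
  let s := H16Derived.KFlat.Stalk.structurePullbackIso (pullback.fst f b)
  have hg : Curv2.genus Ω Z = Curv2.genus K Y :=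
    ((H29RR.hhIso (k := Ω) s.symm 1).finrank_eq).trans (H28Int.FieldExt.finrank_HH_bc Ω hsq hO 1)
  have hd : Curv2.deg Ω Z ((Scheme.Modules.pullback (pullback.fst f b)).obj M) 1 = Curv2.deg K Y M 1 := by
    rw [H29RR.deg_def, H29RR.deg_def, H28Int.FieldExt.euler_bc Ω hsq hMc,
      ← H28Int.FieldExt.euler_bc Ω hsq hO, H25Euler.euler_congr s]
  have hv := H29RR.h1_vanish_of_deg (k := Ω) hZ.le (H29RR.finrank_h0_structure Ω Z)
    (H11Ample.isInvertible_pullback (pullback.fst f b) hM) (by rw [hg, hd]; exact hdeg)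
  haveI : Module.Finite K (Coh.HH Y M 1) := H10Coh.finite_HH_proper K Y M hMc 1
  refine (Module.finrank_zero_iff (R := K)).mp ?_
  rw [← H28Int.FieldExt.finrank_HH_bc Ω hsq hMc 1]
  exact Module.finrank_zero_of_subsingleton

/-- A rational point as a closed point. -/
theorem section_pt {K : Type u} [Field K] {Y : Scheme.{u}} [Y.Over (Spec (CommRingCat.of K))]
    [IsProper (Y ↘ Spec (CommRingCat.of K))] (τ : Spec (CommRingCat.of K) ⟶ Y)
    (hτ : τ ≫ (Y ↘ Spec (CommRingCat.of K)) = 𝟙 _) :
    IsClosed ({τ (IsLocalRing.closedPoint K)} : Set Y) ∧ τ.ker = H29RR.ptIdeal (τ (IsLocalRing.closedPoint K)) ∧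
      Module.finrank K (Y.residueField (τ (IsLocalRing.closedPoint K))) = 1 := by
  let f := Y ↘ Spec (CommRingCat.of K)
  haveI : IsClosedImmersion (τ ≫ f) := by rw [hτ]; infer_instance
  haveI : IsClosedImmersion τ := IsClosedImmersion.of_comp τ f
  set x := τ (IsLocalRing.closedPoint K)
  have hx : IsClosed ({x} : Set Y) := by
    have h := τ.isClosedEmbedding.isClosedMap _ (isClosed_univ)
    rw [Set.image_univ] at h
    convert h
    ext z
    constructor
    · rintro rfl; exact ⟨_, rfl⟩
    · rintro ⟨w, rfl⟩; rw [Set.mem_singleton_iff, Subsingleton.elim (α := PrimeSpectrum K) w (IsLocalRing.closedPoint K)]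
  let d : Y.residueField x ⟶ CommRingCat.of K := Scheme.descResidueField (Scheme.stalkClosedPointTo τ)
  let e := CommRingCat.ofHom (Curv2.resMap K Y x)
  have h1 : Spec.map d ≫ Y.fromSpecResidueField x = τ :=
    Scheme.descResidueField_stalkClosedPointTo_fromSpecResidueField K Y τ
  have h2 : e ≫ d = 𝟙 _ := by
    apply Spec.map_injective
    rw [Spec.map_comp, Spec.map_id, ← H22Alg.VarDim.fromSpecResidueField_over K Y x, reassoc_of% h1]
    exact hτ
  have hde : ∀ c : K, d (e c) = c := fun c => by rw [← CommRingCat.comp_apply, h2]; rfl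
  have hd : Function.Bijective d.hom := ⟨RingHom.injective _, fun c => ⟨_, hde c⟩⟩
  haveI : IsIso d := (ConcreteCategory.isIso_iff_bijective d).2 hd
  haveI := H29RR.isClosedImmersion_pt hx
  refine ⟨hx, ?_, ?_⟩
  · rw [← h1, Scheme.Hom.ker_comp_of_isIso]
  · have hb : Function.Bijective (Algebra.linearMap K (Y.residueField x)) :=
      ⟨(algebraMap K (Y.residueField x)).injective, fun a => ⟨d a, hd.1 (hde (d a))⟩⟩
    exact (LinearEquiv.ofBijective _ hb).finrank_eq.symm.trans (Module.finrank_self K)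

/-- Let k be a separably closed field, X a smooth projective curve over k, K/k a field extension and L
an invertible sheaf on X_K. Then there is an invertible sheaf L_0 on X with dim_K H^0(X_K, L ⊗
L_0|_{X_K}) = 1 and H^1(X_K, L ⊗ L_0|_{X_K}) = 0. The base change X_K is given as any pullback
square over Spec K → Spec k with its K-structure; L_0|_{X_K} is the pullback module and ⊗ is
CohB1.tensorMod; proper replaces projective (equivalent for curves over a field). -/
theorem result (k : Type u) [Field k] [IsSepClosed k] (X : Scheme.{u}) [X.Over (Spec (CommRingCat.of k))] (hX : Curve.IsSmoothProperCurve k X (X ↘ Spec (CommRingCat.of k))) (K : Type u) [Field K] [Algebra k K] (XK : Scheme.{u}) [XK.Over (Spec (CommRingCat.of K))] (g : XK ⟶ X) (hpb : IsPullback g (XK ↘ Spec (CommRingCat.of K)) (X ↘ Spec (CommRingCat.of k)) (Spec.map (CommRingCat.ofHom (algebraMap k K)))) (L : XK.Modules) (hL : PicF.IsInvertible L) : ∃ L₀ : X.Modules, PicF.IsInvertible L₀ ∧ Module.finrank K (Coh.HH XK (CohB1.tensorMod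 L ((Scheme.Modules.pullback g).obj L₀)) 0) = 1 ∧ Subsingleton (Coh.HH XK (CohB1.tensorMod L ((Scheme.Modules.pullback g).obj L₀)) 1) := by
  obtain ⟨_, _, _, hdim⟩ := hX
  let f := X ↘ Spec (CommRingCat.of k)
  let f' := XK ↘ Spec (CommRingCat.of K)
  let b := Spec.map (CommRingCat.ofHom (algebraMap k K))
  haveI : IsProper f' := MorphismProperty.of_isPullback hpb inferInstance
  haveI : Smooth f' := MorphismProperty.of_isPullback hpb inferInstance
  haveI : GeometricallyConnected f :=
    H22Alg.VarGeom.geometricallyConnected_of_isSepClosed f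
  haveI : GeometricallyConnected f' := MorphismProperty.of_isPullback hpb inferInstance
  haveI := H29RR.isIntegral_of_geomConnected K XK
  haveI := H29RR.isNoetherian_of_proper (k := K) (X := XK)
  have hK : topologicalKrullDim XK = 1 := (H8Props.FieldDim.dim_baseChange _ _ _ hpb).trans hdim
  haveI : UniversallyOpen g := MorphismProperty.of_isPullback hpb.flip (inferInstanceAs (UniversallyOpen b))
  haveI : SmoothOfRelativeDimension 1 f := H27CurveDiv.smoothOfRelativeDimension_of_dim f 1 (by exact_mod_cast hdim)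
  haveI : SmoothOfRelativeDimension 1 f' :=
    H27CurveDiv.smoothOfRelativeDimension_of_dim f' 1 (by exact_mod_cast hK)
  let G := Scheme.Modules.pullback g
  have hP : ∀ σ : Spec (CommRingCat.of k) ⟶ X, σ ≫ f = 𝟙 _ →
      ∃ x : XK, IsClosed ({x} : Set XK) ∧ Module.finrank K (XK.residueField x) = 1 ∧
        PicF.IsInvertible (ClSub.idealMod σ.ker) ∧
        Nonempty (G.obj (ClSub.idealMod σ.ker) ≅ ClSub.idealMod (H29RR.ptIdeal x)) ∧
        ∀ z : XK, g z ∈ Set.range σ → z = x := by
    intro σ hσ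
    let τ : Spec (CommRingCat.of K) ⟶ XK := hpb.lift (b ≫ σ) (𝟙 _) (by
      rw [Category.assoc, hσ, Category.comp_id]; exact (Category.id_comp _).symm)
    have h1 : τ ≫ g = b ≫ σ := hpb.lift_fst _ _ _
    have h2 : τ ≫ f' = 𝟙 _ := hpb.lift_snd _ _ _
    have hsq : IsPullback τ b g σ := by
      refine IsPullback.of_right ?_ h1 hpb.flip
      rw [h2, hσ]
      exact IsPullback.of_horiz_isIso ⟨(Category.id_comp _).trans (Category.comp_id _).symm⟩
    haveI : IsClosedImmersion (σ ≫ f) := by rw [hσ]; infer_instance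
    haveI : IsClosedImmersion σ := IsClosedImmersion.of_comp σ f
    have hker : σ.ker.comap g = τ.ker := by
      rw [← Scheme.IdealSheafData.ker_fst_of_isClosedImmersion, ← hsq.isoPullback_hom_fst,
        Scheme.Hom.ker_comp_of_isIso]
    have hI := H12Pic.CurveFam.isEffCartierIdeal_section f σ hσ
    have hJ := H12Pic.CurveFam.isEffCartierIdeal_section f' τ h2
    obtain ⟨e⟩ := H12Pic.CurveFam.nonempty_pullback_idealMod_comap g hI (hker ▸ hJ)
    obtain ⟨hx, hτ, h3⟩ := section_pt τ h2
    refine ⟨_, hx, h3, H29Blow.isInvertible_of_isEffCartierIdeal _ hI,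
      ⟨e ≪≫ eqToIso (congrArg ClSub.idealMod (hker.trans hτ))⟩, fun z hz => ?_⟩
    have hz' : z ∈ Set.range (pullback.fst g σ) := by rw [Scheme.Pullback.range_fst]; exact hz
    obtain ⟨w, rfl⟩ := hz'
    obtain ⟨w', rfl⟩ := hsq.isoPullback.hom.surjective w
    rw [← Scheme.Hom.comp_apply, hsq.isoPullback_hom_fst,
      Subsingleton.elim (α := PrimeSpectrum K) w' (IsLocalRing.closedPoint K)]
  -- descent to one section
  have step : ∀ (m : ℕ) (L₀ : X.Modules), PicF.IsInvertible L₀ →
      Subsingleton (Coh.HH XK (CohB1.tensorMod L (G.obj L₀)) 1) →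
      Module.finrank K (Coh.HH XK (CohB1.tensorMod L (G.obj L₀)) 0) = m + 1 →
      ∃ L₀ : X.Modules, PicF.IsInvertible L₀ ∧
        Module.finrank K (Coh.HH XK (CohB1.tensorMod L (G.obj L₀)) 0) = 1 ∧
        Subsingleton (Coh.HH XK (CohB1.tensorMod L (G.obj L₀)) 1) := by
    intro m
    induction m with
    | zero => exact fun L₀ h h1 h0 => ⟨L₀, h, h0, h1⟩
    | succ m ih =>
      intro L₀ hL₀ h1 h0
      let M := CohB1.tensorMod L (G.obj L₀)
      replace h0 : Module.finrank K (Coh.HH XK M 0) = m + 1 + 1 := h0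
      have hM : PicF.IsInvertible M := H11Ample.isInvertible_tensor hL (H11Ample.isInvertible_pullback g hL₀)
      obtain ⟨v, hv⟩ := H29RR.exists_global_ne_zero M
        (Module.nontrivial_of_finrank_pos (R := K) (show 0 < Module.finrank K (Coh.HH XK M 0) by omega))
      have hgen := H29RR.genericPoint_mem_gen hM hv
      let U : X.Opens := ⟨g '' (H11Ample.gen M v : Set XK), g.isOpenMap _ (H11Ample.gen M v).2⟩
      obtain ⟨σ, hσ, hσU⟩ := H19Grp.exists_section_mem f U (show g (genericPoint XK) ∈ U from ⟨_, hgen, rfl⟩)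
      obtain ⟨x, hx, hres, hI, ⟨eI⟩, hpre⟩ := hP σ hσ
      obtain ⟨z, hz, hgz⟩ := hσU (IsLocalRing.closedPoint k)
      obtain rfl : z = x := hpre z ⟨_, hgz.symm⟩
      have hIK : PicF.IsInvertible (ClSub.idealMod (H29RR.ptIdeal z)) :=
        H11Tilde.isInvertible_of_iso eI (H11Ample.isInvertible_pullback g hI)
      have hIc := H11Ample.isCoh_of_isInvertible hIK
      have hM' := H11Ample.isInvertible_tensor hIK hM
      have ha := (H29RR.h0_add_one_iff (k := K) hx hres hM hIc).2 ⟨v, hz⟩
      have hb := (H29RR.twist_point (k := K) hx hM hIc).2.2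
      rw [H29RR.euler_eq_sub (k := K) hK.le, H29RR.euler_eq_sub (k := K) hK.le, hres] at hb
      haveI := h1
      rw [show Module.finrank K (Coh.HH XK M 1) = 0 from Module.finrank_zero_of_subsingleton] at hb
      let L₁ := CohB1.tensorMod (ClSub.idealMod σ.ker) L₀
      let e : CohB1.tensorMod (ClSub.idealMod (H29RR.ptIdeal z)) M ≅ CohB1.tensorMod L (G.obj L₁) :=
        (H10Coh.Tw.assoc _ L (G.obj L₀)).symm ≪≫ tI (H10Coh.Tw.commIso _ L) (Iso.refl _) ≪≫
          H10Coh.Tw.assoc L _ _ ≪≫ tI (Iso.refl L) (tI eI.symm (Iso.refl _) ≪≫ (pT g _ _).symm)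
      haveI : Module.Finite K (Coh.HH XK (CohB1.tensorMod (ClSub.idealMod (H29RR.ptIdeal z)) M) 1) :=
        H29RR.finite_HH _ hM' 1
      haveI : Subsingleton (Coh.HH XK (CohB1.tensorMod (ClSub.idealMod (H29RR.ptIdeal z)) M) 1) :=
        (Module.finrank_zero_iff (R := K)).mp (by omega)
      exact ih L₁ (H11Ample.isInvertible_tensor hI hL₀)
        (H29RR.hhIso (k := K) e.symm 1).toEquiv.subsingleton
        (((H29RR.hhIso (k := K) e 0).finrank_eq.symm).trans (by omega))
  -- a large twist
  obtain ⟨σ, hσ, -⟩ := H19Grp.exists_section_mem f (⊤ : X.Opens) (x := genericPoint X) trivial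
  obtain ⟨x, hx, hres, hI, ⟨eI⟩, -⟩ := hP σ hσ
  obtain ⟨N, hN, ⟨eN⟩⟩ := H11Sym.exists_inverse hI
  have hdN : Curv2.deg K XK (G.obj N) 1 = 1 := by
    have h := H29RR.deg_congr (k := K) (pT g N (ClSub.idealMod σ.ker)).symm
    rw [H29RR.deg_congr (k := K) (G.mapIso eN ≪≫ H16Derived.KFlat.Stalk.structurePullbackIso g),
      H29RR.deg_structureModule, H29RR.deg_tensor (k := K) hK.le (H11Ample.isInvertible_pullback g hN)
        (H11Ample.isInvertible_pullback g hI), H29RR.deg_congr (k := K) eI] at h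
    have hIc := H11Ample.isCoh_of_isInvertible
      (H11Tilde.isInvertible_of_iso eI (H11Ample.isInvertible_pullback g hI))
    have ht := (H29RR.twist_point (k := K) hx (H11Ample.isInvertible_structureModule (X := XK)) hIc).2.2
    rw [hres, H25Euler.euler_congr (H10Coh.Tw.rightUnitIso _)] at ht
    rw [H29RR.deg_def (k := K) (ClSub.idealMod _)] at h
    show Curv2.deg K XK ((Scheme.Modules.pullback g).obj N) 1 = 1
    omega
  have hn : ∀ n : ℕ, ∃ L₀ : X.Modules, PicF.IsInvertible L₀ ∧
      Curv2.deg K XK (CohB1.tensorMod L (G.obj L₀)) 1 = Curv2.deg K XK L 1 + n := by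
    intro n
    induction n with
    | zero =>
      exact ⟨_, H11Ample.isInvertible_structureModule (X := X), by
        rw [H29RR.deg_congr (k := K) (tI (Iso.refl L) (H16Derived.KFlat.Stalk.structurePullbackIso g) ≪≫
          H10Coh.Tw.rightUnitIso L)]; simp⟩
    | succ n ih =>
      obtain ⟨L₀, hL₀, hd⟩ := ih
      refine ⟨_, H11Ample.isInvertible_tensor hL₀ hN, ?_⟩
      rw [H29RR.deg_congr (k := K) (tI (Iso.refl L) (pT g L₀ N) ≪≫ (H10Coh.Tw.assoc L _ _).symm),
        H29RR.deg_tensor (k := K) hK.le (H11Ample.isInvertible_tensor hL (H11Ample.isInvertible_pullback g hL₀))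
          (H11Ample.isInvertible_pullback g hN), hd, hdN]
      push_cast; ring
  obtain ⟨L₀, hL₀, hd⟩ := hn (2 * (Curv2.genus K XK : ℤ) + |Curv2.deg K XK L 1| +
    |Curv2.euler K XK (Coh.structureModule XK)| + 1).toNat
  have hM := H11Ample.isInvertible_tensor hL (H11Ample.isInvertible_pullback g hL₀)
  rw [Int.toNat_of_nonneg (by positivity)] at hd
  have h1 := h1_vanish K XK hK hM (by have := neg_abs_le (Curv2.deg K XK L 1); linarith [abs_nonneg (Curv2.euler K XK (Coh.structureModule XK))])
  have he := H29RR.euler_eq_sub (k := K) hK.le (CohB1.tensorMod L (G.obj L₀))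
  rw [show Module.finrank K (Coh.HH XK (CohB1.tensorMod L (G.obj L₀)) 1) = 0 from
    Module.finrank_zero_of_subsingleton] at he
  have hpos : 1 ≤ Module.finrank K (Coh.HH XK (CohB1.tensorMod L (G.obj L₀)) 0) := by
    rw [H29RR.deg_def (k := K) (CohB1.tensorMod L (G.obj L₀))] at hd
    have := neg_abs_le (Curv2.deg K XK L 1)
    have := neg_abs_le (Curv2.euler K XK (Coh.structureModule XK))
    omega
  exact step (Module.finrank K (Coh.HH XK (CohB1.tensorMod L (G.obj L₀)) 0) - 1) L₀ hL₀ h1 (by omega)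

end Groth.Agent.S6487
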