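import Groth.Statements.S1168
import Groth.Agent.H27HilbOps.Push

set_option autoImplicit false
open CategoryTheory CategoryTheory.Limits AlgebraicGeometry
universe u
open HilbD

namespace Groth.Agent.S1168

/-- Let i : X ⟶ Y be a closed immersion of schemes over S (structure morphisms i ≫ g and g) and suppose
(H, Z) represents the degree-d Hilbert functor of points of Y over S. Then the degree-d Hilbert
functor of points of X over S is representable, and for any representing pair (H', Z') the unique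
S-morphism H' ⟶ H classifying the image of Z' in Y ×_S H' is a closed immersion. -/
theorem result {X Y S : Scheme.{u}} (i : X ⟶ Y) [IsClosedImmersion i] (g : Y ⟶ S)
    (d : ℕ) (H : Over S) (Z : HilbD.Obj g d H) (hZ : HilbD.IsUniversal g d H Z) :
    HilbD.Representable (i ≫ g) d ∧
    ∀ (H' : Over S) (Z' : HilbD.Obj (i ≫ g) d H') (_ : HilbD.IsUniversal (i ≫ g) d H' Z') (m : H' ⟶ H),
      HilbD.pull g m Z.1 = HilbD.push i g H' Z'.1 → IsClosedImmersion m.left := by
  obtain ⟨E, ι, hι, hu⟩ := Groth.Agent.H27HilbOps.exists_containLocus g Z.1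
    (Groth.Agent.H27HilbOps.XTincl i g H).ker Z.2.1
  haveI := hι
  let HE : Over S := Over.mk (ι ≫ H.hom)
  let e : HE ⟶ H := Over.homMk ι rfl
  have hle : (Groth.Agent.H27HilbOps.XTincl i g HE).ker ≤ HilbD.pull g e Z.1 := by
    rw [← Groth.Agent.H27HilbOps.pull_ker_XTincl i g e]
    exact (hu e).mp ⟨𝟙 _, Category.id_comp _⟩
  let K := (HilbD.pull g e Z.1).comap (Groth.Agent.H27HilbOps.XTincl i g HE)
  have hK : HilbD.push i g HE K = HilbD.pull g e Z.1 := Groth.Agent.H27HilbOps.push_comap i g hle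
  let ZE : HilbD.Obj (i ≫ g) d HE := ⟨K, by
    rw [← Groth.Agent.H27HilbOps.isFinLocFreeOfDeg_push_iff, hK]
    exact Groth.Agent.H27HilbOps.isFinLocFreeOfDeg_pull g e Z.1 Z.2⟩
  have hpush : ∀ {T : Over S} (n : T ⟶ HE),
      HilbD.push i g T (HilbD.pull (i ≫ g) n ZE.1) = HilbD.pull g (n ≫ e) Z.1 := by
    intro T n
    rw [← Groth.Agent.H27HilbOps.pull_push, Groth.Agent.H27HilbOps.pull_comp]
    exact congrArg (HilbD.pull g n) hK
  have hE : HilbD.IsUniversal (i ≫ g) d HE ZE := by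
    intro T Z'
    obtain ⟨m, hm, hm'⟩ := hZ T (Groth.Agent.H27HilbOps.pushObj i g Z')
    obtain ⟨h, hh⟩ := (hu m).mpr (by
      rw [hm, Groth.Agent.H27HilbOps.pull_ker_XTincl]
      exact Groth.Agent.H27HilbOps.ker_le_push i g T Z'.1)
    let n : T ⟶ HE := Over.homMk h (by
      change h ≫ ι ≫ H.hom = T.hom
      rw [reassoc_of% hh, Over.w m])
    have hn : n ≫ e = m := Over.OverMorphism.ext hh
    refine ⟨n, Groth.Agent.H27HilbOps.push_injective i g T ?_, fun n' hn' => ?_⟩
    · rw [hpush, hn, hm]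
      rfl
    · have h' : n' ≫ e = m := hm' _ (by
        change HilbD.pull g (n' ≫ e) Z.1 = HilbD.push i g T Z'.1
        rw [← hpush, hn'])
      apply Over.OverMorphism.ext
      rw [← cancel_mono ι]
      exact congr($(h'.trans hn.symm).left)
  refine ⟨⟨HE, ZE, hE⟩, fun H' Z' hZ' m hm => ?_⟩
  obtain ⟨a, ha, -⟩ := hE H' Z'
  obtain ⟨b, hb, -⟩ := hZ' HE ZE
  have hab : a ≫ b = 𝟙 H' := (hZ' H' Z').unique
    (show HilbD.pull (i ≫ g) (a ≫ b) Z'.1 = Z'.1 by
      rw [Groth.Agent.H27HilbOps.pull_comp, hb, ha])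
    (Groth.Agent.H27HilbOps.pull_id _ _)
  have hba : b ≫ a = 𝟙 HE := (hE HE ZE).unique
    (show HilbD.pull (i ≫ g) (b ≫ a) ZE.1 = ZE.1 by
      rw [Groth.Agent.H27HilbOps.pull_comp, ha, hb])
    (Groth.Agent.H27HilbOps.pull_id _ _)
  have hma : m = a ≫ e := (hZ H' (Groth.Agent.H27HilbOps.pushObj i g Z')).unique hm (by
    rw [← hpush, ha]; rfl)
  haveI : IsIso a.left := ⟨b.left, congr($(hab).left), congr($(hba).left)⟩
  rw [hma]
  exact inferInstanceAs (IsClosedImmersion (a.left ≫ ι))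

end Groth.Agent.S1168
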