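import Groth.Statements.S1165
import Groth.Agent.H27HilbAff.Chart
import Groth.Agent.S1168

set_option autoImplicit false
open CategoryTheory CategoryTheory.Limits AlgebraicGeometry
universe u
open HilbD

namespace Groth.Agent.S1165

/-- Let X ⟶ S be a morphism of affine schemes and d a natural number. Then the functor sending an
S-scheme T to the closed subschemes of X ×_S T that are finite locally free of degree d over T is
representable: there is an S-scheme carrying a universal such closed subscheme. -/
theorem result {X S : Scheme.{u}} [IsAffine X] [IsAffine S] (f : X ⟶ S) (d : ℕ) :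
    HilbD.Representable f d := by
  let R : Type u := Γ(S, ⊤)
  let B : Type u := Γ(X, ⊤)
  letI : Algebra R B := f.appTop.hom.toAlgebra
  have hf : f = X.isoSpec.hom ≫ Groth.Agent.H27HilbAff.fB (R := R) (B := B) S.isoSpec.inv := by
    rw [show Groth.Agent.H27HilbAff.fB (R := R) (B := B) S.isoSpec.inv =
      Spec.map f.appTop ≫ S.isoSpec.inv from rfl, Scheme.isoSpec_hom_naturality_assoc]
    simp
  rw [hf]
  obtain ⟨H, Z, hZ⟩ := Groth.Agent.H27HilbAff.representable (R := R) (B := B) S.isoSpec.inv (d := d)
  exact (Groth.Agent.S1168.result X.isoSpec.hom _ d H Z hZ).1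

end Groth.Agent.S1165
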