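import Groth.Statements.S1166
import Groth.Agent.H27HilbOps.Represent
import Groth.Agent.S1165
import Groth.Agent.H13Grpd.InvariantAffine

set_option autoImplicit false
open CategoryTheory CategoryTheory.Limits AlgebraicGeometry
universe u
open HilbD

namespace Groth.Agent.S1166

/-- Let f : X ⟶ S be a separated morphism of schemes and d a natural number such that any d points of X
lying in one fibre of f are contained in a common affine open of X. Then the Hilbert functor of
points of degree d of X over S is representable by a scheme. The published statement omits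
separatedness of X ⟶ S; as published it fails for d = 1 (the hypothesis then always holds, but for
Spec ℤ doubled along D(2) over Spec ℤ the functor Hilb¹, i.e. sections with closed image, is not
representable by a scheme), and only the separated case is stated here. For d ≥ 2 the hypothesis
already forces X ⟶ S to be separated, so the added assumption matters only for d = 1. -/
theorem result {X S : Scheme.{u}} (f : X ⟶ S) [IsSeparated f] (d : ℕ)
    (h : ∀ (s : S) (x : Fin d → X), (∀ i, f.base (x i) = s) → ∃ U : X.Opens, IsAffineOpen U ∧ ∀ i, x i ∈ U) :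
    HilbD.Representable f d := by
  let ι := {q : S.affineOpens × X.affineOpens // q.2.1 ≤ f ⁻¹ᵁ q.1.1}
  let g : ∀ i : ι, i.1.2.1.toScheme ⟶ i.1.1.1.toScheme := fun i => f.resLE i.1.1.1 i.1.2.1 i.2
  have hrep : ∀ i : ι, HilbD.Representable (g i) d := fun i =>
    haveI : IsAffine i.1.2.1.toScheme := i.1.2.2
    haveI : IsAffine i.1.1.1.toScheme := i.1.1.2
    Groth.Agent.S1165.result (g i) d
  choose H Z hu using hrep
  refine Groth.Agent.H27HilbOps.representable_of_open_cover f g (fun i => i.1.2.1.ι)
    (fun i => i.1.1.1.ι) (fun i => (Scheme.Hom.resLE_comp_ι f i.2).symm) H Z hu ?_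
  intro T W x
  obtain ⟨V, hV, hsV, -⟩ :=
    exists_isAffineOpen_mem_and_subset (x := T.hom x) (U := (⊤ : S.Opens)) trivial
  let E : Set X := (W.1.subschemeι ≫ pullback.fst f T.hom) ''
    ((W.1.subschemeι ≫ PicF.XTproj f T) ⁻¹' {x})
  have hcard : E.encard ≤ d := (Set.encard_image_le _ _).trans
    (Groth.Agent.H27HilbOps.encard_fibre_le _ W.2 x)
  have hfin : E.Finite := Set.finite_of_encard_le_coe hcard
  have hfE : ∀ e ∈ E, f e = T.hom x := by
    rintro _ ⟨z, hz, rfl⟩
    rw [← (show (W.1.subschemeι ≫ PicF.XTproj f T) z = x from hz)]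
    have : (W.1.subschemeι ≫ pullback.fst f T.hom) ≫ f =
        (W.1.subschemeι ≫ PicF.XTproj f T) ≫ T.hom := by
      rw [Category.assoc, Category.assoc, pullback.condition]
    exact congr($this z)
  obtain ⟨U, hU, hUV, hEU⟩ : ∃ U : X.Opens, IsAffineOpen U ∧ U ≤ f ⁻¹ᵁ V ∧ E ⊆ U := by
    rcases E.eq_empty_or_nonempty with hE | ⟨e₀, he₀⟩
    · exact ⟨⊥, isAffineOpen_bot X, bot_le, by simp [hE]⟩
    haveI := hfin.fintype
    have hc : Fintype.card E ≤ Fintype.card (Fin d) := by
      rw [Fintype.card_fin, ← Nat.cast_le (α := ℕ∞), ← Set.toFinset_card,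
        ← Set.encard_eq_coe_toFinset_card]
      exact hcard
    obtain ⟨φ⟩ := Function.Embedding.nonempty_of_card_le hc
    haveI : Nonempty E := ⟨⟨e₀, he₀⟩⟩
    obtain ⟨U₀, hU₀, hxU⟩ := h (T.hom x) (fun i => (Function.invFun φ i).1)
      (fun i => hfE _ (Function.invFun φ i).2)
    have hEO : E ⊆ (U₀ ⊓ f ⁻¹ᵁ V : X.Opens) := by
      intro e he
      refine ⟨?_, ?_⟩
      · have := hxU (φ ⟨e, he⟩)
        rwa [Function.leftInverse_invFun φ.injective] at this
      · show f e ∈ V
        rw [hfE e he]
        exact hsV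
    obtain ⟨a, ha, ha'⟩ := Groth.Agent.H13Grpd.exists_basicOpen_finite hU₀ hfin hEO inf_le_left
    exact ⟨X.basicOpen a, hU₀.basicOpen a, ha'.trans inf_le_right, ha⟩
  refine ⟨⟨(⟨V, hV⟩, ⟨U, hU⟩), hUV⟩, ?_, fun z hz => ?_⟩
  · show T.hom x ∈ Set.range V.ι
    rw [Scheme.Opens.range_ι]
    exact hsV
  · show _ ∈ Set.range U.ι
    rw [Scheme.Opens.range_ι]
    exact hEU ⟨z, hz, rfl⟩

end Groth.Agent.S1166
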