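import Groth.Statements.S1167
import Groth.Agent.H27HilbOps.Basic

set_option autoImplicit false
open CategoryTheory CategoryTheory.Limits AlgebraicGeometry
universe u
open HilbD

namespace Groth.Agent.S1167

/-- Let f : X → S be a separated morphism of schemes and let (H, Z) represent the Hilbert functor of
points of degree d of X over S (Z the universal object on H). Then H → S is separated. -/
theorem result {X S : Scheme.{u}} (f : X ⟶ S) [IsSeparated f] (d : ℕ)
    (H : Over S) (Z : HilbD.Obj f d H) (hZ : HilbD.IsUniversal f d H Z) : IsSeparated H.hom := by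
  let T : Over S := Over.mk (pullback.fst H.hom H.hom ≫ H.hom)
  let g₁ : T ⟶ H := Over.homMk (pullback.fst H.hom H.hom) rfl
  let g₂ : T ⟶ H := Over.homMk (pullback.snd H.hom H.hom) pullback.condition.symm
  let I₁ := Groth.Agent.H27HilbOps.pullObj f g₁ Z
  let I₂ := Groth.Agent.H27HilbOps.pullObj f g₂ Z
  obtain ⟨E, ι, hι, hu⟩ := Groth.Agent.H27HilbOps.exists_eqLocus f I₁.1 I₂.1 I₁.2.1 I₂.2.1
  haveI := hι
  let d₀ : H ⟶ T := Over.homMk (pullback.diagonal H.hom) (by simp [T])
  obtain ⟨l, hl⟩ : ∃ l, l ≫ ι = d₀.left := by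
    rw [hu]
    change HilbD.pull f d₀ (HilbD.pull f g₁ Z.1) = HilbD.pull f d₀ (HilbD.pull f g₂ Z.1)
    rw [← Groth.Agent.H27HilbOps.pull_comp, ← Groth.Agent.H27HilbOps.pull_comp]
    congr 1
    apply Over.OverMorphism.ext
    simp [d₀, g₁, g₂]
  let e : Over.mk (ι ≫ T.hom) ⟶ T := Over.homMk ι rfl
  have hagree : HilbD.pull f (e ≫ g₁) Z.1 = HilbD.pull f (e ≫ g₂) Z.1 := by
    rw [Groth.Agent.H27HilbOps.pull_comp, Groth.Agent.H27HilbOps.pull_comp]
    exact (hu e).mp ⟨𝟙 _, Category.id_comp _⟩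
  have heq : e ≫ g₁ = e ≫ g₂ :=
    (hZ _ (Groth.Agent.H27HilbOps.pullObj f (e ≫ g₂) Z)).unique hagree rfl
  have heq' : ι ≫ pullback.fst H.hom H.hom = ι ≫ pullback.snd H.hom H.hom :=
    congr($(heq).left)
  have hfac : (ι ≫ pullback.fst H.hom H.hom) ≫ pullback.diagonal H.hom = ι := by
    apply pullback.hom_ext <;> simp [heq']
  change l ≫ ι = pullback.diagonal H.hom at hl
  haveI : IsIso l := by
    refine ⟨ι ≫ pullback.fst H.hom H.hom, ?_, ?_⟩
    · rw [← Category.assoc, hl, pullback.diagonal_fst]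
    · rw [← cancel_mono ι, Category.assoc, hl, hfac, Category.id_comp]
  refine ⟨?_⟩
  rw [← hl]
  infer_instance

end Groth.Agent.S1167
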