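import Groth.Statements.S4366
import Groth.Agent.H17.Imports
import Mathlib.AlgebraicGeometry.ZariskisMainTheorem

set_option autoImplicit false
universe u
open SchMor

namespace Groth.Agent.S4366

open CategoryTheory Limits AlgebraicGeometry TopologicalSpace

open AlgebraicGeometry in
open CategoryTheory in
open CategoryTheory.Limits in
/-- Let f : X -> Y be a morphism, y a point of Y and Z = Spec O_{Y,y} the local scheme of Y at y with
its canonical morphism to Y. Then the projection p : X x_Y Z -> X induces isomorphisms on all local
rings: for every point t of X x_Y Z the homomorphism O_{X, p t} -> O_{X x_Y Z, t} is bijective. (The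
published statement also asserts that p is a homeomorphism onto the preimage of Z; that part is not
stated here.) -/
theorem result
    {X Y : Scheme.{u}} (f : X ⟶ Y) (y : Y) (t : ↑(pullback f (Y.fromSpecStalk y))) :
    IsIso ((pullback.fst f (Y.fromSpecStalk y)).stalkMap t) := by
  obtain ⟨_, ⟨(U : Y.Opens), hU, rfl⟩, hyU, -⟩ :=
    Y.isBasis_affineOpens.exists_subset_of_mem_open (Set.mem_univ y) isOpen_univ
  replace hU : IsAffineOpen U := hU
  have hflat : Flat (Y.fromSpecStalk y) := by
    rw [← hU.fromSpecStalk_eq_fromSpecStalk hyU, IsAffineOpen.fromSpecStalk]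
    let _ := TopCat.Presheaf.algebra_section_stalk Y.presheaf ⟨y, hyU⟩
    have := hU.isLocalization_stalk ⟨y, hyU⟩
    have : Flat (Spec.map (Y.presheaf.germ U y hyU)) := by
      rw [HasRingHomProperty.Spec_iff (P := @Flat)]
      exact IsLocalization.flat (Y.presheaf.stalk y) (hU.primeIdealOf ⟨y, hyU⟩).asIdeal.primeCompl
    infer_instance
  set p := pullback.fst f (Y.fromSpecStalk y)
  have : Flat p := MorphismProperty.pullback_fst _ _ hflat
  have hs : Function.Surjective (p.stalkMap t) := p.stalkMap_surjective t
  have hi : Function.Injective (p.stalkMap t) := by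
    have hfl : (p.stalkMap t).hom.Flat := Flat.stalkMap p t
    algebraize [(p.stalkMap t).hom]
    have : IsLocalHom (algebraMap (X.presheaf.stalk (p t)) ((pullback f (Y.fromSpecStalk y)).presheaf.stalk t)) :=
      inferInstanceAs (IsLocalHom (p.stalkMap t).hom)
    have := Module.FaithfullyFlat.of_flat_of_isLocalHom (A := X.presheaf.stalk (p t))
      (B := (pullback f (Y.fromSpecStalk y)).presheaf.stalk t)
    exact FaithfulSMul.algebraMap_injective (X.presheaf.stalk (p t)) ((pullback f (Y.fromSpecStalk y)).presheaf.stalk t)
  exact (ConcreteCategory.isIso_iff_bijective _).mpr ⟨hi, hs⟩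

end Groth.Agent.S4366
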