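import Groth.Statements.S9678
import Groth.Agent.H17.Birat
import Mathlib.AlgebraicGeometry.Stalk
import Mathlib.AlgebraicGeometry.Birational.Birational

set_option autoImplicit false
universe u
open CategoryTheory CategoryTheory.Limits AlgebraicGeometry
open Mor

namespace Groth.Agent.S9678

open CategoryTheory CategoryTheory.Limits AlgebraicGeometry TopologicalSpace
open Groth.Agent.H17.Birat Groth.Agent.H17.GenFinite Groth.Agent.H17.AssPts

/-- Suppose X and Y have finitely many irreducible components and f : X ⟶ Y is birational, i.e. f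
restricts to a bijection between the generic points of the irreducible components of X and those of
Y and induces an isomorphism of local rings at every generic point of an irreducible component of X.
Suppose moreover that Y is reduced and f is locally of finite type, or alternatively that f is
locally finitely presented. Then there are dense opens U ⊆ X and V ⊆ Y with f(U) ⊆ V such that the
restriction U ⟶ V of f is an isomorphism. -/
theorem result {X Y : Scheme.{u}} (f : X ⟶ Y)
    (hXfin : (irreducibleComponents ↥X).Finite) (hYfin : (irreducibleComponents ↥Y).Finite)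
    (hbij : Set.BijOn (fun x : X => f.base x) {x : X | closure {x} ∈ irreducibleComponents ↥X}
      {y : Y | closure {y} ∈ irreducibleComponents ↥Y})
    (hiso : ∀ x : X, closure {x} ∈ irreducibleComponents ↥X → IsIso (f.stalkMap x))
    (hf : (LocallyOfFiniteType f ∧ IsReduced Y) ∨ LocallyOfFinitePresentation f) :
    ∃ (U : X.Opens) (V : Y.Opens) (hUV : U ≤ f ⁻¹ᵁ V), Dense (U : Set ↥X) ∧ Dense (V : Set ↥Y) ∧
      IsIso (f.resLE V U hUV) := by
  haveI : LocallyOfFiniteType f := by
    rcases hf with ⟨h, _⟩ | h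
    · exact h
    · infer_instance
  obtain ⟨O, hO, hOd⟩ := exists_disjoint_nhds hYfin
  have key : ∀ x : genericPoints X, ∃ (U : X.Opens) (V : Y.Opens) (e : U ≤ f ⁻¹ᵁ V),
      x.1 ∈ U ∧ f x.1 ∈ V ∧ V ≤ O (f x.1) ∧ IsIso (f.resLE V U e) := by
    intro ⟨x, hx⟩
    obtain ⟨V₀, hV₀, hxV, hle⟩ := exists_isAffineOpen_mem_and_subset (hO _ (hbij.mapsTo hx))
    obtain ⟨U, V, e, h1, h2, h3, h4⟩ := exists_birational_chart f hbij hiso (hf.imp_left And.right) hx hV₀
      hxV fun γ hγ hγV => hOd.elim hγ (hbij.mapsTo hx) fun hd =>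
        (hd.le_bot ⟨hO γ hγ, hle hγV⟩ : γ ∈ (⊥ : Y.Opens))
    exact ⟨U, V, e, h1, h2, h3.trans fun z hz => hle hz, h4⟩
  choose U V e hxU hyV hVO h using key
  refine ⟨⨆ i, U i, ⨆ i, V i, iSup_le fun i => (e i).trans (f.preimage_mono (le_iSup V i)), ?_, ?_, ?_⟩
  · exact dense_of_genericPoints_subset fun γ hγ => Opens.mem_iSup.2 ⟨⟨γ, hγ⟩, hxU _⟩
  · refine dense_of_genericPoints_subset fun η hη => ?_
    obtain ⟨x, hx, rfl⟩ := hbij.surjOn hη
    exact Opens.mem_iSup.2 ⟨⟨x, hx⟩, hyV _⟩
  · refine isIso_resLE_iSup f U V e (fun i j hij => ?_) h _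
    refine (hOd (hbij.mapsTo i.2) (hbij.mapsTo j.2) fun h' => hij ?_).mono (hVO i) (hVO j)
    exact Subtype.ext (hbij.injOn i.2 j.2 h')

end Groth.Agent.S9678
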