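import Groth.Statements.S8896
import Groth.Agent.H29Slice.FibreReg
import Groth.Agent.H29Slice.SeqOps
import Groth.Agent.H29Blow.PointsOfAffine
import Mathlib

set_option autoImplicit false
universe u
open CategoryTheory CategoryTheory.Limits AlgebraicGeometry TopologicalSpace
open SDiv

namespace Groth.Agent.S8896

theorem finitePresentation_appLE_quot {X S : Scheme.{u}} (f : X ⟶ S) (I : X.IdealSheafData)
    [LocallyOfFinitePresentation (I.subschemeι ≫ f)]
    (U : S.affineOpens) (V : X.affineOpens) (e : V.1 ≤ f ⁻¹ᵁ U.1) :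
    ((Ideal.Quotient.mk (I.ideal V)).comp (f.appLE U.1 V.1 e).hom).FinitePresentation := by
  have h2 := LocallyOfFinitePresentation.finitePresentation_appLE (I.subschemeι ≫ f) U.2
    (V.2.preimage I.subschemeι) (fun y hy => e hy)
  rwa [← Scheme.Hom.appLE_comp_appLE I.subschemeι f U.1 V.1 (I.subschemeι ⁻¹ᵁ V.1) e le_rfl,
    ← Scheme.Hom.app_eq_appLE, Scheme.IdealSheafData.subschemeι_app, ← Category.assoc,
    CommRingCat.hom_comp, RingHom.finitePresentation_respectsIso.cancel_right_isIso, CommRingCat.hom_comp,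
    CommRingCat.hom_ofHom] at h2

theorem fg_ideal {X S : Scheme.{u}} (φ : X ⟶ S) [LocallyOfFinitePresentation φ] (I : X.IdealSheafData)
    [LocallyOfFinitePresentation (I.subschemeι ≫ φ)]
    (V : S.affineOpens) (U : X.affineOpens) (e : U.1 ≤ φ ⁻¹ᵁ V.1) : (I.ideal U).FG := by
  letI : Algebra Γ(S, V.1) Γ(X, U.1) := (φ.appLE V.1 U.1 e).hom.toAlgebra
  haveI : Algebra.FinitePresentation Γ(S, V.1) (Γ(X, U.1) ⧸ I.ideal U) := finitePresentation_appLE_quot φ I V U e
  haveI : Algebra.FinitePresentation Γ(S, V.1) Γ(X, U.1) :=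
    LocallyOfFinitePresentation.finitePresentation_appLE φ V.2 U.2 e
  have h3 := Algebra.FinitePresentation.ker_fG_of_surjective (Ideal.Quotient.mkₐ Γ(S, V.1) (I.ideal U))
    (Ideal.Quotient.mkₐ_surjective Γ(S, V.1) (I.ideal U))
  rwa [show RingHom.ker (Ideal.Quotient.mkₐ Γ(S, V.1) (I.ideal U)).toRingHom = I.ideal U from
    Ideal.Quotient.mkₐ_ker Γ(S, V.1) (I.ideal U)] at h3

theorem comap_eq_ker_snd {Y X : Scheme.{u}} (I : X.IdealSheafData) (g : Y ⟶ X) :
    I.comap g = (pullback.snd I.subschemeι g).ker := by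
  rw [← pullbackSymmetry_hom_comp_fst, Scheme.Hom.ker_comp_of_isIso,
    Scheme.IdealSheafData.ker_fst_of_isClosedImmersion, Scheme.IdealSheafData.ker_subschemeι]

theorem ker_toFibre_eq {X S : Scheme.{u}} (φ : X ⟶ S) {V : S.Opens} (hV : IsAffineOpen V)
    {U : X.Opens} (hU : IsAffineOpen U) (e : U ≤ φ ⁻¹ᵁ V) (x : X) (hx : x ∈ U)
    (z : φ.fiber (φ x)) (hz : φ.fiberι (φ x) z = x) :
    RingHom.ker (H8Props.FibreStalk.toFibre φ x (φ x) z hz).hom =
      (((hU.primeIdealOf ⟨x, hx⟩).asIdeal.comap (φ.appLE V U e).hom).map (φ.appLE V U e).hom).map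
        (X.presheaf.germ U x hx).hom := by
  rw [H8Props.FibreStalk.ker_toFibre]
  let q := hU.primeIdealOf ⟨x, hx⟩
  let γ := (X.presheaf.germ U x hx).hom
  letI : Algebra Γ(X, U) (X.presheaf.stalk x) := γ.toAlgebra
  haveI : IsLocalization.AtPrime (X.presheaf.stalk x) q.asIdeal := hU.isLocalization_stalk ⟨x, hx⟩
  let δ := (S.presheaf.germ V (φ x) (e hx)).hom
  letI : Algebra Γ(S, V) (S.presheaf.stalk (φ x)) := δ.toAlgebra
  haveI : IsLocalization.AtPrime (S.presheaf.stalk (φ x)) (hV.primeIdealOf ⟨φ x, e hx⟩).asIdeal :=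
    hV.isLocalization_stalk ⟨φ x, e hx⟩
  have hcomp : (φ.stalkMap x).hom.comp δ = γ.comp (φ.appLE V U e).hom := by
    refine RingHom.ext fun a => ?_
    show φ.stalkMap x (S.presheaf.germ V (φ x) (e hx) a) = X.presheaf.germ U x hx (φ.appLE V U e a)
    rw [Scheme.Hom.germ_stalkMap_apply]
    simp [Scheme.Hom.appLE]
  have hp : (hV.primeIdealOf ⟨φ x, e hx⟩).asIdeal = q.asIdeal.comap (φ.appLE V U e).hom := by
    rw [← IsLocalization.AtPrime.comap_maximalIdeal (S.presheaf.stalk (φ x)) (hV.primeIdealOf ⟨φ x, e hx⟩).asIdeal]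
    show (IsLocalRing.maximalIdeal _).comap δ = _
    rw [← IsLocalization.AtPrime.comap_maximalIdeal (X.presheaf.stalk x) q.asIdeal, Ideal.comap_comap,
      show (algebraMap Γ(X, U) (X.presheaf.stalk x)) = γ from rfl, ← hcomp, ← Ideal.comap_comap,
      ((IsLocalRing.local_hom_TFAE (φ.stalkMap x).hom).out 0 4 : IsLocalHom (φ.stalkMap x).hom ↔
        (IsLocalRing.maximalIdeal _).comap (φ.stalkMap x).hom = IsLocalRing.maximalIdeal _).mp inferInstance]
  rw [← IsLocalization.AtPrime.map_eq_maximalIdeal (hV.primeIdealOf ⟨φ x, e hx⟩).asIdeal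
    (S.presheaf.stalk (φ x)), Ideal.map_map, Ideal.map_map, hp,
    show (algebraMap Γ(S, V) (S.presheaf.stalk (φ x))) = δ from rfl, hcomp]

theorem regularImmersionAt_quasi {X S : Scheme.{u}} (φ : X ⟶ S) [Flat φ] [LocallyOfFinitePresentation φ]
    (𝓘 : X.IdealSheafData) [Flat (𝓘.subschemeι ≫ φ)] [LocallyOfFinitePresentation (𝓘.subschemeι ≫ φ)]
    (hfib : ∀ s : ↥S, RegImm.IsRegularImmersion RegImm.Kind.quasi (pullback.snd 𝓘.subschemeι (φ.fiberι s)))
    (z : 𝓘.subscheme) : RegImm.IsRegularImmersionAt RegImm.Kind.quasi 𝓘.subschemeι z := by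
  let x := 𝓘.subschemeι z
  obtain ⟨V, hV, hxV, -⟩ := exists_isAffineOpen_mem_and_subset (Opens.mem_top (φ x))
  obtain ⟨U, hU, hxU, hUV⟩ := exists_isAffineOpen_mem_and_subset (U := φ ⁻¹ᵁ V) (x := x) hxV
  have e : U ≤ φ ⁻¹ᵁ V := hUV
  let ι := φ.fiberι (φ x)
  let w := φ.asFiber x
  have hw : ι w = x := φ.fiberι_asFiber x
  obtain ⟨p, -, hp2⟩ := Scheme.Pullback.exists_preimage_pullback (f := 𝓘.subschemeι) (g := ι) z w hw.symm
  obtain ⟨Us, hpU, -, rs, hrs, hker⟩ := (hfib (φ x)).2 p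
  have hwUs : w ∈ Us.1 := hp2 ▸ hpU
  have hJs : (𝓘.comap ι).ideal Us = Ideal.ofList rs := by
    rw [comap_eq_ker_snd, Scheme.Hom.ker_apply]; exact hker
  obtain ⟨W, hW, hwW, hWle⟩ := exists_isAffineOpen_mem_and_subset (U := Us.1 ⊓ ι ⁻¹ᵁ U) (x := w)
    ⟨hwUs, show ι w ∈ U from hw.symm ▸ hxU⟩
  have hWU : W ≤ ι ⁻¹ᵁ U := fun y hy => (hWle hy).2
  have hWUs : W ≤ Us.1 := fun y hy => (hWle hy).1
  let R := (φ.fiber (φ x)).presheaf.stalk w
  let γs : Γ(φ.fiber (φ x), Us.1) →+* R := ((φ.fiber (φ x)).presheaf.germ Us.1 w hwUs).hom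
  let γW : Γ(φ.fiber (φ x), W) →+* R := ((φ.fiber (φ x)).presheaf.germ W w hwW).hom
  let J := 𝓘.ideal ⟨U, hU⟩
  let γ := (X.presheaf.germ U x hxU).hom
  let τ := (H8Props.FibreStalk.toFibre φ x (φ x) w hw).hom
  let ψ : Γ(X, U) →+* R := τ.comp γ
  have hψ : ψ = γW.comp (ι.appLE U W hWU).hom := by
    refine RingHom.ext fun k => ?_
    show τ (X.presheaf.germ U x hxU k) = (φ.fiber (φ x)).presheaf.germ W w hwW (ι.appLE U W hWU k)
    rw [H8Props.FibreStalk.germ_toFibre φ x (φ x) w hw U hxU k]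
    exact (TopCat.Presheaf.germ_res_apply (φ.fiber (φ x)).presheaf (homOfLE hWU) w hwW (ι.app U k)).symm
  let g : Fin rs.length → R := fun j => γs (rs.get j)
  have hspan : J.map ψ = Ideal.span (Set.range g) := by
    rw [hψ, ← Ideal.map_map, ← _root_.H29Blow.ideal_comap 𝓘 ι ⟨U, hU⟩ ⟨W, hW⟩ hWU,
      ← (𝓘.comap ι).map_ideal (U := ⟨W, hW⟩) (V := Us) hWUs, Ideal.map_map, hJs,
      Ideal.map_ofList, Ideal.ofList, ← List.ofFn_get (rs.map _)]
    refine congrArg Ideal.span (Set.ext fun y => ?_)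
    simp only [List.mem_ofFn, Set.mem_range, List.get_eq_getElem, List.getElem_map, g, Set.mem_setOf_eq]
    constructor
    · rintro ⟨j, rfl⟩
      exact ⟨Fin.cast (List.length_map _) j, (TopCat.Presheaf.germ_res_apply (φ.fiber (φ x)).presheaf (homOfLE hWUs) w hwW _).symm⟩
    · rintro ⟨j, rfl⟩
      exact ⟨Fin.cast (List.length_map _).symm j, TopCat.Presheaf.germ_res_apply (φ.fiber (φ x)).presheaf (homOfLE hWUs) w hwW _⟩
  letI : Algebra Γ(φ.fiber (φ x), Us.1) R := γs.toAlgebra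
  haveI := Us.2.isLocalization_stalk ⟨w, hwUs⟩
  have hgq : CAlgX.IsQuasiRegular g :=
    H29Slice.isQuasiRegular_localization (Us.2.primeIdealOf ⟨w, hwUs⟩).asIdeal.primeCompl hrs
  let q := hU.primeIdealOf ⟨x, hxU⟩
  letI : Algebra Γ(X, U) (X.presheaf.stalk x) := γ.toAlgebra
  haveI : IsLocalization.AtPrime (X.presheaf.stalk x) q.asIdeal := hU.isLocalization_stalk ⟨x, hxU⟩
  have hτ : Function.Surjective τ := H8Props.FibreStalk.toFibre_surjective φ x (φ x) w hw
  have hlift : ∀ j, ∃ k ∈ J, ∃ u : R, IsUnit u ∧ ψ k = g j * u := fun j => by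
    obtain ⟨y, hy, hyj⟩ := (Ideal.mem_map_iff_of_surjective τ hτ).mp
      (show g j ∈ (J.map γ).map τ from by rw [Ideal.map_map]; exact hspan ▸ Ideal.subset_span ⟨j, rfl⟩)
    obtain ⟨⟨⟨k, hk⟩, t⟩, hkt⟩ := (IsLocalization.mem_map_algebraMap_iff q.asIdeal.primeCompl
      (X.presheaf.stalk x)).mp (show y ∈ J.map (algebraMap Γ(X, U) (X.presheaf.stalk x)) from hy)
    refine ⟨k, hk, τ (γ t), ((IsLocalization.map_units (X.presheaf.stalk x) t : IsUnit (γ t))).map τ, ?_⟩
    show τ (γ k) = g j * τ (γ t)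
    rw [← hyj, ← map_mul]
    exact congrArg τ hkt.symm
  choose f hfJ u hu hfu using hlift
  have hfspan : Ideal.span (Set.range fun j => ψ (f j)) = Ideal.span (Set.range g) := by
    refine le_antisymm (Ideal.span_le.mpr ?_) (Ideal.span_le.mpr ?_)
    · rintro _ ⟨j, rfl⟩
      show ψ (f j) ∈ Ideal.span (Set.range g)
      exact (hfu j).symm ▸ Ideal.mul_mem_right (u j) _ (Ideal.subset_span ⟨j, rfl⟩)
    · rintro _ ⟨j, rfl⟩
      exact (Ideal.mul_unit_mem_iff_mem _ (hu j)).mp (hfu j ▸ Ideal.subset_span ⟨j, rfl⟩)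
  have hfq : CAlgX.IsQuasiRegular fun j => ψ (f j) := H06QR.isQuasiRegular_of_span_eq hgq _ hfspan
  have hfmem : ∀ j, f j ∈ q.asIdeal := fun j => by
    have hz : z ∈ 𝓘.subschemeι ⁻¹ᵁ U := hxU
    refine (_root_.H29Blow.mem_primeIdealOf_iff hU ⟨x, hxU⟩ _).mpr fun hun => ?_
    have h0 : 𝓘.subschemeι.app U (f j) = 0 :=
      (Scheme.IdealSheafData.ker_subschemeι_app 𝓘 ⟨U, hU⟩).ge (hfJ j)
    have h1 := hun.map (𝓘.subschemeι.stalkMap z).hom
    erw [Scheme.Hom.germ_stalkMap_apply, h0, map_zero] at h1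
    exact not_isUnit_zero h1
  letI : Algebra Γ(S, V) Γ(X, U) := (φ.appLE V U e).hom.toAlgebra
  have hkerτ : RingHom.ker τ = ((q.asIdeal.comap (algebraMap Γ(S, V) Γ(X, U))).map
      (algebraMap Γ(S, V) Γ(X, U))).map γ := ker_toFibre_eq φ hV hU e x hxU w hw
  let Pp := (q.asIdeal.comap (algebraMap Γ(S, V) Γ(X, U))).map (algebraMap Γ(S, V) Γ(X, U))
  have hmem : ∀ (K : Ideal Γ(X, U)) (k : Γ(X, U)), ψ k ∈ K.map ψ → ∃ t ∉ q.asIdeal, t * k ∈ K ⊔ Pp := by
    intro K k hk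
    have h1 : γ k ∈ (K ⊔ Pp).map γ := by
      have h2 : γ k ∈ ((K.map γ).map τ).comap τ := by rw [Ideal.map_map]; exact hk
      rw [Ideal.comap_map_of_surjective τ hτ, ← RingHom.ker_eq_comap_bot, hkerτ, ← Ideal.map_sup] at h2
      exact h2
    obtain ⟨t, ht, htk⟩ := (IsLocalization.algebraMap_mem_map_algebraMap_iff q.asIdeal.primeCompl
      (X.presheaf.stalk x) _ _).mp h1
    exact ⟨t, ht, htk⟩
  have hwR : RingTheory.Sequence.IsWeaklyRegular R (List.ofFn fun j => ψ (f j)) := by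
    haveI : LocallyOfFiniteType (φ.fiberToSpecResidueField (φ x)) :=
      MorphismProperty.pullback_snd (P := @LocallyOfFiniteType) _ _ inferInstance
    haveI : IsLocallyNoetherian (φ.fiber (φ x)) :=
      LocallyOfFiniteType.isLocallyNoetherian (φ.fiberToSpecResidueField (φ x))
    refine H29Slice.isWeaklyRegular_of_isQuasiRegular R _ (fun j => ?_) hfq
    rw [IsLocalRing.jacobson_eq_maximalIdeal ⊥ bot_ne_top]
    have h1 : γ (f j) ∈ IsLocalRing.maximalIdeal (X.presheaf.stalk x) := by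
      rw [← IsLocalization.AtPrime.map_eq_maximalIdeal q.asIdeal (X.presheaf.stalk x)]
      exact Ideal.mem_map_of_mem _ (hfmem j)
    haveI : IsLocalHom τ := .of_surjective τ hτ
    exact map_nonunit τ _ h1
  have hreg : H29Slice.RegOnFibre (A := Γ(S, V)) f q.asIdeal := by
    intro j c t ht hcmem
    refine hmem _ c ?_
    have h1 : ψ (t * (f j * c)) ∈ (Ideal.span (f '' Set.Iio j)).map ψ := by
      obtain ⟨a, ha, b, hb, hab⟩ := Submodule.mem_sup.mp hcmem
      rw [← hab, map_add]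
      refine add_mem (Ideal.mem_map_of_mem ψ ha) ?_
      have h2 : ψ b = 0 := (hkerτ.ge (Ideal.mem_map_of_mem γ hb) : τ (γ b) = 0)
      rw [h2]; exact zero_mem _
    rw [map_mul] at h1
    have hut : IsUnit (ψ t) := ((IsLocalization.map_units (X.presheaf.stalk x)
      (⟨t, ht⟩ : q.asIdeal.primeCompl) : IsUnit (γ t))).map τ
    rw [Ideal.unit_mul_mem_iff_mem _ hut, map_mul, Ideal.map_span, Set.image_image, mul_comm] at h1
    rw [Ideal.map_span, Set.image_image]
    exact (H13CInt.isWeaklyRegular_ofFn_iff _).mp hwR j (ψ c) h1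
  haveI : Algebra.FinitePresentation Γ(S, V) Γ(X, U) :=
    LocallyOfFinitePresentation.finitePresentation_appLE φ hV hU e
  haveI : Module.Flat Γ(S, V) Γ(X, U) := _root_.H29Blow.flat_appLE' φ ⟨V, hV⟩ ⟨U, hU⟩ e
  haveI : Module.Flat Γ(S, V) (Γ(X, U) ⧸ J) := _root_.H29Blow.flat_appLE_quot φ 𝓘 ⟨V, hV⟩ ⟨U, hU⟩ e
  obtain ⟨b₁, hb₁, htr⟩ := H29Slice.exists_transReg_of_fibre (A := Γ(S, V)) Γ(X, U) f q hfmem hreg
  obtain ⟨b₂, hb₂, hgen⟩ := H29Slice.exists_mul_mem_of_fibre (A := Γ(S, V)) J (Ideal.span (Set.range f))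
    (fg_ideal φ 𝓘 ⟨V, hV⟩ ⟨U, hU⟩ e) (Ideal.span_le.mpr (by rintro _ ⟨j, rfl⟩; exact hfJ j)) q fun k hk =>
      hmem _ k (by
        rw [Ideal.map_span, ← Set.range_comp,
          show Ideal.span (Set.range (ψ ∘ f)) = Ideal.span (Set.range g) from hfspan, ← hspan]
        exact Ideal.mem_map_of_mem ψ hk)
  let b := b₁ * b₂
  let L := Γ(X, X.basicOpen b)
  let res := (X.presheaf.map (homOfLE (X.basicOpen_le b)).op).hom
  letI : Algebra Γ(X, U) L := res.toAlgebra
  haveI : IsLocalization.Away b L := hU.isLocalization_basicOpen b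
  have hbq : b ∉ q.asIdeal := fun h => (q.isPrime.mem_or_mem h).elim hb₁ hb₂
  have hxb : x ∈ X.basicOpen b := by
    have h0 : q ∈ hU.fromSpec ⁻¹ᵁ X.basicOpen b := by
      rw [hU.fromSpec_preimage_basicOpen b]; exact hbq
    have h1 : hU.fromSpec q = x := hU.fromSpec_primeIdealOf ⟨x, hxU⟩
    rw [← h1]; exact h0
  refine ⟨⟨X.basicOpen b, hU.basicOpen b⟩, hxb, inferInstance, (List.ofFn f).map res, ?_, ?_⟩
  · let L₁ := Localization.Away b₁
    have hq₁ : CAlgX.IsQuasiRegular fun j => algebraMap Γ(X, U) L₁ (f j) :=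
      H13CInt.isQuasiRegular_of_isWeaklyRegular _ (by
        have := (htr L₁).1
        rwa [List.map_ofFn] at this)
    let b₂' := algebraMap Γ(X, U) L₁ b₂
    let L₂ := Localization.Away b₂'
    haveI : IsLocalization.Away (b₁ * b₂) L₂ := IsLocalization.Away.mul' L₁ L₂ b₁ b₂
    have hq₂ := H29Slice.isQuasiRegular_localization (L := L₂) (Submonoid.powers b₂') hq₁
    let e₂ : L₂ ≃ₐ[Γ(X, U)] L := IsLocalization.algEquiv (Submonoid.powers b) L₂ L
    letI : Algebra L₂ L := e₂.toAlgHom.toRingHom.toAlgebra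
    haveI := H29Slice.isLocalization_bot_of_bijective (R := L₂) (L := L) e₂.bijective
    have hq₃ := H29Slice.isQuasiRegular_localization (L := L) (⊥ : Submonoid L₂) hq₂
    have he : (fun j => algebraMap L₂ L (algebraMap L₁ L₂ (algebraMap Γ(X, U) L₁ (f j)))) = fun j => res (f j) :=
      funext fun j => by
        rw [← IsScalarTower.algebraMap_apply Γ(X, U) L₁ L₂]
        exact e₂.commutes (f j)
    rw [he] at hq₃
    rw [List.map_ofFn]
    have key : ∀ (n : ℕ) (h : n = rs.length), CAlgX.IsQuasiRegular (fun j : Fin n => res (f (Fin.cast h j))) := by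
      rintro n rfl; exact hq₃
    show CAlgX.IsQuasiRegular (List.ofFn (res ∘ f)).get
    rw [show (List.ofFn (res ∘ f)).get = fun j => res (f (Fin.cast (List.length_ofFn) j)) from
      funext fun j => (List.get_ofFn _ j).trans rfl]
    exact key _ _
  · rw [Scheme.IdealSheafData.ker_subschemeι_app 𝓘 ⟨X.basicOpen b, hU.basicOpen b⟩,
      ← 𝓘.map_ideal (U := ⟨X.basicOpen b, hU.basicOpen b⟩) (V := ⟨U, hU⟩) (X.basicOpen_le b),
      ← Ideal.map_ofList, show Ideal.ofList (List.ofFn f) = Ideal.span (Set.range f) from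
        congrArg Ideal.span (Set.ext fun y => List.mem_ofFn)]
    refine le_antisymm (Ideal.map_le_iff_le_comap.mpr fun k hk => ?_)
      (Ideal.map_mono (Ideal.span_le.mpr (by rintro _ ⟨j, rfl⟩; exact hfJ j)))
    have hub : IsUnit (res b₂) := isUnit_of_dvd_unit (map_dvd res (dvd_mul_left b₂ b₁))
      (X.toRingedSpace.isUnit_res_basicOpen b)
    rw [Ideal.mem_comap]
    refine (Ideal.unit_mul_mem_iff_mem _ hub).mp ?_
    exact (map_mul res b₂ k) ▸ Ideal.mem_map_of_mem res (hgen k hk)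



/-- Let φ : X ⟶ S be flat and locally of finite presentation and 𝓘 a quasi-coherent ideal sheaf on X
whose closed subscheme T is flat and locally of finite presentation over S. If for every point s of
S the fibre T_s ⟶ X_s (base change of T ⟶ X to the scheme-theoretic fibre) is a quasi-regular
immersion, then T ⟶ X is a relative quasi-regular immersion. -/
theorem result {X S : Scheme.{u}} (φ : X ⟶ S) [Flat φ] [LocallyOfFinitePresentation φ]
    (𝓘 : X.IdealSheafData) [Flat (𝓘.subschemeι ≫ φ)] [LocallyOfFinitePresentation (𝓘.subschemeι ≫ φ)]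
    (hfib : ∀ s : ↥S, RegImm.IsRegularImmersion RegImm.Kind.quasi (pullback.snd 𝓘.subschemeι (φ.fiberι s))) :
    RegImm.IsRelRegularImmersion RegImm.Kind.quasi φ 𝓘.subschemeι := by
  exact ⟨⟨inferInstance, fun z => regularImmersionAt_quasi φ 𝓘 hfib z⟩, inferInstance⟩

end Groth.Agent.S8896
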