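-- statement FlatMor.GrothFrozen.S1240 (Groth/Statements/S1240.lean; the theorem FlatMor.fibreDimAt_le_of_le_over_dense_open);
import Groth.Statements.S1240
import Groth.Agent.H7Flat.FibreDimConstructible

set_option autoImplicit false
universe u
open FlatMor
set_option backward.isDefEq.respectTransparency false
set_option linter.style.haveILetI false

namespace Groth.Agent.S1240

open AlgebraicGeometry CategoryTheory in
/-- Let f : X → S be flat and locally of finite type and U ⊆ S a dense open such that the fibres of f at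
points over U have local dimension at most e everywhere. If f is locally of finite presentation, or
U is retrocompact in S, then every fibre of f has local dimension at most e at every point. -/
theorem result {X S : Scheme.{u}} (f : X ⟶ S) [Flat f] [LocallyOfFiniteType f]
    (U : S.Opens) (hU : Dense (U : Set S)) (e : ℕ)
    (hle : ∀ x : X, f.base x ∈ U → FlatMor.fibreDimAt f x ≤ e)
    (h : LocallyOfFinitePresentation f ∨ IsRetrocompact (U : Set S)) (x : X) :
    FlatMor.fibreDimAt f x ≤ e := by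
  classical
  obtain ⟨U', hU', hyU', -⟩ := exists_isAffineOpen_mem_and_subset (Set.mem_univ (f x)) (U := (⊤ : S.Opens))
  obtain ⟨W, hW, hxW, hWle'⟩ := exists_isAffineOpen_mem_and_subset (show x ∈ f ⁻¹ᵁ U' from hyU')
  have hWle : W ≤ f ⁻¹ᵁ U' := hWle'
  haveI : IsAffine (W : Scheme.{u}) := hW
  haveI : IsAffine (U' : Scheme.{u}) := hU'
  let g := f.resLE U' W hWle
  haveI : QuasiCompact g := inferInstance
  haveI : Flat g := IsZariskiLocalAtSource.resLE hWle ‹Flat f›
  haveI : LocallyOfFiniteType g := IsZariskiLocalAtSource.resLE hWle ‹LocallyOfFiniteType f›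
  have key : ∀ w, FlatMor.fibreDimAt g w = FlatMor.fibreDimAt f (W.ι w) := fun w => by
    rw [← Groth.Agent.H8Props.FieldDim.fibreDimAt_comp_openImmersion g U'.ι w, Scheme.Hom.resLE_comp_ι,
      Groth.Agent.H8Props.FieldDim.fibreDimAt_openImmersion_comp]
  have hgen : ∀ s : ↑(U' : Scheme.{u}), U'.ι s ∈ U → topologicalKrullDim ↥(g.fiber s) ≤ ((e : ℕ∞) : WithBot ℕ∞) := by
    intro s hs
    refine (Groth.Agent.H7Flat.dim_fiber_le_iff g s _).2 fun w hw => ?_
    rw [key]
    refine hle _ ?_
    show f (W.ι w) ∈ U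
    rw [← Scheme.Hom.comp_apply, ← Scheme.Hom.resLE_comp_ι f hWle, Scheme.Hom.comp_apply]
    exact hw ▸ hs
  have hres : topologicalKrullDim ↥(g.fiber (g ⟨x, hxW⟩)) ≤ ((e : ℕ∞) : WithBot ℕ∞) := by
    rcases h with hlfp | hU'c
    · haveI : LocallyOfFinitePresentation g := IsZariskiLocalAtSource.resLE hWle hlfp
      by_contra hcon
      have hO := Groth.Agent.H7Flat.isOpen_lt_dim_fiber g ((e : ℕ∞) : WithBot ℕ∞)
      obtain ⟨_, ⟨t, ht, rfl⟩, htU⟩ := hU.inter_open_nonempty
        (U'.ι '' {s | ((e : ℕ∞) : WithBot ℕ∞) < topologicalKrullDim ↥(g.fiber s)})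
        (U'.ι.isOpenEmbedding.isOpenMap _ hO) ⟨_, _, lt_of_not_ge hcon, rfl⟩
      exact absurd (hgen t htU) (not_le.2 ht)
    · haveI : QuasiCompact U.ι := by
        refine ⟨fun K hK hKc => ?_⟩
        rw [U.ι.isOpenEmbedding.isEmbedding.isCompact_iff, Set.image_preimage_eq_inter_range, Scheme.Opens.range_ι,
          Set.inter_comm]
        exact hU'c hKc hK
      obtain ⟨η, hη⟩ := Groth.Agent.H05EGA4.exists_specializes_of_mem_closure_range U.ι
        (y := U'.ι (g ⟨x, hxW⟩)) (by rw [Scheme.Opens.range_ι, hU.closure_eq]; trivial)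
      have hηU' : U.ι η ∈ (U' : Set S) := hη.mem_open U'.2 (Subtype.mem _)
      have hspec : (⟨U.ι η, hηU'⟩ : ↑(U' : Scheme.{u})) ⤳ g ⟨x, hxW⟩ := by
        rw [← U'.ι.isEmbedding.isInducing.specializes_iff]
        exact hη
      refine (Groth.Agent.H7Flat.dim_fiber_le_of_specializes g hspec).trans (hgen _ ?_)
      exact Subtype.mem η
  exact ((key ⟨x, hxW⟩).symm.trans_le (((Groth.Agent.H7Flat.dim_fiber_le_iff g _ _).1 hres) _ rfl))

end Groth.Agent.S1240
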