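import Groth.Statements.S10419
import Groth.Agent.H13AlgSp.SepStrat
import Groth.Agent.H12AlgSp.OpenSub
import Groth.Agent.H12AlgSp.QC
import Groth.Agent.H7Weight.Bound
import Groth.Agent.H13AlgSp.SepStratQS
import Groth.Agent.H12AlgSp.QSApps
import Groth.Agent.H12AlgSp.QCPoint

set_option autoImplicit false
universe u
open CategoryTheory CategoryTheory.Limits AlgebraicGeometry Topology TopologicalSpace
open AlgSp Groth.Agent.H12AlgSp Groth.Agent.H13AlgSp Groth.Agent.H13AlgSp.SepStrat Groth.Agent.H7Weight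

namespace Groth.Agent.S10419

/-- Let S be a scheme with quasi-separated underlying space and X an algebraic space over S that is
quasi-compact and quasi-separated (X quasi-separated over S). There are an integer n and open
subspaces X = U_1 ⊇ U_2 ⊇ ⋯ ⊇ U_{n+1} = ∅ such that, with T_p = U_p ∖ U_{p+1} (reduced induced
structure), there is a quasi-compact separated scheme V_p with a surjective etale f_p : V_p ⟶ U_p
for which f_p⁻¹(T_p) ⟶ T_p is an isomorphism. -/
theorem result {S : Scheme.{u}} [QuasiSeparatedSpace ↥S] (X : AlgSp.Space S)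
    (hqc : AlgSp.IsQuasiCompactSp X.obj) (hqs : AlgSp.IsQuasiSeparatedSp X.obj) :
    ∃ (n : ℕ) (Uo : ℕ → AlgSp.Space S) (j : ∀ p, Uo p ⟶ X) (k : ∀ p, Uo (p + 1) ⟶ Uo p)
      (T : ℕ → AlgSp.Space S) (i : ∀ p, T p ⟶ Uo p),
      (∀ p, AlgSp.RepWith @IsOpenImmersion (j p).hom) ∧ (∀ p, k p ≫ j p = j (p + 1)) ∧ IsIso (j 1) ∧
      IsEmpty (AlgSp.Points (Uo (n + 1)).obj) ∧
      (∀ p, AlgSp.IsRedInduced (Set.range (AlgSp.Points.map (k p).hom))ᶜ (i p).hom) ∧
      (∀ p, 1 ≤ p → ∃ (V : Over S) (f : (AlgSp.yon S).obj V ⟶ (Uo p).obj), V.left.IsSeparated ∧ CompactSpace ↥V.left ∧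
        AlgSp.RepWith @Etale f ∧ AlgSp.RepWith @Surjective f ∧
        ∀ (P : AlgSp.Sp S) (fst : P ⟶ (T p).obj) (snd : P ⟶ (AlgSp.yon S).obj V),
          IsPullback fst snd (i p).hom f → IsIso fst) := by
  classical
  haveI := compactSpace_points_of_isQuasiCompactSp hqc
  obtain ⟨U, a, hU, ha, has⟩ := Groth.Agent.H12AlgSp.exists_affine_atlas X.property
  haveI := hU
  obtain ⟨M⟩ := nonempty_moduli (p := a) ha
  obtain ⟨hopen, hstr⟩ := exists_strata ha M
  obtain ⟨R, s', t', sqR⟩ := ha.rep a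
  obtain ⟨t', rfl⟩ := (yon S).map_surjective t'
  haveI : CompactSpace R.left := compactSpace_of_isPullback' hqs sqR
  haveI hsc : QuasiCompact s'.left := (quasiCompact_iff_compactSpace _).2 inferInstance
  have haqc : AlgSp.RepWith @QuasiCompact a := repWith_quasiCompact_of_atlas ha.1 ha has sqR hsc
  haveI : Etale s'.left := ha.property _ _ s' sqR
  haveI := lqf_of_etale s'.left
  obtain ⟨d, hd⟩ := exists_bound_pts s'.left
  have hbound : ∀ x n, Big a n x → n ≤ d := fun x n hn => by
    obtain ⟨u, rfl⟩ := surjective_ofPt_of_repWith le_rfl has x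
    refine le_of_big X.property ha sqR u (fun Ω _ _ η _ s => ?_) hn
    obtain ⟨hf, hc⟩ := hd Ω η
    exact (Nat.card_eq_finsetCard s).symm.le.trans ((Nat.card_le_card_of_injective _ Subtype.val_injective).trans hc)
  have hUo : ∀ p, AlgSp.IsAlgSpace (openSub {x | Big a p x}) := fun p =>
    isAlgSpace_of_representable _ (repWith_openSubι (hopen p)).1 X.property
  have hr : ∀ p, Set.range (AlgSp.Points.map (openSubι {x | Big a p x})) = {x | Big a p x} := fun p =>
    range_openSubι X.property _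
  haveI hm : ∀ p, Mono (openSubι {x | Big a p x}) := fun p => mono_of_openImmersion (repWith_openSubι (hopen p))
  choose k hk using fun p => exists_factor_open (repWith_openSubι (hopen p)) (openSubι {x | Big a (p + 1) x})
    (by rw [hr, hr]; exact fun x hx => Big.mono (Nat.le_succ p) hx)
  have hkr : ∀ p, Set.range (AlgSp.Points.map (k p)) =
      AlgSp.Points.map (openSubι {x | Big a p x}) ⁻¹' {x | Big a (p + 1) x} := fun p => by
    ext z
    rw [Set.mem_preimage]
    constructor
    · rintro ⟨w, rfl⟩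
      rw [← AlgSp.Points.map_comp, hk]
      exact (hr (p + 1)).le ⟨w, rfl⟩
    · intro hz
      rw [← hr (p + 1)] at hz
      obtain ⟨w, hw⟩ := hz
      exact ⟨w, injective_map_of_mono (openSubι {x | Big a p x}) (by rw [← AlgSp.Points.map_comp, hk, hw])⟩
  choose T i hT hi using fun p => exists_isRedInduced (hUo p)
    (((hopen (p + 1)).preimage (AlgSp.Points.continuous_map (openSubι {x | Big a p x}))).isClosed_compl)
  refine ⟨d, fun p => ⟨_, hUo p⟩, fun p => ObjectProperty.homMk (openSubι _), fun p => ObjectProperty.homMk (k p),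
    fun p => ⟨T p, hT p⟩, fun p => ObjectProperty.homMk (i p), fun p => repWith_openSubι (hopen p),
    fun p => ObjectProperty.hom_ext _ (hk p), ?_, ?_, fun p => ?_, fun p hp => ?_⟩
  · obtain ⟨l, hl⟩ := exists_factor_open (repWith_openSubι (hopen 1)) (𝟙 X.obj) (by
      rw [hr]; exact fun x _ => big_one ha has x)
    exact ⟨ObjectProperty.homMk l, ObjectProperty.hom_ext _ ((cancel_mono (openSubι {x | Big a 1 x})).1
      (show (openSubι {x | Big a 1 x} ≫ l) ≫ openSubι {x | Big a 1 x} = 𝟙 _ ≫ openSubι {x | Big a 1 x} by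
        rw [Category.assoc, hl, Category.comp_id, Category.id_comp])), ObjectProperty.hom_ext _ hl⟩
  · refine ⟨fun z => ?_⟩
    exact Nat.not_succ_le_self d (hbound _ _ ((hr (d + 1)).le ⟨z, rfl⟩))
  · show AlgSp.IsRedInduced (Set.range (AlgSp.Points.map (k p)))ᶜ (i p)
    rw [hkr]
    exact hi p
  · obtain ⟨V, f, h1, hc, h2, h3, h4⟩ := hstr p hp _ (repWith_openSubι (hopen p)) (hr p) (i p) fun z hz => by
      rw [AlgSp.Points.map_comp] at hz
      exact (hi p).2.1.le ⟨z, rfl⟩ hz
    exact ⟨V, f, h1, hc (M.isCompact_stratum ha haqc p hp), h2, h3, h4⟩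

end Groth.Agent.S10419
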