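import Groth.Statements.S10440
import Groth.Agent.H13AlgSp.HensComp
import Groth.Prelude.Def_AlgSpEt
import Groth.Agent.H12AlgSp.DecentField

set_option autoImplicit false
universe u
open CategoryTheory CategoryTheory.Limits AlgebraicGeometry Topology TopologicalSpace
open AlgSp

namespace Groth.Agent.S10440

set_option backward.isDefEq.respectTransparency false

/-- For a decent algebraic space X over a scheme S and x ∈ |X|, let g : (U', u') ⟶ (U, u) be a morphism
of elementary etale neighbourhoods of (X, x). If R is a henselization of O_{U', u'} then, through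
the local ring map O_{U, u} ⟶ O_{U', u'} induced by g, R is a henselization of O_{U, u} as well.
(The published statement identifies the henselian local ring at x, defined as the colimit of global
sections over all elementary etale neighbourhoods, with the henselization of O_{U, u}; that ring is
not a separate construction here, and this row states the resulting independence of the
henselization from the chosen neighbourhood.) -/
theorem result {S : Scheme.{u}} (X : AlgSp.Space S)
    (hX : AlgSp.IsDecent X.obj) (x : AlgSp.Points X.obj) {U U' : Over S}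
    (a : (AlgSp.yon S).obj U ⟶ X.obj) (a' : (AlgSp.yon S).obj U' ⟶ X.obj) (g : U' ⟶ U) (u' : ↥U'.left)
    (hg : (AlgSp.yon S).map g ≫ a = a') (ha : AlgSp.IsElemEtaleNbhd a (g.left.base u') x)
    (ha' : AlgSp.IsElemEtaleNbhd a' u' x) (R : Type u) [CommRing R] [IsLocalRing R]
    [Algebra ↥(U'.left.presheaf.stalk u') R] [IsLocalHom (algebraMap ↥(U'.left.presheaf.stalk u') R)]
    [Hensel.IsHenselization ↥(U'.left.presheaf.stalk u') R] :
    letI : Algebra ↥(U.left.presheaf.stalk (g.left.base u')) R :=
      ((algebraMap ↥(U'.left.presheaf.stalk u') R).comp (g.left.stalkMap u').hom).toAlgebra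
    ∃ (_ : IsLocalHom (algebraMap ↥(U.left.presheaf.stalk (g.left.base u')) R)),
      Hensel.IsHenselization ↥(U.left.presheaf.stalk (g.left.base u')) R := by
  have hres : Function.Surjective (IsLocalRing.ResidueField.map (g.left.stalkMap u').hom) := by
    let p := AlgSp.FieldPt.ofPt a (g.left.base u')
    let q := AlgSp.FieldPt.ofPt a' u'
    have hpq : AlgSp.Points.mk p = AlgSp.Points.mk q := ha.ofPt_eq.trans ha'.ofPt_eq.symm
    obtain ⟨c, -, hcu⟩ := H12AlgSp.exists_factor_of_mk_eq X.property p q ha.mono hpq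
    obtain ⟨d, hd, -⟩ := H12AlgSp.exists_factor_of_mk_eq X.property q p ha'.mono hpq.symm
    let c₀ : q.pt ⟶ p.pt := Over.homMk (Spec.map (g.left.residueFieldMap u')) (by
      change _ ≫ U.left.fromSpecResidueField _ ≫ U.hom = U'.left.fromSpecResidueField _ ≫ U'.hom
      erw [← Category.assoc, g.left.SpecMap_residueFieldMap_fromSpecResidueField, Category.assoc, Over.w g])
    have hc₀ : (AlgSp.yon S).map c₀ ≫ p.toHom = q.toHom := by
      rw [AlgSp.FieldPt.toHom_ofPt, AlgSp.FieldPt.toHom_ofPt, ← hg, ← Category.assoc, ← Category.assoc,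
        ← Functor.map_comp, ← Functor.map_comp]
      congr 2
      ext : 1
      exact g.left.SpecMap_residueFieldMap_fromSpecResidueField u'
    have h₁ : c₀ ≫ d = 𝟙 q.pt := by
      obtain ⟨e, -, heu⟩ := H12AlgSp.exists_factor_of_mk_eq X.property q q ha'.mono rfl
      rw [heu (c₀ ≫ d) (by dsimp only; rw [Functor.map_comp, Category.assoc, hd, hc₀]),
        heu (𝟙 q.pt) (by dsimp only; rw [CategoryTheory.Functor.map_id, Category.id_comp])]
    have h₂ : d ≫ c₀ = 𝟙 p.pt := by
      obtain ⟨e, -, heu⟩ := H12AlgSp.exists_factor_of_mk_eq X.property p p ha.mono rfl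
      rw [heu (d ≫ c₀) (by dsimp only; rw [Functor.map_comp, Category.assoc, hc₀, hd]),
        heu (𝟙 p.pt) (by dsimp only; rw [CategoryTheory.Functor.map_id, Category.id_comp])]
    have : IsIso (Spec.map (g.left.residueFieldMap u')) :=
      ⟨d.left, congrArg (fun k : q.pt ⟶ q.pt => k.left) h₁, congrArg (fun k : p.pt ⟶ p.pt => k.left) h₂⟩
    have : IsIso (g.left.residueFieldMap u') := by
      obtain ⟨φ, hφ⟩ := Spec.map_surjective (inv (Spec.map (g.left.residueFieldMap u')))
      exact ⟨φ, Spec.map_injective (by rw [Spec.map_comp, Spec.map_id, hφ, IsIso.inv_hom_id]),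
        Spec.map_injective (by rw [Spec.map_comp, Spec.map_id, hφ, IsIso.hom_inv_id])⟩
    exact ((ConcreteCategory.isIso_iff_bijective (g.left.residueFieldMap u')).1 ‹_›).2
  let : Algebra ↥(U.left.presheaf.stalk (g.left.base u')) R :=
    ((algebraMap ↥(U'.left.presheaf.stalk u') R).comp (g.left.stalkMap u').hom).toAlgebra
  have hloc : IsLocalHom (algebraMap ↥(U.left.presheaf.stalk (g.left.base u')) R) :=
    RingHom.isLocalHom_comp (algebraMap ↥(U'.left.presheaf.stalk u') R) (g.left.stalkMap u').hom
  refine ⟨hloc, ?_⟩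
  obtain ⟨V, hV, hxV, -⟩ := exists_isAffineOpen_mem_and_subset (x := g.left.base u') (U := ⊤) trivial
  obtain ⟨V', hV', hxV', hle⟩ := exists_isAffineOpen_mem_and_subset (x := u') (U := g.left ⁻¹ᵁ V) hxV
  have het : Etale g.left := AlgSp.EtOver.etale_left
    (AlgSp.EtOver.homMk (E := AlgSp.EtOver.mk a' ha'.etale) (E' := AlgSp.EtOver.mk a ha.etale) g hg)
  algebraize [(g.left.appLE V V' hle).hom]
  have : Algebra.Etale Γ(U.left, V) Γ(U'.left, V') :=
    (RingHom.etale_algebraMap (R := Γ(U.left, V)) (S := Γ(U'.left, V'))).mp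
      (HasRingHomProperty.appLE @Etale g.left het ⟨V, hV⟩ ⟨V', hV'⟩ hle)
  let := TopCat.Presheaf.algebra_section_stalk U.left.presheaf (⟨g.left.base u', hxV⟩ : V)
  let := TopCat.Presheaf.algebra_section_stalk U'.left.presheaf (⟨u', hxV'⟩ : V')
  have := hV.isLocalization_stalk ⟨g.left.base u', hxV⟩
  have := hV'.isLocalization_stalk ⟨u', hxV'⟩
  refine H13AlgSp.isHenselization_comp (R₀ := Γ(U.left, V)) (B₀ := Γ(U'.left, V'))
    (hV.primeIdealOf ⟨g.left.base u', hxV⟩).asIdeal (hV'.primeIdealOf ⟨u', hxV'⟩).asIdeal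
    (g.left.stalkMap u').hom ?_ hres rfl
  ext r
  change (g.left.stalkMap u').hom (U.left.presheaf.germ V _ hxV r) =
    U'.left.presheaf.germ V' u' hxV' ((g.left.appLE V V' hle).hom r)
  rw [← ConcreteCategory.comp_apply, g.left.germ_stalkMap V u' hxV]
  simp [Scheme.Hom.appLE, TopCat.Presheaf.germ_res_apply]

end Groth.Agent.S10440
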