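import Groth.Statements.S9237
import Groth.Agent.H9Hens.BranchCount
-- import your own Groth.Agent.* helpers here

set_option autoImplicit false
universe u
open Brnch

namespace Groth.Agent.S9237

/-- Let A be a local ring and S a henselization of A. Then the number of minimal prime ideals of S, a
natural number or infinity, equals the number of branches of A as computed from the integral closure
of A_red in its total ring of fractions: infinity if A has infinitely many minimal primes, and
otherwise the number of maximal ideals of that integral closure. -/
theorem result (A S : Type u) [CommRing A]
    [IsLocalRing A] [CommRing S] [IsLocalRing S] [Algebra A S] [IsLocalHom (algebraMap A S)]
    [Hensel.IsHenselization A S] :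
    ENat.card (minimalPrimes S) = Brnch.numBranches A := by
  exact H9Hens.card_minimalPrimes_henselization A S

end Groth.Agent.S9237
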