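import Groth.Statements.S9752
import Groth.Agent.H9Hens.BranchScheme
-- import your own Groth.Agent.* helpers here

set_option autoImplicit false
universe u
open Brnch

namespace Groth.Agent.S9752

open AlgebraicGeometry CategoryTheory Limits in
/-- For a point x of a scheme X, the branch count of X at x (in ℕ∞) is the least upper bound, taken over
all elementary étale neighbourhoods (U, u) → (X, x) (g : U ⟶ X étale with g u = x and trivial
residue field extension), of how many irreducible components of U contain u. -/
theorem result (X : Scheme.{u}) (x : X) :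
    Brnch.numBranchesAt X x = ⨆ (U : Scheme.{u}) (g : U ⟶ X) (u : U) (_ : Hens2.IsEtaleNbhd g u x),
      {Z : Set ↑U | Z ∈ irreducibleComponents ↑U ∧ u ∈ Z}.encard := by
  classical
  obtain ⟨H, _, _, _, _, π, hπ, hH⟩ :=
    Groth.Agent.H9Hens.exists_isHenselization_colim (X.presheaf.stalk x)
  have hker := Groth.Agent.H9Hens.ker_algebraMap_residueField (R := X.presheaf.stalk x)
  have hcard : Brnch.numBranchesAt X x = (minimalPrimes H).encard :=
    (Groth.Agent.H9Hens.card_minimalPrimes_henselization (X.presheaf.stalk x) H).symm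
  rw [hcard]
  refine le_antisymm (Groth.Agent.H9Hens.BranchNbhd.encard_le_of_finset fun Q hQ => ?_)
    (iSup_le fun U => iSup_le fun g => iSup_le fun u => iSup_le fun h => ?_)
  · obtain ⟨U, g, t, pt, hE, ht, -, hle⟩ :=
      Groth.Agent.H9Hens.BranchNbhd.exists_card_le_components x hker hπ Q hQ
    obtain ⟨hx, hb⟩ := Groth.Agent.H9Hens.BranchNbhd.residue_bijective_of_factor g x t ht pt
    exact hle.trans (le_iSup_of_le U (le_iSup_of_le g (le_iSup_of_le (t pt)
      (le_iSup_of_le ⟨hE, hx, hb⟩ le_rfl))))
  · obtain ⟨hE, rfl, hb⟩ := h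
    exact Groth.Agent.H9Hens.BranchNbhd.encard_components_le (g u) hπ g u rfl
      fun V hV hu W hW hx e =>
        Groth.Agent.H9Hens.BranchNbhd.exists_chart_point_residue g u V hu W hx e hb hV

end Groth.Agent.S9752
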