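import Groth.Statements.S10390
import Groth.Agent.H13AlgSp.PointFibre

set_option autoImplicit false
universe u
open CategoryTheory CategoryTheory.Limits AlgebraicGeometry Topology TopologicalSpace
open AlgSp

namespace Groth.Agent.S10390

open Groth.Agent.H12AlgSp Groth.Agent.H13AlgSp


/-- Let S be a scheme, X and Y algebraic spaces over S, and f : X ⟶ Y a morphism, and let y ∈ |Y| be a
point represented by a monomorphism Spec k ⟶ Y which is representable quasi-compact. Then for the
fibre X_k = Spec k ×_Y X the map |X_k| → |X| is a homeomorphism of |X_k| onto f⁻¹({y}) with its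
induced topology. -/
theorem result {S : Scheme.{u}} {X Y : AlgSp.Space S} (f : X ⟶ Y)
    (r : AlgSp.FieldPt Y.obj) (hm : Mono r.toHom) (hq : AlgSp.RepWith @QuasiCompact r.toHom)
    (Xk : AlgSp.Space S) (fst : Xk ⟶ X) (snd : Xk.obj ⟶ (AlgSp.yon S).obj r.pt) (hsq : IsPullback fst.hom snd f.hom r.toHom) :
    IsEmbedding (AlgSp.Points.map fst.hom) ∧
      Set.range (AlgSp.Points.map fst.hom) = AlgSp.Points.map f.hom ⁻¹' {AlgSp.Points.mk r} := by
  have := hm
  have : Mono fst.hom := mono_of_sq hsq
  have hi : AlgSp.RepWith @QuasiCompact fst.hom := repWith_of_isPullback hsq.flip hq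
  refine ⟨?_, ?_⟩
  · obtain ⟨U, V, a, b, h, ha, has, hb, -, w⟩ := exists_chart X.property Y.property f.hom
    obtain ⟨P, g, fP, sqP⟩ := hi.1 a
    obtain ⟨Vk, j, k, sqV⟩ := hq.1 b
    obtain ⟨k, rfl⟩ := (AlgSp.yon S).map_surjective k
    have := isPreimmersion_fibre r hq hb sqV
    have big : IsPullback (fP ≫ snd) ((AlgSp.yon S).map g) r.toHom ((AlgSp.yon S).map h ≫ b) := by
      rw [← w]
      exact (sqP.flip.paste_vert hsq).flip |> fun h => by simpa using h
    obtain ⟨m, hm1⟩ := (AlgSp.yon S).map_surjective (sqV.lift (fP ≫ snd) ((AlgSp.yon S).map (g ≫ h))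
      (by rw [Functor.map_comp, Category.assoc]; simpa using big.w))
    have hmj : m ≫ j = g ≫ h := (AlgSp.yon S).map_injective (by
      rw [Functor.map_comp, hm1, sqV.lift_snd])
    have left : IsPullback m g j h := IsPullback.of_map (AlgSp.yon S) hmj
      (IsPullback.of_right (by rw [hm1, sqV.lift_fst]; exact big) (by rw [← Functor.map_comp, hmj, Functor.map_comp]) sqV)
    have : IsPreimmersion g.left :=
      MorphismProperty.of_isPullback (P := @IsPreimmersion) (left.map (Over.forget S)) ‹_›
    exact isEmbedding_of_chart fst.hom ha has sqP g.left.isEmbedding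
  · rw [range_snd_of_isPullback hsq.flip]
    congr 1
    ext y
    constructor
    · rintro ⟨z, rfl⟩
      obtain ⟨z, rfl⟩ := (AlgSp.Points.schemeEquiv r.pt).surjective z
      change AlgSp.Points.map _ (AlgSp.Points.ofScheme _ _) = _
      rw [← AlgSp.Points.ofPt_eq_map_ofScheme, AlgSp.Points.ofPt_toHom]
    · rintro rfl
      exact ⟨AlgSp.Points.ofScheme r.pt (IsLocalRing.closedPoint r.K), by
        rw [← AlgSp.Points.ofPt_eq_map_ofScheme, AlgSp.Points.ofPt_toHom]⟩

end Groth.Agent.S10390
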