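import Groth.Statements.S10618

set_option autoImplicit false
universe u
open CategoryTheory CategoryTheory.Limits AlgebraicGeometry
open AlgSp

namespace Groth.Agent.S10618

/-- Let a : F ⟶ G and b : G ⟶ H be morphisms of fppf sheaves on (Sch/S) with b formally unramified. If a
≫ b is formally unramified, resp. formally etale, resp. formally smooth, then so is a. (The
published statement is for transformations of arbitrary presheaves of sets on (Sch/S)_fppf; this row
takes fppf sheaves, the case of algebraic spaces.) -/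
theorem result {S : Scheme.{u}} {F G H : AlgSp.Sp S} (a : F ⟶ G) (b : G ⟶ H)
    (hb : AlgSp.IsFormallyUnramifiedMor b) :
    (AlgSp.IsFormallyUnramifiedMor (a ≫ b) → AlgSp.IsFormallyUnramifiedMor a) ∧
    (AlgSp.IsFormallyEtaleMor (a ≫ b) → AlgSp.IsFormallyEtaleMor a) ∧
    (AlgSp.IsFormallySmoothMor (a ≫ b) → AlgSp.IsFormallySmoothMor a) := by
  classical
  let sqAB : AlgSp.InfSq a → AlgSp.InfSq (a ≫ b) := fun sq =>
    { A := sq.A, I := sq.I, sq_zero := sq.sq_zero, str := sq.str, top := sq.top, bot := sq.bot ≫ b,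
      comm := (Category.assoc _ _ _).symm.trans ((congrArg (· ≫ b) sq.comm).trans (Category.assoc _ _ _)) }
  let sqB : AlgSp.InfSq a → AlgSp.InfSq b := fun sq =>
    { A := sq.A, I := sq.I, sq_zero := sq.sq_zero, str := sq.str, top := sq.top ≫ a, bot := sq.bot ≫ b,
      comm := (congrArg (· ≫ b) sq.comm).trans (Category.assoc _ _ _) }
  have key : ∀ (sq : AlgSp.InfSq a) (l : (AlgSp.yon S).obj sq.ptT' ⟶ F),
      (AlgSp.yon S).map sq.j ≫ l = sq.top → l ≫ a ≫ b = sq.bot ≫ b → l ≫ a = sq.bot := by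
    intro sq l h1 h2
    exact hb (sqB sq) (l ≫ a) sq.bot ((Category.assoc _ _ _).symm.trans (congrArg (· ≫ a) h1))
      ((Category.assoc _ _ _).trans h2) sq.comm.symm rfl
  refine ⟨fun h sq l l' h1 h2 h1' h2' => ?_, fun h sq => ?_, fun h sq => ?_⟩
  · exact h (sqAB sq) l l' h1 ((Category.assoc _ _ _).symm.trans (congrArg (· ≫ b) h2)) h1'
      ((Category.assoc _ _ _).symm.trans (congrArg (· ≫ b) h2'))
  · obtain ⟨l, ⟨h1, h2⟩, hu⟩ := h (sqAB sq)
    exact ⟨l, ⟨h1, key sq l h1 h2⟩, fun l' ⟨h1', h2'⟩ =>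
      hu l' ⟨h1', (Category.assoc _ _ _).symm.trans (congrArg (· ≫ b) h2')⟩⟩
  · obtain ⟨l, h1, h2⟩ := h (sqAB sq)
    exact ⟨l, h1, key sq l h1 h2⟩

end Groth.Agent.S10618
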