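import Groth.Statements.S10619

set_option autoImplicit false
universe u
open CategoryTheory CategoryTheory.Limits AlgebraicGeometry
open AlgSp

namespace Groth.Agent.S10619

/-- A composition of formally smooth, resp. formally etale, resp. formally unramified morphisms of fppf
sheaves on (Sch/S) is again formally smooth, resp. formally etale, resp. formally unramified. (The
published statement is for transformations of arbitrary presheaves of sets on (Sch/S)_fppf; this row
takes fppf sheaves, the case of algebraic spaces.) -/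
theorem result {S : Scheme.{u}} {F G H : AlgSp.Sp S} (a : F ⟶ G) (b : G ⟶ H) :
    (AlgSp.IsFormallySmoothMor a → AlgSp.IsFormallySmoothMor b → AlgSp.IsFormallySmoothMor (a ≫ b)) ∧
    (AlgSp.IsFormallyEtaleMor a → AlgSp.IsFormallyEtaleMor b → AlgSp.IsFormallyEtaleMor (a ≫ b)) ∧
    (AlgSp.IsFormallyUnramifiedMor a → AlgSp.IsFormallyUnramifiedMor b → AlgSp.IsFormallyUnramifiedMor (a ≫ b)) := by
  classical
  let sqB : AlgSp.InfSq (a ≫ b) → AlgSp.InfSq b := fun sq =>
    { A := sq.A, I := sq.I, sq_zero := sq.sq_zero, str := sq.str, top := sq.top ≫ a, bot := sq.bot,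
      comm := by rw [Category.assoc]; exact sq.comm }
  refine ⟨fun ha hb sq => ?_, fun ha hb sq => ?_, fun ha hb sq => ?_⟩
  · obtain ⟨m, hm1, hm2⟩ := hb (sqB sq)
    obtain ⟨l, hl1, hl2⟩ := ha { A := sq.A, I := sq.I, sq_zero := sq.sq_zero, str := sq.str, top := sq.top, bot := m, comm := hm1.symm }
    exact ⟨l, hl1, (Category.assoc l a b).symm.trans ((congrArg (· ≫ b) hl2).trans hm2)⟩
  · obtain ⟨m, ⟨hm1, hm2⟩, hmu⟩ := hb (sqB sq)
    obtain ⟨l, ⟨hl1, hl2⟩, hlu⟩ := ha { A := sq.A, I := sq.I, sq_zero := sq.sq_zero, str := sq.str, top := sq.top, bot := m, comm := hm1.symm }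
    refine ⟨l, ⟨hl1, (Category.assoc l a b).symm.trans ((congrArg (· ≫ b) hl2).trans hm2)⟩,
      fun l' ⟨h1, h2⟩ => hlu l' ⟨h1, hmu (l' ≫ a) ⟨?_, ?_⟩⟩⟩
    · exact (Category.assoc _ _ _).symm.trans (congrArg (· ≫ a) h1)
    · exact (Category.assoc _ _ _).trans h2
  · intro l l' h1 h2 h1' h2'
    have e : l ≫ a = l' ≫ a := hb (sqB sq) (l ≫ a) (l' ≫ a)
      ((Category.assoc _ _ _).symm.trans (congrArg (· ≫ a) h1)) ((Category.assoc _ _ _).trans h2)
      ((Category.assoc _ _ _).symm.trans (congrArg (· ≫ a) h1')) ((Category.assoc _ _ _).trans h2')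
    exact ha
      { A := sq.A, I := sq.I, sq_zero := sq.sq_zero, str := sq.str, top := sq.top,
        bot := l ≫ a, comm := ((Category.assoc _ _ _).symm.trans (congrArg (· ≫ a) h1)).symm }
      l l' h1 rfl h1' e.symm

end Groth.Agent.S10619
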