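import Groth.Statements.S1488
import Groth.Agent.H8Props.FormallySmoothScheme

set_option autoImplicit false
universe u
open FlatMor

namespace Groth.Agent.S1488

open AlgebraicGeometry CategoryTheory Limits in
/-- A morphism f : X → S is smooth if and only if it is locally of finite presentation and formally
smooth, i.e. has the lifting property against first order thickenings of affine schemes (rings in
the same universe). -/
theorem result {X S : Scheme.{u}} (f : X ⟶ S) :
    Smooth f ↔ LocallyOfFinitePresentation f ∧ MoreMor.IsFormallySmoothHom f := by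
  rw [Groth.Agent.H8Props.FormallySmoothScheme.isFormallySmoothHom_iff f, HasRingHomProperty.iff_appLE (P := @Smooth),
    HasRingHomProperty.iff_appLE (P := @LocallyOfFinitePresentation)]
  constructor
  · intro h
    refine ⟨fun U V hUV ↦ ?_, fun U V hU hV hUV ↦ ?_⟩
    · have h' := h U V hUV
      algebraize [(f.appLE U.1 V.1 hUV).hom]
      exact inferInstanceAs (Algebra.FinitePresentation _ _)
    · have h' := h ⟨V, hV⟩ ⟨U, hU⟩ hUV
      algebraize [(f.appLE V U hUV).hom]
      infer_instance
  · rintro ⟨h1, h2⟩ U V hUV
    have h1' := h1 U V hUV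
    have h2' := h2 V.1 U.1 V.2 U.2 hUV
    algebraize [(f.appLE U.1 V.1 hUV).hom]
    exact ⟨h2', h1'⟩

end Groth.Agent.S1488
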