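import Groth.Statements.S2004
import Groth.Agent.H9Hens.GlueFlat
-- import your own Groth.Agent.* helpers here

set_option autoImplicit false
universe u
open TensorProduct
open EtAlg

namespace Groth.Agent.S2004

/-- Let R -> R' induce bijections R/f^n R -> R'/f^n R' for all n > 0. Then (R -> R', f) is a glueing
pair if and only if R -> R' maps the f-power torsion of R bijectively onto the f-power torsion of R'
(stated as: injective on f-power torsion elements, and every f-power torsion element of R' is the
image of one of R). -/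
theorem result (R R' : Type u) [CommRing R] [CommRing R'] [Algebra R R'] (f : R)
    (hq : EtGlue.QuotPowBijective R R' f) :
    EtGlue.IsGlueingPair R R' f ↔
      ((∀ x : R, (∃ n : ℕ, f ^ n * x = 0) → algebraMap R R' x = 0 → x = 0) ∧
       (∀ x' : R', (∃ n : ℕ, algebraMap R R' f ^ n * x' = 0) →
          ∃ x : R, (∃ n : ℕ, f ^ n * x = 0) ∧ algebraMap R R' x = x')) := by
  constructor
  · rintro ⟨-, h1, h2, -⟩
    refine ⟨fun x hx h0 => h1 (Prod.ext ?_ ?_), fun x' hx' => ?_⟩
    · show algebraMap R R' x = algebraMap R R' 0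
      rw [h0, map_zero]
    · show algebraMap R (Localization.Away f) x = algebraMap R (Localization.Away f) 0
      rw [map_zero, H9Hens.Glue.algebraMap_away_eq_zero_iff]
      exact hx
    · obtain ⟨r, hr1, hr2⟩ := h2 x' 0 (by
        rw [map_zero, H9Hens.Glue.algebraMap_away_eq_zero_iff]; exact hx')
      exact ⟨r, (H9Hens.Glue.algebraMap_away_eq_zero_iff f r).mp hr2, hr1⟩
  · rintro ⟨hi, hs⟩
    refine ⟨hq, fun a b hab => ?_, fun x y hxy => ?_, fun z => ?_⟩
    · simp only [Prod.mk.injEq] at hab
      rw [← sub_eq_zero]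
      refine hi _ ((H9Hens.Glue.algebraMap_away_eq_zero_iff f _).mp ?_) ?_
      · rw [map_sub, hab.2, sub_self]
      · rw [map_sub, hab.1, sub_self]
    · obtain ⟨n, r, hr⟩ := IsLocalization.Away.surj f y
      obtain ⟨k, hk⟩ := (H9Hens.Glue.algebraMap_away_eq_zero_iff (algebraMap R R' f)
        (algebraMap R R' f ^ n * x - algebraMap R R' r)).mp (by
          rw [map_sub, map_mul, hxy, ← H9Hens.Glue.awayMap_algebraMap r, ← hr, map_mul, map_pow,
            map_pow, H9Hens.Glue.awayMap_algebraMap f]
          ring)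
      rw [mul_sub, ← mul_assoc, ← pow_add, sub_eq_zero, ← map_pow, ← map_pow, ← map_mul] at hk
      have hmem := (H9Hens.Glue.cong_span_pow hq (k + n)).mem (f ^ k * r) (by
        rw [← hk, Ideal.map_span, Set.image_singleton]
        exact Ideal.mul_mem_right _ _ (Ideal.mem_span_singleton_self _))
      obtain ⟨r', hr'⟩ := Ideal.mem_span_singleton'.mp hmem
      obtain ⟨t, ⟨l, hl⟩, htx⟩ := hs (x - algebraMap R R' r') ⟨k + n, by
        rw [← map_pow, mul_sub, hk, ← hr', ← map_mul, mul_comm, sub_self]⟩
      refine ⟨r' + t, by rw [map_add, htx, add_sub_cancel], ?_⟩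
      have hu := (IsLocalization.Away.algebraMap_isUnit (S := Localization.Away f) f).pow n
      refine hu.mul_left_inj.mp ?_
      rw [hr, map_add, (H9Hens.Glue.algebraMap_away_eq_zero_iff f t).mpr ⟨l, hl⟩, add_zero,
        ← map_pow, ← map_mul, ← sub_eq_zero, ← map_sub, H9Hens.Glue.algebraMap_away_eq_zero_iff]
      exact ⟨k, by rw [mul_sub, ← hr', pow_add]; ring⟩
    · obtain ⟨n, x', hx'⟩ := IsLocalization.Away.surj (algebraMap R R' f) z
      obtain ⟨r, hr⟩ := (H9Hens.Glue.cong_span_pow hq n).exists_sub x'
      rw [Ideal.map_span, Set.image_singleton, map_pow, Ideal.mem_span_singleton'] at hr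
      obtain ⟨s, hs'⟩ := hr
      have hu := (IsLocalization.Away.algebraMap_isUnit (S := Localization.Away f) f).pow n
      obtain ⟨v, hv⟩ := hu.exists_left_inv
      refine ⟨s, -(algebraMap R _ r * v), ?_⟩
      refine ((IsLocalization.Away.algebraMap_isUnit
        (S := Localization.Away (algebraMap R R' f)) (algebraMap R R' f)).pow n).mul_left_inj.mp ?_
      rw [hx', map_neg, sub_neg_eq_add, add_mul, map_mul, H9Hens.Glue.awayMap_algebraMap]
      have h1 := congrArg (Localization.awayMap (algebraMap R R') f) hv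
      rw [map_mul, map_pow, H9Hens.Glue.awayMap_algebraMap, map_one] at h1
      rw [mul_assoc, h1, mul_one, ← map_pow, ← map_mul, ← map_add, hs', sub_add_cancel]

end Groth.Agent.S2004
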