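import Groth.Statements.S10727
import Groth.Agent.H9Hens.Glue
import Mathlib.RingTheory.Localization.BaseChange
import Mathlib.RingTheory.TensorProduct.Maps
-- import your own Groth.Agent.* helpers here

set_option autoImplicit false
universe u
open TensorProduct
open EtAlg

namespace Groth.Agent.S10727

open scoped TensorProduct

/-- Glueing affine schemes along a glueing pair, stated for their coordinate rings. Let `(R → R', f)` be
a glueing pair, `A₁` an `R`-algebra in which `f` is invertible, `A'` an `R'`-algebra and `φ : A'_f ≅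
R' ⊗_R A₁` an isomorphism of `R'`-algebras. Then there is an `R`-algebra `A`, glueable as an
`R`-module, with isomorphisms `A_f ≅ A₁` of `R`-algebras and `R' ⊗_R A ≅ A'` of `R'`-algebras under
which `φ` is the canonical identification `(R' ⊗_R A)_f = R' ⊗_R A_f`. (The published statement is
that base change is an equivalence between affine schemes over `Spec R` that are glueable and
triples of affine schemes over `Spec R_f`, `Spec R'_f`, `Spec R'` with cartesian squares; this row
states only that every such triple arises, on coordinate rings.) -/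
theorem result (R : Type u) [CommRing R] (R' : Type u) [CommRing R'] [Algebra R R']
    (f : R) (hRR' : EtGlue.IsGlueingPair R R' f) (A₁ : Type u) [CommRing A₁] [Algebra R A₁]
    (h₁ : IsUnit (algebraMap R A₁ f)) (A' : Type u) [CommRing A'] [Algebra R A'] [Algebra R' A']
    [IsScalarTower R R' A'] (φ : Localization.Away (algebraMap R A' f) ≃ₐ[R'] R' ⊗[R] A₁) :
    ∃ (A : Type u) (_ : CommRing A) (_ : Algebra R A) (_ : EtGlue.IsGlueable R R' f A)
      (e₁ : Localization.Away (algebraMap R A f) ≃ₐ[R] A₁) (e' : R' ⊗[R] A ≃ₐ[R'] A'),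
      ∀ a : A, φ (algebraMap A' (Localization.Away (algebraMap R A' f)) (e' ((1 : R') ⊗ₜ[R] a))) =
        (1 : R') ⊗ₜ[R] e₁ (algebraMap A (Localization.Away (algebraMap R A f)) a) := by
  classical
  have hq := hRR'.1
  let u : A' →ₐ[R] R' ⊗[R] A₁ := (φ.restrictScalars R).toAlgHom.comp
    (IsScalarTower.toAlgHom R A' (Localization.Away (algebraMap R A' f)))
  let v : A₁ →ₐ[R] R' ⊗[R] A₁ := Algebra.TensorProduct.includeRight
  let E := AlgHom.equalizer (u.comp (AlgHom.fst R A' A₁)) (v.comp (AlgHom.snd R A' A₁))
  have hE : ∀ x y, (x, y) ∈ E ↔ u x = (1 : R') ⊗ₜ[R] y := fun x y => Iff.rfl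
  let p' : E →ₐ[R] A' := (AlgHom.fst R A' A₁).comp E.val
  let p₁ : E →ₐ[R] A₁ := (AlgHom.snd R A' A₁).comp E.val
  have hp : ∀ c : E, u (p' c) = (1 : R') ⊗ₜ[R] p₁ c := fun c => c.2
  have hu' : ∀ (r : R') (x : A'), u (r • x) = r • u x := fun r x => by
    show φ (algebraMap A' _ (r • x)) = r • φ (algebraMap A' _ x)
    rw [Algebra.smul_def r x, map_mul, map_mul,
      ← IsScalarTower.algebraMap_apply R' A' (Localization.Away (algebraMap R A' f)), φ.commutes,
      ← Algebra.smul_def]
  -- torsion
  have hutor : ∀ x : A', u x = 0 → ∃ n : ℕ, f ^ n • x = 0 := fun x hx => by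
    have h0 : algebraMap A' (Localization.Away (algebraMap R A' f)) x = 0 :=
      φ.injective (hx.trans (map_zero φ).symm)
    obtain ⟨n, hn⟩ := (H9Hens.Glue.algebraMap_away_eq_zero_iff _ x).mp h0
    exact ⟨n, by rw [Algebra.smul_def, map_pow]; exact hn⟩
  letI : Algebra E A₁ := p₁.toRingHom.toAlgebra
  haveI : IsScalarTower R E A₁ := IsScalarTower.of_algebraMap_eq fun r => (p₁.commutes r).symm
  haveI hloc : IsLocalization.Away (algebraMap R E f) A₁ := by
    refine IsLocalization.Away.mk _ ?_ (fun a => ?_) (fun a b hab => ?_)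
    · show IsUnit (p₁ (algebraMap R E f))
      rw [p₁.commutes]; exact h₁
    · obtain ⟨n, x, hx⟩ := IsLocalization.Away.surj (algebraMap R A' f) (φ.symm ((1 : R') ⊗ₜ[R] a))
      have hmem : (x, a * algebraMap R A₁ f ^ n) ∈ E := by
        rw [hE]
        show φ (algebraMap A' _ x) = _
        rw [← hx, map_mul, φ.apply_symm_apply, map_pow, ← IsScalarTower.algebraMap_apply,
          IsScalarTower.algebraMap_apply R R' (Localization.Away (algebraMap R A' f)), φ.commutes,
          ← IsScalarTower.algebraMap_apply, ← map_pow, ← map_pow, ← Algebra.commutes,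
          ← Algebra.smul_def, mul_comm a, ← Algebra.smul_def, TensorProduct.tmul_smul]
      refine ⟨n, ⟨_, hmem⟩, ?_⟩
      show a * p₁ (algebraMap R E f) ^ n = a * algebraMap R A₁ f ^ n
      rw [p₁.commutes]
    · have hab' : p₁ a = p₁ b := hab
      obtain ⟨n, hn⟩ := hutor (p' a - p' b) (by rw [map_sub, hp, hp, hab', sub_self])
      refine ⟨n, Subtype.ext (Prod.ext ?_ ?_)⟩
      · show p' (algebraMap R E f ^ n * a) = p' (algebraMap R E f ^ n * b)
        rw [← sub_eq_zero, map_mul, map_mul, ← mul_sub, map_pow, p'.commutes, ← map_pow,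
          ← Algebra.smul_def, hn]
      · show p₁ (algebraMap R E f ^ n * a) = p₁ (algebraMap R E f ^ n * b)
        rw [map_mul, map_mul, hab']
  let e₁ : Localization.Away (algebraMap R E f) ≃ₐ[R] A₁ :=
    (IsLocalization.algEquiv (Submonoid.powers (algebraMap R E f))
      (Localization.Away (algebraMap R E f)) A₁).restrictScalars R
  have he₁ : ∀ c : E, e₁ (algebraMap E (Localization.Away (algebraMap R E f)) c) = p₁ c := fun c =>
    (IsLocalization.algEquiv (Submonoid.powers (algebraMap R E f))
      (Localization.Away (algebraMap R E f)) A₁).commutes c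
  let ψ : R' ⊗[R] E →ₐ[R'] A' :=
    Algebra.TensorProduct.lift (Algebra.ofId R' A') p' (fun _ _ => Commute.all _ _)
  have hψ : ∀ (r : R') (c : E), ψ (r ⊗ₜ c) = r • p' c := fun r c => by
    simp [ψ, Algebra.smul_def]
  have hglue : EtGlue.IsGlueable R R' f E := by
    rw [H9Hens.Glue.isGlueable_iff hq]
    refine ⟨fun c hc h0 => ?_, H9Hens.Glue.torSurj_of_isGlueingPair hRR'⟩
    obtain ⟨n, hn⟩ := hc
    refine Subtype.ext (Prod.ext ?_ ?_)
    · show p' c = 0
      rw [← one_smul R' (p' c), ← hψ, h0, map_zero]
    · show p₁ c = 0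
      have := congrArg p₁ hn
      rw [map_smul, map_zero, Algebra.smul_def, map_pow] at this
      exact (h₁.pow n).mul_right_eq_zero.mp this
  have hbij : Function.Bijective ψ := by
    refine ⟨(injective_iff_map_eq_zero ψ).mpr fun z hz => ?_, fun x => ?_⟩
    · have key : ∀ z : R' ⊗[R] E, p₁.toLinearMap.lTensor R' z = u (ψ z) := fun z => by
        induction z using TensorProduct.induction_on with
        | zero => simp
        | tmul r c =>
          rw [hψ, hu', hp, TensorProduct.smul_tmul', smul_eq_mul, mul_one]
          rfl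
        | add a b ha hb => simp only [map_add, ha, hb]
      haveI : IsLocalization (Algebra.algebraMapSubmonoid E (Submonoid.powers f)) A₁ := by
        rw [Algebra.algebraMapSubmonoid, Submonoid.map_powers]; exact hloc
      haveI : IsLocalizedModule (Submonoid.powers f) (IsScalarTower.toAlgHom R E A₁).toLinearMap :=
        isLocalizedModule_iff_isLocalization.mpr inferInstance
      have h0 : (TensorProduct.AlgebraTensorModule.rTensor R R'
          (IsScalarTower.toAlgHom R E A₁).toLinearMap) (TensorProduct.comm R R' E z) = 0 := by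
        have e : ∀ w : R' ⊗[R] E, (TensorProduct.AlgebraTensorModule.rTensor R R'
            (IsScalarTower.toAlgHom R E A₁).toLinearMap) (TensorProduct.comm R R' E w) =
            TensorProduct.comm R R' A₁ (p₁.toLinearMap.lTensor R' w) := fun w => by
          induction w using TensorProduct.induction_on with
          | zero => simp
          | tmul r c => rfl
          | add a b ha hb => simp only [map_add, ha, hb]
        rw [e, key, hz, map_zero, map_zero]
      obtain ⟨⟨_, n, rfl⟩, hn⟩ := (IsLocalizedModule.eq_zero_iff (Submonoid.powers f)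
        (TensorProduct.AlgebraTensorModule.rTensor R R'
          (IsScalarTower.toAlgHom R E A₁).toLinearMap)).mp h0
      obtain ⟨c, hc, rfl⟩ := H9Hens.Glue.torSurj_of_isGlueingPair hRR' z
        ⟨n, (TensorProduct.comm R R' E).injective (by rw [map_smul, map_zero]; exact hn)⟩
      rw [hψ, one_smul] at hz
      have hp0 : p₁ c = 0 := by
        obtain ⟨k, hk⟩ := hc
        have := congrArg p₁ hk
        rw [map_smul, map_zero, Algebra.smul_def, map_pow] at this
        exact (h₁.pow k).mul_right_eq_zero.mp this
      rw [show c = 0 from Subtype.ext (Prod.ext hz hp0), TensorProduct.tmul_zero]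
    · have key : ∀ z : R' ⊗[R] A₁, ∃ (b : A₁) (y : R' ⊗[R] E),
          z = (1 : R') ⊗ₜ[R] b + u (ψ y) := by
        intro z
        induction z using TensorProduct.induction_on with
        | zero => exact ⟨0, 0, by simp⟩
        | tmul r' a =>
          obtain ⟨n, c, hc⟩ := IsLocalization.Away.surj (algebraMap R E f) a
          obtain ⟨r, hr⟩ := (H9Hens.Glue.cong_span_pow hq n).exists_sub r'
          rw [Ideal.map_span, Set.image_singleton, Ideal.mem_span_singleton'] at hr
          obtain ⟨t, ht⟩ := hr
          refine ⟨r • a, t ⊗ₜ c, ?_⟩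
          have hc' : p₁ c = f ^ n • a := by
            rw [Algebra.smul_def, map_pow, mul_comm]
            refine hc.symm.trans ?_
            rw [← IsScalarTower.algebraMap_apply]
          rw [hψ, hu', hp, hc', TensorProduct.smul_tmul', smul_eq_mul, mul_one,
            ← TensorProduct.smul_tmul, ← TensorProduct.smul_tmul, Algebra.smul_def r,
            Algebra.smul_def (f ^ n), mul_one, mul_comm (algebraMap R R' (f ^ n)) t, ht, ← TensorProduct.add_tmul,
            add_sub_cancel]
        | add a b ha hb =>
          obtain ⟨c₁, y₁, rfl⟩ := ha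
          obtain ⟨c₂, y₂, rfl⟩ := hb
          exact ⟨c₁ + c₂, y₁ + y₂, by rw [TensorProduct.tmul_add, map_add, map_add]; abel⟩
      obtain ⟨b, y, hy⟩ := key (u x)
      have hmem : (x - ψ y, b) ∈ E := by rw [hE, map_sub, hy, add_sub_cancel_right]
      exact ⟨1 ⊗ₜ ⟨_, hmem⟩ + y, by rw [map_add, hψ, one_smul]; exact sub_add_cancel x (ψ y)⟩
  refine ⟨E, inferInstance, inferInstance, hglue, e₁, AlgEquiv.ofBijective ψ hbij, fun a => ?_⟩
  show φ (algebraMap A' _ (ψ ((1 : R') ⊗ₜ[R] a))) = _
  rw [hψ, one_smul, he₁]
  exact hp a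

end Groth.Agent.S10727
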