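import Groth.Statements.S3625
import Groth.Agent.H25Gor.BaseChange

set_option autoImplicit false
universe u
open CategoryTheory CategoryTheory.Limits AlgebraicGeometry
attribute [local instance] HasDerivedCategory.standard
open Dual3

namespace Groth.Agent.S3625

/-- Let f : X → Y be a morphism of schemes all of whose fibres are locally Noetherian, g : Y' → Y
locally of finite type, and X' = Y' ×_Y X with projections f' : X' → Y', g' : X' → X. Let x' be a
point of X' with image x in X. Then: (1) Gorensteinness of f at x passes to f' at x'; (2)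
conversely, f' being Gorenstein at x' forces f to be Gorenstein at x as long as f is flat at x; (3)
the same converse holds when instead g is flat at the point f'(x'). -/
theorem result (X Y X' Y' : Scheme.{u}) (f : X ⟶ Y) (g : Y' ⟶ Y) (f' : X' ⟶ Y') (g' : X' ⟶ X) (hsq : IsPullback g' f' f g) (hfibf : ∀ y, IsLocallyNoetherian (f.fiber y)) [LocallyOfFiniteType g] (x' : X') : (Dual3.IsGorensteinAt f (g' x') → Dual3.IsGorensteinAt f' x') ∧ ((f.stalkMap (g' x')).hom.Flat → Dual3.IsGorensteinAt f' x' → Dual3.IsGorensteinAt f (g' x')) ∧ ((g.stalkMap (f' x')).hom.Flat → Dual3.IsGorensteinAt f' x' → Dual3.IsGorensteinAt f (g' x')) := by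
  have hb : LocCoh.IsGorensteinLocalRing ((f'.fiber (f' x')).presheaf.stalk (f'.asFiber x')) ↔
      LocCoh.IsGorensteinLocalRing ((f.fiber (f (g' x'))).presheaf.stalk (f.asFiber (g' x'))) :=
    Groth.Agent.H25Gor.fibre_gor_baseChange hsq x' hfibf (Or.inr ‹_›)
  refine ⟨fun h => ⟨Groth.Agent.H8Props.FibreCriterion.flat_stalkMap_baseChange hsq x' h.1, hb.mpr h.2⟩,
    fun hf h => ⟨hf, hb.mp h.2⟩, fun hg h => ⟨?_, hb.mp h.2⟩⟩
  have hg' := Groth.Agent.H8Props.FibreCriterion.flat_stalkMap_baseChange hsq.flip x' hg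
  have hcomp : ((f' ≫ g).stalkMap x').hom.Flat := by
    rw [Scheme.Hom.stalkMap_comp]
    exact hg.comp h.1
  exact (Groth.Agent.S4656.result g' f x' hg').mp
    (Groth.Agent.H8Props.FibreCriterion.flat_stalkMap_congr hsq.w.symm x' hcomp)

end Groth.Agent.S3625
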