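import Groth.Statements.S3627
import Groth.Agent.H25Gor.Scheme
import Groth.Agent.H7Flat.FibreCriterion

set_option autoImplicit false
universe u
open CategoryTheory CategoryTheory.Limits AlgebraicGeometry
attribute [local instance] HasDerivedCategory.standard
open Dual3

namespace Groth.Agent.S3627

/-- Let f : X → Y and g : Y → Z be morphisms such that the fibres of f, g and g ∘ f are locally
Noetherian, and let x be a point of X. (1) The composite g ∘ f is Gorenstein at x provided f is so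
at x and g is so at f(x). (3) Conversely, if f is flat at x and the composite is Gorenstein there,
then both factors are Gorenstein: f at x, and g at f(x). -/
theorem result (X Y Z : Scheme.{u}) (f : X ⟶ Y) (g : Y ⟶ Z) (hfibf : ∀ y, IsLocallyNoetherian (f.fiber y)) (hfibg : ∀ y, IsLocallyNoetherian (g.fiber y)) (hfibfg : ∀ z, IsLocallyNoetherian ((f ≫ g).fiber z)) (x : X) : (Dual3.IsGorensteinAt f x → Dual3.IsGorensteinAt g (f x) → Dual3.IsGorensteinAt (f ≫ g) x) ∧ (Dual3.IsGorensteinAt (f ≫ g) x → (f.stalkMap x).hom.Flat → Dual3.IsGorensteinAt f x ∧ Dual3.IsGorensteinAt g (f x)) := by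
  rw [Groth.Agent.H25Gor.isGorensteinAt_iff, Groth.Agent.H25Gor.isGorensteinAt_iff, Groth.Agent.H25Gor.isGorensteinAt_iff]
  have hcomp : ((f ≫ g).stalkMap x).hom = (f.stalkMap x).hom.comp (g.stalkMap (f x)).hom := by
    rw [Scheme.Hom.stalkMap_comp]; rfl
  have hB := Groth.Agent.H8Props.CMAt.isNoetherianRing_fibre g (f x) (hfibg _)
  have hC := Groth.Agent.H8Props.CMAt.isNoetherianRing_fibre (f ≫ g) x (hfibfg _)
  rw [hcomp] at hC ⊢
  refine ⟨fun h1 h2 => ⟨h2.1.comp h1.1, (Groth.Agent.H25Gor.fibre_gor_iff (g.stalkMap (f x)).hom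
      (f.stalkMap x).hom h1.1 hB hC).mpr ⟨h2.2, h1.2⟩⟩, fun h hfl => ?_⟩
  have hG := (Groth.Agent.H25Gor.fibre_gor_iff (g.stalkMap (f x)).hom (f.stalkMap x).hom hfl hB hC).mp h.2
  refine ⟨⟨hfl, hG.2⟩, ?_, hG.1⟩
  letI := (g.stalkMap (f x)).hom.toAlgebra
  letI := (f.stalkMap x).hom.toAlgebra
  letI := ((f.stalkMap x).hom.comp (g.stalkMap (f x)).hom).toAlgebra
  haveI : IsScalarTower (Z.presheaf.stalk (g (f x))) (Y.presheaf.stalk (f x))
      (X.presheaf.stalk x) := .of_algebraMap_eq' rfl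
  haveI : Module.Flat (Z.presheaf.stalk (g (f x))) (X.presheaf.stalk x) := h.1
  haveI : Module.Flat (Y.presheaf.stalk (f x)) (X.presheaf.stalk x) := hfl
  haveI : IsLocalHom (algebraMap (Y.presheaf.stalk (f x)) (X.presheaf.stalk x)) :=
    inferInstanceAs (IsLocalHom (f.stalkMap x).hom)
  haveI : Module.FaithfullyFlat (Y.presheaf.stalk (f x)) (X.presheaf.stalk x) :=
    Module.FaithfullyFlat.of_flat_of_isLocalHom
  exact Groth.Agent.H7Flat.flat_of_faithfullyFlat (M := X.presheaf.stalk x)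

end Groth.Agent.S3627
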