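import Groth.Statements.S10505
import Groth.Agent.H13AlgSp.LocPDescent

set_option autoImplicit false
universe u
open CategoryTheory CategoryTheory.Limits AlgebraicGeometry
open AlgSp

namespace Groth.Agent.S10505

/-- An fppf covering of an algebraic space `X` over `S` by algebraic spaces (each member flat and
locally of finite presentation etale locally on source and target, the family jointly surjective on
points) is an fpqc covering of `X` (each member flat, and every morphism from an affine scheme to
`X` admits a standard fpqc covering of the affine scheme whose members lift through members of the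
family). -/
theorem result {S : Scheme.{u}} (X : AlgSp.Space S) {ι : Type u}
    (Xi : ι → AlgSp.Space S) (g : ∀ i, Xi i ⟶ X)
    (h : AlgSp.IsFppfCover (fun i => (Xi i).obj) (fun i => (g i).hom)) :
    AlgSp.IsFpqcCover (fun i => (Xi i).obj) (fun i => (g i).hom) := by
  refine ⟨fun i => (h.1 i).1, fun Z hZ t => ?_⟩
  have sqR := fun i => IsPullback.of_hasPullback (g i).hom t
  have hR := fun i => Groth.Agent.H12AlgSp.isAlgSpace_of_isPullback X.property.diag (Xi i).property
    (IsAlgSpace.yon_obj Z) (sqR i)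
  choose C d hde hds using fun i => (hR i).atlas
  choose c hc using fun i => (AlgSp.yon S).map_surjective (d i ≫ pullback.snd (g i).hom t)
  have hflat := fun i => Groth.Agent.H13AlgSp.etaleFibre_of_locP (Xi i).property X.property (h.1 i).1
    t _ _ (sqR i) (d i) (c i) (hde i) (hc i).symm
  have hlfp := fun i => Groth.Agent.H13AlgSp.etaleFibre_of_locP (Xi i).property X.property (h.1 i).2
    t _ _ (sqR i) (d i) (c i) (hde i) (hc i).symm
  have hopen : ∀ r : Σ i, (C i).left.affineOpens, IsOpen ((c r.1).left '' (r.2.1 : Set (C r.1).left)) := by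
    intro r
    have := hflat r.1
    have := hlfp r.1
    exact (c r.1).left.isOpenMap _ r.2.1.isOpen
  have hcov : ∀ z : Z.left, ∃ r : Σ i, (C i).left.affineOpens,
      z ∈ (c r.1).left '' (r.2.1 : Set (C r.1).left) := by
    intro z
    obtain ⟨i, y, hy⟩ := h.2 (Points.ofPt t z)
    obtain ⟨r, -, hr⟩ := Groth.Agent.H12AlgSp.exists_point_of_isPullback (sqR i) y (Points.ofScheme Z z)
      (by rw [hy, ← Points.ofPt_eq_map_ofScheme])
    obtain ⟨w, rfl⟩ := Groth.Agent.H12AlgSp.surjective_ofPt_of_repWith le_rfl (hds i) r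
    obtain ⟨V, hV⟩ := TopologicalSpace.Opens.mem_iSup.1
      ((iSup_affineOpens_eq_top (C i).left).ge (Set.mem_univ w))
    refine ⟨⟨i, V⟩, w, hV, (Points.schemeEquiv Z).injective (Eq.trans ?_ hr)⟩
    rw [Points.map_ofPt, ← hc, ← Category.comp_id ((AlgSp.yon S).map (c i)),
      Groth.Agent.H12AlgSp.ofPt_map]
    rfl
  have : CompactSpace Z.left := inferInstance
  obtain ⟨s, hs⟩ := isCompact_univ.elim_finite_subcover _ hopen fun z _ => Set.mem_iUnion.2 (hcov z)
  let r : Fin s.card → Σ i, (C i).left.affineOpens := fun j => (s.equivFin.symm j).1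
  refine ⟨s.card, fun j => Over.mk ((r j).2.1.ι ≫ (C (r j).1).hom),
    fun j => Over.homMk (r j).2.1.ι rfl ≫ c (r j).1, fun j => (r j).2.2, fun j => ?_, fun z => ?_,
    fun j => ⟨(r j).1, (AlgSp.yon S).map (Over.homMk (r j).2.1.ι rfl) ≫ d (r j).1 ≫
      pullback.fst (g (r j).1).hom t, ?_⟩⟩
  · have := hflat (r j).1
    exact inferInstanceAs (Flat ((r j).2.1.ι ≫ (c (r j).1).left))
  · obtain ⟨q, hq, w, hw, hz⟩ := Set.mem_iUnion₂.1 (hs (Set.mem_univ z))
    refine ⟨s.equivFin ⟨q, hq⟩, ?_⟩
    have e : r (s.equivFin ⟨q, hq⟩) = q := congrArg Subtype.val (Equiv.symm_apply_apply _ _)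
    beta_reduce
    rw [e]
    exact ⟨⟨w, hw⟩, (Scheme.Hom.comp_apply q.2.1.ι (c q.1).left ⟨w, hw⟩).trans hz⟩
  · simp only [Functor.map_comp, Category.assoc]
    rw [hc, Category.assoc, (sqR (r j).1).w]

end Groth.Agent.S10505
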