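import Groth.Statements.S10587
import Groth.Agent.H13AlgSp.Thick

set_option autoImplicit false
universe u
open CategoryTheory CategoryTheory.Limits AlgebraicGeometry
open AlgSp

namespace Groth.Agent.S10587

open Groth.Agent.H12AlgSp Groth.Agent.H13AlgSp.Thick


/-- Consider a morphism (f, f') from the thickening X ⊂ X' to the thickening Y ⊂ Y' of algebraic spaces
over S, meaning: i : X ⟶ X' and j : Y ⟶ Y' are thickenings (representable, every base change to a
scheme a surjective closed immersion) and i ≫ f' = f ≫ j. Then f is surjective, resp. quasi-compact,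
universally closed, universally injective, universally open, if and only if f' is. -/
theorem result {S : Scheme.{u}} {X X' Y Y' : AlgSp.Space S} (i : X ⟶ X') (j : Y ⟶ Y')
    (f : X ⟶ Y) (f' : X' ⟶ Y')
    (hi : AlgSp.IsThickMor i.hom)
    (hj : AlgSp.IsThickMor j.hom) (w : i ≫ f' = f ≫ j) :
    (AlgSp.IsSurjectiveMor f.hom ↔ AlgSp.IsSurjectiveMor f'.hom) ∧
    (AlgSp.IsQuasiCompactMor f.hom ↔ AlgSp.IsQuasiCompactMor f'.hom) ∧
    (AlgSp.IsUnivClosedMor f.hom ↔ AlgSp.IsUnivClosedMor f'.hom) ∧
    (AlgSp.IsUnivInjectiveMor f.hom ↔ AlgSp.IsUnivInjectiveMor f'.hom) ∧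
    (AlgSp.IsUnivOpenMor f.hom ↔ AlgSp.IsUnivOpenMor f'.hom) := by
  obtain ⟨himono, his, hip, hio, hii⟩ := props_of_isThickMor X'.property hi
  obtain ⟨hjmono, hjs, hjp, hjo, hji⟩ := props_of_isThickMor Y'.property hj
  have w' : i.hom ≫ f'.hom = f.hom ≫ j.hom :=
    congrArg (fun t : X ⟶ Y' => t.hom) w
  refine ⟨⟨fun h => ?_, fun h => ?_⟩, ⟨fun h => ?_, fun h => ?_⟩, ⟨fun h => ?_, fun h => ?_⟩,
    ⟨fun h => ?_, fun h => ?_⟩, ⟨fun h => ?_, fun h => ?_⟩⟩
  · intro y
    obtain ⟨z, rfl⟩ := hjs y
    obtain ⟨x, rfl⟩ := h z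
    exact ⟨AlgSp.Points.map i.hom x, by rw [← AlgSp.Points.map_comp, w', AlgSp.Points.map_comp]⟩
  · intro y
    obtain ⟨x', hx'⟩ := h (AlgSp.Points.map j.hom y)
    obtain ⟨x, rfl⟩ := his x'
    refine ⟨x, injective_map_of_mono j.hom ?_⟩
    rw [← AlgSp.Points.map_comp, ← w', AlgSp.Points.map_comp, hx']
  · exact isQuasiCompactMor_of_surjective_triangle X.property X'.property Y'.property his
      (w' ▸ isQuasiCompactMor_comp Y.property Y'.property h hjp.2.1.2)
  · have := isQuasiCompactMor_comp X'.property Y'.property hip.2.1.2 h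
    rw [w'] at this
    exact isQuasiCompactMor_of_comp X.property Y.property Y'.property this
      (isQuasiSeparatedMor_of_isSeparatedMor (isSeparatedMor_of_mono j.hom))
  · exact isUnivClosedMor_of_surjective (w' ▸ univSp_comp_of Y.property Y'.property h hjp.2.2) his
  · have := univSp_comp_of X'.property Y'.property hip.2.2 h
    rw [w'] at this
    exact univSp_of_comp_mono this
  · exact isUnivInjectiveMor_of_surjective his (w' ▸ isUnivInjectiveMor_comp Y.property Y'.property h hji)
  · have := isUnivInjectiveMor_comp X'.property Y'.property hii h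
    rw [w'] at this
    exact univSp_of_comp_mono this
  · exact Groth.Agent.H13AlgSp.Thick.isUnivOpenMor_of_surjective his
      (w' ▸ isUnivOpenMor_comp Y.property Y'.property h hjo)
  · have := isUnivOpenMor_comp X'.property Y'.property hio h
    rw [w'] at this
    exact univSp_of_comp_mono this

end Groth.Agent.S10587
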