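import Groth.Statements.S10589
import Groth.Agent.H13AlgSp.Thick

set_option autoImplicit false
universe u
open CategoryTheory CategoryTheory.Limits AlgebraicGeometry
open AlgSp

namespace Groth.Agent.S10589

open Groth.Agent.H12AlgSp Groth.Agent.H13AlgSp.Thick


/-- Consider a morphism (f, f') from the thickening X ⊂ X' to the thickening Y ⊂ Y' of algebraic spaces
over S, meaning: i : X ⟶ X' and j : Y ⟶ Y' are thickenings (representable, every base change to a
scheme a surjective closed immersion) and i ≫ f' = f ≫ j. Then f is separated if and only if f' is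
separated, and f is quasi-separated if and only if f' is quasi-separated. -/
theorem result {S : Scheme.{u}} {X X' Y Y' : AlgSp.Space S} (i : X ⟶ X') (j : Y ⟶ Y')
    (f : X ⟶ Y) (f' : X' ⟶ Y')
    (hi : AlgSp.IsThickMor i.hom)
    (hj : AlgSp.IsThickMor j.hom) (w : i ≫ f' = f ≫ j) :
    (AlgSp.IsSeparatedMor f.hom ↔ AlgSp.IsSeparatedMor f'.hom) ∧
    (AlgSp.IsQuasiSeparatedMor f.hom ↔ AlgSp.IsQuasiSeparatedMor f'.hom) := by
  obtain ⟨himono, his, hip, hio, hii⟩ := props_of_isThickMor X'.property hi
  obtain ⟨hjmono, hjs, hjp, hjo, hji⟩ := props_of_isThickMor Y'.property hj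
  have w' : i.hom ≫ f'.hom = f.hom ≫ j.hom :=
    congrArg (fun t : X ⟶ Y' => t.hom) w
  have hjsep := isSeparatedMor_of_mono j.hom
  refine ⟨⟨fun h => ?_, fun h => ?_⟩, ⟨fun h => ?_, fun h => ?_⟩⟩
  · exact (separation_of_surjective_univClosed X.property X'.property Y'.property his hip.2.2).2
      (w' ▸ isSeparatedMor_comp h hjsep)
  · exact isSeparatedMor_of_comp (w' ▸ isSeparatedMor_comp hip.1 h)
  · exact (separation_of_surjective_univClosed X.property X'.property Y'.property his hip.2.2).1
      (w' ▸ MorphismProperty.comp_mem (AlgSp.RepWith (S := S) @QuasiCompact).diagonal f.hom j.hom h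
        (isQuasiSeparatedMor_of_isSeparatedMor hjsep))
  · exact Groth.Agent.H13AlgSp.Thick.isQuasiSeparatedMor_of_comp (g := j.hom)
      (w' ▸ MorphismProperty.comp_mem (AlgSp.RepWith (S := S) @QuasiCompact).diagonal i.hom f'.hom
        (isQuasiSeparatedMor_of_isSeparatedMor hip.1) h)

end Groth.Agent.S10589
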