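import Groth.Statements.S9797
import Groth.Agent.H8Props.DimZero

set_option autoImplicit false
universe u
open CategoryTheory AlgebraicGeometry TopologicalSpace
open Props

namespace Groth.Agent.S9797

/-- In a separated scheme of dimension at most zero, every quasi-compact open is affine. -/
theorem result (X : Scheme.{u}) [X.IsSeparated]
    (h : topologicalKrullDim X ≤ 0) (U : X.Opens) (hU : IsCompact (U : Set X)) :
    IsAffineOpen U := by
  have := H8Props.t2Space_of_dim_le_zero X h
  -- a compact open inside an affine open is affine
  have hsmall : ∀ (V W : X.Opens), IsAffineOpen V → W ≤ V → IsCompact (W : Set X) →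
      IsAffineOpen W := by
    intro V W hV hWV hW
    have hcl : IsClopen (hV.fromSpec ⁻¹' (W : Set X)) :=
      IsClopen.preimage ⟨hW.isClosed, W.2⟩ hV.fromSpec.continuous
    obtain ⟨e, -, he⟩ := PrimeSpectrum.isClopen_iff.mp hcl
    have hWe : W = X.basicOpen e := by
      refine TopologicalSpace.Opens.ext ?_
      rw [← hV.fromSpec_image_basicOpen e]
      change _ = hV.fromSpec '' (PrimeSpectrum.basicOpen e : Set (PrimeSpectrum Γ(X, V)))
      rw [← he]
      refine (Set.image_preimage_eq_inter_range.trans ?_).symm
      rw [hV.range_fromSpec]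
      exact Set.inter_eq_left.mpr hWV
    exact hWe ▸ hV.basicOpen e
  obtain ⟨s, hsA, hsf, hU'⟩ := X.isBasis_affineOpens.exists_finite_of_isCompact hU
  -- induction on the finite cover
  have key : ∀ s : Set X.Opens, s.Finite → (∀ V ∈ s, IsAffineOpen V) →
      IsAffineOpen (sSup s) := by
    intro s hs
    induction s, hs using Set.Finite.induction_on with
    | empty => intro _; simpa using isAffineOpen_bot X
    | @insert V s hV hs ih =>
      intro hall
      have hA := ih fun W hW ↦ hall W (Set.mem_insert_of_mem _ hW)
      have hVa := hall V (Set.mem_insert _ _)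
      have hclA : IsClosed ((sSup s : X.Opens) : Set X) := hA.isCompact.isClosed
      let W : X.Opens := ⟨(V : Set X) ∩ ((sSup s : X.Opens) : Set X)ᶜ,
        V.2.inter hclA.isOpen_compl⟩
      have hW : IsAffineOpen W := hsmall V W hVa Set.inter_subset_left
        (hVa.isCompact.inter_right (sSup s).2.isClosed_compl)
      have : sSup (insert V s) = sSup s ⊔ W := by
        rw [sSup_insert]
        refine TopologicalSpace.Opens.ext ?_
        change (V : Set X) ∪ ((sSup s : X.Opens) : Set X) = ((sSup s : X.Opens) : Set X) ∪ ((V : Set X) \ ((sSup s : X.Opens) : Set X))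
        rw [Set.union_sdiff_self, Set.union_comm]
      rw [this]
      refine hA.sup_of_disjoint hW ?_
      rw [← TopologicalSpace.Opens.coe_disjoint]
      exact Set.disjoint_left.mpr fun a ha hb ↦ hb.2 ha
  rw [hU']
  exact key s hsf hsA

end Groth.Agent.S9797
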