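import Groth.Statements.S6304
import Mathlib.RingTheory.Flat.Equalizer
import Mathlib.LinearAlgebra.TensorProduct.RightExactness

set_option autoImplicit false
universe u
open CAlg

namespace Groth.Agent.S6304

open TensorProduct

/-- In a short exact sequence 0 → M' → M → M'' → 0 of R-modules whose right-hand term M'' is flat, the
middle term M is flat when M' is, and M' is flat when M is. -/
theorem result {R : Type u} [CommRing R] {M' M M'' : Type u} [AddCommGroup M'] [Module R M'] [AddCommGroup M] [Module R M] [AddCommGroup M''] [Module R M''] (f : M' →ₗ[R] M) (g : M →ₗ[R] M'') (hf : Function.Injective f) (hexact : Function.Exact f g) (hg : Function.Surjective g) [Module.Flat R M''] : (Module.Flat R M' → Module.Flat R M) ∧ (Module.Flat R M → Module.Flat R M') := by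
  have inj := LinearMap.lTensor_injective_of_exact_of_flat g hg f hf hexact
  constructor <;> intro h
  · rw [Module.Flat.iff_rTensor_preserves_injective_linearMap]
    intro A B _ _ _ _ ι hι
    rw [injective_iff_map_eq_zero]
    intro x hx
    have hgx : g.lTensor A x = 0 := by
      apply Module.Flat.rTensor_preserves_injective_linearMap (M := M'') ι hι
      rw [map_zero, ← LinearMap.comp_apply, LinearMap.rTensor_comp_lTensor, ← LinearMap.lTensor_comp_rTensor,
        LinearMap.comp_apply, hx, map_zero]
    obtain ⟨z, rfl⟩ := (lTensor_exact A hexact hg x).mp hgx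
    have : ι.rTensor M' z = 0 := by
      apply inj B
      rw [map_zero, ← hx, ← LinearMap.comp_apply, ← LinearMap.comp_apply, LinearMap.lTensor_comp_rTensor,
        LinearMap.rTensor_comp_lTensor]
    have : z = 0 := Module.Flat.rTensor_preserves_injective_linearMap (M := M') ι hι (this.trans (map_zero _).symm)
    rw [this, map_zero]
  · rw [Module.Flat.iff_rTensor_preserves_injective_linearMap]
    intro A B _ _ _ _ ι hι x y hxy
    apply inj A
    apply Module.Flat.rTensor_preserves_injective_linearMap (M := M) ι hι
    rw [← LinearMap.comp_apply, ← LinearMap.comp_apply, LinearMap.rTensor_comp_lTensor,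
      ← LinearMap.lTensor_comp_rTensor, LinearMap.comp_apply, LinearMap.comp_apply, hxy]

end Groth.Agent.S6304
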