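import Groth.Statements.S1685
import Groth.Agent.H29Blow.Stalk

set_option autoImplicit false
universe u
open CategoryTheory CategoryTheory.Limits AlgebraicGeometry TopologicalSpace
open SDiv

namespace Groth.Agent.S1685

/-- Let X be a locally Noetherian scheme all of whose local rings satisfy Serre's condition (S_k), and
let D be the closed subscheme of an effective Cartier divisor. Then all local rings of D satisfy
(S_{k-1}). -/
theorem result (X : Scheme.{u}) [IsLocallyNoetherian X] (k : ℕ)
    (hX : ∀ x : ↥X, min (k : WithBot ℕ∞) (ringKrullDim (X.presheaf.stalk x)) ≤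
      ((LocCoh.depth (X.presheaf.stalk x) (X.presheaf.stalk x) : ℕ∞) : WithBot ℕ∞))
    (𝓘 : X.IdealSheafData) (h𝓘 : BlowUp.IsEffCartierIdeal 𝓘) (d : ↥𝓘.subscheme) :
    min ((k - 1 : ℕ) : WithBot ℕ∞) (ringKrullDim (𝓘.subscheme.presheaf.stalk d)) ≤
      ((LocCoh.depth (𝓘.subscheme.presheaf.stalk d) (𝓘.subscheme.presheaf.stalk d) : ℕ∞) : WithBot ℕ∞) := by
  have hc : ∀ x y : WithBot ℕ∞, x + 1 ≤ y + 1 → x ≤ y := by
    intro x y
    induction x with
    | bot => simp
    | coe x =>
      induction y with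
      | bot => simp
      | coe y =>
        rw [show (1 : WithBot ℕ∞) = ((1 : ℕ∞) : WithBot ℕ∞) from rfl, ← WithBot.coe_add, ← WithBot.coe_add,
          WithBot.coe_le_coe, WithBot.coe_le_coe]
        exact (ENat.add_le_add_iff_right (by simp)).mp
  obtain ⟨h1, h2⟩ := H29Blow.depth_dim_stalk_subscheme 𝓘 h𝓘 d
  have h := hX (𝓘.subschemeι d)
  rw [← h1, ← h2] at h
  generalize LocCoh.depth (𝓘.subscheme.presheaf.stalk d) (𝓘.subscheme.presheaf.stalk d) = a at h ⊢
  generalize ringKrullDim (𝓘.subscheme.presheaf.stalk d) = b at h ⊢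
  rcases k with - | k
  · simp
  rw [Nat.add_sub_cancel]
  push_cast at h
  rcases le_total (k : WithBot ℕ∞) b with hb | hb
  · rw [min_eq_left hb]
    rw [min_eq_left (by gcongr)] at h
    exact hc _ _ h
  · rw [min_eq_right hb]
    rw [min_eq_right (by gcongr)] at h
    exact hc _ _ h

end Groth.Agent.S1685
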