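import Groth.Statements.S1686
import Groth.Agent.H29Blow.MaxPoints
import Groth.Agent.H28Top.Dim

set_option autoImplicit false
universe u
open CategoryTheory CategoryTheory.Limits AlgebraicGeometry TopologicalSpace
open SDiv

namespace Groth.Agent.S1686

/-- Let D be the closed subscheme of an effective Cartier divisor on a scheme S and d a point of D with
image s in S. If the local dimension of S at s is finite, then the local dimension of D at d is
strictly smaller. -/
theorem result (S : Scheme.{u}) (𝓘 : S.IdealSheafData) (h𝓘 : BlowUp.IsEffCartierIdeal 𝓘) (d : ↥𝓘.subscheme)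
    (hfin : FlatMor.localDim ↥S (𝓘.subschemeι d) ≠ ⊤) :
    FlatMor.localDim ↥𝓘.subscheme d < FlatMor.localDim ↥S (𝓘.subschemeι d) := by
  obtain ⟨U, hdU, hU⟩ := Groth.Agent.H28Top.exists_localDim_eq (𝓘.subschemeι d)
  let W : Opens ↥𝓘.subscheme := 𝓘.subschemeι ⁻¹ᵁ U
  refine lt_of_le_of_lt (Groth.Agent.H28Top.localDim_le d (U := W) hdU) ?_
  rw [← hU] at hfin ⊢
  let g : ↥(W : Set ↥𝓘.subscheme) → ↥(U : Set ↥S) := fun y => ⟨𝓘.subschemeι y.1, y.2⟩
  have hg : Topology.IsClosedEmbedding g := by
    have h1 := 𝓘.subschemeι.isClosedEmbedding.restrictPreimage (U : Set ↥S)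
    exact h1
  have hstep : ∀ s : LTSeries (IrreducibleCloseds (W : Set ↥𝓘.subscheme)),
      ((s.length + 1 : ℕ) : WithBot ℕ∞) ≤ topologicalKrullDim (U : Set ↥S) := by
    intro s
    let img : IrreducibleCloseds (W : Set ↥𝓘.subscheme) → IrreducibleCloseds (U : Set ↥S) := fun Z =>
      ⟨g '' (Z : Set _), Z.isIrreducible.image g hg.continuous.continuousOn,
        hg.isClosedMap _ Z.isClosed⟩
    have himg : StrictMono img := fun Z Z' h => by
      refine lt_of_le_of_ne (fun y hy => ?_) (fun he => h.ne ?_)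
      · exact Set.image_mono (fun z hz => le_of_lt (a := Z) h hz) hy
      · refine SetLike.ext' ?_
        exact hg.injective.image_injective (congrArg IrreducibleCloseds.carrier he)
    let s' := s.map img himg
    obtain ⟨y, hy⟩ := s'.last.isIrreducible.nonempty
    obtain ⟨ξ, hξy, hξ⟩ := H29Blow.exists_maximal_generization (X := S) y.1
    have hξU : ξ ∈ U := hξy.mem_open U.2 y.2
    have hns : ξ ∉ 𝓘.support := H29Blow.not_mem_support_of_maximal h𝓘 ξ hξ
    haveI : QuasiSober (U : Set ↥S) := U.2.isOpenEmbedding_subtypeVal.quasiSober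
    obtain ⟨η, hη⟩ := QuasiSober.sober s'.last.isIrreducible s'.last.isClosed
    obtain ⟨ξ', hξ'η, hξ'⟩ := H29Blow.exists_maximal_generization (X := S) η.1
    have hξ'U : ξ' ∈ U := hξ'η.mem_open U.2 η.2
    have hns' : ξ' ∉ 𝓘.support := H29Blow.not_mem_support_of_maximal h𝓘 ξ' hξ'
    let Z' : IrreducibleCloseds (U : Set ↥S) :=
      ⟨closure {⟨ξ', hξ'U⟩}, isIrreducible_singleton.closure, isClosed_closure⟩
    have hlt : s'.last < Z' := by
      refine lt_of_le_of_ne (fun z hz => ?_) (fun he => ?_)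
      · have h1 : (⟨ξ', hξ'U⟩ : (U : Set ↥S)) ⤳ η := (subtype_specializes_iff _ _).mpr hξ'η
        have h2 : η ⤳ z := hη.specializes hz
        exact (h1.trans h2).mem_closure
      · have hmem : (⟨ξ', hξ'U⟩ : (U : Set ↥S)) ∈ (s'.last : Set _) := by
          rw [he]; exact subset_closure rfl
        obtain ⟨w, -, hw⟩ : ∃ w ∈ (s.last : Set _), g w = ⟨ξ', hξ'U⟩ := by
          have hlast : s'.last = img s.last := rfl
          rw [hlast] at hmem
          exact hmem
        apply hns'
        have hrange : 𝓘.subschemeι w.1 ∈ Set.range 𝓘.subschemeι := ⟨_, rfl⟩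
        rw [Scheme.IdealSheafData.range_subschemeι] at hrange
        rwa [show 𝓘.subschemeι w.1 = ξ' from congrArg Subtype.val hw] at hrange
    have := Order.LTSeries.length_le_krullDim (s'.snoc Z' hlt)
    simpa [s', topologicalKrullDim] using this
  obtain ⟨n, hn⟩ : ∃ n : ℕ, topologicalKrullDim (U : Set ↥S) = n := by
    haveI : Nonempty (W : Set ↥𝓘.subscheme) := ⟨⟨d, hdU⟩⟩
    have h0 : (0 : WithBot ℕ∞) ≤ topologicalKrullDim (U : Set ↥S) := by
      haveI : Nonempty (IrreducibleCloseds (U : Set ↥S)) :=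
        ⟨⟨closure {⟨_, hdU⟩}, isIrreducible_singleton.closure, isClosed_closure⟩⟩
      exact Order.krullDim_nonneg
    generalize topologicalKrullDim (U : Set ↥S) = t at hfin h0
    match t, hfin, h0 with
    | ⊥, _, h0 => simp at h0
    | ((⊤ : ℕ∞) : WithBot ℕ∞), hfin, _ => exact absurd rfl hfin
    | (((m : ℕ) : ℕ∞) : WithBot ℕ∞), _, _ => exact ⟨m, rfl⟩
  rw [hn] at hstep ⊢
  rcases Nat.eq_zero_or_pos n with rfl | hpos
  · exfalso
    let Z₀ : IrreducibleCloseds (W : Set ↥𝓘.subscheme) :=
      ⟨closure {⟨d, hdU⟩}, isIrreducible_singleton.closure, isClosed_closure⟩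
    have := hstep (RelSeries.singleton _ Z₀)
    exact absurd this (by norm_num)
  · refine lt_of_le_of_lt (b := ((n - 1 : ℕ) : WithBot ℕ∞)) ?_ (by exact_mod_cast Nat.sub_lt hpos Nat.one_pos)
    refine Groth.Agent.H28Top.dim_le_of_chains fun s => ?_
    have := hstep s
    have h1 : s.length + 1 ≤ n := by exact_mod_cast this
    have h2 : s.length ≤ n - 1 := by omega
    exact (WithBot.coe_le_coe.mpr (ENat.coe_le_coe.mpr h2)).trans_eq (by rfl)

end Groth.Agent.S1686
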