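-- statement FlatMor.GrothFrozen.S0406 (Groth/Statements/S0406.lean; the theorem FlatMor.finitePresentation_of_flat_finiteType_algebra_domain);
import Groth.Statements.S0406
import Groth.Agent.H7Flat.FlatSpreadFT
import Groth.Agent.H7Flat.FiniteFlatFP

set_option autoImplicit false
universe u
open FlatMor

namespace Groth.Agent.S0406

/-- Raynaud–Gruson, algebra case: a flat finite type algebra over a domain is finitely presented. -/
theorem result {R S : Type u} [CommRing R] [IsDomain R] [CommRing S] [Algebra R S] [Algebra.FiniteType R S] [Module.Flat R S] :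
    Algebra.FinitePresentation R S := by
  obtain ⟨n, π, hπ⟩ := Algebra.FiniteType.iff_quotient_mvPolynomial''.mp (inferInstance : Algebra.FiniteType R S)
  let : Algebra (MvPolynomial (Fin n) R) S := π.toRingHom.toAlgebra
  have : IsScalarTower R (MvPolynomial (Fin n) R) S := IsScalarTower.of_algebraMap_eq fun r => (π.commutes r).symm
  have : Module.Finite (MvPolynomial (Fin n) R) S := Module.Finite.of_surjective (Algebra.linearMap _ S) hπ
  have := H7Flat.FlatSpread.fp_of_flat (R := R) (S := MvPolynomial (Fin n) R)
    (H7Flat.FlatSpread.weakAss_finite_of_isDomain R) S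
  exact Algebra.FinitePresentation.trans R (MvPolynomial (Fin n) R) S

end Groth.Agent.S0406
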