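import Groth.Statements.S7662
import Mathlib
import Groth.Agent.H22Alg.ClosedUnion2

set_option autoImplicit false
universe u
open CategoryTheory CategoryTheory.Limits AlgebraicGeometry
open Variety

namespace Groth.Agent.S7662

/-- Let X be a scheme with finitely many irreducible components Z_1, …, Z_t and T ⊆ X a finite set of
points such that, for each i, some affine open of Z_i with its reduced closed subscheme structure
contains the points of T on Z_i. Then some affine open of X contains every point of T. -/
theorem result (X : Scheme.{u})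
    (hX : (irreducibleComponents (X : Type u)).Finite) (T : Finset X)
    (h : ∀ (Z : Set X) (hZ : Z ∈ irreducibleComponents (X : Type u)),
      ∃ V : (Scheme.IdealSheafData.vanishingIdeal
          (⟨Z, isClosed_of_mem_irreducibleComponents Z hZ⟩ : TopologicalSpace.Closeds X)).subscheme.Opens,
        IsAffineOpen V ∧ ∀ t ∈ T, t ∈ Z → t ∈ (Scheme.IdealSheafData.vanishingIdeal
          (⟨Z, isClosed_of_mem_irreducibleComponents Z hZ⟩ : TopologicalSpace.Closeds X)).subschemeι.base '' (V : Set _)) :
    ∃ U : X.Opens, IsAffineOpen U ∧ ∀ t ∈ T, t ∈ U := by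
  classical
  let Z : hX.toFinset → TopologicalSpace.Closeds X := fun Z =>
    ⟨Z.1, isClosed_of_mem_irreducibleComponents Z.1 (hX.mem_toFinset.mp Z.2)⟩
  obtain ⟨W, hW, hT⟩ := Groth.Agent.H22Alg.ClosedUnion.exists_open_of_finite T (Finset.univ.image Z)
    (fun C hC => by
      obtain ⟨⟨S, hS⟩, -, rfl⟩ := Finset.mem_image.mp hC
      obtain ⟨V, hV, hTV⟩ := h S (hX.mem_toFinset.mp hS)
      refine ⟨V, hV, fun x hx => ?_⟩
      obtain ⟨y, hy, he⟩ := hTV _ hx ((Scheme.IdealSheafData.range_subschemeι _).trans
        (Scheme.IdealSheafData.coe_support_vanishingIdeal _) |>.le ⟨x, rfl⟩)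
      rwa [← (Scheme.IdealSheafData.subschemeι _).isClosedEmbedding.injective he])
    ⊤ (Set.eq_univ_of_forall fun x => Set.mem_biUnion
      (Finset.mem_image_of_mem Z (Finset.mem_univ
        ⟨irreducibleComponent x, hX.mem_toFinset.mpr (irreducibleComponent_mem_irreducibleComponents x)⟩))
      mem_irreducibleComponent).symm
  refine ⟨W, Groth.Agent.H22Alg.ClosedUnion.isAffineOpen_of_preimage _ (fun x => ?_) hW,
    fun t ht => hT t ht trivial⟩
  exact ((Scheme.IdealSheafData.range_subschemeι _).trans
    (Scheme.IdealSheafData.coe_support_vanishingIdeal _)).ge (Set.mem_univ x)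

end Groth.Agent.S7662
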