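import Groth.Statements.S7660
import Mathlib
import Groth.Agent.S7662
import Groth.Agent.H22Alg.AffineImage

set_option autoImplicit false
universe u
open CategoryTheory CategoryTheory.Limits AlgebraicGeometry
open Variety

namespace Groth.Agent.S7660

/-- For a morphism of schemes f : T → X with T affine and X quasi-separated with finitely many
irreducible components, assume f sends the generic point of each irreducible component of T to the
generic point of an irreducible component of X, and distinct such points to distinct points, and let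
t_1, …, t_m ∈ T be points at which O_{X, f(t_j)} → O_{T, t_j} is an isomorphism. Then there is an
affine open of X containing f(t_1), …, f(t_m). -/
theorem result {T X : Scheme.{u}} (f : T ⟶ X)
    [IsAffine T] [QuasiSeparatedSpace X] (hX : (irreducibleComponents (X : Type u)).Finite)
    (hgen : ∀ η : T, closure ({η} : Set T) ∈ irreducibleComponents (T : Type u) → closure ({(f.base η)} : Set X) ∈ irreducibleComponents (X : Type u))
    (hinj : ∀ η η' : T, closure ({η} : Set T) ∈ irreducibleComponents (T : Type u) → closure ({η'} : Set T) ∈ irreducibleComponents (T : Type u) → f.base η = f.base η' → η = η')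
    (s : Finset T) (hs : ∀ t ∈ s, IsIso (f.stalkMap t)) :
    ∃ U : X.Opens, IsAffineOpen U ∧ ∀ t ∈ s, f.base t ∈ U := by
  classical
  let T₁ : Finset X := s.image f.base
  refine (Groth.Agent.S7662.result X hX T₁ (fun Z hZ => ?_)).imp
    fun U hU => ⟨hU.1, fun t ht => hU.2 _ (Finset.mem_image_of_mem _ ht)⟩
  by_cases hne : ∃ t ∈ s, f.base t ∈ Z
  swap
  · refine ⟨⊥, isAffineOpen_bot _, fun x hx hxZ => (hne ?_).elim⟩
    obtain ⟨t, ht, rfl⟩ := Finset.mem_image.mp hx
    exact ⟨t, ht, hxZ⟩
  have hZc := isClosed_of_mem_irreducibleComponents Z hZ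
  obtain ⟨ζ, hζ⟩ := QuasiSober.sober hZ.1 hZc
  have hlift : ∀ t ∈ s, f.base t ∈ Z → ∃ η : T, closure ({η} : Set T) ∈ irreducibleComponents (T : Type u) ∧
      f.base η = ζ ∧ η ⤳ t := by
    intro t ht htZ
    haveI := hs t ht
    obtain ⟨y, hy⟩ : ζ ∈ Set.range (X.fromSpecStalk (f t)) := by
      rw [Scheme.range_fromSpecStalk]
      exact hζ.specializes htZ
    obtain ⟨y', rfl⟩ := (Spec.map (f.stalkMap t)).homeomorph.surjective y
    let q := T.fromSpecStalk t y'
    have hfq : f q = ζ := by
      rw [← hy]
      show f (T.fromSpecStalk t y') = _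
      rw [← Scheme.Hom.comp_apply, ← Scheme.SpecMap_stalkMap_fromSpecStalk]
      rfl
    have hqt : q ⤳ t := Scheme.range_fromSpecStalk.le ⟨y', rfl⟩
    obtain ⟨η, hη⟩ := QuasiSober.sober (S := irreducibleComponent q) isIrreducible_irreducibleComponent isClosed_irreducibleComponent
    have hηc : closure ({η} : Set T) ∈ irreducibleComponents (T : Type u) := by
      rw [hη.def]; exact irreducibleComponent_mem_irreducibleComponents q
    have hηq : η ⤳ q := hη.specializes mem_irreducibleComponent
    refine ⟨η, hηc, ?_, hηq.trans hqt⟩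
    have h1 : f η ⤳ ζ := hfq ▸ hηq.map f.continuous
    have h2 : Z ⊆ closure {f η} := hζ.def ▸ (specializes_iff_closure_subset.mp h1)
    have h3 : closure {f η} ⊆ Z := hZ.2 (hgen η hηc).1 h2
    refine specializes_iff_closure_subset.mpr ?_ |>.antisymm h1 |>.eq.symm
    rw [hζ.def]
    exact h3
  obtain ⟨t₀, ht₀, ht₀Z⟩ := hne
  obtain ⟨η, hηc, hfη, -⟩ := hlift t₀ ht₀ ht₀Z
  have hall : ∀ t ∈ s, f.base t ∈ Z → η ⤳ t := fun t ht htZ => by
    obtain ⟨η', hηc', hfη', hsp⟩ := hlift t ht htZ
    rwa [hinj η η' hηc hηc' (hfη.trans hfη'.symm)]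
  -- the integral subschemes
  let ZT : TopologicalSpace.Closeds T := ⟨closure {η}, isClosed_closure⟩
  let ZX : TopologicalSpace.Closeds X := ⟨Z, hZc⟩
  have hle : Scheme.IdealSheafData.vanishingIdeal ZX ≤ (Scheme.IdealSheafData.vanishingIdeal ZT).map f := by
    rw [Scheme.IdealSheafData.map_vanishingIdeal]
    refine Scheme.IdealSheafData.vanishingIdeal_antimono (TopologicalSpace.Closeds.closure_le.mpr ?_)
    refine (image_closure_subset_closure_image f.continuous).trans ?_
    rw [Set.image_singleton]
    show closure {f η} ⊆ Z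
    rw [show f η = ζ from hfη, hζ.def]
  let g := Scheme.IdealSheafData.subschemeMap _ _ f hle
  let iT := (Scheme.IdealSheafData.vanishingIdeal ZT).subschemeι
  let iX := (Scheme.IdealSheafData.vanishingIdeal ZX).subschemeι
  have hgi : g ≫ iX = iT ≫ f := Scheme.IdealSheafData.subschemeMap_subschemeι _ _ _ _
  have hrT : Set.range iT = closure {η} :=
    (Scheme.IdealSheafData.range_subschemeι _).trans (Scheme.IdealSheafData.coe_support_vanishingIdeal _)
  have hrX : Set.range iX = Z :=
    (Scheme.IdealSheafData.range_subschemeι _).trans (Scheme.IdealSheafData.coe_support_vanishingIdeal _)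
  haveI := Groth.Agent.H17.isReduced_vanishingIdeal_subscheme ZT
  haveI := Groth.Agent.H17.isReduced_vanishingIdeal_subscheme ZX
  haveI : IrreducibleSpace (Scheme.IdealSheafData.vanishingIdeal ZT).subscheme := by
    obtain ⟨w, hw⟩ : η ∈ Set.range iT := by rw [hrT]; exact subset_closure rfl
    rw [irreducibleSpace_def]
    have : closure ({w} : Set _) = Set.univ := Set.eq_univ_of_forall fun y => by
      rw [iT.isClosedEmbedding.isInducing.closure_eq_preimage_closure_image, Set.image_singleton, hw]
      exact hrT.le ⟨y, rfl⟩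
    rw [Set.top_eq_univ, ← this]
    exact isIrreducible_singleton.closure
  haveI : IrreducibleSpace (Scheme.IdealSheafData.vanishingIdeal ZX).subscheme := by
    obtain ⟨w, hw⟩ : ζ ∈ Set.range iX := by rw [hrX]; exact hζ.mem
    rw [irreducibleSpace_def]
    have : closure ({w} : Set _) = Set.univ := Set.eq_univ_of_forall fun y => by
      rw [iX.isClosedEmbedding.isInducing.closure_eq_preimage_closure_image, Set.image_singleton, hw]
      exact hζ.def.ge (hrX.le ⟨y, rfl⟩)
    rw [Set.top_eq_univ, ← this]
    exact isIrreducible_singleton.closure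
  haveI := isIntegral_of_irreducibleSpace_of_isReduced (Scheme.IdealSheafData.vanishingIdeal ZT).subscheme
  haveI := isIntegral_of_irreducibleSpace_of_isReduced (Scheme.IdealSheafData.vanishingIdeal ZX).subscheme
  haveI : IsAffine (Scheme.IdealSheafData.vanishingIdeal ZT).subscheme := isAffine_of_isAffineHom iT
  haveI : QuasiSeparatedSpace (Scheme.IdealSheafData.vanishingIdeal ZX).subscheme :=
    quasiSeparatedSpace_of_quasiSeparated iX
  have hgT : iT (genericPoint _) = η := (((genericPoint_spec _).image iT.continuous).eq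
    (by rw [Set.image_univ, hrT, closure_closure]; exact isGenericPoint_closure))
  have hgX : iX (genericPoint _) = ζ := (((genericPoint_spec _).image iX.continuous).eq
    (by rw [Set.image_univ, hrX, hZc.closure_eq]; exact hζ))
  have hη' : g (genericPoint _) = genericPoint _ := iX.isClosedEmbedding.injective (by
    rw [← Scheme.Hom.comp_apply, hgi, Scheme.Hom.comp_apply, hgT, hgX]; exact hfη)
  let s' : Finset (Scheme.IdealSheafData.vanishingIdeal ZT).subscheme :=
    (s.finite_toSet.preimage iT.isClosedEmbedding.injective.injOn).toFinset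
  obtain ⟨V, hV, hsV⟩ := Groth.Agent.H22Alg.AffineImage.exists_affine g hη' s' (fun w hw => by
    rw [Set.Finite.mem_toFinset, Set.mem_preimage] at hw
    haveI := hs (iT w) hw
    have key : iX.stalkMap (g w) ≫ g.stalkMap w = (X.presheaf.stalkCongr (.of_eq (by
        rw [← Scheme.Hom.comp_apply, ← Scheme.Hom.comp_apply, hgi]))).hom ≫ f.stalkMap (iT w) ≫ iT.stalkMap w := by
      rw [← Scheme.Hom.stalkMap_comp, ← Scheme.Hom.stalkMap_comp, Scheme.Hom.stalkMap_congr_hom _ _ hgi]
      rfl
    rw [ConcreteCategory.isIso_iff_bijective]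
    refine ⟨fun a b hab => ?_, fun c => ?_⟩
    · -- injective: compare in the function fields
      apply IsFractionRing.injective _ ((Scheme.IdealSheafData.vanishingIdeal ZX).subscheme.functionField)
      have hsp : genericPoint (Scheme.IdealSheafData.vanishingIdeal ZT).subscheme ⤳ w :=
        (genericPoint_spec _).specializes trivial
      have h1 := fun d => Scheme.Hom.stalkSpecializes_stalkMap_apply g _ _ hsp d
      have h2 : g.stalkMap _ ((Scheme.IdealSheafData.vanishingIdeal ZX).subscheme.presheaf.stalkSpecializes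
          (g.base.hom.map_specializes hsp) a) = g.stalkMap _
          ((Scheme.IdealSheafData.vanishingIdeal ZX).subscheme.presheaf.stalkSpecializes
          (g.base.hom.map_specializes hsp) b) := by rw [h1, h1, hab]
      have hF : IsField ((Scheme.IdealSheafData.vanishingIdeal ZX).subscheme.presheaf.stalk (g (genericPoint _))) :=
        hη' ▸ Field.toIsField (Scheme.IdealSheafData.vanishingIdeal ZX).subscheme.functionField
      letI := hF.toField
      have h3 := (g.stalkMap _).hom.injective h2
      have h4 := congrArg ((Scheme.IdealSheafData.vanishingIdeal ZX).subscheme.presheaf.stalkSpecializes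
        (specializes_of_eq hη'.symm)) h3
      simp only [← ConcreteCategory.comp_apply, TopCat.Presheaf.stalkSpecializes_comp] at h4
      exact h4
    · obtain ⟨d, hd⟩ := iT.stalkMap_surjective w c
      obtain ⟨d', hd'⟩ := (ConcreteCategory.bijective_of_isIso (f.stalkMap (iT w))).2 d
      obtain ⟨d'', hd''⟩ := (ConcreteCategory.bijective_of_isIso (X.presheaf.stalkCongr
        (.of_eq (show iX (g w) = f (iT w) by rw [← Scheme.Hom.comp_apply, ← Scheme.Hom.comp_apply, hgi]))).hom).2 d'
      refine ⟨iX.stalkMap (g w) d'', ?_⟩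
      have h1 := congr($key d'')
      simp only [ConcreteCategory.comp_apply] at h1
      exact h1.trans (by rw [hd'', hd', hd]))
  refine ⟨V, hV, fun x hx hxZ => ?_⟩
  obtain ⟨t, ht, rfl⟩ := Finset.mem_image.mp hx
  obtain ⟨w, rfl⟩ : t ∈ Set.range iT := by rw [hrT]; exact (hall t ht hxZ).mem_closure
  refine ⟨g w, hsV w (by rw [Set.Finite.mem_toFinset]; exact ht), ?_⟩
  rw [← Scheme.Hom.comp_apply]
  exact congr($(congrArg (fun h : (_ : Scheme.{u}) ⟶ X => h.base) hgi) w)

end Groth.Agent.S7660
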