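import Groth.Statements.S7663
import Groth.Agent.H22Alg.SemilocalGlue
import Mathlib.RingTheory.Valuation.Discrete.Basic

set_option autoImplicit false
universe u
open CategoryTheory CategoryTheory.Limits AlgebraicGeometry
open Variety

namespace Groth.Agent.S7663

/-- Let K be a field and A, B ⊆ K subrings with fraction field K, with A Noetherian of dimension one.
Then A ⊗ B → K is not surjective (equivalently, the subring generated by A and B is not K) if and
only if some discrete valuation ring O ⊆ K with fraction field K contains both A and B. -/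
theorem result (K : Type u) [Field K]
    (A : Subring K) [IsFractionRing A K] (B : Subring K) [IsFractionRing B K] [IsNoetherianRing A] (hdim : ringKrullDim A = 1) :
    A ⊔ B ≠ ⊤ ↔ ∃ O : ValuationSubring K, IsDiscreteValuationRing O ∧ A ≤ O.toSubring ∧ B ≤ O.toSubring := by
  have hk := Groth.Agent.H22Alg.krullDimLE_one_of_dim_eq A hdim
  constructor
  · intro hne
    let C : Subalgebra A K := { (A ⊔ B) with algebraMap_mem' := fun a => (le_sup_left : A ≤ A ⊔ B) a.2 }
    have hCf : ¬ IsField C := fun hf => hne <| by
      rw [eq_top_iff]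
      intro x _
      obtain ⟨p, q, hq, rfl⟩ := IsFractionRing.div_surjective A x
      have hq0 : (q : K) ≠ 0 := fun h => nonZeroDivisors.ne_zero hq (Subtype.ext h)
      obtain ⟨c, hc⟩ := hf.mul_inv_cancel (a := algebraMap A C q)
        (Groth.Agent.H22Alg.algebraMap_ne_zero_of_ne_zero C (nonZeroDivisors.ne_zero hq))
      have hc' : (q : K) * (c : K) = 1 := congrArg (fun z : C => (z : K)) hc
      show (p : K) / (q : K) ∈ A ⊔ B
      rw [div_eq_mul_inv, inv_eq_of_mul_eq_one_right hc']
      exact Subring.mul_mem _ ((le_sup_left : A ≤ A ⊔ B) p.2) c.2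
    let C' : Subalgebra A K := (integralClosure C K).restrictScalars A
    have hnoe : IsNoetherianRing (integralClosure C K) :=
      (Groth.Agent.H22Alg.isNoetherianRing_subalgebra C' :)
    have hdle : Ring.DimensionLEOne (integralClosure C K) :=
      (Groth.Agent.H22Alg.dimensionLEOne_subalgebra C' :)
    have : IsFractionRing C K := by
      refine IsFractionRing.of_field C K fun x => ?_
      obtain ⟨p, q, _, rfl⟩ := IsFractionRing.div_surjective A x
      exact ⟨algebraMap A C p, algebraMap A C q, rfl⟩
    have : IsFractionRing (integralClosure C K) K := integralClosure.isFractionRing_of_finite_extension K K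
    have : IsIntegrallyClosed (integralClosure C K) :=
      (isIntegrallyClosed_iff K).mpr fun {z} hz => ⟨⟨z, isIntegral_trans (A := integralClosure C K) z hz⟩, rfl⟩
    have : IsDedekindDomain (integralClosure C K) := { }
    have hnf : ¬ IsField (integralClosure C K) := fun h => hCf
      (isField_of_isIntegral_of_isField (R := C) (fun a b h => Subtype.ext
        (congrArg (fun z : integralClosure C K => (z : K)) h)) h)
    obtain ⟨m, hm⟩ := Ideal.exists_maximal (integralClosure C K)
    have hm0 : m ≠ ⊥ := fun e => hnf (Ring.isField_iff_maximal_bot.mpr (e ▸ hm))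
    let P : IsDedekindDomain.HeightOneSpectrum (integralClosure C K) := ⟨m, hm.isPrime, hm0⟩
    refine ⟨(P.valuation K).valuationSubring, (P.valuation K).valuationSubring_isDiscreteValuationRing, ?_, ?_⟩
    · intro a ha
      exact P.valuation_le_one (algebraMap C (integralClosure C K) ⟨a, (le_sup_left : A ≤ A ⊔ B) ha⟩)
    · intro b hb
      exact P.valuation_le_one (algebraMap C (integralClosure C K) ⟨b, (le_sup_right : B ≤ A ⊔ B) hb⟩)
  · rintro ⟨O, hO, hA, hB⟩ htop
    refine IsDiscreteValuationRing.not_isField O ?_
    have hall : ∀ x : K, x ∈ O := fun x => sup_le hA hB (by rw [htop]; trivial)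
    refine ⟨⟨0, 1, zero_ne_one⟩, mul_comm, fun {x} hx => ?_⟩
    exact ⟨⟨(x : K)⁻¹, hall _⟩, Subtype.ext (mul_inv_cancel₀ fun h => hx (Subtype.ext h))⟩

end Groth.Agent.S7663
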