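import Groth.Statements.S7665
import Groth.Agent.H22Alg.SemilocalGlue

set_option autoImplicit false
universe u
open CategoryTheory CategoryTheory.Limits AlgebraicGeometry
open Variety

namespace Groth.Agent.S7665

/-- Let K be a field and A_1, …, A_r ⊆ K (r ≥ 1) Noetherian semi-local rings of dimension one with
fraction field K, and assume A_i and A_j generate K as a ring whenever i ≠ j. Then A = A_1 ∩ … ∩ A_r
is a Noetherian semi-local domain of dimension one with fraction field K contained in every A_i,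
each Spec A_i → Spec A is an open immersion, Spec A is the union of their images, and every closed
point of Spec A belongs to the image of exactly one Spec A_i. (The published statement asserts only
that some such subring A exists; this row takes A to be the intersection A_1 ∩ … ∩ A_r.) -/
theorem result (K : Type u) [Field K] (r : ℕ) (hr : 1 ≤ r)
    (A : Fin r → Subring K) [∀ i, IsNoetherianRing (A i)] [∀ i, IsFractionRing (A i) K]
    (hdim : ∀ i, ringKrullDim (A i) = 1) (hsl : ∀ i, Finite (MaximalSpectrum (A i)))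
    (hgen : ∀ i j, i ≠ j → A i ⊔ A j = ⊤) :
    IsNoetherianRing ↥(⨅ i, A i) ∧ ringKrullDim ↥(⨅ i, A i) = 1 ∧ Finite (MaximalSpectrum ↥(⨅ i, A i)) ∧
      IsFractionRing ↥(⨅ i, A i) K ∧
      (∀ i, IsOpenImmersion (Spec.map (CommRingCat.ofHom (Subring.inclusion (iInf_le A i))))) ∧
      (⋃ i, Set.range (Spec.map (CommRingCat.ofHom (Subring.inclusion (iInf_le A i)))).base) = Set.univ ∧
      (∀ m : PrimeSpectrum ↥(⨅ i, A i), m.asIdeal.IsMaximal →
        ∃! i, m ∈ Set.range (Spec.map (CommRingCat.ofHom (Subring.inclusion (iInf_le A i)))).base) := by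
  classical
  have hk := fun i => Groth.Agent.H22Alg.krullDimLE_one_of_dim_eq (A i) (hdim i)
  have hnf := fun i => Groth.Agent.H22Alg.not_isField_of_dim_eq (A i) (hdim i)
  have hS : ∀ i, ∃ s : A i, IsUnit s ∧ ∀ j, j ≠ i → ∃ h : (s : K) ∈ A j,
      (⟨(s : K), h⟩ : A j) ∈ (⊥ : Ideal (A j)).jacobson := fun i => by
    obtain ⟨s, hs, h⟩ := Groth.Agent.H22Alg.exists_unit_in_jacobson (fun j : {j : Fin r // j ≠ i} => A j)
      (fun j => hnf j) (fun j => hsl j) (A i) (hnf i) (hsl i) (fun j => hgen i j (Ne.symm j.2))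
    exact ⟨s, hs, fun j hj => h ⟨j, hj⟩⟩
  choose s hsu hs using hS
  set R := ⨅ i, A i
  have hmem : ∀ {x : K}, x ∈ R ↔ ∀ i, x ∈ A i := fun {x} => Subring.mem_iInf
  have hsR : ∀ i, (s i : K) ∈ R := fun i => hmem.mpr fun j => by
    by_cases hj : j = i
    · subst hj; exact (s j).2
    · exact (hs i j hj).1
  have hloc : ∀ (i : Fin r) (a : A i), ∃ n : ℕ, (a : K) * (s i : K) ^ n ∈ R := fun i a => by
    have : ∀ j, ∃ n : ℕ, ∀ m ≥ n, (a : K) * (s i : K) ^ m ∈ A j := fun j => by
      by_cases hj : j = i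
      · subst hj; exact ⟨0, fun m _ => (A j).mul_mem a.2 ((A j).pow_mem (s j).2 m)⟩
      · obtain ⟨h, h'⟩ := hs i j hj
        exact Groth.Agent.H22Alg.exists_mul_pow_mem (A j) h' (a : K)
    choose n hn using this
    exact ⟨Finset.univ.sup n, hmem.mpr fun j => hn j _ (Finset.le_sup (Finset.mem_univ j))⟩
  let sR : Fin r → R := fun i => ⟨s i, hsR i⟩
  let incl : ∀ i, R →+* A i := fun i => Subring.inclusion (iInf_le A i)
  have hOI := fun i => Groth.Agent.H22Alg.isOpenImmersion_and_range (iInf_le A i) (sR i) (hsu i) (hloc i)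
  have hjac : ∀ i j, j ≠ i → incl j (sR i) ∈ (⊥ : Ideal (A j)).jacobson := fun i j hj => (hs i j hj).2
  have hspan : Ideal.span (Set.range sR) = ⊤ := by
    refine Ideal.eq_top_of_isUnit_mem _ (x := ∑ i, sR i)
      (Ideal.sum_mem _ fun i _ => Ideal.subset_span ⟨i, rfl⟩) ?_
    have hu : ∀ j, IsUnit (incl j (∑ i, sR i)) := fun j => by
      rw [map_sum, ← Finset.add_sum_erase _ _ (Finset.mem_univ j)]
      obtain ⟨u, hu⟩ := hsu j
      have hJ : ∑ i ∈ Finset.univ.erase j, incl j (sR i) ∈ (⊥ : Ideal (A j)).jacobson :=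
        Ideal.sum_mem _ fun i hi => hjac i j (Finset.ne_of_mem_erase hi).symm
      have h1 := (Ideal.mem_jacobson_bot.mp hJ) (↑u⁻¹)
      have h2 := (u.isUnit).mul h1
      rw [mul_add, mul_comm (∑ i ∈ Finset.univ.erase j, incl j (sR i)), ← mul_assoc, Units.mul_inv, one_mul,
        mul_one, add_comm, hu] at h2
      exact h2
    choose v hv using fun j => (hu j).exists_left_inv
    let j0 : Fin r := ⟨0, hr⟩
    have hv' : ∀ j, (v j : K) * ((∑ i, sR i : R) : K) = 1 := fun j => congrArg (fun z : A j => (z : K)) (hv j)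
    have hvR : (v j0 : K) ∈ R := hmem.mpr fun j => by
      rw [mul_right_cancel₀ (right_ne_zero_of_mul_eq_one (hv' j0)) ((hv' j0).trans (hv' j).symm)]
      exact (v j).2
    exact IsUnit.of_mul_eq_one_right (⟨_, hvR⟩ : R) (Subtype.ext (hv' j0))
  have hcover : ∀ P : PrimeSpectrum R, ∃ i, sR i ∉ P.asIdeal := fun P => by
    by_contra h
    push Not at h
    exact P.isPrime.ne_top (top_le_iff.mp (hspan ▸ Ideal.span_le.mpr (by rintro _ ⟨i, rfl⟩; exact h i)))
  let alg : ∀ i, Algebra R (A i) := fun i => (incl i).toAlgebra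
  have hL : ∀ i, IsLocalization.Away (sR i) (A i) := fun i =>
    Groth.Agent.H22Alg.isLocalizationAway_inclusion (iInf_le A i) (sR i) (hsu i) (hloc i)
  have hnoeth : IsNoetherianRing R := by
    refine isNoetherianRing_iff_ideal_fg R |>.mpr fun I => ?_
    refine Ideal.fg_of_localizationSpan (Set.range sR) hspan fun g => ?_
    obtain ⟨g, i, rfl⟩ := g
    have : IsLocalization (Submonoid.powers (sR i)) (A i) := hL i
    have e := IsLocalization.algEquiv (Submonoid.powers (sR i)) (A i) (Localization.Away (sR i))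
    have : IsNoetherianRing (Localization.Away (sR i)) := isNoetherianRing_of_ringEquiv (A i) e.toRingEquiv
    exact IsNoetherian.noetherian _
  have hdimR : ringKrullDim R = 1 := by
    apply le_antisymm
    · refine iSup_le fun c => ?_
      obtain ⟨i, hi⟩ := hcover c.last
      have : ∀ k, sR i ∉ (c k).asIdeal := fun k h => hi (c.monotone (Fin.le_last k) h)
      let o := IsLocalization.orderIsoOfPrime (Submonoid.powers (sR i)) (A i)
      have hd : ∀ k, Disjoint (Submonoid.powers (sR i) : Set R) ((c k).asIdeal : Set R) := fun k =>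
        Set.disjoint_left.mpr fun z ⟨n, hn⟩ hz => this k ((c k).isPrime.mem_of_pow_mem n (show sR i ^ n ∈ (c k).asIdeal by
          have hn' : sR i ^ n = z := hn
          rw [hn']; exact hz))
      let c' : LTSeries (PrimeSpectrum (A i)) :=
        { length := c.length
          toFun := fun k => ⟨(o.symm ⟨(c k).asIdeal, (c k).isPrime, hd k⟩).1,
            (o.symm ⟨(c k).asIdeal, (c k).isPrime, hd k⟩).2⟩
          step := fun k => by
            show (o.symm _).1 < (o.symm _).1
            exact o.symm.lt_iff_lt.mpr (show (c k.castSucc).asIdeal < (c k.succ).asIdeal from c.step k) }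
      exact (Order.LTSeries.length_le_krullDim c').trans (hdim i).le
    · rw [← hdim ⟨0, hr⟩]
      have : IsLocalization (Submonoid.powers (sR ⟨0, hr⟩)) (A ⟨0, hr⟩) := hL _
      let o := IsLocalization.primeSpectrumOrderIso (Submonoid.powers (sR ⟨0, hr⟩)) (A ⟨0, hr⟩)
      exact Order.krullDim_le_of_strictMono (fun p => (o p).1) fun a b h => o.strictMono h
  refine ⟨hnoeth, hdimR, ?_, ?_, fun i => (hOI i).1, ?_, ?_⟩
  · choose i hi using fun m : MaximalSpectrum R => hcover m.toPrimeSpectrum
    have hpre : ∀ m : MaximalSpectrum R, ∃ q : MaximalSpectrum (A (i m)),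
        q.asIdeal.comap (incl (i m)) = m.asIdeal := fun m => by
      have : IsLocalization (Submonoid.powers (sR (i m))) (A (i m)) := hL _
      have hd : Disjoint (Submonoid.powers (sR (i m)) : Set R) (m.asIdeal : Set R) :=
        Set.disjoint_left.mpr fun z ⟨n, hn⟩ hz => hi m (m.isMaximal.isPrime.mem_of_pow_mem n
          (show sR (i m) ^ n ∈ m.asIdeal by
            have hn' : sR (i m) ^ n = z := hn
            rw [hn']; exact hz))
      have hp := IsLocalization.isPrime_of_isPrime_disjoint (Submonoid.powers (sR (i m))) (A (i m)) _ m.isMaximal.isPrime hd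
      have hc := IsLocalization.under_map_of_isPrime_disjoint (Submonoid.powers (sR (i m))) (A (i m)) (I := m.asIdeal) m.isMaximal.isPrime hd
      obtain ⟨q, hq, hle⟩ := Ideal.exists_le_maximal _ hp.ne_top
      refine ⟨⟨q, hq⟩, (m.isMaximal.eq_of_le (Ideal.comap_ne_top _ hq.ne_top) ?_).symm⟩
      exact hc.ge.trans (Ideal.comap_mono hle)
    choose q hq using hpre
    exact Finite.of_injective (fun m => (⟨i m, q m⟩ : Σ j, MaximalSpectrum (A j))) fun m m' h => by
      apply MaximalSpectrum.ext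
      rw [← hq m, ← hq m']
      exact congrArg (fun p : Σ j, MaximalSpectrum (A j) => p.2.asIdeal.comap (incl p.1)) h
  · let i0 : Fin r := ⟨0, hr⟩
    have key : ∀ x : K, ∃ p q : R, q ≠ 0 ∧ x * q = p := fun x => by
      obtain ⟨a, b, hb, rfl⟩ := IsFractionRing.div_surjective (A i0) x
      obtain ⟨n, hn⟩ := hloc i0 a
      obtain ⟨m, hm⟩ := hloc i0 b
      have hb0 : (b : K) ≠ 0 := fun h => nonZeroDivisors.ne_zero hb (Subtype.ext h)
      have hs0 : (s i0 : K) ≠ 0 := fun h => (hsu i0).ne_zero (Subtype.ext h)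
      refine ⟨⟨_, R.mul_mem hn (R.pow_mem (hsR i0) m)⟩, ⟨_, R.mul_mem hm (R.pow_mem (hsR i0) n)⟩, ?_, ?_⟩
      · exact fun h => mul_ne_zero (mul_ne_zero hb0 (pow_ne_zero _ hs0)) (pow_ne_zero _ hs0) (congrArg (fun z : R => (z : K)) h)
      · show (a : K) / (b : K) * ((b : K) * (s i0 : K) ^ m * (s i0 : K) ^ n) = (a : K) * (s i0 : K) ^ n * (s i0 : K) ^ m
        field_simp
    refine ⟨fun y => ?_, fun x => ?_, fun {x y} e => ⟨1, by rw [Subtype.ext (show (x : K) = y from e)]⟩⟩
    · exact isUnit_iff_ne_zero.mpr fun h => nonZeroDivisors.coe_ne_zero y (Subtype.ext h)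
    · obtain ⟨p, q, hq, e⟩ := key x
      exact ⟨⟨p, ⟨q, mem_nonZeroDivisors_of_ne_zero hq⟩⟩, e⟩
  · rw [Set.eq_univ_iff_forall]
    intro P
    obtain ⟨i, hi⟩ := hcover P
    rw [Set.mem_iUnion]
    exact ⟨i, by rw [(hOI i).2]; exact hi⟩
  · intro m hm
    obtain ⟨i, hi⟩ := hcover m
    refine ⟨i, by show m ∈ _; rw [(hOI i).2]; exact hi, fun j hj => ?_⟩
    by_contra hne
    simp only at hj
    rw [(hOI j).2] at hj
    have : IsLocalization (Submonoid.powers (sR i)) (A i) := hL i
    have hd : Disjoint (Submonoid.powers (sR i) : Set R) (m.asIdeal : Set R) :=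
        Set.disjoint_left.mpr fun z ⟨n, hn⟩ hz => hi (m.isPrime.mem_of_pow_mem n (show sR i ^ n ∈ m.asIdeal by
          have hn' : sR i ^ n = z := hn
          rw [hn']; exact hz))
    have hp := IsLocalization.isPrime_of_isPrime_disjoint (Submonoid.powers (sR i)) (A i) _ m.isPrime hd
    have hc := IsLocalization.under_map_of_isPrime_disjoint (Submonoid.powers (sR i)) (A i) (I := m.asIdeal) m.isPrime hd
    obtain ⟨q, hq, hle⟩ := Ideal.exists_le_maximal _ hp.ne_top
    have heq : m.asIdeal = q.comap (incl i) :=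
      hm.eq_of_le (Ideal.comap_ne_top _ hq.ne_top) (hc.ge.trans (Ideal.comap_mono hle))
    refine hj ?_
    rw [heq, Ideal.mem_comap]
    exact (Submodule.mem_sInf.mp (hjac j i (Ne.symm hne))) _ ⟨bot_le, hq⟩

end Groth.Agent.S7665
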