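import Groth.Statements.S0217
import Groth.Agent.H29Curve.AffineNhd

set_option autoImplicit false
universe u
open CategoryTheory CategoryTheory.Limits AlgebraicGeometry TopologicalSpace
open Curves

namespace Groth.Agent.S0217

/-- On a separated scheme whose quasi-compact opens have finitely many irreducible components, any
finite set of points with Noetherian local rings of dimension at most one lies in a common affine
open. -/
theorem result (X : Scheme.{u}) [X.IsSeparated]
    (hirr : ∀ U : X.Opens, IsCompact (U : Set X) → (irreducibleComponents (U : Set X)).Finite)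
    (s : Finset X) (hs : ∀ x ∈ s, IsNoetherianRing (X.presheaf.stalk x) ∧ ringKrullDim (X.presheaf.stalk x) ≤ 1) :
    ∃ U : X.Opens, IsAffineOpen U ∧ ∀ x ∈ s, x ∈ U := by
  classical
  choose W hW hmem _ using fun x : X => exists_isAffineOpen_mem_and_subset (x := x) (U := ⊤) trivial
  let U0 : X.Opens := ⟨⋃ x ∈ s, (W x : Set X), isOpen_biUnion fun x _ => (W x).2⟩
  have hcpt : IsCompact (U0 : Set X) := s.finite_toSet.isCompact_biUnion fun x _ => (hW x).isCompact
  haveI : IsSeparated (terminal.from X) := Scheme.IsSeparated.isSeparated_terminal_from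
  haveI : (U0 : Scheme.{u}).IsSeparated := ⟨by
    rw [terminal.hom_ext (terminal.from _) (U0.ι ≫ terminal.from X)]
    infer_instance⟩
  obtain ⟨V, hV, hVs⟩ := H29Curve.AffineNhd.exists_affine (X := (U0 : Scheme.{u})) (hirr U0 hcpt)
    (s.preimage U0.ι U0.ι.isOpenEmbedding.injective.injOn) (fun y hy => by
      obtain ⟨h1, h2⟩ := hs _ (Finset.mem_preimage.1 hy)
      let e : X.presheaf.stalk (U0.ι y) ≃+* (U0 : Scheme.{u}).presheaf.stalk y :=
        (asIso (U0.ι.stalkMap y)).commRingCatIsoToRingEquiv
      exact ⟨isNoetherianRing_of_ringEquiv _ e, (ringKrullDim_eq_of_ringEquiv e).symm.le.trans h2⟩)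
  refine ⟨U0.ι ''ᵁ V, hV.image_of_isOpenImmersion U0.ι, fun x hx => ?_⟩
  exact ⟨⟨x, Set.mem_biUnion hx (hmem x)⟩, hVs _ (Finset.mem_preimage.2 hx), rfl⟩

end Groth.Agent.S0217
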