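import Groth.Statements.S7464
import Mathlib.AlgebraicGeometry.Morphisms.QuasiFinite
import Mathlib.AlgebraicGeometry.Morphisms.UniversallyClosed
import Mathlib.Topology.DiscreteSubset
import Mathlib.Order.Preorder.Finite

set_option autoImplicit false
universe u
open CategoryTheory CategoryTheory.Limits AlgebraicGeometry
open Grpd

namespace Groth.Agent.S7464

theorem eq_of_specializes_fibre {X Y : Scheme.{u}} (f : X ⟶ Y) [IsFinite f] {r r' : X}
    (h : r ⤳ r') (hf : f r = f r') : r = r' := by
  have hd : _root_.IsDiscrete (f ⁻¹' {f r} : Set X) := f.isDiscrete_preimage_singleton _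
  have := hd.to_subtype
  have h2 : (⟨r, rfl⟩ : (f ⁻¹' {f r} : Set X)) ⤳ ⟨r', hf.symm⟩ := subtype_specializes_iff _ _ |>.mpr h
  exact congrArg Subtype.val h2.eq


/-- Let (U, R, s, t, c) be a groupoid scheme over S with s and t finite, and let u, u' be distinct
points of U in the same orbit, say u = s(r) and u' = t(r). Then u' does not lie in the closure of u.
(The published statement calls u, u' points of R; this row takes them to be points of U, as the
orbit condition and the proof require.) (A groupoid scheme carries U, R, s, t, c, e, i over S with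
the groupoid axioms on T-points; c is defined on the fibre product of s and t and sends a pair (a,
b) with s(a) = t(b) to a composed with b.) -/
theorem result (S : Scheme.{u}) (G : Grpd.GroupoidScheme S) [IsFinite G.s] [IsFinite G.t] (r : G.R) (hne : G.s r ≠ G.t r) : ¬ (G.s r ⤳ G.t r) := by
  intro hsp
  have hO : (G.t '' (G.s ⁻¹' {G.s r})).Finite := (G.s.finite_preimage_singleton _).image _
  let V : Set ↥G.U := {v | ∃ a : G.R, G.t a = v ∧ G.s a ⤳ G.t a ∧ G.s a ≠ G.t a ∧
    G.t a ∈ G.t '' (G.s ⁻¹' {G.s r})}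
  have hVfin : V.Finite := hO.subset fun v ⟨a, ha, _, _, h4⟩ => ha ▸ h4
  have hVne : V.Nonempty := ⟨G.t r, r, rfl, hsp, hne, ⟨r, rfl, rfl⟩⟩
  let := specializationPreorder ↥G.U
  obtain ⟨v, hv, hmin⟩ := hVfin.exists_minimal hVne
  obtain ⟨a, rfl, hsa, hne', b, hb, hbt⟩ := hv
  obtain ⟨a', ha, ha'⟩ := G.s.isClosedMap.specializingMap (a := a) hsa
  have hw : G.t a ⤳ G.t a' := ha.map G.t.continuous
  have hwne : G.t a ≠ G.t a' := fun h => hne' (by
    have := eq_of_specializes_fibre G.t ha h
    rw [← ha', this])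
  obtain ⟨p, hp1, hp2⟩ := Scheme.Pullback.exists_preimage_pullback
    (f := G.s) (g := G.t) a' b (ha'.trans hbt.symm)
  have hl : pullback.lift (pullback.fst G.s G.t) (pullback.snd G.s G.t) pullback.condition =
      𝟙 (pullback G.s G.t) := by ext <;> simp
  have hcs : G.c ≫ G.s = pullback.snd G.s G.t ≫ G.s := by
    simpa [hl] using G.comp_s _ _ pullback.condition
  have hct : G.c ≫ G.t = pullback.fst G.s G.t ≫ G.t := by
    simpa [hl] using G.comp_t _ _ pullback.condition
  have hmem : G.t a' ∈ V := by
    refine ⟨a', rfl, ha'.symm ▸ hw, ha'.symm ▸ hwne, G.c p, ?_, ?_⟩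
    · show G.s (G.c p) = G.s r
      rw [← Scheme.Hom.comp_apply, hcs, Scheme.Hom.comp_apply, hp2]
      exact hb
    · rw [← Scheme.Hom.comp_apply, hct, Scheme.Hom.comp_apply, hp1]
  exact hwne (hw.antisymm (hmin hmem hw)).eq

end Groth.Agent.S7464
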