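import Groth.Statements.S10044
import Groth.Agent.H12AlgSp.Approx.AffineTarget

set_option autoImplicit false
set_option backward.isDefEq.respectTransparency.types false
universe u
open CategoryTheory CategoryTheory.Limits AlgebraicGeometry
open AlgSp

namespace Groth.Agent.S10044

/-- Let `f : X ⟶ Y` be a surjective and universally closed morphism of algebraic spaces over `S` with
`X` an affine scheme. Then `Y` is an affine scheme. -/
theorem result (S : Scheme.{u}) {X Y : AlgSp.Space S} (f : X ⟶ Y)
    (hsurj : AlgSp.IsSurjectiveMor f.hom) (huc : AlgSp.IsUnivClosedMor f.hom) (hX : ∃ (T : Over S), IsAffine T.left ∧ Nonempty ((AlgSp.yon S).obj T ≅ X.obj)) :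
    ∃ (T : Over S), IsAffine T.left ∧ Nonempty ((AlgSp.yon S).obj T ≅ Y.obj) := by
  obtain ⟨T, hT, ⟨e⟩⟩ := hX
  refine Groth.Agent.H12AlgSp.Approx.exists_affine_of_univClosed_surjective hT Y.property (e.hom ≫ f.hom) ?_ ?_
  · intro y
    obtain ⟨x, rfl⟩ := hsurj y
    exact ⟨Points.map e.inv x, by rw [← Points.map_comp, Iso.inv_hom_id_assoc]⟩
  · exact Groth.Agent.H12AlgSp.univSp_comp_of X.property Y.property
      ((Groth.Agent.H12AlgSp.repWith_universallyClosed_iff (Groth.Agent.H12AlgSp.repWith_of_isIso (P := @UniversallyClosed) e.hom).1).1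
        (Groth.Agent.H12AlgSp.repWith_of_isIso _)) huc

end Groth.Agent.S10044
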