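import Groth.Statements.S10043
import Groth.Agent.S10044
import Groth.Agent.H12AlgSp.AffineMor

set_option autoImplicit false
set_option backward.isDefEq.respectTransparency.types false
universe u
open CategoryTheory CategoryTheory.Limits AlgebraicGeometry
open AlgSp

namespace Groth.Agent.S10043

/-- Let `f : X ⟶ Y` be a finite and surjective morphism of algebraic spaces over `S` with `X` an affine
scheme. Then `Y` is an affine scheme. -/
theorem result (S : Scheme.{u}) {X Y : AlgSp.Space S} (f : X ⟶ Y)
    (hfin : AlgSp.IsFiniteMor f.hom) (hsurj : AlgSp.IsSurjectiveMor f.hom) (hX : ∃ (T : Over S), IsAffine T.left ∧ Nonempty ((AlgSp.yon S).obj T ≅ X.obj)) :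
    ∃ (T : Over S), IsAffine T.left ∧ Nonempty ((AlgSp.yon S).obj T ≅ Y.obj) := by
  exact Groth.Agent.S10044.result S f hsurj
    (Groth.Agent.H12AlgSp.isIntegralMor_iff_affine_univClosed.1 (Groth.Agent.H12AlgSp.isFiniteMor_isIntegralMor hfin)).2 hX

end Groth.Agent.S10043
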