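import Groth.Statements.S10670
import Groth.Agent.H13AlgSp.FibreConn

set_option autoImplicit false
universe u
open CategoryTheory CategoryTheory.Limits AlgebraicGeometry
open AlgSp

namespace Groth.Agent.S10670

/-- For morphisms f : X ⟶ Y and g : Y' ⟶ Y between algebraic spaces over S, f' : X' ⟶ Y' the base change
of f along g, an algebraically closed field point k' of Y' and an algebraically closed field point k
of Y whose class in |Y| is the image of the class of k', the fibres X'_{k'} and X_k (pullbacks in
fppf sheaves) have the same number of connected components of their spaces of points, counted in ℕ∞.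
With g the identity this says the number of geometric connected components of the fibre over a point
of |Y| is well defined. -/
theorem result {S : Scheme.{u}} {X Y X' Y' : AlgSp.Space S} (f : X ⟶ Y) (g : Y' ⟶ Y) (gX : X' ⟶ X) (f' : X' ⟶ Y')
    (hsq : IsPullback gX.hom f'.hom f.hom g.hom)
    (k' : AlgSp.FieldPt Y'.obj) (hk' : k'.IsGeometric) (k : AlgSp.FieldPt Y.obj) (hk : k.IsGeometric)
    (hkk : AlgSp.Points.mk k = AlgSp.Points.map g.hom (AlgSp.Points.mk k'))
    (Xk' : AlgSp.Sp S) (a' : Xk' ⟶ X'.obj) (b' : Xk' ⟶ (AlgSp.yon S).obj k'.pt) (h' : IsPullback a' b' f'.hom k'.toHom)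
    (Xk : AlgSp.Sp S) (a : Xk ⟶ X.obj) (b : Xk ⟶ (AlgSp.yon S).obj k.pt) (h : IsPullback a b f.hom k.toHom) :
    ENat.card (_root_.ConnectedComponents (AlgSp.Points Xk')) = ENat.card (_root_.ConnectedComponents (AlgSp.Points Xk)) := by
  rw [Points.map_mk, Points.mk_eq_mk_iff, H12AlgSp.rel_iff_toHom] at hkk
  obtain ⟨Ω, _, w, c, c', e⟩ := hkk
  have : IsSepClosed k.K := haveI : IsAlgClosed k.K := hk; inferInstance
  have : IsSepClosed k'.K := haveI : IsAlgClosed k'.K := hk'; inferInstance
  simp only [FieldPt.toHom_map] at e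
  have hX := h'.paste_horiz hsq
  let Q := pullback b ((AlgSp.yon S).map c)
  have sqQ : IsPullback (pullback.fst b ((AlgSp.yon S).map c)) (pullback.snd b _) b ((AlgSp.yon S).map c) :=
    IsPullback.of_hasPullback _ _
  have big := sqQ.paste_horiz h
  rw [show (AlgSp.yon S).map c ≫ k.toHom = (AlgSp.yon S).map c' ≫ k'.toHom ≫ g.hom from e] at big
  have e2 : (pullback.fst b _ ≫ a) ≫ f.hom = (pullback.snd b _ ≫ (AlgSp.yon S).map c') ≫ k'.toHom ≫ g.hom :=
    big.w.trans (Category.assoc _ _ _).symm
  have sqQ' : IsPullback (hX.lift _ _ e2) (pullback.snd b ((AlgSp.yon S).map c)) b' ((AlgSp.yon S).map c') :=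
    IsPullback.of_right (by rw [hX.lift_fst]; exact big) (hX.lift_snd _ _ e2) hX
  rw [← H13AlgSp.card_connectedComponents_fieldExt sqQ, ← H13AlgSp.card_connectedComponents_fieldExt sqQ']

end Groth.Agent.S10670
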