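import Groth.Statements.S9586
import Groth.Agent.H02CA.WeakAss
import Mathlib.RingTheory.Finiteness.Ideal

set_option autoImplicit false
universe u
open CAlg

namespace Groth.Agent.S9586

/-- For a ring R, an R-module M and a finitely generated prime ideal p of R, p is associated to M (equal
to the annihilator of an element) if and only if p is weakly associated to M (minimal over the
annihilator of an element). -/
theorem result {R : Type u} [CommRing R] (M : Type u) [AddCommGroup M] [Module R M] (p : Ideal R) [p.IsPrime] (hp : p.FG) :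
    p ∈ FlatCA.ass R M ↔ p ∈ FlatCA.weakAss R M := by
  refine ⟨fun h => Groth.Agent.H02CA.ass_subset_weakAss h, fun h => ?_⟩
  classical
  obtain ⟨hpp, m, hm, hx⟩ := Groth.Agent.H02CA.mem_weakAss.mp h
  have glue : ∀ (J : Ideal R) (z : R), J.FG → (∀ x ∈ J, ∃ y ∉ p, (y * x * z) • m = 0) →
      ∃ y ∉ p, ∀ x ∈ J, (y * x * z) • m = 0 := by
    intro J z ⟨G, hG⟩ hJ
    choose y hy hyz using fun g : G => hJ g.1 (hG ▸ Submodule.subset_span g.2)
    refine ⟨∏ g, y g, fun h' => ?_, fun x hx' => ?_⟩
    · obtain ⟨g, -, hg⟩ := hpp.prod_mem_iff.mp h'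
      exact hy g hg
    · rw [← hG] at hx'
      induction hx' using Submodule.span_induction with
      | zero => simp
      | add a b _ _ h1 h2 => rw [mul_add, add_mul, add_smul, h1, h2, add_zero]
      | smul c a _ h1 =>
        rw [smul_eq_mul, show (∏ g, y g) * (c * a) * z = c * ((∏ g, y g) * a * z) by ring, mul_smul, h1,
          smul_zero]
      | mem g hg =>
        rw [← Finset.mul_prod_erase _ y (Finset.mem_univ ⟨g, hg⟩),
          show ∀ a b : R, a * b * g * z = b * (a * g * z) from fun a b => by ring, mul_smul, hyz,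
          smul_zero]
  have hN : ∃ N : ℕ, ∃ y ∉ p, ∀ x ∈ p ^ N, (y * x) • m = 0 := by
    obtain ⟨G, hG⟩ := hp
    choose n y hy hyx using fun g : G => hx g.1 (hG ▸ Submodule.subset_span g.2)
    let y' := ∏ g, y g
    have hy' : y' ∉ p := fun h' => by
      obtain ⟨g, -, hg⟩ := hpp.prod_mem_iff.mp h'
      exact hy g hg
    have hle : p ≤ ((Submodule.span R {y' • m}).annihilator).radical := by
      conv_lhs => rw [← hG]
      refine Submodule.span_le.mpr fun g hg => ⟨n ⟨g, hg⟩, ?_⟩
      rw [Submodule.mem_annihilator_span_singleton, smul_smul]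
      show (g ^ n ⟨g, hg⟩ * ∏ g', y g') • m = 0
      rw [← Finset.mul_prod_erase _ y (Finset.mem_univ ⟨g, hg⟩),
        show ∀ a b c : R, c * (a * b) = b * (a * c) from fun a b c => by ring, mul_smul, hyx, smul_zero]
    obtain ⟨N, hN⟩ := Ideal.exists_pow_le_of_le_radical_of_fg hle ⟨G, hG⟩
    refine ⟨N, y', hy', fun x hx' => ?_⟩
    have := (Submodule.mem_annihilator_span_singleton _ _).mp (hN hx')
    rwa [smul_smul, mul_comm] at this
  let N := Nat.find hN
  obtain ⟨y, hy, hyN⟩ := Nat.find_spec hN
  obtain ⟨K, hK⟩ : ∃ K, N = K + 1 := by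
    refine Nat.exists_eq_succ_of_ne_zero fun h0 => hy (hm ?_)
    have := hyN 1 (by rw [show Nat.find hN = 0 from h0]; simp)
    rw [mul_one] at this
    exact Groth.Agent.H02CA.mem_annEl.mpr this
  have hz : ∃ z ∈ p ^ K, Groth.Agent.H02CA.annEl R (z • m) ≤ p := by
    by_contra hne
    push Not at hne
    refine Nat.find_min hN (show K < N by omega) ?_
    obtain ⟨y', hy', h'⟩ := glue (p ^ K) 1 (Submodule.FG.pow hp K) (fun x hx' => by
      obtain ⟨s, hs, hsp⟩ := SetLike.not_le_iff_exists.mp (hne x hx')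
      refine ⟨s, hsp, ?_⟩
      rw [mul_one, mul_smul]
      exact Groth.Agent.H02CA.mem_annEl.mp hs)
    exact ⟨y', hy', fun x hx' => by simpa using h' x hx'⟩
  obtain ⟨z, hz, hzle⟩ := hz
  refine ⟨hpp, y • z • m, le_antisymm (fun r hr => ?_) (fun r hr => ?_)⟩
  · rw [Submodule.mem_annihilator_span_singleton, smul_smul, smul_smul]
    rw [show r * y * z = y * (r * z) by ring]
    refine hyN _ ?_
    rw [show Nat.find hN = K + 1 from hK, pow_succ']
    exact Ideal.mul_mem_mul hr hz
  · have := hzle (Groth.Agent.H02CA.mem_annEl.mpr (show (r * y) • z • m = 0 by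
      rw [mul_smul]; exact (Submodule.mem_annihilator_span_singleton _ _).mp hr))
    exact (hpp.mem_or_mem this).resolve_right hy

end Groth.Agent.S9586
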