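import Groth.Statements.S9582
import Groth.Agent.H02CA.WeakAss

set_option autoImplicit false
universe u
open CAlg

namespace Groth.Agent.S9582

/-- For a reduced ring R, the primes weakly associated to the R-module R (primes minimal over the
annihilator of some element) are exactly the minimal primes of R. -/
theorem result {R : Type u} [CommRing R] [IsReduced R] :
    FlatCA.weakAss R R = minimalPrimes R := by
  ext p
  constructor
  · intro hp
    obtain ⟨hpp, m, hm, h⟩ := Groth.Agent.H02CA.mem_weakAss.mp hp
    have hmp : m ∉ p := fun hmp => by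
      obtain ⟨n, y, hy, hyx⟩ := h m hmp
      refine hy (hm (Groth.Agent.H02CA.mem_annEl.mpr ?_))
      refine IsNilpotent.eq_zero ⟨n + 1, ?_⟩
      have : y * m ^ n * m = 0 := hyx
      rw [smul_eq_mul, mul_pow, pow_succ, pow_succ]
      calc y ^ n * y * (m ^ n * m) = y ^ n * (y * m ^ n * m) := by ring
        _ = 0 := by rw [this, mul_zero]
    refine (Groth.Agent.H02CA.minimalPrimes_iff ⊥ p).mpr ⟨hpp, bot_le, fun x hx => ?_⟩
    obtain ⟨n, y, hy, hyx⟩ := h x hx
    refine ⟨n, y * m, fun h' => (hpp.mem_or_mem h').elim hy hmp, Ideal.mem_bot.mpr ?_⟩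
    rw [← hyx, smul_eq_mul]
    ring
  · intro hp
    refine ⟨1, ?_⟩
    have : (Submodule.span R ({1} : Set R)).annihilator = ⊥ :=
      eq_bot_iff.mpr fun r hr => Ideal.mem_bot.mpr (by simpa using Groth.Agent.H02CA.mem_annEl.mp hr)
    rw [this]
    exact hp

end Groth.Agent.S9582
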