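import Groth.Statements.S9941
import Groth.Agent.H12AlgSp.AffineMor

set_option autoImplicit false
universe u
open CategoryTheory CategoryTheory.Limits AlgebraicGeometry
open AlgSp

namespace Groth.Agent.S9941

/-- (2) ⇒ (1): an affine morphism of algebraic spaces is representable (and representable-affine). -/
theorem result {S : Scheme.{u}} {X Y : AlgSp.Space S} (f : X ⟶ Y)
    (hf : AlgSp.IsAffineMor f.hom) : AlgSp.RepWith @IsAffineHom f.hom := by
  open Groth.Agent.H12AlgSp Groth.Agent.H13AlgSp in
  exact isAffineMor_iff.1 hf

end Groth.Agent.S9941
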