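import Groth.Statements.S4342
import Groth.Agent.LeadQSub.Extend
-- import your own Groth.Agent.* helpers here

set_option autoImplicit false
universe u
open QCohSup

namespace Groth.Agent.S4342

open AlgebraicGeometry in
open CategoryTheory in
open Opposite in
/-- In the sectionwise form its proof gives. Let X be a scheme whose underlying space is locally
Noetherian and F a quasi-coherent O_X-module. For every affine open U and every section s of F over
U there is a quasi-coherent sub-O_X-module of finite type of F having s among its sections over U;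
hence F is the inductive limit of its quasi-coherent submodules of finite type. -/
theorem result
    {X : Scheme.{u}}
    (hX : ∀ x : X, ∃ U : X.Opens, x ∈ U ∧ TopologicalSpace.NoetherianSpace (U : Set X))
    (F : X.Modules) [Coh.IsQCoh F]
    (U : X.affineOpens) (s : F.val.obj (op (U : X.Opens))) :
    ∃ (G' : X.Modules) (i' : G' ⟶ F), Mono i' ∧ Coh.IsQCoh G' ∧ CohB1.IsFT G' ∧
      ∃ g : G'.val.obj (op (U : X.Opens)), (i'.val.app (op (U : X.Opens))).hom g = s := by
  have hch : LeadQSub.HasCharts (F := F) ({⟨(U : X.Opens), s⟩} : LeadQSub.Gens F) (U : X.Opens) :=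
    fun x hx => ⟨U, {s}, hx, le_rfl, U.2, Set.finite_singleton s,
      fun t ht => by rw [Set.mem_singleton_iff.1 ht]; exact LeadQSub.locSpan_gen ⟨(U : X.Opens), s⟩ rfl,
      LeadQSub.leOn_of_subset fun g hg => ⟨s, rfl, hg⟩⟩
  obtain ⟨Γs, hsub, hch', -⟩ := LeadQSub.exists_extension_locallyNoetherian hX (U : X.Opens)
    (Γ₀ := ({⟨(U : X.Opens), s⟩} : LeadQSub.Gens F)) inferInstance
    (fun g hg => by rw [Set.mem_singleton_iff.1 hg]) hch
  exact ⟨LeadQSub.spanMod Γs, LeadQSub.spanι Γs, inferInstance,
    LeadQSub.isQuasicoherent_spanMod inferInstance hch', LeadQSub.isFT_spanMod inferInstance hch',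
    (LeadQSub.mem_range_spanι Γs).2 (LeadQSub.locSpan_gen ⟨(U : X.Opens), s⟩ (hsub rfl))⟩

end Groth.Agent.S4342
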