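import Groth.Statements.S4362
import Groth.Agent.H17.Imports
import Mathlib.AlgebraicGeometry.AlgClosed.Basic
import Mathlib.Data.DFinsupp.WellFounded

set_option autoImplicit false
universe u
open FinCond

namespace Groth.Agent.S4362

open CategoryTheory Limits AlgebraicGeometry TopologicalSpace

open AlgebraicGeometry in
open CategoryTheory in
/-- If X is a Noetherian scheme, every increasing sequence of quasi-coherent sheaves of ideals of the
structure sheaf is eventually constant; equivalently the ordered set of quasi-coherent ideal sheaves
of X is well-founded for the reverse order. (On a locally Noetherian scheme quasi-coherent and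
coherent ideal sheaves coincide.) -/
theorem result
    (X : Scheme.{u}) [IsNoetherian X] : WellFoundedGT X.IdealSheafData := by
  obtain ⟨s, hs, h⟩ := isCompact_iff_finite_and_eq_biUnion_affineOpens.mp
    (show IsCompact ((⊤ : X.Opens) : Set X) from isCompact_univ)
  have : Finite s := hs.to_subtype
  have : ∀ U : s, WellFoundedGT (Ideal Γ(X, (U : X.affineOpens))) := fun U => by
    have : IsNoetherianRing Γ(X, (U : X.affineOpens)) := IsLocallyNoetherian.component_noetherian _
    infer_instance
  let Φ : X.IdealSheafData → (∀ U : s, Ideal Γ(X, (U : X.affineOpens))) := fun I U => I.ideal U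
  have : WellFoundedGT (∀ U : s, Ideal Γ(X, (U : X.affineOpens))) :=
    (inferInstance : WellFoundedLT (∀ U : s, (Ideal Γ(X, (U : X.affineOpens)))ᵒᵈ))
  have hΦ : StrictMono Φ := Monotone.strictMono_of_injective (fun I J hIJ U => hIJ U) fun I J hIJ =>
    Scheme.IdealSheafData.ext_of_iSup_eq_top (fun U : s => (U : X.affineOpens))
      (by rw [iSup_subtype]; exact h.symm) fun U => congr_fun hIJ U
  exact hΦ.wellFoundedGT

end Groth.Agent.S4362
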