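import Groth.Statements.S7490
import Mathlib.CategoryTheory.Sites.RegularEpi
import Mathlib.CategoryTheory.Limits.Preserves.Ulift
import Mathlib.CategoryTheory.Limits.Constructions.Over.Basic
import Mathlib.CategoryTheory.Limits.Shapes.Pullback.IsPullback.Basic

set_option linter.style.haveILetI false
open CategoryTheory CategoryTheory.Limits Opposite

set_option autoImplicit false
open CategoryTheory CategoryTheory.Limits AlgebraicGeometry
universe u
open QuotSh

namespace Groth.Agent.S7490

/-- Let K be a precoverage on schemes (the topology τ), S a scheme, s, t : R -> U morphisms of schemes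
over S (a pre-relation) and q : U -> M a morphism over S such that (1) q coequalizes s and t, (2)
the induced map of τ-sheaves h_U -> h_M is an epimorphism, and (3) the map h_R -> h_(U x_M U)
induced by (t, s) is an epimorphism of τ-sheaves. Then M, through q, represents the quotient sheaf
U/R: the canonical map from the coequalizer of h_s, h_t to h_M is an isomorphism. (The published
statement takes τ to be the Zariski, étale, fppf, smooth or syntomic topology; this row allows the
topology generated by any precoverage K.) -/
theorem result (K : Precoverage Scheme.{u}) {S : Scheme.{u}} {R U M : Over S} (s t : R ⟶ U) (q : U ⟶ M) (w : s ≫ q = t ≫ q) (w' : t.left ≫ q.left = s.left ≫ q.left) (h₂ : Epi (QuotSh.repMap K q)) (h₃ : Epi (QuotSh.repMap K (Over.homMk (pullback.lift t.left s.left w') (((Category.assoc _ _ _).symm.trans (congrArg (fun k => k ≫ U.hom) (pullback.lift_fst t.left s.left w'))).trans (Over.w t)) : R ⟶ Over.mk (pullback.fst q.left q.left ≫ U.hom)))) : QuotSh.IsQuotient K s t q := by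
  let P : Over S := Over.mk (pullback.fst q.left q.left ≫ U.hom)
  let p₁ : P ⟶ U := Over.homMk (pullback.fst q.left q.left) rfl
  let p₂ : P ⟶ U := Over.homMk (pullback.snd q.left q.left) (by
    change pullback.snd q.left q.left ≫ U.hom = pullback.fst q.left q.left ≫ U.hom
    rw [← Over.w q, ← Category.assoc, ← pullback.condition, Category.assoc])
  have hP : IsPullback p₁ p₂ q q :=
    IsPullback.of_map (Over.forget S) (by ext; exact pullback.condition)
      (IsPullback.of_hasPullback q.left q.left)
  let Φ : Over S ⥤ QuotSh.Sh K S :=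
    (yoneda ⋙ (Functor.whiskeringRight (Over S)ᵒᵖ (Type u) (Type (u + 1))).obj uliftFunctor.{u + 1, u}) ⋙
      presheafToSheaf (QuotSh.J K S) (Type (u + 1))
  haveI : PreservesLimit (cospan q q) Φ := inferInstance
  have hΦ : IsPullback (QuotSh.repMap K p₁) (QuotSh.repMap K p₂) (QuotSh.repMap K q) (QuotSh.repMap K q) :=
    hP.map Φ
  haveI := h₂
  haveI : EffectiveEpi (QuotSh.repMap K q) := by
    haveI := IsRegularEpiCategory.regularEpiOfEpi (QuotSh.repMap K q)
    infer_instance
  have hfork : ∀ {Z : QuotSh.Sh K S} (a b : Z ⟶ QuotSh.rep K U),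
      a ≫ QuotSh.repMap K q = b ≫ QuotSh.repMap K q →
      a ≫ QuotSh.quotπ K s t = b ≫ QuotSh.quotπ K s t := by
    intro Z a b hab
    haveI := h₃
    have hp : QuotSh.repMap K p₁ ≫ QuotSh.quotπ K s t = QuotSh.repMap K p₂ ≫ QuotSh.quotπ K s t := by
      let e : R ⟶ P := Over.homMk (pullback.lift t.left s.left w') (((Category.assoc _ _ _).symm.trans (congrArg (fun k => k ≫ U.hom) (pullback.lift_fst t.left s.left w'))).trans (Over.w t))
      haveI : Epi (QuotSh.repMap K e) := h₃
      have he₁ : e ≫ p₁ = t := Over.OverMorphism.ext (pullback.lift_fst _ _ _)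
      have he₂ : e ≫ p₂ = s := Over.OverMorphism.ext (pullback.lift_snd _ _ _)
      have e₁ : QuotSh.repMap K e ≫ QuotSh.repMap K p₁ = QuotSh.repMap K t :=
        (Φ.map_comp e p₁).symm.trans (congrArg (fun k => Φ.map k) he₁)
      have e₂ : QuotSh.repMap K e ≫ QuotSh.repMap K p₂ = QuotSh.repMap K s :=
        (Φ.map_comp e p₂).symm.trans (congrArg (fun k => Φ.map k) he₂)
      refine (cancel_epi (QuotSh.repMap K e)).1 ?_
      rw [← Category.assoc, ← Category.assoc, e₁, e₂]
      exact (QuotSh.quot_condition K s t).symm
    rw [← hΦ.lift_fst a b hab, Category.assoc, hp, ← Category.assoc, hΦ.lift_snd]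
  refine ⟨w, EffectiveEpi.desc (QuotSh.repMap K q) (QuotSh.quotπ K s t) hfork, ?_, ?_⟩
  · refine coequalizer.hom_ext ?_
    erw [← Category.assoc, coequalizer.π_desc]
    exact (EffectiveEpi.fac _ _ hfork).trans (Category.comp_id _).symm
  · rw [← cancel_epi (QuotSh.repMap K q), ← Category.assoc, EffectiveEpi.fac, Category.comp_id]
    exact coequalizer.π_desc _ _

end Groth.Agent.S7490
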