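import Groth.Statements.S10631
import Groth.Agent.H13Inf.Thick

set_option autoImplicit false
universe u
open CategoryTheory CategoryTheory.Limits AlgebraicGeometry
open AlgSp

namespace Groth.Agent.S10631

/-- Consider morphisms Z ⟶ Y ⟶ X of algebraic spaces over S. If (i : Z ⟶ Z', h' : Z' ⟶ Y) is, over Y, a
universal first order thickening of Z and g : Y ⟶ X is formally etale, then (i, h' ≫ g) is, over X,
a universal first order thickening of Z. -/
theorem result {S : Scheme.{u}} {Z Z' Y X : AlgSp.Space S} (hZ : Z ⟶ Y) (g : Y ⟶ X)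
    (i : Z ⟶ Z') (h' : Z' ⟶ Y) (HU : AlgSp.IsUnivFOThick hZ.hom i.hom h'.hom) (hg : AlgSp.IsFormallyEtaleMor g.hom) :
    AlgSp.IsUnivFOThick (hZ ≫ g).hom i.hom (h' ≫ g).hom := by
  refine ⟨HU.1, (Category.assoc _ _ _).symm.trans (congrArg (· ≫ g.hom) HU.2.1), ?_⟩
  intro T T' hT hT' j a b hj e
  have w : (a ≫ hZ.hom) ≫ g.hom = j ≫ b := by rw [Category.assoc]; exact e.symm
  obtain ⟨b₁, hb1, hb2⟩ := H13Inf.exists_lift_thick hg hj hT' w
  obtain ⟨a', ⟨h1, h2⟩, hu⟩ := HU.2.2 hT hT' j a b₁ hj hb1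
  refine ⟨a', ⟨h1, ?_⟩, fun a'' ha'' => hu a'' ⟨ha''.1, ?_⟩⟩
  · show a' ≫ h'.hom ≫ g.hom = b
    rw [← Category.assoc, h2, hb2]
  · refine H13Inf.hom_ext_thick (H13Inf.formallyUnramified_of_formallyEtale hg) hj hT' w ?_ ?_ hb1 hb2
    · rw [← Category.assoc, ha''.1, Category.assoc, HU.2.1]
    · rw [Category.assoc]; exact ha''.2

end Groth.Agent.S10631
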