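import Groth.Statements.S10632
import Groth.Agent.H13Inf.Thick

set_option autoImplicit false
universe u
open CategoryTheory CategoryTheory.Limits AlgebraicGeometry
open AlgSp

namespace Groth.Agent.S10632

/-- Let e : Z ⟶ Y be an etale morphism of algebraic spaces over S, hY : Y ⟶ X, and let (iY : Y ⟶ Y', hY'
: Y' ⟶ X) be a universal first order thickening of Y over X. Let e' : Z' ⟶ Y' be etale with iZ : Z ⟶
Z' making Z = Y ×_{Y'} Z' a pullback square. Then (iZ, e' ≫ hY') is a universal first order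
thickening of Z over X. -/
theorem result {S : Scheme.{u}} {Z Y Y' Z' X : AlgSp.Space S} (e : Z ⟶ Y)
    (he : AlgSp.IsEtaleMor e.hom) (hY : Y ⟶ X) (iY : Y ⟶ Y') (hY' : Y' ⟶ X)
    (HU : AlgSp.IsUnivFOThick hY.hom iY.hom hY'.hom) (iZ : Z ⟶ Z') (e' : Z' ⟶ Y') (he' : AlgSp.IsEtaleMor e'.hom)
    (sq : IsPullback e.hom iZ.hom iY.hom e'.hom) :
    AlgSp.IsUnivFOThick (e ≫ hY).hom iZ.hom (e' ≫ hY').hom := by
  have hFE := H13Inf.isFormallyEtaleMor_of_isEtaleMor Z'.property Y'.property he'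
  refine ⟨⟨H12AlgSp.repWith_of_isPullback sq HU.1.1, fun V W b fst snd hV hb pb =>
    HU.1.2 _ _ _ hV (he' b hb) (pb.paste_horiz sq)⟩, ?_, ?_⟩
  · show iZ.hom ≫ e'.hom ≫ hY'.hom = e.hom ≫ hY.hom
    rw [← Category.assoc, ← sq.w, Category.assoc, HU.2.1]
  intro T T' hT hT' j a b hj w
  obtain ⟨a₁, ⟨h1, h2⟩, hu⟩ := HU.2.2 hT hT' j (a ≫ e.hom) b hj (by
    rw [Category.assoc]; exact w)
  have w' : (a ≫ iZ.hom) ≫ e'.hom = j ≫ a₁ := by
    rw [Category.assoc, ← sq.w, h1, Category.assoc]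
  obtain ⟨a', g1, g2⟩ := H13Inf.exists_lift_thick hFE hj hT' w'
  refine ⟨a', ⟨g1, ?_⟩, fun a'' ha'' => ?_⟩
  · show a' ≫ e'.hom ≫ hY'.hom = b
    rw [← Category.assoc, g2, h2]
  · refine H13Inf.hom_ext_thick (H13Inf.formallyUnramified_of_formallyEtale hFE) hj hT' w' ha''.1
      (hu _ ⟨?_, ?_⟩) g1 g2
    · rw [← Category.assoc, ha''.1, Category.assoc, ← sq.w, Category.assoc]
    · rw [Category.assoc]; exact ha''.2

end Groth.Agent.S10632
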