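-- statement FlatMor.GrothFrozen.S0408 (Groth/Statements/S0408.lean; the theorem FlatMor.etale_localization_of_quasi_finite_point);
import Groth.Statements.S0408
import Groth.Agent.H7Flat.EtaleLocQF

set_option autoImplicit false
universe u
open FlatMor

namespace Groth.Agent.S0408

open AlgebraicGeometry CategoryTheory Limits in
/-- Étale localization of a quasi-finite point (one-point case): for f separated and locally of finite
type and x isolated in its fibre, after base change along an étale morphism g with a point u over
f(x) having the same residue field, the base change splits off an open and closed piece V, finite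
over the base, whose fibre over u is a single point v lying over x with the same residue field as x,
and no other point over u lies over x. -/
theorem result {X S : Scheme.{u}} (f : X ⟶ S) [LocallyOfFiniteType f] [IsSeparated f] (x : X) (hx : f.QuasiFiniteAt x) :
    ∃ (U : Scheme.{u}) (g : U ⟶ S) (u : U), Etale g ∧ g u = f x ∧ Function.Surjective (g.residueFieldMap u) ∧
      ∃ (V : (pullback f g).Opens) (v : ↑(pullback f g)), IsClopen (V : Set ↑(pullback f g)) ∧
        IsFinite (V.ι ≫ pullback.snd f g) ∧ v ∈ V ∧ pullback.fst f g v = x ∧ pullback.snd f g v = u ∧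
        Function.Surjective ((pullback.fst f g).residueFieldMap v) ∧
        (∀ w : ↑(pullback f g), pullback.snd f g w = u → (w ∈ V ∨ pullback.fst f g w = x) → w = v) := by
  obtain ⟨U, g, u, hn, V, v, hv, hfin, hvu, huniq, hvx⟩ := Groth.Agent.H7Flat.exists_etaleNbhd_finite_part f x hx
  obtain ⟨hinj, hres⟩ := Groth.Agent.H7Flat.fibre_of_bijective_residueFieldMap f g u hn.residue_bijective
  have : IsFinite V.ι := .of_comp V.ι (pullback.snd f g)
  have hcl : IsClosed (V : Set ↑(pullback f g)) := by
    simpa using V.ι.isClosedMap.isClosed_range
  refine ⟨U, g, u, hn.etale, hn.base_eq, hn.residue_bijective.2, V, v, ⟨hcl, V.2⟩, hfin, hv, hvx, hvu,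
    (hres v hvu).2, fun w hwu hw => ?_⟩
  rcases hw with hw | hw
  · exact huniq w hw hwu
  · exact hinj hwu hvu (hw.trans hvx.symm)

end Groth.Agent.S0408
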