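import Groth.Statements.S1379
import Groth.Agent.S2735
import Groth.Agent.S0408

set_option autoImplicit false
universe u
open FlatMor

namespace Groth.Agent.S1379

open AlgebraicGeometry CategoryTheory Limits in
/-- Let S₁ → S be flat, locally of finite presentation and surjective (an fppf cover by one morphism).
Then for every point s of S there are an étale morphism S' → S whose image contains s and a
surjective, finite, flat morphism of finite presentation V → S' such that V → S factors through S₁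
Zariski locally on V. -/
theorem result {S₁ S : Scheme.{u}} (g : S₁ ⟶ S) [Flat g] [LocallyOfFinitePresentation g] [Surjective g] (s : S) :
    ∃ (S' V : Scheme.{u}) (e : S' ⟶ S) (π : V ⟶ S'), Etale e ∧ s ∈ Set.range ⇑e ∧ Surjective π ∧ IsFinite π ∧ Flat π ∧ LocallyOfFinitePresentation π ∧
      ∀ v : ↑V, ∃ (W : V.Opens) (r : ↑W ⟶ S₁), v ∈ W ∧ r ≫ g = W.ι ≫ π ≫ e := by
  obtain ⟨T, h, r, hr, hflat, hlfp, hlqf, hsurj, -⟩ := Groth.Agent.S2735.result g
  have := hflat
  have := hlfp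
  have := hlqf
  have := hsurj
  obtain ⟨t, ht⟩ := h.surjective s
  obtain ⟨_, ⟨T₀, hT₀, rfl⟩, htT, -⟩ :=
    T.isBasis_affineOpens.exists_subset_of_mem_open (Set.mem_univ t) isOpen_univ
  let O : T.Opens := T₀
  have : IsAffine (O : Scheme.{u}) := hT₀
  let f : (O : Scheme.{u}) ⟶ S := O.ι ≫ h
  have : IsSeparated f := by
    have : IsSeparated (f ≫ terminal.from S) := by
      rw [Subsingleton.elim (f ≫ terminal.from S) (terminal.from _)]
      infer_instance
    exact IsSeparated.of_comp f (terminal.from S)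
  have : LocallyQuasiFinite f := inferInstance
  obtain ⟨U, e, u, he, heu, -, V, v, -, hfin, hv, -, hvu, -, -⟩ :=
    Groth.Agent.S0408.result f ⟨t, htT⟩ (f.quasiFiniteAt _)
  have := he
  have := hfin
  let π : (V : Scheme.{u}) ⟶ U := V.ι ≫ pullback.snd f e
  have : Flat π := inferInstance
  have : LocallyOfFinitePresentation π := inferInstance
  let W : U.Opens := ⟨Set.range π, π.isOpenMap.isOpen_range⟩
  have hu : u ∈ W := ⟨⟨v, hv⟩, hvu⟩
  refine ⟨W, π ⁻¹ᵁ W, W.ι ≫ e, π ∣_ W, inferInstance,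
    ⟨⟨u, hu⟩, heu.trans ((congrArg h rfl).trans ht)⟩, ?_, inferInstance, inferInstance, inferInstance,
    fun w => ⟨⊤, (⊤ : Scheme.Opens _).ι ≫ (π ⁻¹ᵁ W).ι ≫ V.ι ≫ pullback.fst f e ≫ O.ι ≫ r, trivial, ?_⟩⟩
  · exact ⟨fun ⟨y, hy⟩ => by
      obtain ⟨x, rfl⟩ := hy
      exact ⟨⟨x, ⟨x, rfl⟩⟩, Subtype.ext (congr($(morphismRestrict_ι π W) (⟨x, ⟨x, rfl⟩⟩ : π ⁻¹ᵁ W)))⟩⟩
  · simp only [Category.assoc, hr, morphismRestrict_ι_assoc, π]
    rw [show O.ι ≫ h = f from rfl, pullback.condition]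

end Groth.Agent.S1379
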