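import Groth.Statements.S2105
import Mathlib.Data.Fin.Tuple.Basic

set_option autoImplicit false
universe u
open CAlg

namespace Groth.Agent.S2105

/-- Appending to an `H_1`-regular sequence `f` a sequence `g` whose image modulo the ideal `(f)` is
`H_1`-regular yields an `H_1`-regular sequence. -/
theorem result {A : Type u} [CommRing A] {n m : ℕ} (f : Fin n → A)
    (g : Fin m → A) (hf : CAlgX.IsH1Regular f)
    (hg : CAlgX.IsH1Regular (fun j => Ideal.Quotient.mk (Ideal.span (Set.range f)) (g j))) :
    CAlgX.IsH1Regular (Fin.append f g) := by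
  classical
  intro x hx
  set T := Submodule.span A {v : Fin (n + m) → A | ∃ i j : Fin (n + m),
    v = Pi.single i (Fin.append f g j) - Pi.single j (Fin.append f g i)}
  let Tg := Submodule.span A {v : Fin m → A | ∃ i j : Fin m, v = Pi.single i (g j) - Pi.single j (g i)}
  let a : Fin n → A := fun i => x (Fin.castAdd m i)
  let b : Fin m → A := fun j => x (Fin.natAdd n j)
  have hrel : ∑ i, a i * f i + ∑ j, b j * g j = 0 := by
    rw [Fin.sum_univ_add] at hx
    simpa [a, b, Fin.append_left, Fin.append_right] using hx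
  -- the relation modulo `f`
  have hb : (fun j => Ideal.Quotient.mk (Ideal.span (Set.range f)) (b j)) ∈ Submodule.span (A ⧸ Ideal.span (Set.range f))
      {v : Fin m → A ⧸ Ideal.span (Set.range f) | ∃ i j : Fin m,
        v = Pi.single i (Ideal.Quotient.mk _ (g j)) - Pi.single j (Ideal.Quotient.mk _ (g i))} := by
    refine hg _ ?_
    have h1 : Ideal.Quotient.mk (Ideal.span (Set.range f)) (∑ j, b j * g j) = 0 := by
      rw [Ideal.Quotient.eq_zero_iff_mem, eq_neg_of_add_eq_zero_right hrel]
      exact neg_mem (sum_mem fun i _ => Ideal.mul_mem_left _ _ (Ideal.subset_span ⟨i, rfl⟩))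
    simpa [map_sum] using h1
  obtain ⟨t, ht, htb⟩ : ∃ t ∈ Tg, ∀ j, Ideal.Quotient.mk (Ideal.span (Set.range f)) (t j) =
      Ideal.Quotient.mk _ (b j) := by
    refine Submodule.span_induction (p := fun y _ => ∃ t ∈ Tg, ∀ j,
      Ideal.Quotient.mk (Ideal.span (Set.range f)) (t j) = y j) ?_ ?_ ?_ ?_ hb
    · rintro _ ⟨i, j, rfl⟩
      refine ⟨_, Submodule.subset_span ⟨i, j, rfl⟩, fun k => ?_⟩
      simp only [Pi.sub_apply, map_sub, Pi.single_apply, apply_ite (Ideal.Quotient.mk (Ideal.span (Set.range f))),
        map_zero]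
    · exact ⟨0, zero_mem _, fun j => by simp⟩
    · rintro y y' _ _ ⟨t, ht, h⟩ ⟨t', ht', h'⟩
      exact ⟨t + t', add_mem ht ht', fun j => by simp [h, h']⟩
    · rintro c y _ ⟨t, ht, h⟩
      obtain ⟨c, rfl⟩ := Ideal.Quotient.mk_surjective c
      exact ⟨c • t, Submodule.smul_mem _ _ ht, fun j => by simp [h]⟩
  have hc : ∀ j, ∃ c : Fin n → A, ∑ i, c i * f i = b j - t j := fun j => by
    have : b j - t j ∈ Ideal.span (Set.range f) := (Ideal.Quotient.eq).mp (htb j).symm
    obtain ⟨c, hc⟩ := Ideal.mem_span_range_iff_exists_fun.mp this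
    exact ⟨c, hc⟩
  choose c hc using hc
  let L : (Fin n → A) →ₗ[A] (Fin (n + m) → A) :=
    { toFun := fun v => Fin.append v 0
      map_add' := fun v w => by funext k; refine Fin.addCases (fun i => ?_) (fun i => ?_) k <;> simp
      map_smul' := fun r v => by funext k; refine Fin.addCases (fun i => ?_) (fun i => ?_) k <;> simp }
  let R' : (Fin m → A) →ₗ[A] (Fin (n + m) → A) :=
    { toFun := fun v => Fin.append 0 v
      map_add' := fun v w => by funext k; refine Fin.addCases (fun i => ?_) (fun i => ?_) k <;> simp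
      map_smul' := fun r v => by funext k; refine Fin.addCases (fun i => ?_) (fun i => ?_) k <;> simp }
  have hLs : ∀ i y, L (Pi.single i y) = Pi.single (Fin.castAdd m i) y := fun i y => by
    funext k
    refine Fin.addCases (fun i' => ?_) (fun j => ?_) k
    · simp [L, Pi.single_apply]
    · have hne : Fin.natAdd n j ≠ Fin.castAdd m i := by
        intro h; have := congrArg Fin.val h; simp at this; omega
      simp [L, Pi.single_apply, hne]
  have hRs : ∀ i y, R' (Pi.single i y) = Pi.single (Fin.natAdd n i) y := fun i y => by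
    funext k
    refine Fin.addCases (fun i' => ?_) (fun j => ?_) k
    · have hne : Fin.castAdd m i' ≠ Fin.natAdd n i := by
        intro h; have := congrArg Fin.val h; simp at this; omega
      simp [R', Pi.single_apply, hne]
    · simp [R', Pi.single_apply]
  have hRT : ∀ v ∈ Tg, R' v ∈ T := by
    intro v hv
    refine (Submodule.map_span_le R' _ T).mpr ?_ (Submodule.mem_map_of_mem hv)
    rintro _ ⟨i, j, rfl⟩
    refine Submodule.subset_span ⟨Fin.natAdd n i, Fin.natAdd n j, ?_⟩
    rw [map_sub, hRs, hRs, Fin.append_right, Fin.append_right]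
  let W : Fin (n + m) → A := ∑ j, ∑ i, c j i •
    (Pi.single (Fin.natAdd n j) (f i) - Pi.single (Fin.castAdd m i) (g j))
  have hW : W ∈ T := sum_mem fun j _ => sum_mem fun i _ => Submodule.smul_mem _ _
    (Submodule.subset_span ⟨Fin.natAdd n j, Fin.castAdd m i, by rw [Fin.append_left, Fin.append_right]⟩)
  let a' : Fin n → A := fun i => a i + ∑ j, c j i * g j
  have hsplit : x = L a' + R' t + W := by
    funext k
    refine Fin.addCases (fun i => ?_) (fun j => ?_) k
    · have hne : ∀ j, Fin.castAdd m i ≠ Fin.natAdd n j := by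
        intro j h; have := congrArg Fin.val h; simp at this; omega
      simp [L, R', W, a', a, Finset.sum_apply, Pi.single_apply, hne, mul_ite]
    · have hne : ∀ i, Fin.natAdd n j ≠ Fin.castAdd m i := by
        intro i h; have := congrArg Fin.val h; simp at this; omega
      simp [L, R', W, Finset.sum_apply, Pi.single_apply, hne, mul_ite, hc, b]
  have htrel : ∑ j, t j * g j = 0 := by
    refine Submodule.span_induction (p := fun v _ => ∑ j, v j * g j = 0) ?_ ?_ ?_ ?_ ht
    · rintro _ ⟨i, j, rfl⟩
      simp [sub_mul, Finset.sum_sub_distrib, Pi.single_apply]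
      ring
    · simp
    · intro v w _ _ hv hw
      simp [add_mul, Finset.sum_add_distrib, hv, hw]
    · intro r v _ hv
      simp [mul_assoc, ← Finset.mul_sum, hv]
  have ha' : ∑ i, a' i * f i = 0 := by
    have h1 : ∑ i, (∑ j, c j i * g j) * f i = ∑ j, (b j - t j) * g j := by
      simp only [← hc, Finset.sum_mul]
      rw [Finset.sum_comm]
      exact Finset.sum_congr rfl fun j _ => Finset.sum_congr rfl fun i _ => by ring
    simp only [a', add_mul, Finset.sum_add_distrib, h1, sub_mul, Finset.sum_sub_distrib, htrel, sub_zero]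
    exact hrel
  rw [hsplit]
  refine add_mem (add_mem ?_ (hRT t ht)) hW
  refine (Submodule.map_span_le L _ T).mpr ?_ (Submodule.mem_map_of_mem (hf a' ha'))
  rintro _ ⟨i, j, rfl⟩
  refine Submodule.subset_span ⟨Fin.castAdd m i, Fin.castAdd m j, ?_⟩
  rw [map_sub, hLs, hLs, Fin.append_left, Fin.append_left]

end Groth.Agent.S2105
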