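import Groth.Statements.S10754
import Groth.Agent.H13AlgSp.EtVanish
import Groth.Agent.H12AlgSp.Basic

set_option autoImplicit false
universe u
open CategoryTheory CategoryTheory.Limits AlgebraicGeometry Opposite
open AlgSp

namespace Groth.Agent.S10754

/-- Consider an algebraic space X over S that happens to be an affine scheme, meaning X ≅ h_T where T is
an affine scheme over S. Then for each i > 0 and each quasi-coherent O_X-module M on the small etale
site of X, the cohomology H^i(X, M) vanishes. -/
theorem result {S : Scheme.{u}} (X : AlgSp.Space S) (T : Over S)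
    (hT : IsAffine T.left) (e : (AlgSp.yon S).obj T ≅ X.obj) (M : AlgSp.ModEt X.obj) [M.IsQuasicoherent]
    (i : ℕ) (hi : 0 < i) :
    Subsingleton (AlgSp.HModEt X.obj M i) := by
  obtain ⟨p, rfl⟩ : ∃ p, i = p + 1 := ⟨i - 1, by omega⟩
  let E : AlgSp.EtOver X.obj := AlgSp.EtOver.mk e.hom (H12AlgSp.repWith_of_isIso _)
  refine H13AlgSp.AffVanish.subsingleton_HModEt (E := E) ?_ hT M p
  exact IsTerminal.ofUniqueHom
    (fun F => AlgSp.EtOver.homMk ((AlgSp.yon S).preimage (F.obj.hom ≫ e.inv))
      (by simp [E, AlgSp.EtOver.mk]))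
    (fun F m => AlgSp.EtOver.hom_ext _ _ ((AlgSp.yon S).map_injective (by
      refine Eq.trans ?_ ((AlgSp.yon S).map_preimage _).symm
      rw [← cancel_mono e.hom, Category.assoc, Iso.inv_hom_id, Category.comp_id]
      exact AlgSp.EtOver.w m)))

end Groth.Agent.S10754
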