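import Groth.Statements.S1327
import Groth.Agent.H06SecComp.ModelApps

set_option autoImplicit false
universe u
open FlatMor

namespace Groth.Agent.S1327

open Groth.Agent AlgebraicGeometry CategoryTheory Limits

open AlgebraicGeometry CategoryTheory Limits in
/-- Let f be flat and of finite presentation with a section s, and let y be a point of the target whose
fibre is geometrically reduced. Then the section components of (f, s) contain an open neighbourhood
of the connected component of s y in the fibre over y. -/
theorem result {X Y : Scheme.{u}} (f : X ⟶ Y) (s : Y ⟶ X) (hs : s ≫ f = 𝟙 Y)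
    [LocallyOfFinitePresentation f] [QuasiCompact f] [QuasiSeparated f] [Flat f] (y : Y)
    (hy : GeometricallyReduced (f.fiberToSpecResidueField y)) :
    connectedComponentIn (f ⁻¹' {y}) (s y) ⊆ interior (MoreMor.sectionComponents f s) := by
  intro x hx
  refine H06SecComp.mem_interior_sectionComponents_fp f s hs y (fun a ha => ?_) hx
  obtain rfl : f a = y := H06EGA15.apply_eq_of_mem ha
  intro K _ _ u _
  haveI := hy
  haveI : IsReduced (FBase.bc (f.fiberToSpecResidueField (f a)) K) :=
    GeometricallyReduced.geometrically_isReduced (f := f.fiberToSpecResidueField (f a))
      (Spec.map (CommRingCat.ofHom (algebraMap (IsLocalRing.ResidueField (Y.presheaf.stalk (f a))) K))) _ _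
      (IsPullback.of_hasPullback _ _)
  infer_instance

end Groth.Agent.S1327
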