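import Groth.Statements.S10536
import Groth.Agent.H13AlgSp.Topology

set_option autoImplicit false
universe u
open CategoryTheory CategoryTheory.Limits AlgebraicGeometry
open AlgSp

namespace Groth.Agent.S10536

/-- The property of morphisms of algebraic spaces over S given by f is proper (separated, of finite type
and universally closed) is fpqc local on the base: for an fpqc covering of an algebraic space Y by
algebraic spaces Y_i, a morphism f : X ⟶ Y of algebraic spaces and cartesian squares X_i = Y_i ×_Y
X, f has the property if and only if every X_i ⟶ Y_i has it. -/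
theorem result (S : Scheme.{u}) :
    AlgSp.IsLocalOnBase (AlgSp.IsFpqcCover (S := S)) AlgSp.IsProperMor := by
  exact Groth.Agent.H13AlgSp.isLocalOnBase_inf
    (Groth.Agent.H13AlgSp.isLocalOnBase_fpqc_repWith_diagonal (P := @IsClosedImmersion))
    (Groth.Agent.H13AlgSp.isLocalOnBase_inf
      (Groth.Agent.H13AlgSp.isLocalOnBase_inf (Groth.Agent.H13AlgSp.isLocalOnBase_fpqc_locP @LocallyOfFiniteType)
        Groth.Agent.H13AlgSp.isLocalOnBase_fpqc_isQuasiCompactMor)
      (Groth.Agent.H13AlgSp.isLocalOnBase_fpqc_univSp Groth.Agent.H13AlgSp.isClosedMor_descends))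

end Groth.Agent.S10536
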