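import Groth.Statements.S9841
import Groth.Agent.H13AlgSp.EtaleLocally

set_option autoImplicit false
open CategoryTheory CategoryTheory.Limits AlgebraicGeometry Opposite
universe u
open Desc

namespace Groth.Agent.S9841

/-- Being reduced is local in the smooth topology: for a jointly surjective family of smooth morphisms f
i : X i ⟶ S, the scheme S is reduced if and only if every X i is reduced. -/
theorem result {ι : Type u} {S : Scheme.{u}} {X : ι → Scheme.{u}} (f : ∀ i, X i ⟶ S)
    (hf : Presieve.ofArrows X f ∈ Scheme.precoverage @Smooth S) :
    IsReduced S ↔ ∀ i, IsReduced (X i) := by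
  rw [Scheme.ofArrows_mem_precoverage_iff] at hf
  refine ⟨fun _ i => ?_, fun h => ?_⟩
  · have := hf.2 i
    exact H13AlgSp.isReduced_of_smooth_mor (f i)
  · have : ∀ s : S, _root_.IsReduced (S.presheaf.stalk s) := fun s => by
      obtain ⟨i, x, rfl⟩ := hf.1 s
      have := h i
      have := hf.2 i
      have hfl : ((f i).stalkMap x).hom.Flat := Flat.stalkMap (f i) x
      refine isReduced_of_injective ((f i).stalkMap x).hom ?_
      algebraize [((f i).stalkMap x).hom]
      have : IsLocalHom (algebraMap (S.presheaf.stalk (f i x)) ((X i).presheaf.stalk x)) :=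
        inferInstanceAs (IsLocalHom ((f i).stalkMap x).hom)
      have := Module.FaithfullyFlat.of_flat_of_isLocalHom (A := S.presheaf.stalk (f i x)) (B := (X i).presheaf.stalk x)
      exact FaithfulSMul.algebraMap_injective (S.presheaf.stalk (f i x)) ((X i).presheaf.stalk x)
    exact isReduced_of_isReduced_stalk S

end Groth.Agent.S9841
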