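import Groth.Statements.S2155
import Groth.Agent.H17.LocusBC

set_option autoImplicit false
universe u
open CategoryTheory AlgebraicGeometry
open Mor

namespace Groth.Agent.S2155

open CategoryTheory Limits AlgebraicGeometry TopologicalSpace
open Groth.Agent.H17

/-- Consider a cartesian square with `f : X → S` locally of finite presentation, base change `g : S' →
S`, and `f' : X' → S'`, `g' : X' → X` the projections. If `f` is flat, or if `g` is flat, then the
open set of points where `f'` is smooth is the preimage under `g'` of the open set of points where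
`f` is smooth. -/
theorem result {X S X' S' : Scheme.{u}} (f : X ⟶ S) (g : S' ⟶ S) (f' : X' ⟶ S') (g' : X' ⟶ X)
    (h : IsPullback g' f' f g) [LocallyOfFinitePresentation f] [LocallyOfFinitePresentation f'] (hflat : Flat f ∨ Flat g) :
    f'.smoothLocus = g' ⁻¹ᵁ f.smoothLocus := by
  refine le_antisymm (fun x' hx' => ?_) (LocusBC.preimage_smoothLocus_le h)
  rcases hflat with hf | hg
  · have hy : g (f' x') = f (g' x') := by
      rw [← Scheme.Hom.comp_apply, ← Scheme.Hom.comp_apply, h.w]
    have hlfp : ∀ y, LocallyOfFinitePresentation (f.fiberToSpecResidueField y) := fun y =>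
      MorphismProperty.pullback_snd _ _ inferInstance
    have : LocallyOfFinitePresentation (f'.fiberToSpecResidueField (f' x')) :=
      MorphismProperty.pullback_snd _ _ inferInstance
    have hx0 : f'.asFiber x' ∈ (f'.fiberToSpecResidueField (f' x')).smoothLocus := by
      refine LocusBC.preimage_smoothLocus_le (IsPullback.of_hasPullback f' (S'.fromSpecResidueField (f' x'))) ?_
      show f'.fiberι (f' x') (f'.asFiber x') ∈ f'.smoothLocus
      rw [f'.fiberι_asFiber]; exact hx'
    have hpb := isPullback_fiberToSpecResidueField_of_isPullback h (f' x')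
    have hl := hlfp (g (f' x'))
    have : Flat (Spec.map (g.residueFieldMap (f' x'))) := by
      rw [HasRingHomProperty.Spec_iff (P := @Flat)]
      let := (g.residueFieldMap (f' x')).hom.toAlgebra
      exact RingHom.flat_algebraMap_iff.mpr (inferInstance : Module.Flat (S.residueField (g (f' x'))) (S'.residueField (f' x')))
    have h1 := @LocusBC.mem_smoothLocus_of_flat_baseChange _ _ _ _ _ _ _ _ hpb hl ‹_› ‹_› (f'.asFiber x') hx0
    let M := pullback.map f' (S'.fromSpecResidueField (f' x')) f (S.fromSpecResidueField (g (f' x')))
      g' (Spec.map (g.residueFieldMap (f' x'))) g h.w.symm (by simp)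
    have hM : M ≫ pullback.fst f (S.fromSpecResidueField (g (f' x'))) = f'.fiberι (f' x') ≫ g' :=
      pullback.lift_fst _ _ _
    have hz' : f.fiberι (g (f' x')) (M (f'.asFiber x')) = g' x' := by
      show (M ≫ pullback.fst f (S.fromSpecResidueField (g (f' x')))) (f'.asFiber x') = _
      rw [hM]
      show g' (f'.fiberι (f' x') (f'.asFiber x')) = _
      rw [f'.fiberι_asFiber]
    have key : ∀ (y : S), y = f (g' x') → ∀ (_ : LocallyOfFinitePresentation (f.fiberToSpecResidueField y))
        (w : f.fiber y), f.fiberι y w = g' x' → w ∈ (f.fiberToSpecResidueField y).smoothLocus →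
        g' x' ∈ f.smoothLocus := by
      rintro y rfl _ w hw hw'
      obtain rfl : w = f.asFiber (g' x') :=
        (f.fiberι _).isEmbedding.injective (by rw [hw, f.fiberι_asFiber])
      exact LocusBC.mem_smoothLocus_of_flat_of_fiber f _ (Flat.stalkMap f _) hw'
    exact key _ hy (hlfp _) _ hz' h1
  · exact LocusBC.mem_smoothLocus_of_flat_baseChange h x' hx'

end Groth.Agent.S2155
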