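import Groth.Statements.S18325
import Groth.Agent.H14AlgSt.PointLift
import Groth.Agent.H14AlgSt.Rep
import Groth.Agent.S5038

set_option autoImplicit false
set_option backward.isDefEq.respectTransparency false
set_option backward.isDefEq.respectTransparency.types false
universe u
open AlgSt

namespace Groth.Agent.S18325

open CategoryTheory AlgebraicGeometry in
/-- Let S be a scheme, 𝒵 an algebraic stack over (Sch/S) for the fppf topology, Z an algebraic space
over S and f : Z → 𝒵 a functor over (Sch/S) (from the category of points of Z) which is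
representable by algebraic spaces and smooth. Let R be a Henselian local ring with residue field k =
R/m and structure morphism Spec R → S, let z : (Sch/Spec R) → 𝒵 be an object of 𝒵 over Spec R, and
let z₀' : h_{Spec k} → Z be a k-point of Z whose image under f is isomorphic, over (Sch/S), to the
restriction of z to Spec k. Then there is an R-point z' : h_{Spec R} → Z whose restriction to Spec k
is z₀' and whose image under f is isomorphic to z over (Sch/S). -/
theorem result {S : Scheme.{u}} (𝒵 : AlgSt.Cat S)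
    (h𝒵 : AlgSt.IsAlgStack Scheme.fppfPrecoverage 𝒵) (Z : AlgSp.Space S)
    (f : AlgSt.ofSp Z.obj ⥤ᵇ 𝒵) (hf : AlgSt.RepByAlgSpWith (AlgSp.LocP @Smooth) f)
    (R : Type u) [CommRing R] [HenselianLocalRing R] (str : Spec (CommRingCat.of R) ⟶ S)
    (z : FibCat.overCat (Over.mk str) ⥤ᵇ 𝒵)
    (z₀ : (AlgSp.yon S).obj (Over.mk ((Spec.map (CommRingCat.ofHom (IsLocalRing.residue R))) ≫ str)) ⟶ Z.obj)
    (w : Nonempty (BasedFunctor.comp (BasedFunctor.comp (AlgSt.ofOverCat (Over.mk ((Spec.map (CommRingCat.ofHom (IsLocalRing.residue R))) ≫ str))) (AlgSt.ofSpMap z₀)) f ≅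
      BasedFunctor.comp (AlgSt.overMap (Over.homMk (Spec.map (CommRingCat.ofHom (IsLocalRing.residue R))) rfl : Over.mk ((Spec.map (CommRingCat.ofHom (IsLocalRing.residue R))) ≫ str) ⟶ Over.mk str)) z)) :
    ∃ z' : (AlgSp.yon S).obj (Over.mk str) ⟶ Z.obj,
      (AlgSp.yon S).map (Over.homMk (Spec.map (CommRingCat.ofHom (IsLocalRing.residue R))) rfl : Over.mk ((Spec.map (CommRingCat.ofHom (IsLocalRing.residue R))) ≫ str) ⟶ Over.mk str) ≫ z' = z₀ ∧
        Nonempty (BasedFunctor.comp (BasedFunctor.comp (AlgSt.ofOverCat (Over.mk str)) (AlgSt.ofSpMap z')) f ≅ z) := by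
  classical
  let K : Over S := Over.mk ((Spec.map (CommRingCat.ofHom (IsLocalRing.residue R))) ≫ str)
  let U : Over S := Over.mk str
  let i : K ⟶ U := Over.homMk (Spec.map (CommRingCat.ofHom (IsLocalRing.residue R))) rfl
  obtain ⟨F, e, he, hπ⟩ := hf U z
  obtain ⟨wi⟩ := w
  let y : FibCat.overCat K ⥤ᵇ FibCat.fp z f :=
    FibCat.fpLift (AlgSt.overMap i) (BasedFunctor.comp (AlgSt.ofOverCat K) (AlgSt.ofSpMap z₀)) wi.symm
  obtain ⟨b, -, ⟨j₂⟩⟩ := he
  let Φ : AlgSt.ofSch K ⥤ᵇ AlgSt.ofSp F.obj := BasedFunctor.comp (AlgSt.toOverCat K) (BasedFunctor.comp y b)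
  let ξ : (AlgSp.yon S).obj K ⟶ F.obj := ObjectProperty.homMk (H14AlgSt.mapOfFun Φ)
  let ιΦ : Φ ≅ AlgSt.ofSpMap ξ := H14AlgSt.isoOfPshMap Φ
  let k₀ : BasedFunctor.comp (AlgSt.ofSpMap ξ) e ≅ BasedFunctor.comp (AlgSt.toOverCat K) y :=
    (H14Stk.post _ e).mapIso ιΦ.symm ≪≫
      (Stk.restr (BasedFunctor.comp (AlgSt.toOverCat K) y) _).mapIso j₂
  let Ψ := BasedFunctor.comp e (FibCat.fpFst z f)
  let π : F.obj ⟶ (AlgSp.yon S).obj U := AlgSt.spMapOfOver Ψ
  let σ := BasedFunctor.comp e (FibCat.fpSnd z f)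
  let ρ : F.obj ⟶ Z.obj := ObjectProperty.homMk (H14AlgSt.mapOfFun σ)
  let ισ : σ ≅ AlgSt.ofSpMap ρ := H14AlgSt.isoOfPshMap σ
  have hξπ : ξ ≫ π = (AlgSp.yon S).map i := by
    have k₁ : BasedFunctor.comp (AlgSt.ofSpMap ξ) Ψ ≅
        BasedFunctor.comp (AlgSt.toOverCat K) (AlgSt.overMap i) :=
      (H14Stk.post _ (FibCat.fpFst z f)).mapIso k₀
    rw [← H14AlgSt.spMapOfOver_comp, H14AlgSt.spMapOfOver_congr k₁]
    apply Sheaf.hom_ext
    ext T x
    apply ULift.ext
    exact Category.id_comp _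
  have hξρ : ξ ≫ ρ = z₀ := by
    refine ObjectProperty.hom_ext _ (H14AlgSt.ofPshMap_injective ?_)
    exact ((Stk.restr (AlgSt.ofSpMap ξ) _).mapIso ισ).symm ≪≫ (H14Stk.post _ (FibCat.fpSnd z f)).mapIso k₀
  obtain ⟨A, m, a, hm, ha⟩ := H14AlgSt.exists_etale_lift_of_fieldPoint F.property
    ((Spec.map (CommRingCat.ofHom (IsLocalRing.residue R))) ≫ str) ξ
  obtain ⟨c, hc⟩ := (AlgSp.yon S).map_surjective (m ≫ π)
  have : Smooth c.left := hπ m (𝟙 _) c hm (AlgSp.repWith_id _ _) (by rw [Category.comp_id, hc])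
  have hac : a ≫ c = i := (AlgSp.yon S).map_injective (by rw [Functor.map_comp, hc, ← Category.assoc, ha, hξπ])
  obtain ⟨u, hu, hu₀⟩ := S5038.result R (c.left : A.left ⟶ Spec (CommRingCat.of R)) a.left
    (congrArg (fun g : K ⟶ U => g.left) hac)
  let s : U ⟶ A := Over.homMk u (by
    rw [← Over.w c]
    exact (Category.assoc _ _ _).symm.trans ((congrArg (· ≫ U.hom) hu).trans (Category.id_comp _)))
  have hs : i ≫ s = a := Over.OverMorphism.ext hu₀
  have hsc : s ≫ c = 𝟙 U := Over.OverMorphism.ext hu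
  let τ : (AlgSp.yon S).obj U ⟶ F.obj := (AlgSp.yon S).map s ≫ m
  have hτ : τ ≫ π = 𝟙 _ := by
    rw [Category.assoc, ← hc, ← Functor.map_comp, hsc, CategoryTheory.Functor.map_id]
  refine ⟨τ ≫ ρ, ?_, ⟨?_⟩⟩
  · change (AlgSp.yon S).map i ≫ τ ≫ ρ = z₀
    rw [← hξρ, ← ha, ← hs, Functor.map_comp, Category.assoc, Category.assoc, Category.assoc]
  · let a' : FibCat.overCat U ⥤ᵇ AlgSt.ofSp F.obj :=
      BasedFunctor.comp (AlgSt.ofOverCat U) (AlgSt.ofSpMap τ)
    let kρ : BasedFunctor.comp a' (AlgSt.ofSpMap ρ) ≅ BasedFunctor.comp a' σ :=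
      (Stk.restr a' _).mapIso ισ.symm
    let kπ : BasedFunctor.comp a' Ψ ≅ BasedFunctor.id (FibCat.overCat U) :=
      (Stk.restr a' _).mapIso (H14AlgSt.spMapOfOver_eq Ψ).some ≪≫ eqToIso (by
        change BasedFunctor.comp (AlgSt.ofOverCat U)
          (BasedFunctor.comp (AlgSt.ofSpMap (τ ≫ π)) (AlgSt.toOverCat U)) = _
        rw [hτ]
        rfl)
    exact (H14Stk.post _ f).mapIso kρ ≪≫
      (Stk.restr (BasedFunctor.comp a' e) _).mapIso (FibCat.fpIso z f).symm ≪≫
      (H14Stk.post _ z).mapIso kπ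

end Groth.Agent.S18325
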