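import Groth.Statements.S0412
import Groth.Agent.H14AlgSt.Slice

set_option autoImplicit false
set_option backward.isDefEq.respectTransparency false
set_option backward.isDefEq.respectTransparency.types false
universe u
open FlatMor

namespace Groth.Agent.S0412

open AlgebraicGeometry CategoryTheory Limits in
lemma exists_section_spec {B A : Type u} [CommRing B] [CommRing A] [Algebra B A]
    [Algebra.Smooth B A] (r : Spec (CommRingCat.of A)) :
    ∃ (T : Scheme.{u}) (g₀ : T ⟶ Spec (CommRingCat.of A)),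
      Etale (g₀ ≫ Spec.map (CommRingCat.ofHom (algebraMap B A))) ∧
      ∃ t, (g₀ ≫ Spec.map (CommRingCat.ofHom (algebraMap B A))) t =
        Spec.map (CommRingCat.ofHom (algebraMap B A)) r := by
  obtain ⟨U', T, c, j, hj, het, t, ht⟩ :=
    Groth.Agent.H14AlgSt.exists_slice_spec (R := B) (B := B) (C := A) (A := A) (by
      let Φ := Algebra.TensorProduct.productMap (IsScalarTower.toAlgHom B B A)
        (IsScalarTower.toAlgHom B A A)
      algebraize [Φ.toRingHom]
      exact Algebra.FormallyUnramified.of_surjective (Algebra.ofId (TensorProduct B B A) A)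
        fun a => ⟨TensorProduct.tmul _ 1 a, by
          show Φ (TensorProduct.tmul _ 1 a) = a
          simp [Φ]⟩) r
  refine ⟨T, j ≫ pullback.fst _ c, ?_, t, ?_⟩
  · rwa [Category.assoc]
  · rw [Category.assoc]; exact ht

open AlgebraicGeometry CategoryTheory Limits in
/-- A smooth morphism admits sections étale-locally on the target: every point in the image has an étale
neighbourhood over which the morphism has a section. -/
theorem result {X S : Scheme.{u}} (f : X ⟶ S) [Smooth f] (s : S) (hs : s ∈ Set.range f) :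
    ∃ (S' : Scheme.{u}) (g : S' ⟶ S) (s' : S'), Etale g ∧ g s' = s ∧ ∃ h : S' ⟶ X, h ≫ f = g := by
  obtain ⟨x, rfl⟩ := hs
  obtain ⟨U, hU, hxU, -⟩ :=
    exists_isAffineOpen_mem_and_subset (x := f x) (U := (⊤ : S.Opens)) trivial
  obtain ⟨V, hV, hxV, hVU⟩ := exists_isAffineOpen_mem_and_subset (x := x) (U := f ⁻¹ᵁ U) hxU
  obtain ⟨r, rfl⟩ : x ∈ Set.range hV.fromSpec := hV.range_fromSpec.ge hxV
  let α := f.appLE U V hVU
  let : Algebra Γ(S, U) Γ(X, V) := α.hom.toAlgebra
  have : Algebra.Smooth Γ(S, U) Γ(X, V) :=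
    (HasRingHomProperty.appLE @Smooth f ‹_› ⟨U, hU⟩ ⟨V, hV⟩ hVU :)
  obtain ⟨T, g₀, het, t, ht⟩ := exists_section_spec (B := Γ(S, U)) r
  have e : Spec.map (CommRingCat.ofHom (algebraMap Γ(S, U) Γ(X, V))) ≫ hU.fromSpec =
      hV.fromSpec ≫ f := IsAffineOpen.SpecMap_appLE_fromSpec f hU hV hVU
  refine ⟨T, (g₀ ≫ Spec.map (CommRingCat.ofHom (algebraMap Γ(S, U) Γ(X, V)))) ≫ hU.fromSpec,
    t, ?_, ?_, g₀ ≫ hV.fromSpec, ?_⟩
  · infer_instance
  · rw [Scheme.Hom.comp_apply, ht, ← Scheme.Hom.comp_apply, e,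
      Scheme.Hom.comp_apply]
  · simp only [Category.assoc, e]

end Groth.Agent.S0412
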