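import Groth.Statements.S5008
import Groth.Agent.H06Unram.LocalLifting

set_option autoImplicit false
universe u
open CategoryTheory CategoryTheory.Limits AlgebraicGeometry TopologicalSpace
open Unram17

namespace Groth.Agent.S5008

set_option backward.isDefEq.respectTransparency false
set_option linter.style.haveILetI false

/-- Let f : X ⟶ Y be locally of finite presentation and x a point of X. Then f is smooth at x if and
only if for every surjection of local rings B' → B with square-zero kernel, every morphism Spec B ⟶
X sending the closed point to x and every morphism Spec B' ⟶ Y making the square commute, there is a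
lift Spec B' ⟶ X compatible with both. (No Noetherian hypothesis on Y.) -/
theorem result {X Y : Scheme.{u}} (f : X ⟶ Y)
    [LocallyOfFinitePresentation f] (x : ↥X) :
    x ∈ f.smoothLocus ↔ ∀ (B B' : Type u) [CommRing B] [CommRing B'] [IsLocalRing B] [IsLocalRing B'] (φ : B' →+* B),
      Function.Surjective φ → RingHom.ker φ ^ 2 = ⊥ →
      ∀ (α : Spec (CommRingCat.of B) ⟶ X) (β : Spec (CommRingCat.of B') ⟶ Y),
        α.base (IsLocalRing.closedPoint B) = x → Spec.map (CommRingCat.ofHom φ) ≫ β = α ≫ f →
        ∃ γ : Spec (CommRingCat.of B') ⟶ X, Spec.map (CommRingCat.ofHom φ) ≫ γ = α ∧ γ ≫ f = β := by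
  rw [← H17.LocusBC.formallySmooth_stalkMap_iff_mem]
  let R := Y.presheaf.stalk (f.base x)
  let A := X.presheaf.stalk x
  letI : Algebra R A := (f.stalkMap x).hom.toAlgebra
  haveI : IsLocalHom (algebraMap R A) := inferInstanceAs (IsLocalHom (f.stalkMap x).hom)
  haveI : Algebra.EssFiniteType R A := by
    rw [← RingHom.essFiniteType_algebraMap, RingHom.algebraMap_toAlgebra]
    exact LocallyOfFiniteType.stalkMap f x
  constructor
  · intro hs B B' _ _ _ _ φ hφ hker α β hα hc
    refine H06Unram.LocalLifting.exists_lift f x φ hφ (fun a b _ _ hab => ?_) α β hα hc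
    haveI : Algebra.FormallySmooth R A := RingHom.formallySmooth_algebraMap.mp hs
    letI : Algebra R B' := b.toAlgebra
    let I := RingHom.ker φ
    let e := RingHom.quotientKerEquivOfSurjective hφ
    let g : A →ₐ[R] B' ⧸ I :=
      { e.symm.toRingHom.comp a with
        commutes' := fun r => e.injective (by
          show e (e.symm (a (f.stalkMap x r))) = e (Ideal.Quotient.mk I (b r))
          rw [e.apply_symm_apply]
          exact (RingHom.congr_fun hab r).symm) }
    have hn : IsNilpotent I := ⟨2, hker⟩
    refine ⟨(Algebra.FormallySmooth.lift I hn g).toRingHom, RingHom.ext fun y => ?_,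
      (Algebra.FormallySmooth.lift I hn g).comp_algebraMap⟩
    have h1 := Algebra.FormallySmooth.mk_lift I hn g y
    show φ (Algebra.FormallySmooth.lift I hn g y) = a y
    have h2 := congrArg e h1
    rw [show e (g y) = a y from e.apply_symm_apply _] at h2
    exact h2
  · intro H
    refine RingHom.formallySmooth_algebraMap.mpr
      (H06Unram.LocalLifting.formallySmooth_of_local_lifts fun B' _ _ _ φ hloc hs hker => ?_)
    haveI := hloc
    obtain ⟨c, hc1, hc2⟩ := H06Unram.LocalLifting.exists_ringLift f x φ.toRingHom hs
      (fun α β hα hc => H A B' φ.toRingHom hs hker α β hα hc) (RingHom.id A) (algebraMap R B')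
      (φ.comp_algebraMap.trans (RingHom.id_comp _).symm)
    exact ⟨{ c with commutes' := fun r => RingHom.congr_fun hc2 r }, AlgHom.ext fun y => RingHom.congr_fun hc1 y⟩

end Groth.Agent.S5008
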