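import Groth.Statements.S5009
import Groth.Agent.H06Unram.LocalLifting

set_option autoImplicit false
universe u
open CategoryTheory CategoryTheory.Limits AlgebraicGeometry TopologicalSpace
open Unram17

namespace Groth.Agent.S5009

set_option backward.isDefEq.respectTransparency false
set_option linter.style.haveILetI false

/-- Let f : X ⟶ Y be locally of finite presentation and x a point of X. Then f is (formally) unramified
on an open neighbourhood of x if and only if for every surjection of local rings B' → B with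
square-zero kernel, every morphism Spec B ⟶ X sending the closed point to x and every morphism Spec
B' ⟶ Y making the square commute, any two lifts Spec B' ⟶ X compatible with both are equal. -/
theorem result {X Y : Scheme.{u}} (f : X ⟶ Y)
    [LocallyOfFinitePresentation f] (x : ↥X) :
    (∃ U : X.Opens, x ∈ U ∧ FormallyUnramified (U.ι ≫ f)) ↔
      ∀ (B B' : Type u) [CommRing B] [CommRing B'] [IsLocalRing B] [IsLocalRing B'] (φ : B' →+* B),
      Function.Surjective φ → RingHom.ker φ ^ 2 = ⊥ →
      ∀ (α : Spec (CommRingCat.of B) ⟶ X) (β : Spec (CommRingCat.of B') ⟶ Y),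
        α.base (IsLocalRing.closedPoint B) = x → Spec.map (CommRingCat.ofHom φ) ≫ β = α ≫ f →
        ∀ γ₁ γ₂ : Spec (CommRingCat.of B') ⟶ X,
          Spec.map (CommRingCat.ofHom φ) ≫ γ₁ = α → γ₁ ≫ f = β →
          Spec.map (CommRingCat.ofHom φ) ≫ γ₂ = α → γ₂ ≫ f = β → γ₁ = γ₂ := by
  let R := Y.presheaf.stalk (f.base x)
  let A := X.presheaf.stalk x
  letI : Algebra R A := (f.stalkMap x).hom.toAlgebra
  haveI : IsLocalHom (algebraMap R A) := inferInstanceAs (IsLocalHom (f.stalkMap x).hom)
  constructor
  · rintro ⟨U, hxU, _⟩ B B' _ _ _ _ φ hφ hker α β hα hc γ₁ γ₂ h11 h12 h21 h22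
    haveI : Algebra.FormallyUnramified R A :=
      RingHom.formallyUnramified_algebraMap.mp (H17.LocusBC.formallyUnramified_stalkMap_of_nhd f U hxU)
    haveI : IsLocalHom φ := IsLocalHom.of_surjective φ hφ
    haveI : IsLocalHom (CommRingCat.ofHom φ).hom := ‹IsLocalHom φ›
    have hγ : ∀ γ : Spec (CommRingCat.of B') ⟶ X, Spec.map (CommRingCat.ofHom φ) ≫ γ = α →
        γ (IsLocalRing.closedPoint B') = x := fun γ h => by
      have h3 := congr(($h) (IsLocalRing.closedPoint B))
      rw [hα, Scheme.Hom.comp_apply] at h3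
      exact (congrArg γ (Spec_closedPoint (f := CommRingCat.ofHom φ)).symm).trans h3
    obtain ⟨c₁, _, rfl⟩ := H06Unram.LocalLifting.exists_eq γ₁ (hγ _ h11)
    obtain ⟨c₂, _, rfl⟩ := H06Unram.LocalLifting.exists_eq γ₂ (hγ _ h21)
    haveI : IsLocalHom (CommRingCat.Hom.hom (f.stalkMap x)) := inferInstance
    haveI : IsLocalHom (f.stalkMap x ≫ c₁).hom := RingHom.isLocalHom_comp _ _
    haveI : IsLocalHom (f.stalkMap x ≫ c₂).hom := RingHom.isLocalHom_comp _ _
    haveI : IsLocalHom (c₁ ≫ CommRingCat.ofHom φ).hom := RingHom.isLocalHom_comp _ _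
    haveI : IsLocalHom (c₂ ≫ CommRingCat.ofHom φ).hom := RingHom.isLocalHom_comp _ _
    have e1 : f.stalkMap x ≫ c₁ = f.stalkMap x ≫ c₂ := by
      refine H06Unram.LocalLifting.inj _ _ ?_
      rw [Spec.map_comp, Category.assoc, Scheme.SpecMap_stalkMap_fromSpecStalk, ← Category.assoc, h12,
        Spec.map_comp, Category.assoc, Scheme.SpecMap_stalkMap_fromSpecStalk, ← Category.assoc, h22]
    have e2 : c₁ ≫ CommRingCat.ofHom φ = c₂ ≫ CommRingCat.ofHom φ := by
      refine H06Unram.LocalLifting.inj _ _ ?_
      rw [Spec.map_comp, Category.assoc, h11, Spec.map_comp, Category.assoc, h21]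
    letI : Algebra R B' := (f.stalkMap x ≫ c₁).hom.toAlgebra
    let g₁ : A →ₐ[R] B' := { c₁.hom with commutes' := fun r => rfl }
    let g₂ : A →ₐ[R] B' := { c₂.hom with commutes' := fun r => (ConcreteCategory.congr_hom e1 r).symm }
    have hg : g₁ = g₂ := Algebra.FormallyUnramified.ext (RingHom.ker φ) ⟨2, hker⟩ fun y => by
      rw [Ideal.Quotient.eq, RingHom.mem_ker, map_sub, sub_eq_zero]
      exact ConcreteCategory.congr_hom e2 y
    rw [show c₁ = c₂ from CommRingCat.hom_ext (congrArg AlgHom.toRingHom hg)]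
  · intro H
    refine H06EGA9.exists_nhd_of_mem_unramSet f (RingHom.formallyUnramified_algebraMap.mpr
      (H06Unram.LocalLifting.formallyUnramified_of_local_lifts fun B' _ _ _ φ hloc hs hker c₁ c₂ hc1 hc2 => ?_))
    haveI := hloc
    haveI : IsLocalHom φ.toRingHom := IsLocalHom.of_surjective φ.toRingHom hs
    haveI : IsLocalHom (CommRingCat.ofHom φ.toRingHom).hom := ‹IsLocalHom φ.toRingHom›
    have hlc : ∀ c : A →ₐ[R] B', φ.comp c = AlgHom.id R A → IsLocalHom (CommRingCat.ofHom c.toRingHom).hom :=
      fun c hc => ⟨fun a ha => by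
        have h := ha.map φ.toRingHom
        rwa [show φ.toRingHom ((CommRingCat.ofHom c.toRingHom).hom a) = a from DFunLike.congr_fun hc a] at h⟩
    haveI := hlc c₁ hc1
    haveI := hlc c₂ hc2
    haveI : IsLocalHom (CommRingCat.ofHom (algebraMap R B')).hom := hloc
    have key : ∀ c : A →ₐ[R] B', φ.comp c = AlgHom.id R A →
        Spec.map (CommRingCat.ofHom φ.toRingHom) ≫ Spec.map (CommRingCat.ofHom c.toRingHom) ≫ X.fromSpecStalk x =
          X.fromSpecStalk x ∧ (Spec.map (CommRingCat.ofHom c.toRingHom) ≫ X.fromSpecStalk x) ≫ f =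
            Spec.map (CommRingCat.ofHom (algebraMap R B')) ≫ Y.fromSpecStalk (f x) := by
      intro c hc
      constructor
      · rw [← Category.assoc, ← Spec.map_comp,
          show CommRingCat.ofHom c.toRingHom ≫ CommRingCat.ofHom φ.toRingHom = 𝟙 A from
            CommRingCat.hom_ext (RingHom.ext fun a => DFunLike.congr_fun hc a)]
        erw [Spec.map_id, Category.id_comp]
      · rw [Category.assoc, ← Scheme.SpecMap_stalkMap_fromSpecStalk, ← Category.assoc, ← Spec.map_comp,
          show f.stalkMap x ≫ CommRingCat.ofHom c.toRingHom = CommRingCat.ofHom (algebraMap R B') from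
            CommRingCat.hom_ext c.comp_algebraMap]
    have h := H A B' φ.toRingHom hs hker (X.fromSpecStalk x)
      (Spec.map (CommRingCat.ofHom (algebraMap R B')) ≫ Y.fromSpecStalk (f x))
      (Scheme.fromSpecStalk_closedPoint) (by
        rw [← Category.assoc, ← Spec.map_comp,
          show CommRingCat.ofHom (algebraMap R B') ≫ CommRingCat.ofHom φ.toRingHom = f.stalkMap x from
            CommRingCat.hom_ext φ.comp_algebraMap, Scheme.SpecMap_stalkMap_fromSpecStalk])
      _ _ (key c₁ hc1).1 (key c₁ hc1).2 (key c₂ hc2).1 (key c₂ hc2).2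
    exact AlgHom.coe_ringHom_injective congr(CommRingCat.Hom.hom $(H06Unram.LocalLifting.inj _ _ h))

end Groth.Agent.S5009
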