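import Groth.Statements.S7196
import Groth.Agent.H8Props.WeilRes.AF
import Groth.Agent.H7Flat.IndQuasiAffine
import Groth.Agent.H17.QAffGen

set_option autoImplicit false
universe u
open CategoryTheory AlgebraicGeometry
open FlatMor

namespace Groth.Agent.S7196

/-- For Z → S finite locally free and X → S separated, locally of finite type and with discrete fibres
(locally quasi-finite), the functor T ↦ {S-morphisms T ×_S Z → X} on S-schemes is represented by
some S-scheme. -/
theorem result {Z X S : Scheme.{u}} (g : Z ⟶ S) (f : X ⟶ S) (hg : Mor2.IsFinLocFree g)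
    [IsSeparated f] [LocallyQuasiFinite f] [LocallyOfFiniteType f] :
    (Flatn.morS g f).IsRepresentable := by
    classical
    obtain ⟨_, _, _⟩ := hg
    refine Groth.Agent.H8Props.WeilRes.isRepresentable_morS_of_AF g f fun s d x hx => ?_
    obtain ⟨V, hV, hsV, -⟩ := exists_isAffineOpen_mem_and_subset (x := s) (U := (⊤ : S.Opens))
      (TopologicalSpace.Opens.mem_top _)
    obtain ⟨U, hUc, hxU, hUV⟩ := Groth.Agent.H7Flat.exists_compactOpen_between
      (Set.finite_range x).isCompact (W := f ⁻¹ᵁ V) (by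
        rintro _ ⟨k, rfl⟩
        show f (x k) ∈ V
        rw [hx k]
        exact hsV)
    haveI := (Groth.Agent.H7Flat.indQA_iff f).1 (Groth.Agent.H7Flat.indQA_of_isSeparated f) V hV U hUc hUV
    obtain ⟨φ, hφ, -, hmem⟩ := Groth.Agent.H17.QAffGen.exists_basicOpen_finite
      (X := U.toScheme) (U := ⊤)
      (E := Finset.univ.image fun k => (⟨x k, hxU ⟨k, rfl⟩⟩ : U)) (fun _ _ => trivial)
    exact ⟨U.ι ''ᵁ U.toScheme.basicOpen φ, hφ.image_of_isOpenImmersion U.ι, fun k =>
      ⟨⟨x k, hxU ⟨k, rfl⟩⟩, hmem _ (Finset.mem_image_of_mem _ (Finset.mem_univ k)), rfl⟩⟩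

end Groth.Agent.S7196
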