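import Groth.Statements.S10192
import Groth.Agent.H13AlgSp.RedInduced

set_option autoImplicit false
universe u
open CategoryTheory CategoryTheory.Limits AlgebraicGeometry Topology TopologicalSpace
open AlgSp

namespace Groth.Agent.S10192

/-- For an algebraic space X over a scheme S and a closed subset T of |X| there is a reduced closed
subspace Z of X with |Z| = T, that is, an algebraic space Z with a morphism Z ⟶ X representable by
closed immersions whose image in |X| is T and such that Z is reduced. (Only existence is asserted;
uniqueness is not part of this row.) -/
theorem result {S : Scheme.{u}} (X : AlgSp.Space S) (T : Set (AlgSp.Points X.obj))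
    (hT : IsClosed T) :
    ∃ (Z : AlgSp.Space S) (i : Z ⟶ X), AlgSp.IsRedInduced T i.hom := by
  obtain ⟨Z, i, hZ, hi⟩ := Groth.Agent.H13AlgSp.exists_isRedInduced X.property hT
  exact ⟨⟨Z, hZ⟩, ObjectProperty.homMk i, hi⟩

end Groth.Agent.S10192
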