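import Groth.Statements.S16877
import Groth.Agent.H14Stk.Psh

set_option autoImplicit false
set_option backward.isDefEq.respectTransparency false
set_option backward.isDefEq.respectTransparency.types false
universe u
open CategoryTheory AlgebraicGeometry Opposite
open Gerb

namespace Groth.Agent.S16877

open Groth.Agent.H14Stk in
/-- The class map. -/
noncomputable def cls {S : Scheme.{u}} {𝒳 : AlgSt.Cat S} [FibCat.IsFibGrpd 𝒳.p] {P : (Over S)ᵒᵖ ⥤ Type (u + 1)}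
    (π : 𝒳 ⥤ᵇ Stk.ofPsh P) : Gerb.isoClPsh 𝒳 ⟶ P where
  app T := ↾Quot.lift (fun a => P.map (eqToHom a.2.symm).op (secAt π a.1))
    (fun a b ⟨φ⟩ => by
      have h : 𝒳.p.map φ.1 = eqToHom a.2 ≫ eqToHom b.2.symm := by
        have := @IsHomLift.fac' _ _ _ _ 𝒳.p _ _ _ _ (𝟙 T.unop) φ.1 φ.2
        simpa using this
      have n := secAt_natural π φ.1
      change P.map (eqToHom a.2.symm).op (secAt π a.1) = P.map (eqToHom b.2.symm).op (secAt π b.1)
      rw [← n, h, pmap_comp, ← Category.assoc, eqToHom_trans, eqToHom_refl, Category.id_comp])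
  naturality {T V} f := by
    ext a
    obtain ⟨a⟩ := a
    change P.map _ (secAt π (pull 𝒳 a.1 (f.unop ≫ eqToHom a.2.symm))) =
      P.map f (P.map (eqToHom a.2.symm).op (secAt π a.1))
    rw [← secAt_natural π (pullHom 𝒳 a.1 _), pullHom_map]
    exact (pmap_comp _ _ _).trans ((congrArg (fun k => P.map (Quiver.Hom.op k) (secAt π a.1)) (by simp)).trans
      (pmap_comp f.unop _ _).symm)

/-- If π : 𝒳 → X makes the algebraic stack 𝒳 a gerbe over the algebraic space X, then X is the fppf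
sheafification of the presheaf of isomorphism classes of objects of 𝒳: the map of presheaves sending
the class of an object x to the section π(x) of X is locally surjective and locally injective.
(Consequently the space over which a gerbe lives is determined by the gerbe.) -/
theorem result
    (S : Scheme.{u}) (𝒳 : AlgSt.Cat S) (h𝒳 : AlgSt.IsAlgStack Scheme.fppfPrecoverage 𝒳)
    [FibCat.IsFibGrpd 𝒳.p]
    (X : AlgSp.Space S) (π : 𝒳 ⥤ᵇ AlgSt.ofSp X.obj)
    (hπ : Gerb.IsGerbeOver (QuotSh.J Scheme.fppfPrecoverage S) π) :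
    ∃ c : Gerb.isoClPsh 𝒳 ⟶ X.obj.obj,
      (∀ x : 𝒳.obj, c.app (op (𝒳.p.obj x)) (Quot.mk _ (Gerb.fib x)) =
          X.obj.obj.map (eqToHom (π.w_obj x).symm).op (π.obj x).sec) ∧
      Presheaf.IsLocallySurjective (QuotSh.J Scheme.fppfPrecoverage S) c ∧
      Presheaf.IsLocallyInjective (QuotSh.J Scheme.fppfPrecoverage S) c := by
  refine ⟨cls π, fun x => ?_, ⟨fun {T} s => ?_⟩, ⟨fun {T} a b h => ?_⟩⟩
  · exact Groth.Agent.H14Stk.pmap_id _
  · obtain ⟨R, hR, hl⟩ := hπ.1 (⟨T, s⟩ : Stk.EltObj X.obj.obj)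
    refine GrothendieckTopology.superset_covering _ ?_ hR
    intro V f hf
    obtain ⟨x, g, hg⟩ := hl f hf
    have hb : (π.obj x).base = V := @IsHomLift.domain_eq _ _ _ _ (AlgSt.ofSp X.obj).p _ _ _ _ f g hg
    have hx : 𝒳.p.obj x = V := (Groth.Agent.H14Stk.baseEq π x).symm.trans hb
    refine ⟨Quot.mk _ ⟨x, hx⟩, ?_⟩
    change X.obj.obj.map (eqToHom hx.symm).op (Groth.Agent.H14Stk.secAt π x) = X.obj.obj.map f.op s
    have e : g.hom = eqToHom hb ≫ f := by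
      have := @IsHomLift.fac' _ _ _ _ (AlgSt.ofSp X.obj).p _ _ _ _ f g hg
      exact this.trans (by simp)
    rw [Groth.Agent.H14Stk.secAt, ← g.map_sec, e, Groth.Agent.H14Stk.pmap_comp, Groth.Agent.H14Stk.pmap_comp]
    congr 2
    simp
  · obtain ⟨T⟩ := T
    change Gerb.IsoCl 𝒳 T at a b
    rename' a => qa, b => qb
    obtain ⟨⟨a, ha⟩⟩ := qa
    obtain ⟨⟨a', ha'⟩⟩ := qb
    change X.obj.obj.map (eqToHom ha.symm).op (Groth.Agent.H14Stk.secAt π a) =
      X.obj.obj.map (eqToHom ha'.symm).op (Groth.Agent.H14Stk.secAt π a') at h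
    have ha0 : 𝒳.p.obj a = T := ha
    subst ha0
    have hbase : (π.obj a).base = (π.obj a').base :=
      (Groth.Agent.H14Stk.baseEq π a).trans (ha'.symm.trans (Groth.Agent.H14Stk.baseEq π a').symm)
    let e : π.obj a ≅ π.obj a' := Groth.Agent.H14Stk.eltIso hbase (by
      rw [Groth.Agent.H14Stk.sec_eq π a, Groth.Agent.H14Stk.sec_eq π a']
      simp only [eqToHom_refl, op_id, FunctorToTypes.map_id_apply] at h
      rw [h, Groth.Agent.H14Stk.pmap_comp, Groth.Agent.H14Stk.pmap_comp, eqToHom_trans, eqToHom_trans])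
    obtain ⟨R, hR, hl⟩ := hπ.2 a a' e.hom
      (Groth.Agent.H14Stk.homLift_eltIso _ _ (Groth.Agent.H14Stk.baseEq π a))
    refine GrothendieckTopology.superset_covering _ ?_ hR
    intro V f hf
    obtain ⟨x₀, φ, ψ, hφ, hψ, hc⟩ := hl f hf
    have e1 : f = f ≫ eqToHom (rfl : 𝒳.p.obj a = 𝒳.p.obj a).symm := by simp
    have hφ' : 𝒳.p.IsHomLift (f ≫ eqToHom (rfl : 𝒳.p.obj a = 𝒳.p.obj a).symm) φ := e1 ▸ hφ
    have hψ' : 𝒳.p.IsHomLift (f ≫ eqToHom ha'.symm) ψ := by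
      refine IsHomLift.of_fac' 𝒳.p _ _ (@IsHomLift.domain_eq _ _ _ _ 𝒳.p _ _ _ _ f ψ hψ) rfl ?_
      have := @IsHomLift.fac' _ _ _ _ 𝒳.p _ _ _ _ f ψ hψ
      rw [this]; simp
    obtain ⟨χ, hχ, -⟩ := exists_hom_pull 𝒳 a _ φ hφ'
    obtain ⟨χ', hχ', -⟩ := exists_hom_pull 𝒳 a' _ ψ hψ'
    let x₁ : 𝒳.p.Fiber V := ⟨x₀, @IsHomLift.domain_eq _ _ _ _ 𝒳.p _ _ _ _ f φ hφ⟩
    exact (Quot.sound (r := IsoRel 𝒳 V) (a := x₁) ⟨⟨χ, hχ⟩⟩).symm.trans
      (Quot.sound (r := IsoRel 𝒳 V) (a := x₁) ⟨⟨χ', hχ'⟩⟩)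

end Groth.Agent.S16877
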