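import Groth.Statements.S18813
import Groth.Agent.H20Comod.Diag

set_option autoImplicit false
universe u
open scoped TensorProduct
open HopfRep

namespace Groth.Agent.S18813

/-- Let k be a field, K a field extension of k and A a commutative Hopf algebra over k, the coordinate
ring of an affine group scheme G (no finiteness assumed). Then G is linearly reductive (every
finite-dimensional A-comodule is semisimple) if and only if the base change G_K is (every
finite-dimensional comodule over the K-Hopf algebra K ⊗_k A is semisimple). (The source phrases both
sides as semisimplicity of all representations, which over a field is equivalent to semisimplicity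
of the finite-dimensional ones since every comodule is the union of its finite-dimensional
subcomodules.) -/
theorem result (k K A : Type u) [Field k] [Field K]
    [Algebra k K] [CommRing A] [HopfAlgebra k A] :
    HopfRep.IsLinearlyReductive k A ↔ HopfRep.IsLinearlyReductive K (K ⊗[k] A) := by
  rw [H20Comod.isLinearlyReductive_iff_exists_isIntegral, H20Comod.isLinearlyReductive_iff_exists_isIntegral]
  constructor
  · rintro ⟨α, hα, h1⟩
    let α' : K ⊗[k] A →ₗ[K] K := (TensorProduct.AlgebraTensorModule.rid k K K).toLinearMap ∘ₗ α.baseChange K
    have hv : ∀ (c : K) (a : A), α' (c ⊗ₜ[k] a) = α a • c := fun c a => by simp [α']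
    refine ⟨α', fun x => ?_, by rw [Algebra.TensorProduct.one_def, hv, h1, one_smul]⟩
    induction x using TensorProduct.induction_on with
    | zero => simp
    | add u v hu hv => simp only [map_add, add_smul, hu, hv]
    | tmul c a =>
      rw [show c ⊗ₜ[k] a = c • ((1 : K) ⊗ₜ[k] a) by rw [TensorProduct.smul_tmul', smul_eq_mul, mul_one],
        map_smul, map_smul, map_smul, smul_assoc]
      congr 1
      rw [H20Comod.comul_one_tmul, hv]
      have h2 := congrArg (fun y => (1 : K) ⊗ₜ[k] y) (hα a)
      rw [show (α a • (1 : K)) • (1 : K ⊗[k] A) = (1 : K) ⊗ₜ[k] (α a • (1 : A)) by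
        rw [smul_assoc, one_smul, TensorProduct.tmul_smul, Algebra.TensorProduct.one_def], ← h2]
      generalize CoalgebraStruct.comul (R := k) a = z
      induction z using TensorProduct.induction_on with
      | zero => simp
      | tmul p q => simp [hv, smul_assoc]
      | add u v hu hv => simp only [map_add, TensorProduct.tmul_add, hu, hv]
  · rintro ⟨α', hα', h1⟩
    obtain ⟨π, hπ⟩ := LinearMap.exists_leftInverse_of_injective (LinearMap.toSpanSingleton k K 1)
      (LinearMap.ker_eq_bot.2 fun x y hxy => (algebraMap k K).injective (by
        simpa [Algebra.algebraMap_eq_smul_one] using hxy))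
    have hπ1 : π 1 = 1 := by simpa using LinearMap.congr_fun hπ 1
    let P : K ⊗[k] A →ₗ[k] A := (TensorProduct.lid k A).toLinearMap ∘ₗ π.rTensor A
    have hP : ∀ (c : K) (a : A), P (c ⊗ₜ[k] a) = π c • a := fun c a => by simp [P]
    refine ⟨π ∘ₗ α'.restrictScalars k ∘ₗ TensorProduct.mk k K A 1, fun a => ?_, ?_⟩
    · have h2 := congrArg P (hα' ((1 : K) ⊗ₜ[k] a))
      rw [H20Comod.comul_one_tmul, Algebra.TensorProduct.one_def, TensorProduct.smul_tmul', smul_eq_mul, mul_one, hP] at h2
      refine Eq.trans ?_ h2
      generalize CoalgebraStruct.comul (R := k) a = z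
      induction z using TensorProduct.induction_on with
      | zero => simp
      | tmul p q => simp [TensorProduct.smul_tmul', hP]
      | add u v hu hv => simp only [map_add, hu, hv]
    · show π (α' ((1 : K) ⊗ₜ[k] (1 : A))) = 1
      rw [← Algebra.TensorProduct.one_def, h1, hπ1]

end Groth.Agent.S18813
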