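import Groth.Statements.S12903
import Groth.Agent.LeadDev.Generic
import Groth.Agent.H29Blow.QCohExt
import Groth.Agent.H29Blow.QCohLoc
import Groth.Agent.H06Mod.StalkPullback
-- import your own Groth.Agent.* helpers here

set_option autoImplicit false
set_option linter.style.haveILetI false
set_option backward.isDefEq.respectTransparency false
universe u
open CategoryTheory CategoryTheory.Limits AlgebraicGeometry Opposite
open Coherent

namespace Groth.Agent.S12903

open CategoryTheory CategoryTheory.Limits AlgebraicGeometry TopologicalSpace Opposite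

theorem mem_range_iff {U X : Scheme.{u}} (j : U ⟶ X) [IsOpenImmersion j] (F : X.Modules) (V : X.Opens)
    (s : Γ(F, V)) :
    s ∈ Set.range (((CxOX.gammaZι j).app F).app V) ↔
      F.presheaf.map (homOfLE (j.image_preimage_le V)).op s = 0 := by
  constructor
  · rintro ⟨t, rfl⟩
    exact congr($(congr(Scheme.Modules.Hom.app
      $(kernel.condition ((Scheme.Modules.restrictAdjunction j).unit.app F)) V)) t)
  · intro h
    exact LeadDev.exists_kernel_section ((Scheme.Modules.restrictAdjunction j).unit.app F) V s h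

theorem main {U X : Scheme.{u}} (j : U ⟶ X) [IsOpenImmersion j] (F : X.Modules) (hF : Coh.IsQCoh F)
    (V : X.Opens) (hV : IsAffineOpen V) (I : Ideal Γ(X, V)) (hI : I.FG)
    (hZ : ∀ x : X, x ∈ V → (x ∉ Set.range j.base ↔ ∀ f ∈ I, x ∉ X.basicOpen f)) (s : Γ(F, V)) :
    F.presheaf.map (homOfLE (j.image_preimage_le V)).op s = 0 ↔ ∃ n : ℕ, ∀ a ∈ I ^ n, a • s = 0 := by
  constructor
  · intro h
    suffices hrad : I ≤ Ideal.radical (LinearMap.ker (LinearMap.toSpanSingleton Γ(X, V) _ s)) by
      obtain ⟨n, hn⟩ := Ideal.exists_pow_le_of_le_radical_of_fg hrad hI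
      exact ⟨n, fun a ha => hn ha⟩
    intro f hf
    have hle : X.basicOpen f ≤ j ''ᵁ (j ⁻¹ᵁ V) := fun x hx => by
      have hxV : x ∈ V := X.basicOpen_le f hx
      obtain ⟨y, rfl⟩ : x ∈ Set.range j.base := by
        by_contra hc
        exact (hZ x hxV).1 hc f hf hx
      exact ⟨y, hxV, rfl⟩
    have h0 : F.presheaf.map (homOfLE (X.basicOpen_le f)).op s = 0 := by
      have e : (homOfLE (X.basicOpen_le f)).op =
          (homOfLE (j.image_preimage_le V)).op ≫ (homOfLE hle).op := rfl
      rw [e, F.presheaf.map_comp, ConcreteCategory.comp_apply]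
      erw [h, map_zero]
    obtain ⟨k, hk⟩ := H29Blow.exists_pow_smul_eq_zero F hF hV f s h0
    exact ⟨k, hk⟩
  · rintro ⟨n, hn⟩
    refine TopCat.Presheaf.section_ext (H10Coh.sheafOf F) _ _ _ fun x hx => ?_
    change F.presheaf.germ _ x hx (F.presheaf.map _ s) = F.presheaf.germ _ x hx 0
    rw [TopCat.Presheaf.germ_res_apply, map_zero]
    have hxV : x ∈ V := j.image_preimage_le V hx
    have hxR : x ∈ Set.range j.base := by
      obtain ⟨y, -, rfl⟩ := hx
      exact ⟨y, rfl⟩
    have hnot : ¬ ∀ f ∈ I, x ∉ X.basicOpen f := fun h => (hZ x hxV).2 h hxR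
    push Not at hnot
    obtain ⟨f, hf, hxf⟩ := hnot
    have h0 : X.presheaf.germ V x hxV (f ^ n) • F.presheaf.germ V x hxV s = 0 := by
      rw [← H06Mod.germ_smul, hn _ (Ideal.pow_mem_pow hf n), map_zero]
    have hu : IsUnit (X.presheaf.germ V x hxV (f ^ n)) := by
      rw [map_pow]; exact ((X.mem_basicOpen f x hxV).1 hxf).pow n
    exact hu.smul_eq_zero.1 h0



/-- Let X be a scheme, j : U → X a quasi-compact open immersion with closed complement Z, F a
quasi-coherent O_X-module, V an affine open of X and I a finitely generated ideal of Γ(V, O_X)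
cutting out Z ∩ V (a point of V lies outside U if and only if it lies in no basic open X_f with f ∈
I). Then a section s of F over V belongs to the subsheaf Γ_Z(F) of sections supported in Z (the
kernel of F → j_*(F|_U)) if and only if I^n s = 0 for some n. -/
theorem result {U X : Scheme.{u}} (j : U ⟶ X) [IsOpenImmersion j] [QuasiCompact j]
    (F : X.Modules) (hF : Coh.IsQCoh F) (V : X.Opens) (hV : IsAffineOpen V)
    (I : Ideal (X.ringCatSheaf.obj.obj (op V))) (hI : I.FG)
    (hZ : ∀ x : X, x ∈ V → (x ∉ Set.range j.base ↔ ∀ f ∈ I, x ∉ X.basicOpen (f : Γ(X, V))))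
    (s : F.val.obj (op V)) :
    s ∈ Set.range ((((CxOX.gammaZι j).app F).val.app (op V)).hom) ↔ ∃ n : ℕ, ∀ a ∈ I ^ n, a • s = 0 := by
  exact (mem_range_iff j F V s).trans (main j F hF V hV I hI hZ s)


end Groth.Agent.S12903
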