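import Groth.Statements.S10120
import Groth.Agent.H12AlgSp.GroupField.Main

set_option autoImplicit false
set_option backward.isDefEq.respectTransparency.types false
universe u
open CategoryTheory CategoryTheory.Limits AlgebraicGeometry MonoidalCategory MonObj
open AlgSp

namespace Groth.Agent.S10120

/-- A group algebraic space over a field `k` that is separated over `k` is a scheme. -/
theorem result (k : Type u) [Field k]
    (G : Over ((AlgSp.yon (Spec (CommRingCat.of k))).obj (Over.mk (𝟙 _)))) [GrpObj G]
    (hG : AlgSp.IsAlgSpace G.left) (hsep : AlgSp.IsSeparatedSp G.left) :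
    G.left.obj.IsRepresentable := by
  obtain ⟨U, a, ha, has⟩ := hG.atlas
  choose M j hj hxj using fun u : ↥U.left =>
    Groth.Agent.H12AlgSp.GroupField.exists_openImmersion_nhd_group G hG hsep (AlgSp.Points.ofPt a u)
  obtain ⟨W, e, he⟩ := Groth.Agent.H12AlgSp.exists_iso_of_openCover M j hj fun T y t => by
    obtain ⟨u, hu⟩ := Groth.Agent.H12AlgSp.surjective_ofPt_of_repWith le_rfl has (AlgSp.Points.ofPt y t)
    exact ⟨u, hu ▸ hxj u⟩
  exact Groth.Agent.H12AlgSp.isRepresentable_iff_exists_iso.2 ⟨W, ⟨asIso e⟩⟩

end Groth.Agent.S10120
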