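import Groth.Statements.S15492
import Groth.Agent.H14AlgSt.Substack

set_option autoImplicit false
set_option backward.isDefEq.respectTransparency false
set_option backward.isDefEq.respectTransparency.types false
universe u
open CategoryTheory AlgebraicGeometry
open IsoNat

namespace Groth.Agent.S15492

open CategoryTheory AlgebraicGeometry
open Groth.Agent.H14Fib Groth.Agent.H14Stk Groth.Agent.H14AlgSt

section
variable {S : Scheme.{u}} {𝒴 : AlgSt.Cat S}
  (W : ∀ T : Over S, Set (IsoNat.IsoCl 𝒴 T))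

/-- The class of an object is in the family. -/
abbrev InW (η : 𝒴.obj) : Prop :=
  IsoNat.cls (⟨η, rfl⟩ : 𝒴.p.Fiber (𝒴.p.obj η)) ∈ W (𝒴.p.obj η)

variable (hWpull : ∀ (T' T : Over S) (g : T' ⟶ T) (x' : 𝒴.p.Fiber T') (x : 𝒴.p.Fiber T)
    (a : x'.1 ⟶ x.1), 𝒴.p.IsHomLift g a → IsoNat.cls x ∈ W T → IsoNat.cls x' ∈ W T')
  (hWopen : ∀ (T : Over S) (x : 𝒴.p.Fiber T), ∃ V : T.left.Opens,
      ∀ (T' : Over S) (g : T' ⟶ T) (x' : 𝒴.p.Fiber T') (a : x'.1 ⟶ x.1), 𝒴.p.IsHomLift g a →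
        (IsoNat.cls x' ∈ W T' ↔ ∃ g' : T'.left ⟶ ↑V, g' ≫ V.ι = g.left))

include hWpull in
lemma inW_of_hom {a b : 𝒴.obj} (φ : b ⟶ a) (h : InW W a) : InW W b :=
  hWpull _ _ (𝒴.p.map φ) _ _ φ (IsHomLift.map 𝒴.p φ) h

include hWopen in
lemma exists_open (a : 𝒴.obj) : ∃ V : (𝒴.p.obj a).left.Opens, ∀ (b : 𝒴.obj) (φ : b ⟶ a),
    InW W b ↔ ∀ t, (𝒴.p.map φ).left t ∈ V := by
  obtain ⟨V, hV⟩ := hWopen _ (⟨a, rfl⟩ : 𝒴.p.Fiber (𝒴.p.obj a))
  refine ⟨V, fun b φ => (hV _ (𝒴.p.map φ) ⟨b, rfl⟩ φ (IsHomLift.map 𝒴.p φ)).trans ⟨?_, fun h => ?_⟩⟩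
  · rintro ⟨g', hg⟩ t
    rw [← hg, Scheme.Hom.comp_apply]
    exact (g' t).2
  · refine ⟨IsOpenImmersion.lift V.ι (𝒴.p.map φ).left ?_, IsOpenImmersion.lift_fac _ _ _⟩
    rintro _ ⟨t, rfl⟩
    rw [Scheme.Opens.range_ι]
    exact h t

include hWopen in
lemma inW_iff_forall (a : 𝒴.obj) (V : (𝒴.p.obj a).left.Opens)
    (hV : ∀ (b : 𝒴.obj) (φ : b ⟶ a), InW W b ↔ ∀ t, (𝒴.p.map φ).left t ∈ V) :
    InW W a ↔ ∀ t, t ∈ V := by
  rw [hV a (𝟙 a), 𝒴.p.map_id]
  rfl

include hWpull hWopen in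
lemma inW_iff_of_hom {r p : AlgSt.FPt 𝒴} (φ : r.obj ⟶ p.obj) : InW W r.obj ↔ InW W p.obj := by
  refine ⟨fun h => ?_, inW_of_hom W hWpull φ⟩
  obtain ⟨V, hV⟩ := exists_open W hWopen p.obj
  have hp : 𝒴.p.obj p.obj = Over.mk p.str := p.lies
  have hr : 𝒴.p.obj r.obj = Over.mk r.str := r.lies
  let t : (𝒴.p.obj r.obj).left := (eqToHom hr.symm).left (IsLocalRing.closedPoint r.K)
  have ht := (hV _ φ).1 h t
  refine (inW_iff_forall W hWopen p.obj V hV).2 fun s => ?_
  have hsub : Subsingleton (𝒴.p.obj p.obj).left := by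
    rw [hp]
    exact inferInstanceAs (Subsingleton (PrimeSpectrum p.K))
  rwa [Subsingleton.elim s ((𝒴.p.map φ).left t)]

/-- The points whose representatives are in the family. -/
noncomputable def ptSet : Set (AlgSt.Points 𝒴) :=
  Quot.lift (fun p => InW W p.obj) fun _ _ ⟨_, a, b, _⟩ => propext
    ((inW_iff_of_hom W hWpull hWopen a).symm.trans (inW_iff_of_hom W hWpull hWopen b))

include hWpull hWopen in
lemma inW_eq_ptPred (h𝒴 : FibCat.IsFibGrpd 𝒴.p) :
    InW W = ptPred (ptSet W hWpull hWopen) := by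
  funext a
  apply propext
  refine ⟨fun h r ⟨φ⟩ => inW_of_hom W hWpull φ h, fun h => ?_⟩
  obtain ⟨V, hV⟩ := exists_open W hWopen a
  refine (inW_iff_forall W hWopen a V hV).2 fun t => ?_
  let g : Over.mk ((𝒴.p.obj a).left.fromSpecResidueField t ≫ (𝒴.p.obj a).hom) ⟶ 𝒴.p.obj a :=
    Over.homMk ((𝒴.p.obj a).left.fromSpecResidueField t) rfl
  obtain ⟨b, φ, hφ⟩ := h𝒴.exists_lift (x := a) g
  let r : AlgSt.FPt 𝒴 :=
    { K := (𝒴.p.obj a).left.residueField t
      str := (𝒴.p.obj a).left.fromSpecResidueField t ≫ (𝒴.p.obj a).hom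
      obj := b, lies := IsHomLift.domain_eq 𝒴.p g φ }
  have hb := (hV b φ).1 (h r ⟨φ⟩)
  have e : (eqToHom (IsHomLift.domain_eq 𝒴.p g φ).symm) ≫ 𝒴.p.map φ = g := by
    rw [IsHomLift.fac' 𝒴.p g φ]; simp
  have h1 := congrArg (fun f => f.left (IsLocalRing.closedPoint
    ((𝒴.p.obj a).left.residueField t))) e
  have h2 : g.left (IsLocalRing.closedPoint ((𝒴.p.obj a).left.residueField t)) = t :=
    (𝒴.p.obj a).left.fromSpecResidueField_apply t _
  rw [← h2, ← h1]
  exact hb _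

include hWpull hWopen in
lemma isOpen_ptSet : IsOpen (ptSet W hWpull hWopen) := by
  rw [AlgSt.Points.isOpen_iff]
  intro U x _
  obtain ⟨V, hV⟩ := exists_open W hWopen (x.obj (topObj U))
  let e : (𝒴.p.obj (x.obj (topObj U))) ⟶ U := eqToHom (x.w_obj _)
  let V' : U.left.Opens := (eqToHom (x.w_obj (topObj U)).symm : U ⟶ _).left ⁻¹ᵁ V
  convert V'.isOpen using 1
  ext t
  let s : (FibCat.overCat U).obj :=
    Over.mk (Over.homMk (U.left.fromSpecResidueField t) rfl :
      Over.mk (U.left.fromSpecResidueField t ≫ U.hom) ⟶ U)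
  change InW W (x.obj s) ↔ (eqToHom (x.w_obj (topObj U)).symm : U ⟶ _).left t ∈ V
  rw [hV _ (x.map (toTop s))]
  have e₁ : 𝒴.p.map (x.map (toTop s)) = eqToHom (x.w_obj s) ≫ s.hom ≫
      eqToHom (x.w_obj (topObj U)).symm := Functor.congr_hom x.w (toTop s)
  rw [e₁]
  have e₂ : ∀ z, s.hom.left z = t := fun z => U.left.fromSpecResidueField_apply t z
  simp only [Over.comp_left, Scheme.Hom.comp_apply]
  have key : ∀ z, (eqToHom (x.w_obj (topObj U)).symm : U ⟶ _).left (s.hom.left z) =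
      (eqToHom (x.w_obj (topObj U)).symm : U ⟶ _).left t := fun z => congrArg _ (e₂ z)
  refine ⟨fun h => ?_, fun h z => ?_⟩
  · have := h ((eqToHom (x.w_obj s).symm).left (IsLocalRing.closedPoint (U.left.residueField t)))
    exact (congrArg (· ∈ V) (key _)).mp this
  · exact (congrArg (· ∈ V) (key _)).mpr h

end

/-- Open subfunctors of the presheaf of isomorphism classes come from open substacks. Let 𝒴 be an
algebraic stack over a quasi-separated scheme S and W a subfunctor of its presheaf of isomorphism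
classes — a set W(T) of isomorphism classes over each T, stable under pullback — which is open: for
every object x over T there is an open subscheme V of T such that a pullback of x along g : T' → T
has class in W(T') exactly when g factors through V. Then the strictly full subcategory of 𝒴 on the
objects whose class lies in W is an open substack (the converse direction, that an open substack
gives an open subfunctor, is immediate from the definitions, and the two constructions are mutually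
inverse). Here an algebraic stack over a quasi-separated scheme S means a stack in groupoids for the
fppf topology with a smooth surjective atlas from a scheme, whose diagonal is representable by
separated quasi-compact morphisms of algebraic spaces and whose inertia is locally of finite
presentation over it. (The published statement is for an arbitrary stack; this row takes 𝒴
algebraic.) -/
theorem result
    (S : Scheme.{u}) [QuasiSeparatedSpace S]
    (𝒴 : AlgSt.Cat S)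
    (h𝒴 : AlgSt.IsAlgStack Scheme.fppfPrecoverage 𝒴)
    (h𝒴d : AlgSt.RepByAlgSpWith (AlgSp.IsSeparatedMor ⊓ AlgSp.IsQuasiCompactMor)
      (FibCat.diag (FibCat.toSelf 𝒴)))
    (h𝒴i : AlgSt.RepByAlgSpWith (AlgSp.LocP @LocallyOfFinitePresentation)
      (FibCat.inertiaToBase (FibCat.toSelf 𝒴)))
    (W : ∀ T : Over S, Set (IsoNat.IsoCl 𝒴 T))
    (hWpull : ∀ (T' T : Over S) (g : T' ⟶ T) (x' : 𝒴.p.Fiber T') (x : 𝒴.p.Fiber T) (a : x'.1 ⟶ x.1),
      𝒴.p.IsHomLift g a → IsoNat.cls x ∈ W T → IsoNat.cls x' ∈ W T')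
    (hWopen : ∀ (T : Over S) (x : 𝒴.p.Fiber T), ∃ V : T.left.Opens,
      ∀ (T' : Over S) (g : T' ⟶ T) (x' : 𝒴.p.Fiber T') (a : x'.1 ⟶ x.1), 𝒴.p.IsHomLift g a →
        (IsoNat.cls x' ∈ W T' ↔ ∃ g' : T'.left ⟶ ↑V, g' ≫ V.ι = g.left)) :
    AlgSt.IsOpenSubstack 𝒴 (fun η => IsoNat.cls (⟨η, rfl⟩ : 𝒴.p.Fiber (𝒴.p.obj η)) ∈ W (𝒴.p.obj η))
      Scheme.fppfPrecoverage := by
  have := isOpenSubstack_ptPred h𝒴 (isOpen_ptSet W hWpull hWopen)
  rw [← inW_eq_ptPred W hWpull hWopen h𝒴.isStack.1] at this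
  exact this

end Groth.Agent.S15492
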