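import Groth.Statements.S12998
import Groth.Agent.H14AlgSt.LocQ4

set_option autoImplicit false
set_option backward.isDefEq.respectTransparency false
set_option backward.isDefEq.respectTransparency.types false
universe u
open CategoryTheory AlgebraicGeometry
open AlgSt

namespace Groth.Agent.S12998

/-- For a morphism of algebraic stacks f : 𝒳 → 𝒴 that is locally of finite type, local Noetherianity of
𝒴 implies local Noetherianity of 𝒳 (locally Noetherian: every scheme smooth over the stack is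
locally Noetherian). -/
theorem result
    (S : Scheme.{u}) (𝒳 : AlgSt.Cat S) (𝒴 : AlgSt.Cat S)
    (h𝒳 : AlgSt.IsAlgStack Scheme.fppfPrecoverage 𝒳)
    (h𝒴 : AlgSt.IsAlgStack Scheme.fppfPrecoverage 𝒴)
    (f : 𝒳 ⥤ᵇ 𝒴) :
    AlgSt.LocQ (AlgSp.LocP @LocallyOfFiniteType) f → AlgSt.SmoothLocally (fun T ↦ IsLocallyNoetherian T) 𝒴 → AlgSt.SmoothLocally (fun T ↦ IsLocallyNoetherian T) 𝒳 := by
  open Groth.Agent.H14AlgSt in
  intro hf hY U x' hx'
  obtain ⟨V, y, hy, hys⟩ := h𝒴.atlas
  obtain ⟨A, a, h, ha, has, ⟨jh⟩⟩ := exists_atlas_fp h𝒳 h𝒴 f y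
  have : LocallyOfFiniteType h.left := (locP_yon_iff Groth.Agent.H12AlgSp.etLocal_lft h).1
    (prop_of_locQ smLocal_lft hf hy a ha jh)
  have : IsLocallyNoetherian V.left := hY V y hy
  have : IsLocallyNoetherian A.left := LocallyOfFiniteType.isLocallyNoetherian h.left
  obtain ⟨B, c, d, hc, hd, hcs⟩ := exists_common_chart h𝒳.isStack.1
    (chart_of_atlas_fp h𝒳.isStack.1 h𝒴.isStack.1 hy ha)
    (chartSurj_of_atlas_fp h𝒳.isStack.1 h𝒴.isStack.1 hys has) hx'
  have : LocallyOfFinitePresentation d.left := smooth_le_lfp _ _ _ hd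
  have : IsLocallyNoetherian B.left := LocallyOfFiniteType.isLocallyNoetherian d.left
  have : Flat c.left := smooth_le_flat _ _ _ hc
  have : LocallyOfFinitePresentation c.left := smooth_le_lfp _ _ _ hc
  have := hcs
  exact Groth.Agent.H13AlgSp.isLocallyNoetherian_of_flat_lfp_surjective c.left

end Groth.Agent.S12998
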