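import Groth.Statements.S16704
import Groth.Agent.H14FinQuot.LocalCat

set_option autoImplicit false
set_option backward.isDefEq.respectTransparency false
set_option backward.isDefEq.respectTransparency.types false
universe u
open AlgSt

namespace Groth.Agent.S16704

section
open CategoryTheory AlgebraicGeometry Opposite
open AlgSp (yon J Sp RepWith IsAlgSpace)
open H14LocalCat

variable {S : Scheme.{u}} {Y : Sp S} {𝒳 : AlgSt.Cat S} (f : 𝒳 ⥤ᵇ AlgSt.ofSp Y)

lemma obj_eq_mk {Q : Sp S} (φ : 𝒳 ⥤ᵇ AlgSt.ofSp Q) (x : 𝒳.obj) :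
    φ.obj x = (⟨𝒳.p.obj x, (J S).uliftYonedaEquiv (secMor φ x)⟩ : Stk.EltObj Q.obj) := by
  refine (H14Quot.elt_eq_mk (φ.obj x) (φ.w_obj x)).trans ?_
  congr 2
  apply (J S).uliftYonedaEquiv.injective
  rw [secMor, Equiv.apply_symm_apply, H14Quot.secYon, ← H14Quot.equiv_map, Equiv.apply_symm_apply]
  rfl

lemma mk_eq {Q : Sp S} {W : Over S} {a b : (yon S).obj W ⟶ Q} (h : a = b) :
    (⟨W, (J S).uliftYonedaEquiv a⟩ : Stk.EltObj Q.obj) = ⟨W, (J S).uliftYonedaEquiv b⟩ := by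
  rw [h]

/-- The projection on the second factor and the section. -/
lemma secMor_fpSnd {Q : Sp S} (g : Q ⟶ Y) (v : (FibCat.fp (AlgSt.ofSpMap g) f).obj) :
    secMor (BasedFunctor.comp (FibCat.fpSnd (AlgSt.ofSpMap g) f) f) v =
      secMor (FibCat.fpFst (AlgSt.ofSpMap g) f) v ≫ g :=
  ((secMor_eq_of_iso (FibCat.fpIso (AlgSt.ofSpMap g) f) v).symm.trans
    (secMor_ofSpMap _ g v))

variable (hp : FibCat.IsFibGrpd 𝒳.p) {Y' : Over S}

include hp in
/-- Lifting objects to a chart of the target. -/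
lemma exists_lift_obj (g' : (yon S).obj Y' ⟶ Y) (x : 𝒳.obj) (W : Over S) (t : W ⟶ 𝒳.p.obj x)
    (l : W ⟶ Y') (e : (yon S).map l ≫ g' = (yon S).map t ≫ secMor f x) :
    ∃ (x' : 𝒳.obj) (χ : x' ⟶ x) (hx : 𝒳.p.obj x' = W)
      (he : (AlgSt.ofSpMap g').obj (⟨W, ULift.up l⟩ : Stk.EltObj ((yon S).obj Y').obj) = f.obj x'),
      𝒳.p.map χ = eqToHom hx ≫ t := by
  have := H14Fib.isFibered_of_fibGrpd hp
  obtain ⟨x', χ, hχ⟩ := H14Fib.isFibered_exists_sc 𝒳.p (rfl : 𝒳.p.obj x = 𝒳.p.obj x) t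
  have hx : 𝒳.p.obj x' = W := IsHomLift.domain_eq 𝒳.p t χ
  subst hx
  obtain rfl : t = 𝒳.p.map χ := IsHomLift.eq_of_isHomLift 𝒳.p t χ
  refine ⟨x', χ, rfl, ?_, (Category.id_comp _).symm⟩
  refine Eq.trans ?_ (obj_eq_mk f x').symm
  refine Eq.trans ?_ (mk_eq (e.trans (secMor_natural f χ)))
  change (⟨_, g'.hom.app _ (ULift.up l)⟩ : Stk.EltObj Y.obj) = _
  rw [GrothendieckTopology.uliftYonedaEquiv_comp,
    GrothendieckTopology.uliftYonedaEquiv_uliftYoneda_map]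

/-- The object of a fibre product made of an equality. -/
noncomputable def fpEq {Q : Sp S} (g : Q ⟶ Y) (a : Stk.EltObj Q.obj) (x : 𝒳.obj)
    (hx : 𝒳.p.obj x = a.base) (he : (AlgSt.ofSpMap g).obj a = f.obj x) :
    (FibCat.fp (AlgSt.ofSpMap g) f).obj :=
  ⟨{ fst := a, snd := x, iso := eqToIso he }, by
    refine IsHomLift.of_fac' _ _ _ rfl ((f.w_obj x).trans hx) ?_
    change (eqToHom he).hom = _
    have : ∀ {p q : Stk.EltObj Y.obj} (h : p = q), (eqToHom h).hom = eqToHom (congrArg _ h) := by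
      rintro p q rfl; rfl
    rw [this]
    simp⟩

lemma secMor_fpEq {Q : Sp S} (g : Q ⟶ Y) {W : Over S} (a : (yon S).obj W ⟶ Q) (x : 𝒳.obj)
    (hx : 𝒳.p.obj x = W)
    (he : (AlgSt.ofSpMap g).obj (⟨W, (J S).uliftYonedaEquiv a⟩ : Stk.EltObj Q.obj) = f.obj x) :
    secMor (FibCat.fpFst (AlgSt.ofSpMap g) f) (fpEq f g ⟨W, (J S).uliftYonedaEquiv a⟩ x hx he) = a := by
  apply (J S).uliftYonedaEquiv.injective
  rw [secMor, Equiv.apply_symm_apply]
  exact H14Stk.pmap_id _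

end

open CategoryTheory AlgebraicGeometry in
/-- Let `𝒳` be an algebraic stack, `Y` an algebraic space and `f : 𝒳 → Y` a morphism. If every base
change of `f` to an affine scheme flat over `Y` is a categorical moduli space, the morphism `f`
itself is a uniform categorical moduli space. -/
theorem result (S : Scheme.{u}) (𝒳 : AlgSt.Cat S)
    (h𝒳 : AlgSt.IsAlgStack Scheme.fppfPrecoverage 𝒳) (Y : AlgSp.Sp S) (hY : AlgSp.IsAlgSpace Y)
    (f : 𝒳 ⥤ᵇ AlgSt.ofSp Y)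
    (hf : ∀ (Y' : Over S), IsAffine Y'.left → ∀ (g : (AlgSp.yon S).obj Y' ⟶ Y), AlgSp.LocP @Flat g →
      AlgSt.IsCatModuli (FibCat.fpFst (AlgSt.ofSpMap g) f)) :
    AlgSt.IsUnifCatModuli f := by
  have hp := h𝒳.isStack.1
  refine ⟨H14LocalCat.isCatModuli_of_local hY f fun Y' hY' g' hg' N hN φ => ?_,
    fun M hM g hg => H14LocalCat.isCatModuli_of_local hM _ fun Y' hY' g' hg' N hN φ => ?_⟩
  · refine H14LocalCat.existsUnique_good f φ hN g' (FibCat.fpFst (AlgSt.ofSpMap g') f)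
      (FibCat.fpSnd (AlgSt.ofSpMap g') f)
      (hf Y' hY' g' (H12AlgSp.locP_of_repWith H12AlgSp.etLocal_flat
        (H12AlgSp.repWith_le (fun _ _ q (_ : Etale q) => (inferInstance : Flat q)) hg')))
      (secMor_fpSnd f g') fun x W t l e => ?_
    obtain ⟨x', χ, hx, he, hχ⟩ := exists_lift_obj f hp g' x W t l e
    refine ⟨fpEq f g' ⟨W, ULift.up l⟩ x' hx he, rfl, χ, ?_, ?_⟩
    · exact hχ
    · apply (AlgSp.J S).uliftYonedaEquiv.injective
      rw [H14LocalCat.secMor, Equiv.apply_symm_apply,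
        GrothendieckTopology.uliftYonedaEquiv_uliftYoneda_map]
      exact (H14Stk.pmap_id _).trans (congrArg ULift.up (Category.id_comp l).symm)
  · let a' := BasedFunctor.comp (FibCat.fpFst (AlgSt.ofSpMap (g' ≫ g)) f) (AlgSt.ofSpMap g')
    let b : FibCat.fp (AlgSt.ofSpMap (g' ≫ g)) f ⥤ᵇ FibCat.fp (AlgSt.ofSpMap g) f :=
      FibCat.fpLift a' (FibCat.fpSnd (AlgSt.ofSpMap (g' ≫ g)) f)
        (FibCat.fpIso (AlgSt.ofSpMap (g' ≫ g)) f)
    refine H14LocalCat.existsUnique_good _ φ hN g' (FibCat.fpFst (AlgSt.ofSpMap (g' ≫ g)) f) b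
      (hf Y' hY' (g' ≫ g) (H12AlgSp.locP_comp H12AlgSp.etLocal_flat (AlgSp.IsAlgSpace.yon_obj _)
        hM hY (H12AlgSp.locP_of_repWith H12AlgSp.etLocal_flat
          (H12AlgSp.repWith_le (fun _ _ q (_ : Etale q) => (inferInstance : Flat q)) hg')) hg))
      (fun v => H14LocalCat.secMor_ofSpMap _ g' v) fun ω W t l e => ?_
    have hω : H14LocalCat.secMor (FibCat.fpFst (AlgSt.ofSpMap g) f) ω ≫ g =
        H14LocalCat.secMor (BasedFunctor.comp (FibCat.fpSnd (AlgSt.ofSpMap g) f) f) ω :=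
      (secMor_fpSnd f g ω).symm
    rw [H14LocalCat.secMor_comp] at hω
    obtain ⟨x', χ, hx, he, hχ⟩ := exists_lift_obj f hp (g' ≫ g) ω.obj.snd W
      (t ≫ eqToHom (H14Fib.fp_snd_obj ω).symm) l (by
        rw [← Category.assoc, e, Category.assoc, hω, Functor.map_comp, Category.assoc]
        rfl)
    let v := fpEq f (g' ≫ g) ⟨W, ULift.up l⟩ x' hx he
    let a₁ : (b.obj v).obj.fst ⟶ ω.obj.fst :=
      ⟨t ≫ eqToHom ((FibCat.fpFst (AlgSt.ofSpMap g) f).w_obj ω).symm, by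
        have h := congrArg (AlgSp.J S).uliftYonedaEquiv e
        rw [GrothendieckTopology.uliftYonedaEquiv_comp,
          GrothendieckTopology.uliftYonedaEquiv_uliftYoneda_map, ← H14Quot.equiv_map,
          H14LocalCat.secMor, Equiv.apply_symm_apply, H14Stk.secAt, H14Stk.pmap_comp] at h
        exact h.symm⟩
    have hw : (AlgSt.ofSpMap g).map a₁ ≫ ω.obj.iso.hom = (b.obj v).obj.iso.hom ≫ f.map χ := by
      apply Stk.EltObj.hom_ext
      change a₁.hom ≫ ω.obj.iso.hom.hom = (eqToHom he).hom ≫ (f.map χ).hom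
      have h0 : ∀ {p q : Stk.EltObj Y.obj} (h : p = q), (eqToHom h).hom = eqToHom (congrArg _ h) := by
        rintro p q rfl; rfl
      rw [show ω.obj.iso.hom.hom = eqToHom rfl ≫ 𝟙 _ ≫
          eqToHom ((H14Fib.fp_snd_obj ω).symm.trans (f.w_obj ω.obj.snd).symm) from
        @IsHomLift.fac' _ _ _ _ _ _ _ _ _ _ _ ω.property,
        H14Stk.map_hom_eq f χ, hχ, h0]
      simp [a₁]
    refine ⟨v, rfl, H14Fib.fpHom (x := b.obj v) a₁ χ hw, ?_, ?_⟩
    · change a₁.hom = _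
      simp [a₁]
    · apply (AlgSp.J S).uliftYonedaEquiv.injective
      rw [H14LocalCat.secMor, Equiv.apply_symm_apply,
        GrothendieckTopology.uliftYonedaEquiv_uliftYoneda_map]
      exact (H14Stk.pmap_id _).trans (congrArg ULift.up (Category.id_comp l).symm)

end Groth.Agent.S16704
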