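import Groth.Statements.S1691
import Groth.Agent.H29Ref.BigOpen
import Groth.Agent.H29Ref.StalkRestrict

set_option autoImplicit false
universe u
open CategoryTheory CategoryTheory.Limits AlgebraicGeometry TopologicalSpace
open SDiv

namespace Groth.Agent.S1691

/-- Let X be an integral locally Noetherian scheme and j : U ⟶ X an open subscheme such that the local
ring of X at every point outside U has depth at least 2. Then (a) for every coherent reflexive
module F on X the canonical map F ⟶ j_* j^* F is an isomorphism, and (b) for every coherent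
reflexive module G on U the direct image j_* G is coherent and reflexive (so that j^* and j_* are
mutually inverse equivalences). -/
theorem result (X : Scheme.{u}) [IsIntegral X] [IsLocallyNoetherian X] (U : X.Opens)
    (hU : ∀ x : ↥X, x ∉ U → (2 : ℕ∞) ≤ LocCoh.depth (X.presheaf.stalk x) (X.presheaf.stalk x)) :
    (∀ F : X.Modules, Coh.IsCoh F → (∀ x : ↥X, Module.IsReflexive (X.presheaf.stalk x) (F.presheaf.stalk x)) →
        IsIso ((Scheme.Modules.restrictAdjunction U.ι).unit.app F)) ∧
      (∀ G : (U : Scheme.{u}).Modules, Coh.IsCoh G → (∀ x : ↥(U : Scheme.{u}), Module.IsReflexive ((U : Scheme.{u}).presheaf.stalk x) (G.presheaf.stalk x)) →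
        Coh.IsCoh ((Scheme.Modules.pushforward U.ι).obj G) ∧
          (∀ x : ↥X, Module.IsReflexive (X.presheaf.stalk x) (((Scheme.Modules.pushforward U.ι).obj G).presheaf.stalk x))) := by
  refine ⟨fun F hF hr => H29Ref.isIso_unit_of_depth_two U hU F hF ((H29Ref.isReflexive_iff F hF).mpr hr),
    fun G hG hr => ?_⟩
  obtain ⟨K, hK, ⟨e⟩, -⟩ := H29Ref.exists_coh_extension U G hG
  have hd := H29Ref.isReflexive_ddual K hK
  have hdc := H29Ref.isCoh_ddual K hK
  haveI := H29Ref.isIso_restrict_of_bijective U (RefHull.bidualMap K) fun x hx => by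
    refine (H29Ref.isReflexiveAt_iff K (H10Coh.isFP_of_isCoh K hK) (H29Ref.isFP_dual K hK) x).mp ?_
    exact H29Ref.isReflexiveAt_of_restrict U K G e ⟨x, hx⟩ (hr ⟨x, hx⟩)
  haveI := H29Ref.isIso_unit_of_depth_two U hU (RefHull.ddual K) hdc hd
  let e' : RefHull.ddual K ≅ (Scheme.Modules.pushforward U.ι).obj G :=
    asIso ((Scheme.Modules.restrictAdjunction U.ι).unit.app (RefHull.ddual K)) ≪≫
      (Scheme.Modules.pushforward U.ι).mapIso
        ((asIso ((Scheme.Modules.restrictFunctor U.ι).map (RefHull.bidualMap K))).symm ≪≫ e)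
  have hc := H10Coh.isCoh_of_iso e' hdc
  exact ⟨hc, (H29Ref.isReflexive_iff _ hc).mp (H29Ref.isReflexive_of_iso e' hdc hd)⟩

end Groth.Agent.S1691
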