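import Groth.Statements.S3713
import Groth.Agent.H17.LocusBC
import Groth.Agent.H06Unram.AffineSpaceSmooth
-- import your own Groth.Agent.* helpers here

set_option autoImplicit false
universe u
open SGA1

namespace Groth.Agent.S3713


open AlgebraicGeometry CategoryTheory CategoryTheory.Limits TensorProduct KaehlerDifferential

/-- Smoothness at a point of a section gives coordinates vanishing on the section. -/
theorem exists_etale_coords {A B : Type u} [CommRing A] [CommRing B] [Algebra A B] [Algebra.FinitePresentation A B]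
    (s : B →ₐ[A] A) (q : Ideal B) [q.IsPrime] [Algebra.IsSmoothAt A q] :
    ∃ (m : ℕ) (g : ULift.{u} (Fin m) → B) (t : B), t ∉ q ∧ (∀ j, s (g j) = 0) ∧
      ((algebraMap B (Localization.Away t)).comp (MvPolynomial.eval₂Hom (algebraMap A B) g)).Etale := by
  classical
  let Ap := Localization.AtPrime q
  haveI : Algebra.EssFiniteType A Ap := Algebra.EssFiniteType.comp A B Ap
  haveI : Algebra.FormallySmooth A Ap := ‹Algebra.IsSmoothAt A q›
  haveI : Module.Free Ap Ω[Ap⁄A] := Module.free_of_flat_of_isLocalRing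
  haveI : Module.FinitePresentation Ap Ω[Ap⁄A] := Module.finitePresentation_of_projective _ _
  let l : Ω[B⁄A] →ₗ[B] Ω[Ap⁄A] := KaehlerDifferential.map A A B Ap
  let v : RingHom.ker s → Ω[Ap⁄A] := fun b => D A Ap (algebraMap B Ap b.1)
  have hv : Submodule.span Ap (Set.range v) = ⊤ := by
    refine eq_top_iff.mpr fun w _ => ?_
    obtain ⟨⟨ω, t⟩, ht⟩ := IsLocalizedModule.surj q.primeCompl l w
    refine (Submodule.smul_mem_iff_of_isUnit _ (IsLocalization.map_units Ap t)).mp ?_
    rw [IsScalarTower.algebraMap_smul, show (t : B) • w = l ω from ht]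
    have hω : ω ∈ Submodule.span B (Set.range (D A B)) := by rw [span_range_derivation]; trivial
    clear ht
    induction hω using Submodule.span_induction with
    | mem z hz =>
      obtain ⟨b, rfl⟩ := hz
      refine Submodule.subset_span ⟨⟨b - algebraMap A B (s b), by simp [RingHom.mem_ker]⟩, ?_⟩
      simp [v, l, map_D, ← IsScalarTower.algebraMap_apply]
    | zero => simp
    | add a b _ _ ha hb => rw [map_add]; exact add_mem ha hb
    | smul r a _ ha => rw [map_smul, ← IsScalarTower.algebraMap_smul Ap r]; exact Submodule.smul_mem _ _ ha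
  obtain ⟨κ, a, bΩ, hb⟩ := Module.exists_basis_of_span_of_flat v hv
  haveI : Finite κ := Module.Finite.finite_basis bΩ
  haveI := Fintype.ofFinite κ
  let e : ULift.{u} (Fin (Fintype.card κ)) ≃ κ := Equiv.ulift.trans (Fintype.equivFin κ).symm
  let g : ULift.{u} (Fin (Fintype.card κ)) → B := fun j => (a (e j)).1
  let b := bΩ.reindex e.symm
  letI := (MvPolynomial.aeval g : MvPolynomial (ULift.{u} (Fin (Fintype.card κ))) A →ₐ[A] B).toRingHom.toAlgebra
  let P := MvPolynomial (ULift.{u} (Fin (Fintype.card κ))) A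
  haveI : IsScalarTower A P B :=
    IsScalarTower.of_algebraMap_eq fun c => ((MvPolynomial.aeval g).commutes c).symm
  haveI : IsScalarTower A P Ap := IsScalarTower.of_algebraMap_eq fun c => by
    rw [IsScalarTower.algebraMap_apply A B Ap, IsScalarTower.algebraMap_apply P B Ap,
      ← IsScalarTower.algebraMap_apply A P B]
  let bP := (mvPolynomialBasis A (ULift.{u} (Fin (Fintype.card κ)))).baseChange Ap
  have hbase : ∀ j, mapBaseChange A P Ap (bP j) = b j := by
    intro j
    rw [Module.Basis.baseChange_apply, mvPolynomialBasis_apply, mapBaseChange_tmul, one_smul, map_D]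
    simp [b, hb, v, g, IsScalarTower.algebraMap_apply P B Ap]
    congr 2
    exact MvPolynomial.aeval_X _ j
  have hbij : Function.Bijective (mapBaseChange A P Ap) := by
    have he : mapBaseChange A P Ap = (bP.equiv b (Equiv.refl _)).toLinearMap :=
      bP.ext fun j => by rw [hbase]; simp
    rw [he]; exact (bP.equiv b (Equiv.refl _)).bijective
  haveI : Algebra.IsEtaleAt P q := by
    show Algebra.FormallyEtale P Ap
    refine ⟨subsingleton_of_forall_eq 0 fun z => ?_, subsingleton_of_forall_eq 0 fun z => ?_⟩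
    · obtain ⟨y, rfl⟩ := KaehlerDifferential.map_surjective A P Ap z
      obtain ⟨w, rfl⟩ := hbij.2 y
      exact (exact_mapBaseChange_map A P Ap _).2 ⟨w, rfl⟩
    · have h1 : Algebra.H1Cotangent.δ A P Ap z = 0 :=
        hbij.1 (by rw [map_zero]; exact (Algebra.H1Cotangent.exact_δ_mapBaseChange A P Ap _).2 ⟨z, rfl⟩)
      obtain ⟨y, rfl⟩ := (Algebra.H1Cotangent.exact_map_δ A P Ap z).1 h1
      rw [Subsingleton.elim y 0, map_zero]
  haveI : Algebra.FinitePresentation P B := Algebra.FinitePresentation.of_restrict_scalars_finitePresentation A P B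
  obtain ⟨t, ht, hte⟩ := Algebra.exists_etale_of_isEtaleAt (R := P) q
  refine ⟨_, g, t, ht, fun j => (a (e j)).2, ?_⟩
  have hh : (algebraMap B (Localization.Away t)).comp (MvPolynomial.eval₂Hom (algebraMap A B) g) =
      algebraMap P (Localization.Away t) := by
    rw [IsScalarTower.algebraMap_eq P B (Localization.Away t)]
    rfl
  rw [hh]
  exact RingHom.etale_algebraMap.mpr hte

/-- A morphism to affine space over an affine scheme given by an étale polynomial map. -/
theorem etale_homOfVector {S V : Scheme.{u}} [IsAffine S] [IsAffine V] {n : Type u} (h : V ⟶ S) (v : n → Γ(V, ⊤))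
    (he : (MvPolynomial.eval₂Hom h.appTop.hom v).Etale) : Etale (AffineSpace.homOfVector h v) := by
  rw [← MorphismProperty.cancel_right_of_respectsIso (P := @Etale) _ (AffineSpace.isoOfIsAffine n S).hom,
    HasRingHomProperty.iff_of_isAffine (P := @Etale), Scheme.Hom.comp_appTop, AffineSpace.isoOfIsAffine_hom_appTop,
    Category.assoc, CommRingCat.hom_comp, RingHom.Etale.respectsIso.cancel_left_isIso]
  convert he using 1
  · rfl
  refine MvPolynomial.ringHom_ext' ?_ fun i => ?_
  · simp only [CommRingCat.hom_comp, CommRingCat.hom_ofHom, RingHom.comp_assoc, MvPolynomial.eval₂Hom_comp_C]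
    rw [← CommRingCat.hom_comp, ← Scheme.Hom.comp_appTop, AffineSpace.homOfVector_over]
  · rw [CommRingCat.hom_comp, RingHom.comp_apply, CommRingCat.hom_ofHom, MvPolynomial.eval₂Hom_X',
      MvPolynomial.eval₂Hom_X']
    exact AffineSpace.homOfVector_appTop_coord _ _ _

theorem appLE_conj {X Y : Scheme.{u}} (f : X ⟶ Y) {U U₀ : Y.Opens} {V V₀ : X.Opens} (i : Opposite.op U₀ ⟶ Opposite.op U)
    (e : V ≤ f ⁻¹ᵁ U) (j : Opposite.op V ⟶ Opposite.op V₀) (e' : V₀ ≤ f ⁻¹ᵁ U₀) :
    Y.presheaf.map i ≫ f.appLE U V e ≫ X.presheaf.map j = f.appLE U₀ V₀ e' := by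
  rw [Scheme.Hom.appLE_map, Scheme.Hom.map_appLE]

theorem exists_chart {X Y : Scheme.{u}} (f : X ⟶ Y) [LocallyOfFinitePresentation f] (i : Y ⟶ X) (hi : i ≫ f = 𝟙 Y)
    (y : Y) (hy : i y ∈ f.smoothLocus) :
    ∃ (U : Y.Opens) (V : X.Opens) (_ : y ∈ U) (hUV : U ≤ i ⁻¹ᵁ V) (hVU : V ≤ f ⁻¹ᵁ U) (m : ℕ)
        (v : ULift.{u} (Fin m) → Γ(V, ⊤)),
        Etale (AffineSpace.homOfVector (f.resLE U V hVU) v) ∧ ∀ j, (i.resLE V U hUV).appTop (v j) = 0 := by
  classical
  have hfi : ∀ z, f (i z) = z := fun z => by rw [← Scheme.Hom.comp_apply, hi]; rfl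
  obtain ⟨W, (hW : IsAffineOpen W), hyW, -⟩ := TopologicalSpace.Opens.isBasis_iff_nbhd.mp Y.isBasis_affineOpens
    (show y ∈ (⊤ : Y.Opens) from trivial)
  obtain ⟨V₁, (hV₁ : IsAffineOpen V₁), hyV₁, hV₁W⟩ := TopologicalSpace.Opens.isBasis_iff_nbhd.mp X.isBasis_affineOpens
    (show i y ∈ f ⁻¹ᵁ W by show f (i y) ∈ W; rw [hfi]; exact hyW)
  obtain ⟨a, haV, hya⟩ := hW.exists_basicOpen_le (V := W ⊓ i ⁻¹ᵁ V₁) ⟨y, hyW, hyV₁⟩ hyW
  let U := Y.basicOpen a
  have hU : IsAffineOpen U := hW.basicOpen a
  let V : X.Opens := X.basicOpen (f.appLE W V₁ hV₁W a)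
  have hV : IsAffineOpen V := hV₁.basicOpen _
  have hVeq : V = V₁ ⊓ f ⁻¹ᵁ U := Scheme.basicOpen_appLE _ _ _ _ _
  have hVU : V ≤ f ⁻¹ᵁ U := hVeq.le.trans inf_le_right
  have hUV : U ≤ i ⁻¹ᵁ V := fun z hz => by
    show i z ∈ V
    rw [hVeq]
    exact ⟨(haV hz).2, by show f (i z) ∈ U; rw [hfi]; exact hz⟩
  have hyV : i y ∈ V := hUV hya
  letI := (f.appLE U V hVU).hom.toAlgebra
  haveI : Algebra.FinitePresentation Γ(Y, U) Γ(X, V) :=
    HasRingHomProperty.appLE @LocallyOfFinitePresentation f inferInstance ⟨U, hU⟩ ⟨V, hV⟩ hVU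
  have hid : f.appLE U V hVU ≫ i.appLE V U hUV = 𝟙 _ := by
    rw [Scheme.Hom.appLE_comp_appLE, Scheme.Hom.appLE]
    have key : ∀ (h : Y ⟶ Y) (_ : h = 𝟙 Y) (e : U ≤ h ⁻¹ᵁ U), h.app U ≫ Y.presheaf.map (homOfLE e).op = 𝟙 _ := by
      rintro _ rfl e
      simp
      exact Y.presheaf.map_id _
    exact key _ hi _
  let s : Γ(X, V) →ₐ[Γ(Y, U)] Γ(Y, U) :=
    { (i.appLE V U hUV).hom with
      commutes' := fun r => by
        have := congrArg (fun φ => φ.hom r) hid
        exact this }
  let q := (hV.primeIdealOf ⟨i y, hyV⟩).asIdeal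
  haveI : Algebra.IsSmoothAt Γ(Y, U) q := (formallySmooth_stalkMap_iff U hU V hV hVU hyV).mp hy
  obtain ⟨m, g, t₀, ht₀, hsg, het⟩ := exists_etale_coords s q
  let t : Γ(X, V) := t₀ * f.appLE U V hVU (i.appLE V U hUV t₀)
  let V' : X.Opens := X.basicOpen t
  let U' : Y.Opens := Y.basicOpen (i.appLE V U hUV t₀)
  have hV't : V' ≤ X.basicOpen t₀ := by
    show X.basicOpen _ ≤ _
    rw [Scheme.basicOpen_mul]; exact inf_le_left
  have hy₀ : i y ∈ X.basicOpen t₀ := by
    have h1 : hV.primeIdealOf ⟨i y, hyV⟩ ∈ hV.fromSpec ⁻¹ᵁ X.basicOpen t₀ := by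
      rw [hV.fromSpec_preimage_basicOpen t₀]; exact ht₀
    have h2 : hV.fromSpec (hV.primeIdealOf ⟨i y, hyV⟩) ∈ X.basicOpen t₀ := h1
    rwa [hV.fromSpec_primeIdealOf] at h2
  have hU'eq : U' = U ⊓ i ⁻¹ᵁ X.basicOpen t₀ := Scheme.basicOpen_appLE _ _ _ _ _
  have hV'eq : V' = X.basicOpen t₀ ⊓ (V ⊓ f ⁻¹ᵁ U') := by
    show X.basicOpen _ = _
    rw [Scheme.basicOpen_mul, Scheme.basicOpen_appLE]
  have hyU' : y ∈ U' := by rw [hU'eq]; exact ⟨hya, hy₀⟩
  have hV'U' : V' ≤ f ⁻¹ᵁ U' := hV'eq.le.trans (inf_le_right.trans inf_le_right)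
  have hU'V' : U' ≤ i ⁻¹ᵁ V' := fun z hz => by
    show i z ∈ V'
    rw [hV'eq]
    have hz' := hU'eq.le hz
    exact ⟨hz'.2, hUV hz'.1, by show f (i z) ∈ U'; rw [hfi]; exact hz⟩
  have hle : V' ≤ V := X.basicOpen_le t
  let w : ULift.{u} (Fin m) → Γ(X, V') := fun j => (X.presheaf.map (homOfLE hle).op).hom (g j)
  refine ⟨U', V', hyU', hU'V', hV'U', m, fun j => V'.topIso.inv (w j), ?_, fun j => ?_⟩
  · haveI : IsAffine V'.toScheme := hV.basicOpen t
    haveI : IsAffine U.toScheme := hU
    haveI : IsAffine U'.toScheme := hU.basicOpen _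
    have he₁ : Etale (AffineSpace.homOfVector (f.resLE U V' (hle.trans hVU)) fun j => V'.topIso.inv (w j)) := by
      refine etale_homOfVector _ _ ?_
      letI : Algebra Γ(X, V) Γ(X, V') := (X.presheaf.map (homOfLE hle).op).hom.toAlgebra
      haveI : IsLocalization.Away t Γ(X, V') := hV.isLocalization_basicOpen t
      have hu : IsUnit (algebraMap Γ(X, V) Γ(X, V') t₀) := by
        have := IsLocalization.Away.algebraMap_isUnit (S := Γ(X, V')) t
        rw [map_mul] at this
        exact isUnit_of_mul_isUnit_left this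
      let L : Localization.Away t₀ →+* Γ(X, V') := IsLocalization.Away.lift t₀ hu
      have hL : L.Etale := by
        letI := L.toAlgebra
        haveI : IsScalarTower Γ(X, V) (Localization.Away t₀) Γ(X, V') :=
          IsScalarTower.of_algebraMap_eq fun x => (IsLocalization.Away.lift_eq t₀ hu x).symm
        haveI : Algebra.Etale Γ(X, V) (Localization.Away t₀) := Algebra.Etale.of_isLocalizationAway t₀
        haveI : Algebra.Etale Γ(X, V) Γ(X, V') := Algebra.Etale.of_isLocalizationAway t
        exact RingHom.etale_algebraMap.mpr (Algebra.Etale.of_restrictScalars Γ(X, V) (Localization.Away t₀) Γ(X, V'))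
      have hcomp := RingHom.Etale.stableUnderComposition _ _ het hL
      have heq : MvPolynomial.eval₂Hom (f.resLE U V' (hle.trans hVU)).appTop.hom (fun j => V'.topIso.inv (w j)) =
          ((V'.topIso.inv.hom.comp (L.comp ((algebraMap Γ(X, V) (Localization.Away t₀)).comp
            (MvPolynomial.eval₂Hom (algebraMap Γ(Y, U) Γ(X, V)) g)))).comp
              (MvPolynomial.mapEquiv (ULift.{u} (Fin m)) U.topIso.commRingCatIsoToRingEquiv).toRingHom) := by
        have hLe : L.comp (algebraMap Γ(X, V) (Localization.Away t₀)) = (X.presheaf.map (homOfLE hle).op).hom :=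
          RingHom.ext fun x => IsLocalization.Away.lift_eq t₀ hu x
        refine MvPolynomial.ringHom_ext (fun r => ?_) fun j => ?_
        · simp only [RingHom.comp_apply, RingEquiv.toRingHom_eq_coe, RingEquiv.coe_toRingHom, MvPolynomial.mapEquiv_apply,
            MvPolynomial.map_C, MvPolynomial.eval₂Hom_C]
          rw [← RingHom.comp_apply L, hLe]
          show _ = ((U.topIso.hom ≫ f.appLE U V hVU ≫ X.presheaf.map (homOfLE hle).op) ≫ V'.topIso.inv).hom r
          rw [Scheme.Hom.appLE_map]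
          congr 2
          simp [Scheme.Hom.resLE_appLE, ← Scheme.Hom.appLE_eq_app]
          exact (appLE_conj f _ _ _ _).symm
        · simp only [RingHom.comp_apply, RingEquiv.toRingHom_eq_coe, RingEquiv.coe_toRingHom, MvPolynomial.mapEquiv_apply,
            MvPolynomial.map_X, MvPolynomial.eval₂Hom_X']
          rw [← RingHom.comp_apply L, hLe]
      rw [heq]
      refine RingHom.Etale.stableUnderComposition _ _ (RingHom.Etale.of_bijective (RingEquiv.bijective _)) ?_
      exact RingHom.Etale.stableUnderComposition _ _ hcomp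
        (RingHom.Etale.of_bijective V'.topIso.symm.commRingCatIsoToRingEquiv.bijective)
    let o : U'.toScheme ⟶ U.toScheme := Y.homOfLE (Y.basicOpen_le _)
    haveI : IsOpenImmersion (AffineSpace.map (ULift.{u} (Fin m)) o) :=
      MorphismProperty.of_isPullback (P := @IsOpenImmersion) (AffineSpace.isPullback_map o).flip inferInstance
    haveI : Etale (AffineSpace.homOfVector (f.resLE U' V' hV'U') (fun j => V'.topIso.inv (w j)) ≫
        AffineSpace.map (ULift.{u} (Fin m)) o) := by
      convert he₁ using 1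
      refine AffineSpace.hom_ext ?_ fun j => ?_
      · rw [Category.assoc, AffineSpace.map_over, AffineSpace.homOfVector_over_assoc, AffineSpace.homOfVector_over,
          Scheme.Hom.resLE_map]
      · rw [Scheme.Hom.comp_appTop, CommRingCat.comp_apply, AffineSpace.map_appTop_coord,
          AffineSpace.homOfVector_appTop_coord, AffineSpace.homOfVector_appTop_coord]
    exact Etale.of_comp _ (AffineSpace.map (ULift.{u} (Fin m)) o)
  · have h0 : i.appLE V U hUV (g j) = 0 := hsg j
    have h1 : i.appLE V' U' hU'V' (w j) = 0 := by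
      show (X.presheaf.map (homOfLE hle).op ≫ i.appLE V' U' hU'V') (g j) = 0
      rw [Scheme.Hom.map_appLE]
      rw [← Scheme.Hom.appLE_map _ hUV (homOfLE (Y.basicOpen_le _)).op, CommRingCat.comp_apply, h0, map_zero]
    have h2 : V'.topIso.inv ≫ (i.resLE V' U' hU'V').appTop ≫ U'.topIso.hom = i.appLE V' U' hU'V' := by
      simp [Scheme.Hom.resLE_appLE, ← Scheme.Hom.appLE_eq_app]
      exact appLE_conj i _ _ _ _
    refine U'.topIso.commRingCatIsoToRingEquiv.injective ?_
    rw [map_zero]
    show (V'.topIso.inv ≫ (i.resLE V' U' hU'V').appTop ≫ U'.topIso.hom) (w j) = 0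
    rw [h2, h1]

open AlgebraicGeometry CategoryTheory CategoryTheory.Limits in
/-- Let Y be locally Noetherian, f : X -> Y locally of finite type, i a section of f and y a point of Y.
Then X is smooth over Y at i(y) (i(y) lies in the smooth locus of f) if and only if there are an
open neighbourhood U of y, an open V of X with i(U) ⊆ V ⊆ f^{-1}(U), and finitely many sections of
O_X over V, all vanishing along i(U), which define an etale U-morphism from V to an affine space
over U (so that this etale chart carries the section to the zero section). -/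
theorem result {X Y : Scheme.{u}} [IsLocallyNoetherian Y] (f : X ⟶ Y)
    [LocallyOfFiniteType f] [LocallyOfFinitePresentation f] (i : Y ⟶ X) (hi : i ≫ f = 𝟙 Y) (y : Y) :
    i.base y ∈ f.smoothLocus ↔
      ∃ (U : Y.Opens) (V : X.Opens) (_ : y ∈ U) (hUV : U ≤ i ⁻¹ᵁ V) (hVU : V ≤ f ⁻¹ᵁ U) (m : ℕ)
        (v : ULift.{u} (Fin m) → Γ(V, ⊤)),
        Etale (AffineSpace.homOfVector (f.resLE U V hVU) v) ∧ ∀ j, (i.resLE V U hUV).appTop (v j) = 0 := by
  constructor
  · exact exists_chart f i hi y
  · rintro ⟨U, V, hyU, hUV, hVU, m, v, het, -⟩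
    haveI := het
    haveI : Smooth (AlgebraicGeometry.AffineSpace (ULift.{u} (Fin m)) U.toScheme ↘ U.toScheme) :=
      Groth.Agent.H06Unram.smooth_affineSpace_over _ _
    haveI : Smooth (f.resLE U V hVU) := by
      rw [← AffineSpace.homOfVector_over (f.resLE U V hVU) v]
      infer_instance
    refine (Groth.Agent.H17.LocusBC.mem_smoothLocus_iff_exists f _).mpr ⟨V, hUV hyU, ?_⟩
    rw [← Scheme.Hom.resLE_comp_ι f hVU]
    infer_instance

end Groth.Agent.S3713
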