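import Groth.Statements.S0042
import Groth.Agent.S4467
import Groth.Agent.S11319
import Groth.Agent.H28NT.Connectedness
import Groth.Agent.LeadVan.Supported

set_option autoImplicit false
universe u
open Coherent

namespace Groth.Agent.S0042

open AlgebraicGeometry CategoryTheory in
/-- Let Y be a locally Noetherian scheme, f : X → Y a proper morphism, and y a point of Y whose fibre
X_y has dimension at most d. Then for every coherent 𝒪_X-module F and every p > d, the stalk of R^p
f_* F at y is zero. -/
theorem result {X Y : Scheme.{u}} (f : X ⟶ Y)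
    [IsProper f] [IsLocallyNoetherian Y] (y : Y) (d : ℕ) (hd : topologicalKrullDim ↥(f.fiber y) ≤ d)
    (M : X.Modules) (hM : Coh.IsCoh M) (p : ℕ) (hp : d < p) :
    Limits.IsZero (TopCat.Presheaf.stalk ((Coh.RpushAb f p).obj (Coh.toAb M)).obj y) := by
  haveI := Groth.Agent.H10Coh.enoughInjMod X
  let O := Y.presheaf.stalk y
  let X₁ := Limits.pullback f (Y.fromSpecStalk y)
  letI : X₁.Over (Spec (CommRingCat.of O)) := ⟨Limits.pullback.snd f (Y.fromSpecStalk y)⟩
  let g : X₁ ⟶ X := Limits.pullback.fst f (Y.fromSpecStalk y)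
  let π := X₁ ↘ Spec (CommRingCat.of O)
  have hsq : IsPullback g π f (Y.fromSpecStalk y) := IsPullback.of_hasPullback _ _
  haveI : IsProper π := MorphismProperty.of_isPullback hsq (inferInstance : IsProper f)
  obtain ⟨_, ⟨e⟩⟩ := Groth.Agent.S4467.result f M hM y p X₁ g hsq
  haveI : IsNoetherianRing O := inferInstance
  haveI : IsLocallyNoetherian X₁ := LocallyOfFiniteType.isLocallyNoetherian π
  haveI : CompactSpace X₁ := QuasiCompact.compactSpace_of_compactSpace π
  haveI : IsNoetherian X₁ := ⟨⟩
  haveI : TopologicalSpace.NoetherianSpace ↥X₁.toPresheafedSpace := inferInstance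
  let Z : Set X₁ := π.base ⁻¹' {IsLocalRing.closedPoint O}
  have hZ : IsClosed Z := (IsLocalRing.isClosed_singleton_closedPoint O).preimage π.continuous
  have hZy : ∀ z : X₁, z ∈ Z → f (g z) = y := fun z hz => by
    rw [← Scheme.Hom.comp_apply, hsq.w, Scheme.Hom.comp_apply, Set.mem_singleton_iff.1 hz]
    exact Scheme.fromSpecStalk_closedPoint
  have hd' : topologicalKrullDim Z ≤ (d : WithBot ℕ∞) := by
    let t : Z → f.fiber y := fun z => (f.fiberHomeo y).symm ⟨g z.1, hZy z.1 z.2⟩
    haveI : IsPreimmersion g := MorphismProperty.pullback_fst _ _ inferInstance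
    have ht : Topology.IsInducing t :=
      (f.fiberHomeo y).symm.isInducing.comp
        ((Topology.IsInducing.subtypeVal.of_comp_iff).1
          (g.isEmbedding.toIsInducing.comp Topology.IsInducing.subtypeVal))
    exact ht.topologicalKrullDim_le.trans hd
  have hvan : ∀ n, Subsingleton (Formal.HHmodPow (IsLocalRing.maximalIdeal O) ((Scheme.Modules.pullback g).obj M) p n) :=
    fun n => Groth.Agent.LeadVan.subsingleton_H_of_supported (X := X₁.toPresheafedSpace.carrier) hZ d hd' _
      (fun U hU s => Groth.Agent.H28NT.section_modPow_eq_zero _ _ _ (fun x hx => by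
        by_contra hna
        push Not at hna
        refine hU x hx (PrimeSpectrum.ext (((IsLocalRing.maximalIdeal.isMaximal O).eq_of_le (π.base x).isPrime.ne_top
          fun a ha => ?_).symm))
        by_contra h
        exact hna a ha ((Groth.Agent.H28NT.mem_basicOpen_toGlobal_iff x a).2 h)) s) p hp
  haveI : Subsingleton (Formal.HHlim (IsLocalRing.maximalIdeal O) ((Scheme.Modules.pullback g).obj M) p) :=
    ⟨fun a b => Subtype.ext (funext fun n => (hvan n).elim _ _)⟩
  haveI : Subsingleton (AdicCompletion (IsLocalRing.maximalIdeal O)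
      (((Coh.Rpush f p).obj M).presheaf.stalk y)) := e.injective.subsingleton
  haveI : Subsingleton (((Coh.Rpush f p).obj M).presheaf.stalk y) :=
    (AdicCompletion.of_injective (IsLocalRing.maximalIdeal O) _).subsingleton
  obtain ⟨i⟩ := Groth.Agent.S11319.result f M p
  haveI : Subsingleton (((TopCat.Presheaf.stalkFunctor Ab.{u} y).obj
      ((sheafToPresheaf _ _).obj (Coh.toAb ((Coh.Rpush f p).obj M))))) :=
    inferInstanceAs (Subsingleton (((Coh.Rpush f p).obj M).presheaf.stalk y))
  exact (AddCommGrpCat.isZero_of_subsingleton _).of_iso ((TopCat.Presheaf.stalkFunctor Ab.{u} y).mapIso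
    ((sheafToPresheaf _ _).mapIso i)).symm

end Groth.Agent.S0042
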