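import Groth.Statements.S18290
import Groth.Agent.H15Magnet.Union

set_option autoImplicit false
universe u
open CategoryTheory MonoidalCategory CartesianMonoidalCategory MonObj AlgebraicGeometry Opposite
open Magnet

open CategoryTheory MonoidalCategory CartesianMonoidalCategory MonObj AlgebraicGeometry Opposite Magnet

set_option linter.style.haveILetI false

namespace Groth.Agent.S18290

/-- Let X be an S-scheme locally of finite presentation and separated over S with an action of the
diagonalizable monoid scheme A(M)_S of a commutative monoid M, and let N be the union of a nonempty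
directed family of submonoids N_i of M. Then for every S-scheme T whose underlying scheme is affine,
every element of X^N(T) comes from X^{N_i}(T) for some i, so that X^N(T) is the directed union of
the X^{N_i}(T) (the maps X^{N_i}(T) → X^N(T) are injective since X is separated). (The published
statement takes T an arbitrary S-scheme and X an algebraic space; for T an infinite disjoint union
of points and X an infinite disjoint union of affine lines, the n-th with coordinate of degree the
n-th basis vector of a free commutative monoid M, the element of X^N(T) that is the n-th coordinate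
inclusion on the n-th point comes from no single X^{N_i}(T) when N_i is generated by the first i
basis vectors, so T is taken affine here, the case the limit argument proves.) -/
theorem result (S : Scheme.{u}) (M : Type) [AddCommMonoid M]
    (X : Over S) [IsSeparated X.hom] [LocallyOfFinitePresentation X.hom]
    (a : Magnet.MonAct (Magnet.AMonS S M) X) {J : Type} [Preorder J] [IsDirected J (· ≤ ·)] [Nonempty J]
    (N : J → AddSubmonoid M) (hN : Monotone N) (T : Over S) [IsAffine T.left]
    (φ : (Magnet.attr a (⨆ i, N i)).obj (op T)) :
    ∃ (i : J) (ψ : (Magnet.attr a (N i)).obj (op T)), (Magnet.attrMap a (le_iSup N i)).app (op T) ψ = φ := by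
  let N' : ULift.{u} J → AddSubmonoid M := fun i => N i.down
  haveI : IsDirected (ULift.{u} J) (· ≤ ·) :=
    ⟨fun p q => let ⟨k, h1, h2⟩ := exists_ge_ge p.down q.down; ⟨⟨k⟩, h1, h2⟩⟩
  haveI : Nonempty (ULift.{u} J) := ⟨⟨Classical.arbitrary J⟩⟩
  have hN' : Monotone N' := fun p q h => hN h
  have hle : (⨆ i, N i) ≤ ⨆ i, N' i := iSup_le fun i => le_iSup N' ⟨i⟩
  let R : Type u := Γ(T.left, ⊤)
  let str : Spec (CommRingCat.of R) ⟶ S := T.left.isoSpec.inv ≫ T.hom
  let e : Over.mk str ≅ T := Over.isoMk T.left.isoSpec.symm rfl
  obtain ⟨i, ψ, hψ⟩ := Groth.Agent.H15Magnet.exists_stage R hN' str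
    ((AMonS.map S (AddSubmonoid.inclusion hle) ▷ _) ≫ (_ ◁ e.hom) ≫ φ.1)
  let x := (attrToX a (⨆ i, N i)).app (op T) φ
  have h1 := congrArg ((AMonS.map S (⨆ i, N' i).subtype ▷ _) ≫ ·) hψ
  simp only [← comp_whiskerRight_assoc, ← AMonS.map_comp] at h1
  rw [show (⨆ i, N' i).subtype.comp (AddSubmonoid.inclusion (le_iSup N' i)) = (N i.down).subtype from rfl,
    show (⨆ i, N' i).subtype.comp (AddSubmonoid.inclusion hle) = (⨆ i, N i).subtype from rfl,
    ← whisker_exchange_assoc, Groth.Agent.H15Magnet.restrict_eq_orbit] at h1
  obtain ⟨p, -, hp⟩ := Groth.Agent.H15Magnet.exists_attr_of_factor a (N i.down) T x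
    ((_ ◁ e.inv) ≫ ψ) (by
      rw [← whisker_exchange_assoc, h1, ← MonoidalCategory.whiskerLeft_comp_assoc, e.inv_hom_id,
        MonoidalCategory.whiskerLeft_id, Category.id_comp])
  exact ⟨i.down, p, Groth.Agent.H15Magnet.attrToX_injective a _ T
    ((Groth.Agent.H15Magnet.attrMap_comp_attrToX a (le_iSup N i.down) T p).trans hp)⟩

end Groth.Agent.S18290
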