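import Groth.Statements.S14389
import Groth.Agent.H26EtPull.Basic

set_option autoImplicit false
open CategoryTheory CategoryTheory.Limits AlgebraicGeometry Opposite
universe u
open EtLim

namespace Groth.Agent.S14389

open Groth.Agent.H26EtPull

set_option backward.isDefEq.respectTransparency false
set_option backward.isDefEq.respectTransparency.types false

/-- The two comparison maps to `g'^* F` agree. -/
theorem coherence {X Y X' Y' : Scheme.{u}} (f : X ⟶ Y) (g : Y' ⟶ Y) (f' : X' ⟶ Y') (g' : X' ⟶ X)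
    (w : g' ≫ f = f' ≫ g) (F : EtCoh.Ab X) :
    (EtCore.pullCongr w).hom.app ((EtCoh.push f).obj F) ≫ (EtCore.pullComp f' g).hom.app ((EtCoh.push f).obj F) ≫
        (EtCoh.pull f').map (EtCoh.baseChange0 f g f' g' w F) ≫
          (EtCoh.pullPushAdj f').counit.app ((EtCoh.pull g').obj F) =
      (EtCore.pullComp g' f).hom.app ((EtCoh.push f).obj F) ≫
        (EtCoh.pull g').map ((EtCoh.pullPushAdj f).counit.app F) := by
  apply ((EtCoh.pullPushAdj (g' ≫ f)).homEquiv _ _).injective
  refine (homEquiv_pullCongr w _ _ _).trans ?_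
  refine Eq.trans (congrArg (· ≫ _) (homEquiv_pullComp f' g _ _ _)) ?_
  refine Eq.trans ?_ (homEquiv_pullComp g' f _ _ _).symm
  have e1 : (EtCoh.pullPushAdj f').homEquiv _ _ ((EtCoh.pull f').map (EtCoh.baseChange0 f g f' g' w F) ≫
      (EtCoh.pullPushAdj f').counit.app ((EtCoh.pull g').obj F)) = EtCoh.baseChange0 f g f' g' w F := by
    exact (congrArg _ ((EtCoh.pullPushAdj f').homEquiv_counit _ _ _).symm).trans (Equiv.apply_symm_apply _ _)
  have e2 : (EtCoh.pullPushAdj g').homEquiv _ _ ((EtCoh.pull g').map ((EtCoh.pullPushAdj f).counit.app F)) =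
      (EtCoh.pullPushAdj f).counit.app F ≫ (EtCoh.pullPushAdj g').unit.app F := by
    rw [Adjunction.homEquiv_unit]
    exact ((EtCoh.pullPushAdj g').unit.naturality _).symm
  have e3 : (EtCoh.pullPushAdj f).homEquiv _ _
      ((EtCoh.pullPushAdj f).counit.app F ≫ (EtCoh.pullPushAdj g').unit.app F) =
        (EtCoh.push f).map ((EtCoh.pullPushAdj g').unit.app F) := by
    rw [Adjunction.homEquiv_naturality_right]
    have : (EtCoh.pullPushAdj f).homEquiv _ _ ((EtCoh.pullPushAdj f).counit.app F) = 𝟙 _ := by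
      rw [Adjunction.homEquiv_unit, Adjunction.right_triangle_components]
    exact (congrArg (· ≫ _) this).trans (Category.id_comp _)
  refine Eq.trans (congrArg (fun k => ((EtCoh.pullPushAdj g).homEquiv _ _ k ≫
    (EtCoh.pushComp g f').hom.app _) ≫ (EtCoh.pushCongr w.symm).hom.app _) e1) ?_
  refine Eq.trans ?_ (congrArg (fun k => (EtCoh.pullPushAdj f).homEquiv _ _ k ≫
    (EtCoh.pushComp f g').hom.app _) e2).symm
  refine Eq.trans ?_ (congrArg (· ≫ (EtCoh.pushComp f g').hom.app _) e3).symm
  have hc : ∀ {a b : X' ⟶ Y} (h : a = b) (H : EtCoh.Ab X'),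
      (EtCoh.pushCongr h).hom.app H ≫ (EtCoh.pushCongr h.symm).hom.app H = 𝟙 _ := by
    intro a b h H
    subst h
    rw [pushCongr_refl]
    exact Category.id_comp _
  have hb : (EtCoh.pullPushAdj g).homEquiv _ _ (EtCoh.baseChange0 f g f' g' w F) =
      (EtCoh.push f).map ((EtCoh.pullPushAdj g').unit.app F) ≫ (EtCoh.pushComp f g').hom.app _ ≫
        (EtCoh.pushCongr w).hom.app _ ≫ (EtCoh.pushComp g f').inv.app _ := Equiv.apply_symm_apply _ _
  refine (congrArg (fun k => (k ≫ (EtCoh.pushComp g f').hom.app _) ≫ (EtCoh.pushCongr w.symm).hom.app _) hb).trans ?_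
  simp only [Category.assoc, Iso.inv_hom_id_app_assoc, hc w, Category.comp_id]

/-- For small étale sites of schemes: let g' ≫ f = f' ≫ g be a commutative square of schemes with f : X
→ Y, g : Y' → Y, f' : X' → Y', g' : X' → X, and let F be an abelian sheaf on the small étale site of
X. For every q and every class ζ in H^q(Y_ét, f_*F), the pullback along g' of the image of ζ under
the canonical map H^q(Y, f_*F) → H^q(X, F) (pull back along f, then apply the counit f⁻¹f_*F → F)
equals the image of g^*ζ ∈ H^q(Y', g⁻¹f_*F) under the map induced by the base-change morphism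
g⁻¹f_*F → f'_*g'⁻¹F followed by the canonical map H^q(Y', f'_*g'⁻¹F) → H^q(X', g'⁻¹F). (The
published statement is for a commutative square of topoi with a chosen isomorphism f_*g'_* ≅
g_*f'_*; this row is the square of étale topoi of schemes. Exactness of pullback of abelian sheaves,
which always holds, is carried as instance hypotheses.) -/
theorem result {X Y X' Y' : Scheme.{u}} (f : X ⟶ Y)
    (g : Y' ⟶ Y) (f' : X' ⟶ Y') (g' : X' ⟶ X) (w : g' ≫ f = f' ≫ g) (F : EtCoh.Ab X) (q : ℕ)
    [PreservesFiniteLimits (EtCoh.pull f)] [PreservesFiniteLimits (EtCoh.pull g)]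
    [PreservesFiniteLimits (EtCoh.pull f')] [PreservesFiniteLimits (EtCoh.pull g')]
    (ζ : EtCoh.H Y ((EtCoh.push f).obj F) q) :
    EtCore.Hpull g' F q (EtLim.HofPush f F q ζ) =
      EtLim.HofPush f' ((EtCoh.pull g').obj F) q
        (((EtCoh.HF Y' q).map (EtCoh.baseChange0 f g f' g' w F)).hom
          (EtCore.Hpull g ((EtCoh.push f).obj F) q ζ)) := by
  haveI := H18Et.pull_preservesFiniteLimits (g' ≫ f)
  haveI := H18Et.pull_preservesFiniteLimits (f' ≫ g)
  show EtCore.Hpull g' F q (((EtCoh.HF X q).map ((EtCoh.pullPushAdj f).counit.app F)).hom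
      (EtCore.Hpull f ((EtCoh.push f).obj F) q ζ)) =
    ((EtCoh.HF X' q).map ((EtCoh.pullPushAdj f').counit.app ((EtCoh.pull g').obj F))).hom
      (EtCore.Hpull f' ((EtCoh.push f').obj ((EtCoh.pull g').obj F)) q
        (((EtCoh.HF Y' q).map (EtCoh.baseChange0 f g f' g' w F)).hom (EtCore.Hpull g ((EtCoh.push f).obj F) q ζ)))
  refine (Hpull_map g' ((EtCoh.pullPushAdj f).counit.app F) q _).trans ?_
  refine Eq.trans ?_ (congrArg _ (Hpull_map f' (EtCoh.baseChange0 f g f' g' w F) q _)).symm
  refine Eq.trans (congrArg _ (Hpull_comp g' f ((EtCoh.push f).obj F) q ζ)) ?_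
  refine Eq.trans ?_ (congrArg _ (congrArg _ ((Hpull_comp f' g ((EtCoh.push f).obj F) q ζ).trans
    (congrArg _ (Hpull_congr w ((EtCoh.push f).obj F) q ζ))))).symm
  have k1 := congrArg (EtCoh.HF X' q).map (coherence f g f' g' w F)
  rw [Functor.map_comp, Functor.map_comp, Functor.map_comp, Functor.map_comp] at k1
  exact (congr($k1 (EtCore.Hpull (g' ≫ f) ((EtCoh.push f).obj F) q ζ))).symm

end Groth.Agent.S14389
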