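import Groth.Statements.S0171
import Groth.Agent.H05EGA4.EtCl.Comp
import Groth.Agent.H15Site.IntDesc.PushH
import Groth.Agent.H18Et.Vanishing
import Groth.Agent.H9Hens.SepClosed
-- import your own Groth.Agent.* helpers here

set_option backward.isDefEq.respectTransparency false
set_option backward.isDefEq.respectTransparency.types false

set_option autoImplicit false
universe u
open CategoryTheory CategoryTheory.Limits AlgebraicGeometry Opposite
open EtPBC

namespace Groth.Agent.S0171

/-- K separably closed, X of finite type over K, F an abelian sheaf on X_et whose support consists of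
closed points. Then H^q(X, F) = 0 for q > 0. (The source also shows F is globally generated; not
stated here.) -/
theorem result {K : Type u} [Field K] [IsSepClosed K] (X : Scheme.{u})
    (a : X ⟶ Spec (CommRingCat.of K)) [LocallyOfFiniteType a] [QuasiCompact a]
    (F : EtCoh.Ab X) (hF : ∀ x ∈ EtPBC.supp F, IsClosed ({x} : Set X)) (q : ℕ) (hq : 0 < q) :
    Subsingleton (EtCoh.H X F q) := by
  haveI : IsLocallyNoetherian X := LocallyOfFiniteType.isLocallyNoetherian a
  haveI : CompactSpace X := QuasiCompact.compactSpace_of_compactSpace a
  haveI : AlgebraicGeometry.IsNoetherian X := {}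
  obtain ⟨e⟩ := H05EGA4.EtCl.nonempty_iso_coprod_closed F fun V s v hv => hF _ (by
    rw [H18Et.supp_eq_iUnion]
    exact Set.mem_iUnion₂.2 ⟨V, s, v, hv, rfl⟩)
  suffices h : Subsingleton (EtCoh.H X (∐ fun k => H05EGA4.EtCl.compObj F k) q) by
    refine subsingleton_of_forall_eq 0 fun x => ?_
    rw [← Sheaf.H.map_id_apply (F := F) x, ← e.hom_inv_id, Sheaf.H.map_comp_apply,
      h.elim (Sheaf.H.map e.hom q x) 0, map_zero]
  refine H05EGA4.EtCl.subsingleton_H_coprod _ q fun k => ?_
  haveI : IsClosedImmersion (X.fromSpecResidueField k.down.1) :=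
    isClosed_singleton_iff_isClosedImmersion.1 k.down.2
  haveI : IsSepClosed (X.residueField k.down.1) := by
    let φ : CommRingCat.of K ⟶ X.residueField k.down.1 :=
      Spec.preimage (X.fromSpecResidueField k.down.1 ≫ a)
    have hφ : φ.hom.FiniteType := by
      have h : LocallyOfFiniteType (Spec.map φ) := by
        rw [Spec.map_preimage]; infer_instance
      exact (HasRingHomProperty.Spec_iff (P := @LocallyOfFiniteType)).1 h
    letI := φ.hom.toAlgebra
    haveI : Algebra.FiniteType K (X.residueField k.down.1) := hφ
    haveI : Module.Finite K (X.residueField k.down.1) := finite_of_finite_type_of_isJacobsonRing K _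
    haveI : Algebra.IsAlgebraic K (X.residueField k.down.1) := Algebra.IsAlgebraic.of_finite K _
    exact H9Hens.isSepClosed_of_isAlgebraic K
  haveI : IsSepClosed (IsLocalRing.ResidueField (X.residueField k.down.1)) :=
    H9Hens.isSepClosed_of_isAlgebraic (X.residueField k.down.1)
  obtain ⟨eH⟩ := H15Site.IntDesc.nonempty_H_push (X.fromSpecResidueField k.down.1)
    ((EtCoh.pull (X.fromSpecResidueField k.down.1)).obj F) q
  haveI := H18Et.subsingleton_H_of_surjective
    (fun _ _ φ _ => H18Et.surjective_app_top_of_strictlyHenselian (X.residueField k.down.1) φ)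
    ((EtCoh.pull (X.fromSpecResidueField k.down.1)).obj F) hq
  exact eH.addCommGroupIsoToAddEquiv.injective.subsingleton

end Groth.Agent.S0171
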