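import Groth.Statements.S6185
import Groth.Agent.H13Desc.BigExact
import Groth.Agent.H10Coh.ExtMap
import Groth.Prelude.Def_EtCore

set_option autoImplicit false
open CategoryTheory CategoryTheory.Limits AlgebraicGeometry Opposite
universe u
open BigSite

namespace Groth.Agent.S6185


noncomputable def e0 (X : Scheme.{u}) :
    (constantSheaf X.smallEtaleTopology AddCommGrpCat.{u + 1}).obj (AddCommGrpCat.of (ULift.{u + 1} ℤ)) ⟶
      (BigSite.resEt Scheme.etalePrecoverage X).obj
        ((constantSheaf (QuotSh.J Scheme.etalePrecoverage X) AddCommGrpCat.{u + 1}).obj (AddCommGrpCat.of (ULift.{u + 1} ℤ))) :=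
  ((EtCore.constAdj X).homEquiv _ _).symm
    ((constantSheafAdj (QuotSh.J Scheme.etalePrecoverage X) AddCommGrpCat.{u + 1}
      (Over.mkIdTerminal : IsTerminal ((EtFppf.a X).obj (EtCoh.top X)))).unit.app _)

theorem bijective_e0 (X : Scheme.{u}) (F : BigSite.Ab Scheme.etalePrecoverage X) :
    Function.Bijective fun φ : (constantSheaf (QuotSh.J Scheme.etalePrecoverage X) AddCommGrpCat.{u + 1}).obj
        (AddCommGrpCat.of (ULift.{u + 1} ℤ)) ⟶ F =>
      e0 X ≫ (BigSite.resEt Scheme.etalePrecoverage X).map φ := by
  let adjB := constantSheafAdj (QuotSh.J Scheme.etalePrecoverage X) AddCommGrpCat.{u + 1}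
    (Over.mkIdTerminal : IsTerminal ((EtFppf.a X).obj (EtCoh.top X)))
  have h : (fun φ : (constantSheaf (QuotSh.J Scheme.etalePrecoverage X) AddCommGrpCat.{u + 1}).obj
        (AddCommGrpCat.of (ULift.{u + 1} ℤ)) ⟶ F =>
      e0 X ≫ (BigSite.resEt Scheme.etalePrecoverage X).map φ) =
      ((adjB.homEquiv _ F).trans ((EtCore.constAdj X).homEquiv _
        ((BigSite.resEt Scheme.etalePrecoverage X).obj F)).symm : _ ≃ _) := by
    funext φ
    rw [e0, ← Adjunction.homEquiv_naturality_right_symm]
    show _ = ((EtCore.constAdj X).homEquiv _ ((BigSite.resEt Scheme.etalePrecoverage X).obj F)).symm (adjB.homEquiv _ F φ)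
    rw [Adjunction.homEquiv_unit]
    rfl
  rw [h]
  exact Equiv.bijective _


/-- For a scheme X and an abelian sheaf F on the big etale site of X, the cohomology groups H^p(X_et,
F|) of the restriction of F to the small etale site and H^p of F on the big etale site are
isomorphic for every p. Existence of an additive isomorphism only (the published statement asserts
that the canonical comparison homomorphism is an isomorphism; that map is not named here). -/
theorem result (X : Scheme.{u})
    (F : BigSite.Ab Scheme.etalePrecoverage X) (p : ℕ) :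
    Nonempty (EtCoh.H X ((BigSite.resEt Scheme.etalePrecoverage X).obj F) p ≃+
      BigSite.H Scheme.etalePrecoverage X F p) := by
  obtain ⟨h1, h2⟩ := Groth.Agent.H13Desc.BigExact.resEt_exact X
  exact ⟨(Groth.Agent.H10Coh.extMapEquiv (BigSite.resEt Scheme.etalePrecoverage X) (e0 X) (bijective_e0 X)
    (fun J _ n => by
      haveI := Groth.Agent.H13Desc.BigExact.injective_resEt Scheme.etalePrecoverage J
      exact ⟨fun a b => by rw [Abelian.Ext.eq_zero_of_injective a, Abelian.Ext.eq_zero_of_injective b]⟩) p F).symm⟩

end Groth.Agent.S6185
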