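import Groth.Statements.S6687
import Groth.Agent.H13Desc.BigRes
import Groth.Agent.S6185

set_option autoImplicit false
universe u
open CategoryTheory CategoryTheory.Limits AlgebraicGeometry Opposite
open BigSite

namespace Groth.Agent.S6687

/-- Let f : T → S be a morphism of schemes, F an abelian sheaf on the small etale site of S and n ≥ 0.
Write π_S⁻¹ F for the pullback of F to the big etale site of S. Then the cohomology of π_S⁻¹ F over
the object (T → S) of the big site is isomorphic to H^n(T_et, f⁻¹ F). (Existence of an isomorphism
of abelian groups only; the published statement identifies the two through the restriction of π_S⁻¹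
F to the small etale site of T, which is f⁻¹ F.) -/
theorem result {T S : Scheme.{u}} (f : T ⟶ S) (n : ℕ) (F : EtCoh.Ab S) :
    Nonempty (BigSite.HU Scheme.etalePrecoverage ((BigSite.piEtPull Scheme.etalePrecoverage S).obj F) n (Over.mk f) ≃+
      EtCoh.H T ((EtCoh.pull f).obj F) n) := by
  obtain ⟨e⟩ := Groth.Agent.S6185.result T ((BigSite.pullBig Scheme.etalePrecoverage f AddCommGrpCat.{u + 1}).obj
    ((BigSite.piEtPull Scheme.etalePrecoverage S).obj F)) n
  exact ⟨e.symm.trans (((Abelian.extFunctorObj _ n).mapIso
    (Groth.Agent.H13Desc.BigRes.resPiIso f F)).addCommGroupIsoToAddEquiv)⟩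

end Groth.Agent.S6687
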