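import Groth.Statements.S0687
import Groth.Agent.H15Site.Shriek.EtaleIso
import Groth.Agent.H15Site.Shriek.Comp

set_option autoImplicit false
set_option linter.style.haveILetI false
set_option linter.overlappingInstances false
set_option backward.isDefEq.respectTransparency false
set_option backward.isDefEq.respectTransparency.types false
open CategoryTheory CategoryTheory.Limits AlgebraicGeometry Opposite
universe u
open EtShriek

namespace Groth.Agent.S0687

/-- Let k be a field, j : X → X' an open immersion into a scheme X' proper over k, and p : X → Spec k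
the composite of j with the structure morphism of X', with p separated and locally of finite type.
Then for every abelian sheaf F on X_ét the group H^0_c(X, F) of sections with compact support (the
global sections of F whose support is proper over k) is isomorphic to the group of global sections
H^0(X', j_!F) of the extension by zero of F. (Only the existence of an isomorphism of groups is
asserted; the published statement gives a canonical one.) -/
theorem result {k : Type u} [Field k] {X Xb : Scheme.{u}} (j : X ⟶ Xb)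
    [IsOpenImmersion j] (pb : Xb ⟶ Spec (CommRingCat.of k)) [IsProper pb]
    (p : X ⟶ Spec (CommRingCat.of k)) (hp : p = j ≫ pb) [IsSeparated p] [LocallyOfFiniteType p]
    [EtShriek.JCont j] (F : EtCoh.Ab X) :
    Nonempty ((EtShriek.H0c p F) ≃+ EtCoh.sect ((EtShriek.extZero j).obj F) (EtCoh.top Xb)) := by
  subst hp
  let e : Groth.Agent.H15Site.Shriek.shriek (j ≫ pb) ≅ EtShriek.extZero j ⋙ EtCoh.push pb :=
    (Groth.Agent.H15Site.Shriek.shriekIso (j ≫ pb)).symm ≪≫
      (Groth.Agent.H15Site.Shriek.lowerShriekCompIso j pb).symm ≪≫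
      Functor.isoWhiskerRight (Groth.Agent.H15Site.Shriek.extZeroIso j).symm _ ≪≫
      Functor.isoWhiskerLeft _ (Groth.Agent.H15Site.Shriek.shriekPushIso pb)
  let S := Spec (CommRingCat.of k)
  let i₁ : (Groth.Agent.H15Site.Shriek.shriek (j ≫ pb) ⋙ EtCore.gsec S).obj F ≅
      (EtCore.gsec Xb).obj ((EtShriek.extZero j).obj F) :=
    (EtCore.gsec S).mapIso (e.app F) ≪≫ (EtCore.pushGsecIso pb).app ((EtShriek.extZero j).obj F)
  let φ : EtCoh.sect F ((EtCoh.bc (j ≫ pb)).obj (EtCoh.top S)) ≃+ EtCoh.sect F (EtCoh.top X) :=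
    (F.obj.mapIso (EtCore.bcTopIso (j ≫ pb)).op.symm).addCommGroupIsoToAddEquiv
  have hsq : IsPullback (EtCore.bcTopIso (j ≫ pb)).inv.left (j ≫ pb)
      (prV (j ≫ pb) (EtCoh.top S)) (𝟙 S) := by
    haveI : IsIso (EtCore.bcTopIso (j ≫ pb)).inv.left :=
      inferInstanceAs (IsIso ((Scheme.Etale.forget X ⋙ CategoryTheory.Over.forget X).map (EtCore.bcTopIso (j ≫ pb)).inv))
    haveI : IsIso (𝟙 S) := IsIso.id S
    refine IsPullback.of_horiz_isIso ⟨?_⟩
    have h1 := pullback.condition (f := (EtCoh.top S).hom) (g := j ≫ pb)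
    have h2 := MorphismProperty.Over.w (EtCore.bcTopIso (j ≫ pb)).inv
    calc (EtCore.bcTopIso (j ≫ pb)).inv.left ≫ pullback.fst (EtCoh.top S).hom (j ≫ pb)
        = (EtCore.bcTopIso (j ≫ pb)).inv.left ≫ (pullback.fst (EtCoh.top S).hom (j ≫ pb) ≫ (EtCoh.top S).hom) :=
          congrArg (_ ≫ ·) (Category.comp_id _).symm
      _ = ((EtCore.bcTopIso (j ≫ pb)).inv.left ≫ pullback.snd (EtCoh.top S).hom (j ≫ pb)) ≫ j ≫ pb := by
          rw [h1, Category.assoc]
      _ = 𝟙 X ≫ j ≫ pb := congrArg (· ≫ j ≫ pb) h2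
      _ = (j ≫ pb) ≫ 𝟙 S := by rw [Category.id_comp, Category.comp_id]
  have hsq' : IsPullback (EtCore.bcTopIso (j ≫ pb)).hom.left (prV (j ≫ pb) (EtCoh.top S)) (j ≫ pb) (𝟙 S) := by
    haveI : IsIso (EtCore.bcTopIso (j ≫ pb)).hom.left :=
      inferInstanceAs (IsIso ((Scheme.Etale.forget X ⋙ CategoryTheory.Over.forget X).map (EtCore.bcTopIso (j ≫ pb)).hom))
    haveI : IsIso (𝟙 S) := IsIso.id S
    refine IsPullback.of_horiz_isIso ⟨?_⟩
    have h1 : (EtCore.bcTopIso (j ≫ pb)).inv.left ≫ prV (j ≫ pb) (EtCoh.top S) = j ≫ pb :=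
      hsq.w.trans (Category.comp_id _)
    have h2 : (EtCore.bcTopIso (j ≫ pb)).hom.left ≫ (EtCore.bcTopIso (j ≫ pb)).inv.left = 𝟙 _ :=
      congrArg (fun k => k.left) (EtCore.bcTopIso (j ≫ pb)).hom_inv_id
    calc (EtCore.bcTopIso (j ≫ pb)).hom.left ≫ (j ≫ pb)
        = (EtCore.bcTopIso (j ≫ pb)).hom.left ≫ (EtCore.bcTopIso (j ≫ pb)).inv.left ≫ prV (j ≫ pb) (EtCoh.top S) :=
          congrArg (_ ≫ ·) h1.symm
      _ = ((EtCore.bcTopIso (j ≫ pb)).hom.left ≫ (EtCore.bcTopIso (j ≫ pb)).inv.left) ≫ prV (j ≫ pb) (EtCoh.top S) :=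
          (Category.assoc _ _ _).symm
      _ = prV (j ≫ pb) (EtCoh.top S) := (congrArg (· ≫ _) h2).trans (Category.id_comp _)
      _ = prV (j ≫ pb) (EtCoh.top S) ≫ 𝟙 S := (Category.comp_id _).symm
  have hH0 : ∀ s, s ∈ EtShriek.H0c (j ≫ pb) F ↔
      ClSub.IsProperOver (j ≫ pb) (sectSupp F (EtCoh.top X) s) := by
    intro s
    refine ⟨fun h => ?_, fun h => AddSubgroup.subset_closure ⟨_, subset_rfl, h⟩⟩
    induction h using AddSubgroup.closure_induction with
    | mem x hx => exact (Groth.Agent.H15Site.Shriek.hasProperSupport_iff F _ x).1 hx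
    | zero =>
      rw [Groth.Agent.H15Site.Shriek.sectSupp_zero]
      exact Groth.Agent.H15Site.Shriek.isProperOver_empty _
    | add a b _ _ ha hb =>
      refine Groth.Agent.LeadProper.isProperOver_mono
        (Groth.Agent.LeadProper.isProperOver_iUnion _ (fun t : Bool => bif t then sectSupp F (EtCoh.top X) a else sectSupp F (EtCoh.top X) b)
          (fun t => by cases t <;> assumption)) (Groth.Agent.H18Et.isClosed_sectSupp F (EtCoh.top X) _) fun x hx => ?_
      by_contra hn
      simp only [Set.mem_iUnion, Bool.exists_bool, cond_true, cond_false, not_or] at hn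
      have h0 : x ∉ sectSupp F (EtCoh.top X) (0 - b) := Groth.Agent.S0728.notMem_supp_sub F (U := EtCoh.top X) _ _ x
        (by rw [Groth.Agent.H15Site.Shriek.sectSupp_zero]; simp) hn.1
      exact Groth.Agent.S0728.notMem_supp_sub F (U := EtCoh.top X) a (0 - b) x hn.2 h0 (by simpa using hx)
    | neg a _ ha =>
      refine Groth.Agent.LeadProper.isProperOver_mono ha (Groth.Agent.H18Et.isClosed_sectSupp F (EtCoh.top X) _) fun x hx => ?_
      by_contra hn
      exact Groth.Agent.S0728.notMem_supp_sub F (U := EtCoh.top X) 0 a x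
        (by rw [Groth.Agent.H15Site.Shriek.sectSupp_zero]; simp) hn (by simpa using hx)
  have hmem : ∀ s, s ∈ shriekSubgroup (j ≫ pb) F (EtCoh.top S) ↔ φ s ∈ EtShriek.H0c (j ≫ pb) F := by
    intro s
    rw [Groth.Agent.H15Site.Shriek.mem_iff, hH0]
    constructor
    · intro h
      rw [show sectSupp F _ (φ s) = _ from Groth.Agent.H15Site.Shriek.sectSupp_map F (EtCore.bcTopIso (j ≫ pb)).inv s]
      exact Groth.Agent.H15Site.Shriek.isProperOver_baseChange hsq h
    · intro h
      have e : s = F.obj.map (EtCore.bcTopIso (j ≫ pb)).hom.op (φ s) := (φ.symm_apply_apply s).symm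
      rw [show sectSupp F _ s = _ from (congrArg (sectSupp F _) e).trans
        (Groth.Agent.H15Site.Shriek.sectSupp_map F (EtCore.bcTopIso (j ≫ pb)).hom (φ s))]
      exact Groth.Agent.H15Site.Shriek.isProperOver_baseChange hsq' h
  let ψ : (shriekSubgroup (j ≫ pb) F (EtCoh.top S)) ≃+ (EtShriek.H0c (j ≫ pb) F) :=
    { toFun := fun s => ⟨φ s.1, (hmem s.1).1 s.2⟩
      invFun := fun s => ⟨φ.symm s.1, (hmem _).2 (by rw [φ.apply_symm_apply]; exact s.2)⟩
      left_inv := fun s => Subtype.ext (φ.symm_apply_apply _)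
      right_inv := fun s => Subtype.ext (φ.apply_symm_apply _)
      map_add' := fun a b => Subtype.ext (map_add φ a.1 b.1) }
  exact ⟨ψ.symm.trans i₁.addCommGroupIsoToAddEquiv⟩

end Groth.Agent.S0687
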