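import Groth.Statements.S0728
import Groth.Agent.H18Et.Support
import Groth.Agent.H18Et.AffineCriterion
import Mathlib.AlgebraicGeometry.Morphisms.FormallyUnramified

set_option autoImplicit false
open CategoryTheory CategoryTheory.Limits AlgebraicGeometry Opposite
universe u
open EtShriek

namespace Groth.Agent.S0728

open Groth.Agent.H18Et Groth.Agent.H18Et.AffineCriterion

theorem spec_field_hom_eq {K : CommRingCat.{u}} {A B : Scheme.{u}} (φ : A ⟶ B) {x y : A} (h : x = y)
    (h1 : A.residueField x ⟶ K) (h2 : A.residueField y ⟶ K)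
    (hφ : Function.Bijective (φ.residueFieldMap x))
    (e : (Spec.map h1 ≫ A.fromSpecResidueField x) ≫ φ = (Spec.map h2 ≫ A.fromSpecResidueField y) ≫ φ) :
    Spec.map h1 ≫ A.fromSpecResidueField x = Spec.map h2 ≫ A.fromSpecResidueField y := by
  subst h
  have : IsIso (φ.residueFieldMap x) := (ConcreteCategory.isIso_iff_bijective _).2 hφ
  rw [Category.assoc, Category.assoc, ← φ.SpecMap_residueFieldMap_fromSpecResidueField x,
    ← Category.assoc, ← Category.assoc, cancel_mono, ← Spec.map_comp, ← Spec.map_comp] at e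
  rw [(cancel_epi _).1 (Spec.map_injective e)]

theorem lift_eq_diag {A B C T : Scheme.{u}} (φ : A ⟶ B) (a b : C ⟶ A) (el : a ≫ φ = b ≫ φ)
    (p : T ⟶ C) (h : p ≫ a = p ≫ b) :
    p ≫ pullback.lift a b el = (p ≫ a) ≫ pullback.diagonal φ := by
  apply pullback.hom_ext
  · simp only [Category.assoc, pullback.lift_fst, pullback.diagonal_fst, Category.comp_id]
  · simp only [Category.assoc, pullback.lift_snd, pullback.diagonal_snd, Category.comp_id, h]

theorem eq_of_fac_diag {A B C T : Scheme.{u}} (φ : A ⟶ B) (a b : C ⟶ A) (el : a ≫ φ = b ≫ φ)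
    (p : T ⟶ C) (g : T ⟶ A) (h : g ≫ pullback.diagonal φ = p ≫ pullback.lift a b el) :
    p ≫ a = p ≫ b := by
  have h1 := congrArg (fun f => f ≫ pullback.fst φ φ) h
  have h2 := congrArg (fun f => f ≫ pullback.snd φ φ) h
  simp only [Category.assoc, pullback.lift_fst, pullback.diagonal_fst, pullback.lift_snd,
    pullback.diagonal_snd, Category.comp_id] at h1 h2
  rw [← h1, ← h2]

variable {X : Scheme.{u}} (F : EtCoh.Ab X)

theorem map_comp' {A B C : X.Etale} (f : A ⟶ B) (g : B ⟶ C) (s : EtCoh.sect F C) :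
    F.obj.map (f ≫ g).op s = F.obj.map f.op (F.obj.map g.op s) := by
  rw [op_comp, Functor.map_comp]; rfl

theorem map_openHom_eq_zero {U : X.Etale} (s : EtCoh.sect F U) (O : U.left.Opens)
    (h : (O : Set U.left) ⊆ (EtShriek.sectSupp F U s)ᶜ) : F.obj.map (openHom U O).op s = 0 := by
  refine (map_eq_zero_iff_range_subset F s _).2 ?_
  rintro _ ⟨v, rfl⟩
  exact h v.2

theorem eq_zero_of_supp_empty {U : X.Etale} (s : EtCoh.sect F U)
    (h : ∀ x, x ∉ EtShriek.sectSupp F U s) : s = 0 := by
  have := (map_eq_zero_iff_range_subset F s (𝟙 U)).2 fun x _ => h x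
  simpa using this

theorem supp_map_subset {U V : X.Etale} (g : V ⟶ U) (s : EtCoh.sect F U) :
    EtShriek.sectSupp F V (F.obj.map g.op s) ⊆ g.left.base ⁻¹' EtShriek.sectSupp F U s := by
  intro v hv
  by_contra h
  let O : V.left.Opens := ⟨g.left.base ⁻¹' (EtShriek.sectSupp F U s)ᶜ,
    (isClosed_sectSupp F U s).isOpen_compl.preimage g.left.continuous⟩
  refine hv (openObj V O) (openHom V O) ⟨⟨v, h⟩, rfl⟩ ?_
  rw [← map_comp']
  refine (map_eq_zero_iff_range_subset F s _).2 ?_
  rintro _ ⟨w, rfl⟩
  exact w.2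

theorem notMem_supp_sub {U : X.Etale} (s t : EtCoh.sect F U) (x : U.left)
    (hs : x ∉ EtShriek.sectSupp F U s) (ht : x ∉ EtShriek.sectSupp F U t) :
    x ∉ EtShriek.sectSupp F U (s - t) := by
  intro hx
  let O : U.left.Opens := ⟨(EtShriek.sectSupp F U s)ᶜ ∩ (EtShriek.sectSupp F U t)ᶜ,
    (isClosed_sectSupp F U s).isOpen_compl.inter (isClosed_sectSupp F U t).isOpen_compl⟩
  refine hx (openObj U O) (openHom U O) ⟨⟨x, hs, ht⟩, rfl⟩ ?_
  rw [map_sub, map_openHom_eq_zero F s O Set.inter_subset_left,
    map_openHom_eq_zero F t O Set.inter_subset_right, sub_zero]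

theorem compat {U U' : X.Etale} (φ : U' ⟶ U) (Z : Set ↥U.left)
    (hinj : Set.InjOn φ.left.base (φ.left.base ⁻¹' Z))
    (hres : ∀ x ∈ φ.left.base ⁻¹' Z, Function.Bijective (φ.left.residueFieldMap x))
    (s : EtCoh.sect F U') (hs : EtShriek.sectSupp F U' s ⊆ φ.left.base ⁻¹' Z)
    {W : X.Etale} (a b : W ⟶ U') (e : a ≫ φ = b ≫ φ) :
    F.obj.map a.op s = F.obj.map b.op s := by
  rw [← sub_eq_zero]
  refine eq_zero_of_supp_empty F _ fun w => ?_
  have el : a.left ≫ φ.left = b.left ≫ φ.left := congrArg (fun f : W ⟶ U => f.left) e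
  have ew : φ.left.base (a.left.base w) = φ.left.base (b.left.base w) := by
    simpa using congrArg (fun f : W.left ⟶ U.left => f.base w) el
  by_cases hw : a.left.base w ∈ φ.left.base ⁻¹' Z
  · have hw' : b.left.base w ∈ φ.left.base ⁻¹' Z := by rwa [Set.mem_preimage, ← ew]
    have hab : a.left.base w = b.left.base w := hinj hw hw' ew
    have := etale_left φ
    let Δ := pullback.diagonal φ.left
    let l : W.left ⟶ pullback φ.left φ.left := pullback.lift a.left b.left el
    let O : W.left.Opens := l ⁻¹ᵁ Δ.opensRange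
    have hpt : W.left.fromSpecResidueField w ≫ a.left = W.left.fromSpecResidueField w ≫ b.left := by
      rw [← Scheme.Hom.SpecMap_residueFieldMap_fromSpecResidueField,
        ← Scheme.Hom.SpecMap_residueFieldMap_fromSpecResidueField]
      refine spec_field_hom_eq φ.left hab _ _ (hres _ hw) ?_
      rw [Scheme.Hom.SpecMap_residueFieldMap_fromSpecResidueField,
        Scheme.Hom.SpecMap_residueFieldMap_fromSpecResidueField, Category.assoc, Category.assoc, el]
    have hl : W.left.fromSpecResidueField w ≫ l = (W.left.fromSpecResidueField w ≫ a.left) ≫ Δ := by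
      exact lift_eq_diag φ.left a.left b.left el (W.left.fromSpecResidueField w) hpt
    obtain ⟨p⟩ := (inferInstance : Nonempty (Spec (W.left.residueField w)))
    have hwO : w ∈ O := by
      refine ⟨(W.left.fromSpecResidueField w ≫ a.left).base p, ?_⟩
      rw [← Scheme.Hom.comp_apply, ← hl, Scheme.Hom.comp_apply,
        Scheme.fromSpecResidueField_apply]
    intro hd
    refine hd (openObj W O) (openHom W O) ⟨⟨w, hwO⟩, rfl⟩ ?_
    rw [map_sub, ← map_comp', ← map_comp', sub_eq_zero]
    have hO : O.ι ≫ a.left = O.ι ≫ b.left := by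
      have hr : Set.range (O.ι ≫ l).base ⊆ Set.range Δ.base := by
        rintro _ ⟨v, rfl⟩; exact v.2
      exact eq_of_fac_diag φ.left a.left b.left el O.ι _
        (IsOpenImmersion.lift_fac Δ (O.ι ≫ l) hr)
    rw [show openHom W O ≫ a = openHom W O ≫ b from MorphismProperty.Over.Hom.ext hO]
  · have hw' : b.left.base w ∉ φ.left.base ⁻¹' Z := by rwa [Set.mem_preimage, ← ew]
    exact notMem_supp_sub F _ _ w (fun h => hw (hs (supp_map_subset F a s h)))
      (fun h => hw' (hs (supp_map_subset F b s h)))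

/-- In the case where the inverse image of Z is Z' (so that the bijection is restriction): let phi : U'
-> U be a morphism of the small etale site of X and Z a closed subset of U such that phi restricted
to the inverse image Z' of Z is a bijection onto Z inducing isomorphisms of residue fields (so Z' ->
U is a closed immersion with image Z, for the reduced structures). Then restriction along phi is a
bijection from the sections of F over U supported in Z to the sections of F over U' supported in Z'. -/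
theorem result {X : Scheme.{u}} (F : EtCoh.Ab X) {U U' : X.Etale}
    (φ : U' ⟶ U) (Z : Set ↥U.left) (hZ : IsClosed Z)
    (hbij : Set.BijOn φ.left.base (φ.left.base ⁻¹' Z) Z)
    (hres : ∀ x ∈ φ.left.base ⁻¹' Z, Function.Bijective (φ.left.residueFieldMap x)) :
    Set.BijOn (F.obj.map φ.op) {s | EtShriek.sectSupp F U s ⊆ Z}
      {s' | EtShriek.sectSupp F U' s' ⊆ φ.left.base ⁻¹' Z} := by
  refine ⟨fun s hs => (supp_map_subset F φ s).trans (Set.preimage_mono hs), ?_, ?_⟩
  · intro s1 h1 s2 h2 he
    rw [← sub_eq_zero]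
    refine eq_zero_of_supp_empty F _ fun x hx => ?_
    by_cases hxZ : x ∈ Z
    · obtain ⟨x', -, hx'⟩ := hbij.surjOn hxZ
      exact hx U' φ ⟨x', hx'⟩ (by rw [map_sub, he, sub_self])
    · exact notMem_supp_sub F _ _ x (fun h => hxZ (h1 h)) (fun h => hxZ (h2 h)) hx
  · intro s' hs'
    let O : U.left.Opens := ⟨Zᶜ, hZ.isOpen_compl⟩
    let Y : Bool → X.Etale := fun i => Bool.rec (openObj U O) U' i
    let π : ∀ i, Y i ⟶ U := fun i => Bool.rec (motive := fun i => Y i ⟶ U) (openHom U O) φ i
    have hmem : Sieve.generate (Presieve.ofArrows Y π) ∈ X.smallEtaleTopology U := by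
      refine mem_etale_iff.2 fun x => ?_
      by_cases hxZ : x ∈ Z
      · obtain ⟨x', -, hx'⟩ := hbij.surjOn hxZ
        exact ⟨U', φ, x', Sieve.le_generate _ _ _ (Presieve.ofArrows.mk true), etale_left φ, hx'⟩
      · exact ⟨openObj U O, openHom U O, ⟨x, hxZ⟩,
          Sieve.le_generate _ _ _ (Presieve.ofArrows.mk false), etale_left _, rfl⟩
    have hF := (isSheaf_iff_isSheaf_of_type _ _).1
      ((sheafCompose X.smallEtaleTopology (forget AddCommGrpCat.{u + 1})).obj F).2
    have hsh := (Presieve.isSheafFor_iff_generate _).2 (hF _ hmem)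
    let x : ∀ i, EtCoh.sect F (Y i) := fun i =>
      Bool.rec (motive := fun i => EtCoh.sect F (Y i)) 0 s' i
    have hzero : ∀ {W : X.Etale} (a : W ⟶ U') (b : W ⟶ openObj U O), a ≫ φ = b ≫ openHom U O →
        F.obj.map a.op s' = 0 := by
      intro W a b e
      refine (map_eq_zero_iff_range_subset F s' a).2 ?_
      rintro _ ⟨w, rfl⟩ hw
      have h3 : φ.left.base (a.left.base w) ∈ Z := hs' hw
      have h4 : φ.left.base (a.left.base w) = (b.left.base w).1 :=
        congrArg (fun f : W ⟶ U => f.left.base w) e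
      exact (b.left.base w).2 (h4 ▸ h3)
    obtain ⟨t, ht, -⟩ := (Presieve.isSheafFor_arrows_iff _ π).1 hsh x (by
      rintro (_ | _) (_ | _) W a b e
      · show F.obj.map a.op 0 = F.obj.map b.op 0
        rw [map_zero, map_zero]
      · show F.obj.map a.op 0 = F.obj.map b.op s'
        rw [map_zero, hzero b a e.symm]
      · show F.obj.map a.op s' = F.obj.map b.op 0
        rw [map_zero, hzero a b e]
      · exact compat F φ Z hbij.injOn hres s' hs' a b e)
    refine ⟨t, fun z hz => ?_, ht true⟩
    by_contra hzZ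
    exact hz (openObj U O) (openHom U O) ⟨⟨z, hzZ⟩, rfl⟩ (ht false)

end Groth.Agent.S0728
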