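import Groth.Statements.S0680
import Groth.Agent.H15Site.Shriek.Pred

set_option autoImplicit false
set_option linter.style.haveILetI false
set_option backward.isDefEq.respectTransparency false
set_option backward.isDefEq.respectTransparency.types false
open CategoryTheory CategoryTheory.Limits AlgebraicGeometry Opposite
universe u
open EtShriek

namespace Groth.Agent.S0680

open Groth.Agent.H15Site.Shriek

/-- Let f : X -> Y be locally of finite type and F an abelian sheaf on X_et. Assigning to V in Y_et the
sections of F over X x_Y V with support proper over V defines an abelian subsheaf of f_* F; here: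
the presheaf EtShriek.lowerShriekPre f F (generated by such sections, hereditarily under
restriction) satisfies the sheaf condition for the small etale topology. -/
theorem result {X Y : Scheme.{u}} (f : X ⟶ Y) [LocallyOfFiniteType f]
    (F : EtCoh.Ab X) :
    Presheaf.IsSheaf Y.smallEtaleTopology (EtShriek.lowerShriekPre f F) := by
  rw [Presheaf.isSheaf_iff_isSheaf_forget _ _ (forget AddCommGrpCat.{u + 1}), isSheaf_iff_isSheaf_of_type]
  intro V S hS x hx
  have hG := ((EtCoh.push f).obj F).property
  rw [Presheaf.isSheaf_iff_isSheaf_forget _ _ (forget AddCommGrpCat.{u + 1}), isSheaf_iff_isSheaf_of_type] at hG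
  let y : Presieve.FamilyOfElements (((EtCoh.push f).obj F).obj ⋙ forget AddCommGrpCat.{u + 1}) S.arrows :=
    fun W g hg => (x g hg).1
  have hy : y.Compatible := fun W₁ W₂ Z g₁ g₂ h₁ h₂ k₁ k₂ e => congrArg Subtype.val (hx g₁ g₂ k₁ k₂ e)
  obtain ⟨t, ht, huniq⟩ := hG S hS y hy
  have hmem : t ∈ shriekSubgroup f F V := by
    refine (mem_shriekSubgroup_iff F f V t).2 (shriekPred_of_covering F f t S hS fun W g hg => ?_)
    have e : F.obj.map ((EtCoh.bc f).map g).op t = (x g hg).1 := ht g hg
    rw [e]
    exact (mem_shriekSubgroup_iff F f W _).1 (x g hg).2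
  exact ⟨⟨t, hmem⟩, fun W g hg => Subtype.ext (ht g hg),
    fun z hz => Subtype.ext (huniq z.1 fun W g hg => congrArg Subtype.val (hz g hg))⟩

end Groth.Agent.S0680
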