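import Groth.Statements.S12464

set_option autoImplicit false
universe v' u' u
open CategoryTheory AlgebraicGeometry
open BigSite

namespace Groth.Agent.S12464


noncomputable def pullMapIso {S T S' T' : Scheme.{u}} (f : T ⟶ S) (g : S' ⟶ S) (g' : T' ⟶ T)
    (f' : T' ⟶ S') (hsq : IsPullback g' f' f g) :
    Over.map g ⋙ Over.pullback f ≅ Over.pullback f' ⋙ Over.map g' :=
  NatIso.ofComponents (fun U => Over.isoMk
    (((IsPullback.of_hasPullback U.hom f').paste_vert hsq.flip).isoPullback.symm) (by
      refine (Iso.inv_comp_eq _).2 ?_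
      exact ((IsPullback.of_hasPullback U.hom f').paste_vert hsq.flip).isoPullback_hom_snd.symm))
    (fun {U V} u => by
      ext : 1
      simp only [Over.comp_left, Over.isoMk_hom_left, Functor.comp_map, Over.map_map_left]
      rw [← cancel_mono ((IsPullback.of_hasPullback V.hom f').paste_vert hsq.flip).isoPullback.hom]
      apply Limits.pullback.hom_ext
      · simp
        rw [Limits.pullback.lift_fst, Limits.pullback.lift_fst, IsPullback.isoPullback_inv_fst_assoc]
      · simp
        rw [Limits.pullback.lift_snd, Limits.pullback.lift_snd_assoc]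
        exact (IsPullback.isoPullback_inv_snd _).symm)

noncomputable def bigBC {S T S' T' : Scheme.{u}} (K : Precoverage Scheme.{u}) (f : T ⟶ S) (g : S' ⟶ S)
    (g' : T' ⟶ T) (f' : T' ⟶ S') (hsq : IsPullback g' f' f g) (A : Type u') [Category.{v'} A] :
    BigSite.pushBig K f A ⋙ BigSite.pullBig K g A ≅ BigSite.pullBig K g' A ⋙ BigSite.pushBig K f' A :=
  NatIso.ofComponents (fun F => (fullyFaithfulSheafToPresheaf _ _).preimageIso
    (Functor.isoWhiskerRight (NatIso.op (pullMapIso f g g' f' hsq).symm) F.obj)) (fun h => by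
    ext X
    exact (h.hom.naturality _).symm)


/-- Let g' : T' → T, f' : T' → S', f : T → S, g : S' → S be a cartesian square of schemes. Then g_big⁻¹
∘ f_big,* ≅ f'_big,* ∘ g'_big⁻¹ as functors from sheaves on Sch/T to sheaves on Sch/S', both for the
big Zariski sites and for the big étale sites. (Existence of natural isomorphisms; the published one
sends both sides to U' ↦ F(U' ×_{S'} T').) -/
theorem result {S T S' T' : Scheme.{u}} (f : T ⟶ S) (g : S' ⟶ S) (g' : T' ⟶ T) (f' : T' ⟶ S') (hsq : IsPullback g' f' f g)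
    (A : Type u') [Category.{v'} A] :
    Nonempty (BigSite.pushBig Scheme.zariskiPrecoverage f A ⋙ BigSite.pullBig Scheme.zariskiPrecoverage g A ≅
        BigSite.pullBig Scheme.zariskiPrecoverage g' A ⋙ BigSite.pushBig Scheme.zariskiPrecoverage f' A) ∧
      Nonempty (BigSite.pushBig Scheme.etalePrecoverage f A ⋙ BigSite.pullBig Scheme.etalePrecoverage g A ≅
        BigSite.pullBig Scheme.etalePrecoverage g' A ⋙ BigSite.pushBig Scheme.etalePrecoverage f' A) := by
  exact ⟨⟨bigBC _ f g g' f' hsq A⟩, ⟨bigBC _ f g g' f' hsq A⟩⟩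

end Groth.Agent.S12464
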