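import Groth.Statements.S14622
import Groth.Agent.H18Et.StalkSets

set_option autoImplicit false
open CategoryTheory AlgebraicGeometry
universe u
open EtBase

namespace Groth.Agent.S14622

/-- Let g : Y' → Y be a morphism of schemes which is surjective on points. Then for every abelian sheaf
F on the small étale site of Y the unit F → g_* g⁻¹ F of the adjunction between inverse image and
direct image is a monomorphism. -/
theorem result {Y Y' : Scheme.{u}} (g : Y' ⟶ Y) [Surjective g]
    (F : EtCoh.Ab Y) : Mono ((EtCoh.pullPushAdj g).unit.app F) := by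
  refine Groth.Agent.H18Et.mono_of_stalk _ fun y => ?_
  obtain ⟨x, rfl⟩ := g.surjective y
  refine ⟨_, inferInstance, SeparableClosure.isSepClosed _, Groth.Agent.H18Et.geomPt x ≫ g, ?_, ?_⟩
  · rw [Scheme.Hom.comp_apply, Groth.Agent.H18Et.geomPt_base]
  · have : Mono ((EtCoh.pull g).map ((EtCoh.pullPushAdj g).unit.app F)) := (⟨_, (EtCoh.pullPushAdj g).left_triangle_components F⟩ : SplitMono _).mono
    rw [← AddCommGrpCat.mono_iff_injective]
    exact (Groth.Agent.H18Et.pull_map_stalk_iff _ g (MorphismProperty.monomorphisms _) _).1
      ((Groth.Agent.H18Et.mono_iff_stalk _).1 this _ _)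

end Groth.Agent.S14622
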