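import Groth.Statements.S5216
import Groth.Agent.H15Site.SheafEpi
import Mathlib.CategoryTheory.Functor.RegularEpi
import Mathlib.CategoryTheory.EffectiveEpi.Basic
import Mathlib.CategoryTheory.Limits.Types.Colimits

set_option linter.style.haveILetI false

set_option autoImplicit false
open CategoryTheory CategoryTheory.Limits
universe w v₁ u₁
open ShfCat

namespace Groth.Agent.S5216

/-- The case of the chaotic topology, i.e. for presheaves of sets on an arbitrary category: every
equivalence relation is universally effective (its quotient exists, the relation is the kernel pair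
of the quotient map, and that map is a universal effective epimorphism). -/
theorem result (C : Type u₁) [Category.{v₁} C]
    {R X : Cᵒᵖ ⥤ Type w} (p₁ p₂ : R ⟶ X) [IsEquivalenceRelation p₁ p₂] :
    IsUniversallyEffectiveEquivalenceRelation p₁ p₂ := by
  obtain ⟨e⟩ := IsEquivalenceRelation.nonempty_equivalenceRelation (p₁ := p₁) (p₂ := p₂)
  let rel : ∀ U, X.obj U → X.obj U → Prop := fun U => TypeCat.Rel.ofPair (p₁.app U) (p₂.app U)
  have jm : ∀ U : Cᵒᵖ, JointlyMono₂ (p₁.app U) (p₂.app U) := by
    refine fun U => ⟨fun Y f g h₁ h₂ => ?_⟩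
    ext y
    let P : Cᵒᵖ ⥤ Type w :=
      { obj := fun V => {q : R.obj V × R.obj V // p₁.app V q.1 = p₁.app V q.2 ∧ p₂.app V q.1 = p₂.app V q.2}
        map := fun k => ↾(fun q => ⟨(R.map k q.1.1, R.map k q.1.2),
          by simp [NatTrans.naturality_apply, q.2.1], by simp [NatTrans.naturality_apply, q.2.2]⟩) }
    let a : P ⟶ R := { app := fun V => ↾(fun q => q.1.1) }
    let b : P ⟶ R := { app := fun V => ↾(fun q => q.1.2) }
    have hab : a = b := e.right_cancellation a b (by ext V q; exact q.2.1) (by ext V q; exact q.2.2)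
    exact congr($(congr_app hab U) ⟨(f y, g y), ConcreteCategory.congr_hom h₁ y, ConcreteCategory.congr_hom h₂ y⟩)
  have heq : ∀ U, Equivalence (rel U) := by
    intro U
    haveI := jm U
    haveI : JointlyMono₂ (((evaluation Cᵒᵖ (Type w)).obj U).map p₁) (((evaluation Cᵒᵖ (Type w)).obj U).map p₂) := jm U
    exact TypeCat.equivalence_of_equivalenceRelation
      { toReflexiveRelation := e.toReflexiveRelation.map ((evaluation Cᵒᵖ (Type w)).obj U)
        s := (e.toSymmetricRelation.map ((evaluation Cᵒᵖ (Type w)).obj U)).s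
        symmetry₁ := (e.toSymmetricRelation.map ((evaluation Cᵒᵖ (Type w)).obj U)).symmetry₁
        symmetry₂ := (e.toSymmetricRelation.map ((evaluation Cᵒᵖ (Type w)).obj U)).symmetry₂
        c := (e.toTransitiveRelation.map ((evaluation Cᵒᵖ (Type w)).obj U)).c
        isLimit := (e.toTransitiveRelation.map ((evaluation Cᵒᵖ (Type w)).obj U)).isLimit
        t := (e.toTransitiveRelation.map ((evaluation Cᵒᵖ (Type w)).obj U)).t
        transitivity₁ := (e.toTransitiveRelation.map ((evaluation Cᵒᵖ (Type w)).obj U)).transitivity₁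
        transitivity₂ := (e.toTransitiveRelation.map ((evaluation Cᵒᵖ (Type w)).obj U)).transitivity₂ }
  let Q : Cᵒᵖ ⥤ Type w :=
    { obj := fun U => Quot (rel U)
      map := fun {U V} f => ↾(Quot.map (X.map f) (by
        rintro a b ⟨r, rfl, rfl⟩
        exact ⟨R.map f r, by simp [NatTrans.naturality_apply], by simp [NatTrans.naturality_apply]⟩))
      map_id := fun U => by ext x; induction x using Quot.ind; exact congrArg (Quot.mk _) (by simp)
      map_comp := fun f g => by ext x; induction x using Quot.ind; exact congrArg (Quot.mk _) (by simp) }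
  let π : X ⟶ Q := { app := fun U => ↾(Quot.mk _) }
  have hw : p₁ ≫ π = p₂ ≫ π := by
    ext U r; exact Quot.sound ⟨r, rfl, rfl⟩
  haveI hπ : Epi π := by
    haveI : ∀ U, Epi (π.app U) := fun U => (epi_iff_surjective _).2 (fun q => Quot.exists_rep q)
    exact NatTrans.epi_of_epi_app π
  have hk : IsKernelPair π p₁ p₂ := by
    refine IsPullback.of_forall_isPullback_app fun U => (Types.isPullback_iff _ _ _ _).2 ⟨?_, ?_, ?_⟩
    · exact congr_app hw U
    · rintro a b ⟨h₁, h₂⟩
      exact congr($((jm U).right_cancellation (Y := PUnit) (↾fun _ => a) (↾fun _ => b)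
        (by ext; exact h₁) (by ext; exact h₂)) PUnit.unit)
    · intro a b hab
      have : rel U a b := (heq U).eqvGen_iff.1 (Quot.eqvGen_exact hab)
      obtain ⟨r, hr₁, hr₂⟩ := this
      exact ⟨r, hr₁, hr₂⟩
  haveI : EffectiveEpi π := by
    haveI := IsRegularEpiCategory.regularEpiOfEpi π
    infer_instance
  refine ⟨⟨{ toEquivalenceRelation := e, B := Q, π := π, isKernelPair := hk, isPushout := ?_,
             universally_effectiveEpi_π := ?_ }⟩⟩
  · refine ⟨⟨hw⟩, ⟨PushoutCocone.IsColimit.mk _ (fun s => ?_) (fun s => ?_) (fun s => ?_) (fun s m hm _ => ?_)⟩⟩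
    · refine EffectiveEpi.desc π s.inl (fun {Z} g₁ g₂ h => ?_)
      obtain ⟨l, hl₁, hl₂⟩ := hk.exists_lift g₁ g₂ h
      have hs : s.inl = s.inr := by
        have := e.r ≫= s.condition
        simpa [← Category.assoc, e.reflexivity₁, e.reflexivity₂] using this
      rw [← hl₁, ← hl₂, Category.assoc, Category.assoc, s.condition, hs]
    · exact EffectiveEpi.fac _ _ _
    · have hs : s.inl = s.inr := by
        have := e.r ≫= s.condition
        simpa [← Category.assoc, e.reflexivity₁, e.reflexivity₂] using this
      exact (EffectiveEpi.fac _ _ _).trans hs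
    · rw [← cancel_epi π, hm, EffectiveEpi.fac]
  · intro X' Y' i₁ i₂ f' h
    haveI : Epi f' := by
      haveI : ∀ U, Epi (f'.app U) := fun U => by
        rw [epi_iff_surjective]
        intro y
        obtain ⟨x, hx⟩ := Quot.exists_rep (i₂.app U y)
        obtain ⟨z, hz, -⟩ := ((Types.isPullback_iff _ _ _ _).1 (h.map ((evaluation Cᵒᵖ (Type w)).obj U))).2.2 y x hx.symm
        exact ⟨z, hz⟩
      exact NatTrans.epi_of_epi_app f'
    haveI := IsRegularEpiCategory.regularEpiOfEpi f'
    infer_instance

end Groth.Agent.S5216
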