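import Groth.Statements.S5217
import Groth.Agent.H15Site.SheafEpi
import Groth.Agent.H15Site.UnivEpi
import Groth.Agent.S5216

set_option linter.style.haveILetI false
open CategoryTheory CategoryTheory.Limits Opposite

set_option autoImplicit false
open CategoryTheory CategoryTheory.Limits
universe w v₁ u₁
open ShfCat

namespace Groth.Agent.S5217

/-- In the category of sheaves of sets on a site, every equivalence relation is universally effective
(its quotient sheaf exists, the relation is the kernel pair of the quotient map, and that map is a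
universal effective epimorphism). Stated for sheaves valued in `Type w` whenever sheafification
exists. -/
theorem result {C : Type u₁} [Category.{v₁} C]
    (J : GrothendieckTopology C) [HasSheafify J (Type w)]
    {R X : Sheaf J (Type w)} (p₁ p₂ : R ⟶ X) [IsEquivalenceRelation p₁ p₂] :
    IsUniversallyEffectiveEquivalenceRelation p₁ p₂ := by
  obtain ⟨e⟩ := IsEquivalenceRelation.nonempty_equivalenceRelation (p₁ := p₁) (p₂ := p₂)
  let ι := sheafToPresheaf J (Type w)
  let adj := sheafificationAdjunction J (Type w)
  haveI : JointlyMono₂ (ι.map p₁) (ι.map p₂) := ⟨fun Y f g h₁ h₂ => by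
    apply (adj.homEquiv _ _).symm.injective
    apply e.right_cancellation
    · rw [← adj.homEquiv_naturality_right_symm, ← adj.homEquiv_naturality_right_symm, h₁]
    · rw [← adj.homEquiv_naturality_right_symm, ← adj.homEquiv_naturality_right_symm, h₂]⟩
  haveI : IsEquivalenceRelation (ι.map p₁) (ι.map p₂) := EquivalenceRelation.isEquivalenceRelation
    { toReflexiveRelation := e.toReflexiveRelation.map ι
      s := (e.toSymmetricRelation.map ι).s
      symmetry₁ := (e.toSymmetricRelation.map ι).symmetry₁
      symmetry₂ := (e.toSymmetricRelation.map ι).symmetry₂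
      c := (e.toTransitiveRelation.map ι).c
      isLimit := (e.toTransitiveRelation.map ι).isLimit
      t := (e.toTransitiveRelation.map ι).t
      transitivity₁ := (e.toTransitiveRelation.map ι).transitivity₁
      transitivity₂ := (e.toTransitiveRelation.map ι).transitivity₂ }
  obtain ⟨q⟩ := (Groth.Agent.S5216.result C (ι.map p₁) (ι.map p₂)).nonempty_universallyEffectiveEquivalenceRelation
  let cR := asIso (adj.counit.app R)
  let cX := asIso (adj.counit.app X)
  let a := presheafToSheaf J (Type w)
  let π : X ⟶ a.obj q.B := cX.inv ≫ a.map q.π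
  have h₁ : a.map (ι.map p₁) ≫ cX.hom = cR.hom ≫ p₁ := adj.counit.naturality p₁
  have h₂ : a.map (ι.map p₂) ≫ cX.hom = cR.hom ≫ p₂ := adj.counit.naturality p₂
  have hπ : a.map q.π ≫ (Iso.refl _).hom = cX.hom ≫ π := by simp [π]
  have hk : IsKernelPair π p₁ p₂ :=
    (q.isKernelPair.map a).of_iso cR cX cX (Iso.refl _) h₁ h₂ hπ hπ
  have hp : IsPushout p₁ p₂ π π :=
    (q.isPushout.map a).of_iso cR cX cX (Iso.refl _) h₁ h₂ hπ hπ
  haveI : Epi q.π := by
    haveI := Groth.Agent.H15Site.univEffEpi_effectiveEpi q.universally_effectiveEpi_π
    infer_instance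
  haveI : Epi π := epi_comp _ _
  exact ⟨⟨{ toEquivalenceRelation := e, B := a.obj q.B, π := π, isKernelPair := hk, isPushout := hp,
            universally_effectiveEpi_π := Groth.Agent.H15Site.sheaf_universally_effectiveEpi π }⟩⟩

end Groth.Agent.S5217
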