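import Groth.Statements.S3081
import Groth.Agent.H15Site.CoprodVK
import Groth.Agent.S5217

set_option autoImplicit false
universe u
open CategoryTheory
open SGA4

set_option linter.style.haveILetI false
set_option backward.isDefEq.respectTransparency false
open CategoryTheory.Limits


namespace Groth.Agent.S3081

open CategoryTheory.Limits in
/-- c): in the category of sheaves of u-small sets on a u-small site, every u-small family has a
coproduct which is disjoint and stable under base change, and every equivalence relation is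
effective with universally effective-epimorphic quotient map. -/
theorem result {C : Type u} [SmallCategory C] (J : GrothendieckTopology C) :
    SGA4.HasDisjointUniversalCoproducts.{u + 1, u} (Sheaf J (Type u)) ∧
    ∀ (R A : Sheaf J (Type u)) (p₁ p₂ : R ⟶ A), SGA4.IsEquivRel p₁ p₂ → SGA4.IsEffectiveUniversalEquivRel p₁ p₂ := by
  refine ⟨fun ι X => ⟨colimit.cocone (Discrete.functor X), colimit.isColimit _,
    H15Site.CoprodVK.coproductDisjoint X, (H15Site.CoprodVK.sheaf _ (colimit.isColimit _)).isUniversal⟩,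
    fun R A p₁ p₂ h => ?_⟩
  obtain ⟨r, hr₁, hr₂⟩ := (h A).2.refl (𝟙 A)
  obtain ⟨s, hs₁, hs₂⟩ := (h R).2.symm ⟨𝟙 R, Category.id_comp p₁, Category.id_comp p₂⟩
  obtain ⟨t, ht₁, ht₂⟩ := (h (pullback p₂ p₁)).2.trans
    (show ∃ f, f ≫ p₁ = pullback.fst p₂ p₁ ≫ p₁ ∧ f ≫ p₂ = pullback.fst p₂ p₁ ≫ p₂ from ⟨_, rfl, rfl⟩)
    (show ∃ f, f ≫ p₁ = pullback.fst p₂ p₁ ≫ p₂ ∧ f ≫ p₂ = pullback.snd p₂ p₁ ≫ p₂ from
      ⟨_, pullback.condition.symm, rfl⟩)
  let e : EquivalenceRelation p₁ p₂ :=
    { right_cancellation := fun {Z} a b h₁ h₂ => (h Z).1 (Prod.ext h₁ h₂)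
      r := r, reflexivity₁ := hr₁, reflexivity₂ := hr₂
      s := s, symmetry₁ := hs₁, symmetry₂ := hs₂
      c := pullback.cone p₂ p₁, isLimit := limit.isLimit _
      t := t, transitivity₁ := ht₁, transitivity₂ := ht₂ }
  haveI := e.isEquivalenceRelation
  obtain ⟨q⟩ := (S5217.result J p₁ p₂).1
  exact ⟨q.B, q.π, q.isKernelPair, q.isPushout, fun B' g =>
    q.universally_effectiveEpi_π (pullback.fst q.π g) g _ (IsPullback.of_hasPullback q.π g).flip⟩

end Groth.Agent.S3081
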