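-- statement FlatMor.GrothFrozen.S1378 (Groth/Statements/S1378.lean; the theorem FlatMor.fppf_cover_dominated_by_integral_surjective_zariski_locally);
import Groth.Statements.S1378
import Groth.Agent.H7Flat.AICCover
import Groth.Agent.H7Flat.LocalSection
import Mathlib.RingTheory.LocalRing.ResidueField.Ideal
import Mathlib.AlgebraicGeometry.Morphisms.Flat
import Mathlib.AlgebraicGeometry.Morphisms.FinitePresentation

set_option autoImplicit false
universe u
open FlatMor

namespace Groth.Agent.S1378

/-- A map from a finitely presented algebra to a localization at a prime extends to a basic open. -/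
theorem exists_away_lift {R A B : Type u} [CommRing R] [CommRing A] [CommRing B] [Algebra R A] [Algebra R B]
    [Algebra.FinitePresentation R B] (t : Ideal A) [t.IsPrime] (φ : B →ₐ[R] Localization.AtPrime t) :
    ∃ a ∉ t, Nonempty (B →ₐ[R] Localization.Away a) := by
  classical
  obtain ⟨n, f, hf, G, hG⟩ := Algebra.FinitePresentation.out (R := R) (A := B)
  obtain ⟨⟨s, hs⟩, hmul⟩ := IsLocalization.exist_integer_multiples_of_finset t.primeCompl
    (Finset.univ.image fun i : Fin n => φ (f (MvPolynomial.X i)))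
  choose x hx using fun i : Fin n =>
    hmul _ (Finset.mem_image_of_mem (fun i => φ (f (MvPolynomial.X i))) (Finset.mem_univ i))
  let ψ₀ : MvPolynomial (Fin n) R →ₐ[R] Localization.Away s :=
    MvPolynomial.aeval fun i => algebraMap A _ (x i) * IsLocalization.Away.invSelf s
  have hle : Submonoid.powers s ≤ t.primeCompl := Submonoid.powers_le.2 hs
  let ρ : Localization.Away s →+* Localization.AtPrime t :=
    IsLocalization.Away.lift s (g := algebraMap A (Localization.AtPrime t))
      (IsLocalization.map_units _ (⟨s, hs⟩ : t.primeCompl))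
  have hρ : ρ.comp ψ₀.toRingHom = φ.toRingHom.comp f.toRingHom := by
    refine MvPolynomial.ringHom_ext (fun c => ?_) fun i => ?_
    · show ρ (ψ₀ (algebraMap R _ c)) = φ (f (algebraMap R _ c))
      rw [ψ₀.commutes, f.commutes, φ.commutes, IsScalarTower.algebraMap_apply R A (Localization.Away s),
        IsLocalization.Away.lift_eq, ← IsScalarTower.algebraMap_apply]
    · show ρ (ψ₀ (MvPolynomial.X i)) = φ (f (MvPolynomial.X i))
      rw [MvPolynomial.aeval_X, map_mul, IsLocalization.Away.lift_eq, hx, Algebra.smul_def]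
      have h1 : ρ (algebraMap A (Localization.Away s) s) * ρ (IsLocalization.Away.invSelf s) = 1 := by
        rw [← map_mul, IsLocalization.Away.mul_invSelf, map_one]
      rw [IsLocalization.Away.lift_eq] at h1
      show algebraMap A _ s * φ (f (MvPolynomial.X i)) * _ = _
      rw [mul_right_comm, h1, one_mul]
  have hkill : ∀ p ∈ G, ∃ u ∉ t, algebraMap A (Localization.Away s) u * ψ₀ p = 0 := by
    intro p hp
    have h0 : ρ (ψ₀ p) = 0 := by
      have h1 : f p = 0 := by
        have : p ∈ RingHom.ker f.toRingHom := hG ▸ Ideal.subset_span hp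
        exact this
      exact (RingHom.congr_fun hρ p).trans ((congrArg φ h1).trans (map_zero φ))
    obtain ⟨k, c, hc⟩ := IsLocalization.Away.surj s (ψ₀ p)
    have h2 : algebraMap A (Localization.AtPrime t) c = 0 := by
      have := congrArg ρ hc
      rw [map_mul, h0, zero_mul, IsLocalization.Away.lift_eq] at this
      exact this.symm
    obtain ⟨⟨u, hu⟩, huc⟩ := (IsLocalization.map_eq_zero_iff t.primeCompl _ c).1 h2
    refine ⟨u, hu, ?_⟩
    have h3 : algebraMap A (Localization.Away s) u * (ψ₀ p * algebraMap A _ s ^ k) = 0 := by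
      rw [hc, ← map_mul, show u * c = 0 from huc, map_zero]
    rw [← mul_assoc] at h3
    exact ((IsLocalization.Away.algebraMap_isUnit s).pow k).mul_left_eq_zero.1 h3
  choose! u hu huG using hkill
  let w := ∏ p ∈ G, u p
  have hw : w ∉ t := fun h => by
    obtain ⟨p, hp, h'⟩ := (‹t.IsPrime›.prod_mem_iff).1 h
    exact hu p hp h'
  let θ₀ : Localization.Away s →+* Localization.Away (s * w) :=
    IsLocalization.Away.lift s (g := algebraMap A (Localization.Away (s * w)))
      (isUnit_of_dvd_unit (map_dvd _ (dvd_mul_right s w)) (IsLocalization.Away.algebraMap_isUnit (s * w)))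
  let θ : Localization.Away s →ₐ[R] Localization.Away (s * w) := ⟨θ₀, fun c => by
    show θ₀ (algebraMap R _ c) = _
    rw [IsScalarTower.algebraMap_apply R A (Localization.Away s), IsLocalization.Away.lift_eq,
      ← IsScalarTower.algebraMap_apply]⟩
  have hker : RingHom.ker f.toRingHom ≤ RingHom.ker (θ.comp ψ₀).toRingHom := by
    rw [← hG, Ideal.span_le]
    intro p hp
    show θ₀ (ψ₀ p) = 0
    have h1 := congrArg θ₀ (huG p hp)
    rw [map_mul, map_zero, IsLocalization.Away.lift_eq] at h1
    refine (IsUnit.mul_right_eq_zero ?_).1 h1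
    refine isUnit_of_dvd_unit (map_dvd _ ?_) (IsLocalization.Away.algebraMap_isUnit (s * w))
    exact dvd_mul_of_dvd_right (Finset.dvd_prod_of_mem u hp) s
  refine ⟨s * w, fun h => (‹t.IsPrime›.mem_or_mem h).elim hs hw, ⟨AlgHom.liftOfSurjective f hf (θ.comp ψ₀) hker⟩⟩

open AlgebraicGeometry CategoryTheory Limits in
/-- Let S → S be flat, locally of finite presentation and surjective (an fppf cover by one morphism).
Then there is a surjective integral morphism T → S which factors through S' Zariski locally on T. -/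
theorem result {S' S : Scheme.{u}} (g : S' ⟶ S) [Flat g] [LocallyOfFinitePresentation g] [Surjective g] :
    ∃ (T : Scheme.{u}) (π : T ⟶ S), Surjective π ∧ IsIntegralHom π ∧
      ∀ t : ↑T, ∃ (V : T.Opens) (r : ↑V ⟶ S'), t ∈ V ∧ r ≫ g = V.ι ≫ π := by
  classical
  refine ⟨Groth.Agent.H7Flat.aicScheme S, Groth.Agent.H7Flat.aicProj S,
    ⟨Groth.Agent.H7Flat.surjective_aicProj S⟩, Groth.Agent.H7Flat.isIntegralHom_aicProj S, fun t => ?_⟩
  obtain ⟨U, hU, hsU, -⟩ := exists_isAffineOpen_mem_and_subset
    (Set.mem_univ ((Groth.Agent.H7Flat.aicProj S) t)) (U := (⊤ : S.Opens))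
  obtain ⟨P, hP⟩ : t ∈ (Groth.Agent.H7Flat.aicChart S ⟨U, hU⟩).opensRange := by
    rw [← Groth.Agent.H7Flat.aicProj_preimage S ⟨U, hU⟩]; exact hsU
  obtain ⟨s', hs'⟩ := Surjective.surj (f := g) ((Groth.Agent.H7Flat.aicProj S) t)
  obtain ⟨V, hV, hs'V, hVle⟩ := exists_isAffineOpen_mem_and_subset (U := g ⁻¹ᵁ U)
    (show s' ∈ g ⁻¹ᵁ U by show g s' ∈ U; rw [hs']; exact hsU)
  have hle : V ≤ g ⁻¹ᵁ U := hVle
  let A₀ := Groth.Agent.H7Flat.aicRing S U
  let ρ : Γ(S, U) →+* A₀ := ((Groth.Agent.H7Flat.aicMap S).app (Opposite.op U)).hom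
  let φ : Γ(S, U) →+* Γ(S', V) := (g.appLE U V hle).hom
  letI : Algebra Γ(S, U) A₀ := ρ.toAlgebra
  letI : Algebra Γ(S, U) Γ(S', V) := φ.toAlgebra
  haveI : Module.Flat Γ(S, U) Γ(S', V) := g.flat_appLE hU hV hle
  haveI : Algebra.FinitePresentation Γ(S, U) Γ(S', V) := g.finitePresentation_appLE hU hV hle
  let L := Localization.AtPrime P.asIdeal
  obtain ⟨hdom, hroots⟩ := Groth.Agent.H7Flat.aicRing_atPrime U P.asIdeal
  haveI := hdom
  haveI := hroots.isIntegrallyClosed
  haveI := hroots.isAlgClosed_fractionRing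
  let Q : PrimeSpectrum Γ(S', V) := hV.primeIdealOf ⟨s', hs'V⟩
  have hPQ : P.asIdeal.comap ρ = Q.asIdeal.comap φ := by
    have e1 : Spec.map ((Groth.Agent.H7Flat.aicMap S).app (Opposite.op U)) P = Spec.map (g.appLE U V hle) Q := by
      apply hU.fromSpec.isOpenEmbedding.injective
      have a1 := congrArg (fun m : Spec (CommRingCat.of A₀) ⟶ S => m P)
        (Groth.Agent.H7Flat.aicChart_proj S ⟨U, hU⟩)
      have a2 := congrArg (fun m : Spec Γ(S', V) ⟶ S => m Q) (hU.SpecMap_appLE_fromSpec g hV hle)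
      refine a1.symm.trans (((congrArg _ hP).trans hs'.symm).trans (Eq.trans ?_ a2.symm))
      exact congrArg g (hV.fromSpec_primeIdealOf ⟨s', hs'V⟩).symm
    exact congrArg PrimeSpectrum.asIdeal e1
  have hB : (IsLocalRing.maximalIdeal L).map (algebraMap L (TensorProduct Γ(S, U) L Γ(S', V))) ≠ ⊤ := by
    let p := P.asIdeal.comap ρ
    haveI : p.IsPrime := Ideal.IsPrime.comap ρ
    let mP : p.ResidueField →ₐ[Γ(S, U)] P.asIdeal.ResidueField :=
      Ideal.ResidueField.mapₐ p P.asIdeal (Algebra.ofId Γ(S, U) A₀) rfl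
    let mQ : p.ResidueField →ₐ[Γ(S, U)] Q.asIdeal.ResidueField :=
      Ideal.ResidueField.mapₐ p Q.asIdeal (Algebra.ofId Γ(S, U) Γ(S', V)) hPQ
    letI : Algebra p.ResidueField P.asIdeal.ResidueField := mP.toRingHom.toAlgebra
    letI : Algebra p.ResidueField Q.asIdeal.ResidueField := mQ.toRingHom.toAlgebra
    haveI : IsScalarTower Γ(S, U) p.ResidueField P.asIdeal.ResidueField :=
      IsScalarTower.of_algebraMap_eq fun x => (mP.commutes x).symm
    haveI : IsScalarTower Γ(S, U) p.ResidueField Q.asIdeal.ResidueField :=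
      IsScalarTower.of_algebraMap_eq fun x => (mQ.commutes x).symm
    let Ω := TensorProduct p.ResidueField P.asIdeal.ResidueField Q.asIdeal.ResidueField
    haveI : Nontrivial Ω := (Algebra.TensorProduct.includeLeft_injective (R := p.ResidueField) (S := p.ResidueField)
      (A := P.asIdeal.ResidueField) (B := Q.asIdeal.ResidueField)
      (RingHom.injective (algebraMap p.ResidueField Q.asIdeal.ResidueField))).nontrivial
    let iL : L →+* Ω := Algebra.TensorProduct.includeLeftRingHom.comp (algebraMap L P.asIdeal.ResidueField)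
    let iB : Γ(S', V) →+* Ω :=
      (Algebra.TensorProduct.includeRight (R := p.ResidueField) (A := P.asIdeal.ResidueField)
        (B := Q.asIdeal.ResidueField)).toRingHom.comp (algebraMap Γ(S', V) Q.asIdeal.ResidueField)
    have hcomm : ∀ x, iB (φ x) = iL (algebraMap Γ(S, U) L x) := fun x => by
      show (1 : P.asIdeal.ResidueField) ⊗ₜ[p.ResidueField] algebraMap Γ(S', V) Q.asIdeal.ResidueField (algebraMap Γ(S, U) Γ(S', V) x) =
        algebraMap L P.asIdeal.ResidueField (algebraMap Γ(S, U) L x) ⊗ₜ[p.ResidueField] (1 : Q.asIdeal.ResidueField)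
      rw [← IsScalarTower.algebraMap_apply Γ(S, U) Γ(S', V) Q.asIdeal.ResidueField,
        ← IsScalarTower.algebraMap_apply Γ(S, U) L P.asIdeal.ResidueField,
        IsScalarTower.algebraMap_apply Γ(S, U) p.ResidueField Q.asIdeal.ResidueField,
        IsScalarTower.algebraMap_apply Γ(S, U) p.ResidueField P.asIdeal.ResidueField,
        Algebra.algebraMap_eq_smul_one (R := p.ResidueField) (A := Q.asIdeal.ResidueField),
        Algebra.algebraMap_eq_smul_one (R := p.ResidueField) (A := P.asIdeal.ResidueField),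
        TensorProduct.tmul_smul, TensorProduct.smul_tmul']
    let aL : L →ₐ[Γ(S, U)] Ω := ⟨iL, fun x => by
      show Algebra.TensorProduct.includeLeftRingHom (algebraMap L P.asIdeal.ResidueField (algebraMap Γ(S, U) L x)) = _
      rw [← IsScalarTower.algebraMap_apply Γ(S, U) L P.asIdeal.ResidueField]
      rfl⟩
    let aB : Γ(S', V) →ₐ[Γ(S, U)] Ω := ⟨iB, fun x => (hcomm x).trans (aL.commutes x)⟩
    let χ := Algebra.TensorProduct.lift aL aB fun _ _ => Commute.all _ _
    intro htop
    have h1 : Ideal.map χ.toRingHom ((IsLocalRing.maximalIdeal L).map (algebraMap L _)) = ⊤ := by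
      rw [htop, Ideal.map_top]
    have h2 : Ideal.map χ.toRingHom ((IsLocalRing.maximalIdeal L).map (algebraMap L _)) ≤ (⊥ : Ideal Ω) := by
      rw [Ideal.map_map, Ideal.map_le_iff_le_comap]
      intro x hx
      show χ (x ⊗ₜ[Γ(S, U)] (1 : Γ(S', V))) ∈ (⊥ : Ideal Ω)
      rw [Algebra.TensorProduct.lift_tmul, map_one, mul_one, Ideal.mem_bot]
      show Algebra.TensorProduct.includeLeftRingHom (algebraMap L P.asIdeal.ResidueField x) = 0
      rw [show algebraMap L P.asIdeal.ResidueField x = 0 from Ideal.Quotient.eq_zero_iff_mem.2 hx, map_zero]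
    rw [h1, top_le_iff] at h2
    exact bot_ne_top h2
  obtain ⟨σ⟩ := Groth.Agent.H7Flat.exists_section_of_flat L (TensorProduct Γ(S, U) L Γ(S', V)) hB
  let ψ : Γ(S', V) →ₐ[Γ(S, U)] L := (σ.restrictScalars Γ(S, U)).comp Algebra.TensorProduct.includeRight
  obtain ⟨a, ha, ⟨ψa⟩⟩ := exists_away_lift P.asIdeal ψ
  let j : Spec (CommRingCat.of (Localization.Away a)) ⟶ Groth.Agent.H7Flat.aicScheme S :=
    Spec.map (CommRingCat.ofHom (algebraMap A₀ (Localization.Away a))) ≫ Groth.Agent.H7Flat.aicChart S ⟨U, hU⟩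
  haveI : IsOpenImmersion (Spec.map (CommRingCat.ofHom (algebraMap A₀ (Localization.Away a)))) :=
    IsOpenImmersion.of_isLocalization a
  haveI : IsOpenImmersion j := inferInstance
  let r₀ : Spec (CommRingCat.of (Localization.Away a)) ⟶ S' :=
    Spec.map (CommRingCat.ofHom ψa.toRingHom) ≫ hV.fromSpec
  have hr₀ : r₀ ≫ g = j ≫ Groth.Agent.H7Flat.aicProj S := by
    have a1 := Groth.Agent.H7Flat.aicChart_proj S ⟨U, hU⟩
    have a2 := hU.SpecMap_appLE_fromSpec g hV hle
    have e3 : (Spec.map (CommRingCat.ofHom ψa.toRingHom) ≫ Spec.map (g.appLE U V hle)) =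
        Spec.map (CommRingCat.ofHom (algebraMap A₀ (Localization.Away a))) ≫
          Spec.map ((Groth.Agent.H7Flat.aicMap S).app (Opposite.op U)) := by
      rw [← Spec.map_comp, ← Spec.map_comp]
      congr 1
      ext x
      show ψa (φ x) = algebraMap A₀ (Localization.Away a) (ρ x)
      exact (ψa.commutes x).trans (IsScalarTower.algebraMap_apply Γ(S, U) A₀ (Localization.Away a) x)
    refine (Category.assoc _ _ _).trans ((congrArg (_ ≫ ·) a2.symm).trans ?_)
    refine Eq.trans ?_ ((congrArg (_ ≫ ·) a1).symm.trans (Category.assoc _ _ _).symm)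
    exact (Category.assoc _ _ _).symm.trans ((congrArg (· ≫ hU.fromSpec) e3).trans (Category.assoc _ _ _))
  refine ⟨j.opensRange, j.isoOpensRange.inv ≫ r₀, ?_, ?_⟩
  · obtain ⟨x, hx⟩ : P ∈ Set.range (Spec.map (CommRingCat.ofHom (algebraMap A₀ (Localization.Away a)))) :=
      (PrimeSpectrum.localization_away_comap_range (Localization.Away a) a).ge ha
    refine ⟨x, ?_⟩
    rw [← hP, ← hx, Scheme.Hom.comp_apply]
  · rw [Category.assoc, hr₀, ← Category.assoc, Scheme.Hom.isoOpensRange_inv_comp]

end Groth.Agent.S1378
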