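import Groth.Statements.S7190
import Groth.Agent.H7Flat.FiniteRefine
-- import your own Groth.Agent.* helpers here

set_option autoImplicit false
set_option linter.style.haveILetI false
universe w u
open FlatMor

namespace Groth.Agent.S7190

open AlgebraicGeometry CategoryTheory Limits in
/-- An fppf covering {T_i → T} of schemes (flat, locally of finite presentation, jointly surjective) is
a ph covering. -/
theorem result {T : Scheme.{u}} (E : PreZeroHypercover.{w} T)
    (hflat : ∀ i, Flat (E.f i)) (hfp : ∀ i, LocallyOfFinitePresentation (E.f i))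
    (hsurj : ∀ t : T, ∃ (i : E.I₀) (x : E.X i), E.f i x = t) : HTop.IsPhCover E := by
  classical
  refine ⟨fun i => have := hfp i; inferInstance, fun U => ?_⟩
  haveI : IsAffine (U.1 : T.Opens).toScheme := U.2
  let im : E.I₀ → U.1.toScheme.Opens := fun i =>
    haveI := hflat i; haveI := hfp i
    U.1.ι ⁻¹ᵁ ⟨Set.range (E.f i), (E.f i).isOpenMap.isOpen_range⟩
  obtain ⟨t, ht⟩ := (isCompact_univ (X := U.1.toScheme)).elim_finite_subcover
    (fun i => (im i : Set U.1.toScheme)) (fun i => (im i).2) (fun x _ => by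
      obtain ⟨i, y, hy⟩ := hsurj (U.1.ι x)
      exact Set.mem_iUnion.2 ⟨i, y, hy⟩)
  let e := t.equivFin
  let idx : ULift.{u} (Fin t.card) → E.I₀ := fun k => (e.symm k.down).1
  let P : ULift.{u} (Fin t.card) → Scheme.{u} := fun k => pullback U.1.ι (E.f (idx k))
  let g : (∐ P) ⟶ U.1.toScheme := Sigma.desc fun k => pullback.fst U.1.ι (E.f (idx k))
  haveI : Flat g := IsZariskiLocalAtSource.sigmaDesc (P := @Flat) fun k =>
    MorphismProperty.pullback_fst _ _ (hflat _)
  haveI : LocallyOfFinitePresentation g :=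
    IsZariskiLocalAtSource.sigmaDesc (P := @LocallyOfFinitePresentation) fun k =>
      MorphismProperty.pullback_fst _ _ (hfp _)
  haveI : Surjective g := ⟨fun x => by
    obtain ⟨i, hi, hx⟩ := Set.mem_iUnion₂.1 (ht (Set.mem_univ x))
    obtain ⟨y, hy⟩ := hx
    let k : ULift.{u} (Fin t.card) := ⟨e ⟨i, hi⟩⟩
    have hk : idx k = i := congrArg Subtype.val (e.symm_apply_apply _)
    obtain ⟨y', hy'⟩ : ∃ y' : E.X (idx k), E.f (idx k) y' = U.1.ι x := by
      rw [hk]; exact ⟨y, hy⟩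
    obtain ⟨z, hz, -⟩ := Scheme.Pullback.exists_preimage_pullback (f := U.1.ι) (g := E.f (idx k))
      x y' hy'.symm
    refine ⟨Sigma.ι P k z, ?_⟩
    rw [← Scheme.Hom.comp_apply, Sigma.ι_desc]
    exact hz⟩
  obtain ⟨S', π, hπs, hπf, -, hloc⟩ := Groth.Agent.H7Flat.exists_finite_refinement g
  haveI : IsAffine S' := isAffine_of_isAffineHom π
  have hpt : ∀ y : S', ∃ (W : S'.Opens) (k : ULift.{u} (Fin t.card)) (h : W.toScheme ⟶ E.X (idx k)),
      IsAffineOpen W ∧ y ∈ W ∧ h ≫ E.f (idx k) = (W.ι ≫ π) ≫ U.1.ι := by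
    intro y
    obtain ⟨V, h, hy, hh⟩ := hloc y
    obtain ⟨k, z, hz⟩ := (sigmaOpenCover P).exists_eq (h ⟨y, hy⟩)
    obtain ⟨W, hW, hyW, hWV⟩ := exists_isAffineOpen_mem_and_subset (x := y)
      (U := V.ι ''ᵁ (h ⁻¹ᵁ (Sigma.ι P k).opensRange)) ⟨⟨y, hy⟩, ⟨z, hz⟩, rfl⟩
    have hWV' : W ≤ V := fun w hw => by obtain ⟨w', -, rfl⟩ := hWV hw; exact w'.2
    have hr : Set.range (S'.homOfLE hWV' ≫ h) ⊆ Set.range (Sigma.ι P k) := by
      rintro _ ⟨w, rfl⟩
      obtain ⟨w', hw', e'⟩ := hWV w.2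
      have : S'.homOfLE hWV' w = w' := V.ι.injective (by
        rw [← Scheme.Hom.comp_apply, Scheme.homOfLE_ι]; exact e'.symm)
      rw [Scheme.Hom.comp_apply, this]
      exact hw'
    refine ⟨W, k, IsOpenImmersion.lift _ _ hr ≫ pullback.snd _ _, hW, hyW, ?_⟩
    rw [Category.assoc, ← pullback.condition]
    have : pullback.fst U.1.ι (E.f (idx k)) = Sigma.ι P k ≫ g := (Sigma.ι_desc (fun k => pullback.fst U.1.ι (E.f (idx k))) k).symm
    rw [this, Category.assoc, IsOpenImmersion.lift_fac_assoc, Category.assoc, reassoc_of% hh,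
      Scheme.homOfLE_ι_assoc, Category.assoc]
  choose W k h hW hyW hh using hpt
  obtain ⟨s, hs⟩ := (isCompact_univ (X := S')).elim_finite_subcover (fun y => (W y : Set S'))
    (fun y => (W y).2) (fun y _ => Set.mem_iUnion.2 ⟨y, hyW y⟩)
  let σ : Fin s.card → S' := fun j => (s.equivFin.symm j).1
  refine ⟨{ I₀ := Fin s.card, X := fun j => (W (σ j)).toScheme, f := fun j => (W (σ j)).ι ≫ π },
    ⟨U.2, inferInstanceAs (Finite (Fin s.card)), fun j => hW (σ j), S', π, fun j => (W (σ j)).ι,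
      inferInstance, hπs, fun j => inferInstance, fun j => rfl, fun y => ?_⟩,
    fun j => ⟨idx (k (σ j)), h (σ j), hh (σ j)⟩⟩
  obtain ⟨y', hy', hy⟩ := Set.mem_iUnion₂.1 (hs (Set.mem_univ y))
  refine ⟨s.equivFin ⟨y', hy'⟩, ?_⟩
  change y ∈ Set.range (W (σ (s.equivFin ⟨y', hy'⟩))).ι
  rw [Scheme.Opens.range_ι, show σ (s.equivFin ⟨y', hy'⟩) = y' from
    congrArg Subtype.val (s.equivFin.symm_apply_apply _)]
  exact hy

end Groth.Agent.S7190
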