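import Groth.Statements.S8978
import Groth.Agent.H18HTop.FpFamily

set_option autoImplicit false
universe w u
open HTop

namespace Groth.Agent.S8978

open CategoryTheory CategoryTheory.Limits AlgebraicGeometry in
/-- Given an h covering of an affine scheme X, one can find a proper surjective Y → X that is of finite
presentation, together with finitely many affine opens covering Y, such that each of these opens,
composed into X, factors through some member of the given family. -/
theorem result {X : Scheme.{u}} [IsAffine X] (E : PreZeroHypercover.{w} X) (hE : HTop.IsHCover E) : ∃ (Y : Scheme.{u}) (g : Y ⟶ X) (n : ℕ) (V : Fin n → Y.Opens), IsProper g ∧ Surjective g ∧ LocallyOfFinitePresentation g ∧ (∀ j, IsAffineOpen (V j)) ∧ ⨆ j, V j = ⊤ ∧ ∀ j, ∃ (i : E.I₀) (h : ((V j : Y.Opens) : Scheme.{u}) ⟶ E.X i), h ≫ E.f i = (V j).ι ≫ g := by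
  classical
  let U : X.affineOpens := ⟨⊤, isAffineOpen_top X⟩
  haveI : IsAffine ((U : X.Opens) : Scheme.{u}) := U.2
  obtain ⟨κ, hκ, B, φ, hfp, hlift, hl⟩ := Groth.Agent.H18HTop.exists_fp_family E hE.1 hE.2 U
  choose i l hil using hl
  obtain ⟨Y, g, hg, hgs, hgf, hcov⟩ := Groth.Agent.H18HTop.PhOfV.exists_proper_fp_cover B φ hfp hlift
  haveI : IsIso (U : X.Opens).ι := inferInstanceAs (IsIso X.topIso.hom)
  let τ := ((U : X.Opens) : Scheme.{u}).isoSpec.inv ≫ (U : X.Opens).ι
  haveI : IsIso τ := inferInstance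
  haveI := hg
  haveI := hgs
  haveI := hgf
  haveI : CompactSpace Y := QuasiCompact.compactSpace_of_compactSpace g
  choose V v hv hy k h hh using hcov
  have hW : ∀ y : Y, ∃ W : Y.Opens, IsAffineOpen W ∧ y ∈ W ∧ (W : Set Y) ⊆ Set.range (v y) := fun y => by
    haveI := hv y
    exact exists_isAffineOpen_mem_and_subset (U := (v y).opensRange) (hy y)
  choose W hW hyW hWv using hW
  obtain ⟨t, ht⟩ := isCompact_univ.elim_finite_subcover (fun y => (W y : Set Y)) (fun y => (W y).2)
    fun y _ => Set.mem_iUnion.2 ⟨y, hyW y⟩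
  refine ⟨Y, g ≫ τ, t.card, fun m => W (t.equivFin.symm m).1, inferInstance, inferInstance,
    inferInstance, fun m => hW _, top_le_iff.1 fun y _ => ?_, fun m => ?_⟩
  · obtain ⟨z, hz, hyz⟩ := Set.mem_iUnion₂.1 (ht (Set.mem_univ y))
    exact TopologicalSpace.Opens.mem_iSup.2 ⟨t.equivFin ⟨z, hz⟩, by
      simp only [Equiv.symm_apply_apply]; exact hyz⟩
  · haveI := hv (t.equivFin.symm m).1
    refine ⟨i (k (t.equivFin.symm m).1), IsOpenImmersion.lift (v (t.equivFin.symm m).1)
      (W (t.equivFin.symm m).1).ι (by rw [Scheme.Opens.range_ι]; exact hWv _) ≫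
        h (t.equivFin.symm m).1 ≫ l _, ?_⟩
    rw [Category.assoc, Category.assoc, hil, reassoc_of% hh, IsOpenImmersion.lift_fac_assoc]

end Groth.Agent.S8978
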