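import Groth.Statements.S8981
import Groth.Agent.H18HTop.OverTopology
import Groth.Agent.S8978
import Groth.Agent.H18HTop.VCoverCrit
import Groth.Agent.H18HTop.ProperFamily

set_option autoImplicit false
universe w u
open HTop

namespace Groth.Agent.S8981

open CategoryTheory CategoryTheory.Limits AlgebraicGeometry in
/-- A presheaf of sets on schemes over S is a sheaf for the big h site of S if and only if it is a
Zariski sheaf and satisfies the sheaf condition for every single proper surjective morphism of
finite presentation V → U of S-schemes with U affine. (The published statement gives the criterion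
with arbitrary U and then says that, for a Zariski sheaf, affine U suffice; this row states the
combined criterion.) -/
theorem result (S : Scheme.{u}) (F : (Over S)ᵒᵖ ⥤ Type w) : Presieve.IsSheaf (HTop.Jh S) F ↔ (Presieve.IsSheaf (Scheme.zariskiTopology.over S) F ∧ ∀ (U V : Over S) (f : V ⟶ U), IsAffine U.left → IsProper f.left → Surjective f.left → LocallyOfFinitePresentation f.left → Presieve.IsSheafFor F (Presieve.singleton f)) := by
  constructor
  · intro hF
    refine ⟨fun Y R hR => hF R ?_, fun U V f hU hf hs hl => ?_⟩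
    · have hle : ∀ {T : Scheme.{u}} (R : Sieve T), R ∈ Scheme.zariskiTopology T → R ∈ HTop.hTopology T := by
        intro T R hR
        induction hR with
        | of X R hR =>
          obtain ⟨(𝒰 : Scheme.OpenCover X), rfl⟩ := Scheme.exists_cover_of_mem_pretopology hR
          exact Precoverage.generate_mem_toGrothendieck ((HTop.presieve₀_mem_hPrecoverage_iff _).2
            ⟨fun i => inferInstanceAs (LocallyOfFinitePresentation (𝒰.f i)),
              Groth.Agent.H18HTop.isVCover_of_openCover 𝒰⟩)
        | top => exact GrothendieckTopology.top_mem _ _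
        | pullback _ _ _ Y f ih => exact GrothendieckTopology.pullback_stable _ f ih
        | transitive _ _ _ _ _ ih1 ih2 => exact GrothendieckTopology.transitive _ ih1 _ ih2
      exact hle _ hR
    · rw [Presieve.isSheafFor_iff_generate]
      refine hF _ ?_
      have h := Groth.Agent.H18HTop.mem_over_of_family HTop.hPrecoverage (X' := U)
        (I := PUnit.{u + 1}) (X := fun _ => V) (fun _ => f) (by
          haveI := hf; haveI := hs; haveI := hl
          rw [Presieve.ofArrows_pUnit]
          have h := (HTop.presieve₀_mem_hPrecoverage_iff (PreZeroHypercover.singleton.{0} f.left)).2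
            ⟨fun _ => hl, Groth.Agent.H18HTop.isVCover_singleton_of_hasValLift f.left
              (Groth.Agent.H18HTop.hasValLift_singleton_of_universallyClosed f.left)⟩
          simpa using h)
      rw [Presieve.ofArrows_pUnit] at h
      exact h
  rintro ⟨hz, hP⟩
  have hZ : ∀ {Y : Over S} (R : Sieve Y), R ∈ Scheme.zariskiTopology.over S Y →
      R ∈ Sheaf.finestTopologySingle F Y := fun R hR Z g =>
    hz _ (GrothendieckTopology.pullback_stable _ g hR)
  suffices key : ∀ {T : Scheme.{u}} (R : Sieve T), R ∈ HTop.hTopology T → ∀ (Z : Over S) (g : Z.left ⟶ T),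
      (Sieve.overEquiv Z).symm (R.pullback g) ∈ Sheaf.finestTopologySingle F Z by
    intro Y R hR
    have h := key _ hR Y (𝟙 _)
    rw [Sieve.pullback_id, OrderIso.symm_apply_apply] at h
    have h' := h _ (𝟙 Y)
    rwa [Sieve.pullback_id] at h'
  intro T R hR
  induction hR with
  | top => intro Z g; rw [Sieve.pullback_top, map_top]; exact GrothendieckTopology.top_mem _ _
  | pullback X R hR Y f ih =>
    intro Z g
    rw [← Sieve.pullback_comp]
    exact ih Z (g ≫ f)
  | transitive X R R' hR hR' ih1 ih2 =>
    intro Z g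
    refine GrothendieckTopology.transitive _ (ih1 Z g) _ fun Z' f hf => ?_
    rw [Sieve.overEquiv_symm_iff, Sieve.pullback_apply] at hf
    rw [← Sieve.overEquiv_symm_pullback, ← Sieve.pullback_comp]
    have h := ih2 hf Z' (𝟙 _)
    rwa [Sieve.pullback_id] at h
  | of X P hP' =>
    intro Z₀ g₀
    obtain ⟨E, rfl⟩ := Presieve.exists_eq_preZeroHypercover P
    obtain ⟨hlfp, hV⟩ := (HTop.presieve₀_mem_hPrecoverage_iff E).1 hP'
    refine GrothendieckTopology.transitive _ (hZ _ (Groth.Agent.H18HTop.OverTopology.affineArrows_mem _)) _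
      fun Z f hf => ?_
    obtain ⟨W, l, a, ⟨hW, ha⟩, rfl⟩ := hf
    rw [Sieve.pullback_comp]
    refine GrothendieckTopology.pullback_stable _ l ?_
    haveI := hW
    haveI := ha
    let E' := E.pullback₁ (a.left ≫ g₀)
    have hE' : HTop.IsHCover E' := ⟨fun i => by
      haveI := hlfp i
      exact inferInstanceAs (LocallyOfFinitePresentation (pullback.fst (a.left ≫ g₀) (E.f i))),
      Groth.Agent.H18HTop.isVCover_pullback (a.left ≫ g₀) E hV⟩
    obtain ⟨Y', g, n, V, hg, hgs, hgf, -, hVtop, hfac⟩ := Groth.Agent.S8978.result E' hE'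
    haveI := hg; haveI := hgs; haveI := hgf
    let Yo : Over S := Over.mk (g ≫ W.hom)
    let go : Yo ⟶ W := Over.homMk g rfl
    have hgo : Sieve.generate (Presieve.singleton go) ∈ Sheaf.finestTopologySingle F W :=
      Groth.Agent.H18HTop.OverTopology.singleton_mem F
        (P := @IsProper ⊓ @Surjective ⊓ @LocallyOfFinitePresentation) hz
        (fun U V f hU hf => hP U V f hU hf.1.1 hf.1.2 hf.2) go ⟨⟨hg, hgs⟩, hgf⟩
    refine GrothendieckTopology.transitive _ hgo _ fun Z' h' hh' => ?_
    obtain ⟨_, r, _, ⟨⟩, rfl⟩ := hh'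
    rw [Sieve.pullback_comp]
    refine GrothendieckTopology.pullback_stable _ r (hZ _ ?_)
    rw [GrothendieckTopology.mem_over_iff]
    have hcov : Sieve.generate (Presieve.ofArrows (fun j => ((V j : Y'.Opens) : Scheme.{u})) fun j => (V j).ι) ∈
        Scheme.zariskiTopology Y' := by
      refine Precoverage.generate_mem_toGrothendieck ?_
      show _ ∈ Scheme.precoverage @IsOpenImmersion Y'
      rw [Scheme.ofArrows_mem_precoverage_iff]
      refine ⟨fun y => ?_, fun j => inferInstance⟩
      obtain ⟨j, hj⟩ := TopologicalSpace.Opens.mem_iSup.1 (hVtop.ge (TopologicalSpace.Opens.mem_top y))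
      exact ⟨j, ⟨y, hj⟩, rfl⟩
    refine GrothendieckTopology.superset_covering _ ?_ hcov
    rw [Sieve.generate_le_iff]
    intro Z'' k hk
    obtain ⟨j⟩ := hk
    rw [Sieve.overEquiv_iff]
    simp only [Sieve.pullback_apply]
    rw [Sieve.overEquiv_symm_iff, Sieve.pullback_apply]
    obtain ⟨i, m, hm⟩ := hfac j
    refine ⟨E.X i, m ≫ pullback.snd (a.left ≫ g₀) (E.f i), E.f i, ⟨i⟩, ?_⟩
    change (m ≫ pullback.snd (a.left ≫ g₀) (E.f i)) ≫ E.f i = (((V j).ι ≫ g) ≫ a.left) ≫ g₀
    erw [Category.assoc, ← pullback.condition]
    refine (Category.assoc _ _ _).symm.trans ((congrArg (· ≫ a.left ≫ g₀) hm).trans ?_)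
    exact (Category.assoc _ _ _).symm

end Groth.Agent.S8981
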