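import Groth.Statements.S6667
import Groth.Agent.H1DFun.BCCompat

set_option autoImplicit false
universe u
open CategoryTheory CategoryTheory.Limits AlgebraicGeometry Opposite
open EtBC

namespace Groth.Agent.S6667

set_option backward.isDefEq.respectTransparency false
set_option backward.isDefEq.respectTransparency.types false

open Groth.Agent.H1DFun Groth.Agent.H12AlgSp.EtStrictHens Groth.Agent.H18Et

attribute [local instance] Groth.Agent.H18Et.pull_preservesFiniteLimits

/-- Let Y = X ×_S T be a cartesian square of schemes with f : X → S, g : T → S quasi-compact and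
quasi-separated, h : Y → X and e : Y → T, let F be an abelian sheaf on the small etale site of T and
q ≥ 0. The following are equivalent: (1) for every point x of X, all strict henselizations R_X of
the local ring of X at x and R_S of the local ring of S at f(x), every local homomorphism ψ : R_S →
R_X compatible with f, and all cartesian squares P_S = Spec R_S ×_S T, P_X = Spec R_X ×_S T with the
morphism m : P_X → P_S induced by ψ, the pullback map H^q(P_S, F|P_S) → H^q(P_X, F|P_X) along m is
bijective; (2) the degree-q base change map f⁻¹ R^q g_* F → R^q h_* e⁻¹ F is an isomorphism. -/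
theorem result {X S Y T : Scheme.{u}} (f : X ⟶ S) (g : T ⟶ S)
    [QuasiCompact g] [QuasiSeparated g] (h : Y ⟶ X) (e : Y ⟶ T) (c : IsPullback e h g f)
    [PreservesFiniteLimits (EtCoh.pull e)] (F : EtCoh.Ab T) (q : ℕ) :
    (∀ (x : X) (RS : Type u) [CommRing RS] [IsLocalRing RS] [Algebra (S.presheaf.stalk (f.base x)) RS]
      [IsLocalHom (algebraMap (S.presheaf.stalk (f.base x)) RS)] [Hensel.IsStrictHenselization (S.presheaf.stalk (f.base x)) RS]
      (RX : Type u) [CommRing RX] [IsLocalRing RX] [Algebra (X.presheaf.stalk x) RX]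
      [IsLocalHom (algebraMap (X.presheaf.stalk x) RX)] [Hensel.IsStrictHenselization (X.presheaf.stalk x) RX]
      (ψ : RS →+* RX) [IsLocalHom ψ],
      ψ.comp (algebraMap (S.presheaf.stalk (f.base x)) RS) = (algebraMap (X.presheaf.stalk x) RX).comp (f.stalkMap x).hom →
      ∀ (PS PX : Scheme.{u}) (aS : PS ⟶ T) (bS : PS ⟶ Spec (CommRingCat.of RS))
        (_ : IsPullback aS bS g (Hens2.specOf S (f.base x) RS))
        (aX : PX ⟶ T) (bX : PX ⟶ Spec (CommRingCat.of RX))
        (_ : IsPullback aX bX g (Hens2.specOf X x RX ≫ f))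
        (m : PX ⟶ PS) (w : m ≫ aS = aX), m ≫ bS = bX ≫ Spec.map (CommRingCat.ofHom ψ) →
        ∀ [PreservesFiniteLimits (EtCoh.pull m)], Function.Bijective (EtCore.HpullVia m aS aX w F q)) ↔
    IsIso (EtBC.bcQ g f h e c.w q F) := by
  haveI : QuasiCompact h := MorphismProperty.of_isPullback (P := @QuasiCompact) c inferInstance
  haveI : QuasiSeparated h := MorphismProperty.of_isPullback (P := @QuasiSeparated) c inferInstance
  constructor
  · intro H
    rw [Groth.Agent.H18Et.isIso_iff_stalk]
    intro Ω _ _ η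
    rw [ConcreteCategory.isIso_iff_bijective]
    let x := imagePt η
    let d := Datum.std (η ≫ f)
    let d' := Datum.std η
    obtain ⟨φ, hφp, hφc⟩ := Datum.exists_map f d' d
    let RS := ↥(EtBase.etaleLocalRing (η ≫ f))
    let RX := ↥(EtBase.etaleLocalRing η)
    let aS := Limits.pullback.fst g d.p
    let bS := Limits.pullback.snd g d.p
    have hS : IsPullback aS bS g d.p := IsPullback.of_hasPullback _ _
    let aY := Limits.pullback.fst h d'.p
    let bX := Limits.pullback.snd h d'.p
    have hX : IsPullback aY bX h d'.p := IsPullback.of_hasPullback _ _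
    have hXT : IsPullback (aY ≫ e) bX g (d'.p ≫ f) := hX.paste_horiz c
    let m := hS.lift (aY ≫ e) (bX ≫ φ) (by rw [hXT.w, Category.assoc, hφp])
    refine (stalk_bcQ_bijective_iff f g h e c.w F q d d' aS bS hS aY bX hX φ hφp hφc m (hS.lift_fst _ _ _)
      (hS.lift_snd _ _ _)).2 ?_
    let φ' : Spec (EtBase.etaleLocalRing η) ⟶ Spec (EtBase.etaleLocalRing (η ≫ f)) := φ
    let ψ : RS →+* RX := (Spec.preimage φ').hom
    have hψ : Spec.map (CommRingCat.ofHom ψ) = φ' := Spec.map_preimage φ'
    let : Algebra ↥(S.presheaf.stalk (f.base x)) RS := (stalkHom (η ≫ f)).hom.toAlgebra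
    let : Algebra ↥(X.presheaf.stalk x) RX := (stalkHom η).hom.toAlgebra
    haveI : IsLocalHom (algebraMap ↥(S.presheaf.stalk (f.base x)) RS) := isLocalHom_stalkHom (η ≫ f)
    haveI : IsLocalHom (algebraMap ↥(X.presheaf.stalk x) RX) := isLocalHom_stalkHom η
    haveI h1 : Hensel.IsStrictHenselization ↥(S.presheaf.stalk (f.base x)) RS := isStrictHenselization (η ≫ f)
    haveI h2 : Hensel.IsStrictHenselization ↥(X.presheaf.stalk x) RX := isStrictHenselization η
    have hv : (valueHom η).hom.comp ψ = (valueHom (η ≫ f)).hom := by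
      have e2 : Spec.map (CommRingCat.ofHom ((valueHom η).hom.comp ψ)) = Spec.map (valueHom (η ≫ f)) := by
        rw [CommRingCat.ofHom_comp, Spec.map_comp, hψ]
        exact hφc
      exact congrArg CommRingCat.Hom.hom (Spec.map_injective e2)
    haveI : IsLocalHom ψ := ⟨fun r hr => by
      have := hr.map (valueHom η).hom
      rw [← RingHom.comp_apply, hv] at this
      exact IsLocalHom.map_nonunit (f := (valueHom (η ≫ f)).hom) r this⟩
    have hcomp : ψ.comp (algebraMap ↥(S.presheaf.stalk (f.base x)) RS) =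
        (algebraMap ↥(X.presheaf.stalk x) RX).comp (f.stalkMap x).hom := by
      have e2 : Spec.map (CommRingCat.ofHom (ψ.comp (stalkHom (η ≫ f)).hom)) ≫ S.fromSpecStalk (f.base x) =
          Spec.map (f.stalkMap x ≫ stalkHom η) ≫ S.fromSpecStalk (f.base x) := by
        rw [CommRingCat.ofHom_comp, Spec.map_comp, hψ, Spec.map_comp, Category.assoc, Category.assoc]
        refine Eq.trans ?_ ((Category.assoc _ _ _).trans (congrArg (Spec.map (stalkHom η) ≫ ·)
          (Scheme.SpecMap_stalkMap_fromSpecStalk f).symm))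
        exact hφp
      exact congrArg CommRingCat.Hom.hom (Spec.map_injective ((cancel_mono _).1 e2))
    exact H x RS RX ψ hcomp _ _ aS bS hS (aY ≫ e) bX hXT m (hS.lift_fst _ _ _)
      ((hS.lift_snd _ _ _).trans (congrArg (bX ≫ ·) hψ.symm))
  · intro H x RS _ _ _ _ _ RX _ _ _ _ _ ψ _ hψ PS PX aS bS hS aX bX hXT m wm hm _
    haveI hRX : Hensel.IsStrictHenselization ↥(X.presheaf.stalk x) RX := inferInstance
    let Ω := IsLocalRing.ResidueField RX
    haveI : IsSepClosed Ω := hRX.isSepClosure.1
    let η : Spec (CommRingCat.of Ω) ⟶ X := Hens2.geomPt X x RX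
    have hη : imagePt η = x := imagePt_geomPt x RX
    let v : RX →+* Ω := IsLocalRing.residue RX
    let p' := Hens2.specOf X x RX
    obtain ⟨e', he', hce'⟩ := exists_datum x hη RX v rfl
    let d' : Datum η :=
      { P := Spec (CommRingCat.of RX), p := p', c := Spec.map (CommRingCat.ofHom v), e := e', he := he', hce := hce' }
    have hsq : Spec.map (CommRingCat.ofHom ψ) ≫ Hens2.specOf S (f.base x) RS = p' ≫ f := by
      show _ ≫ Spec.map _ ≫ _ = (Spec.map _ ≫ _) ≫ f
      rw [← Category.assoc, ← Spec.map_comp, ← CommRingCat.ofHom_comp, hψ, CommRingCat.ofHom_comp,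
        Spec.map_comp, Category.assoc, Category.assoc]
      exact congrArg (Spec.map _ ≫ ·) (Scheme.SpecMap_stalkMap_fromSpecStalk f)
    let v' : RS →+* Ω := v.comp ψ
    haveI : IsLocalHom v' := RingHom.isLocalHom_comp v ψ
    have hξ : Spec.map (CommRingCat.ofHom v') ≫ Hens2.specOf S (f.base x) RS = η ≫ f := by
      rw [CommRingCat.ofHom_comp, Spec.map_comp, Category.assoc, hsq]
      exact (Category.assoc _ _ _).symm
    obtain ⟨e₀, he₀, hce₀⟩ := exists_datum (f.base x) (congrArg f.base hη) RS v' hξ
    let d : Datum (η ≫ f) :=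
      { P := Spec (CommRingCat.of RS), p := Hens2.specOf S (f.base x) RS,
        c := Spec.map (CommRingCat.ofHom v'), e := e₀, he := he₀, hce := hce₀ }
    obtain ⟨aY, haY, haY2⟩ : ∃ aY : PX ⟶ Y, aY ≫ e = aX ∧ aY ≫ h = bX ≫ p' :=
      ⟨c.lift aX (bX ≫ p') (hXT.w.trans (Category.assoc _ _ _).symm), c.lift_fst _ _ _, c.lift_snd _ _ _⟩
    subst haY
    have hX : IsPullback aY bX h d'.p := IsPullback.of_right hXT haY2 c
    refine (stalk_bcQ_bijective_iff f g h e c.w F q d d' aS bS hS aY bX hX (Spec.map (CommRingCat.ofHom ψ))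
      hsq ?_ m wm hm).1 ?_
    · exact ((Spec.map_comp _ _).symm.trans (congrArg Spec.map (CommRingCat.ofHom_comp _ _).symm))
    · haveI := H
      exact ConcreteCategory.bijective_of_isIso _

end Groth.Agent.S6667
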