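import Groth.Statements.S0471
import Groth.Agent.H15Site.LerayDeg
import Mathlib.Topology.Separation.Profinite
import Mathlib.CategoryTheory.Sites.LocallyBijective

open TopologicalSpace Groth.Agent.H15Site Groth.Agent.H15Site.CechTop Groth.Agent.H10Coh
attribute [local instance 10000] Groth.Agent.H10Coh.hasSheafifyAb Groth.Agent.H10Coh.hasWeakSheafifyAb Groth.Agent.H10Coh.hasExtAb Groth.Agent.H10Coh.enoughInjAb

set_option linter.style.haveILetI false
open CategoryTheory CategoryTheory.Limits Opposite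

set_option autoImplicit false
universe u
open CategoryTheory
open CohTop

namespace Groth.Agent.S0471

section
theorem isZero_cech_disjoint {X : TopCat.{u}} (F : CohTop.Ab X) {ι : Type u} (V : ι → Opens X)
    (hV : Pairwise fun i j => V i ⊓ V j = ⊥) (p : ℕ) : IsZero (CohTop.cechH F.obj V (p + 1)) := by
  refine CechFlasque.isZero_cechH V F (fun n b J => ?_) p
  by_cases hb : b 0 ∈ J
  · exact (CechFlasque.res_bijective_of_eq F inf_le_left
      (le_inf le_rfl ((iInf_le _ 0).trans (le_iSup (fun j : J => V j) ⟨b 0, hb⟩)))).2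
  · have hbot : cap V b ⊓ CechFlasque.sub V J = ⊥ := by
      refine le_bot_iff.1 ((inf_le_inf_right _ (iInf_le _ 0)).trans ?_)
      rw [inf_iSup_eq]
      exact iSup_le fun j => (hV (show b 0 ≠ j.1 from fun e => hb (e.symm ▸ j.2))).le
    have := ClosedPushAb.subsingleton_sections_bot F hbot
    exact fun y => ⟨0, Subsingleton.elim _ _⟩

theorem subsingleton_of_profinite {X : TopCat.{u}} [CompactSpace X] [T2Space X]
    [TotallyDisconnectedSpace X] (F : CohTop.Ab X) (p : ℕ) (U : Opens X)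
    (hU : IsClopen (U : Set X)) : Subsingleton (Hn F (p + 1) U) := by
  refine CechLeray.subsingleton_Hn_of_cech {U : Opens X | IsClopen (U : Set X)}
    (fun ι V => Finite ι ∧ (∀ i, IsClopen (V i : Set X)) ∧ Pairwise fun i j => V i ⊓ V j = ⊥)
    ?_ ?_ (fun ι V hV p => isZero_cech_disjoint F V hV.2.2 p) U hU p
  · rintro ι V ⟨hfin, hcl, -⟩
    refine ⟨?_, fun p a => ?_⟩
    · show IsClopen ((iSup V : Opens X) : Set X)
      rw [Opens.coe_iSup]
      exact isClopen_iUnion_of_finite hcl
    · show IsClopen ((⨅ k, V (a k) : Opens X) : Set X)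
      have h : ((⨅ k, V (a k) : Opens X) : Set X) = ⋂ k, (V (a k) : Set X) := by
        rw [show (⨅ k, V (a k)) = Finset.univ.inf fun k => V (a k) by simp [Finset.inf_eq_iInf],
          Opens.coe_finset_inf]
        simp [Finset.inf_eq_iInf]
      rw [h]
      exact isClopen_iInter_of_finite fun k => hcl _
  · intro U (hU : IsClopen (U : Set X)) κ W hW
    have hbas : ∀ x : (U : Set X), ∃ C : Set X, IsClopen C ∧ x.1 ∈ C ∧ ∃ k, C ⊆ (W k : Set X) := fun x => by
      have hx : x.1 ∈ iSup W := by rw [hW]; exact x.2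
      obtain ⟨k, hk⟩ := Opens.mem_iSup.1 hx
      obtain ⟨C, hC, hxC, hCW⟩ := compact_exists_isClopen_in_isOpen (W k).isOpen hk
      exact ⟨C, hC, hxC, k, hCW⟩
    choose C hC hxC k hCW using hbas
    obtain ⟨t, ht⟩ := hU.1.isCompact.elim_finite_subcover C (fun x => (hC x).2)
      (fun x hx => Set.mem_iUnion.2 ⟨⟨x, hx⟩, hxC ⟨x, hx⟩⟩)
    classical
    let e := t.equivFin
    let D : ULift.{u} (Fin t.card) → Set X := fun i =>
      ((C (e.symm i.down).1) ∩ (U : Set X)) \ ⋃ j : {j : Fin t.card // j < i.down}, C (e.symm j.1).1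
    have hD : ∀ i, IsClopen (D i) := fun i =>
      (((hC _).inter hU)).diff (isClopen_iUnion_of_finite fun j => hC _)
    refine ⟨ULift.{u} (Fin t.card), fun i => ⟨D i, (hD i).2⟩, ⟨inferInstance, hD, ?_⟩, ?_, fun i => ⟨k (e.symm i.down).1, fun x hx => hCW _ hx.1.1⟩⟩
    · intro i j hij
      apply Opens.ext
      refine Set.eq_empty_of_forall_notMem fun x ⟨hi, hj⟩ => ?_
      rcases lt_trichotomy i.down j.down with h | h | h
      · exact hj.2 (Set.mem_iUnion.2 ⟨⟨i.down, h⟩, hi.1.1⟩)
      · exact hij (ULift.ext _ _ h)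
      · exact hi.2 (Set.mem_iUnion.2 ⟨⟨j.down, h⟩, hj.1.1⟩)
    · apply Opens.ext
      ext x
      simp only [Opens.coe_iSup, Set.mem_iUnion, Opens.coe_mk]
      refine ⟨fun ⟨i, hi⟩ => hi.1.2, fun hx => ?_⟩
      obtain ⟨y, hy, hxy⟩ := Set.mem_iUnion₂.1 (ht hx)
      let S : Finset (Fin t.card) := Finset.univ.filter fun i => x ∈ C (e.symm i).1
      have hS : S.Nonempty := ⟨e ⟨y, hy⟩, by simp [S, hxy]⟩
      refine ⟨⟨S.min' hS⟩, ⟨(Finset.mem_filter.1 (S.min'_mem hS)).2, hx⟩, fun h => ?_⟩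
      obtain ⟨⟨j, hj⟩, hxj⟩ := Set.mem_iUnion.1 h
      exact absurd (S.min'_le j (by simp [S, hxj])) (not_le.2 hj)
end

/-- If X is profinite (compact, Hausdorff, totally disconnected), then H^(p+1)(X, F) = 0 for every
abelian sheaf F. -/
theorem result {X : TopCat.{u}} [CompactSpace X] [T2Space X] [TotallyDisconnectedSpace X]
    (F : CohTop.Ab X) (p : ℕ) : Subsingleton (CohTop.H F (p + 1)) := by
  have := subsingleton_of_profinite F p ⊤ (by rw [Opens.coe_top]; exact isClopen_univ)
  exact (topEquiv F (p + 1)).toEquiv.subsingleton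

end Groth.Agent.S0471
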