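import Groth.Statements.S7239
import Groth.Agent.H16Derived.Thomason.Generator

set_option autoImplicit false
universe u
open CategoryTheory CategoryTheory.Limits AlgebraicGeometry
attribute [local instance] HasDerivedCategory.standard
open Perf

namespace Groth.Agent.S7239

open Groth.Agent.H16Derived Groth.Agent.H16Derived.Thomason CategoryTheory.Pretriangulated Groth.Agent.H16Derived.KFlat Groth.Agent.H16Derived.KFlat.Stalk
attribute [local instance] hasCoproducts_D small_hom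

theorem exists_universal (X : Scheme.{u}) [CompactSpace ↥X] [QuasiSeparatedSpace ↥X] (Y : DCoh.D X) :
    ∃ (F : DCoh.D X) (e : F ⟶ Y), DCoh.IsQCohD F ∧
      ∀ Z : DCoh.D X, DCoh.IsQCohD Z → Function.Bijective fun f : Z ⟶ F => f ≫ e := by
  obtain ⟨G, hG, hgen⟩ := hasGen (Set.univ : Set X) isClosed_univ (by simp)
  let σ : ULift.{u} ℤ → DCoh.D X := fun k => G⟦k.down⟧
  have hσ : ∀ k, PQ Set.univ (σ k) := fun k => (hG.shift isClosed_univ k.down).pq
  have hcomp : ∀ k, QCohD.FinSupp.Holds.{u} (PQ (X := X) Set.univ) (σ k) := fun k =>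
    holds_of_isPerfect (fun _ h => h.1) (hG.shift isClosed_univ k.down).1
  have hshift : ∀ k (n : ℤ), ∃ j, Nonempty (σ j ≅ (σ k)⟦n⟧) := fun k n =>
    ⟨⟨k.down + n⟩, ⟨(shiftFunctorAdd (DCoh.D X) k.down n).app G⟩⟩
  obtain ⟨S, hS⟩ := exists_tel σ (loc_pq isClosed_univ) hσ Y
  obtain ⟨F, e, hF, hbij⟩ := S.exists_colim (PQ Set.univ) (loc_pq isClosed_univ) hS hcomp hS hshift
  obtain ⟨C, g, δ, hT⟩ := distinguished_cocone_triangle e
  let Q : DCoh.D X → Prop := fun Z => PQ Set.univ Z ∧ ∀ n : ℤ, ∀ φ : Z⟦n⟧ ⟶ C, φ = 0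
  have hQ : Loc.{u} Q :=
    { of_iso := fun i h => ⟨(loc_pq isClosed_univ).of_iso i h.1, fun n φ =>
        (cancel_epi (i.hom⟦n⟧')).1 ((h.2 n _).trans comp_zero.symm)⟩
      sum := fun κ Z h => ⟨(loc_pq isClosed_univ).sum κ Z fun k => (h k).1, fun n φ => by
        refine (cancel_epi (sigmaComparison (shiftFunctor (DCoh.D X) n) Z)).1 ?_
        rw [comp_zero]
        exact Sigma.hom_ext _ _ fun k => by rw [ι_comp_sigmaComparison_assoc, comp_zero]; exact (h k).2 n _⟩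
      cone := fun Tr hTr h₁ h₂ => ⟨(loc_pq isClosed_univ).cone Tr hTr h₁.1 h₂.1, fun n φ => by
        obtain ⟨ψ, hψ⟩ := Triangle.yoneda_exact₃ _ (Triangle.shift_distinguished _ hTr n) φ (h₂.2 n _)
        have hψ0 : ψ = 0 :=
          (cancel_epi ((shiftFunctorAdd' (DCoh.D X) n 1 (n + 1) rfl).hom.app Tr.obj₁)).1
            ((h₁.2 (n + 1) _).trans comp_zero.symm)
        exact hψ.trans ((congrArg (_ ≫ ·) hψ0).trans comp_zero)⟩ }
  have hσ0 : ∀ k, ∀ x : σ k ⟶ C, x = 0 := fun i x => by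
    have h1 : x ≫ δ = 0 := by
      obtain ⟨j, ⟨ej⟩⟩ := hshift i (-1)
      let c := shiftFunctorCompIsoId (DCoh.D X) (1 : ℤ) (-1) (by norm_num)
      have h' : (x ≫ δ) ≫ e⟦(1 : ℤ)⟧' = 0 := by
        have h'' : δ ≫ e⟦(1 : ℤ)⟧' = 0 := comp_distTriang_mor_zero₃₁ _ hT
        rw [Category.assoc, h'', comp_zero]
      let a' : σ j ⟶ F := ej.hom ≫ (x ≫ δ)⟦(-1 : ℤ)⟧' ≫ c.hom.app _
      have ha' : a' ≫ e = 0 := by
        simp only [a', Category.assoc]
        erw [← c.hom.naturality e]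
        rw [Functor.comp_map, ← Functor.map_comp_assoc (shiftFunctor (DCoh.D X) (-1 : ℤ)),
          h', Functor.map_zero, zero_comp, comp_zero]
      have h0 : a' = 0 := (hbij j).1 (ha'.trans zero_comp.symm)
      have h0' : (x ≫ δ)⟦(-1 : ℤ)⟧' ≫ c.hom.app _ = 0 :=
        (cancel_epi ej.hom).1 (h0.trans comp_zero.symm)
      have h2 : (x ≫ δ)⟦(-1 : ℤ)⟧' = 0 := (cancel_mono (c.hom.app _)).1 (h0'.trans zero_comp.symm)
      exact (shiftFunctor (DCoh.D X) (-1 : ℤ)).map_eq_zero_iff.1 h2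
    obtain ⟨y, hy⟩ := Triangle.coyoneda_exact₃ _ hT x h1
    obtain ⟨z, hz⟩ := (hbij i).2 y
    have h3 : e ≫ g = 0 := comp_distTriang_mor_zero₁₂ _ hT
    calc x = y ≫ g := hy
      _ = (z ≫ e) ≫ g := congrArg (· ≫ g) hz.symm
      _ = 0 := by rw [Category.assoc, h3, comp_zero]
  have hQσ : ∀ k, Q (σ k) := fun k => ⟨hσ k, fun n φ => by
    obtain ⟨j, ⟨ej⟩⟩ := hshift k n
    exact (cancel_epi ej.hom).1 ((hσ0 j _).trans comp_zero.symm)⟩
  have hall : ∀ Z, DCoh.IsQCohD Z → ∀ n : ℤ, ∀ φ : Z⟦n⟧ ⟶ C, φ = 0 := fun Z hZ =>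
    (induction σ (PQ Set.univ) (loc_pq isClosed_univ) hσ hcomp hshift
      (fun M hM h => hgen M hM fun n f => h ⟨n⟩ f) hQ hQσ (E := Z) ⟨hZ, suppIn_univ Z⟩).2
  refine ⟨F, e, hF.1, fun Z hZ => ⟨fun f f' hff => ?_, fun h => ?_⟩⟩
  · have h0 : (f - f') ≫ e = 0 := by rw [Preadditive.sub_comp]; exact sub_eq_zero.2 hff
    obtain ⟨χ, hχ⟩ := Triangle.coyoneda_exact₂ _ (inv_rot_of_distTriang _ hT) (f - f') h0
    have hχ' : χ = 0 := (shiftFunctor (DCoh.D X) (1 : ℤ)).map_eq_zero_iff.1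
      ((cancel_mono ((shiftFunctorCompIsoId (DCoh.D X) (-1 : ℤ) 1 (by norm_num)).hom.app C)).1
        ((hall Z hZ 1 _).trans zero_comp.symm))
    exact sub_eq_zero.1 (hχ.trans ((congrArg (· ≫ _) hχ').trans zero_comp))
  · have h0 : h ≫ g = 0 := (cancel_epi ((shiftFunctorZero (DCoh.D X) ℤ).hom.app Z)).1
      ((hall Z hZ 0 _).trans comp_zero.symm)
    obtain ⟨χ, hχ⟩ := Triangle.coyoneda_exact₂ _ hT h h0
    exact ⟨χ, hχ.symm⟩

/-- Let X be a quasi-compact and quasi-separated scheme. Then the inclusion functor of the full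
subcategory D_QCoh(O_X) of D(O_X) (objects all of whose cohomology sheaves are quasi-coherent) into
D(O_X) is a left adjoint, i.e. it admits a right adjoint D(O_X) ⥤ D_QCoh(O_X). -/
theorem result (X : Scheme.{u}) [CompactSpace ↥X] [QuasiSeparatedSpace ↥X] :
    (ObjectProperty.ι (DCoh.IsQCohD (X := X))).IsLeftAdjoint := by
  apply Functor.isLeftAdjoint_of_rightAdjointObjIsDefined_eq_top
  ext Y
  simp only [Pi.top_apply, Prop.top_eq_true, iff_true]
  rw [Functor.rightAdjointObjIsDefined_iff]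
  obtain ⟨F, e, hF, hbij⟩ := exists_universal X Y
  let ι' := ObjectProperty.ι (DCoh.IsQCohD (X := X))
  exact Functor.RepresentableBy.isRepresentable (Y := ⟨F, hF⟩)
    { homEquiv := fun {Z} => Equiv.ofBijective (fun f => ι'.map f ≫ e)
        ⟨fun f f' h => ι'.map_injective ((hbij Z.obj Z.property).1 h), fun h => by
          obtain ⟨g, hg⟩ := (hbij Z.obj Z.property).2 h
          exact ⟨ObjectProperty.homMk g, hg⟩⟩
      homEquiv_comp := fun f g => (congrArg (· ≫ e) (ι'.map_comp f g)).trans (Category.assoc _ _ _) }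

end Groth.Agent.S7239
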