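import Groth.Statements.S14424
import Groth.Agent.H4LC.Annihilation
import Groth.Agent.H4Depth.LocDepth
import Groth.Agent.H4Depth.CM

set_option autoImplicit false
universe u
open LocCoh

namespace Groth.Agent.S14424

/-- Let R be a Noetherian ring. Then R is Cohen–Macaulay (every localization at a prime ideal is a
Cohen–Macaulay local ring) if and only if for every proper ideal a of R the a-depth of R equals the
height (codimension) of a. (The published statement defines a Cohen–Macaulay ring by its
localizations at maximal ideals; this row uses all prime ideals, an equivalent definition because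
Cohen–Macaulayness passes to localizations.) -/
theorem result (R : Type u) [CommRing R] [IsNoetherianRing R] :
    LocCoh.IsCohenMacaulayRing R ↔ ∀ a : Ideal R, a ≠ ⊤ → LocCoh.idealDepth a R = a.height := by

  have hd : ∀ (p : Ideal R) [p.IsPrime],
      LocCoh.depth (Localization.AtPrime p) (LocalizedModule p.primeCompl R) =
        LocCoh.depth (Localization.AtPrime p) (Localization.AtPrime p) := fun p _ =>
    (H4LC.depth_eq_of_isBaseChange (Localization.AtPrime p) p (Localization.AtPrime p)
      (Algebra.linearMap R (Localization.AtPrime p)) (IsBaseChange.linearMap R (Localization.AtPrime p))).symm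
  constructor
  · intro h a _
    have key : ∀ q : PrimeSpectrum R,
        LocCoh.depth (Localization.AtPrime q.asIdeal) (LocalizedModule q.asIdeal.primeCompl R) =
          q.asIdeal.height := fun q => by
      have h1 := (h.isCohenMacaulayLocalRing_localization q.asIdeal).supportDim_eq_depth
      rw [Module.supportDim_self_eq_ringKrullDim,
        IsLocalization.AtPrime.ringKrullDim_eq_height q.asIdeal (Localization.AtPrime q.asIdeal)] at h1
      exact (hd q.asIdeal).trans (WithBot.coe_injective h1).symm
    rw [H4Depth.idealDepth_eq_iInf_depth_localization]
    simp only [key]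
    refine le_antisymm ?_ (le_iInf₂ fun q hq => Ideal.height_mono hq)
    rw [Ideal.height_eq_inf_minimalPrimes]
    exact le_iInf₂ fun J hJ => iInf₂_le_of_le ⟨J, hJ.1.1⟩ hJ.1.2 le_rfl
  · intro h
    refine { isCohenMacaulayLocalRing_localization := fun p _ => ?_ }
    refine { supportDim_eq_depth := le_antisymm ?_ (H4Depth.depth_le_supportDim) }
    rw [Module.supportDim_self_eq_ringKrullDim,
      IsLocalization.AtPrime.ringKrullDim_eq_height p (Localization.AtPrime p), ← h p Ideal.IsPrime.ne_top',
      ← hd p]
    exact WithBot.coe_le_coe.2 (H4Depth.idealDepth_le_depth_localization p le_rfl)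

end Groth.Agent.S14424
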