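import Groth.Statements.S3637
import Groth.Agent.H4RSH.ProperField

set_option autoImplicit false
universe u
open CategoryTheory CategoryTheory.Limits AlgebraicGeometry
attribute [local instance] HasDerivedCategory.standard
open Dual3

namespace Groth.Agent.S3637

/-- Let X be proper over a field k, with all local rings of X Cohen–Macaulay and all irreducible
components of X of dimension d. Assume the derived pushforward Rf_* along the structure morphism f
exists and preserves complexes with quasi-coherent cohomology (carried as hypotheses), let a be a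
right adjoint to Rf_* : D_QCoh(O_X) → D_QCoh(Spec k), and let O be an object of D_QCoh(Spec k)
isomorphic to the structure sheaf placed in degree 0. Then H^i(a(O)) = 0 for i ≠ −d, so that a(O) =
ω_X[d] with ω_X = H^{−d}(a(O)); and ω_X is a coherent O_X-module whose stalk at every point x is a
nonzero Cohen–Macaulay module over O_{X,x} (in particular its support is all of X). -/
theorem result (k : Type u) [Field k] (X : Scheme.{u}) (f : X ⟶ Spec (CommRingCat.of k)) [IsProper f] (hCM : ∀ x : X, LocCoh.IsCohenMacaulayLocalRing (X.presheaf.stalk x)) (d : ℕ) (hd : ∀ Z : Set X, Z ∈ irreducibleComponents X → topologicalKrullDim ↥Z = (d : WithBot ℕ∞)) [DCoh.HasRpush f] (hf : DCoh.RpushPreservesQCoh f) (a : DCoh.DQCoh (Spec (CommRingCat.of k)) ⥤ DCoh.DQCoh X) (adj : DCoh.RpushQ f hf ⊣ a) (O : DCoh.DQCoh (Spec (CommRingCat.of k))) (hO : Nonempty (O.obj ≅ DCoh.inD (Spec (CommRingCat.of k)) (Coh.structureModule (Spec (CommRingCat.of k))))) : (∀ i : ℤ, i ≠ -(d : ℤ) → IsZero (DCoh.HD (a.obj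 O).obj i)) ∧ Coh.IsCoh (DCoh.HD (a.obj O).obj (-(d : ℤ))) ∧ ∀ x : X, Nontrivial ((DCoh.HD (a.obj O).obj (-(d : ℤ))).presheaf.stalk x) ∧ LocCoh.IsCohenMacaulayModule (X.presheaf.stalk x) ((DCoh.HD (a.obj O).obj (-(d : ℤ))).presheaf.stalk x) := by
  obtain ⟨hc, hN, hE, hcoh, c₀, hc₀⟩ := H4RSH.ProperLocal.exists_setup_field f adj O hO
  have hX := H4RSH.ProperLocal.dim_le_of_components (fun Z hZ => (hd Z hZ).le)
  have htop : ∀ x : X, Nontrivial ((DCoh.HD (a.obj O).obj (-(d : ℤ))).presheaf.stalk x) := fun x => by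
    refine (Set.ext_iff.1 (H4RSH.ProperLocal.support_top_eq hE hX) x).2 ?_
    exact Set.mem_iUnion₂.2 ⟨irreducibleComponent x, ⟨irreducibleComponent_mem_irreducibleComponents x,
      hd _ (irreducibleComponent_mem_irreducibleComponents x)⟩, mem_irreducibleComponent⟩
  have key : ∀ (x₀ : X) (c : H4RSH.ProperLocal.PtChart (a.obj O).obj x₀) (i : ℤ), i ≠ -(d : ℤ) →
      Subsingleton (Dual.HD (H4DR.Dualizing.Loc c.m) (H4DR.Dualizing.loc c.ω c.m) i) := fun x₀ c i hi =>
    not_nontrivial_iff_subsingleton.1 fun hne =>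
      hi (c.degree_unique (hCM x₀) hne ((c.nontrivial_centre_iff _).1 (htop x₀)))
  refine ⟨fun i hi => H17.FPExt.isZero_of_stalk _ fun x => not_nontrivial_iff_subsingleton.1 fun hne => ?_,
    hcoh _, fun x => ⟨htop x, ?_⟩⟩
  · obtain ⟨x₀, c, q, rfl, hq⟩ := H4RSH.ProperLocal.exists_ptChart_over hE x
    exact not_subsingleton_iff_nontrivial.2
      (H4RSH.ProperLocal.nontrivial_of_mem c.ω c.m hq ((c.nontrivial_iff q i).1 hne)) (key x₀ c i hi)
  · obtain ⟨x₀, c, q, rfl, hq⟩ := H4RSH.ProperLocal.exists_ptChart_over hE x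
    obtain ⟨φ, hφ, T, hT⟩ := H4RSH.ProperLocal.exists_semilinear_HD_stalk c.j _ c.ω c.e q (-(d : ℤ))
    obtain ⟨-, -, -, h4, h5⟩ := H06EGA12.invariants_of_semilinear φ hφ T hT
    rcases H4RSH.ProperLocal.cm_or_zero_loc c.ω c.m c.dual c.norm _ (key x₀ c) hq with h | h
    · exact absurd (h4.2 h) (not_subsingleton_iff_nontrivial.2 (htop _))
    · exact h5.2 h

end Groth.Agent.S3637
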