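import Groth.Statements.S3290
import Groth.Agent.H27Lambda.Basic

set_option autoImplicit false
universe u
open Finset
open LambdaRing

namespace Groth.Agent.S3290

/-- For a positive element e of augmentation m in a λ-ring with positive structure, the polynomials
Σ_{i=0}^{m} γ^i(e − m) t^(m−i) and Σ_{i=0}^{m} λ^i(e) (t − 1)^(m−i) are equal. -/
theorem result (K : Type u) [CommRing K] [LambdaRing.LambdaOps K] (P : LambdaRing.PosStructure K) (e : K) (he : e ∈ P.pos) :
    (∑ i ∈ range ((P.aug e).toNat + 1),
        Polynomial.C (LambdaRing.gamma i (e - ((P.aug e).toNat : K))) * Polynomial.X ^ ((P.aug e).toNat - i)) =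
      ∑ i ∈ range ((P.aug e).toNat + 1),
        Polynomial.C (LambdaRing.LambdaOps.lam i e) * (Polynomial.X - 1) ^ ((P.aug e).toNat - i) := by
  set n := (P.aug e).toNat with hndef
  have hn : ∀ i, n < i → LambdaOps.lam i e = 0 := fun i hi =>
    P.lam_eq_zero e he i (by have := P.aug_pos e he; omega)
  have h1 := H27Lambda.lam_one_eq_zero P
  -- γ_t(e - n) = Σ λ^i(e) t^i (1-t)^(n-i)
  have hs : (1 + H27Lambda.sX (K := K)) * (1 - PowerSeries.X) = 1 := by
    rw [H27Lambda.sX, add_mul, mul_assoc, PowerSeries.mk_one_mul_one_sub_eq_one]; ring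
  have hs' : H27Lambda.sX (K := K) * (1 - PowerSeries.X) = PowerSeries.X := by
    rw [H27Lambda.sX, mul_assoc, PowerSeries.mk_one_mul_one_sub_eq_one, mul_one]
  have hn1 : H27Lambda.gammaSeries (n : K) = (1 + H27Lambda.sX) ^ n := by
    rw [H27Lambda.gammaSeries_eq_subst, H27Lambda.lamSeries_natCast' h1,
      ← PowerSeries.coe_substAlgHom H27Lambda.hasSubst_sX, map_pow, map_add, map_one,
      PowerSeries.substAlgHom_X H27Lambda.hasSubst_sX]
  have hlam : lamSeries e = ∑ i ∈ range (n + 1), PowerSeries.C (LambdaOps.lam i e) * PowerSeries.X ^ i := by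
    ext m
    simp only [H27Lambda.coeff_lamSeries, map_sum, PowerSeries.coeff_C_mul, PowerSeries.coeff_X_pow,
      mul_ite, mul_one, mul_zero, Finset.sum_ite_eq, Finset.mem_range]
    split_ifs with h
    · rfl
    · exact hn m (by omega)
  have hG : H27Lambda.gammaSeries (e - (n : K)) =
      ((∑ i ∈ range (n + 1), Polynomial.C (LambdaOps.lam i e) *
        (Polynomial.X ^ i * (1 - Polynomial.X) ^ (n - i)) : Polynomial K) : PowerSeries K) := by
    have h := H27Lambda.gammaSeries_add (e - (n : K)) (n : K)
    rw [sub_add_cancel, hn1, H27Lambda.gammaSeries_eq_subst e, hlam,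
      ← PowerSeries.coe_substAlgHom H27Lambda.hasSubst_sX, map_sum] at h
    calc H27Lambda.gammaSeries (e - (n : K))
        = H27Lambda.gammaSeries (e - (n : K)) * ((1 + H27Lambda.sX) * (1 - PowerSeries.X)) ^ n := by
          rw [hs, one_pow, mul_one]
      _ = _ := by
          rw [mul_pow, ← mul_assoc, ← h, Finset.sum_mul, ← Polynomial.coeToPowerSeries.ringHom_apply, map_sum]
          refine Finset.sum_congr rfl fun i hi => ?_
          rw [map_mul, map_pow, PowerSeries.substAlgHom_X H27Lambda.hasSubst_sX,
            PowerSeries.coe_substAlgHom, PowerSeries.subst_C]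
          simp only [map_mul, map_pow, map_sub, map_one, Polynomial.coeToPowerSeries.ringHom_apply,
            Polynomial.coe_C, Polynomial.coe_X]
          rw [Finset.mem_range] at hi
          obtain ⟨d, hd⟩ : ∃ d, n = i + d := ⟨n - i, by omega⟩
          rw [hd, Nat.add_sub_cancel_left, pow_add, mul_assoc, ← mul_assoc (H27Lambda.sX ^ i), ← mul_pow, hs']
          rfl
  have hcoeff : ∀ k, gamma k (e - (n : K)) = Polynomial.coeff (∑ i ∈ range (n + 1),
      Polynomial.C (LambdaOps.lam i e) * (Polynomial.X ^ i * (1 - Polynomial.X) ^ (n - i))) k := by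
    intro k
    rw [← H27Lambda.coeff_gammaSeries, hG, Polynomial.coeff_coe]
  have hrefl : ∀ m, (∑ i ∈ range (n + 1), Polynomial.C (gamma i (e - (n : K))) *
      Polynomial.X ^ (n - i)).coeff m = if m ≤ n then gamma (n - m) (e - (n : K)) else 0 := by
    intro m
    rw [Polynomial.finset_sum_coeff]
    simp only [Polynomial.coeff_C_mul_X_pow]
    split_ifs with hm
    · rw [Finset.sum_eq_single (n - m)]
      · rw [if_pos (by omega)]
      · intro b hb hne
        rw [Finset.mem_range] at hb
        rw [if_neg (by omega)]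
      · intro h; exact absurd (Finset.mem_range.2 (by omega)) h
    · exact Finset.sum_eq_zero fun b hb => if_neg (by omega)
  ext m
  rw [hrefl, Polynomial.finset_sum_coeff]
  split_ifs with hm
  · rw [hcoeff, Polynomial.finset_sum_coeff]
    refine Finset.sum_congr rfl fun i hi => ?_
    rw [Finset.mem_range] at hi
    rw [Polynomial.coeff_C_mul, Polynomial.coeff_C_mul, Polynomial.coeff_X_pow_mul']
    congr 1
    rw [show (1 - Polynomial.X : Polynomial K) = -(Polynomial.X + Polynomial.C (-1)) by simp; ring,
      neg_pow, show (Polynomial.X - 1 : Polynomial K) = Polynomial.X + Polynomial.C (-1) by simp; ring]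
    rw [show ((-1 : Polynomial K) ^ (n - i)) = Polynomial.C ((-1 : K) ^ (n - i)) by simp,
      Polynomial.coeff_C_mul, Polynomial.coeff_X_add_C_pow, Polynomial.coeff_X_add_C_pow]
    split_ifs with h
    · have h2 : n - m - i = n - i - m := by omega
      rw [h2, Nat.choose_symm (by omega), show n - i - (n - i - m) = m by omega]
      obtain ⟨d, hd⟩ : ∃ d, n - i = m + d := ⟨n - i - m, by omega⟩
      rw [hd, Nat.add_sub_cancel_left, pow_add, ← mul_assoc, mul_assoc ((-1 : K) ^ m), mul_comm ((-1 : K) ^ d),
        ← mul_assoc, ← mul_pow]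
      simp
    · rw [Nat.choose_eq_zero_of_lt (show n - i < m by omega)]
      simp
  · refine (Finset.sum_eq_zero fun i hi => ?_).symm
    rw [show (Polynomial.X - 1 : Polynomial K) = Polynomial.X + Polynomial.C (-1) by simp; ring,
      Polynomial.coeff_C_mul, Polynomial.coeff_X_add_C_pow, Nat.choose_eq_zero_of_lt (show n - i < m by omega)]
    simp

end Groth.Agent.S3290
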