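import Groth.Statements.S3788
import Groth.Agent.H22Alg.PBRel
import Mathlib

set_option autoImplicit false
universe v u
open CategoryTheory CategoryTheory.Limits AlgebraicGeometry
attribute [local instance] HasDerivedCategory.standard
open KRR

namespace Groth.Agent.S3788

/-- The relation satisfied by the tautological class: let X be a connected Noetherian scheme, E finite
locally free of rank r + 1, and (π : P ⟶ X, O(1), q) its projective bundle P(E) (universal property
for invertible quotients of pull-backs of E), P connected Noetherian. With models of K(X), K(P), g =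
π^K, e = [E] and ℓ = [O(1)]: Σ_{i=0}^{r+1} (-1)^i π^K(λ^i e) ℓ^{r+1-i} = 0 in K(P). -/
theorem result (X P : Scheme.{u}) [IsNoetherian X] [ConnectedSpace ↥X] [IsNoetherian P] [ConnectedSpace ↥P]
    (r : ℕ) (E : X.Modules) (hE : FlatMod.IsFinLocFreeOfRank (r + 1) E)
    (π : P ⟶ X) (O1 : P.Modules) (q : (Scheme.Modules.pullback π).obj E ⟶ O1) (hPB : KRR.IsProjBundle π E O1 q)
    (KX : Type v) [CommRing KX] [LambdaRing.LambdaOps KX] (PX : LambdaRing.PosStructure KX) (φX : SGA6.Kvb X →+ KX) (hKX : KRR.IsModel X KX PX φX)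
    (KP : Type v) [CommRing KP] [LambdaRing.LambdaOps KP] (PP : LambdaRing.PosStructure KP) (φP : SGA6.Kvb P →+ KP) (hKP : KRR.IsModel P KP PP φP)
    (g : KX →+ KP) (hg : KRR.IsPull π φX φP g) :
    ∑ i ∈ Finset.range (r + 2), (-1 : KP) ^ i * g (LambdaRing.LambdaOps.lam i (φX (KRR.cl X E))) * φP (KRR.cl P O1) ^ (r + 1 - i) = 0 := by
  haveI := hPB.epi
  exact Groth.Agent.H22Alg.PBRel.relation hKX hKP hg hE hPB.invertible q

end Groth.Agent.S3788
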