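import Groth.Statements.S3789
import Groth.Agent.H22Alg.PB.Gen
import Mathlib

set_option autoImplicit false
universe v u
open CategoryTheory CategoryTheory.Limits AlgebraicGeometry
attribute [local instance] HasDerivedCategory.standard
open KRR

namespace Groth.Agent.S3789

/-- Let X be a connected Noetherian scheme, E finite locally free of rank r + 1, and (π : P ⟶ X, O(1),
q) its projective bundle P(E), P connected Noetherian. With models of K(X), K(P), g = π^K and ℓ =
[O(1)]: the map (a_0, …, a_r) ↦ Σ_i π^K(a_i) ℓ^i from K(X)^{r+1} to K(P) is bijective, so that K(P)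
= K(X)_e = K(X)[ℓ] with the relation of projectiveBundle_tautological_relation. -/
theorem result (X P : Scheme.{u}) [IsNoetherian X] [ConnectedSpace ↥X] [IsNoetherian P] [ConnectedSpace ↥P]
    (r : ℕ) (E : X.Modules) (hE : FlatMod.IsFinLocFreeOfRank (r + 1) E)
    (π : P ⟶ X) (O1 : P.Modules) (q : (Scheme.Modules.pullback π).obj E ⟶ O1) (hPB : KRR.IsProjBundle π E O1 q)
    (KX : Type v) [CommRing KX] [LambdaRing.LambdaOps KX] (PX : LambdaRing.PosStructure KX) (φX : SGA6.Kvb X →+ KX) (hKX : KRR.IsModel X KX PX φX)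
    (KP : Type v) [CommRing KP] [LambdaRing.LambdaOps KP] (PP : LambdaRing.PosStructure KP) (φP : SGA6.Kvb P →+ KP) (hKP : KRR.IsModel P KP PP φP)
    (g : KX →+ KP) (hg : KRR.IsPull π φX φP g) :
    Function.Bijective (fun a : Fin (r + 1) → KX => ∑ i : Fin (r + 1), g (a i) * φP (KRR.cl P O1) ^ (i : ℕ)) := by
  obtain ⟨O, hO, ⟨e1⟩, Ψ, hΨ, hbij⟩ := Groth.Agent.H22Alg.PB.exists_bijective hE hPB
  have hOf : ∀ d, FlatMod.IsFinLocFree (O d) := fun d => Groth.Agent.H22Alg.PnVan.finLocFree_of_inv (hO.inv d)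
  have hpow : ∀ n : ℕ, φP (KRR.cl P (O (n : ℤ))) = φP (KRR.cl P O1) ^ n := fun n => by
    induction n with
    | zero =>
      obtain ⟨e⟩ := hO.zero
      rw [pow_zero, ← hKP.map_one, Nat.cast_zero]
      exact congrArg φP (Groth.Agent.H22Alg.KModel.cl_iso e (hOf 0))
    | succ n ih =>
      obtain ⟨e⟩ := hO.add (n : ℤ) 1
      rw [pow_succ, ← ih, ← Groth.Agent.H22Alg.KModel.cl_iso e1 (hOf 1), hKP.map_mul _ _ (hOf _) (hOf _)]
      exact congrArg φP ((Groth.Agent.H22Alg.KModel.cl_iso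
        (e ≪≫ eqToIso (congrArg O (by push_cast; ring)))
        (Groth.Agent.H16Derived.KFlat.Stalk.isFinLocFree_tensor (hOf _) (hOf _))).symm)
  have key : ∀ (i : ℕ) (y : SGA6.Kvb X),
      φP (Ψ (i : ℤ) y) = g (φX y) * φP (KRR.cl P O1) ^ i := fun i y => by
    refine DFunLike.congr_fun (Groth.Agent.H22Alg.KModel.kvb_ext (a := φP.comp (Ψ (i : ℤ)))
      (b := (AddMonoidHom.mulRight (φP (KRR.cl P O1) ^ i)).comp (g.comp φX)) fun A hA => ?_) y
    show φP (Ψ (i : ℤ) (KRR.cl X A)) = g (φX (KRR.cl X A)) * φP (KRR.cl P O1) ^ i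
    rw [hΨ _ A hA, hg A hA, ← hpow i, mul_comm,
      hKP.map_mul _ _ (hOf _) (Groth.Agent.H16Derived.KFlat.Stalk.isFinLocFree_pullback π hA)]
  constructor
  · intro a b hab
    choose a' ha' using fun i => hKX.bijective.2 (a i)
    choose b' hb' using fun i => hKX.bijective.2 (b i)
    have h : Groth.Agent.H22Alg.PB.Φ (fun i : Fin (r + 1) => Ψ ((i : ℕ) : ℤ)) a' =
        Groth.Agent.H22Alg.PB.Φ (fun i : Fin (r + 1) => Ψ ((i : ℕ) : ℤ)) b' := by
      refine hKP.bijective.1 ?_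
      simp only [Groth.Agent.H22Alg.PB.Φ, AddMonoidHom.mk'_apply, map_sum, key, ha', hb']
      exact hab
    funext i
    rw [← ha' i, ← hb' i, congrFun (hbij.1 h) i]
  · intro x
    obtain ⟨x', rfl⟩ := hKP.bijective.2 x
    obtain ⟨a', rfl⟩ := hbij.2 x'
    exact ⟨fun i => φX (a' i), by simp only [Groth.Agent.H22Alg.PB.Φ, AddMonoidHom.mk'_apply, map_sum, key]⟩

end Groth.Agent.S3789
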