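import Groth.Statements.S12451
import Groth.Agent.H8Props.FinLocFree.Global

set_option autoImplicit false
universe u
open CategoryTheory AlgebraicGeometry
open Props

namespace Groth.Agent.S12451

/-- For a commutative ring R and an R-module M, the associated quasi-coherent module M~ on Spec R is a
finite locally free O-module exactly when M is finitely generated and projective over R
(equivalently, a finite locally free R-module). -/
theorem result {R : CommRingCat.{u}} (M : ModuleCat.{u} R) :
    FlatMod.IsFinLocFree (tilde M) ↔ Module.Finite R M ∧ Module.Projective R M := by
  refine ⟨fun h => ?_, fun h => ?_⟩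
  · obtain ⟨hf, hp⟩ := Groth.Agent.H8Props.FinLocFree.finite_projective_sections (tilde M) h
      (isAffineOpen_top (Spec R))
    haveI := hf
    haveI := hp
    haveI := (Groth.Agent.H8Props.FinLocFree.finitePresentation_top_iff M).1
      (Module.finitePresentation_of_projective _ _)
    haveI := (Groth.Agent.H8Props.FinLocFree.flat_top_iff M).1 inferInstance
    exact ⟨inferInstance, Module.Flat.projective_of_finitePresentation⟩
  · obtain ⟨hf, hp⟩ := h
    refine Groth.Agent.H8Props.FinLocFree.isFinLocFree_of_sections (tilde M) inferInstance
      fun x => ⟨⊤, isAffineOpen_top (Spec R), trivial, ?_, ?_⟩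
    · exact (Groth.Agent.H8Props.FinLocFree.finitePresentation_top_iff M).2
        (Module.finitePresentation_of_projective _ _)
    · exact (Groth.Agent.H8Props.FinLocFree.flat_top_iff M).2 inferInstance

end Groth.Agent.S12451
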