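import Groth.Statements.S1034
import Groth.Agent.H16Derived.Seq.OneSubShift

set_option autoImplicit false
universe v v' u u'
open CategoryTheory CategoryTheory.Limits
open DerLim

namespace Groth.Agent.S1034

open CategoryTheory.Pretriangulated
open Groth.Agent.H16Derived

set_option linter.style.haveILetI false

theorem sigmaComparison_shift {D : Type u} [Category.{v} D] [Preadditive D] {E : Type u'}
    [Category.{v'} E] [Preadditive E] (G : D ⥤ E) [G.Additive] (K : ℕ → D) (f : ∀ n, K n ⟶ K (n + 1))
    [HasCoproduct K] [HasCoproduct fun n => G.obj (K n)] :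
    (𝟙 _ - DerLim.shiftMap (fun n => G.obj (K n)) (fun n => G.map (f n))) ≫ sigmaComparison G K =
      sigmaComparison G K ≫ G.map (𝟙 _ - DerLim.shiftMap K f) := by
  refine Sigma.hom_ext _ _ fun n => ?_
  simp only [Preadditive.sub_comp, Category.id_comp, Preadditive.comp_sub, DerLim.shiftMap,
    Sigma.ι_desc_assoc, ι_comp_sigmaComparison, ι_comp_sigmaComparison_assoc, Category.assoc,
    G.map_sub, G.map_id, Category.comp_id, ← G.map_comp, Sigma.ι_desc]

theorem mono_map_one_sub_shift {D : Type u} [Category.{v} D] [Preadditive D] {A : Type u'}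
    [Category.{v'} A] [Abelian A] [HasColimitsOfShape ℕ A] [HasExactColimitsOfShape ℕ A]
    (G : D ⥤ A) [G.Additive] (K : ℕ → D) (f : ∀ n, K n ⟶ K (n + 1)) [HasCoproduct K]
    [PreservesColimit (Discrete.functor K) G] : Mono (G.map (𝟙 _ - DerLim.shiftMap K f)) := by
  let F := Functor.ofSequence fun n => G.map (f n)
  haveI : HasCoproduct fun n => G.obj (K n) := ⟨⟨_, isColimitCofanMkObjOfIsColimit G K _ (coproductIsCoproduct K)⟩⟩
  haveI : HasCoproduct F.obj := inferInstanceAs (HasCoproduct fun n => G.obj (K n))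
  have hs : Seq.step F = fun n => G.map (f n) := funext fun n =>
    Functor.ofSequence_map_homOfLE_succ (fun n => G.map (f n)) n
  have h0 := Seq.mono_one_sub_shift F
  rw [hs] at h0
  haveI : Mono (𝟙 _ - DerLim.shiftMap (fun n => G.obj (K n)) (fun n => G.map (f n))) := h0
  have h := sigmaComparison_shift G K f
  rw [show G.map (𝟙 _ - DerLim.shiftMap K f) = inv (sigmaComparison G K) ≫
    (𝟙 _ - DerLim.shiftMap (fun n => G.obj (K n)) (fun n => G.map (f n))) ≫ sigmaComparison G K by
      rw [h, IsIso.inv_hom_id_assoc]]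
  infer_instance

open CategoryTheory.Pretriangulated in
/-- Let D be a pretriangulated category with countable direct sums, A an abelian category with exact
colimits of shape ℕ, and H : D ⥤ A a homological functor that preserves countable direct sums. If L
(with maps iₙ : Kₙ ⟶ L) is a homotopy colimit of a system (Kₙ, fₙ), then H(L) is the colimit of the
H(Kₙ): there is an isomorphism colimₙ H(Kₙ) ≅ H(L) compatible with the maps H(iₙ). -/
theorem result {D : Type u} [Category.{v} D] [Preadditive D] [Limits.HasZeroObject D] [HasShift D ℤ]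
    [∀ n : ℤ, (shiftFunctor D n).Additive] [Pretriangulated D] [IsTriangulated D] [HasColimitsOfShape (Discrete ℕ) D]
    {A : Type u'} [Category.{v'} A] [Abelian A] [HasColimitsOfShape ℕ A] [HasExactColimitsOfShape ℕ A]
    (H : D ⥤ A) [H.IsHomological] [PreservesColimitsOfShape (Discrete ℕ) H]
    (K : ℕ → D) (f : ∀ n, K n ⟶ K (n + 1)) (L : D) (i : ∀ n, K n ⟶ L) (hL : DerLim.IsHocolim K f L i) :
    ∃ e : colimit (Functor.ofSequence (fun n => H.map (f n))) ≅ H.obj L,
      ∀ n : ℕ, colimit.ι (Functor.ofSequence (fun n => H.map (f n))) n ≫ e.hom = H.map (i n) := by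
  obtain ⟨c, hT⟩ := hL
  let T := Triangle.mk (𝟙 (∐ K) - DerLim.shiftMap K f) (Sigma.desc i) c
  haveI : PreservesColimitsOfShape (Discrete ℕ) (shiftFunctor D (1 : ℤ) ⋙ H) :=
    comp_preservesColimitsOfShape _ _
  haveI := H.map_distinguished_exact _ hT
  have hm : Mono (H.map T.rotate.rotate.mor₂) := by
    show Mono (H.map (-(T.mor₁⟦(1 : ℤ)⟧')))
    rw [H.map_neg]
    haveI : Mono (H.map (T.mor₁⟦(1 : ℤ)⟧')) :=
      mono_map_one_sub_shift (shiftFunctor D (1 : ℤ) ⋙ H) K f
    infer_instance
  have hc : H.map T.mor₃ = 0 := by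
    have e := (H.map_distinguished_exact _ (rot_of_distTriang _ (rot_of_distTriang _ hT)))
    have e0 : H.map T.rotate.rotate.mor₁ = 0 := zero_of_comp_mono (H.map T.rotate.rotate.mor₂)
      (by rw [← H.map_comp, comp_distTriang_mor_zero₁₂ _ (rot_of_distTriang _ (rot_of_distTriang _ hT)), H.map_zero])
    exact e0
  have hepi : Epi (H.map T.mor₂) :=
    (H.map_distinguished_exact _ (rot_of_distTriang _ hT)).epi_f hc
  let F := Functor.ofSequence fun n => H.map (f n)
  have w : ∀ n, f n ≫ i (n + 1) = i n := fun n => by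
    have h0 : (𝟙 (∐ K) - DerLim.shiftMap K f) ≫ Sigma.desc i = 0 := comp_distTriang_mor_zero₁₂ _ hT
    have h : Sigma.ι K n ≫ (𝟙 (∐ K) - DerLim.shiftMap K f) ≫ Sigma.desc i = 0 := by
      rw [h0, comp_zero]
    simp only [Preadditive.sub_comp, Category.id_comp, Preadditive.comp_sub, DerLim.shiftMap,
      Sigma.ι_desc_assoc, Category.assoc, Sigma.ι_desc, sub_eq_zero] at h
    exact h.symm
  let φ : colimit F ⟶ H.obj L := colimit.desc F
    { pt := H.obj L
      ι := NatTrans.ofSequence (fun n => H.map (i n)) fun n => by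
        simp only [F, Functor.ofSequence_map_homOfLE_succ]
        exact ((H.map_comp _ _).symm.trans (congrArg H.map (w n))).trans (Category.comp_id _).symm }
  have hφ : ∀ n, colimit.ι F n ≫ φ = H.map (i n) := fun n => colimit.ι_desc _ _
  haveI : HasCoproduct fun n => H.obj (K n) := ⟨⟨_, isColimitCofanMkObjOfIsColimit H K _ (coproductIsCoproduct K)⟩⟩
  let d : H.obj (∐ K) ⟶ colimit F :=
    inv (sigmaComparison H K) ≫ Sigma.desc fun n => colimit.ι F n
  have hd : H.map (Sigma.desc i) = d ≫ φ := by
    rw [Category.assoc, IsIso.eq_inv_comp]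
    refine Sigma.hom_ext _ _ fun n => ?_
    rw [ι_comp_sigmaComparison_assoc, Sigma.ι_desc_assoc]
    refine Eq.trans ?_ (hφ n).symm
    rw [← H.map_comp, Sigma.ι_desc]
  have hd0 : H.map (𝟙 (∐ K) - DerLim.shiftMap K f) ≫ d = 0 := by
    rw [← cancel_epi (sigmaComparison H K), comp_zero]
    rw [← Category.assoc, ← sigmaComparison_shift, Category.assoc, IsIso.hom_inv_id_assoc]
    refine Sigma.hom_ext _ _ fun n => ?_
    have := colimit.w F (homOfLE (Nat.le_succ n))
    simp only [F, Functor.ofSequence_map_homOfLE_succ] at this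
    simp only [DerLim.shiftMap, Preadditive.sub_comp, Preadditive.comp_sub, Category.id_comp,
      Sigma.ι_desc_assoc, Category.assoc, Sigma.ι_desc, comp_zero, sub_eq_zero]
    exact this.symm
  have hex := H.map_distinguished_exact _ hT
  haveI : Epi (H.map (Sigma.desc i)) := hepi
  haveI : Epi ((shortComplexOfDistTriangle _ hT).map H).g := hepi
  obtain ⟨ψ, hψ⟩ : { ψ : H.obj L ⟶ colimit F // H.map (Sigma.desc i) ≫ ψ = d } :=
    CokernelCofork.IsColimit.desc' hex.gIsCokernel d hd0
  haveI : Epi d := by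
    haveI : Epi (Sigma.desc fun n => colimit.ι F n : (∐ fun n => H.obj (K n)) ⟶ colimit F) :=
      ⟨fun g h hgh => colimit.hom_ext fun n => by
        have := congrArg (Sigma.ι (fun n => H.obj (K n)) n ≫ ·) hgh
        simp only [Sigma.ι_desc_assoc] at this
        exact this⟩
    exact epi_comp _ _
  refine ⟨⟨φ, ψ, ?_, ?_⟩, hφ⟩
  · rw [← cancel_epi d, ← Category.assoc, ← hd, hψ, Category.comp_id]
  · rw [← cancel_epi (H.map (Sigma.desc i)), ← Category.assoc, hψ, ← hd, Category.comp_id]

end Groth.Agent.S1034
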