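import Groth.Statements.S15821
import Groth.Agent.H29Slice.KoszulReg

set_option autoImplicit false
universe u
open CategoryTheory
open Koszul

namespace Groth.Agent.S15821

/-- Let A be a commutative ring and f = (f_1, …, f_r) a sequence in A which is regular in the weak sense
(f_1 is a non-zero-divisor of A and each f_i is a non-zero-divisor of A/(f_1, …, f_{i-1}); no
condition A/(f) ≠ 0). Then the Koszul complex K(f) (iterated mapping-cone model, degrees -r, …, 0)
has vanishing cohomology in all nonzero degrees, i.e. f is Koszul-regular, and its cohomology in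
degree 0 is isomorphic as an A-module to A/(f_1, …, f_r) (existence of an A-linear isomorphism):
K(f) is a free resolution of A/(f). -/
theorem result (A : Type u) [CommRing A] (l : List A)
    (hl : RingTheory.Sequence.IsWeaklyRegular A l) :
    LCI.IsKoszulRegularSeq A l ∧
      Nonempty ((Koszul.koszul A l).homology 0 ≅ ModuleCat.of A (A ⧸ Ideal.ofList l)) := by
  have hk := Groth.Agent.H29Slice.isKoszulRegular_of_isWeaklyRegular hl
  refine ⟨hk, ?_⟩
  let E := Koszul.koszul A l
  obtain ⟨ε, hε⟩ := Groth.Agent.H8Props.PseudoCoh.koszul_zero l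
  haveI := ModuleCat.subsingleton_of_isZero
    (Groth.Agent.H8Props.PseudoCoh.koszul_isZero l 1 (Or.inr one_pos))
  let Sc := E.sc' (-1) 0 1
  let q : LinearMap.ker Sc.g.hom →ₗ[A] A ⧸ Ideal.ofList l :=
    (Submodule.mkQ (Ideal.ofList l)) ∘ₗ ε.toLinearMap ∘ₗ (LinearMap.ker Sc.g.hom).subtype
  have hq : Function.Surjective q := fun y => by
    obtain ⟨a, rfl⟩ := Submodule.Quotient.mk_surjective _ y
    exact ⟨⟨ε.symm a, Subsingleton.elim (α := (Koszul.koszul A l).X 1) _ _⟩,
      congrArg (Submodule.mkQ (Ideal.ofList l)) (ε.apply_symm_apply a)⟩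
  let e := (Submodule.quotEquivOfEq (LinearMap.range Sc.moduleCatToCycles) (LinearMap.ker q) (by
      ext z
      rw [LinearMap.mem_ker]
      show z ∈ LinearMap.range Sc.moduleCatToCycles ↔ Submodule.Quotient.mk (ε z.1) = 0
      rw [Submodule.Quotient.mk_eq_zero, ← hε]
      exact ⟨fun ⟨w, hw⟩ => ⟨z.1, ⟨w, congrArg Subtype.val hw⟩, rfl⟩,
        fun ⟨v, ⟨w, hw⟩, hvz⟩ => ⟨w, Subtype.ext (hw.trans (ε.injective hvz))⟩⟩)).trans
    (q.quotKerEquivOfSurjective hq)
  exact ⟨E.homologyIsoSc' (-1) 0 1 (by simp) (by simp) ≪≫ Sc.moduleCatHomologyIso ≪≫ e.toModuleIso⟩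

end Groth.Agent.S15821
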