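import Groth.Statements.S8652
import Groth.Agent.H17.KoszulBC
import Groth.Agent.H29Slice.RegImm
-- import your own Groth.Agent.* helpers here

set_option autoImplicit false
universe u
open CategoryTheory CategoryTheory.Limits AlgebraicGeometry
open RegImm

namespace Groth.Agent.S8652

/-- Let i : Y ⟶ X be a Koszul-regular immersion (Koszul-regular: locally, in affine opens of X where the
image is closed, the ideal is generated by a sequence whose Koszul complex is acyclic in nonzero
degrees) and let g : X' ⟶ X be flat. For any cartesian square with i' : Y' ⟶ X' the base change of i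
along g, i' is a Koszul-regular immersion. -/
theorem result {X Y X' Y' : Scheme.{u}} (i : Y ⟶ X) (g : X' ⟶ X) [Flat g]
    (i' : Y' ⟶ X') (g' : Y' ⟶ Y) (hsq : IsPullback g' i' i g)
    (hi : RegImm.IsRegularImmersion .koszul i) : RegImm.IsRegularImmersion .koszul i' := by
  haveI := hi.1
  refine ⟨MorphismProperty.of_isPullback (P := @IsImmersion) hsq hi.1, fun z' => ?_⟩
  obtain ⟨U, hz, hcl, rs, hrs, hker⟩ := hi.2 (g' z')
  have hzz : i' z' ∈ g ⁻¹ᵁ U.1 := by
    show g (i' z') ∈ U.1
    rw [← Scheme.Hom.comp_apply, ← hsq.w]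
    exact hz
  obtain ⟨W, hW, hzW, hWU⟩ := exists_isAffineOpen_mem_and_subset (U := g ⁻¹ᵁ U.1) hzz
  obtain ⟨hcl', hker'⟩ := Groth.Agent.H29Slice.restrict_baseChange hsq U.2 hcl hW (e := hWU)
  letI := (g.appLE U.1 W hWU).hom.toAlgebra
  haveI : Module.Flat Γ(X, U.1) Γ(X', W) := HasRingHomProperty.appLE @Flat g inferInstance U ⟨W, hW⟩ hWU
  refine ⟨⟨W, hW⟩, hzW, hcl', rs.map (algebraMap Γ(X, U.1) Γ(X', W)),
    Groth.Agent.H17.KoszulBC.isKoszulRegularSeq_map _ hrs, ?_⟩
  rw [hker', hker, Ideal.map_ofList]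
  rfl

end Groth.Agent.S8652
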