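import Groth.Statements.S10665
import Groth.Agent.S8652
import Groth.Agent.H18Et.ClosedLift
import Groth.Agent.H12AlgSp.LocP

set_option autoImplicit false
universe u
open CategoryTheory CategoryTheory.Limits AlgebraicGeometry
open AlgSp

namespace Groth.Agent.S10665

open CategoryTheory CategoryTheory.Limits AlgebraicGeometry

theorem koszulAt_etale_comp {U W V : Scheme.{u}} (p : U ⟶ W) [Etale p] (i : W ⟶ V)
    (hi : RegImm.IsRegularImmersion RegImm.Kind.koszul i) (u : U) : Synt.IsKoszulAt (p ≫ i) u := by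
  obtain ⟨O, hz, hcl, -⟩ := hi.2 (p.base u)
  have sq1 : IsPullback (i ⁻¹ᵁ O.1).ι (i ∣_ O.1) i O.1.ι := (isPullback_morphismRestrict i O.1).flip
  have hi1 := Groth.Agent.S8652.result i O.1.ι (i ∣_ O.1) (i ⁻¹ᵁ O.1).ι sq1 hi
  obtain ⟨V', q, U', j, a, -, hq, hj, ⟨u', hu'⟩, hpb⟩ :=
    Groth.Agent.H18Et.exists_etale_lift_closed (i ∣_ O.1) (p ∣_ (i ⁻¹ᵁ O.1)) ⟨u, hz⟩
  have hi2 := Groth.Agent.S8652.result (i ∣_ O.1) q a (j ≫ (p ∣_ (i ⁻¹ᵁ O.1))) hpb.flip hi1
  let m : U' ⟶ U := j ≫ (p ⁻¹ᵁ (i ⁻¹ᵁ O.1)).ι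
  let e := m.isoOpensRange
  have sq2 : IsPullback e.inv (e.inv ≫ a) a (𝟙 V') :=
    IsPullback.of_horiz_isIso ⟨by simp⟩
  have hi3 := Groth.Agent.S8652.result a (𝟙 V') (e.inv ≫ a) e.inv sq2 hi2
  have : IsImmersion i := hi.1
  refine ⟨m.opensRange, V', e.inv ≫ a, q ≫ O.1.ι, ⟨u', ?_⟩, inferInstance, hi3, inferInstance, ?_⟩
  · show (j ≫ (p ⁻¹ᵁ (i ⁻¹ᵁ O.1)).ι).base u' = u
    rw [Scheme.Hom.comp_apply, hu']
    rfl
  · have h1 := hpb.w
    rw [← cancel_epi e.hom]
    simp only [← Category.assoc, Iso.hom_inv_id, Category.id_comp]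
    rw [Scheme.Hom.isoOpensRange_hom_ι]
    simp only [m, Category.assoc]
    rw [reassoc_of% h1]
    simp

theorem key {S : Scheme.{u}} {F G : AlgSp.Sp S} (i : F ⟶ G) (hrep : AlgSp.Representable i)
    (hreg : ∀ ⦃V W : Over S⦄ (b : (AlgSp.yon S).obj V ⟶ G) (fst : (AlgSp.yon S).obj W ⟶ F) (snd : W ⟶ V),
      AlgSp.RepWith @Etale b → IsPullback fst ((AlgSp.yon S).map snd) i b → AlgSp.regImm RegImm.Kind.koszul snd.left)
    {U V : Over S} (a : (AlgSp.yon S).obj U ⟶ F) (b : (AlgSp.yon S).obj V ⟶ G) (h : U ⟶ V)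
    (ha : AlgSp.RepWith @Etale a) (hb : AlgSp.RepWith @Etale b) (w : a ≫ i = (AlgSp.yon S).map h ≫ b) :
    ∀ u, Synt.IsKoszulAt h.left u := by
  obtain ⟨W, snd', fst, sq⟩ := hrep b
  obtain ⟨l, hl1, hl2⟩ := sq.exists_lift a ((AlgSp.yon S).map h) w
  obtain ⟨l', rfl⟩ := (AlgSp.yon S).map_surjective l
  have e : l' ≫ snd' = h := (AlgSp.yon S).map_injective (by rw [Functor.map_comp, hl2])
  have hfst : AlgSp.RepWith @Etale fst := MorphismProperty.of_isPullback sq.flip hb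
  have : Etale l'.left := Groth.Agent.H12AlgSp.etale_of_repWith l' hfst (by rw [hl1]; exact ha)
  rw [← e, Over.comp_left]
  exact koszulAt_etale_comp l'.left snd'.left (hreg b fst snd' hb sq)


/-- A Koszul-regular immersion between algebraic spaces over S (representable, Koszul-regular immersion
on every etale scheme chart of the target) is a local complete intersection morphism (Koszul at
every point, etale locally on source and target). -/
theorem result {S : Scheme.{u}} {X Y : AlgSp.Space S} (i : X ⟶ Y) (hi : AlgSp.IsRegImmMor RegImm.Kind.koszul i.hom) :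
    AlgSp.IsLCIMor i.hom := by
  intro U V a b h ha hb w
  obtain ⟨hrep, hreg⟩ := hi
  exact key i.hom hrep hreg a b h ha hb w

end Groth.Agent.S10665
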