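import Groth.Statements.S9773
import Groth.Agent.H29Slice.KoszulReg

set_option autoImplicit false
set_option linter.style.haveILetI false
universe u
open FlatMor

namespace Groth.Agent.S9773

open AlgebraicGeometry CategoryTheory Limits in
/-- A regular immersion of schemes, and likewise a Koszul-regular immersion, is a local complete
intersection morphism (Koszul at every point). -/
theorem result {Z X : Scheme.{u}} (i : Z ⟶ X) (k : RegImm.Kind)
    (hk : k = RegImm.Kind.regular ∨ k = RegImm.Kind.koszul) (hi : RegImm.IsRegularImmersion k i) (z : Z) :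
    Synt.IsKoszulAt i z := by
    haveI := hi.1
    refine ⟨⊤, X, (⊤ : Z.Opens).ι ≫ i, 𝟙 X, trivial, inferInstance, ⟨inferInstance, fun w => ?_⟩, inferInstance, Category.comp_id _⟩
    haveI : IsIso (⊤ : Z.Opens).ι := inferInstanceAs (IsIso Z.topIso.hom)
    obtain ⟨U, hwU, hc, rs, hrs, hker⟩ := hi.2 ((⊤ : Z.Opens).ι w)
    refine ⟨U, hwU, ?_, rs, ?_, ?_⟩
    · rw [morphismRestrict_comp]
      haveI := hc
      haveI : IsIso ((⊤ : Z.Opens).ι ∣_ (i ⁻¹ᵁ U.1)) := inferInstance
      exact MorphismProperty.comp_mem @IsClosedImmersion _ _ (MorphismProperty.of_isPullback (isPullback_morphismRestrict _ _).flip (inferInstance : IsClosedImmersion (⊤ : Z.Opens).ι)) hc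
    · rcases hk with rfl | rfl
      · exact H29Slice.isKoszulRegular_of_isWeaklyRegular hrs.toIsWeaklyRegular
      · exact hrs
    · rw [← hker, Scheme.Hom.comp_app]
      ext a
      rw [RingHom.mem_ker, RingHom.mem_ker]
      change ((⊤ : Z.Opens).ι.app (i ⁻¹ᵁ U.1)).hom ((i.app U.1).hom a) = 0 ↔ _
      exact map_eq_zero_iff _ ((ConcreteCategory.isIso_iff_bijective ((⊤ : Z.Opens).ι.app _)).1 inferInstance).1

end Groth.Agent.S9773
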