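import Groth.Statements.S9384
import Groth.Agent.H29Omega.ConormalDiffStalk
import Mathlib

set_option autoImplicit false
universe u
open OmegaSh

namespace Groth.Agent.S9384

open AlgebraicGeometry CategoryTheory CategoryTheory.Limits TopologicalSpace Opposite TensorProduct
open Groth.Agent.H06Mod Groth.Agent.H29Omega

attribute [local instance] Groth.Agent.H06Mod.stalkAlgebra

lemma germ_app_congr {A B : Scheme.{u}} {h h' : A ⟶ B} (e : h = h') (U : B.Opens) (x : A)
    (hx : x ∈ h ⁻¹ᵁ U) (hx' : x ∈ h' ⁻¹ᵁ U) (t : Γ(B, U)) :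
    A.presheaf.germ (h ⁻¹ᵁ U) x hx (h.app U t) = A.presheaf.germ (h' ⁻¹ᵁ U) x hx' (h'.app U t) := by
  subst e; rfl

lemma hom_ext_stalk {X : Scheme.{u}} {M N : X.Modules} (f g : M ⟶ N)
    (h : ∀ x a, stalkLin f x a = stalkLin g x a) : f = g := by
  refine Scheme.Modules.hom_ext _ _ fun U => ?_
  ext s
  refine TopCat.Presheaf.section_ext (⟨N.presheaf, N.isSheaf⟩ : TopCat.Sheaf Ab.{u} X) U _ _ fun x hx => ?_
  show N.presheaf.germ U x hx (f.app U s) = N.presheaf.germ U x hx (g.app U s)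
  rw [← stalkLin_germ, ← stalkLin_germ, h]

variable {Z X S : Scheme.{u}} (f : X ⟶ S) (i : Z ⟶ X) (g : X ⟶ Z)

lemma res_app_app (hgi : i ≫ g = 𝟙 Z) (V : Z.Opens) (h : V ≤ i ⁻¹ᵁ (g ⁻¹ᵁ V)) (t : Γ(Z, V)) :
    Z.presheaf.map (homOfLE h).op (i.app (g ⁻¹ᵁ V) (g.app V t)) = t := by
  refine TopCat.Presheaf.section_ext (⟨Z.presheaf, Z.IsSheaf⟩ : TopCat.Sheaf CommRingCat.{u} Z) V _ _ fun z hz => ?_
  show Z.presheaf.germ V z hz _ = Z.presheaf.germ V z hz t
  rw [TopCat.Presheaf.germ_res_apply]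
  exact germ_app_congr hgi V z (h hz) hz t

lemma le_pre (hgi : i ≫ g = 𝟙 Z) (V : Z.Opens) : V ≤ i ⁻¹ᵁ (g ⁻¹ᵁ V) := fun z hz => by
  show (i ≫ g) z ∈ V
  rw [hgi]; exact hz

lemma presheaf_map_map {X : Scheme.{u}} (M : X.Modules) {U V W : (TopologicalSpace.Opens X)ᵒᵖ} (a : U ⟶ V)
    (b : V ⟶ W) (m : M.presheaf.obj U) :
    M.presheaf.map b (M.presheaf.map a m) = M.presheaf.map (a ≫ b) m := by
  rw [M.presheaf.map_comp]; rfl

variable {f}

/-- The derivation `t ↦ d (g♯ t)` on `Z`. -/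
noncomputable def secDer (hgi : i ≫ g = 𝟙 Z) (hgS : g ≫ i ≫ f = f) {ΩX : X.Modules} (dX : OmegaSh.Der f ΩX) :
    OmegaSh.Der (i ≫ f) ((Scheme.Modules.pullback i).obj ΩX) where
  d {V} :=
    { toFun := fun (t : Γ(Z, V.unop)) => ((Scheme.Modules.pullback i).obj ΩX).presheaf.map
        (homOfLE (le_pre i g hgi V.unop)).op
        (OmegaSh.pullSect i ΩX (g ⁻¹ᵁ V.unop) (dX.app (g ⁻¹ᵁ V.unop) (g.app V.unop t)))
      map_zero' := by
        show ((Scheme.Modules.pullback i).obj ΩX).presheaf.map _ (OmegaSh.pullSect i ΩX _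
          (dX.app _ (g.app V.unop (0 : Γ(Z, V.unop))))) = 0
        rw [map_zero, map_zero, map_zero, map_zero]
      map_add' := fun a b => by
        show ((Scheme.Modules.pullback i).obj ΩX).presheaf.map _ (OmegaSh.pullSect i ΩX _
          (dX.app _ (g.app V.unop ((show Γ(Z, V.unop) from a) + b)))) = _
        rw [map_add, map_add, map_add, map_add]
        rfl }
  d_mul {V} a b := by
    obtain ⟨V⟩ := V
    change ((Scheme.Modules.pullback i).obj ΩX).presheaf.map _ (OmegaSh.pullSect i ΩX _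
      (dX.app _ (g.app V ((show Γ(Z, V) from a) * b)))) = _
    have h1 : dX.app (g ⁻¹ᵁ V) (g.app V a * g.app V b) =
        g.app V a • dX.app (g ⁻¹ᵁ V) (g.app V b) + g.app V b • dX.app (g ⁻¹ᵁ V) (g.app V a) :=
      dX.d_mul (g.app V a) (g.app V b)
    have h2 : ∀ (r : Γ(X, g ⁻¹ᵁ V)) (m : Γ(ΩX, g ⁻¹ᵁ V)),
        OmegaSh.pullSect i ΩX (g ⁻¹ᵁ V) (r • m) = i.app (g ⁻¹ᵁ V) r • OmegaSh.pullSect i ΩX (g ⁻¹ᵁ V) m :=
      fun r m => Scheme.Modules.Hom.app_smul _ r m
    rw [map_mul, h1, map_add, h2, h2, map_add, Scheme.Modules.map_smul, Scheme.Modules.map_smul,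
      res_app_app i g hgi V (le_pre i g hgi V), res_app_app i g hgi V (le_pre i g hgi V)]
    rfl
  d_map {U V} k a := by
    obtain ⟨U⟩ := U
    obtain ⟨V⟩ := V
    change ((Scheme.Modules.pullback i).obj ΩX).presheaf.map _ (OmegaSh.pullSect i ΩX _
      (dX.app _ (g.app V (Z.presheaf.map k a)))) =
        ((Scheme.Modules.pullback i).obj ΩX).presheaf.map k (((Scheme.Modules.pullback i).obj ΩX).presheaf.map _
          (OmegaSh.pullSect i ΩX _ (dX.app _ (g.app U a))))
    have hk : V ≤ U := k.unop.le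
    have h1 : g.app V (Z.presheaf.map k a) =
        X.presheaf.map ((Opens.map g.base).map k.unop).op (g.app U a) := congr($(g.naturality k) a)
    have h2 : ∀ m : Γ(ΩX, g ⁻¹ᵁ U),
        OmegaSh.pullSect i ΩX (g ⁻¹ᵁ V) (ΩX.presheaf.map ((Opens.map g.base).map k.unop).op m) =
          ((Scheme.Modules.pullback i).obj ΩX).presheaf.map
            ((Opens.map i.base).map ((Opens.map g.base).map k.unop)).op (OmegaSh.pullSect i ΩX (g ⁻¹ᵁ U) m) :=
      fun m => congr($(((Scheme.Modules.pullbackPushforwardAdjunction i).unit.app ΩX).mapPresheaf.naturality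
        ((Opens.map g.base).map k.unop).op) m)
    rw [h1, show dX.app (g ⁻¹ᵁ V) (X.presheaf.map ((Opens.map g.base).map k.unop).op (g.app U a)) =
      ΩX.presheaf.map ((Opens.map g.base).map k.unop).op (dX.app (g ⁻¹ᵁ U) (g.app U a)) from dX.d_map _ _,
      h2, presheaf_map_map, presheaf_map_map]
    exact congrArg (fun q => ((Scheme.Modules.pullback i).obj ΩX).presheaf.map q _) (Subsingleton.elim _ _)
  d_app {W} c := by
    obtain ⟨W⟩ := W
    change ((Scheme.Modules.pullback i).obj ΩX).presheaf.map _ (OmegaSh.pullSect i ΩX _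
      (dX.app _ (g.app ((i ≫ f) ⁻¹ᵁ W) ((i ≫ f).app W c)))) = 0
    have h1 : g.app ((i ≫ f) ⁻¹ᵁ W) ((i ≫ f).app W c) =
        X.presheaf.map (eqToHom (congrArg (· ⁻¹ᵁ W) hgS)).op (f.app W c) := by
      have h := congr($(Scheme.Hom.congr_app hgS W) c)
      exact h
    have h3 : dX.app (g ⁻¹ᵁ ((i ≫ f) ⁻¹ᵁ W)) (g.app ((i ≫ f) ⁻¹ᵁ W) ((i ≫ f).app W c)) = 0 :=
      (congrArg _ h1).trans ((dX.d_map (eqToHom (congrArg (· ⁻¹ᵁ W) hgS)).op (f.app W c)).trans
        ((congrArg _ (dX.d_app c)).trans (map_zero _)))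
    rw [h3, map_zero, map_zero]

/-- The section of local rings. -/
noncomputable def sec (hgi : i ≫ g = 𝟙 Z) (z : Z) : Z.presheaf.stalk z ⟶ X.presheaf.stalk (i z) :=
  Z.presheaf.stalkSpecializes (specializes_of_eq (show g (i z) = z by
    show (i ≫ g) z = z
    rw [hgi]; rfl)) ≫ g.stalkMap (i z)

lemma sec_germ (hgi : i ≫ g = 𝟙 Z) (z : Z) (V : Z.Opens) (hz : z ∈ V) (t : Γ(Z, V)) :
    sec i g hgi z (Z.presheaf.germ V z hz t) =
      X.presheaf.germ (g ⁻¹ᵁ V) (i z) (le_pre i g hgi V hz) (g.app V t) := by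
  show g.stalkMap (i z) (Z.presheaf.stalkSpecializes _ (Z.presheaf.germ V z hz t)) = _
  rw [Z.presheaf.germ_stalkSpecializes_apply hz]
  exact Scheme.Hom.germ_stalkMap_apply g V (i z) _ t

lemma stalkMap_sec (hgi : i ≫ g = 𝟙 Z) (z : Z) (r : Z.presheaf.stalk z) :
    i.stalkMap z (sec i g hgi z r) = r := by
  obtain ⟨V, hz, t, rfl⟩ := Z.presheaf.exists_germ_eq r
  rw [sec_germ i g hgi z V hz t, Scheme.Hom.germ_stalkMap_apply]
  exact germ_app_congr hgi V z (le_pre i g hgi V hz) hz t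

lemma sec_base (hgi : i ≫ g = 𝟙 Z) (hgS : g ≫ i ≫ f = f) (z : Z)
    (r : S.presheaf.stalk (f.base (i.base z))) :
    sec i g hgi z (i.stalkMap z ((f.stalkMap (i.base z)).hom r)) = (f.stalkMap (i.base z)).hom r := by
  obtain ⟨W, hW, c, rfl⟩ := S.presheaf.exists_germ_eq r
  erw [Scheme.Hom.germ_stalkMap_apply f W (i.base z) hW c]
  erw [Scheme.Hom.germ_stalkMap_apply i]
  rw [sec_germ i g hgi z _ _ _]
  exact germ_app_congr hgS W (i z) _ hW c

variable (hgi : i ≫ g = 𝟙 Z) (hgS : g ≫ i ≫ f = f) {ΩX : X.Modules} {dX : OmegaSh.Der f ΩX}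
    (hX : OmegaSh.IsUniversal dX) {ΩZ : Z.Modules} {dZ : OmegaSh.Der (i ≫ f) ΩZ} (hZ : OmegaSh.IsUniversal dZ)
    {σ : ΩZ ⟶ (Scheme.Modules.pullback i).obj ΩX}
    (hσ : ∀ (V : Z.Opens) (t : Γ(Z, V)), σ.app V (dZ.app V t) = (secDer i g hgi hgS dX).app V t)
    {c : (Scheme.Modules.pullback i).obj ΩX ⟶ ΩZ} (hc : OmegaSh.IsDiffCompat i dX dZ c) (z : Z)

include hσ in
lemma stalk_sigma (V : Z.Opens) (hz : z ∈ V) (t : Γ(Z, V)) :
    stalkLin σ z (ΩZ.presheaf.germ V z hz (dZ.app V t)) =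
      ((Scheme.Modules.pullback i).obj ΩX).presheaf.germ (i ⁻¹ᵁ (g ⁻¹ᵁ V)) z (le_pre i g hgi V hz)
        (OmegaSh.pullSect i ΩX (g ⁻¹ᵁ V) (dX.app (g ⁻¹ᵁ V) (g.app V t))) := by
  rw [stalkLin_germ, hσ]
  exact TopCat.Presheaf.germ_res_apply _ (homOfLE (le_pre i g hgi V)) z hz _

include hX hZ hσ hc in
lemma sigma_c (v : ΩZ.presheaf.stalk z) : stalkLin c z (stalkLin σ z v) = v := by
  obtain ⟨e, he⟩ := exists_stalkEquiv dZ hZ z
  obtain ⟨ω, rfl⟩ : ∃ ω, e.symm ω = v := ⟨e v, e.symm_apply_apply v⟩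
  have hω : ω ∈ Submodule.span (Z.presheaf.stalk z) (Set.range
      (KaehlerDifferential.D (S.presheaf.stalk ((i ≫ f).base z)) (Z.presheaf.stalk z))) := by
    rw [KaehlerDifferential.span_range_derivation]; trivial
  induction hω using Submodule.span_induction with
  | mem x hx =>
    obtain ⟨r, rfl⟩ := hx
    obtain ⟨V, hz, t, rfl⟩ := Z.presheaf.exists_germ_eq r
    rw [← he V hz t, e.symm_apply_apply, stalk_sigma i g hgi hgS hσ z V hz t, stalkLin_germ,
      hc (g ⁻¹ᵁ V) (g.app V t)]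
    have h : (Z.presheaf.germ (i ⁻¹ᵁ (g ⁻¹ᵁ V)) z (le_pre i g hgi V hz) (i.app (g ⁻¹ᵁ V) (g.app V t))) =
        Z.presheaf.germ V z hz t := germ_app_congr hgi V z _ hz t
    refine e.injective ?_
    rw [he, he, h]
  | zero => rw [map_zero, map_zero, map_zero]
  | add x y _ _ ihx ihy => rw [map_add, map_add, map_add, ihx, ihy]
  | smul r x _ ih => rw [map_smul, map_smul, map_smul, ih]

variable [IsImmersion i] [QuasiCompact i] {φ : Omega.conormal i ⟶ (Scheme.Modules.pullback i).obj ΩX}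
    (hφ : OmegaSh.IsConormalDiff i dX φ)

include hX hgi hgS hσ hc hφ in
lemma decomp (v : ((Scheme.Modules.pullback i).obj ΩX).presheaf.stalk z) :
    ∃ u, stalkLin φ z u = v - stalkLin σ z (stalkLin c z v) := by
  obtain ⟨e, he⟩ := exists_pullEquiv dX hX i z
  obtain ⟨T, rfl⟩ : ∃ T, e.symm T = v := ⟨e v, e.symm_apply_apply v⟩
  induction T using TensorProduct.induction_on with
  | zero => exact ⟨0, by simp⟩
  | add a b ha hb =>
    obtain ⟨u, hu⟩ := ha
    obtain ⟨v, hv⟩ := hb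
    exact ⟨u + v, by rw [map_add, map_add, map_add, map_add, hu, hv]; abel⟩
  | tmul r ω =>
    have hω : ω ∈ Submodule.span (X.presheaf.stalk (i.base z)) (Set.range
        (KaehlerDifferential.D (S.presheaf.stalk (f.base (i.base z))) (X.presheaf.stalk (i.base z)))) := by
      rw [KaehlerDifferential.span_range_derivation]; trivial
    induction hω using Submodule.span_induction generalizing r with
    | mem x hx =>
      obtain ⟨a, rfl⟩ := hx
      obtain ⟨U, hU, s, rfl⟩ := X.presheaf.exists_germ_eq a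
      have hm : X.presheaf.germ U (i z) hU s - sec i g hgi z (i.stalkMap z (X.presheaf.germ U (i z) hU s)) ∈
          RingHom.ker (i.stalkMap z).hom := by
        rw [RingHom.mem_ker, map_sub, sub_eq_zero]
        exact (stalkMap_sec i g hgi z _).symm
      refine ⟨r • cgen i z ⟨_, hm⟩, ?_⟩
      have hr : e.symm (r ⊗ₜ KaehlerDifferential.D _ _ (X.presheaf.germ U (i.base z) hU s)) =
          r • ((Scheme.Modules.pullback i).obj ΩX).presheaf.germ (i ⁻¹ᵁ U) z hU
            (OmegaSh.pullSect i ΩX U (dX.app U s)) := by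
        rw [LinearEquiv.symm_apply_eq, map_smul, he U hU s, TensorProduct.smul_tmul', smul_eq_mul, mul_one]
      rw [hr, map_smul, map_smul, map_smul, ← smul_sub]
      congr 1
      rw [stalkLin_germ c, hc U s, stalk_sigma i g hgi hgS hσ z (i ⁻¹ᵁ U) hU (i.app U s)]
      refine e.injective ?_
      rw [stalkLin_conormalDiff hφ z he, map_sub, map_sub, he, he, ← TensorProduct.tmul_sub]
      congr 3
      rw [Scheme.Hom.germ_stalkMap_apply, sec_germ]
    | zero => exact ⟨0, by simp⟩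
    | add x y _ _ ihx ihy =>
      obtain ⟨u, hu⟩ := ihx r
      obtain ⟨v, hv⟩ := ihy r
      exact ⟨u + v, by rw [TensorProduct.tmul_add, map_add, map_add, map_add, map_add, hu, hv]; abel⟩
    | smul k x _ ih =>
      obtain ⟨u, hu⟩ := ih (k • r)
      exact ⟨u, by rw [hu, TensorProduct.smul_tmul]⟩

include hX hgS hgi hφ in
lemma injective_phi : Function.Injective (stalkLin φ z) := by
  obtain ⟨e, he⟩ := exists_pullEquiv dX hX i z
  let N := (Omega.conormal i).presheaf.stalk z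
  let π : X.presheaf.stalk (i z) →+* Z.presheaf.stalk z := (i.stalkMap z).hom
  let s : Z.presheaf.stalk z →+* X.presheaf.stalk (i z) := (sec i g hgi z).hom
  have hs : ∀ r, π (s r) = r := stalkMap_sec i g hgi z
  have hm : ∀ a, a - s (π a) ∈ RingHom.ker π := fun a => by
    rw [RingHom.mem_ker, map_sub, hs, sub_self]
  letI : Module (X.presheaf.stalk (i.base z)) N := Module.compHom N π
  haveI : IsScalarTower (X.presheaf.stalk (i.base z)) (Z.presheaf.stalk z) N :=
    .of_algebraMap_smul fun _ _ => rfl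
  letI : Module (S.presheaf.stalk (f.base (i.base z))) N :=
    Module.compHom N (π.comp (f.stalkMap (i.base z)).hom)
  haveI : IsScalarTower (S.presheaf.stalk (f.base (i.base z))) (X.presheaf.stalk (i.base z)) N :=
    .of_algebraMap_smul fun _ _ => rfl
  let D0 : X.presheaf.stalk (i z) →+ N := AddMonoidHom.mk' (fun a => cgen i z ⟨_, hm a⟩) fun a b => by
    rw [← map_add]
    congr 1
    exact Subtype.ext (by show a + b - s (π (a + b)) = (a - s (π a)) + (b - s (π b)); rw [map_add, map_add]; ring)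
  have hmul : ∀ a b, D0 (a * b) = a • D0 b + b • D0 a := by
    intro a b
    let x : RingHom.ker π := ⟨_, hm a⟩
    let y : RingHom.ker π := ⟨_, hm b⟩
    have h0 : cgen i z ((x : X.presheaf.stalk (i z)) • y) = 0 := by
      rw [cgen_smul, RingHom.mem_ker.1 x.2, zero_smul]
    show cgen i z ⟨_, hm (a * b)⟩ = π a • cgen i z y + π b • cgen i z x
    rw [← cgen_smul, ← cgen_smul, ← map_add, ← sub_zero (cgen i z (a • y + b • x)), ← h0, ← map_sub]
    congr 1
    exact Subtype.ext (by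
      show a * b - s (π (a * b)) = a * (b - s (π b)) + b * (a - s (π a)) - (a - s (π a)) * (b - s (π b))
      rw [map_mul, map_mul]; ring)
  have hb : ∀ r, D0 ((f.stalkMap (i.base z)).hom r) = 0 := fun r => by
    show cgen i z ⟨_, hm _⟩ = 0
    rw [← map_zero (cgen i z)]
    congr 1
    exact Subtype.ext (sub_eq_zero.2 (sec_base i g hgi hgS z r).symm)
  let D : Derivation (S.presheaf.stalk (f.base (i.base z))) (X.presheaf.stalk (i.base z)) N :=
    Derivation.mk'
      { toFun := D0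
        map_add' := map_add D0
        map_smul' := fun r a => by
          rw [Algebra.smul_def, hmul, RingHom.algebraMap_toAlgebra, hb r, smul_zero, add_zero]
          rfl } hmul
  let t := (D.liftKaehlerDifferential.liftBaseChange (Z.presheaf.stalk z)).comp e.toLinearMap
  have ht : t.comp (stalkLin φ z) = LinearMap.id := by
    refine LinearMap.ext_on_range (span_cgen i z) fun a => ?_
    show D.liftKaehlerDifferential.liftBaseChange _ (e (stalkLin φ z (cgen i z a))) = cgen i z a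
    rw [stalkLin_conormalDiff hφ z he, LinearMap.liftBaseChange_tmul, one_smul,
      Derivation.liftKaehlerDifferential_comp_D]
    show cgen i z ⟨_, hm a.1⟩ = _
    congr 1
    exact Subtype.ext (by show a.1 - s (π a.1) = a.1; rw [RingHom.mem_ker.1 a.2, map_zero, sub_zero])
  exact Function.LeftInverse.injective (g := t) fun v => LinearMap.congr_fun ht v



open AlgebraicGeometry CategoryTheory Limits in
/-- Let i : Z → X be a quasi-compact immersion of schemes over S admitting a left inverse g : X → Z over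
S. Then the canonical sequence 0 → C_{Z/X} → i^*Ω_{X/S} → Ω_{Z/S} → 0 is split exact (receptacle
form; the maps are pinned by their values on sections). (The published statement also covers
immersions with only a local left inverse, where the sequence is locally split, and arbitrary
immersions; this row assumes a global left inverse over S and i quasi-compact. The case of a section
s of a morphism p : X → S, where Ω_{S/S} = 0 and the map C_{S/X} → s^*Ω_{X/S} is an isomorphism, is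
the instance Z = S, i = s, g = p.) -/
theorem result {Z X S : Scheme.{u}} (f : X ⟶ S) (i : Z ⟶ X) [IsImmersion i] [QuasiCompact i]
    (g : X ⟶ Z) (hgi : i ≫ g = 𝟙 Z) (hgS : g ≫ i ≫ f = f)
    (ΩX : X.Modules) (dX : OmegaSh.Der f ΩX) (hX : OmegaSh.IsUniversal dX)
    (ΩZ : Z.Modules) (dZ : OmegaSh.Der (i ≫ f) ΩZ) (hZ : OmegaSh.IsUniversal dZ)
    (φ : Omega.conormal i ⟶ (Scheme.Modules.pullback i).obj ΩX) (hφ : OmegaSh.IsConormalDiff i dX φ)
    (c : (Scheme.Modules.pullback i).obj ΩX ⟶ ΩZ) (hc : OmegaSh.IsDiffCompat i dX dZ c) :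
    ∃ w : φ ≫ c = 0, (ShortComplex.mk φ c w).Exact ∧ (∃ r : (Scheme.Modules.pullback i).obj ΩX ⟶ Omega.conormal i, φ ≫ r = 𝟙 _) ∧
      ∃ σ : ΩZ ⟶ (Scheme.Modules.pullback i).obj ΩX, σ ≫ c = 𝟙 _ := by
  obtain ⟨σ, hσ, -⟩ := hZ _ (secDer i g hgi hgS dX)
  have hσ' : ∀ (V : Z.Opens) (t : Γ(Z, V)), σ.app V (dZ.app V t) = (secDer i g hgi hgS dX).app V t :=
    fun V t => PresheafOfModules.Derivation.congr_d hσ (X := Opposite.op V) t
  have hσc : σ ≫ c = 𝟙 _ := hom_ext_stalk _ _ fun z v => by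
    rw [Groth.Agent.H29Omega.stalkLin_comp, sigma_c i g hgi hgS hX hZ hσ' hc z v]
    obtain ⟨U, hU, t, rfl⟩ := ΩZ.presheaf.exists_germ_eq v
    rw [Groth.Agent.H06Mod.stalkLin_germ]
    rfl
  have hw : φ ≫ c = 0 := Groth.Agent.H29Omega.eq_zero_of_stalkLin _ fun z v => by
    obtain ⟨e, he⟩ := Groth.Agent.H29Omega.exists_stalkEquiv dZ hZ z
    have hspan : v ∈ Submodule.span (Z.presheaf.stalk z) (Set.range (Groth.Agent.H29Omega.cgen i z)) := by
      rw [Groth.Agent.H29Omega.span_cgen]; trivial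
    induction hspan using Submodule.span_induction with
    | mem x hx =>
      obtain ⟨a, rfl⟩ := hx
      obtain ⟨U, hU, -, m, hm⟩ := Groth.Agent.H29Omega.exists_germ_idealSect i z ⊤ trivial a
      rw [Groth.Agent.H29Omega.cgen_germ i z U hU m a hm, Groth.Agent.H06Mod.stalkLin_germ,
        Scheme.Modules.Hom.comp_app, CategoryTheory.ConcreteCategory.comp_apply, hφ U m, hc U]
      refine e.injective ?_
      rw [he, map_zero]
      have h0 : Z.presheaf.germ (i ⁻¹ᵁ U) z hU (i.app U (OmegaSh.idealSect i.ker U m)) = 0 := by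
        rw [← Scheme.Hom.germ_stalkMap_apply, ← hm]
        exact RingHom.mem_ker.1 a.2
      rw [h0, map_zero]
    | zero => simp
    | add x y _ _ ihx ihy => rw [map_add, ihx, ihy, add_zero]
    | smul r x _ ih => rw [map_smul, ih, smul_zero]
  have hex : (ShortComplex.mk φ c hw).Exact := Groth.Agent.H29Omega.exact_of_stalks _ fun z v hv => by
    obtain ⟨u, hu⟩ := decomp i g hgi hgS hX hσ' hc z hφ v
    exact ⟨u, by rw [hu, hv, map_zero, sub_zero]⟩
  haveI hm : Mono φ := by
    have h : (ShortComplex.mk (0 : Omega.conormal i ⟶ _) φ zero_comp).Exact :=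
      Groth.Agent.H29Omega.exact_of_stalks _ fun z v hv => ⟨v, by
        rw [injective_phi i g hgi hgS hX z hφ (hv.trans (map_zero _).symm)]
        exact map_zero _⟩
    exact (ShortComplex.exact_iff_mono _ rfl).1 h
  let sp := ShortComplex.Splitting.ofExactOfSection _ hex σ hσc hm
  exact ⟨hw, hex, ⟨sp.r, sp.f_r⟩, σ, hσc⟩

end Groth.Agent.S9384
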