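import Groth.Statements.S9750
import Groth.Agent.H8Props.FormallyEtale
import Groth.Agent.H29Omega.UnivThickExists
import Groth.Agent.H29Omega.ConormalLocFree
import Groth.Agent.H17.KoszSh.Conormal
import Mathlib.AlgebraicGeometry.Morphisms.ClosedImmersion

set_option autoImplicit false
universe u
open FlatMor

namespace Groth.Agent.S9750

open AlgebraicGeometry CategoryTheory Limits in
theorem isZero_conormal_of_isIso {Z X : Scheme.{u}} (i : Z ⟶ X) [IsIso i] : IsZero (Omega.conormal i) := by
  have hk : i.ker = ⊥ := Scheme.Hom.ker_eq_bot_of_isIso i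
  haveI : IsIso i.ker.subschemeι := by
    rw [IsClosedImmersion.isIso_iff_ker_eq_bot, Scheme.IdealSheafData.ker_subschemeι, hk]
  haveI : Mono (ClSub.idealModι i.ker) := inferInstanceAs (Mono (kernel.ι _))
  refine Functor.map_isZero _ (IsZero.of_mono_eq_zero (ClSub.idealModι i.ker) ?_)
  refine Scheme.Modules.hom_ext _ _ fun U => ?_
  ext z
  have h := Groth.Agent.H17.KoszSh.ideal_of_idealModι i.ker U z
  have hinj : Function.Injective (i.ker.subschemeι.app U) :=
    (ConcreteCategory.bijective_of_isIso (i.ker.subschemeι.app U)).1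
  exact hinj (h.trans (map_zero _).symm)

open AlgebraicGeometry CategoryTheory Limits in
theorem isIso_of_isZero_conormal {Z X : Scheme.{u}} (i : Z ⟶ X) (hi : MoreMor.IsFirstOrderThickening i)
    (h0 : IsZero (Omega.conormal i)) : IsIso i := by
  haveI := hi.1.1
  rw [IsClosedImmersion.isIso_iff_ker_eq_bot, eq_bot_iff]
  intro V
  obtain ⟨e, he, -⟩ := Groth.Agent.H29Omega.exists_conormal_sections hi V.2
  intro a ha
  have hz : IsZero ((Omega.conormal i).presheaf.obj (Opposite.op (i ⁻¹ᵁ V.1))) :=
    Functor.map_isZero ((evaluation _ _).obj (Opposite.op (i ⁻¹ᵁ V.1)))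
      (Functor.map_isZero (Scheme.Modules.toPresheaf Z) h0)
  haveI : Subsingleton Γ(Omega.conormal i, i ⁻¹ᵁ V.1) := AddCommGrpCat.subsingleton_of_isZero hz
  rw [Scheme.Hom.ker_apply] at ha
  have : (⟨a, ha⟩ : RingHom.ker (i.app V.1).hom) = 0 := he.1 (Subsingleton.elim _ _)
  simpa using congrArg Subtype.val this

open AlgebraicGeometry CategoryTheory Limits in
theorem isFormallyEtaleHom_of_univThickening_self {X S : Scheme.{u}} (f : X ⟶ S)
    (hu : OmegaSh.IsUnivThickening f (𝟙 X) f) : MoreMor.IsFormallyEtaleHom f := by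
  intro A _ I hI a b w
  have hfot : MoreMor.IsFirstOrderThickening (Spec.map (CommRingCat.ofHom (Ideal.Quotient.mk I))) :=
    Groth.Agent.H29Omega.fot_Spec A I hI
  obtain ⟨l, ⟨h1, h2⟩, huniq⟩ := hu.2.2 _ _ _ b a hfot w
  exact ⟨l, ⟨by simpa using h1, h2⟩, fun m hm => huniq m ⟨by simpa using hm.1, hm.2⟩⟩

open AlgebraicGeometry CategoryTheory Limits in
theorem univThickening_self {X S : Scheme.{u}} (f : X ⟶ S) (hf : MoreMor.IsFormallyEtaleHom f) :
    OmegaSh.IsUnivThickening f (𝟙 X) f := by
  refine ⟨⟨⟨inferInstance, inferInstance⟩, ?_⟩, Category.id_comp f, fun T T' j b a hj w => ?_⟩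
  · rw [Scheme.Hom.ker_eq_bot_of_isIso]; simp
  · haveI := hj.1.1
    obtain ⟨l, ⟨h1, h2⟩, huniq⟩ := Groth.Agent.H8Props.FormallyEtale.existsUnique_lift f hf j hj.2 a b w
    exact ⟨l, ⟨by simpa using h1, h2⟩, fun m hm => huniq m ⟨by simpa using hm.1, hm.2⟩⟩

open AlgebraicGeometry CategoryTheory Limits in
theorem formallyUnramified_of_isFormallyEtaleHom {X S : Scheme.{u}} (f : X ⟶ S)
    (hf : MoreMor.IsFormallyEtaleHom f) : FormallyUnramified f :=
  HasRingHomProperty.iff_appLE (P := @FormallyUnramified).mpr fun V U e => by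
    letI := (f.appLE V.1 U.1 e).hom.toAlgebra
    haveI := (Groth.Agent.H8Props.FormallyEtale.isFormallyEtaleHom_iff f).mp hf U.1 V.1 U.2 V.2 e
    show Algebra.FormallyUnramified _ _
    infer_instance

open AlgebraicGeometry CategoryTheory Limits in
/-- (1) ⇔ (2) ⇔ (3): a morphism f : X ⟶ S is formally étale (unique infinitesimal lifting against
square-zero thickenings of affine schemes) if and only if f is formally unramified and X, through
the identity and f, is its own universal square-zero (first order) thickening relative to f; and,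
for f formally unramified with universal first order thickening data (i : X ⟶ X', h' : X' ⟶ S), f is
formally étale if and only if the conormal sheaf of i (the conormal sheaf of f) is zero. The
published statement also lists a fourth equivalent condition, the vanishing of both the sheaf of
differentials and the conormal sheaf; this row omits it. -/
theorem result {X S : Scheme.{u}} (f : X ⟶ S) :
    (MoreMor.IsFormallyEtaleHom f ↔ FormallyUnramified f ∧ OmegaSh.IsUnivThickening f (𝟙 X) f) ∧
    (∀ {X' : Scheme.{u}} (i : X ⟶ X') (h' : X' ⟶ S) [QuasiCompact i], FormallyUnramified f →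
      OmegaSh.IsUnivThickening f i h' → (MoreMor.IsFormallyEtaleHom f ↔ IsZero (Omega.conormal i))) := by
  refine ⟨⟨fun hf => ⟨formallyUnramified_of_isFormallyEtaleHom f hf, univThickening_self f hf⟩,
    fun h => isFormallyEtaleHom_of_univThickening_self f h.2⟩, fun {X'} i h' _ _ hu => ?_⟩
  constructor
  · intro hf
    obtain ⟨e, he, -⟩ := Groth.Agent.H29Omega.exists_iso_univThickening (univThickening_self f hf) hu
    haveI : IsIso i := by rw [← he]; infer_instance
    exact isZero_conormal_of_isIso i
  · intro h0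
    haveI := isIso_of_isZero_conormal i hu.1 h0
    refine isFormallyEtaleHom_of_univThickening_self f ?_
    obtain ⟨⟨⟨_, _⟩, _⟩, hc, huniv⟩ := hu
    refine ⟨⟨⟨inferInstance, inferInstance⟩, by rw [Scheme.Hom.ker_eq_bot_of_isIso]; simp⟩, Category.id_comp f,
      fun T T' j b a hj w => ?_⟩
    obtain ⟨l, ⟨h1, h2⟩, huniq⟩ := huniv T T' j b a hj w
    refine ⟨l ≫ inv i, ⟨?_, ?_⟩, fun m hm => ?_⟩
    · rw [reassoc_of% h1]; simp
    · rw [Category.assoc, ← hc]; simpa using h2
    · have := huniq (m ≫ i) ⟨by rw [reassoc_of% hm.1], by rw [Category.assoc, hc]; exact hm.2⟩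
      rw [← this]; simp

end Groth.Agent.S9750
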