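import Groth.Statements.S9775
import Groth.Agent.H8Props.KoszImm.RegularTarget
import Groth.Agent.H8Props.KoszImm.SyntomicDescent
import Groth.Agent.H8Props.AlgSpLci.Lci

set_option autoImplicit false
set_option linter.style.haveILetI false
universe u
open FlatMor

namespace Groth.Agent.S9775

open AlgebraicGeometry CategoryTheory in
/-- A point of the closed subscheme at which the kernel of a presentation is Koszul-regular is Koszul. -/
theorem isKoszulAt_Spec_of_krAt {R P B : Type u} [CommRing R] [CommRing P] [CommRing B] [Algebra R P]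
    [Algebra.Smooth R P] [Algebra R B] [Algebra.FiniteType R B] (α : P →ₐ[R] B) (hα : Function.Surjective α)
    (z : Spec (CommRingCat.of B))
    (h : H8Props.KoszImm.KRAt (RingHom.ker α.toRingHom) (z.asIdeal.comap α.toRingHom)) :
    Synt.IsKoszulAt (Spec.map (CommRingCat.ofHom (algebraMap R B))) z := by
  haveI : IsClosedImmersion (Spec.map (CommRingCat.ofHom α.toRingHom)) :=
    IsClosedImmersion.spec_of_surjective _ hα
  haveI : Smooth (Spec.map (CommRingCat.ofHom (algebraMap R P))) :=
    (HasRingHomProperty.Spec_iff (P := @Smooth)).2 (RingHom.smooth_algebraMap.2 inferInstance)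
  haveI : LocallyOfFiniteType (Spec.map (CommRingCat.ofHom (algebraMap R B))) :=
    (HasRingHomProperty.Spec_iff (P := @LocallyOfFiniteType)).2 (RingHom.finiteType_algebraMap.2 inferInstance)
  refine H8Props.KoszImm.isKoszulAt_of_regAt _ (Spec.map (CommRingCat.ofHom α.toRingHom))
    (Spec.map (CommRingCat.ofHom (algebraMap R P))) ?_ z
    ((H8Props.KoszImm.regAt_Spec_iff (CommRingCat.ofHom α.toRingHom) hα z).2 h)
  rw [← Spec.map_comp, ← CommRingCat.ofHom_comp]
  congr 2
  exact α.comp_algebraMap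

open AlgebraicGeometry CategoryTheory Limits in
/-- Let S be a locally Noetherian scheme, g : Y ⟶ S locally of finite type with Y regular (all local
rings regular), f : X ⟶ Y a morphism, and assume the composite f ≫ g is Koszul at every point of X
(a local complete intersection morphism). Then f is Koszul at every point of X, and g is Koszul at
the point f x for each x ∈ X. -/
theorem result {X Y S : Scheme.{u}} (f : X ⟶ Y) (g : Y ⟶ S) [IsLocallyNoetherian S] [LocallyOfFiniteType g]
    (hY : Models.IsRegularScheme Y) (h : ∀ x : X, Synt.IsKoszulAt (f ≫ g) x) :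
    (∀ x : X, Synt.IsKoszulAt f x) ∧ ∀ x : X, Synt.IsKoszulAt g (f x) := by
  haveI : LocallyOfFiniteType (f ≫ g) := H8Props.KoszImm.locallyOfFiniteType_of_isKoszulAt _ h
  haveI : LocallyOfFiniteType f := locallyOfFiniteType_of_comp f g
  haveI : IsLocallyNoetherian Y := LocallyOfFiniteType.isLocallyNoetherian g
  suffices key : ∀ x : X, Synt.IsKoszulAt f x ∧ Synt.IsKoszulAt g (f x) from
    ⟨fun x => (key x).1, fun x => (key x).2⟩
  intro x
  obtain ⟨_, ⟨V, hV, rfl⟩, hxV, -⟩ :=
    S.isBasis_affineOpens.exists_subset_of_mem_open (Set.mem_univ (g (f x))) isOpen_univ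
  obtain ⟨_, ⟨W, hW, rfl⟩, hxW, hWV⟩ := Y.isBasis_affineOpens.exists_subset_of_mem_open
    (show f x ∈ (g ⁻¹ᵁ V : Y.Opens).1 from hxV) (g ⁻¹ᵁ V).2
  obtain ⟨_, ⟨U, hU, rfl⟩, hxU, hUW⟩ := X.isBasis_affineOpens.exists_subset_of_mem_open
    (show x ∈ (f ⁻¹ᵁ W : X.Opens).1 from hxW) (f ⁻¹ᵁ W).2
  have hUV : U ≤ (f ≫ g) ⁻¹ᵁ V := fun a ha => hWV (hUW ha)
  let R := Γ(S, V)
  let B := Γ(Y, W)
  let C := Γ(X, U)
  letI : Algebra R B := (g.appLE V W hWV).hom.toAlgebra
  letI : Algebra B C := (f.appLE W U hUW).hom.toAlgebra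
  letI : Algebra R C := ((f ≫ g).appLE V U hUV).hom.toAlgebra
  haveI : IsScalarTower R B C := IsScalarTower.of_algebraMap_eq' (by
    show ((f ≫ g).appLE V U hUV).hom = (g.appLE V W hWV ≫ f.appLE W U hUW).hom
    rw [Scheme.Hom.appLE_comp_appLE])
  haveI : IsNoetherianRing R := IsLocallyNoetherian.component_noetherian ⟨V, hV⟩
  haveI : Algebra.FiniteType R B :=
    HasRingHomProperty.appLE @LocallyOfFiniteType g inferInstance ⟨V, hV⟩ ⟨W, hW⟩ hWV
  haveI : Algebra.FiniteType B C :=
    HasRingHomProperty.appLE @LocallyOfFiniteType f inferInstance ⟨W, hW⟩ ⟨U, hU⟩ hUW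
  haveI : IsRegularRing B := H8Props.KoszImm.isRegularRing_of_isAffineOpen hW hY
  have hK : LCI.IsLCI R C := (H8Props.KoszImm.isKoszulAt_chart_iff (f ≫ g) hU hV hUV).1 fun a _ => h a
  -- presentations
  obtain ⟨m, β, hβ⟩ := Algebra.FiniteType.iff_quotient_mvPolynomial''.1 (inferInstance : Algebra.FiniteType B C)
  let B' := MvPolynomial (Fin m) B
  haveI : Algebra.FiniteType R B' :=
    Algebra.FiniteType.trans (R := R) (S := B) (A := B') inferInstance inferInstance
  obtain ⟨n, γ, hγ⟩ := Algebra.FiniteType.iff_quotient_mvPolynomial''.1 (inferInstance : Algebra.FiniteType R B')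
  obtain ⟨z, hz⟩ := hU.range_fromSpec.ge hxU
  let zC : PrimeSpectrum C := z
  let zB : PrimeSpectrum B' := PrimeSpectrum.comap β.toRingHom zC
  obtain ⟨hg', hf'⟩ := H8Props.KoszImm.krAt_pair γ.toRingHom hγ β.toRingHom
    (H8Props.KoszImm.isKoszulRegularIdeal_ker (A := R) (B := C)
      (H8Props.KoszImm.forall_isKoszulAt_Spec_iff.2 hK) ((β.restrictScalars R).comp γ) (hβ.comp hγ))
    zB (Ideal.ker_le_comap _)
  haveI : Algebra.Smooth B B' := ⟨inferInstance, inferInstance⟩
  haveI : Algebra.Smooth R (MvPolynomial (Fin n) R) := ⟨inferInstance, inferInstance⟩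
  have hfK : Synt.IsKoszulAt (Spec.map (CommRingCat.ofHom (algebraMap B C))) z :=
    isKoszulAt_Spec_of_krAt β hβ z hf'
  have hgK' : Synt.IsKoszulAt (Spec.map (CommRingCat.ofHom (algebraMap R B'))) zB :=
    isKoszulAt_Spec_of_krAt γ hγ zB hg'
  let pr := Spec.map (CommRingCat.ofHom (algebraMap B B'))
  haveI : Smooth pr := (HasRingHomProperty.Spec_iff (P := @Smooth)).2 (RingHom.smooth_algebraMap.2 inferInstance)
  haveI : LocallyOfFiniteType (Spec.map (CommRingCat.ofHom (algebraMap R B))) :=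
    (HasRingHomProperty.Spec_iff (P := @LocallyOfFiniteType)).2 (RingHom.finiteType_algebraMap.2 inferInstance)
  have hgK : Synt.IsKoszulAt (Spec.map (CommRingCat.ofHom (algebraMap R B))) (pr zB) := by
    refine H8Props.KoszImm.isKoszulAt_of_syntomic_comp pr (H8Props.AlgSpLci.isSyntomicMor_of_smooth pr) _ zB ?_
    rw [← Spec.map_comp, ← CommRingCat.ofHom_comp, ← IsScalarTower.algebraMap_eq]
    exact hgK'
  have hpr : pr zB = (Spec.map (CommRingCat.ofHom (algebraMap B C))) z := by
    apply PrimeSpectrum.ext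
    show (zC.asIdeal.comap β.toRingHom).comap (algebraMap B B') = zC.asIdeal.comap (algebraMap B C)
    rw [Ideal.comap_comap]
    congr 1
    exact β.comp_algebraMap
  have hBC : Spec.map (CommRingCat.ofHom (algebraMap B C)) ≫ hW.fromSpec = hU.fromSpec ≫ f :=
    IsAffineOpen.SpecMap_appLE_fromSpec f hW hU hUW
  have hRB : Spec.map (CommRingCat.ofHom (algebraMap R B)) ≫ hV.fromSpec = hW.fromSpec ≫ g :=
    IsAffineOpen.SpecMap_appLE_fromSpec g hV hW hWV
  constructor
  · have h1 := H8Props.KoszImm.isKoszulAt_comp_smooth _ hW.fromSpec z hfK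
    rw [hBC, H8Props.KoszImm.isKoszulAt_open_iff, hz] at h1
    exact h1
  · have h1 := H8Props.KoszImm.isKoszulAt_comp_smooth _ hV.fromSpec (pr zB) hgK
    rw [hRB, H8Props.KoszImm.isKoszulAt_open_iff, hpr, ← Scheme.Hom.comp_apply, hBC, Scheme.Hom.comp_apply,
      hz] at h1
    exact h1

end Groth.Agent.S9775
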