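import Groth.Statements.S10934
import Mathlib
import Groth.Agent.H22Alg.ESZCM
import Groth.Agent.H8Props.RelPCBaseChange

set_option autoImplicit false
universe u
open CategoryTheory CategoryTheory.Limits AlgebraicGeometry
open ProjDual

namespace Groth.Agent.S10934

/-- (a)⇔(b): let k be a field, i : X → P^N_k a closed immersion with X of dimension n, and write F(−q) =
F ⊗ i^*O(−q). Then X is an equidimensional Cohen–Macaulay scheme of dimension n — the local ring of
X at every closed point is Cohen–Macaulay of Krull dimension n — if and only if for every finite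
locally free O_X-module F (vector bundle) there is q₀ such that H^j(X, F(−q)) = 0 for all j < n and
all q ≥ q₀. -/
theorem result (k : Type u) [Field k] (N n : ℕ)
    {X : Scheme.{u}} (i : X ⟶ CohB1.ProjSpace N k) [IsClosedImmersion i] (hn : topologicalKrullDim ↥X = n) :
    (∀ x : X, IsClosed ({x} : Set ↥X) →
        LocCoh.IsCohenMacaulayLocalRing (X.presheaf.stalk x) ∧ ringKrullDim (X.presheaf.stalk x) = n) ↔
      ∀ F : X.Modules, FlatMod.IsFinLocFree F → ∃ q₀ : ℕ, ∀ q : ℕ, q₀ ≤ q → ∀ j : ℕ, j < n →
        Subsingleton (Coh.HH X (CohB1.tensorMod F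
          ((Scheme.Modules.pullback i).obj (Twist.twistProjSpace N k (-(q : ℤ))))) j) := by
  classical
  haveI := Groth.Agent.H22Alg.ESZ.isNoetherian_proj (r := N) (k := k)
  haveI : IsLocallyNoetherian X := LocallyOfFiniteType.isLocallyNoetherian i
  constructor
  · intro h F hF
    rcases Nat.eq_zero_or_pos n with rfl | hn0
    · exact ⟨0, fun q _ j hj => absurd hj (Nat.not_lt_zero j)⟩
    obtain ⟨n, rfl⟩ : ∃ m, n = m + 1 := ⟨n - 1, by omega⟩
    obtain ⟨m₀, hm⟩ := Groth.Agent.H22Alg.ESZ.exists_bound_closed i (Groth.Agent.H10Coh.Tw.isCoh_of_vb hF) n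
      fun x hx => by
        obtain ⟨hCM, hd⟩ := h x hx
        haveI := hCM
        refine lt_of_lt_of_le ?_ (Groth.Agent.H22Alg.ESZCM.depth_le_finLocFree hF x)
        have h1 := (Groth.Agent.H8Props.FlatDepth.isCM_iff_dim _).1 hCM
        rw [hd] at h1
        have h2 : LocCoh.depth (X.presheaf.stalk x) (X.presheaf.stalk x) = ((n + 1 : ℕ) : ℕ∞) :=
          (WithBot.coe_inj.1 h1).symm
        rw [h2]
        exact_mod_cast Nat.lt_succ_self n
    exact ⟨m₀, fun q hq j hj => hm q hq j (Nat.lt_succ_iff.1 hj)⟩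
  · intro h x hx
    have hle : ringKrullDim (X.presheaf.stalk x) ≤ n :=
      (Groth.Agent.H05EGA4.DimFibre.stalkDim_le_top x).trans_eq hn
    have hdle := Groth.Agent.H8Props.FlatDepth.depth_le_dim (X.presheaf.stalk x)
    have hge : (n : WithBot ℕ∞) ≤ ((LocCoh.depth (X.presheaf.stalk x) (X.presheaf.stalk x) : ℕ∞) : WithBot ℕ∞) := by
      rcases Nat.eq_zero_or_pos n with rfl | hn0
      · exact WithBot.coe_le_coe.2 bot_le
      obtain ⟨n, rfl⟩ : ∃ m, n = m + 1 := ⟨n - 1, by omega⟩
      have hN : 1 ≤ N := by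
        by_contra hN
        obtain rfl : N = 0 := by omega
        haveI := Groth.Agent.H11Proj.ProjSpace.isIso_toSpec_zero k
        haveI : Subsingleton (CohB1.ProjSpace 0 k) :=
          (CohB1.ProjSpace.toSpec 0 k).isOpenEmbedding.injective.subsingleton
        haveI : Subsingleton X := i.isClosedEmbedding.injective.subsingleton
        haveI : Nonempty X := ⟨x⟩
        have h0 : topologicalKrullDim ↥X ≤ 0 := by
          refine topologicalKrullDim_zero_of_discreteTopology X
        rw [hn] at h0
        norm_cast at h0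
      obtain ⟨q₀, hq⟩ := h (Coh.structureModule X) (Groth.Agent.H8Props.RelPC.isFinLocFree_structure X)
      have := Groth.Agent.H22Alg.ESZCM.depth_of_twists hN i n
        ⟨q₀, fun q h1 j hj => hq q h1 j (Nat.lt_succ_iff.2 hj)⟩ x hx
      refine WithBot.coe_le_coe.2 ?_
      exact Order.add_one_le_of_lt this
    have hdim : ringKrullDim (X.presheaf.stalk x) = n := le_antisymm hle (hge.trans hdle)
    refine ⟨(Groth.Agent.H8Props.FlatDepth.isCM_iff_dim _).2 ?_, hdim⟩
    exact le_antisymm (hdim.le.trans hge) hdle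

end Groth.Agent.S10934
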