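import Groth.Statements.S17412
import Groth.Agent.H25Proj.LinAut
import Groth.Agent.H29CurveDual.EtaleP1
import Groth.Agent.H17.PullSectLocal


set_option autoImplicit false
set_option linter.style.haveILetI false
set_option backward.isDefEq.respectTransparency false
set_option synthInstance.maxHeartbeats 200000
universe u
open CategoryTheory CategoryTheory.Limits AlgebraicGeometry
open Prym5

namespace Groth.Agent.S17412

open Groth.Agent.H11Ample Groth.Agent.H25Proj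

attribute [local instance 10000] H10Coh.hasSheafifyAb H10Coh.hasWeakSheafifyAb H10Coh.hasExtAb H10Coh.enoughInjAb

variable (k : Type u) [Field k]

theorem lin_sum {n : ℕ} (B : Fin (n + 1) → (Fin (n + 1) → k)) (c : Fin (n + 1) → k) :
    lin k n (∑ j, c j • B j) = ∑ j, (ProjUP.toGlobal (CohB1.ProjSpace.toSpec n k) (c j) :
      Γ(CohB1.ProjSpace n k, ⊤)) • lin k n (B j) := by
  simp only [lin, Finset.sum_apply, Pi.smul_apply, smul_eq_mul, map_sum, map_mul, Finset.sum_smul, Finset.smul_sum]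
  rw [Finset.sum_comm]
  simp only [mul_smul]

theorem exists_map {n : ℕ} (B : Module.Basis (Fin (n + 1)) k (Fin (n + 1) → k)) :
    ∃ (r : CohB1.ProjSpace n k ⟶ CohB1.ProjSpace n k) (_ : r ≫ CohB1.ProjSpace.toSpec n k = CohB1.ProjSpace.toSpec n k)
      (τ : (Scheme.Modules.pullback r).obj (Twist.twistProjSpace n k 1) ≅ Twist.twistProjSpace n k 1),
      ∀ i, τ.hom.app ⊤ (pullTop r (L := Twist.twistProjSpace n k 1) (co k n i)) = lin k n (B i) := by
  refine exists_hom _ isInvertible_twist _ (germ_span_of_lin (q := CohB1.ProjSpace.toSpec n k) (𝟙 _) (Category.id_comp _)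
    ((Scheme.Modules.pullbackId _).app _) _ fun i => ⟨fun j => B.repr (Pi.single i 1) j, ?_⟩)
  rw [← lin_sum, B.sum_repr, lin_single]
  exact H22Alg.PB.pullTop_id _ _

theorem comp_eq_id {n : ℕ} (B C : Fin (n + 1) → (Fin (n + 1) → k))
    (hBC : ∀ i, ∑ j, B i j • C j = Pi.single i 1)
    (r r' : CohB1.ProjSpace n k ⟶ CohB1.ProjSpace n k)
    (hr : r ≫ CohB1.ProjSpace.toSpec n k = CohB1.ProjSpace.toSpec n k)
    (hr' : r' ≫ CohB1.ProjSpace.toSpec n k = CohB1.ProjSpace.toSpec n k)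
    (τ : (Scheme.Modules.pullback r).obj (Twist.twistProjSpace n k 1) ≅ Twist.twistProjSpace n k 1)
    (hτ : ∀ i, τ.hom.app ⊤ (pullTop r (L := Twist.twistProjSpace n k 1) (co k n i)) = lin k n (B i))
    (τ' : (Scheme.Modules.pullback r').obj (Twist.twistProjSpace n k 1) ≅ Twist.twistProjSpace n k 1)
    (hτ' : ∀ i, τ'.hom.app ⊤ (pullTop r' (L := Twist.twistProjSpace n k 1) (co k n i)) = lin k n (C i)) :
    r' ≫ r = 𝟙 _ := by
  obtain ⟨θ, hθ⟩ := exists_comp_values r' r τ τ'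
  refine hom_eq (r' ≫ r) (𝟙 _) (by rw [Category.assoc, hr, hr', Category.id_comp]) θ
    ((Scheme.Modules.pullbackId _).app _) fun i => ?_
  rw [hθ, hτ, pullTop_lin r' hr', map_sum]
  refine Eq.trans ?_ (H22Alg.PB.pullTop_id _ _).symm
  rw [← lin_single, ← hBC i, lin_sum]
  exact Finset.sum_congr rfl fun j _ => (Scheme.Modules.Hom.app_smul _ _ _).trans (congrArg _ (hτ' j))

theorem exists_aut {n : ℕ} (B : Module.Basis (Fin (n + 1)) k (Fin (n + 1) → k)) :
    ∃ (σ : CohB1.ProjSpace n k ≅ CohB1.ProjSpace n k)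
      (τ : (Scheme.Modules.pullback σ.hom).obj (Twist.twistProjSpace n k 1) ≅ Twist.twistProjSpace n k 1),
      σ.hom ≫ CohB1.ProjSpace.toSpec n k = CohB1.ProjSpace.toSpec n k ∧
      ∀ i, τ.hom.app ⊤ (pullTop σ.hom (L := Twist.twistProjSpace n k 1) (co k n i)) = lin k n (B i) := by
  obtain ⟨r, hr, τ, hτ⟩ := exists_map k B
  let C : Module.Basis (Fin (n + 1)) k (Fin (n + 1) → k) :=
    (Pi.basisFun k (Fin (n + 1))).map (B.equivFun : (Fin (n + 1) → k) ≃ₗ[k] (Fin (n + 1) → k))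
  obtain ⟨r', hr', τ', hτ'⟩ := exists_map k C
  have hC : ∀ j, C j = B.equivFun (Pi.single j 1) := fun j => by simp [C]
  have h1 : ∀ i, ∑ j, B i j • C j = Pi.single i 1 := fun i => by
    simp only [hC, ← map_smul, ← map_sum]
    rw [show (∑ j, B i j • (Pi.single j 1 : Fin (n + 1) → k)) = B i from (pi_eq_sum_univ' (B i)).symm]
    exact funext fun m => by simp [Module.Basis.equivFun_self, Pi.single_apply]; congr 1; exact propext eq_comm
  have h2 : ∀ i, ∑ j, C i j • B j = Pi.single i 1 := fun i => by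
    rw [hC]
    simp [B.sum_repr]
  exact ⟨⟨r, r', comp_eq_id k (fun i => C i) (fun i => B i) h2 r' r hr' hr τ' hτ' τ hτ,
    comp_eq_id k (fun i => B i) (fun i => C i) h1 r r' hr hr' τ hτ τ' hτ'⟩, τ, hr, hτ⟩

theorem pullTop_lin_bijective {n : ℕ} (X : Scheme.{u}) [X.Over (Spec (CommRingCat.of k))] [IsIntegral X]
    [IsProper (X ↘ Spec (CommRingCat.of k))] [Smooth (X ↘ Spec (CommRingCat.of k))]
    (hd : topologicalKrullDim X = 1) (hg : Curv2.genus k X = n + 1)
    (i : X ⟶ CohB1.ProjSpace n k) (hi : i ≫ CohB1.ProjSpace.toSpec n k = X ↘ Spec (CommRingCat.of k))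
    (e : (Scheme.Modules.pullback i).obj (Twist.twistProjSpace n k 1) ≅ Omega.sheaf (X ↘ Spec (CommRingCat.of k)))
    (hnd : Function.Injective
      (((Scheme.Modules.pullbackPushforwardAdjunction i).unit.app (Twist.twistProjSpace n k 1)).app ⊤)) :
    Function.Bijective fun c => pullTop i (L := Twist.twistProjSpace n k 1) (lin k n c) := by
  let L := (Scheme.Modules.pullback i).obj (Twist.twistProjSpace n k 1)
  letI : Module k Γ(L, ⊤) := Module.compHom _ (ProjUP.toGlobal (X ↘ Spec (CommRingCat.of k)))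
  let eH : Coh.HH X L 0 ≃ₗ[k] Γ(L, ⊤) :=
    { H10Coh.HH0Equiv L with
      map_smul' := fun a x => H10Coh.HH0Equiv_smul L (ProjUP.toGlobal (X ↘ Spec (CommRingCat.of k)) a) x }
  have hfin : Module.finrank k Γ(L, ⊤) = n + 1 := by
    rw [← eH.finrank_eq, H29CurveDual.finrank_h0_congr e, H29CurveDual.finrank_h1_structure hd, hg]
  let Ψ : (Fin (n + 1) → k) →ₗ[k] Γ(L, ⊤) := Fintype.linearCombination k fun j => pullTop i (L := Twist.twistProjSpace n k 1) (co k n j)
  have hΨ : ∀ c, Ψ c = pullTop i (L := Twist.twistProjSpace n k 1) (lin k n c) := fun c => by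
    rw [pullTop_lin i hi]
    exact Fintype.linearCombination_apply _ _ _
  have hinj : Function.Injective Ψ := fun a b h => by
    rw [hΨ, hΨ] at h
    exact lin_injective k n (hnd h)
  haveI : FiniteDimensional k Γ(L, ⊤) := Module.finite_of_finrank_eq_succ hfin
  have hsurj : Function.Surjective Ψ :=
    (LinearMap.injective_iff_surjective_of_finrank_eq_finrank (by rw [hfin]; simp)).1 hinj
  exact (funext hΨ : (⇑Ψ = _)) ▸ ⟨hinj, hsurj⟩

theorem exists_equiv (g : ℕ) (hg : 3 ≤ g)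
    (X₁ X₂ : Scheme.{u}) [X₁.Over (Spec (CommRingCat.of k))] [X₂.Over (Spec (CommRingCat.of k))]
    [AlgebraicGeometry.IsIntegral X₁]
    [IsProper (X₁ ↘ Spec (CommRingCat.of k))] [Smooth (X₁ ↘ Spec (CommRingCat.of k))]
    [IsProper (X₂ ↘ Spec (CommRingCat.of k))]
    (hd₁ : topologicalKrullDim X₁ = 1) (hg₁ : Curv2.genus k X₁ = g)
    (i₁ : X₁ ⟶ CohB1.ProjSpace (g - 1) k) (i₂ : X₂ ⟶ CohB1.ProjSpace (g - 1) k)
    (hi₁ : i₁ ≫ CohB1.ProjSpace.toSpec (g - 1) k = X₁ ↘ Spec (CommRingCat.of k))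
    (hi₂ : i₂ ≫ CohB1.ProjSpace.toSpec (g - 1) k = X₂ ↘ Spec (CommRingCat.of k))
    (e₁ : (Scheme.Modules.pullback i₁).obj (Twist.twistProjSpace (g - 1) k 1)
      ≅ Omega.sheaf (X₁ ↘ Spec (CommRingCat.of k)))
    (e₂ : (Scheme.Modules.pullback i₂).obj (Twist.twistProjSpace (g - 1) k 1)
      ≅ Omega.sheaf (X₂ ↘ Spec (CommRingCat.of k)))
    (hnd₁ : Function.Injective
      (((Scheme.Modules.pullbackPushforwardAdjunction i₁).unit.app (Twist.twistProjSpace (g - 1) k 1)).app ⊤))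
    (hnd₂ : Function.Injective
      (((Scheme.Modules.pullbackPushforwardAdjunction i₂).unit.app (Twist.twistProjSpace (g - 1) k 1)).app ⊤))
    (φ : X₁ ≅ X₂) (hφ : φ.hom ≫ (X₂ ↘ Spec (CommRingCat.of k)) = X₁ ↘ Spec (CommRingCat.of k)) :
    ∃ (σ : CohB1.ProjSpace (g - 1) k ≅ CohB1.ProjSpace (g - 1) k) (ψ : X₁ ≅ X₂),
        σ.hom ≫ CohB1.ProjSpace.toSpec (g - 1) k = CohB1.ProjSpace.toSpec (g - 1) k ∧
        i₁ ≫ σ.hom = ψ.hom ≫ i₂ := by
  classical
  obtain ⟨n, hn, rfl⟩ : ∃ n, g - 1 = n ∧ g = n + 1 := ⟨g - 1, rfl, by omega⟩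
  revert i₁ i₂ hi₁ hi₂ e₁ e₂ hnd₁ hnd₂
  rw [hn]
  intro i₁ i₂ hi₁ hi₂ e₁ e₂ hnd₁ hnd₂
  let T := Twist.twistProjSpace n k 1
  -- the differentials transport
  obtain ⟨εφ⟩ : Nonempty ((Scheme.Modules.pullback φ.hom).obj (Omega.sheaf (X₂ ↘ Spec (CommRingCat.of k))) ≅
      Omega.sheaf (X₁ ↘ Spec (CommRingCat.of k))) := H29CurveDual.nonempty_pullback_omega_iso φ.hom _ _ hφ
  have hb := pullTop_lin_bijective k X₁ hd₁ hg₁ i₁ hi₁ e₁ hnd₁
  obtain ⟨θ, hθ⟩ := exists_comp_values φ.hom i₂ e₂ (εφ ≪≫ e₁.symm)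
  choose B hB using fun j => hb.2 (θ.hom.app ⊤ (pullTop (φ.hom ≫ i₂) (L := T) (co k n j)))
  have hΦ : ∀ c, θ.hom.app ⊤ (pullTop (φ.hom ≫ i₂) (L := T) (lin k n c)) =
      pullTop i₁ (L := T) (lin k n (∑ j, c j • B j)) := fun c => by
    rw [pullTop_lin (q := X₁ ↘ Spec (CommRingCat.of k)) (φ.hom ≫ i₂) (by rw [Category.assoc, hi₂, hφ]), map_sum,
      lin_sum]
    show _ = OmegaSh.pullSect i₁ T ⊤ _
    rw [map_sum]
    refine Finset.sum_congr rfl fun j _ => ?_
    refine (Scheme.Modules.Hom.app_smul _ _ _).trans ?_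
    rw [← hB j]
    refine Eq.trans ?_ (OmegaSh.pullSect_smul i₁ T ⊤ _ _).symm
    rw [show X₁ ↘ Spec (CommRingCat.of k) = i₁ ≫ CohB1.ProjSpace.toSpec n k from hi₁.symm]
    rfl
  have hli : LinearIndependent k B := by
    refine Fintype.linearIndependent_iff.2 fun c hc => ?_
    have h1 : θ.hom.app ⊤ (pullTop (φ.hom ≫ i₂) (L := T) (lin k n c)) =
        θ.hom.app ⊤ (pullTop (φ.hom ≫ i₂) (L := T) (lin k n 0)) := by
      rw [hΦ, hΦ, hc]
      simp
    have hθi : Function.Injective (θ.hom.app ⊤) :=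
      ((ConcreteCategory.isIso_iff_bijective _).1 (Scheme.Modules.Hom.isIso_iff_isIso_app.mp inferInstance ⊤)).1
    have h2 := congrArg (((Scheme.Modules.pullbackComp φ.hom i₂).inv.app T).app ⊤) (hθi h1)
    rw [pullTop_comp, pullTop_comp] at h2
    have hc0 := lin_injective k n (hnd₂ ((H17.PullSect.bijective_pullSect φ.hom _ (W := ⊤) (by rw [Scheme.Hom.opensRange_of_isIso])).1 h2))
    exact fun j => congrFun hc0 j
  let Bb : Module.Basis (Fin (n + 1)) k (Fin (n + 1) → k) :=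
    basisOfLinearIndependentOfCardEqFinrank hli (by simp)
  obtain ⟨σ, τ, hσ, hτ⟩ := exists_aut k Bb
  refine ⟨σ, φ, hσ, ?_⟩
  obtain ⟨θ', hθ'⟩ := exists_comp_values i₁ σ.hom τ (Iso.refl _)
  refine hom_eq _ _ (by rw [Category.assoc, hσ, hi₁, Category.assoc, hi₂, hφ]) θ' θ fun j => ?_
  rw [hθ', hτ, ← hB j, show Bb j = B j from congrFun (coe_basisOfLinearIndependentOfCardEqFinrank hli _) j]
  rfl

/-- Let k be an algebraically closed field of characteristic zero, g ≥ 3, and X₁, X₂ smooth proper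
integral curves of genus g over k. Suppose each X_j is canonically embedded: i_j : X_j → P^{g-1}_k
is a closed immersion over k, the pullback i_j^* O(1) is isomorphic to the sheaf of differentials of
X_j over k, and X_j lies in no hyperplane (the restriction map from the global sections of O(1) to
those of i_j^* O(1) is injective). Then X₁ and X₂ are isomorphic over k exactly when they are
projectively equivalent: there are a k-automorphism σ of P^{g-1}_k and an isomorphism ψ : X₁ ≅ X₂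
with i₁ ≫ σ = ψ ≫ i₂. (Projective equivalence is expressed through k-automorphisms of the scheme
P^{g-1}_k; that these are exactly the projective linear transformations is classical and not
restated.) -/
theorem result (k : Type u) [Field k] [IsAlgClosed k]
    [CharZero k] (g : ℕ) (hg : 3 ≤ g)
    (X₁ X₂ : Scheme.{u}) [X₁.Over (Spec (CommRingCat.of k))] [X₂.Over (Spec (CommRingCat.of k))]
    [AlgebraicGeometry.IsIntegral X₁] [AlgebraicGeometry.IsIntegral X₂]
    [IsProper (X₁ ↘ Spec (CommRingCat.of k))] [IsProper (X₂ ↘ Spec (CommRingCat.of k))]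
    [Smooth (X₁ ↘ Spec (CommRingCat.of k))] [Smooth (X₂ ↘ Spec (CommRingCat.of k))]
    (hd₁ : topologicalKrullDim X₁ = 1) (hd₂ : topologicalKrullDim X₂ = 1)
    (hg₁ : Curv2.genus k X₁ = g) (hg₂ : Curv2.genus k X₂ = g)
    (i₁ : X₁ ⟶ CohB1.ProjSpace (g - 1) k) (i₂ : X₂ ⟶ CohB1.ProjSpace (g - 1) k)
    [IsClosedImmersion i₁] [IsClosedImmersion i₂]
    (hi₁ : i₁ ≫ CohB1.ProjSpace.toSpec (g - 1) k = X₁ ↘ Spec (CommRingCat.of k))
    (hi₂ : i₂ ≫ CohB1.ProjSpace.toSpec (g - 1) k = X₂ ↘ Spec (CommRingCat.of k))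
    (e₁ : (Scheme.Modules.pullback i₁).obj (Twist.twistProjSpace (g - 1) k 1)
      ≅ Omega.sheaf (X₁ ↘ Spec (CommRingCat.of k)))
    (e₂ : (Scheme.Modules.pullback i₂).obj (Twist.twistProjSpace (g - 1) k 1)
      ≅ Omega.sheaf (X₂ ↘ Spec (CommRingCat.of k)))
    (hnd₁ : Function.Injective
      (((Scheme.Modules.pullbackPushforwardAdjunction i₁).unit.app (Twist.twistProjSpace (g - 1) k 1)).app ⊤))
    (hnd₂ : Function.Injective
      (((Scheme.Modules.pullbackPushforwardAdjunction i₂).unit.app (Twist.twistProjSpace (g - 1) k 1)).app ⊤)) :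
    (∃ φ : X₁ ≅ X₂, φ.hom ≫ (X₂ ↘ Spec (CommRingCat.of k)) = X₁ ↘ Spec (CommRingCat.of k)) ↔
      ∃ (σ : CohB1.ProjSpace (g - 1) k ≅ CohB1.ProjSpace (g - 1) k) (ψ : X₁ ≅ X₂),
        σ.hom ≫ CohB1.ProjSpace.toSpec (g - 1) k = CohB1.ProjSpace.toSpec (g - 1) k ∧
        i₁ ≫ σ.hom = ψ.hom ≫ i₂ := by
  classical
  constructor
  · rintro ⟨φ, hφ⟩
    exact exists_equiv k g hg X₁ X₂ hd₁ hg₁ i₁ i₂ hi₁ hi₂ e₁ e₂ hnd₁ hnd₂ φ hφ
  · rintro ⟨σ, ψ, hσ, hψ⟩
    refine ⟨ψ, ?_⟩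
    rw [← hi₂, ← Category.assoc, ← hψ, Category.assoc, hσ, hi₁]

end Groth.Agent.S17412
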