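import Groth.Statements.S1025
import Groth.Agent.LeadBC.GenBC.Rank
import Groth.Agent.H29Fitt.FP

set_option autoImplicit false
universe u
open CategoryTheory AlgebraicGeometry
open Perf

namespace Groth.Agent.S1025

open Groth.Agent.H06FlatCx in
/-- The rank of a homology of a finite free complex is upper semicontinuous. -/
theorem dRank_usc {A : Type u} [CommRing A] (P : ChainComplex (ModuleCat.{u} A) ℤ)
    (hP : ∀ i, Module.Finite A (P.X i) ∧ Module.Free A (P.X i)) (p : ℤ) :
    UpperSemicontinuous (CohIII.dRank P p) := by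
  haveI := (hP p).1
  haveI := (hP (p - 1)).1
  haveI := (hP (p - 1)).2
  haveI : Module.FinitePresentation A (P.X (p - 1)) := Module.finitePresentation_of_projective A _
  have hX : IsLocallyConstant (fibDim (A := A) (P.X (p - 1))) := by
    rw [show fibDim (A := A) (P.X (p - 1)) = Module.rankAtStalk (R := A) (P.X (p - 1)) from
      funext (fibDim_eq_rankAtStalk (P.X (p - 1)))]
    exact Module.isLocallyConstant_rankAtStalk
  intro x r hr
  let C₁ := P.X p ⧸ LinearMap.range (P.d (p + 1) p).hom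
  let C₂ := P.X (p - 1) ⧸ LinearMap.range (P.d p (p - 1)).hom
  have h0 := (hX.isOpen_fiber (fibDim (P.X (p - 1)) x)).mem_nhds rfl
  have h1 := (isOpen_fibDim_le C₁ (fibDim (A := A) C₁ x)).mem_nhds (le_refl (fibDim (A := A) C₁ x))
  have h2 := (isOpen_fibDim_le C₂ (fibDim (A := A) C₂ x)).mem_nhds (le_refl (fibDim (A := A) C₂ x))
  filter_upwards [h0, h1, h2] with y e0 e1 e2
  have a1 : CohIII.dRank P p x + fibDim (P.X (p - 1)) x = fibDim (A := A) C₁ x + fibDim (A := A) C₂ x :=
    dRank_add P (down_prev p) (down_next p) x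
  have a2 : CohIII.dRank P p y + fibDim (P.X (p - 1)) y = fibDim (A := A) C₁ y + fibDim (A := A) C₂ y :=
    dRank_add P (down_prev p) (down_next p) y
  change fibDim (P.X (p - 1)) y = fibDim (P.X (p - 1)) x at e0
  change fibDim (A := A) C₁ y ≤ fibDim (A := A) C₁ x at e1
  change fibDim (A := A) C₂ y ≤ fibDim (A := A) C₂ x at e2
  omega

/-- Let f : X ⟶ S be proper and of finite presentation and F an O_X-module of finite presentation which
is flat over S. For each i the function s ↦ dim_{κ(s)} Hⁱ(X_s, F_s) (cohomology of the pullback of F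
to the scheme-theoretic fibre) is upper semicontinuous: for every n the set of points where it is <
n is open. -/
theorem result {X S : Scheme.{u}} (f : X ⟶ S) [IsProper f] [LocallyOfFinitePresentation f]
    (F : X.Modules) (hF : CohB1.IsFP F) (hflat : FlatMod.IsFlatOver f F) (i n : ℕ) :
    IsOpen {s : S | PerfAux.betti f F s i < n} := by
  haveI : F.IsQuasicoherent := Groth.Agent.H29Fitt.isQCoh_of_isFP F hF
  rw [isOpen_iff_forall_mem_open]
  intro s hs
  obtain ⟨V, hV, hsV, -⟩ := exists_isAffineOpen_mem_and_subset (U := (⊤ : S.Opens)) (x := s) trivial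
  letI := Groth.Agent.LeadBC.preOver f hV
  obtain ⟨ι, _, U, hU, ⟨m⟩⟩ := Groth.Agent.LeadBC.GenBC.exists_chart f hV F hF hflat
  have h : ∀ (y : S) (hy : y ∈ V), PerfAux.betti f F y i =
      CohIII.dRank m.P ((m.N : ℤ) - i) (hV.primeIdealOf ⟨y, hy⟩) := fun y hy =>
    (Groth.Agent.LeadBC.GenBC.subsingleton_fiberH_iff f hV hU m hy i).2
  have ho : IsOpen {x : V | CohIII.dRank m.P ((m.N : ℤ) - i) (hV.primeIdealOf x) < n} :=
    ((dRank_usc m.P m.finite_free _).isOpen_preimage n).preimage
      hV.isoSpec.hom.continuous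
  refine ⟨Subtype.val '' {x : V | CohIII.dRank m.P ((m.N : ℤ) - i) (hV.primeIdealOf x) < n}, ?_,
    V.isOpen.isOpenEmbedding_subtypeVal.isOpenMap _ ho, ⟨⟨s, hsV⟩, (h s hsV).symm.trans_lt hs, rfl⟩⟩
  rintro _ ⟨x, hx, rfl⟩
  exact (h x.1 x.2).trans_lt hx

end Groth.Agent.S1025
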