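-- statement FlatMor.GrothFrozen.S0435 (Groth/Statements/S0435.lean; the theorem FlatMor.isOpen_geometrically_reduced_fibre_locus_of_flat_proper);
import Groth.Statements.S0435
import Groth.Agent.H7Flat.GeomReducedOpen

set_option autoImplicit false
universe u
open FlatMor

namespace Groth.Agent.S0435

open AlgebraicGeometry CategoryTheory Limits in
/-- For a flat proper morphism of finite presentation, the points of the target whose fibre is
geometrically reduced form an open subset. -/
theorem result {X Y : Scheme.{u}} (f : X ⟶ Y) [Flat f] [IsProper f] [LocallyOfFinitePresentation f] :
    IsOpen {y : ↑Y | GeometricallyReduced (f.fiberToSpecResidueField y)} := by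
  exact Groth.Agent.H7Flat.GeomReduced.isOpen_geometricallyReduced f

end Groth.Agent.S0435
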