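import Groth.Statements.S2553
import Groth.Agent.H06GeomInt.Integral
import Groth.Agent.H06Conn.FlatProperFP
import Groth.Agent.S0435

set_option autoImplicit false
open CategoryTheory AlgebraicGeometry
universe u
open EGA43

namespace Groth.Agent.S2553

/-- Let f : X ⟶ Y be proper, flat and locally of finite presentation. The set of points y of Y whose
fibre is geometrically integral over the residue field of y is open in Y. -/
theorem result {X Y : Scheme.{u}} (f : X ⟶ Y) [IsProper f]
    [Flat f] [LocallyOfFinitePresentation f] :
    IsOpen {y : Y | GeometricallyIntegral (f.fiberToSpecResidueField y)} := by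
  haveI : LocallyOfFiniteType f := inferInstance
  rw [isOpen_iff_mem_nhds]
  intro y hy
  obtain ⟨hloc, hconn⟩ := (Groth.Agent.H06GeomInt.geometricallyIntegral_fiber_iff f y).1 hy
  haveI : GeometricallyIntegral (f.fiberToSpecResidueField y) := hy
  filter_upwards [(Groth.Agent.H06GeomInt.isOpen_setOf_forall_mem_locus f).mem_nhds hloc,
    Groth.Agent.H06Conn.setOf_eq_mem_nhds_of_proper_flat f y inferInstance] with z hz hz'
  exact (Groth.Agent.H06GeomInt.geometricallyIntegral_fiber_iff f z).2
    ⟨hz, (show MoreMor.nGeomConnComp f z = _ from hz').trans hconn⟩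

end Groth.Agent.S2553
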