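import Groth.Statements.S1636
import Groth.Agent.H14VA.Regular
import Groth.Agent.H29RR.RiemannRoch
import Groth.Agent.H22Alg.CurveAmple
import Groth.Agent.H29CurveDual.SingularVanish

set_option autoImplicit false
universe u
open CategoryTheory CategoryTheory.Limits AlgebraicGeometry
open Curves

namespace Groth.Agent.S1636

/-- Let X be a proper curve over k with global functions k and genus 0, and L an invertible module of
degree d > 0. Then there is a closed immersion i : X → P^d_k over k with i^* O(1) ≅ L. -/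
theorem result (k : Type u) [Field k] (X : Scheme.{u}) [X.Over (Spec (CommRingCat.of k))]
    [IsIntegral X] [IsProper (X ↘ (Spec (CommRingCat.of k)))] (hdim : topologicalKrullDim X = 1)
    (h0 : Module.finrank k (Coh.HH X (Coh.structureModule X) 0) = 1) (hg : Curv2.genus k X = 0)
    (L : X.Modules) (hL : PicF.IsInvertible L) (d : ℕ) (hd : 0 < d) (hdeg : Curv2.deg k X L 1 = d) :
    ∃ i : X ⟶ CohB1.ProjSpace d k, IsClosedImmersion i ∧ i ≫ CohB1.ProjSpace.toSpec d k = X ↘ (Spec (CommRingCat.of k)) ∧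
      Nonempty ((Scheme.Modules.pullback i).obj (Twist.twistProjSpace d k 1) ≅ L) := by
  have hdeg0 : 0 < Curv2.deg k X L 1 := by rw [hdeg]; exact_mod_cast hd
  have hA := H22Alg.CurveAmple.isAmple_of_deg_pos (k := k) hdim hL hdeg0
  have hgg := H29CurveDual.isGloballyGenerated_of_deg_ge (k := k) hdim.le h0 hL (by rw [hg]; simpa using hdeg0.le)
  obtain ⟨-, hr, -⟩ := H29RR.genus_zero_h0 (k := k) hdim.le h0 hg hL hdeg0.le
  haveI : Module.Finite k (Coh.HH X (CohB1.tensorPow L 0) 1) := H14VA.finite_HH_structure k X 1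
  obtain ⟨n, i, hn, hi, hs, ⟨e⟩⟩ := H14VA.exists_closedImmersion_pow (k := k) hdim.le hA hgg 0
    ((Module.finrank_zero_iff (R := k) (M := Coh.HH X (CohB1.tensorPow L 0) 1)).1 hg)
  have e1 : CohB1.tensorPow L (0 + 1) ≅ L := H10Coh.Tw.leftUnitIso L
  have hnd : n = d := by
    have h := H29CurveDual.finrank_h0_congr (k := k) e1 0
    rw [hdeg] at hr
    omega
  subst hnd
  exact ⟨i, hi, hs, ⟨e ≪≫ e1⟩⟩

end Groth.Agent.S1636
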