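import Groth.Statements.S2344
import Groth.Agent.H11Val.CodimOne
import Groth.Agent.H11Curve.DimOne

set_option autoImplicit false
universe u
open CategoryTheory CategoryTheory.Limits AlgebraicGeometry
open EGA2

namespace Groth.Agent.S2344

/-- Let X be a normal algebraic curve over k (separated, of finite type, nonempty, local rings at closed
points of dimension one, all local rings integrally closed domains), Y proper over k, U a dense open
of X and g : U → Y a k-morphism. Then g extends uniquely to a k-morphism X → Y. -/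
theorem result (k : Type u) [Field k] (X Y : Scheme.{u}) [X.Over (Spec (CommRingCat.of k))] [Y.Over (Spec (CommRingCat.of k))]
    [LocallyOfFiniteType (X ↘ (Spec (CommRingCat.of k)))] [QuasiCompact (X ↘ (Spec (CommRingCat.of k)))] [IsSeparated (X ↘ (Spec (CommRingCat.of k)))] [Nonempty X] (hcurve : (∀ x : X, IsClosed ({x} : Set X) → ringKrullDim (X.presheaf.stalk x) = 1)) (hnorm : Pi1.IsNormalScheme X)
    [IsProper (Y ↘ (Spec (CommRingCat.of k)))] (U : X.Opens) (hU : Dense (U : Set X)) (g : (U : Scheme.{u}) ⟶ Y)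
    (hg : g ≫ (Y ↘ (Spec (CommRingCat.of k))) = U.ι ≫ (X ↘ (Spec (CommRingCat.of k)))) :
    ∃! g' : X ⟶ Y, U.ι ≫ g' = g ∧ g' ≫ (Y ↘ (Spec (CommRingCat.of k))) = X ↘ (Spec (CommRingCat.of k)) := by
  let p := X ↘ (Spec (CommRingCat.of k))
  let q := Y ↘ (Spec (CommRingCat.of k))
  haveI : CompactSpace X := QuasiCompact.compactSpace_of_compactSpace p
  haveI : IsLocallyNoetherian X := LocallyOfFiniteType.isLocallyNoetherian p
  haveI : IsReduced X := by
    haveI : ∀ x : X, _root_.IsReduced (X.presheaf.stalk x) := fun x => by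
      haveI := (hnorm x).1
      infer_instance
    exact isReduced_of_isReduced_stalk X
  obtain ⟨W, hUW, g', hg', hres, hmax⟩ := H28Neron.exists_maximal_extension p q U hU g hg
  have hW : W = ⊤ := by
    refine eq_top_iff.2 fun x _ => ?_
    have hdim : ringKrullDim (X.presheaf.stalk x) ≤ 1 := by
      rw [ringKrullDim_stalk_eq_coheight]
      exact WithBot.coe_le_coe.2 (H11Curve.coheight_le_one (fun y hy => (hcurve y hy).le) x)
    haveI := (hnorm x).1
    haveI := (hnorm x).2
    haveI := H11Val.valuationRing_of_normal _ hdim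
    obtain ⟨W', g'', hxW', h1, h2⟩ := H28Neron.exists_nhd_extension p q U hU g hg x
    exact hmax W' g'' h1 h2 hxW'
  subst hW
  let G : X ⟶ Y := X.topIso.inv ≫ g'
  have hG1 : U.ι ≫ G = g := by
    have e : U.ι ≫ X.topIso.inv = X.homOfLE hUW := by
      rw [← cancel_mono (Scheme.Opens.ι ⊤), Category.assoc, Scheme.homOfLE_ι, ← Scheme.topIso_hom,
        Iso.inv_hom_id, Category.comp_id]
    rw [← Category.assoc, e, hres]
  have hG2 : G ≫ q = p := by
    rw [Category.assoc, hg', ← Scheme.topIso_hom, ← Category.assoc, Iso.inv_hom_id, Category.id_comp]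
  refine ⟨G, ⟨hG1, hG2⟩, ?_⟩
  rintro h ⟨h1, h2⟩
  haveI : IsDominant U.ι := ⟨by rw [DenseRange, Scheme.Opens.range_ι]; exact hU⟩
  exact ext_of_isDominant_of_isSeparated q (h2.trans hG2.symm) U.ι (h1.trans hG1.symm)

end Groth.Agent.S2344
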