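import Groth.Statements.S1605
import Groth.Agent.H29CurveDual.Subcurve.Degree

set_option autoImplicit false
universe u
open CategoryTheory CategoryTheory.Limits AlgebraicGeometry
open Curves

namespace Groth.Agent.S1605

attribute [local instance 10000] H10Coh.hasSheafifyAb H10Coh.hasWeakSheafifyAb H10Coh.hasExtAb H10Coh.enoughInjAb

/-- Let X be proper over k, reduced, connected, of dimension one; L an invertible module; Z a closed
subscheme of dimension zero with ideal sheaf I. If H^1(X, I ⊗ L) ≠ 0, then there is a reduced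
connected closed subscheme Y of X of dimension one with deg(L|_Y) ≤ -2 χ(Y, O_Y) + deg(Z ∩ Y), the
scheme-theoretic intersection having degree dim_k H^0 of its structure sheaf. -/
theorem result (k : Type u) [Field k] (X : Scheme.{u}) [X.Over (Spec (CommRingCat.of k))] [IsProper (X ↘ (Spec (CommRingCat.of k)))] [IsReduced X] [ConnectedSpace X]
    (hdim : topologicalKrullDim X = 1) (L : X.Modules) (hL : PicF.IsInvertible L)
    (Z : X.IdealSheafData) (hZ : topologicalKrullDim (Z.support : Set X) ≤ 0)
    (h1 : Nontrivial (Coh.HH X (CohB1.tensorMod (ClSub.idealMod Z) L) 1)) :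
    ∃ (J : X.IdealSheafData), IsReduced J.subscheme ∧ ConnectedSpace J.subscheme ∧ topologicalKrullDim J.subscheme = 1 ∧
      @Curv2.deg k _ J.subscheme ⟨J.subschemeι ≫ (X ↘ (Spec (CommRingCat.of k)))⟩ ((Scheme.Modules.pullback J.subschemeι).obj L) 1 ≤
        -2 * @Curv2.euler k _ J.subscheme ⟨J.subschemeι ≫ (X ↘ (Spec (CommRingCat.of k)))⟩ (Coh.structureModule J.subscheme) +
          Module.finrank k (Coh.HH X (ClSub.quotMod (Z ⊔ J)) 0) := by
  haveI := H29RR.isNoetherian_of_proper (k := k) (X := X)
  have hZ' : ∀ η : X, ¬ IsClosed ({η} : Set X) → η ∉ Z.support := fun η hη hm =>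
    hη ((H29CurveDual.finite_and_closed_of_dim_le_zero Z.support.isClosed hZ).2 η hm)
  obtain ⟨e⟩ := H29CurveDual.Subcurve.nonempty_sub_top_iso Z hL
  obtain ⟨W, hW, hn, hmin⟩ := H29CurveDual.Subcurve.exists_minimal (k := k) hdim.le Z hZ' hL
    (H29CurveDual.Subcurve.isPure_top hdim) ((H29RR.hhIso (k := k) e 1).toEquiv.symm.nontrivial)
  have hne : (W : Set X).Nonempty := by
    by_contra he
    obtain ⟨-, -, h1'⟩ := H29CurveDual.Subcurve.subsingleton_HH_one
      (H29CurveDual.Subcurve.isCoh_sub Z (H29CurveDual.Subcurve.isCoh_res hL W)) fun η _ =>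
        H25Par.subsingleton_stalk_of_mono (H29CurveDual.Subcurve.subι Z (H29CurveDual.Subcurve.res L W))
          (not_nontrivial_iff_subsingleton.1 fun h => he
            ⟨η, (H29CurveDual.Subcurve.nontrivial_stalk_res_iff hL W η).1 h⟩)
    exact not_nontrivial_iff_subsingleton.2 h1' hn
  refine ⟨H29CurveDual.Subcurve.idl W, H17.isReduced_vanishingIdeal_subscheme W,
    H29CurveDual.Subcurve.connectedSpace_of_minimal (k := k) hdim.le Z hZ' hL hW hmin hn,
    H29CurveDual.Subcurve.dim_subscheme hdim.le hW hne, ?_⟩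
  have h := H29CurveDual.Subcurve.deg_le_of_h0 (k := k) hdim.le Z hZ' hL W
    (H29CurveDual.Subcurve.h0_sub_le_of_minimal (k := k) hdim.le Z hL hmin hn)
    (H29CurveDual.Subcurve.h0_quot_le_of_minimal (k := k) hdim.le Z hZ' hL hW hmin hn)
  rw [sub_self, add_zero] at h
  exact h

end Groth.Agent.S1605
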