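import Groth.Statements.S7642
import Mathlib
import Groth.Agent.H22Alg.CurveAmple
import Groth.Agent.H22Alg.DimZero
import Groth.Agent.H11Ample.QuasiAffine

set_option autoImplicit false
universe u
open CategoryTheory CategoryTheory.Limits AlgebraicGeometry
open Variety

namespace Groth.Agent.S7642

/-- Let X be proper of dimension at most one over a field k and let L be an invertible module on X. Then
L is ample if and only if deg(L|_C) > 0 for every irreducible component C of X of dimension one, C
carrying its reduced induced structure. -/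
theorem result (k : Type u) [Field k] (X : Scheme.{u}) [X.Over (Spec (CommRingCat.of k))] [IsProper (X ↘ (Spec (CommRingCat.of k)))] [IsNoetherian X]
    (hdim : topologicalKrullDim X ≤ 1) (L : X.Modules) (hL : PicF.IsInvertible L) :
    CohB1.IsAmple L ↔ ∀ (C : Set X) (hC : C ∈ irreducibleComponents (X : Type u)),
      topologicalKrullDim C = 1 → 0 < @Curv2.deg k _ (X.irreducibleComponentIdeal C hC).radical.subscheme ⟨(X.irreducibleComponentIdeal C hC).radical.subschemeι ≫ (X ↘ (Spec (CommRingCat.of k)))⟩ ((Scheme.Modules.pullback (X.irreducibleComponentIdeal C hC).radical.subschemeι).obj L) 1 := by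
  have hint : ∀ (C : Set X) (hC : C ∈ irreducibleComponents (X : Type u)),
      IsIntegral (X.irreducibleComponentIdeal C hC).radical.subscheme ∧
      Set.range (X.irreducibleComponentIdeal C hC).radical.subschemeι = C := fun C hC => by
    let J := (X.irreducibleComponentIdeal C hC).radical
    have hr : Set.range J.subschemeι = C := by
      rw [Scheme.IdealSheafData.range_subschemeι]; rfl
    refine ⟨?_, hr⟩
    haveI : IrreducibleSpace J.subscheme := by
      haveI : IrreducibleSpace (Set.range J.subschemeι) := (irreducibleSpace_def _).2 (by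
        have h : IsIrreducible (Set.range J.subschemeι) := hr.symm ▸ hC.1
        obtain ⟨⟨x, hx⟩, hp⟩ := h
        refine ⟨⟨⟨x, hx⟩, trivial⟩, fun u v hu hv hu' hv' => ?_⟩
        obtain ⟨u₀, hu₀, rfl⟩ := isOpen_induced_iff.1 hu
        obtain ⟨v₀, hv₀, rfl⟩ := isOpen_induced_iff.1 hv
        obtain ⟨a, -, ha⟩ := hu'
        obtain ⟨b, -, hb⟩ := hv'
        obtain ⟨c, hc, hc'⟩ := hp u₀ v₀ hu₀ hv₀ ⟨a, a.2, ha⟩ ⟨b, b.2, hb⟩
        exact ⟨⟨c, hc⟩, trivial, hc'⟩)
      have e := J.subschemeι.isClosedEmbedding.isEmbedding.toHomeomorph
      exact (irreducibleSpace_def _).2 (by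
        have h := (IrreducibleSpace.isIrreducible_univ (Set.range J.subschemeι)).image e.symm e.symm.continuous.continuousOn
        rwa [Set.image_univ, e.symm.surjective.range_eq] at h)
    haveI : IsReduced J.subscheme := by
      have h : J = Scheme.IdealSheafData.vanishingIdeal (X.irreducibleComponentIdeal C hC).support :=
        Scheme.IdealSheafData.vanishingIdeal_support.symm
      rw [h]
      exact Groth.Agent.H17.isReduced_vanishingIdeal_subscheme _
    exact isIntegral_of_irreducibleSpace_of_isReduced _
  constructor
  · intro hA C hC hCd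
    obtain ⟨hi, hr⟩ := hint C hC
    haveI := hi
    letI : (X.irreducibleComponentIdeal C hC).radical.subscheme.Over (Spec (CommRingCat.of k)) :=
      ⟨(X.irreducibleComponentIdeal C hC).radical.subschemeι ≫ (X ↘ (Spec (CommRingCat.of k)))⟩
    haveI : IsProper ((X.irreducibleComponentIdeal C hC).radical.subscheme ↘ Spec (CommRingCat.of k)) :=
      inferInstanceAs (IsProper ((X.irreducibleComponentIdeal C hC).radical.subschemeι ≫ _))
    refine Groth.Agent.H22Alg.CurveAmple.deg_pos_of_ample ?_ (Groth.Agent.H11Ample.isAmple_pullback_of_isAffineHom _ hA)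
    rw [(X.irreducibleComponentIdeal C hC).radical.subschemeι.isClosedEmbedding.isEmbedding.toHomeomorph.isHomeomorph.topologicalKrullDim_eq,
      hr, hCd]
  · intro h
    refine Groth.Agent.H10Coh.Tw.isAmple_of_closed_cover (X ↘ (Spec (CommRingCat.of k))) hL
      (fun C : irreducibleComponents (X : Type u) => (X.irreducibleComponentIdeal C.1 C.2).radical.subscheme)
      (fun C => (X.irreducibleComponentIdeal C.1 C.2).radical.subschemeι) (fun x => ?_) fun C => ?_
    · refine ⟨⟨_, irreducibleComponent_mem_irreducibleComponents x⟩, ?_⟩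
      rw [(hint _ _).2]
      exact mem_irreducibleComponent
    obtain ⟨hi, hr⟩ := hint C.1 C.2
    haveI := hi
    let J := (X.irreducibleComponentIdeal C.1 C.2).radical
    letI : J.subscheme.Over (Spec (CommRingCat.of k)) := ⟨J.subschemeι ≫ (X ↘ (Spec (CommRingCat.of k)))⟩
    haveI : IsProper (J.subscheme ↘ Spec (CommRingCat.of k)) := inferInstanceAs (IsProper (J.subschemeι ≫ _))
    have hP := Groth.Agent.H11Ample.isInvertible_pullback J.subschemeι hL
    have hdC : topologicalKrullDim J.subscheme = topologicalKrullDim C.1 := by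
      rw [J.subschemeι.isClosedEmbedding.isEmbedding.toHomeomorph.isHomeomorph.topologicalKrullDim_eq, hr]
    by_cases hC1 : topologicalKrullDim C.1 = 1
    · exact Groth.Agent.H22Alg.CurveAmple.isAmple_of_deg_pos (hdC.trans hC1) hP (h C.1 C.2 hC1)
    · have h0 : topologicalKrullDim J.subscheme ≤ 0 := by
        have hle : topologicalKrullDim J.subscheme ≤ 1 :=
          (Topology.IsInducing.topologicalKrullDim_le J.subschemeι.isClosedEmbedding.isEmbedding.isInducing).trans hdim
        have hlt := lt_of_le_of_ne hle (fun he => hC1 (hdC ▸ he))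
        rcases hD : topologicalKrullDim J.subscheme with _ | n
        · exact bot_le
        · rw [hD] at hlt
          have : n < (1 : ℕ∞) := WithBot.coe_lt_coe.1 hlt
          exact WithBot.coe_le_coe.2 (ENat.lt_one_iff_eq_zero.1 this).le
      haveI : IsLocallyNoetherian J.subscheme := LocallyOfFiniteType.isLocallyNoetherian J.subschemeι
      haveI := IsLocallyArtinian.of_topologicalKrullDim_le_zero h0
      haveI : IsAffine J.subscheme := (Groth.Agent.H22Alg.DimZero.affine_finite (J.subscheme ↘ Spec (CommRingCat.of k))).1
      exact Groth.Agent.H11Ample.isAmple_of_isQuasiAffine hP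

end Groth.Agent.S7642
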