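import Groth.Statements.S1589
import Groth.Agent.H29Node.FieldDescent
import Groth.Agent.H11Node.Geom
import Groth.Agent.H02CA.GorFlatLocal
import Groth.Agent.H4LC.GorQuotient
import Groth.Agent.H8Props.GeometricDescent
import Groth.Agent.H06Red.Scheme

set_option autoImplicit false
universe u
open CategoryTheory CategoryTheory.Limits AlgebraicGeometry
open Curves

namespace Groth.Agent.S1589

/-- The ring of a node is Gorenstein. -/
theorem gor_nodeRing (K : Type u) [Field K] : LocCoh.IsGorensteinLocalRing (H11Node.NodeRing K) := by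
  haveI : IsRegularLocalRing (MvPowerSeries (Fin 2) K) := H02CA.PS.isRegularLocalRing_fin 2
  have h0 := H4Goren.isGorensteinLocalRing_of_isRegularLocalRing (MvPowerSeries (Fin 2) K)
  have hm : (MvPowerSeries.X 0 * MvPowerSeries.X 1 : MvPowerSeries (Fin 2) K) ∈
      IsLocalRing.maximalIdeal (MvPowerSeries (Fin 2) K) := by
    intro hu
    have := MvPowerSeries.isUnit_iff_constantCoeff.1 hu
    simp at this
  have hr : IsSMulRegular (MvPowerSeries (Fin 2) K) (MvPowerSeries.X 0 * MvPowerSeries.X 1 : MvPowerSeries (Fin 2) K) := by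
    refine IsLeftRegular.isSMulRegular (IsLeftCancelMulZero.mul_left_cancel_of_ne_zero ?_)
    intro h
    rcases mul_eq_zero.1 h with h1 | h1
    · simpa [MvPowerSeries.coeff_X] using congrArg (MvPowerSeries.coeff (Finsupp.single (0 : Fin 2) 1)) h1
    · simpa [MvPowerSeries.coeff_X] using congrArg (MvPowerSeries.coeff (Finsupp.single (1 : Fin 2) 1)) h1
  exact (H4Goren.isGorensteinLocalRing_quotient_iff hm hr).1 h0



/-- Let X be locally of finite type over k with all irreducible components of dimension one and
at-worst-nodal singularities. Then every local ring of X is Gorenstein and X is geometrically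
reduced over k. -/
theorem result (k : Type u) [Field k] (X : Scheme.{u}) [X.Over (Spec (CommRingCat.of k))] [LocallyOfFiniteType (X ↘ (Spec (CommRingCat.of k)))]
    (hequi : ∀ Z ∈ irreducibleComponents (X : Type u), topologicalKrullDim Z = 1) (hX : Curv2.AtWorstNodal k X) :
    (∀ x : X, LocCoh.IsGorensteinLocalRing (X.presheaf.stalk x)) ∧ GeometricallyReduced (X ↘ (Spec (CommRingCat.of k))) := by
  classical
  let K := AlgebraicClosure k
  let f := X ↘ Spec (CommRingCat.of k)
  let Z : Scheme.{u} := Curv2.bc k X K
  letI : Z.Over (Spec (CommRingCat.of K)) := ⟨Curv2.bcSnd k X K⟩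
  haveI : LocallyOfFinitePresentation f := inferInstance
  haveI := LocallyOfFiniteType.isLocallyNoetherian f
  haveI : LocallyOfFiniteType (Curv2.bcSnd k X K) := MorphismProperty.pullback_snd _ _ inferInstance
  haveI : LocallyOfFiniteType (Z ↘ Spec (CommRingCat.of K)) := ‹_›
  haveI := LocallyOfFiniteType.isLocallyNoetherian (Curv2.bcSnd k X K)
  haveI : JacobsonSpace X := LocallyOfFiniteType.jacobsonSpace f
  haveI : Flat (Curv2.bcFst k X K) := by
    refine MorphismProperty.pullback_fst _ _ ?_
    rw [HasRingHomProperty.Spec_iff (P := @Flat)]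
    exact RingHom.flat_algebraMap_iff.2 inferInstance
  haveI : IsIntegralHom (Curv2.bcFst k X K) := by
    refine MorphismProperty.pullback_fst _ _ ?_
    rw [IsIntegralHom.SpecMap_iff]
    exact Algebra.IsIntegral.isIntegral
  have hdim := H29Node.isClosed_of_pure_one (k := k) hequi
  have sq := IsPullback.of_hasPullback f (Spec.map (CommRingCat.ofHom (algebraMap k K)))
  constructor
  · intro x
    obtain ⟨c, hc, hcc⟩ := nonempty_inter_closedPoints (Z := closure ({x} : Set X))
      ⟨x, subset_closure rfl⟩ isClosed_closure.isLocallyClosed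
    haveI hA : LocCoh.IsGorensteinLocalRing (X.presheaf.stalk c) := by
      rcases hX c hcc with ⟨U, hcU, hU⟩ | hn
      · haveI := H19Grp.isRegularLocalRing_stalk_of_smooth (U.ι ≫ f) ⟨c, hcU⟩
        exact H02CA.GorFlat.gor_of_ringEquiv (U.stalkIso ⟨c, hcU⟩).commRingCatIsoToRingEquiv
          (H4Goren.isGorensteinLocalRing_of_isRegularLocalRing _)
      · obtain ⟨w, rfl, ⟨e⟩⟩ := H11Node.exists_completion_iso hn
        let B := Z.presheaf.stalk w
        haveI : IsNoetherianRing (AdicCompletion (IsLocalRing.maximalIdeal B) B) := isNoetherianRing_of_ringEquiv _ e.symm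
        haveI : Module.Flat B (AdicCompletion (IsLocalRing.maximalIdeal B) B) := AdicCompletion.flat_of_isNoetherian _
        have hB : LocCoh.IsGorensteinLocalRing B :=
          ((H02CA.GorFlat.gor_iff_of_flat_local B (AdicCompletion (IsLocalRing.maximalIdeal B) B)).1
            (H02CA.GorFlat.gor_of_ringEquiv e.symm (gor_nodeRing K))).1
        letI : Algebra (X.presheaf.stalk (Curv2.bcFst k X K w)) B := ((Curv2.bcFst k X K).stalkMap w).hom.toAlgebra
        haveI : IsLocalHom (algebraMap (X.presheaf.stalk (Curv2.bcFst k X K w)) B) :=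
          inferInstanceAs (IsLocalHom ((Curv2.bcFst k X K).stalkMap w).hom)
        haveI : Module.Flat (X.presheaf.stalk (Curv2.bcFst k X K w)) B :=
          RingHom.flat_algebraMap_iff.1 (Flat.stalkMap (Curv2.bcFst k X K) w)
        exact ((H02CA.GorFlat.gor_iff_of_flat_local (X.presheaf.stalk (Curv2.bcFst k X K w)) B).1 hB).1
    obtain ⟨p, rfl⟩ : x ∈ Set.range (X.fromSpecStalk c) := by
      rw [Scheme.range_fromSpecStalk]; exact specializes_iff_mem_closure.2 hc
    haveI := H22Alg.flat_fromSpecStalk X c
    have hb := H8Props.bijective_stalkMap_of_flat (X.fromSpecStalk c) p (Flat.stalkMap _ _)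
    haveI : IsIso ((X.fromSpecStalk c).stalkMap p) := (ConcreteCategory.isIso_iff_bijective _).2 hb
    refine H02CA.GorFlat.gor_of_ringEquiv (asIso ((X.fromSpecStalk c).stalkMap p)).commRingCatIsoToRingEquiv.symm ?_
    let A := X.presheaf.stalk c
    let S := (Spec.structureSheaf A).presheaf.stalk p
    haveI : IsLocalization.AtPrime S p.asIdeal := StructureSheaf.IsLocalization.to_stalk A p
    exact H02CA.GorFlat.gor_of_ringEquiv
      (IsLocalization.algEquiv p.asIdeal.primeCompl (Localization.AtPrime p.asIdeal) S).toRingEquiv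
      (H4LC.isGorensteinLocalRing_localization A p.asIdeal)
  · haveI : AlgebraicGeometry.IsReduced Z := by
      refine H11Node.isReduced_of_atWorstNodal (k := K) (fun y hy => ?_)
      have hx : IsClosed ({Curv2.bcFst k X K y} : Set X) := by
        rw [← Set.image_singleton]
        exact (Curv2.bcFst k X K).isClosedMap _ hy
      rcases hX _ hx with ⟨U, hyU, hU⟩ | hn
      · exact Or.inl ⟨Curv2.bcFst k X K ⁻¹ᵁ U, hyU,
          MorphismProperty.of_isPullback (P := @Smooth)
            ((isPullback_morphismRestrict (Curv2.bcFst k X K) U).paste_vert sq) hU⟩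
      · exact Or.inr ((H29Node.isNode_iff_bc hdim K y).1 hn)
    haveI : GeometricallyReduced (Curv2.bcSnd k X K) := H06Red.geometricallyReduced_of_perfectField _
    exact ⟨H8Props.GeometricDescent.geometrically_of_isPullback H8Props.GeometricDescent.descends_isReduced sq
      (GeometricallyReduced.geometrically_isReduced (f := Curv2.bcSnd k X K))⟩

end Groth.Agent.S1589
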