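import Groth.Statements.S18197
import Groth.Agent.H17.LocIm
import Mathlib.AlgebraicGeometry.Morphisms.Proper
import Mathlib.AlgebraicGeometry.Morphisms.UniversallyInjective
import Mathlib.AlgebraicGeometry.Morphisms.Flat
import Mathlib.AlgebraicGeometry.Morphisms.UniversallyOpen
import Mathlib.AlgebraicGeometry.Morphisms.FinitePresentation
import Mathlib.AlgebraicGeometry.Morphisms.ClosedImmersion

set_option autoImplicit false
universe u
open LocImm

namespace Groth.Agent.S18197

open CategoryTheory Limits AlgebraicGeometry TopologicalSpace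
open Groth.Agent.H17

open CategoryTheory AlgebraicGeometry in
/-- Let `f : X ⟶ Y` be a localizing morphism of Noetherian schemes. Then `f` is injective on points if
and only if `f` is separated and injective on the set of maximal points of `X` (the generic points
of its irreducible components, i.e. the points with no proper generization). -/
theorem result {X Y : Scheme.{u}} [IsNoetherian X] [IsNoetherian Y] (f : X ⟶ Y) (hf : LocImm.IsLocalizing f) :
    Function.Injective f.base ↔ (IsSeparated f ∧ Set.InjOn (fun x => f x) {x : X | ∀ x' : X, x' ⤳ x → x' = x}) := by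
  constructor
  · intro h
    have := LocIm.mono (f := f) ⟨hf, h⟩
    exact ⟨inferInstance, h.injOn⟩
  rintro ⟨hsep, hinj⟩ x x' hxx
  have hsurj := LocIm.surjectiveOnStalks hf
  have hsec : ∀ (y : Y) (a : X), f a = y → ∃ σ : Spec (Y.presheaf.stalk y) ⟶ X,
      σ ≫ f = Y.fromSpecStalk y ∧ σ (IsLocalRing.closedPoint (Y.presheaf.stalk y)) = a ∧
      ∀ b, b ⤳ a → ∃ t, σ t = b := by
    rintro _ a rfl
    have := LocIm.isIso_stalkMap hf a
    refine ⟨Spec.map (inv (f.stalkMap a)) ≫ X.fromSpecStalk a, ?_, ?_, fun b hb => ?_⟩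
    · rw [Category.assoc, ← Scheme.SpecMap_stalkMap_fromSpecStalk, ← Spec.map_comp_assoc, IsIso.hom_inv_id,
        Spec.map_id, Category.id_comp]
    · rw [Scheme.Hom.comp_apply]
      have : Spec.map (inv (f.stalkMap a)) (IsLocalRing.closedPoint _) = IsLocalRing.closedPoint _ :=
        IsLocalRing.comap_closedPoint (inv (f.stalkMap a)).hom
      rw [this, Scheme.fromSpecStalk_closedPoint]
    · obtain ⟨t, ht⟩ : b ∈ Set.range (X.fromSpecStalk a) := by rw [X.range_fromSpecStalk]; exact hb
      obtain ⟨t', rfl⟩ := (Spec.map (inv (f.stalkMap a))).surjective t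
      exact ⟨t', ht⟩
  obtain ⟨σ, hσ, hσx, hσg⟩ := hsec (f x) x rfl
  obtain ⟨τ, hτ, hτx, hτg⟩ := hsec (f x) x' hxx.symm
  have hirr : IsIrreducible (irreducibleComponent (f x)) := isIrreducible_irreducibleComponent
  obtain ⟨η, hη⟩ : ∃ η, IsGenericPoint η (irreducibleComponent (f x)) := ⟨_, by
    have := hirr.isGenericPoint_genericPoint_closure
    rwa [closure_eq_iff_isClosed.mpr isClosed_irreducibleComponent] at this⟩
  have hηx : η ⤳ f x := hη.specializes mem_irreducibleComponent
  have hmax : ∀ y : Y, y ⤳ η → y = η := fun y hy => by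
    refine (hy.antisymm (hη.specializes ?_)).eq
    have hle : irreducibleComponent (f x) ⊆ closure {y} := by
      intro q hq
      exact (hy.trans (hη.specializes hq)).mem_closure
    have := (irreducibleComponent_mem_irreducibleComponents (f x)).2 (isIrreducible_singleton.closure) hle
    exact this (subset_closure rfl)
  obtain ⟨w, hw⟩ : η ∈ Set.range (Y.fromSpecStalk (f x)) := by rw [Y.range_fromSpecStalk]; exact hηx
  have hgen : ∀ (s : Spec (Y.presheaf.stalk (f x)) ⟶ X), s ≫ f = Y.fromSpecStalk (f x) →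
      (∀ b, b ⤳ s (IsLocalRing.closedPoint _) → ∃ t, s t = b) → ∀ b, b ⤳ s w → b = s w := by
    intro s hs hsg b hb
    obtain ⟨t, rfl⟩ := hsg b (hb.trans ((IsLocalRing.specializes_closedPoint w).map s.continuous))
    have h2 : f (s t) = η := hmax _ (by
      have := hb.map f.continuous
      rwa [← Scheme.Hom.comp_apply s, ← Scheme.Hom.comp_apply s, hs, hw, ← hs, Scheme.Hom.comp_apply] at this)
    rw [← Scheme.Hom.comp_apply, hs, ← hw] at h2
    rw [(Y.fromSpecStalk (f x)).isEmbedding.injective h2]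
  have hz : σ w = τ w := hinj (hgen σ hσ (fun b hb => hσg b (hb.trans (specializes_of_eq hσx)))) (hgen τ hτ (fun b hb => hτg b (hb.trans (specializes_of_eq hτx)))) (by
    show f (σ w) = f (τ w)
    rw [← Scheme.Hom.comp_apply, ← Scheme.Hom.comp_apply, hσ, hτ])
  obtain ⟨⟨U, hU⟩, ⟨W, hW⟩, hzW, e, hloc⟩ := hf (σ w)
  have hinjW : Function.Injective (W.ι ≫ f) := by
    let := (f.appLE U W e).hom.toAlgebra
    obtain ⟨S, hS⟩ := hloc
    intro a b hab
    obtain ⟨q, hq⟩ : a.1 ∈ Set.range hW.fromSpec := by rw [hW.range_fromSpec]; exact a.2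
    obtain ⟨q', hq'⟩ : b.1 ∈ Set.range hW.fromSpec := by rw [hW.range_fromSpec]; exact b.2
    have hsq := IsAffineOpen.SpecMap_appLE_fromSpec f hU hW e
    have : PrimeSpectrum.comap (f.appLE U W e).hom q = PrimeSpectrum.comap (f.appLE U W e).hom q' := by
      apply hU.fromSpec.isOpenEmbedding.injective
      have h1 := congr($hsq q); have h2 := congr($hsq q')
      simp only [Scheme.Hom.comp_apply] at h1 h2
      exact h1.trans ((by rw [hq, hq']; exact hab : f (hW.fromSpec q) = f (hW.fromSpec q')).trans h2.symm)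
    refine Subtype.ext ?_
    rw [← hq, ← hq', (PrimeSpectrum.localization_comap_isEmbedding Γ(X, W) S).injective this]
  have : Mono (W.ι ≫ f) := SurjectiveOnStalks.mono_of_injective hinjW
  let E : (Spec (Y.presheaf.stalk (f x))).Opens := σ ⁻¹ᵁ W ⊓ τ ⁻¹ᵁ W
  have hwE : w ∈ E := ⟨hzW, show τ w ∈ W from hz ▸ hzW⟩
  let σ' := σ.resLE W E inf_le_left
  let τ' := τ.resLE W E inf_le_right
  have heq : E.ι ≫ σ = E.ι ≫ τ := by
    rw [← σ.resLE_comp_ι (inf_le_left : E ≤ _), ← τ.resLE_comp_ι (inf_le_right : E ≤ _)]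
    congr 1
    rw [← cancel_mono (W.ι ≫ f), Scheme.Hom.resLE_comp_ι_assoc, Scheme.Hom.resLE_comp_ι_assoc, hσ, hτ]
  let m : Spec (Y.presheaf.stalk (f x)) ⟶ pullback f f := pullback.lift σ τ (hσ.trans hτ.symm)
  have hm : E.ι ≫ m = (E.ι ≫ σ) ≫ pullback.diagonal f := by
    apply pullback.hom_ext
    · rw [Category.assoc, pullback.lift_fst, Category.assoc, pullback.diagonal_fst, Category.comp_id]
    · rw [Category.assoc, pullback.lift_snd, Category.assoc, pullback.diagonal_snd, Category.comp_id, heq]
  have hcl : m (IsLocalRing.closedPoint _) ∈ Set.range (pullback.diagonal f) := by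
    refine ((pullback.diagonal f).isClosedEmbedding.isClosed_range.preimage m.continuous).stableUnderSpecialization
      (IsLocalRing.specializes_closedPoint w) ?_
    exact ⟨(E.ι ≫ σ) ⟨w, hwE⟩, (congr($hm ⟨w, hwE⟩)).symm⟩
  obtain ⟨c, hc⟩ := hcl
  have h1 : pullback.fst f f (m (IsLocalRing.closedPoint _)) = x := by
    rw [← Scheme.Hom.comp_apply, pullback.lift_fst, hσx]
  have h2 : pullback.snd f f (m (IsLocalRing.closedPoint _)) = x' := by
    rw [← Scheme.Hom.comp_apply, pullback.lift_snd, hτx]
  rw [← hc, ← Scheme.Hom.comp_apply, pullback.diagonal_fst] at h1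
  rw [← hc, ← Scheme.Hom.comp_apply, pullback.diagonal_snd] at h2
  exact h1.symm.trans h2

end Groth.Agent.S18197
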