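import Groth.Statements.S18204
import Groth.Agent.H17.LocIm
import Mathlib.AlgebraicGeometry.Morphisms.Proper
import Mathlib.AlgebraicGeometry.Morphisms.UniversallyInjective
import Mathlib.AlgebraicGeometry.Morphisms.Flat
import Mathlib.AlgebraicGeometry.Morphisms.UniversallyOpen
import Mathlib.AlgebraicGeometry.Morphisms.FinitePresentation
import Mathlib.AlgebraicGeometry.Morphisms.ClosedImmersion

set_option autoImplicit false
universe u
open LocImm

namespace Groth.Agent.S18204

open CategoryTheory Limits AlgebraicGeometry TopologicalSpace
open Groth.Agent.H17

open CategoryTheory AlgebraicGeometry in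
/-- A localizing immersion (localizing and injective on points) of Noetherian schemes which is locally
of finite type is an open immersion. -/
theorem result {X Y : Scheme.{u}} [IsNoetherian X] [IsNoetherian Y]
    (f : X ⟶ Y) (hf : LocImm.IsLocImmersion f) [LocallyOfFiniteType f] : IsOpenImmersion f := by
  have : LocallyOfFinitePresentation f := inferInstance
  have : Flat f := by
    rw [Flat.iff_flat_stalkMap]
    intro x
    have := LocIm.isIso_stalkMap hf.1 x
    exact RingHom.Flat.of_bijective (ConcreteCategory.bijective_of_isIso (f.stalkMap x))
  exact LocIm.isOpenImmersion_of_isOpen_range hf f.isOpenMap.isOpen_range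

end Groth.Agent.S18204
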