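import Groth.Statements.S17381
import Groth.Agent.H7Flat.Flatten.NagataB
-- import your own Groth.Agent.* helpers here

set_option autoImplicit false
set_option linter.style.haveILetI false
universe u
open FlatMor

namespace Groth.Agent.S17381

open AlgebraicGeometry CategoryTheory Limits in
/-- Let f : X' → X be a proper morphism with X quasi-compact and quasi-separated (so X' is too), and let
U ⊆ X be a quasi-compact dense open subscheme such that f restricts to an isomorphism over U and the
preimage of U is dense in X'. Then X' and X admit a common blow-up over f: there are a scheme X̃, a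
morphism c' : X̃ → X' which is a blowing up of X' in a quasi-coherent ideal of finite type with
support disjoint from the preimage of U, and a quasi-coherent ideal of finite type on X with support
disjoint from U in which the composite c' ≫ f is a blowing up of X. (A proper morphism is birational
in this sense exactly when source and target have a common admissible blow-up.) -/
theorem result
    {X X' : Scheme.{u}} [CompactSpace X] [QuasiSeparatedSpace X]
    (f : X' ⟶ X) [IsProper f] (U : X.Opens) (hU : IsCompact (U : Set X)) (hUd : Dense (U : Set X))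
    [IsIso (f ∣_ U)] (hU' : Dense ((f ⁻¹ᵁ U : X'.Opens) : Set X')) :
    ∃ (𝓘' : X'.IdealSheafData) (𝓘 : X.IdealSheafData) (Y : Scheme.{u}) (c' : Y ⟶ X'),
      BlowUp.IsBlowUp c' 𝓘' ∧ BlowUp.IsAdmissibleFor (f ⁻¹ᵁ U) 𝓘' ∧
      BlowUp.IsBlowUp (c' ≫ f) 𝓘 ∧ BlowUp.IsAdmissibleFor U 𝓘 := by
  obtain ⟨𝓘, Y, b, hb, hadm, haway, h, hh⟩ := Groth.Agent.H7Flat.Flatten.exists_iso_blowup f U hU
  haveI : IsIso (f ∣_ HTop.awayFrom 𝓘) := by rw [haway]; infer_instance
  refine ⟨𝓘.comap f, 𝓘, Y, h, Groth.Agent.H7Flat.Flatten.isBlowUp_dominating f hb h hh,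
    ⟨Groth.Agent.H11Strict.isFiniteTypeIdeal_comap _ hadm.1, ?_⟩, by rw [hh]; exact hb, hadm⟩
  rw [Scheme.IdealSheafData.support_comap]
  exact Set.disjoint_left.mpr fun x hx hxU => Set.disjoint_left.mp hadm.2 hx hxU

end Groth.Agent.S17381
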