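import Groth.Statements.S18195
import Groth.Agent.H17.LocIm
import Mathlib.AlgebraicGeometry.Morphisms.Proper
import Mathlib.AlgebraicGeometry.Morphisms.UniversallyInjective
import Mathlib.AlgebraicGeometry.Morphisms.Flat
import Mathlib.AlgebraicGeometry.Morphisms.UniversallyOpen
import Mathlib.AlgebraicGeometry.Morphisms.FinitePresentation
import Mathlib.AlgebraicGeometry.Morphisms.ClosedImmersion

set_option autoImplicit false
universe u
open LocImm

namespace Groth.Agent.S18195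

open CategoryTheory Limits AlgebraicGeometry TopologicalSpace
open Groth.Agent.H17

open CategoryTheory AlgebraicGeometry in
/-- Let `f : X ⟶ Y` and `g : Y ⟶ Z` be morphisms of Noetherian schemes with `g` separated and `f ≫ g` a
localizing immersion (localizing and injective on points). If `f` has schematically dense image,
i.e. each ring map `Γ(Y, U) → Γ(X, f⁻¹U)` is injective, then `f` is a localizing immersion. -/
theorem result {X Y Z : Scheme.{u}} [IsNoetherian X] [IsNoetherian Y] [IsNoetherian Z]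
    (f : X ⟶ Y) (g : Y ⟶ Z) (hfg : LocImm.IsLocImmersion (f ≫ g)) [IsSeparated g]
    (hd : ∀ U : Y.Opens, Function.Injective (f.app U).hom) : LocImm.IsLocImmersion f := by
  refine ⟨fun x => ?_, fun a b h => hfg.2 (congrArg g.base h)⟩
  obtain ⟨O, -, hxO, hO, hO', hloc⟩ := LocIm.exists_affine_preimage hfg x (O := ⊤) trivial
  obtain ⟨_, ⟨U, hU, rfl⟩, hxU, hUO⟩ := Y.isBasis_affineOpens.exists_subset_of_mem_open
    (show f x ∈ (g ⁻¹ᵁ O : Set Y) from hxO) (g ⁻¹ᵁ O).2
  have hle : f ⁻¹ᵁ U ≤ (f ≫ g) ⁻¹ᵁ O := fun z hz => hUO hz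
  let W := (f ≫ g) ⁻¹ᵁ O
  let φ := (f ≫ g).app O
  obtain ⟨b, hbU, hxb⟩ := hO'.exists_basicOpen_le (V := f ⁻¹ᵁ U) ⟨x, hxU⟩ hxO
  obtain ⟨hs, -⟩ := (LocIm.isLocHom_iff φ.hom).mp hloc
  obtain ⟨c, s, hsu, hbc⟩ := hs b
  have hbasic : X.basicOpen (φ c) = X.basicOpen b := by
    rw [show φ c = b * φ s from hbc.symm, Scheme.basicOpen_mul, Scheme.basicOpen_of_isUnit _ hsu]
    exact inf_eq_left.mpr (X.basicOpen_le b)
  let g₀ := g.appLE O U hUO c
  let U' := Y.basicOpen g₀
  have hU' : IsAffineOpen U' := hU.basicOpen g₀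
  have hpre : f ⁻¹ᵁ U' = X.basicOpen (φ c) := by
    show f ⁻¹ᵁ Y.basicOpen (g.appLE O U hUO c) = _
    rw [Scheme.basicOpen_appLE, Scheme.Hom.preimage_inf, ← Scheme.Hom.comp_preimage,
      Scheme.preimage_basicOpen]
    refine inf_eq_right.mpr ?_
    exact hbasic.le.trans hbU
  have hV : IsAffineOpen (X.basicOpen (φ c)) := hO'.basicOpen _
  refine ⟨⟨U', hU'⟩, ⟨_, hV⟩, (show x ∈ X.basicOpen (φ c) from hbasic.ge hxb), hpre.ge, ?_⟩
  have hU'O : U' ≤ g ⁻¹ᵁ O := (Y.basicOpen_le g₀).trans hUO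
  have hcomp : LocImm.IsLocHom ((X.presheaf.map (homOfLE (X.basicOpen_le (φ c))).op).hom.comp φ.hom) :=
    LocIm.isLocHom_comp hloc ⟨Submonoid.powers (φ c), by convert hO'.isLocalization_basicOpen (φ c)⟩
  refine LocIm.isLocHom_of_comp_injective (φ := (g.appLE O U' hU'O).hom) ?_ ?_
  · intro a a' h
    apply hd U'
    have key : ∀ (D : X.Opens) (e : D ≤ f ⁻¹ᵁ U'), D = f ⁻¹ᵁ U' →
        f.appLE U' D e a = f.appLE U' D e a' → f.app U' a = f.app U' a' := by
      rintro D e rfl h; rwa [Scheme.Hom.app_eq_appLE]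
    exact key _ _ hpre.symm h
  · convert hcomp using 1
    show (g.appLE O U' hU'O ≫ f.appLE U' _ hpre.ge).hom = ((f ≫ g).app O ≫ X.presheaf.map _).hom
    rw [Scheme.Hom.appLE_comp_appLE, Scheme.Hom.app_eq_appLE, Scheme.Hom.appLE_map]

end Groth.Agent.S18195
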