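import Groth.Statements.S18198
import Groth.Agent.H17.LocImmLocus
import Groth.Agent.S0384

set_option autoImplicit false
universe u
open LocImm

namespace Groth.Agent.S18198

open CategoryTheory AlgebraicGeometry in
/-- Let `f : X ⟶ S` be a separated morphism of Noetherian schemes that is essentially of finite type.
Then `f` factors as a localizing immersion `k : X ⟶ Y` (localizing and injective on points) into a
Noetherian scheme followed by a proper morphism `p : Y ⟶ S`. -/
theorem result {X S : Scheme.{u}} [IsNoetherian X] [IsNoetherian S] (f : X ⟶ S) [IsSeparated f] [EssFT.EssFiniteType f] :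
    ∃ (Y : Scheme.{u}) (k : X ⟶ Y) (p : Y ⟶ S), IsNoetherian Y ∧ LocImm.IsLocImmersion k ∧ IsProper p ∧ k ≫ p = f := by
  obtain ⟨Z, i, h, hZ, hi, hsep, hlft, hqc, -, rfl⟩ :=
    (Groth.Agent.H17.LocImmLocus.main (P := ⊤) (fun _ _ => by simp) (fun _ => by simp)
      (fun _ => by simp) f).2.2 (by trivial)
  obtain ⟨Zc, j, g, hj, hjqc, hg, rfl⟩ := Groth.Agent.S0384.result h
  have : IsNoetherian Zc := Groth.Agent.H17.LocImmCommon.isNoetherian_of_locallyOfFiniteType g
  exact ⟨Zc, i ≫ j, g, this, Groth.Agent.H17.LocImB.isLocImmersion_comp hi (Groth.Agent.H17.LocImB.isLocImmersion_of_isOpenImmersion j), hg,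
    by rw [Category.assoc]⟩

end Groth.Agent.S18198
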