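import Groth.Statements.S1617
import Mathlib
import Groth.Agent.H22Alg.VarDim

set_option autoImplicit false
universe u
open CategoryTheory CategoryTheory.Limits AlgebraicGeometry
open Variety

namespace Groth.Agent.S1617

/-- Let X be locally of finite type over a field k and x a closed point. Then the local dimension of X
at x (infimum of the dimensions of open neighbourhoods) equals the Krull dimension of the local ring
at x. -/
theorem result (k : Type u) [Field k] (X : Scheme.{u}) [X.Over (Spec (CommRingCat.of k))] [LocallyOfFiniteType (X ↘ (Spec (CommRingCat.of k)))] (x : X) (hx : IsClosed ({x} : Set X)) :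
    FlatMor.localDim X x = ringKrullDim (X.presheaf.stalk x) := by
  rw [Groth.Agent.H8Props.FieldDim.localDim_eq_stalk_add_cdim (X ↘ Spec (CommRingCat.of k)) x]
  have h0 : Groth.Agent.H8Props.FieldDim.cdim x = 0 := by
    obtain ⟨s, hs⟩ := Groth.Agent.H8Props.FieldDim.exists_nat_cdim (X ↘ Spec (CommRingCat.of k)) x
    have h : topologicalKrullDim (closure ({x} : Set X)) ≤ 0 := by
      rw [hx.closure_eq]
      exact Order.krullDim_nonpos_iff_forall_isMax.mpr fun Z W _ => by
        intro z hz
        obtain ⟨w, hw⟩ := Z.2.nonempty
        rwa [Subsingleton.elim z w]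
    refine le_antisymm h ?_
    rw [hs]
    exact_mod_cast Nat.zero_le s
  rw [h0, add_zero]

end Groth.Agent.S1617
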