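import Groth.Statements.S9250
import Groth.Agent.H02CA.FlatRegular
import Mathlib.RingTheory.LocalRing.ResidueField.Fiber
import Mathlib.RingTheory.RegularLocalRing.Defs
import Mathlib.RingTheory.TensorProduct.Maps

set_option autoImplicit false
universe u
open CAlg

namespace Groth.Agent.S9250

theorem key {R S : Type u} [CommRing R] [CommRing S] [Algebra R S]
    [IsRegularRing R] [IsNoetherianRing S] (h : CAlg.IsRegularHom R S) (p : Ideal R) [p.IsPrime]
    (Q : Ideal (p.Fiber S)) [Q.IsPrime] :
    IsRegularLocalRing (Localization.AtPrime (Q.comap Algebra.TensorProduct.includeRight)) := by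
  set r := Q.comap Algebra.TensorProduct.includeRight with hr
  haveI : r.LiesOver p := ⟨congr($(((PrimeSpectrum.preimageEquivFiber R S ⟨p, inferInstance⟩).symm ⟨Q, inferInstance⟩).2.symm).asIdeal)⟩
  haveI : IsRegularLocalRing (Localization.AtPrime p)  := isRegularRing_iff.mp inferInstance p
  letI := Localization.AtPrime.algebraOfLiesOver p r
  haveI : Module.Flat R S := h.1
  haveI : IsRegularRing (p.Fiber S) := by
    haveI := (h.2 p).1
    haveI := (h.2 p).2 p.ResidueField inferInstance
    exact IsRegularRing.of_ringEquiv (R := TensorProduct p.ResidueField p.ResidueField (p.Fiber S)) (Algebra.TensorProduct.lid p.ResidueField (p.Fiber S)).toRingEquiv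
  haveI := (h.2 p).1
  apply Groth.Agent.H02CA.isRegularLocalRing_of_flat_of_fibre (Localization.AtPrime p)
  have e := Ideal.Fiber.localizationAlgEquivQuotient p Q
  haveI : IsRegularLocalRing (Localization.AtPrime Q) := isRegularRing_iff.mp inferInstance Q
  have := IsRegularLocalRing.of_ringEquiv (R := Localization.AtPrime Q) (R' := Localization.AtPrime (Q.comap Algebra.TensorProduct.includeRight) ⧸ p.map (algebraMap R (Localization.AtPrime (Q.comap Algebra.TensorProduct.includeRight)))) e.toRingEquiv
  convert this using 3
  all_goals rw [← Localization.AtPrime.map_eq_maximalIdeal, Ideal.map_map, ← IsScalarTower.algebraMap_eq]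

/-- Let R → S be a regular ring map with S Noetherian and R regular. Then S is regular. -/
theorem result (R S : Type u) [CommRing R] [CommRing S] [Algebra R S]
    [IsRegularRing R] [IsNoetherianRing S] (h : CAlg.IsRegularHom R S) : IsRegularRing S := by
  rw [isRegularRing_iff]
  intro q _
  let Q := PrimeSpectrum.preimageEquivFiber R S ⟨q.comap (algebraMap R S), inferInstance⟩
    ⟨⟨q, inferInstance⟩, rfl⟩
  have hQ : Q.asIdeal.comap Algebra.TensorProduct.includeRight = q :=
    congr($((PrimeSpectrum.preimageEquivFiber R S ⟨q.comap (algebraMap R S), inferInstance⟩).left_inv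
      ⟨⟨q, inferInstance⟩, rfl⟩).1.asIdeal)
  have aux : ∀ (r : Ideal S) [r.IsPrime], r = q → IsRegularLocalRing (Localization.AtPrime r) →
      IsRegularLocalRing (Localization.AtPrime q) := by
    intro r _ hr H
    subst hr
    exact H
  exact aux _ hQ (key h (q.comap (algebraMap R S)) Q.asIdeal)

end Groth.Agent.S9250
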