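import Groth.Statements.S17082
import Groth.Agent.H17.HilbBC.Open
-- import your own Groth.Agent.* helpers here

set_option autoImplicit false
universe u
open CategoryTheory CategoryTheory.Limits AlgebraicGeometry
open MorSch

namespace Groth.Agent.S17082

/-- Let f : X → S be a separated morphism, j : U → X an open immersion, and (H, Z) a pair representing
the Hilbert functor of X over S on locally Noetherian S-schemes (H locally Noetherian over S; Z ⊆ X
×_S H closed, proper and flat over H; every closed subscheme of X ×_S T proper and flat over a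
locally Noetherian S-scheme T is the pullback of Z along a unique S-morphism T → H). Then there are
an open subset H₀ of H and a closed subscheme Z₀ ⊆ U ×_S H₀, proper and flat over H₀, such that Z₀
is the pullback of Z along the morphism U ×_S H₀ → X ×_S H induced by j and the inclusion of H₀, and
(H₀, Z₀) represents the Hilbert functor of U over S. So the Hilbert scheme of U over S exists and is
an open subscheme of that of X. (Published for X projective and flat over a Noetherian S in the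
representable case; this row assumes only X separated over S and takes the Hilbert scheme of X as
given.) -/
theorem result
    {X U S : Scheme.{u}} (f : X ⟶ S) [IsSeparated f] (j : U ⟶ X) [IsOpenImmersion j]
    (H : Over S) (Z : FGA.HilbSet f H) (hH : FGA.HilbRepresentedBy f H Z) :
    ∃ (H₀ : H.left.Opens) (Z₀ : FGA.HilbSet (j ≫ f) (Over.mk (H₀.ι ≫ H.hom))),
      Z₀.1 = Z.1.comap (pullback.map (j ≫ f) (H₀.ι ≫ H.hom) f H.hom j H₀.ι (𝟙 S)
        (Category.comp_id _) (Category.comp_id _)) ∧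
      FGA.HilbRepresentedBy (j ≫ f) (Over.mk (H₀.ι ≫ H.hom)) Z₀ := by
  obtain ⟨hLN, hrep⟩ := hH
  haveI := hLN
  haveI := Z.2.1
  haveI := Z.2.2
  let p : Z.1.subscheme ⟶ H.left := Z.1.subschemeι ≫ PicF.XTproj f H
  let q : Z.1.subscheme ⟶ X := Z.1.subschemeι ≫ pullback.fst f H.hom
  have hC : IsClosed (p '' (q ⁻¹' Set.range j)ᶜ) :=
    p.isClosedMap _ (j.isOpenEmbedding.isOpen_range.preimage q.continuous).isClosed_compl
  let H₀ : H.left.Opens := ⟨(p '' (q ⁻¹' Set.range j)ᶜ)ᶜ, hC.isOpen_compl⟩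
  let T₀ : Over S := Over.mk (H₀.ι ≫ H.hom)
  let ιH : T₀ ⟶ H := Over.homMk H₀.ι rfl
  let m := pullback.map (j ≫ f) (H₀.ι ≫ H.hom) f H.hom j H₀.ι (𝟙 S)
    (Category.comp_id _) (Category.comp_id _)
  have hzq : ∀ z, p z ∈ H₀ → q z ∈ Set.range j := fun z hz => by
    by_contra hq
    exact hz ⟨z, hq, rfl⟩
  have hm : m = Groth.Agent.H17.HilbBC.incl f j T₀ ≫ PicF.XTmap f ιH := by
    apply pullback.hom_ext
    · rw [Category.assoc, Groth.Agent.H17.HilbBC.XTmap_fst, Groth.Agent.H17.HilbBC.incl_fst]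
      exact pullback.lift_fst _ _ _
    · rw [Category.assoc]
      refine Eq.trans ?_ (congrArg (Groth.Agent.H17.HilbBC.incl f j T₀ ≫ ·)
        (Groth.Agent.H17.HilbBC.XTmap_snd f ιH)).symm
      refine Eq.trans ?_ (Category.assoc _ _ _)
      rw [Groth.Agent.H17.HilbBC.incl_snd]
      exact pullback.lift_snd _ _ _
  let I₀ := Z.1.comap m
  let a : pullback m Z.1.subschemeι ⟶ (H₀ : Scheme.{u}) :=
    pullback.fst m Z.1.subschemeι ≫ PicF.XTproj (j ≫ f) T₀
  have hp : IsPullback a (pullback.snd m Z.1.subschemeι) H₀.ι p := by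
    refine IsOpenImmersion.isPullback _ _ _ _ ?_ ?_
    · show pullback.snd m Z.1.subschemeι ≫ Z.1.subschemeι ≫ PicF.XTproj f H =
        (pullback.fst m Z.1.subschemeι ≫ PicF.XTproj (j ≫ f) T₀) ≫ H₀.ι
      refine (pullback.condition_assoc _).symm.trans (Eq.trans ?_ (Category.assoc _ _ _).symm)
      exact congrArg (pullback.fst m Z.1.subschemeι ≫ ·) (pullback.lift_snd _ _ _)
    · rw [Scheme.Opens.opensRange_ι]
      apply TopologicalSpace.Opens.ext
      show p ⁻¹' (H₀ : Set H.left) = Set.range (pullback.snd m Z.1.subschemeι)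
      rw [Scheme.Pullback.range_snd, Scheme.Pullback.range_map, Scheme.Opens.range_ι]
      refine Set.ext fun z => ⟨fun hz => ?_, fun hz => hz.2⟩
      exact ⟨hzq z hz, hz⟩
  have hI : IsProper (I₀.subschemeι ≫ PicF.XTproj (j ≫ f) T₀) ∧
      Flat (I₀.subschemeι ≫ PicF.XTproj (j ≫ f) T₀) := by
    have e : I₀.subschemeι ≫ PicF.XTproj (j ≫ f) T₀ = (Z.1.comapIso m).hom ≫ a := by
      rw [← Scheme.IdealSheafData.comapIso_hom_fst, Category.assoc]
    haveI : IsProper a := MorphismProperty.of_isPullback (P := @IsProper) hp.flip Z.2.1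
    haveI : Flat a := MorphismProperty.of_isPullback (P := @Flat) hp.flip Z.2.2
    rw [e]
    exact ⟨inferInstance, inferInstance⟩
  refine ⟨H₀, ⟨I₀, hI⟩, rfl,
    (inferInstance : IsLocallyNoetherian (H₀ : Scheme.{u})), fun T _ Y => ?_⟩
  obtain ⟨Y', hY', hY'c, hY's⟩ := Groth.Agent.H17.HilbBC.exists_push f j T Y
  obtain ⟨g, hg, huniq⟩ := hrep T Y'
  let n := Groth.Agent.H17.HilbBC.incl f j T
  have key : ∀ g' : T ⟶ T₀, FGA.hilbPull (j ≫ f) g' I₀ =
      (FGA.hilbPull f (g' ≫ ιH) Z.1).comap n := fun g' => by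
    rw [Groth.Agent.H17.HilbBC.hilbPull_eq_comap, Groth.Agent.H17.HilbBC.hilbPull_eq_comap,
      ← Scheme.IdealSheafData.comap_comp, ← Scheme.IdealSheafData.comap_comp]
    congr 1
    apply pullback.hom_ext
    · rw [Category.assoc, Category.assoc, Groth.Agent.H17.HilbBC.XTmap_fst,
        Groth.Agent.H17.HilbBC.incl_fst]
      refine (congrArg (PicF.XTmap (j ≫ f) g' ≫ ·) (pullback.lift_fst _ _ _)).trans ?_
      refine ((Category.assoc _ _ _).symm.trans ?_)
      exact congrArg (· ≫ j) (Groth.Agent.H17.HilbBC.XTmap_fst (j ≫ f) g')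
    · rw [Category.assoc, Category.assoc]
      refine (congrArg (PicF.XTmap (j ≫ f) g' ≫ ·) (pullback.lift_snd _ _ _)).trans ?_
      refine Eq.trans ((Category.assoc _ _ _).symm.trans
        ((congrArg (· ≫ H₀.ι) (Groth.Agent.H17.HilbBC.XTmap_snd (j ≫ f) g')).trans
          (Category.assoc _ _ _))) ?_
      refine Eq.trans ?_ (congrArg (n ≫ ·) (Groth.Agent.H17.HilbBC.XTmap_snd f (g' ≫ ιH))).symm
      refine Eq.trans ?_ (Category.assoc _ _ _)
      rw [Groth.Agent.H17.HilbBC.incl_snd]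
      rfl
  have hrange : Set.range g.left ⊆ Set.range H₀.ι := by
    rw [Scheme.Opens.range_ι]
    rintro _ ⟨t, rfl⟩ ⟨z, hzq', hzt⟩
    obtain ⟨w, hw⟩ := Groth.Agent.H17.HilbBC.exists_point f H Z.1 g z t hzt
    have hmem : w ∈ Y'.1.support := by
      rw [← hg, Groth.Agent.H17.HilbBC.hilbPull_eq_comap, Scheme.IdealSheafData.support_comap]
      show PicF.XTmap f g w ∈ Z.1.support
      rw [hw]
      exact (Z.1.range_subschemeι).subset (Set.mem_range_self z)
    obtain ⟨v, hv⟩ := (Groth.Agent.H17.HilbBC.range_incl f j T).subset (hY's hmem)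
    refine hzq' ⟨v, hv.trans ?_⟩
    show pullback.fst f T.hom w = q z
    rw [← Groth.Agent.H17.HilbBC.XTmap_fst f g, Scheme.Hom.comp_apply, hw]
    rfl
  let g₁ : T ⟶ T₀ := Over.homMk (IsOpenImmersion.lift H₀.ι g.left hrange) (by
    show IsOpenImmersion.lift H₀.ι g.left hrange ≫ H₀.ι ≫ H.hom = T.hom
    rw [IsOpenImmersion.lift_fac_assoc, Over.w g])
  have hg₁ : g₁ ≫ ιH = g := Over.OverMorphism.ext (IsOpenImmersion.lift_fac _ _ _)
  refine ⟨g₁, show FGA.hilbPull (j ≫ f) g₁ I₀ = Y.1 by rw [key, hg₁, hg, hY'c], fun g' hg' => ?_⟩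
  change FGA.hilbPull (j ≫ f) g' I₀ = Y.1 at hg'
  have hsupp : ((FGA.hilbPull f (g' ≫ ιH) Z.1).support : Set (PicF.XT f T : Scheme.{u})) ⊆
      Set.range n := by
    intro w hw
    rw [Groth.Agent.H17.HilbBC.hilbPull_eq_comap, Scheme.IdealSheafData.support_comap] at hw
    obtain ⟨z, hz⟩ := (Z.1.range_subschemeι).superset
      (show PicF.XTmap f (g' ≫ ιH) w ∈ (Z.1.support : Set _) from hw)
    rw [Groth.Agent.H17.HilbBC.range_incl]
    have hpz : p z ∈ H₀ := by
      show PicF.XTproj f H (Z.1.subschemeι z) ∈ H₀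
      rw [hz, ← Scheme.Hom.comp_apply, Groth.Agent.H17.HilbBC.XTmap_snd, Scheme.Hom.comp_apply]
      show H₀.ι (g'.left (PicF.XTproj f T w)) ∈ H₀
      exact (Scheme.Opens.range_ι H₀).subset (Set.mem_range_self _)
    show pullback.fst f T.hom w ∈ Set.range j
    rw [← Groth.Agent.H17.HilbBC.XTmap_fst f (g' ≫ ιH), Scheme.Hom.comp_apply, ← hz]
    exact hzq z hpz
  have h2 : FGA.hilbPull f (g' ≫ ιH) Z.1 = Y'.1 := by
    rw [← Groth.Agent.H17.HilbBC.ker_comap_open n _ hsupp, ← key, hg', hY']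
  haveI : Mono ιH.left := (inferInstance : Mono H₀.ι)
  exact Over.OverMorphism.ext ((cancel_mono ιH.left).1
    (congrArg CommaMorphism.left ((huniq _ h2).trans hg₁.symm)))

end Groth.Agent.S17082
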