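import Groth.Statements.S13604
import Groth.Agent.H29Blow.OfStalk
import Groth.Agent.H13Cartier.Scheme
-- import your own Groth.Agent.* helpers here

set_option autoImplicit false
universe u
open CategoryTheory AlgebraicGeometry
open CategoryTheory.Limits
set_option linter.style.haveILetI false
set_option backward.isDefEq.respectTransparency.types false
open Groth.Agent

namespace Groth.Agent.S13604

open IsLocalRing in
/-- A principal ideal generated by a regular element descends along a faithfully flat local map. -/
theorem descend_principal {A B : Type u} [CommRing A] [CommRing B] [IsLocalRing B] [Algebra A B]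
    [Module.FaithfullyFlat A B] {I : Ideal A} {g : B} (hg : g ∈ nonZeroDivisors B)
    (h : I.map (algebraMap A B) = Ideal.span {g}) :
    ∃ a ∈ nonZeroDivisors A, I = Ideal.span {a} := by
  obtain ⟨a, ha, d, hd, hu⟩ : ∃ a ∈ I, ∃ d, algebraMap A B a = d * g ∧ IsUnit d := by
    by_contra hc
    push Not at hc
    have : Ideal.span {g} ≤ Ideal.span {g} * maximalIdeal B := by
      refine h.ge.trans (Ideal.map_le_iff_le_comap.mpr fun a ha => ?_)
      obtain ⟨d, hd⟩ := Ideal.mem_span_singleton'.mp (h.le (Ideal.mem_map_of_mem _ ha))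
      rw [Ideal.mem_comap, ← hd, mul_comm d g]
      exact Ideal.mul_mem_mul (Ideal.mem_span_singleton_self g) (hc a ha d hd.symm)
    obtain ⟨t, ht, hgt⟩ := Ideal.mem_span_singleton_mul.mp (this (Ideal.mem_span_singleton_self g))
    have h1 : (t - 1) * g = 0 := by rw [sub_mul, one_mul, mul_comm t g, hgt, sub_self]
    have : t = 1 := sub_eq_zero.mp ((mem_nonZeroDivisors_iff.mp hg).2 _ h1)
    exact (maximalIdeal.isMaximal B).ne_top ((Ideal.eq_top_iff_one _).mpr (this ▸ ht))
  have hinj : Function.Injective (algebraMap A B) := FaithfulSMul.algebraMap_injective _ _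
  refine ⟨a, mem_nonZeroDivisors_iff_right.mpr fun z hz => hinj ?_, ?_⟩
  · rw [map_zero]
    refine (mem_nonZeroDivisors_iff_right.mp (hd ▸ mul_mem hu.mem_nonZeroDivisors hg)) _ ?_
    rw [← map_mul, hz, map_zero]
  · rw [← Ideal.comap_map_eq_self_of_faithfullyFlat (B := B) I, h,
      ← Ideal.span_singleton_mul_left_unit hu g, ← hd, ← Set.image_singleton, ← Ideal.map_span,
      Ideal.comap_map_eq_self_of_faithfullyFlat]

/-- Let k be a field, X a separated k-scheme of finite type, smooth of relative dimension r, and Z ⊆ X a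
closed subscheme (a quasi-coherent ideal sheaf) of pure dimension r − 1, i.e. the local ring of X at
every maximal point of Z has dimension 1. If for some field extension K/k the base change Z_K ⊆ X_K
= X ×_k Spec K (the inverse image ideal sheaf along the first projection) is an effective Cartier
divisor, then the ideal of Z is locally generated by a single non-zero-divisor, i.e. Z too is
effective Cartier. -/
theorem result {k : Type u} [Field k] {K : Type u} [Field K]
    [Algebra k K] {X : Scheme.{u}} (f : X ⟶ Spec (CommRingCat.of k)) (r : ℕ) [SmoothOfRelativeDimension r f]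
    [QuasiCompact f] [IsSeparated f] (𝓘 : X.IdealSheafData)
    (hpure : ∀ z : ↥𝓘.subscheme, (∀ z' : ↥𝓘.subscheme, z' ⤳ z → z' = z) →
      ringKrullDim ↑(X.presheaf.stalk (𝓘.subschemeι.base z)) = 1)
    (hK : BlowUp.IsEffCartierIdeal
      (𝓘.comap (pullback.fst f (Spec.map (CommRingCat.ofHom (algebraMap k K)))))) :
    BlowUp.IsEffCartierIdeal 𝓘 := by
  let j : Spec (CommRingCat.of K) ⟶ Spec (CommRingCat.of k) := Spec.map (CommRingCat.ofHom (algebraMap k K))
  let p := pullback.fst f j
  haveI : Flat j := Flat.SpecMap_iff.mpr (RingHom.flat_algebraMap_iff.mpr inferInstance)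
  haveI : Surjective j := ⟨fun y => ⟨IsLocalRing.closedPoint K, Subsingleton.elim (α := PrimeSpectrum k) _ _⟩⟩
  haveI : Flat p := MorphismProperty.pullback_fst _ _ inferInstance
  haveI : Surjective p := MorphismProperty.pullback_fst _ _ inferInstance
  haveI : Smooth f := SmoothOfRelativeDimension.smooth r f
  haveI : IsLocallyNoetherian (Spec (CommRingCat.of k)) := inferInstance
  haveI : IsLocallyNoetherian X := LocallyOfFiniteType.isLocallyNoetherian f
  refine H29Blow.isEffCartierIdeal_of_stalk 𝓘 fun x V hx => ?_
  obtain ⟨q, rfl⟩ := p.surjective x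
  obtain ⟨W, hqW, hWV, b, hb, hbW⟩ := H13Cartier.GenNear.exists_le (hK q) (W := p ⁻¹ᵁ V.1) hx
  letI := (pullback f j).presheaf.algebra_section_stalk (⟨q, hqW⟩ : W.1)
  haveI := W.2.isLocalization_stalk ⟨q, hqW⟩
  haveI : Module.Flat Γ(pullback f j, W.1) ((pullback f j).presheaf.stalk q) :=
    IsLocalization.flat _ (W.2.primeIdealOf ⟨q, hqW⟩).asIdeal.primeCompl
  have hB : (algebraMap Γ(pullback f j, W.1) ((pullback f j).presheaf.stalk q)) b ∈
      nonZeroDivisors ((pullback f j).presheaf.stalk q) :=
    H29Blow.mem_nonZeroDivisors_map_of_flat (RingHom.flat_algebraMap_iff.mpr inferInstance) hb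
  have hmap : ((𝓘.ideal V).map (X.presheaf.germ V.1 (p q) hx).hom).map (p.stalkMap q).hom =
      Ideal.span {(algebraMap Γ(pullback f j, W.1) ((pullback f j).presheaf.stalk q)) b} := by
    have h1 : X.presheaf.germ V.1 (p q) hx ≫ p.stalkMap q =
        p.appLE V.1 W.1 hWV ≫ (pullback f j).presheaf.germ W.1 q hqW := by
      rw [Scheme.Hom.germ_stalkMap, Scheme.Hom.appLE, Category.assoc, TopCat.Presheaf.germ_res]
    rw [Ideal.map_map, ← CommRingCat.hom_comp, h1, CommRingCat.hom_comp, ← Ideal.map_map,
      ← H29Blow.ideal_comap 𝓘 p V W hWV]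
    erw [hbW]
    rw [Ideal.map_span, Set.image_singleton]
    rfl
  letI := (p.stalkMap q).hom.toAlgebra
  haveI : IsLocalHom (algebraMap (X.presheaf.stalk (p q)) ((pullback f j).presheaf.stalk q)) :=
    inferInstanceAs (IsLocalHom (p.stalkMap q).hom)
  haveI : Module.Flat (X.presheaf.stalk (p q)) ((pullback f j).presheaf.stalk q) := Flat.stalkMap p q
  haveI := Module.FaithfullyFlat.of_flat_of_isLocalHom (A := X.presheaf.stalk (p q))
    (B := (pullback f j).presheaf.stalk q)
  exact descend_principal hB hmap

end Groth.Agent.S13604
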