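import Groth.Statements.S0222
-- import your own Groth.Agent.* helpers here
import Groth.Agent.H3Lich.Vanish
import Groth.Agent.H16Derived.GTheory.Localization
import Groth.Agent.H10Coh.Proper2
import Groth.Agent.H7Flat.CohDim.Top
import Groth.Prelude.Def_Canon


set_option autoImplicit false
universe u
open CategoryTheory CategoryTheory.Limits AlgebraicGeometry
open Curves

namespace Groth.Agent.S0222

set_option maxHeartbeats 1000000
set_option linter.style.haveILetI false
set_option backward.isDefEq.respectTransparency false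
attribute [local instance 10000] Groth.Agent.H10Coh.hasSheafifyAb Groth.Agent.H10Coh.hasWeakSheafifyAb Groth.Agent.H10Coh.hasExtAb Groth.Agent.H10Coh.enoughInjAb

/-- For a separated scheme of finite type and dimension d over a field k and a coherent module F, the
top cohomology H^d(X, F) is finite-dimensional over k (no properness needed). -/
theorem result (k : Type u) [Field k] (X : Scheme.{u}) [X.Over (Spec (CommRingCat.of k))]
    [IsSeparated (X ↘ Spec (CommRingCat.of k))] [LocallyOfFiniteType (X ↘ Spec (CommRingCat.of k))]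
    [QuasiCompact (X ↘ Spec (CommRingCat.of k))]
    (F : X.Modules) (hF : Coh.IsCoh F) (d : ℕ) (hd : topologicalKrullDim X = d) :
    Module.Finite k (Coh.HH X F d) := by
  let f : X ⟶ Spec (CommRingCat.of k) := X ↘ Spec (CommRingCat.of k)
  obtain ⟨Y, j, p, hjo, hja, hp, hjp, hdense⟩ := Groth.Agent.H3Lich.exists_affine_compactification f
  haveI := hjo; haveI := hja; haveI := hp
  letI : Y.Over (Spec (CommRingCat.of k)) := ⟨p⟩
  haveI : IsProper (Y ↘ Spec (CommRingCat.of k)) := inferInstanceAs (IsProper p)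
  haveI : F.IsQuasicoherent := hF.1
  haveI : IsLocallyNoetherian Y := LocallyOfFiniteType.isLocallyNoetherian p
  haveI : CompactSpace Y := QuasiCompact.compactSpace_of_compactSpace p
  haveI : IsNoetherian Y := {}
  have hdY : topologicalKrullDim Y = d :=
    (Groth.Agent.H3Lich.dim_eq_of_compactification j p hdense).trans hd
  obtain ⟨ω, t, hω, hu⟩ := Groth.Agent.S1752.result k Y d hdY
  let G := (Coh.push j).obj F
  haveI hG : G.IsQuasicoherent := Groth.Agent.H10Coh.isQuasicoherent_pushforward_of_isAffineHom j F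
  obtain ⟨K, hK, ⟨e⟩⟩ := Groth.Agent.H16Derived.GTheory.exists_extension j hF
  obtain ⟨a, ha⟩ := Groth.Agent.H16Derived.GTheory.exists_toPush j e
  haveI := ha
  have hzero : ∀ φ : G ⟶ ω, a ≫ φ = 0 → φ = 0 := by
    intro φ hφ
    have hR : (Scheme.Modules.restrictFunctor j).map φ = 0 := by
      rw [← cancel_epi ((Scheme.Modules.restrictFunctor j).map a), ← Functor.map_comp, comp_zero]
      exact (congrArg (Scheme.Modules.restrictFunctor j).map hφ).trans (Functor.map_zero _ _ _)
    have hst : ∀ (y : Y) (b : G.presheaf.stalk y), Groth.Agent.H06Mod.stalkLin φ y b = 0 := by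
      intro y b
      by_cases hy : y ∈ Set.range j.base
      · obtain ⟨x, rfl⟩ := hy
        obtain ⟨U, hxU, s, rfl⟩ := TopCat.Presheaf.exists_germ_eq G.presheaf b
        let V := j ''ᵁ (j ⁻¹ᵁ U)
        have hle : V ≤ U := j.image_preimage_le U
        rw [← TopCat.Presheaf.germ_res_apply G.presheaf (homOfLE hle) (j.base x) ⟨x, hxU, rfl⟩ s,
          Groth.Agent.H06Mod.stalkLin_germ]
        have h0 : φ.app V = 0 := congrArg (fun ψ : (Scheme.Modules.restrictFunctor j).obj G ⟶
          (Scheme.Modules.restrictFunctor j).obj ω => ψ.app (j ⁻¹ᵁ U)) hR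
        rw [h0]
        exact map_zero _
      · exact Groth.Agent.H3Lich.stalk_push_eq_zero j F hω φ y hy b
    refine Groth.Agent.LeadFF.hom_ext_sections _ _ fun U s => ?_
    refine TopCat.Presheaf.section_ext (⟨ω.presheaf, ω.isSheaf⟩ : TopCat.Sheaf Ab.{u} Y) _ _ _ fun y hy => ?_
    show ω.presheaf.germ U y hy (φ.app U s) = ω.presheaf.germ U y hy ((0 : G ⟶ ω).app U s)
    rw [← Groth.Agent.H06Mod.stalkLin_germ, hst]
    exact (map_zero _).symm
  haveI : Module.Finite k (Coh.HH Y K d) := Groth.Agent.H10Coh.finite_HH_proper k Y K hK d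
  have hsurj : Function.Surjective (Canon.HHlin k a d) := by
    rw [← LinearMap.range_eq_top]
    by_contra hne
    obtain ⟨x, -, hx⟩ := SetLike.exists_of_lt (lt_top_iff_ne_top.2 hne)
    obtain ⟨ψ, hψx, hψ⟩ := Submodule.exists_dual_map_eq_bot_of_notMem hx inferInstance
    obtain ⟨φ, hφ, -⟩ := hu G hG ψ
    obtain ⟨χ, -, huni⟩ := hu K hK.1 0
    have hcomp : a ≫ φ = 0 := by
      refine (huni (a ≫ φ) fun y => ?_).trans (huni 0 fun y => ?_).symm
      · rw [Functor.map_comp, Sheaf.H.map_comp_apply, ← hφ]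
        have : ψ (Canon.HHlin k a d y) = 0 :=
          (Submodule.mem_bot k).1 (hψ ▸ Submodule.mem_map_of_mem ⟨y, rfl⟩)
        exact this.symm
      · rw [Functor.map_zero]
        show _ = t ((Sheaf.functorH _ d).map (0 : _ ⟶ (SheafOfModules.toSheaf Y.ringCatSheaf).obj ω) y)
        rw [Functor.map_zero]
        exact (map_zero t).symm
    have h0 := hzero φ hcomp
    apply hψx
    rw [hφ, h0, Functor.map_zero]
    show t ((Sheaf.functorH _ d).map (0 : _ ⟶ (SheafOfModules.toSheaf Y.ringCatSheaf).obj ω) x) = 0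
    rw [Functor.map_zero]
    exact map_zero t
  haveI : Module.Finite k (Coh.HH Y G d) := Module.Finite.of_surjective _ hsurj
  let L := Groth.Agent.H7Flat.CohDim.lerayHH j F d
  have hG₀ : ∀ r : k, Formal.smulMod k G r = (Coh.push j).map (Formal.smulMod k F r) := fun r => by
    refine Groth.Agent.LeadFF.hom_ext_sections _ _ fun V m => ?_
    let m' : Γ(F, j ⁻¹ᵁ V) := m
    change j.app V (Y.presheaf.map (homOfLE (le_top : V ≤ ⊤)).op (Coh.toGlobal p r)) • m' =
      X.presheaf.map (homOfLE (le_top : j ⁻¹ᵁ V ≤ ⊤)).op (Coh.toGlobal f r) • m'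
    congr 1
    refine (congr($(j.naturality (homOfLE (le_top : V ≤ ⊤)).op) (Coh.toGlobal p r))).trans ?_
    exact congrArg (fun z => X.presheaf.map (homOfLE (le_top : j ⁻¹ᵁ V ≤ ⊤)).op z)
      (Groth.Agent.H7Flat.CohDim.appTop_toGlobal f p (𝟙 _) j (by rw [Spec.map_id, Category.comp_id, hjp]) r)
  have hL : ∀ (r : k) (y : Coh.HH Y G d), L (r • y) = r • L y := fun r y => by
    show L (Groth.Agent.LeadFF.Hm (Formal.smulMod k G r) d y) =
      Groth.Agent.LeadFF.Hm (Formal.smulMod k F r) d (L y)
    rw [hG₀]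
    exact Groth.Agent.H7Flat.CohDim.lerayHH_smul j F d _ _
  let Llin : Coh.HH Y G d →ₗ[k] Coh.HH X F d := { toFun := L, map_add' := L.map_add, map_smul' := hL }
  exact Module.Finite.of_surjective Llin L.surjective

end Groth.Agent.S0222
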