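import Groth.Statements.S0469
import Groth.Agent.H15Site.SpectralVanish

set_option autoImplicit false
set_option backward.isDefEq.respectTransparency false
attribute [local instance 10000] Groth.Agent.H10Coh.hasSheafifyAb Groth.Agent.H10Coh.hasWeakSheafifyAb Groth.Agent.H10Coh.hasExtAb Groth.Agent.H10Coh.enoughInjAb
universe u
open CategoryTheory
open CohTop

namespace Groth.Agent.S0469

/-- If X is a spectral space of Krull dimension at most d, then H^p(X, F) = 0 for every abelian sheaf F
and every p > d. -/
theorem result {X : TopCat.{u}} [SpectralSpace X] (d : ℕ) (hd : topologicalKrullDim X ≤ d)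
    (F : CohTop.Ab X) (p : ℕ) (hp : d < p) : Subsingleton (CohTop.H F p) := by
  haveI : Subsingleton (Groth.Agent.H10Coh.Hn F p ⊤) :=
    H15Site.SpecVanish.subsingleton_Hn_of_suppBig (d + 1) F
      (fun x hx => absurd hx (H15Site.SpecVanish.not_big d hd x)) ⊤
      (by rw [TopologicalSpace.Opens.coe_top]; exact isCompact_univ) p hp
  exact (Groth.Agent.H10Coh.topEquiv F p).toEquiv.subsingleton

end Groth.Agent.S0469
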