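import Groth.Statements.S0177
import Groth.Agent.H1CAlg.EtCover
import Groth.Agent.H1CAlg.ZarColimSplit
import Groth.Agent.H1CAlg.WLocal
import Groth.Agent.H1WE.Contractible
import Groth.Agent.S0675

set_option autoImplicit false
universe u
open CategoryTheory CategoryTheory.Limits AlgebraicGeometry Opposite
open EtPBC

namespace Groth.Agent.S0177

/-- For every ring A there is a faithfully flat ind-etale A-algebra D which is w-contractible, i.e.
every faithfully flat weakly etale D-algebra has a D-algebra retraction. -/
theorem result (A : Type u) [CommRing A] :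
    ∃ (D : Type u) (_ : CommRing D) (_ : Algebra A D),
      Module.FaithfullyFlat A D ∧ EtPBC.IsIndEtale A D ∧ EtPBC.IsWContractible D := by
  classical
  let K : PrimeSpectrum A → Type u := fun p => AlgebraicClosure p.asIdeal.ResidueField
  obtain ⟨H, _, _, π, hH⟩ := H9Hens.exists_isPtColim (A := A) (k := (p : PrimeSpectrum A) → K p)
  let pr : ∀ p, H →ₐ[A] K p := fun p => (Pi.evalAlgHom A K p).comp π
  have hker : ∀ p : PrimeSpectrum A, RingHom.ker (algebraMap A (K p)) = p.asIdeal := fun p => by
    rw [IsScalarTower.algebraMap_eq A p.asIdeal.ResidueField (K p), RingHom.ker_comp_of_injective _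
      (algebraMap p.asIdeal.ResidueField (K p)).injective]
    exact Ideal.ker_algebraMap_residueField _
  haveI : Module.Flat A H := hH.flat
  haveI : Module.FaithfullyFlat A H := by
    refine Module.FaithfullyFlat.of_comap_surjective fun p =>
      ⟨⟨RingHom.ker (pr p), RingHom.ker_isPrime _⟩, PrimeSpectrum.ext ?_⟩
    refine (Ideal.ext fun a => ?_).trans (hker p)
    show pr p (algebraMap A H a) = 0 ↔ _
    rw [AlgHom.commutes, RingHom.mem_ker]
  have hS := H1CAlg.Zar.split_of_isPtColim hH fun x => H1CAlg.Zar.exists_unit_idem_pi K (π x)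
  let pt : PrimeSpectrum A → PrimeSpectrum.zeroLocus (RingHom.ker π : Set H) := fun p =>
    ⟨⟨RingHom.ker (pr p), RingHom.ker_isPrime _⟩, fun x hx => by
      show π x p = 0
      rw [show π x = 0 from hx]
      rfl⟩
  have hED := hS.extremallyDisconnected pt
    (fun g hg => Ideal.le_radical (RingHom.mem_ker.2 (funext fun p => hg p)))
    (fun S => by
      let e : (p : PrimeSpectrum A) → K p := fun p => if p ∈ S then 1 else 0
      have he : IsIdempotentElem e := funext fun p => by
        by_cases h : p ∈ S <;> simp [e, h]
      obtain ⟨ε, hε, hεe⟩ := H1CAlg.Zar.exists_idem_lift_of_isPtColim hH he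
      refine ⟨ε, hε, fun p => ?_⟩
      show π ε p = 0 ↔ _
      rw [hεe]
      by_cases h : p ∈ S <;> simp [e, h])
  have hret := H1CAlg.EtCover.hasEtaleRetractions_of_geomPoints hH
  exact ⟨H, inferInstance, inferInstance, inferInstance, hH.isIndEtale,
    H1WE.isWContractible hS.isWLocal hED fun m _ => Groth.Agent.S0675.result H hret m⟩

end Groth.Agent.S0177
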