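import Groth.Statements.S7286
import Groth.Agent.H26ProEt.FiniteCover
import Groth.Agent.H8Props.WeakEtaleScheme
import Groth.Agent.S0177
import Groth.Agent.H1CAlg.IndEtale
import Groth.Agent.H1WE.Contractible
import Mathlib.AlgebraicGeometry.Sites.Proetale

set_option autoImplicit false
open CategoryTheory CategoryTheory.Limits AlgebraicGeometry Opposite
universe u
open ProEtS

namespace Groth.Agent.S7286

theorem isWContractible_of_ringEquiv {D D' : Type u} [CommRing D] [CommRing D'] (e : D ≃+* D')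
    (h : EtPBC.IsWContractible D) : EtPBC.IsWContractible D' := by
  intro B _ _ hff hwe
  haveI := hff
  haveI := hwe
  letI : Algebra D D' := e.toRingHom.toAlgebra
  letI : Algebra D B := ((algebraMap D' B).comp e.toRingHom).toAlgebra
  haveI : IsScalarTower D D' B := IsScalarTower.of_algebraMap_eq fun _ => rfl
  let eD : D ≃ₐ[D] D' := AlgEquiv.ofRingEquiv (f := e) fun _ => rfl
  haveI : IsLocalization (⊥ : Submonoid D) D' := by
    haveI : IsLocalization (⊥ : Submonoid D) D := IsLocalization.of_le_isUnit (fun x hx => by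
      rw [Submonoid.mem_bot] at hx; rw [hx]; exact isUnit_one)
    exact IsLocalization.isLocalization_of_algEquiv ⊥ eD
  haveI : Algebra.WeaklyEtale D D' := Groth.Agent.H1WE.weaklyEtale_of_isLocalization (⊥ : Submonoid D) D'
  haveI : Algebra.WeaklyEtale D B := Algebra.WeaklyEtale.trans D D' B
  haveI : Module.FaithfullyFlat D D' := Module.FaithfullyFlat.of_linearEquiv D D eD.symm.toLinearEquiv
  haveI : Module.FaithfullyFlat D B := Module.FaithfullyFlat.trans D D' B
  obtain ⟨r⟩ := h B inferInstance inferInstance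
  exact ⟨{ toRingHom := e.toRingHom.comp r.toRingHom
           commutes' := fun a => by
             obtain ⟨d, rfl⟩ := e.surjective a
             show e (r (algebraMap D B d)) = e d
             rw [r.commutes]; rfl }⟩

theorem exists_affine_cover {X : Scheme.{u}} (U : X.ProEt) :
    ∃ (ι : Type u) (V : ι → X.ProEt) (g : ∀ i, V i ⟶ U),
      Sieve.ofArrows V g ∈ Scheme.ProEt.topology X U ∧ ∀ i, IsAffine (V i).left := by
  have key : ∀ x : U.left, ∃ V : U.left.Opens, IsAffineOpen V ∧ x ∈ V := fun x => by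
    obtain ⟨V, hV, hxV, -⟩ := TopologicalSpace.Opens.isBasis_iff_nbhd.1 U.left.isBasis_affineOpens
      (TopologicalSpace.Opens.mem_top x)
    exact ⟨V, hV, hxV⟩
  choose O hO using key
  refine ⟨U.left, fun x => Scheme.ProEt.mk ((O x).ι ≫ U.hom),
    fun x => MorphismProperty.Over.homMk (O x).ι (by rfl) trivial, ?_, fun x => (hO x).1⟩
  refine Precoverage.generate_mem_toGrothendieck ?_
  simp only [Scheme.ProEt.precoverage, Precoverage.mem_comap_iff, Presieve.map_ofArrows]
  apply Scheme.zariskiPrecoverage_le_propQCPrecoverage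
  let E : PreZeroHypercover U.left := ⟨U.left, fun x => (O x : Scheme.{u}), fun x => (O x).ι⟩
  show E.presieve₀ ∈ Scheme.precoverage @IsOpenImmersion U.left
  rw [Scheme.presieve₀_mem_precoverage_iff]
  exact ⟨fun x => ⟨x, ⟨x, (hO x).2⟩, rfl⟩, fun x => (inferInstance : IsOpenImmersion (O x).ι)⟩

theorem exists_wc_over {X : Scheme.{u}} (W : X.ProEt) [IsAffine W.left] :
    ∃ (V : X.ProEt) (g : V ⟶ W), IsAffine V.left ∧ EtPBC.IsWContractible ↥(Γ(V.left, ⊤)) ∧
      ∀ w : W.left, ∃ v : V.left, g.left v = w := by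
  obtain ⟨D, _, _, hff, het, hwc⟩ := Groth.Agent.S0177.result Γ(W.left, ⊤)
  haveI := H1CAlg.IndEtale.weaklyEtale_of_isIndEtale het
  haveI : WeaklyEtale (Spec.map (CommRingCat.ofHom (algebraMap Γ(W.left, ⊤) D))) :=
    (H8Props.WeakEtaleScheme.weaklyEtale_SpecMap_algebraMap _ D).2 inferInstance
  let h := Spec.map (CommRingCat.ofHom (algebraMap Γ(W.left, ⊤) D)) ≫ W.left.isoSpec.inv
  haveI : WeaklyEtale h := inferInstance
  haveI : WeaklyEtale (h ≫ W.hom) := inferInstance
  refine ⟨Scheme.ProEt.mk (h ≫ W.hom), MorphismProperty.Over.homMk h (by rfl) trivial,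
    inferInstanceAs (IsAffine (Spec (CommRingCat.of D))),
    isWContractible_of_ringEquiv (Scheme.ΓSpecIso (CommRingCat.of D)).commRingCatIsoToRingEquiv.symm hwc,
    fun w => ?_⟩
  haveI := hff
  obtain ⟨v, hv⟩ := PrimeSpectrum.comap_surjective_of_faithfullyFlat (A := Γ(W.left, ⊤)) (B := D)
    (W.left.isoSpec.hom w)
  refine ⟨v, ?_⟩
  show W.left.isoSpec.inv (Spec.map (CommRingCat.ofHom (algebraMap Γ(W.left, ⊤) D)) v) = w
  rw [show Spec.map (CommRingCat.ofHom (algebraMap Γ(W.left, ⊤) D)) v = W.left.isoSpec.hom w from hv,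
    ← Scheme.Hom.comp_apply, Iso.hom_inv_id]
  rfl

/-- Transposed to the small pro-etale site: every object U of the small pro-etale site of a scheme X has
a covering family all of whose members are affine schemes whose rings of global functions are
w-contractible. -/
theorem result {X : Scheme.{u}} (U : X.ProEt) :
    ∃ (ι : Type u) (V : ι → X.ProEt) (g : ∀ i, V i ⟶ U),
      Sieve.generate (Presieve.ofArrows V g) ∈ Scheme.ProEt.topology X U ∧
        ∀ i, IsAffine (V i).left ∧ EtPBC.IsWContractible ↥(Γ((V i).left, ⊤)) := by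
  obtain ⟨ι, W, g, hcov, haff⟩ := exists_affine_cover U
  choose V h hVaff hwc hs using fun i => haveI := haff i; exists_wc_over (W i)
  refine ⟨ι, V, fun i => h i ≫ g i, ?_, fun i => ⟨hVaff i, hwc i⟩⟩
  refine (Scheme.ProEt.topology X).transitive hcov _ ?_
  rintro Z f ⟨_, a, _, ⟨i⟩, rfl⟩
  rw [Sieve.pullback_comp]
  refine (Scheme.ProEt.topology X).pullback_stable a ?_
  haveI := haff i
  haveI : ∀ _ : PUnit.{1}, IsAffine (V i).left := fun _ => hVaff i
  refine (Scheme.ProEt.topology X).superset_covering ?_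
    (H26ProEt.mem_topology_of_finite_affine (ι := PUnit.{1}) (fun _ => V i) (fun _ => h i)
      fun x => ⟨⟨⟩, hs i x⟩)
  rintro Z' f' ⟨_, b, _, ⟨-⟩, rfl⟩
  exact ⟨_, b, _, ⟨i⟩, (Category.assoc b (h i) (g i)).symm⟩

end Groth.Agent.S7286
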