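import Groth.Statements.S14017
import Mathlib.CategoryTheory.Sites.EpiMono
import Mathlib.Algebra.Category.ModuleCat.Abelian
import Mathlib.Algebra.Homology.ShortComplex.ModuleCat
import Mathlib.CategoryTheory.Sites.Abelian

set_option autoImplicit false
open CategoryTheory CategoryTheory.Limits AlgebraicGeometry Opposite
universe u
open EtModW

namespace Groth.Agent.S14017

/-- Let X be a scheme, Λ a commutative ring and I a finitely generated ideal of Λ; let F be a sheaf of
Λ-modules on the small pro-étale site of X and p : F ⟶ Q a quotient map modulo I (Q is killed by I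
and every morphism out of F killed by I factors uniquely through p, so Q = F/IF); let U be a weakly
contractible object of the pro-étale site. Then the map on sections F(U) → Q(U) is surjective and
its kernel is exactly the submodule I·F(U): sections over a weakly contractible object commute with
forming IF and F/IF. (The published lemma is for sheaves of Λ-modules on an arbitrary site and a
weakly contractible object of it; this row states the case of the small pro-étale site of a scheme.) -/
theorem result
    (Λ : Type (u + 1)) [CommRing Λ] (I : Ideal Λ) (hI : I.FG)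
    (X : Scheme.{u}) (F Q : EtModW.ModP Λ X) (p : F ⟶ Q) (hp : ARSys.IsQuot I p)
    (U : X.ProEt) (hU : ProEtS.IsWC U) :
    Function.Surjective (p.hom.app (op U)).hom ∧
      LinearMap.ker (p.hom.app (op U)).hom = I • (⊤ : Submodule Λ (F.obj.obj (op U))) := by
  haveI : Epi p := ⟨fun {Z} a b hab => by
    obtain ⟨w, -, huniq⟩ := hp.2 Z (p ≫ a) (fun c hc => by
      rw [← Linear.smul_comp, ← Category.comp_id p, ← Linear.comp_smul, hp.1 c hc, comp_zero, zero_comp])
    exact (huniq a rfl).trans (huniq b hab.symm).symm⟩
  have hsurj : ∀ {A B : EtModW.ModP Λ X} (q : A ⟶ B) [Epi q], Function.Surjective (q.hom.app (op U)).hom := by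
    intro A B q _
    haveI : Sheaf.IsLocallySurjective q := (Sheaf.isLocallySurjective_iff_epi' (ModuleCat.{u + 1} Λ) q).2 inferInstance
    exact hU _ _ ((sheafCompose (Scheme.ProEt.topology X) (forget (ModuleCat.{u + 1} Λ))).map q) inferInstance
  haveI := Abelian.hasFiniteBiproducts (C := EtModW.ModP Λ X)
  refine ⟨hsurj p, le_antisymm (fun x hx => ?_) ?_⟩
  · obtain ⟨r, g, hg⟩ := Submodule.fg_iff_exists_fin_generating_family.1 hI
    let φ : (⨁ fun _ : Fin r => F) ⟶ F := biproduct.desc fun i => g i • 𝟙 F
    let c := cokernel.π φ
    have hc : ARSys.HomKilledBy I c := by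
      intro a ha
      rw [← hg] at ha
      induction ha using Submodule.span_induction with
      | mem _ h =>
        obtain ⟨i, rfl⟩ := h
        have h0 := congrArg (biproduct.ι (fun _ : Fin r => F) i ≫ ·) (cokernel.condition φ)
        simp only [φ, biproduct.ι_desc_assoc, Linear.smul_comp, Category.id_comp, comp_zero] at h0
        exact h0
      | zero => exact zero_smul _ _
      | add a b _ _ ha hb => rw [add_smul, ha, hb, add_zero]
      | smul s a _ ha => rw [smul_assoc, ha, smul_zero]
    obtain ⟨ψ, hψ : p ≫ ψ = c, -⟩ := hp.2 _ c hc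
    have hcx : (c.hom.app (op U)).hom x = 0 := by
      rw [← hψ]
      change (ψ.hom.app (op U)).hom ((p.hom.app (op U)).hom x) = 0
      rw [LinearMap.mem_ker.1 hx, map_zero]
    let S : ShortComplex (EtModW.ModP Λ X) := ShortComplex.mk (kernel.ι c) c (kernel.condition c)
    have hS : S.Exact := ShortComplex.exact_of_f_is_kernel _ (kernelIsKernel c)
    let ev := sheafToPresheaf (Scheme.ProEt.topology X) (ModuleCat.{u + 1} Λ) ⋙
      (evaluation _ (ModuleCat.{u + 1} Λ)).obj (op U)
    haveI : ev.PreservesZeroMorphisms := ⟨fun _ _ => rfl⟩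
    have hex := hS.map_of_mono_of_preservesKernel ev (inferInstanceAs (Mono (kernel.ι c))) inferInstance
    obtain ⟨z, hz⟩ := (ShortComplex.moduleCat_exact_iff _).1 hex x hcx
    haveI : Epi (kernel.lift c φ (cokernel.condition φ)) :=
      (ShortComplex.exact_of_g_is_cokernel (ShortComplex.mk φ c (cokernel.condition φ))
        (cokernelIsCokernel φ)).epi_kernelLift
    obtain ⟨y, hy⟩ := hsurj (kernel.lift c φ (cokernel.condition φ)) z
    have hxy : x = (φ.hom.app (op U)).hom y := by
      have h2 := congrArg (fun h => (h.hom.app (op U)).hom y) (kernel.lift_ι c φ (cokernel.condition φ))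
      refine Eq.trans ?_ h2
      change x = ((kernel.ι c).hom.app (op U)).hom (((kernel.lift c φ (cokernel.condition φ)).hom.app (op U)).hom y)
      rw [hy]
      exact hz.symm
    rw [hxy, show φ = ∑ i, g i • biproduct.π (fun _ : Fin r => F) i by
      refine biproduct.hom_ext' _ _ fun j => ?_
      rw [biproduct.ι_desc, Preadditive.comp_sum, Finset.sum_eq_single j]
      · rw [Linear.comp_smul, biproduct.ι_π_self]
      · intro i _ hij
        rw [Linear.comp_smul, biproduct.ι_π_ne _ (Ne.symm hij), smul_zero]
      · simp]
    have hsum : ∀ (s : Finset (Fin r)), ((∑ i ∈ s, g i • biproduct.π (fun _ : Fin r => F) i).hom.app (op U)).hom y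
        ∈ I • (⊤ : Submodule Λ (F.obj.obj (op U))) := by
      intro s
      induction s using Finset.induction with
      | empty => exact zero_mem _
      | insert i s hi ih =>
        rw [Finset.sum_insert hi]
        refine add_mem ?_ ih
        exact Submodule.smul_mem_smul (hg ▸ Submodule.subset_span ⟨i, rfl⟩) (Submodule.mem_top (x := ((biproduct.π (fun _ : Fin r => F) i).hom.app (op U)).hom y))
    exact hsum Finset.univ
  · refine Submodule.smul_le.2 fun a ha x _ => ?_
    rw [LinearMap.mem_ker, map_smul]
    exact congrArg (fun h : Q ⟶ Q => (h.hom.app (op U)).hom ((p.hom.app (op U)).hom x)) (hp.1 a ha)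

end Groth.Agent.S14017
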