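-- statement Lim.GrothFrozen.S0590 (Groth/Statements/S0590.lean; the theorem Lim.exists_limit_finiteType_of_qcqs);
import Groth.Statements.S0590
import Groth.Agent.H7Lim.Approx.AbsoluteMain

set_option autoImplicit false
universe u
open CategoryTheory AlgebraicGeometry
open Lim

namespace Groth.Agent.S0590
set_option backward.isDefEq.respectTransparency false

/-- Every quasi-compact quasi-separated scheme is the limit of an inverse system, indexed by a nonempty
directed preorder, of quasi-compact schemes locally of finite type over the integers with affine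
transition morphisms. -/
theorem result (S : Scheme.{u}) [CompactSpace S] [QuasiSeparatedSpace S] :
    ∃ (I : Type u) (_ : Preorder I) (_ : IsDirected I (fun a b => a ≤ b)) (_ : Nonempty I)
      (D : Iᵒᵖ ⥤ Scheme.{u}) (c : Limits.Cone D) (_ : Limits.IsLimit c),
      (∀ (i j : Iᵒᵖ) (f : i ⟶ j), IsAffineHom (D.map f)) ∧
      (∀ i, CompactSpace (D.obj i) ∧
        LocallyOfFiniteType (Limits.IsTerminal.from specULiftZIsTerminal (D.obj i))) ∧
      Nonempty (c.pt ≅ S) := by
  obtain ⟨Y, f, hf, hY, hYt⟩ := Groth.Agent.H7Lim.Approx.exists_affineHom_finiteType S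
  haveI := Groth.Agent.H7Lim.Approx.quasiSeparatedSpace_of_toZ Y
  obtain ⟨hc⟩ := Groth.Agent.H7Lim.Approx.nonempty_isLimit_sysCone f
  refine ⟨Groth.Agent.H7Lim.Approx.FGSub f, inferInstance, inferInstance, inferInstance,
    Groth.Agent.H7Lim.Approx.sys f, Groth.Agent.H7Lim.Approx.sysCone f, hc,
    fun i j a => inferInstanceAs (IsAffineHom ((Groth.Agent.H7Lim.Approx.system f).map a).left),
    fun i => ⟨inferInstanceAs (CompactSpace i.unop.spec), ?_⟩, ⟨Iso.refl _⟩⟩
  show LocallyOfFiniteType (Groth.Agent.H7Lim.Approx.toZ i.unop.spec)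
  rw [← Groth.Agent.H7Lim.Approx.toZ_eq (i.unop.proj ≫ Groth.Agent.H7Lim.Approx.toZ Y)]
  infer_instance

end Groth.Agent.S0590
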