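import Groth.Statements.S17856
import Groth.Agent.H24Algz.PiPoints.Surject
import Groth.Agent.S0590

set_option autoImplicit false
set_option linter.style.haveILetI false
open CategoryTheory AlgebraicGeometry
universe u
open Algz
open Groth.Agent

namespace Groth.Agent.S17856

/-- Let `X` be a quasi-compact quasi-separated scheme and `A i` an arbitrary family of commutative
rings. Sending a morphism from the spectrum of the product ring to `X` to the family of its
composites with the morphisms `Spec (A i) ⟶ Spec (∏ A i)` induced by the projections is a bijection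
onto the set of all families of morphisms `Spec (A i) ⟶ X`. (Both quasi-compactness and
quasi-separatedness of `X` are needed.) -/
theorem result (X : Scheme.{u}) [CompactSpace X] [QuasiSeparatedSpace X]
    {ι : Type u} (A : ι → CommRingCat.{u}) :
    Function.Bijective (fun f : Spec (CommRingCat.of (∀ i, A i)) ⟶ X =>
      fun i : ι => Spec.map (CommRingCat.ofHom (Pi.evalRingHom (fun j => (A j : Type u)) i)) ≫ f) := by
  refine ⟨fun f g h => H24Algz.PiPoints.hom_ext A f g (fun i => congrFun h i), fun f => ?_⟩
  obtain ⟨I, _, _, _, D, c, hc, haff, hD, ⟨e⟩⟩ := S0590.result X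
  haveI : ∀ i, CompactSpace (D.obj i) := fun i => (hD i).1
  haveI : ∀ i, LocallyOfFiniteType (Limits.IsTerminal.from specULiftZIsTerminal (D.obj i)) := fun i => (hD i).2
  choose g hg using fun j => H24Algz.PiPoints.surjective_of_finiteType (fun i => (f i ≫ e.inv) ≫ c.π.app j)
  let s : Limits.Cone D :=
    { pt := Spec (CommRingCat.of (∀ i, A i))
      π :=
        { app := g
          naturality := fun j j' φ => by
            haveI : QuasiSeparatedSpace (D.obj j') := H7Lim.Approx.quasiSeparatedSpace_of_toZ _
            refine H24Algz.PiPoints.hom_ext A _ _ fun i => ?_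
            change _ ≫ 𝟙 _ ≫ g j' = _ ≫ g j ≫ D.map φ
            rw [Category.id_comp, ← Category.assoc, hg j, hg j', Category.assoc, Category.assoc, Category.assoc, c.w φ] } }
  refine ⟨hc.lift s ≫ e.hom, funext fun i => ?_⟩
  rw [← cancel_mono e.inv, Category.assoc, Category.assoc, e.hom_inv_id, Category.comp_id]
  refine hc.hom_ext fun j => ?_
  rw [Category.assoc, hc.fac s j]
  exact hg j i

end Groth.Agent.S17856
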