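import Groth.Statements.S1324
import Groth.Agent.H06SecComp.BaseChange

set_option autoImplicit false
universe u
open FlatMor

namespace Groth.Agent.S1324

open Groth.Agent

open AlgebraicGeometry CategoryTheory Limits in
/-- Let f have a section s and form, for every point of the target, the connected component of the fibre
containing the value of the section; call the union of these the section components of (f, s). For
any base change of f with the induced section, the section components upstairs are exactly the
preimage of the section components downstairs. -/
theorem result {X Y X' Y' : Scheme.{u}} (f : X ⟶ Y) (s : Y ⟶ X) (hs : s ≫ f = 𝟙 Y)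
    (f' : X' ⟶ Y') (g' : X' ⟶ X) (g : Y' ⟶ Y) (hc : IsPullback g' f' f g)
    (s' : Y' ⟶ X') (hs' : s' ≫ f' = 𝟙 Y') (hs'g : s' ≫ g' = g ≫ s) :
    MoreMor.sectionComponents f' s' = g' ⁻¹' MoreMor.sectionComponents f s := by
  exact H06SecComp.sectionComponents_baseChange f s hs f' g' g hc s' hs' hs'g

end Groth.Agent.S1324
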