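import Groth.Statements.S15351
import Groth.Agent.H06SecComp.ModelApps
import Groth.Agent.H13AlgSp.EtaleLocally

set_option autoImplicit false
universe u
open CategoryTheory CategoryTheory.Limits AlgebraicGeometry
open MoreMor

namespace Groth.Agent.S15351

open Groth.Agent

set_option backward.isDefEq.respectTransparency false in
/-- Let f : X ⟶ S be a smooth morphism of schemes, X quasi-separated, with a section e : S ⟶ X, and let
X⁰ ⊆ X be the union over the points s of S of the connected component of e(s) in the fibre f⁻¹(s)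
with its subspace topology. Then X⁰ is open in X; no quasi-compactness is assumed. (The published
statement is for an algebraic space X smooth over S; this row is the case of a scheme.) -/
theorem result {S X : Scheme.{u}} [QuasiSeparatedSpace ↥X] (f : X ⟶ S) [Smooth f]
    (e : S ⟶ X) (he : e ≫ f = 𝟙 S) :
    IsOpen (MoreMor.sectionComponents f e) := by
  suffices aux : ∀ {S X : Scheme.{u}} [IsAffine S] [QuasiSeparatedSpace ↥X] (f : X ⟶ S) [Smooth f] (e : S ⟶ X),
      e ≫ f = 𝟙 S → IsOpen (MoreMor.sectionComponents f e) by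
    rw [isOpen_iff_mem_nhds]
    intro x hx
    obtain ⟨V, hV, hxV, -⟩ := exists_isAffineOpen_mem_and_subset (X := S) (x := f x) (U := ⊤) trivial
    have le2 : V ≤ e ⁻¹ᵁ (f ⁻¹ᵁ V) := fun v hv =>
      show f (e v) ∈ V by rw [H06EGA15.f_g_apply f e he v]; exact hv
    let e₁ := e.resLE (f ⁻¹ᵁ V) V le2
    have hP : IsPullback (f ⁻¹ᵁ V).ι (f ∣_ V) f V.ι := (isPullback_morphismRestrict f V).flip
    have he₁ : e₁ ≫ (f ∣_ V) = 𝟙 _ := by
      rw [← cancel_mono V.ι]
      simp [e₁, Scheme.Hom.resLE_comp_ι, Scheme.Hom.resLE_comp_ι_assoc, he]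
    haveI : IsAffine V.toScheme := hV
    haveI : QuasiSeparatedSpace (f ⁻¹ᵁ V).toScheme :=
      QuasiSeparatedSpace.of_isOpenEmbedding (f ⁻¹ᵁ V).ι.isOpenEmbedding
    haveI : Smooth (f ∣_ V) := inferInstance
    have hmem := H06SecComp.mem_component_iff_of_model hP he₁ he (Scheme.Hom.resLE_comp_ι _ _)
    obtain ⟨x', rfl⟩ := (f ⁻¹ᵁ V).range_ι.ge hxV
    refine Filter.mem_of_superset (((f ⁻¹ᵁ V).ι.isOpenEmbedding.isOpenMap _ (aux (f ∣_ V) e₁ he₁)).mem_nhds
      ⟨x', (hmem x').mpr hx, rfl⟩) ?_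
    rintro _ ⟨a, ha, rfl⟩
    exact (hmem a).mp ha
  clear he e
  intro S X _ _ f _ e he
  rw [isOpen_iff_mem_nhds]
  intro x hx
  obtain ⟨W, hWc, hgW, hxW⟩ := H06SecComp.exists_compact_open_component f e he (f x) hx
  obtain ⟨V, hV, hyV, hVW⟩ := exists_isAffineOpen_mem_and_subset (X := S) (x := f x) (U := e ⁻¹ᵁ W) hgW
  let W' : X.Opens := W ⊓ f ⁻¹ᵁ V
  have le1 : W' ≤ f ⁻¹ᵁ V := inf_le_right
  have le2 : V ≤ e ⁻¹ᵁ W' := fun v hv => ⟨hVW hv, show f (e v) ∈ V by rw [H06EGA15.f_g_apply f e he v]; exact hv⟩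
  let f' := f.resLE V W' le1
  let g' := e.resLE W' V le2
  have hg' : g' ≫ f' = 𝟙 V.toScheme := by
    rw [← cancel_mono V.ι]
    simp [f', g', Scheme.Hom.resLE_comp_ι, Scheme.Hom.resLE_comp_ι_assoc, he]
  haveI : Smooth f' := by infer_instance
  haveI : CompactSpace W.toScheme := isCompact_iff_compactSpace.mp hWc
  haveI : QuasiSeparatedSpace W.toScheme := QuasiSeparatedSpace.of_isOpenEmbedding W.ι.isOpenEmbedding
  haveI : IsAffine V.toScheme := hV
  haveI : QuasiSeparatedSpace W'.toScheme := QuasiSeparatedSpace.of_isOpenEmbedding W'.ι.isOpenEmbedding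
  haveI : QuasiSeparated f' := (quasiSeparated_iff_quasiSeparatedSpace f').mpr inferInstance
  haveI : QuasiCompact (W.ι ≫ f) := (quasiCompact_iff_compactSpace _).mpr inferInstance
  haveI : QuasiCompact f' := (quasiCompact_iff_compactSpace f').mpr (isCompact_iff_compactSpace.mp (by
    have := hV.isCompact
    have h2 : IsCompact ((W.ι ≫ f) ⁻¹ᵁ V : Set W.toScheme) := (W.ι ≫ f).isCompact_preimage this
    have h3 := h2.image W.ι.continuous
    have h4 : W.ι '' ((W.ι ≫ f) ⁻¹' (V : Set S)) = (W' : Set X) := by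
      show W.ι '' (W.ι ⁻¹' (f ⁻¹' (V : Set S))) = _
      rw [Set.image_preimage_eq_inter_range, Scheme.Opens.range_ι, Set.inter_comm]
      rfl
    exact h4 ▸ h3))
  have hxW' : x ∈ W' := ⟨(connectedComponentIn_subset _ _ hxW).1, hyV⟩
  obtain ⟨x', rfl⟩ := W'.range_ι.ge hxW'
  have hι : ∀ v, V.ι (f' v) = f (W'.ι v) := fun v => by
    rw [← Scheme.Hom.comp_apply, Scheme.Hom.resLE_comp_ι, Scheme.Hom.comp_apply]
  have hgι : ∀ w : W'.toScheme, W'.ι (g' (f' w)) = e (f (W'.ι w)) := fun w => by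
    rw [← Scheme.Hom.comp_apply, Scheme.Hom.resLE_comp_ι, Scheme.Hom.comp_apply, hι]
  have hset : ∀ w : W'.toScheme, W'.ι '' (f' ⁻¹' {f' w}) = (W' : Set X) ∩ f ⁻¹' {f (W'.ι w)} := fun w => by
    refine Set.Subset.antisymm ?_ ?_
    · rintro _ ⟨v, hv, rfl⟩
      exact ⟨W'.range_ι.le (Set.mem_range_self v), (hι v).symm.trans ((congrArg V.ι hv).trans (hι w))⟩
    · rintro z ⟨hzW, hz⟩
      obtain ⟨v, rfl⟩ := W'.range_ι.ge hzW
      exact ⟨v, V.ι.isOpenEmbedding.injective ((hι v).trans ((show f (W'.ι v) = f (W'.ι w) from hz).trans (hι w).symm)), rfl⟩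
  have himg : ∀ w : W'.toScheme, (w ∈ connectedComponentIn (f'.base ⁻¹' {f' w}) (g'.base (f' w)) ↔
      W'.ι w ∈ connectedComponentIn ((W' : Set X) ∩ f ⁻¹' {f (W'.ι w)}) (e (f (W'.ι w)))) := fun w => by
    rw [← hgι, ← hset, ← H06SecComp.image_connectedComponentIn_of_isEmbedding W'.ι.isEmbedding
      (show g' (f' w) ∈ f' ⁻¹' {f' w} from H06EGA15.f_g_apply f' g' hg' _), W'.ι.isEmbedding.injective.mem_set_image]
  have hWeq : (W' : Set X) ∩ f ⁻¹' {f (W'.ι x')} = (W : Set X) ∩ f ⁻¹' {f (W'.ι x')} :=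
    Set.Subset.antisymm (fun w hw => ⟨hw.1.1, hw.2⟩)
      (fun w hw => ⟨⟨hw.1, show f w ∈ V from (show f w = f (W'.ι x') from hw.2) ▸ hyV⟩, hw.2⟩)
  have hint := H06SecComp.mem_interior_sectionComponents_fp f' g' hg' (f' x') (fun a _ K _ _ u _ => by
    haveI : Smooth (f'.fiberToSpecResidueField (f' a)) :=
      by unfold Scheme.Hom.fiberToSpecResidueField; infer_instance
    haveI : Smooth (Limits.pullback.snd (f'.fiberToSpecResidueField (f' a)) (Spec.map (CommRingCat.ofHom
        (algebraMap (IsLocalRing.ResidueField (V.toScheme.presheaf.stalk (f' a))) K)))) := inferInstance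
    haveI : IsReduced (FBase.bc (f'.fiberToSpecResidueField (f' a)) K) :=
      H13AlgSp.isReduced_of_smooth_mor (Limits.pullback.snd (f'.fiberToSpecResidueField (f' a)) (Spec.map (CommRingCat.ofHom
        (algebraMap (IsLocalRing.ResidueField (V.toScheme.presheaf.stalk (f' a))) K))))
    infer_instance) ((himg x').mpr (hWeq.symm ▸ hxW))
  rw [← mem_interior_iff_mem_nhds]
  refine interior_maximal (t := W'.ι '' interior (MoreMor.sectionComponents f' g')) ?_
    (W'.ι.isOpenEmbedding.isOpenMap _ isOpen_interior) ⟨x', hint, rfl⟩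
  rintro _ ⟨w, hw, rfl⟩
  exact connectedComponentIn_mono _ Set.inter_subset_right ((himg w).mp (interior_subset (s := MoreMor.sectionComponents f' g') hw))

end Groth.Agent.S15351
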