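import Groth.Statements.S0778
import Groth.Agent.H1WE.Contractible
import Groth.Agent.S0675
import Groth.Agent.S0736
import Groth.Agent.H1CAlg.ZarCover
import Groth.Agent.H1CAlg.IndEtale

set_option autoImplicit false
open CategoryTheory CategoryTheory.Limits AlgebraicGeometry Opposite Topology
universe u
open ProEtW

namespace Groth.Agent.S0778

theorem of_etale_and_indZariski (A : Type u) [CommRing A] (he : ProEtW.HasEtaleRetractions A)
    (hz : ProEtW.HasIndZariskiRetractions A) : EtPBC.IsWContractible A :=
  Groth.Agent.H1WE.isWContractible ((Groth.Agent.S0678.result A).mp hz).1 ((Groth.Agent.S0678.result A).mp hz).2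
    fun m _ => Groth.Agent.S0675.result A he m

theorem etale_and_indZariski (A : Type u) [CommRing A] (h : ProEtW.HasIndEtaleRetractions A) :
    ProEtW.HasEtaleRetractions A ∧ ProEtW.HasIndZariskiRetractions A :=
  ⟨fun B _ _ hff he => by
    haveI := he
    exact h B hff Groth.Agent.H1CAlg.IndEtale.isIndEtale_of_etale,
   fun B _ _ hff hz => h B hff (Groth.Agent.H1CAlg.Zar.isIndEtale_of_isIndZariski hz)⟩

/-- A ring A is w-contractible (retractions for faithfully flat weakly etale algebras) if and only if
every faithfully flat ind-etale A-algebra has an A-algebra retraction. -/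
theorem result (A : Type u) [CommRing A] :
    EtPBC.IsWContractible A ↔ ProEtW.HasIndEtaleRetractions A := by
  refine ⟨fun h B _ _ hff hi => ?_, fun h => ?_⟩
  · exact h B hff (Groth.Agent.S0736.result A B hi)
  · obtain ⟨he, hz⟩ := etale_and_indZariski A h
    exact of_etale_and_indZariski A he hz

end Groth.Agent.S0778
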