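import Groth.Statements.S0677
import Groth.Agent.S0778
import Groth.Agent.H1WE.Contractible
import Groth.Agent.S0675

set_option autoImplicit false
open CategoryTheory CategoryTheory.Limits AlgebraicGeometry Opposite Topology
universe u
open ProEtW

namespace Groth.Agent.S0677

/-- A ring A is w-contractible (every faithfully flat weakly etale A-algebra has a retraction) if and
only if (a) Spec A is w-local, (b) the space of connected components of Spec A is extremally
disconnected, and (c) A_m is strictly henselian for every maximal ideal m. -/
theorem result (A : Type u) [CommRing A] :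
    EtPBC.IsWContractible A ↔
      (ProEtW.IsWLocal (PrimeSpectrum A) ∧
        ExtremallyDisconnected (_root_.ConnectedComponents (PrimeSpectrum A)) ∧
        ∀ (m : Ideal A) [m.IsMaximal], EtCoh.IsStrictlyHenselianLocalRing (Localization.AtPrime m)) := by
  refine ⟨fun h => ?_, fun ⟨h1, h2, h3⟩ => Groth.Agent.H1WE.isWContractible h1 h2 h3⟩
  obtain ⟨he, hz⟩ := Groth.Agent.S0778.etale_and_indZariski A ((Groth.Agent.S0778.result A).mp h)
  obtain ⟨h1, h2⟩ := (Groth.Agent.S0678.result A).mp hz
  exact ⟨h1, h2, fun m _ => Groth.Agent.S0675.result A he m⟩

end Groth.Agent.S0677
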