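import Groth.Statements.S0692
import Groth.Agent.H1CAlg.ZarCover
import Groth.Agent.H1CAlg.ZarFibre
import Groth.Agent.H1CAlg.EtCover
import Groth.Agent.H1CAlg.EtaleRetractions

set_option autoImplicit false
open CategoryTheory CategoryTheory.Limits AlgebraicGeometry Opposite Topology
universe u
open ProEtW

namespace Groth.Agent.S0692

open scoped TensorProduct

theorem exists_point_tensor {A B K : Type u} [CommRing A] [CommRing B] [Algebra A B] [Field K]
    [Algebra A K] (b : PrimeSpectrum B)
    (h : RingHom.ker (algebraMap A K) = b.asIdeal.comap (algebraMap A B)) :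
    ∃ (L : Type u) (_ : Field L) (_ : Algebra A L) (f : K →ₐ[A] L) (g : B →ₐ[A] L),
      RingHom.ker g = b.asIdeal := by
  let p : Ideal A := b.asIdeal.comap (algebraMap A B)
  let F := p.ResidueField
  let Kb := b.asIdeal.ResidueField
  let fK : F →ₐ[A] K := Ideal.ResidueField.liftₐ p (Algebra.ofId A K)
    (fun a ha => show algebraMap A K a = 0 from RingHom.mem_ker.1 (h.symm.le ha))
    (fun a ha => show IsUnit (algebraMap A K a) from
      isUnit_iff_ne_zero.2 fun h0 => ha (h.le (RingHom.mem_ker.2 h0)))
  let fB : F →ₐ[A] Kb := Ideal.ResidueField.mapₐ p b.asIdeal (Algebra.ofId A B) rfl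
  letI : Algebra F K := fK.toRingHom.toAlgebra
  letI : Algebra F Kb := fB.toRingHom.toAlgebra
  haveI : IsScalarTower A F K := IsScalarTower.of_algebraMap_eq fun a => (fK.commutes a).symm
  haveI : IsScalarTower A F Kb := IsScalarTower.of_algebraMap_eq fun a => (fB.commutes a).symm
  obtain ⟨m, hm⟩ := Ideal.exists_maximal (K ⊗[F] Kb)
  letI := Ideal.Quotient.field m
  let q : (K ⊗[F] Kb) →ₐ[A] (K ⊗[F] Kb) ⧸ m := Ideal.Quotient.mkₐ A m
  let g : B →ₐ[A] (K ⊗[F] Kb) ⧸ m :=
    (q.comp ((Algebra.TensorProduct.includeRight : Kb →ₐ[F] K ⊗[F] Kb).restrictScalars A)).comp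
      (IsScalarTower.toAlgHom A B Kb)
  refine ⟨(K ⊗[F] Kb) ⧸ m, inferInstance, inferInstance,
    q.comp ((Algebra.TensorProduct.includeLeft : K →ₐ[F] K ⊗[F] Kb).restrictScalars A), g, ?_⟩
  let r : Kb →ₐ[A] (K ⊗[F] Kb) ⧸ m :=
    q.comp ((Algebra.TensorProduct.includeRight : Kb →ₐ[F] K ⊗[F] Kb).restrictScalars A)
  refine (Ideal.ext fun x => ?_).trans (Ideal.ker_algebraMap_residueField b.asIdeal)
  show r (algebraMap B Kb x) = 0 ↔ algebraMap B Kb x = 0
  exact map_eq_zero r

theorem isField_of_isAlgebraic_generators {A B F L : Type u} [CommRing A] [CommRing B] [Field F]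
    [CommRing L] [IsDomain L] [Algebra A F] [Algebra A L] [Algebra F L] [IsScalarTower A F L]
    [Algebra A B] (g : B →ₐ[A] L)
    (hgen : ∀ z : L, z ∈ Subring.closure (Set.range (algebraMap F L) ∪ Set.range g))
    (halg : ∀ b : B, ∃ P : Polynomial A,
      P.map (algebraMap A F) ≠ 0 ∧ Polynomial.aeval (g b) P = 0) :
    IsField L := by
  let T : Subring L := (integralClosure F L).toSubring
  have h1 : Set.range (algebraMap F L) ∪ Set.range g ⊆ T := by
    rintro z (⟨c, rfl⟩ | ⟨b, rfl⟩)
    · exact isIntegral_algebraMap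
    · obtain ⟨P, hP0, hP⟩ := halg b
      exact IsAlgebraic.isIntegral ⟨P.map (algebraMap A F), hP0, by
        rw [Polynomial.aeval_map_algebraMap, hP]⟩
  haveI : Algebra.IsIntegral F L := ⟨fun z => Subring.closure_le.2 h1 (hgen z)⟩
  exact isField_of_isIntegral_of_isField' (Field.toIsField F)

/-- Let A -> B induce algebraic residue field extensions. Then one can find faithfully flat ind-etale
extensions C of A and D of B, with D a C-algebra compatibly, such that: Spec C and Spec D are
w-local; Spec D -> Spec C is w-local; the closed points of Spec D are exactly the points over closed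
points of Spec C; the closed points of Spec C map onto Spec A and those of Spec D onto Spec B; and
C_m is strictly henselian for every maximal ideal m of C. -/
theorem result (A B : Type u) [CommRing A] [CommRing B] [Algebra A B]
    (h : ProEtW.AlgebraicResidueExtensions A B) :
    ∃ (C D : Type u) (_ : CommRing C) (_ : CommRing D) (_ : Algebra A C) (_ : Algebra B D)
      (_ : Algebra C D) (_ : Algebra A D) (_ : IsScalarTower A C D) (_ : IsScalarTower A B D),
      Module.FaithfullyFlat A C ∧ EtPBC.IsIndEtale A C ∧ Module.FaithfullyFlat B D ∧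
      EtPBC.IsIndEtale B D ∧ ProEtW.IsWLocal (PrimeSpectrum C) ∧ ProEtW.IsWLocal (PrimeSpectrum D) ∧
      ProEtW.IsWLocalMap (PrimeSpectrum.comap (algebraMap C D)) ∧
      ProEtW.closedPoints (PrimeSpectrum D) =
        PrimeSpectrum.comap (algebraMap C D) ⁻¹' ProEtW.closedPoints (PrimeSpectrum C) ∧
      PrimeSpectrum.comap (algebraMap A C) '' ProEtW.closedPoints (PrimeSpectrum C) = Set.univ ∧
      PrimeSpectrum.comap (algebraMap B D) '' ProEtW.closedPoints (PrimeSpectrum D) = Set.univ ∧
      ∀ (m : Ideal C) [m.IsMaximal], EtCoh.IsStrictlyHenselianLocalRing (Localization.AtPrime m) := by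
  classical
  -- the cover of `A`
  let K : PrimeSpectrum A → Type u := fun p => AlgebraicClosure p.asIdeal.ResidueField
  obtain ⟨C, _, _, π, hC⟩ := H9Hens.exists_isPtColim (A := A) (k := ∀ p, K p)
  have hSC := H1CAlg.Zar.split_of_isPtColim hC fun x => H1CAlg.Zar.exists_unit_idem_pi K (π x)
  have hkerK : ∀ p : PrimeSpectrum A, RingHom.ker (algebraMap A (K p)) = p.asIdeal := fun p => by
    rw [IsScalarTower.algebraMap_eq A p.asIdeal.ResidueField (K p), RingHom.ker_comp_of_injective _
      (algebraMap p.asIdeal.ResidueField (K p)).injective]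
    exact Ideal.ker_algebraMap_residueField _
  have himC := H1CAlg.Zar.image_closedPoints_eq_univ π hSC fun p => ⟨p, hkerK p⟩
  haveI : Module.Flat A C := hC.flat
  -- the base change to `B` and its w-localisation
  let B' := B ⊗[A] C
  let iC : C →ₐ[A] B' := Algebra.TensorProduct.includeRight
  let J : Ideal B' := (RingHom.ker π).map iC.toRingHom
  let K' : PrimeSpectrum.zeroLocus (J : Set B') → Type u := fun q => q.1.asIdeal.ResidueField
  obtain ⟨D, _, _, π', hD⟩ := H1CAlg.Zar.exists_isZarColim (A := B') (k := ∀ q, K' q)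
  have hSD := hD.split fun x => H1CAlg.Zar.exists_unit_idem_pi K' (π' x)
  letI : Algebra C D := ((algebraMap B' D).comp iC.toRingHom).toAlgebra
  letI : Algebra B D := ((algebraMap B' D).comp (algebraMap B B')).toAlgebra
  letI : Algebra A D := ((algebraMap B D).comp (algebraMap A B)).toAlgebra
  haveI : IsScalarTower A B D := IsScalarTower.of_algebraMap_eq fun _ => rfl
  haveI : IsScalarTower B B' D := IsScalarTower.of_algebraMap_eq fun _ => rfl
  haveI : IsScalarTower A C D := IsScalarTower.of_algebraMap_eq fun a => by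
    show algebraMap B' D (algebraMap A B a ⊗ₜ 1) = algebraMap B' D (iC (algebraMap A C a))
    rw [iC.commutes, Algebra.TensorProduct.algebraMap_apply]
  have hBD : EtPBC.IsIndEtale B D :=
    H1CAlg.IndEtale.isIndEtale_trans (H1CAlg.IndEtale.isIndEtale_baseChange B hC.isIndEtale)
      (H1CAlg.Zar.isIndEtale_of_isIndZariski hD.isIndZariski)
  haveI : Module.Flat B D := H1CAlg.IndEtale.flat_of_isIndEtale hBD
  -- the primes of `B'` over closed points of `C` are maximal
  have hmax : ∀ (q : Ideal B') [q.IsPrime], J ≤ q → q.IsMaximal := fun q _ hq => by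
    haveI : (q.comap iC.toRingHom).IsPrime := Ideal.comap_isPrime _ _
    have hmC : (q.comap iC.toRingHom).IsMaximal :=
      hSC.isMaximal_of_le (Ideal.map_le_iff_le_comap.1 hq)
    let m := q.comap iC.toRingHom
    letI := Ideal.Quotient.field m
    letI : Algebra (C ⧸ m) (B' ⧸ q) := (Ideal.quotientMap q iC.toRingHom le_rfl).toAlgebra
    haveI : IsScalarTower A (C ⧸ m) (B' ⧸ q) := IsScalarTower.of_algebraMap_eq fun a => by
      show _ = Ideal.Quotient.mk q (iC (algebraMap A C a))
      rw [iC.commutes]
      rfl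
    let g : B →ₐ[A] B' ⧸ q :=
      (Ideal.Quotient.mkₐ A q).comp Algebra.TensorProduct.includeLeft
    rw [Ideal.Quotient.maximal_ideal_iff_isField_quotient]
    refine isField_of_isAlgebraic_generators g (fun z => ?_) (fun b => ?_) (F := C ⧸ m)
    · obtain ⟨z, rfl⟩ := Ideal.Quotient.mk_surjective z
      induction z using TensorProduct.induction_on with
      | zero => rw [map_zero]; exact Subring.zero_mem _
      | add x y hx hy => rw [map_add]; exact Subring.add_mem _ hx hy
      | tmul b c =>
        have h1 : (b ⊗ₜ[A] c : B') = (b ⊗ₜ 1) * iC c := by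
          show _ = (b ⊗ₜ[A] (1 : C)) * ((1 : B) ⊗ₜ[A] c)
          rw [Algebra.TensorProduct.tmul_mul_tmul, mul_one, one_mul]
        rw [h1, map_mul]
        exact Subring.mul_mem _ (Subring.subset_closure (Or.inr ⟨b, rfl⟩))
          (Subring.subset_closure (Or.inl ⟨Ideal.Quotient.mk m c, rfl⟩))
    · haveI : (RingHom.ker g).IsPrime := RingHom.ker_isPrime _
      obtain ⟨P, hP0, hP⟩ :=
        (h (RingHom.ker g)).isAlgebraic (Ideal.Quotient.mk (RingHom.ker g) b)
      obtain ⟨Q, rfl⟩ := Polynomial.map_surjective (Ideal.Quotient.mk _) Ideal.Quotient.mk_surjective P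
      refine ⟨Q, fun h0 => hP0 (Polynomial.ext fun n => ?_), ?_⟩
      · rw [Polynomial.coeff_map, Polynomial.coeff_zero, Ideal.Quotient.eq_zero_iff_mem, Ideal.mem_comap,
          RingHom.mem_ker, g.commutes, IsScalarTower.algebraMap_apply A (C ⧸ m) (B' ⧸ q)]
        have h1 := congrArg (Polynomial.coeff · n) h0
        simp only [Polynomial.coeff_map, Polynomial.coeff_zero] at h1
        rw [h1, map_zero]
      · have h2 : Polynomial.aeval (Ideal.Quotient.mk (RingHom.ker g) b) Q = 0 := by
          rw [Polynomial.aeval_def, Polynomial.eval₂_map] at hP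
          rw [Polynomial.aeval_def]
          exact hP
        rw [show Ideal.Quotient.mk (RingHom.ker g) b = Ideal.Quotient.mkₐ A (RingHom.ker g) b from rfl,
          Polynomial.aeval_algHom_apply, Ideal.Quotient.mkₐ_eq_mk, Ideal.Quotient.eq_zero_iff_mem] at h2
        rw [Polynomial.aeval_algHom_apply]
        exact h2
  have hJD : ∀ d ∈ RingHom.ker π, algebraMap C D d ∈ RingHom.ker π' := fun d hd => by
    show π' (algebraMap B' D (iC d)) = 0
    rw [π'.commutes]
    funext q
    show algebraMap B' (K' q) (iC d) = 0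
    rw [← RingHom.mem_ker, Ideal.ker_algebraMap_residueField]
    exact q.2 (Ideal.mem_map_of_mem iC.toRingHom hd)
  -- closed points of `D` are exactly the points over closed points of `C`
  have hcl : ProEtW.closedPoints (PrimeSpectrum D) =
      PrimeSpectrum.comap (algebraMap C D) ⁻¹' ProEtW.closedPoints (PrimeSpectrum C) := by
    rw [hSD.closedPoints_eq, hSC.closedPoints_eq]
    ext x
    constructor
    · exact fun hx d hd => hx (hJD d hd)
    · intro hx
      have hq : J ≤ x.asIdeal.comap (algebraMap B' D) :=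
        Ideal.map_le_iff_le_comap.2 fun d hd => hx hd
      obtain ⟨m, hm, hle⟩ := Ideal.exists_le_maximal x.asIdeal x.isPrime.ne_top
      haveI := hm.isPrime
      have h1 : x.asIdeal.comap (algebraMap B' D) = m.comap (algebraMap B' D) :=
        (hmax _ hq).eq_of_le (Ideal.comap_ne_top _ hm.ne_top) (Ideal.comap_mono hle)
      rw [PrimeSpectrum.mem_zeroLocus, SetLike.coe_subset_coe,
        H1CAlg.Zar.eq_of_le_of_comap_eq hD hle h1]
      exact hSD.le_of_isMaximal hm
  have himD : PrimeSpectrum.comap (algebraMap B D) '' ProEtW.closedPoints (PrimeSpectrum D) =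
      Set.univ := by
    rw [Set.eq_univ_iff_forall]
    intro b
    let p : PrimeSpectrum A := PrimeSpectrum.comap (algebraMap A B) b
    letI : Algebra C (K p) := ((Pi.evalAlgHom A K p).comp π).toRingHom.toAlgebra
    obtain ⟨L, _, _, f, g, hg⟩ := exists_point_tensor (K := K p) b (hkerK p)
    let Φ : B' →ₐ[A] L := Algebra.TensorProduct.lift g (f.comp ((Pi.evalAlgHom A K p).comp π))
      fun _ _ => Commute.all _ _
    let q : PrimeSpectrum.zeroLocus (J : Set B') :=
      ⟨⟨RingHom.ker Φ, RingHom.ker_isPrime _⟩, by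
        show (J : Set B') ⊆ RingHom.ker Φ
        refine SetLike.coe_subset_coe.2 (Ideal.map_le_iff_le_comap.2 fun d hd => ?_)
        show Φ (1 ⊗ₜ d) = 0
        have h0 : π d p = 0 := by rw [show π d = 0 from hd]; rfl
        show g 1 * (f.comp ((Pi.evalAlgHom A K p).comp π)) d = 0
        show g 1 * f (π d p) = 0
        rw [h0, map_zero, mul_zero]⟩
    refine ⟨(H1CAlg.Zar.pointOf π' q).1,
      by rw [hSD.closedPoints_eq]; exact (H1CAlg.Zar.pointOf π' q).2, PrimeSpectrum.ext ?_⟩
    refine (Ideal.ext fun y => ?_).trans hg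
    show π' (algebraMap B' D (algebraMap B B' y)) q = 0 ↔ g y = 0
    rw [π'.commutes]
    show algebraMap B' (K' q) (algebraMap B B' y) = 0 ↔ g y = 0
    rw [← RingHom.mem_ker, Ideal.ker_algebraMap_residueField]
    show Φ (y ⊗ₜ 1) = 0 ↔ g y = 0
    show g y * (f.comp ((Pi.evalAlgHom A K p).comp π)) 1 = 0 ↔ g y = 0
    rw [map_one, mul_one]
  refine ⟨C, D, inferInstance, inferInstance, inferInstance, inferInstance, inferInstance,
    inferInstance, inferInstance, inferInstance,
    H1CAlg.Zar.faithfullyFlat_of_image_closedPoints himC, hC.isIndEtale,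
    H1CAlg.Zar.faithfullyFlat_of_image_closedPoints himD, hBD, hSC.isWLocal, hSD.isWLocal,
    ⟨H1CAlg.Zar.isSpectralMap_comap _, fun x hx => ?_⟩, hcl, himC, himD, fun m _ => ?_⟩
  · exact Set.mem_preimage.1 (hcl ▸ hx : x ∈ PrimeSpectrum.comap (algebraMap C D) ⁻¹'
      ProEtW.closedPoints (PrimeSpectrum C))
  · exact H1CAlg.EtaleRetr.isStrictlyHenselianLocalRing
      (H1CAlg.EtCover.hasEtaleRetractions_of_geomPoints hC) m

end Groth.Agent.S0692
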