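import Groth.Statements.S0750
import Groth.Agent.S0678
import Groth.Agent.S0692
import Mathlib.RingTheory.QuasiFinite.Basic
import Mathlib.FieldTheory.PurelyInseparable.Basic
import Mathlib.RingTheory.Kaehler.Basic
import Mathlib.RingTheory.Spectrum.Prime.Chevalley

set_option autoImplicit false
open CategoryTheory CategoryTheory.Limits AlgebraicGeometry Opposite Topology
universe u
open ProEtW

namespace Groth.Agent.S0750

open scoped TensorProduct
open Groth.Agent

theorem isClopen_of_isConstructible {X : Type u} [TopologicalSpace X] [CompactSpace X] [T2Space X]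
    {s : Set X} (hs : Topology.IsConstructible s) : IsClopen s := by
  induction hs using Topology.IsConstructible.empty_union_induction with
  | open_retrocompact U hUo hUc => exact ⟨hUc.isCompact.isClosed, hUo⟩
  | union s _ t _ hs ht => exact hs.union ht
  | compl s _ hs => exact hs.compl

theorem sub_mem_of_isSepClosed {A B : Type u} [CommRing A] [CommRing B] [Algebra A B]
    [Algebra.QuasiFinite A B]
    (hres : ∀ p : PrimeSpectrum A, IsSepClosed p.asIdeal.ResidueField)
    (P : Ideal (B ⊗[A] B)) [P.IsPrime]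
    (hP : P.comap (Algebra.TensorProduct.includeLeft : B →ₐ[A] B ⊗[A] B) =
      P.comap (Algebra.TensorProduct.includeRight : B →ₐ[A] B ⊗[A] B)) (b : B) :
    (1 : B) ⊗ₜ[A] b - b ⊗ₜ 1 ∈ P := by
  let iL : B →ₐ[A] B ⊗[A] B := Algebra.TensorProduct.includeLeft
  let iR : B →ₐ[A] B ⊗[A] B := Algebra.TensorProduct.includeRight
  let q : Ideal B := P.comap iL
  haveI : q.IsPrime := Ideal.comap_isPrime iL P
  let p : Ideal A := q.comap (algebraMap A B)
  haveI : q.LiesOver p := ⟨rfl⟩
  haveI := hres ⟨p, inferInstance⟩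
  let F := p.ResidueField
  let E := q.ResidueField
  letI : Algebra F E := (Ideal.ResidueField.mapₐ p q (Algebra.ofId A B) rfl).toRingHom.toAlgebra
  haveI : IsScalarTower A F E := IsScalarTower.of_algebraMap_eq fun a =>
    ((Ideal.ResidueField.mapₐ p q (Algebra.ofId A B) rfl).commutes a).symm
  haveI : Algebra.QuasiFinite A E := inferInstance
  haveI : Algebra.QuasiFinite F E := Algebra.QuasiFinite.of_restrictScalars A F E
  haveI : Module.Finite F E := Module.Finite.of_quasiFinite
  haveI : IsPurelyInseparable F E := inferInstance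
  let L := P.ResidueField
  let ψ : ∀ i : B →ₐ[A] B ⊗[A] B, P.comap i = q → (E →ₐ[A] L) := fun i hi =>
    Ideal.ResidueField.mapₐ q P i hi.symm
  have heq : ψ iL rfl = ψ iR hP.symm := by
    refine AlgHom.coe_ringHom_injective ?_
    refine IsPurelyInseparable.injective_comp_algebraMap F E L ?_
    refine Ideal.ResidueField.ringHom_ext (RingHom.ext fun a => ?_)
    show ψ iL rfl (algebraMap F E (algebraMap A F a)) = ψ iR hP.symm (algebraMap F E (algebraMap A F a))
    rw [← IsScalarTower.algebraMap_apply, AlgHom.commutes, AlgHom.commutes]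
  have h1 := DFunLike.congr_fun heq (algebraMap B E b)
  rw [show ψ iL rfl (algebraMap B E b) = algebraMap (B ⊗[A] B) L (iL b) from
      Ideal.ResidueField.map_algebraMap q P iL.toRingHom rfl b,
    show ψ iR hP.symm (algebraMap B E b) = algebraMap (B ⊗[A] B) L (iR b) from
      Ideal.ResidueField.map_algebraMap q P iR.toRingHom hP b] at h1
  rw [← Ideal.ker_algebraMap_residueField P, RingHom.mem_ker, map_sub, sub_eq_zero]
  exact h1.symm

/-- Let A -> B be quasi-finite and of finite presentation. Suppose all residue fields of A (at every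
prime) are separably closed, and Spec A is a Hausdorff, extremally disconnected space. Then Spec B
is also extremally disconnected. -/
theorem result (A B : Type u) [CommRing A]
    [CommRing B] [Algebra A B] [Algebra.QuasiFinite A B] [Algebra.FinitePresentation A B]
    (hres : ∀ p : PrimeSpectrum A, IsSepClosed p.asIdeal.ResidueField)
    [T2Space (PrimeSpectrum A)] [ExtremallyDisconnected (PrimeSpectrum A)] :
    ExtremallyDisconnected (PrimeSpectrum B) := by
  classical
  have hmaxA : ∀ p : Ideal A, p.IsPrime → p.IsMaximal := fun p hp =>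
    (PrimeSpectrum.isClosed_singleton_iff_isMaximal ⟨p, hp⟩).1 isClosed_singleton
  have hmaxB : ∀ (C : Type u) [CommRing C] [Algebra A C] [Algebra.QuasiFinite A C],
      ∀ q : Ideal C, q.IsPrime → q.IsMaximal := by
    intro C _ _ _ q hq
    obtain ⟨n, hn, hle⟩ := Ideal.exists_le_maximal q hq.ne_top
    haveI := hn.isPrime
    rw [Algebra.QuasiFinite.eq_of_le_of_under_eq (R := A) q n hle
      ((hmaxA _ inferInstance).eq_of_le (Ideal.comap_ne_top _ hn.ne_top) (Ideal.comap_mono hle))]
    exact hn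
  haveI : Algebra.QuasiFinite A (B ⊗[A] B) := Algebra.QuasiFinite.trans A B (B ⊗[A] B)
  haveI : T2Space (PrimeSpectrum B) := S0678.t2Space_of_isMaximal (hmaxB B)
  haveI : T2Space (PrimeSpectrum (B ⊗[A] B)) := S0678.t2Space_of_isMaximal (hmaxB (B ⊗[A] B))
  let f := PrimeSpectrum.comap (algebraMap A B)
  have hf : Continuous f := PrimeSpectrum.continuous_comap _
  -- images of basic opens are clopen
  have hopen : IsOpenMap f := by
    rw [PrimeSpectrum.isBasis_basic_opens.isOpenMap_iff]
    rintro _ ⟨_, ⟨b, rfl⟩, rfl⟩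
    exact (isClopen_of_isConstructible (PrimeSpectrum.isConstructible_comap_image
      (RingHom.finitePresentation_algebraMap.mpr inferInstance)
      PrimeSpectrum.isConstructible_basicOpen)).isOpen
  -- the map is locally injective
  let iL : B →ₐ[A] B ⊗[A] B := Algebra.TensorProduct.includeLeft
  let iR : B →ₐ[A] B ⊗[A] B := Algebra.TensorProduct.includeRight
  let Z : Set (PrimeSpectrum (B ⊗[A] B)) :=
    PrimeSpectrum.zeroLocus (KaehlerDifferential.ideal A B : Set (B ⊗[A] B))
  have hZ : IsOpen Z := by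
    obtain ⟨s, hs⟩ := KaehlerDifferential.ideal_fg A B
    have h1 := (PrimeSpectrum.isCompact_isOpen_iff.2 ⟨s, rfl⟩).1.isClosed.isOpen_compl
    rw [compl_compl, ← PrimeSpectrum.zeroLocus_span] at h1
    show IsOpen (PrimeSpectrum.zeroLocus (KaehlerDifferential.ideal A B : Set (B ⊗[A] B)))
    rwa [← hs]
  let Φ : PrimeSpectrum (B ⊗[A] B) → PrimeSpectrum B × PrimeSpectrum B := fun P =>
    (PrimeSpectrum.comap iL.toRingHom P, PrimeSpectrum.comap iR.toRingHom P)
  have hΦ : Continuous Φ :=
    (PrimeSpectrum.continuous_comap _).prodMk (PrimeSpectrum.continuous_comap _)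
  have hC : IsClosed (Φ '' Zᶜ) := (hZ.isClosed_compl.isCompact.image hΦ).isClosed
  have hloc : ∀ q : PrimeSpectrum B, ∃ U, IsClopen U ∧ q ∈ U ∧ Set.InjOn f U := by
    intro q
    have hq : (q, q) ∉ Φ '' Zᶜ := by
      rintro ⟨P, hPZ, hPq⟩
      refine hPZ ?_
      simp only [Φ, Prod.mk.injEq] at hPq
      have h1 : P.asIdeal.comap iL = P.asIdeal.comap iR :=
        congrArg PrimeSpectrum.asIdeal (hPq.1.trans hPq.2.symm)
      show (KaehlerDifferential.ideal A B : Set (B ⊗[A] B)) ⊆ P.asIdeal
      rw [SetLike.coe_subset_coe, ← KaehlerDifferential.span_range_eq_ideal, Ideal.span_le]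
      rintro _ ⟨b, rfl⟩
      exact sub_mem_of_isSepClosed hres P.asIdeal h1 b
    obtain ⟨U₁, U₂, hU₁, hU₂, hq₁, hq₂, hsub⟩ := isOpen_prod_iff.1 hC.isOpen_compl q q hq
    obtain ⟨_, ⟨b, rfl⟩, hqb, hbU⟩ := PrimeSpectrum.isTopologicalBasis_basic_opens.exists_subset_of_mem_open
      (show q ∈ U₁ ∩ U₂ from ⟨hq₁, hq₂⟩) (hU₁.inter hU₂)
    refine ⟨_, ⟨(PrimeSpectrum.isCompact_basicOpen b).isClosed, (PrimeSpectrum.basicOpen b).isOpen⟩,
      hqb, fun q₁ h₁ q₂ h₂ h12 => ?_⟩
    by_contra hne
    have h12' : q₂.asIdeal.comap (algebraMap A B) = q₁.asIdeal.comap (algebraMap A B) :=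
      (congrArg PrimeSpectrum.asIdeal h12).symm
    obtain ⟨L, _, _, g₁, g₂, hg₂⟩ := S0692.exists_point_tensor (K := q₁.asIdeal.ResidueField) q₂
      (by rw [IsScalarTower.algebraMap_eq A B q₁.asIdeal.ResidueField, ← RingHom.comap_ker,
        Ideal.ker_algebraMap_residueField, h12'])
    let ψ : B ⊗[A] B →ₐ[A] L := Algebra.TensorProduct.lift
      (g₁.comp (IsScalarTower.toAlgHom A B q₁.asIdeal.ResidueField)) g₂ fun _ _ => Commute.all _ _
    let P : PrimeSpectrum (B ⊗[A] B) := ⟨RingHom.ker ψ, RingHom.ker_isPrime _⟩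
    have hP₁ : PrimeSpectrum.comap iL.toRingHom P = q₁ := by
      refine PrimeSpectrum.ext ((Ideal.ext fun x => ?_).trans (Ideal.ker_algebraMap_residueField q₁.asIdeal))
      show ψ (x ⊗ₜ 1) = 0 ↔ algebraMap B q₁.asIdeal.ResidueField x = 0
      simp only [ψ, Algebra.TensorProduct.lift_tmul, map_one, mul_one, AlgHom.comp_apply]
      exact map_eq_zero g₁
    have hP₂ : PrimeSpectrum.comap iR.toRingHom P = q₂ := by
      refine PrimeSpectrum.ext ((Ideal.ext fun x => ?_).trans hg₂)
      show ψ (1 ⊗ₜ x) = 0 ↔ g₂ x = 0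
      simp only [ψ, Algebra.TensorProduct.lift_tmul, map_one, one_mul]
    have hPZ : P ∉ Z := fun hPZ => hne (by
      rw [← hP₁, ← hP₂]
      refine PrimeSpectrum.ext (Ideal.ext fun x => ?_)
      have h3 : iR x - iL x ∈ P.asIdeal := hPZ (KaehlerDifferential.one_smul_sub_smul_one_mem_ideal A x)
      show iL x ∈ P.asIdeal ↔ iR x ∈ P.asIdeal
      exact ⟨fun h => by simpa using P.asIdeal.add_mem h3 h, fun h => by simpa using P.asIdeal.sub_mem h h3⟩)
    exact hsub (show (q₁, q₂) ∈ U₁ ×ˢ U₂ from ⟨(hbU h₁).1, (hbU h₂).2⟩)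
      ⟨P, hPZ, Prod.ext hP₁ hP₂⟩
  refine ⟨fun W hW => isOpen_iff_forall_mem_open.2 fun x hx => ?_⟩
  obtain ⟨U, hU, hxU, hinj⟩ := hloc x
  have hopenV : IsOpen (closure (f '' (W ∩ U))) :=
    ExtremallyDisconnected.open_closure _ (hopen _ (hW.inter hU.isOpen))
  refine ⟨U ∩ f ⁻¹' closure (f '' (W ∩ U)), ?_, hU.isOpen.inter (hopenV.preimage hf), hxU, ?_⟩
  · rintro y ⟨hyU, hy⟩
    have h1 : closure (f '' (W ∩ U)) ⊆ f '' closure (W ∩ U) :=
      closure_minimal (Set.image_mono subset_closure) (isClosed_closure.isCompact.image hf).isClosed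
    obtain ⟨y', hy', hyy⟩ := h1 hy
    have hy'U : y' ∈ U := closure_minimal Set.inter_subset_right hU.isClosed hy'
    exact closure_mono Set.inter_subset_left (hinj hy'U hyU hyy ▸ hy')
  · have h2 : x ∈ closure (W ∩ U) := by
      rw [Set.inter_comm]
      exact hU.isOpen.inter_closure ⟨hxU, hx⟩
    exact image_closure_subset_closure_image hf ⟨x, h2, rfl⟩

end Groth.Agent.S0750
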