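import Groth.Statements.S0722
import Groth.Agent.H1WE.PushExact
import Groth.Agent.H1WE.QuotientWC
import Groth.Agent.H24Algz.NisCover
import Groth.Agent.H12AlgSp.EtaleLocal

set_option autoImplicit false
open CategoryTheory CategoryTheory.Limits AlgebraicGeometry Opposite
universe u
open ProEtS

namespace Groth.Agent.S0722

theorem range_comap_appTop {P T : Scheme.{u}} [IsAffine P] [IsAffine T] (g : P ⟶ T) :
    Set.range (PrimeSpectrum.comap g.appTop.hom) = T.isoSpec.inv ⁻¹' Set.range g := by
  have hnat : P.isoSpec.hom ≫ Spec.map g.appTop = g ≫ T.isoSpec.hom := Scheme.isoSpec_hom_naturality g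
  ext x
  constructor
  · rintro ⟨y, rfl⟩
    refine ⟨P.isoSpec.inv y, ?_⟩
    show g (P.isoSpec.inv y) = T.isoSpec.inv (Spec.map g.appTop y)
    rw [← Scheme.Hom.comp_apply, ← Scheme.Hom.comp_apply]
    have h5 : P.isoSpec.inv ≫ g = Spec.map g.appTop ≫ T.isoSpec.inv := by
      rw [← cancel_mono T.isoSpec.hom, Category.assoc, Category.assoc, ← hnat, Iso.inv_hom_id_assoc,
        Iso.inv_hom_id, Category.comp_id]
    rw [h5]
  · rintro ⟨w, hw⟩
    refine ⟨P.isoSpec.hom w, ?_⟩
    show Spec.map g.appTop (P.isoSpec.hom w) = x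
    rw [← Scheme.Hom.comp_apply, hnat, Scheme.Hom.comp_apply, hw, ← Scheme.Hom.comp_apply, Iso.inv_hom_id]
    rfl

theorem isWContractible_of_closedImmersion {P T : Scheme.{u}} [IsAffine P] [IsAffine T] (g : P ⟶ T)
    [IsClosedImmersion g] (hT : EtPBC.IsWContractible Γ(T, ⊤))
    (hc : Topology.IsLocallyConstructible (Set.range g)ᶜ) (ho : IsOpen (Set.range g)ᶜ) :
    EtPBC.IsWContractible Γ(P, ⊤) := by
  have hφ : Function.Surjective g.appTop.hom := (IsClosedImmersion.isAffine_surjective_of_isAffine g).2
  have hcpt : IsCompact (Set.range (PrimeSpectrum.comap g.appTop.hom))ᶜ := by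
    rw [range_comap_appTop]
    exact H24Algz.isCompact_of_isConstructible (X := Spec Γ(T, ⊤))
      (H12AlgSp.isLocallyConstructible_preimage T.isoSpec.inv hc).isConstructible
  have hopen : IsOpen (Set.range (PrimeSpectrum.comap g.appTop.hom))ᶜ := by
    rw [range_comap_appTop]
    exact ho.preimage T.isoSpec.inv.continuous
  obtain ⟨E, hE⟩ := PrimeSpectrum.isCompact_isOpen_iff.1 ⟨hcpt, hopen⟩
  refine Groth.Agent.S7286.isWContractible_of_ringEquiv (RingHom.quotientKerEquivOfSurjective hφ)
    (H1WE.isWContractible_quotient hT (RingHom.ker g.appTop.hom) E ?_)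
  rw [compl_inj_iff.1 hE, range_comap_of_surjective _ _ hφ]

/-- Let i : Z -> X be a closed immersion such that the complement of i(Z) is a retrocompact open subset
of X. Then i_{proet,*} on abelian sheaves is exact (continuity of base change assumed as a binder). -/
theorem result {Z X : Scheme.{u}} (i : Z ⟶ X)
    [IsClosedImmersion i] (hr : IsRetrocompact (Set.range i.base)ᶜ) [ProEtS.PCont i] :
    PreservesFiniteLimits (ProEtS.pushP i) ∧ PreservesFiniteColimits (ProEtS.pushP i) := by
  refine H1WE.pushP_exact i fun V hV hwc => ?_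
  haveI := hV
  haveI : IsAffine ((𝟭 Scheme).obj V.left) := hV
  let g := pullback.fst V.hom i
  haveI : IsClosedImmersion g := MorphismProperty.pullback_fst _ _ inferInstance
  haveI : IsAffine (pullback V.hom i) := isAffine_of_isAffineHom g
  haveI hAff : IsAffine ((ProEtS.bcP i).obj V).left := inferInstanceAs (IsAffine (pullback V.hom i))
  refine H26ProEt.isWC_of_refines (H26ProEt.refines_of_splits (H26ProEt.splits_iff.1 ?_))
  show EtPBC.IsWContractible Γ(pullback V.hom i, ⊤)
  have hrange : (Set.range g)ᶜ = V.hom ⁻¹' (Set.range i.base)ᶜ := by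
    rw [Set.preimage_compl]
    exact congrArg compl (Scheme.Pullback.range_fst V.hom i)
  have hopen : IsOpen (Set.range i.base)ᶜ := i.isClosedEmbedding.isClosed_range.isOpen_compl
  refine isWContractible_of_closedImmersion g hwc ?_ ?_
  · rw [hrange]
    exact H12AlgSp.isLocallyConstructible_preimage V.hom (hr.isConstructible hopen).isLocallyConstructible
  · rw [hrange]
    exact hopen.preimage V.hom.continuous

end Groth.Agent.S0722
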