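import Groth.Statements.S0714
import Groth.Agent.H1WE.ProEtCover

set_option autoImplicit false
open CategoryTheory CategoryTheory.Limits AlgebraicGeometry Opposite
universe u
open ProEtS

namespace Groth.Agent.S0714

/-- In the small pro-étale site X_proét of a scheme X, every object U whose underlying scheme is
quasi-compact admits a covering {V → U} by a single object V which is affine and weakly
contractible. -/
theorem result {X : Scheme.{u}} (U : X.ProEt)
    [CompactSpace ↥U.left] :
    ∃ (V : X.ProEt) (g : V ⟶ U),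
      Sieve.generate (Presieve.singleton g) ∈ Scheme.ProEt.topology X U ∧ IsAffine V.left ∧
        ProEtS.IsWC V := by
  have key : ∀ x : U.left, ∃ V : U.left.Opens, IsAffineOpen V ∧ x ∈ V := fun x => by
    obtain ⟨V, hV, hxV, -⟩ := TopologicalSpace.Opens.isBasis_iff_nbhd.1 U.left.isBasis_affineOpens
      (TopologicalSpace.Opens.mem_top x)
    exact ⟨V, hV, hxV⟩
  choose O hO using key
  obtain ⟨t, ht⟩ := isCompact_univ.elim_finite_subcover (fun x => (O x : Set U.left)) (fun x => (O x).isOpen)
    (fun x _ => Set.mem_iUnion.2 ⟨x, (hO x).2⟩)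
  obtain ⟨P, g, h1, h2, h3⟩ := H1WE.exists_wc_cover U (fun i : t => O i.1) (fun i => (hO i.1).1) fun x => by
    obtain ⟨i, hi, hx⟩ := Set.mem_iUnion₂.1 (ht (Set.mem_univ x))
    exact ⟨⟨i, hi⟩, hx⟩
  exact ⟨P, g, h1, h3 inferInstance, h2⟩

end Groth.Agent.S0714
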