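import Groth.Statements.S0732
import Groth.Agent.H26ProEt.FiniteCover
import Mathlib.AlgebraicGeometry.Morphisms.UniversallyOpen
import Mathlib.CategoryTheory.Sites.LocallySurjective
import Mathlib.CategoryTheory.Functor.KanExtension.Adjunction

set_option autoImplicit false
open CategoryTheory CategoryTheory.Limits AlgebraicGeometry Opposite
universe u
open ProEtS

namespace Groth.Agent.S0732

/-- Let j : U -> X be weakly etale and i : Z -> X a closed immersion with U x_X Z empty. Let V be an
affine object of X_proet in which each point has some specialization lying over Z. Then j_! F (V) =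
0 for every abelian sheaf F on U_proet (continuity of the site functor of j assumed as a binder). -/
theorem result {U X Z : Scheme.{u}} (j : U ⟶ X) [WeaklyEtale j] (i : Z ⟶ X)
    [IsClosedImmersion i] (hUZ : Disjoint (Set.range j.base) (Set.range i.base)) [ProEtS.JPCont j]
    (V : X.ProEt) [IsAffine V.left]
    (hV : ∀ v : ↥V.left, ∃ z : ↥V.left, V.hom.base z ∈ Set.range i.base ∧ v ⤳ z)
    (F : ProEtS.AbP U) :
    Subsingleton (ProEtS.sectP ((ProEtS.extZeroP j).obj F) V) := by
  let P := (ProEtS.compP j).op.lan.obj F.obj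
  let G := (presheafToSheaf (Scheme.ProEt.topology X) AddCommGrpCat.{u + 1}).obj P
  let e : (ProEtS.extZeroP j).obj F ≅ G :=
    (Functor.sheafPullbackConstruction.sheafPullbackIso (ProEtS.compP j) AddCommGrpCat.{u + 1} (Scheme.ProEt.topology U) (Scheme.ProEt.topology X)).app F
  let e' : ((ProEtS.extZeroP j).obj F).obj.obj (op V) ≅ G.obj.obj (op V) :=
    ((sheafToPresheaf _ _).mapIso e).app (op V)
  suffices hG : ∀ s : G.obj.obj (op V), s = 0 by
    refine ⟨fun a b => (ConcreteCategory.bijective_of_isIso e'.hom).1 ?_⟩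
    rw [hG (e'.hom a), hG (e'.hom b)]
  intro s
  obtain ⟨n, W, g, hW, hg, hcov⟩ := Groth.Agent.H26ProEt.exists_finite_affine
    (Presheaf.imageSieve_mem (Scheme.ProEt.topology X) (toSheafify (Scheme.ProEt.topology X) P) s)
  have hsurj : ∀ v : V.left, ∃ (k : Fin n) (y : (W k).left), (g k).left y = v := by
    intro v
    obtain ⟨R, hR, hle⟩ := Groth.Agent.H26ProEt.mem_topology_iff.1 hcov
    obtain ⟨ι, A, a, rfl⟩ := R.exists_eq_ofArrows
    simp only [Scheme.ProEt.precoverage, Precoverage.mem_comap_iff, Presieve.map_ofArrows] at hR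
    obtain ⟨i, y, hy⟩ := ((Scheme.ofArrows_mem_precoverage_iff _).1 hR.2).1 v
    obtain ⟨_, q, _, ⟨k⟩, hq⟩ := hle _ _ ⟨i⟩
    refine ⟨k, q.left y, ?_⟩
    rw [← hy, ← hq]
    rfl
  let I' := {k : Fin n // ∃ w : (W k).left, (W k).hom.base w ∈ Set.range i.base}
  have hcov' : Sieve.ofArrows (fun k : I' => W k.1) (fun k : I' => g k.1) ∈ Scheme.ProEt.topology X V := by
    haveI : ∀ k : I', IsAffine (W k.1).left := fun k => hW k.1
    refine Groth.Agent.H26ProEt.mem_topology_of_finite_affine _ _ fun v => ?_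
    obtain ⟨z, hz, hvz⟩ := hV v
    obtain ⟨k, w, hw⟩ := hsurj z
    have hwZ : (W k).hom.base w ∈ Set.range i.base := by
      rw [← MorphismProperty.Over.w (g k)]
      show V.hom.base ((g k).left w) ∈ _
      rw [hw]; exact hz
    haveI : WeaklyEtale ((g k).left ≫ V.hom) := by rw [MorphismProperty.Over.w]; infer_instance
    haveI : WeaklyEtale (g k).left := WeaklyEtale.of_comp _ V.hom
    obtain ⟨w', -, hw'⟩ := Flat.generalizingMap (g k).left (hw ▸ hvz : v ⤳ (g k).left w)
    exact ⟨⟨k, w, hwZ⟩, w', hw'⟩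
  refine Sheaf.isSeparated G V _ hcov' s 0 ?_
  rintro Y _ ⟨_, q, _, ⟨⟨k, w, hwZ⟩⟩, rfl⟩
  suffices h0 : G.obj.map (g k).op s = 0 by
    rw [map_zero, op_comp, Functor.map_comp, ConcreteCategory.comp_apply, h0, map_zero]
  obtain ⟨t, ht⟩ := hg k
  rw [← ht]
  haveI : IsEmpty (CostructuredArrow (ProEtS.compP j).op (op (W k))) := ⟨fun A => by
    refine Set.disjoint_left.1 hUZ ?_ hwZ
    refine ⟨A.left.unop.hom.base (A.hom.unop.left w), ?_⟩
    rw [← MorphismProperty.Over.w A.hom.unop]
    rfl⟩
  have hzero : IsZero (P.obj (op (W k))) := by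
    refine IsZero.of_iso ?_ ((ProEtS.compP j).op.leftKanExtensionObjIsoColimit F.obj (op (W k)))
    exact (IsZero.iff_id_eq_zero _).2 (colimit.hom_ext fun A => isEmptyElim A)
  haveI := AddCommGrpCat.subsingleton_of_isZero hzero
  rw [Subsingleton.elim t 0, map_zero]

end Groth.Agent.S0732
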