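import Groth.Statements.S0742
import Mathlib.CategoryTheory.Adjunction.Triple

set_option autoImplicit false
open CategoryTheory CategoryTheory.Limits AlgebraicGeometry Opposite
universe u
open ProEtS

namespace Groth.Agent.S0742

/-- For an open immersion j : U -> X, the unit F -> j^{-1} j_! F and the counit j^{-1} j_* G -> G are
isomorphisms on abelian pro-etale sheaves (so j_! and j_* are fully faithful; continuity binders
assumed). -/
theorem result {U X : Scheme.{u}} (j : U ⟶ X) [IsOpenImmersion j]
    [ProEtS.JPCont j] [ProEtS.PCont j] (F G : ProEtS.AbP U) :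
    IsIso ((ProEtS.extZeroPAdj j).unit.app F) ∧ IsIso ((ProEtS.pullPushAdjP j).counit.app G) := by
  haveI : (ProEtS.compP j).Faithful := ⟨fun {A B} a b h =>
    MorphismProperty.Over.Hom.ext (congrArg (fun q => q.left) h)⟩
  haveI : (ProEtS.compP j).Full := ⟨fun {A B} g => ⟨MorphismProperty.Over.homMk g.left
    ((cancel_mono j).1 (by rw [Category.assoc]; exact MorphismProperty.Over.w g)) trivial,
    MorphismProperty.Over.Hom.ext rfl⟩⟩
  let a : ProEtS.compP j ⊣ ProEtS.bcP j := MorphismProperty.Over.mapPullbackAdj (P := @WeaklyEtale) (Q := ⊤) j (show WeaklyEtale j from inferInstance) trivial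
  let adj' : ProEtS.restrP j ⊣ ProEtS.pushP j :=
    a.sheafPushforwardContinuous (E := AddCommGrpCat.{u + 1}) (Scheme.ProEt.topology U) (Scheme.ProEt.topology X)
  haveI hc : IsIso adj'.counit := by
    haveI : IsIso a.unit := @Adjunction.unit_isIso_of_L_fully_faithful _ _ _ _ (ProEtS.compP j) _ a inferInstance inferInstance
    refine @NatIso.isIso_of_isIso_app _ _ _ _ _ _ _ fun S => ?_
    refine (isIso_iff_of_reflects_iso _ (sheafToPresheaf _ _)).1 ?_
    refine @NatIso.isIso_of_isIso_app _ _ _ _ _ _ _ fun V => ?_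
    haveI : IsIso (a.unit.app V.unop) := inferInstance
    haveI h1 : IsIso (a.unit.app V.unop).op := isIso_op _
    exact @Functor.map_isIso _ _ _ _ _ _ S.obj (a.unit.app V.unop).op h1
  have hR : (ProEtS.pushP j).FullyFaithful := adj'.fullyFaithfulROfIsIsoCounit
  haveI := hR.full
  haveI := hR.faithful
  let t : Adjunction.Triple (ProEtS.extZeroP j) (ProEtS.restrP j) (ProEtS.pushP j) := ⟨ProEtS.extZeroPAdj j, adj'⟩
  haveI : IsIso (ProEtS.extZeroPAdj j).unit := t.isIso_unit_iff_isIso_counit.2 hc
  exact ⟨inferInstance, inferInstance⟩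

end Groth.Agent.S0742
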