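import Groth.Statements.S0723
import Groth.Agent.H1Closed.Counit
import Groth.Agent.H1Closed.ExtZero
import Groth.Agent.H1Closed.UHomeoLift

set_option autoImplicit false
open CategoryTheory CategoryTheory.Limits AlgebraicGeometry Opposite
universe u
open ProEtS

namespace Groth.Agent.S0723

/-- Let i : Z -> X be integral, universally injective and surjective. Then i_{proet,*} on abelian
pro-etale sheaves is an equivalence of categories (with quasi-inverse i^{-1}; continuity of base
change assumed as a binder). -/
theorem result {Z X : Scheme.{u}} (i : Z ⟶ X)
    [IsIntegralHom i] [UniversallyInjective i] [Surjective i] [ProEtS.PCont i] :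
    (ProEtS.pushP i).IsEquivalence := by
  haveI := H1Closed.hasLifts_of_uhomeo i
  haveI : ∀ F, IsIso ((ProEtS.pullPushAdjP i).unit.app F) := fun F =>
    H1Closed.isIso_of_bijective_wc _ fun V hVa hVw =>
      haveI := hVa
      H1Closed.el_bijective i F hVw fun v => ⟨v, i.surjective _, specializes_rfl⟩
  haveI : ∀ G, IsIso ((ProEtS.pullPushAdjP i).counit.app G) := H1Closed.isIso_counit i
  exact (ProEtS.pullPushAdjP i).toEquivalence.isEquivalence_inverse

end Groth.Agent.S0723
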