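import Groth.Statements.S0730
import Groth.Agent.H26ProEt.AffineSite

set_option autoImplicit false
open CategoryTheory CategoryTheory.Limits AlgebraicGeometry Opposite
universe u
open ProEtS

namespace Groth.Agent.S0730

/-- Base changes of pro-étale coverings are pro-étale coverings, in the form used to define the morphism
of sites f_proét : X_proét → Y_proét for a morphism of schemes f : X → Y: the base change functor
from the small pro-étale site of Y to that of X is continuous. -/
theorem result {X Y : Scheme.{u}} (f : X ⟶ Y) : ProEtS.PCont f := by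
  haveI : PreservesFiniteLimits (ProEtS.bcP f) := by
    set_option backward.isDefEq.respectTransparency.types false in
    exact inferInstanceAs (PreservesFiniteLimits (MorphismProperty.Over.pullback (T := Scheme.{u}) @WeaklyEtale ⊤ f))
  haveI : RepresentablyFlat (ProEtS.bcP f) := flat_of_preservesFiniteLimits _
  show (ProEtS.bcP f).IsContinuous _ _
  rw [Functor.isContinuous_iff_coverPreserving]
  refine ⟨fun {A S} hS => ?_⟩
  obtain ⟨R, hR, hle⟩ := Groth.Agent.H26ProEt.mem_topology_iff.1 hS
  obtain ⟨ι, W, g, rfl⟩ := R.exists_eq_ofArrows
  refine GrothendieckTopology.superset_covering _ (S := Sieve.ofArrows _ fun i => (ProEtS.bcP f).map (g i)) ?_ ?_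
  · rw [Sieve.ofArrows, Sieve.generate_le_iff, Presieve.ofArrows_le_iff]
    exact fun i => ⟨W i, g i, 𝟙 _, hle _ _ ⟨i⟩, (Category.id_comp _).symm⟩
  refine Precoverage.generate_mem_toGrothendieck ?_
  simp only [Scheme.ProEt.precoverage, Precoverage.mem_comap_iff, Presieve.map_ofArrows] at hR ⊢
  refine Precoverage.mem_coverings_of_isPullback (fun i => (g i).left) hR (pullback.fst A.hom f)
    _ (fun i => pullback.fst (W i).hom f) fun i => ?_
  refine IsPullback.flip ?_
  refine IsPullback.of_bot ?_ ?_ (IsPullback.of_hasPullback A.hom f)
  · have e1 : pullback.snd (W i).hom f =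
        (Scheme.ProEt.forget X ⋙ Over.forget X).map ((ProEtS.bcP f).map (g i)) ≫ pullback.snd A.hom f :=
      (pullback.lift_snd _ _ _).symm
    have e2 : (W i).hom = (g i).left ≫ A.hom := (MorphismProperty.Over.w (g i)).symm
    have hp := IsPullback.of_hasPullback (W i).hom f
    exact IsPullback.of_iso hp (Iso.refl _) (Iso.refl _) (Iso.refl _) (Iso.refl _) (by exact (Category.comp_id _).trans (Category.id_comp _).symm)
      (by exact ((Category.comp_id _).trans e1).trans (Category.id_comp _).symm)
      (by exact ((Category.comp_id _).trans e2).trans (Category.id_comp _).symm)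
      (by exact (Category.comp_id _).trans (Category.id_comp _).symm)
  · exact (pullback.lift_fst _ _ _).symm

end Groth.Agent.S0730
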