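import Groth.Statements.S0729
import Groth.Agent.H26ProEt.AffineSite

set_option autoImplicit false
open CategoryTheory CategoryTheory.Limits AlgebraicGeometry Opposite
universe u
open ProEtS

namespace Groth.Agent.S0729

/-- Every étale covering of a scheme X is a pro-étale covering, in the form used to define the
comparison morphism of sites ε : X_proét → X_ét: the inclusion functor from the small étale site of
X to the small pro-étale site of X is continuous. -/
theorem result (X : Scheme.{u}) : ProEtS.EpsCont X := by
  haveI : PreservesFiniteLimits (ProEtS.eps X) := by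
    haveI : PreservesFiniteLimits (ProEtS.eps X ⋙ Scheme.ProEt.forget X) :=
      inferInstanceAs (PreservesFiniteLimits (MorphismProperty.Over.forget EtCoh.etaleMP.{u} ⊤ X))
    exact preservesFiniteLimits_of_reflects_of_preserves (ProEtS.eps X) (Scheme.ProEt.forget X)
  haveI : RepresentablyFlat (ProEtS.eps X) := flat_of_preservesFiniteLimits _
  show (ProEtS.eps X).IsContinuous _ _
  rw [Functor.isContinuous_iff_coverPreserving]
  refine ⟨fun {A S} hS => ?_⟩
  obtain ⟨𝒰, _, h, hle⟩ := (Scheme.mem_smallGrothendieckTopology _ _).1 hS
  rw [Scheme.Cover.toPresieveOverProp] at hle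
  refine GrothendieckTopology.superset_covering _ (S := Sieve.ofArrows _ fun i => (ProEtS.eps X).map ((𝒰.f i).asOverProp X (hX := h i) (hY := A.prop))) ?_ ?_
  · rw [Sieve.ofArrows, Sieve.generate_le_iff, Presieve.ofArrows_le_iff]
    exact fun i => ⟨_, _, 𝟙 _, hle _ _ ⟨i⟩, (Category.id_comp _).symm⟩
  refine Precoverage.generate_mem_toGrothendieck ?_
  simp only [Scheme.ProEt.precoverage, Precoverage.mem_comap_iff, Presieve.map_ofArrows]
  exact Scheme.etalePrecoverage_le_proetalePrecoverage _ 𝒰.mem₀

end Groth.Agent.S0729
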