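import Groth.Statements.S14016
import Groth.Agent.H1EpsS.Derived

set_option autoImplicit false
open CategoryTheory CategoryTheory.Limits AlgebraicGeometry Opposite
universe u
open ProEtS

namespace Groth.Agent.S14016


theorem counit_isIso_of_iso {X : Scheme.{u}} [ProEtS.EpsCont X] {G : EtCoh.Ab X} {F : ProEtS.AbP X}
    (e : (ProEtS.epsPull X).obj G ≅ F) : IsIso ((ProEtS.epsAdj X).counit.app F) := by
  haveI := Groth.Agent.H1EpsS.isIso_unit G
  haveI : IsIso ((ProEtS.epsAdj X).counit.app ((ProEtS.epsPull X).obj G)) := by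
    have h := (ProEtS.epsAdj X).left_triangle_components G
    haveI : IsIso ((ProEtS.epsPull X).map ((ProEtS.epsAdj X).unit.app G) ≫
        (ProEtS.epsAdj X).counit.app ((ProEtS.epsPull X).obj G)) := by
      rw [h]; exact IsIso.id _
    exact IsIso.of_isIso_comp_left ((ProEtS.epsPull X).map ((ProEtS.epsAdj X).unit.app G)) _
  have h := (ProEtS.epsAdj X).counit.naturality e.hom
  dsimp at h
  haveI : IsIso ((ProEtS.epsPull X).map ((ProEtS.epsPush X).map e.hom) ≫ (ProEtS.epsAdj X).counit.app F) := by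
    rw [h]; infer_instance
  exact IsIso.of_isIso_comp_left ((ProEtS.epsPull X).map ((ProEtS.epsPush X).map e.hom)) _

/-- Let X be a scheme and S a weak Serre subcategory of the abelian sheaves on the small étale site of
X, i.e. a property of objects holding for a zero object and closed under kernels, cokernels and
extensions. Then the essential image of S under the pullback ε⁻¹ to the small pro-étale site (the
abelian pro-étale sheaves isomorphic to ε⁻¹G for some G satisfying S) is again a weak Serre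
subcategory, now of the abelian sheaves on the small pro-étale site of X. (Continuity of the
inclusion of the étale site into the pro-étale site is carried as a binder.) -/
theorem result
    (X : Scheme.{u}) [ProEtS.EpsCont X]
    (S : ObjectProperty (EtCoh.Ab X)) [WSerre.IsWeakSerre S] :
    WSerre.IsWeakSerre (fun F : ProEtS.AbP X => ∃ G : EtCoh.Ab X, S G ∧ Nonempty ((ProEtS.epsPull X).obj G ≅ F)) := by
  haveI := Groth.Agent.H1EpsS.epsPull_additive (X := X)
  haveI := Groth.Agent.H1EpsS.epsPull_preservesFiniteColimits (X := X)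
  haveI := Groth.Agent.H1EpsS.epsPull_preservesFiniteLimits (X := X)
  haveI hff : ∀ G : EtCoh.Ab X, IsIso ((ProEtS.epsAdj X).unit.app G) := fun G => Groth.Agent.H1EpsS.isIso_unit G
  haveI : IsIso (ProEtS.epsAdj X).unit := NatIso.isIso_of_isIso_app _
  haveI : (ProEtS.epsPull X).Full := ((ProEtS.epsAdj X).fullyFaithfulLOfIsIsoUnit).full
  refine
    { exists_zero := ?_
      kernels_le := ?_
      cokernels_le := ?_
      prop_X₂_of_shortExact := ?_ }
  · obtain ⟨Z, hZ, hS⟩ := S.exists_prop_of_containsZero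
    exact ⟨_, (ProEtS.epsPull X).map_isZero hZ, Z, hS, ⟨Iso.refl _⟩⟩
  · rintro _ ⟨f, k, hk, ⟨G₁, h₁, ⟨e₁⟩⟩, ⟨G₂, h₂, ⟨e₂⟩⟩⟩
    obtain ⟨g, hg⟩ := (ProEtS.epsPull X).map_surjective (e₁.hom ≫ f ≫ e₂.inv)
    refine ⟨kernel g, S.prop_kernel g h₁ h₂,
      ⟨PreservesKernel.iso (ProEtS.epsPull X) g ≪≫ kernel.mapIso _ f e₁ e₂ ?_ ≪≫
        IsLimit.conePointUniqueUpToIso (limit.isLimit _) hk⟩⟩
    rw [hg]; simp
  · rintro _ ⟨f, k, hk, ⟨G₁, h₁, ⟨e₁⟩⟩, ⟨G₂, h₂, ⟨e₂⟩⟩⟩
    obtain ⟨g, hg⟩ := (ProEtS.epsPull X).map_surjective (e₁.hom ≫ f ≫ e₂.inv)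
    refine ⟨cokernel g, S.prop_cokernel g h₁ h₂,
      ⟨PreservesCokernel.iso (ProEtS.epsPull X) g ≪≫ cokernel.mapIso _ f e₁ e₂ ?_ ≪≫
        IsColimit.coconePointUniqueUpToIso (colimit.isColimit _) hk⟩⟩
    rw [hg]; simp
  · intro T hT hT₁ hT₃
    obtain ⟨A, hA, ⟨a⟩⟩ := hT₁
    obtain ⟨B, hB, ⟨b⟩⟩ := hT₃
    have hTR : (T.map (ProEtS.epsPush X)).ShortExact := by
      haveI : PreservesLimitsOfSize.{0, 0} (ProEtS.epsPush X) := (ProEtS.epsAdj X).rightAdjoint_preservesLimits
      haveI : PreservesFiniteLimits (ProEtS.epsPush X) := inferInstance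
      have h30 : PreservesFiniteLimits (ProEtS.epsPush X) ↔ ∀ (S : ShortComplex (ProEtS.AbP X)), S.ShortExact →
          (S.map (ProEtS.epsPush X)).Exact ∧ Mono ((ProEtS.epsPush X).map S.f) :=
        (Functor.preservesFiniteLimits_tfae (ProEtS.epsPush X)).out 3 0
      have ht := h30.1 ‹_› T hT
      refine { exact := ht.1, mono_f := ht.2, epi_g := ?_ }
      exact Groth.Agent.H16Derived.AcyclicLES.epi_map_g (ProEtS.epsPush X) hT
        ((Groth.Agent.H1EpsS.isAcyclic_epsPull A 1 one_pos).of_iso (((ProEtS.epsPush X).rightDerived 1).mapIso a).symm)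
    refine ⟨(ProEtS.epsPush X).obj T.X₂, ?_, ?_⟩
    · refine S.prop_X₂_of_shortExact hTR ?_ ?_
      · exact S.prop_of_iso (asIso ((ProEtS.epsAdj X).unit.app A) ≪≫ (ProEtS.epsPush X).mapIso a) hA
      · exact S.prop_of_iso (asIso ((ProEtS.epsAdj X).unit.app B) ≪≫ (ProEtS.epsPush X).mapIso b) hB
    · let φ : (T.map (ProEtS.epsPush X)).map (ProEtS.epsPull X) ⟶ T :=
        ShortComplex.homMk ((ProEtS.epsAdj X).counit.app T.X₁) ((ProEtS.epsAdj X).counit.app T.X₂)
          ((ProEtS.epsAdj X).counit.app T.X₃) ((ProEtS.epsAdj X).counit.naturality T.f).symm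
          ((ProEtS.epsAdj X).counit.naturality T.g).symm
      haveI : IsIso φ.τ₁ := counit_isIso_of_iso a
      haveI : IsIso φ.τ₃ := counit_isIso_of_iso b
      haveI h2 : IsIso φ.τ₂ := ShortComplex.isIso₂_of_shortExact_of_isIso₁₃ φ (hTR.map_of_exact _) hT
      exact ⟨@asIso _ _ _ _ φ.τ₂ h2⟩

end Groth.Agent.S14016
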