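import Groth.Statements.S14011
import Groth.Agent.H18EpsMod.Adic

set_option autoImplicit false
open CategoryTheory CategoryTheory.Limits AlgebraicGeometry Opposite
universe u
open EtModW

namespace Groth.Agent.S14011

/-- Let X be a scheme, Λ a commutative ring and I a finitely generated ideal of Λ. The functor which
sends an inverse system (G_n) of sheaves of Λ-modules on the small étale site of X to the pro-étale
sheaf lim_n ε⁻¹G_n is full and faithful on the full subcategory of I-adic systems (I^(n+1) G_n = 0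
and every transition map is a quotient map modulo I^(n+1)). Constructibility of the members is not
needed for this part. (Continuity of the inclusion of the étale site into the pro-étale site is
carried as a binder.) -/
theorem result
    (Λ : Type (u + 1)) [CommRing Λ] (I : Ideal Λ) (hI : I.FG)
    (X : Scheme.{u}) [ProEtS.EpsCont X] :
    (ObjectProperty.ι (fun G : ARSys.PS (EtModW.Mod Λ X) => ARSys.IsAdic I G) ⋙
        ((Functor.whiskeringRight ℕᵒᵖ (EtModW.Mod Λ X) (EtModW.ModP Λ X)).obj (EtModW.epsPullMod Λ X) ⋙ lim)).Full ∧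
    (ObjectProperty.ι (fun G : ARSys.PS (EtModW.Mod Λ X) => ARSys.IsAdic I G) ⋙
        ((Functor.whiskeringRight ℕᵒᵖ (EtModW.Mod Λ X) (EtModW.ModP Λ X)).obj (EtModW.epsPullMod Λ X) ⋙ lim)).Faithful := by
  haveI := (H18EpsMod.full_faithful Λ X).1
  haveI := (H18EpsMod.full_faithful Λ X).2
  let L := EtModW.epsPullMod Λ X
  constructor
  · refine ⟨fun {G H} φ => ?_⟩
    change limit (G.obj ⋙ L) ⟶ limit (H.obj ⋙ L) at φ
    have hq := fun n => H18EpsMod.isQuot_limit_π Λ X I hI G.obj G.property n
    have hk : ∀ n, ARSys.HomKilledBy (I ^ (n + 1)) (φ ≫ limit.π (H.obj ⋙ L) (op n)) := fun n a ha => by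
      rw [← Category.comp_id (φ ≫ limit.π (H.obj ⋙ L) (op n)), ← Linear.comp_smul,
        (H18EpsMod.isAdic_comp Λ X I H.obj H.property).1 n a ha, comp_zero]
    choose ψ hψ _ using fun n => (hq n).2 _ _ (hk n)
    let T : G.obj ⟶ H.obj :=
      { app := fun k => L.preimage (ψ k.unop)
        naturality := fun k l f => L.map_injective (by
          rw [L.map_comp, L.map_comp, L.map_preimage, L.map_preimage]
          haveI := H18EpsMod.epi_of_isQuot (hq k.unop)
          refine (cancel_epi (limit.π (G.obj ⋙ L) k)).1 ?_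
          have e1 : limit.π (G.obj ⋙ L) k ≫ L.map (G.obj.map f) = limit.π (G.obj ⋙ L) l := limit.w (G.obj ⋙ L) f
          have e2 : limit.π (H.obj ⋙ L) k ≫ L.map (H.obj.map f) = limit.π (H.obj ⋙ L) l := limit.w (H.obj ⋙ L) f
          have e3 : limit.π (G.obj ⋙ L) k ≫ ψ k.unop = φ ≫ limit.π (H.obj ⋙ L) k := hψ k.unop
          have e4 : limit.π (G.obj ⋙ L) l ≫ ψ l.unop = φ ≫ limit.π (H.obj ⋙ L) l := hψ l.unop
          rw [← Category.assoc, e1, e4, ← Category.assoc, e3, Category.assoc, e2]) }
    refine ⟨⟨T⟩, ?_⟩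
    change limMap (Functor.whiskerRight T L) = φ
    refine limit.hom_ext fun k => ?_
    rw [limMap_π]
    change _ ≫ L.map (L.preimage (ψ k.unop)) = _
    rw [L.map_preimage]
    exact hψ k.unop
  · refine ⟨fun {G H} S T hST => ObjectProperty.hom_ext _ (NatTrans.ext (funext fun k => L.map_injective ?_))⟩
    change limMap (Functor.whiskerRight S.hom L) = limMap (Functor.whiskerRight T.hom L) at hST
    haveI := H18EpsMod.epi_of_isQuot (H18EpsMod.isQuot_limit_π Λ X I hI G.obj G.property k.unop)
    refine (cancel_epi (limit.π (G.obj ⋙ L) k)).1 ?_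
    have e := congrArg (· ≫ limit.π (H.obj ⋙ L) k) hST
    simp only [limMap_π] at e
    exact e

end Groth.Agent.S14011
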