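import Groth.Statements.S14013
import Groth.Agent.H18EpsMod.LimFun
import Groth.Agent.S14010
import Groth.Agent.S14011
import Groth.Agent.S13618

set_option autoImplicit false
open CategoryTheory CategoryTheory.Limits AlgebraicGeometry Opposite
universe u
open EtModW

namespace Groth.Agent.S14013

/-- Let X be a Noetherian scheme, Λ a Noetherian commutative ring and I an ideal of Λ. Call a sheaf of
Λ-modules F on the small pro-étale site of X an I-adic pro-étale sheaf when it has a compatible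
tower of quotient maps F ⟶ Q_n modulo I^(n+1), every Q_n being isomorphic to the pro-étale pullback
of a constructible étale sheaf of Λ-modules, and the canonical map F ⟶ lim_n Q_n is an isomorphism.
Then for every morphism w : F ⟶ G between I-adic pro-étale sheaves, the kernel and the cokernel of w
computed among all sheaves of Λ-modules are again I-adic pro-étale sheaves. (The published statement
is that the I-adic pro-étale sheaves form an abelian subcategory of the category of all sheaves of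
Λ-modules; this row states the closure under kernels and cokernels. Continuity of the inclusion of
the étale site into the pro-étale site is carried as a binder.) -/
theorem result
    (Λ : Type (u + 1)) [CommRing Λ] [IsNoetherianRing Λ] (I : Ideal Λ)
    (X : Scheme.{u}) [IsNoetherian X] [ProEtS.EpsCont X]
    (F G : EtModW.ModP Λ X)
    (hF : (∃ (Q : ℕᵒᵖ ⥤ EtModW.ModP Λ X) (p : (Functor.const ℕᵒᵖ).obj F ⟶ Q),
        (∀ n : ℕ, ARSys.IsQuot (I ^ (n + 1)) (p.app (op n))) ∧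
        (∀ n : ℕ, ∃ E : EtModW.Mod Λ X, EtModW.IsConstructible Λ E ∧
          Nonempty ((EtModW.epsPullMod Λ X).obj E ≅ Q.obj (op n))) ∧
        IsIso (limit.lift Q (Cone.mk F p))))
    (hG : (∃ (Q : ℕᵒᵖ ⥤ EtModW.ModP Λ X) (p : (Functor.const ℕᵒᵖ).obj G ⟶ Q),
        (∀ n : ℕ, ARSys.IsQuot (I ^ (n + 1)) (p.app (op n))) ∧
        (∀ n : ℕ, ∃ E : EtModW.Mod Λ X, EtModW.IsConstructible Λ E ∧
          Nonempty ((EtModW.epsPullMod Λ X).obj E ≅ Q.obj (op n))) ∧
        IsIso (limit.lift Q (Cone.mk G p))))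
    (w : F ⟶ G) :
    (∃ (Q : ℕᵒᵖ ⥤ EtModW.ModP Λ X) (p : (Functor.const ℕᵒᵖ).obj (kernel w) ⟶ Q),
      (∀ n : ℕ, ARSys.IsQuot (I ^ (n + 1)) (p.app (op n))) ∧
      (∀ n : ℕ, ∃ E : EtModW.Mod Λ X, EtModW.IsConstructible Λ E ∧
        Nonempty ((EtModW.epsPullMod Λ X).obj E ≅ Q.obj (op n))) ∧
      IsIso (limit.lift Q (Cone.mk (kernel w) p))) ∧
    (∃ (Q : ℕᵒᵖ ⥤ EtModW.ModP Λ X) (p : (Functor.const ℕᵒᵖ).obj (cokernel w) ⟶ Q),
      (∀ n : ℕ, ARSys.IsQuot (I ^ (n + 1)) (p.app (op n))) ∧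
      (∀ n : ℕ, ∃ E : EtModW.Mod Λ X, EtModW.IsConstructible Λ E ∧
        Nonempty ((EtModW.epsPullMod Λ X).obj E ≅ Q.obj (op n))) ∧
      IsIso (limit.lift Q (Cone.mk (cokernel w) p))) := by
  have hI : I.FG := IsNoetherian.noetherian I
  obtain ⟨A, hA, hAc, ⟨a⟩⟩ := (S14010.result Λ I hI X F).1 hF
  obtain ⟨B, hB, hBc, ⟨b⟩⟩ := (S14010.result Λ I hI X G).1 hG
  let Φ := H18EpsMod.limEps Λ X
  haveI := H18EpsMod.preservesFiniteLimits_limEps Λ X
  haveI : Φ.Additive := Functor.additive_of_preserves_binary_products _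
  haveI : Φ.PreservesZeroMorphisms := inferInstance
  obtain ⟨ψ, hψ⟩ : ∃ ψ : A ⟶ B, Φ.map ψ = a.hom ≫ w ≫ b.inv := by
    haveI := (S14011.result Λ I hI X).1
    let ι' := ObjectProperty.ι (fun G : ARSys.PS (EtModW.Mod Λ X) => ARSys.IsAdic I G)
    obtain ⟨t, ht⟩ := (ι' ⋙ Φ).map_surjective
      (show (ι' ⋙ Φ).obj ⟨A, hA⟩ ⟶ (ι' ⋙ Φ).obj ⟨B, hB⟩ from a.hom ≫ w ≫ b.inv)
    exact ⟨_, ht⟩
  obtain ⟨⟨-, K, k, hK, hKc, hk⟩, ⟨-, C, c, hC, hCc, hc⟩⟩ := S13618.result Λ I A B hA hB hAc hBc ψ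
  haveI := H18EpsMod.isIso_limEps_of_isARIso Λ X k hk
  haveI := H18EpsMod.isIso_limEps_of_isARIso Λ X c hc
  have hcomm : Φ.map ψ ≫ b.hom = a.hom ≫ w := by
    rw [hψ, Category.assoc, Category.assoc, Iso.inv_hom_id, Category.comp_id]
  obtain ⟨e⟩ := H18EpsMod.nonempty_cokernel_iso Λ X ψ (fun n m h => H18EpsMod.epi_of_isQuot (hA.2 n m h)) k hk.2
    (fun n m h => H18EpsMod.epi_of_isQuot (hK.2 n m h))
  exact ⟨(S14010.result Λ I hI X (kernel w)).2 ⟨K, hK, hKc, ⟨asIso (Φ.map k) ≪≫ PreservesKernel.iso Φ ψ ≪≫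
      kernel.mapIso (Φ.map ψ) w a b hcomm⟩⟩,
    (S14010.result Λ I hI X (cokernel w)).2 ⟨C, hC, hCc, ⟨asIso (Φ.map c) ≪≫ e.symm ≪≫
      cokernel.mapIso (Φ.map ψ) w a b hcomm⟩⟩⟩

end Groth.Agent.S14013
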