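import Groth.Statements.S13619
import Groth.Agent.H18Et.Cons.ModARAbelian

set_option autoImplicit false
open CategoryTheory CategoryTheory.Limits AlgebraicGeometry Opposite
universe u
open EtModW

namespace Groth.Agent.S13619

/-- For a Noetherian scheme X, a Noetherian coefficient ring Λ and an ideal I of Λ, let F be an I-adic
inverse system of constructible sheaves of Λ-modules on the small etale site of X. Then every
increasing sequence Z_0 ≤ Z_1 ≤ … of subobjects of F in the abelian category of inverse systems, all
of whose underlying systems are AR I-adic (termwise killed by I^(n+1) and receiving a morphism with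
null kernel and cokernel from an I-adic system of constructible sheaves), becomes constant up to
translation: there is k₀ such that for every k ≥ k₀ the inclusion of Z_k into Z_(k+1) has kernel and
cokernel null up to translation. (The published statement is for AR-injective maps into an AR I-adic
object; replacing each by the image of a representing morphism of systems and F by an I-adic system
gives the case of genuine subobjects stated here.) -/
theorem result
    (Λ : Type (u + 1)) [CommRing Λ] [IsNoetherianRing Λ] (I : Ideal Λ)
    {X : Scheme.{u}} [IsNoetherian X]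
    (F : ARSys.PS (EtModW.Mod Λ X)) (hF : ARSys.IsAdic I F)
    (hFc : ∀ n : ℕ, EtModW.IsConstructible Λ (F.obj (op n)))
    (Z : ℕ →o Subobject F)
    (hZ : ∀ k : ℕ, (ARSys.TermKilled I (Subobject.underlying.obj (Z k) : ARSys.PS (EtModW.Mod Λ X)) ∧ ∃ (Y : ARSys.PS (EtModW.Mod Λ X)) (v : Y ⟶ (Subobject.underlying.obj (Z k) : ARSys.PS (EtModW.Mod Λ X))), ARSys.IsAdic I Y ∧ (∀ n : ℕ, EtModW.IsConstructible Λ (Y.obj (op n))) ∧ ARSys.IsARIso v)) :
    ∃ k₀ : ℕ, ∀ k : ℕ, k₀ ≤ k → ARSys.IsARIso (Subobject.ofLE (Z k) (Z (k + 1)) (Z.monotone (Nat.le_succ k))) := by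
  refine Groth.Agent.H18Et.Cons.chain_stationary_mod Λ I hF hFc Z fun k => ?_
  obtain ⟨hk, Y, v, hY, -, hv⟩ := hZ k
  exact ⟨hk, Y, v, hY, hv⟩

end Groth.Agent.S13619
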