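import Groth.Statements.S14014
import Groth.Agent.H18EpsMod.LimFun
import Groth.Agent.S14010
import Groth.Agent.S14011
import Groth.Agent.S13618
import Groth.Agent.S13619

set_option autoImplicit false
open CategoryTheory CategoryTheory.Limits AlgebraicGeometry Opposite
universe u
open EtModW

namespace Groth.Agent.S14014

/-- Let X be a Noetherian scheme, Λ a Noetherian commutative ring, I an ideal of Λ and F an I-adic
pro-étale sheaf of Λ-modules on X: F has a compatible tower of quotient maps F ⟶ Q_n modulo I^(n+1),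
every Q_n isomorphic to the pro-étale pullback of a constructible étale sheaf of Λ-modules, and the
canonical map F ⟶ lim_n Q_n is an isomorphism. Then every increasing chain Z_0 ≤ Z_1 ≤ ⋯ of
subobjects of F (subsheaves of Λ-modules on the small pro-étale site) all of whose underlying
sheaves are I-adic pro-étale sheaves becomes constant: Z_k = Z_(k₀) for all k ≥ k₀. (Continuity of
the inclusion of the étale site into the pro-étale site is carried as a binder.) -/
theorem result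
    (Λ : Type (u + 1)) [CommRing Λ] [IsNoetherianRing Λ] (I : Ideal Λ)
    (X : Scheme.{u}) [IsNoetherian X] [ProEtS.EpsCont X]
    (F : EtModW.ModP Λ X)
    (hF : (∃ (Q : ℕᵒᵖ ⥤ EtModW.ModP Λ X) (p : (Functor.const ℕᵒᵖ).obj F ⟶ Q),
        (∀ n : ℕ, ARSys.IsQuot (I ^ (n + 1)) (p.app (op n))) ∧
        (∀ n : ℕ, ∃ E : EtModW.Mod Λ X, EtModW.IsConstructible Λ E ∧
          Nonempty ((EtModW.epsPullMod Λ X).obj E ≅ Q.obj (op n))) ∧
        IsIso (limit.lift Q (Cone.mk F p))))
    (Z : ℕ →o Subobject F)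
    (hZ : ∀ k : ℕ, (∃ (Q : ℕᵒᵖ ⥤ EtModW.ModP Λ X) (p : (Functor.const ℕᵒᵖ).obj (Subobject.underlying.obj (Z k)) ⟶ Q),
        (∀ n : ℕ, ARSys.IsQuot (I ^ (n + 1)) (p.app (op n))) ∧
        (∀ n : ℕ, ∃ E : EtModW.Mod Λ X, EtModW.IsConstructible Λ E ∧
          Nonempty ((EtModW.epsPullMod Λ X).obj E ≅ Q.obj (op n))) ∧
        IsIso (limit.lift Q (Cone.mk (Subobject.underlying.obj (Z k)) p)))) :
    ∃ k₀ : ℕ, ∀ k : ℕ, k₀ ≤ k → Z k = Z k₀ := by
  have hI : I.FG := IsNoetherian.noetherian I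
  obtain ⟨A, hA, hAc, ⟨a⟩⟩ := (S14010.result Λ I hI X F).1 hF
  let Φ := H18EpsMod.limEps Λ X
  haveI := H18EpsMod.preservesFiniteLimits_limEps Λ X
  haveI : Φ.Additive := Functor.additive_of_preserves_binary_products _
  choose Y hY hYc y using fun k => (S14010.result Λ I hI X _).1 (hZ k)
  replace y : ∀ k, Φ.obj (Y k) ≅ Subobject.underlying.obj (Z k) := fun k => (y k).some
  have hfull : ∀ (G H : ARSys.PS (EtModW.Mod Λ X)), ARSys.IsAdic I G → ARSys.IsAdic I H →
      ∀ φ : Φ.obj G ⟶ Φ.obj H, ∃ ψ : G ⟶ H, Φ.map ψ = φ := by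
    intro G H hG hH φ
    haveI := (S14011.result Λ I hI X).1
    let ι' := ObjectProperty.ι (fun G : ARSys.PS (EtModW.Mod Λ X) => ARSys.IsAdic I G)
    obtain ⟨t, ht⟩ := (ι' ⋙ Φ).map_surjective (show (ι' ⋙ Φ).obj ⟨G, hG⟩ ⟶ (ι' ⋙ Φ).obj ⟨H, hH⟩ from φ)
    exact ⟨_, ht⟩
  have hfaith : ∀ (G H : ARSys.PS (EtModW.Mod Λ X)), ARSys.IsAdic I G → ARSys.IsAdic I H →
      ∀ p q : G ⟶ H, Φ.map p = Φ.map q → p = q := by
    intro G H hG hH p q h
    haveI := (S14011.result Λ I hI X).2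
    let ι' := ObjectProperty.ι (fun G : ARSys.PS (EtModW.Mod Λ X) => ARSys.IsAdic I G)
    let P : (⟨G, hG⟩ : ObjectProperty.FullSubcategory _) ⟶ ⟨H, hH⟩ := ObjectProperty.homMk p
    let Q : (⟨G, hG⟩ : ObjectProperty.FullSubcategory _) ⟶ ⟨H, hH⟩ := ObjectProperty.homMk q
    exact congrArg (fun f => f.hom) ((ι' ⋙ Φ).map_injective (show (ι' ⋙ Φ).map P = (ι' ⋙ Φ).map Q from h))
  -- the morphisms of systems
  choose ψ hψ using fun k => hfull _ _ (hY k) hA ((y k).hom ≫ (Z k).arrow ≫ a.inv)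
  choose t ht using fun k => hfull _ _ (hY k) (hY (k + 1))
    ((y k).hom ≫ Subobject.ofLE (Z k) (Z (k + 1)) (Z.monotone (Nat.le_succ k)) ≫ (y (k + 1)).inv)
  have htψ : ∀ k, t k ≫ ψ (k + 1) = ψ k := fun k => hfaith _ _ (hY k) hA _ _ (by
    rw [Φ.map_comp, hψ, hψ, ht, Category.assoc, Category.assoc, Iso.inv_hom_id_assoc, Subobject.ofLE_arrow_assoc])
  -- their kernels are null up to translation
  have hker : ∀ k, ARSys.IsARNull (kernel (ψ k)) := by
    intro k
    obtain ⟨⟨-, K, c, hK, -, hc⟩, -⟩ := S13618.result Λ I (Y k) A (hY k) hA (hYc k) hAc (ψ k)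
    haveI := H18EpsMod.isIso_limEps_of_isARIso Λ X c hc
    haveI : Mono (Φ.map (ψ k)) := by rw [hψ]; infer_instance
    have h0 : IsZero (Φ.obj K) :=
      (isZero_kernel_of_mono (Φ.map (ψ k))).of_iso (asIso (Φ.map c) ≪≫ PreservesKernel.iso Φ (ψ k))
    have hc0 : c = 0 := by
      refine NatTrans.ext (funext fun n => ?_)
      haveI := H18EpsMod.epi_of_isQuot (H18EpsMod.isQuot_limit_π Λ X I hI K hK n.unop)
      have h1 : IsZero ((EtModW.epsPullMod Λ X).obj (K.obj n)) :=
        (IsZero.iff_id_eq_zero _).2 ((cancel_epi (limit.π (K ⋙ EtModW.epsPullMod Λ X) n)).1 (h0.eq_of_src _ _))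
      haveI := (H18EpsMod.full_faithful Λ X).2
      exact (EtModW.epsPullMod Λ X).map_injective (h1.eq_of_src _ _)
    subst hc0
    exact H18EpsMod.isARNull_of_iso Λ X cokernelZeroIsoTarget hc.2
  -- the images
  let e : ∀ k, Y k ⟶ (imageSubobject (ψ k) : ARSys.PS (EtModW.Mod Λ X)) := fun k => factorThruImageSubobject (ψ k)
  have he : ∀ k, ARSys.IsARIso (e k) := fun k => by
    refine ⟨H18EpsMod.isARNull_of_iso Λ X ?_ (hker k), H18EpsMod.isARNull_of_isZero Λ X (isZero_cokernel_of_epi _)⟩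
    exact kernelIsoOfEq (imageSubobject_arrow_comp (ψ k)).symm ≪≫ kernelCompMono (e k) _
  have hmono : Monotone fun k => imageSubobject (ψ k) := monotone_nat_of_le_succ fun k => by
    refine (le_of_eq ?_).trans (imageSubobject_comp_le (t k) (ψ (k + 1)))
    exact congrArg (fun f => imageSubobject f) (htψ k).symm
  obtain ⟨k₀, hk₀⟩ := S13619.result Λ I A hA hAc ⟨_, hmono⟩ fun k => by
    refine ⟨fun n c hc => ?_, Y k, e k, hY k, hYc k, he k⟩
    haveI : Mono ((imageSubobject (ψ k)).arrow.app (op n)) :=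
      inferInstanceAs (Mono (((evaluation ℕᵒᵖ (EtModW.Mod Λ X)).obj (op n)).map (imageSubobject (ψ k)).arrow))
    refine (cancel_mono ((imageSubobject (ψ k)).arrow.app (op n))).1 ?_
    rw [Linear.smul_comp, Category.id_comp, zero_comp,
      ← Category.comp_id ((imageSubobject (ψ k)).arrow.app (op n))]
    refine (Linear.comp_smul _ _ _ _ _ _).symm.trans ?_
    rw [hA.1 n c hc, comp_zero]
  refine ⟨k₀, fun k hk => ?_⟩
  induction hk with
  | refl => rfl
  | @step m hm ih =>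
    refine Eq.trans ?_ ih
    let o := Subobject.ofLE _ _ (hmono (Nat.le_succ m))
    haveI := H18EpsMod.isIso_limEps_of_isARIso Λ X o (hk₀ m hm)
    haveI := H18EpsMod.isIso_limEps_of_isARIso Λ X (e m) (he m)
    haveI := H18EpsMod.isIso_limEps_of_isARIso Λ X (e (m + 1)) (he (m + 1))
    have hcomm : t m ≫ e (m + 1) = e m ≫ o := by
      rw [← cancel_mono (imageSubobject (ψ (m + 1))).arrow, Category.assoc, Category.assoc]
      simp [e, o, htψ]
    haveI : IsIso (Φ.map (t m)) := by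
      haveI : IsIso (Φ.map (t m) ≫ Φ.map (e (m + 1))) := by
        rw [← Φ.map_comp, hcomm, Φ.map_comp]
        infer_instance
      exact IsIso.of_isIso_comp_right _ (Φ.map (e (m + 1)))
    haveI : IsIso (Subobject.ofLE (Z m) (Z (m + 1)) (Z.monotone (Nat.le_succ m))) := by
      rw [show Subobject.ofLE (Z m) (Z (m + 1)) (Z.monotone (Nat.le_succ m)) = (y m).inv ≫ Φ.map (t m) ≫ (y (m + 1)).hom by
        rw [ht, Category.assoc, Category.assoc, Iso.inv_hom_id, Category.comp_id, Iso.inv_hom_id_assoc]]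
      infer_instance
    exact (Subobject.eq_of_comm (asIso (Subobject.ofLE (Z m) (Z (m + 1)) (Z.monotone (Nat.le_succ m))))
      (Subobject.ofLE_arrow _)).symm

end Groth.Agent.S14014
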