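import Groth.Statements.S14020
import Mathlib.NumberTheory.Padics.PadicIntegers
import Mathlib.Order.CompletePartialOrder
import Mathlib.RingTheory.Flat.FaithfullyFlat.Algebra
import Mathlib.RingTheory.HopkinsLevitzki
import Mathlib.RingTheory.Noetherian.OfPrime
import Mathlib.RingTheory.SimpleRing.Principal
import Mathlib.RingTheory.Support
import Mathlib.RingTheory.WittVector.Domain
import Mathlib.RingTheory.WittVector.Teichmuller

set_option autoImplicit false
universe u
open CAlg

namespace Groth.Agent.S14020

/-- Let R be a commutative ring and I a finitely generated ideal such that the quotient ring R/I is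
artinian. Then R/I^n is artinian for every n. -/
theorem result
    (R : Type u) [CommRing R] (I : Ideal R) (hI : I.FG) [IsArtinianRing (R ⧸ I)] (n : ℕ) :
    IsArtinianRing (R ⧸ I ^ n) := by
  have key : ∀ P : Ideal (R ⧸ I ^ n), P.IsPrime → P.IsMaximal ∧ P.FG := by
    intro P hP
    set Q := P.comap (Ideal.Quotient.mk (I ^ n)) with hQdef
    have hQ : Q.IsPrime := Ideal.IsPrime.comap _
    have hIQ : I ≤ Q := by
      have : I ^ n ≤ Q := fun x hx => by
        simp [hQdef, Ideal.Quotient.eq_zero_iff_mem.mpr hx]
      exact Ideal.IsPrime.le_of_pow_le this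
    set Q' := Q.map (Ideal.Quotient.mk I)
    have hQ' : Q'.IsPrime := Ideal.map_isPrime_of_surjective Ideal.Quotient.mk_surjective (by simpa using hIQ)
    have hmax : Q'.IsMaximal := Ideal.isMaximal_of_isPrime Q'
    have hc : Q'.comap (Ideal.Quotient.mk I) = Q := by
      rw [Ideal.comap_map_of_surjective _ Ideal.Quotient.mk_surjective]; simpa [← RingHom.ker_eq_comap_bot]
    have hQmax : Q.IsMaximal := hc ▸ Ideal.comap_isMaximal_of_surjective _ Ideal.Quotient.mk_surjective
    have hfg : Q.FG := by
      have : IsNoetherianRing (R ⧸ I) := inferInstance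
      have : IsNoetherian R (R ⧸ I) := (LinearMap.isNoetherian_iff_of_bijective (σ := Ideal.Quotient.mk I) { toFun := id, map_add' := fun _ _ => rfl, map_smul' := fun r m => (algebraMap_smul (R ⧸ I) r m).symm } Function.bijective_id).mpr inferInstance
      apply Submodule.fg_of_fg_map_of_fg_inf_ker (I.mkQ)
      · exact IsNoetherian.noetherian _ 
      · rw [Submodule.ker_mkQ, inf_eq_right.mpr hIQ]; exact hI
    have hPQ : Q.map (Ideal.Quotient.mk (I ^ n)) = P := Ideal.map_comap_of_surjective _ Ideal.Quotient.mk_surjective P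
    refine ⟨?_, hPQ ▸ hfg.map _⟩
    rcases Ideal.map_eq_top_or_isMaximal_of_surjective _ (Ideal.Quotient.mk_surjective (I := I ^ n)) hQmax with h | h
    · exact absurd (hPQ ▸ h) hP.ne_top
    · exact hPQ ▸ h
  have : IsNoetherianRing (R ⧸ I ^ n) := IsNoetherianRing.of_prime fun P hP => (key P hP).2
  exact isArtinianRing_iff_krullDimLE_zero.mpr (Ring.krullDimLE_zero_iff.mpr fun P hP => (key P hP).1)

end Groth.Agent.S14020
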