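import Groth.Statements.S0737
import Groth.Agent.H1CAlg.ZarColimQuot
import Groth.Agent.H1CAlg.ZarLocal
import Groth.Agent.H1CAlg.ZarCover

set_option autoImplicit false
open CategoryTheory CategoryTheory.Limits AlgebraicGeometry Opposite Topology
universe u
open ProEtW

namespace Groth.Agent.S0737

/-- Let Spec A be w-local with radical ideal I cutting out its closed points, and A -> B inducing
algebraic residue field extensions. Then (1) every point of V(IB) is closed in Spec B, and (2) there
is an ind-Zariski B-algebra C with B/IB -> C/IC bijective, Spec C w-local, Spec C -> Spec A w-local,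
and closed points of Spec C exactly the points over closed points of Spec A. -/
theorem result (A B : Type u) [CommRing A]
    [CommRing B] [Algebra A B] (hA : ProEtW.IsWLocal (PrimeSpectrum A)) (I : Ideal A) (hI : I.IsRadical)
    (hI0 : PrimeSpectrum.zeroLocus (R := A) I = ProEtW.closedPoints (PrimeSpectrum A))
    (h : ProEtW.AlgebraicResidueExtensions A B) :
    PrimeSpectrum.zeroLocus (R := B) (I.map (algebraMap A B)) ⊆ ProEtW.closedPoints (PrimeSpectrum B) ∧
    ∃ (C : Type u) (_ : CommRing C) (_ : Algebra B C) (_ : Algebra A C) (_ : IsScalarTower A B C),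
      EtPBC.IsIndZariski B C ∧
      Function.Bijective (Ideal.quotientMap ((I.map (algebraMap A B)).map (algebraMap B C))
        (algebraMap B C) Ideal.le_comap_map) ∧
      ProEtW.IsWLocal (PrimeSpectrum C) ∧
      ProEtW.IsWLocalMap (PrimeSpectrum.comap (algebraMap A C)) ∧
      ProEtW.closedPoints (PrimeSpectrum C) =
        PrimeSpectrum.comap (algebraMap A C) ⁻¹' ProEtW.closedPoints (PrimeSpectrum A) := by
  classical
  obtain ⟨-, -, huniq⟩ := hA
  have hmaxA : ∀ p : Ideal A, p.IsPrime → I ≤ p → p.IsMaximal := fun p hp hIp => by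
    have h1 : (⟨p, hp⟩ : PrimeSpectrum A) ∈ PrimeSpectrum.zeroLocus (R := A) I := hIp
    rw [hI0] at h1
    exact (PrimeSpectrum.isClosed_singleton_iff_isMaximal _).1 h1
  have hmaxB : ∀ q : Ideal B, q.IsPrime → I.map (algebraMap A B) ≤ q → q.IsMaximal := fun q hq hle => by
    haveI := hq
    haveI := hmaxA (q.comap (algebraMap A B)) (Ideal.comap_isPrime _ _) (Ideal.map_le_iff_le_comap.1 hle)
    haveI := h q
    letI : Field (A ⧸ q.comap (algebraMap A B)) := Ideal.Quotient.field _
    exact Ideal.Quotient.maximal_of_isField _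
      (isField_of_isIntegral_of_isField' (R := A ⧸ q.comap (algebraMap A B)) (Field.toIsField _))
  refine ⟨fun x hx => (PrimeSpectrum.isClosed_singleton_iff_isMaximal _).2 (hmaxB _ x.isPrime hx), ?_⟩
  obtain ⟨H, hHr, hHa, π, hH⟩ := H1CAlg.Zar.exists_isZarColim (A := B) (k := B ⧸ I.map (algebraMap A B))
  have hker := hH.ker_quotient
  have hk : ∀ p : Ideal (B ⧸ I.map (algebraMap A B)), p.IsPrime → p.IsMaximal := fun p hp => by
    have hle : I.map (algebraMap A B) ≤ p.comap (Ideal.Quotient.mk _) := fun b hb => by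
      rw [Ideal.mem_comap, Ideal.Quotient.eq_zero_iff_mem.2 hb]
      exact zero_mem _
    haveI := hmaxB _ (Ideal.comap_isPrime _ _) hle
    have h2 := Ideal.map_eq_top_or_isMaximal_of_surjective (Ideal.Quotient.mk (I.map (algebraMap A B)))
      Ideal.Quotient.mk_surjective this
    rw [Ideal.map_comap_of_surjective _ Ideal.Quotient.mk_surjective] at h2
    exact h2.resolve_left hp.ne_top
  have hS := hH.split fun x => H1CAlg.Zar.exists_unit_idem_of_isMaximal hk (π x)
  letI : Algebra A H := ((algebraMap B H).comp (algebraMap A B)).toAlgebra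
  haveI : IsScalarTower A B H := IsScalarTower.of_algebraMap_eq' rfl
  have hkI : RingHom.ker π = I.map (algebraMap A H) := by
    rw [hker, Ideal.map_map]
    rfl
  have hcp : ProEtW.closedPoints (PrimeSpectrum H) =
      PrimeSpectrum.comap (algebraMap A H) ⁻¹' ProEtW.closedPoints (PrimeSpectrum A) := by
    rw [hS.closedPoints_eq, ← hI0, PrimeSpectrum.preimage_comap_zeroLocus, hkI,
      ← PrimeSpectrum.zeroLocus_span ((algebraMap A H) '' (I : Set A))]
    rfl
  refine ⟨H, hHr, hHa, inferInstance, inferInstance, hH.isIndZariski, ⟨?_, ?_⟩, hS.isWLocal,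
    ⟨H1CAlg.Zar.isSpectralMap_comap _, fun y hy => ?_⟩, hcp⟩
  · refine (injective_iff_map_eq_zero _).2 fun x hx => ?_
    obtain ⟨b, rfl⟩ := Ideal.Quotient.mk_surjective x
    rw [Ideal.quotientMap_mk, Ideal.Quotient.eq_zero_iff_mem, ← hker, RingHom.mem_ker, π.commutes] at hx
    exact hx
  · intro z
    obtain ⟨x, rfl⟩ := Ideal.Quotient.mk_surjective z
    obtain ⟨b, hb⟩ := Ideal.Quotient.mk_surjective (π x)
    refine ⟨Ideal.Quotient.mk _ b, ?_⟩
    rw [Ideal.quotientMap_mk, Ideal.Quotient.eq, ← hker, RingHom.mem_ker, map_sub, π.commutes, ← hb]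
    exact sub_self _
  · have h1 : y ∈ ProEtW.closedPoints (PrimeSpectrum H) := hy
    rw [hcp] at h1
    exact h1

end Groth.Agent.S0737
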