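import Groth.Statements.S8982
import Groth.Agent.H18HTop.AlmostBlowUp

set_option autoImplicit false
universe u
open HTop

namespace Groth.Agent.S8982

open CategoryTheory CategoryTheory.Limits AlgebraicGeometry in
/-- The base change of an almost blow up square along an arbitrary morphism Y → X is an almost blow up
square over Y. The base-changed corners are introduced through fibre-product squares; the morphism
from the new exceptional corner to the new centre is the one compatible with them. -/
theorem result {E Z X' X Y E₁ Z₁ X₁ : Scheme.{u}} {e : E ⟶ X'} {π : E ⟶ Z} {b : X' ⟶ X} {i : Z ⟶ X} (h : HTop.IsAlmostBlowUpSquare e π b i) (g : Y ⟶ X) {b₁ : X₁ ⟶ Y} {gX : X₁ ⟶ X'} (hX : IsPullback gX b₁ b g) {i₁ : Z₁ ⟶ Y} {gZ : Z₁ ⟶ Z} (hZ : IsPullback gZ i₁ i g) {e₁ : E₁ ⟶ X₁} {gE : E₁ ⟶ E} (hE : IsPullback gE e₁ e gX) {π₁ : E₁ ⟶ Z₁} (hπ : π₁ ≫ i₁ = e₁ ≫ b₁) : HTop.IsAlmostBlowUpSquare e₁ π₁ b₁ i₁ := by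
  haveI := h.isClosedImmersion
  haveI := h.isProper
  haveI := h.finitePresentation
  haveI := h.finitePresentation_base
  haveI : IsClosedImmersion i₁ := MorphismProperty.of_isPullback hZ inferInstance
  haveI : LocallyOfFinitePresentation i₁ := MorphismProperty.of_isPullback hZ inferInstance
  haveI : IsProper b₁ := MorphismProperty.of_isPullback hX inferInstance
  haveI : LocallyOfFinitePresentation b₁ := MorphismProperty.of_isPullback hX inferInstance
  have hpb : IsPullback e₁ π₁ b₁ i₁ := by
    have h1 := hE.flip.paste_vert h.isPullback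
    have h2 : gE ≫ π = π₁ ≫ gZ := by
      rw [← cancel_mono i, Category.assoc, ← h.isPullback.w, ← Category.assoc, hE.w,
        Category.assoc, hX.w, ← Category.assoc, ← hπ, Category.assoc, ← hZ.w, Category.assoc]
    rw [h2, hX.w] at h1
    exact IsPullback.of_bot h1 hπ.symm hZ.flip
  let I := i.ker.comap b
  have hker : i₁.ker = i.ker.comap g := by
    rw [← Scheme.Hom.ker_comp_of_isIso hZ.flip.isoPullback.inv i₁, hZ.flip.isoPullback_inv_fst,
      Scheme.IdealSheafData.ker_fst_of_isClosedImmersion]
  have hJ : i₁.ker.comap b₁ = I.comap gX := by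
    rw [hker, ← Scheme.IdealSheafData.comap_comp, ← hX.w, Scheme.IdealSheafData.comap_comp]
  have hJp : IsLocPrincipal (i₁.ker.comap b₁) := by
    rw [hJ]; exact Groth.Agent.H18HTop.isLocPrincipal_comap h.locPrincipal gX
  refine ⟨inferInstance, inferInstance, hpb, hJp, inferInstance, inferInstance, ?_, ?_⟩
  · rw [Scheme.IdealSheafData.comap_comp]
    exact Groth.Agent.H18HTop.isEffCartierIdeal_comap_supportedOn hJp
  · intro T g' hg'
    have hg0 : BlowUp.IsEffCartierIdeal (i.ker.comap (g' ≫ g)) := by
      rw [Scheme.IdealSheafData.comap_comp, ← hker]; exact hg'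
    obtain ⟨h0, hh0, hu0⟩ := h.isBlowUp.2 T (g' ≫ g) hg0
    let k := hX.lift (h0 ≫ (supportedOn I).subschemeι) g' (by rw [Category.assoc, hh0])
    have hk1 : k ≫ gX = h0 ≫ (supportedOn I).subschemeι := hX.lift_fst _ _ _
    have hk2 : k ≫ b₁ = g' := hX.lift_snd _ _ _
    have hkle : (supportedOn (i₁.ker.comap b₁)).subschemeι.ker ≤ k.ker := by
      rw [Scheme.IdealSheafData.ker_subschemeι]
      refine Groth.Agent.H18HTop.supportedOn_le_ker k _ ?_
      rwa [← Scheme.IdealSheafData.comap_comp, hk2]
    refine ⟨IsClosedImmersion.lift _ k hkle, ?_, fun m hm => ?_⟩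
    · change _ ≫ _ ≫ b₁ = g'
      rw [IsClosedImmersion.lift_fac_assoc, hk2]
    · rw [← cancel_mono (supportedOn (i₁.ker.comap b₁)).subschemeι, IsClosedImmersion.lift_fac]
      apply hX.hom_ext
      · rw [hk1]
        let q := (m ≫ (supportedOn (i₁.ker.comap b₁)).subschemeι) ≫ gX
        have hqb : q ≫ b = g' ≫ g := by
          simp only [q, Category.assoc, hX.w]
          simp only [← Category.assoc]
          rw [Category.assoc m, hm]
        have hqle : (supportedOn I).subschemeι.ker ≤ q.ker := by
          rw [Scheme.IdealSheafData.ker_subschemeι]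
          refine Groth.Agent.H18HTop.supportedOn_le_ker q _ ?_
          rwa [← Scheme.IdealSheafData.comap_comp, hqb]
        have := hu0 (IsClosedImmersion.lift _ q hqle) (by
          change _ ≫ _ ≫ b = g' ≫ g
          rw [IsClosedImmersion.lift_fac_assoc, hqb])
        rw [← this, IsClosedImmersion.lift_fac]
      · rw [hk2, Category.assoc, hm]

end Groth.Agent.S8982
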