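import Groth.Statements.S0269
import Groth.Agent.H18Et.FEtSepLevel

set_option autoImplicit false
universe u
open Pi1

namespace Groth.Agent.S0269

open AlgebraicGeometry CategoryTheory CategoryTheory.Limits in
/-- Functor form of the injectivity of pi_1(X_{kbar}) -> pi_1(X): Let X be quasi-compact and
quasi-separated over a field k with X_{kbar} connected. Every finite etale cover of X_{kbar} admits
an open and closed immersion, over X_{kbar}, into the base change of some finite etale cover of X. -/
theorem result (k : Type u) [Field k] {X : Scheme.{u}} (f : X ⟶ Spec (CommRingCat.of k)) [CompactSpace X]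
    [QuasiSeparatedSpace X]
    [ConnectedSpace ↥(pullback f (Spec.map (CommRingCat.ofHom (algebraMap k (AlgebraicClosure k)))))]
    (V : FEt.Cat (pullback f (Spec.map (CommRingCat.ofHom (algebraMap k (AlgebraicClosure k)))))) :
    ∃ (U : FEt.Cat X) (ι : V ⟶ (FEt.restrict (pullback.fst f (Spec.map (CommRingCat.ofHom (algebraMap k (AlgebraicClosure k)))))).obj U),
      IsOpenImmersion ι.left ∧ IsClosedImmersion ι.left := by
  obtain ⟨L, hL, VL, c, hc1, hc2, ⟨φ⟩⟩ := H18Et.FEtFieldLimit.exists_finite_model f V
  let t := H18Et.FEtSepLevel.toSep (L := L) f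
  let W := (FEt.restrict t).objPreimage VL
  let e : (FEt.restrict t).obj W ≅ VL := (FEt.restrict t).objObjPreimageIso VL
  let p := pullback.fst f (H18Et.FEtSepLevel.sepMap k L)
  haveI : IsFinite p := MorphismProperty.pullback_fst _ _ inferInstance
  haveI : Etale p := MorphismProperty.pullback_fst _ _ inferInstance
  haveI : IsFinite W.hom := W.prop.1
  haveI : Etale W.hom := W.prop.2
  let U : FEt.Cat X := MorphismProperty.Over.mk ⊤ (W.hom ≫ p)
    ⟨inferInstanceAs (IsFinite (W.hom ≫ p)), inferInstanceAs (Etale (W.hom ≫ p))⟩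
  let c' := c ≫ t
  let d := pullback.fst f (Spec.map (CommRingCat.ofHom (algebraMap k (AlgebraicClosure k))))
  have hd : c' ≫ p = d := by
    simp only [c', t, p, d, Category.assoc, H18Et.FEtSepLevel.toSep_fst, hc1]
  let φ' : V ≅ (FEt.restrict c').obj W :=
    φ.symm ≪≫ (FEt.restrict c).mapIso e.symm ≪≫ H18Et.FEtLimit.restrictCompIso c t c' rfl W
  let m : pullback W.hom c' ⟶ pullback (W.hom ≫ p) d :=
    pullback.mapDesc W.hom c' p ≫ (pullback.congrHom rfl hd).hom
  let ι₀ : (FEt.restrict c').obj W ⟶ (FEt.restrict d).obj U :=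
    MorphismProperty.Over.homMk m (by
      show m ≫ pullback.snd (W.hom ≫ p) d = pullback.snd W.hom c'
      simp [m, pullback.mapDesc, pullback.map]
      erw [pullback.lift_snd, pullback.lift_snd])
  haveI : IsOpenImmersion (pullback.mapDesc W.hom c' p) :=
    MorphismProperty.of_isPullback (P := @IsOpenImmersion) (pullback_map_diagonal_isPullback W.hom c' p) inferInstance
  haveI : IsClosedImmersion (pullback.mapDesc W.hom c' p) := inferInstance
  have h1 : IsOpenImmersion m := inferInstanceAs (IsOpenImmersion (_ ≫ _))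
  have h2 : IsClosedImmersion m := inferInstanceAs (IsClosedImmersion (_ ≫ _))
  haveI : IsIso φ'.hom.left :=
    (MorphismProperty.Over.forget FEt.prop ⊤ _ ⋙ Over.forget _).map_isIso φ'.hom
  refine ⟨U, φ'.hom ≫ ι₀, ?_, ?_⟩
  · exact MorphismProperty.comp_mem @IsOpenImmersion φ'.hom.left m inferInstance h1
  · exact MorphismProperty.comp_mem @IsClosedImmersion φ'.hom.left m inferInstance h2

end Groth.Agent.S0269
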