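import Groth.Statements.S5090
import Mathlib

set_option autoImplicit false
universe u
open CategoryTheory CategoryTheory.Limits AlgebraicGeometry TopologicalSpace
open Div21

namespace Groth.Agent.S5090

open TopologicalSpace

/-- Generizations of a point as primes of its local ring. -/
theorem height_comap_stalkSpecializes {X : Scheme.{u}} {ζ x : X} (h : ζ ⤳ x) :
    ((IsLocalRing.maximalIdeal (X.presheaf.stalk ζ)).comap (X.presheaf.stalkSpecializes h).hom).height
      = ringKrullDim (X.presheaf.stalk ζ) := by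
  obtain ⟨U, hU, hxU, -⟩ := exists_isAffineOpen_mem_and_subset (X := X) (U := ⊤) (x := x) trivial
  have hζU : ζ ∈ U := h.mem_open U.2 hxU
  letI := X.presheaf.algebra_section_stalk ⟨x, hxU⟩
  letI := X.presheaf.algebra_section_stalk ⟨ζ, hζU⟩
  haveI := hU.isLocalization_stalk ⟨x, hxU⟩
  haveI := hU.isLocalization_stalk ⟨ζ, hζU⟩
  rw [IsLocalization.AtPrime.ringKrullDim_eq_height (hU.primeIdealOf ⟨ζ, hζU⟩).asIdeal]
  congr 1
  rw [← IsLocalization.height_under (hU.primeIdealOf ⟨x, hxU⟩).asIdeal.primeCompl]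
  congr 1
  rw [Ideal.under, Ideal.comap_comap]
  have : ((X.presheaf.stalkSpecializes h).hom.comp (algebraMap Γ(X, U) (X.presheaf.stalk x)))
      = algebraMap Γ(X, U) (X.presheaf.stalk ζ) :=
    congrArg CommRingCat.Hom.hom (X.presheaf.germ_stalkSpecializes hxU h)
  rw [this]
  exact IsLocalization.AtPrime.comap_maximalIdeal (X.presheaf.stalk ζ) (hU.primeIdealOf ⟨ζ, hζU⟩).asIdeal

/-- Every prime of the local ring at `x` comes from a generization. -/
theorem exists_generization_comap_eq {X : Scheme.{u}} {x : X} (P : Ideal (X.presheaf.stalk x)) [P.IsPrime] :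
    ∃ (ζ : X) (h : ζ ⤳ x),
      (IsLocalRing.maximalIdeal (X.presheaf.stalk ζ)).comap (X.presheaf.stalkSpecializes h).hom = P := by
  obtain ⟨U, hU, hxU, -⟩ := exists_isAffineOpen_mem_and_subset (X := X) (U := ⊤) (x := x) trivial
  letI := X.presheaf.algebra_section_stalk ⟨x, hxU⟩
  haveI := hU.isLocalization_stalk ⟨x, hxU⟩
  let q : PrimeSpectrum Γ(X, U) := ⟨P.comap (algebraMap Γ(X, U) (X.presheaf.stalk x)), inferInstance⟩
  have hqp : q ⤳ hU.primeIdealOf ⟨x, hxU⟩ := by
    rw [← PrimeSpectrum.le_iff_specializes]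
    show P.comap _ ≤ _
    rw [← IsLocalization.AtPrime.comap_maximalIdeal (X.presheaf.stalk x) (hU.primeIdealOf ⟨x, hxU⟩).asIdeal]
    exact Ideal.comap_mono (IsLocalRing.le_maximalIdeal ‹P.IsPrime›.ne_top)
  have hspec : hU.fromSpec q ⤳ x := by
    have := hqp.map hU.fromSpec.continuous
    rwa [hU.fromSpec_primeIdealOf ⟨x, hxU⟩] at this
  have hζU : hU.fromSpec q ∈ U := hspec.mem_open U.2 hxU
  refine ⟨hU.fromSpec q, hspec, ?_⟩
  letI := X.presheaf.algebra_section_stalk ⟨hU.fromSpec q, hζU⟩
  haveI : IsLocalization.AtPrime (X.presheaf.stalk (hU.fromSpec q)) q.asIdeal :=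
    hU.isLocalization_stalk' q hζU
  have h1 : ((IsLocalRing.maximalIdeal (X.presheaf.stalk (hU.fromSpec q))).comap
      (X.presheaf.stalkSpecializes hspec).hom).comap (algebraMap Γ(X, U) (X.presheaf.stalk x)) = q.asIdeal := by
    rw [Ideal.comap_comap]
    have : ((X.presheaf.stalkSpecializes hspec).hom.comp (algebraMap Γ(X, U) (X.presheaf.stalk x)))
        = algebraMap Γ(X, U) (X.presheaf.stalk (hU.fromSpec q)) :=
      congrArg CommRingCat.Hom.hom (X.presheaf.germ_stalkSpecializes hxU hspec)
    rw [this]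
    exact IsLocalization.AtPrime.comap_maximalIdeal (X.presheaf.stalk (hU.fromSpec q)) q.asIdeal
  refine (IsLocalization.map_comap (hU.primeIdealOf ⟨x, hxU⟩).asIdeal.primeCompl (X.presheaf.stalk x) _).symm.trans ?_
  refine Eq.trans ?_ (IsLocalization.map_comap (hU.primeIdealOf ⟨x, hxU⟩).asIdeal.primeCompl (X.presheaf.stalk x) P)
  exact congrArg _ h1

/-- A Noetherian local ring whose height-one primes are all principal, generated by nonzerodivisors, is
factorial unless it is zero-dimensional. -/
theorem isDomain_ufd {R : Type u} [CommRing R] [IsNoetherianRing R] [IsLocalRing R]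
    (h : ∀ (P : Ideal R) [P.IsPrime], P.height = 1 → ∃ t ∈ nonZeroDivisors R, P = Ideal.span {t})
    (hd : IsLocalRing.maximalIdeal R ∉ minimalPrimes R) :
    ∃ _ : IsDomain R, UniqueFactorizationMonoid R := by
  haveI : WellFoundedLT (PrimeSpectrum R) :=
    StrictMono.wellFoundedLT (f := fun p : PrimeSpectrum R ↦ p.asIdeal.height)
      fun a b hab ↦ Ideal.height_strict_mono_of_isPrime (I := a.asIdeal) (J := b.asIdeal) hab
  obtain ⟨Q, hQ, hQmin⟩ := exists_minimal_of_wellFoundedLT
    (fun p : PrimeSpectrum R => p.asIdeal ∉ minimalPrimes R) ⟨IsLocalRing.closedPoint R, hd⟩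
  have hQ1 : Q.asIdeal.height = 1 := by
    refine le_antisymm ?_ (Order.one_le_iff_ne_zero.mpr (fun e => hQ (Ideal.height_eq_zero_iff.mp e)))
    show Q.asIdeal.height ≤ ((1 : ℕ) : ℕ∞)
    rw [Ideal.height_le_iff]
    intro q hq hlt
    have hqmin : q ∈ minimalPrimes R := by
      by_contra hn
      exact hlt.not_ge (hQmin (y := ⟨q, hq⟩) hn hlt.le)
    haveI := hq
    rw [Ideal.height_eq_zero_iff.mpr hqmin]
    exact zero_lt_one
  obtain ⟨t, ht, hQt⟩ := h Q.asIdeal hQ1
  obtain ⟨p, hp, hpQ⟩ := Ideal.exists_minimalPrimes_le (J := Q.asIdeal) (I := (⊥ : Ideal R)) bot_le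
  haveI := hp.isPrime
  have htp : t ∉ p := fun htp => by
    have hle : Q.asIdeal ≤ p := by rw [hQt]; exact (Ideal.span_singleton_le_iff_mem _).mpr htp
    exact hQ (le_antisymm hpQ hle ▸ hp)
  have hsm : p ≤ Ideal.span {t} • p := fun a ha => by
    obtain ⟨c, rfl⟩ := Ideal.mem_span_singleton'.mp (hQt ▸ hpQ ha)
    rw [mul_comm]
    exact Submodule.smul_mem_smul (Ideal.mem_span_singleton_self t) ((hp.isPrime.mem_or_mem ha).resolve_right htp)
  have hp0 : p = ⊥ := Submodule.eq_bot_of_le_smul_of_le_jacobson_bot (Ideal.span {t}) p (IsNoetherian.noetherian p) hsm (by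
    rw [IsLocalRing.jacobson_eq_maximalIdeal ⊥ bot_ne_top, ← hQt]
    exact IsLocalRing.le_maximalIdeal Q.2.ne_top)
  haveI : IsDomain R := by
    haveI : (⊥ : Ideal R).IsPrime := hp0 ▸ hp.isPrime
    exact IsDomain.of_bot_isPrime R
  refine ⟨inferInstance, UniqueFactorizationMonoid.of_forall_isPrincipal_of_height_eq_one fun P hP e => ?_⟩
  obtain ⟨t, -, hPt⟩ := h P e
  exact ⟨t, hPt⟩

/-- A localisation at a smaller prime of a domain localisation is a domain. -/
theorem isDomain_of_le {A Rp Rq : Type u} [CommRing A] [CommRing Rp] [CommRing Rq] [Algebra A Rp]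
    [Algebra A Rq] (p q : Ideal A) [p.IsPrime] [q.IsPrime] (hpq : p ≤ q) [IsLocalization.AtPrime Rp p]
    [IsLocalization.AtPrime Rq q] [IsDomain Rq] : IsDomain Rp := by
  have hle : q.primeCompl ≤ p.primeCompl := fun a ha h => ha (hpq h)
  letI := IsLocalization.localizationAlgebraOfSubmonoidLe Rq Rp _ _ hle
  haveI : IsScalarTower A Rq Rp := IsLocalization.localization_isScalarTower_of_submonoid_le Rq Rp _ _ hle
  haveI : IsLocalization (p.primeCompl.map (algebraMap A Rq)) Rp :=
    IsLocalization.isLocalization_of_submonoid_le Rq Rp _ _ hle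
  refine IsLocalization.isDomain_of_le_nonZeroDivisors Rp (M := p.primeCompl.map (algebraMap A Rq)) ?_
  rintro _ ⟨a, ha, rfl⟩
  rw [mem_nonZeroDivisors_iff_ne_zero]
  intro h0
  have h1 : algebraMap A Rp a = 0 := by
    rw [IsScalarTower.algebraMap_apply A Rq Rp, h0, map_zero]
  haveI : IsLocalRing Rp := IsLocalization.AtPrime.isLocalRing Rp p
  exact (IsLocalization.AtPrime.isUnit_to_map_iff Rp p a).mpr ha |>.ne_zero h1

/-- Equivalence of conditions a'') and c): let X be a locally Noetherian scheme which is reduced at each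
of its isolated points (for every point x such that {x} is open, the local ring O_{X,x} is reduced).
Then the following are equivalent. (a'') Every integral closed subscheme of X of codimension 1 is
regularly immersed in X: for every point ζ whose local ring has dimension 1 and every specialization
x of ζ, the ideal of O_{X,x} defining the closure of ζ with its reduced structure (the preimage of
the maximal ideal of O_{X,ζ} under the specialization map) is generated by one non-zero-divisor of
O_{X,x}. (c) X is locally factorial: every local ring of X is a unique factorisation domain. -/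
theorem result (X : Scheme.{u}) [IsLocallyNoetherian X]
    (hred : ∀ x : ↥X, IsOpen ({x} : Set ↥X) → IsReduced ↑(X.presheaf.stalk x)) :
    (∀ ζ : ↥X, ringKrullDim ↑(X.presheaf.stalk ζ) = 1 → ∀ (x : ↥X) (h : ζ ⤳ x),
        ∃ t : ↑(X.presheaf.stalk x), t ∈ nonZeroDivisors ↑(X.presheaf.stalk x) ∧
          (IsLocalRing.maximalIdeal ↑(X.presheaf.stalk ζ)).comap (X.presheaf.stalkSpecializes h).hom =
            Ideal.span {t}) ↔
      ∀ x : ↥X, ∃ _ : IsDomain ↑(X.presheaf.stalk x), UniqueFactorizationMonoid ↑(X.presheaf.stalk x) := by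
  constructor
  · intro h x
    have key : ∀ y : X, IsLocalRing.maximalIdeal (X.presheaf.stalk y) ∉ minimalPrimes _ →
        ∃ _ : IsDomain (X.presheaf.stalk y), UniqueFactorizationMonoid (X.presheaf.stalk y) := by
      intro y hy
      refine isDomain_ufd (fun P _ hP => ?_) hy
      obtain ⟨ζ, hζ, e⟩ := exists_generization_comap_eq P
      subst e
      obtain ⟨t, ht, e⟩ := h ζ (by rw [← height_comap_stalkSpecializes hζ, hP]; rfl) y hζ
      exact ⟨t, ht, e⟩
    by_cases hx : IsLocalRing.maximalIdeal (X.presheaf.stalk x) ∈ minimalPrimes _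
    swap
    · exact key x hx
    suffices hdom : IsDomain (X.presheaf.stalk x) by
      refine ⟨hdom, UniqueFactorizationMonoid.of_forall_isPrincipal_of_height_eq_one fun P hP e => ?_⟩
      have h0 : (IsLocalRing.maximalIdeal (X.presheaf.stalk x)).height = 0 := Ideal.height_eq_zero_iff.mpr hx
      have := (Ideal.height_mono (IsLocalRing.le_maximalIdeal hP.ne_top)).trans_eq h0
      rw [e] at this
      exact absurd this (not_le.mpr zero_lt_one)
    obtain ⟨U, hU, hxU, -⟩ := exists_isAffineOpen_mem_and_subset (X := X) (U := ⊤) (x := x) trivial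
    haveI := IsLocallyNoetherian.component_noetherian ⟨U, hU⟩
    letI := X.presheaf.algebra_section_stalk ⟨x, hxU⟩
    haveI := hU.isLocalization_stalk ⟨x, hxU⟩
    set p := hU.primeIdealOf ⟨x, hxU⟩ with hp
    have hpmin : p.asIdeal ∈ minimalPrimes Γ(X, U) := by
      rw [← Ideal.height_eq_zero_iff]
      have h1 := IsLocalization.AtPrime.ringKrullDim_eq_height p.asIdeal (X.presheaf.stalk x)
      rw [← IsLocalRing.maximalIdeal_height_eq_ringKrullDim, Ideal.height_eq_zero_iff.mpr hx] at h1
      exact_mod_cast h1.symm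
    by_cases hpmax : p.asIdeal.IsMaximal
    · have hfin : ({q : PrimeSpectrum Γ(X, U) | q.asIdeal ∈ minimalPrimes Γ(X, U) ∧ q ≠ p}).Finite :=
        ((minimalPrimes.finite_of_isNoetherianRing Γ(X, U)).preimage
          (fun a _ b _ e => PrimeSpectrum.ext e)).subset fun q hq => hq.1
      have hopen : IsOpen ({p} : Set (PrimeSpectrum Γ(X, U))) := by
        have : ({p} : Set (PrimeSpectrum Γ(X, U))) = (⋃ q ∈ {q : PrimeSpectrum Γ(X, U) |
            q.asIdeal ∈ minimalPrimes Γ(X, U) ∧ q ≠ p}, closure {q})ᶜ := by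
          ext r
          simp only [Set.mem_singleton_iff, Set.mem_compl_iff, Set.mem_iUnion, ← specializes_iff_mem_closure,
            ← PrimeSpectrum.le_iff_specializes, Set.mem_setOf_eq, exists_prop, not_exists, not_and]
          constructor
          · rintro rfl q ⟨hq, hne⟩ hle
            exact hne (PrimeSpectrum.ext (le_antisymm hle (hpmin.2 ⟨q.2, bot_le⟩ hle)))
          · intro hr
            obtain ⟨q, hq, hqr⟩ := Ideal.exists_minimalPrimes_le (J := r.asIdeal) (I := (⊥ : Ideal _)) bot_le
            by_cases hqp : (⟨q, hq.isPrime⟩ : PrimeSpectrum Γ(X, U)) = p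
            · rw [← hqp] at hpmax ⊢
              exact PrimeSpectrum.ext (hpmax.eq_of_le r.2.ne_top hqr).symm
            · exact absurd hqr (hr ⟨q, hq.isPrime⟩ ⟨hq, hqp⟩)
        rw [this]
        exact (hfin.isClosed_biUnion fun _ _ => isClosed_closure).isOpen_compl
      have hxopen : IsOpen ({x} : Set X) := by
        have := hU.fromSpec.isOpenEmbedding.isOpenMap _ hopen
        have e : (⇑hU.fromSpec '' {p}) = ({x} : Set X) := by
          refine Set.eq_singleton_iff_unique_mem.mpr ⟨⟨p, rfl, hU.fromSpec_primeIdealOf ⟨x, hxU⟩⟩, ?_⟩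
          rintro _ ⟨r, hr, rfl⟩
          cases hr
          exact hU.fromSpec_primeIdealOf ⟨x, hxU⟩
        exact e ▸ this
      haveI := hred x hxopen
      have hm0 : IsLocalRing.maximalIdeal (X.presheaf.stalk x) = ⊥ := by
        rw [eq_bot_iff]
        intro a ha
        have hnil : a ∈ nilradical (X.presheaf.stalk x) := by
          rw [nilradical_eq_sInf, Ideal.mem_sInf]
          intro q (hq : q.IsPrime)
          have := hx.2 ⟨hq, bot_le⟩ (IsLocalRing.le_maximalIdeal hq.ne_top)
          exact this ha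
        rw [nilradical_eq_zero (X.presheaf.stalk x)] at hnil
        exact hnil
      exact (IsLocalRing.isField_iff_maximalIdeal_eq.mpr hm0).isDomain
    · obtain ⟨m, hm, hpm⟩ := Ideal.exists_le_maximal p.asIdeal p.2.ne_top
      let q : PrimeSpectrum Γ(X, U) := ⟨m, hm.isPrime⟩
      have hyU : hU.fromSpec q ∈ U := by
        have : hU.fromSpec q ∈ Set.range hU.fromSpec := ⟨q, rfl⟩
        rwa [hU.range_fromSpec] at this
      letI := X.presheaf.algebra_section_stalk ⟨hU.fromSpec q, hyU⟩
      haveI : IsLocalization.AtPrime (X.presheaf.stalk (hU.fromSpec q)) q.asIdeal :=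
        hU.isLocalization_stalk' q hyU
      obtain ⟨hdomy, -⟩ := key (hU.fromSpec q) (fun hmin => hpmax (by
        have h1 := IsLocalization.AtPrime.ringKrullDim_eq_height q.asIdeal (X.presheaf.stalk (hU.fromSpec q))
        rw [← IsLocalRing.maximalIdeal_height_eq_ringKrullDim, Ideal.height_eq_zero_iff.mpr hmin] at h1
        have hq0 : q.asIdeal ∈ minimalPrimes Γ(X, U) := Ideal.height_eq_zero_iff.mp (by exact_mod_cast h1.symm)
        rw [le_antisymm hpm (hq0.2 ⟨p.2, bot_le⟩ hpm)]
        exact hm))
      exact isDomain_of_le p.asIdeal q.asIdeal hpm (Rq := X.presheaf.stalk (hU.fromSpec q))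
  · intro h ζ hζ x hx
    obtain ⟨hdom, hufd⟩ := h x
    have h1 : ((IsLocalRing.maximalIdeal (X.presheaf.stalk ζ)).comap
        (X.presheaf.stalkSpecializes hx).hom).height = 1 := by
      have := (height_comap_stalkSpecializes hx).trans hζ
      exact_mod_cast this
    obtain ⟨t, ht⟩ := UniqueFactorizationMonoid.isPrincipal_of_height_eq_one h1
    refine ⟨t, mem_nonZeroDivisors_iff_ne_zero.mpr fun h0 => ?_, ht⟩
    subst h0
    exact Ideal.ne_bot_of_height_eq_one h1 (ht.trans (Submodule.span_zero_singleton _))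

end Groth.Agent.S5090
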