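import Groth.Statements.S13606
import Groth.Agent.H18Quot.Categorical

set_option autoImplicit false
universe u
open CategoryTheory AlgebraicGeometry
open SGA1

namespace Groth.Agent.S13606

/-- Let a finite group G act on a scheme X and let p : X ⟶ Y be a quotient of X by G (affine,
G-invariant, sections of O_Y over every open = G-invariant sections of O_X over its preimage). Then
for every open U ⊆ Y, U is the quotient of p⁻¹U by G: the restriction p⁻¹U ⟶ U of p is again a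
quotient in the same sense, for the action ρU of G on the G-stable open p⁻¹U induced by ρ (pinned by
compatibility with the inclusion p⁻¹U ⟶ X). -/
theorem result {X Y : Scheme.{u}} {G : Type u} [Group G] [Finite G]
    (ρ : G →* Aut X) (p : X ⟶ Y) (hp : SGA1.IsQuot ρ p) (U : Y.Opens)
    (ρU : G →* Aut (p ⁻¹ᵁ U).toScheme)
    (hρU : ∀ g : G, (ρU g).hom ≫ (p ⁻¹ᵁ U).ι = (p ⁻¹ᵁ U).ι ≫ (ρ g).hom) :
    SGA1.IsQuot ρU (p ∣_ U) := by
  haveI := hp.affine
  have hinv : ∀ g : G, (ρU g).hom ≫ (p ∣_ U) = p ∣_ U := fun g => by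
    rw [← cancel_mono U.ι, Category.assoc, morphismRestrict_ι, ← Category.assoc, hρU, Category.assoc,
      hp.inv]
  refine ⟨IsZariskiLocalAtTarget.restrict hp.affine U, hinv, fun V => ?_, fun V s => ?_⟩
  · rw [morphismRestrict_app' p U V]
    intro a b hab
    apply hp.injective (U.ι ''ᵁ V)
    simp only [Scheme.Hom.appLE, CommRingCat.comp_apply] at hab
    exact ((ConcreteCategory.bijective_of_isIso (X.presheaf.map (eqToHom
      (image_morphismRestrict_preimage p U V)).op)).injective hab)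
  · let V' := U.ι ''ᵁ V
    have eV : (p ⁻¹ᵁ U).ι ''ᵁ ((p ∣_ U) ⁻¹ᵁ V) = p ⁻¹ᵁ V' := image_morphismRestrict_preimage p U V
    let s' : Γ(X, p ⁻¹ᵁ V') := (X.presheaf.map (eqToHom eV.symm).op).hom s
    have hs' : ∀ t : Γ(X, p ⁻¹ᵁ V'), (X.presheaf.map (eqToHom eV).op).hom t = s ↔ t = s' := by
      intro t
      constructor
      · rintro rfl
        simp [s', ← CommRingCat.comp_apply, ← X.presheaf.map_comp]
      · rintro rfl
        simp [s', ← CommRingCat.comp_apply, ← X.presheaf.map_comp]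
    have key : ∀ g : G, ((ρU g).hom.appLE ((p ∣_ U) ⁻¹ᵁ V) ((p ∣_ U) ⁻¹ᵁ V)
        (SGA1.preimage_le_of_inv ρU _ hinv g V)).hom s = (X.presheaf.map (eqToHom eV).op).hom
          (((ρ g).hom.appLE (p ⁻¹ᵁ V') (p ⁻¹ᵁ V') (SGA1.preimage_le_of_inv ρ p hp.inv g V')).hom s') := by
      intro g
      have hle : (p ∣_ U) ⁻¹ᵁ V ≤ ((ρU g).hom ≫ (p ⁻¹ᵁ U).ι) ⁻¹ᵁ (p ⁻¹ᵁ V') := by
        rw [hρU, Scheme.Hom.comp_preimage]
        intro x hx
        exact SGA1.preimage_le_of_inv ρ p hp.inv g V' (eV.le ⟨x, hx, rfl⟩)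
      have h1 : ((ρU g).hom ≫ (p ⁻¹ᵁ U).ι).appLE (p ⁻¹ᵁ V') ((p ∣_ U) ⁻¹ᵁ V) hle =
          X.presheaf.map (eqToHom eV).op ≫ (ρU g).hom.appLE ((p ∣_ U) ⁻¹ᵁ V) ((p ∣_ U) ⁻¹ᵁ V)
            (SGA1.preimage_le_of_inv ρU _ hinv g V) := by
        rw [← Scheme.Hom.appLE_comp_appLE (ρU g).hom (p ⁻¹ᵁ U).ι (p ⁻¹ᵁ V') ((p ∣_ U) ⁻¹ᵁ V)
          ((p ∣_ U) ⁻¹ᵁ V) (fun x hx => eV.le ⟨x, hx, rfl⟩) (SGA1.preimage_le_of_inv ρU _ hinv g V),
          Scheme.Opens.ι_appLE]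
        rfl
      have h2 : ((ρU g).hom ≫ (p ⁻¹ᵁ U).ι).appLE (p ⁻¹ᵁ V') ((p ∣_ U) ⁻¹ᵁ V) hle =
          (ρ g).hom.appLE (p ⁻¹ᵁ V') (p ⁻¹ᵁ V') (SGA1.preimage_le_of_inv ρ p hp.inv g V') ≫
            X.presheaf.map (eqToHom eV).op := by
        simp only [hρU g]
        rw [← Scheme.Hom.appLE_comp_appLE (p ⁻¹ᵁ U).ι (ρ g).hom (p ⁻¹ᵁ V') (p ⁻¹ᵁ V')
          ((p ∣_ U) ⁻¹ᵁ V) (SGA1.preimage_le_of_inv ρ p hp.inv g V') (fun x hx => eV.le ⟨x, hx, rfl⟩),
          Scheme.Opens.ι_appLE]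
        rfl
      have h3 := congrArg (fun m => m.hom s') (h1.symm.trans h2)
      simp only [CommRingCat.comp_apply] at h3
      rwa [(hs' s').mpr rfl] at h3
    rw [morphismRestrict_app p U V]
    constructor
    · rintro ⟨b, hb⟩ g
      rw [key g, (hp.range_iff V' s').mp ⟨b, (hs' _).mp hb⟩ g]
      exact (hs' s').mpr rfl
    · intro h
      obtain ⟨b, hb⟩ := (hp.range_iff V' s').mpr fun g => (hs' _).mp ((key g).symm.trans (h g))
      exact ⟨b, (hs' _).mpr hb⟩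

end Groth.Agent.S13606
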