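import Groth.Statements.S15941
import Mathlib.RingTheory.IntegralClosure.IntegrallyClosed
import Mathlib.Tactic.LinearCombination

set_option autoImplicit false
universe u
open HTop

namespace Groth.Agent.S15941

/-- An integrally closed integral domain is a seminormal ring, that is, whenever x^3 = y^2 there is
exactly one element a with x = a^2 and y = a^3. (The published statement is for a normal Noetherian
scheme and reduces at once to this affine integral case; the Noetherian hypothesis plays no role.) -/
theorem result (A : Type u) [CommRing A] [IsDomain A]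
    [IsIntegrallyClosed A] : HTop.IsSeminormalRing A := by
  intro x y h
  rcases eq_or_ne x 0 with rfl | hx
  · have hy : y = 0 := (sq_eq_zero_iff).1 (by simpa using h.symm)
    subst hy
    exact ⟨0, ⟨by simp, by simp⟩, fun a ha => sq_eq_zero_iff.1 ha.1.symm⟩
  let K := FractionRing A
  have hx' : algebraMap A K x ≠ 0 := by
    simpa using (map_ne_zero_iff (algebraMap A K) (IsFractionRing.injective A K)).2 hx
  have h' : (algebraMap A K x) ^ 3 = (algebraMap A K y) ^ 2 := by
    rw [← map_pow, ← map_pow, h]
  have hsq : (algebraMap A K y / algebraMap A K x) ^ 2 = algebraMap A K x := by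
    rw [div_pow, div_eq_iff (pow_ne_zero _ hx')]
    linear_combination -h'
  obtain ⟨a, ha⟩ : ∃ a, algebraMap A K a = algebraMap A K y / algebraMap A K x :=
    IsIntegrallyClosed.isIntegral_iff.1 (IsIntegral.of_pow two_pos (by rw [hsq]; exact isIntegral_algebraMap))
  have hax : a * x = y := IsFractionRing.injective A K (by
    rw [map_mul, ha, div_mul_cancel₀ _ hx'])
  have ha2 : x = a ^ 2 := IsFractionRing.injective A K (by rw [map_pow, ha, hsq])
  refine ⟨a, ⟨ha2, ?_⟩, fun b hb => ?_⟩
  · rw [← hax, ha2]; ring
  · refine mul_right_cancel₀ hx ?_
    rw [hax]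
    calc b * x = b * b ^ 2 := by rw [← hb.1]
      _ = y := by rw [hb.2]; ring

end Groth.Agent.S15941
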