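import Groth.Statements.S16611
import Groth.Agent.H21Diag.MonoLocus

set_option autoImplicit false
open CategoryTheory MonoidalCategory CartesianMonoidalCategory MonObj GrpObj AlgebraicGeometry
universe u
open SGA3x

namespace Groth.Agent.S16611
open Groth.Agent.H21Diag

/-- the rank of a chart at a field valued point is determined -/
theorem rank_le {S : Scheme.{u}} {G : Over S} [GrpObj G] {U U' : Scheme.{u}} {u₀ : U ⟶ S} {u₀' : U' ⟶ S}
    {r r' : ℕ} (e : Grp.mk (Red.bc u₀ G) ≅ Grp.mk (Red.DS U (Fin r → ℤ)))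
    (e' : Grp.mk (Red.bc u₀' G) ≅ Grp.mk (Red.DS U' (Fin r' → ℤ)))
    {k : Type u} [Field k] (y : Spec (CommRingCat.of k) ⟶ U) (y' : Spec (CommRingCat.of k) ⟶ U')
    (h : y ≫ u₀ = y' ≫ u₀') : r ≤ r' := by
  let e₁ := restrictChart e y (v₀ := y ≫ u₀) rfl
  let e₂ := restrictChart e' y' (v₀ := y ≫ u₀) h.symm
  obtain ⟨a, ha, φ, hφ⟩ := exists_local_char e₁ e₂ (𝟙 G) (B := k) (𝟙 _) (𝟙 _) rfl ⊥ Ideal.isPrime_bot
  have hact : ActsBy e₁ e₂ (𝟙 G) (𝟙 _) (𝟙 _) φ := ⟨rfl, fun D _ g χ =>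
    hφ D g ((IsUnit.mk0 a (fun h => ha (by simp [h]))).map g) χ⟩
  have hsurj : Function.Surjective φ :=
    (kerTriv_iff_surjective (𝟙 G) hact).mp fun T g hg => by rwa [Category.comp_id] at hg
  let L : (Fin r' → ℤ) →ₗ[ℤ] (Fin r → ℤ) := φ.toAdditive.toIntLinearMap
  have hL : Function.Surjective L := hsurj
  have := LinearMap.finrank_le_finrank_of_surjective (R := ℤ) hL
  simpa using this

theorem multTypeFT_of_torus {S : Scheme.{u}} {T : Over S} [GrpObj T] (hT : Red.IsTorus T) :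
    SGA3x.IsMultTypeFT T := by
  obtain ⟨S', g, hg, hs, hqc, hloc⟩ := hT
  refine ⟨S', g, hg, hs, hqc, fun s' => ?_⟩
  obtain ⟨U, hsU, r, hr⟩ := hloc s'
  exact ⟨U, hsU, Fin r → ℤ, inferInstance, inferInstance, hr⟩

/-- Over an arbitrary scheme S, a monomorphism f : T ⟶ T' of S-tori with the same rank function (at
every point of S the geometric fibres of T and T' are split tori of the same rank) is an
isomorphism. -/
theorem result {S : Scheme.{u}} {T T' : Over S} [GrpObj T] [GrpObj T']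
    (hT : Red.IsTorus T) (hT' : Red.IsTorus T') (f : T ⟶ T') [IsMonHom f] [Mono f]
    (hrk : ∀ s : ↥S, ∃ r : ℕ, Red.IsSplitTorusWith (Fin r → ℤ) (Red.geomFibre s T) ∧
      Red.IsSplitTorusWith (Fin r → ℤ) (Red.geomFibre s T')) : IsIso f := by
  have hT1 := multTypeFT_of_torus hT
  have hT2 := multTypeFT_of_torus hT'
  have := isAffineHom_of_multTypeFT hT1
  have := isAffineHom_of_multTypeFT hT2
  have hker : ∀ s : S, KerTriv f s := fun s X g hg => by
    rw [← cancel_mono f, hg, MonObj.one_comp]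
  obtain ⟨V, -, hV, hVfl, hVsj⟩ := exists_flat_surjective_locus f hT1 hT2
  have hall : ∀ s : S, s ∈ V := by
    intro s
    rw [hV]
    obtain ⟨r, ⟨g₁⟩, ⟨g₂⟩⟩ := hrk s
    obtain ⟨S₁, v₁, hv₁, hs₁, -, hloc₁⟩ := hT
    obtain ⟨S₂, v₂, hv₂, hs₂, -, hloc₂⟩ := hT'
    obtain ⟨t₁, ht₁⟩ := hs₁.surj s
    obtain ⟨t₂, ht₂⟩ := hs₂.surj s
    obtain ⟨U₁, hU₁, r₁, ⟨e₁⟩⟩ := hloc₁ t₁
    obtain ⟨U₂, hU₂, r₂, ⟨e₂⟩⟩ := hloc₂ t₂
    -- a common field valued point
    have hgp : ∀ x, (Red.geomPt s).base x = s := fun x => by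
      rw [Scheme.Hom.comp_apply]; exact Scheme.fromSpecResidueField_apply s _
    have hu : (U₁.ι ≫ v₁).base ⟨t₁, hU₁⟩ = (U₂.ι ≫ v₂).base ⟨t₂, hU₂⟩ := ht₁.trans ht₂.symm
    obtain ⟨q, hq₁, -⟩ := Scheme.Pullback.exists_preimage_pullback
      (f := U₁.ι ≫ v₁) (g := U₂.ι ≫ v₂) ⟨t₁, hU₁⟩ ⟨t₂, hU₂⟩ hu
    let pb := Limits.pullback.fst (U₁.ι ≫ v₁) (U₂.ι ≫ v₂) ≫ U₁.ι ≫ v₁
    have hq : pb.base q = (Red.geomPt s).base (IsLocalRing.closedPoint _) := by
      rw [hgp, Scheme.Hom.comp_apply, hq₁]; exact ht₁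
    obtain ⟨w, -, -⟩ := Scheme.Pullback.exists_preimage_pullback (f := pb) (g := Red.geomPt s) q _ hq
    let P := Limits.pullback pb (Red.geomPt s)
    let z : Spec (CommRingCat.of (P.residueField w)) ⟶ P := P.fromSpecResidueField w
    let y₁ := z ≫ Limits.pullback.fst pb (Red.geomPt s) ≫ Limits.pullback.fst _ _
    let y₂ := z ≫ Limits.pullback.fst pb (Red.geomPt s) ≫ Limits.pullback.snd _ _
    let yg := z ≫ Limits.pullback.snd pb (Red.geomPt s)
    have h12 : y₁ ≫ U₁.ι ≫ v₁ = y₂ ≫ U₂.ι ≫ v₂ := by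
      simp only [y₁, y₂, Category.assoc, Limits.pullback.condition]
    have h1g : y₁ ≫ U₁.ι ≫ v₁ = yg ≫ Red.geomPt s := by
      simp only [y₁, yg, Category.assoc, ← Limits.pullback.condition, pb]
    have e1r : r₁ = r := le_antisymm (rank_le e₁ g₁ y₁ yg h1g) (rank_le g₁ e₁ yg y₁ h1g.symm)
    have e2r : r₂ = r := le_antisymm (rank_le e₂ g₂ y₂ yg (h12.symm.trans h1g))
      (rank_le g₂ e₂ yg y₂ (h1g.symm.trans h12))
    have heq : r₁ = r₂ := e1r.trans e2r.symm
    subst heq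
    -- the homomorphism at that point
    let k := P.residueField w
    let c₁ := restrictChart e₁ y₁ (v₀ := y₁ ≫ U₁.ι ≫ v₁) rfl
    let c₂ := restrictChart e₂ y₂ (v₀ := y₁ ≫ U₁.ι ≫ v₁) h12.symm
    obtain ⟨a, ha, φ, hφ⟩ := exists_local_char c₁ c₂ f (B := k) (𝟙 _) (𝟙 _) rfl ⊥ Ideal.isPrime_bot
    have hact : ActsBy c₁ c₂ f (𝟙 _) (𝟙 _) φ := ⟨rfl, fun D _ g χ =>
      hφ D g ((IsUnit.mk0 a (fun h => ha (by simp [h]))).map g) χ⟩
    have hsurj : Function.Surjective φ := (kerTriv_iff_surjective f hact).mp (hker _)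
    have hinj : Function.Injective φ := OrzechProperty.injective_of_surjective_endomorphism
      φ.toAdditive.toIntLinearMap hsurj
    obtain ⟨hfl, hsj⟩ := flat_surjective_chart c₁ c₂ f (𝟙 _) φ hact hinj
    rw [Category.id_comp] at hfl hsj
    -- descend to the residue field
    let z' : Spec (CommRingCat.of k) ⟶ S := y₁ ≫ U₁.ι ≫ v₁
    change Flat ((Over.pullback z').map f).left at hfl
    change Surjective ((Over.pullback z').map f).left at hsj
    have hs' : z'.base (IsLocalRing.closedPoint k) = s := by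
      rw [show z' = yg ≫ Red.geomPt s from h1g, Scheme.Hom.comp_apply, hgp]
    rw [← hs']
    let d : Spec (CommRingCat.of k) ⟶ Spec (S.residueField (z'.base (IsLocalRing.closedPoint k))) :=
      Spec.map (Scheme.descResidueField (Scheme.stalkClosedPointTo z'))
    have hd : d ≫ S.fromSpecResidueField _ = z' :=
      Scheme.descResidueField_stalkClosedPointTo_fromSpecResidueField k S z'
    have : Flat d := by
      refine Flat.SpecMap_iff.mpr ?_
      let := (Scheme.descResidueField (Scheme.stalkClosedPointTo z')).hom.toAlgebra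
      exact (inferInstance : Module.Flat (S.residueField (z'.base (IsLocalRing.closedPoint k))) k)
    have : Surjective d := ⟨fun x => ⟨IsLocalRing.closedPoint k, Subsingleton.elim _ _⟩⟩
    rw [← hd] at hfl hsj
    exact flat_surjective_descend f _ d hfl hsj
  have hVtop : V = ⊤ := eq_top_iff.mpr fun s _ => hall s
  have : IsIso V.ι := by rw [hVtop, ← Scheme.topIso_hom]; infer_instance
  have hsq := isPullback_bc_map f V.ι
  have : IsIso (Limits.pullback.fst T'.hom V.ι) := inferInstance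
  have : IsIso (Limits.pullback.fst T.hom V.ι) := inferInstance
  have hfl : f.left = inv (Limits.pullback.fst T.hom V.ι) ≫ ((Over.pullback V.ι).map f).left ≫
      Limits.pullback.fst T'.hom V.ι := by
    rw [hsq.w, IsIso.inv_hom_id_assoc]
  have : Flat f.left := by rw [hfl]; infer_instance
  have : Surjective f.left := by rw [hfl]; infer_instance
  have : QuasiCompact (f.left ≫ T'.hom) := by rw [Over.w f]; infer_instance
  have : QuasiCompact f.left := QuasiCompact.of_comp _ T'.hom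
  have : IsIso f.left := isIso_of_flat_surjective_mono f.left
  have : IsIso ((Over.forget S).map f) := inferInstanceAs (IsIso f.left)
  exact isIso_of_reflects_iso f (Over.forget S)

end Groth.Agent.S16611
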