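import Groth.Statements.S1618
import Mathlib
import Groth.Agent.H22Alg.VarDim

set_option autoImplicit false
universe u
open CategoryTheory CategoryTheory.Limits AlgebraicGeometry
open Variety

namespace Groth.Agent.S1618

/-- Let X be irreducible and locally of finite type over a field k. Then every nonempty open subset of X
has the same Krull dimension as X. -/
theorem result (k : Type u) [Field k] (X : Scheme.{u}) [X.Over (Spec (CommRingCat.of k))] [LocallyOfFiniteType (X ↘ (Spec (CommRingCat.of k)))] [IrreducibleSpace X]
    (U : X.Opens) (hU : (U : Set X).Nonempty) : topologicalKrullDim U = topologicalKrullDim X := by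
  refine le_antisymm (Groth.Agent.H8Props.FieldDim.dim_mono (Set.subset_univ _) |>.trans
    (IsHomeomorph.topologicalKrullDim_eq _ (Homeomorph.Set.univ X).isHomeomorph).le) ?_
  have hη : genericPoint X ∈ U := ((genericPoint_spec X).mem_open_set_iff U.2).mpr (by simpa using hU)
  obtain ⟨W, hW, hηW, hWU⟩ := exists_isAffineOpen_mem_and_subset (x := genericPoint X) (U := U) hη
  rw [← Groth.Agent.H22Alg.VarDim.cdim_genericPoint,
    Groth.Agent.H8Props.FieldDim.cdim_eq_inter (X ↘ Spec (CommRingCat.of k)) (genericPoint X) hW hηW]
  exact Groth.Agent.H8Props.FieldDim.dim_mono (Set.inter_subset_right.trans hWU)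

end Groth.Agent.S1618
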