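import Groth.Statements.S10868
import Groth.Agent.H17.Imports
import Mathlib.AlgebraicGeometry.QuasiAffine
import Mathlib.AlgebraicGeometry.Morphisms.Proper
import Mathlib.AlgebraicGeometry.Morphisms.Finite

set_option autoImplicit false
universe u
open Mor

namespace Groth.Agent.S10868

open CategoryTheory Limits AlgebraicGeometry TopologicalSpace

open CategoryTheory AlgebraicGeometry in
/-- f : X → Y is a finite morphism exactly when it is proper and quasi-affine (quasi-compact, with the
inverse image of every affine open subscheme of Y a quasi-affine scheme). -/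
theorem result {X Y : Scheme.{u}} (f : X ⟶ Y) :
    IsFinite f ↔ IsProper f ∧ Mor2.IsQuasiAffine f := by
  constructor
  · intro h
    refine ⟨inferInstance, inferInstance, fun V hV => ?_⟩
    have : IsAffine (f ⁻¹ᵁ V).toScheme := hV.preimage f
    infer_instance
  · rintro ⟨hp, hq, hqa⟩
    rw [IsFinite.iff_isProper_and_isAffineHom]
    refine ⟨hp, ⟨fun V hV => ?_⟩⟩
    let W := (f ⁻¹ᵁ V).toScheme
    have : Scheme.IsQuasiAffine W := hqa V hV
    have : IsAffine V.toScheme := hV
    have : IsProper (f ∣_ V) := MorphismProperty.of_isPullback (P := @IsProper) (isPullback_morphismRestrict f V).flip hp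
    have : IsProper (W.toSpecΓ ≫ Spec.map (f ∣_ V).appTop) := by
      rw [← Scheme.toSpecΓ_naturality]; infer_instance
    have : IsProper W.toSpecΓ := IsProper.of_comp _ (Spec.map (f ∣_ V).appTop)
    have : Surjective W.toSpecΓ := ⟨by
      rw [← Set.range_eq_univ, ← W.toSpecΓ.denseRange.closure_range, W.toSpecΓ.isClosedMap.isClosed_range.closure_eq]⟩
    have : IsIso W.toSpecΓ := isIso_iff_isOpenImmersion_and_epi_base _ |>.mpr ⟨inferInstance,
      (TopCat.epi_iff_surjective _).mpr W.toSpecΓ.surjective⟩
    exact (⟨this⟩ : IsAffine W)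

end Groth.Agent.S10868
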