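import Groth.Statements.S14584
import Groth.Agent.H25Rig.Weil
import Groth.Agent.H25AbCube.TorsionStr
import Groth.Agent.H28NT.GoodReduction

set_option autoImplicit false
set_option maxHeartbeats 1000000
set_option synthInstance.maxHeartbeats 100000
set_option linter.style.haveILetI false
set_option backward.isDefEq.respectTransparency false
universe u
open CategoryTheory MonoidalCategory CartesianMonoidalCategory MonObj GrpObj AlgebraicGeometry CategoryTheory.Limits
open AlgGrp

namespace Groth.Agent.S14584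

/-- Let k be a field, X and Y varieties over k (separated, geometrically integral k-schemes of finite
type) with rational points x₀ and y₀, A an abelian variety (a proper, smooth, connected k-group
scheme) and f : X × Y → A a k-morphism. Then, in the group of morphisms X × Y → A, f(x, y) = f(x₀,
y₀)⁻¹ · f(x₀, y) · f(x, y₀) identically; additively, f(x, y) − f(x₀, y) − f(x, y₀) + f(x₀, y₀) = 0.
Neither smoothness nor properness of X, Y is assumed. -/
theorem result (k : Type u) [Field k]
    (X Y A : Over (Spec (CommRingCat.of k)))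
    [LocallyOfFiniteType X.hom] [QuasiCompact X.hom] [IsSeparated X.hom] [GeometricallyIntegral X.hom]
    [LocallyOfFiniteType Y.hom] [QuasiCompact Y.hom] [IsSeparated Y.hom] [GeometricallyIntegral Y.hom]
    [GrpObj A] [IsProper A.hom] [Smooth A.hom] [ConnectedSpace ↥A.left]
    (x₀ : 𝟙_ (Over (Spec (CommRingCat.of k))) ⟶ X) (y₀ : 𝟙_ (Over (Spec (CommRingCat.of k))) ⟶ Y) (f : X ⊗ Y ⟶ A) :
    f = (toUnit (X ⊗ Y) ≫ lift x₀ y₀ ≫ f)⁻¹ * (snd X Y ≫ lift (toUnit Y ≫ x₀) (𝟙 Y) ≫ f) *
      (fst X Y ≫ lift (𝟙 X) (toUnit X ≫ y₀) ≫ f) := by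
  haveI : GeometricallyConnected A.hom :=
    H28NT.geometricallyConnected_of_section A.hom (MonObj.one (X := A)).left (Over.w (MonObj.one (X := A)))
  haveI : GeometricallyIntegral A.hom := H25AbCube.geometricallyIntegral_of_smooth A
  haveI : IsCommMonObj A := isCommMonObj_of_isProper_of_geometricallyIntegral A
  obtain ⟨f₁, hf₁⟩ := H25Rig.exists_split (V := X) (W := Y) x₀ f
  set h2 := lift (toUnit Y ≫ x₀) (𝟙 Y) ≫ f with hh2
  have h1 : lift (𝟙 X) (toUnit X ≫ y₀) ≫ f = f₁ * (toUnit X ≫ lift x₀ y₀ ≫ f) := by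
    conv_lhs => rw [hf₁]
    rw [MonObj.comp_mul, lift_fst_assoc, Category.id_comp, lift_snd_assoc, hh2, Category.assoc,
      comp_lift_assoc, Category.comp_id, ← Category.assoc y₀ (toUnit Y),
      toUnit_unique (y₀ ≫ toUnit Y) (𝟙 _), Category.id_comp]
  rw [h1, MonObj.comp_mul, ← Category.assoc (fst X Y) (toUnit X), toUnit_unique (fst X Y ≫ toUnit X) (toUnit _)]
  conv_lhs => rw [hf₁]
  rw [mul_comm (fst X Y ≫ f₁) (toUnit (X ⊗ Y) ≫ lift x₀ y₀ ≫ f), _root_.mul_assoc, mul_left_comm (snd X Y ≫ h2),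
    inv_mul_cancel_left, mul_comm]

end Groth.Agent.S14584
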