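import Groth.Statements.S1156

set_option autoImplicit false
universe u
open scoped TensorProduct
open Desc

namespace Groth.Agent.S1156

/-- Exactness of the extended Amitsur complex in degree 0 (injectivity in degree −1 being standard). Let
R → A be faithfully flat and M an R-module. An element x of A ⊗_R M with 1 ⊗ x = (a ⊗ m ↦ a ⊗ 1 ⊗
m)(x) in A ⊗_R A ⊗_R M lies in the image of m ↦ 1 ⊗ m. -/
theorem result (R A : Type u) [CommRing R] [CommRing A] [Algebra R A] [Module.FaithfullyFlat R A]
    (M : Type u) [AddCommGroup M] [Module R M] (x : A ⊗[R] M)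
    (hx : TensorProduct.mk R A (A ⊗[R] M) 1 x = LinearMap.lTensor A (TensorProduct.mk R A M 1) x) :
    x ∈ LinearMap.range (TensorProduct.mk R A M 1) := by
  let d : A ⊗[R] M →ₗ[R] A ⊗[R] (A ⊗[R] M) :=
    TensorProduct.mk R A (A ⊗[R] M) 1 - LinearMap.lTensor A (TensorProduct.mk R A M 1)
  have hd : Function.Exact (TensorProduct.mk R A M 1) d := by
    apply Module.FaithfullyFlat.lTensor_reflects_exact R A
    let μ : A ⊗[R] (A ⊗[R] M) →ₗ[R] A ⊗[R] M :=
      TensorProduct.lift (Algebra.lsmul R R (A ⊗[R] M)).toLinearMap
    let ν : A ⊗[R] (A ⊗[R] (A ⊗[R] M)) →ₗ[R] A ⊗[R] (A ⊗[R] M) :=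
      TensorProduct.lift (Algebra.lsmul R R (A ⊗[R] (A ⊗[R] M))).toLinearMap
    intro z
    constructor
    · intro hz
      refine ⟨μ z, ?_⟩
      have key : ∀ w, ν (LinearMap.lTensor A d w) =
          w - LinearMap.lTensor A (TensorProduct.mk R A M 1) (μ w) := by
        intro w
        induction w with
        | zero => simp
        | add x y hx hy => simp only [map_add, hx, hy]; abel
        | tmul a y =>
          induction y with
          | zero => simp
          | add x y hx hy => simp only [TensorProduct.tmul_add, map_add, hx, hy]; abel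
          | tmul b m => simp [d, μ, ν, TensorProduct.tmul_sub, TensorProduct.smul_tmul']
      have := key z
      rw [hz, map_zero] at this
      exact (sub_eq_zero.mp this.symm).symm
    · rintro ⟨w, rfl⟩
      rw [← LinearMap.comp_apply, ← LinearMap.lTensor_comp,
        show d ∘ₗ TensorProduct.mk R A M 1 = 0 from LinearMap.ext fun m => by simp [d],
        LinearMap.lTensor_zero, LinearMap.zero_apply]
  exact (hd x).mp (by simp [d, hx])

end Groth.Agent.S1156
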