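import Groth.Statements.S0505
import Groth.Agent.H9Hens.Local
-- import your own Groth.Agent.* helpers here

set_option autoImplicit false
universe u
open Hensel

namespace Groth.Agent.S0505

/-- A local ring which is finitely generated as a module over a henselian local ring is itself
henselian. -/
theorem result (R : Type u) [CommRing R] [HenselianLocalRing R]
    (S : Type u) [CommRing S] [IsLocalRing S] [Algebra R S] [Module.Finite R S] :
    HenselianLocalRing S := by
  have hmax : IsLocalRing.maximalIdeal S ≤
      ((IsLocalRing.maximalIdeal R).map (algebraMap R S)).radical := by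
    rw [Ideal.radical_eq_sInf]
    refine le_sInf fun P hP => ?_
    obtain ⟨hle, hPp⟩ := hP
    have : P.IsPrime := hPp
    have : (P.comap (algebraMap R S)).IsMaximal := by
      have h1 := Ideal.map_le_iff_le_comap.mp hle
      exact (IsLocalRing.maximalIdeal.isMaximal R).eq_of_le Ideal.IsPrime.ne_top' h1 ▸
        IsLocalRing.maximalIdeal.isMaximal R
    exact (IsLocalRing.eq_maximalIdeal (Ideal.isMaximal_of_isIntegral_of_isMaximal_comap P this)).ge
  have : HenselianRing S ((IsLocalRing.maximalIdeal R).map (algebraMap R S)) :=
    Groth.Agent.H9Hens.henselianRing_of_isIntegral S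
  have := Groth.Agent.H9Hens.henselianRing_radical (A := S)
    (I := (IsLocalRing.maximalIdeal R).map (algebraMap R S))
  have := Groth.Agent.H9Hens.henselianRing_of_le
    (J := ((IsLocalRing.maximalIdeal R).map (algebraMap R S)).radical) hmax
  exact Groth.Agent.H9Hens.henselianLocalRing_of_henselianRing

end Groth.Agent.S0505
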