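import Groth.Statements.S2974
import Mathlib
import Groth.Agent.H19Mult.HenselDiag
import Groth.Agent.H19Mult.SplitField
import Groth.Agent.H19Mult.BaseChange
import Groth.Agent.S0518
import Groth.Agent.S0505

set_option autoImplicit false
set_option linter.style.haveILetI false
set_option backward.isDefEq.respectTransparency false
universe u
open TensorProduct SGA3b
open SGA3b

namespace Groth.Agent.S2974

/-- Let R be a henselian local ring and H = Spec A an R-group of multiplicative type and of finite type.
Then H is isotrivial: split by a finite etale faithfully flat R-algebra. (Affine group schemes over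
an affine base are taken in Hopf-algebra form; base change is the tensor product.) -/
theorem result (R : Type u) [CommRing R] (A : Type u) [CommRing A] [HopfAlgebra R A] [HenselianLocalRing R] (hft : Algebra.FiniteType R A) (h : IsMultType R A) :
    IsIsotrivial R A := by
  let k := IsLocalRing.ResidueField R
  haveI : Algebra.FiniteType R A := hft
  obtain ⟨k', _, _, hfin, hsep, M, _, -, ⟨ek'⟩⟩ :=
    H19Mult.exists_split_separable (k := k) (A := k ⊗[R] A) inferInstance (H19Mult.isMultType_baseChange h k)
  haveI := hfin
  haveI := hsep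
  haveI : Algebra.FormallyEtale k k' := Algebra.FormallyEtale.of_isSeparable k k'
  haveI : Algebra.FinitePresentation k k' := Algebra.FinitePresentation.of_finiteType.1 inferInstance
  haveI : Algebra.Etale k k' := {}
  obtain ⟨S, _, _, hSfin, hSet, ⟨eS⟩⟩ := S0518.result R k'
  haveI := hSfin
  haveI := hSet
  letI : Algebra R k' := ((algebraMap k k').comp (algebraMap R k)).toAlgebra
  haveI : IsScalarTower R k k' := IsScalarTower.of_algebraMap_eq' rfl
  let π : S →ₐ[R] k' := (eS.restrictScalars R).toAlgHom.comp Algebra.TensorProduct.includeRight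
  have hπ : Function.Surjective π := by
    refine eS.surjective.comp fun z => ?_
    induction z using TensorProduct.induction_on with
    | zero => exact ⟨0, map_zero _⟩
    | tmul r s =>
      obtain ⟨r, rfl⟩ := IsLocalRing.residue_surjective r
      exact ⟨r • s, by
        show (1 : k) ⊗ₜ[R] (r • s) = _
        rw [← TensorProduct.smul_tmul, Algebra.smul_def, mul_one]; rfl⟩
    | add u w hu hw =>
      obtain ⟨a, rfl⟩ := hu
      obtain ⟨b, rfl⟩ := hw
      exact ⟨a + b, map_add _ _ _⟩
  have hker : (RingHom.ker π.toRingHom).IsMaximal := RingHom.ker_isMaximal_of_surjective _ hπ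
  haveI : IsLocalRing S := by
    refine IsLocalRing.of_unique_max_ideal ⟨RingHom.ker π.toRingHom, hker, fun P hP => ?_⟩
    refine (hker.eq_of_le hP.ne_top ?_).symm
    intro x hx
    have hm : IsLocalRing.maximalIdeal R ≤ P.comap (algebraMap R S) := by
      haveI : (P.comap (algebraMap R S)).IsMaximal := Ideal.isMaximal_comap_of_isIntegral_of_isMaximal P
      rw [← IsLocalRing.eq_maximalIdeal (I := P.comap (algebraMap R S)) inferInstance]
    have h1 : (1 : k) ⊗ₜ[R] x = 0 := eS.injective (hx.trans (map_zero eS).symm)
    have h2 : x ⊗ₜ[R] (1 : R) ∈ RingHom.ker (Algebra.TensorProduct.map (AlgHom.id R S) (Algebra.ofId R k)) := by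
      rw [RingHom.mem_ker, Algebra.TensorProduct.map_tmul, map_one, AlgHom.id_apply]
      exact (TensorProduct.comm R S k).injective (by rw [map_zero]; exact h1)
    rw [Algebra.TensorProduct.lTensor_ker _ IsLocalRing.residue_surjective] at h2
    have h3 : (RingHom.ker (Algebra.ofId R k)).map
        (Algebra.TensorProduct.includeRight : R →ₐ[R] S ⊗[R] R) ≤
        P.comap (Algebra.TensorProduct.rid R R S).toAlgHom :=
      Ideal.map_le_iff_le_comap.2 fun y hy => by
        show Algebra.TensorProduct.rid R R S ((1 : S) ⊗ₜ[R] y) ∈ P
        rw [Algebra.TensorProduct.rid_tmul, Algebra.smul_def, mul_one]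
        exact hm ((IsLocalRing.residue_eq_zero_iff y).1 hy)
    have h4 : Algebra.TensorProduct.rid R R S (x ⊗ₜ[R] (1 : R)) ∈ P := h3 h2
    rwa [Algebra.TensorProduct.rid_tmul, one_smul] at h4
  haveI : HenselianLocalRing S := S0505.result R S
  haveI : Module.FaithfullyFlat R S := by
    haveI : IsLocalHom (algebraMap R S) := ?_
    · exact Module.FaithfullyFlat.of_flat_of_isLocalHom
    refine ⟨fun a ha => ?_⟩
    by_contra hna
    have h0 : algebraMap R k a = 0 := (IsLocalRing.residue_eq_zero_iff a).2 ((IsLocalRing.mem_maximalIdeal _).2 hna)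
    have := ha.map π
    rw [π.commutes, IsScalarTower.algebraMap_apply R k k', h0, map_zero] at this
    exact not_isUnit_zero this
  refine ⟨S, inferInstance, inferInstance, inferInstance, inferInstance, inferInstance,
    H19Mult.isDiag_of_henselian inferInstance (H19Mult.isMultType_baseChange h S) ?_⟩
  let kS := IsLocalRing.ResidueField S
  have hm : RingHom.ker π.toRingHom = IsLocalRing.maximalIdeal S := IsLocalRing.eq_maximalIdeal hker
  let q : (S ⧸ RingHom.ker π.toRingHom) ≃+* k' := RingHom.quotientKerEquivOfSurjective hπ
  let ι : k' →+* kS := (Ideal.quotEquivOfEq hm).toRingHom.comp q.symm.toRingHom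
  letI : Algebra k' kS := ι.toAlgebra
  haveI : IsScalarTower R k' kS := IsScalarTower.of_algebraMap_eq fun r => by
    show algebraMap R kS r = ι (algebraMap R k' r)
    rw [← π.commutes r]
    show _ = Ideal.quotEquivOfEq hm (q.symm (q (Ideal.Quotient.mk _ (algebraMap R S r))))
    rw [q.symm_apply_apply]
    rfl
  obtain ⟨e⟩ := H19Mult.isDiag_baseChange
    ((H19Mult.cancelEquiv (R := R) (A := A) k k').symm.trans ek') kS
  exact ⟨M, inferInstance, ⟨(H19Mult.cancelEquiv (R := R) (A := A) S kS).trans e⟩⟩

end Groth.Agent.S2974
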