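import Groth.Statements.S6045
import Groth.Agent.H13Desc.Fpqc
import Groth.Agent.H13Desc.DescFam

set_option autoImplicit false
set_option linter.style.haveILetI false
set_option backward.isDefEq.respectTransparency false
open CategoryTheory CategoryTheory.Limits AlgebraicGeometry
universe u
open GrpQ

namespace Groth.Agent.S6045

open CategoryTheory CategoryTheory.Limits AlgebraicGeometry Desc

theorem lifts_subsingleton {Y T : Scheme.{u}} (A : Over Y) [Mono A.hom] (x : T ⟶ Y) : Subsingleton (Lifts A x) :=
  ⟨fun v w => Subtype.ext ((cancel_mono A.hom).1 (v.2.trans w.2.symm))⟩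


/-- Open immersions descend along the fpqc topology. For an fpqc covering family `f i : X i ⟶ S` of a
scheme `S`, every descent datum for schemes relative to the family all of whose members `Z i ⟶ X i`
are open immersions is effective. -/
theorem result {S : Scheme.{u}} {ι : Type u} {X : ι → Scheme.{u}}
    (f : ∀ i, X i ⟶ S) (hf : Presieve.ofArrows X f ∈ Scheme.fpqcPrecoverage S)
    (D : Desc.SchDDFam f) (hD : ∀ i, IsOpenImmersion (D.obj i).hom) :
    D.IsEffective := by
  have := hD
  let U : ∀ i, Set (X i) := fun i => Set.range (D.obj i).hom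
  -- the opens agree on all overlaps
  have key : ∀ i j (x : X i) (y : X j), f i x = f j y → x ∈ U i → y ∈ U j := by
    intro i j x y h hx
    obtain ⟨z, hz₀, hz₁⟩ := Scheme.Pullback.exists_preimage_pullback (f := f i) (g := f j) x y h
    let P := pullback (f i) (f j)
    let T := Spec (P.residueField z)
    let a : T ⟶ X i := P.fromSpecResidueField z ≫ pullback.fst _ _
    let b : T ⟶ X j := P.fromSpecResidueField z ≫ pullback.snd _ _
    have hab : a ≫ f i = b ≫ f j := by simp only [a, b, Category.assoc, pullback.condition]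
    have ha : Set.range a ⊆ Set.range (D.obj i).hom := by
      rintro _ ⟨t, rfl⟩
      rw [show a t = pullback.fst (f i) (f j) (P.fromSpecResidueField z t) from rfl,
        Scheme.fromSpecResidueField_apply, hz₀]
      exact hx
    let v : Lifts (D.obj i) a := ⟨IsOpenImmersion.lift _ a ha, IsOpenImmersion.lift_fac _ _ _⟩
    obtain ⟨t⟩ : Nonempty T := inferInstance
    refine ⟨(D.φ a b hab v).1 t, ?_⟩
    rw [← Scheme.Hom.comp_apply, (D.φ a b hab v).2, show b t = pullback.snd (f i) (f j) (P.fromSpecResidueField z t) from rfl,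
      Scheme.fromSpecResidueField_apply, hz₁]
  let W : Set S := ⋃ i, f i '' U i
  have hpre : ∀ i, f i ⁻¹' W = U i := by
    intro i
    ext x
    simp only [W, Set.mem_preimage, Set.mem_iUnion, Set.mem_image]
    exact ⟨fun ⟨j, y, hy, h⟩ => key j i y x h hy, fun hx => ⟨i, x, hx, rfl⟩⟩
  have hW : IsOpen W := Groth.Agent.H13Desc.isOpen_of_fpqc hf W fun i => by
    rw [hpre i]; exact (D.obj i).hom.isOpenEmbedding.isOpen_range
  let Wo : S.Opens := ⟨W, hW⟩
  let E := Over.mk Wo.ι
  have hr : ∀ i, Set.range (pullback.fst (f i) E.hom) = Set.range (D.obj i).hom := by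
    intro i
    show Set.range (pullback.fst (f i) Wo.ι) = U i
    rw [IsOpenImmersion.range_pullbackFst, Scheme.Opens.opensRange_ι]
    exact hpre i
  haveI : ∀ i, IsOpenImmersion ((canonicalDDFam f E).obj i).hom := fun i =>
    (inferInstance : IsOpenImmersion (pullback.fst (f i) Wo.ι))
  haveI : ∀ i, IsOpenImmersion (pullback.fst (f i) E.hom) := fun i =>
    (inferInstance : IsOpenImmersion (pullback.fst (f i) Wo.ι))
  refine ⟨E, ⟨Groth.Agent.H13Desc.ddFamIso (fun i => Over.isoMk
    (IsOpenImmersion.isoOfRangeEq (pullback.fst (f i) E.hom) (D.obj i).hom (hr i))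
    (IsOpenImmersion.isoOfRangeEq_hom_fac _ _ _)) fun T i j x₀ x₁ h v w hw => ?_⟩⟩
  refine (cancel_mono (D.obj j).hom).1 ?_
  rw [(D.φ x₀ x₁ h w).2, Category.assoc]
  erw [IsOpenImmersion.isoOfRangeEq_hom_fac _ _ (hr j)]
  exact (((canonicalDDFam f E).φ x₀ x₁ h v).2).symm

end Groth.Agent.S6045
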