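import Groth.Statements.S4955
import Groth.Agent.H06SecComp.FlatApprox
import Groth.Agent.H06SecComp.Approx
import Groth.Agent.H8Props.FibreCriterion

set_option autoImplicit false
open CategoryTheory AlgebraicGeometry
universe u v w
open EGA43

namespace Groth.Agent.S4955

open Groth.Agent

/-- Let f : X ⟶ Y be a morphism of finite presentation with a section g, X_y^0 the connected component
of f⁻¹(y) containing g y, X^0 their union, and suppose every X_y^0 is geometrically irreducible over
κ(y). Let x₀ be a point of X^0 and y₀ = f x₀, and suppose y ↦ dim X_y^0 is constant on a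
neighbourhood of y₀. Then there is an open neighbourhood U of y₀ such that f is universally open at
every point of X^0 lying over U; and if moreover Y is reduced and the fibre over y₀ is geometrically
reduced at x₀, then f is flat at x₀. -/
theorem result {X Y : Scheme.{u}} (f : X ⟶ Y)
    [LocallyOfFinitePresentation f] [QuasiCompact f] [QuasiSeparated f] (g : Y ⟶ X) (hg : g ≫ f = 𝟙 Y)
    (hirr : ∀ y : Y, (∀ (K : Type u) [Field K] [Algebra (IsLocalRing.ResidueField (Y.presheaf.stalk y)) K],
        IsIrreducible ((FBase.bcπ (f.fiberToSpecResidueField y) K ≫ f.fiberι y).base ⁻¹' connectedComponentIn (f.base ⁻¹' {y}) (g.base y))))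
    (x₀ : X) (hx₀ : x₀ ∈ MoreMor.sectionComponents f g)
    (hconst : ∃ V ∈ nhds (f.base x₀), ∀ z ∈ V, topologicalKrullDim ↥(connectedComponentIn (f.base ⁻¹' {z}) (g.base z)) = topologicalKrullDim ↥(connectedComponentIn (f.base ⁻¹' {(f.base x₀)}) (g.base (f.base x₀)))) :
    (∃ U : Y.Opens, f.base x₀ ∈ U ∧ ∀ x ∈ MoreMor.sectionComponents f g, f.base x ∈ U → EGA43.IsUnivOpenAt f x) ∧
      (IsReduced Y → FBase.IsGeomReducedAt (f.fiberToSpecResidueField (f.base x₀)) (f.asFiber x₀) →
        (f.stalkMap x₀).hom.Flat) := by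
  obtain ⟨V, hV, hVc⟩ := hconst
  have hy₀ : f.base x₀ ∈ interior V := mem_interior_iff_mem_nhds.mpr hV
  refine ⟨⟨⟨interior V, isOpen_interior⟩, hy₀, fun x hx hxU => ?_⟩, fun _ hred => ?_⟩
  · refine H06EGA15.isUnivOpenAt_of_dim_component_const f g hg hirr (fun y' hy' => ?_) hx
    rw [hVc _ (interior_subset hxU), hVc _ (interior_subset (hy'.mem_open isOpen_interior hxU))]
  · obtain ⟨W, hW, hyW, hWV⟩ := exists_isAffineOpen_mem_and_subset (X := Y) (x := f x₀) (U := ⟨interior V, isOpen_interior⟩) hy₀
    let k := hW.fromSpec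
    let f' := Limits.pullback.snd f k
    let gX := Limits.pullback.fst f k
    let g' : Spec Γ(Y, W) ⟶ Limits.pullback f k := Limits.pullback.lift (k ≫ g) (𝟙 _)
      (by rw [Category.assoc, hg, Category.comp_id, Category.id_comp])
    have hg' : g' ≫ f' = 𝟙 _ := Limits.pullback.lift_snd _ _ _
    have hgg' : g' ≫ gX = k ≫ g := Limits.pullback.lift_fst _ _ _
    have hP : IsPullback gX f' f k := IsPullback.of_hasPullback f k
    obtain ⟨w, hw⟩ : f x₀ ∈ Set.range k := by
      show f x₀ ∈ Set.range hW.fromSpec
      rw [hW.range_fromSpec]; exact hyW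
    obtain ⟨x', hx', hx'w⟩ := Scheme.exists_preimage_of_isPullback hP x₀ w hw.symm
    subst hx'
    obtain ⟨A, hA, X₀, f₀, g₀, gA, hlfp, hqc, hqs, hg₀, hPA, hgA⟩ := H06SecComp.exists_model_section Γ(Y, W) f' g' hg'
    haveI : IsNoetherianRing A := Algebra.FiniteType.isNoetherianRing ℤ A
    haveI : IsNoetherianRing (CommRingCat.of A) := inferInstanceAs (IsNoetherianRing A)
    haveI : _root_.IsReduced A := isReduced_of_injective A.val.toRingHom Subtype.val_injective
    haveI : _root_.IsReduced (CommRingCat.of A) := inferInstanceAs (_root_.IsReduced A)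
    haveI := hlfp
    have hb : DenseRange (Spec.map (CommRingCat.ofHom A.val.toRingHom)) :=
      (PrimeSpectrum.denseRange_comap_iff_ker_le_nilRadical A.val.toRingHom).mpr
        (((RingHom.injective_iff_ker_eq_bot A.val.toRingHom).mp Subtype.val_injective).trans_le bot_le)
    have hirr₀ := fun y => H06EGA15.GeomIrr.isIrreducible f g hg hirr y
    have hdim : ∀ t, FlatMor.fibreDimAt f' (g' t) = topologicalKrullDim
        ↥(connectedComponentIn (f.base ⁻¹' {(f.base (gX x'))}) (g.base (f.base (gX x')))) := fun t => by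
      rw [H8Props.FieldDim.fibreDimAt_baseChange f hP, ← Scheme.Hom.comp_apply, hgg', Scheme.Hom.comp_apply]
      rw [← H06EGA15.dim_component_eq f g hg _ (hirr₀ (k t))]
      refine hVc _ (interior_subset (hWV ?_))
      exact hW.range_fromSpec.le ⟨t, rfl⟩
    have hflat := H06SecComp.flat_stalkMap_of_model hPA hg' hg₀ hgA hb
      (H06SecComp.geomIrr_baseChange hP hg' hg hgg' hirr) x'
      ((H06SecComp.mem_component_iff_of_model hP hg' hg hgg' x').mpr hx₀)
      (fun t => by rw [hdim, hdim]) (H06SecComp.isGeomReducedAt_baseChange hP hred)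
    have h1 : (f'.stalkMap x').hom.Flat := H8Props.FibreCriterion.flat_stalkMap_baseChange hPA x' hflat
    have h2 : ((gX ≫ f).stalkMap x').hom.Flat := by
      rw [Scheme.Hom.stalkMap_congr_hom _ _ hP.w x', Scheme.Hom.stalkMap_comp]
      simp only [CommRingCat.hom_comp]
      exact ((RingHom.Flat.of_bijective (ConcreteCategory.bijective_of_isIso _)).comp
        ((RingHom.Flat.of_bijective (ConcreteCategory.bijective_of_isIso (k.stalkMap (f' x')))).comp h1))
    rw [Scheme.Hom.stalkMap_comp] at h2
    simp only [CommRingCat.hom_comp] at h2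
    let e := (asIso (gX.stalkMap x')).commRingCatIsoToRingEquiv
    have h3 := h2.comp (RingHom.Flat.of_bijective (f := e.symm.toRingHom) e.symm.bijective)
    change (e.symm.toRingHom.comp ((gX.stalkMap x').hom.comp (f.stalkMap (gX x')).hom)).Flat at h3
    rwa [← RingHom.comp_assoc, show e.symm.toRingHom.comp (gX.stalkMap x').hom = RingHom.id _ from
      RingHom.ext fun a => e.symm_apply_apply a, RingHom.id_comp] at h3

end Groth.Agent.S4955
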