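import Groth.Statements.S14694
import Mathlib

set_option autoImplicit false
universe u
open CategoryTheory AlgebraicGeometry
open SekSuwa

namespace Groth.Agent.S14694

open Polynomial in
theorem monic_psiPoly (R : Type u) [CommRing R] [Nontrivial R] (lam : R) (N : ℕ) (hN : 0 < N) (h : SekSuwa.DivCond lam N) :
    (SekSuwa.psiPoly lam N h).Monic ∧ (SekSuwa.psiPoly lam N h).natDegree = N := by
  have hs := SekSuwa.psiPoly_spec h
  have hup : ∀ n, N < n → (SekSuwa.psiPoly lam N h).coeff n = 0 := by
    intro n hn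
    apply SekSuwa.cancel_nzd h.pow_nzd
    have := congrArg (fun q => q.coeff n) hs
    simp only [coeff_C_mul, coeff_sub, coeff_one, if_neg (show n ≠ 0 by omega), sub_zero] at this
    rw [this, mul_zero]
    refine coeff_eq_zero_of_natDegree_lt (lt_of_le_of_lt ?_ hn)
    refine natDegree_pow_le.trans ((Nat.mul_le_mul_left N ?_).trans (le_of_eq (Nat.mul_one N)))
    refine (natDegree_add_le _ _).trans (max_le (by simp) ?_)
    exact natDegree_C_mul_X_pow_le lam 1 |> fun h => by simpa using h
  have hlead : (SekSuwa.psiPoly lam N h).coeff N = 1 := by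
    apply SekSuwa.cancel_nzd h.pow_nzd
    have := congrArg (fun q => q.coeff N) hs
    simp only [coeff_C_mul, coeff_sub, coeff_one, if_neg (show N ≠ 0 by omega), sub_zero] at this
    rw [this, mul_one]
    have hd : (1 + C lam * X : R[X]).natDegree ≤ 1 :=
      (natDegree_add_le _ _).trans (max_le (by simp) (natDegree_C_mul_X_pow_le lam 1 |> fun h => by simpa using h))
    have := coeff_pow_of_natDegree_le (m := N) hd
    rw [mul_one] at this
    rw [this]
    simp [Polynomial.coeff_one]
  have hdeg : (SekSuwa.psiPoly lam N h).natDegree = N :=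
    le_antisymm (natDegree_le_iff_coeff_eq_zero.mpr hup)
      (le_natDegree_of_ne_zero (by rw [hlead]; exact one_ne_zero))
  exact ⟨by rw [Monic, leadingCoeff, hdeg, hlead], hdeg⟩

open Polynomial in
theorem nonempty_algEquiv (R : Type u) [CommRing R] (lam : R) (N : ℕ) (hN : 0 < N) (h : SekSuwa.DivCond lam N) :
    Nonempty (SekSuwa.AK R lam N h ≃ₐ[R] AdjoinRoot (SekSuwa.psiPoly lam N h)) := by
  set P := SekSuwa.psiPoly lam N h
  obtain ⟨M, rfl⟩ : ∃ M, N = M + 1 := ⟨N - 1, by omega⟩
  have hr : Polynomial.aeval (AdjoinRoot.root P) P = 0 := by rw [AdjoinRoot.aeval_eq, AdjoinRoot.mk_self]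
  have hu : (1 + lam • AdjoinRoot.root P) * (1 + lam • AdjoinRoot.root P) ^ M = 1 := by
    have e := SekSuwa.aeval_psiPoly h (AdjoinRoot.root P)
    rw [hr, mul_zero] at e
    rw [← pow_succ', Algebra.smul_def]
    linear_combination -e
  let fA : SekSuwa.A R lam →ₐ[R] AdjoinRoot P := SekSuwa.A.lift R lam _ _ hu
  have hfA : fA (SekSuwa.kerGen lam (M + 1) h) = 0 := by
    show fA (Polynomial.aeval SekSuwa.A.t P) = 0
    rw [← Polynomial.aeval_algHom_apply, SekSuwa.A.lift_t, hr]
  let f : SekSuwa.AK R lam (M + 1) h →ₐ[R] AdjoinRoot P :=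
    Ideal.Quotient.liftₐ (SekSuwa.kerIdeal lam (M + 1) h) fA (fun a ha => by
      obtain ⟨d, rfl⟩ := Ideal.mem_span_singleton'.mp ha
      rw [map_mul, hfA, mul_zero])
  have hft : f SekSuwa.AK.t = AdjoinRoot.root P := SekSuwa.A.lift_t _ _ hu
  have hfi : f SekSuwa.AK.inv = (1 + lam • AdjoinRoot.root P) ^ M := SekSuwa.A.lift_inv _ _ hu
  let g : AdjoinRoot P →ₐ[R] SekSuwa.AK R lam (M + 1) h :=
    AdjoinRoot.liftAlgHom P (Algebra.ofId R _) SekSuwa.AK.t (by
      rw [Algebra.toRingHom_ofId, ← Polynomial.aeval_def]; exact SekSuwa.AK.aeval_t)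
  have hinv : (1 + lam • (SekSuwa.AK.t : SekSuwa.AK R lam (M + 1) h)) ^ M = SekSuwa.AK.inv := by
    have e1 : (1 + lam • (SekSuwa.AK.t : SekSuwa.AK R lam (M + 1) h)) * SekSuwa.AK.inv = 1 := by
      have := congrArg (SekSuwa.AK.mkHom R lam (M + 1) h) (SekSuwa.A.u_mul_inv (R := R) (lam := lam))
      rw [map_mul, map_one, SekSuwa.AK.mkHom_u] at this
      exact this
    calc (1 + lam • (SekSuwa.AK.t : SekSuwa.AK R lam (M + 1) h)) ^ M
        = (1 + lam • SekSuwa.AK.t) ^ M * ((1 + lam • SekSuwa.AK.t) * SekSuwa.AK.inv) := by rw [e1, mul_one]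
      _ = (1 + lam • SekSuwa.AK.t) ^ (M + 1) * SekSuwa.AK.inv := by rw [pow_succ, mul_assoc]
      _ = SekSuwa.AK.inv := by rw [SekSuwa.AK.u_pow, one_mul]
  refine ⟨AlgEquiv.ofAlgHom f g (AdjoinRoot.algHom_ext (by simp [g, hft])) (SekSuwa.AK.algHom_ext ?_ ?_)⟩
  · simp [g, hft]
  · simp [g, hfi, hinv]


/-- For any commutative ring R, λ ∈ R and N ≥ 1 such that λ is a non-zero-divisor and λ^N divides (1 +
λX)^N − 1 in R[X] with quotient P_{λ,N}, the R-group scheme G_{λ,N}, defined as the closed subscheme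
of the affine R-group G^(λ) = Spec R[T, 1/(1+λT)] cut out by P_{λ,N}(T), is finite locally free of
degree N over Spec R (its coordinate ring is R[T]/(P_{λ,N}(T)) with P_{λ,N} monic of degree N). (The
published text states this over a discrete valuation ring with N = p^n: G_{λ,n} is a commutative
finite flat group scheme of rank p^n.) -/
theorem result (R : Type u) [CommRing R] (lam : R) (N : ℕ) (hN : 0 < N) (h : SekSuwa.DivCond lam N) :
    Mor2.IsFinLocFreeOfDeg N (SekSuwa.GK R lam N h).hom := by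
  obtain ⟨e⟩ := nonempty_algEquiv R lam N hN h
  show Mor2.IsFinLocFreeOfDeg N (Spec.map (CommRingCat.ofHom (algebraMap R (SekSuwa.AK R lam N h))))
  rcases subsingleton_or_nontrivial R with hR | hR
  · haveI : Subsingleton (SekSuwa.AK R lam N h) := (algebraMap R _).codomain_trivial
    haveI : Module.Finite R (SekSuwa.AK R lam N h) := inferInstance
    refine ⟨⟨?_, ?_, ?_⟩, fun y => (IsEmpty.false (α := PrimeSpectrum R) y).elim⟩
    · exact (IsFinite.SpecMap_iff _).mpr (RingHom.finite_algebraMap.mpr inferInstance)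
    · exact Flat.SpecMap_iff.mpr (RingHom.flat_algebraMap_iff.mpr inferInstance)
    · exact (HasRingHomProperty.Spec_iff (P := @LocallyOfFinitePresentation)).mpr
        (RingHom.finitePresentation_algebraMap.mpr (Algebra.FinitePresentation.of_finitePresentation _ _))
  obtain ⟨hm, hd⟩ := monic_psiPoly R lam N hN h
  haveI := hm.free_adjoinRoot
  haveI := hm.finite_adjoinRoot
  haveI : Module.Free R (SekSuwa.AK R lam N h) := Module.Free.of_equiv e.symm.toLinearEquiv
  haveI : Module.Finite R (SekSuwa.AK R lam N h) := Module.Finite.equiv e.symm.toLinearEquiv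
  haveI : Module.FinitePresentation R (SekSuwa.AK R lam N h) := Module.finitePresentation_of_projective R _
  refine ⟨⟨(IsFinite.SpecMap_iff _).mpr (RingHom.finite_algebraMap.mpr inferInstance),
    Flat.SpecMap_iff.mpr (RingHom.flat_algebraMap_iff.mpr inferInstance),
    (HasRingHomProperty.Spec_iff (P := @LocallyOfFinitePresentation)).mpr
      (RingHom.finitePresentation_algebraMap.mpr (Algebra.FinitePresentation.of_finitePresentation _ _))⟩, fun y => ?_⟩
  rw [Scheme.Hom.finrank_SpecMap_algebraMap]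
  refine (congrFun Module.rankAtStalk_eq_finrank_of_free y).trans ?_
  show Module.finrank R (SekSuwa.AK R lam N h) = N
  rw [e.toLinearEquiv.finrank_eq, PowerBasis.finrank (AdjoinRoot.powerBasis' hm)]
  simpa using hd

end Groth.Agent.S14694
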