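import Groth.Statements.S11191
import Groth.Agent.H19Grp.AffinePts

set_option autoImplicit false
set_option maxHeartbeats 1000000
set_option synthInstance.maxHeartbeats 100000
set_option linter.style.haveILetI false
set_option backward.isDefEq.respectTransparency false
universe u
open CategoryTheory MonoidalCategory CartesianMonoidalCategory MonObj GrpObj AlgebraicGeometry
open scoped TensorProduct
open AGF

namespace Groth.Agent.S11191

/-- Let k be an algebraically closed field, G a linear algebraic group over k (an affine smooth group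
scheme over k) and H a closed subgroup of G (a smooth closed subgroup scheme, i : H → G), and let M
be a rational G-module. Then every H-invariant element of M is fixed by the observable hull of H: if
a rational point g of G fixes under right translation every right-H-invariant global function on G,
then g fixes every H-invariant element of M. (The published statement is for a commutative algebra
with a rational action by automorphisms; the multiplication plays no role and the row is stated for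
modules.) -/
theorem result (k : Type u) [Field k] [IsAlgClosed k]
    (G : Over (Spec (CommRingCat.of k))) [GrpObj G] [IsAffine G.left] [Smooth G.hom]
    (H : Over (Spec (CommRingCat.of k))) [GrpObj H] [Smooth H.hom] (i : H ⟶ G) [IsMonHom i]
    [IsClosedImmersion i.left]
    (M : Type u) [AddCommGroup M] [Module k M] (ρ : VecGrp.GMod G M)
    (g : VecGrp.pt k k ⟶ G) (hg : ∀ f : Γ(G.left, ⊤), AGF.IsRTransInv i f → AGF.IsRTransInv g f)
    (a : M) (ha : a ∈ ρ.fixedUnder i) :
    ρ.ρ k g ((1 : k) ⊗ₜ[k] a) = (1 : k) ⊗ₜ[k] a := by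
  letI := H19Grp.algTop (k := k)
  letI : Algebra k Γ(G.left, ⊤) := H19Grp.algTop G
  letI : Algebra k Γ((G ⊗ H).left, ⊤) := H19Grp.algTop (G ⊗ H)
  haveI : IsAffine H.left := isAffine_of_isAffineHom i.left
  haveI : IsAffine (G ⊗ H).left := inferInstanceAs (IsAffine (Limits.pullback G.hom H.hom))
  let x₀ := ρ.ρ Γ(G.left, ⊤) (H19Grp.upt G) ((1 : Γ(G.left, ⊤)) ⊗ₜ[k] a)
  have hinv : ∀ ℓ : M →ₗ[k] k, AGF.IsRTransInv i (H19Grp.coef Γ(G.left, ⊤) ℓ x₀) := by
    intro ℓ
    let P := H19Grp.upt (G ⊗ H) ≫ fst G H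
    let Q := H19Grp.upt (G ⊗ H) ≫ snd G H
    have h1 : ρ.ρ _ (P * (Q ≫ i)) ((1 : Γ((G ⊗ H).left, ⊤)) ⊗ₜ[k] a) = ρ.ρ _ P ((1 : Γ((G ⊗ H).left, ⊤)) ⊗ₜ[k] a) := by
      rw [map_mul, LinearEquiv.mul_apply, ha _ Q]
    have h2 := congrArg (H19Grp.coef _ ℓ) h1
    rw [H19Grp.coef_gmod_eq_ptHom ρ a ℓ (P * (Q ≫ i)), H19Grp.coef_gmod_eq_ptHom ρ a ℓ P, H19Grp.ptHom_apply, H19Grp.ptHom_apply] at h2
    have h3 := (ConcreteCategory.injective_of_mono_of_preservesPullback
      (Scheme.ΓSpecIso (CommRingCat.of Γ((G ⊗ H).left, ⊤))).hom) h2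
    have hPQ : P * (Q ≫ i) = H19Grp.upt (G ⊗ H) ≫ (G ◁ i) ≫ μ[G] := by
      rw [Hom.mul_def, ← Category.assoc (H19Grp.upt (G ⊗ H)) (G ◁ i)]
      congr 1
      ext <;> simp [P, Q]
    rw [hPQ] at h3
    have hiso : Function.Injective (H19Grp.upt (G ⊗ H)).left.appTop := by
      haveI : IsIso (H19Grp.upt (G ⊗ H)).left := inferInstanceAs (IsIso (G ⊗ H).left.isoSpec.inv)
      exact ConcreteCategory.injective_of_mono_of_preservesPullback _
    apply hiso
    simpa only [P, Over.comp_left, Scheme.Hom.comp_appTop, CommRingCat.comp_apply] using h3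
  have hval : ∀ ℓ : M →ₗ[k] k, H19Grp.coef k ℓ (ρ.ρ k g ((1 : k) ⊗ₜ[k] a)) = H19Grp.coef k ℓ ((1 : k) ⊗ₜ[k] a) := by
    intro ℓ
    have h0 : ρ.ρ k 1 ((1 : k) ⊗ₜ[k] a) = (1 : k) ⊗ₜ[k] a := by rw [map_one]; rfl
    conv_rhs => rw [← h0]
    rw [H19Grp.coef_gmod_eq_ptHom ρ a ℓ g, H19Grp.coef_gmod_eq_ptHom ρ a ℓ (1 : VecGrp.pt k k ⟶ G), H19Grp.ptHom_apply, H19Grp.ptHom_apply]
    refine congrArg _ ?_
    have hf := hg _ (hinv ℓ)
    have h4 := congrArg ((lift (1 : VecGrp.pt k k ⟶ G) (𝟙 _)).left.appTop) hf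
    rw [← CommRingCat.comp_apply, ← CommRingCat.comp_apply, ← Scheme.Hom.comp_appTop, ← Scheme.Hom.comp_appTop,
      ← Over.comp_left, ← Over.comp_left, lift_fst, ← Category.assoc, lift_whiskerLeft, Category.id_comp,
      ← Hom.mul_def, _root_.one_mul] at h4
    exact h4
  apply (TensorProduct.lid k M).injective
  rw [← sub_eq_zero]
  refine (Module.forall_dual_apply_eq_zero_iff k _).mp fun ℓ => ?_
  rw [map_sub, sub_eq_zero]
  have hlid : ∀ z : VecGrp.W k M k, ℓ (TensorProduct.lid k M z) = H19Grp.coef k ℓ z := by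
    intro z
    induction z using TensorProduct.induction_on with
    | zero => simp
    | tmul b m => simp [mul_comm]
    | add x y hx hy => simp only [map_add, hx, hy]
  rw [hlid, hlid]
  exact hval ℓ

end Groth.Agent.S11191
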