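import Groth.Statements.S11195
import Groth.Agent.H19Obs.Trans

set_option autoImplicit false
universe u
open CategoryTheory MonoidalCategory CartesianMonoidalCategory MonObj GrpObj AlgebraicGeometry
open scoped TensorProduct
open AGF

namespace Groth.Agent.S11195

open CategoryTheory.Limits
open Groth.Agent.H27Witt Groth.Agent.H27Witt.Fn Groth.Agent.H19Obs

attribute [local instance 2000] Hom.group Hom.monoid


/-- Let k be an algebraically closed field, G a linear algebraic group over k, K a closed subgroup of G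
and H a closed subgroup of K (j : K → G, i : H → K smooth closed subgroup schemes). When H is
observable in K, and K in G, H is also observable in G. -/
theorem result (k : Type u) [Field k] [IsAlgClosed k]
    (G : Over (Spec (CommRingCat.of k))) [GrpObj G] [IsAffine G.left] [Smooth G.hom]
    (K : Over (Spec (CommRingCat.of k))) [GrpObj K] [Smooth K.hom] (j : K ⟶ G) [IsMonHom j] [IsClosedImmersion j.left]
    (H : Over (Spec (CommRingCat.of k))) [GrpObj H] [Smooth H.hom] (i : H ⟶ K) [IsMonHom i] [IsClosedImmersion i.left]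
    (hH : AGF.IsObservableIn k i) (hK : AGF.IsObservableIn k j) :
    AGF.IsObservableIn k (i ≫ j) := by
  classical
  haveI : IsAffine K.left := isAffine_of_isAffineHom j.left
  haveI : IsAffine H.left := isAffine_of_isAffineHom i.left
  intro g hg
  obtain ⟨s, hs, hsep⟩ := exists_separating (k := k) j
  have hs' : ∀ f ∈ s, f ∈ invAlg j := fun f hf => (isRTransInv_iff j f).1 (hs f hf)
  have hsep' : ∀ x x' : T0 k ⟶ G, (∀ f ∈ s, ev x f = ev x' f) → ∃ y : T0 k ⟶ K, x' = x * (y ≫ j) := by
    intro x x' h
    obtain ⟨k', hk'⟩ := hK _ (hull_of_sep j (hsep x x' h))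
    refine ⟨e0 ≫ k', ?_⟩
    rw [Category.assoc, hk', ← Category.assoc, e0_e1, Category.id_comp, mul_inv_cancel_left]
  have hsub : ∀ f : Fn G, IsRTransInv j f → IsRTransInv (i ≫ j) f := fun f hf =>
    (isRTransInv_iff (i ≫ j) f).2 fun x y => by
      rw [← Category.assoc]
      exact (isRTransInv_iff j f).1 hf x (y ≫ i)
  obtain ⟨k₀, rfl⟩ := hK g fun f hf => hg f (hsub f hf)
  obtain ⟨h, rfl⟩ := hH k₀ fun f hf => by
    refine (isRTransInv_pt_iff k₀ f).2 fun x => ?_
    obtain ⟨fh, rfl⟩ := (Scheme.Hom.app_surjective j.left ⊤ (isAffineOpen_top _)) f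
    have h1 : R (e0 ≫ k₀) (pull j fh) = pull j fh := by
      refine R_eq_of_fixed j s hs' hsep' (Set.range fun y : T0 k ⟶ H => y ≫ i) (e0 ≫ k₀) ?_ fh ?_
      · intro F hF
        have h2 := (isRTransInv_pt_iff _ F).1 (hg F ((isRTransInv_iff (i ≫ j) F).2 fun x y => by
          rw [← Category.assoc]; exact hF x _ ⟨y, rfl⟩)) 1
        rwa [_root_.one_mul, ← Category.assoc] at h2
      · rintro _ ⟨y, rfl⟩
        refine ext_points fun z => ?_
        rw [ev_R]
        exact (isRTransInv_iff i (pull j fh)).1 hf z y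
    have h3 := congrArg (ev x) h1
    rwa [ev_R] at h3
  exact ⟨h, (Category.assoc _ _ _).symm⟩

end Groth.Agent.S11195
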