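import Groth.Statements.S10337
import Groth.Agent.H13AlgSp.DecentDense

set_option autoImplicit false
universe u
open CategoryTheory CategoryTheory.Limits AlgebraicGeometry Topology TopologicalSpace
open AlgSp

namespace Groth.Agent.S10337

/-- For a scheme S, a decent algebraic space X over S contains a dense open subspace that is a scheme:
there is an open subspace X' ⟶ X whose underlying sheaf is representable by a scheme and whose set
of points is dense in |X|. -/
theorem result {S : Scheme.{u}} (X : AlgSp.Space S)
    (hX : AlgSp.IsDecent X.obj) :
    ∃ (X' : AlgSp.Space S) (j : X' ⟶ X), AlgSp.RepWith @IsOpenImmersion j.hom ∧ X'.obj.obj.IsRepresentable ∧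
      Dense (Set.range (AlgSp.Points.map j.hom)) := by
  exact Groth.Agent.H13AlgSp.exists_dense_open_subscheme X hX

end Groth.Agent.S10337
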