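import Groth.Statements.S15003
import Groth.Agent.H22Alg.FiniteDegree
import Groth.Agent.H8Props.FiniteRegularFlat
import Mathlib.AlgebraicGeometry.AlgClosed.Basic

set_option autoImplicit false
set_option linter.style.haveILetI false
set_option backward.isDefEq.respectTransparency.types false
universe u
open CategoryTheory CategoryTheory.Limits AlgebraicGeometry TopologicalSpace
open Harb

namespace Groth.Agent.S15003

theorem regular_localization {X : Scheme.{u}} (hreg : ∀ x : X, IsRegularLocalRing (X.presheaf.stalk x))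
    {V : X.Opens} (hV : IsAffineOpen V) (p : Ideal Γ(X, V)) [p.IsPrime] :
    IsRegularLocalRing (Localization.AtPrime p) := by
  let q : PrimeSpectrum Γ(X, V) := ⟨p, inferInstance⟩
  have hx : hV.fromSpec q ∈ V := hV.range_fromSpec.le ⟨q, rfl⟩
  letI := TopCat.Presheaf.algebra_section_stalk X.presheaf (⟨hV.fromSpec q, hx⟩ : V)
  haveI : IsLocalization q.asIdeal.primeCompl (X.presheaf.stalk (hV.fromSpec q)) :=
    hV.isLocalization_stalk' q hx
  haveI := hreg (hV.fromSpec q)
  exact IsRegularLocalRing.of_ringEquiv (IsLocalization.algEquiv q.asIdeal.primeCompl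
    (X.presheaf.stalk (hV.fromSpec q)) (Localization.AtPrime p)).toRingEquiv

theorem flat_of_regular {X Y : Scheme.{u}} [IsIntegral X] [IsIntegral Y] [IsLocallyNoetherian X]
    (hX : ∀ x : X, IsRegularLocalRing (X.presheaf.stalk x))
    (hY : ∀ y : Y, IsRegularLocalRing (Y.presheaf.stalk y))
    (π : Y ⟶ X) [IsFinite π] [Surjective π] : Flat π := by
  haveI : IsZariskiLocalAtTarget (@AlgebraicGeometry.Flat : MorphismProperty Scheme.{u}) :=
    @HasRingHomProperty.instIsZariskiLocalAtTarget (@AlgebraicGeometry.Flat) RingHom.Flat _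
  rw [IsZariskiLocalAtTarget.iff_of_iSup_eq_top (P := (@AlgebraicGeometry.Flat : MorphismProperty Scheme.{u}))
    (fun V : X.affineOpens => V.1) (iSup_affineOpens_eq_top X)]
  rintro ⟨V, hV'⟩
  have hV : IsAffineOpen V := hV'
  let U := π ⁻¹ᵁ V
  have hU : IsAffineOpen U := hV.preimage π
  have comm : hU.isoSpec.hom ≫ Spec.map (π.app V) = (π ∣_ V) ≫ hV.isoSpec.hom := by
    rw [← cancel_mono hV.fromSpec, Category.assoc, Category.assoc, Scheme.Hom.app_eq_appLE,
      IsAffineOpen.SpecMap_appLE_fromSpec π hV hU, ← IsAffineOpen.isoSpec_inv_ι,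
      ← IsAffineOpen.isoSpec_inv_ι]
    simp [U]
  rw [MorphismProperty.arrow_mk_iso_iff @Flat (Arrow.isoMk hU.isoSpec hV.isoSpec comm :
    Arrow.mk (π ∣_ V) ≅ Arrow.mk (Spec.map (π.app V))), Flat.SpecMap_iff]
  by_cases hne : Nonempty V
  swap
  · haveI : Subsingleton Γ(X, V) := by
      rw [show V = ⊥ from Opens.ext (Set.eq_empty_of_forall_notMem fun x hx => hne ⟨⟨x, hx⟩⟩)]
      infer_instance
    letI := (π.app V).hom.toAlgebra
    haveI : Subsingleton Γ(Y, π ⁻¹ᵁ V) := Module.subsingleton Γ(X, V) _
    exact (inferInstance : Module.Flat Γ(X, V) Γ(Y, π ⁻¹ᵁ V))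
  obtain ⟨x₀, hx₀⟩ := hne
  obtain ⟨y₀, hy₀⟩ := π.surjective x₀
  haveI : Nonempty V := ⟨⟨x₀, hx₀⟩⟩
  haveI : Nonempty U := ⟨⟨y₀, show π y₀ ∈ V from hy₀.symm ▸ hx₀⟩⟩
  letI := (π.app V).hom.toAlgebra
  haveI : Module.Finite Γ(X, V) Γ(Y, U) := IsFinite.finite_app (f := π) V hV
  haveI : IsNoetherianRing Γ(X, V) := IsLocallyNoetherian.component_noetherian ⟨V, hV⟩
  have hinj : Function.Injective (algebraMap Γ(X, V) Γ(Y, U)) := by
    rw [injective_iff_map_eq_zero]
    intro c hc
    by_contra hc0
    have hne : (X.basicOpen c : Set X).Nonempty := by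
      rw [Set.nonempty_iff_ne_empty]
      intro he
      exact hc0 ((basicOpen_eq_bot_iff c).1 (Opens.ext (he.trans Opens.coe_bot.symm)))
    obtain ⟨x, hx⟩ := hne
    obtain ⟨y, hy⟩ := π.surjective x
    have hy' : y ∈ π ⁻¹ᵁ X.basicOpen c := show π y ∈ X.basicOpen c from hy.symm ▸ hx
    rw [Scheme.preimage_basicOpen, show π.app V c = 0 from hc, Scheme.basicOpen_zero] at hy'
    exact hy'
  show Module.Flat Γ(X, V) Γ(Y, U)
  refine H8Props.FiniteRegularFlat.flat_of_regular (fun p _ => regular_localization hX hV p)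
    (fun P _ => regular_localization hY hU P) fun q hq => ?_
  have hqb : q = ⊥ := Set.mem_singleton_iff.1 (IsDomain.minimalPrimes_eq_singleton_bot Γ(Y, U) ▸ hq)
  rw [hqb, ← RingHom.ker_eq_comap_bot, (RingHom.injective_iff_ker_eq_bot _).1 hinj,
    IsDomain.minimalPrimes_eq_singleton_bot]
  rfl

theorem mult_eq_one {X Y : Scheme.{u}} (π : Y ⟶ X) [LocallyOfFiniteType π] [FormallyUnramified π] (y : Y) :
    H22Alg.FiniteDegree.mult π y = 1 := by
  algebraize [(π.stalkMap y).hom]
  haveI : IsLocalHom (algebraMap (X.presheaf.stalk (π y)) (Y.presheaf.stalk y)) :=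
    inferInstanceAs <| IsLocalHom (π.stalkMap y).hom
  haveI : Algebra.EssFiniteType (X.presheaf.stalk (π y)) (Y.presheaf.stalk y) := by
    rw [← RingHom.essFiniteType_algebraMap, RingHom.algebraMap_toAlgebra]
    exact LocallyOfFiniteType.stalkMap π y
  haveI : Algebra.FormallyUnramified (X.presheaf.stalk (π y)) (Y.presheaf.stalk y) := by
    rw [← RingHom.formallyUnramified_algebraMap, RingHom.algebraMap_toAlgebra]
    exact FormallyUnramified.stalkMap π y
  have h := Algebra.FormallyUnramified.map_maximalIdeal (R := X.presheaf.stalk (π y)) (S := Y.presheaf.stalk y)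
  rw [RingHom.algebraMap_toAlgebra] at h
  rw [H22Alg.FiniteDegree.mult, h]
  haveI : IsSimpleModule (Y.presheaf.stalk y) (Y.presheaf.stalk y ⧸ IsLocalRing.maximalIdeal (Y.presheaf.stalk y)) :=
    isSimpleModule_iff_quot_maximal.2 ⟨_, inferInstance, ⟨LinearEquiv.refl _ _⟩⟩
  rw [Module.length_eq_one]
  rfl

theorem residueDegree_eq_one (k : Type u) [Field k] [IsAlgClosed k] {X Y : Scheme.{u}}
    (qX : X ⟶ Spec (CommRingCat.of k)) (qY : Y ⟶ Spec (CommRingCat.of k)) [LocallyOfFiniteType qY]
    (π : Y ⟶ X) (hπ : π ≫ qX = qY) {y : Y} (hy : IsClosed ({y} : Set Y)) : π.residueDegree y = 1 := by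
  obtain ⟨c, hcomp, η, hc⟩ : ∃ c : Spec (CommRingCat.of k) ⟶ Y, c ≫ qY = 𝟙 _ ∧ ∃ η, c η = y :=
    ⟨pointOfClosedPoint qY y hy, pointOfClosedPoint_comp _ _ _, IsLocalRing.closedPoint k,
      pointOfClosedPoint_apply qY y hy _⟩
  subst hc
  have h1 : Function.Surjective (((c ≫ π) ≫ qX).residueFieldMap η).hom := by
    generalize hg : (c ≫ π) ≫ qX = g
    rw [Category.assoc, hπ, hcomp] at hg
    subst hg
    rw [Scheme.residueFieldMap_id]
    exact fun a => ⟨a, rfl⟩
  rw [Scheme.residueFieldMap_comp] at h1
  have h2 : Function.Surjective ((c ≫ π).residueFieldMap η).hom := fun a => by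
    obtain ⟨b, hb⟩ := h1 a
    exact ⟨_, hb⟩
  rw [Scheme.residueFieldMap_comp] at h2
  have hsurj : Function.Surjective (π.residueFieldMap (c η)).hom := by
    intro a
    obtain ⟨b, hb'⟩ := h2 ((c.residueFieldMap η).hom a)
    exact ⟨b, (c.residueFieldMap η).hom.injective hb'⟩
  unfold Scheme.Hom.residueDegree
  letI := (π.residueFieldMap (c η)).hom.toAlgebra
  exact (LinearEquiv.ofBijective (Algebra.linearMap (X.residueField (π (c η))) (Y.residueField (c η)))
    ⟨(π.residueFieldMap (c η)).hom.injective, hsurj⟩).finrank_eq.symm.trans (Module.finrank_self _)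

theorem residueDegree_generic {X Y : Scheme.{u}} [IsIntegral X] [IsIntegral Y] (π : Y ⟶ X)
    (e : π (genericPoint Y) = genericPoint X) :
    π.residueDegree (genericPoint Y) = Models.homDegree
      (X.presheaf.stalkSpecializes (specializes_of_eq e) ≫ π.stalkMap (genericPoint Y)).hom := by
  have hY : IsField (Y.presheaf.stalk (genericPoint Y)) := Field.toIsField Y.functionField
  let s : X.functionField ≃+* X.presheaf.stalk (π (genericPoint Y)) :=
    (X.presheaf.stalkCongr (Inseparable.of_eq e.symm)).commRingCatIsoToRingEquiv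
  have hX : IsField (X.presheaf.stalk (π (genericPoint Y))) :=
    s.symm.toMulEquiv.isField (Field.toIsField X.functionField)
  unfold Scheme.Hom.residueDegree Models.homDegree
  letI a1 := (π.residueFieldMap (genericPoint Y)).hom.toAlgebra
  letI a2 := (X.presheaf.stalkSpecializes (specializes_of_eq e) ≫ π.stalkMap (genericPoint Y)).hom.toAlgebra
  refine (@Algebra.finrank_eq_of_equiv_equiv X.functionField (Y.presheaf.stalk (genericPoint Y)) _ _ a2
    (X.residueField (π (genericPoint Y))) (Y.residueField (genericPoint Y)) _ _ a1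
    (s.trans (RingEquiv.ofBijective (IsLocalRing.residue (X.presheaf.stalk (π (genericPoint Y))))
      ⟨?_, IsLocalRing.residue_surjective⟩))
    (RingEquiv.ofBijective (IsLocalRing.residue (Y.presheaf.stalk (genericPoint Y)))
      ⟨?_, IsLocalRing.residue_surjective⟩) ?_).symm
  · exact (RingHom.injective_iff_ker_eq_bot _).2
      (IsLocalRing.ker_residue.trans (IsLocalRing.isField_iff_maximalIdeal_eq.1 hX))
  · exact (RingHom.injective_iff_ker_eq_bot _).2
      (IsLocalRing.ker_residue.trans (IsLocalRing.isField_iff_maximalIdeal_eq.1 hY))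
  · rfl

/-- Let k be an algebraically closed field and let π : Y → X be a finite, surjective and unramified
k-morphism of smooth varieties over k (X and Y integral, separated and of finite type over k with
all local rings regular) which sends the generic point of Y to the generic point of X, so that the
function field k(X) embeds in k(Y). Then for every closed point p of X the fibre π⁻¹(p) consists of
exactly deg π points, where deg π = [k(Y) : k(X)] is the degree of that field extension. -/
theorem result (k : Type u) [Field k] [IsAlgClosed k]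
    (X Y : Scheme.{u}) [X.Over (Spec (CommRingCat.of k))] [Y.Over (Spec (CommRingCat.of k))]
    [IsIntegral X] [IsIntegral Y]
    [IsSeparated (X ↘ (Spec (CommRingCat.of k)))] [LocallyOfFiniteType (X ↘ (Spec (CommRingCat.of k)))]
    [QuasiCompact (X ↘ (Spec (CommRingCat.of k)))]
    [IsSeparated (Y ↘ (Spec (CommRingCat.of k)))] [LocallyOfFiniteType (Y ↘ (Spec (CommRingCat.of k)))]
    [QuasiCompact (Y ↘ (Spec (CommRingCat.of k)))]
    (hregX : ∀ x : X, IsRegularLocalRing (X.presheaf.stalk x))
    (hregY : ∀ y : Y, IsRegularLocalRing (Y.presheaf.stalk y))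
    (π : Y ⟶ X) (hπ : π ≫ (X ↘ (Spec (CommRingCat.of k))) = (Y ↘ (Spec (CommRingCat.of k))))
    [AlgebraicGeometry.IsFinite π] [AlgebraicGeometry.Surjective π] [AlgebraicGeometry.FormallyUnramified π]
    (e : π.base (genericPoint Y) = genericPoint X) (p : X) (hp : IsClosed ({p} : Set X)) :
    Nat.card {q : Y // π.base q = p} =
      Models.homDegree (X.presheaf.stalkSpecializes (specializes_of_eq e) ≫ π.stalkMap (genericPoint Y)).hom := by
  haveI : IsLocallyNoetherian X := LocallyOfFiniteType.isLocallyNoetherian (X ↘ Spec (CommRingCat.of k))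
  haveI : Flat π := flat_of_regular hregX hregY π
  haveI : LocallyOfFinitePresentation π := inferInstance
  have hsum := H22Alg.FiniteDegree.finsum_fibre_eq_finrank π
  have hp' : π.finrank p = Nat.card {q : Y // π.base q = p} := by
    rw [← hsum p]
    have hfin : (π ⁻¹' {p}).Finite := π.finite_preimage_singleton p
    rw [finsum_mem_congr (g := fun _ => 1) rfl fun y (hy : y ∈ π ⁻¹' {p}) => show H22Alg.FiniteDegree.mult π y * π.residueDegree y = 1 from ?_]
    · rw [finsum_mem_eq_finite_toFinset_sum _ hfin, Finset.sum_const, smul_eq_mul, mul_one,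
        ← Set.ncard_eq_toFinset_card _ hfin, ← Nat.card_coe_set_eq]
      rfl
    · rw [mult_eq_one π y, residueDegree_eq_one k (X ↘ Spec (CommRingCat.of k)) (Y ↘ Spec (CommRingCat.of k)) π hπ, one_mul]
      have hd := (π.isDiscrete_preimage_singleton (π y)).to_subtype
      have hcl : IsClosed (π ⁻¹' {π y}) := (hy ▸ hp : IsClosed ({π y} : Set X)).preimage π.continuous
      have h := hcl.isClosedEmbedding_subtypeVal.isClosedMap _ (isClosed_discrete ({⟨y, rfl⟩} : Set (π ⁻¹' {π y})))
      simpa using h
  have hgen : π.finrank (genericPoint X) =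
      Models.homDegree (X.presheaf.stalkSpecializes (specializes_of_eq e) ≫ π.stalkMap (genericPoint Y)).hom := by
    rw [← hsum (genericPoint X)]
    have hone : π ⁻¹' {genericPoint X} = {genericPoint Y} := by
      refine Set.eq_singleton_iff_unique_mem.2 ⟨e, fun y (hy : π y = genericPoint X) => ?_⟩
      have hd := (π.isDiscrete_preimage_singleton (genericPoint X)).to_subtype
      have h : (⟨genericPoint Y, e⟩ : π ⁻¹' {genericPoint X}) = ⟨y, hy⟩ :=
        ((subtype_specializes_iff (⟨genericPoint Y, e⟩ : π ⁻¹' {genericPoint X}) ⟨y, hy⟩).2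
          (genericPoint_specializes y)).eq
      exact (congrArg Subtype.val h).symm
    rw [hone, finsum_mem_singleton, mult_eq_one, one_mul]
    exact residueDegree_generic π e
  rw [← hp', ← hgen]
  haveI : PreconnectedSpace X := inferInstance
  exact (π.isLocallyConstant_finrank).apply_eq_of_preconnectedSpace _ _

end Groth.Agent.S15003
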