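import Groth.Statements.S17450
import Groth.Agent.H19Chev.LargestMult
import Groth.Agent.H19Chev.StructureBasic
import Groth.Agent.H19Chev.TorusCriterion
import Groth.Agent.H19Grp.AffineQuotient
import Groth.Agent.H21Dyn.Scheme
import Groth.Agent.H19Mult.Field
import Groth.Agent.H25AbCube.Torsion
import Groth.Agent.H25Grp.Isogeny
import Groth.Agent.H19Grp.NormalPts
import Groth.Agent.S5794

set_option autoImplicit false
set_option maxHeartbeats 1000000
set_option synthInstance.maxHeartbeats 100000
set_option linter.style.haveILetI false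
set_option backward.isDefEq.respectTransparency false
universe u
open CategoryTheory MonoidalCategory CartesianMonoidalCategory MonObj GrpObj AlgebraicGeometry CategoryTheory.Limits
open AlgGrp

namespace Groth.Agent.S17450

open CategoryTheory CategoryTheory.Limits MonoidalCategory CartesianMonoidalCategory MonObj GrpObj AlgebraicGeometry
open TensorProduct WithConv
open Groth.Agent.H19Chev

/-- powers of an algebra-valued point on a group-like element -/
theorem convPow_groupLike {k : Type u} [Field k] {A B : Type u} [CommRing A] [Bialgebra k A] [CommRing B]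
    [Algebra k B] (f : WithConv (A →ₐ[k] B)) {a : A} (ha : IsGroupLikeElem k a) (n : ℕ) :
    (f ^ n).ofConv a = f.ofConv a ^ n := by
  induction n with
  | zero =>
    rw [pow_zero, pow_zero]
    show algebraMap k B (CoalgebraStruct.counit (R := k) a) = 1
    rw [ha.counit_eq_one, map_one]
  | succ n ih =>
    rw [pow_succ, pow_succ]
    show (f ^ n * f) a = _
    rw [AlgHom.convMul_apply, ha.comul_eq_tmul_self]
    simp only [Algebra.TensorProduct.lift_tmul, ← ih]

/-- A subgroup of a split torus without `ℓ`-torsion has finite coordinate ring. -/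
theorem finite_of_diag {k : Type u} [Field k] {C : Type u} [CommRing C] [HopfAlgebra k C] [Algebra.FiniteType k C]
    (hC : SGA3b.IsDiag k C) (ℓ : ℕ) (hℓ : ℓ.Prime)
    (htors : ∀ (B : Type u) [CommRing B] [Algebra k B] (f : WithConv (C →ₐ[k] B)), f ^ ℓ = 1 → f = 1) :
    Module.Finite k C := by
  obtain ⟨M, _, ⟨e⟩⟩ := hC
  haveI : Monoid.FG M := MonoidAlgebra.finiteType_iff_fg.1
    (Algebra.FiniteType.equiv (inferInstance : Algebra.FiniteType k C) (AlgEquivClass.toAlgEquiv e))
  let P : Subgroup M := (powMonoidHom ℓ : M →* M).range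
  let π : MonoidAlgebra k M →ₐ[k] MonoidAlgebra k (M ⧸ P) :=
    MonoidAlgebra.mapDomainAlgHom k k (QuotientGroup.mk' P)
  let f : WithConv (C →ₐ[k] MonoidAlgebra k (M ⧸ P)) := toConv (π.comp (e : C →ₐ[k] MonoidAlgebra k M))
  have hgl : ∀ m : M, IsGroupLikeElem k (e.symm (MonoidAlgebra.single m 1)) :=
    fun m => (MonoidAlgebra.isGroupLikeElem_single_one m).map e.symm
  have hf : ∀ m : M, f.ofConv (e.symm (MonoidAlgebra.single m 1)) = MonoidAlgebra.single (QuotientGroup.mk' P m) 1 :=
    fun m => by
      show π (e (e.symm (MonoidAlgebra.single m 1))) = _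
      rw [e.apply_symm_apply]
      simp [π]
  have hext : ∀ g : WithConv (C →ₐ[k] MonoidAlgebra k (M ⧸ P)),
      (∀ m : M, g.ofConv (e.symm (MonoidAlgebra.single m 1)) = 1) → g = 1 := fun g hg => by
    refine WithConv.ofConv_injective ?_
    have h : g.ofConv.comp (e.symm : MonoidAlgebra k M →ₐ[k] C) =
        (1 : WithConv (C →ₐ[k] MonoidAlgebra k (M ⧸ P))).ofConv.comp (e.symm : MonoidAlgebra k M →ₐ[k] C) := by
      refine MonoidAlgebra.algHom_ext (fun m => ?_) (Subsingleton.elim _ _)
      show g.ofConv (e.symm _) = algebraMap k _ (CoalgebraStruct.counit (R := k) (e.symm _))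
      rw [hg, (hgl m).counit_eq_one, map_one]
    refine AlgHom.ext fun c => ?_
    have := AlgHom.congr_fun h (e c)
    simpa using this
  have hf1 : f = 1 := htors _ f (hext _ fun m => by
    rw [convPow_groupLike f (hgl m), hf, MonoidAlgebra.single_pow, one_pow, ← map_pow]
    have hmem : m ^ ℓ ∈ P := ⟨m, rfl⟩
    rw [show QuotientGroup.mk' P (m ^ ℓ) = 1 from (QuotientGroup.eq_one_iff _).2 hmem, MonoidAlgebra.one_def])
  have hP : ∀ m : M, m ∈ P := fun m => by
    have h := hf m
    rw [hf1] at h
    change algebraMap k _ (CoalgebraStruct.counit (R := k) (e.symm (MonoidAlgebra.single m 1))) = _ at h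
    rw [(hgl m).counit_eq_one, map_one, MonoidAlgebra.one_def] at h
    exact (QuotientGroup.eq_one_iff _).1 (MonoidAlgebra.single_left_injective _root_.one_ne_zero h).symm
  haveI : Module.Finite ℤ (Additive M) :=
    Module.Finite.iff_addGroup_fg.mpr (AddGroup.fg_iff_addMonoid_fg.mpr inferInstance)
  obtain ⟨r, hr, hr0⟩ := Submodule.exists_sub_one_mem_and_smul_eq_zero_of_fg_of_le_smul
    (Ideal.span {(ℓ : ℤ)}) (⊤ : Submodule ℤ (Additive M)) Module.Finite.fg_top (by
      intro x _
      obtain ⟨y, hy⟩ := hP x.toMul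
      have hx : x = (ℓ : ℤ) • Additive.ofMul y := by
        rw [natCast_zsmul]
        exact congrArg Additive.ofMul hy.symm
      rw [hx]
      exact Submodule.smul_mem_smul (Ideal.mem_span_singleton_self _) trivial)
  have hrne : r ≠ 0 := by
    rintro rfl
    rw [Ideal.mem_span_singleton, zero_sub, dvd_neg] at hr
    exact hℓ.one_lt.ne' (Nat.dvd_one.1 (Int.natCast_dvd_natCast.1 (by simpa using hr)))
  haveI : Finite (Additive M) := Module.finite_of_fg_torsion (Additive M) fun x =>
    ⟨⟨r, mem_nonZeroDivisors_of_ne_zero hrne⟩, hr0 x trivial⟩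
  haveI : Finite M := Finite.of_equiv _ Additive.toMul
  exact Module.Finite.equiv (AlgEquivClass.toAlgEquiv e : C ≃ₐ[k] MonoidAlgebra k M).symm.toLinearEquiv

variable {k : Type u} [Field k]

theorem isDiag_monoidAlgebra (G : Type) [CommGroup G] : SGA3b.IsDiag k (MonoidAlgebra k G) :=
  CoradSplit.isDiag_of_isDiagonalizable (eq_top_iff.2 fun x hx => by
    clear hx
    induction x using MonoidAlgebra.induction_linear with
    | zero => exact zero_mem _
    | add a b ha hb => exact add_mem ha hb
    | single m r =>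
      rw [show MonoidAlgebra.single m r = r • (MonoidAlgebra.single m 1 : MonoidAlgebra k G) by
        rw [MonoidAlgebra.smul_single', _root_.mul_one]]
      exact Submodule.smul_mem _ _ (Submodule.subset_span (MonoidAlgebra.isGroupLikeElem_single_one m)))

/-- A subgroup of a diagonalisable group without `ℓ`-torsion has finitely many points. -/
theorem finite_pts_of_diag {T N : Over (Spec (CommRingCat.of k))} [GrpObj T] [GrpObj N]
    (n' : N ⟶ T) [IsMonHom n'] [IsClosedImmersion n'.left]
    {A : Type u} [CommRing A] [HopfAlgebra k A] [Algebra.FiniteType k A] (hA : SGA3b.IsDiag k A)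
    (eT : T ≅ H21Hom.specGrp k A) [IsMonHom eT.hom] (ℓ : ℕ) (hℓ : ℓ.Prime)
    (htors : ∀ (Y : Over (Spec (CommRingCat.of k))) (h : Y ⟶ N), h ^ ℓ = 1 → h = 1) :
    Finite (𝟙_ (Over (Spec (CommRingCat.of k))) ⟶ N) := by
  obtain ⟨C, _, _, ψ, eN, heN, heN', hψ, -⟩ := LargestMult.exists_presentation n' eT
  haveI := heN
  haveI := heN'
  haveI : Algebra.FiniteType k C :=
    (inferInstance : Algebra.FiniteType k A).of_surjective (ψ : A →ₐ[k] C) hψ
  have hC : SGA3b.IsDiag k C := by
    obtain ⟨M, _, ⟨e⟩⟩ := hA
    exact H19Mult.isDiag_of_surjective (ψ.comp (e.symm : MonoidAlgebra k M →ₐc[k] A))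
      (hψ.comp e.symm.surjective)
  haveI : Mono eN.inv := inferInstance
  haveI : Module.Finite k C := finite_of_diag hC ℓ hℓ fun B _ _ f hf => by
    have h1 : Spec.mapMulEquiv f ^ ℓ = 1 := by rw [← map_pow, hf, map_one]
    have h2 : (Spec.mapMulEquiv f ≫ eN.inv) ^ ℓ = 1 := by
      rw [← MonObj.pow_comp, h1, MonObj.one_comp]
    have h3 := htors _ _ h2
    rw [← MonObj.one_comp eN.inv, cancel_mono] at h3
    exact Spec.mapMulEquiv.injective (h3.trans (map_one _).symm)
  haveI : IsIntegralHom (Spec.map (CommRingCat.ofHom (algebraMap k C))) := by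
    haveI : IsFinite (Spec.map (CommRingCat.ofHom (algebraMap k C))) :=
      (IsFinite.SpecMap_iff (CommRingCat.ofHom (algebraMap k C))).2 (RingHom.finite_algebraMap.2 inferInstance)
    infer_instance
  let u₁ : (Spec (CommRingCat.of k)).asOver (Spec (CommRingCat.of k)) ⟶ 𝟙_ (Over (Spec (CommRingCat.of k))) :=
    toUnit _
  haveI : IsIso u₁ := by
    haveI : IsIso ((Over.forget _).map u₁) := by
      show IsIso u₁.left
      have hw : u₁.left ≫ (𝟙_ (Over (Spec (CommRingCat.of k)))).hom = _ := Over.w u₁
      have : u₁.left = Spec.map (CommRingCat.ofHom (algebraMap k k)) := by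
        rw [← Category.comp_id u₁.left]; exact hw
      rw [this, show CommRingCat.ofHom (algebraMap k k) = 𝟙 (CommRingCat.of k) from rfl, Spec.map_id]
      exact ⟨𝟙 _, Category.id_comp _, Category.id_comp _⟩
    exact isIso_of_reflects_iso u₁ (Over.forget _)
  haveI : Finite (WithConv (C →ₐ[k] k)) :=
    Finite.of_injective (fun f => f.ofConv) WithConv.ofConv_injective
  exact Finite.of_injective (fun h => Spec.mapMulEquiv.symm (u₁ ≫ h ≫ eN.hom)) fun a b hab => by
    have := Spec.mapMulEquiv.symm.injective hab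
    rwa [cancel_epi u₁, cancel_mono eN.hom] at this

/-- An abelian variety without `ℓ`-torsion subscheme is a point. -/
theorem dim_eq_zero [IsAlgClosed k] (A : Over (Spec (CommRingCat.of k))) [GrpObj A] [IsCommMonObj A]
    [IsProper A.hom] [GeometricallyIntegral A.hom] (ℓ : ℕ) (hℓ : ℓ.Prime)
    (htors : ∀ (Y : Over (Spec (CommRingCat.of k))) (h : Y ⟶ A), h ^ ℓ = 1 → h = 1) :
    topologicalKrullDim A.left = 0 := by
  obtain ⟨g, hg⟩ : ∃ g : ℕ, topologicalKrullDim A.left = g := by
    haveI : IsIntegral A.left := GeometricallyIntegral.isIntegral_of_subsingleton A.hom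
    exact H25Grp.exists_nat_dim A.hom
  let φ : A ⟶ A := (𝟙 A) ^ ℓ
  haveI := H25AbCube.isMonHom_pow (A := A) ℓ
  haveI := H25AbCube.isFinite_pow (A := A) hℓ.pos
  haveI := H25AbCube.flat_pow (A := A) hℓ.pos
  let s := pullback.snd φ.left (η[A]).left
  let h : Over.mk s ⟶ A := Over.homMk (pullback.fst φ.left (η[A]).left) (by
    rw [← Over.w φ, reassoc_of% (pullback.condition (f := φ.left) (g := (η[A]).left)), Over.w η[A]]
    exact Category.comp_id _)
  have hh : h = 1 := htors _ h (by
    rw [← H25AbCube.comp_pow_id]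
    refine Over.OverMorphism.ext (Eq.trans ?_ (H19Grp.one_left _).symm)
    show pullback.fst φ.left (η[A]).left ≫ φ.left = s ≫ (η[A]).left
    exact pullback.condition)
  haveI : IsIso s := by
    refine ⟨H19Grp.kerUnit φ, ?_, H19Grp.kerUnit_snd φ⟩
    apply pullback.hom_ext
    · rw [Category.assoc, H19Grp.kerUnit_fst, Category.id_comp]
      exact ((congrArg (·.left) hh).trans (H19Grp.one_left _)).symm
    · rw [Category.assoc, H19Grp.kerUnit_snd, Category.id_comp, Category.comp_id]
  have h1 : s.finrank = 1 := (Scheme.Hom.isIso_iff_finrank_eq _).1 inferInstance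
  have h2 : ℓ ^ (2 * g) = 1 :=
    (H25AbCube.finrank_kerPow hℓ.pos g hg (IsLocalRing.closedPoint k)).symm.trans (congrFun h1 _)
  rcases Nat.pow_eq_one.1 h2 with h | h
  · exact absurd h hℓ.one_lt.ne'
  · rw [hg, show g = 0 by omega, Nat.cast_zero]

/-- The statement over an algebraically closed field. -/
theorem isFinite_algClosed [IsAlgClosed k] {G T A H : Over (Spec (CommRingCat.of k))} [GrpObj G] [GrpObj T]
    [GrpObj A] [GrpObj H] [IsCommMonObj G] [Smooth G.hom] [QuasiCompact G.hom]
    (i : T ⟶ G) [IsMonHom i] [IsClosedImmersion i.left] (hT : Red.IsTorus T)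
    (q : G ⟶ A) [IsMonHom q] (hker : AlgGrp.IsKernel i q) [IsProper A.hom]
    (j : H ⟶ G) [IsMonHom j] [IsClosedImmersion j.left] (ℓ : ℕ) (hℓ : ℓ.Prime)
    (htors : ∀ (Y : Over (Spec (CommRingCat.of k))) (h : Y ⟶ H), h ^ ℓ = 1 → h = 1) :
    IsFinite H.hom := by
  haveI : LocallyOfFiniteType H.hom := by rw [← Over.w j]; infer_instance
  haveI : QuasiCompact H.hom := by rw [← Over.w j]; infer_instance
  obtain ⟨N, _, n, hn, hncl, hN⟩ := H19Grp.AffineQuotient.exists_kernel (j ≫ q)
  haveI := hn
  haveI := hncl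
  haveI : Mono i := Over.mono_of_mono_left i
  haveI : Mono n := Over.mono_of_mono_left n
  let n' : N ⟶ T := hker.lift (n ≫ j) (toUnit N) (by rw [Category.assoc]; exact hN.w)
  have hn' : n' ≫ i = n ≫ j := hker.lift_fst _ _ _
  haveI : IsMonHom n' := by
    constructor
    · rw [← cancel_mono i, Category.assoc, hn', ← Category.assoc]; simp
    · rw [← cancel_mono i, Category.assoc, hn', ← Category.assoc]; simp [tensorHom_comp_tensorHom_assoc, hn']
  haveI : IsClosedImmersion n'.left := by
    haveI : IsClosedImmersion (n'.left ≫ i.left) := by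
      rw [← Over.comp_left, hn', Over.comp_left]; infer_instance
    exact IsClosedImmersion.of_comp n'.left i.left
  obtain ⟨r, eT, heT⟩ := H21Dyn.exists_split_algClosed T hT
  haveI := heT
  haveI : Algebra.FiniteType k (MonoidAlgebra k (Multiplicative (Fin r → ℤ))) :=
    MonoidAlgebra.finiteType_iff_fg.2 inferInstance
  haveI : IsMonHom eT.symm.hom := inferInstanceAs (IsMonHom eT.inv)
  haveI : Finite (𝟙_ (Over (Spec (CommRingCat.of k))) ⟶ N) :=
    finite_pts_of_diag n' (isDiag_monoidAlgebra (Multiplicative (Fin r → ℤ))) eT.symm ℓ hℓ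
      fun Y h hh => by
        rw [← cancel_mono n, MonObj.one_comp]
        exact htors Y _ (by rw [← MonObj.pow_comp, hh, MonObj.one_comp])
  have hfinker : {g : 𝟙_ (Over (Spec (CommRingCat.of k))) ⟶ H | g ≫ j ≫ q = 1}.Finite := by
    refine (Set.finite_range (fun x : 𝟙_ (Over (Spec (CommRingCat.of k))) ⟶ N => x ≫ n)).subset fun g hg => ?_
    exact ⟨hN.lift g (toUnit _) ((show g ≫ j ≫ q = 1 from hg).trans Hom.one_def), hN.lift_fst _ _ _⟩
  haveI : IsFinite (j ≫ q).left := isFinite_of_finite_ker (j ≫ q) hfinker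
  haveI : IsProper H.hom := by rw [← Over.w (j ≫ q)]; infer_instance
  haveI : Mono j := Over.mono_of_mono_left j
  obtain ⟨Z, _, z, hz, hzcl, _, _, _, hdim⟩ := H19Grp.NormalPts.exists_reduced_component j fun Y g x =>
    ⟨x, by rw [mul_comm g, mul_inv_cancel_right]⟩
  haveI := hz
  haveI := hzcl
  haveI : IsProper Z.hom := by rw [← Over.w z]; infer_instance
  haveI := geometricallyIntegral_grp Z
  haveI : Mono z := Over.mono_of_mono_left z
  haveI : IsCommMonObj Z := by
    refine ⟨?_⟩
    rw [← cancel_mono (z ≫ j), Category.assoc, IsMonHom.mul_hom (z ≫ j), ← Category.assoc,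
      ← BraidedCategory.braiding_naturality, Category.assoc, IsCommMonObj.mul_comm G]
  have hZ0 := dim_eq_zero Z ℓ hℓ fun Y h hh => by
    rw [← cancel_mono z, MonObj.one_comp]
    exact htors Y _ (by rw [← MonObj.pow_comp, hh, MonObj.one_comp])
  haveI : IsNoetherianRing (CommRingCat.of k) := inferInstanceAs (IsNoetherianRing k)
  haveI : IsLocallyNoetherian H.left := LocallyOfFiniteType.isLocallyNoetherian H.hom
  haveI : CompactSpace H.left := QuasiCompact.compactSpace_of_compactSpace H.hom
  haveI : IsNoetherian H.left := {}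
  haveI : Nonempty H.left := ⟨η[H].left (IsLocalRing.closedPoint k)⟩
  haveI : Finite H.left :=
    (H28Top.finite_discrete_of_dim_le_zero (X := H.left) (hdim ▸ hZ0).le).1
  haveI : LocallyQuasiFinite H.hom := LocallyQuasiFinite.of_finite_preimage_singleton H.hom fun x => Set.toFinite _
  exact IsFinite.of_locallyQuasiFinite H.hom


/-- Let k be a field with algebraic closure K and G a semi-abelian variety over k, that is, a smooth
connected commutative k-group scheme of finite type whose base change to K is an extension of an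
abelian variety by a torus (there are a closed subgroup scheme T of G_K which is a torus and a flat
surjective homomorphism from G_K onto a proper smooth connected K-group scheme with kernel T). Let H
be a closed subgroup scheme of G and ℓ a prime number such that the ℓ-torsion subgroup scheme H[ℓ]
is trivial: every point h of H with values in any k-scheme satisfying h^ℓ = 1 is the unit. Then H is
finite over k. -/
theorem result (k : Type u) [Field k]
    (G : Over (Spec (CommRingCat.of k))) [GrpObj G] [IsCommMonObj G] [Smooth G.hom] [QuasiCompact G.hom]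
    [ConnectedSpace ↥G.left]
    (hK : (∃ (T : Over (Spec (CommRingCat.of (AlgebraicClosure k)))) (_ : GrpObj T) (i : T ⟶ Red.bc (Spec.map (CommRingCat.ofHom (algebraMap k (AlgebraicClosure k)))) G) (A : Over (Spec (CommRingCat.of (AlgebraicClosure k)))) (_ : GrpObj A) (q : Red.bc (Spec.map (CommRingCat.ofHom (algebraMap k (AlgebraicClosure k)))) G ⟶ A),
        IsMonHom i ∧ IsClosedImmersion i.left ∧ Red.IsTorus T ∧ IsMonHom q ∧ Surjective q.left ∧ Flat q.left ∧
        AlgGrp.IsKernel i q ∧ IsProper A.hom ∧ Smooth A.hom ∧ ConnectedSpace ↥A.left))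
    (H : Over (Spec (CommRingCat.of k))) [GrpObj H] (j : H ⟶ G) [IsMonHom j] [IsClosedImmersion j.left]
    (ℓ : ℕ) (hℓ : ℓ.Prime)
    (htors : ∀ (Y : Over (Spec (CommRingCat.of k))) (h : Y ⟶ H), h ^ ℓ = 1 → h = 1) :
    IsFinite H.hom := by
  let K := AlgebraicClosure k
  let e : Spec (CommRingCat.of K) ⟶ Spec (CommRingCat.of k) := Spec.map (CommRingCat.ofHom (algebraMap k K))
  obtain ⟨T, gT, i, A, gA, q, hi, hicl, hT, hq, hqs, hqf, hker, hAp, hAs, hAc⟩ := hK
  haveI := hi
  haveI := hicl
  haveI := hq
  haveI := hAp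
  haveI : Smooth (Red.bc e G).hom := MorphismProperty.pullback_snd (P := @Smooth) _ _ ‹Smooth G.hom›
  haveI : QuasiCompact (Red.bc e G).hom := MorphismProperty.pullback_snd (P := @QuasiCompact) _ _ ‹QuasiCompact G.hom›
  haveI : IsCommMonObj (Red.bc e G) := inferInstanceAs (IsCommMonObj ((Over.pullback e).obj G))
  let jK : Red.bc e H ⟶ Red.bc e G := (Over.pullback e).map j
  haveI : IsMonHom jK := inferInstanceAs (IsMonHom ((Over.pullback e).map j))
  haveI : IsClosedImmersion jK.left :=
    MorphismProperty.of_isPullback (P := @IsClosedImmersion) (H19Chev.isPullback_bc K j).flip ‹IsClosedImmersion j.left›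
  have hfin : IsFinite (Red.bc e H).hom := isFinite_algClosed i hT q hker jK ℓ hℓ fun Y h hh => by
    obtain ⟨h, rfl⟩ := (H21Diag.bcEquiv e H Y).surjective h
    have hp : ∀ m : ℕ, H21Diag.bcEquiv e H Y (h ^ m) = H21Diag.bcEquiv e H Y h ^ m := fun m => by
      induction m with
      | zero => simp only [pow_zero]; exact H21Diag.bcEquiv_one e H Y
      | succ m ih => rw [pow_succ, pow_succ, H21Diag.bcEquiv_mul, ih]
    have h1 : H21Diag.bcEquiv e H Y (h ^ ℓ) = H21Diag.bcEquiv e H Y 1 := by
      rw [hp, hh, H21Diag.bcEquiv_one]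
    rw [htors _ h ((H21Diag.bcEquiv e H Y).injective h1), H21Diag.bcEquiv_one]
  haveI : LocallyOfFiniteType H.hom := by rw [← Over.w j]; infer_instance
  haveI : QuasiCompact H.hom := by rw [← Over.w j]; infer_instance
  haveI : Surjective (pullback.fst H.hom e) :=
    MorphismProperty.pullback_fst (P := @Surjective) _ _ ⟨fun y => ⟨IsLocalRing.closedPoint K, Subsingleton.elim _ _⟩⟩
  haveI : IsFinite (pullback.snd H.hom e) := hfin
  haveI : Finite ↥(pullback H.hom e) := by
    have h := (pullback.snd H.hom e).finite_preimage_singleton (IsLocalRing.closedPoint K)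
    rw [show (pullback.snd H.hom e) ⁻¹' {IsLocalRing.closedPoint K} = Set.univ from
      Set.eq_univ_of_forall fun x => Subsingleton.elim _ _] at h
    exact Set.finite_univ_iff.1 h
  haveI : Finite H.left := Finite.of_surjective _ (pullback.fst H.hom e).surjective
  haveI : LocallyQuasiFinite H.hom := LocallyQuasiFinite.of_finite_preimage_singleton H.hom fun x => Set.toFinite _
  exact IsFinite.of_locallyQuasiFinite H.hom

end Groth.Agent.S17450
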