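import Groth.Statements.S16113
import Groth.Agent.H29Curve.UnitsModConstScheme

set_option autoImplicit false
universe u
open CategoryTheory MonoidalCategory CartesianMonoidalCategory MonObj GrpObj AlgebraicGeometry CategoryTheory.Limits
open AlgGrp

namespace Groth.Agent.S16113

open Groth.Agent.H29Curve



/-- Over an algebraically closed field k, let X be an irreducible variety (an integral separated
k-scheme of finite type) and R = Γ(X, O_X). Then the quotient of the unit group R^× by the subgroup
k^× of nonzero constants is a free abelian group of finite rank: for some n there is a surjective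
group homomorphism from R^× onto ℤⁿ (written multiplicatively) whose kernel is exactly the image of
k^× under the structure map k → R. -/
theorem result (k : Type u) [Field k] [IsAlgClosed k]
    (X : Over (Spec (CommRingCat.of k))) [IsIntegral X.left] [IsSeparated X.hom] [LocallyOfFiniteType X.hom] [QuasiCompact X.hom] :
    ∃ (n : ℕ) (v : (Γ(X.left, ⊤))ˣ →* Multiplicative (Fin n → ℤ)), Function.Surjective v ∧
      v.ker = (Units.map (((Scheme.ΓSpecIso (CommRingCat.of k)).inv ≫ X.hom.appTop).hom : k →* Γ(X.left, ⊤))).range := by
  have hirr : (irreducibleComponents (X.left : Type u)).Finite := by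
    rw [irreducibleComponents_eq_singleton]
    exact Set.finite_singleton _
  obtain ⟨J, _, φ, hφ⟩ := exists_units_addHom_scheme k X.hom hirr
  set c := ((Scheme.ΓSpecIso (CommRingCat.of k)).inv ≫ X.hom.appTop).hom with hc
  have : Module.Free ℤ (AddSubgroup.toIntSubmodule φ.range) := inferInstance
  let b := Module.finBasis ℤ (AddSubgroup.toIntSubmodule φ.range)
  let e := b.equivFun.toAddEquiv
  let ψ : Additive (Γ(X.left, ⊤))ˣ →+ (Fin _ → ℤ) := e.toAddMonoidHom.comp φ.rangeRestrict
  refine ⟨_, AddMonoidHom.toMultiplicativeRight ψ, ?_, ?_⟩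
  · intro y
    obtain ⟨a, ha⟩ := (e.surjective.comp φ.rangeRestrict_surjective) y.toAdd
    exact ⟨a.toMul, ha⟩
  · ext a
    have hψ : ψ (Additive.ofMul a) = 0 ↔ φ (Additive.ofMul a) = 0 := by
      show e (φ.rangeRestrict (Additive.ofMul a)) = 0 ↔ _
      rw [AddEquiv.map_eq_zero_iff]
      exact Subtype.ext_iff
    constructor
    · intro ha
      have hi : c.IsIntegralElem (a : Γ(X.left, ⊤)) := (hφ a).mp (hψ.mp ha)
      let := c.toAlgebra
      obtain ⟨y, hy⟩ : ∃ y : k, c y = (a : Γ(X.left, ⊤)) := by
        have h1 : (minpoly k (a : Γ(X.left, ⊤))).degree = 1 :=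
          IsAlgClosed.degree_eq_one_of_irreducible k (minpoly.irreducible hi)
        exact minpoly.mem_range_of_degree_eq_one k _ h1
      have hy0 : y ≠ 0 := by
        rintro rfl
        rw [map_zero] at hy
        exact a.ne_zero hy.symm
      exact ⟨Units.mk0 y hy0, Units.ext hy⟩
    · rintro ⟨y, rfl⟩
      exact hψ.mpr ((hφ _).mpr (RingHom.isIntegralElem_map (f := c)))

end Groth.Agent.S16113
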