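import Groth.Statements.S8431
import Groth.Agent.H19Mult.ConnectedAction
import Groth.Agent.H21Quot.Basic
import Groth.Agent.H21Diag.Conjugate
import Groth.Agent.H21Diag.Conj
import Groth.Agent.H21Diag.TorusBc
import Groth.Agent.H19Grp.AffineQuotient
import Groth.Agent.H21Aff.Part

set_option autoImplicit false
universe u
open CategoryTheory MonoidalCategory CartesianMonoidalCategory MonObj GrpObj AlgebraicGeometry
open SGA3x

set_option linter.style.haveILetI false
set_option backward.isDefEq.respectTransparency false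
set_option synthInstance.maxHeartbeats 400000
set_option maxHeartbeats 1000000

namespace Groth.Agent.S8431

/-- Let G be an algebraic group over a field k and Z a central algebraic subgroup such that G′ = G/Z is
a torus. Then G is commutative. Here q : G → G′ is a homomorphism representing the fppf quotient of
G by Z, and G′ is a k-torus. -/
theorem result (k : Type u) [Field k]
    (G : Over (Spec (CommRingCat.of k))) [GrpObj G] [QuasiCompact G.hom] [LocallyOfFiniteType G.hom]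
    (Z : Over (Spec (CommRingCat.of k))) [GrpObj Z] (z : Z ⟶ G) [IsMonHom z] [Mono z]
    (hz : ∀ (X : Over (Spec (CommRingCat.of k))) (x : X ⟶ Z) (g : X ⟶ G), (x ≫ z) * g = g * (x ≫ z))
    (G' : Over (Spec (CommRingCat.of k))) [GrpObj G'] (q : G ⟶ G') [IsMonHom q] (hq : RedSub.IsQuotient z q) (hT : Red.IsTorus G') :
    ∀ (X : Over (Spec (CommRingCat.of k))) (g h : X ⟶ G), g * h = h * g := by
  intro X₀ g₀ h₀
  haveI := hq.1; haveI := hq.2.1; haveI := hq.2.2.1
  haveI : IsSeparated G.hom := H19Grp.AffineQuotient.isSeparated_of_grp G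
  haveI : LocallyOfFinitePresentation G.hom := inferInstance
  haveI := H21Quot.flat_tensorHom q q; haveI := H21Quot.surjective_tensorHom q q; haveI := H21Quot.lfp_tensorHom q q
  haveI := H21Quot.flat_tensorHom q (q ⊗ₘ q); haveI := H21Quot.surjective_tensorHom q (q ⊗ₘ q)
  haveI := H21Quot.lfp_tensorHom q (q ⊗ₘ q)
  -- the commutator descends
  let c : G ⊗ G ⟶ G := (fst G G) * (snd G G) * (fst G G)⁻¹ * (snd G G)⁻¹
  have hc : ∀ {T : Over (Spec (CommRingCat.of k))} (a b : T ⟶ G), lift a b ≫ c = a * b * a⁻¹ * b⁻¹ := fun a b => by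
    simp only [c, MonObj.comp_mul, GrpObj.comp_inv, lift_fst, lift_snd]
  obtain ⟨φ, hφ, -⟩ := H21Quot.desc_unique (q ⊗ₘ q) c fun T a b hab => by
    rw [show a = lift (a ≫ fst _ _) (a ≫ snd _ _) by ext <;> simp,
      show b = lift (b ≫ fst _ _) (b ≫ snd _ _) by ext <;> simp, hc, hc]
    obtain ⟨n₁, hn₁⟩ := (H21Quot.comp_eq_iff hq (a ≫ fst _ _) (b ≫ fst _ _)).mp (by
      simpa using congrArg (· ≫ fst G' G') hab)
    obtain ⟨n₂, hn₂⟩ := (H21Quot.comp_eq_iff hq (a ≫ snd _ _) (b ≫ snd _ _)).mp (by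
      simpa using congrArg (· ≫ snd G' G') hab)
    rw [hn₁, hn₂]
    have e₁ := hz T n₁
    have e₂ := hz T n₂
    generalize a ≫ fst _ _ = x
    generalize a ≫ snd _ _ = y
    generalize hm₁ : n₁ ≫ z = m₁
    generalize hm₂ : n₂ ≫ z = m₂
    rw [hm₁] at e₁
    rw [hm₂] at e₂
    calc x * y * x⁻¹ * y⁻¹ = x * m₁ * (y * m₂) * (m₁⁻¹ * x⁻¹) * (m₂⁻¹ * y⁻¹) := by
          have i₁ : ∀ w, m₁⁻¹ * w = w * m₁⁻¹ := fun w => (Commute.inv_left (e₁ w)).eq
          calc x * y * x⁻¹ * y⁻¹ = x * (m₁ * m₁⁻¹) * y * (m₂ * x⁻¹ * m₂⁻¹) * y⁻¹ := by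
                rw [mul_inv_cancel, _root_.mul_one, e₂ x⁻¹, mul_inv_cancel_right]
            _ = x * m₁ * ((m₁⁻¹ * (y * m₂)) * x⁻¹) * (m₂⁻¹ * y⁻¹) := by simp only [_root_.mul_assoc]
            _ = x * m₁ * (y * m₂) * (m₁⁻¹ * x⁻¹) * (m₂⁻¹ * y⁻¹) := by
                rw [i₁]; simp only [_root_.mul_assoc]
      _ = x * m₁ * (y * m₂) * (x * m₁)⁻¹ * (y * m₂)⁻¹ := by rw [_root_.mul_inv_rev, _root_.mul_inv_rev]
  have hval : ∀ {T : Over (Spec (CommRingCat.of k))} (a b : T ⟶ G), lift (a ≫ q) (b ≫ q) ≫ φ = a * b * a⁻¹ * b⁻¹ :=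
    fun a b => by rw [← lift_map, Category.assoc, hφ, hc]
  -- it is multiplicative in the second variable
  let Φ : ∀ {T : Over (Spec (CommRingCat.of k))}, (T ⟶ G') → (T ⟶ G') → (T ⟶ G) := fun t a => lift t a ≫ φ
  have hcen : ∀ {T : Over (Spec (CommRingCat.of k))} (a b g : T ⟶ G),
      (a * b * a⁻¹ * b⁻¹) * g = g * (a * b * a⁻¹ * b⁻¹) := by
    intro T a b g
    obtain ⟨n, hn⟩ := (H21Quot.comp_eq_iff hq (1 : T ⟶ G) (a * b * a⁻¹ * b⁻¹)).mp (by
      rw [MonObj.one_comp, MonObj.mul_comp, MonObj.mul_comp, MonObj.mul_comp, GrpObj.inv_comp, GrpObj.inv_comp,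
        H21Diag.mult_comm (H21Diag.isMultTypeFT_of_isTorus hT) (a ≫ q) (b ≫ q), mul_inv_cancel_right, mul_inv_cancel])
    rw [hn, _root_.one_mul]
    exact hz T n g
  have hmul : ∀ {T : Over (Spec (CommRingCat.of k))} (t a b : T ⟶ G'), Φ t (a * b) = Φ t a * Φ t b := by
    have key : lift (fst G' (G' ⊗ G')) ((snd G' (G' ⊗ G') ≫ fst G' G') * (snd G' (G' ⊗ G') ≫ snd G' G')) ≫ φ =
        (lift (fst G' (G' ⊗ G')) (snd G' (G' ⊗ G') ≫ fst G' G') ≫ φ) *
          (lift (fst G' (G' ⊗ G')) (snd G' (G' ⊗ G') ≫ snd G' G') ≫ φ) := by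
      haveI : Epi (q ⊗ₘ (q ⊗ₘ q)).left := Flat.epi_of_flat_of_surjective _
      haveI : Epi (q ⊗ₘ (q ⊗ₘ q)) := Over.epi_of_epi_left _
      rw [← cancel_epi (q ⊗ₘ (q ⊗ₘ q))]
      simp only [MonObj.comp_mul, comp_lift_assoc, tensorHom_fst, tensorHom_snd_assoc, tensorHom_fst_assoc]
      rw [tensorHom_snd, ← Category.assoc (snd G (G ⊗ G)) (fst G G), ← Category.assoc (snd G (G ⊗ G)) (snd G G),
        ← MonObj.mul_comp, hval, hval, hval]
      generalize fst G (G ⊗ G) = x
      generalize snd G (G ⊗ G) ≫ fst G G = y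
      generalize snd G (G ⊗ G) ≫ snd G G = w
      have e := hcen x w
      calc x * (y * w) * x⁻¹ * (y * w)⁻¹ = (x * y * x⁻¹) * (x * w * x⁻¹ * w⁻¹) * y⁻¹ := by group
        _ = (x * y * x⁻¹) * (y⁻¹ * (x * w * x⁻¹ * w⁻¹)) := by rw [_root_.mul_assoc (x * y * x⁻¹), e]
        _ = _ := by simp only [_root_.mul_assoc]
    intro T t a b
    have := congrArg (lift t (lift a b) ≫ ·) key
    simpa only [Φ, comp_lift_assoc, MonObj.comp_mul, lift_fst, lift_snd_assoc, lift_fst, lift_snd] using this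
  have h1 : ∀ {T : Over (Spec (CommRingCat.of k))} (a : T ⟶ G'), Φ (1 : T ⟶ G') a = 1 := by
    have key : lift (1 : G' ⟶ G') (𝟙 G') ≫ φ = 1 := by
      haveI : Epi q.left := Flat.epi_of_flat_of_surjective _
      haveI : Epi q := Over.epi_of_epi_left _
      rw [← cancel_epi q, comp_lift_assoc, MonObj.comp_one, Category.comp_id, MonObj.comp_one]
      have h := hval (1 : G ⟶ G) (𝟙 G)
      rw [MonObj.one_comp, Category.id_comp] at h
      rw [h]
      group
    intro T a
    have := congrArg (a ≫ ·) key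
    simpa only [Φ, comp_lift_assoc, MonObj.comp_one, Category.comp_id] using this
  have hX : ∀ s : ↥(Spec (CommRingCat.of k)), _root_.IsConnected (G'.hom.base ⁻¹' {s}) := fun s => by
    haveI : Subsingleton ↥(Spec (CommRingCat.of k)) := inferInstanceAs (Subsingleton (PrimeSpectrum k))
    rw [show G'.hom.base ⁻¹' {s} = Set.univ from Set.eq_univ_of_forall fun x => Subsingleton.elim (α := ↥(Spec (CommRingCat.of k))) _ _]
    obtain ⟨-, -, hconn⟩ := H21Aff.torus_props (Red.geomFibre s G') (H21Diag.isTorus_bc hT _)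
    haveI : ConnectedSpace ↥(Limits.pullback G'.hom (Red.geomPt s)) := hconn
    haveI : Surjective (Red.geomPt s) := ⟨fun x => ⟨IsLocalRing.closedPoint _, Subsingleton.elim _ _⟩⟩
    haveI : Surjective (Limits.pullback.fst G'.hom (Red.geomPt s)) := MorphismProperty.pullback_fst _ _ ‹_›
    haveI : ConnectedSpace ↥G'.left := (Limits.pullback.fst G'.hom (Red.geomPt s)).surjective.connectedSpace
      (Limits.pullback.fst G'.hom (Red.geomPt s)).continuous
    exact isConnected_univ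
  have hfam := H19Mult.ConnectedAction.family_eq_one (X := G') (A := G') (K := G) (H21Diag.isMultTypeFT_of_isTorus hT) hX
    (fun t a => Φ t a) (fun p t a => by simp only [Φ, ← Category.assoc, comp_lift]) hmul h1
    (g₀ ≫ q) (h₀ ≫ q)
  simp only [Φ, hval] at hfam
  exact mul_inv_eq_iff_eq_mul.mp (mul_inv_eq_one.mp hfam)

end Groth.Agent.S8431
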