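import Groth.Statements.S5294
import Groth.Agent.H21Diag.SubgroupConj

set_option autoImplicit false
open CategoryTheory MonoidalCategory CartesianMonoidalCategory MonObj GrpObj AlgebraicGeometry
universe u
open SGA3x

namespace Groth.Agent.S5294

/-- Let S = Spec R be affine, J a nilpotent ideal of R and S₀ = Spec (R/J); let G be an S-group smooth
over S, i : H ⟶ G and i' : H' ⟶ G two sub-group-schemes (homomorphisms which are immersions) of
multiplicative type (fpqc-locally on S isomorphic, as groups, to diagonalisable groups D(M), M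
allowed to vary and taken in Type 0), and g₀ an S₀-valued point of G with int(g₀)(H₀) = H'₀: for
points over S₀-schemes, conjugation by g₀ carries the points of H onto the points of H'. Then g₀
lifts to an S-point g of G with int(g)(H) = H' (int(g) ∘ i factors through i' by an isomorphism). -/
theorem result {R : Type u} [CommRing R] (J : Ideal R) (hJ : IsNilpotent J)
    (G H H' : Over (Spec (CommRingCat.of R))) [GrpObj G] [GrpObj H] [GrpObj H'] (hG : Smooth G.hom)
    (hH : TwC.Locally (Spec (CommRingCat.of R)) TwC.Topology.fpqc (fun S' f => ∃ (M : Type) (_ : AddCommGroup M), Nonempty (Grp.mk (Red.bc f H) ≅ Grp.mk (Red.DS S' M))))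
    (hH' : TwC.Locally (Spec (CommRingCat.of R)) TwC.Topology.fpqc (fun S' f => ∃ (M : Type) (_ : AddCommGroup M), Nonempty (Grp.mk (Red.bc f H') ≅ Grp.mk (Red.DS S' M))))
    (i : H ⟶ G) [IsMonHom i] [IsImmersion i.left] (i' : H' ⟶ G) [IsMonHom i'] [IsImmersion i'.left]
    (g₀ : (Over.mk (Spec.map (CommRingCat.ofHom (Ideal.Quotient.mk J))) : Over (Spec (CommRingCat.of R))) ⟶ G)
    (h0 : ∀ (X : Over (Spec (CommRingCat.of R))) (p : X ⟶ (Over.mk (Spec.map (CommRingCat.ofHom (Ideal.Quotient.mk J))) : Over (Spec (CommRingCat.of R)))),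
      (∀ h : X ⟶ H, ∃ h' : X ⟶ H', (p ≫ g₀) * (h ≫ i) * (p ≫ g₀)⁻¹ = h' ≫ i') ∧
      (∀ h' : X ⟶ H', ∃ h : X ⟶ H, (p ≫ g₀)⁻¹ * (h' ≫ i') * (p ≫ g₀) = h ≫ i)) :
    ∃ g : 𝟙_ (Over (Spec (CommRingCat.of R))) ⟶ G, toUnit (Over.mk (Spec.map (CommRingCat.ofHom (Ideal.Quotient.mk J))) : Over (Spec (CommRingCat.of R))) ≫ g = g₀ ∧ SGA3x.ConjBy i i' g := by
  have : Mono i := Over.mono_of_mono_left i
  have : Mono i' := Over.mono_of_mono_left i'
  obtain ⟨g₁, hg₁⟩ := Groth.Agent.H21Diag.exists_lift_point hG J hJ g₀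
  have hp : ∀ (X : Over (Spec (CommRingCat.of R))) (p : X ⟶ Groth.Agent.H21Diag.Tst (Ideal.Quotient.mk J)),
      toUnit X ≫ g₁ = p ≫ g₀ := fun X p => by rw [← hg₁, ← Category.assoc, toUnit_unique (p ≫ toUnit _) (toUnit X)]
  let i₁ : H ⟶ G := (toUnit H ≫ g₁) * i * (toUnit H ≫ g₁)⁻¹
  have hi₁ : ∀ {X : Over (Spec (CommRingCat.of R))} (h : X ⟶ H),
      h ≫ i₁ = (toUnit X ≫ g₁) * (h ≫ i) * (toUnit X ≫ g₁)⁻¹ := fun {X} h => by
    simp only [i₁, MonObj.comp_mul, GrpObj.comp_inv, ← Category.assoc, toUnit_unique (h ≫ toUnit H) (toUnit X)]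
  have : IsMonHom i₁ := Groth.Agent.H21Diag.isMonHom_of_mul i₁ fun x y => by
    rw [hi₁, hi₁, hi₁, MonObj.mul_comp]; group
  have : Mono i₁ := ⟨fun a b hab => by
    rw [hi₁, hi₁, mul_left_inj, mul_right_inj] at hab
    exact (cancel_mono i).mp hab⟩
  obtain ⟨φ, hm, hφ⟩ := Groth.Agent.H21Diag.exists_iso_of_eq_mod hH hH' J hJ i₁ i'
    (fun X p h => by
      rw [hi₁, hp X p]
      exact (h0 X p).1 h)
    (fun X p h' => by
      obtain ⟨h, hh⟩ := (h0 X p).2 h'
      refine ⟨h, ?_⟩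
      rw [hi₁, hp X p, ← hh]; group)
  obtain ⟨c, hc1, hc⟩ := Groth.Agent.H21Diag.exists_conj_of_eq_mod_nilpotent hG hH i₁ (φ.hom ≫ i') J hJ
    fun X p h => by rw [← hφ X p h, Category.assoc]
  refine ⟨c * g₁, ?_, φ, ?_⟩
  · rw [MonObj.comp_mul, hg₁]
    exact mul_eq_right.mpr hc1
  · have h1 := hc H (𝟙 H)
    rw [hi₁, Category.id_comp, Category.id_comp] at h1
    rw [h1, MonObj.comp_mul]; group

end Groth.Agent.S5294
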