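import Groth.Statements.S5297
import Groth.Agent.H21Diag.SubgroupConj
import Groth.Agent.H21Diag.IntegrateLoc

set_option autoImplicit false
open CategoryTheory MonoidalCategory CartesianMonoidalCategory MonObj GrpObj AlgebraicGeometry
universe u
open SGA3x

namespace Groth.Agent.S5297

/-- In the lifting form that formal smoothness of the transporter means. Let S = Spec R be affine, J a
nilpotent ideal of R and S₀ = Spec (R/J); let G be an S-group smooth over S, k : K ⟶ G a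
sub-group-scheme (a homomorphism which is an immersion) with K smooth over S or of multiplicative
type, H an S-group of multiplicative type (fpqc-locally on S isomorphic, as a group, to
diagonalisable groups D(M), M allowed to vary and taken in Type 0), u : H ⟶ G a homomorphism, and g₀
an S₀-valued point of G such that int(g₀) ∘ u takes the points of H defined over S₀-schemes into K.
Then g₀ lifts to an S-point g of G such that int(g) ∘ u factors through K on all points. -/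
theorem result {R : Type u} [CommRing R] (J : Ideal R) (hJ : IsNilpotent J)
    (G K H : Over (Spec (CommRingCat.of R))) [GrpObj G] [GrpObj K] [GrpObj H] (hG : Smooth G.hom)
    (k : K ⟶ G) [IsMonHom k] [IsImmersion k.left]
    (hK : Smooth K.hom ∨ TwC.Locally (Spec (CommRingCat.of R)) TwC.Topology.fpqc (fun S' f => ∃ (M : Type) (_ : AddCommGroup M), Nonempty (Grp.mk (Red.bc f K) ≅ Grp.mk (Red.DS S' M))))
    (hH : TwC.Locally (Spec (CommRingCat.of R)) TwC.Topology.fpqc (fun S' f => ∃ (M : Type) (_ : AddCommGroup M), Nonempty (Grp.mk (Red.bc f H) ≅ Grp.mk (Red.DS S' M))))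
    (u : H ⟶ G) [IsMonHom u] (g₀ : (Over.mk (Spec.map (CommRingCat.ofHom (Ideal.Quotient.mk J))) : Over (Spec (CommRingCat.of R))) ⟶ G)
    (h0 : ∀ (X : Over (Spec (CommRingCat.of R))) (p : X ⟶ (Over.mk (Spec.map (CommRingCat.ofHom (Ideal.Quotient.mk J))) : Over (Spec (CommRingCat.of R)))) (h : X ⟶ H),
      ∃ x : X ⟶ K, (p ≫ g₀) * (h ≫ u) * (p ≫ g₀)⁻¹ = x ≫ k) :
    ∃ g : 𝟙_ (Over (Spec (CommRingCat.of R))) ⟶ G, toUnit (Over.mk (Spec.map (CommRingCat.ofHom (Ideal.Quotient.mk J))) : Over (Spec (CommRingCat.of R))) ≫ g = g₀ ∧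
      ∀ (X : Over (Spec (CommRingCat.of R))) (h : X ⟶ H), ∃ x : X ⟶ K, (toUnit X ≫ g) * (h ≫ u) * (toUnit X ≫ g)⁻¹ = x ≫ k := by
  open Groth.Agent.H21Diag in
  have key : ∃ g : 𝟙_ (Over (Spec (CommRingCat.of R))) ⟶ G, toUnit (Tst (Ideal.Quotient.mk J)) ≫ g = g₀ ∧
      ∀ (X : Over (Spec (CommRingCat.of R))) (h : X ⟶ H), ∃ x : X ⟶ K,
        (toUnit X ≫ g) * (h ≫ u) * (toUnit X ≫ g)⁻¹ = x ≫ k := by
    have : Mono k := Over.mono_of_mono_left k
    obtain ⟨g₁, hg₁⟩ := exists_lift_point hG J hJ g₀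
    have hp : ∀ (X : Over (Spec (CommRingCat.of R))) (p : X ⟶ Tst (Ideal.Quotient.mk J)),
        toUnit X ≫ g₁ = p ≫ g₀ := fun X p => by
      rw [← hg₁, ← Category.assoc, toUnit_unique (p ≫ toUnit _) (toUnit X)]
    let u₁ : H ⟶ G := (toUnit H ≫ g₁) * u * (toUnit H ≫ g₁)⁻¹
    have hu₁ : ∀ {X : Over (Spec (CommRingCat.of R))} (h : X ⟶ H),
        h ≫ u₁ = (toUnit X ≫ g₁) * (h ≫ u) * (toUnit X ≫ g₁)⁻¹ := fun {X} h => by
      simp only [u₁, MonObj.comp_mul, GrpObj.comp_inv, ← Category.assoc, toUnit_unique (h ≫ toUnit H) (toUnit X)]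
    have : IsMonHom u₁ := isMonHom_of_mul u₁ fun x y => by
      rw [hu₁, hu₁, hu₁, MonObj.mul_comp]; group
    obtain ⟨φ₀, hφ₀⟩ := h0 _ (fst (Tst (Ideal.Quotient.mk J)) H) (snd _ _)
    rw [← hp _ (fst (Tst (Ideal.Quotient.mk J)) H), ← hu₁] at hφ₀
    have key : ∀ (X : Over (Spec (CommRingCat.of R))) (p : X ⟶ Tst (Ideal.Quotient.mk J)) (h : X ⟶ H),
        (lift p h ≫ φ₀) ≫ k = h ≫ u₁ := fun X p h => by
      rw [Category.assoc, ← hφ₀, ← Category.assoc, lift_snd]
    have hmul : ∀ (X : Over (Spec (CommRingCat.of R))) (p : X ⟶ Tst (Ideal.Quotient.mk J)) (a b : X ⟶ H),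
        lift p (a * b) ≫ φ₀ = (lift p a ≫ φ₀) * (lift p b ≫ φ₀) := fun X p a b => by
      rw [← cancel_mono k, key, MonObj.mul_comp, MonObj.mul_comp, key, key]
    obtain ⟨φ, hm, hφ⟩ : ∃ φ : H ⟶ K, IsMonHom φ ∧ ∀ (X : Over (Spec (CommRingCat.of R)))
        (p : X ⟶ Tst (Ideal.Quotient.mk J)) (a : X ⟶ H), a ≫ φ = lift p a ≫ φ₀ := by
      rcases hK with hK | hK
      · exact exists_hom_lift_smooth_loc hK hH J hJ φ₀ hmul
      · exact exists_hom_lift hH hK J hJ φ₀ hmul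
    obtain ⟨c, hc1, hc⟩ := exists_conj_of_eq_mod_nilpotent hG hH u₁ (φ ≫ k) J hJ fun X p h => by
      rw [← Category.assoc, hφ X p h, key]
    refine ⟨c * g₁, ?_, fun X h => ⟨h ≫ φ, ?_⟩⟩
    · rw [MonObj.comp_mul, hg₁]
      exact mul_eq_right.mpr hc1
    · rw [Category.assoc, hc X h, hu₁, MonObj.comp_mul]; group
  exact key

end Groth.Agent.S5297
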