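import Groth.Statements.S5246
import Groth.Agent.H21Hom.Main
import Groth.Agent.H21Hom.MultTypeEtale
import Groth.Agent.H21Diag.Conjugate

set_option autoImplicit false
open CategoryTheory MonoidalCategory CartesianMonoidalCategory MonObj GrpObj AlgebraicGeometry
universe u
open SGA3x

namespace Groth.Agent.S5246

/-- Let H be an S-group of multiplicative type and of finite type and G an S-group which is smooth and
affine over S. Then the functor of group homomorphisms from H to G is representable, by an S-scheme
A smooth and separated over S: there is a family of homomorphisms H ⟶ G parametrised by A through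
which every such family parametrised by an S-scheme T factors through exactly one S-morphism T ⟶ A. -/
theorem result {S : Scheme.{u}} (H G : Over S) [GrpObj H] [GrpObj G]
    (hH : SGA3x.IsMultTypeFT H) (hG : Smooth G.hom) (hGa : IsAffineHom G.hom) :
    ∃ (A : Over S) (υ : H ⊗ A ⟶ G), AutFam.RepresentsHom H G A υ ∧ Smooth A.hom ∧ IsSeparated A.hom := by
  refine H21Hom.exists_representsHom_of_etale_diag H G (fun s => ?_) hG hGa
  obtain ⟨V, g, hg, hs, M, _, -, h⟩ := H21Hom.exists_etale_chart_multTypeFT H hH s
  exact ⟨V, g, hg, hs, M, inferInstance, h⟩

end Groth.Agent.S5246
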