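import Groth.Statements.S2979
import Groth.Agent.H19Mult.DatumFibre
import Groth.Agent.H19Mult.EtaleLiftNil

set_option autoImplicit false
set_option linter.style.haveILetI false
set_option backward.isDefEq.respectTransparency false
universe u
open TensorProduct SGA3b
open SGA3b

namespace Groth.Agent.S2979

open Groth.Agent.H19Mult

theorem map_le_nilradical {R : Type u} [CommRing R] {I : Ideal R} (hI : ∀ x ∈ I, IsNilpotent x)
    (P : Type u) [CommRing P] [Algebra R P] : I.map (algebraMap R P) ≤ nilradical P :=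
  Ideal.map_le_iff_le_comap.2 fun x hx => mem_nilradical.2 ((hI x hx).map (algebraMap R P))

theorem nil_le_jacobson {R : Type u} [CommRing R] {I : Ideal R} (hI : ∀ x ∈ I, IsNilpotent x)
    (P : Type u) [CommRing P] [Algebra R P] : I.map (algebraMap R P) ≤ Ideal.jacobson ⊥ :=
  (map_le_nilradical hI P).trans (le_sInf fun m hm => by
    haveI := hm.2.isPrime
    exact nilradical_le_prime m)

theorem local_piece (R : Type u) [CommRing R] (I : Ideal R) (hI : ∀ x ∈ I, IsNilpotent x)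
    (A₀ : Type u) [CommRing A₀] [HopfAlgebra (R ⧸ I) A₀] (f : R ⧸ I)
    (h : SGA3b.IsQuasiIsotrivialConst (Localization.Away f) (Localization.Away f ⊗[R ⧸ I] A₀)) :
    ∃ (g : R) (T : Type u) (_ : CommRing T) (_ : Algebra R T) (T₀ : Type u) (_ : CommRing T₀) (_ : Algebra R T₀)
      (_ : Algebra (R ⧸ I) T₀) (_ : IsScalarTower R (R ⧸ I) T₀) (π : T →ₐ[R] T₀) (M : Type u) (_ : CommGroup M)
      (_ : (T₀ ⊗[R ⧸ I] A₀) ≃ₐc[T₀] MonoidAlgebra T₀ M),
      Ideal.Quotient.mk I g = f ∧ Module.Flat R T ∧ Module.Flat (R ⧸ I) T₀ ∧ Function.Surjective π ∧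
        RingHom.ker π ≤ (RingHom.ker (algebraMap R (R ⧸ I))).map (algebraMap R T) ∧
        (∀ p : PrimeSpectrum R, g ∉ p.asIdeal → p ∈ Set.range (PrimeSpectrum.comap (algebraMap R T))) ∧
        (∀ p : PrimeSpectrum (R ⧸ I), f ∉ p.asIdeal → p ∈ Set.range (PrimeSpectrum.comap (algebraMap (R ⧸ I) T₀))) ∧
        ∀ (A : Type u) [CommRing A] [HopfAlgebra R A], SGA3b.IsDiag T (T ⊗[R] A) →
          SGA3b.IsQuasiIsotrivialConst (Localization.Away g) (Localization.Away g ⊗[R] A) := by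
  obtain ⟨T₀, _, _, het, hff, hd⟩ := h
  haveI := het
  haveI := hff
  obtain ⟨g, rfl⟩ := Ideal.Quotient.mk_surjective f
  let L := Localization.Away g
  let L₀ := Localization.Away (Ideal.Quotient.mk I g)
  have hu : IsUnit ((algebraMap (R ⧸ I) L₀).comp (Ideal.Quotient.mk I) g) :=
    IsLocalization.Away.algebraMap_isUnit (S := L₀) (Ideal.Quotient.mk I g)
  let φ : L →+* L₀ := IsLocalization.Away.lift (S := L) g hu
  have hφeq : ∀ r, φ (algebraMap R L r) = algebraMap (R ⧸ I) L₀ (Ideal.Quotient.mk I r) := fun r =>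
    IsLocalization.Away.lift_eq (S := L) g hu r
  letI : Algebra L L₀ := φ.toAlgebra
  haveI : IsScalarTower R L L₀ := IsScalarTower.of_algebraMap_eq fun r => (hφeq r).symm
  letI : Algebra L T₀ := ((algebraMap L₀ T₀).comp φ).toAlgebra
  haveI : IsScalarTower L L₀ T₀ := IsScalarTower.of_algebraMap_eq' rfl
  letI : Algebra (R ⧸ I) T₀ := ((algebraMap L₀ T₀).comp (algebraMap (R ⧸ I) L₀)).toAlgebra
  haveI : IsScalarTower (R ⧸ I) L₀ T₀ := IsScalarTower.of_algebraMap_eq' rfl
  letI : Algebra R T₀ := ((algebraMap (R ⧸ I) T₀).comp (algebraMap R (R ⧸ I))).toAlgebra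
  haveI : IsScalarTower R (R ⧸ I) T₀ := IsScalarTower.of_algebraMap_eq' rfl
  have hφs : Function.Surjective φ := fun y => by
    obtain ⟨⟨a, ⟨_, n, rfl⟩⟩, hy⟩ := IsLocalization.surj (Submonoid.powers (Ideal.Quotient.mk I g)) y
    obtain ⟨a, rfl⟩ := Ideal.Quotient.mk_surjective a
    refine ⟨IsLocalization.mk' L a (⟨g ^ n, n, rfl⟩ : Submonoid.powers g), ?_⟩
    refine (IsLocalization.map_units L₀ (⟨_, n, rfl⟩ : Submonoid.powers (Ideal.Quotient.mk I g))).mul_left_injective ?_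
    show φ _ * algebraMap (R ⧸ I) L₀ (Ideal.Quotient.mk I g ^ n) = y * algebraMap (R ⧸ I) L₀ (Ideal.Quotient.mk I g ^ n)
    rw [hy, ← map_pow (Ideal.Quotient.mk I)]
    rw [← hφeq, ← hφeq, ← map_mul, IsLocalization.mk'_spec]
  have hφk : ∀ x ∈ RingHom.ker φ, x ∈ I.map (algebraMap R L) := fun x hx => by
    obtain ⟨a, ⟨_, n, rfl⟩, rfl⟩ := IsLocalization.exists_mk'_eq (Submonoid.powers g) x
    rw [IsLocalization.mk'_mem_map_algebraMap_iff (Submonoid.powers g)]
    have h1 : φ (algebraMap R L a) = 0 := by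
      rw [← IsLocalization.mk'_spec L a (⟨g ^ n, n, rfl⟩ : Submonoid.powers g), map_mul, RingHom.mem_ker.1 hx, zero_mul]
    rw [hφeq, IsLocalization.map_eq_zero_iff (Submonoid.powers (Ideal.Quotient.mk I g))] at h1
    obtain ⟨⟨_, k, rfl⟩, hk⟩ := h1
    refine ⟨g ^ k, ⟨k, rfl⟩, Ideal.Quotient.eq_zero_iff_mem.1 ?_⟩
    rw [map_mul, map_pow]
    exact hk
  obtain ⟨T, _, _, hTet, hTff, -, π, hπs, -, hπk⟩ := H19Mult.exists_etale_lift_nil (R := L) (R₀ := L₀) hφs
    (fun x hx => mem_nilradical.1 (map_le_nilradical hI L (hφk x hx))) T₀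
  haveI := hTet
  haveI := hTff
  letI : Algebra R T := ((algebraMap L T).comp (algebraMap R L)).toAlgebra
  haveI : IsScalarTower R L T := IsScalarTower.of_algebraMap_eq' rfl
  obtain ⟨M, _, ⟨e⟩⟩ := (isDiag_cancel (R := R ⧸ I) (A := A₀) L₀ T₀).1 hd
  haveI : Module.Flat (R ⧸ I) L₀ := IsLocalization.flat L₀ (Submonoid.powers (Ideal.Quotient.mk I g))
  haveI : Module.Flat R L := IsLocalization.flat L (Submonoid.powers g)
  have hπR : ∀ r, π (algebraMap R T r) = algebraMap R T₀ r := fun r => by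
    show π (algebraMap L T (algebraMap R L r)) = algebraMap L₀ T₀ (algebraMap (R ⧸ I) L₀ (Ideal.Quotient.mk I r))
    rw [π.commutes]
    show algebraMap L₀ T₀ (φ (algebraMap R L r)) = _
    rw [hφeq]
  refine ⟨g, T, inferInstance, inferInstance, T₀, inferInstance, inferInstance, inferInstance, inferInstance,
    { π.toRingHom with commutes' := hπR }, M, inferInstance, e, rfl, Module.Flat.trans R L T,
    Module.Flat.trans (R ⧸ I) L₀ T₀, hπs, ?_, fun p hp => ?_, fun p hp => ?_, fun A _ _ hA => ?_⟩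
  · refine hπk.trans (Ideal.map_le_iff_le_comap.2 fun x hx => ?_)
    rw [Ideal.mem_comap, Ideal.Quotient.algebraMap_eq, Ideal.mk_ker, IsScalarTower.algebraMap_eq R L T, ← Ideal.map_map]
    exact Ideal.mem_map_of_mem _ (hφk x hx)
  · have h1 : p ∈ (PrimeSpectrum.basicOpen g : Set (PrimeSpectrum R)) := hp
    rw [← PrimeSpectrum.localization_away_comap_range L g] at h1
    obtain ⟨q, rfl⟩ := h1
    obtain ⟨r, rfl⟩ := PrimeSpectrum.comap_surjective_of_faithfullyFlat (A := L) (B := T) q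
    exact ⟨r, by rw [IsScalarTower.algebraMap_eq R L T, PrimeSpectrum.comap_comp]; rfl⟩
  · have h1 : p ∈ (PrimeSpectrum.basicOpen (Ideal.Quotient.mk I g) : Set (PrimeSpectrum (R ⧸ I))) := hp
    rw [← PrimeSpectrum.localization_away_comap_range L₀ (Ideal.Quotient.mk I g)] at h1
    obtain ⟨q, rfl⟩ := h1
    obtain ⟨r, rfl⟩ := PrimeSpectrum.comap_surjective_of_faithfullyFlat (A := L₀) (B := T₀) q
    exact ⟨r, by rw [IsScalarTower.algebraMap_eq (R ⧸ I) L₀ T₀, PrimeSpectrum.comap_comp]; rfl⟩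
  · exact ⟨T, inferInstance, inferInstance, hTet, hTff, (isDiag_cancel (R := R) (A := A) L T).2 hA⟩


/-- Let R be a ring and I an ideal consisting of nilpotent elements. Every quasi-isotrivial (R/I)-group
of multiplicative type Spec A₀ is the base change of some quasi-isotrivial R-group of multiplicative
type Spec A. (Affine group schemes over an affine base are taken in Hopf-algebra form; base change
is the tensor product.) -/
theorem result (R : Type u) [CommRing R] (I : Ideal R) (hI : ∀ x ∈ I, IsNilpotent x)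
    (A₀ : Type u) [CommRing A₀] [HopfAlgebra (R ⧸ I) A₀] (h0 : IsQuasiIsotrivial (R ⧸ I) A₀) :
    ∃ (A : Type u) (_ : CommRing A) (_ : HopfAlgebra R A), IsQuasiIsotrivial R A ∧ Nonempty (((R ⧸ I) ⊗[R] A) ≃ₐc[R ⧸ I] A₀) := by
  classical
  obtain ⟨s, hs, h⟩ := h0
  obtain ⟨s', hs', h1⟩ := Submodule.mem_span_finite_of_mem_span (show (1 : R ⧸ I) ∈ Ideal.span s by rw [hs]; trivial)
  let n := Fintype.card {f // f ∈ s'}
  let ν : Fin n ≃ {f // f ∈ s'} := (Fintype.equivFin _).symm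
  have key := fun k : Fin n => local_piece R I hI A₀ (ν k).1 (h _ (hs' (ν k).2))
  choose g T iT iAT T₀ iT₀ iA1 iA2 iTow π M iM e hg hfl hfl₀ hπs hπk hcov hcov₀ hconst using key
  have hspan₀ : ∀ p : PrimeSpectrum (R ⧸ I), ∃ k, (ν k).1 ∉ p.asIdeal := fun p => by
    by_contra hc
    push Not at hc
    refine p.isPrime.ne_top ((Ideal.eq_top_iff_one _).2 (Submodule.span_le.2 ?_ h1))
    intro f hf
    simpa using hc (ν.symm ⟨f, hf⟩)
  have hspan : ∀ p : PrimeSpectrum R, ∃ k, g k ∉ p.asIdeal := fun p => by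
    have hle : I ≤ p.asIdeal := fun x hx => nilradical_le_prime p.asIdeal (mem_nilradical.2 (hI x hx))
    haveI : (p.asIdeal.map (Ideal.Quotient.mk I)).IsPrime :=
      Ideal.map_isPrime_of_surjective Ideal.Quotient.mk_surjective (by rwa [Ideal.mk_ker])
    obtain ⟨k, hk⟩ := hspan₀ ⟨p.asIdeal.map (Ideal.Quotient.mk I), inferInstance⟩
    exact ⟨k, fun hm => hk (by rw [← hg k]; exact Ideal.mem_map_of_mem _ hm)⟩
  letI : Algebra R A₀ := ((algebraMap (R ⧸ I) A₀).comp (algebraMap R (R ⧸ I))).toAlgebra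
  haveI : IsScalarTower R (R ⧸ I) A₀ := IsScalarTower.of_algebraMap_eq' rfl
  haveI := hfl₀
  have hkI : RingHom.ker (algebraMap R (R ⧸ I)) = I := by rw [Ideal.Quotient.algebraMap_eq, Ideal.mk_ker]
  have hI' : ∀ x ∈ RingHom.ker (algebraMap R (R ⧸ I)), IsNilpotent x := fun x hx => hI x (hkI ▸ hx)
  obtain ⟨D, hD⟩ := exists_lift_datum (T := T) (T₀ := T₀) (A₀ := A₀) (M := M) π e
    (Ideal.Quotient.mk_surjective (I := I)) hπs hπk (fun i j y₀ hy₀ => by
      obtain ⟨y, hy, hy0⟩ := exists_groupLike_lift (Ideal.Quotient.mk _) Ideal.Quotient.mk_surjective (fun x hx => by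
        rw [Ideal.mk_ker] at hx
        exact mem_nilradical.1 (map_le_nilradical hI' _ hx)) hy₀
      exact ⟨y, hy, ext_coef fun m => by rw [coefL_mapRingHom, hy0]⟩)
    (fun i => nil_le_jacobson hI' _) (fun i j => nil_le_jacobson hI' _) (fun i j k => nil_le_jacobson hI' _)
    hfl (fun p => (hspan p).imp fun k hk => hcov k p hk)
  refine ⟨D.A, inferInstance, inferInstance, ⟨Set.range g, ?_, ?_⟩, exists_fibre_equiv π e D
    (fun p => (hspan₀ p).imp fun k hk => hcov₀ k p hk) hD⟩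
  · by_contra hne
    obtain ⟨m, hm, hle⟩ := Ideal.exists_le_maximal _ hne
    obtain ⟨k, hk⟩ := hspan ⟨m, hm.isPrime⟩
    exact hk (hle (Ideal.subset_span ⟨k, rfl⟩))
  · rintro _ ⟨k, rfl⟩
    exact hconst k D.A (D.isDiag_chart k)

end Groth.Agent.S2979
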