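import Groth.Statements.S2966
import Groth.Agent.H20Comod.UniMult
import Groth.Agent.H20Comod.Unip
import Mathlib.RingTheory.Bialgebra.TensorProduct

set_option autoImplicit false
universe u
open scoped TensorProduct
open SGA3t2b

namespace Groth.Agent.S2966
open Groth.Agent.H20Comod TensorProduct

/-- In Hopf-algebra form (with unipotent taken in the representation-theoretic sense: affine and every
non-zero finite-dimensional representation has a non-zero fixed vector): let k be a field, A_M the
coordinate Hopf algebra of an affine k-group M of finite type which is of multiplicative type in the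
sense that it becomes diagonalisable over an algebraic closure of k, and A_U that of a unipotent
affine k-group U of finite type. Then (i) every homomorphism M -> U and (ii) every homomorphism U ->
M is trivial: every bialgebra map A_U -> A_M, resp. A_M -> A_U, factors through the counit. -/
theorem result {k : Type u} [Field k] {AM AU : Type u} [CommRing AM] [CommRing AU]
    [HopfAlgebra k AM] [HopfAlgebra k AU] [Algebra.FiniteType k AM] [Algebra.FiniteType k AU]
    (hM : HopfRep.IsDiagonalizable (AlgebraicClosure k) (AlgebraicClosure k ⊗[k] AM)) (hU : HopfRep.IsUnipotent k AU) :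
    (∀ φ : AU →ₐc[k] AM, SGA3t2b.IsTrivialBialgHom φ) ∧ (∀ ψ : AM →ₐc[k] AU, SGA3t2b.IsTrivialBialgHom ψ) := by
  have hinj : ∀ {B : Type u} [CommRing B] [Algebra k B] {x y : B},
      (1 : AlgebraicClosure k) ⊗ₜ[k] x = (1 : AlgebraicClosure k) ⊗ₜ[k] y → x = y := by
    intro B _ _ x y h
    exact Algebra.TensorProduct.includeRight_injective (B := B) (algebraMap k (AlgebraicClosure k)).injective h
  refine ⟨fun φ a => hinj (baseChange_map_mem_one hU hM φ a), fun ψ a => hinj ?_⟩
  have hU' : HopfRep.IsUnipotent (AlgebraicClosure k) (AlgebraicClosure k ⊗[k] AU) := isUnipotent_baseChange hU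
  let ψK := Bialgebra.TensorProduct.map (BialgHom.id (AlgebraicClosure k) (AlgebraicClosure k)) ψ
  have hcomp : ∀ c : AlgebraicClosure k ⊗[k] AM, ψK c =
      algebraMap _ _ (CoalgebraStruct.counit (R := AlgebraicClosure k) c) := by
    intro c
    have hc : c ∈ Submodule.span (AlgebraicClosure k) {c | IsGroupLikeElem (AlgebraicClosure k) c} := by
      rw [hM]; trivial
    induction hc using Submodule.span_induction with
    | mem g hg =>
      rw [eq_one_of_isGroupLike hU' (IsGroupLikeElem.map ψK hg), hg.counit_eq_one, map_one]
    | zero => simp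
    | add x y _ _ hx hy => simp only [map_add, hx, hy]
    | smul r x _ hx =>
      rw [LinearMapClass.map_smul ψK, hx, map_smul, Algebra.smul_def, smul_eq_mul, map_mul]
  have h := hcomp ((1 : AlgebraicClosure k) ⊗ₜ[k] a)
  rw [TensorProduct.counit_tmul, CommSemiring.counit_apply, ← Algebra.algebraMap_eq_smul_one] at h
  rw [show ψK ((1 : AlgebraicClosure k) ⊗ₜ[k] a) = (1 : AlgebraicClosure k) ⊗ₜ[k] ψ a from rfl] at h
  rw [h, Algebra.TensorProduct.algebraMap_apply, Algebra.algebraMap_self_apply,
    Algebra.algebraMap_eq_smul_one (R := k) (A := AlgebraicClosure k), TensorProduct.smul_tmul,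
    Algebra.algebraMap_eq_smul_one (R := k) (A := AU)]

end Groth.Agent.S2966
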