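import Groth.Statements.S5430
import Groth.Agent.H21Diag.CommLocus
-- import your own Groth.Agent.* helpers here

set_option autoImplicit false
universe u
open CategoryTheory MonoidalCategory CartesianMonoidalCategory MonObj GrpObj AlgebraicGeometry CategoryTheory.Limits
open SGA3x

namespace Groth.Agent.S5430

/-- Let S be a scheme and E an S-group scheme which is an extension of an S-group scheme U with
connected fibres by an S-group H of multiplicative type and of finite type: p : E → U is a
homomorphism which is surjective, flat and quasi-compact (U is the fpqc quotient E/H) and i : H → E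
is its kernel. Then the extension is central: every point of H commutes with every point of E. -/
theorem result (S : Scheme.{u}) (E H U : Over S) [GrpObj E] [GrpObj H] [GrpObj U]
    (p : E ⟶ U) [IsMonHom p] [Surjective p.left] [Flat p.left] [QuasiCompact p.left]
    (i : H ⟶ E) [IsMonHom i] (hker : AlgGrp.IsKernel i p) (hH : SGA3x.IsMultTypeFT H)
    (hU : ∀ s : S, _root_.IsConnected (U.hom.base ⁻¹' {s})) :
    ∀ (X : Over S) (h : X ⟶ H) (e : X ⟶ E), (h ≫ i) * e = e * (h ≫ i) := by
  have hk1 : i ≫ p = 1 := by rw [hker.w, Hom.one_def]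
  have hlift : ∀ (T : Over S) (e : T ⟶ E), e ≫ p = 1 → ∃ h : T ⟶ H, h ≫ i = e := fun T e he =>
    ⟨hker.lift e (toUnit T) (by rw [he, Hom.one_def]), hker.lift_fst _ _ _⟩
  have : Mono i := ⟨fun a b hab => hker.hom_ext hab (toUnit_unique _ _)⟩
  have hn : AlgGrp.IsNormalHom i := by
    intro T g n
    obtain ⟨h, hh⟩ := hlift T (g * (n ≫ i) * g⁻¹) (by
      rw [MonObj.mul_comp, MonObj.mul_comp, GrpObj.inv_comp, Category.assoc, hk1, MonObj.comp_one,
        _root_.mul_one, mul_inv_cancel])
    exact ⟨h, hh.symm⟩
  obtain ⟨W, hWc, hW1, hW2⟩ := H21Diag.exists_commuting_locus E H i hH hn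
  -- saturation
  have hsat : ∀ a b : E.left, p.left.base a = p.left.base b → a ∈ W → b ∈ W := by
    intro a b hab haW
    obtain ⟨q, hq1, hq2⟩ := Scheme.Pullback.exists_preimage_pullback (f := p.left) (g := p.left) a b hab
    let Q := Limits.pullback p.left p.left
    let B := Q.residueField q
    let z₁ := Q.fromSpecResidueField q ≫ Limits.pullback.fst p.left p.left
    let z₂ := Q.fromSpecResidueField q ≫ Limits.pullback.snd p.left p.left
    have hz₁ : ∀ t, z₁.base t = a := fun t => by
      refine Eq.trans ?_ hq1
      exact congrArg (Limits.pullback.fst p.left p.left).base (Scheme.fromSpecResidueField_apply q t)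
    have hb : z₂.base (IsLocalRing.closedPoint B) = b := by
      refine Eq.trans ?_ hq2
      exact congrArg (Limits.pullback.snd p.left p.left).base (Scheme.fromSpecResidueField_apply q _)
    rw [← hb]
    refine hW2 B z₂ fun X k t ht h => ?_
    have hp12 : z₁ ≫ p.left = z₂ ≫ p.left := by
      simp only [z₁, z₂, Category.assoc, Limits.pullback.condition]
    let k₁ : X ⟶ E := Over.homMk (t ≫ z₁) (by
      rw [Category.assoc, ← Over.w p, ← Category.assoc z₁, hp12, Category.assoc, Over.w p,
        ← Category.assoc, ht, Over.w k])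
    have hkp : k ≫ p = k₁ ≫ p := Over.OverMorphism.ext (by
      change k.left ≫ p.left = (t ≫ z₁) ≫ p.left
      rw [Category.assoc, hp12, ← Category.assoc, ht])
    obtain ⟨n, hn'⟩ := hlift X (k * k₁⁻¹) (by
      rw [MonObj.mul_comp, GrpObj.inv_comp, hkp, mul_inv_cancel])
    have hc₁ := hW1 X k₁ (by
      rintro _ ⟨x, rfl⟩
      exact (hz₁ (t.base x)).symm ▸ haW) h
    have hcn : (n ≫ i) * (h ≫ i) = (h ≫ i) * (n ≫ i) := by
      rw [← MonObj.mul_comp, ← MonObj.mul_comp, H21Diag.mult_comm hH]
    rw [show k = (n ≫ i) * k₁ by rw [hn', inv_mul_cancel_right], _root_.mul_assoc, hc₁,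
      ← _root_.mul_assoc, hcn, _root_.mul_assoc]
  have hpre : ∀ A : Set E.left, (∀ a b, p.left.base a = p.left.base b → a ∈ A → b ∈ A) →
      p.left.base ⁻¹' (p.left.base '' A) = A := fun A hA =>
    subset_antisymm (fun b ⟨a, ha, hab⟩ => hA a b hab ha) (Set.subset_preimage_image _ _)
  have hq := Flat.isQuotientMap_of_surjective p.left
  let V : Set U.left := p.left.base '' (W : Set E.left)
  have hVopen : IsOpen V := hq.isOpen_preimage.mp (by rw [hpre _ hsat]; exact W.isOpen)
  have hVcl : IsClosed V := hq.isClosed_preimage.mp (by rw [hpre _ hsat]; exact hWc)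
  have hall : ∀ x : E.left, x ∈ W := by
    intro x
    let s := U.hom.base (p.left.base x)
    let z₀ := S.fromSpecResidueField s ≫ (η[E]).left
    have hz₀ : z₀.base (IsLocalRing.closedPoint _) ∈ W := by
      refine hW2 _ z₀ fun X k t ht h => ?_
      have hk : k = 1 := by
        refine Over.OverMorphism.ext ?_
        rw [Hom.one_def, Over.comp_left]
        have he : (η[E]).left ≫ E.hom = 𝟙 S := Over.w _
        have hX : X.hom = t ≫ S.fromSpecResidueField s := by
          rw [← Over.w k, ← ht, Category.assoc]
          exact congrArg (t ≫ ·) ((Category.assoc _ _ _).trans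
            ((congrArg (S.fromSpecResidueField s ≫ ·) he).trans (Category.comp_id _)))
        change k.left = X.hom ≫ _
        rw [hX, ← ht]
        exact (Category.assoc _ _ _).symm
      rw [hk, _root_.one_mul, _root_.mul_one]
    set e₀ := z₀.base (IsLocalRing.closedPoint _)
    have he₀ : U.hom.base (p.left.base e₀) = s := by
      have h1 : z₀ ≫ p.left ≫ U.hom = S.fromSpecResidueField s := by
        rw [Over.w p]
        have he : (η[E]).left ≫ E.hom = 𝟙 S := Over.w _
        rw [Category.assoc, he]
        exact Category.comp_id _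
      exact (congrArg (fun f : Spec (S.residueField s) ⟶ S => f.base (IsLocalRing.closedPoint _)) h1).trans
        (Scheme.fromSpecResidueField_apply s _)
    have hsub : U.hom.base ⁻¹' {s} ⊆ V :=
      (hU s).isPreconnected.subset_isClopen ⟨hVcl, hVopen⟩ ⟨p.left.base e₀, he₀, e₀, hz₀, rfl⟩
    have hx : x ∈ p.left.base ⁻¹' V := hsub (show p.left.base x ∈ U.hom.base ⁻¹' {s} from rfl)
    rwa [hpre _ hsat] at hx
  intro X h e
  exact (hW1 X e (fun x _ => hall x) h).symm

end Groth.Agent.S5430
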