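import Groth.Statements.S5431
import Groth.Agent.H21Hom.ExtensionMult
import Groth.Agent.H21Hom.ExtensionComm
import Groth.Agent.S5430
import Groth.Agent.H18Torsor.Basic
-- import your own Groth.Agent.* helpers here

set_option autoImplicit false
universe u
open CategoryTheory MonoidalCategory CartesianMonoidalCategory MonObj GrpObj AlgebraicGeometry CategoryTheory.Limits
open SGA3x
set_option backward.isDefEq.respectTransparency false
set_option synthInstance.maxHeartbeats 400000
set_option maxHeartbeats 1000000
set_option linter.style.haveILetI false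

namespace Groth.Agent.S5431

theorem flat_diag (M : Type) [AddCommGroup M] : Flat (Red.diag (ULift.{u} ℤ) M).hom :=
  (Flat.SpecMap_iff (f := CommRingCat.ofHom (algebraMap (ULift.{u} ℤ) (MonoidAlgebra (ULift.{u} ℤ) (Multiplicative M))))).mpr
    (RingHom.flat_algebraMap_iff.mpr inferInstance)

/-- the middle term is a torsor under the kernel, so it inherits the properties of the kernel -/
theorem middle_prop (P : MorphismProperty Scheme.{u}) [P.IsStableUnderBaseChange]
    [P.DescendsAlong H18Descent.fpqc.{u}] {S : Scheme.{u}} {E H K : Over S} [GrpObj E] [GrpObj H] [GrpObj K]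
    (p : E ⟶ K) [IsMonHom p] [Surjective p.left] [Flat p.left] [QuasiCompact p.left]
    (i : H ⟶ E) [IsMonHom i] (hker : AlgGrp.IsKernel i p) (hH : P H.hom) : P p.left := by
  have hk1 : i ≫ p = 1 := by rw [hker.w, Hom.one_def]
  let m : E ⊗ H ⟶ E := fst E H * (snd E H ≫ i)
  have hw : fst E H ≫ p = m ≫ p := by
    show _ = (fst E H * (snd E H ≫ i)) ≫ p
    rw [MonObj.mul_comp, Category.assoc, hk1, MonObj.comp_one, _root_.mul_one]
  have hsq : IsPullback (fst E H) m p p := by
    refine ⟨⟨hw⟩, ⟨PullbackCone.IsLimit.mk _ (fun c => lift c.fst (hker.lift (c.fst⁻¹ * c.snd) (toUnit _) (by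
      rw [MonObj.mul_comp, GrpObj.inv_comp, c.condition, inv_mul_cancel, Hom.one_def]))) (fun c => lift_fst _ _)
      (fun c => ?_) fun c l h₁ h₂ => ?_⟩⟩
    · rw [MonObj.comp_mul, lift_fst, lift_snd_assoc, hker.lift_fst, mul_inv_cancel_left]
    · refine CartesianMonoidalCategory.hom_ext _ _ (by rw [lift_fst]; exact h₁) ?_
      rw [lift_snd]
      refine hker.hom_ext ?_ (toUnit_unique _ _)
      rw [hker.lift_fst, Category.assoc]
      rw [MonObj.comp_mul, h₁] at h₂
      exact eq_inv_mul_iff_mul_eq.mpr h₂
  exact MorphismProperty.of_isPullback_of_descendsAlong (P := P) (Q := H18Descent.fpqc.{u})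
    (hsq.map (Over.forget S)) ⟨⟨‹_›, ‹_›⟩, ‹_›⟩ (P.pullback_fst E.hom H.hom hH)

/-- Let S be a scheme, H and K two S-groups of multiplicative type and of finite type, and E an S-group
scheme which is an extension of K by H: p : E → K is a surjective, flat, quasi-compact homomorphism
(K is the fpqc quotient E/H) with kernel i : H → E. Then E is of multiplicative type (and of finite
type) in each of the two cases: a) E is commutative; b) the fibres of K are connected. -/
theorem result (S : Scheme.{u}) (E H K : Over S) [GrpObj E] [GrpObj H] [GrpObj K]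
    (p : E ⟶ K) [IsMonHom p] [Surjective p.left] [Flat p.left] [QuasiCompact p.left]
    (i : H ⟶ E) [IsMonHom i] (hker : AlgGrp.IsKernel i p)
    (hH : SGA3x.IsMultTypeFT H) (hK : SGA3x.IsMultTypeFT K)
    (h : IsCommMonObj E ∨ ∀ s : S, _root_.IsConnected (K.hom.base ⁻¹' {s})) :
    SGA3x.IsMultTypeFT E := by
  have hp1 : IsAffineHom p.left := middle_prop @IsAffineHom p i hker (H21Diag.isAffineHom_of_multTypeFT hH)
  have hp2 : LocallyOfFinitePresentation p.left :=
    middle_prop @LocallyOfFinitePresentation p i hker (H21Diag.lfp_of_multTypeFT hH)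
  have := H21Diag.isAffineHom_of_multTypeFT hK
  have := H21Diag.lfp_of_multTypeFT hK
  haveI : Flat K.hom := H21Diag.of_multTypeFT (@Flat) (fun M => flat_diag M) hK
  haveI : IsAffineHom E.hom := by rw [← Over.w p]; infer_instance
  haveI : LocallyOfFinitePresentation E.hom := by rw [← Over.w p]; infer_instance
  haveI : Flat E.hom := by rw [← Over.w p]; infer_instance
  refine H21Hom.isMultTypeFT_of_comm_extension p i hker hH hK fun {T} a b => ?_
  rcases h with h | h
  · exact _root_.mul_comm a b
  · exact H21Hom.comm_of_central hker hH hK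
      (fun t x => (S5430.result S E H K p i hker hH h _ x t).symm) (fun s => Or.inl (h s)) a b

end Groth.Agent.S5431
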