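import Groth.Statements.S8398
import Groth.Agent.H21Diag.CentralFactor
import Groth.Agent.H21Diag.SelfCentral
import Groth.Agent.H21Nilp.MultFactor
import Groth.Agent.H21Diag.MaxTorusBc
import Groth.Agent.H21Split.Corad.Dim
import Groth.Agent.H21EtPt.Subgroup

set_option autoImplicit false
universe u
open CategoryTheory MonoidalCategory CartesianMonoidalCategory MonObj GrpObj AlgebraicGeometry
open SGA3x

set_option linter.style.haveILetI false
set_option backward.isDefEq.respectTransparency false
set_option synthInstance.maxHeartbeats 400000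
set_option maxHeartbeats 1000000

namespace Groth.Agent.S8398

open CategoryTheory.Limits in
theorem smooth_of_isTorus {S : Scheme.{u}} {T : Over S} [GrpObj T] (hT : Red.IsTorus T) : Smooth T.hom := by
  have hM := H21Diag.isMultTypeFT_of_isTorus hT
  haveI := H21EtPt.flat_of_multTypeFT hM
  haveI := H21Diag.lfp_of_multTypeFT hM
  refine Smooth.of_smooth_fiberToSpecResidueField T.hom fun s => ?_
  let K := AlgebraicClosure (S.residueField s)
  let d : Spec (CommRingCat.of K) ⟶ Spec (S.residueField s) :=
    Spec.map (CommRingCat.ofHom (algebraMap (S.residueField s) K))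
  haveI : Flat d := Flat.SpecMap_iff.mpr (RingHom.flat_algebraMap_iff.mpr inferInstance)
  haveI : Surjective d := ⟨fun x => ⟨IsLocalRing.closedPoint _, Subsingleton.elim (α := PrimeSpectrum _) _ _⟩⟩
  haveI : MorphismProperty.DescendsAlong @Smooth H18Descent.fpqc.{u} :=
    inferInstanceAs (MorphismProperty.DescendsAlong @Smooth (@Surjective ⊓ @Flat ⊓ @QuasiCompact))
  exact MorphismProperty.of_isPullback_of_descendsAlong (P := @Smooth) (Q := H18Descent.fpqc.{u})
    (IsPullback.of_hasPullback (pullback.snd T.hom (S.fromSpecResidueField s)) d).flip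
    ⟨⟨‹Surjective d›, ‹Flat d›⟩, inferInstance⟩
    (H21Split.Corad.smooth_torus (Red.bc d (Red.bc (S.fromSpecResidueField s) T))
      (H21Diag.isTorus_bc (H21Diag.isTorus_bc hT _) d))

/-- Let G be an S-group scheme which is smooth and affine over S with connected fibres, T a maximal
torus of G, and u : H → G a central homomorphism from an S-group scheme H of multiplicative type and
of finite type. Then u factors through T. -/
theorem result (S : Scheme.{u}) (G : Over S) [GrpObj G]
    [Smooth G.hom] [IsAffineHom G.hom] (hconn : ∀ s : S, _root_.IsConnected (G.hom.base ⁻¹' {s}))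
    (T : Over S) [GrpObj T] (i : T ⟶ G) (hT : Red.IsMaximalTorus i)
    (H : Over S) [GrpObj H] (hH : SGA3x.IsMultTypeFT H) (u : H ⟶ G) [IsMonHom u]
    (hc : ∀ (X : Over S) (x : X ⟶ H) (g : X ⟶ G), (x ≫ u) * g = g * (x ≫ u)) :
    ∃ w : H ⟶ T, w ≫ i = u := by
  have hGs : Smooth G.hom := inferInstance
  have hGa : IsAffineHom G.hom := inferInstance
  obtain ⟨hi1, hi2, hTT, -⟩ := id hT
  haveI := hi1
  haveI := hi2
  have hTm := H21Diag.isMultTypeFT_of_isTorus hTT
  haveI : Smooth T.hom := smooth_of_isTorus hTT
  haveI : IsAffineHom T.hom := H21Diag.isAffineHom_of_multTypeFT hTm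
  haveI := H21Diag.geometricallyConnected_of_fibres G hconn
  refine H21Diag.exists_factor_of_geomFibres hH i u hc fun s => ?_
  let z := Red.geomPt s
  haveI : Smooth (Red.geomFibre s G).hom := MorphismProperty.pullback_snd (P := @Smooth) _ _ hGs
  haveI : IsAffineHom (Red.geomFibre s G).hom := MorphismProperty.pullback_snd (P := @IsAffineHom) _ _ hGa
  haveI : GeometricallyConnected (Red.geomFibre s G).hom :=
    inferInstanceAs (GeometricallyConnected (Limits.pullback.snd G.hom z))
  haveI : ConnectedSpace ↥(Red.geomFibre s G).left :=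
    GeometricallyConnected.connectedSpace_of_subsingleton (Red.geomFibre s G).hom
  haveI : IsMonHom ((Over.pullback z).map u) := H21Diag.isMonHom_map z u
  refine H21Nilp.factor_maxTorus_of_commute (H21Diag.isMaximalTorus_bc hGs hGa i z hT)
    (H21Diag.isMultTypeFT_bc hH z) ((Over.pullback z).map u) fun X x t => ?_
  apply (H21Diag.bcEquiv z G X).symm.injective
  rw [H21Diag.bcEquiv_symm_mul, H21Diag.bcEquiv_symm_mul]
  have h : (H21Diag.bcEquiv z G X).symm (x ≫ (Over.pullback z).map u) =
      (H21Diag.bcEquiv z H X).symm x ≫ u :=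
    (Over.mapPullbackAdj z).homEquiv_naturality_right_symm x u
  rw [h]
  exact hc _ _ _

end Groth.Agent.S8398
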