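import Groth.Statements.S16775
import Groth.Agent.S5431
import Groth.Agent.S5430
import Groth.Agent.H21Hom.ExtensionComm
import Groth.Agent.H21Quot.Basic
-- import your own Groth.Agent.* helpers here

set_option autoImplicit false
open CategoryTheory MonoidalCategory CartesianMonoidalCategory MonObj GrpObj AlgebraicGeometry
universe u
open SGA3x

set_option backward.isDefEq.respectTransparency false
set_option synthInstance.maxHeartbeats 400000
set_option maxHeartbeats 1000000
set_option linter.style.haveILetI false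

namespace Groth.Agent.S16775

/-- a quotient map of a quasi-compact kernel is quasi-compact -/
theorem quasiCompact_quotient {S : Scheme.{u}} {G H Q : Over S} [GrpObj G] (i : H ⟶ G) (q : G ⟶ Q)
    (hq : RedSub.IsQuotient i q) (hH : QuasiCompact H.hom) : QuasiCompact q.left := by
  obtain ⟨hs, hf, hl, hsq⟩ := hq
  haveI : QuasiCompact (fst G H).left := MorphismProperty.pullback_fst (P := @QuasiCompact) _ _ hH
  have hsq' := hsq.map (Over.forget S)
  simp only [Over.forget_obj, Over.forget_map] at hsq'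
  refine (quasiCompact_iff _).mpr fun V hV hVc => ?_
  have hVo : IsOpen (q.left.base ⁻¹' V) := hV.preimage q.left.continuous
  choose W hW hmem hsub using fun x : ↥(q.left.base ⁻¹' V) =>
    G.left.isBasis_affineOpens.exists_subset_of_mem_open x.2 hVo
  obtain ⟨t, ht⟩ := hVc.elim_finite_subcover (fun x => q.left.base '' (W x)) (fun x => by
      obtain ⟨U, hU, e⟩ := hW x
      exact e ▸ q.left.isOpenMap _ U.isOpen) (fun y hy => by
      obtain ⟨x, rfl⟩ := q.left.surjective y
      exact Set.mem_iUnion.mpr ⟨⟨x, hy⟩, x, hmem _, rfl⟩)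
  have hK : IsCompact (⋃ x ∈ t, W x) := t.isCompact_biUnion fun x _ => by
    obtain ⟨U, hU, e⟩ := hW x
    exact e ▸ (hU : IsAffineOpen U).isCompact
  have e : q.left.base ⁻¹' V = ((G ◁ i) ≫ μ[G]).left.base '' ((fst G H).left.base ⁻¹' (⋃ x ∈ t, W x)) := by
    ext g
    constructor
    · intro hg
      obtain ⟨x, hxt, w, hw, hqw⟩ := Set.mem_iUnion₂.mp (ht hg)
      obtain ⟨z, hz₁, hz₂⟩ := Scheme.exists_preimage_of_isPullback hsq' w g hqw
      exact ⟨z, Set.mem_iUnion₂.mpr ⟨x, hxt, (show (fst G H).left.base z ∈ W x from hz₁.symm ▸ hw)⟩, hz₂⟩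
    · rintro ⟨z, hz, rfl⟩
      obtain ⟨x, -, hx⟩ := Set.mem_iUnion₂.mp hz
      show q.left.base (((G ◁ i) ≫ μ[G]).left.base z) ∈ V
      rw [← Scheme.Hom.comp_apply, ← hsq'.w, Scheme.Hom.comp_apply]
      exact hsub x hx
  rw [e]
  have hKo : IsOpen (⋃ x ∈ t, (W x : Set G.left)) := isOpen_biUnion fun x _ => by
    obtain ⟨U, hU, e⟩ := hW x
    exact e ▸ U.isOpen
  exact (QuasiCompact.isCompact_preimage _ hKo hK).image ((G ◁ i) ≫ μ[G]).left.continuous

theorem isConnected_fibre {S : Scheme.{u}} {G Q : Over S} (q : G ⟶ Q) [Surjective q.left]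
    (s : S) (h : _root_.IsConnected (G.hom.base ⁻¹' {s})) : _root_.IsConnected (Q.hom.base ⁻¹' {s}) := by
  have e : Q.hom.base ⁻¹' {s} = q.left.base '' (G.hom.base ⁻¹' {s}) := by
    rw [← Over.w q, Scheme.Hom.comp_base, TopCat.coe_comp, Set.preimage_comp,
      Set.image_preimage_eq _ q.left.surjective]
  exact e ▸ h.image _ q.left.continuous.continuousOn

/-- Let G be a smooth affine group scheme with connected fibres over a scheme S, H ⊆ G a normal subgroup
scheme of multiplicative type (of finite type), G → Q = G/H the quotient, and H' ⊆ Q a central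
subgroup scheme of multiplicative type (of finite type). Then the preimage of H' in G is a central
subgroup scheme of G of multiplicative type. -/
theorem result {S : Scheme.{u}} {G H Q H' P : Over S}
    [GrpObj G] [GrpObj H] [GrpObj Q] [GrpObj H'] [GrpObj P]
    (hG : Smooth G.hom) (hGa : IsAffineHom G.hom) (hconn : ∀ s : S, _root_.IsConnected (G.hom.base ⁻¹' {s}))
    (i : H ⟶ G) [IsMonHom i] [Mono i] (hH : SGA3x.IsMultTypeFT H) (hHn : AlgGrp.IsNormalHom i)
    (q : G ⟶ Q) [IsMonHom q] (hq : RedSub.IsQuotient i q) (hker : AlgGrp.IsKernel i q)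
    (j : H' ⟶ Q) [IsMonHom j] [Mono j] (hH' : SGA3x.IsMultTypeFT H')
    (hcenH' : ∀ (X : Over S) (x : X ⟶ H') (g : X ⟶ Q), (x ≫ j) * g = g * (x ≫ j))
    (i' : P ⟶ G) [IsMonHom i'] (p : P ⟶ H') (hP : IsPullback i' p q j) :
    SGA3x.IsMultTypeFT P ∧ ∀ (X : Over S) (x : X ⟶ P) (g : X ⟶ G), (x ≫ i') * g = g * (x ≫ i') := by
  obtain ⟨hqs, hqf, hql, hqpb⟩ := id hq
  have hqc : QuasiCompact q.left := quasiCompact_quotient i q hq (by
    have := H21Diag.isAffineHom_of_multTypeFT hH; infer_instance)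
  have hQc : ∀ s : S, _root_.IsConnected (Q.hom.base ⁻¹' {s}) := fun s => isConnected_fibre q s (hconn s)
  have hcen := S5430.result S G H Q q i hker hH hQc
  have hk1 : i ≫ q = 1 := by rw [hker.w, Hom.one_def]
  haveI : Mono i' := ⟨fun a b hab => hP.hom_ext hab ((cancel_mono j).mp (by
    rw [Category.assoc, ← hP.w, ← Category.assoc, hab, Category.assoc, hP.w, Category.assoc]))⟩
  haveI : IsMonHom p := H21Diag.isMonHom_of_mul p fun {T} a b => (cancel_mono j).mp (by
    rw [Category.assoc, ← hP.w, ← Category.assoc, MonObj.mul_comp, MonObj.mul_comp, MonObj.mul_comp,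
      Category.assoc, Category.assoc, hP.w, ← Category.assoc, ← Category.assoc])
  have hsqL := hP.map (Over.forget S)
  simp only [Over.forget_obj, Over.forget_map] at hsqL
  haveI : Surjective p.left := MorphismProperty.of_isPullback (P := @Surjective) hsqL hqs
  haveI : Flat p.left := MorphismProperty.of_isPullback (P := @Flat) hsqL hqf
  haveI : QuasiCompact p.left := MorphismProperty.of_isPullback (P := @QuasiCompact) hsqL hqc
  haveI : LocallyOfFinitePresentation p.left :=
    MorphismProperty.of_isPullback (P := @LocallyOfFinitePresentation) hsqL hql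
  let i₀ : H ⟶ P := hP.lift i 1 (by rw [hk1, MonObj.one_comp])
  have hi₀ : i₀ ≫ i' = i := hP.lift_fst _ _ _
  haveI : IsMonHom i₀ := H21Diag.isMonHom_of_mul i₀ fun {T} a b => (cancel_mono i').mp (by
    rw [Category.assoc, hi₀, MonObj.mul_comp, MonObj.mul_comp, Category.assoc, Category.assoc, hi₀])
  have hker' : AlgGrp.IsKernel i₀ p := by
    refine ⟨⟨?_⟩, ⟨Limits.PullbackCone.IsLimit.mk _ (fun c => hker.lift (c.fst ≫ i') c.snd (by
      rw [Category.assoc, hP.w, ← Category.assoc, c.condition, Category.assoc, IsMonHom.one_hom]))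
      (fun c => ?_) (fun c => toUnit_unique _ _) fun c l h₁ h₂ => ?_⟩⟩
    · rw [hP.lift_snd, Hom.one_def]
    · refine (cancel_mono i').mp ?_
      rw [Category.assoc, hi₀, hker.lift_fst]
    · refine hker.hom_ext ?_ (toUnit_unique _ _)
      rw [hker.lift_fst, ← hi₀, ← Category.assoc, h₁]
  have hlift : ∀ {T : Over S} (e : T ⟶ G), e ≫ q = 1 → ∃ h : T ⟶ H, h ≫ i = e := fun {T} e he =>
    ⟨hker.lift e (toUnit T) (by rw [he, Hom.one_def]), hker.lift_fst _ _ _⟩
  have hinj : ∀ {T : Over S} (a b : T ⟶ H), a ≫ i = b ≫ i → a = b := fun a b h => (cancel_mono i).mp h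
  -- the commutator
  obtain ⟨c, hc⟩ := hlift (fst G P * (snd G P ≫ i') * (fst G P)⁻¹ * (snd G P ≫ i')⁻¹) (by
    simp only [MonObj.mul_comp, GrpObj.inv_comp, Category.assoc, hP.w]
    rw [← Category.assoc, ← hcenH' _ (snd G P ≫ p) (fst G P ≫ q)]
    group)
  have hcp : ∀ {T : Over S} (g : T ⟶ G) (x : T ⟶ P),
      (lift g x ≫ c) ≫ i = g * (x ≫ i') * g⁻¹ * (x ≫ i')⁻¹ := fun g x => by
    rw [Category.assoc, hc]
    simp only [MonObj.comp_mul, GrpObj.comp_inv, lift_fst, lift_snd_assoc]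
  haveI : Flat (𝟙 G : G ⟶ G).left := inferInstanceAs (Flat (𝟙 G.left))
  haveI : Surjective (𝟙 G : G ⟶ G).left := inferInstanceAs (Surjective (𝟙 G.left))
  haveI : LocallyOfFinitePresentation (𝟙 G : G ⟶ G).left := inferInstanceAs (LocallyOfFinitePresentation (𝟙 G.left))
  haveI := H21Quot.flat_tensorHom (𝟙 G) p
  haveI := H21Quot.surjective_tensorHom (𝟙 G) p
  haveI := H21Quot.lfp_tensorHom (𝟙 G) p
  obtain ⟨c₂, hc₂, -⟩ := H21Quot.desc_unique (𝟙 G ⊗ₘ p) c fun Y u v huv => hinj _ _ (by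
    have h1 := congrArg (fun z => z ≫ fst G H') huv
    have h2 := congrArg (fun z => z ≫ snd G H') huv
    simp only [Category.assoc, tensorHom_fst, tensorHom_snd, Category.comp_id] at h1 h2
    rw [← Category.assoc, ← Category.assoc] at h2
    obtain ⟨n, hn⟩ := hlift ((u ≫ snd G P ≫ i') * (v ≫ snd G P ≫ i')⁻¹) (by
      simp only [MonObj.mul_comp, GrpObj.inv_comp, Category.assoc, hP.w]
      simp only [← Category.assoc]
      rw [h2, mul_inv_cancel])
    have hu2 : u ≫ snd G P ≫ i' = (n ≫ i) * (v ≫ snd G P ≫ i') := by rw [hn, inv_mul_cancel_right]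
    simp only [Category.assoc, hc]
    simp only [MonObj.comp_mul, GrpObj.comp_inv, h1, hu2]
    set n' := n ≫ i
    set g := v ≫ fst G P
    set x := v ≫ snd G P ≫ i'
    have hn' : Commute g n' := (hcen Y n g).symm
    calc g * (n' * x) * g⁻¹ * (n' * x)⁻¹ = (g * n') * x * g⁻¹ * x⁻¹ * n'⁻¹ := by group
      _ = n' * (g * x * g⁻¹ * x⁻¹) * n'⁻¹ := by rw [hn'.eq]; group
      _ = g * x * g⁻¹ * x⁻¹ := by
        obtain ⟨m, hm⟩ : ∃ m : Y ⟶ H, m ≫ i = g * x * g⁻¹ * x⁻¹ :=
          ⟨lift g (v ≫ snd G P) ≫ c, (hcp _ _).trans (by simp only [x, Category.assoc])⟩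
        rw [← hm, hcen Y n (m ≫ i), mul_inv_cancel_right])
  have hc₂p : ∀ {T T' : Over S} (r : T' ⟶ T) (g : T ⟶ G) (a : T ⟶ H') (x : T' ⟶ P),
      r ≫ a = x ≫ p → r ≫ lift g a ≫ c₂ = lift (r ≫ g) x ≫ c := by
    intro T T' r g a x hx
    rw [← hc₂, ← Category.assoc r, comp_lift, hx, ← Category.assoc (lift _ x), lift_map, Category.comp_id]
  obtain ⟨u, hum, hu⟩ := H21Hom.exists_family_hom G H' H (fun {T} g a => lift g a ≫ c₂)
    (fun r g a => by rw [← Category.assoc, comp_lift])
    (fun {T} g a b => by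
      obtain ⟨T₁, r₁, a', hr₁, ha⟩ := H21Hom.exists_lift_cover (p := p) a
      obtain ⟨T₂, r₂, b', hr₂, hb⟩ := H21Hom.exists_lift_cover (p := p) (r₁ ≫ b)
      let r := r₂ ≫ r₁
      haveI : Epi r.left := by
        haveI := hr₁; haveI := hr₂
        change Epi (r₂.left ≫ r₁.left)
        infer_instance
      haveI : Epi r := Over.epi_of_epi_left r
      have e1 : r ≫ a = (r₂ ≫ a') ≫ p := by simp only [r, Category.assoc]; rw [← ha]
      have e2 : r ≫ b = b' ≫ p := by simp only [r, Category.assoc]; rw [← hb]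
      have e12 : r ≫ (a * b) = ((r₂ ≫ a') * b') ≫ p := by rw [MonObj.comp_mul, e1, e2, MonObj.mul_comp]
      rw [← cancel_epi r, MonObj.comp_mul, hc₂p r g _ _ e12, hc₂p r g a _ e1, hc₂p r g b _ e2]
      refine hinj _ _ ?_
      rw [MonObj.mul_comp, hcp, hcp, hcp, MonObj.mul_comp]
      set g' := r ≫ g
      set x := (r₂ ≫ a') ≫ i'
      set y := b' ≫ i'
      obtain ⟨n, hn⟩ : ∃ n : T₂ ⟶ H, n ≫ i = g' * y * g'⁻¹ * y⁻¹ := ⟨_, hcp g' b'⟩
      rw [← hn, show g' * (x * y) * g'⁻¹ * (x * y)⁻¹ = (g' * x * g'⁻¹) * (n ≫ i) * x⁻¹ by rw [hn]; group,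
        _root_.mul_assoc _ (n ≫ i), hcen T₂ n x⁻¹, ← _root_.mul_assoc])
  haveI := hum
  have := H21Diag.isSeparated_of_multTypeFT hH
  have := H21Diag.lfp_of_multTypeFT hH
  haveI : IsSeparated (Red.bc G.hom H).hom := MorphismProperty.pullback_snd (P := @IsSeparated) _ _ ‹_›
  haveI : LocallyOfFinitePresentation (Red.bc G.hom H).hom :=
    MorphismProperty.pullback_snd (P := @LocallyOfFinitePresentation) _ _ ‹_›
  have hu1 : u = 1 := H21Hom.eq_one_of_trivAt (H21Diag.isMultTypeFT_bc hH' G.hom) u fun s => by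
    refine Or.inl ⟨hconn s, ?_⟩
    have hz : (S.fromSpecResidueField s ≫ η[G].left).base (IsLocalRing.closedPoint _) = η[G].left.base s := by
      rw [Scheme.Hom.comp_apply]; exact congrArg _ (Scheme.fromSpecResidueField_apply s _)
    rw [← hz]
    refine H21Diag.trivAt_of_field u _ fun Y r g => ?_
    obtain ⟨g, rfl⟩ := (H21Diag.bcEquiv G.hom H' _).surjective g
    rw [hu]
    refine (congrArg _ ?_).trans (H21Hom.bcEquiv_one G.hom H _)
    rw [H21Hom.homMk_eq_one (Over.mk (r ≫ S.fromSpecResidueField s ≫ η[G].left)) (r ≫ S.fromSpecResidueField s)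
      (Category.assoc _ _ _).symm]
    obtain ⟨T', r', g', hr, hg'⟩ := H21Hom.exists_lift_cover (p := p) g
    haveI := hr
    haveI : Epi r' := Over.epi_of_epi_left r'
    rw [← cancel_epi r', hc₂p r' 1 g g' hg', MonObj.comp_one, MonObj.comp_one]
    refine hinj _ _ ?_
    rw [hcp, MonObj.one_comp]
    group
  have hcentral : ∀ (X : Over S) (x : X ⟶ P) (g : X ⟶ G), (x ≫ i') * g = g * (x ≫ i') := by
    intro X x g
    let r : X ⟶ (Over.map G.hom).obj (Over.mk g.left) := Over.homMk (𝟙 X.left) ((Category.id_comp _).trans (Over.w g))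
    let r' : (Over.map G.hom).obj (Over.mk g.left) ⟶ X :=
      Over.homMk (𝟙 X.left) ((Category.id_comp _).trans (Over.w g).symm)
    have h1 := hu (Over.mk g.left) (r' ≫ x ≫ p)
    rw [hu1, MonObj.comp_one, ← H21Hom.bcEquiv_one G.hom H (Over.mk g.left)] at h1
    have h2 := congrArg (fun z => r ≫ z) ((H21Diag.bcEquiv G.hom H (Over.mk g.left)).injective h1).symm
    have e1 : r ≫ (Over.homMk (Over.mk g.left).hom rfl : (Over.map G.hom).obj (Over.mk g.left) ⟶ G) = g :=
      Over.OverMorphism.ext (Category.id_comp g.left)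
    have e2 : r ≫ r' ≫ x ≫ p = (r ≫ r' ≫ x) ≫ p := by simp only [Category.assoc]
    have e3 : r ≫ r' ≫ x = x := Over.OverMorphism.ext (by simp [r, r'])
    simp only [MonObj.comp_one] at h2
    rw [hc₂p r _ _ _ e2, e1, e3] at h2
    have h3 := congrArg (fun z => z ≫ i) h2
    simp only [hcp, MonObj.one_comp, mul_inv_eq_one, mul_inv_eq_iff_eq_mul] at h3
    first | exact h3.symm | (rw [_root_.one_mul] at h3; exact h3.symm)
  refine ⟨S5431.result S P H H' p i₀ hker' hH hH' (Or.inl ⟨?_⟩), hcentral⟩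
  have hb : (β_ P P).hom = lift (snd P P) (fst P P) := CartesianMonoidalCategory.hom_ext _ _ (by simp) (by simp)
  have h : snd P P * fst P P = fst P P * snd P P := (cancel_mono i').mp (by
    simp only [MonObj.mul_comp]
    exact hcentral _ (snd P P) (fst P P ≫ i'))
  rw [hb, ← Hom.mul_def, h, Hom.mul_def, lift_fst_snd, Category.id_comp]

end Groth.Agent.S16775
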