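import Groth.Statements.S8410
import Groth.Agent.S16775
import Groth.Agent.S5431
import Groth.Agent.H21Diag.TorusQuot
import Groth.Agent.H19Grp.ConnFibre
import Groth.Agent.H21Quot.OfKernel
import Groth.Agent.H19Grp.Kernel
import Groth.Agent.H21Diag.Transporter

set_option autoImplicit false
universe u
open CategoryTheory MonoidalCategory CartesianMonoidalCategory MonObj GrpObj AlgebraicGeometry
open SGA3x

set_option linter.style.haveILetI false
set_option backward.isDefEq.respectTransparency false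
set_option synthInstance.maxHeartbeats 400000
set_option maxHeartbeats 1000000

namespace Groth.Agent.S8410

open CategoryTheory.Limits

theorem geometricallyConnected_of_fibres {S : Scheme.{u}} (G : Over S) [GrpObj G] [LocallyOfFiniteType G.hom]
    (hconn : ∀ s : S, _root_.IsConnected (G.hom.base ⁻¹' {s})) : GeometricallyConnected G.hom := by
  have hc : ∀ s : S, ConnectedSpace (G.hom.fiber s) := fun s => by
    haveI : ConnectedSpace ↥(G.hom.base ⁻¹' {s}) := isConnected_iff_connectedSpace.mp (hconn s)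
    exact (G.hom.fiberHomeo s).symm.surjective.connectedSpace (G.hom.fiberHomeo s).symm.continuous
  refine ⟨fun Ω _ y Z fst snd h => ?_⟩
  haveI := H19Grp.irreducibleSpace_pullback_of_connected_fibres G hc y
  exact (Scheme.Hom.homeomorph h.isoPullback.inv).surjective.connectedSpace
    (Scheme.Hom.homeomorph h.isoPullback.inv).continuous

theorem isConnected_fibre_bc {S S' : Scheme.{u}} (f : S' ⟶ S) (G : Over S) [GrpObj G]
    [LocallyOfFiniteType G.hom] (hconn : ∀ s : S, _root_.IsConnected (G.hom.base ⁻¹' {s})) (s' : S') :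
    _root_.IsConnected ((Red.bc f G).hom.base ⁻¹' {s'}) := by
  haveI := geometricallyConnected_of_fibres G hconn
  haveI : GeometricallyConnected (Red.bc f G).hom := inferInstanceAs (GeometricallyConnected (pullback.snd G.hom f))
  exact (Red.bc f G).hom.isConnected_preimage_singleton s'

/-- a central homomorphism of multiplicative type to the quotient by a central subgroup of multiplicative type,
through which all central homomorphisms of multiplicative type factor, is trivial -/
theorem eq_one_of_universal {S : Scheme.{u}} {G Z Q H : Over S} [GrpObj G] [GrpObj Z] [GrpObj Q] [GrpObj H]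
    (hconn : ∀ s : S, _root_.IsConnected (G.hom.base ⁻¹' {s}))
    (z : Z ⟶ G) [IsMonHom z] [Mono z] (hZ : SGA3x.IsMultTypeFT Z)
    (hcen : ∀ (X : Over S) (x : X ⟶ Z) (g : X ⟶ G), (x ≫ z) * g = g * (x ≫ z))
    (huniv : ∀ (P : Over S) [GrpObj P] (u : P ⟶ G) [IsMonHom u], SGA3x.IsMultTypeFT P →
      (∀ (X : Over S) (x : X ⟶ P) (g : X ⟶ G), (x ≫ u) * g = g * (x ≫ u)) → ∃ w : P ⟶ Z, w ≫ z = u)
    (q : G ⟶ Q) [IsMonHom q] (hq : H21Quot.IsKernelQuot z q) (hqc : QuasiCompact q.left)
    (v : H ⟶ Q) [IsMonHom v] (hH : SGA3x.IsMultTypeFT H)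
    (hv : ∀ (X : Over S) (x : X ⟶ H) (g : X ⟶ Q), (x ≫ v) * g = g * (x ≫ v)) : v = 1 := by
  obtain ⟨hqs, hqf, hql, hker⟩ := hq
  let P : Over S := pullback q v
  let i' : P ⟶ G := pullback.fst q v
  let p : P ⟶ H := pullback.snd q v
  have hP : IsPullback i' p q v := IsPullback.of_hasPullback q v
  let j : P ⟶ G ⊗ H := lift i' p
  haveI : Mono j := ⟨fun a b hab => hP.hom_ext (by simpa [j] using congrArg (· ≫ fst G H) hab)
    (by simpa [j] using congrArg (· ≫ snd G H) hab)⟩
  obtain ⟨gP, hj⟩ : ∃ _ : GrpObj P, IsMonHom j := by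
    refine H21Diag.exists_grpObj_of_mono j ⟨hP.lift 1 1 (by rw [MonObj.one_comp, MonObj.one_comp]),
      CartesianMonoidalCategory.hom_ext _ _ ?_ ?_⟩
      (fun X a b => ⟨hP.lift ((a ≫ i') * (b ≫ i')) ((a ≫ p) * (b ≫ p)) ?_,
        CartesianMonoidalCategory.hom_ext _ _ ?_ ?_⟩)
      fun X a => ⟨hP.lift (a ≫ i')⁻¹ (a ≫ p)⁻¹ ?_, CartesianMonoidalCategory.hom_ext _ _ ?_ ?_⟩
    · simp only [j, Category.assoc, lift_fst, MonObj.one_comp, hP.lift_fst]
    · simp only [j, Category.assoc, lift_snd, MonObj.one_comp, hP.lift_snd]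
    · simp only [MonObj.mul_comp, Category.assoc, hP.w]
    · simp only [j, Category.assoc, lift_fst, MonObj.mul_comp, hP.lift_fst]
    · simp only [j, Category.assoc, lift_snd, MonObj.mul_comp, hP.lift_snd]
    · simp only [GrpObj.inv_comp, Category.assoc, hP.w]
    · simp only [j, Category.assoc, lift_fst, GrpObj.inv_comp, hP.lift_fst]
    · simp only [j, Category.assoc, lift_snd, GrpObj.inv_comp, hP.lift_snd]
  letI := gP
  haveI := hj
  haveI : IsMonHom i' := by
    rw [show i' = j ≫ fst G H from (lift_fst _ _).symm]; infer_instance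
  haveI : IsMonHom p := by
    rw [show p = j ≫ snd G H from (lift_snd _ _).symm]; infer_instance
  have hsqL := hP.map (Over.forget S)
  simp only [Over.forget_obj, Over.forget_map] at hsqL
  haveI : Surjective p.left := MorphismProperty.of_isPullback (P := @Surjective) hsqL hqs
  haveI : Flat p.left := MorphismProperty.of_isPullback (P := @Flat) hsqL hqf
  haveI : QuasiCompact p.left := MorphismProperty.of_isPullback (P := @QuasiCompact) hsqL hqc
  haveI : LocallyOfFinitePresentation p.left :=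
    MorphismProperty.of_isPullback (P := @LocallyOfFinitePresentation) hsqL hql
  have hz1 : z ≫ q = 1 := (hker z).mpr ⟨𝟙 Z, Category.id_comp z⟩
  let i₀ : Z ⟶ P := hP.lift z 1 (by rw [hz1, MonObj.one_comp])
  have hi₀ : i₀ ≫ i' = z := hP.lift_fst _ _ _
  have hi₀p : i₀ ≫ p = 1 := hP.lift_snd _ _ _
  haveI : IsMonHom i₀ := H21Diag.isMonHom_of_mul i₀ fun {T} a b => hP.hom_ext
    (by rw [Category.assoc, hi₀, MonObj.mul_comp, MonObj.mul_comp, Category.assoc, Category.assoc, hi₀])
    (by rw [Category.assoc, hi₀p, MonObj.comp_one, MonObj.mul_comp, Category.assoc, Category.assoc, hi₀p,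
      MonObj.comp_one, MonObj.comp_one, _root_.one_mul])
  have hker' : AlgGrp.IsKernel i₀ p := H19Grp.isKernel_of hi₀p
    (fun T a b h => (cancel_mono z).mp (by rw [← hi₀, ← Category.assoc, h, Category.assoc]))
    fun T x hx => by
      obtain ⟨n, hn⟩ := (hker (x ≫ i')).mp (by
        rw [Category.assoc, hP.w, ← Category.assoc, hx, MonObj.one_comp])
      exact ⟨n, hP.hom_ext (by rw [Category.assoc, hi₀, hn])
        (by rw [Category.assoc, hi₀p, MonObj.comp_one, hx])⟩
  have hlift : ∀ {T : Over S} (e : T ⟶ G), e ≫ q = 1 → ∃ h : T ⟶ Z, h ≫ z = e := fun {T} e he =>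
    (hker e).mp he
  have hinj : ∀ {T : Over S} (a b : T ⟶ Z), a ≫ z = b ≫ z → a = b := fun a b h => (cancel_mono z).mp h
  obtain ⟨c, hc⟩ := hlift (fst G P * (snd G P ≫ i') * (fst G P)⁻¹ * (snd G P ≫ i')⁻¹) (by
    simp only [MonObj.mul_comp, GrpObj.inv_comp, Category.assoc, hP.w]
    rw [← Category.assoc, ← hv _ (snd G P ≫ p) (fst G P ≫ q)]
    group)
  have hcp : ∀ {T : Over S} (g : T ⟶ G) (x : T ⟶ P),
      (lift g x ≫ c) ≫ z = g * (x ≫ i') * g⁻¹ * (x ≫ i')⁻¹ := fun g x => by
    rw [Category.assoc, hc]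
    simp only [MonObj.comp_mul, GrpObj.comp_inv, lift_fst, lift_snd_assoc]
  haveI : Flat (𝟙 G : G ⟶ G).left := inferInstanceAs (Flat (𝟙 G.left))
  haveI : Surjective (𝟙 G : G ⟶ G).left := inferInstanceAs (Surjective (𝟙 G.left))
  haveI : LocallyOfFinitePresentation (𝟙 G : G ⟶ G).left := inferInstanceAs (LocallyOfFinitePresentation (𝟙 G.left))
  haveI := H21Quot.flat_tensorHom (𝟙 G) p
  haveI := H21Quot.surjective_tensorHom (𝟙 G) p
  haveI := H21Quot.lfp_tensorHom (𝟙 G) p
  obtain ⟨c₂, hc₂, -⟩ := H21Quot.desc_unique (𝟙 G ⊗ₘ p) c fun Y u u' huv => hinj _ _ (by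
    have h1 := congrArg (fun r => r ≫ fst G H) huv
    have h2 := congrArg (fun r => r ≫ snd G H) huv
    simp only [Category.assoc, tensorHom_fst, tensorHom_snd, Category.comp_id] at h1 h2
    rw [← Category.assoc, ← Category.assoc] at h2
    obtain ⟨n, hn⟩ := hlift ((u ≫ snd G P ≫ i') * (u' ≫ snd G P ≫ i')⁻¹) (by
      simp only [MonObj.mul_comp, GrpObj.inv_comp, Category.assoc, hP.w]
      simp only [← Category.assoc]
      rw [h2, mul_inv_cancel])
    have hu2 : u ≫ snd G P ≫ i' = (n ≫ z) * (u' ≫ snd G P ≫ i') := by rw [hn, inv_mul_cancel_right]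
    simp only [Category.assoc, hc]
    simp only [MonObj.comp_mul, GrpObj.comp_inv, h1, hu2]
    set n' := n ≫ z
    set g := u' ≫ fst G P
    set x := u' ≫ snd G P ≫ i'
    have hn' : Commute g n' := (hcen Y n g).symm
    calc g * (n' * x) * g⁻¹ * (n' * x)⁻¹ = (g * n') * x * g⁻¹ * x⁻¹ * n'⁻¹ := by group
      _ = n' * (g * x * g⁻¹ * x⁻¹) * n'⁻¹ := by rw [hn'.eq]; group
      _ = g * x * g⁻¹ * x⁻¹ := by rw [hcen Y n (g * x * g⁻¹ * x⁻¹), mul_inv_cancel_right])
  have hc₂p : ∀ {T T' : Over S} (r : T' ⟶ T) (g : T ⟶ G) (a : T ⟶ H) (x : T' ⟶ P),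
      r ≫ a = x ≫ p → r ≫ lift g a ≫ c₂ = lift (r ≫ g) x ≫ c := by
    intro T T' r g a x hx
    rw [← hc₂, ← Category.assoc r, comp_lift, hx, ← Category.assoc (lift _ x), lift_map, Category.comp_id]
  obtain ⟨u, hum, hu⟩ := H21Hom.exists_family_hom G H Z (fun {T} g a => lift g a ≫ c₂)
    (fun r g a => by rw [← Category.assoc, comp_lift])
    (fun {T} g a b => by
      obtain ⟨T₁, r₁, a', hr₁, ha⟩ := H21Hom.exists_lift_cover (p := p) a
      obtain ⟨T₂, r₂, b', hr₂, hb⟩ := H21Hom.exists_lift_cover (p := p) (r₁ ≫ b)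
      let r := r₂ ≫ r₁
      haveI : Epi r.left := by
        haveI := hr₁; haveI := hr₂
        change Epi (r₂.left ≫ r₁.left)
        infer_instance
      haveI : Epi r := Over.epi_of_epi_left r
      have e1 : r ≫ a = (r₂ ≫ a') ≫ p := by simp only [r, Category.assoc]; rw [← ha]
      have e2 : r ≫ b = b' ≫ p := by simp only [r, Category.assoc]; rw [← hb]
      have e12 : r ≫ (a * b) = ((r₂ ≫ a') * b') ≫ p := by rw [MonObj.comp_mul, e1, e2, MonObj.mul_comp]
      rw [← cancel_epi r, MonObj.comp_mul, hc₂p r g _ _ e12, hc₂p r g a _ e1, hc₂p r g b _ e2]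
      refine hinj _ _ ?_
      rw [MonObj.mul_comp, hcp, hcp, hcp, MonObj.mul_comp]
      set g' := r ≫ g
      set x := (r₂ ≫ a') ≫ i'
      set y := b' ≫ i'
      obtain ⟨n, hn⟩ : ∃ n : T₂ ⟶ Z, n ≫ z = g' * y * g'⁻¹ * y⁻¹ := ⟨_, hcp g' b'⟩
      rw [← hn, show g' * (x * y) * g'⁻¹ * (x * y)⁻¹ = (g' * x * g'⁻¹) * (n ≫ z) * x⁻¹ by rw [hn]; group,
        _root_.mul_assoc _ (n ≫ z), hcen T₂ n x⁻¹, ← _root_.mul_assoc])
  haveI := hum
  have := H21Diag.isSeparated_of_multTypeFT hZ
  have := H21Diag.lfp_of_multTypeFT hZ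
  haveI : IsSeparated (Red.bc G.hom Z).hom := MorphismProperty.pullback_snd (P := @IsSeparated) _ _ ‹_›
  haveI : LocallyOfFinitePresentation (Red.bc G.hom Z).hom :=
    MorphismProperty.pullback_snd (P := @LocallyOfFinitePresentation) _ _ ‹_›
  have hu1 : u = 1 := H21Hom.eq_one_of_trivAt (H21Diag.isMultTypeFT_bc hH G.hom) u fun s => by
    refine Or.inl ⟨hconn s, ?_⟩
    have hz : (S.fromSpecResidueField s ≫ η[G].left).base (IsLocalRing.closedPoint _) = η[G].left.base s := by
      rw [Scheme.Hom.comp_apply]; exact congrArg _ (Scheme.fromSpecResidueField_apply s _)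
    rw [← hz]
    refine H21Diag.trivAt_of_field u _ fun Y r g => ?_
    obtain ⟨g, rfl⟩ := (H21Diag.bcEquiv G.hom H _).surjective g
    rw [hu]
    refine (congrArg _ ?_).trans (H21Hom.bcEquiv_one G.hom Z _)
    rw [H21Hom.homMk_eq_one (Over.mk (r ≫ S.fromSpecResidueField s ≫ η[G].left)) (r ≫ S.fromSpecResidueField s)
      (Category.assoc _ _ _).symm]
    obtain ⟨T', r', g', hr, hg'⟩ := H21Hom.exists_lift_cover (p := p) g
    haveI := hr
    haveI : Epi r' := Over.epi_of_epi_left r'
    rw [← cancel_epi r', hc₂p r' 1 g g' hg', MonObj.comp_one, MonObj.comp_one]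
    refine hinj _ _ ?_
    rw [hcp, MonObj.one_comp]
    group
  have hcentral : ∀ (X : Over S) (x : X ⟶ P) (g : X ⟶ G), (x ≫ i') * g = g * (x ≫ i') := by
    intro X x g
    let r : X ⟶ (Over.map G.hom).obj (Over.mk g.left) := Over.homMk (𝟙 X.left) ((Category.id_comp _).trans (Over.w g))
    let r' : (Over.map G.hom).obj (Over.mk g.left) ⟶ X :=
      Over.homMk (𝟙 X.left) ((Category.id_comp _).trans (Over.w g).symm)
    have h1 := hu (Over.mk g.left) (r' ≫ x ≫ p)
    rw [hu1, MonObj.comp_one, ← H21Hom.bcEquiv_one G.hom Z (Over.mk g.left)] at h1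
    have h2 := congrArg (fun t => r ≫ t) ((H21Diag.bcEquiv G.hom Z (Over.mk g.left)).injective h1).symm
    have e1 : r ≫ (Over.homMk (Over.mk g.left).hom rfl : (Over.map G.hom).obj (Over.mk g.left) ⟶ G) = g :=
      Over.OverMorphism.ext (Category.id_comp g.left)
    have e2 : r ≫ r' ≫ x ≫ p = (r ≫ r' ≫ x) ≫ p := by simp only [Category.assoc]
    have e3 : r ≫ r' ≫ x = x := Over.OverMorphism.ext (by simp [r, r'])
    simp only [MonObj.comp_one] at h2
    rw [hc₂p r _ _ _ e2, e1, e3] at h2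
    have h3 := congrArg (fun t => t ≫ z) h2
    simp only [hcp, MonObj.one_comp, mul_inv_eq_one, mul_inv_eq_iff_eq_mul] at h3
    first | exact h3.symm | (rw [_root_.one_mul] at h3; exact h3.symm)
  have hPm : SGA3x.IsMultTypeFT P := S5431.result S P Z H p i₀ hker' hZ hH (Or.inl ⟨by
    have hb : (β_ P P).hom = lift (snd P P) (fst P P) := CartesianMonoidalCategory.hom_ext _ _ (by simp) (by simp)
    have h : snd P P * fst P P = fst P P * snd P P := hP.hom_ext
      (by simp only [MonObj.mul_comp]; exact hcentral _ (snd P P) (fst P P ≫ i'))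
      (by simp only [MonObj.mul_comp]; exact H21Diag.mult_comm hH _ _)
    rw [hb, ← Hom.mul_def, h, Hom.mul_def, lift_fst_snd, Category.id_comp]⟩)
  obtain ⟨w, hw⟩ := huniv P i' hPm hcentral
  haveI := H19Grp.epi_over_of_fpqc p
  rw [← cancel_epi p, ← hP.w, ← hw, Category.assoc, hz1, MonObj.comp_one, MonObj.comp_one]

/-- Let G be an S-group scheme, smooth and affine over S with connected fibres, Z a reductive centre of
G (central, of multiplicative type, and universal after every base change for central homomorphisms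
from groups of multiplicative type and finite type), and q : G → G′ a homomorphism representing the
quotient G/Z. Then the unit subgroup is a reductive centre of G′: for every S′ → S, every central
homomorphism H → G′ ×_S S′ from an S′-group H of multiplicative type and of finite type is trivial.
(The published item b) first asserts that G/Z is representable; this row takes a representing
homomorphism q as given and states its second assertion.) -/
theorem result (S : Scheme.{u}) (G : Over S) [GrpObj G]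
    [Smooth G.hom] [IsAffineHom G.hom] (hconn : ∀ s : S, _root_.IsConnected (G.hom.base ⁻¹' {s}))
    (Z : Over S) [GrpObj Z] (z : Z ⟶ G) (hZ : (IsMonHom z ∧ Mono z ∧ SGA3x.IsMultTypeFT Z ∧
      (∀ (X : Over S) (x : X ⟶ Z) (g : X ⟶ G), (x ≫ z) * g = g * (x ≫ z)) ∧
      ∀ (S' : Scheme.{u}) (f : S' ⟶ S) (H : Over S') [GrpObj H] (v : H ⟶ Red.bc f G) [IsMonHom v],
        SGA3x.IsMultTypeFT H →
        (∀ (X : Over S') (x : X ⟶ H) (g : X ⟶ Red.bc f G), (x ≫ v) * g = g * (x ≫ v)) →
        ∃ w : H ⟶ Red.bc f Z, w ≫ (Over.pullback f).map z = v))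
    (G' : Over S) [GrpObj G'] (q : G ⟶ G') [IsMonHom q] (hq : RedSub.IsQuotient z q)
    (S' : Scheme.{u}) (f : S' ⟶ S) (H : Over S') [GrpObj H] (v : H ⟶ Red.bc f G') [IsMonHom v]
    (hH : SGA3x.IsMultTypeFT H)
    (hv : ∀ (X : Over S') (x : X ⟶ H) (g : X ⟶ Red.bc f G'), (x ≫ v) * g = g * (x ≫ v)) :
    v = 1 := by
  obtain ⟨hzm, hzmono, hZm, hcen, huniv⟩ := hZ
  haveI := hzm
  haveI := hzmono
  haveI := (Over.mapPullbackAdj f).isRightAdjoint
  haveI : Mono ((Over.pullback f).map z) := inferInstance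
  haveI : IsMonHom ((Over.pullback f).map z : Red.bc f Z ⟶ Red.bc f G) := H21Diag.isMonHom_bcMap f z
  haveI : IsMonHom ((Over.pullback f).map q : Red.bc f G ⟶ Red.bc f G') := H21Diag.isMonHom_bcMap f q
  haveI : IsAffineHom Z.hom := H21Diag.isAffineHom_of_multTypeFT hZm
  haveI : QuasiCompact q.left := S16775.quasiCompact_quotient z q hq inferInstance
  refine eq_one_of_universal (fun s => isConnected_fibre_bc f G hconn s) ((Over.pullback f).map z)
    (H21Diag.isMultTypeFT_bc hZm f) ?_ ?_ ((Over.pullback f).map q)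
    (H21Diag.isKernelQuot_bc f z q (H21Quot.isKernelQuot_of_isQuotient hq))
    (MorphismProperty.overPullbackMap (P := @QuasiCompact) _ _ ‹QuasiCompact q.left›) v hH hv
  · intro X x g
    apply (H21Diag.bcEquiv f G X).symm.injective
    rw [H21Diag.bcEquiv_symm_mul, H21Diag.bcEquiv_symm_mul]
    have h : (H21Diag.bcEquiv f G X).symm (x ≫ (Over.pullback f).map z) =
        (H21Diag.bcEquiv f Z X).symm x ≫ z := (Over.mapPullbackAdj f).homEquiv_naturality_right_symm x z
    rw [h]
    exact hcen _ _ _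
  · intro P _ u _ hP hu
    exact huniv S' f P u hP hu

end Groth.Agent.S8410
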