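import Groth.Statements.S3003
import Groth.Agent.S5247
import Groth.Agent.S8410
import Groth.Agent.H21Diag.SelfCentral
import Groth.Agent.H21Diag.MaxTorusBc

set_option autoImplicit false
universe u
open CategoryTheory MonoidalCategory CartesianMonoidalCategory MonObj GrpObj AlgebraicGeometry
open Red

set_option linter.style.haveILetI false
set_option backward.isDefEq.respectTransparency false
set_option synthInstance.maxHeartbeats 400000
set_option maxHeartbeats 1000000

namespace Groth.Agent.S3003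

theorem isMaximalTorus_postcomp {S : Scheme.{u}} {T G G' : Over S} [GrpObj T] [GrpObj G] [GrpObj G'] (φ : G ≅ G')
    [IsMonHom φ.hom] {i : T ⟶ G} (hi : Red.IsMaximalTorus i) : Red.IsMaximalTorus (i ≫ φ.hom) := by
  obtain ⟨hi1, hi2, hT, hmax⟩ := hi
  haveI := hi1
  haveI := hi2
  refine ⟨inferInstance, inferInstance, hT, fun s T' _ j _ _ f hT' hf => ?_⟩
  let F := Over.pullback (Red.geomPt s)
  haveI : IsMonHom (F.map φ.inv) := H21Diag.isMonHom_map _ φ.inv
  haveI : IsIso (F.map φ.inv) := (F.mapIso φ).isIso_inv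
  exact hmax s T' (j ≫ F.map φ.inv) f hT' (by
    rw [← Category.assoc, hf, ← Functor.map_comp, Category.assoc, Iso.hom_inv_id, Category.comp_id])

open CategoryTheory.Limits in
theorem exists_maxTorus_field {K : Type u} [Field K] [IsAlgClosed K] (G : Over (Spec (CommRingCat.of K))) [GrpObj G]
    [IsAffineHom G.hom] [LocallyOfFiniteType G.hom] :
    ∃ (r : ℕ) (i : Red.DS (Spec (CommRingCat.of K)) (Fin r → ℤ) ⟶ G), Red.IsMaximalTorus i := by
  obtain ⟨u, hu, hu'⟩ := H21Diag.exists_mono_of_subsingleton (A := Red.DS (Spec (CommRingCat.of K)) (Fin 0 → ℤ))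
    (B := G) fun a b => H21Diag.subsingleton_zero a b
  haveI := hu
  haveI := hu'
  obtain ⟨r, i, -, hi⟩ := H21Diag.exists_maxTorus_rank_ge G 0 u
  exact ⟨r, i, hi⟩

/-- Let S be a scheme, G an S-group scheme which is smooth and affine over S with connected fibres, and
s₀ ∈ S such that every maximal torus of the geometric fibre G_{s̄₀} is its own centralizer (every
point of G_{s̄₀} commuting with all points of the torus lies in it). Then there exist an étale
morphism v : Spec B → S whose image contains s₀ and a maximal torus of the base change of G to Spec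
B which is split. -/
theorem result (S : Scheme.{u}) (G : Over S) [GrpObj G] [IsAffineHom G.hom] [Smooth G.hom] (hconn : ∀ s : S, _root_.IsConnected (G.hom.base ⁻¹' {s})) (s₀ : S) (hc : ∀ (T : Over (Spec (CommRingCat.of (AlgebraicClosure (S.residueField s₀))))) [GrpObj T] (i : T ⟶ Red.geomFibre s₀ G), Red.IsMaximalTorus i → ∀ (X : Over _) (g : X ⟶ Red.geomFibre s₀ G), (∀ (X' : Over _) (x : X' ⟶ X) (t : X' ⟶ T), (x ≫ g) * (t ≫ i) = (t ≫ i) * (x ≫ g)) → ∃ t : X ⟶ T, g = t ≫ i) : ∃ (B : Type u) (_ : CommRing B) (v : Spec (CommRingCat.of B) ⟶ S), Etale v ∧ s₀ ∈ Set.range v.base ∧ ∃ (T : Over (Spec (CommRingCat.of B))) (_ : GrpObj T) (i : T ⟶ Red.bc v G), Red.IsMaximalTorus i ∧ ∃ r : ℕ, Red.IsSplitTorusWith (Fin r → ℤ) T := by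
  let K := AlgebraicClosure (S.residueField s₀)
  let z₀ := Red.geomPt s₀
  haveI hGs : Smooth G.hom := inferInstance
  have hGa : IsAffineHom G.hom := inferInstance
  haveI : Smooth (Red.geomFibre s₀ G).hom := MorphismProperty.pullback_snd (P := @Smooth) _ _ hGs
  haveI : IsAffineHom (Red.geomFibre s₀ G).hom := MorphismProperty.pullback_snd (P := @IsAffineHom) _ _ hGa
  obtain ⟨r, i₀, hi₀⟩ := exists_maxTorus_field (Red.geomFibre s₀ G)
  obtain ⟨hi₀m, hi₀mono, -, -⟩ := id hi₀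
  haveI := hi₀m
  haveI := hi₀mono
  obtain ⟨U, e, he, hsr, v, hv, hvm⟩ := H21Diag.exists_etale_splitTorus z₀ G r i₀
  haveI := he
  haveI := hv
  haveI := hvm
  rw [show z₀.base (IsLocalRing.closedPoint K) = s₀ by
    rw [Scheme.Hom.comp_apply]; exact Scheme.fromSpecResidueField_apply s₀ _] at hsr
  obtain ⟨u₀, rfl⟩ := hsr
  obtain ⟨z', hz', hz'u⟩ := H21Diag.exists_geomPt_lift' e u₀
  let F := Over.pullback z'
  let T₁ := Red.DS U (Fin r → ℤ)
  haveI : IsMonHom (F.map v) := H21Diag.isMonHom_map z' v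
  haveI : Mono (F.map v) :=
    haveI := (Over.mapPullbackAdj z').isRightAdjoint
    inferInstanceAs (Mono (F.map v))
  let θ := H21Red0.bcTrans z' e (Red.geomPt (e u₀)) hz' G
  haveI : IsMonHom θ.hom := H21Red0.isMonHom_bcTrans z' e _ hz' G
  let ε := H21Diag.bcDSIso (S := U) z' (Fin r → ℤ)
  let i' : Red.bc z' T₁ ⟶ Red.geomFibre (e u₀) G := F.map v ≫ θ.hom
  have hi' : Red.IsMaximalTorus i' := by
    refine H21Diag.isMaximalTorus_of_rank i' fun p => ⟨⊤, trivial, r, ?_, fun m w hw hw' => ?_⟩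
    · exact ⟨H21Diag.bcMapIso _ ε ≪≫ H21Diag.bcDSIso _ _⟩
    · haveI : Smooth (Red.bc (Red.geomPt p) (Red.geomFibre (e u₀) G)).hom :=
        MorphismProperty.pullback_snd (P := @Smooth) _ _ ‹Smooth (Red.geomFibre (e u₀) G).hom›
      haveI : IsAffineHom (Red.bc (Red.geomPt p) (Red.geomFibre (e u₀) G)).hom :=
        MorphismProperty.pullback_snd (P := @IsAffineHom) _ _ ‹IsAffineHom (Red.geomFibre (e u₀) G).hom›
      exact H21Diag.rank_le_of_maxTorus
        (H21Diag.isMaximalTorus_bc ‹Smooth (Red.geomFibre (e u₀) G).hom› ‹IsAffineHom (Red.geomFibre (e u₀) G).hom› i₀ _ hi₀)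
        (H21Diag.bcDSIso _ _) w
  haveI : Smooth (Red.bc e G).hom := MorphismProperty.pullback_snd (P := @Smooth) _ _ hGs
  haveI : IsAffineHom (Red.bc e G).hom := MorphismProperty.pullback_snd (P := @IsAffineHom) _ _ hGa
  have hT₁ : Red.IsTorus T₁ := H27Witt.isTorus_DS _ r
  have hM := H21Diag.isMultTypeFT_of_isTorus hT₁
  obtain ⟨C, gC, c, hC, hcl, hCs⟩ := S5247.result T₁ (Red.bc e G) hM ‹_› ‹_› v
  obtain ⟨hcm, hcmono, hCiff⟩ := hC
  haveI := hcl
  haveI := hCs
  haveI := hcm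
  haveI := hcmono
  haveI : IsAffineHom C.hom := by rw [← Over.w c]; infer_instance
  obtain ⟨f, hf⟩ := (hCiff T₁ v).mpr fun X x t => by
    rw [← MonObj.mul_comp, ← MonObj.mul_comp, H21Diag.mult_comm hM]
  obtain ⟨t, ht⟩ : ∃ t : Red.bc z' C ⟶ Red.bc z' T₁, t ≫ F.map v = F.map c := by
    obtain ⟨t, ht⟩ := hc _ i' hi' _ (F.map c ≫ θ.hom) fun X x t => by
      have h := (H21Dyn.centralizer_bc z' v c hCiff _ (F.map c)).mp ⟨𝟙 _, Category.id_comp _⟩ X x t
      simp only [i', ← Category.assoc]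
      rw [← MonObj.mul_comp, ← MonObj.mul_comp, h]
    exact ⟨t, (cancel_mono θ.hom).mp (by rw [Category.assoc]; exact ht.symm)⟩
  haveI : Mono (F.map c) :=
    haveI := (Over.mapPullbackAdj z').isRightAdjoint
    inferInstanceAs (Mono (F.map c))
  haveI : IsIso (F.map f) := ⟨t, (cancel_mono (F.map v)).mp (by
      rw [Category.assoc, ht, ← Functor.map_comp, hf]; exact (Category.id_comp _).symm),
    (cancel_mono (F.map c)).mp (by
      rw [Category.assoc, ← Functor.map_comp, hf, ht]; exact (Category.id_comp _).symm)⟩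
  obtain ⟨w, hw⟩ := H21Diag.exists_factor_geomPt z' hz'u
  haveI : IsIso ((Over.pullback (Red.geomPt u₀)).map f) := by
    haveI : IsIso ((Over.pullback w).map ((Over.pullback (Red.geomPt u₀)).map f)) := by
      subst hw
      exact (NatIso.isIso_map_iff (Over.pullbackComp w (Red.geomPt u₀)) f).mp ‹IsIso (F.map f)›
    exact H21Diag.isIso_of_isIso_bc w _
  obtain ⟨V, hV, hViso⟩ := H21Diag.exists_nhd_isIso_centralizer
    (fun p => S8410.isConnected_fibre_bc e G hconn p) v hT₁ c hCiff f hf u₀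
  haveI := hViso
  have hTV : Red.IsMaximalTorus ((Over.pullback V.ι).map v) := by
    haveI : IsMonHom ((Over.pullback V.ι).map v) := H21Diag.isMonHom_map _ v
    haveI : Mono ((Over.pullback V.ι).map v) :=
      haveI := (Over.mapPullbackAdj V.ι).isRightAdjoint
      inferInstance
    exact H21Diag.isMaximalTorus_of_centralizer _ (H21Diag.isTorus_bc hT₁ _) ((Over.pullback V.ι).map c)
      (H21Dyn.centralizer_bc V.ι v c hCiff) ((Over.pullback V.ι).map f) (by rw [← Functor.map_comp, hf])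
  obtain ⟨W, hW, hxW, -⟩ := exists_isAffineOpen_mem_and_subset (X := (V : Scheme.{u})) (x := (⟨u₀, hV⟩ : ↥V)) (U := ⊤) trivial
  let a := hW.fromSpec
  let d := a ≫ V.ι
  haveI : Etale ((d ≫ e) : _ ⟶ S) := by dsimp only [d]; infer_instance
  haveI : Smooth (Red.bc V.ι (Red.bc e G)).hom := MorphismProperty.pullback_snd (P := @Smooth) _ _ ‹_›
  haveI : IsAffineHom (Red.bc V.ι (Red.bc e G)).hom := MorphismProperty.pullback_snd (P := @IsAffineHom) _ _ ‹_›
  have hmax := H21Diag.isMaximalTorus_bc ‹Smooth (Red.bc V.ι (Red.bc e G)).hom›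
    ‹IsAffineHom (Red.bc V.ι (Red.bc e G)).hom› _ a hTV
  let φ := H21Red0.bcTrans a V.ι d rfl (Red.bc e G) ≪≫ H21Red0.bcTrans d e (d ≫ e) rfl G
  haveI : IsMonHom φ.hom := by
    haveI := H21Red0.isMonHom_bcTrans a V.ι d rfl (Red.bc e G)
    haveI := H21Red0.isMonHom_bcTrans d e (d ≫ e) rfl G
    dsimp only [φ, Iso.trans_hom]
    infer_instance
  obtain ⟨q, hq⟩ : (⟨u₀, hV⟩ : ↥V) ∈ Set.range a := hW.range_fromSpec.ge hxW
  refine ⟨Γ(V, W), inferInstance, d ≫ e, ‹_›, ⟨q, ?_⟩, _, inferInstance,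
    (Over.pullback a).map ((Over.pullback V.ι).map v) ≫ φ.hom, isMaximalTorus_postcomp φ hmax, r,
    ⟨H21Diag.bcMapIso a (H21Diag.bcDSIso V.ι _) ≪≫ H21Diag.bcDSIso a _⟩⟩
  show (a ≫ V.ι ≫ e) q = e u₀
  rw [Scheme.Hom.comp_apply, hq, Scheme.Hom.comp_apply]
  rfl

end Groth.Agent.S3003
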