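import Groth.Statements.S5255
import Groth.Agent.H21Diag.Conj
import Groth.Agent.H21Diag.FiniteType
-- import your own Groth.Agent.* helpers here

set_option autoImplicit false
open CategoryTheory MonoidalCategory CartesianMonoidalCategory MonObj GrpObj AlgebraicGeometry
universe u
open SGA3x

namespace Groth.Agent.S5255

/-- Let K be an S-group locally of finite type over S whose fibres are connected, and i : H ⟶ K a
subgroup scheme of multiplicative type and of finite type which is normal in K. Then H is central in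
K: for every S-scheme X, every X-point of K commutes with (the image of) every X-point of H. -/
theorem result {S : Scheme.{u}} (K H : Over S) [GrpObj K] [GrpObj H]
    [LocallyOfFiniteType K.hom] (hconn : ∀ s : S, ConnectedSpace ↥(Limits.pullback K.hom (S.fromSpecResidueField s)))
    (i : H ⟶ K) [IsMonHom i] [Mono i] (hH : SGA3x.IsMultTypeFT H) (hn : AlgGrp.IsNormalHom i) :
    ∀ (X : Over S) (k : X ⟶ K) (h : X ⟶ H), k * (h ≫ i) = (h ≫ i) * k := by
  intro X k h
  -- the commutator with the universal point of `K`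
  let T := K.left
  let κ : Over T ⥤ Over S := Over.map K.hom
  let pt : ∀ (Y : Over T), κ.obj Y ⟶ K := fun Y => Over.homMk Y.hom rfl
  let N : ∀ {Y : Over T}, (κ.obj Y ⟶ H) → (κ.obj Y ⟶ H) := fun {Y} n =>
    (hn (κ.obj Y) (pt Y) n).choose * n⁻¹
  have hN : ∀ {Y : Over T} (n : κ.obj Y ⟶ H),
      (hn (κ.obj Y) (pt Y) n).choose ≫ i = pt Y * (n ≫ i) * (pt Y)⁻¹ :=
    fun {Y} n => (hn (κ.obj Y) (pt Y) n).choose_spec.symm
  have hNmul : ∀ {Y : Over T} (n m : κ.obj Y ⟶ H), N (n * m) = N n * N m := by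
    intro Y n m
    have e : (hn (κ.obj Y) (pt Y) (n * m)).choose =
        (hn (κ.obj Y) (pt Y) n).choose * (hn (κ.obj Y) (pt Y) m).choose := by
      rw [← cancel_mono i, hN, MonObj.mul_comp, MonObj.mul_comp, hN, hN]
      group
    have key : ∀ a b c d : κ.obj Y ⟶ H, a * b * (c * d)⁻¹ = a * c⁻¹ * (b * d⁻¹) := by
      intro a b c d
      rw [_root_.mul_inv_rev, _root_.mul_assoc a b, ← _root_.mul_assoc b,
        H21Diag.mult_comm hH (b * d⁻¹) c⁻¹, ← _root_.mul_assoc a]
    exact (congrArg (· * (n * m)⁻¹) e).trans (key _ _ _ _)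
  have hNnat : ∀ {Y Y' : Over T} (t : Y' ⟶ Y) (n : κ.obj Y ⟶ H), κ.map t ≫ N n = N (κ.map t ≫ n) := by
    intro Y Y' t n
    have hp : κ.map t ≫ pt Y = pt Y' := Over.OverMorphism.ext (Over.w t)
    have e : κ.map t ≫ (hn (κ.obj Y) (pt Y) n).choose = (hn (κ.obj Y') (pt Y') (κ.map t ≫ n)).choose := by
      rw [← cancel_mono i, Category.assoc, hN, hN, MonObj.comp_mul, MonObj.comp_mul, GrpObj.comp_inv, hp,
        Category.assoc]
    change κ.map t ≫ (_ * n⁻¹) = _ * (κ.map t ≫ n)⁻¹
    rw [MonObj.comp_mul, GrpObj.comp_inv, e]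
  let E : ∀ Y : Over T, (κ.obj Y ⟶ H) ≃ (Y ⟶ Red.bc K.hom H) := H21Diag.bcEquiv K.hom H
  let f : Red.bc K.hom H ⟶ Red.bc K.hom H := E _ (N ((E _).symm (𝟙 _)))
  have hf : ∀ {Y : Over T} (a : Y ⟶ Red.bc K.hom H), a ≫ f = E Y (N ((E Y).symm a)) := by
    intro Y a
    have h1 : (E Y).symm a = κ.map a ≫ (E _).symm (𝟙 _) :=
      ((congrArg (E Y).symm (Category.comp_id a)).symm).trans
        ((Over.mapPullbackAdj K.hom).homEquiv_naturality_left_symm a (𝟙 _))
    rw [h1, ← hNnat]
    exact ((Over.mapPullbackAdj K.hom).homEquiv_naturality_left a _).symm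
  have : IsMonHom f := H21Diag.isMonHom_of_mul f (fun {Y} a b => by
    rw [hf, hf, hf]
    exact ((congrArg (fun n => E Y (N n)) (H21Diag.bcEquiv_symm_mul K.hom H Y a b)).trans
      (congrArg (E Y) (hNmul _ _))).trans (H21Diag.bcEquiv_mul K.hom H Y _ _))
  have hHT := H21Diag.isMultTypeFT_bc hH K.hom
  have := H21Diag.isSeparated_of_multTypeFT hHT
  have := H21Diag.lft_of_multTypeFT hHT
  have : LocallyOfFinitePresentation (Limits.pullback.diagonal (Red.bc K.hom H).hom) := S4599.result _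
  obtain ⟨U, hUc, hU, hU1⟩ := H21Diag.exists_trivial_locus f hHT inferInstance
  -- the unit section
  have hunit : ∀ s : S, (η[K]).left.base s ∈ U := by
    intro s
    rw [hU]
    let z : Spec (CommRingCat.of (S.residueField s)) ⟶ T := S.fromSpecResidueField s ≫ (η[K]).left
    have hz : z.base (IsLocalRing.closedPoint (S.residueField s)) = (η[K]).left.base s := by
      exact congrArg (η[K]).left.base (Scheme.fromSpecResidueField_apply s _)
    rw [← hz]
    refine H21Diag.trivAt_of_field f z fun Y p g => ?_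
    rw [hf]
    have hp : pt (Over.mk (p ≫ z) : Over T) = 1 := by
      refine Over.OverMorphism.ext ?_
      rw [Hom.one_def, Over.comp_left]
      have he : (η[K]).left ≫ K.hom = 𝟙 S := Over.w _
      change p ≫ z = ((p ≫ z) ≫ K.hom) ≫ _
      simp only [z, Category.assoc, he]
      simp only [← Category.assoc, Category.comp_id]
    have hN1 : ∀ n, N (Y := Over.mk (p ≫ z)) n = 1 := fun n => by
      have e : (hn (κ.obj (Over.mk (p ≫ z))) (pt _) n).choose = n := by
        rw [← cancel_mono i, hN, hp, _root_.one_mul, inv_one, _root_.mul_one]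
      change _ * n⁻¹ = 1
      rw [e, mul_inv_cancel]
    rw [hN1]
    have h2 := H21Diag.bcEquiv_mul K.hom H (Over.mk (p ≫ z)) 1 1
    rw [_root_.mul_one] at h2
    exact left_eq_mul.mp h2
  have htop : ∀ x : T, x ∈ U := by
    intro x
    let s := K.hom.base x
    let π := Limits.pullback.fst K.hom (S.fromSpecResidueField s)
    have := hconn s
    have hcl : IsClopen (π.base ⁻¹' (U : Set T)) :=
      IsClopen.preimage (⟨hUc, U.isOpen⟩ : IsClopen (U : Set T)) π.continuous
    have hxr : ∀ y : T, K.hom.base y = s → y ∈ Set.range π.base := by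
      intro y hy
      rw [Scheme.Pullback.range_fst, Scheme.range_fromSpecResidueField]
      exact hy
    obtain ⟨e₀, he₀⟩ := hxr ((η[K]).left.base s) (by
      have he : (η[K]).left ≫ K.hom = 𝟙 S := Over.w _
      exact (Scheme.Hom.comp_apply _ _ s).symm.trans (congrArg (fun z : S ⟶ S => z.base s) he))
    have hne : (π.base ⁻¹' (U : Set T)).Nonempty := ⟨e₀, by rw [Set.mem_preimage, he₀]; exact hunit s⟩
    obtain ⟨x₀, hx₀⟩ := hxr x rfl
    have : x₀ ∈ π.base ⁻¹' (U : Set T) := (hcl.eq_univ hne).symm ▸ Set.mem_univ x₀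
    rwa [Set.mem_preimage, hx₀] at this
  -- evaluate at the given points
  let Y : Over T := Over.mk k.left
  let τ : X ⟶ κ.obj Y := Over.homMk (𝟙 X.left) (by
    change 𝟙 X.left ≫ k.left ≫ K.hom = X.hom
    rw [Category.id_comp, Over.w k])
  let τ' : κ.obj Y ⟶ X := Over.homMk (𝟙 X.left) (by
    change 𝟙 X.left ≫ X.hom = k.left ≫ K.hom
    rw [Category.id_comp, Over.w k])
  have hτ : τ ≫ τ' = 𝟙 X := Over.OverMorphism.ext (Category.id_comp _)
  have hk : τ ≫ pt Y = k := Over.OverMorphism.ext (Category.id_comp _)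
  obtain ⟨p, hp⟩ : ∃ p : X.left ⟶ (U : Scheme.{u}), p ≫ U.ι = k.left :=
    ⟨IsOpenImmersion.lift U.ι k.left (by rw [Scheme.Opens.range_ι]; exact fun y _ => htop y),
      IsOpenImmersion.lift_fac _ _ _⟩
  have h1 : N (τ' ≫ h) = 1 := by
    have h3 := H21Diag.comp_eq_one_of_pullback U.ι f hU1 (y := k.left) p hp (E Y (τ' ≫ h))
    rw [hf, Equiv.symm_apply_apply] at h3
    refine (E Y).injective (h3.trans ?_)
    have h2 := H21Diag.bcEquiv_mul K.hom H Y 1 1
    rw [_root_.mul_one] at h2
    exact (left_eq_mul.mp h2).symm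
  have h4 : (hn (κ.obj Y) (pt Y) (τ' ≫ h)).choose = τ' ≫ h := mul_inv_eq_one.mp h1
  have h5 := hN (τ' ≫ h)
  rw [h4, Category.assoc] at h5
  have h6 := congrArg (τ ≫ ·) h5
  simp only [MonObj.comp_mul, GrpObj.comp_inv, hk] at h6
  rw [← Category.assoc, hτ, Category.id_comp] at h6
  exact eq_mul_inv_iff_mul_eq.mp h6 |>.symm

end Groth.Agent.S5255
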