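import Groth.Statements.S8402
import Groth.Agent.H21Diag.RankZeroTorus

set_option autoImplicit false
universe u
open CategoryTheory MonoidalCategory CartesianMonoidalCategory MonObj GrpObj AlgebraicGeometry
open SGA3x

set_option linter.style.haveILetI false
set_option backward.isDefEq.respectTransparency false
set_option synthInstance.maxHeartbeats 400000
set_option maxHeartbeats 1000000

namespace Groth.Agent.S8402

open CategoryTheory.Limits in
/-- central points over a piece lift to the kernel inside a self-centralising torus -/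
theorem exists_central_lift {S P : Scheme.{u}} {G : Over S} [GrpObj G] (e : P ⟶ S) {T DR : Over P}
    (i : T ⟶ Red.bc e G) (q : DR ⟶ T) (W : P.Opens)
    (hself : ∀ (X : Over P) (y : X ⟶ Red.bc e G),
      (∀ (X' : Over P) (x : X' ⟶ X) (r : X' ⟶ T), (x ≫ y) * (r ≫ i) = (r ≫ i) * (x ≫ y)) →
      ∃ t : X ⟶ T, t ≫ i = y)
    (hK : ∀ (X : Over P), Set.range X.hom.base ⊆ (W : Set P) → ∀ t : X ⟶ T,
      (∀ (X' : Over P) (x : X' ⟶ X) (y : X' ⟶ Red.bc e G), ((x ≫ t) ≫ i) * y = y * ((x ≫ t) ≫ i)) →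
      ∃ r : X ⟶ DR, r ≫ q = t)
    {X : Over S} (g : X ⟶ G) (hg : ∀ (X' : Over S) (x : X' ⟶ X) (y : X' ⟶ G), (x ≫ g) * y = y * (x ≫ g)) :
    ∃ l : pullback X.hom (W.ι ≫ e) ⟶ (Red.bc W.ι DR).left,
      l ≫ ((Over.pullback W.ι).map (q ≫ i) ≫ (H21Red0.bcTrans W.ι e (W.ι ≫ e) rfl G).hom).left ≫
          pullback.fst G.hom (W.ι ≫ e) = pullback.fst X.hom (W.ι ≫ e) ≫ g.left ∧
      l ≫ (Red.bc W.ι DR).hom = pullback.snd X.hom (W.ι ≫ e) := by
  let XR : Over P := Over.mk (pullback.snd X.hom (W.ι ≫ e) ≫ W.ι)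
  let c : (Over.map e).obj XR ⟶ X := Over.homMk (pullback.fst X.hom (W.ι ≫ e))
    (pullback.condition.trans (Category.assoc _ _ _).symm)
  let gR : XR ⟶ Red.bc e G := H21Diag.bcEquiv e G XR (c ≫ g)
  have hgR : ∀ (X' : Over P) (x : X' ⟶ XR) (y : X' ⟶ Red.bc e G), (x ≫ gR) * y = y * (x ≫ gR) := by
    intro X' x y
    apply (H21Diag.bcEquiv e G X').symm.injective
    rw [H21Diag.bcEquiv_symm_mul, H21Diag.bcEquiv_symm_mul,
      show (H21Diag.bcEquiv e G X').symm (x ≫ gR) = ((Over.map e).map x ≫ c) ≫ g by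
        rw [Category.assoc]
        exact ((Over.mapPullbackAdj e).homEquiv_naturality_left_symm x gR).trans
          (congrArg ((Over.map e).map x ≫ ·) (Equiv.symm_apply_apply _ _))]
    exact hg _ _ _
  obtain ⟨t, ht⟩ := hself XR gR fun X' x r => hgR X' x (r ≫ i)
  obtain ⟨r, hr⟩ := hK XR (by
    rintro _ ⟨a, rfl⟩
    exact ((pullback.snd X.hom (W.ι ≫ e)).base a).2) t fun X' x y => by
      rw [Category.assoc, ht]; exact hgR X' x y
  refine ⟨pullback.lift r.left (pullback.snd X.hom (W.ι ≫ e)) (Over.w r), ?_, pullback.lift_snd _ _ _⟩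
  have h1 : r.left ≫ (q ≫ i).left = gR.left := by
    rw [← Over.comp_left, ← Category.assoc, hr, ht]
  have h3 : ((Over.pullback W.ι).map (q ≫ i)).left ≫ pullback.fst (pullback.snd G.hom e) W.ι =
      pullback.fst DR.hom W.ι ≫ (q ≫ i).left := pullback.lift_fst _ _ _
  rw [Over.comp_left, Category.assoc, H21Red0.bcTrans_fst, reassoc_of% h3, pullback.lift_fst_assoc,
    reassoc_of% h1]
  exact H21Diag.bcEquiv_left_fst e G XR (c ≫ g)

open CategoryTheory.Limits in
/-- the central points lying over an affine piece with a self-centralising split maximal torus -/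
theorem exists_central_piece {S : Scheme.{u}} (G : Over S) [GrpObj G] [Smooth G.hom] [IsAffineHom G.hom]
    (hconn : ∀ s : S, _root_.IsConnected (G.hom.base ⁻¹' {s})) (h0 : SGA3x.UnipotentRankZero G) (s : S) :
    ∃ (U : Scheme.{u}) (π : U ⟶ S) (Z' : Over U) (_ : GrpObj Z') (u : Z' ⟶ Red.bc π G),
      Etale π ∧ s ∈ Set.range π.base ∧ IsMonHom u ∧ SGA3x.IsMultTypeFT Z' ∧
      (∀ (X : Over U) (x : X ⟶ Z') (y : X ⟶ Red.bc π G), (x ≫ u) * y = y * (x ≫ u)) ∧
      ∀ (X : Over S) (g : X ⟶ G), (∀ (X' : Over S) (x : X' ⟶ X) (y : X' ⟶ G), (x ≫ g) * y = y * (x ≫ g)) →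
        ∃ l : pullback X.hom π ⟶ Z'.left,
          l ≫ u.left ≫ pullback.fst G.hom π = pullback.fst X.hom π ≫ g.left ∧
          l ≫ Z'.hom = pullback.snd X.hom π := by
  obtain ⟨R, e, m, i, he, ⟨p, hp⟩, hi, hself⟩ := H21Diag.exists_selfCentral_nhd G hconn h0 s
  haveI := he
  obtain ⟨hi1, -, -, -⟩ := id hi
  haveI := hi1
  haveI : AddGroup.FG (Fin m → ℤ) := Module.Finite.iff_addGroup_fg.mp inferInstance
  have hGs : Smooth G.hom := inferInstance
  have hGa : IsAffineHom G.hom := inferInstance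
  haveI : Smooth (Red.bc e G).hom := MorphismProperty.pullback_snd (P := @Smooth) _ _ hGs
  haveI : IsAffineHom (Red.bc e G).hom := MorphismProperty.pullback_snd (P := @IsAffineHom) _ _ hGa
  haveI := H21Diag.geometricallyConnected_of_fibres G hconn
  haveI : GeometricallyConnected (Red.bc e G).hom :=
    inferInstanceAs (GeometricallyConnected (pullback.snd G.hom e))
  obtain ⟨W, Λ, hpW, hC, hK⟩ := H21Diag.exists_nhd_centralType (R := R) (G := Red.bc e G)
    (fun t => (Red.bc e G).hom.isConnected_preimage_singleton t) i p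
  let q : Red.DS (Spec R) ((Fin m → ℤ) ⧸ Λ) ⟶ Red.DS (Spec R) (Fin m → ℤ) :=
    Red.DSmap _ (QuotientAddGroup.mk' Λ)
  haveI : Mono q := Groth.Agent.H18Torsor.DiagExact.mono_DSmap _ (QuotientAddGroup.mk'_surjective Λ)
  haveI : IsMonHom q := H21Diag.isMonHom_DSmap _ _
  obtain ⟨⟨hu1, -⟩, hu3, -⟩ := H21Diag.pieceCentre_of_kernel e G hconn i hi q W hC hK
  refine ⟨W, W.ι ≫ e, Red.bc W.ι (Red.DS (Spec R) ((Fin m → ℤ) ⧸ Λ)), inferInstance,
    (Over.pullback W.ι).map (q ≫ i) ≫ (H21Red0.bcTrans W.ι e (W.ι ≫ e) rfl G).hom, inferInstance,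
    ⟨⟨p, hpW⟩, (Scheme.Hom.comp_apply _ _ _).trans hp⟩, hu1,
    H21Diag.isMultTypeFT_bc (H21Diag.isMultTypeFT_DS (Spec R) ((Fin m → ℤ) ⧸ Λ)) W.ι, hu3, fun X g hg => ?_⟩
  exact exists_central_lift e i q W hself hK g hg

open CategoryTheory.Limits in
/-- central points factor through the reductive centre -/
theorem exists_factor_central {S : Scheme.{u}} (G : Over S) [GrpObj G] [Smooth G.hom] [IsAffineHom G.hom]
    (hconn : ∀ s : S, _root_.IsConnected (G.hom.base ⁻¹' {s})) (h0 : SGA3x.UnipotentRankZero G)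
    {Z : Over S} [GrpObj Z] (z : Z ⟶ G) [Mono z]
    (hcen : ∀ (X : Over S) (x : X ⟶ Z) (g : X ⟶ G), (x ≫ z) * g = g * (x ≫ z))
    (huniv : ∀ (S' : Scheme.{u}) (f : S' ⟶ S) (H : Over S') [GrpObj H] (v : H ⟶ Red.bc f G) [IsMonHom v],
        SGA3x.IsMultTypeFT H →
        (∀ (X : Over S') (x : X ⟶ H) (g : X ⟶ Red.bc f G), (x ≫ v) * g = g * (x ≫ v)) →
        ∃ w : H ⟶ Red.bc f Z, w ≫ (Over.pullback f).map z = v)
    {X : Over S} (g : X ⟶ G) (hg : ∀ (X' : Over S) (x : X' ⟶ X) (y : X' ⟶ G), (x ≫ g) * y = y * (x ≫ g)) :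
    ∃ t : X ⟶ Z, t ≫ z = g := by
  haveI : Mono z.left := (Over.forget S).map_mono z
  choose U π Z' gZ' u hπ hs hu hZ' hcu hlift using exists_central_piece G hconn h0
  let F : (∐ U) ⟶ S := Sigma.desc π
  haveI : Etale F := IsZariskiLocalAtSource.sigmaDesc (P := @Etale) hπ
  haveI : Surjective F := ⟨fun s => ⟨(Sigma.ι U s).base (hs s).choose, by
    rw [← Scheme.Hom.comp_apply, Sigma.ι_desc]; exact (hs s).choose_spec⟩⟩
  have hF := H21Cent.singleton_mem_fpqc F (H21Diag.qc_cover_of_openMap F F.isOpenMap)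
  have key : ∀ k, ∃ b : pullback X.hom (π k) ⟶ Z.left, b ≫ z.left = pullback.fst X.hom (π k) ≫ g.left := by
    intro k
    haveI := hu k
    obtain ⟨w, hw⟩ := huniv (U k) (π k) (Z' k) (u k) (hZ' k) (hcu k)
    obtain ⟨l, hl, -⟩ := hlift k X g hg
    refine ⟨l ≫ w.left ≫ pullback.fst Z.hom (π k), ?_⟩
    have h1 : ((Over.pullback (π k)).map z).left ≫ pullback.fst G.hom (π k) = pullback.fst Z.hom (π k) ≫ z.left :=
      pullback.lift_fst _ _ _
    rw [Category.assoc, Category.assoc, ← h1, ← Category.assoc w.left, ← Over.comp_left, hw, hl]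
  choose b hb using key
  let 𝒰 := Precoverage.ZeroHypercover.pullback₁ (pullback.fst F X.hom) (sigmaOpenCover U)
  let n : ∀ k, pullback (pullback.fst F X.hom) (Sigma.ι U k) ⟶ pullback X.hom (π k) := fun k =>
    pullback.lift (pullback.fst _ _ ≫ pullback.snd F X.hom) (pullback.snd _ _) (by
      rw [Category.assoc, ← pullback.condition, ← Category.assoc, pullback.condition, Category.assoc,
        Sigma.ι_desc])
  have hn : ∀ k, (n k ≫ b k) ≫ z.left = pullback.fst _ _ ≫ pullback.snd F X.hom ≫ g.left := fun k => by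
    rw [Category.assoc, hb, ← Category.assoc, pullback.lift_fst, Category.assoc]
  let m : pullback F X.hom ⟶ Z.left := Scheme.Cover.glueMorphisms 𝒰 (fun k => n k ≫ b k) (fun k l => by
    refine (cancel_mono z.left).mp (((Category.assoc _ _ _).trans (congrArg (_ ≫ ·) (hn k))).trans
      (Eq.trans ?_ ((Category.assoc _ _ _).trans (congrArg (_ ≫ ·) (hn l))).symm))
    rw [← Category.assoc, ← Category.assoc]
    exact congrArg (· ≫ pullback.snd F X.hom ≫ g.left) pullback.condition)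
  obtain ⟨c, hc⟩ := H21Cent.exists_lift_desc F hF X.hom z.left g.left m (Scheme.Cover.hom_ext 𝒰 _ _ fun k => by
    rw [Scheme.Cover.ι_glueMorphisms_assoc]
    exact hn k)
  refine ⟨Over.homMk c ?_, Over.OverMorphism.ext hc⟩
  rw [← Over.w z, ← Category.assoc, hc, Over.w]

/-- Let G be an S-group scheme, smooth and affine over S with connected fibres, of unipotent rank zero
(in each geometric fibre the Cartan subgroups are the maximal tori). Then the centre of G coincides
with its reductive centre; in particular the centre of G is represented by a subgroup scheme of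
multiplicative type, which is a reductive centre of G. -/
theorem result (S : Scheme.{u}) (G : Over S) [GrpObj G]
    [Smooth G.hom] [IsAffineHom G.hom] (hconn : ∀ s : S, _root_.IsConnected (G.hom.base ⁻¹' {s})) (h0 : SGA3x.UnipotentRankZero G) :
    ∃ (Z : Over S) (_ : GrpObj Z) (z : Z ⟶ G), Red.IsCentre z ∧ (IsMonHom z ∧ Mono z ∧ SGA3x.IsMultTypeFT Z ∧
      (∀ (X : Over S) (x : X ⟶ Z) (g : X ⟶ G), (x ≫ z) * g = g * (x ≫ z)) ∧
      ∀ (S' : Scheme.{u}) (f : S' ⟶ S) (H : Over S') [GrpObj H] (v : H ⟶ Red.bc f G) [IsMonHom v],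
        SGA3x.IsMultTypeFT H →
        (∀ (X : Over S') (x : X ⟶ H) (g : X ⟶ Red.bc f G), (x ≫ v) * g = g * (x ≫ v)) →
        ∃ w : H ⟶ Red.bc f Z, w ≫ (Over.pullback f).map z = v) := by
  have hr := H21Diag.redRankLocallyConstant_of_unipotentRankZero G hconn h0
  obtain ⟨Z, gZ, z, hz⟩ := S8399.result S G hconn hr
  obtain ⟨hz1, hz2, hzM, hcen, huniv⟩ := id hz
  letI := gZ
  haveI := hz1
  haveI := hz2
  refine ⟨Z, gZ, z, ⟨hz1, hz2, fun X g => ⟨?_, fun hg => ?_⟩⟩, hz⟩
  · rintro ⟨t, rfl⟩ X' x h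
    rw [← Category.assoc]
    exact hcen X' (x ≫ t) (h ≫ 𝟙 G)
  · exact exists_factor_central G hconn h0 z hcen huniv g fun X' x y => by
      have := hg X' x y
      rwa [Category.comp_id] at this

end Groth.Agent.S8402
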