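import Groth.Statements.S16234
import Mathlib.NumberTheory.Padics.PadicIntegers
import Mathlib.Order.CompletePartialOrder
import Mathlib.RingTheory.Flat.FaithfullyFlat.Algebra
import Mathlib.RingTheory.HopkinsLevitzki
import Mathlib.RingTheory.Noetherian.OfPrime
import Mathlib.RingTheory.SimpleRing.Principal
import Mathlib.RingTheory.Support
import Mathlib.RingTheory.WittVector.Domain
import Mathlib.RingTheory.WittVector.Teichmuller

set_option autoImplicit false
universe u v
open CAlg

namespace Groth.Agent.S16234

/-- For a finitely generated module M over a Noetherian commutative ring A, every prime ideal in the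
support of M is a maximal ideal if and only if M has finite length. -/
theorem result (A : Type u) [CommRing A] [IsNoetherianRing A]
    (M : Type v) [AddCommGroup M] [Module A M] [Module.Finite A M] :
    (∀ p ∈ Module.support A M, p.asIdeal.IsMaximal) ↔ IsFiniteLength A M := by
  classical
  letI : Module (A ⧸ Module.annihilator A M) M := Module.IsTorsionBySet.module (Module.isTorsionBySet_annihilator A M)
  have : IsScalarTower A (A ⧸ Module.annihilator A M) M := Module.IsTorsionBySet.isScalarTower _
  rw [Module.support_eq_zeroLocus, isFiniteLength_iff_isNoetherian_isArtinian]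
  constructor
  · intro h
    refine ⟨inferInstance, ?_⟩
    have : Ring.KrullDimLE 0 (A ⧸ Module.annihilator A M) := Ring.krullDimLE_zero_iff.mpr fun P hP => by
      have hp : (P.comap (Ideal.Quotient.mk (Module.annihilator A M))).IsPrime := Ideal.IsPrime.comap _
      have := h ⟨_, hp⟩ (by intro x hx; simp [Ideal.Quotient.eq_zero_iff_mem.mpr hx])
      rcases Ideal.map_eq_top_or_isMaximal_of_surjective _ (Ideal.Quotient.mk_surjective (I := Module.annihilator A M)) this with h' | h' <;>
        rw [Ideal.map_comap_of_surjective _ Ideal.Quotient.mk_surjective] at h'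
      · exact absurd h' hP.ne_top
      · exact h'
    have : Module.Finite (A ⧸ Module.annihilator A M) M := Module.Finite.of_restrictScalars_finite A _ M
    have : IsArtinianRing (A ⧸ Module.annihilator A M) := isArtinianRing_iff_krullDimLE_zero.mpr inferInstance
    have : IsArtinian (A ⧸ Module.annihilator A M) M := isArtinian_of_fg_of_artinian' 
    exact (LinearMap.isArtinian_iff_of_bijective (σ := Ideal.Quotient.mk (Module.annihilator A M))
      { toFun := id, map_add' := fun _ _ => rfl, map_smul' := fun r m => (algebraMap_smul (A ⧸ Module.annihilator A M) r m).symm }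
      Function.bijective_id).mpr this
  · rintro ⟨-, hart⟩ p hp
    obtain ⟨n, g, hg⟩ := Module.Finite.exists_fin (R := A) (M := M)
    let φ : A →ₗ[A] (Fin n → M) := LinearMap.pi fun i => LinearMap.toSpanSingleton A M (g i)
    have hker : LinearMap.ker φ = Module.annihilator A M := by
      ext a
      simp only [LinearMap.mem_ker, φ, funext_iff, LinearMap.pi_apply, LinearMap.toSpanSingleton_apply, Pi.zero_apply]
      rw [← Submodule.annihilator_top, ← hg, Submodule.mem_annihilator_span]
      simp
    have : IsArtinian A (A ⧸ Module.annihilator A M) := by
      rw [← hker]; exact LinearEquiv.isArtinian_iff (φ.quotKerEquivRange) |>.mpr inferInstance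
    have : IsArtinianRing (A ⧸ Module.annihilator A M) := isArtinian_of_tower A this
    have hle : Module.annihilator A M ≤ p.asIdeal := hp
    have hP : (p.asIdeal.map (Ideal.Quotient.mk (Module.annihilator A M))).IsPrime :=
      Ideal.map_isPrime_of_surjective Ideal.Quotient.mk_surjective (by simpa using hle)
    have := Ideal.comap_isMaximal_of_surjective _ (Ideal.Quotient.mk_surjective (I := Module.annihilator A M))
      (K := p.asIdeal.map (Ideal.Quotient.mk _)) (H := Ideal.isMaximal_of_isPrime _)
    rwa [Ideal.comap_map_of_surjective _ Ideal.Quotient.mk_surjective, ← RingHom.ker_eq_comap_bot, Ideal.mk_ker, sup_of_le_left hle] at this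

end Groth.Agent.S16234
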