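import Groth.Statements.S19962
import Groth.Agent.H3CAlg.BuchsbaumEisenbud

set_option autoImplicit false
universe u
open CAlg

namespace Groth.Agent.S19962

/-- Let R be a Noetherian commutative ring, not assumed local, and 0 → R^(n_e) → ⋯ → R^(n_1) → R^(n_0) a
complex of finite free modules with 1 ≤ e, the map R^(n_(i+1)) → R^(n_i) being given by the matrix A
i. Suppose that for every 1 ≤ j ≤ e the matrix of R^(n_j) → R^(n_(j-1)) has rank n_j - n_(j+1) + ⋯ ±
n_e, the rank of a matrix being the largest size of a nonzero minor, and that its ideal of minors of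
that size is either the unit ideal or contains an R-regular sequence of length j. Then the complex
is exact at R^(n_e), …, R^(n_1). -/
theorem result {R : Type u} [CommRing R] [IsNoetherianRing R]
    (e : ℕ) (he : 1 ≤ e) (n : ℕ → ℕ) (A : (i : ℕ) → Matrix (Fin (n i)) (Fin (n (i + 1))) R)
    (hA : ∀ i, i + 2 ≤ e → A i * A (i + 1) = 0)
    (hrank : ∀ j, 1 ≤ j → j ≤ e →
      (CAlgX.matrixRank (A (j - 1)) : ℤ) = ∑ t ∈ Finset.Icc j e, (-1 : ℤ) ^ (t - j) * (n t : ℤ))
    (hdet : ∀ j, 1 ≤ j → j ≤ e →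
      CAlgX.detIdeal (A (j - 1)) = ⊤ ∨
        ∃ rs : List R, rs.length = j ∧ (∀ r ∈ rs, r ∈ CAlgX.detIdeal (A (j - 1))) ∧
          RingTheory.Sequence.IsRegular R rs) :
    LinearMap.ker (A (e - 1)).mulVecLin = ⊥ ∧
      ∀ i, i + 2 ≤ e → LinearMap.ker (A i).mulVecLin = LinearMap.range (A (i + 1)).mulVecLin := by
  classical
  let r : ℕ → ℕ := fun i => CAlgX.matrixRank (A i)
  have hsum : ∀ i, i + 2 ≤ e → r i + r (i + 1) = n (i + 1) := by
    intro i hi
    have h1 := hrank (i + 1) (by omega) (by omega)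
    have h2 := hrank (i + 2) (by omega) hi
    change (r i : ℤ) = _ at h1
    change (r (i + 1) : ℤ) = _ at h2
    have hset : Finset.Icc (i + 1) e = insert (i + 1) (Finset.Icc (i + 2) e) := by
      ext t; simp only [Finset.mem_insert, Finset.mem_Icc]; omega
    rw [hset, Finset.sum_insert (by simp), Nat.sub_self, pow_zero, one_mul] at h1
    have h3 : ∑ t ∈ Finset.Icc (i + 2) e, (-1 : ℤ) ^ (t - (i + 1)) * (n t : ℤ) =
        - ∑ t ∈ Finset.Icc (i + 2) e, (-1 : ℤ) ^ (t - (i + 2)) * (n t : ℤ) := by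
      rw [← Finset.sum_neg_distrib]
      refine Finset.sum_congr rfl fun t ht => ?_
      rw [Finset.mem_Icc] at ht
      rw [show t - (i + 1) = t - (i + 2) + 1 by omega, pow_succ]
      ring
    have h4 : (r i : ℤ) + r (i + 1) = n (i + 1) := by
      rw [h3] at h1
      linear_combination h1 + h2
    exact_mod_cast h4
  have htop : ∀ i, i + 1 = e → r i = n (i + 1) := by
    intro i hi
    have h1 := hrank (i + 1) (by omega) (by omega)
    subst hi
    change (r i : ℤ) = _ at h1
    simp only [Finset.Icc_self, Finset.sum_singleton, Nat.sub_self, pow_zero,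
      one_mul] at h1
    exact_mod_cast h1
  obtain ⟨h1, h2⟩ := Groth.Agent.H3CAlg.BuchsbaumEisenbud.exact_global e n A r hA
    (fun i _ => Groth.Agent.H3CAlg.BuchsbaumEisenbud.minorIdeal_matrixRank_succ (A i)) hsum htop
    (fun i hi => by
      rcases hdet (i + 1) (by omega) (by omega) with h | ⟨rs, hl, hmem, hreg⟩
      · exact Or.inl h
      · exact Or.inr ⟨rs, hl, hmem, hreg.toIsWeaklyRegular⟩)
  refine ⟨?_, fun i hi => le_antisymm (fun v hv => h2 i hi v hv) ?_⟩
  · rw [Submodule.eq_bot_iff]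
    exact fun v hv => h1 (e - 1) (by omega) v hv
  · rintro _ ⟨w, rfl⟩
    rw [LinearMap.mem_ker, ← LinearMap.comp_apply, ← Matrix.mulVecLin_mul, hA i hi,
      Matrix.mulVecLin_zero, LinearMap.zero_apply]

end Groth.Agent.S19962
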