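import Groth.Statements.S1749
import Groth.Agent.H4DR.LD.Applications

set_option autoImplicit false
universe u
open CategoryTheory
attribute [local instance] HasDerivedCategory.standard
open Dual

namespace Groth.Agent.S1749

/-- Let A be a Noetherian local ring with a normalized dualizing complex ω and κ → E an injective hull
of the residue field. For every A-module N of finite length, the maps N → ω[i] in D(A) vanish for i
≠ 0, and the A-module of maps N → ω is isomorphic to Hom_A(N, E). (The source gives this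
functorially in N; here only the existence of the isomorphism for each N is asserted.) -/
theorem result (A : Type u) [CommRing A] [IsLocalRing A] [IsNoetherianRing A] (ω : Dual.D A) (hω : Dual.IsDualizing A ω) (hn : Dual.IsNormalized A ω) (E : Type u) [AddCommGroup E] [Module A E] (f : IsLocalRing.ResidueField A →ₗ[A] E) (hf : InjHull.IsInjectiveHull f) (N : Type u) [AddCommGroup N] [Module A N] (hN : IsFiniteLength A N) : (∀ i : ℤ, i ≠ 0 → Subsingleton (Dual.inD A N ⟶ ω⟦i⟧)) ∧ Nonempty ((Dual.inD A N ⟶ ω) ≃ₗ[A] (N →ₗ[A] E)) := by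
  refine ⟨fun i hi => Groth.Agent.H4DR.LD.subsingleton_ex_fl hn hN hi, ?_⟩
  obtain ⟨_, _⟩ := isFiniteLength_iff_isNoetherian_isArtinian.mp hN
  obtain ⟨τ⟩ := Groth.Agent.H4DR.LD.nonempty_hull hω hn hf
  let G := Groth.Agent.H4DR.Ext.Ex (Dual.inD A N) ω 0
  have hN' : LocCoh.IsPowerTorsion (IsLocalRing.maximalIdeal A) N :=
    Groth.Agent.H4Matlis.isPowerTorsion_of_isArtinian fun n hn => IsLocalRing.eq_maximalIdeal hn
  obtain ⟨eH⟩ := Groth.Agent.H4DR.LD.nonempty_H_torsion (Dual.inD A N)
    (Groth.Agent.H4DR.LD.isTors_inD N hN') 0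
  let eN : N ≃ₗ[A] (G →ₗ[A] E) :=
    ((Groth.Agent.H4DR.DComplete.e0 (ModuleCat.of A N)).symm.trans eH.symm).trans
      ((LinearEquiv.ofBijective _ (Groth.Agent.H4DR.LD.goodAll_module hω hn hf τ N 0)).trans
        (LinearEquiv.congrLeft E A (Groth.Agent.H4DR.Ext.shiftSrc (Dual.inD A N) ω 0 0 0 (add_zero 0)).symm))
  haveI : Module.Finite A G := Groth.Agent.H4DR.Dualizing.finite_ex_dualizing hω N 0
  obtain ⟨P, _, _, _, ⟨s⟩⟩ := Groth.Agent.H4DR.LD.exists_small_equiv A G
  have hP : IsFiniteLength A P := by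
    rw [← Module.length_ne_top_iff, s.length_eq,
      show Module.length A G = Module.length A N from Groth.Agent.H4DR.LD.length_G hω hn hN,
      Module.length_ne_top_iff]
    exact hN
  let z : (Dual.inD A N ⟶ ω) ≃ₗ[A] G := Groth.Agent.H4DR.Ext.postIso (Dual.inD A N)
    ((CategoryTheory.shiftFunctorZero (Dual.D A) ℤ).app ω).symm
  exact ⟨(z.trans (s.symm.trans
    (LinearEquiv.ofBijective _ (Groth.Agent.H4Matlis.bijective_applyₗ_of_isFiniteLength hf hP)))).trans
    (LinearEquiv.congrLeft E A (eN.trans (LinearEquiv.congrLeft E A s.symm)).symm)⟩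

end Groth.Agent.S1749
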