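import Groth.Statements.S6361
import Groth.Agent.H1CAlg.CountableML

set_option autoImplicit false
universe u
open CAlg

namespace Groth.Agent.S6361

/-- Let M be a Mittag-Leffler, countably generated module over a commutative ring R, and f : P → M a
linear map with P finitely generated. Then there is an endomorphism a of M which factors through
some finitely presented module and satisfies a ∘ f = f. -/
theorem result (R : Type u)
    [CommRing R] (M : Type u) [AddCommGroup M] [Module R M] (hML : CAlg.IsMittagLeffler R M)
    (hc : CAlg.IsCountablyGenerated R M) {P : Type u} [AddCommGroup P] [Module R P] [Module.Finite R P]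
    (f : P →ₗ[R] M) :
    ∃ (Q : Type u) (_ : AddCommGroup Q) (_ : Module R Q) (_ : Module.FinitePresentation R Q)
      (b : M →ₗ[R] Q) (c : Q →ₗ[R] M), (c ∘ₗ b) ∘ₗ f = f := by
  exact Groth.Agent.H1CAlg.exists_fp_retract hML hc f

end Groth.Agent.S6361
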