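import Groth.Statements.S0776
import Groth.Agent.H1DC.Nakayama

set_option autoImplicit false
open CategoryTheory CategoryTheory.Limits AlgebraicGeometry Opposite
universe u
open ProEtDC

namespace Groth.Agent.S0776

/-- For a Noetherian ring L (value universe) and an ideal I, the sheaf L^ = lim_n L/I^n (limit of
constant sheaves) on X_proet is derived complete with respect to I. -/
theorem result (X : Scheme.{u}) (Λ : Type (u + 1)) [CommRing Λ]
    [IsNoetherianRing Λ] (I : Ideal Λ) : ProEtDC.IsDCSheaf Λ I (ProEtDC.lambdaHat Λ X I) := by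
  rw [H1DC.isDCSheaf_iff]
  intro f hf
  haveI : (lim : (Discrete ℕ ⥤ EtModW.ModP Λ X) ⥤ EtModW.ModP Λ X).IsRightAdjoint := constLimAdj.isRightAdjoint
  haveI : PreservesLimit (ProEtDC.quotTower Λ I ⋙ constantSheaf (Scheme.ProEt.topology X) (ModuleCat.{u + 1} Λ))
    (H1DC.powF (EtModW.ModP Λ X)) := comp_preservesLimit _ _
  refine H1DC.isIso_theta_limit _ fun n => H1DC.isIso_theta_const f _ n.unop fun x => ?_
  obtain ⟨x, rfl⟩ := Submodule.Quotient.mk_surjective _ x
  refine (Submodule.Quotient.mk_smul _ (f ^ n.unop) x).symm.trans ((Submodule.Quotient.mk_eq_zero _).2 ?_)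
  exact Submodule.smul_mem_smul (Ideal.pow_mem_pow hf _) trivial

end Groth.Agent.S0776
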