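import Groth.Statements.S0148
import Groth.Agent.H1DFun.CohDimExt

set_option autoImplicit false
universe u
open CategoryTheory CategoryTheory.Limits AlgebraicGeometry Opposite
open EtPBC

namespace Groth.Agent.S0148

set_option backward.isDefEq.respectTransparency false
set_option backward.isDefEq.respectTransparency.types false

/-- For a field extension L/K with cd(K) <= e and transcendence degree <= n one has cd(L) <= e + n. -/
theorem result (K L : Type u) [Field K] [Field L] [Algebra K L]
    (e n : ℕ) (hK : EtCoh.CohDimLE (Spec (CommRingCat.of K)) e) (htr : Algebra.trdeg K L ≤ n) :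
    EtCoh.CohDimLE (Spec (CommRingCat.of L)) (e + n) := by
  classical
  obtain ⟨s, hs⟩ := exists_isTranscendenceBasis K L
  have hc : Cardinal.mk s ≤ n := hs.cardinalMk_eq_trdeg.trans_le htr
  haveI : Finite s := Cardinal.lt_aleph0_iff_finite.1 (hc.trans_lt (Cardinal.natCast_lt_aleph0 (n := n)))
  letI : Fintype s := Fintype.ofFinite s
  let ε := Fintype.equivFin s
  have hm : Fintype.card s ≤ n := by
    rw [Cardinal.mk_fintype] at hc
    exact_mod_cast hc
  have hx := hs.comp_equiv ε.symm
  intro F hF q hq
  exact Groth.Agent.H1DFun.cohDimLE_of_transcendenceBasis hK _ _ hx.1 hx.isAlgebraic_field F hF q (by omega)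

end Groth.Agent.S0148
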