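import Groth.Statements.S3073
import Groth.Agent.H15Site.HensCoh.Main

set_option autoImplicit false
set_option linter.style.haveILetI false
set_option backward.isDefEq.respectTransparency false
set_option backward.isDefEq.respectTransparency.types false
set_option synthInstance.maxHeartbeats 200000
open CategoryTheory CategoryTheory.Limits AlgebraicGeometry Opposite
universe u
open EtDesc

namespace Groth.Agent.S3073

/-- Let A be a henselian local ring, Y = Spec A with closed point y, and F an abelian sheaf on Y_et (not
necessarily torsion). Then for every n the restriction map H^n(Y, F) -> H^n(Spec k(y), F|_{k(y)})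
along the closed point is bijective. (Left exactness of the pullback functor carried as a binder.) -/
theorem result (A : Type u) [CommRing A] [HenselianLocalRing A]
    (F : EtCoh.Ab (Spec (CommRingCat.of A)))
    [PreservesFiniteLimits (EtCoh.pull
      (Spec.map (CommRingCat.ofHom (IsLocalRing.residue A))))] (n : ℕ) :
    Function.Bijective (EtCore.Hpull (Spec.map (CommRingCat.ofHom (IsLocalRing.residue A))) F n) := by
  let i := Spec.map (CommRingCat.ofHom (IsLocalRing.residue A))
  haveI : (EtCoh.pull i).IsLeftAdjoint := ⟨_, ⟨EtCoh.pullPushAdj i⟩⟩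
  have h0 : ∀ G : EtCoh.Ab (Spec (CommRingCat.of A)), Function.Bijective
      fun φ : EtCoh.const (Spec (CommRingCat.of A)) ℤ ⟶ G =>
        (EtCore.pullConst i ℤ).inv ≫ (EtCoh.pull i).map φ := fun G => by
    have h := Groth.Agent.H15Site.HensCoh.bijective_comp_η₀ G
    let e1 := (EtCoh.pullPushAdj i).homEquiv (EtCoh.const (Spec (CommRingCat.of A)) ℤ) ((EtCoh.pull i).obj G)
    let e2 := (EtCore.pullConst i ℤ).homCongr (Iso.refl ((EtCoh.pull i).obj G))
    have e : (fun φ : EtCoh.const (Spec (CommRingCat.of A)) ℤ ⟶ G =>
        (EtCore.pullConst i ℤ).inv ≫ (EtCoh.pull i).map φ) =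
        e2 ∘ e1.symm ∘ fun φ => φ ≫ Groth.Agent.H15Site.HensCoh.η₀ G := funext fun φ => by
      have h1 : e1.symm (φ ≫ (EtCoh.pullPushAdj i).unit.app G) = (EtCoh.pull i).map φ := by
        apply e1.injective
        rw [Equiv.apply_symm_apply]
        show _ = (EtCoh.pullPushAdj i).homEquiv _ _ ((EtCoh.pull i).map φ)
        rw [Adjunction.homEquiv_unit]
        exact (EtCoh.pullPushAdj i).unit.naturality φ
      show _ = e2 (e1.symm _)
      rw [h1]
      simp [e2, Iso.homCongr]
    rw [e]
    exact e2.bijective.comp (e1.symm.bijective.comp h)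
  exact Groth.Agent.H10Coh.extMap_bijective (EtCoh.pull i) (EtCore.pullConst i ℤ).inv h0 (fun J _ m => by
    obtain ⟨e⟩ := Groth.Agent.H15Site.IntDesc.nonempty_H_push i ((EtCoh.pull i).obj J) (m + 1)
    haveI := Groth.Agent.H15Site.HensCoh.subsingleton_H_pushPull_injective (R := A) J m
    exact e.addCommGroupIsoToAddEquiv.symm.toEquiv.subsingleton) n F

end Groth.Agent.S3073
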