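import Groth.Statements.S4688
import Mathlib
import Groth.Agent.H05EGA4.DimLocal

set_option autoImplicit false
set_option maxHeartbeats 400000
universe u
open EGA4

open IsLocalRing TensorProduct Groth.Agent.H05EGA4
open scoped Pointwise

namespace Groth.Agent.S4688

open Polynomial in
/-- Let A be a Noetherian ring, p a prime ideal of A and q a prime ideal of the polynomial ring A[T]
lying over p. Then the extended ideal p A[T] has the same height as p, and if q is different from p
A[T] one has ht(q) = ht(p) + 1. (The remaining assertions of the published item, that p A[T] is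
prime over p and that there are infinitely many pairwise incomparable such q, are not restated.) -/
theorem result (A : Type u) [CommRing A] [IsNoetherianRing A]
    (p : Ideal A) [p.IsPrime] (q : Ideal A[X]) [q.IsPrime] [q.LiesOver p] :
    (p.map (Polynomial.C : A →+* A[X])).height = p.height ∧
      (q ≠ p.map (Polynomial.C : A →+* A[X]) → q.height = p.height + 1) := by
  have key : ∀ (q : Ideal (Polynomial A)) [q.IsPrime] [q.LiesOver p],
      q.height = p.height + ((q.map (Ideal.Quotient.mk (p.map (algebraMap A (Polynomial A))))).map
        (Ideal.polynomialQuotientEquivQuotientPolynomial p).symm).height := by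
    intro q _ _
    rw [RingEquiv.height_map, Ideal.height_eq_height_add_of_liesOver_of_hasGoingDown p q]
  have hprime : (p.map (Polynomial.C : A →+* Polynomial A)).IsPrime := Ideal.isPrime_map_C_of_isPrime
  have : (p.map (Polynomial.C : A →+* Polynomial A)).LiesOver p := ⟨by
    refine le_antisymm Ideal.le_comap_map fun a ha => ?_
    have := Ideal.mem_map_C_iff.mp (Ideal.mem_comap.mp ha) 0
    simpa using this⟩
  refine ⟨?_, fun hne => ?_⟩
  · rw [key (p.map Polynomial.C)]
    simp [Ideal.map_quotient_self]
  · rw [key q]
    set Q := (q.map (Ideal.Quotient.mk (p.map (algebraMap A (Polynomial A))))).map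
        (Ideal.polynomialQuotientEquivQuotientPolynomial p).symm with hQ
    have hle : p.map (algebraMap A (Polynomial A)) ≤ q :=
      Ideal.map_le_iff_le_comap.mpr (Ideal.LiesOver.over (p := p) (P := q)).le
    have : (q.map (Ideal.Quotient.mk (p.map (algebraMap A (Polynomial A))))).IsPrime :=
      Ideal.isPrime_map_quotientMk_of_isPrime hle
    have hQp : Q.IsPrime := Ideal.map_isPrime_of_equiv _
    congr 1
    have hker : Q ≠ ⊥ := by
      intro h
      rw [hQ, Ideal.map_eq_bot_iff_of_injective (RingEquiv.injective _),
        Ideal.map_eq_bot_iff_le_ker, Ideal.mk_ker] at h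
      exact hne (le_antisymm h hle)
    have hdis : Disjoint ((nonZeroDivisors (A ⧸ p)).map (Polynomial.C : (A ⧸ p) →+* _) :
        Set (Polynomial (A ⧸ p))) (Q : Set (Polynomial (A ⧸ p))) := by
      rw [Set.disjoint_left]
      rintro _ ⟨b, hb, rfl⟩ hmem
      obtain ⟨a, rfl⟩ := Ideal.Quotient.mk_surjective b
      rw [SetLike.mem_coe, hQ] at hmem
      have h2 : (Ideal.polynomialQuotientEquivQuotientPolynomial p).symm
          (Ideal.Quotient.mk _ (Polynomial.C a)) = Polynomial.C (Ideal.Quotient.mk p a) := by
        rw [RingEquiv.symm_apply_eq]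
        rw [← Polynomial.map_C (Ideal.Quotient.mk p), Ideal.polynomialQuotientEquivQuotientPolynomial_map_mk]
      rw [← h2] at hmem
      obtain ⟨z, hz, hze⟩ := (Ideal.mem_map_of_equiv _ _).mp hmem
      rw [(RingEquiv.injective _).eq_iff] at hze
      subst hze
      replace hz : (Polynomial.C a) ∈ q := (Ideal.mem_quotient_iff_mem hle).mp hz
      have : a ∈ p := by rw [Ideal.LiesOver.over (p := p) (P := q)]; exact hz
      exact nonZeroDivisors.ne_zero hb (Ideal.Quotient.eq_zero_iff_mem.mpr this)
    let K := FractionRing (A ⧸ p)
    letI : Algebra (Polynomial (A ⧸ p)) (Polynomial K) := Polynomial.algebra _ _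
    have : IsLocalization ((nonZeroDivisors (A ⧸ p)).map Polynomial.C) (Polynomial K) :=
      Polynomial.isLocalization _ _
    rw [← IsLocalization.height_map_of_disjoint (S := Polynomial K) _ Q hdis]
    have : (Q.map (algebraMap _ (Polynomial K))).IsPrime :=
      IsLocalization.isPrime_of_isPrime_disjoint _ _ Q hQp hdis
    have hne' : Q.map (algebraMap _ (Polynomial K)) ≠ ⊥ := by
      rw [Ne, Ideal.map_eq_bot_iff_of_injective]
      · exact hker
      · exact Polynomial.map_injective _ (IsFractionRing.injective (A ⧸ p) K)
    refine le_antisymm ?_ ?_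
    · have h1 := Ideal.height_le_ringKrullDim_of_ne_top (I := Q.map (algebraMap _ (Polynomial K))) Ideal.IsPrime.ne_top'
      rw [Polynomial.ringKrullDim_of_isNoetherianRing, ringKrullDim_eq_zero_of_field, zero_add] at h1
      exact WithBot.coe_le_coe.mp h1
    · rw [Order.one_le_iff_pos, pos_iff_ne_zero, Ne, Ideal.height_eq_zero_iff_eq_bot]
      exact hne'


end Groth.Agent.S4688
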