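-- statement Lim.GrothFrozen.S9218 (Groth/Statements/S9218.lean; the theorem Lim.exists_hom_descend_of_qcqs_locallyOfFinitePresentation);
import Groth.Statements.S9218
import Groth.Agent.H7Lim.Basic

set_option autoImplicit false
universe u
open CategoryTheory CategoryTheory.Limits AlgebraicGeometry
open Lim

namespace Groth.Agent.S9218
open CategoryTheory.Limits
set_option linter.style.haveILetI false
set_option backward.isDefEq.respectTransparency false

/-- Let S = lim S_i be a cofiltered limit of schemes with affine transition morphisms (the S_i are not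
assumed quasi-compact or quasi-separated), i an index, and X_i → S_i, Y_i → S_i morphisms locally of
finite presentation with X_i, Y_i quasi-compact and quasi-separated; let X, Y be their base changes
to S (pullback squares). Then every S-morphism f : X → Y comes from some stage: for some index j
over i there is an S_j-morphism f_j : X_i ×_{S_i} S_j → Y_i ×_{S_i} S_j whose base change to S is f,
in the sense that the canonical morphisms X → X_i ×_{S_i} S_j and Y → Y_i ×_{S_i} S_j intertwine f
and f_j. This is the fullness part of the equivalence between the colimit of the categories of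
quasi-compact quasi-separated schemes locally of finite presentation over the S_i and the
corresponding category over S. -/
theorem result {I : Type u} [SmallCategory I] [IsCofiltered I]
    (D : I ⥤ Scheme.{u}) (c : Limits.Cone D) (hc : Limits.IsLimit c)
    [∀ (i j : I) (f : i ⟶ j), IsAffineHom (D.map f)] (i : I)
    {Xi Yi : Scheme.{u}} (xi : Xi ⟶ D.obj i) (yi : Yi ⟶ D.obj i)
    [CompactSpace Xi] [QuasiSeparatedSpace Xi] [LocallyOfFinitePresentation xi]
    [CompactSpace Yi] [QuasiSeparatedSpace Yi] [LocallyOfFinitePresentation yi]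
    {X Y : Scheme.{u}} (qX : X ⟶ Xi) (pX : X ⟶ c.pt) (hX : IsPullback qX pX xi (c.π.app i))
    (qY : Y ⟶ Yi) (pY : Y ⟶ c.pt) (hY : IsPullback qY pY yi (c.π.app i))
    (f : X ⟶ Y) (hf : f ≫ pY = pX) :
    ∃ (j : I) (φ : j ⟶ i) (fj : pullback xi (D.map φ) ⟶ pullback yi (D.map φ))
      (sX : X ⟶ pullback xi (D.map φ)) (sY : Y ⟶ pullback yi (D.map φ)),
      fj ≫ pullback.snd yi (D.map φ) = pullback.snd xi (D.map φ) ∧
      sX ≫ pullback.fst xi (D.map φ) = qX ∧ sX ≫ pullback.snd xi (D.map φ) = pX ≫ c.π.app j ∧
      sY ≫ pullback.fst yi (D.map φ) = qY ∧ sY ≫ pullback.snd yi (D.map φ) = pY ≫ c.π.app j ∧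
      sX ≫ fj = f ≫ sY := by
  let e := hX.isoPullback
  haveI : ∀ (j k : Over i) (f : j ⟶ k), IsAffineHom ((H7Lim.pbDiagram D i xi).map f) :=
    H7Lim.isAffineHom_pbDiagram_map D i xi
  let t : H7Lim.pbDiagram D i xi ⟶ (Functor.const (Over i)).obj (D.obj i) :=
    { app := fun k => pullback.fst _ _ ≫ xi
      naturality := fun k l f => by simp }
  obtain ⟨k, u, hu, hup⟩ := Scheme.exists_π_app_comp_eq_of_locallyOfFinitePresentation
    (H7Lim.pbDiagram D i xi) t yi _ (H7Lim.isLimitPbCone D i xi hc) (e.inv ≫ f ≫ qY) (by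
      ext k
      show (H7Lim.pbCone D c i xi).π.app k ≫ pullback.fst _ _ ≫ xi = (e.inv ≫ f ≫ qY) ≫ yi
      simp only [Category.assoc, hY.w, reassoc_of% hf, ← hX.w]
      simp [e])
  have h1 : qX ≫ xi = (pX ≫ c.π.app k.left) ≫ D.map k.hom := by rw [Category.assoc, c.w, hX.w]
  have h2 : qY ≫ yi = (pY ≫ c.π.app k.left) ≫ D.map k.hom := by rw [Category.assoc, c.w, hY.w]
  refine ⟨k.left, k.hom, pullback.lift u (pullback.snd xi (D.map k.hom)) ?_, pullback.lift qX _ h1,
    pullback.lift qY _ h2, pullback.lift_snd _ _ _, pullback.lift_fst _ _ _, pullback.lift_snd _ _ _,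
    pullback.lift_fst _ _ _, pullback.lift_snd _ _ _, ?_⟩
  · rw [hup]
    exact pullback.condition
  · apply pullback.hom_ext
    · simp only [Category.assoc, pullback.lift_fst]
      rw [show pullback.lift qX (pX ≫ c.π.app k.left) h1 = e.hom ≫ (H7Lim.pbCone D c i xi).π.app k by
        apply pullback.hom_ext <;> simp [e], Category.assoc, hu, e.hom_inv_id_assoc]
    · simp [reassoc_of% hf]

end Groth.Agent.S9218
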