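import Groth.Statements.S1996
import Groth.Agent.H9Hens.FlatEpi
-- import your own Groth.Agent.* helpers here

set_option autoImplicit false
universe u
open EtAlg

namespace Groth.Agent.S1996

open scoped TensorProduct

/-- Let A -> B -> C be ring maps with B -> C faithfully flat. Weak etaleness of A -> C then implies weak
etaleness of A -> B. -/
theorem result (A B C : Type u) [CommRing A] [CommRing B] [CommRing C] [Algebra A B]
    [Algebra B C] [Algebra A C] [IsScalarTower A B C] [Module.FaithfullyFlat B C] [Algebra.WeaklyEtale A C] :
    Algebra.WeaklyEtale A B := by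
  have hflat : Module.Flat A B := H9Hens.flat_of_faithfullyFlat_tower A B C
  refine ⟨hflat, ?_⟩
  let μB := (Algebra.TensorProduct.lmul' A (S := B)).toRingHom
  let j : B →ₐ[A] C := IsScalarTower.toAlgHom A B C
  have hBC : (algebraMap B C).Flat := RingHom.flat_algebraMap_iff.mpr inferInstance
  have h1 : ((algebraMap B C).comp μB).Flat := by
    have heq : (algebraMap B C).comp μB = (Algebra.TensorProduct.lmul' A (S := C)).toRingHom.comp
        (Algebra.TensorProduct.map j j).toRingHom := by
      refine RingHom.ext fun x => ?_
      induction x with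
      | zero => simp
      | tmul a b => simp [μB, j]
      | add a b ha hb => simp only [map_add, ha, hb]
    rw [heq]
    exact RingHom.Flat.comp (RingHom.Flat.tensorProductMap hBC hBC)
      (Algebra.WeaklyEtale.flat_lmul' A C)
  let : Algebra (B ⊗[A] B) B := μB.toAlgebra
  let : Algebra (B ⊗[A] B) C := ((algebraMap B C).comp μB).toAlgebra
  have : IsScalarTower (B ⊗[A] B) B C := IsScalarTower.of_algebraMap_eq fun _ => rfl
  have : Module.Flat (B ⊗[A] B) C := h1
  exact H9Hens.flat_of_faithfullyFlat_tower (B ⊗[A] B) B C

end Groth.Agent.S1996
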