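import Groth.Statements.S12544


set_option autoImplicit false
universe u
open TensorProduct LaurentPolynomial
open GIT

namespace Groth.Agent.S12544

/-- Let a commutative bialgebra A over a field k (an affine group or monoid G) coact linearly on affine
ι-space, let λ be a one-parameter subgroup of G (a bialgebra map to the Laurent polynomial ring) and
v ≠ 0 a vector. Then there is exactly one integer m for which t^m · (v moved by λ(t)) extends to the
affine line in t with non-zero value at t = 0; that m is the value μ(v, λ) of the numerical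
function, the largest of the numbers −r_i over the non-zero coordinates of v in coordinates
diagonalising λ. -/
theorem result (k : Type u) [Field k] (A : Type u) [CommRing A] [Bialgebra k A]
    (ι : Type u) [Fintype ι] [HopfRep.Comod k A (MvPolynomial ι k)] [GLin.IsCoactAlg k A (MvPolynomial ι k)]
    (hlin : GLin.IsLinear k A ι) (lam : A →ₐc[k] k[T;T⁻¹]) (v : ι → k) (hv : v ≠ 0) :
    ∃! m : ℤ, GLin.IsMu k A lam v m := by
  classical
  let f : ι → k[T;T⁻¹] := fun i => GLin.lamOrbit k A lam (GLin.vecPt k ι v) (MvPolynomial.X i)
  -- not all coordinates of the orbit vanish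
  obtain ⟨i0, hi0⟩ : ∃ i, f i ≠ 0 := by
    by_contra hall
    push Not at hall
    refine hv (funext fun i => ?_)
    have h1 : Coalgebra.counit (R := k) (f i) = 0 := by rw [hall i, map_zero]
    have h2 : Coalgebra.counit (R := k) (GLin.orbitHom k A (GLin.vecPt k ι v) (MvPolynomial.X i)) = v i := by
      have h3 := LinearMap.congr_fun (HopfRep.Comod.counit_comp (k := k) (A := A) (V := MvPolynomial ι k))
        (MvPolynomial.X i)
      have h4 : ∀ z : MvPolynomial ι k ⊗[k] A, Coalgebra.counit (R := k) ((Algebra.TensorProduct.lid k A).toAlgHom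
          (Algebra.TensorProduct.map (GLin.vecPt k ι v) (AlgHom.id k A) z)) =
          (GLin.vecPt k ι v) (TensorProduct.rid k _ ((Coalgebra.counit (R := k) (A := A)).lTensor _ z)) := by
        intro z
        induction z using TensorProduct.induction_on with
        | zero => simp
        | tmul a c => simp [mul_comm]
        | add a c ha hc => simp only [map_add, ha, hc]
      refine (h4 _).trans ?_
      erw [h3]
      simp
    rw [← h2, ← CoalgHomClass.counit_comp_apply lam]
    exact h1
  let S : Finset ℤ := Finset.univ.biUnion fun i => (f i).coeff.support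
  have hS : S.Nonempty := by
    obtain ⟨n, hn⟩ := Finsupp.support_nonempty_iff.mpr (show (f i0).coeff ≠ 0 from fun h => hi0 (by ext n; simp [h]))
    exact ⟨n, Finset.mem_biUnion.mpr ⟨i0, Finset.mem_univ _, hn⟩⟩
  let n0 := S.min' hS
  let h : ι → Polynomial k := fun i =>
    ∑ n ∈ S, Polynomial.C ((f i).coeff n) * Polynomial.X ^ (n - n0).toNat
  have hh : ∀ i, Polynomial.toLaurentAlg (h i) = LaurentPolynomial.T (-n0) * f i := by
    intro i
    have hf : f i = ∑ n ∈ S, LaurentPolynomial.C ((f i).coeff n) * LaurentPolynomial.T n := by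
      simp only [← LaurentPolynomial.single_eq_C_mul_T]
      conv_lhs => rw [← AddMonoidAlgebra.sum_coeff_single (f i)]
      exact Finsupp.sum_of_support_subset _ (fun n hn => Finset.mem_biUnion.mpr ⟨i, Finset.mem_univ _, hn⟩) _
        (fun n _ => by simp)
    conv_rhs => rw [hf]
    rw [Finset.mul_sum, Polynomial.toLaurentAlg_apply, map_sum]
    refine Finset.sum_congr rfl fun n hn => ?_
    have hle : n0 ≤ n := S.min'_le n hn
    rw [map_mul, Polynomial.toLaurent_C, Polynomial.toLaurent_X_pow, mul_left_comm, ← LaurentPolynomial.T_add]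
    congr 2
    omega
  have hval : Polynomial.aeval (0 : k) ∘ h ≠ 0 := by
    obtain ⟨i, -, hi⟩ := Finset.mem_biUnion.mp (S.min'_mem hS)
    intro h0
    refine Finsupp.mem_support_iff.mp hi ?_
    have := congrFun h0 i
    simp only [Function.comp_apply, h, map_sum, map_mul, Polynomial.aeval_C, map_pow, Polynomial.aeval_X,
      Pi.zero_apply] at this
    rw [Finset.sum_eq_single n0] at this
    · simpa using this
    · intro n hn hne
      rw [zero_pow (by have := S.min'_le n hn; omega), mul_zero]
    · exact fun hn => absurd (S.min'_mem hS) hn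
  have hmu : GLin.IsMu k A lam v (-n0) := by
    refine ⟨MvPolynomial.aeval h, MvPolynomial.algHom_ext fun i => ?_, fun e => hval (funext fun i => ?_)⟩
    · simp only [AlgHom.comp_apply, MvPolynomial.aeval_X, GLin.shiftedOrbit, hh]
      rfl
    · have := AlgHom.congr_fun e (MvPolynomial.X i)
      simpa using this
  -- uniqueness
  have huniq : ∀ a c : ℤ, a < c → GLin.IsMu k A lam v a → GLin.IsMu k A lam v c → False := by
    rintro a c hac ⟨g, hg, -⟩ ⟨g', hg', hg'0⟩
    refine hg'0 (MvPolynomial.algHom_ext fun i => ?_)
    have e : g' (MvPolynomial.X i) = Polynomial.X ^ (c - a).toNat * g (MvPolynomial.X i) := by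
      refine Polynomial.toLaurent_injective ?_
      rw [map_mul, Polynomial.toLaurent_X_pow]
      have e1 := AlgHom.congr_fun hg (MvPolynomial.X i)
      have e2 := AlgHom.congr_fun hg' (MvPolynomial.X i)
      simp only [AlgHom.comp_apply, Polynomial.toLaurentAlg_apply, GLin.shiftedOrbit, MvPolynomial.aeval_X] at e1 e2
      rw [e1, e2, ← mul_assoc, ← LaurentPolynomial.T_add]
      congr 2
      omega
    simp [e, zero_pow (show (c - a).toNat ≠ 0 by omega)]
  refine ⟨-n0, hmu, fun m hm => ?_⟩
  rcases lt_trichotomy m (-n0) with hlt | heq | hgt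
  · exact (huniq _ _ hlt hm hmu).elim
  · exact heq
  · exact (huniq _ _ hgt hmu hm).elim

end Groth.Agent.S12544
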