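import Groth.Statements.S6094


set_option autoImplicit false
set_option maxHeartbeats 1000000
set_option synthInstance.maxHeartbeats 100000
set_option linter.style.haveILetI false
set_option backward.isDefEq.respectTransparency false
universe u
open CategoryTheory MonObj GrpObj AlgebraicGeometry
open scoped TensorProduct
open SGA3

namespace Groth.Agent.S6094

noncomputable section Comodules

open MonoidalCategory CartesianMonoidalCategory MonObj
open scoped TensorProduct

attribute [local instance 2000] Hom.group Hom.monoid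

variable {R : Type u} [CommRing R] {A : Type u} [CommRing A] [HopfAlgebra R A]
  {E : Type u} [AddCommGroup E] [Module R E] {B : Type u} [CommRing B] [Algebra R B]

/-- the vector carried by an algebra map -/
def act1 (δ : E →ₗ[R] E ⊗[R] A) (f : A →ₐ[R] B) : E →ₗ[R] B ⊗[R] E :=
  (TensorProduct.comm R E B).toLinearMap ∘ₗ f.toLinearMap.lTensor E ∘ₗ δ

theorem act1_apply (δ : E →ₗ[R] E ⊗[R] A) (f : A →ₐ[R] B) (x : E) :
    act1 δ f x = (TensorProduct.comm R E B) (f.toLinearMap.lTensor E (δ x)) := rfl

/-- the operator of an algebra map -/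
def actL (δ : E →ₗ[R] E ⊗[R] A) (f : A →ₐ[R] B) : B ⊗[R] E →ₗ[B] B ⊗[R] E :=
  (act1 δ f).liftBaseChange B

theorem actL_tmul (δ : E →ₗ[R] E ⊗[R] A) (f : A →ₐ[R] B) (b : B) (x : E) :
    actL δ f (b ⊗ₜ x) = b • act1 δ f x := LinearMap.liftBaseChange_tmul _ _ _ _

/-- the multiplication used for convolution -/
def mulFG (f g : A →ₐ[R] B) : A ⊗[R] A →ₗ[R] B :=
  ((Algebra.TensorProduct.lmul' R).comp (Algebra.TensorProduct.map f g)).toLinearMap

theorem actL_comm (δ : E →ₗ[R] E ⊗[R] A) (f g : A →ₐ[R] B) (w : E ⊗[R] A) :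
    actL δ f ((TensorProduct.comm R E B) (g.toLinearMap.lTensor E w)) =
      (TensorProduct.comm R E B) ((mulFG f g).lTensor E
        (TensorProduct.assoc R E A A (δ.rTensor A w))) := by
  induction w using TensorProduct.induction_on with
  | zero => simp
  | tmul y a =>
    simp only [LinearMap.lTensor_tmul, LinearMap.rTensor_tmul, TensorProduct.comm_tmul, AlgHom.toLinearMap_apply,
      actL_tmul, act1_apply]
    generalize δ y = v
    induction v using TensorProduct.induction_on with
    | zero => simp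
    | tmul z b =>
      simp [mulFG, TensorProduct.smul_tmul', mul_comm]
    | add v v' hv hv' => simp only [map_add, smul_add, TensorProduct.add_tmul, hv, hv']
  | add w w' hw hw' => simp only [map_add, hw, hw']

theorem conv_toLinearMap (f g : WithConv (A →ₐ[R] B)) :
    (f * g).ofConv.toLinearMap = mulFG f.ofConv g.ofConv ∘ₗ CoalgebraStruct.comul (R := R) (A := A) := rfl

theorem act1_conv {δ : E →ₗ[R] E ⊗[R] A}
    (hco : (TensorProduct.assoc R E A A).toLinearMap ∘ₗ δ.rTensor A ∘ₗ δ =
      (CoalgebraStruct.comul (R := R) (A := A)).lTensor E ∘ₗ δ)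
    (f g : WithConv (A →ₐ[R] B)) (x : E) :
    actL δ f.ofConv (act1 δ g.ofConv x) = act1 δ (f * g).ofConv x := by
  rw [act1_apply, actL_comm, act1_apply, conv_toLinearMap, LinearMap.lTensor_comp, LinearMap.comp_apply]
  exact congrArg (fun v => (TensorProduct.comm R E B) ((mulFG f.ofConv g.ofConv).lTensor E v))
    (LinearMap.congr_fun hco x)

theorem act1_one {δ : E →ₗ[R] E ⊗[R] A}
    (hcu : (CoalgebraStruct.counit (R := R) (A := A)).lTensor E ∘ₗ δ = (TensorProduct.mk R E R).flip 1) (x : E) :
    act1 δ (1 : WithConv (A →ₐ[R] B)).ofConv x = (1 : B) ⊗ₜ x := by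
  have h : (1 : WithConv (A →ₐ[R] B)).ofConv.toLinearMap =
      Algebra.linearMap R B ∘ₗ CoalgebraStruct.counit (R := R) (A := A) := rfl
  rw [act1_apply, h, LinearMap.lTensor_comp, LinearMap.comp_apply,
    show (CoalgebraStruct.counit (R := R) (A := A)).lTensor E (δ x) = x ⊗ₜ[R] (1 : R) from LinearMap.congr_fun hcu x]
  simp

/-- the action of points -/
def actHom {δ : E →ₗ[R] E ⊗[R] A}
    (hco : (TensorProduct.assoc R E A A).toLinearMap ∘ₗ δ.rTensor A ∘ₗ δ =
      (CoalgebraStruct.comul (R := R) (A := A)).lTensor E ∘ₗ δ)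
    (hcu : (CoalgebraStruct.counit (R := R) (A := A)).lTensor E ∘ₗ δ = (TensorProduct.mk R E R).flip 1) :
    WithConv (A →ₐ[R] B) →* Module.End B (B ⊗[R] E) where
  toFun f := actL δ f.ofConv
  map_one' := by
    refine TensorProduct.AlgebraTensorModule.ext fun b x => ?_
    rw [actL_tmul, act1_one hcu]
    simp [TensorProduct.smul_tmul']
  map_mul' f g := by
    refine TensorProduct.AlgebraTensorModule.ext fun b x => ?_
    rw [Module.End.mul_apply, actL_tmul, actL_tmul, map_smul, act1_conv hco]

theorem Wmap_act1 {B' : Type u} [CommRing B'] [Algebra R B'] (φ : B →ₐ[R] B') (δ : E →ₗ[R] E ⊗[R] A)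
    (f : A →ₐ[R] B) (x : E) : VecGrp.Wmap φ (act1 δ f x) = act1 δ (φ.comp f) x := by
  rw [act1_apply, act1_apply]
  generalize δ x = w
  induction w using TensorProduct.induction_on with
  | zero => simp
  | tmul y a => simp
  | add w w' hw hw' => simp only [map_add, hw, hw']

/-- the group scheme of the Hopf algebra -/
abbrev SpecG (R : Type u) [CommRing R] (A : Type u) [CommRing A] [HopfAlgebra R A] :
    Over (Spec (CommRingCat.of R)) :=
  (Spec (CommRingCat.of A)).asOver (Spec (CommRingCat.of R))

theorem symm_ptMap {B' : Type u} [CommRing B'] [Algebra R B'] (φ : B →ₐ[R] B')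
    (g : VecGrp.pt R B ⟶ SpecG R A) :
    (Spec.mapMulEquiv.symm (VecGrp.ptMap φ ≫ g)).ofConv = φ.comp (Spec.mapMulEquiv.symm g).ofConv := by
  obtain ⟨f, rfl⟩ := (Spec.mapMulEquiv (R := R) (S := A) (T := B)).surjective g
  rw [MulEquiv.symm_apply_apply]
  have : VecGrp.ptMap φ ≫ Spec.mapMulEquiv f = Spec.mapMulEquiv (WithConv.toConv (φ.comp f.ofConv)) := by
    apply Over.OverMorphism.ext
    change Spec.map _ ≫ Spec.map _ = Spec.map _
    rw [← Spec.map_comp]
    rfl
  rw [this]
  exact congrArg WithConv.ofConv ((Spec.mapMulEquiv (R := R) (S := A) (T := B')).symm_apply_apply _)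

/-- the structure defined by a coaction -/
def gmodOf {δ : E →ₗ[R] E ⊗[R] A}
    (hco : (TensorProduct.assoc R E A A).toLinearMap ∘ₗ δ.rTensor A ∘ₗ δ =
      (CoalgebraStruct.comul (R := R) (A := A)).lTensor E ∘ₗ δ)
    (hcu : (CoalgebraStruct.counit (R := R) (A := A)).lTensor E ∘ₗ δ = (TensorProduct.mk R E R).flip 1) :
    VecGrp.GMod (SpecG R A) E where
  ρ B _ _ := (LinearMap.GeneralLinearGroup.generalLinearEquiv B (B ⊗[R] E)).toMonoidHom.comp
    (((actHom hco hcu).comp
      (Spec.mapMulEquiv (R := R) (S := A) (T := B)).symm.toMonoidHom : (VecGrp.pt R B ⟶ SpecG R A) →* _).toHomUnits)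
  naturality := by
    intro B B' _ _ _ _ φ g x
    change VecGrp.Wmap φ (actL δ _ x) = actL δ _ (VecGrp.Wmap φ x)
    induction x using TensorProduct.induction_on with
    | zero => simp
    | tmul b y =>
      rw [actL_tmul, VecGrp.Wmap_smul, Wmap_act1, VecGrp.Wmap_tmul, actL_tmul]
      congr 2
      exact congrArg (act1 δ) (symm_ptMap φ g).symm
    | add u v hu hv => simp only [map_add, hu, hv]

theorem gmod_ext (m m' : VecGrp.GMod (SpecG R A) E)
    (h : ∀ (B : Type u) [CommRing B] [Algebra R B] (g : VecGrp.pt R B ⟶ SpecG R A) (x : E),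
      m.ρ B g ((1 : B) ⊗ₜ[R] x) = m'.ρ B g ((1 : B) ⊗ₜ[R] x)) : m = m' := by
  obtain ⟨ρ, hn⟩ := m
  obtain ⟨ρ', hn'⟩ := m'
  congr 1
  funext B iB iA
  ext g z
  induction z using TensorProduct.induction_on with
  | zero => simp
  | tmul b y =>
    have e : (b ⊗ₜ[R] y : B ⊗[R] E) = b • ((1 : B) ⊗ₜ[R] y) := by simp [TensorProduct.smul_tmul']
    rw [e, map_smul, map_smul]
    exact congrArg _ (h B g y)
  | add u v hu hv => simp only [map_add, hu, hv]

end Comodules


/-- Let R be a commutative ring, A a commutative Hopf algebra over R, G = Spec A the corresponding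
affine group scheme over Spec R, and E an R-module. A G-module structure on E (for every R-algebra
B, a natural action of the B-valued points of G on B ⊗_R E by B-linear automorphisms) and a right
A-comodule structure δ : E → E ⊗_R A are said to correspond when, for every R-algebra B, every
B-valued point g of G with associated algebra map f : A → B and every x ∈ E, the point g sends 1 ⊗ x
to the image of δ(x) under E ⊗_R A → B ⊗_R E, y ⊗ a ↦ f(a) ⊗ y. Then every comodule structure on E
corresponds to exactly one G-module structure, and every G-module structure corresponds to exactly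
one R-linear δ : E → E ⊗_R A which is coassociative and counital. -/
theorem result (R : Type u) [CommRing R] (A : Type u) [CommRing A] [HopfAlgebra R A]
    (E : Type u) [AddCommGroup E] [Module R E] :
    (∀ [HopfRep.Comod R A E], ∃! m : VecGrp.GMod ((Spec (CommRingCat.of A)).asOver (Spec (CommRingCat.of R))) E,
        (∀ (B : Type u) [CommRing B] [Algebra R B] (g : VecGrp.pt R B ⟶ ((Spec (CommRingCat.of A)).asOver (Spec (CommRingCat.of R)))) (x : E),
          m.ρ B g ((1 : B) ⊗ₜ[R] x) =
            (TensorProduct.comm R E B) (LinearMap.lTensor E (Spec.mapMulEquiv.symm g).ofConv.toLinearMap (HopfRep.Comod.coact (k := R) (A := A) x)))) ∧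
    (∀ m : VecGrp.GMod ((Spec (CommRingCat.of A)).asOver (Spec (CommRingCat.of R))) E, ∃! δ : E →ₗ[R] E ⊗[R] A,
        ((TensorProduct.assoc R E A A).toLinearMap ∘ₗ δ.rTensor A ∘ₗ δ =
            (CoalgebraStruct.comul (R := R) (A := A)).lTensor E ∘ₗ δ ∧
          (CoalgebraStruct.counit (R := R) (A := A)).lTensor E ∘ₗ δ = (TensorProduct.mk R E R).flip 1) ∧
        (∀ (B : Type u) [CommRing B] [Algebra R B] (g : VecGrp.pt R B ⟶ ((Spec (CommRingCat.of A)).asOver (Spec (CommRingCat.of R)))) (x : E),
          m.ρ B g ((1 : B) ⊗ₜ[R] x) =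
            (TensorProduct.comm R E B) (LinearMap.lTensor E (Spec.mapMulEquiv.symm g).ofConv.toLinearMap (δ x)))) := by
  refine ⟨fun {C} => ?_, fun m => ?_⟩
  · refine ⟨gmodOf C.coassoc C.counit_comp, fun B _ _ g x => ?_, fun m' hm' => gmod_ext _ _ fun B _ _ g x => ?_⟩
    · exact (actL_tmul _ _ _ _).trans (_root_.one_smul _ _)
    · rw [hm' B g x]
      exact ((actL_tmul _ _ _ _).trans (_root_.one_smul _ _)).symm
  · let u : VecGrp.pt R A ⟶ SpecG R A := Spec.mapMulEquiv (WithConv.toConv (AlgHom.id R A))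
    let δ : E →ₗ[R] E ⊗[R] A :=
      (TensorProduct.comm R A E).toLinearMap ∘ₗ ((m.ρ A u).toLinearMap.restrictScalars R) ∘ₗ TensorProduct.mk R A E 1
    have hδ : ∀ (B : Type u) [CommRing B] [Algebra R B] (g : VecGrp.pt R B ⟶ SpecG R A) (x : E),
        m.ρ B g ((1 : B) ⊗ₜ[R] x) = act1 δ (Spec.mapMulEquiv.symm g).ofConv x := by
      intro B _ _ g x
      set f := (Spec.mapMulEquiv.symm g).ofConv with hf
      have hg : VecGrp.ptMap f ≫ u = g := by
        apply (Spec.mapMulEquiv (R := R) (S := A) (T := B)).symm.injective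
        apply WithConv.ofConv_injective
        rw [symm_ptMap, show (Spec.mapMulEquiv.symm u) = WithConv.toConv (AlgHom.id R A) from
          (Spec.mapMulEquiv (R := R) (S := A) (T := A)).symm_apply_apply _]
        exact AlgHom.comp_id _
      conv_lhs => rw [← hg, ← map_one f, ← VecGrp.Wmap_tmul f (1 : A) x, ← m.naturality]
      have hx : m.ρ A u ((1 : A) ⊗ₜ[R] x) = (TensorProduct.comm R E A) (δ x) :=
        ((TensorProduct.comm R A E).symm_apply_apply _).symm
      rw [hx, act1_apply]
      generalize δ x = w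
      induction w using TensorProduct.induction_on with
      | zero => simp
      | tmul y a => simp
      | add w w' hw hw' => simp only [map_add, hw, hw']
    have hcu : (CoalgebraStruct.counit (R := R) (A := A)).lTensor E ∘ₗ δ = (TensorProduct.mk R E R).flip 1 := by
      ext x
      have h := hδ R (1 : VecGrp.pt R R ⟶ SpecG R A) x
      rw [map_one, map_one, act1_apply] at h
      have h' := congrArg (TensorProduct.comm R E R).symm h
      rw [LinearEquiv.symm_apply_apply] at h'
      exact h'.symm.trans rfl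
    have hco : (TensorProduct.assoc R E A A).toLinearMap ∘ₗ δ.rTensor A ∘ₗ δ =
        (CoalgebraStruct.comul (R := R) (A := A)).lTensor E ∘ₗ δ := by
      ext x
      let fc : WithConv (A →ₐ[R] A ⊗[R] A) := WithConv.toConv Algebra.TensorProduct.includeLeft
      let gc : WithConv (A →ₐ[R] A ⊗[R] A) := WithConv.toConv Algebra.TensorProduct.includeRight
      have hm : mulFG fc.ofConv gc.ofConv = LinearMap.id := by
        ext a b
        simp [mulFG, fc, gc]
      let P : VecGrp.pt R (A ⊗[R] A) ⟶ SpecG R A := Spec.mapMulEquiv fc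
      let Q : VecGrp.pt R (A ⊗[R] A) ⟶ SpecG R A := Spec.mapMulEquiv gc
      have hsymm : ∀ c : WithConv (A →ₐ[R] A ⊗[R] A), Spec.mapMulEquiv.symm (Spec.mapMulEquiv c) = c :=
        fun c => (Spec.mapMulEquiv (R := R) (S := A) (T := A ⊗[R] A)).symm_apply_apply c
      have h1 : m.ρ _ (P * Q) ((1 : A ⊗[R] A) ⊗ₜ[R] x) =
          m.ρ _ P (m.ρ _ Q ((1 : A ⊗[R] A) ⊗ₜ[R] x)) := by rw [map_mul]; rfl
      have hL : ∀ z, m.ρ _ P z = actL δ fc.ofConv z := by
        intro z
        induction z using TensorProduct.induction_on with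
        | zero => simp
        | tmul b y =>
          have e : (b ⊗ₜ[R] y : (A ⊗[R] A) ⊗[R] E) = b • ((1 : A ⊗[R] A) ⊗ₜ[R] y) := by simp [TensorProduct.smul_tmul']
          conv_lhs => rw [e, map_smul, hδ, hsymm]
          rw [actL_tmul]
        | add v v' hv hv' => simp only [map_add, hv, hv']
      have hPQ : P * Q = Spec.mapMulEquiv (fc * gc) := (map_mul _ fc gc).symm
      rw [hPQ, hδ, hδ, hL, hsymm, hsymm, act1_apply, act1_apply, actL_comm, conv_toLinearMap, hm] at h1
      have h2 := (TensorProduct.comm R E (A ⊗[R] A)).injective h1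
      simpa using h2.symm
    refine ⟨δ, ⟨⟨hco, hcu⟩, fun B _ _ g x => hδ B g x⟩, ?_⟩
    rintro δ' ⟨-, hδ'⟩
    ext x
    have h := (hδ' A u x).symm.trans (hδ A u x)
    rw [act1_apply, show (Spec.mapMulEquiv.symm u) = WithConv.toConv (AlgHom.id R A) from
      (Spec.mapMulEquiv (R := R) (S := A) (T := A)).symm_apply_apply _] at h
    have h2 := (TensorProduct.comm R E A).injective h
    simpa using h2

end Groth.Agent.S6094
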