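import Groth.Statements.S5423
import Groth.Agent.S7975
import Groth.Agent.S7987
import Groth.Agent.H20Comod.JordanDecomp
import Groth.Agent.H20Hopf.Rosenlicht

set_option autoImplicit false
universe u
open TensorProduct
open SGA3t2b

namespace Groth.Agent.S5423

/-- Let k be an algebraically closed field and A a reduced finitely generated commutative Hopf algebra
over k (a smooth affine algebraic k-group G). Then G is unipotent (every non-zero finite-dimensional
representation has a non-zero fixed vector) if and only if every element of G(k) is unipotent, i.e.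
every k-point g : A → k acts on every finite-dimensional comodule V by an endomorphism g_V with g_V
− 1 nilpotent. -/
theorem result (k : Type u) [Field k] [IsAlgClosed k] (A : Type u) [CommRing A] [HopfAlgebra k A] [Algebra.FiniteType k A]
    [IsReduced A] :
    HopfRep.IsUnipotent k A ↔
      ∀ (g : A →ₐ[k] k) (V : Type u) [AddCommGroup V] [Module k V] [HopfRep.Comod k A V],
        Module.Finite k V → IsNilpotent (HopfRep.Comod.act k A V g - LinearMap.id) := by
  constructor
  · intro hU g V _ _ _ _
    exact S7987.result k A hU g V
  intro h V _ _ _ hfin hnt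
  let ρ : Representation k (WithConv (A →ₐ[k] k)) V :=
    { toFun := fun g => H20Comod.actL g.ofConv.toLinearMap
      map_one' := LinearMap.ext fun v => H20Comod.actL_counit v
      map_mul' := fun g g' => LinearMap.ext fun v => H20Comod.actL_mul g g' v }
  obtain ⟨v, hv0, hv⟩ := S7975.result k _ V ρ fun g => h g.ofConv V hfin
  intro hbot
  refine hv0 ((Submodule.mem_bot k).1 (hbot ▸ ?_))
  show HopfRep.Comod.coact (k := k) (A := A) v = v ⊗ₜ[k] (1 : A)
  let b := Module.finBasis k V
  rw [H20Comod.eq_sum_basis_tmul_sliceL b (HopfRep.Comod.coact (k := k) (A := A) v),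
    H20Comod.eq_sum_basis_tmul_sliceL b (v ⊗ₜ[k] (1 : A))]
  refine Finset.sum_congr rfl fun i _ => congrArg (b i ⊗ₜ[k] ·) (sub_eq_zero.1 (H20Hopf.Rosenlicht.point_ext (k := k) fun g => ?_))
  rw [map_sub, ← H20Comod.coeff_apply, H20Comod.sliceL_tmul, map_smul, map_one, sub_eq_zero]
  refine (H20Comod.apply_coeff g.toLinearMap _ v).trans ?_
  rw [show H20Comod.actL g.toLinearMap v = v from hv (WithConv.toConv g)]
  simp

end Groth.Agent.S5423
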