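import Groth.Statements.S8384
import Mathlib.RingTheory.AdicCompletion.RingHom
import Mathlib.AlgebraicGeometry.Stalk

set_option autoImplicit false
universe u
open CategoryTheory MonoidalCategory CartesianMonoidalCategory MonObj GrpObj AlgebraicGeometry
open SGA3x

namespace Groth.Agent.S8384

open IsLocalRing in
theorem closedPoint_of_quotient {A : Type u} [CommRing A] [IsLocalRing A] (n : ℕ)
    (q : PrimeSpectrum (A ⧸ (maximalIdeal A) ^ n)) :
    PrimeSpectrum.comap (Ideal.Quotient.mk ((maximalIdeal A) ^ n)) q = closedPoint A := by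
  apply PrimeSpectrum.ext
  refine ((maximalIdeal.isMaximal A).eq_of_le (PrimeSpectrum.comap _ q).2.ne_top ?_).symm
  refine Ideal.IsPrime.le_of_pow_le (hP := (PrimeSpectrum.comap _ q).2) (n := n) fun a ha => ?_
  change Ideal.Quotient.mk _ a ∈ q.asIdeal
  rw [Ideal.Quotient.eq_zero_iff_mem.mpr ha]
  exact q.asIdeal.zero_mem

/-- Factor a morphism through an affine open containing its image. -/
theorem exists_specMap {R : CommRingCat.{u}} {X : Scheme.{u}} {U : X.Opens} (hU : IsAffineOpen U)
    (f : Spec R ⟶ X) (h : ∀ p, f p ∈ U) :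
    ∃ φ : Γ(X, U) ⟶ R, Spec.map φ ≫ hU.fromSpec = f := by
  have hr : Set.range f ⊆ Set.range hU.fromSpec := by
    rw [hU.range_fromSpec]; rintro _ ⟨p, rfl⟩; exact h p
  exact ⟨Spec.preimage (IsOpenImmersion.lift hU.fromSpec f hr), by
    rw [Spec.map_preimage, IsOpenImmersion.lift_fac]⟩

theorem mem_of_closedPoint_mem {A : Type u} [CommRing A] [IsLocalRing A] {X : Scheme.{u}}
    (f : Spec (CommRingCat.of A) ⟶ X) {U : X.Opens} (h : f (IsLocalRing.closedPoint A) ∈ U)
    (p : Spec (CommRingCat.of A)) : f p ∈ U :=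
  Specializes.mem_open (Specializes.map (IsLocalRing.specializes_closedPoint p) f.continuous) U.isOpen h

/-- Let A be a local ring, separated and complete for the topology defined by its maximal ideal m, S =
Spec A and Sₙ = Spec(A/mⁿ). Then for every scheme X the canonical map Hom(S, X) → lim Hom(Sₙ, X) is
bijective: two morphisms S → X that agree on every Sₙ are equal, and every family of morphisms Sₙ →
X compatible with the closed immersions Sₙ → Sₙ₊₁ is induced by a morphism S → X. -/
theorem result (A : Type u) [CommRing A] [IsLocalRing A]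
    [IsAdicComplete (IsLocalRing.maximalIdeal A) A] (X : Scheme.{u}) :
    (∀ f g : (Spec (CommRingCat.of A)) ⟶ X,
      (∀ n : ℕ, (Spec.map (CommRingCat.ofHom (Ideal.Quotient.mk ((IsLocalRing.maximalIdeal A) ^ n)))) ≫ f = (Spec.map (CommRingCat.ofHom (Ideal.Quotient.mk ((IsLocalRing.maximalIdeal A) ^ n)))) ≫ g) → f = g) ∧
    (∀ u : (n : ℕ) → (Spec (CommRingCat.of (A ⧸ (IsLocalRing.maximalIdeal A) ^ n)) ⟶ X),
      (∀ n : ℕ, (Spec.map (CommRingCat.ofHom (Ideal.Quotient.factor
          (Ideal.pow_le_pow_right (I := (IsLocalRing.maximalIdeal A)) (Nat.le_succ n))))) ≫ u (n + 1) = u n) →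
      ∃ f : (Spec (CommRingCat.of A)) ⟶ X, ∀ n : ℕ, (Spec.map (CommRingCat.ofHom (Ideal.Quotient.mk ((IsLocalRing.maximalIdeal A) ^ n)))) ≫ f = u n) := by
  classical
  let I := IsLocalRing.maximalIdeal A
  let mkS : ∀ n : ℕ, Spec (CommRingCat.of (A ⧸ I ^ n)) ⟶ Spec (CommRingCat.of A) :=
    fun n => Spec.map (CommRingCat.ofHom (Ideal.Quotient.mk (I ^ n)))
  have hclosed : ∀ (n : ℕ) (q : Spec (CommRingCat.of (A ⧸ I ^ n))),
      mkS n q = IsLocalRing.closedPoint A := fun n q => closedPoint_of_quotient n q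
  have hne : Nonempty (Spec (CommRingCat.of (A ⧸ I ^ 1))) := by
    have : Nontrivial (A ⧸ I ^ 1) :=
      Ideal.Quotient.nontrivial_iff.mpr (by rw [pow_one]; exact (IsLocalRing.maximalIdeal.isMaximal A).ne_top)
    exact (inferInstance : Nonempty (PrimeSpectrum (A ⧸ I ^ 1)))
  obtain ⟨pt⟩ := hne
  refine ⟨fun f g hfg => ?_, fun u hu => ?_⟩
  · have hx : g (IsLocalRing.closedPoint A) = f (IsLocalRing.closedPoint A) := by
      have := congrArg (fun k : Spec (CommRingCat.of (A ⧸ I ^ 1)) ⟶ X => k pt) (hfg 1)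
      change f (mkS 1 pt) = g (mkS 1 pt) at this
      rw [hclosed] at this
      exact this.symm
    obtain ⟨U, hU, hxU, -⟩ := exists_isAffineOpen_mem_and_subset
      (U := (⊤ : X.Opens)) (x := f (IsLocalRing.closedPoint A)) trivial
    obtain ⟨φ, rfl⟩ := exists_specMap hU f (mem_of_closedPoint_mem f hxU)
    obtain ⟨ψ, rfl⟩ := exists_specMap hU g (mem_of_closedPoint_mem g (hx ▸ hxU))
    congr 2
    refine CommRingCat.hom_ext (RingHom.ext fun r => congrFun ?_ r)
    refine IsHausdorff.funext' (IsLocalRing.maximalIdeal A) fun n r => ?_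
    have := hfg n
    rw [← Category.assoc, ← Category.assoc, cancel_mono, ← Spec.map_comp, ← Spec.map_comp] at this
    exact congrArg (fun k : Γ(X, U) ⟶ CommRingCat.of (A ⧸ I ^ n) => k.hom r) (Spec.map_injective this)
  · have hle : ∀ {m n : ℕ} (h : m ≤ n), Spec.map (CommRingCat.ofHom
        (Ideal.Quotient.factor (Ideal.pow_le_pow_right (I := I) h))) ≫ u n = u m := by
      intro m n h
      induction n, h using Nat.le_induction with
      | base =>
        have : CommRingCat.ofHom (Ideal.Quotient.factor (Ideal.pow_le_pow_right (I := I) (le_refl m))) =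
            𝟙 _ := CommRingCat.hom_ext (Ideal.Quotient.ringHom_ext (RingHom.ext fun _ => rfl))
        rw [this, Spec.map_id, Category.id_comp]
      | succ n h ih =>
        conv_rhs => rw [← ih, ← hu n, ← Spec.map_comp_assoc]
        congr 2
        exact CommRingCat.hom_ext (Ideal.Quotient.ringHom_ext (RingHom.ext fun _ => rfl))
    obtain ⟨U, hU, hxU, -⟩ := exists_isAffineOpen_mem_and_subset
      (U := (⊤ : X.Opens)) (x := u 1 pt) trivial
    have hmem : ∀ n (q : Spec (CommRingCat.of (A ⧸ I ^ n))), u n q ∈ U := by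
      intro n q
      rcases Nat.eq_zero_or_pos n with rfl | hn
      · have : Subsingleton (A ⧸ I ^ 0) := Ideal.Quotient.subsingleton_iff.mpr (by simp)
        exact ((q : PrimeSpectrum (A ⧸ I ^ 0)).2.ne_top (Subsingleton.elim _ _)).elim
      · let φ := Spec.map (CommRingCat.ofHom
          (Ideal.Quotient.factor (Ideal.pow_le_pow_right (I := I) hn)))
        have hq : φ pt = q := PrimeSpectrum.comap_injective_of_surjective _
          Ideal.Quotient.mk_surjective ((hclosed n (φ pt)).trans (hclosed n q).symm)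
        rw [← hq]
        change (φ ≫ u n) pt ∈ U
        rw [hle hn]
        exact hxU
    choose ψ hψ using fun n => exists_specMap hU (u n) (hmem n)
    have hcompat : ∀ {m n : ℕ} (h : m ≤ n),
        (Ideal.Quotient.factor (Ideal.pow_le_pow_right (I := I) h)).comp (ψ n).hom = (ψ m).hom := by
      intro m n h
      have := hle h
      rw [← hψ n, ← hψ m, ← Category.assoc, cancel_mono, ← Spec.map_comp] at this
      exact congrArg CommRingCat.Hom.hom (Spec.map_injective this)
    refine ⟨Spec.map (CommRingCat.ofHom (IsAdicComplete.liftRingHom I (fun n => (ψ n).hom) hcompat)) ≫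
      hU.fromSpec, fun n => ?_⟩
    rw [← Category.assoc, ← Spec.map_comp, ← hψ n]
    congr 2
    exact CommRingCat.hom_ext (IsAdicComplete.mk_comp_liftRingHom I (fun n => (ψ n).hom) hcompat n)

end Groth.Agent.S8384
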