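import Groth.Statements.S4101
import Groth.Agent.H19Grp.PiClosedGlobal

set_option autoImplicit false
set_option linter.style.haveILetI false
set_option backward.isDefEq.respectTransparency false
universe u
open CategoryTheory MonoidalCategory CartesianMonoidalCategory MonObj GrpObj AlgebraicGeometry CategoryTheory.Limits
open SGA3

namespace Groth.Agent.S4101

/-- Let f : Z → S be essentially free (every point of S has an affine open neighbourhood U and a flat
surjective morphism S' → U from an affine scheme S' such that Z ×_S S' is covered by affine opens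
whose rings of sections are projective Γ(S')-modules) and j : Y → Z a closed immersion. Then there
is a closed immersion t : T → S such that a morphism g : S' → S factors through T exactly when the
closed immersion Y ×_Z Z_{S'} → Z_{S'} deduced from j by base change is an isomorphism; if moreover
Z is quasi-compact over S and j is of finite presentation, then t is of finite presentation. (The
published statement omits the quasi-compactness of Z over S in the last clause; it is stated here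
with it.) -/
theorem result (S Z Y : Scheme.{u}) (f : Z ⟶ S)
    (hf : SGA3x.IsEssentiallyFree f) (j : Y ⟶ Z) [IsClosedImmersion j] :
    ∃ (T : Scheme.{u}) (t : T ⟶ S), IsClosedImmersion t ∧
      (∀ (S' : Scheme.{u}) (g : S' ⟶ S),
        (∃ g' : S' ⟶ T, g' ≫ t = g) ↔ IsIso (pullback.snd j (pullback.fst f g))) ∧
      (QuasiCompact f → LocallyOfFinitePresentation j → LocallyOfFinitePresentation t) := by
  have key : ∀ s : S, ∃ (A : CommRingCat.{u}) (σ : Spec A ⟶ S) (𝔞 : Ideal A),
      IsOpenImmersion σ ∧ s ∈ Set.range σ ∧ H19Grp.HasUniv f j σ 𝔞 ∧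
        (QuasiCompact f → LocallyOfFinitePresentation j → 𝔞.FG) := by
    intro s
    obtain ⟨U, hs, hU, S', hS', g, hgf, hgs, hV⟩ := hf s
    haveI : IsAffine ↑U := hU
    obtain ⟨𝔟, h𝔟, hfg⟩ := H19Grp.hasUniv_of_opens (f := f) (j := j) (g ≫ U.ι) hV
    letI : Algebra Γ(↑U, ⊤) Γ(S', ⊤) := g.appTop.hom.toAlgebra
    haveI : Module.Flat Γ(↑U, ⊤) Γ(S', ⊤) :=
      HasRingHomProperty.appTop (P := @Flat) g inferInstance
    have hsurj : ∀ p : PrimeSpectrum Γ(↑U, ⊤), ∃ (_ : Unit), ∃ q : PrimeSpectrum Γ(S', ⊤),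
        q.comap (algebraMap Γ(↑U, ⊤) Γ(S', ⊤)) = p := by
      intro p
      have hsu : Surjective (Spec.map g.appTop) := by
        rw [← Iso.inv_hom_id_assoc S'.isoSpec (Spec.map g.appTop), Scheme.isoSpec_hom_naturality]
        infer_instance
      obtain ⟨q, hq⟩ := hsu.surj p
      exact ⟨(), q, hq⟩
    have e : Spec.map (CommRingCat.ofHom (algebraMap Γ(↑U, ⊤) Γ(S', ⊤))) ≫
        U.toScheme.isoSpec.inv ≫ U.ι = S'.isoSpec.inv ≫ g ≫ U.ι := by
      show Spec.map g.appTop ≫ _ = _
      rw [Scheme.isoSpec_inv_naturality_assoc]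
    obtain ⟨𝔞, h𝔞⟩ := H19Grp.hasUniv_of_family (f := f) (j := j) (A := Γ(↑U, ⊤))
      (U.toScheme.isoSpec.inv ≫ U.ι) (fun _ : Unit => Γ(S', ⊤)) hsurj (fun _ => 𝔟)
      (fun _ => by rw [e]; exact h𝔟)
    refine ⟨_, U.toScheme.isoSpec.inv ≫ U.ι, 𝔞, inferInstance,
      ⟨U.toScheme.isoSpec.hom ⟨s, hs⟩, ?_⟩, h𝔞, fun hqc hj => ?_⟩
    · rw [← Scheme.Hom.comp_apply, Iso.hom_inv_id_assoc]
      rfl
    · haveI : CompactSpace ↥(pullback f (g ≫ U.ι)) :=
        QuasiCompact.compactSpace_of_compactSpace (pullback.snd f (g ≫ U.ι))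
      refine H19Grp.fg_of_forall_map (fun _ : Unit => Γ(S', ⊤)) hsurj fun _ => ?_
      have h1 := h𝔞.map (CommRingCat.ofHom (algebraMap Γ(↑U, ⊤) Γ(S', ⊤)))
      rw [e] at h1
      rw [show 𝔞.map (algebraMap Γ(↑U, ⊤) Γ(S', ⊤)) = 𝔟 from h1.unique h𝔟]
      exact hfg inferInstance hj
  have hloc : H19Grp.HasUnivLocally f j := fun s => by
    obtain ⟨A, σ, 𝔞, h1, h2, h3, -⟩ := key s
    exact ⟨A, σ, 𝔞, h1, h2, h3⟩
  refine ⟨_, (H19Grp.univIdeal hloc).subschemeι, inferInstance, fun S' g => ?_, fun hqc hj => ?_⟩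
  · rw [H19Grp.contains_iff_factors hloc, H19Grp.contains_iff_isIso]
  · refine H19Grp.locallyOfFinitePresentation_subschemeι _ (H19Grp.fg_univIdeal hloc fun s => ?_)
    obtain ⟨A, σ, 𝔞, h1, h2, h3, h4⟩ := key s
    exact ⟨A, σ, 𝔞, h1, h2, h3, h4 hqc hj⟩

end Groth.Agent.S4101
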