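import Groth.Statements.S8385
import Groth.Agent.H21Adic.HomLimit
import Groth.Agent.H9Hens.Local
import Groth.Agent.H9Hens.Pair
import Groth.Agent.H24Adic.Basic

set_option autoImplicit false
set_option linter.style.haveILetI false
set_option maxHeartbeats 800000
universe u
open CategoryTheory MonoidalCategory CartesianMonoidalCategory MonObj GrpObj AlgebraicGeometry
open SGA3x

set_option backward.isDefEq.respectTransparency false

namespace Groth.Agent.S8385

/-- Let A be a complete Noetherian local ring with maximal ideal m, S = Spec A, Sₙ = Spec(A/mⁿ), X =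
Spec B a scheme finite over S (B a finite A-algebra) and Y an S-scheme. Then the canonical map
Hom_S(X, Y) → lim Hom_{Sₙ}(Xₙ, Yₙ), Xₙ = Spec(B/mⁿB), is bijective: two S-morphisms X → Y agreeing
on every Xₙ are equal, and every family of S-morphisms Xₙ → Y compatible with the closed immersions
Xₙ → Xₙ₊₁ comes from an S-morphism X → Y. -/
theorem result (A : Type u) [CommRing A] [IsLocalRing A]
    [IsNoetherianRing A] [IsAdicComplete (IsLocalRing.maximalIdeal A) A] (B : Type u) [CommRing B] [Algebra A B]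
    [Module.Finite A B] (Y : Over (Spec (CommRingCat.of A))) :
    (∀ f g : Spec (CommRingCat.of B) ⟶ Y.left, f ≫ Y.hom = Spec.map (CommRingCat.ofHom (algebraMap A B)) →
      g ≫ Y.hom = Spec.map (CommRingCat.ofHom (algebraMap A B)) →
      (∀ n : ℕ, Spec.map (CommRingCat.ofHom (Ideal.Quotient.mk (Ideal.map (algebraMap A B) ((IsLocalRing.maximalIdeal A) ^ n)))) ≫ f =
        Spec.map (CommRingCat.ofHom (Ideal.Quotient.mk (Ideal.map (algebraMap A B) ((IsLocalRing.maximalIdeal A) ^ n)))) ≫ g) → f = g) ∧
    (∀ u : (n : ℕ) → (Spec (CommRingCat.of (B ⧸ (Ideal.map (algebraMap A B) ((IsLocalRing.maximalIdeal A) ^ n)))) ⟶ Y.left),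
      (∀ n : ℕ, u n ≫ Y.hom =
        Spec.map (CommRingCat.ofHom ((Ideal.Quotient.mk (Ideal.map (algebraMap A B) ((IsLocalRing.maximalIdeal A) ^ n))).comp (algebraMap A B)))) →
      (∀ n : ℕ, Spec.map (CommRingCat.ofHom (Ideal.Quotient.factor
          (Ideal.map_mono (Ideal.pow_le_pow_right (I := (IsLocalRing.maximalIdeal A)) (Nat.le_succ n))))) ≫ u (n + 1) = u n) →
      ∃ f : Spec (CommRingCat.of B) ⟶ Y.left, f ≫ Y.hom = Spec.map (CommRingCat.ofHom (algebraMap A B)) ∧
        ∀ n : ℕ, Spec.map (CommRingCat.ofHom (Ideal.Quotient.mk (Ideal.map (algebraMap A B) ((IsLocalRing.maximalIdeal A) ^ n)))) ≫ f = u n) := by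
  classical
  let m := IsLocalRing.maximalIdeal A
  haveI : HenselianLocalRing A := ⟨fun f hf a₀ h₁ h₂ => HenselianRing.is_henselian (I := m) f hf a₀ h₁ (h₂.map _)⟩
  have hbij := H9Hens.toPiLocalization_bijective_of_idem_lift (R := A) (B := B)
    fun b hb => H9Hens.exists_idem_lift b hb
  haveI := H9Hens.finite_maximalSpectrum (R := A) B
  haveI : Finite (MaximalSpectrum B) := inferInstance
  let C : MaximalSpectrum B → Type u := fun i => Localization.AtPrime i.asIdeal
  let π : ∀ i, B →+* C i := fun i => algebraMap B (Localization.AtPrime i.asIdeal)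
  have hπ : Function.Bijective (RingHom.pi π) := hbij
  have hsurj : ∀ i, Function.Surjective (π i) := fun i c => by
    obtain ⟨b, hb⟩ := hπ.2 (Function.update (0 : ∀ j, C j) i c)
    exact ⟨b, by simpa using congrFun hb i⟩
  haveI : ∀ i, Module.Finite A (C i) := fun i =>
    Module.Finite.of_surjective (IsScalarTower.toAlgHom A B (C i)).toLinearMap (hsurj i)
  let J : ∀ i, Ideal (C i) := fun i => m.map (algebraMap A (C i))
  haveI : ∀ i, IsAdicComplete (J i) (C i) := fun i =>
    (IsAdicComplete.map_algebraMap_iff (I := m) (S := C i) (M := C i)).mpr (H24Adic.isAdicComplete_of_finite (I := m))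
  have hJ : ∀ i, J i ≠ ⊤ := fun i h => by
    have h0 := IsAdicComplete.le_jacobson_bot (J i)
    rw [h, IsLocalRing.jacobson_eq_maximalIdeal _ bot_ne_top] at h0
    exact (IsLocalRing.maximalIdeal.isMaximal (C i)).ne_top (top_le_iff.mp h0)
  let I : ℕ → Ideal B := fun n => Ideal.map (algebraMap A B) (m ^ n)
  have hImap : ∀ n i, (I n).map (π i) = J i ^ n := fun n i => by
    rw [← Ideal.map_pow, Ideal.map_map, IsScalarTower.algebraMap_eq A B (C i)]
  let π' : ∀ n i, (B ⧸ I n) →+* (C i ⧸ J i ^ n) := fun n i =>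
    Ideal.quotientMap (J i ^ n) (π i) (Ideal.map_le_iff_le_comap.mp (hImap n i).le)
  have hπ' : ∀ n, Function.Bijective (RingHom.pi (π' n)) := fun n => by
    refine ⟨(injective_iff_map_eq_zero _).mpr fun x hx => ?_, fun y => ?_⟩
    · obtain ⟨b, rfl⟩ := Ideal.Quotient.mk_surjective x
      rw [Ideal.Quotient.eq_zero_iff_mem]
      have hb : ∀ i, π i b ∈ (I n).map (π i) := fun i => by
        rw [hImap]
        exact Ideal.Quotient.eq_zero_iff_mem.mp (congrFun hx i)
      choose y hyI hy using fun i => (Ideal.mem_map_iff_of_surjective _ (hsurj i)).mp (hb i)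
      haveI : Fintype (MaximalSpectrum B) := Fintype.ofFinite _
      choose e he using fun i => hπ.2 (Pi.single i (1 : C i))
      have : b = ∑ i, e i * y i := hπ.1 <| funext fun j => by
        simp only [RingHom.pi_apply, map_sum, map_mul]
        rw [Finset.sum_eq_single j (fun i _ hi => by
          rw [show π j (e i) = Pi.single i (1 : C i) j from congrFun (he i) j, Pi.single_eq_of_ne hi.symm, zero_mul])
          (by simp), show π j (e j) = Pi.single j (1 : C j) j from congrFun (he j) j, Pi.single_eq_same, _root_.one_mul, hy]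
      rw [this]
      exact Submodule.sum_mem _ fun i _ => Ideal.mul_mem_left _ _ (hyI i)
    · choose c hc using fun i => Ideal.Quotient.mk_surjective (y i)
      obtain ⟨b, hb⟩ := hπ.2 c
      exact ⟨Ideal.Quotient.mk _ b, funext fun i => by
        rw [← hc i, ← hb]; rfl⟩
  have sq : ∀ n i, Spec.map (CommRingCat.ofHom (π' n i)) ≫ Spec.map (CommRingCat.ofHom (Ideal.Quotient.mk (I n))) =
      H21Adic.mkS (J i) n ≫ Spec.map (CommRingCat.ofHom (π i)) := fun n i => by
    rw [← Spec.map_comp, ← Spec.map_comp]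
    rfl
  have huniq : ∀ {X : Scheme.{u}} (f g : Spec (CommRingCat.of B) ⟶ X),
      (∀ n : ℕ, Spec.map (CommRingCat.ofHom (Ideal.Quotient.mk (I n))) ≫ f =
        Spec.map (CommRingCat.ofHom (Ideal.Quotient.mk (I n))) ≫ g) → f = g := fun f g h =>
    H21Adic.hom_ext_of_bijective hπ fun i => H21Adic.hom_ext (J i) (hJ i) fun n => by
      rw [← Category.assoc, ← Category.assoc, ← sq, Category.assoc, Category.assoc, h n]
  refine ⟨fun f g _ _ h => huniq f g h, fun u hu hc => ?_⟩
  choose fi hfi using fun i => H21Adic.exists_hom (J i) (hJ i)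
    (fun n => Spec.map (CommRingCat.ofHom (π' n i)) ≫ u n) fun n => by
      rw [← hc n, ← Category.assoc, ← Category.assoc, ← Spec.map_comp, ← Spec.map_comp]
      congr 2
      exact CommRingCat.hom_ext (Ideal.Quotient.ringHom_ext (RingHom.ext fun _ => rfl))
  obtain ⟨f, hf⟩ := H21Adic.exists_of_bijective hπ fi
  have hfn : ∀ n, Spec.map (CommRingCat.ofHom (Ideal.Quotient.mk (I n))) ≫ f = u n := fun n =>
    H21Adic.hom_ext_of_bijective (hπ' n) fun i => by
      rw [← Category.assoc, sq, Category.assoc, hf, hfi]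
  refine ⟨f, huniq _ _ fun n => ?_, hfn⟩
  rw [← Category.assoc, hfn, hu, ← Spec.map_comp]
  rfl

end Groth.Agent.S8385
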