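import Groth.Statements.S8395
import Groth.Agent.H19Grp.EtaleEndo

set_option autoImplicit false
set_option linter.style.haveILetI false
universe u
open CategoryTheory MonoidalCategory CartesianMonoidalCategory MonObj GrpObj AlgebraicGeometry
open SGA3x

set_option backward.isDefEq.respectTransparency false

namespace Groth.Agent.S8395

/-- Let k be a field, G a k-group scheme locally of finite type, n an integer invertible in k, and u : G
→ G the n-th power morphism. Then u is etale at every point of G lying in the centre of G; here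
stated at a k-rational point g of G which is central (commutes with all points of G): u is etale on
some open neighbourhood of g. (The published statement is for any point of the centre; its proof
reduces to rational points by extending the base field.) -/
theorem result (k : Type u) [Field k]
    (G : Over (Spec (CommRingCat.of k))) [GrpObj G] [LocallyOfFiniteType G.hom] (n : ℕ) (hn : (n : k) ≠ 0)
    (g : 𝟙_ (Over (Spec (CommRingCat.of k))) ⟶ G)
    (hg : ∀ (X : Over (Spec (CommRingCat.of k))) (x : X ⟶ G), (toUnit X ≫ g) * x = x * (toUnit X ≫ g)) :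
    ∃ U : G.left.Opens, Set.range g.left.base ⊆ (U : Set ↥G.left) ∧
      Etale (U.ι ≫ ((𝟙 G : G ⟶ G) ^ n).left) := by
  have hmem : ∀ z : 𝟙_ (Over (Spec (CommRingCat.of k))) ⟶ G, z ≫ (𝟙 G : G ⟶ G) ^ n = z ^ n := fun z => by
    rw [MonObj.comp_pow, Category.comp_id]
  rcases Nat.exists_eq_succ_of_ne_zero (show n ≠ 0 by rintro rfl; simp at hn) with ⟨m, rfl⟩
  let f : G ⟶ G := (𝟙 G : G ⟶ G) ^ (m + 1)
  let τ : G ≅ G :=
    { hom := (toUnit G ≫ g ^ m) * 𝟙 G
      inv := (toUnit G ≫ (g ^ m)⁻¹) * 𝟙 G
      hom_inv_id := by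
        rw [MonObj.comp_mul, Category.comp_id, ← Category.assoc, toUnit_unique (_ ≫ toUnit G) (toUnit G),
          ← _root_.mul_assoc, ← MonObj.comp_mul, inv_mul_cancel, MonObj.comp_one, _root_.one_mul]
      inv_hom_id := by
        rw [MonObj.comp_mul, Category.comp_id, ← Category.assoc, toUnit_unique (_ ≫ toUnit G) (toUnit G),
          ← _root_.mul_assoc, ← MonObj.comp_mul, mul_inv_cancel, MonObj.comp_one, _root_.one_mul] }
  haveI : IsIso τ.hom.left := ((Over.forget _).mapIso τ).isIso_hom
  have hgτ : g ≫ τ.hom = g ≫ f := by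
    simp only [τ, f]
    rw [hmem, MonObj.comp_mul, Category.comp_id, ← Category.assoc, toUnit_unique (g ≫ toUnit G) (𝟙 _),
      Category.id_comp, ← pow_succ]
  have hy : τ.hom.left (g.left (IsLocalRing.closedPoint k)) = f.left (g.left (IsLocalRing.closedPoint k)) :=
    congrArg (fun w => w.left (IsLocalRing.closedPoint k)) hgτ
  let e : G.left.presheaf.stalk (f.left (g.left (IsLocalRing.closedPoint k))) ≅
      G.left.presheaf.stalk (g.left (IsLocalRing.closedPoint k)) :=
    G.left.presheaf.stalkCongr (.of_eq hy.symm) ≪≫ asIso (τ.hom.left.stalkMap _)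
  obtain ⟨U, hU, hUe⟩ := H19Grp.etale_nhd_endo f g e fun x hx hf => by
    let w : H19Grp.TangentPow.sqz k k ⟶ G := toUnit _ ≫ g
    have hcomm : Commute x w := ((hg _ x).symm : x * w = w * x)
    have hz : H19Grp.TangentPow.red k k ≫ (x * w⁻¹) = 1 := by
      rw [MonObj.comp_mul, GrpObj.comp_inv, hx, ← Category.assoc,
        toUnit_unique (H19Grp.TangentPow.red k k ≫ toUnit _) (𝟙 _), Category.id_comp, mul_inv_cancel]
    have hn' : (((m + 1 : ℕ) : ℤ) : k) ≠ 0 := by exact_mod_cast hn
    refine eq_of_mul_inv_eq_one (H19Grp.TangentPow.eq_one_of_zpow_eq_one hz _ hn' ?_)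
    simp only [f, MonObj.comp_pow, Category.comp_id] at hf
    rw [zpow_natCast, hcomm.inv_right.mul_pow, hf, inv_pow, mul_inv_cancel]
  refine ⟨U, ?_, hUe⟩
  rintro _ ⟨q, rfl⟩
  haveI : Subsingleton (Spec (CommRingCat.of k)) := inferInstance
  rw [Subsingleton.elim (α := Spec (CommRingCat.of k)) q (IsLocalRing.closedPoint k)]
  exact hU

end Groth.Agent.S8395
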