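import Groth.Statements.S5266
import Groth.Agent.H21Diag.FpqcLocal

set_option autoImplicit false
open CategoryTheory MonoidalCategory CartesianMonoidalCategory MonObj GrpObj AlgebraicGeometry
universe u
open SGA3x

namespace Groth.Agent.S5266

open CategoryTheory.Limits in
theorem isPullback_const {U V : Scheme.{u}} (ε : V ⟶ U) [IsOpenImmersion ε] (I : Type u) :
    IsPullback (Limits.Sigma.desc fun j => ε ≫ Limits.Sigma.ι (fun _ : I => U) j)
      (Limits.Sigma.desc fun _ : I => 𝟙 V) (Limits.Sigma.desc fun _ : I => 𝟙 U) ε := by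
  let m : (∐ fun _ : I => V) ⟶ ∐ fun _ : I => U :=
    Limits.Sigma.desc fun j => ε ≫ Limits.Sigma.ι (fun _ : I => U) j
  have : IsOpenImmersion m := by
    refine isOpenImmersion_sigmaDesc _ _ fun j j' hjj' => ?_
    refine Set.disjoint_iff_forall_ne.mpr ?_
    rintro _ ⟨x, rfl⟩ _ ⟨y, rfl⟩ hxy
    exact Set.disjoint_iff_forall_ne.mp (TopologicalSpace.Opens.coe_disjoint.mpr
      (disjoint_opensRange_sigmaι (fun _ : I => U) j j' hjj')) ⟨ε.base x, rfl⟩ ⟨ε.base y, rfl⟩ hxy
  refine (IsOpenImmersion.isPullback (Limits.Sigma.desc fun _ : I => 𝟙 V) m ε _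
    (Limits.Sigma.hom_ext _ _ fun j => by simp [m]) (TopologicalSpace.Opens.ext (Set.ext fun p => ?_))).flip
  obtain ⟨⟨j, x⟩, rfl⟩ := (sigmaMk fun _ : I => U).surjective p
  rw [sigmaMk_mk]
  constructor
  · intro hx
    change (Limits.Sigma.desc fun _ : I => 𝟙 U).base ((Limits.Sigma.ι (fun _ : I => U) j).base x) ∈
      Set.range ε.base at hx
    rw [← Scheme.Hom.comp_apply, Limits.Sigma.ι_desc] at hx
    obtain ⟨v, hv⟩ := hx
    refine ⟨(Limits.Sigma.ι (fun _ : I => V) j).base v, ?_⟩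
    rw [← Scheme.Hom.comp_apply, Limits.Sigma.ι_desc, Scheme.Hom.comp_apply]
    exact congrArg _ hv
  · rintro ⟨q, hq⟩
    obtain ⟨⟨j', v⟩, rfl⟩ := (sigmaMk fun _ : I => V).surjective q
    rw [sigmaMk_mk, ← Scheme.Hom.comp_apply, Limits.Sigma.ι_desc] at hq
    refine ⟨v, ?_⟩
    rw [← hq, ← Scheme.Hom.comp_apply, Category.assoc, Limits.Sigma.ι_desc]
    rfl

open CategoryTheory.Limits in
theorem finite_fold {R : CommRingCat.{u}} (F : Type u) [Finite F] :
    IsFinite (Limits.Sigma.desc fun _ : F => 𝟙 (Spec R)) := by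
  have h : Limits.Sigma.desc (fun _ : F => 𝟙 (Spec R)) =
      sigmaSpec (fun _ : F => R) ≫ Spec.map (CommRingCat.ofHom (RingHom.pi fun _ : F => RingHom.id R)) := by
    refine Limits.Sigma.hom_ext _ _ fun j => ?_
    rw [Limits.Sigma.ι_desc, ι_sigmaSpec_assoc, ← Spec.map_comp, ← Spec.map_id]
    rfl
  rw [h, MorphismProperty.cancel_left_of_respectsIso (P := @IsFinite), IsFinite.SpecMap_iff]
  exact RingHom.finite_algebraMap.mpr (inferInstance : Module.Finite R (F → R))

open CategoryTheory.Limits in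
theorem finite_of_const {V : Scheme.{u}} [IsAffine V] (I : Type u) {Z : Scheme.{u}}
    (c : Z ⟶ ∐ fun _ : I => V) [IsClosedImmersion c]
    [hqc : QuasiCompact (c ≫ Limits.Sigma.desc fun _ : I => 𝟙 V)] :
    IsFinite (c ≫ Limits.Sigma.desc fun _ : I => 𝟙 V) := by
  classical
  have : CompactSpace Z := QuasiCompact.compactSpace_of_compactSpace (c ≫ Limits.Sigma.desc fun _ : I => 𝟙 V)
  obtain ⟨F, hF⟩ := (isCompact_univ : IsCompact (Set.univ : Set Z)).elim_finite_subcover
    (fun j : I => c.base ⁻¹' Set.range (Limits.Sigma.ι (fun _ : I => V) j).base)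
    (fun j => ((Limits.Sigma.ι (fun _ : I => V) j).isOpenEmbedding.isOpen_range).preimage c.continuous)
    (fun z _ => by
      obtain ⟨⟨j, x⟩, hx⟩ := (sigmaMk fun _ : I => V).surjective (c.base z)
      exact Set.mem_iUnion.mpr ⟨j, x, by rw [← hx, sigmaMk_mk]⟩)
  let k : (∐ fun _ : F => V) ⟶ ∐ fun _ : I => V :=
    Limits.Sigma.desc fun j => Limits.Sigma.ι (fun _ : I => V) j.1
  have : IsOpenImmersion k := isOpenImmersion_sigmaDesc _ _ fun j j' hjj' =>
    TopologicalSpace.Opens.coe_disjoint.mpr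
      (disjoint_opensRange_sigmaι (fun _ : I => V) j.1 j'.1 (fun h => hjj' (Subtype.ext h)))
  have hr : Set.range c.base ⊆ Set.range k.base := by
    rintro _ ⟨z, rfl⟩
    obtain ⟨j, hj, x, hx⟩ := Set.mem_iUnion₂.mp (hF (Set.mem_univ z))
    refine ⟨(Limits.Sigma.ι (fun _ : F => V) ⟨j, hj⟩).base x, ?_⟩
    rw [← Scheme.Hom.comp_apply, Limits.Sigma.ι_desc]
    exact hx
  let l := IsOpenImmersion.lift k c hr
  have : IsClosedImmersion (l ≫ k) := by rw [IsOpenImmersion.lift_fac]; infer_instance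
  have : IsClosedImmersion l := IsClosedImmersion.of_comp l k
  let ψ : (∐ fun _ : F => V) ⟶ ∐ fun _ : F => Spec Γ(V, ⊤) :=
    (Limits.Sigma.mapIso fun _ : F => V.isoSpec).hom
  have hd : c ≫ Limits.Sigma.desc (fun _ : I => 𝟙 V) =
      l ≫ ψ ≫ Limits.Sigma.desc (fun _ : F => 𝟙 (Spec Γ(V, ⊤))) ≫ V.isoSpec.inv := by
    rw [← IsOpenImmersion.lift_fac k c hr, Category.assoc]
    congr 1
    refine Limits.Sigma.hom_ext _ _ fun j => ?_
    simp [k, ψ]
  have := finite_fold (R := Γ(V, ⊤)) F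
  rw [hd]
  infer_instance

/-- Let R be a twisted constant S-scheme (fpqc-locally on S isomorphic to a constant scheme, the index
set being allowed to vary) and Z a closed subscheme of R which is quasi-compact over S. Then Z is
finite over S. -/
theorem result {S : Scheme.{u}} (R : Over S) (hR : TwC.IsTwConst TwC.Topology.fpqc R)
    {Z : Scheme.{u}} (z : Z ⟶ R.left) [IsClosedImmersion z] [QuasiCompact (z ≫ R.hom)] :
    IsFinite (z ≫ R.hom) := by
  obtain ⟨S', g, hg, hs, hqc, hloc⟩ := hR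
  refine Groth.Agent.H21Diag.of_fpqc_cover_base (@IsFinite) g hqc (z ≫ R.hom) fun s' => ?_
  obtain ⟨U, hsU, I, ⟨e⟩⟩ := hloc s'
  obtain ⟨V, hV, hsV, hVU⟩ := exists_isAffineOpen_mem_and_subset (U := U) (x := s') hsU
  refine ⟨V, hsV, ?_⟩
  have : IsAffine V := hV
  let ε := S'.homOfLE hVU
  have hε : ε ≫ U.ι = V.ι := S'.homOfLE_ι hVU
  -- base change along `V ⟶ U`
  let u₀ := U.ι ≫ g
  let c₀ : Limits.pullback (z ≫ R.hom) u₀ ⟶ ∐ fun _ : I => (U : Scheme.{u}) :=
    (Limits.pullbackRightPullbackFstIso R.hom u₀ z).inv ≫ Limits.pullback.snd z _ ≫ e.hom.left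
  have : IsIso e.hom.left := inferInstanceAs (IsIso ((Over.forget _).map e.hom))
  have : IsClosedImmersion c₀ := inferInstance
  have hc₀ : c₀ ≫ Limits.Sigma.desc (fun _ : I => 𝟙 (U : Scheme.{u})) = Limits.pullback.snd (z ≫ R.hom) u₀ := by
    have he : e.hom.left ≫ Limits.Sigma.desc (fun _ : I => 𝟙 (U : Scheme.{u})) = Limits.pullback.snd R.hom u₀ :=
      Over.w e.hom
    simp only [c₀, Category.assoc, he]
    rw [Iso.inv_comp_eq, Limits.pullbackRightPullbackFstIso_hom_snd]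
  rw [show V.ι ≫ g = ε ≫ u₀ by rw [← Category.assoc, hε],
    ← Limits.pullbackLeftPullbackSndIso_inv_snd_snd (z ≫ R.hom) u₀ ε,
    MorphismProperty.cancel_left_of_respectsIso (P := @IsFinite)]
  -- the constant scheme over the smaller open
  let d : (∐ fun _ : I => (U : Scheme.{u})) ⟶ (U : Scheme.{u}) := Limits.Sigma.desc fun _ : I => 𝟙 _
  let dV : (∐ fun _ : I => (V : Scheme.{u})) ⟶ (V : Scheme.{u}) := Limits.Sigma.desc fun _ : I => 𝟙 _
  let m : (∐ fun _ : I => (V : Scheme.{u})) ⟶ ∐ fun _ : I => (U : Scheme.{u}) :=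
    Limits.Sigma.desc fun j => ε ≫ Limits.Sigma.ι (fun _ : I => (U : Scheme.{u})) j
  have hm : IsPullback m dV d ε := Groth.Agent.S5266.isPullback_const ε I
  let P := Limits.pullback (Limits.pullback.snd (z ≫ R.hom) u₀) ε
  let c : P ⟶ ∐ fun _ : I => (V : Scheme.{u}) :=
    hm.lift (Limits.pullback.fst _ _ ≫ c₀) (Limits.pullback.snd _ _) (by
      rw [Category.assoc, hc₀, Limits.pullback.condition])
  have hP : IsPullback (Limits.pullback.fst (Limits.pullback.snd (z ≫ R.hom) u₀) ε) c c₀ m := by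
    refine IsPullback.of_bot ?_ (hm.lift_fst _ _ _).symm hm
    rw [hm.lift_snd, hc₀]
    exact IsPullback.of_hasPullback _ _
  have : IsClosedImmersion c := MorphismProperty.of_isPullback hP inferInstance
  have hz : QuasiCompact (Limits.pullback.snd (z ≫ R.hom) u₀) := inferInstance
  have hq : QuasiCompact (c ≫ dV) := by rw [hm.lift_snd]; infer_instance
  have := finite_of_const I c (hqc := hq)
  rwa [hm.lift_snd] at this

end Groth.Agent.S5266
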