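import Groth.Statements.S5267
import Groth.Agent.S5266
import Groth.Agent.H17.Topology
import Groth.Agent.H21Diag.FpqcLocal

set_option autoImplicit false
open CategoryTheory MonoidalCategory CartesianMonoidalCategory MonObj GrpObj AlgebraicGeometry
universe u
open SGA3x

namespace Groth.Agent.S5267

open CategoryTheory.Limits in
/-- An open-and-closed subscheme of a constant scheme over a connected affine base: finiteness of one
fibre implies finiteness. -/
theorem isFinite_of_compact_fibre {C : Scheme.{u}} [IsAffine C] [ConnectedSpace C] (I : Type u) {Q : Scheme.{u}}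
    (c : Q ⟶ ∐ fun _ : I => C) [IsOpenImmersion c] [IsClosedImmersion c] (x : C)
    (hx : IsCompact ((c ≫ Limits.Sigma.desc fun _ : I => 𝟙 C).base ⁻¹' {x})) :
    IsFinite (c ≫ Limits.Sigma.desc fun _ : I => 𝟙 C) := by
  classical
  let ι' := fun j : I => Limits.Sigma.ι (fun _ : I => C) j
  let d := Limits.Sigma.desc fun _ : I => 𝟙 C
  obtain ⟨F, hF⟩ := hx.elim_finite_subcover (fun j : I => c.base ⁻¹' Set.range (ι' j).base)
    (fun j => ((ι' j).isOpenEmbedding.isOpen_range).preimage c.continuous)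
    (fun q _ => by
      obtain ⟨⟨j, y⟩, hy⟩ := (sigmaMk fun _ : I => C).surjective (c.base q)
      exact Set.mem_iUnion.mpr ⟨j, y, by rw [← hy, sigmaMk_mk]⟩)
  have hsub : Set.range c.base ⊆ ⋃ j ∈ F, Set.range (ι' j).base := by
    rintro _ ⟨q, rfl⟩
    obtain ⟨⟨j, y⟩, hy⟩ := (sigmaMk fun _ : I => C).surjective (c.base q)
    rw [sigmaMk_mk] at hy
    have hcl : IsClopen ((ι' j).base ⁻¹' Set.range c.base) :=
      ⟨c.isClosedEmbedding.isClosed_range.preimage (ι' j).continuous,
        c.isOpenEmbedding.isOpen_range.preimage (ι' j).continuous⟩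
    have hu := hcl.eq_univ ⟨y, q, hy.symm⟩
    obtain ⟨q', hq'⟩ : x ∈ (ι' j).base ⁻¹' Set.range c.base := hu ▸ Set.mem_univ x
    have hq'x : (c ≫ d).base q' = x := by
      rw [Scheme.Hom.comp_apply, hq', ← Scheme.Hom.comp_apply, Limits.Sigma.ι_desc]
      rfl
    obtain ⟨j', hj', y', hy'⟩ := Set.mem_iUnion₂.mp (hF hq'x)
    have : j' = j := by
      have h := (sigmaMk fun _ : I => C).injective (a₁ := ⟨j', y'⟩) (a₂ := ⟨j, x⟩)
        (by rw [sigmaMk_mk, sigmaMk_mk]; exact hy'.trans hq')
      exact congrArg Sigma.fst h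
    exact Set.mem_iUnion₂.mpr ⟨j, this ▸ hj', y, hy⟩
  have hK : IsCompact (⋃ j ∈ F, Set.range (ι' j).base) :=
    F.isCompact_biUnion fun j _ => isCompact_range (ι' j).continuous
  have : CompactSpace Q := isCompact_univ_iff.mp (by
    rw [c.isEmbedding.isCompact_iff, Set.image_univ]
    exact hK.of_isClosed_subset c.isClosedEmbedding.isClosed_range hsub)
  exact Groth.Agent.S5266.finite_of_const I c

open CategoryTheory.Limits in
/-- Locally on an étale chart, finiteness of one fibre gives finiteness. -/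
theorem chart {S Z C U : Scheme.{u}} [IsAffine C] [ConnectedSpace C] (P : Over S) (z : Z ⟶ P.left)
    [IsOpenImmersion z] [IsClosedImmersion z] (u₀ : U ⟶ S) (I : Type u) (e : Red.bc u₀ P ≅ TwC.const U I)
    (ε : C ⟶ U) [IsOpenImmersion ε] (x : C) (hx : ((z ≫ P.hom).base ⁻¹' {(ε ≫ u₀).base x}).Finite) :
    IsFinite (Limits.pullback.snd (z ≫ P.hom) (ε ≫ u₀)) := by
  let g := z ≫ P.hom
  let c₀ : Limits.pullback g u₀ ⟶ ∐ fun _ : I => U :=
    (Limits.pullbackRightPullbackFstIso P.hom u₀ z).inv ≫ Limits.pullback.snd z _ ≫ e.hom.left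
  have : IsIso e.hom.left := inferInstanceAs (IsIso ((Over.forget _).map e.hom))
  have : IsClosedImmersion c₀ := inferInstance
  have : IsOpenImmersion c₀ := inferInstance
  have hc₀ : c₀ ≫ Limits.Sigma.desc (fun _ : I => 𝟙 U) = Limits.pullback.snd g u₀ := by
    have he : e.hom.left ≫ Limits.Sigma.desc (fun _ : I => 𝟙 U) = Limits.pullback.snd P.hom u₀ :=
      Over.w e.hom
    simp only [c₀, Category.assoc, he]
    rw [Iso.inv_comp_eq]
    exact (Limits.pullbackRightPullbackFstIso_hom_snd P.hom u₀ z).symm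
  let m : (∐ fun _ : I => C) ⟶ ∐ fun _ : I => U :=
    Limits.Sigma.desc fun j => ε ≫ Limits.Sigma.ι (fun _ : I => U) j
  let dV : (∐ fun _ : I => C) ⟶ C := Limits.Sigma.desc fun _ : I => 𝟙 _
  have hm : IsPullback m dV (Limits.Sigma.desc fun _ : I => 𝟙 U) ε := Groth.Agent.S5266.isPullback_const ε I
  let Q := Limits.pullback (Limits.pullback.snd g u₀) ε
  let c : Q ⟶ ∐ fun _ : I => C :=
    hm.lift (Limits.pullback.fst _ _ ≫ c₀) (Limits.pullback.snd _ _) (by
      rw [Category.assoc, hc₀, Limits.pullback.condition])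
  have hP : IsPullback (Limits.pullback.fst (Limits.pullback.snd g u₀) ε) c c₀ m := by
    refine IsPullback.of_bot ?_ (hm.lift_fst _ _ _).symm hm
    rw [hm.lift_snd, hc₀]
    exact IsPullback.of_hasPullback _ _
  have : IsClosedImmersion c := MorphismProperty.of_isPullback hP inferInstance
  have : IsOpenImmersion c := MorphismProperty.of_isPullback hP inferInstance
  have hc : c ≫ dV = Limits.pullback.snd (Limits.pullback.snd g u₀) ε := hm.lift_snd _ _ _
  rw [← Limits.pullbackLeftPullbackSndIso_inv_snd_snd g u₀ ε,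
    MorphismProperty.cancel_left_of_respectsIso (P := @IsFinite), ← hc]
  refine isFinite_of_compact_fibre I c x ?_
  rw [show (c ≫ Limits.Sigma.desc fun _ : I => 𝟙 C) = Limits.pullback.snd (Limits.pullback.snd g u₀) ε from hc]
  -- compactness of the fibre
  let y := (ε ≫ u₀).base x
  have : Finite (g ⁻¹' {y} : Set Z) := hx.to_subtype
  have : CompactSpace (g.fiber y) := (g.fiberHomeo y).symm.compactSpace
  have h1 : QuasiCompact (Limits.pullback.snd g (S.fromSpecResidueField y)) :=
    HasAffineProperty.iff_of_isAffine (P := @QuasiCompact).mpr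
      (inferInstanceAs (CompactSpace (g.fiber y)))
  have h2 : ∀ k, k = C.fromSpecResidueField x ≫ ε ≫ u₀ → QuasiCompact (Limits.pullback.snd g k) := by
    rintro k rfl
    rw [← (ε ≫ u₀).SpecMap_residueFieldMap_fromSpecResidueField x,
      ← Limits.pullbackLeftPullbackSndIso_inv_snd_snd g (S.fromSpecResidueField y),
      MorphismProperty.cancel_left_of_respectsIso (P := @QuasiCompact)]
    infer_instance
  let t := Limits.pullback.snd (Limits.pullback.snd g u₀) ε
  have h3 : QuasiCompact (Limits.pullback.snd t (C.fromSpecResidueField x)) := by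
    rw [← Limits.pullbackLeftPullbackSndIso_hom_snd (Limits.pullback.snd g u₀) ε (C.fromSpecResidueField x),
      MorphismProperty.cancel_left_of_respectsIso (P := @QuasiCompact),
      ← Limits.pullbackLeftPullbackSndIso_hom_snd g u₀ (C.fromSpecResidueField x ≫ ε),
      MorphismProperty.cancel_left_of_respectsIso (P := @QuasiCompact)]
    exact h2 _ (Category.assoc _ _ _)
  have : CompactSpace (t.fiber x) :=
    (HasAffineProperty.iff_of_isAffine (P := @QuasiCompact)).mp h3
  have := (t.fiberHomeo x).compactSpace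
  exact isCompact_iff_compactSpace.mpr this

theorem exists_chart {S : Scheme.{u}} [IsLocallyNoetherian S] {U : Scheme.{u}} (f : U ⟶ S)
    [LocallyOfFiniteType f] (u : U) : ∃ C : U.Opens, u ∈ C ∧ IsAffine C ∧ ConnectedSpace C := by
  have : IsLocallyNoetherian U := LocallyOfFiniteType.isLocallyNoetherian f
  obtain ⟨V, hV, huV, -⟩ := exists_isAffineOpen_mem_and_subset (U := (⊤ : U.Opens)) (x := u) trivial
  have : IsNoetherianRing Γ(U, V) := IsLocallyNoetherian.component_noetherian ⟨V, hV⟩
  have : TopologicalSpace.NoetherianSpace (Spec Γ(U, V)) :=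
    (inferInstance : TopologicalSpace.NoetherianSpace (PrimeSpectrum Γ(U, V)))
  have : TopologicalSpace.NoetherianSpace (V : Scheme.{u}) := hV.isoSpec.hom.homeomorph.isEmbedding.noetherianSpace
  have ho : IsOpen (connectedComponent (⟨u, huV⟩ : (V : Scheme.{u}))) := Groth.Agent.H17.isOpen_connectedComponent (X := ((V : Scheme.{u}) : Type u)) _
  let C₀ : (V : Scheme.{u}).Opens := ⟨connectedComponent (⟨u, huV⟩ : (V : Scheme.{u})), ho⟩
  have : IsClosedImmersion C₀.ι := IsClosedImmersion.of_isPreimmersion _ (by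
    rw [Scheme.Opens.range_ι]; exact isClosed_connectedComponent)
  have : IsAffine V := hV
  have hC₀ : IsAffineOpen C₀ := isAffine_of_isAffineHom C₀.ι
  refine ⟨V.ι ''ᵁ C₀, ⟨⟨u, huV⟩, mem_connectedComponent, rfl⟩, ?_, ?_⟩
  · exact hC₀.image_of_isOpenImmersion V.ι
  · refine isConnected_iff_connectedSpace.mp ?_
    change _root_.IsConnected ((V.ι '' _) : Set U)
    exact isConnected_connectedComponent.image _ V.ι.continuous.continuousOn

/-- A compact open of the source of a continuous open map covering a compact subset of the image. -/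
theorem exists_compact_open_image {X : Scheme.{u}} {Y : Type u} [TopologicalSpace Y] {φ : X → Y}
    (hc : Continuous φ) (ho : IsOpenMap φ) (V : Set Y) (hV : IsCompact V) {W : X.Opens} (hs : φ '' (W : Set X) = V) :
    ∃ K : X.Opens, IsCompact (K : Set X) ∧ φ '' (K : Set X) = V ∧ K ≤ W := by
  classical
  have hb : ∀ y ∈ V, ∃ K : X.Opens, IsCompact (K : Set X) ∧ K ≤ W ∧ y ∈ φ '' (K : Set X) := by
    intro y hy
    obtain ⟨x, hx, rfl⟩ := hs.symm ▸ hy
    obtain ⟨K, hK, hxK, hKW⟩ := exists_isAffineOpen_mem_and_subset (U := W) (x := x) hx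
    exact ⟨K, hK.isCompact, hKW, x, hxK, rfl⟩
  choose! K hKc hKW hyK using hb
  obtain ⟨F, hF⟩ := hV.elim_finite_subcover (fun y : V => φ '' (K y.1 : Set X))
    (fun y => ho _ (K y.1).isOpen) fun y hy => Set.mem_iUnion.mpr ⟨⟨y, hy⟩, hyK y hy⟩
  refine ⟨⨆ y ∈ F, K y.1, ?_, ?_, iSup₂_le fun y _ => hKW y.1 y.2⟩
  · simp only [TopologicalSpace.Opens.coe_iSup]
    exact F.isCompact_biUnion fun y _ => hKc y.1 y.2
  · simp only [TopologicalSpace.Opens.coe_iSup, Set.image_iUnion]
    refine Set.Subset.antisymm (Set.iUnion₂_subset fun y _ => ?_) hF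
    exact (Set.image_mono (hKW y.1 y.2)).trans hs.le

/-- Let S be a locally Noetherian connected scheme, P a quasi-isotrivial twisted constant S-scheme
(etale-locally on S isomorphic to a constant scheme) and Z an open and closed subscheme of P such
that for some s ∈ S the fibre Z_s is finite. Then Z is finite over S. -/
theorem result {S : Scheme.{u}} [IsLocallyNoetherian S] [ConnectedSpace S]
    (P : Over S) (hP : TwC.IsTwConst TwC.Topology.etale P)
    {Z : Scheme.{u}} (z : Z ⟶ P.left) [IsOpenImmersion z] [IsClosedImmersion z]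
    (hs : ∃ s : S, Set.Finite ((z ≫ P.hom).base ⁻¹' {s})) :
    IsFinite (z ≫ P.hom) := by
  classical
  let g := z ≫ P.hom
  obtain ⟨s₁, hs₁⟩ := hs
  choose U f hf hsf I hI using hP
  choose u hu using hsf
  choose C huC hCa hCc using fun s => haveI := hf s; exists_chart (f s) (u s)
  let h : ∀ s, (C s : Scheme.{u}) ⟶ S := fun s => (C s).ι ≫ f s
  have hh : ∀ s, IsOpenMap (h s).base := fun s => by
    haveI := hf s
    exact (h s).isOpenMap
  have key : ∀ s (x : C s), (g.base ⁻¹' {(h s).base x}).Finite → IsFinite (Limits.pullback.snd g (h s)) :=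
    fun s x hx => haveI := hCa s; haveI := hCc s
      chart P z (f s) (I s) (hI s).some (C s).ι x hx
  have key2 : ∀ s, IsFinite (Limits.pullback.snd g (h s)) → ∀ x, (g.base ⁻¹' {(h s).base x}).Finite := by
    intro s hfin x
    refine ((Scheme.Hom.finite_preimage_singleton (Limits.pullback.snd g (h s)) x).image
      (Limits.pullback.fst g (h s)).base).subset fun w hw => ?_
    obtain ⟨q, hq1, hq2⟩ := Scheme.Pullback.exists_preimage_pullback w x hw
    exact ⟨q, hq2, hq1⟩
  let A : Set S := {s | (g.base ⁻¹' {s}).Finite}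
  have hloc : ∀ s, ∀ s' ∈ Set.range (h s).base, (s' ∈ A ↔ s ∈ A) := by
    rintro s _ ⟨x, rfl⟩
    have hx : s = (h s).base ⟨u s, huC s⟩ := (hu s).symm
    constructor
    · intro hA
      have := key2 s (key s x hA) ⟨u s, huC s⟩
      rwa [← hx] at this
    · intro hA
      refine key2 s (key s ⟨u s, huC s⟩ ?_) x
      rw [← hx]; exact hA
  have hnhds : ∀ s, Set.range (h s).base ∈ nhds s := fun s =>
    (hh s).isOpen_range.mem_nhds ⟨⟨u s, huC s⟩, hu s⟩
  have hA : A = Set.univ := by
    refine IsClopen.eq_univ ⟨?_, ?_⟩ ⟨s₁, hs₁⟩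
    · refine isOpen_compl_iff.mp (isOpen_iff_mem_nhds.mpr fun s hsA => ?_)
      exact Filter.mem_of_superset (hnhds s) fun s' hs' hA' => hsA ((hloc s s' hs').mp hA')
    · exact isOpen_iff_mem_nhds.mpr fun s hsA =>
        Filter.mem_of_superset (hnhds s) fun s' hs' => (hloc s s' hs').mpr hsA
  have hfin : ∀ s, IsFinite (Limits.pullback.snd g (h s)) := fun s =>
    key s ⟨u s, huC s⟩ (hA ▸ Set.mem_univ _ : (h s).base ⟨u s, huC s⟩ ∈ A)
  let G : (∐ fun s : S => (C s : Scheme.{u})) ⟶ S := Limits.Sigma.desc h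
  have hG : ∀ s, Limits.Sigma.ι (fun s : S => (C s : Scheme.{u})) s ≫ G = h s := fun s => Limits.Sigma.ι_desc _ _
  have : Etale G := IsZariskiLocalAtSource.sigmaDesc (P := @Etale) fun s => by
    haveI := hf s
    infer_instance
  refine Groth.Agent.H21Diag.of_fpqc_cover_base (@IsFinite) G (fun V hV => ?_) g fun p => ?_
  · have hs : (G.base '' (G ⁻¹ᵁ V : Set _)) = V := by
      refine Set.Subset.antisymm (Set.image_preimage_subset _ _) fun s hsV => ?_
      refine ⟨(Limits.Sigma.ι (fun s : S => (C s : Scheme.{u})) s).base ⟨u s, huC s⟩, ?_, ?_⟩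
      · change G.base _ ∈ (V : Set S)
        rw [← Scheme.Hom.comp_apply, hG]
        exact (hu s).symm ▸ hsV
      · rw [← Scheme.Hom.comp_apply, hG]
        exact hu s
    obtain ⟨K, hKc, hKs, hKle⟩ := exists_compact_open_image G.continuous G.isOpenMap (V : Set S) hV.isCompact hs
    exact ⟨K, hKc, hKs⟩
  · obtain ⟨⟨s, x⟩, rfl⟩ := (sigmaMk fun s : S => (C s : Scheme.{u})).surjective p
    rw [sigmaMk_mk]
    let j := Limits.Sigma.ι (fun s : S => (C s : Scheme.{u})) s
    refine ⟨j.opensRange, ⟨x, rfl⟩, ?_⟩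
    have hr : Set.range j.opensRange.ι.base ⊆ Set.range j.base := by
      rw [Scheme.Opens.range_ι]; exact le_refl _
    rw [show j.opensRange.ι ≫ G = IsOpenImmersion.lift j j.opensRange.ι hr ≫ h s by
        rw [← hG s]; exact (IsOpenImmersion.lift_fac_assoc j j.opensRange.ι hr G).symm,
      ← Limits.pullbackLeftPullbackSndIso_inv_snd_snd g (h s),
      MorphismProperty.cancel_left_of_respectsIso (P := @IsFinite)]
    have := hfin s
    infer_instance

end Groth.Agent.S5267
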