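import Groth.Statements.S5268
import Groth.Agent.H21Desc.EtUnibranch
import Groth.Agent.H21Desc.ConstPullback
import Groth.Agent.S5267
import Groth.Agent.S2279
import Groth.Agent.H17.NagataNorm
import Groth.Agent.H05EGA4.Topo
import Groth.Agent.H12AlgSp.SourceDescent
import Groth.Agent.H7Weight.GeomPts

set_option autoImplicit false
open CategoryTheory MonoidalCategory CartesianMonoidalCategory MonObj GrpObj AlgebraicGeometry
universe u
open SGA3x

namespace Groth.Agent.S5268

set_option linter.style.haveILetI false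

open CategoryTheory CategoryTheory.Limits AlgebraicGeometry in
set_option backward.isDefEq.respectTransparency false in
/-- twisted constant schemes are stable under base change -/
theorem isTwConst_bc {S T : Scheme.{u}} (g : T ⟶ S) (P : Over S) (hP : TwC.IsTwConst TwC.Topology.etale P) :
    TwC.IsTwConst TwC.Topology.etale (Red.bc g P) := by
  intro t
  obtain ⟨U, f, hf, ⟨u, hu⟩, I, ⟨e⟩⟩ := hP (g t)
  haveI := hf
  obtain ⟨w, hw1, hw2⟩ := Scheme.Pullback.exists_preimage_pullback (f := f) (g := g) u t hu
  let a := pullback.snd f g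
  let b := pullback.fst f g
  refine ⟨pullback f g, a, inferInstance, ⟨w, hw2⟩, I,
    ⟨((Over.pullbackComp a g).app P).symm ≪≫ eqToIso (congrArg (fun k => Red.bc k P) (pullback.condition (f := f) (g := g)).symm) ≪≫
      (Over.pullbackComp b f).app P ≪≫ (Over.pullback b).mapIso e ≪≫ ?_⟩⟩
  exact Over.isoMk (IsPullback.isoPullback (Groth.Agent.H21Desc.isPullback_constAny b I)).symm (by simp)

open CategoryTheory CategoryTheory.Limits AlgebraicGeometry in
set_option backward.isDefEq.respectTransparency false in
/-- twisted constant schemes are etale -/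
theorem etale_of_isTwConst {S : Scheme.{u}} (P : Over S) (hP : TwC.IsTwConst TwC.Topology.etale P) :
    Etale P.hom := by
  choose U f hf hs I hI using hP
  haveI := hf
  refine Groth.Agent.H12AlgSp.EtaleSource.of_etale_covering @Etale
    Groth.Agent.H12AlgSp.EtaleSource.descends_etale P.hom fun x => ?_
  obtain ⟨u, hu⟩ := hs (P.hom x)
  obtain ⟨w, hw, -⟩ := Scheme.Pullback.exists_preimage_pullback (f := P.hom) (g := f (P.hom x)) x u hu.symm
  refine ⟨_, pullback.fst P.hom (f (P.hom x)), inferInstance, ⟨w, hw⟩, ?_⟩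
  obtain ⟨e⟩ := hI (P.hom x)
  haveI : IsIso e.hom.left := inferInstanceAs (IsIso ((Over.forget _).map e.hom))
  haveI : Etale (Sigma.desc fun _ : I (P.hom x) => 𝟙 (U (P.hom x))) :=
    IsZariskiLocalAtSource.sigmaDesc (P := @Etale) fun _ => inferInstance
  rw [pullback.condition, ← show e.hom.left ≫ (Sigma.desc fun _ : I (P.hom x) => 𝟙 (U (P.hom x))) =
    pullback.snd P.hom (f (P.hom x)) from Over.w e.hom]
  infer_instance

/-- Let S be a locally Noetherian scheme all of whose local rings are geometrically unibranch, and P a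
quasi-isotrivial twisted constant S-scheme (etale-locally on S isomorphic to a constant scheme).
Then every connected component of P is open, and as an open subscheme of P it is finite over S. -/
theorem result {S : Scheme.{u}} [IsLocallyNoetherian S]
    (hS : ∀ s : S, CAlg2.IsGeomUnibranch (S.presheaf.stalk s))
    (P : Over S) (hP : TwC.IsTwConst TwC.Topology.etale P) (x : P.left) :
    ∃ U : P.left.Opens, (U : Set P.left) = connectedComponent x ∧ IsFinite (U.ι ≫ P.hom) := by
  haveI : Etale P.hom := etale_of_isTwConst P hP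
  haveI : IsLocallyNoetherian P.left := LocallyOfFiniteType.isLocallyNoetherian P.hom
  have hdisj := (Groth.Agent.S2279.result P.left).mpr fun y =>
    Groth.Agent.H21Desc.isPrime_nilradical_stalk P.hom y (hS _)
  have hlf := Groth.Agent.H17.NagataNorm.locallyFinite_irreducibleComponents P.left
  let Z := irreducibleComponent x
  have hZ : Z ∈ irreducibleComponents P.left := irreducibleComponent_mem_irreducibleComponents x
  have hopen : IsOpen Z := by
    rw [← isClosed_compl_iff]
    have : Zᶜ = ⋃ W : {W : irreducibleComponents P.left // W.1 ≠ Z}, W.1.1 := by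
      ext y
      simp only [Set.mem_compl_iff, Set.mem_iUnion]
      constructor
      · intro hy
        exact ⟨⟨⟨irreducibleComponent y, irreducibleComponent_mem_irreducibleComponents y⟩,
          fun h => hy (h ▸ mem_irreducibleComponent)⟩, mem_irreducibleComponent⟩
      · rintro ⟨⟨W, hW⟩, hyW⟩ hy
        exact Set.disjoint_left.mp (hdisj W.2 hZ hW) hyW hy
    rw [this]
    exact (hlf.comp_injective Subtype.val_injective).isClosed_iUnion fun W =>
      isClosed_of_mem_irreducibleComponents _ W.1.2
  have hcomp : connectedComponent x = Z :=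
    Set.Subset.antisymm (IsClopen.connectedComponent_subset ⟨isClosed_irreducibleComponent, hopen⟩ mem_irreducibleComponent)
      (hZ.1.isConnected.subset_connectedComponent mem_irreducibleComponent)
  refine ⟨⟨Z, hopen⟩, hcomp.symm, ?_⟩
  obtain ⟨ζ, hζ⟩ := QuasiSober.sober hZ.1 isClosed_irreducibleComponent
  haveI : LocallyConnectedSpace S := Groth.Agent.H17.locallyConnectedSpace_of_locallyNoetherian fun y => by
    obtain ⟨W, hW, hyW, -⟩ := exists_isAffineOpen_mem_and_subset (U := (⊤ : S.Opens)) (x := y) trivial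
    have : IsNoetherianRing Γ(S, W) := IsLocallyNoetherian.component_noetherian ⟨W, hW⟩
    haveI : TopologicalSpace.NoetherianSpace (Spec Γ(S, W)) :=
      (inferInstance : TopologicalSpace.NoetherianSpace (PrimeSpectrum Γ(S, W)))
    exact ⟨W, W.2.mem_nhds hyW, hW.isoSpec.hom.homeomorph.isEmbedding.noetherianSpace⟩
  let S₀ : S.Opens := ⟨connectedComponent (P.hom x), isOpen_connectedComponent⟩
  haveI : ConnectedSpace S₀ := isConnected_iff_connectedSpace.mp isConnected_connectedComponent
  haveI : IsClosedImmersion S₀.ι := IsClosedImmersion.of_isPreimmersion _ (by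
    rw [Scheme.Opens.range_ι]; exact isClosed_connectedComponent)
  let U : P.left.Opens := ⟨Z, hopen⟩
  haveI : IsClosedImmersion U.ι := IsClosedImmersion.of_isPreimmersion _ (by
    rw [Scheme.Opens.range_ι]; exact isClosed_irreducibleComponent)
  have hU : Set.range (U.ι ≫ P.hom) ⊆ Set.range S₀.ι := by
    rintro _ ⟨z, rfl⟩
    rw [Scheme.Opens.range_ι]
    exact (hZ.1.isConnected.image P.hom P.hom.continuous.continuousOn).subset_connectedComponent
      ⟨x, mem_irreducibleComponent, rfl⟩ ⟨z.1, z.2, rfl⟩
  let h : U.toScheme ⟶ S₀ := IsOpenImmersion.lift S₀.ι (U.ι ≫ P.hom) hU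
  have hh : h ≫ S₀.ι = U.ι ≫ P.hom := IsOpenImmersion.lift_fac _ _ hU
  let z : U.toScheme ⟶ (Red.bc S₀.ι P).left := Limits.pullback.lift U.ι h hh.symm
  have hz : z ≫ Limits.pullback.fst P.hom S₀.ι = U.ι := Limits.pullback.lift_fst _ _ _
  haveI : IsOpenImmersion z := by
    have : IsOpenImmersion (z ≫ Limits.pullback.fst P.hom S₀.ι) := hz.symm ▸ inferInstance
    exact IsOpenImmersion.of_comp z (Limits.pullback.fst P.hom S₀.ι)
  haveI : IsClosedImmersion z := by
    have : IsClosedImmersion (z ≫ Limits.pullback.fst P.hom S₀.ι) := hz.symm ▸ inferInstance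
    exact IsClosedImmersion.of_comp z (Limits.pullback.fst P.hom S₀.ι)
  have hfin : IsFinite (z ≫ (Red.bc S₀.ι P).hom) := by
    haveI : LocallyQuasiFinite P.hom := Groth.Agent.H7Weight.locallyQuasiFinite_of_etale P.hom
    refine Groth.Agent.S5267.result (Red.bc S₀.ι P) (isTwConst_bc _ P hP) z ⟨h ⟨ζ, hζ.mem⟩, ?_⟩
    refine (Set.finite_singleton (⟨ζ, hζ.mem⟩ : U.toScheme)).subset fun w hw => ?_
    rw [show z ≫ (Red.bc S₀.ι P).hom = h from Limits.pullback.lift_snd _ _ _] at hw
    refine Subtype.ext (Groth.Agent.H05EGA4.eq_of_specializes_of_fibre P.hom (hζ.specializes w.2) ?_).symm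
    have e : ∀ v, P.hom (U.ι v) = S₀.ι (h v) := fun v => (congrArg (fun k : U.toScheme ⟶ S => k v) hh).symm
    exact (e ⟨ζ, hζ.mem⟩).trans ((congrArg S₀.ι hw.symm).trans (e w).symm)
  rw [show z ≫ (Red.bc S₀.ι P).hom = h from Limits.pullback.lift_snd _ _ _] at hfin
  rw [show U.ι ≫ P.hom = h ≫ S₀.ι from hh.symm]
  infer_instance

end Groth.Agent.S5268
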