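import Groth.Statements.S5421
import Groth.Agent.H21Diag.Iso
import Groth.Agent.H21Diag.Locus
import Groth.Agent.H21Diag.Conjugate

set_option autoImplicit false
open CategoryTheory MonoidalCategory CartesianMonoidalCategory MonObj GrpObj AlgebraicGeometry
open CategoryTheory.Limits
universe u
set_option backward.isDefEq.respectTransparency false

namespace Groth.Agent.S5421

open H21Diag

theorem map_eq_one_iff_points {S S' : Scheme.{u}} {G X : Over S} [GrpObj G] [GrpObj X] (α : G ⟶ X) (g : S' ⟶ S) :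
    (Over.pullback g).map α = 1 ↔ ∀ (T : Over S') (h : (Over.map g).obj T ⟶ G), h ≫ α = 1 := by
  constructor
  · intro he T h
    have h1 : bcEquiv g X T (h ≫ α) = bcEquiv g G T h ≫ (Over.pullback g).map α :=
      (Over.mapPullbackAdj g).homEquiv_naturality_right h α
    apply (bcEquiv g X T).injective
    rw [bcEquiv_one g X T, h1, he]
    exact MonObj.comp_one (bcEquiv g G T h)
  · intro hall
    let T := Red.bc g G
    let g₀ := (bcEquiv g G T).symm (𝟙 T)
    have h1 : bcEquiv g X T (g₀ ≫ α) = bcEquiv g G T g₀ ≫ (Over.pullback g).map α :=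
      (Over.mapPullbackAdj g).homEquiv_naturality_right g₀ α
    rw [hall T g₀, Equiv.apply_symm_apply, Category.id_comp, bcEquiv_one] at h1
    exact h1.symm

theorem map_eq_one_of_trivAt {S : Scheme.{u}} {G X : Over S} [GrpObj G] [GrpObj X] (α : G ⟶ X) {s : S}
    (h : TrivAt α s) {S' : Scheme.{u}} (d : S' ⟶ Spec (S.residueField s)) (z : S' ⟶ S)
    (hz : d ≫ S.fromSpecResidueField s = z) : (Over.pullback z).map α = 1 := by
  refine (map_eq_one_iff_points α z).mpr fun T k => ?_
  let k' : Over.mk (T.hom ≫ z) ⟶ G := Over.homMk k.left (Over.w k)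
  have h1 : k' ≫ α = 1 := comp_eq_one_of_pullback (S.fromSpecResidueField s) α h (T.hom ≫ d) (by rw [Category.assoc, hz]) k'
  have h2 : (k' ≫ α).left = (1 : Over.mk (T.hom ≫ z) ⟶ X).left := by rw [h1]
  exact Over.OverMorphism.ext h2

theorem geomPt_eq_one {S : Scheme.{u}} {G X : Over S} [GrpObj G] [GrpObj X] (α : G ⟶ X) (s : S)
    (h : TrivAt α s) : (Over.pullback (Red.geomPt s)).map α = 1 := by
  generalize hz : Red.geomPt s = z
  exact map_eq_one_of_trivAt α h _ z hz

theorem exists_char {S : Scheme.{u}} {T : Over S} [GrpObj T] (α : T ⟶ Red.Gm S) [IsMonHom α] {U : Scheme.{u}}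
    {u₀ : U ⟶ S} {M : Type} [AddCommGroup M] (e : Grp.mk (Red.bc u₀ T) ≅ Grp.mk (Red.DS U M))
    {K : Type u} [Field K] (y : Spec (CommRingCat.of K) ⟶ U) :
    ∃ φ : Multiplicative ℤ →* Multiplicative M, ActsBy e (bcDSIso u₀ ℤ) α y y φ := by
  obtain ⟨r, hr, φ, hφ⟩ := exists_local_char e (bcDSIso u₀ ℤ) α y y rfl ⊥ Ideal.isPrime_bot
  exact ⟨φ, rfl, fun D _ g χ => hφ D g ((isUnit_iff_ne_zero.mpr fun h => hr (Ideal.mem_bot.mpr h)).map g) χ⟩

theorem eq_one_of_char_one {S : Scheme.{u}} {T : Over S} [GrpObj T] (α : T ⟶ Red.Gm S) [IsMonHom α]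
    {U : Scheme.{u}} {u₀ : U ⟶ S} {M : Type} [AddCommGroup M] (e : Grp.mk (Red.bc u₀ T) ≅ Grp.mk (Red.DS U M))
    {K : Type u} [Field K] (y : Spec (CommRingCat.of K) ⟶ U)
    (h : ActsBy e (bcDSIso u₀ ℤ) α y y 1) : TrivAt α ((y ≫ u₀).base (IsLocalRing.closedPoint K)) :=
  trivAt_of_chartTriv α e y fun D _ g χ => ((h.comp g).comp_eq_one_iff α χ).mpr (MonoidHom.comp_one χ)

/-- Let T be an S-torus and α : T → G_{m,S} a character. The following are equivalent: (i) for every
point s of S the character induced on the geometric fibre at s is not the trivial character; (ii)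
for every morphism S' → S with S' non-empty the base change of α is not the trivial character; (iii)
α is faithfully flat (flat and surjective). -/
theorem result (S : Scheme.{u}) (T : Over S) [GrpObj T] (hT : Red.IsTorus T) (α : T ⟶ Red.Gm S) [IsMonHom α] :
    ((∀ s : S, (Over.pullback (Red.geomPt s)).map α ≠ 1) ↔
      (∀ (S' : Scheme.{u}) (g : S' ⟶ S), Nonempty ↥S' → (Over.pullback g).map α ≠ 1)) ∧
    ((∀ s : S, (Over.pullback (Red.geomPt s)).map α ≠ 1) ↔ (Flat α.left ∧ Surjective α.left)) := by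
  have hmT := isMultTypeFT_of_isTorus hT
  obtain ⟨S₁, f, hf, hs, hqc, hloc⟩ := hT
  have hmG : SGA3x.IsMultTypeFT (Red.Gm S) := by
    refine ⟨S, 𝟙 S, inferInstance, inferInstance, fun V hV => ⟨V, hV.isCompact, by simp⟩, fun s => ?_⟩
    exact ⟨⊤, trivial, ℤ, inferInstance, inferInstance, ⟨bcDSIso _ ℤ⟩⟩
  have := isAffineHom_of_multTypeFT hmT
  have := isAffineHom_of_multTypeFT hmG
  have hii : (Flat α.left ∧ Surjective α.left) →
      ∀ (S' : Scheme.{u}) (g : S' ⟶ S), Nonempty ↥S' → (Over.pullback g).map α ≠ 1 := by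
    rintro ⟨h1, h2⟩ S' g ⟨s'⟩ hone
    let P := pullback g f
    obtain ⟨p, hp⟩ := (inferInstance : Surjective (pullback.fst g f)).surj s'
    let t := (pullback.snd g f).base p
    obtain ⟨U', htU, r, ⟨e⟩⟩ := hloc t
    let W : (pullback g f).Opens := pullback.snd g f ⁻¹ᵁ U'
    let w : (W : Scheme.{u}) := ⟨p, htU⟩
    let K := (W : Scheme.{u}).residueField w
    let z : Spec (CommRingCat.of K) ⟶ (W : Scheme.{u}) := (W : Scheme.{u}).fromSpecResidueField w
    let y : Spec (CommRingCat.of K) ⟶ (U' : Scheme.{u}) := z ≫ (pullback.snd g f).resLE U' W le_rfl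
    let x : Spec (CommRingCat.of K) ⟶ S' := z ≫ W.ι ≫ pullback.fst g f
    have hxy : x ≫ g = y ≫ U'.ι ≫ f := by
      simp only [x, y, Category.assoc, pullback.condition, Scheme.Hom.resLE_comp_ι_assoc]
    obtain ⟨φ, hφ⟩ := exists_char α e y
    have hφ1 : φ = 1 := by
      refine MonoidHom.ext fun m => ?_
      let g₁ : (K : Type u) →+* MonoidAlgebra K (Multiplicative (Fin r → ℤ)) := MonoidAlgebra.singleOneRingHom
      let χ := MonoidAlgebra.of (K : Type u) (Multiplicative (Fin r → ℤ))
      let T₁ : Over S' := Over.mk (Spec.map (CommRingCat.ofHom g₁) ≫ x)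
      let τ : (Over.map g).obj T₁ ⟶ Over.mk ((Spec.map (CommRingCat.ofHom g₁) ≫ y) ≫ U'.ι ≫ f) :=
        Over.homMk (𝟙 _) (by
          change 𝟙 _ ≫ (Spec.map (CommRingCat.ofHom g₁) ≫ y) ≫ U'.ι ≫ f = (Spec.map (CommRingCat.ofHom g₁) ≫ x) ≫ g
          rw [Category.id_comp]
          exact (Category.assoc _ _ _).trans ((congrArg (Spec.map (CommRingCat.ofHom g₁) ≫ ·) hxy.symm).trans (Category.assoc _ _ _).symm))
      have h3 := (map_eq_one_iff_points α g).mp hone T₁ (τ ≫ gpt e _ χ)
      have h4 : gpt e (Spec.map (CommRingCat.ofHom g₁) ≫ y) χ ≫ α = 1 := by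
        refine Over.OverMorphism.ext ?_
        have h5 := congrArg (fun q => q.left) (((Category.assoc _ _ _).symm.trans h3).trans (MonObj.comp_one τ).symm)
        exact ((Category.id_comp _).symm.trans h5).trans (Category.id_comp _)
      have h6 := DFunLike.congr_fun (((hφ.comp g₁).comp_eq_one_iff α χ).mp h4) m
      exact MonoidAlgebra.of_injective (h6.trans (map_one χ).symm)
    have hpb := isPullback_bc_map α (y ≫ U'.ι ≫ f)
    have hinj := injective_of_flat_surjective e (bcDSIso (U'.ι ≫ f) ℤ) α y φ hφ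
      (MorphismProperty.of_isPullback (P := @Flat) hpb.flip h1)
      (MorphismProperty.of_isPullback (P := @Surjective) hpb.flip h2)
    have h7 := @hinj (Multiplicative.ofAdd 1) 1 (by rw [hφ1]; rfl)
    exact one_ne_zero (α := ℤ) (ofAdd_eq_one.mp h7)
  have hfs : (∀ s : S, (Over.pullback (Red.geomPt s)).map α ≠ 1) → Flat α.left ∧ Surjective α.left := by
    intro hne
    obtain ⟨V, -, hV, hF1, hF2⟩ := exists_flat_surjective_locus α hmT hmG
    have htop : V = ⊤ := by
      refine eq_top_iff.mpr fun s _ => ?_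
      refine (hV s).mpr ?_
      obtain ⟨t, rfl⟩ := hs.surj s
      obtain ⟨U', htU, r, ⟨e⟩⟩ := hloc t
      let u : (U' : Scheme.{u}) := ⟨t, htU⟩
      let K := (U' : Scheme.{u}).residueField u
      let y : Spec (CommRingCat.of K) ⟶ (U' : Scheme.{u}) := (U' : Scheme.{u}).fromSpecResidueField u
      obtain ⟨φ, hφ⟩ := exists_char α e y
      have hpt : (y ≫ U'.ι ≫ f).base (IsLocalRing.closedPoint K) = f.base t := by
        simp only [y, Scheme.Hom.comp_apply]
        exact congrArg (fun q => f.base (U'.ι.base q)) (Scheme.fromSpecResidueField_apply _ _)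
      have hinj : Function.Injective φ := by
        have hm : φ (Multiplicative.ofAdd 1) ≠ 1 := fun h1 => by
          have hφ1 : φ = 1 := by ext; exact congrFun (congrArg Multiplicative.toAdd h1) _
          subst hφ1
          exact hne _ (hpt ▸ geomPt_eq_one α _ (eq_one_of_char_one α e y hφ))
        intro a b hab
        have key : ∀ n : ℤ, φ (Multiplicative.ofAdd n) = Multiplicative.ofAdd (n • (φ (Multiplicative.ofAdd 1)).toAdd) := by
          intro n
          rw [show Multiplicative.ofAdd n = Multiplicative.ofAdd (1 : ℤ) ^ n from (by simp [← ofAdd_zsmul]), map_zpow]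
          rfl
        obtain ⟨a, rfl⟩ := Multiplicative.ofAdd.surjective a
        obtain ⟨b, rfl⟩ := Multiplicative.ofAdd.surjective b
        exact congrArg Multiplicative.ofAdd (smul_left_injective ℤ (fun h0 => hm h0) (Multiplicative.ofAdd.injective ((key a).symm.trans (hab.trans (key b)))))
      have h8 := flat_surjective_chart e (bcDSIso (U'.ι ≫ f) ℤ) α y φ hφ hinj
      rw [← hpt]
      let z := y ≫ U'.ι ≫ f
      let d : Spec (CommRingCat.of K) ⟶ Spec (S.residueField (z.base (IsLocalRing.closedPoint K))) :=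
        Spec.map (Scheme.descResidueField (Scheme.stalkClosedPointTo z))
      have hd : d ≫ S.fromSpecResidueField _ = z :=
        Scheme.descResidueField_stalkClosedPointTo_fromSpecResidueField K S z
      have : Flat d := by
        refine Flat.SpecMap_iff.mpr ?_
        let := (Scheme.descResidueField (Scheme.stalkClosedPointTo z)).hom.toAlgebra
        exact (inferInstance : Module.Flat (S.residueField (z.base (IsLocalRing.closedPoint K))) K)
      have : Surjective d := ⟨fun x => ⟨IsLocalRing.closedPoint K, Subsingleton.elim _ _⟩⟩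
      rw [show y ≫ U'.ι ≫ f = d ≫ S.fromSpecResidueField (z.base (IsLocalRing.closedPoint K)) from hd.symm] at h8
      exact flat_surjective_descend α _ d h8.1 h8.2
    subst htop
    have : IsIso (⊤ : S.Opens).ι :=
      ⟨(Scheme.topIso _).inv, (Scheme.topIso _).hom_inv_id, (Scheme.topIso _).inv_hom_id⟩
    have hpb := isPullback_bc_map α (⊤ : S.Opens).ι
    have e1 : ((Over.pullback (⊤ : S.Opens).ι).map α).left ≫ pullback.fst (Red.Gm S).hom (⊤ : S.Opens).ι =
        pullback.fst T.hom (⊤ : S.Opens).ι ≫ α.left := hpb.w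
    have ha : α.left = inv (pullback.fst T.hom (⊤ : S.Opens).ι) ≫ ((Over.pullback (⊤ : S.Opens).ι).map α).left ≫
        pullback.fst (Red.Gm S).hom (⊤ : S.Opens).ι := by
      rw [e1, IsIso.inv_hom_id_assoc]
    rw [ha]
    exact ⟨inferInstance, inferInstance⟩
  refine ⟨⟨fun h => hii (hfs h), fun h s => ?_⟩, ⟨hfs, fun h s => ?_⟩⟩
  · exact h _ (Red.geomPt s) inferInstance
  · exact hii h _ (Red.geomPt s) inferInstance

end Groth.Agent.S5421
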