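import Groth.Statements.S8463
import Groth.Agent.H21Split.R2.PinAB2

set_option autoImplicit false
universe u
open CategoryTheory MonoidalCategory CartesianMonoidalCategory MonObj GrpObj AlgebraicGeometry CategoryTheory.Limits
open Red

set_option backward.isDefEq.respectTransparency false
set_option linter.style.haveILetI false
set_option synthInstance.maxHeartbeats 400000

namespace Groth.Agent.S8463

open Groth.Agent.H21Split Groth.Agent.H21Split.R2

theorem swap_aux {H : Type*} [Group H] {u v P : H} (h : u⁻¹ * v * u⁻¹⁻¹ = v * P) : v * u = u * v * P := by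
  rw [_root_.inv_inv] at h
  calc v * u = u * (u⁻¹ * v * u) := by group
    _ = _ := by rw [h, _root_.mul_assoc]

/-- Let G be a pinned reductive S-group: a splitting D (maximal torus T ≅ D_S(M), root datum with root
homomorphisms u_c : 𝔾_a ⟶ G for all roots c, system of simple roots Δ) such that for every simple
root a the root homomorphisms of a and -a are dual to each other: u_a(x) u_{-a}(y) =
u_{-a}(y/(1+xy)) · a^∨(1+xy) · u_a(x/(1+xy)) whenever 1 + xy is invertible, where a^∨ : 𝔾_m ⟶ T is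
the coroot of a read through the splitting. For a root a put w_a = u_a(1) u_{-a}(-1) u_a(1) (an
S-point of G). Let a ≠ b be simple roots with ⟨b, a^∨⟩ = ⟨a, b^∨⟩ = -1 (type A₂) and put u_{a+b}(x)
= w_b u_a(x) w_b⁻¹. Then u_b(y) u_a(x) = u_a(x) u_b(y) u_{a+b}(x y) for all points x, y of 𝔾_a. (The
published statement is for a pinned group whose simple roots are exactly a and b; this row states it
for two simple roots a ≠ b of any pinned group.) -/
theorem result (S : Scheme.{u}) (e₁ : 𝟙_ (Over S) ⟶ Red.Ga S) (he₁ : Red.gaFn e₁ = 1)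
    (G : Over S) [GrpObj G] (D : Red.Pinning G)
    (avc : D.idx → (Red.Gm S ⟶ D.T))
    (havc : ∀ a, avc a = Red.DSmap S (D.P.coroot a).toAddMonoidHom ≫ D.split.inv.hom.hom)
    (hpair : ∀ a ∈ D.base.support, ∀ (X : Over S) (x y : X ⟶ Red.Ga S), IsUnit (1 + Red.gaFn x * Red.gaFn y) →
        ∃ (x' y' : X ⟶ Red.Ga S) (z : X ⟶ Red.Gm S), Red.gmFn z = 1 + Red.gaFn x * Red.gaFn y ∧
          Red.gaFn x' * Red.gmFn z = Red.gaFn x ∧ Red.gaFn y' * Red.gmFn z = Red.gaFn y ∧
          (x ≫ D.u a) * (y ≫ D.u (D.P.reflectionPerm a a)) = (y' ≫ D.u (D.P.reflectionPerm a a)) * (z ≫ avc a ≫ D.i) * (x' ≫ D.u a))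
    (w : D.idx → (𝟙_ (Over S) ⟶ G))
    (hw : ∀ a, w a = (e₁ ≫ D.u a) * (e₁ ≫ D.u (D.P.reflectionPerm a a))⁻¹ * (e₁ ≫ D.u a))
    (a b : D.idx) (ha : a ∈ D.base.support) (hb : b ∈ D.base.support) (hne : a ≠ b)
    (hba : D.P.pairing b a = -1) (hab : D.P.pairing a b = -1)
    (uab : ∀ X : Over S, (X ⟶ Red.Ga S) → (X ⟶ G))
    (huab : ∀ (X : Over S) (x : X ⟶ Red.Ga S), uab X x = (toUnit X ≫ w b) * (x ≫ D.u a) * (toUnit X ≫ w b)⁻¹)
    (X : Over S) (x y xy : X ⟶ Red.Ga S) (hxy : Red.gaFn xy = Red.gaFn x * Red.gaFn y) :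
    (y ≫ D.u b) * (x ≫ D.u a) = (x ≫ D.u a) * (y ≫ D.u b) * uab X xy := by
  haveI := H21Split.isAffineHom_hom D.toSplitRed
  refine hom_ext_pt fun R _ g j => ?_
  obtain ⟨T, hTa, hTb, -, -, -, -, hv⟩ := a2_point e₁ he₁ D avc havc hpair w hw a b ha hb hba hab g j
  obtain ⟨-, hC⟩ := T.rel
  rw [MonObj.comp_mul, MonObj.comp_mul, MonObj.comp_mul, huab, hv, comp_u D.toSplitRed g j, comp_u D.toSplitRed g j,
    ← hTa, ← hTb]
  have h := hC R (-gv g (j ≫ x)) (gv g (j ≫ y))
  rw [uPt_neg] at h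
  rw [swap_aux h]
  congr 2
  simp only [gv_comp, hxy, map_mul, Algebra.algebraMap_self_apply]
  ring

end Groth.Agent.S8463
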