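import Groth.Statements.S8464
import Groth.Agent.H21Split.R2.PinAB2

set_option autoImplicit false
universe u
open CategoryTheory MonoidalCategory CartesianMonoidalCategory MonObj GrpObj AlgebraicGeometry CategoryTheory.Limits
open Red

set_option backward.isDefEq.respectTransparency false
set_option linter.style.haveILetI false
set_option synthInstance.maxHeartbeats 400000

namespace Groth.Agent.S8464

open Groth.Agent.H21Split Groth.Agent.H21Split.R2

theorem swap_aux {H : Type*} [Group H] {u v P : H} (h : u⁻¹ * v * u⁻¹⁻¹ = v * P) : v * u = u * v * P := by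
  rw [_root_.inv_inv] at h
  calc v * u = u * (u⁻¹ * v * u) := by group
    _ = _ := by rw [h, _root_.mul_assoc]

/-- Let G be a pinned reductive S-group: a splitting D (maximal torus T ≅ D_S(M), root datum with root
homomorphisms u_c : 𝔾_a ⟶ G for all roots c, system of simple roots Δ) such that for every simple
root a the root homomorphisms of a and -a are dual to each other: u_a(x) u_{-a}(y) =
u_{-a}(y/(1+xy)) · a^∨(1+xy) · u_a(x/(1+xy)) whenever 1 + xy is invertible, where a^∨ : 𝔾_m ⟶ T is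
the coroot of a read through the splitting. For a root a put w_a = u_a(1) u_{-a}(-1) u_a(1) (an
S-point of G). Let a ≠ b be simple roots with ⟨b, a^∨⟩ = -2 and ⟨a, b^∨⟩ = -1 (type B₂, a the short
root); put u_{a+b}(x) = w_b u_a(x) w_b⁻¹ and u_{2a+b}(x) = w_a u_b(x) w_a⁻¹. Then for all points x,
y of 𝔾_a: u_b(y) u_a(x) = u_a(x) u_b(y) u_{a+b}(x y) u_{2a+b}(x² y) and u_{a+b}(y) u_a(x) = u_a(x)
u_{a+b}(y) u_{2a+b}(2 x y). (The published statement is for a pinned group whose simple roots are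
exactly a and b; this row states it for two simple roots a ≠ b of any pinned group.) -/
theorem result (S : Scheme.{u}) (e₁ : 𝟙_ (Over S) ⟶ Red.Ga S) (he₁ : Red.gaFn e₁ = 1)
    (G : Over S) [GrpObj G] (D : Red.Pinning G)
    (avc : D.idx → (Red.Gm S ⟶ D.T))
    (havc : ∀ a, avc a = Red.DSmap S (D.P.coroot a).toAddMonoidHom ≫ D.split.inv.hom.hom)
    (hpair : ∀ a ∈ D.base.support, ∀ (X : Over S) (x y : X ⟶ Red.Ga S), IsUnit (1 + Red.gaFn x * Red.gaFn y) →
        ∃ (x' y' : X ⟶ Red.Ga S) (z : X ⟶ Red.Gm S), Red.gmFn z = 1 + Red.gaFn x * Red.gaFn y ∧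
          Red.gaFn x' * Red.gmFn z = Red.gaFn x ∧ Red.gaFn y' * Red.gmFn z = Red.gaFn y ∧
          (x ≫ D.u a) * (y ≫ D.u (D.P.reflectionPerm a a)) = (y' ≫ D.u (D.P.reflectionPerm a a)) * (z ≫ avc a ≫ D.i) * (x' ≫ D.u a))
    (w : D.idx → (𝟙_ (Over S) ⟶ G))
    (hw : ∀ a, w a = (e₁ ≫ D.u a) * (e₁ ≫ D.u (D.P.reflectionPerm a a))⁻¹ * (e₁ ≫ D.u a))
    (a b : D.idx) (ha : a ∈ D.base.support) (hb : b ∈ D.base.support) (hne : a ≠ b)
    (hba : D.P.pairing b a = -2) (hab : D.P.pairing a b = -1)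
    (uab : ∀ X : Over S, (X ⟶ Red.Ga S) → (X ⟶ G))
    (huab : ∀ (X : Over S) (x : X ⟶ Red.Ga S), uab X x = (toUnit X ≫ w b) * (x ≫ D.u a) * (toUnit X ≫ w b)⁻¹)
    (uaab : ∀ X : Over S, (X ⟶ Red.Ga S) → (X ⟶ G))
    (huaab : ∀ (X : Over S) (x : X ⟶ Red.Ga S), uaab X x = (toUnit X ≫ w a) * (x ≫ D.u b) * (toUnit X ≫ w a)⁻¹)
    (X : Over S) (x y xy xxy txy : X ⟶ Red.Ga S) (hxy : Red.gaFn xy = Red.gaFn x * Red.gaFn y)
    (hxxy : Red.gaFn xxy = Red.gaFn x ^ 2 * Red.gaFn y) (htxy : Red.gaFn txy = 2 * Red.gaFn x * Red.gaFn y) :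
    (y ≫ D.u b) * (x ≫ D.u a) = (x ≫ D.u a) * (y ≫ D.u b) * uab X xy * uaab X xxy ∧
      uab X y * (x ≫ D.u a) = (x ≫ D.u a) * uab X y * uaab X txy := by
  haveI := H21Split.isAffineHom_hom D.toSplitRed
  refine ⟨?_, ?_⟩ <;> refine hom_ext_pt fun R _ g j => ?_ <;>
    obtain ⟨T, hTa, hTb, -, -, -, -, -, hn22, hv⟩ := b2_point e₁ he₁ D avc havc hpair w hw a b ha hb hba hab g j <;>
    obtain ⟨-, hC, hE⟩ := T.rel
  · rw [MonObj.comp_mul, MonObj.comp_mul, MonObj.comp_mul, MonObj.comp_mul, huab, huaab, (hv xy).1, (hv xxy).2,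
      comp_u D.toSplitRed g j, comp_u D.toSplitRed g j, ← hTa, ← hTb]
    have h := hC R (-gv g (j ≫ x)) (gv g (j ≫ y))
    rw [uPt_neg] at h
    rw [swap_aux h]
    simp only [_root_.mul_assoc, gv_comp, hxy, hxxy, map_mul, map_pow, Algebra.algebraMap_self_apply]
    congr 3
    · congr 1; ring
    · congr 1; ring
  · rw [MonObj.comp_mul, MonObj.comp_mul, MonObj.comp_mul, huab, huaab, (hv y).1, (hv txy).2,
      comp_u D.toSplitRed g j, ← hTa]
    have h := hE R (-gv g (j ≫ x)) ((T.M : R) * gv g (j ≫ y))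
    rw [uPt_neg] at h
    rw [swap_aux h]
    congr 2
    simp only [gv_comp, htxy, map_mul, map_ofNat, Algebra.algebraMap_self_apply]
    linear_combination (2 * (T.N : R) * evPt g j (Red.gaFn x) * evPt g j (Red.gaFn y)) * T.M.inv_mul

end Groth.Agent.S8464
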