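import Groth.Statements.S8465
import Groth.Agent.H21Split.R2.PinG2

set_option autoImplicit false
universe u
open CategoryTheory MonoidalCategory CartesianMonoidalCategory MonObj GrpObj AlgebraicGeometry CategoryTheory.Limits
open Red

set_option backward.isDefEq.respectTransparency false
set_option linter.unusedVariables false
set_option synthInstance.maxHeartbeats 400000

namespace Groth.Agent.S8465

open Groth.Agent.H21Split Groth.Agent.H21Split.R2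

theorem swap_aux {H : Type*} [Group H] {u v P : H} (h : u⁻¹ * v * u⁻¹⁻¹ = v * P) : v * u = u * v * P := by
  rw [_root_.inv_inv] at h
  calc v * u = u * (u⁻¹ * v * u) := by group
    _ = _ := by rw [h, _root_.mul_assoc]

/-- Let G be a pinned reductive S-group: a splitting D (maximal torus T ≅ D_S(M), root datum with root
homomorphisms u_c : 𝔾_a ⟶ G for all roots c, system of simple roots Δ) such that for every simple
root a the root homomorphisms of a and -a are dual to each other: u_a(x) u_{-a}(y) =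
u_{-a}(y/(1+xy)) · a^∨(1+xy) · u_a(x/(1+xy)) whenever 1 + xy is invertible, where a^∨ : 𝔾_m ⟶ T is
the coroot of a read through the splitting. For a root a put w_a = u_a(1) u_{-a}(-1) u_a(1) (an
S-point of G). Let a ≠ b be simple roots with ⟨b, a^∨⟩ = -3 and ⟨a, b^∨⟩ = -1 (type G₂, a the short
root); put u_{a+b}(x) = w_b u_a(x) w_b⁻¹, u_{2a+b}(x) = (w_a w_b) u_a(x) (w_a w_b)⁻¹, u_{3a+b}(x) =
w_a u_b(-x) w_a⁻¹ and u_{3a+2b}(x) = (w_b w_a) u_b(-x) (w_b w_a)⁻¹. Then for all points x, y of 𝔾_a: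
u_b(y) u_a(x) = u_a(x) u_b(y) u_{a+b}(xy) u_{2a+b}(x²y) u_{3a+b}(x³y) u_{3a+2b}(x³y²); u_{a+b}(y)
u_a(x) = u_a(x) u_{a+b}(y) u_{2a+b}(2xy) u_{3a+b}(3x²y) u_{3a+2b}(3xy²); u_{2a+b}(y) u_a(x) = u_a(x)
u_{2a+b}(y) u_{3a+b}(3xy); u_{3a+b}(y) u_b(x) = u_b(x) u_{3a+b}(y) u_{3a+2b}(-xy); u_{2a+b}(y)
u_{a+b}(x) = u_{a+b}(x) u_{2a+b}(y) u_{3a+2b}(3xy). (The published statement is for a pinned group
whose simple roots are exactly a and b; this row states it for two simple roots a ≠ b of any pinned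
group.) -/
theorem result (S : Scheme.{u}) (e₁ : 𝟙_ (Over S) ⟶ Red.Ga S) (he₁ : Red.gaFn e₁ = 1)
    (G : Over S) [GrpObj G] (D : Red.Pinning G)
    (avc : D.idx → (Red.Gm S ⟶ D.T))
    (havc : ∀ a, avc a = Red.DSmap S (D.P.coroot a).toAddMonoidHom ≫ D.split.inv.hom.hom)
    (hpair : ∀ a ∈ D.base.support, ∀ (X : Over S) (x y : X ⟶ Red.Ga S), IsUnit (1 + Red.gaFn x * Red.gaFn y) →
        ∃ (x' y' : X ⟶ Red.Ga S) (z : X ⟶ Red.Gm S), Red.gmFn z = 1 + Red.gaFn x * Red.gaFn y ∧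
          Red.gaFn x' * Red.gmFn z = Red.gaFn x ∧ Red.gaFn y' * Red.gmFn z = Red.gaFn y ∧
          (x ≫ D.u a) * (y ≫ D.u (D.P.reflectionPerm a a)) = (y' ≫ D.u (D.P.reflectionPerm a a)) * (z ≫ avc a ≫ D.i) * (x' ≫ D.u a))
    (w : D.idx → (𝟙_ (Over S) ⟶ G))
    (hw : ∀ a, w a = (e₁ ≫ D.u a) * (e₁ ≫ D.u (D.P.reflectionPerm a a))⁻¹ * (e₁ ≫ D.u a))
    (a b : D.idx) (ha : a ∈ D.base.support) (hb : b ∈ D.base.support) (hne : a ≠ b)
    (hba : D.P.pairing b a = -3) (hab : D.P.pairing a b = -1)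
    (u11 : ∀ X : Over S, (X ⟶ Red.Ga S) → (X ⟶ G))
    (hu11 : ∀ (X : Over S) (x : X ⟶ Red.Ga S), u11 X x = (toUnit X ≫ w b) * (x ≫ D.u a) * (toUnit X ≫ w b)⁻¹)
    (u21 : ∀ X : Over S, (X ⟶ Red.Ga S) → (X ⟶ G))
    (hu21 : ∀ (X : Over S) (x : X ⟶ Red.Ga S), u21 X x = (toUnit X ≫ (w a * w b)) * (x ≫ D.u a) * (toUnit X ≫ (w a * w b))⁻¹)
    (u31 : ∀ X : Over S, (X ⟶ Red.Ga S) → (X ⟶ G))
    (hu31 : ∀ (X : Over S) (x : X ⟶ Red.Ga S), u31 X x = (toUnit X ≫ w a) * (x ≫ D.u b)⁻¹ * (toUnit X ≫ w a)⁻¹)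
    (u32 : ∀ X : Over S, (X ⟶ Red.Ga S) → (X ⟶ G))
    (hu32 : ∀ (X : Over S) (x : X ⟶ Red.Ga S), u32 X x = (toUnit X ≫ (w b * w a)) * (x ≫ D.u b)⁻¹ * (toUnit X ≫ (w b * w a))⁻¹)
    (X : Over S) (x y c11 c21 c31 c32 d21 d31 d32 f31 g32 k32 : X ⟶ Red.Ga S)
    (h11 : Red.gaFn c11 = Red.gaFn x * Red.gaFn y) (h21 : Red.gaFn c21 = Red.gaFn x ^ 2 * Red.gaFn y)
    (h31 : Red.gaFn c31 = Red.gaFn x ^ 3 * Red.gaFn y) (h32 : Red.gaFn c32 = Red.gaFn x ^ 3 * Red.gaFn y ^ 2)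
    (hd21 : Red.gaFn d21 = 2 * Red.gaFn x * Red.gaFn y) (hd31 : Red.gaFn d31 = 3 * Red.gaFn x ^ 2 * Red.gaFn y)
    (hd32 : Red.gaFn d32 = 3 * Red.gaFn x * Red.gaFn y ^ 2) (hf31 : Red.gaFn f31 = 3 * Red.gaFn x * Red.gaFn y)
    (hg32 : Red.gaFn g32 = - (Red.gaFn x * Red.gaFn y)) (hk32 : Red.gaFn k32 = 3 * Red.gaFn x * Red.gaFn y) :
    (y ≫ D.u b) * (x ≫ D.u a) = (x ≫ D.u a) * (y ≫ D.u b) * u11 X c11 * u21 X c21 * u31 X c31 * u32 X c32 ∧
      u11 X y * (x ≫ D.u a) = (x ≫ D.u a) * u11 X y * u21 X d21 * u31 X d31 * u32 X d32 ∧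
      u21 X y * (x ≫ D.u a) = (x ≫ D.u a) * u21 X y * u31 X f31 ∧
      u31 X y * (x ≫ D.u b) = (x ≫ D.u b) * u31 X y * u32 X g32 ∧
      u21 X y * u11 X x = u11 X x * u21 X y * u32 X k32 := by
  haveI := H21Split.isAffineHom_hom D.toSplitRed
  refine ⟨?_, ?_, ?_, ?_, ?_⟩ <;>
    refine hom_ext_pt fun R _ g j => ?_ <;>
    obtain ⟨T, hTa, hTb, hwa, hwb, hv⟩ := g2_point e₁ he₁ D avc havc hpair w hw a b ha hb hba hab g j <;>
    obtain ⟨hab', hae, haf, hbq, hef⟩ := T.rel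
  · obtain ⟨v1, -, -, -⟩ := hv c11
    obtain ⟨-, v2, -, -⟩ := hv c21
    obtain ⟨-, -, v3, -⟩ := hv c31
    obtain ⟨-, -, -, v4⟩ := hv c32
    rw [MonObj.comp_mul, MonObj.comp_mul, MonObj.comp_mul, MonObj.comp_mul, MonObj.comp_mul, MonObj.comp_mul, hu11, hu21, hu31, hu32, v1, v2, v3, v4,
      comp_u D.toSplitRed g j, comp_u D.toSplitRed g j, ← hTa, ← hTb]
    have h := hab' R (-gv g (j ≫ x)) (gv g (j ≫ y))
    rw [uPt_neg] at h
    rw [swap_aux h]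
    simp only [_root_.mul_assoc, gv_comp, h11, h21, h31, h32, map_mul, map_pow, Algebra.algebraMap_self_apply]
    congr 3
    · congr 1; ring
    congr 1
    · congr 1; ring
    congr 1
    · congr 1; ring
    · congr 1; ring
  · obtain ⟨v1, -, -, -⟩ := hv y
    obtain ⟨-, v2, -, -⟩ := hv d21
    obtain ⟨-, -, v3, -⟩ := hv d31
    obtain ⟨-, -, -, v4⟩ := hv d32
    rw [MonObj.comp_mul, MonObj.comp_mul, MonObj.comp_mul, MonObj.comp_mul, MonObj.comp_mul, hu11, hu21, hu31, hu32, v1, v2, v3, v4,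
      comp_u D.toSplitRed g j, ← hTa]
    have h := hae R (-gv g (j ≫ x)) ((T.M : R) * gv g (j ≫ y))
    rw [uPt_neg] at h
    rw [swap_aux h]
    simp only [_root_.mul_assoc, gv_comp, hd21, hd31, hd32, map_mul, map_pow, map_ofNat, Algebra.algebraMap_self_apply]
    congr 3
    · congr 1; ring
    congr 1
    · congr 1
      linear_combination (-3 * (T.N : R) * (evPt g j (Red.gaFn x)) ^ 2 * evPt g j (Red.gaFn y)) * T.M.inv_mul
    · congr 1
      have hMM : (↑(T.M * T.M)⁻¹ : R) * (T.M * T.M) = 1 := by rw [← Units.val_mul, Units.inv_mul]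
      linear_combination (-3 * (T.Q : R) * T.N * evPt g j (Red.gaFn x) * evPt g j (Red.gaFn y) ^ 2) * hMM
  · obtain ⟨-, v2, -, -⟩ := hv y
    obtain ⟨-, -, v3, -⟩ := hv f31
    rw [MonObj.comp_mul, MonObj.comp_mul, MonObj.comp_mul, hu21, hu31, v2, v3, comp_u D.toSplitRed g j, ← hTa]
    have h := haf R (-gv g (j ≫ x)) ((T.P : R) * T.M * gv g (j ≫ y))
    rw [uPt_neg] at h
    rw [swap_aux h]
    congr 2
    simp only [gv_comp, hf31, map_mul, map_ofNat, Algebra.algebraMap_self_apply]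
    have hPM : (↑(T.P * T.M)⁻¹ : R) * (T.P * T.M) = 1 := by rw [← Units.val_mul, Units.inv_mul]
    linear_combination (-3 * (T.N : R) * evPt g j (Red.gaFn x) * evPt g j (Red.gaFn y)) * hPM
  · obtain ⟨-, -, v3, -⟩ := hv y
    obtain ⟨-, -, -, v4⟩ := hv g32
    rw [MonObj.comp_mul, MonObj.comp_mul, MonObj.comp_mul, hu31, hu32, v3, v4, comp_u D.toSplitRed g j, ← hTb]
    have h := hbq R (-gv g (j ≫ x)) (-(T.N : R) * gv g (j ≫ y))
    rw [uPt_neg] at h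
    rw [swap_aux h]
    congr 2
    simp only [gv_comp, hg32, map_mul, map_neg, Algebra.algebraMap_self_apply]
    ring
  · obtain ⟨-, v2, -, -⟩ := hv y
    obtain ⟨v1, -, -, -⟩ := hv x
    obtain ⟨-, -, -, v4⟩ := hv k32
    rw [MonObj.comp_mul, MonObj.comp_mul, MonObj.comp_mul, hu11, hu21, hu32, v1, v2, v4]
    have h := hef R (-((T.M : R) * gv g (j ≫ x))) ((T.P : R) * T.M * gv g (j ≫ y))
    rw [uPt_neg] at h
    rw [swap_aux h]
    congr 2
    simp only [gv_comp, hk32, map_mul, map_ofNat, Algebra.algebraMap_self_apply]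
    have hPM : (↑(T.P * T.M * T.M)⁻¹ : R) * (T.P * T.M * T.M) = 1 := by rw [← Units.val_mul, ← Units.val_mul, Units.inv_mul]
    linear_combination (-3 * (T.Q : R) * T.N * evPt g j (Red.gaFn x) * evPt g j (Red.gaFn y)) * hPM

end Groth.Agent.S8465
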