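import Groth.Statements.S8484
import Groth.Agent.H21Split.R2.PinAB2

set_option autoImplicit false
universe u
open CategoryTheory MonoidalCategory CartesianMonoidalCategory MonObj GrpObj AlgebraicGeometry CategoryTheory.Limits
open Red

set_option backward.isDefEq.respectTransparency false
set_option linter.style.haveILetI false
set_option synthInstance.maxHeartbeats 400000

namespace Groth.Agent.S8484

open Groth.Agent.H21Split Groth.Agent.H21Split.R2

/-- At the level of root groups. Let G be a pinned reductive S-group: a splitting D (maximal torus T ≅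
D_S(M), root datum with root homomorphisms u_c : 𝔾_a ⟶ G for all roots c, system of simple roots Δ)
such that for every simple root a the root homomorphisms of a and -a are dual to each other: u_a(x)
u_{-a}(y) = u_{-a}(y/(1+xy)) · a^∨(1+xy) · u_a(x/(1+xy)) whenever 1 + xy is invertible, where a^∨ :
𝔾_m ⟶ T is the coroot of a read through the splitting. For a root a put w_a = u_a(1) u_{-a}(-1)
u_a(1) (an S-point of G). Let a ≠ b be simple roots with ⟨b, a^∨⟩ = ⟨a, b^∨⟩ = -1 (type A₂) and put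
u_{a+b}(x) = w_b u_a(x) w_b⁻¹. Then for all points x of 𝔾_a: w_a u_b(x) w_a⁻¹ = u_{a+b}(-x), w_a
u_{a+b}(x) w_a⁻¹ = u_b(x) and w_b u_{a+b}(x) w_b⁻¹ = u_a(-x) (the relations Ad(w_a) X_b = -X_{a+b},
Ad(w_a) X_{a+b} = X_b, Ad(w_b) X_{a+b} = -X_a). (The published statement is for a pinned group whose
simple roots are exactly a and b; this row states it for two simple roots a ≠ b of any pinned
group.) -/
theorem result (S : Scheme.{u}) (e₁ : 𝟙_ (Over S) ⟶ Red.Ga S) (he₁ : Red.gaFn e₁ = 1)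
    (G : Over S) [GrpObj G] (D : Red.Pinning G)
    (avc : D.idx → (Red.Gm S ⟶ D.T))
    (havc : ∀ a, avc a = Red.DSmap S (D.P.coroot a).toAddMonoidHom ≫ D.split.inv.hom.hom)
    (hpair : ∀ a ∈ D.base.support, ∀ (X : Over S) (x y : X ⟶ Red.Ga S), IsUnit (1 + Red.gaFn x * Red.gaFn y) →
        ∃ (x' y' : X ⟶ Red.Ga S) (z : X ⟶ Red.Gm S), Red.gmFn z = 1 + Red.gaFn x * Red.gaFn y ∧
          Red.gaFn x' * Red.gmFn z = Red.gaFn x ∧ Red.gaFn y' * Red.gmFn z = Red.gaFn y ∧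
          (x ≫ D.u a) * (y ≫ D.u (D.P.reflectionPerm a a)) = (y' ≫ D.u (D.P.reflectionPerm a a)) * (z ≫ avc a ≫ D.i) * (x' ≫ D.u a))
    (w : D.idx → (𝟙_ (Over S) ⟶ G))
    (hw : ∀ a, w a = (e₁ ≫ D.u a) * (e₁ ≫ D.u (D.P.reflectionPerm a a))⁻¹ * (e₁ ≫ D.u a))
    (a b : D.idx) (ha : a ∈ D.base.support) (hb : b ∈ D.base.support) (hne : a ≠ b)
    (hba : D.P.pairing b a = -1) (hab : D.P.pairing a b = -1)
    (uab : ∀ X : Over S, (X ⟶ Red.Ga S) → (X ⟶ G))
    (huab : ∀ (X : Over S) (x : X ⟶ Red.Ga S), uab X x = (toUnit X ≫ w b) * (x ≫ D.u a) * (toUnit X ≫ w b)⁻¹)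
    (X : Over S) (x nx : X ⟶ Red.Ga S) (hnx : Red.gaFn nx = - Red.gaFn x) :
    (toUnit X ≫ w a) * (x ≫ D.u b) * (toUnit X ≫ w a)⁻¹ = uab X nx ∧
      (toUnit X ≫ w a) * uab X x * (toUnit X ≫ w a)⁻¹ = x ≫ D.u b ∧
      (toUnit X ≫ w b) * uab X x * (toUnit X ≫ w b)⁻¹ = nx ≫ D.u a := by
  haveI := H21Split.isAffineHom_hom D.toSplitRed
  simp only [huab]
  refine ⟨?_, ?_, ?_⟩ <;> refine hom_ext_pt fun R _ g j => ?_ <;>
    obtain ⟨T, hTa, hTb, hwa, hwb, hA', hB', hv⟩ := a2_point e₁ he₁ D avc havc hpair w hw a b ha hb hba hab g j <;>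
    have hn : gv g (j ≫ nx) = -gv g (j ≫ x) := by rw [gv_comp, gv_comp, hnx, map_neg]
  · obtain ⟨hN, -⟩ := T.rel
    rw [MonObj.comp_mul, MonObj.comp_mul, GrpObj.comp_inv, hwa, hv nx, comp_u D.toSplitRed g j, ← hTb, T.nAb R,
      Algebra.algebraMap_self_apply, hN, hn]
    congr 1
    ring
  · obtain ⟨hN, -⟩ := T.rel
    rw [MonObj.comp_mul, MonObj.comp_mul, GrpObj.comp_inv, hwa, hv x, hA' R, comp_u D.toSplitRed g j, ← hTb,
      Algebra.algebraMap_self_apply]
    congr 1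
    linear_combination (↑T.N⁻¹ : R) * gv g (j ≫ x) * -hN + gv g (j ≫ x) * T.N.inv_mul
  · rw [MonObj.comp_mul, MonObj.comp_mul, GrpObj.comp_inv, hwb, hv x, hB' R, comp_u D.toSplitRed g j, ← hTa,
      Algebra.algebraMap_self_apply, hn]
    congr 1
    linear_combination -gv g (j ≫ x) * T.M.inv_mul

end Groth.Agent.S8484
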