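import Groth.Statements.S8486
import Groth.Agent.H21Split.R2.PinG2

set_option autoImplicit false
universe u
open CategoryTheory MonoidalCategory CartesianMonoidalCategory MonObj GrpObj AlgebraicGeometry CategoryTheory.Limits
open Red

set_option backward.isDefEq.respectTransparency false
set_option linter.unusedVariables false
set_option synthInstance.maxHeartbeats 400000

namespace Groth.Agent.S8486

open Groth.Agent.H21Split Groth.Agent.H21Split.R2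

/-- At the level of root groups. Let G be a pinned reductive S-group: a splitting D (maximal torus T ≅
D_S(M), root datum with root homomorphisms u_c : 𝔾_a ⟶ G for all roots c, system of simple roots Δ)
such that for every simple root a the root homomorphisms of a and -a are dual to each other: u_a(x)
u_{-a}(y) = u_{-a}(y/(1+xy)) · a^∨(1+xy) · u_a(x/(1+xy)) whenever 1 + xy is invertible, where a^∨ :
𝔾_m ⟶ T is the coroot of a read through the splitting. For a root a put w_a = u_a(1) u_{-a}(-1)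
u_a(1) (an S-point of G). Let a ≠ b be simple roots with ⟨b, a^∨⟩ = -3 and ⟨a, b^∨⟩ = -1 (type G₂);
put u_{a+b}(x) = w_b u_a(x) w_b⁻¹, u_{2a+b}(x) = (w_a w_b) u_a(x) (w_a w_b)⁻¹, u_{3a+b}(x) = w_a
u_b(-x) w_a⁻¹, u_{3a+2b}(x) = (w_b w_a) u_b(-x) (w_b w_a)⁻¹. Then for all points x of 𝔾_a: w_a
u_{2a+b}(x) w_a⁻¹ = u_{a+b}(-x), w_a u_{3a+b}(x) w_a⁻¹ = u_b(x), w_a u_{3a+2b}(x) w_a⁻¹ =
u_{3a+2b}(x), w_b u_{a+b}(x) w_b⁻¹ = u_a(-x), w_b u_{2a+b}(x) w_b⁻¹ = u_{2a+b}(x) and w_b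
u_{3a+2b}(x) w_b⁻¹ = u_{3a+b}(-x). (The published statement is for a pinned group whose simple roots
are exactly a and b; this row states it for two simple roots a ≠ b of any pinned group.) -/
theorem result (S : Scheme.{u}) (e₁ : 𝟙_ (Over S) ⟶ Red.Ga S) (he₁ : Red.gaFn e₁ = 1)
    (G : Over S) [GrpObj G] (D : Red.Pinning G)
    (avc : D.idx → (Red.Gm S ⟶ D.T))
    (havc : ∀ a, avc a = Red.DSmap S (D.P.coroot a).toAddMonoidHom ≫ D.split.inv.hom.hom)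
    (hpair : ∀ a ∈ D.base.support, ∀ (X : Over S) (x y : X ⟶ Red.Ga S), IsUnit (1 + Red.gaFn x * Red.gaFn y) →
        ∃ (x' y' : X ⟶ Red.Ga S) (z : X ⟶ Red.Gm S), Red.gmFn z = 1 + Red.gaFn x * Red.gaFn y ∧
          Red.gaFn x' * Red.gmFn z = Red.gaFn x ∧ Red.gaFn y' * Red.gmFn z = Red.gaFn y ∧
          (x ≫ D.u a) * (y ≫ D.u (D.P.reflectionPerm a a)) = (y' ≫ D.u (D.P.reflectionPerm a a)) * (z ≫ avc a ≫ D.i) * (x' ≫ D.u a))
    (w : D.idx → (𝟙_ (Over S) ⟶ G))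
    (hw : ∀ a, w a = (e₁ ≫ D.u a) * (e₁ ≫ D.u (D.P.reflectionPerm a a))⁻¹ * (e₁ ≫ D.u a))
    (a b : D.idx) (ha : a ∈ D.base.support) (hb : b ∈ D.base.support) (hne : a ≠ b)
    (hba : D.P.pairing b a = -3) (hab : D.P.pairing a b = -1)
    (u11 : ∀ X : Over S, (X ⟶ Red.Ga S) → (X ⟶ G))
    (hu11 : ∀ (X : Over S) (x : X ⟶ Red.Ga S), u11 X x = (toUnit X ≫ w b) * (x ≫ D.u a) * (toUnit X ≫ w b)⁻¹)
    (u21 : ∀ X : Over S, (X ⟶ Red.Ga S) → (X ⟶ G))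
    (hu21 : ∀ (X : Over S) (x : X ⟶ Red.Ga S), u21 X x = (toUnit X ≫ (w a * w b)) * (x ≫ D.u a) * (toUnit X ≫ (w a * w b))⁻¹)
    (u31 : ∀ X : Over S, (X ⟶ Red.Ga S) → (X ⟶ G))
    (hu31 : ∀ (X : Over S) (x : X ⟶ Red.Ga S), u31 X x = (toUnit X ≫ w a) * (x ≫ D.u b)⁻¹ * (toUnit X ≫ w a)⁻¹)
    (u32 : ∀ X : Over S, (X ⟶ Red.Ga S) → (X ⟶ G))
    (hu32 : ∀ (X : Over S) (x : X ⟶ Red.Ga S), u32 X x = (toUnit X ≫ (w b * w a)) * (x ≫ D.u b)⁻¹ * (toUnit X ≫ (w b * w a))⁻¹)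
    (X : Over S) (x nx : X ⟶ Red.Ga S) (hnx : Red.gaFn nx = - Red.gaFn x) :
    (toUnit X ≫ w a) * u21 X x * (toUnit X ≫ w a)⁻¹ = u11 X nx ∧ (toUnit X ≫ w a) * u31 X x * (toUnit X ≫ w a)⁻¹ = x ≫ D.u b ∧
      (toUnit X ≫ w a) * u32 X x * (toUnit X ≫ w a)⁻¹ = u32 X x ∧ (toUnit X ≫ w b) * u11 X x * (toUnit X ≫ w b)⁻¹ = nx ≫ D.u a ∧
      (toUnit X ≫ w b) * u21 X x * (toUnit X ≫ w b)⁻¹ = u21 X x ∧ (toUnit X ≫ w b) * u32 X x * (toUnit X ≫ w b)⁻¹ = u31 X nx := by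
  haveI := H21Split.isAffineHom_hom D.toSplitRed
  simp only [hu11, hu21, hu31, hu32]
  have key : ∀ (R : Type u) [CommRing R] (g : Spec (CommRingCat.of R) ⟶ S) (j : pt g R ⟶ X),
      ∃ T : G2Data g D.toSplitRed, T.a = a ∧ T.b = b ∧ j ≫ toUnit X ≫ w a = wPt g D.toSplitRed T.a T.a' T.ka R ∧
        j ≫ toUnit X ≫ w b = wPt g D.toSplitRed T.b T.b' T.kb R ∧ gv g (j ≫ nx) = -gv g (j ≫ x) ∧ _ :=
    fun R _ g j => by
      obtain ⟨T, h1, h2, h3, h4, h5⟩ := g2_point e₁ he₁ D avc havc hpair w hw a b ha hb hba hab g j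
      exact ⟨T, h1, h2, h3, h4, by rw [gv_comp, gv_comp, hnx, map_neg], h5⟩
  refine ⟨?_, ?_, ?_, ?_, ?_, ?_⟩ <;>
    refine hom_ext_pt fun R _ g j => ?_ <;> obtain ⟨T, hTa, hTb, hwa, hwb, hn, hv⟩ := key R g j <;>
    obtain ⟨v1, v2, v3, v4⟩ := hv x <;> obtain ⟨n1, n2, n3, n4⟩ := hv nx <;>
    rw [MonObj.comp_mul, MonObj.comp_mul, GrpObj.comp_inv]
  · rw [hwa, v2, n1, T.nAf R, hn, Algebra.algebraMap_self_apply]
    congr 1
    linear_combination -(T.M : R) * gv g (j ≫ x) * T.P.inv_mul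
  · rw [hwa, v3, T.nAq R, Algebra.algebraMap_self_apply, comp_u D.toSplitRed g j, ← hTb]
    congr 1
    linear_combination gv g (j ≫ x) * T.N.inv_mul
  · rw [hwa, v4, T.nAh R, Algebra.algebraMap_self_apply, _root_.one_mul]
  · rw [hwb, v1, T.nBe R, Algebra.algebraMap_self_apply, comp_u D.toSplitRed g j, ← hTa, hn]
    congr 1
    linear_combination -gv g (j ≫ x) * T.M.inv_mul
  · rw [hwb, v2, T.nBf R, Algebra.algebraMap_self_apply, _root_.one_mul]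
  · rw [hwb, v4, n3, T.nBh R, Algebra.algebraMap_self_apply, hn]
    congr 1
    linear_combination (T.N : R) * gv g (j ≫ x) * T.Q.inv_mul

end Groth.Agent.S8486
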