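import Groth.Statements.S8459
import Groth.Agent.H21Split.Orth

set_option autoImplicit false
universe u
open CategoryTheory MonoidalCategory CartesianMonoidalCategory MonObj GrpObj AlgebraicGeometry CategoryTheory.Limits
open Red

namespace Groth.Agent.S8459

/-- Let G be a pinned reductive S-group: a splitting D (maximal torus T ≅ D_S(M), root datum with root
homomorphisms u_c : 𝔾_a ⟶ G for all roots c, system of simple roots Δ) such that for every simple
root a the root homomorphisms of a and -a are dual to each other: u_a(x) u_{-a}(y) =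
u_{-a}(y/(1+xy)) · a^∨(1+xy) · u_a(x/(1+xy)) whenever 1 + xy is invertible, where a^∨ : 𝔾_m ⟶ T is
the coroot of a read through the splitting. For a root a put w_a = u_a(1) u_{-a}(-1) u_a(1) (an
S-point of G). Let a ≠ b be simple roots with ⟨b, a^∨⟩ = 0 and ⟨a, b^∨⟩ = 0 (the pair spans a system
of type A₁ × A₁). Then t_{ab} = (w_a w_b)^2 = a^∨(-1) · b^∨(-1) = (w_b w_a)^2. (The published
statement is for a pinned group whose simple roots are exactly a and b; this row states it for two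
simple roots a ≠ b of any pinned group.) -/
theorem result (S : Scheme.{u}) (e₁ : 𝟙_ (Over S) ⟶ Red.Ga S) (he₁ : Red.gaFn e₁ = 1)
    (G : Over S) [GrpObj G] (D : Red.Pinning G)
    (avc : D.idx → (Red.Gm S ⟶ D.T))
    (havc : ∀ a, avc a = Red.DSmap S (D.P.coroot a).toAddMonoidHom ≫ D.split.inv.hom.hom)
    (hpair : ∀ a ∈ D.base.support, ∀ (X : Over S) (x y : X ⟶ Red.Ga S), IsUnit (1 + Red.gaFn x * Red.gaFn y) →
        ∃ (x' y' : X ⟶ Red.Ga S) (z : X ⟶ Red.Gm S), Red.gmFn z = 1 + Red.gaFn x * Red.gaFn y ∧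
          Red.gaFn x' * Red.gmFn z = Red.gaFn x ∧ Red.gaFn y' * Red.gmFn z = Red.gaFn y ∧
          (x ≫ D.u a) * (y ≫ D.u (D.P.reflectionPerm a a)) = (y' ≫ D.u (D.P.reflectionPerm a a)) * (z ≫ avc a ≫ D.i) * (x' ≫ D.u a))
    (w : D.idx → (𝟙_ (Over S) ⟶ G))
    (hw : ∀ a, w a = (e₁ ≫ D.u a) * (e₁ ≫ D.u (D.P.reflectionPerm a a))⁻¹ * (e₁ ≫ D.u a))
    (m₁ : 𝟙_ (Over S) ⟶ Red.Gm S) (hm₁ : Red.gmFn m₁ = -1)
    (a b : D.idx) (ha : a ∈ D.base.support) (hb : b ∈ D.base.support) (hne : a ≠ b)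
    (hba : D.P.pairing b a = 0) (hab : D.P.pairing a b = 0) :
    (w a * w b) ^ 2 = (m₁ ≫ avc a ≫ D.i) * (m₁ ≫ avc b ≫ D.i) ∧ (w b * w a) ^ 2 = (m₁ ≫ avc a ≫ D.i) * (m₁ ≫ avc b ≫ D.i) := by
  have hs := H21Split.orth_sums D.toSplitRed D.base ha hb hne hab
  have hcm : ∀ x ∈ ({a, D.P.reflectionPerm a a} : Set D.idx), ∀ y ∈ ({b, D.P.reflectionPerm b b} : Set D.idx),
      Commute (e₁ ≫ D.u x) (e₁ ≫ D.u y) := fun x hx y hy =>
    S8458.result S G D.toSplitRed x y (hs x hx y hy).1 (hs x hx y hy).2 _ e₁ e₁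
  have h1 := hcm a (by simp) b (by simp)
  have h2 := hcm a (by simp) (D.P.reflectionPerm b b) (by simp)
  have h3 := hcm (D.P.reflectionPerm a a) (by simp) b (by simp)
  have h4 := hcm (D.P.reflectionPerm a a) (by simp) (D.P.reflectionPerm b b) (by simp)
  have sa := H21Split.weyl_sq D.toSplitRed e₁ he₁ m₁ hm₁ a (avc a) (havc a) (hpair a ha)
  have sb := H21Split.weyl_sq D.toSplitRed e₁ he₁ m₁ hm₁ b (avc b) (havc b) (hpair b hb)
  rw [hw a, hw b]
  refine ⟨(H21Split.sq_mul_of_commute h1 h2 h3 h4).trans (by rw [sa, sb]), ?_⟩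
  refine (H21Split.sq_mul_of_commute h1.symm h3.symm h2.symm h4.symm).trans ?_
  rw [sa, sb]
  rw [havc a, havc b]
  simp only [← Category.assoc, ← MonObj.mul_comp]
  simp only [Category.assoc, ← MonObj.comp_mul, ← H21Split.DSmap_add, add_comm]

end Groth.Agent.S8459
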