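import Groth.Statements.S8462
import Groth.Agent.H21Split.R2.Coxeter2

set_option autoImplicit false
universe u
open CategoryTheory MonoidalCategory CartesianMonoidalCategory MonObj GrpObj AlgebraicGeometry CategoryTheory.Limits
open Red

set_option backward.isDefEq.respectTransparency false
set_option linter.unusedVariables false
set_option linter.style.haveILetI false
set_option synthInstance.maxHeartbeats 400000

namespace Groth.Agent.S8462

open Groth.Agent.H21Split Groth.Agent.H21Split.R2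

/-- Let G be a pinned reductive S-group: a splitting D (maximal torus T ≅ D_S(M), root datum with root
homomorphisms u_c : 𝔾_a ⟶ G for all roots c, system of simple roots Δ) such that for every simple
root a the root homomorphisms of a and -a are dual to each other: u_a(x) u_{-a}(y) =
u_{-a}(y/(1+xy)) · a^∨(1+xy) · u_a(x/(1+xy)) whenever 1 + xy is invertible, where a^∨ : 𝔾_m ⟶ T is
the coroot of a read through the splitting. For a root a put w_a = u_a(1) u_{-a}(-1) u_a(1) (an
S-point of G). Let a ≠ b be simple roots with ⟨b, a^∨⟩ = -3 and ⟨a, b^∨⟩ = -1 (the pair spans a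
system of type G₂). Then t_{ab} = (w_a w_b)^6 = e = (w_b w_a)^6. (The published statement is for a
pinned group whose simple roots are exactly a and b; this row states it for two simple roots a ≠ b
of any pinned group.) -/
theorem result (S : Scheme.{u}) (e₁ : 𝟙_ (Over S) ⟶ Red.Ga S) (he₁ : Red.gaFn e₁ = 1)
    (G : Over S) [GrpObj G] (D : Red.Pinning G)
    (avc : D.idx → (Red.Gm S ⟶ D.T))
    (havc : ∀ a, avc a = Red.DSmap S (D.P.coroot a).toAddMonoidHom ≫ D.split.inv.hom.hom)
    (hpair : ∀ a ∈ D.base.support, ∀ (X : Over S) (x y : X ⟶ Red.Ga S), IsUnit (1 + Red.gaFn x * Red.gaFn y) →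
        ∃ (x' y' : X ⟶ Red.Ga S) (z : X ⟶ Red.Gm S), Red.gmFn z = 1 + Red.gaFn x * Red.gaFn y ∧
          Red.gaFn x' * Red.gmFn z = Red.gaFn x ∧ Red.gaFn y' * Red.gmFn z = Red.gaFn y ∧
          (x ≫ D.u a) * (y ≫ D.u (D.P.reflectionPerm a a)) = (y' ≫ D.u (D.P.reflectionPerm a a)) * (z ≫ avc a ≫ D.i) * (x' ≫ D.u a))
    (w : D.idx → (𝟙_ (Over S) ⟶ G))
    (hw : ∀ a, w a = (e₁ ≫ D.u a) * (e₁ ≫ D.u (D.P.reflectionPerm a a))⁻¹ * (e₁ ≫ D.u a))
    (a b : D.idx) (ha : a ∈ D.base.support) (hb : b ∈ D.base.support) (hne : a ≠ b)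
    (hba : D.P.pairing b a = -3) (hab : D.P.pairing a b = -1) :
    (w a * w b) ^ 6 = 1 ∧ (w b * w a) ^ 6 = 1 := by
  haveI := H21Split.isAffineHom_hom D.toSplitRed
  haveI : D.P.IsReduced := isReduced_of_base D.P D.base
  refine ⟨hom_ext_pt fun R _ g j => ?_, hom_ext_pt fun R _ g j => ?_⟩ <;>
    obtain ⟨T, rfl, rfl, hTa', hTb', hTka, hTkb, -⟩ := exists_g2Data D.toSplitRed g (root_opp D.toSplitRed a) (root_opp D.toSplitRed b) (dual_of_pair1 D.toSplitRed g (havc a) (hpair a ha)) (dual_of_pair1 D.toSplitRed g (havc b) (hpair b hb)) hba hab <;>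
    have hwa : j ≫ w T.a = wPt g D.toSplitRed T.a T.a' T.ka R := (by
      rw [hTa', hTka, hw]
      simpa using comp_weyl D.toSplitRed g j e₁ he₁ T.a) <;>
    have hwb : j ≫ w T.b = wPt g D.toSplitRed T.b T.b' T.kb R := (by
      rw [hTb', hTkb, hw]
      simpa using comp_weyl D.toSplitRed g j e₁ he₁ T.b) <;>
    obtain ⟨h1, h2⟩ := T.coxeter <;>
    simp only [pow_succ, pow_zero] at h1 h2 <;>
    simp only [pow_succ, pow_zero, MonObj.comp_mul, MonObj.comp_one, hwa, hwb]
  exacts [h1, h2]

end Groth.Agent.S8462
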