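import Groth.Statements.S2963
import Groth.Agent.H21Split.Red0.UniqueData
import Groth.Agent.S11937

set_option autoImplicit false
set_option maxHeartbeats 1000000
set_option synthInstance.maxHeartbeats 400000
set_option backward.isDefEq.respectTransparency false
set_option linter.style.haveILetI false
set_option linter.unusedSectionVars false
open CategoryTheory MonoidalCategory CartesianMonoidalCategory MonObj GrpObj AlgebraicGeometry
universe u
open RedX

namespace Groth.Agent.S2963

section Conj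

variable {S : Scheme.{u}} {G : Over S} [GrpObj G]

/-- conjugation by a section -/
noncomputable def conjMap (g : 𝟙_ (Over S) ⟶ G) : G ⟶ G := (toUnit G ≫ g) * 𝟙 G * (toUnit G ≫ g)⁻¹

theorem comp_conjMap (g : 𝟙_ (Over S) ⟶ G) {X : Over S} (z : X ⟶ G) :
    z ≫ conjMap g = (toUnit X ≫ g) * z * (toUnit X ≫ g)⁻¹ := by
  rw [conjMap, MonObj.comp_mul, MonObj.comp_mul, GrpObj.comp_inv, ← Category.assoc z (toUnit G),
    toUnit_unique (z ≫ toUnit G) (toUnit X), Category.comp_id]

theorem isMonHom_conjMap (g : 𝟙_ (Over S) ⟶ G) : IsMonHom (conjMap g) :=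
  H21Diag.isMonHom_of_mul _ fun x y => by
    simp only [comp_conjMap]
    group

theorem conjMap_inv (g : 𝟙_ (Over S) ⟶ G) : conjMap g ≫ conjMap g⁻¹ = 𝟙 G := by
  rw [comp_conjMap]
  simp only [conjMap, GrpObj.comp_inv]
  group

theorem mono_conjMap (g : 𝟙_ (Over S) ⟶ G) : Mono (conjMap g) :=
  ⟨fun a b h => by
    have := congrArg (· ≫ conjMap g⁻¹) h
    simpa only [Category.assoc, conjMap_inv, Category.comp_id] using this⟩

end Conj

variable {k : Type u} [Field k] {G : Over (Spec (CommRingCat.of k))} [GrpObj G]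

open H21Split in
/-- a conjugation carrying one torus into the other gives a surjection of character groups -/
theorem exists_surj (D D' : Red.SplitRed G) (g : 𝟙_ (Over (Spec (CommRingCat.of k))) ⟶ G)
    (hg : ∀ (X : Over (Spec (CommRingCat.of k))) (t : X ⟶ D'.T), ∃ t' : X ⟶ D.T,
      (toUnit X ≫ g) * (t ≫ D'.i) * (toUnit X ≫ g)⁻¹ = t' ≫ D.i) :
    ∃ ψ : D.M →+ D'.M, Function.Surjective ψ ∧ D'.i ≫ conjMap g =
      D'.split.hom.hom.hom ≫ Red.DSmap _ ψ ≫ D.split.inv.hom.hom ≫ D.i := by
  obtain ⟨f, hf⟩ := hg D'.T (𝟙 _)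
  rw [Category.id_comp, ← comp_conjMap] at hf
  haveI := isMonHom_conjMap g
  haveI := mono_conjMap g
  haveI : Mono D'.i := D'.maximalTorus.2.1
  haveI : IsMonHom f := H21Diag.isMonHom_of_mul _ fun x y => by
    haveI : IsMonHom (D'.i ≫ conjMap g) := inferInstanceAs (IsMonHom (D'.i ≫ conjMap g))
    rw [← cancel_mono D.i, MonObj.mul_comp _ _ D.i, Category.assoc, Category.assoc, Category.assoc, ← hf]
    exact MonObj.mul_comp _ _ _
  let s := D'.split.inv.hom.hom ≫ f ≫ D.split.hom.hom.hom
  haveI : IsMonHom s := inferInstanceAs (IsMonHom (D'.split.inv.hom.hom ≫ f ≫ D.split.hom.hom.hom))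
  haveI := D.finiteM
  haveI : AddGroup.FG D.M := Module.Finite.iff_addGroup_fg.mp inferInstance
  obtain ⟨ψ, hψ⟩ := S11937.exists_eq_DSmap s
  have hf' : f = D'.split.hom.hom.hom ≫ Red.DSmap _ ψ ≫ D.split.inv.hom.hom := by
    rw [← hψ]
    simp only [s, Category.assoc, split_hom_inv, Category.comp_id, reassoc_of% (split_hom_inv D')]
  refine ⟨ψ, ?_, by rw [hf, hf']; simp only [Category.assoc]⟩
  rw [← AddMonoidHom.range_eq_top]
  by_contra hne
  let q := QuotientAddGroup.mk' ψ.range
  have h0 : q.comp ψ = 0 := AddMonoidHom.ext fun x => (QuotientAddGroup.eq_zero_iff _).mpr ⟨x, rfl⟩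
  have h1 : (Red.DSmap _ q ≫ D'.split.inv.hom.hom) ≫ D'.i ≫ conjMap g =
      (1 : Red.DS (Spec (CommRingCat.of k)) (D'.M ⧸ ψ.range) ⟶ D'.T) ≫ D'.i ≫ conjMap g := by
    rw [hf, hf', MonObj.one_comp]
    simp only [Category.assoc, reassoc_of% (split_inv_hom D')]
    rw [← Category.assoc (Red.DSmap _ q), R2.DSmap_comp, h0, DSmap_zero, MonObj.one_comp]
  haveI : Mono (D'.i ≫ conjMap g) := mono_comp _ _
  have h2 := congrArg (· ≫ D'.split.hom.hom.hom) ((cancel_mono _).mp h1)
  simp only [Category.assoc, split_inv_hom, Category.comp_id, MonObj.one_comp, ← DSmap_zero] at h2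
  exact hne (by rw [← QuotientAddGroup.ker_mk' ψ.range, AddMonoidHom.ker_eq_top_iff]; exact H21Red0.DSmap_inj h2)

/-- With conjugacy of maximal tori over the algebraically closed base field carried as a hypothesis (the
published statement takes it as known): let k be an algebraically closed field and G a reductive
k-group in which any maximal torus is carried into any other by conjugation by some k-point of G.
Then the root data of any two splittings of G are isomorphic (an equivalence of root pairings in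
Mathlib's sense). -/
theorem result (k : Type u) [Field k] [IsAlgClosed k]
    (G : Over (Spec (CommRingCat.of k))) [GrpObj G] (hG : Red.IsReductive G)
    (hconj : ∀ (T T' : Over (Spec (CommRingCat.of k))) [GrpObj T] [GrpObj T'] (i : T ⟶ G) (i' : T' ⟶ G),
      Red.IsMaximalTorus i → Red.IsMaximalTorus i' → ∃ g : 𝟙_ (Over (Spec (CommRingCat.of k))) ⟶ G,
        ∀ (X : Over (Spec (CommRingCat.of k))) (t : X ⟶ T), ∃ t' : X ⟶ T',
          (toUnit X ≫ g) * (t ≫ i) * (toUnit X ≫ g)⁻¹ = t' ≫ i')
    (D D' : Red.SplitRed G) : Nonempty (RootPairing.Equiv D.P D'.P) := by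
  obtain ⟨g, hg⟩ := hconj D'.T D.T D'.i D.i D'.maximalTorus D.maximalTorus
  obtain ⟨g', hg'⟩ := hconj D.T D'.T D.i D'.i D.maximalTorus D'.maximalTorus
  obtain ⟨ψ, hψ, hc⟩ := exists_surj D D' g hg
  obtain ⟨ψ', hψ', -⟩ := exists_surj D' D g' hg'
  haveI := D.finiteM
  have hinj : Function.Injective ψ := by
    have hcomp : Function.Injective (ψ'.comp ψ).toIntLinearMap :=
      OrzechProperty.injective_of_surjective_endomorphism _ (hψ'.comp hψ)
    exact fun a b h => hcomp (congrArg ψ' h)
  let e : D.M ≃+ D'.M := AddEquiv.ofBijective ψ ⟨hinj, hψ⟩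
  haveI := isMonHom_conjMap g
  haveI := mono_conjMap g
  have hc' : D'.i ≫ conjMap g = D'.split.hom.hom.hom ≫ Red.DSmap _ e.toAddMonoidHom ≫ D.split.inv.hom.hom ≫ D.i := hc
  haveI := isMonHom_conjMap g⁻¹
  haveI := mono_conjMap g⁻¹
  have hcs : D.i ≫ conjMap g⁻¹ = D.split.hom.hom.hom ≫ Red.DSmap _ e.symm.toAddMonoidHom ≫
      D'.split.inv.hom.hom ≫ D'.i := by
    rw [← cancel_mono (conjMap g)]
    simp only [Category.assoc, hc', reassoc_of% (H21Split.split_inv_hom D')]
    have h1 := conjMap_inv g⁻¹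
    rw [_root_.inv_inv] at h1
    rw [h1, Category.comp_id, ← Category.assoc (Red.DSmap _ _), H21Split.R2.DSmap_comp,
      show e.symm.toAddMonoidHom.comp e.toAddMonoidHom = AddMonoidHom.id D.M from
        AddMonoidHom.ext fun x => e.symm_apply_apply x,
      S11937.DSmap_id, Category.id_comp, reassoc_of% (H21Split.split_hom_inv D)]
  exact H21Red0.nonempty_equiv D D' (conjMap g) e hc' fun b => by
    simpa using H21Red0.root_mem_of D' D (conjMap g⁻¹) e.symm hcs b

end Groth.Agent.S2963
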