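import Groth.Statements.S8477
import Groth.Agent.H21Split.R2.WeylSign

set_option autoImplicit false
universe u
open CategoryTheory MonoidalCategory CartesianMonoidalCategory MonObj GrpObj AlgebraicGeometry CategoryTheory.Limits
open Red

set_option backward.isDefEq.respectTransparency false
set_option linter.unusedVariables false
set_option linter.style.haveILetI false
set_option synthInstance.maxHeartbeats 400000

namespace Groth.Agent.S8477

open Groth.Agent.H21Split Groth.Agent.H21Split.R2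

/-- At the level of root groups: Let G be a pinned reductive S-group: a splitting D (maximal torus T ≅
D_S(M), root datum with root homomorphisms u_c : 𝔾_a ⟶ G for all roots c, system of simple roots Δ)
such that for every simple root a the root homomorphisms of a and -a are dual to each other: u_a(x)
u_{-a}(y) = u_{-a}(y/(1+xy)) · a^∨(1+xy) · u_a(x/(1+xy)) whenever 1 + xy is invertible, where a^∨ :
𝔾_m ⟶ T is the coroot of a read through the splitting. For a root a put w_a = u_a(1) u_{-a}(-1)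
u_a(1) (an S-point of G). Let l = (a₁, …, aₙ) be a list of simple roots and a, a₀ simple roots with
s_{a₁} ∘ ⋯ ∘ s_{aₙ} (a) = a₀ (as a permutation of the roots). Then there is a sign ε ∈ {1, -1} such
that (w_{a₁} ⋯ w_{aₙ}) u_a(x) (w_{a₁} ⋯ w_{aₙ})⁻¹ = u_{a₀}(ε x) for all points x of 𝔾_a. -/
theorem result (S : Scheme.{u}) (e₁ : 𝟙_ (Over S) ⟶ Red.Ga S) (he₁ : Red.gaFn e₁ = 1)
    (G : Over S) [GrpObj G] (D : Red.Pinning G)
    (avc : D.idx → (Red.Gm S ⟶ D.T))
    (havc : ∀ a, avc a = Red.DSmap S (D.P.coroot a).toAddMonoidHom ≫ D.split.inv.hom.hom)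
    (hpair : ∀ a ∈ D.base.support, ∀ (X : Over S) (x y : X ⟶ Red.Ga S), IsUnit (1 + Red.gaFn x * Red.gaFn y) →
        ∃ (x' y' : X ⟶ Red.Ga S) (z : X ⟶ Red.Gm S), Red.gmFn z = 1 + Red.gaFn x * Red.gaFn y ∧
          Red.gaFn x' * Red.gmFn z = Red.gaFn x ∧ Red.gaFn y' * Red.gmFn z = Red.gaFn y ∧
          (x ≫ D.u a) * (y ≫ D.u (D.P.reflectionPerm a a)) = (y' ≫ D.u (D.P.reflectionPerm a a)) * (z ≫ avc a ≫ D.i) * (x' ≫ D.u a))
    (w : D.idx → (𝟙_ (Over S) ⟶ G))
    (hw : ∀ a, w a = (e₁ ≫ D.u a) * (e₁ ≫ D.u (D.P.reflectionPerm a a))⁻¹ * (e₁ ≫ D.u a))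
    (l : List D.idx) (hl : ∀ c ∈ l, c ∈ D.base.support) (a a₀ : D.idx) (ha : a ∈ D.base.support) (ha₀ : a₀ ∈ D.base.support)
    (hw₀ : (l.map D.P.reflectionPerm).prod a = a₀) :
    ∃ ε : ℤ, (ε = 1 ∨ ε = -1) ∧ ∀ (X : Over S) (x y : X ⟶ Red.Ga S), Red.gaFn y = (ε : Γ(X.left, ⊤)) * Red.gaFn x →
      (toUnit X ≫ (l.map w).prod) * (x ≫ D.u a) * (toUnit X ≫ (l.map w).prod)⁻¹ = y ≫ D.u a₀ := by
  haveI := H21Split.isAffineHom_hom D.toSplitRed
  haveI : D.P.IsReduced := isReduced_of_base D.P D.base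
  haveI : Finite D.idx := @Finite.of_fintype _ D.fintypeIdx
  have key : ∀ (R : Type u) [CommRing R] (g : Spec (CommRingCat.of R) ⟶ S),
      ∃ ε : ℤ, (ε = 1 ∨ ε = -1) ∧ SignAt D.toSplitRed ((l.map w).prod) a a₀ ε R g := by
    intro R _ g
    have hd : ∀ c ∈ D.base.support, Dual g D.toSplitRed c (D.P.reflectionPerm c c) ((1 : Rˣ) : R) :=
      fun c hc => dual_of_pair1 D.toSplitRed g (havc c) (hpair c hc)
    obtain ⟨n, hn⟩ := word_factor D.base hd l hl ha ha₀ hw₀
    have hW : toUnit (pt g R) ≫ (l.map w).prod = (l.map (wP g D.toSplitRed)).prod := by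
      clear hn hw₀ hl
      induction l with
      | nil => simp
      | cons c l ih =>
        rw [List.map_cons, List.map_cons, List.prod_cons, List.prod_cons, MonObj.comp_mul, ih, hw]
        congr 1
        simpa using comp_weyl D.toSplitRed g (𝟙 (pt g R)) e₁ he₁ c
    refine ⟨((-1 : ℤˣ) ^ n : ℤˣ), Int.isUnit_iff.mp (Units.isUnit _), fun x => ?_⟩
    have h := hn R x
    rw [show toBase R R = AlgHom.id R R from AlgHom.ext fun _ => rfl, pmap_id, Category.id_comp, ← hW,
      Algebra.algebraMap_self_apply] at h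
    rw [h]
    congr 2
    rcases Int.even_or_odd n with hn' | hn'
    · rw [Even.neg_zpow hn', Even.neg_zpow hn']; simp
    · rw [Odd.neg_zpow hn', Odd.neg_zpow hn']; simp
  obtain ⟨ε, hε, hs⟩ := exists_uniform_sign key
  refine ⟨ε, hε, fun X x y hy => hom_ext_pt fun R _ g j => ?_⟩
  simp only [MonObj.comp_mul, GrpObj.comp_inv, comp_u D.toSplitRed g j]
  rw [← Category.assoc, toUnit_unique (j ≫ toUnit X) (toUnit _), hs R g]
  congr 1
  rw [gv_comp, gv_comp, hy, map_mul, map_intCast]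

end Groth.Agent.S8477
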