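import Groth.Statements.S8472
import Groth.Agent.H21Split.R2.ChevExist
import Groth.Agent.S8477

set_option autoImplicit false
universe u
open CategoryTheory MonoidalCategory CartesianMonoidalCategory MonObj GrpObj AlgebraicGeometry CategoryTheory.Limits
open Red

set_option backward.isDefEq.respectTransparency false
set_option linter.unusedVariables false
set_option linter.style.haveILetI false
set_option synthInstance.maxHeartbeats 400000

namespace Groth.Agent.S8472

open Groth.Agent.H21Split Groth.Agent.H21Split.R2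

/-- Existence of a Chevalley system extending a pinning: at the level of root groups. Let G be a pinned
reductive S-group: a splitting D (maximal torus T ≅ D_S(M), root datum with root homomorphisms u_c :
𝔾_a ⟶ G for all roots c, system of simple roots Δ) such that for every simple root a the root
homomorphisms of a and -a are dual to each other: u_a(x) u_{-a}(y) = u_{-a}(y/(1+xy)) · a^∨(1+xy) ·
u_a(x/(1+xy)) whenever 1 + xy is invertible, where a^∨ : 𝔾_m ⟶ T is the coroot of a read through the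
splitting. For a root a put w_a = u_a(1) u_{-a}(-1) u_a(1) (an S-point of G). Then the pinning
extends to a Chevalley system: there is a family (v_c)_{c} of root homomorphisms v_c : 𝔾_a ⟶ G, one
for each root c, normalised by T through the character of c, with v_a = u_a for every simple root a,
such that every v_c admits a dual root homomorphism v_c⁻ (v_c(x) v_c⁻(y) = v_c⁻(y/(1+xy)) c^∨(1+xy)
v_c(x/(1+xy)) for 1 + xy invertible) for which, writing n_c = v_c(1) v_c⁻(1)⁻¹ v_c(1), one has for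
every root b a sign ε ∈ {1, -1} with n_c v_b(x) n_c⁻¹ = v_{s_c(b)}(ε x) for all points x of 𝔾_a. -/
theorem result (S : Scheme.{u}) (e₁ : 𝟙_ (Over S) ⟶ Red.Ga S) (he₁ : Red.gaFn e₁ = 1)
    (G : Over S) [GrpObj G] (D : Red.Pinning G)
    (avc : D.idx → (Red.Gm S ⟶ D.T))
    (havc : ∀ a, avc a = Red.DSmap S (D.P.coroot a).toAddMonoidHom ≫ D.split.inv.hom.hom)
    (hpair : ∀ a ∈ D.base.support, ∀ (X : Over S) (x y : X ⟶ Red.Ga S), IsUnit (1 + Red.gaFn x * Red.gaFn y) →
        ∃ (x' y' : X ⟶ Red.Ga S) (z : X ⟶ Red.Gm S), Red.gmFn z = 1 + Red.gaFn x * Red.gaFn y ∧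
          Red.gaFn x' * Red.gmFn z = Red.gaFn x ∧ Red.gaFn y' * Red.gmFn z = Red.gaFn y ∧
          (x ≫ D.u a) * (y ≫ D.u (D.P.reflectionPerm a a)) = (y' ≫ D.u (D.P.reflectionPerm a a)) * (z ≫ avc a ≫ D.i) * (x' ≫ D.u a)) :
    ∃ v : D.idx → (Red.Ga S ⟶ G),
      (∀ c, Red.IsRootHom D.i (D.split.hom.hom.hom ≫ Red.chi S (D.P.root c)) (v c)) ∧
      (∀ a ∈ D.base.support, v a = D.u a) ∧
      ∀ c, ∃ vd : Red.Ga S ⟶ G, IsMonHom vd ∧
        (∀ (X : Over S) (x y : X ⟶ Red.Ga S), IsUnit (1 + Red.gaFn x * Red.gaFn y) →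
        ∃ (x' y' : X ⟶ Red.Ga S) (z : X ⟶ Red.Gm S), Red.gmFn z = 1 + Red.gaFn x * Red.gaFn y ∧
          Red.gaFn x' * Red.gmFn z = Red.gaFn x ∧ Red.gaFn y' * Red.gmFn z = Red.gaFn y ∧
          (x ≫ v c) * (y ≫ vd) = (y' ≫ vd) * (z ≫ avc c ≫ D.i) * (x' ≫ v c)) ∧
        ∀ b, ∃ ε : ℤ, (ε = 1 ∨ ε = -1) ∧ ∀ (X : Over S) (x y : X ⟶ Red.Ga S), Red.gaFn y = (ε : Γ(X.left, ⊤)) * Red.gaFn x →
          (toUnit X ≫ ((e₁ ≫ v c) * (e₁ ≫ vd)⁻¹ * (e₁ ≫ v c))) * (x ≫ v b) *
              (toUnit X ≫ ((e₁ ≫ v c) * (e₁ ≫ vd)⁻¹ * (e₁ ≫ v c)))⁻¹ = y ≫ v (D.P.reflectionPerm c b) := by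
  classical
  haveI := H21Split.isAffineHom_hom D.toSplitRed
  haveI : D.P.IsReduced := isReduced_of_base D.P D.base
  haveI : Finite D.idx := @Finite.of_fintype _ D.fintypeIdx
  let w : D.idx → (𝟙_ (Over S) ⟶ G) := fun a =>
    (e₁ ≫ D.u a) * (e₁ ≫ D.u (D.P.reflectionPerm a a))⁻¹ * (e₁ ≫ D.u a)
  have hact : ∀ a ∈ D.base.support, ActsRefl D.toSplitRed (w a) a := fun a ha X t => by
    have h := weyl_acts D.toSplitRed e₁ he₁ a (avc a) (havc a) (hpair a ha) X t
    rw [h]
    simp only [phi, Category.assoc]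
  have h4 : ∀ a ∈ D.base.support, w a ^ 4 = 1 := fun a ha => hom_ext_pt fun R _ g j => by
    have hw : j ≫ w a = wP g D.toSplitRed a := by
      simpa using comp_weyl D.toSplitRed g j e₁ he₁ a
    simp only [pow_succ, pow_zero, MonObj.comp_mul, MonObj.comp_one, hw]
    simpa only [pow_succ, pow_zero] using
      wPt_pow_four g (root_oppIdx a) (dual_of_pair1 D.toSplitRed g (havc a) (hpair a ha))
  have hex : ∀ c, ∃ (l : List D.idx) (a : D.idx), (∀ s ∈ l, s ∈ D.base.support) ∧ a ∈ D.base.support ∧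
      (l.map D.P.reflectionPerm).prod a = c ∧ (c ∈ D.base.support → l = [] ∧ a = c) := by
    have h0 : ∀ c, ∃ (l : List D.idx) (a : D.idx), (∀ s ∈ l, s ∈ D.base.support) ∧ a ∈ D.base.support ∧
        (l.map D.P.reflectionPerm).prod a = c := by
      intro c
      refine RootPairing.Base.induction_reflect (b := D.base) (p := fun c => ∃ (l : List D.idx) (a : D.idx), (∀ s ∈ l, s ∈ D.base.support) ∧ a ∈ D.base.support ∧
          (l.map D.P.reflectionPerm).prod a = c) c ?_ (fun i hi => ⟨[], i, by simp, hi, by simp⟩) ?_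
      · rintro i ⟨l, a, hl, ha, rfl⟩
        refine ⟨l ++ [a], a, ?_, ha, ?_⟩
        · intro s hs
          rcases List.mem_append.mp hs with h | h
          exacts [hl s h, List.mem_singleton.mp h ▸ ha]
        · rw [List.map_append, List.prod_append, Equiv.Perm.mul_apply, List.map_singleton, List.prod_singleton]
          clear hl
          induction l with
          | nil => simp
          | cons s l ih =>
            rw [List.map_cons, List.prod_cons, Equiv.Perm.mul_apply, Equiv.Perm.mul_apply, ih]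
            refine D.P.root.injective ?_
            rw [root_refl_opp D.toSplitRed (root_oppIdx _) s, root_oppIdx]
      · rintro i j ⟨l, a, hl, ha, rfl⟩ hj
        exact ⟨j :: l, a, List.forall_mem_cons.mpr ⟨hj, hl⟩, ha, by simp⟩
    intro c
    by_cases hc : c ∈ D.base.support
    · exact ⟨[], c, by simp, hc, by simp, fun _ => ⟨rfl, rfl⟩⟩
    · obtain ⟨l, a, h1, h2, h3⟩ := h0 c
      exact ⟨l, a, h1, h2, h3, fun h => absurd h hc⟩
  choose lw sa hlw hsa hσ hsimp using hex
  let W : D.idx → (𝟙_ (Over S) ⟶ G) := fun c => ((lw c).map w).prod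
  have htr : ∀ c, Tr D.toSplitRed (W c) ((lw c).map D.P.reflectionPerm).prod := fun c =>
    tr_word w (lw c) fun s hs => hact s (hlw c s hs)
  refine ⟨fun c => D.u (sa c) ≫ cj (W c), fun c => ?_, fun a ha => ?_, fun c => ?_⟩
  · have h := (htr c).2 (sa c) _ (D.rootHom (sa c))
    rwa [hσ] at h
  · obtain ⟨h1, h2⟩ := hsimp a ha
    simp only [W, h1, h2, List.map_nil, List.prod_nil, cj_one, Category.comp_id]
  haveI := (D.rootHom (D.P.reflectionPerm (sa c) (sa c))).1
  refine ⟨D.u (D.P.reflectionPerm (sa c) (sa c)) ≫ cj (W c), inferInstance, fun X x y hu => ?_, fun b => ?_⟩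
  · obtain ⟨x', y', z, h1, h2, h3, h4'⟩ := hpair (sa c) (hsa c) X x y hu
    refine ⟨x', y', z, h1, h2, h3, ?_⟩
    have hT := congrArg (fun f => z ≫ f) ((htr c).1 (sa c))
    simp only [← havc, hσ] at hT
    simp only [← Category.assoc] at h4' ⊢ hT
    rw [← hT, ← MonObj.mul_comp, ← MonObj.mul_comp, ← MonObj.mul_comp, h4']
  let d := D.P.reflectionPerm c b
  let L := invW (lw d) ++ (lw c ++ [sa c] ++ invW (lw c) ++ lw b)
  have hL : ∀ s ∈ L, s ∈ D.base.support := by
    intro s hs
    simp only [L, List.mem_append, List.mem_singleton] at hs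
    rcases hs with h | ((h | rfl) | h) | h
    exacts [hlw d s (mem_invW h), hlw c s h, hsa c, hlw c s (mem_invW h), hlw b s h]
  have hinvσ : ∀ k, ((invW (lw k)).map D.P.reflectionPerm).prod =
      (((lw k).map D.P.reflectionPerm).prod : Equiv.Perm D.idx)⁻¹ := fun k =>
    prod_invW (fun s => (D.P.reflectionPerm s : Equiv.Perm D.idx)) (lw k) fun s _ => refl_pow_four (D := D.toSplitRed) s
  have hσconj : ∀ (l : List D.idx) (p q : D.idx),
      (l.map D.P.reflectionPerm).prod (D.P.reflectionPerm p (((l.map D.P.reflectionPerm).prod : Equiv.Perm D.idx)⁻¹ q)) =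
        D.P.reflectionPerm ((l.map D.P.reflectionPerm).prod p) q := by
    intro l
    induction l with
    | nil => simp
    | cons s l ih =>
      intro p q
      rw [List.map_cons, List.prod_cons, _root_.mul_inv_rev, Equiv.Perm.mul_apply, Equiv.Perm.mul_apply,
        Equiv.Perm.mul_apply, ih]
      generalize (l.map D.P.reflectionPerm).prod p = p'
      refine D.P.root.injective ?_
      rw [show (D.P.reflectionPerm s : Equiv.Perm D.idx)⁻¹ q = D.P.reflectionPerm s q from
        (Equiv.Perm.inv_eq_iff_eq).mpr (D.P.reflectionPerm_self s q).symm]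
      rw [D.P.root_reflectionPerm s, D.P.root_reflectionPerm p', D.P.root_reflectionPerm s,
        D.P.root_reflectionPerm (D.P.reflectionPerm s p') q]
      rw [RootPairing.reflection_reflectionPerm, LinearEquiv.mul_apply, LinearEquiv.mul_apply]
  have hperm : (L.map D.P.reflectionPerm).prod (sa b) = sa d := by
    simp only [L, List.map_append, List.prod_append, List.map_singleton, List.prod_singleton, hinvσ,
      Equiv.Perm.mul_apply, hσ]
    rw [hσconj, hσ, Equiv.Perm.inv_eq_iff_eq, hσ]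
  obtain ⟨ε, hε, hs⟩ := Groth.Agent.S8477.result S e₁ he₁ G D avc havc hpair w (fun _ => rfl) L hL (sa b) (sa d)
    (hsa b) (hsa d) hperm
  refine ⟨ε, hε, fun X x y hy => ?_⟩
  have hinv : ∀ k, ((invW (lw k)).map w).prod = (W k)⁻¹ := fun k =>
    prod_invW w (lw k) fun s hs => h4 s (hlw k s hs)
  have hn : (e₁ ≫ D.u (sa c) ≫ cj (W c)) * (e₁ ≫ D.u (D.P.reflectionPerm (sa c) (sa c)) ≫ cj (W c))⁻¹ *
      (e₁ ≫ D.u (sa c) ≫ cj (W c)) = W c * w (sa c) * (W c)⁻¹ := by
    simp only [← Category.assoc]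
    rw [← GrpObj.inv_comp, ← MonObj.mul_comp, ← MonObj.mul_comp, comp_cj]
    simp [w]
  have hLW : (L.map w).prod = (W d)⁻¹ * (W c * w (sa c) * (W c)⁻¹ * W b) := by
    simp only [L, List.map_append, List.prod_append, List.map_singleton, List.prod_singleton, hinv]
    rfl
  rw [hn, ← Category.assoc, comp_cj, ← Category.assoc, comp_cj]
  refine sign_aux (toUnit X ≫ (L.map w).prod) (toUnit X ≫ W d) _ (toUnit X ≫ W b) _ (y ≫ D.u (sa d)) _ ?_ (hs X x y hy) rfl
  rw [hLW, MonObj.comp_mul, MonObj.comp_mul, GrpObj.comp_inv]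

end Groth.Agent.S8472
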