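import Groth.Statements.S4643
import Groth.Agent.H06EGA9.ProductDim

set_option autoImplicit false
open CategoryTheory AlgebraicGeometry
universe u
open FBase

namespace Groth.Agent.S4643

open Groth.Agent.H8Props.FieldDim Groth.Agent.H06EGA9 CategoryTheory.Limits TopologicalSpace Set
set_option backward.isDefEq.respectTransparency false

open CategoryTheory.Limits in
/-- Let X and Y be schemes locally of finite type over a field k. Then the dimension of X ×_k Y is the
sum of the dimensions of X and Y (Krull dimensions of the underlying spaces, valued in WithBot ℕ∞,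
the empty scheme having dimension ⊥). -/
theorem result {k : Type u} [Field k] {X Y : Scheme.{u}}
    (f : X ⟶ Spec (CommRingCat.of k)) (g : Y ⟶ Spec (CommRingCat.of k)) [LocallyOfFiniteType f] [LocallyOfFiniteType g] :
    topologicalKrullDim ↥(pullback f g) = topologicalKrullDim ↥X + topologicalKrullDim ↥Y := by
  have hb := IsPullback.of_hasPullback f g
  refine le_antisymm ?_ ?_
  · rw [dim_eq_iSup_cdim]
    refine iSup_le fun z => (cdim_le_add hb z).trans (add_le_add ?_ ?_)
    · rw [dim_eq_iSup_cdim (X := X)]; exact le_iSup (fun x : X => cdim x) _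
    · rw [dim_eq_iSup_cdim (X := Y)]; exact le_iSup (fun x : Y => cdim x) _
  · rcases isEmpty_or_nonempty X with hX | hX
    · rw [dim_eq_iSup_cdim (X := X), iSup_of_empty, WithBot.bot_add]; exact bot_le
    rcases isEmpty_or_nonempty Y with hY | hY
    · rw [dim_eq_iSup_cdim (X := Y), iSup_of_empty, WithBot.add_bot]; exact bot_le
    rw [dim_eq_iSup_cdim (X := X), dim_eq_iSup_cdim (X := Y), dim_eq_iSup_cdim (X := ↥(pullback f g))]
    have hsep : ∀ (x : X) (y : Y), cdim x + cdim y ≤ ⨆ z : ↥(pullback f g), cdim z := fun x y => by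
      obtain ⟨z, -, -, hz⟩ := exists_point_add hb x y
      exact hz ▸ le_iSup (fun z : ↥(pullback f g) => cdim z) z
    revert hsep
    have ha : ∀ x : X, ∃ a : ℕ, cdim x = a := exists_nat_cdim f
    have hb : ∀ y : Y, ∃ b : ℕ, cdim y = b := exists_nat_cdim g
    choose a ha using ha
    choose b hb using hb
    simp only [ha, hb]
    intro hsep
    have e : ∀ {ι : Type u} [Nonempty ι] (c : ι → ℕ), (⨆ i, (c i : WithBot ℕ∞)) = ((⨆ i, (c i : ℕ∞) : ℕ∞) : WithBot ℕ∞) :=
      fun c => (WithBot.coe_iSup (OrderTop.bddAbove _)).symm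
    rw [e, e, ← WithBot.coe_add, ENat.iSup_add, WithBot.coe_iSup (OrderTop.bddAbove _)]
    refine iSup_le fun x => ?_
    rw [ENat.add_iSup, WithBot.coe_iSup (OrderTop.bddAbove _)]
    refine iSup_le fun y => ?_
    exact hsep x y

end Groth.Agent.S4643
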