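import Groth.Statements.S0051
import Groth.Agent.H10Coh.AmpleCriterion
import Groth.Agent.H10Coh.SerreVanishing2
-- import your own Groth.Agent.* helpers here

set_option autoImplicit false
universe u
open Coherent

namespace Groth.Agent.S0051

attribute [local instance 10000] Groth.Agent.H10Coh.hasSheafifyAb Groth.Agent.H10Coh.hasWeakSheafifyAb Groth.Agent.H10Coh.hasExtAb Groth.Agent.H10Coh.enoughInjAb

open AlgebraicGeometry CategoryTheory in
/-- Let R be Noetherian, X → Spec R proper and L invertible on X. Then L is ample if and only if for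
every coherent F there is n₀ with H^p(X, F ⊗ L^{⊗n}) = 0 for all n ≥ n₀ and p > 0. -/
theorem result (R : Type u) [CommRing R] [IsNoetherianRing R]
    (X : Scheme.{u}) (f : X ⟶ Spec (CommRingCat.of R)) [IsProper f] (L : X.Modules)
    (hL : PicF.IsInvertible L) :
    CohB1.IsAmple L ↔ ∀ (M : X.Modules), Coh.IsCoh M → ∃ n₀ : ℕ, ∀ n : ℕ, n₀ ≤ n → ∀ p : ℕ, 0 < p →
      Subsingleton (Coh.HH X (CohB1.tensorMod M (CohB1.tensorPow L n)) p) := by
  haveI : IsLocallyNoetherian X := LocallyOfFiniteType.isLocallyNoetherian f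
  haveI : CompactSpace X := QuasiCompact.compactSpace_of_compactSpace f
  constructor
  · intro hA M hM
    obtain ⟨k, hk⟩ := Groth.Agent.H10Coh.Tw.exists_vanishing_ample f hA M hM
    exact ⟨k, fun n hn p hp => @Equiv.subsingleton _ _ (Groth.Agent.H10Coh.HHEquiv _ p).toEquiv (hk n hn p hp)⟩
  · intro h
    refine Groth.Agent.H10Coh.Tw.isAmple_of_H1 hL fun I i hi hI => ?_
    haveI := hi
    obtain ⟨n₀, hn₀⟩ := h I (Groth.Agent.H10Coh.isCoh_of_mono i hI ((Groth.Agent.H10Coh.isCoh_iff_finite_sections _).2 ⟨Groth.Agent.H10Coh.isQuasicoherent_unit, fun U _ => (Module.Finite.self Γ(X, U) :)⟩))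
    exact ⟨n₀, @Equiv.subsingleton _ _ (Groth.Agent.H10Coh.HHEquiv _ 1).toEquiv.symm
      (hn₀ (n₀ + 1) n₀.le_succ 1 one_pos)⟩

end Groth.Agent.S0051
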