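import Groth.Statements.S3291
import Groth.Agent.H27Lambda.Basic

set_option autoImplicit false
universe u
open Finset
open LambdaRing

namespace Groth.Agent.S3291

/-- The γ-filtration F^n K of a λ-ring with positive structure (F^0 = K, F^n for n ≥ 1 generated
additively by products γ^(r₁)(x₁)⋯γ^(r_k)(x_k) with ε(x_i) = 0 and Σ r_i ≥ n) consists of ideals,
and F^m · F^n ⊆ F^(m+n). -/
theorem result (K : Type u) [CommRing K] [LambdaRing.LambdaOps K] (P : LambdaRing.PosStructure K) :
    (∀ (n : ℕ) (a x : K), x ∈ LambdaRing.gammaFiltration P n → a * x ∈ LambdaRing.gammaFiltration P n) ∧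
    ∀ (m n : ℕ) (x y : K), x ∈ LambdaRing.gammaFiltration P m → y ∈ LambdaRing.gammaFiltration P n →
      x * y ∈ LambdaRing.gammaFiltration P (m + n) := by
  have hmem : ∀ (n : ℕ) (l : List (ℕ × K)), (∀ p ∈ l, P.aug p.2 = 0) → n ≤ (l.map Prod.fst).sum →
      (l.map fun p => gamma p.1 p.2).prod ∈ gammaFiltration P n := by
    intro n l h1 h2
    rw [gammaFiltration]
    split_ifs
    · trivial
    · exact AddSubgroup.subset_closure ⟨l, h1, h2, rfl⟩
  have h1 : ∀ (n : ℕ) (a x : K), x ∈ gammaFiltration P n → a * x ∈ gammaFiltration P n := by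
    intro n a x hx
    rcases eq_or_ne n 0 with rfl | hn
    · simp [gammaFiltration]
    · rw [gammaFiltration, if_neg hn] at hx
      induction hx using AddSubgroup.closure_induction with
      | mem y hy =>
        obtain ⟨l, hl1, hl2, rfl⟩ := hy
        rw [show a * (l.map fun p => gamma p.1 p.2).prod =
            (((1, a - (P.aug a : K)) :: l).map fun p => gamma p.1 p.2).prod +
              P.aug a • (l.map fun p => gamma p.1 p.2).prod by
          simp [H27Lambda.gamma_one, zsmul_eq_mul]; ring]
        refine add_mem (hmem n _ ?_ ?_) (zsmul_mem (hmem n _ hl1 hl2) _)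
        · intro p hp
          rcases List.mem_cons.1 hp with rfl | hp
          · simp
          · exact hl1 p hp
        · simp; omega
      | zero => simp
      | add u v _ _ ihu ihv => rw [mul_add]; exact add_mem ihu ihv
      | neg u _ ihu => rw [mul_neg]; exact neg_mem ihu
  refine ⟨h1, fun m n x y hx hy => ?_⟩
  rcases eq_or_ne m 0 with rfl | hm
  · simpa using h1 n x y hy
  rcases eq_or_ne n 0 with rfl | hn
  · simpa [mul_comm] using h1 m y x hx
  rw [gammaFiltration, if_neg hm] at hx
  rw [gammaFiltration, if_neg hn] at hy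
  induction hx using AddSubgroup.closure_induction with
  | mem u hu =>
    obtain ⟨l, hl1, hl2, rfl⟩ := hu
    induction hy using AddSubgroup.closure_induction with
    | mem v hv =>
      obtain ⟨l', hl'1, hl'2, rfl⟩ := hv
      rw [← List.prod_append, ← List.map_append]
      refine hmem _ _ ?_ (by simp; omega)
      intro p hp
      rcases List.mem_append.1 hp with hp | hp
      exacts [hl1 p hp, hl'1 p hp]
    | zero => simp
    | add u v _ _ ihu ihv => rw [mul_add]; exact add_mem ihu ihv
    | neg u _ ihu => rw [mul_neg]; exact neg_mem ihu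
  | zero => simp
  | add u v _ _ ihu ihv => rw [add_mul]; exact add_mem ihu ihv
  | neg u _ ihu => rw [neg_mul]; exact neg_mem ihu

end Groth.Agent.S3291
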