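import Groth.Statements.S3762
import Groth.Agent.H22Alg.KProjF
import Mathlib

set_option autoImplicit false
universe v u
open CategoryTheory CategoryTheory.Limits AlgebraicGeometry
attribute [local instance] HasDerivedCategory.standard
open KRR

namespace Groth.Agent.S3762

/-- Let Y be a connected Noetherian scheme, p : P = P^n_Y ⟶ Y, with models of K(P), K(Y), g = p_K the
push-forward and q = p^K the pull-back. Then p_K (x · p^K y) = p_K (x) · y for all x ∈ K(P), y ∈
K(Y). -/
theorem result (n : ℕ) (Y : Scheme.{u}) [IsNoetherian Y] [ConnectedSpace ↥Y]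
    (KP : Type v) [CommRing KP] [LambdaRing.LambdaOps KP] (PP : LambdaRing.PosStructure KP) (φP : SGA6.Kvb (KRR.PY n Y) →+ KP) (hKP : KRR.IsModel (KRR.PY n Y) KP PP φP)
    (KY : Type v) [CommRing KY] [LambdaRing.LambdaOps KY] (PY : LambdaRing.PosStructure KY) (φY : SGA6.Kvb Y →+ KY) (hKY : KRR.IsModel Y KY PY φY)
    (g : KP →+ KY) (hg : KRR.IsPushPr n Y φP φY g) (q : KY →+ KP) (hq : KRR.IsPull (KRR.pr n Y) φY φP q) (x : KP) (y : KY) :
    g (x * q y) = g x * y := by
  obtain ⟨x₀, rfl⟩ := hKP.bijective.2 x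
  obtain ⟨y₀, rfl⟩ := hKY.bijective.2 y
  obtain ⟨z, rfl⟩ := (Groth.Agent.H22Alg.KReg.bijective_incl (n := n) (Y := Y) (fun _ h => h.1)).2 x₀
  let i := Groth.Agent.H22Alg.KReg.incl n Y fun _ h => h.1
  have key : ∀ E : Y.Modules, FlatMod.IsFinLocFree E →
      ((g.comp (AddMonoidHom.mulRight (q (φY (KRR.cl Y E))))).comp φP).comp i =
        (((AddMonoidHom.mulRight (φY (KRR.cl Y E))).comp g).comp φP).comp i := fun E hE => by
    refine Groth.Agent.H22Alg.KReg.clSub_ext fun F hF => ?_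
    have hN := Groth.Agent.H16Derived.KFlat.Stalk.isFinLocFree_pullback (KRR.pr n Y) hE
    have h1 := hKP.map_mul F _ hF.1 hN
    have h2 := hKY.map_mul _ E (Groth.Agent.H22Alg.RegBundle.finLocFree_push hF.1 hF.2) hE
    have h3 := hg _ (Groth.Agent.H22Alg.KProjF.finLocFree_TR hF.1 hN) (Groth.Agent.H22Alg.KProjF.reg_tensor hE hF.2)
    have h4 := congrArg φY (Groth.Agent.H22Alg.KProjF.cl_push_tensor hE hF.1 hF.2)
    simp only [AddMonoidHom.comp_apply, AddMonoidHom.mulRight_apply, i,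
      Groth.Agent.H22Alg.KReg.incl_cls (fun _ h => h.1) hF, hq E hE]
    rw [hg F hF.1 hF.2, h1, h2]
    exact h3.trans h4
  have key2 : g.comp ((AddMonoidHom.mulLeft (φP (i z))).comp (q.comp φY)) =
      (AddMonoidHom.mulLeft (g (φP (i z)))).comp φY :=
    Groth.Agent.H22Alg.KModel.kvb_ext fun E hE => DFunLike.congr_fun (key E hE) z
  exact DFunLike.congr_fun key2 y₀

end Groth.Agent.S3762
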