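import Groth.Statements.S1539
import Mathlib
import Groth.Agent.H22Alg.FieldIrred

set_option autoImplicit false
universe u
open CategoryTheory CategoryTheory.Limits AlgebraicGeometry
open Variety

namespace Groth.Agent.S1539

/-- If X_{k'} is irreducible for every finite separable field extension k' of k, then X is geometrically
irreducible over k. -/
theorem result (k : Type u) [Field k] (X : Scheme.{u}) [X.Over (Spec (CommRingCat.of k))]
    (h : ∀ (k' : Type u) [Field k'] [Algebra k k'] [FiniteDimensional k k'] [Algebra.IsSeparable k k'],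
      IrreducibleSpace (Curv2.bc k X k')) :
    GeometricallyIrreducible (X ↘ (Spec (CommRingCat.of k))) := by
  haveI : IrreducibleSpace X := by
    haveI := h k
    haveI : Surjective (Curv2.bcFst k X k) :=
      ⟨Groth.Agent.H22Alg.GaloisFibres.surjective_bcπ (X ↘ Spec (CommRingCat.of k)) k⟩
    exact Groth.Agent.H06Desc.irreducibleSpace_of_surjective (Curv2.bcFst k X k)
  haveI : IrreducibleSpace ↥(FBase.bc (X ↘ Spec (CommRingCat.of k)) (SeparableClosure k)) :=
    Groth.Agent.H22Alg.FieldIrred.irreducibleSpace_of_forall_finite (X ↘ Spec (CommRingCat.of k)) (SeparableClosure k) fun L _ => h L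
  exact (Groth.Agent.H06Desc.geometricallyIrreducible_iff_bcStr (K := (SeparableClosure k)) (X ↘ Spec (CommRingCat.of k))).mpr
    (Groth.Agent.H22Alg.VarGeom.geometricallyIrreducible_of_isSepClosed _)

end Groth.Agent.S1539
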