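import Groth.Statements.S1540
import Mathlib
import Groth.Agent.S1539
import Groth.Agent.H22Alg.VarDim
import Groth.Agent.H06Geom.SepClosedIn

set_option autoImplicit false
universe u
open CategoryTheory CategoryTheory.Limits AlgebraicGeometry
attribute [local instance] Curv2.resAlgebra Curv2.stalkAlgebra
open Variety

namespace Groth.Agent.S1540

/-- An irreducible scheme X over k with generic point ξ is geometrically irreducible if and only if the
separable algebraic closure of k in the residue field of ξ is k itself. -/
theorem result (k : Type u) [Field k] (X : Scheme.{u}) [X.Over (Spec (CommRingCat.of k))] [IrreducibleSpace X] :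
    GeometricallyIrreducible (X ↘ (Spec (CommRingCat.of k))) ↔
      ∀ a : X.residueField (genericPoint X), IsSeparable k a → a ∈ Set.range (algebraMap k (X.residueField (genericPoint X))) := by
  open scoped TensorProduct IntermediateField in
  have key : ∀ (L : Type u) [Field L] [Algebra k L],
      IsIrreducible (pullback.fst (X ↘ Spec (CommRingCat.of k)) (Spec.map (CommRingCat.ofHom (algebraMap k L))) ⁻¹' {genericPoint X}) ↔
        IrreducibleSpace ↥(Spec (CommRingCat.of (X.residueField (genericPoint X) ⊗[k] L))) := by
    intro L _ _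
    set f := X ↘ Spec (CommRingCat.of k)
    set g := Spec.map (CommRingCat.ofHom (algebraMap k L))
    have e0 : X.fromSpecResidueField (genericPoint X) ≫ f =
        Spec.map (CommRingCat.ofHom (algebraMap k (X.residueField (genericPoint X)))) :=
      Groth.Agent.H22Alg.VarDim.fromSpecResidueField_over k X _
    let e : (pullback.fst f g).fiber (genericPoint X) ≅ Spec (CommRingCat.of (X.residueField (genericPoint X) ⊗[k] L)) :=
      (pullbackSymmetry _ _ ≪≫ pullbackRightPullbackFstIso f g
        (X.fromSpecResidueField (genericPoint X))) ≪≫ pullback.congrHom e0 rfl ≪≫ pullbackSpecIso k _ L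
    rw [← (e.hom.homeomorph.symm.trans ((pullback.fst f g).fiberHomeo (genericPoint X))).symm.irreducibleSpace_iff,
      ← isIrreducible_iff_irreducibleSpace]
  constructor
  · intro hgi a ha
    by_contra hne
    haveI : FiniteDimensional k k⟮a⟯ := IntermediateField.adjoin.finiteDimensional ha.isIntegral
    set g := Spec.map (CommRingCat.ofHom (algebraMap k k⟮a⟯))
    haveI : IrreducibleSpace ↥(pullback (X ↘ Spec (CommRingCat.of k)) g) :=
      GeometricallyIrreducible.geometrically_irreducibleSpace _ _ _ (.of_hasPullback _ g)
    have hsurj := Groth.Agent.H22Alg.GaloisFibres.surjective_bcπ (X ↘ Spec (CommRingCat.of k)) k⟮a⟯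
    have hξ : pullback.fst (X ↘ Spec (CommRingCat.of k)) g (genericPoint _) = genericPoint X := by
      obtain ⟨z, hz⟩ := hsurj (genericPoint X)
      have h1 := (genericPoint_specializes z).map (pullback.fst (X ↘ Spec (CommRingCat.of k)) g).continuous
      rw [hz] at h1
      exact (h1.antisymm (genericPoint_specializes _)).eq
    have hirr : IsIrreducible (pullback.fst (X ↘ Spec (CommRingCat.of k)) g ⁻¹' {genericPoint X}) := by
      refine isIrreducible_iff_closure.mp ?_
      rw [show closure (pullback.fst (X ↘ Spec (CommRingCat.of k)) g ⁻¹' {genericPoint X}) = Set.univ from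
        Set.eq_univ_of_forall fun z => closure_mono (Set.singleton_subset_iff.mpr (show genericPoint _ ∈ pullback.fst (X ↘ Spec (CommRingCat.of k)) g ⁻¹' {genericPoint X} from hξ)) (genericPoint_specializes z).mem_closure]
      exact IrreducibleSpace.isIrreducible_univ _
    haveI := (key k⟮a⟯).mp hirr
    have gen : ∀ (R A : Type u) [Field R] [CommRing A] [Algebra R A] [Module.Finite R A]
        [IrreducibleSpace (PrimeSpectrum A)] (P Q : PrimeSpectrum A), P = Q := by
      intro R A _ _ _ _ _ P Q
      haveI : IsArtinianRing A := IsArtinianRing.of_finite R A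
      have hP := (genericPoint_specializes P)
      have hQ := (genericPoint_specializes Q)
      rw [← PrimeSpectrum.le_iff_specializes] at hP hQ
      have hm : (genericPoint (PrimeSpectrum A)).asIdeal.IsMaximal := IsArtinianRing.isMaximal_of_isPrime _
      exact PrimeSpectrum.ext ((hm.eq_of_le P.2.ne_top hP).symm.trans (hm.eq_of_le Q.2.ne_top hQ))
    haveI : IrreducibleSpace (PrimeSpectrum ((X.residueField (genericPoint X)) ⊗[k] k⟮a⟯)) :=
      show IrreducibleSpace ↥(Spec (CommRingCat.of ((X.residueField (genericPoint X)) ⊗[k] k⟮a⟯))) from inferInstance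
    have hsub := gen (X.residueField (genericPoint X)) ((X.residueField (genericPoint X)) ⊗[k] k⟮a⟯)
    let Ω := AlgebraicClosure (X.residueField (genericPoint X))
    have hdeg : 1 < (minpoly k a).natDegree := by
      by_contra! hle
      exact hne (minpoly.natDegree_eq_one_iff.mp (le_antisymm hle (minpoly.natDegree_pos ha.isIntegral)))
    obtain ⟨b, hb, hbne⟩ : ∃ b : Ω, Polynomial.aeval b (minpoly k a) = 0 ∧ b ≠ algebraMap (X.residueField (genericPoint X)) Ω a := by
      have hc : Fintype.card ((minpoly k a).rootSet Ω) = (minpoly k a).natDegree :=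
        Polynomial.card_rootSet_eq_natDegree ha (IsAlgClosed.splits _)
      obtain ⟨b, hb⟩ := Fintype.exists_ne_of_one_lt_card (hc.symm ▸ hdeg)
        ⟨algebraMap (X.residueField (genericPoint X)) Ω a, (Polynomial.mem_rootSet_of_ne (minpoly.ne_zero ha.isIntegral)).mpr
          (by rw [Polynomial.aeval_algebraMap_apply, minpoly.aeval, map_zero])⟩
      exact ⟨b, (Polynomial.mem_rootSet_of_ne (minpoly.ne_zero ha.isIntegral)).mp b.2, fun h => hb (Subtype.ext h)⟩
    let σ : k⟮a⟯ →ₐ[k] Ω := (IntermediateField.adjoin.powerBasis ha.isIntegral).lift b (by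
      rw [IntermediateField.adjoin.powerBasis_gen ha.isIntegral, IntermediateField.minpoly_gen]; exact hb)
    let m : (X.residueField (genericPoint X)) ⊗[k] k⟮a⟯ →ₐ[(X.residueField (genericPoint X))] (X.residueField (genericPoint X)) :=
      Algebra.TensorProduct.lift (Algebra.ofId (X.residueField (genericPoint X)) (X.residueField (genericPoint X))) (IntermediateField.val k⟮a⟯) fun _ _ => .all _ _
    let m' : (X.residueField (genericPoint X)) ⊗[k] k⟮a⟯ →ₐ[(X.residueField (genericPoint X))] Ω := Algebra.TensorProduct.lift (Algebra.ofId (X.residueField (genericPoint X)) Ω) σ fun _ _ => .all _ _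
    have heq := hsub ⟨RingHom.ker m.toRingHom, RingHom.ker_isPrime _⟩ ⟨RingHom.ker m'.toRingHom, RingHom.ker_isPrime _⟩
    set t : (X.residueField (genericPoint X)) ⊗[k] k⟮a⟯ := (1 : (X.residueField (genericPoint X))) ⊗ₜ IntermediateField.AdjoinSimple.gen k a - a ⊗ₜ 1
    have ht : t ∈ RingHom.ker m.toRingHom := by
      simp [t, m, RingHom.mem_ker]
    have heq' : RingHom.ker m.toRingHom = RingHom.ker m'.toRingHom := congrArg PrimeSpectrum.asIdeal heq
    rw [heq'] at ht
    refine hbne ?_
    have hσ : σ (IntermediateField.AdjoinSimple.gen k a) = b := by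
      rw [← IntermediateField.adjoin.powerBasis_gen ha.isIntegral]
      exact PowerBasis.lift_gen _ _ _
    simpa [t, m', hσ, RingHom.mem_ker, sub_eq_zero, Algebra.ofId_apply] using ht
  · intro h
    have hbot : separableClosure k (X.residueField (genericPoint X)) = ⊥ := by
      refine eq_bot_iff.mpr fun a ha => ?_
      exact IntermediateField.mem_bot.mpr (h a (mem_separableClosure_iff.mp ha))
    refine Groth.Agent.S1539.result k X fun L _ _ _ _ => ?_
    haveI := Groth.Agent.H06Geom.isDomain_tensor_finite hbot L
    refine Groth.Agent.H22Alg.FieldIrred.irreducibleSpace_of_fibre (X ↘ Spec (CommRingCat.of k)) L ((key L).mpr ?_)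
    infer_instance

end Groth.Agent.S1540
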