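import Groth.Statements.S7180
import Groth.Agent.H8Props.WeakEtaleNormal

set_option autoImplicit false
universe u
open FlatMor

namespace Groth.Agent.S7180

open AlgebraicGeometry CategoryTheory Limits in
/-- The source of a weakly étale morphism with normal target (all local rings integrally closed domains)
is normal. -/
theorem result {X Y : Scheme.{u}} (f : X ⟶ Y) [WeaklyEtale f] (hY : Pi1.IsNormalScheme Y) :
    Pi1.IsNormalScheme X := by
  exact Groth.Agent.H8Props.WeakEtaleNormal.isNormalScheme_of_weaklyEtale f hY

end Groth.Agent.S7180
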