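import Groth.Statements.S15000
import Groth.Agent.H27Weil.Geometry
import Groth.Agent.H11Ample.Converse
import Groth.Agent.H22Alg.ProjDim2
import Groth.Agent.H17.Dim
import Mathlib.GroupTheory.CosetCover
import Mathlib.AlgebraicGeometry.Morphisms.Finite
import Mathlib.AlgebraicGeometry.Morphisms.ClosedImmersion
import Mathlib.AlgebraicGeometry.Morphisms.QuasiFinite

set_option autoImplicit false
universe u
open CategoryTheory CategoryTheory.Limits AlgebraicGeometry
open ProjDeg

namespace Groth.Agent.S15000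

/-- Let k be an algebraically closed field and Y a closed subscheme of projective N-space over k, given
by a closed immersion ι compatible with the structure morphisms to Spec k, and suppose the
underlying topological space of Y has Krull dimension d. Then there is a morphism π : Y → P^d_k over
k which is finite and surjective and under which O(1) of P^d_k pulls back to a module isomorphic to
O_Y(1) = ι^*O(1). This row records the existence of such a finite surjective π together with the
existence of an isomorphism π^*O(1) ≅ O_Y(1) (existence of an isomorphism only). -/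
theorem result (k : Type u) [Field k] [IsAlgClosed k]
    (N d : ℕ) (Y : Scheme.{u}) (f : Y ⟶ Spec (CommRingCat.of k))
    (ι : Y ⟶ CohB1.ProjSpace N k) [IsClosedImmersion ι] (hι : ι ≫ CohB1.ProjSpace.toSpec N k = f)
    (hdim : topologicalKrullDim ↥Y = (d : WithBot ℕ∞)) :
    ∃ π : Y ⟶ CohB1.ProjSpace d k, π ≫ CohB1.ProjSpace.toSpec d k = f ∧ IsFinite π ∧ Function.Surjective π.base ∧
      Nonempty ((Scheme.Modules.pullback π).obj (Twist.twistProjSpace d k 1) ≅
        (Scheme.Modules.pullback ι).obj (Twist.twistProjSpace N k 1)) := by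
  classical
  haveI : IsProper (CohB1.ProjSpace.toSpec N k) := inferInstance
  haveI : IsProper (CohB1.ProjSpace.toSpec d k) := inferInstance
  haveI : IsProper f := by rw [← hι]; infer_instance
  haveI : CompactSpace ↥(CohB1.ProjSpace N k) := H11Ample.compactSpace_projSpace N k
  haveI : IsLocallyNoetherian (CohB1.ProjSpace N k) :=
    LocallyOfFiniteType.isLocallyNoetherian (CohB1.ProjSpace.toSpec N k)
  haveI : IsNoetherian (CohB1.ProjSpace N k) := ⟨⟩
  haveI : TopologicalSpace.NoetherianSpace (ProjectiveSpectrum (CohB1.polyGrading N k)) :=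
    inferInstanceAs (TopologicalSpace.NoetherianSpace ↥(CohB1.ProjSpace N k))
  let A : Set (ProjectiveSpectrum (CohB1.polyGrading N k)) := Set.range ι.base
  have hA : IsClosed A := ι.isClosedEmbedding.isClosed_range
  have hdA : topologicalKrullDim A = (d : WithBot ℕ∞) := by
    rw [← hdim]
    exact (IsHomeomorph.topologicalKrullDim_eq _
      (ι.isClosedEmbedding.isEmbedding.toHomeomorph).isHomeomorph).symm
  -- linear forms cutting down the dimension
  have hstep : ∀ s : Set (ProjectiveSpectrum (CohB1.polyGrading N k)), IsClosed s →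
      ∃ l ∈ CohB1.polyGrading N k 1, ∀ x ∈ s, l ∈ x.asHomogeneousIdeal →
        ∃ y ∈ s, H22Alg.ProjDim.qdim k N x < H22Alg.ProjDim.qdim k N y := by
    intro s hs
    obtain ⟨S, hSf, hSc, hSi, hsU⟩ := TopologicalSpace.NoetherianSpace.exists_finite_set_isClosed_irreducible hs
    have hg : ∀ t : S, ∃ y ∈ t.1, ∀ z ∈ t.1, y ≤ z := fun t => by
      obtain ⟨y, hy, -, hle, -⟩ := H22Alg.ProjDim.exists_generic k N (hSc _ t.2) (hSi _ t.2)
      exact ⟨y, hy, hle⟩
    choose y hy hle using hg
    haveI : Finite S := hSf.to_subtype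
    let p : S → Subspace k ↥(CohB1.polyGrading N k 1) := fun t =>
      Submodule.comap (CohB1.polyGrading N k 1).subtype ((y t).asHomogeneousIdeal.toIdeal.restrictScalars k)
    have hp : ∀ t, p t ≠ ⊤ := by
      intro t h
      obtain ⟨i, hi⟩ := H11Ample.exists_mem_basicOpen_X (n := N) (R := k) (y t)
      apply hi
      have : (⟨MvPolynomial.X i, H11Ample.X_mem i⟩ : ↥(CohB1.polyGrading N k 1)) ∈ p t := h ▸ Submodule.mem_top
      exact this
    have hne : ⋃ t, (p t : Set ↥(CohB1.polyGrading N k 1)) ≠ Set.univ := fun h =>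
      (Subspace.exists_eq_top_of_iUnion_eq_univ h).elim hp
    obtain ⟨l, hl⟩ := (Set.ne_univ_iff_exists_notMem _).1 hne
    refine ⟨l.1, l.2, fun x hx hlx => ?_⟩
    rw [hsU] at hx
    obtain ⟨t, ht, hxt⟩ := hx
    refine ⟨y ⟨t, ht⟩, hsU ▸ ⟨t, ht, hy ⟨t, ht⟩⟩, H22Alg.ProjDim.qdim_lt k N (lt_of_le_of_ne (hle ⟨t, ht⟩ x hxt) ?_)⟩
    intro e
    refine hl (Set.mem_iUnion.2 ⟨⟨t, ht⟩, ?_⟩)
    show l.1 ∈ (y ⟨t, ht⟩).asHomogeneousIdeal.toIdeal
    rw [e]
    exact hlx
  have htop : ∀ x ∈ A, H22Alg.ProjDim.qdim k N x ≤ d + 1 := by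
    intro x hx
    by_contra h
    have h1 := H22Alg.ProjDim.le_dim k N hA hx (d := d + 1) (by omega)
    rw [hdA] at h1
    have : d + 1 ≤ d := by exact_mod_cast h1
    omega
  have hforms : ∀ m ≤ d + 1, ∃ l : Fin m → MvPolynomial (Fin (N + 1)) k,
      (∀ i, l i ∈ CohB1.polyGrading N k 1) ∧
        ∀ x ∈ A, (∀ i, l i ∈ x.asHomogeneousIdeal) → H22Alg.ProjDim.qdim k N x ≤ d + 1 - m := by
    intro m
    induction m with
    | zero => exact fun _ => ⟨Fin.elim0, fun i => i.elim0, fun x hx _ => htop x hx⟩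
    | succ m ih =>
      intro hm
      obtain ⟨l, hl, hdimm⟩ := ih (by omega)
      have hcl : IsClosed (A ∩ ProjectiveSpectrum.zeroLocus (CohB1.polyGrading N k) (Set.range l)) :=
        hA.inter (ProjectiveSpectrum.isClosed_zeroLocus _ _)
      obtain ⟨l', hl', hcut⟩ := hstep _ hcl
      refine ⟨Fin.snoc l l', fun i => ?_, fun x hx hlx => ?_⟩
      · refine Fin.lastCases ?_ (fun j => ?_) i
        · rw [Fin.snoc_last]; exact hl'
        · rw [Fin.snoc_castSucc]; exact hl j
      · have h1 : l' ∈ x.asHomogeneousIdeal := by simpa using hlx (Fin.last m)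
        have h2 : ∀ j, l j ∈ x.asHomogeneousIdeal := fun j => by simpa using hlx j.castSucc
        obtain ⟨y, ⟨hyA, hyl⟩, hlt⟩ := hcut x ⟨hx, Set.range_subset_iff.2 h2⟩ h1
        have := hdimm y hyA (fun j => hyl ⟨j, rfl⟩)
        omega
  obtain ⟨l, hl, hno⟩ := hforms (d + 1) le_rfl
  have hcover : ∀ x : Y, ∃ i, (ι.base x : ProjectiveSpectrum (CohB1.polyGrading N k)) ∈
      Proj.basicOpen (CohB1.polyGrading N k) (l i) := by
    intro x
    by_contra h
    push Not at h
    have h1 := hno (ι.base x) ⟨x, rfl⟩ fun i => by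
      by_contra h2
      exact h i h2
    have := H22Alg.ProjDim.qdim_pos k N (ι.base x)
    omega
  -- the morphism
  let L : Y.Modules := (Scheme.Modules.pullback ι).obj (Twist.twistProjSpace N k 1)
  have hL : PicF.IsInvertible L := H11Ample.isInvertible_pullback ι H11Ample.isInvertible_twist
  let sec : ∀ i, Γ(Twist.twistProjSpace N k 1, ⊤) := fun i => H11Tilde.globalSec (CohB1.polyGrading N k) (hl i)
  have hsec : ∀ i, H11Ample.gen (Twist.twistProjSpace N k 1) (sec i) =
      Proj.basicOpen (CohB1.polyGrading N k) (l i) := fun i =>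
    H11Tilde.genLocus_globalSec (CohB1.polyGrading N k) (hl i) fun y => by
      obtain ⟨j, hj⟩ := H11Ample.exists_mem_basicOpen_X (n := N) (R := k) y
      exact ⟨_, H11Ample.X_mem j, hj⟩
  let v : Fin (d + 1) → Γ(L, ⊤) := fun i => H11Ample.pullTop ι (L := Twist.twistProjSpace N k 1) (sec i)
  have hv : ∀ i, H11Ample.gen L (v i) = ι ⁻¹ᵁ Proj.basicOpen (CohB1.polyGrading N k) (l i) := by
    intro i
    rw [← hsec i]
    have h := H11Ample.gen_smul_pullSect ι (H11Ample.isInvertible_twist (n := N) (R := k)) (sec i)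
      (isUnit_one (M := Γ(Y, ⊤)))
    rw [one_smul] at h
    exact h
  obtain ⟨π, hπ, hiso, hpre, -⟩ := H11Ample.exists_toPn f hL v fun x => by
    obtain ⟨i, hi⟩ := hcover x
    exact ⟨i, (hv i).ge hi⟩
  haveI : IsProper (π ≫ CohB1.ProjSpace.toSpec d k) := by rw [hπ]; infer_instance
  haveI : IsProper π := IsProper.of_comp π (CohB1.ProjSpace.toSpec d k)
  haveI : IsAffineHom π := by
    refine isAffineHom_of_forall_exists_isAffineOpen π fun x => ?_
    obtain ⟨i, hi⟩ := H11Ample.exists_mem_basicOpen_X (n := d) (R := k) x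
    refine ⟨_, hi, Proj.isAffineOpen_basicOpen _ _ (H11Ample.X_mem i) one_pos, ?_⟩
    rw [hpre i, hv i]
    haveI hι' : IsAffineHom ι := inferInstance
    exact @IsAffineOpen.preimage _ _ _ (Proj.isAffineOpen_basicOpen _ _ (hl i) one_pos) ι hι'
  haveI hfin : IsFinite π := IsFinite.iff_isProper_and_isAffineHom.2 ⟨inferInstance, inferInstance⟩
  refine ⟨π, hπ, hfin, ?_, hiso⟩
  -- surjectivity, by dimension
  let B : Set (ProjectiveSpectrum (CohB1.polyGrading d k)) := Set.range π.base
  have hB : IsClosed B := π.isClosedMap.isClosed_range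
  haveI : QuasiSober B := hB.isClosedEmbedding_subtypeVal.quasiSober
  have hle : (d : WithBot ℕ∞) ≤ topologicalKrullDim B := by
    rw [← hdim]
    refine H17.topologicalKrullDim_le_of_noSpecializationsInFibres
      (fun y => (⟨π.base y, ⟨y, rfl⟩⟩ : B)) (π.continuous.subtype_mk _) fun x y hxy hfxy => ?_
    have hd := π.isDiscrete_preimage_singleton (π.base x)
    haveI : DiscreteTopology ↥(π.base ⁻¹' {π.base x}) := hd.to_subtype
    have hs : (⟨x, rfl⟩ : ↥(π.base ⁻¹' {π.base x})) ⤳ ⟨y, (congrArg Subtype.val hfxy).symm⟩ :=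
      (subtype_specializes_iff _ _).2 hxy
    exact congrArg Subtype.val hs.eq
  obtain ⟨x, hxbot, hxdim⟩ := H22Alg.ProjDim.exists_bot_point k d
  have hxB : x ∈ B := by
    by_contra hx
    have hlt : ∀ z ∈ B, H22Alg.ProjDim.qdim k d z ≤ d := by
      intro z hz
      have h1 := H22Alg.ProjDim.qdim_le_succ k d z
      by_contra h2
      have h3 := (H22Alg.ProjDim.eq_bot_iff_qdim k d z).2 (by omega)
      exact hx ((ProjectiveSpectrum.ext (HomogeneousIdeal.ext (hxbot.trans h3.symm)) : x = z) ▸ hz)
    rcases Nat.eq_zero_or_pos d with hd0 | hdpos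
    · haveI : IsEmpty B := ⟨fun z => by
        have := hlt z.1 z.2
        have := H22Alg.ProjDim.qdim_pos k d z.1
        omega⟩
      rw [topologicalKrullDim, Order.krullDim_eq_bot_iff.mpr ⟨fun Z => isEmptyElim Z.isIrreducible.nonempty.some⟩] at hle
      simp at hle
    · have h1 := H22Alg.ProjDim.dim_le k d hB (d := d - 1) fun z hz => by have := hlt z hz; omega
      have h2 : d ≤ d - 1 := by exact_mod_cast hle.trans h1
      omega
  intro z
  exact H22Alg.ProjDim.mem_closed_of_le k d hB hxB
    ((ProjectiveSpectrum.as_ideal_le_as_ideal _ x z).1 (show x.asHomogeneousIdeal.toIdeal ≤ z.asHomogeneousIdeal.toIdeal by rw [hxbot]; exact bot_le))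

end Groth.Agent.S15000
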