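import Groth.Statements.S12059
import Groth.Agent.H18Quot.Affine

set_option autoImplicit false
universe u
open CategoryTheory CategoryTheory.Limits AlgebraicGeometry
open SGA1

namespace Groth.Agent.S12059

/-- Let a finite group G act on a commutative ring A by ring automorphisms σ_g, and let B → A be
injective, G-equivariant for the trivial action on B, with image containing all G-invariants (so B
is the ring of invariants A^G). Let ρ be an action of G on Spec A by scheme automorphisms whose
automorphisms are exactly the maps Spec(σ_g). Then Spec A ⟶ Spec B is a quotient of Spec A by G, and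
the structure sheaf of Spec B is the sheaf of G-invariants of the direct image of the structure
sheaf of Spec A: the map is affine and G-invariant, and for every open U of Spec B the sections of
the structure sheaf of Spec B over U map injectively onto the G-invariant sections of the structure
sheaf of Spec A over the inverse image of U. -/
theorem result (G : Type u) [Group G] [Finite G] (A B : Type u) [CommRing A] [CommRing B]
    [Algebra B A] [MulSemiringAction G A] [SMulCommClass G B A] [Algebra.IsInvariant B A G] [FaithfulSMul B A]
    (ρ : G →* Aut (Spec (CommRingCat.of A)))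
    (hρ : Set.range (fun g : G => (ρ g).hom) =
      Set.range (fun g : G => Spec.map (CommRingCat.ofHom (MulSemiringAction.toRingHom G A g)))) :
    SGA1.IsQuot ρ (Spec.map (CommRingCat.ofHom (algebraMap B A))) := by
  have hinv : ∀ g : G, (ρ g).hom ≫ Spec.map (CommRingCat.ofHom (algebraMap B A)) =
      Spec.map (CommRingCat.ofHom (algebraMap B A)) := fun g => by
    obtain ⟨g', hg'⟩ := hρ.subset ⟨g, rfl⟩
    simp only at hg'
    rw [← hg', ← Spec.map_comp]
    congr 1
    ext b
    exact smul_algebraMap g' b
  let e := (Scheme.ΓSpecIso (CommRingCat.of A)).commRingCatIsoToRingEquiv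
  let eB := (Scheme.ΓSpecIso (CommRingCat.of B)).commRingCatIsoToRingEquiv
  have hp : ∀ b, e ((Spec.map (CommRingCat.ofHom (algebraMap B A))).appTop.hom b) = algebraMap B A (eB b) :=
    fun b => congrArg (fun m => m.hom b) (Scheme.ΓSpecIso_naturality (CommRingCat.ofHom (algebraMap B A)))
  refine H18Quot.isQuot_of_isAffine ρ _ hinv (fun a b hab => ?_) fun s hs => ?_
  · apply eB.injective
    apply FaithfulSMul.algebraMap_injective B A
    rw [← hp, ← hp]
    exact congrArg e hab
  · obtain ⟨b, hb⟩ := Algebra.IsInvariant.isInvariant (A := B) (G := G) (e s) fun g => by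
      obtain ⟨g', hg'⟩ := hρ.superset ⟨g, rfl⟩
      simp only at hg'
      have h1 := congrArg e (hs g')
      simp only [hg'] at h1
      have h2 : e ((Spec.map (CommRingCat.ofHom (MulSemiringAction.toRingHom G A g))).appTop.hom s) =
          g • e s :=
        congrArg (fun m => m.hom s) (Scheme.ΓSpecIso_naturality (CommRingCat.ofHom (MulSemiringAction.toRingHom G A g)))
      refine h2.symm.trans (Eq.trans ?_ h1)
      simp only [Scheme.Hom.appLE]
      erw [CategoryTheory.Functor.map_id, Category.comp_id]
      rfl
    exact ⟨eB.symm b, e.injective ((hp _).trans (by rw [RingEquiv.apply_symm_apply, hb]))⟩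

end Groth.Agent.S12059
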