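import Groth.Statements.S0271
import Groth.Agent.H18Inertia.Exists

set_option autoImplicit false
universe u
open Pi1

namespace Groth.Agent.S0271

open AlgebraicGeometry CategoryTheory CategoryTheory.Limits in
/-- Let a finite group G act on a ring R, let q be a prime of R with inertia subgroup I (elements acting
trivially modulo q). Then the ring of I-invariants is etale over the ring of G-invariants at the
prime below q: some principal localization of the I-invariants at an element outside that prime is
an etale algebra over the G-invariants. -/
theorem result (G R : Type u) [Group G] [Finite G] [CommRing R] [MulSemiringAction G R]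
    (q : Ideal R) [q.IsPrime] :
    ∃ g : FixedPoints.subring R (q.inertia G),
      g ∉ q.comap (FixedPoints.subring R (q.inertia G)).subtype ∧
      Algebra.Etale (FixedPoints.subring R G) (Localization.Away g) := by
  classical
  obtain ⟨x, hx⟩ := H18Inertia.exists_separating (G := G) q
  haveI : Fintype (G ⧸ q.inertia G) := Fintype.ofFinite _
  haveI : IsScalarTower (FixedPoints.subring R G) (FixedPoints.subring R (q.inertia G)) R :=
    IsScalarTower.of_algebraMap_eq fun _ => rfl
  refine ⟨H18Inertia.discElt (q.inertia G) x, fun h => ?_, H18Inertia.etale_away_discElt _ x⟩
  change (H18Inertia.discElt (q.inertia G) x : R) ∈ q at h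
  rw [H18Inertia.coe_discElt] at h
  obtain ⟨p, hp, hpq⟩ := (Ideal.IsPrime.prod_mem_iff).mp h
  induction p using QuotientGroup.induction_on with
  | H g =>
    have hgI : g ∉ q.inertia G := fun hg => Finset.ne_of_mem_erase hp
      ((QuotientGroup.eq.mpr (by simpa using (q.inertia G).inv_mem hg)))
    refine hx g hgI ?_
    change (x : R) - g • (x : R) ∈ q at hpq
    simpa using q.neg_mem hpq

end Groth.Agent.S0271
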