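import Groth.Statements.S17621
import Groth.Agent.H22Alg.VolHighPull

set_option autoImplicit false
universe u
open CategoryTheory CategoryTheory.Limits AlgebraicGeometry
open Variety

namespace Groth.Agent.S17621

/-- Let X be an integral scheme, proper over an algebraically closed field k of characteristic zero and
admitting an ample invertible module, of dimension n (stated in the source over the complex
numbers), L an invertible O_X-module and a ≥ 1. Then ĥ^i(X, L^{⊗a}) = a^n · ĥ^i(X, L) for every i ≥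
0, where ĥ^i(X, L) = limsup_m dim_k H^i(X, L^{⊗m}) · n!/m^n is the i-th asymptotic cohomological
function. -/
theorem result (k : Type u) [Field k] [IsAlgClosed k] [CharZero k] (X : Scheme.{u})
    [X.Over (Spec (CommRingCat.of k))] [AlgebraicGeometry.IsIntegral X]
    [IsProper (X ↘ Spec (CommRingCat.of k))] (hproj : ∃ A : X.Modules, CohB1.IsAmple A)
    (n : ℕ) (hn : topologicalKrullDim X = n)
    (L : X.Modules) (hL : PicF.IsInvertible L) (a : ℕ) (ha : 1 ≤ a) (i : ℕ) :
    W4c5asymptcohfn.hhat k X n i (CohB1.tensorPow L a) = (a : ℝ) ^ n * W4c5asymptcohfn.hhat k X n i L := by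
  obtain ⟨A, hA⟩ := hproj
  haveI := Groth.Agent.H28Int.isNoetherian k (X := X)
  obtain ⟨C, hC⟩ := Groth.Agent.H22Alg.VolHhat.bdd_pow k hA hn.le hL i
  have hc := Groth.Agent.H22Alg.VolHigh.consec k hA (Groth.Agent.H22Alg.VolHigh.small k hA n) (𝟙 X) (r := n)
    ((Groth.Agent.H28Int.dim_le_of_subset (Set.subset_univ _)).trans
      (((Homeomorph.Set.univ X).isInducing.topologicalKrullDim_le).trans hn.le)) hL i
  have he : ∀ m, Groth.Agent.H25Index.hd k (CohB1.tensorMod ((Coh.push (𝟙 X)).obj (Coh.structureModule X))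
      (CohB1.tensorPow L m)) i = Groth.Agent.H25Index.hd k (CohB1.tensorPow L m) i := fun m =>
    Groth.Agent.H25Index.hd_congr (PicGrp.tensorModIso Groth.Agent.H28Int.Surface.pushIdIso (Iso.refl _) ≪≫
      Groth.Agent.H10Coh.Tw.leftUnitIso _) i
  have hnear : Groth.Agent.H22Alg.VolHigh.Near n (fun m => Groth.Agent.H25Index.hd k (CohB1.tensorPow L (m + 1)) i)
      (fun m => Groth.Agent.H25Index.hd k (CohB1.tensorPow L m) i) :=
    ((Groth.Agent.H22Alg.VolHigh.Near.of_eq fun m => (he (m + 1)).symm).trans hc).trans (Groth.Agent.H22Alg.VolHigh.Near.of_eq he)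
  refine Eq.trans ?_ (Groth.Agent.H22Alg.VolHhat.rvol_comp_mul hnear ha hC)
  exact congrArg (Groth.Agent.H22Alg.VolHhat.rvol n) (funext fun m =>
    Groth.Agent.H25Index.hd_congr (Groth.Agent.H22Alg.NakaiGen.nonempty_tensorPow_mul L a m).some i)

end Groth.Agent.S17621
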