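import Groth.Statements.S4413
import Groth.Agent.H11Ample.Pullback
import Groth.Agent.H11Ample.Ample
import Groth.Agent.H11Ample.Tensor

set_option autoImplicit false
universe u
open CategoryTheory CategoryTheory.Limits AlgebraicGeometry
open EGA2

namespace Groth.Agent.S4413

/-- Let u : Z → S be a morphism of schemes, L an invertible O_S-module, s : O_S → L a global section of
L and s' the section of u^*(L) corresponding to s, i.e. u^*(s) composed with an isomorphism O_Z ≅
u^*(O_S) (the locus in question does not depend on that choice). Then the open Z_{s'} of Z where s'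
generates u^*(L) is the preimage u⁻¹(S_s) of the open where s generates L. -/
theorem result {Z S : Scheme.{u}} (u : Z ⟶ S) (L : S.Modules) (hL : PicF.IsInvertible L)
    (s : Coh.structureModule S ⟶ L)
    (e : Coh.structureModule Z ≅ (Scheme.Modules.pullback u).obj (Coh.structureModule S)) :
    CohB1.genLocus ((Scheme.Modules.pullback u).obj L) (e.hom ≫ (Scheme.Modules.pullback u).map s) = u ⁻¹ᵁ CohB1.genLocus L s := by
  rw [H11Ample.genLocus_eq_gen, H11Ample.genLocus_eq_gen]
  have h1 : H11Tilde.IsGen (Coh.structureModule S) (H11Ample.one (⊤ : S.Opens)) := H11Ample.isGen_one _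
  let P1 : Γ((Scheme.Modules.pullback u).obj (Coh.structureModule S), ⊤) :=
    H11Ample.pullTop (L := Coh.structureModule S) u (H11Ample.one (⊤ : S.Opens))
  have hP1 : H11Tilde.IsGen _ P1 := H11Tilde.IsGen.pullSect u h1
  have hE : H11Tilde.IsGen _ (e.hom.app ⊤ (H11Ample.one (⊤ : Z.Opens))) :=
    H11Ample.isGen_map_iso e (H11Ample.isGen_one _)
  obtain ⟨c, hc⟩ := H11Ample.exists_coeff hP1 (e.hom.app ⊤ (H11Ample.one (⊤ : Z.Opens)))
  have hcu : IsUnit c := by
    refine Z.toRingedSpace.isUnit_of_isUnit_germ ⊤ c fun y hy => (Z.mem_basicOpen c y hy).1 ?_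
    refine (H11Ample.bijective_smul_iff hP1 c hy).1 ?_
    rw [← hc]
    exact hE y hy
  have hval : SecTwist.val (e.hom ≫ (Scheme.Modules.pullback u).map s) ⊤ =
      c • H11Ample.pullTop u (SecTwist.val s ⊤) := by
    change ((Scheme.Modules.pullback u).map s).app ⊤ (e.hom.app ⊤ (H11Ample.one (⊤ : Z.Opens))) = _
    rw [hc, Scheme.Modules.Hom.app_smul]
    congr 1
    exact (H17.PullSect.pullSect_natural u s ⊤ (H11Ample.one ⊤)).symm
  rw [hval]
  exact H11Ample.gen_smul_pullSect u hL _ hcu

end Groth.Agent.S4413
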