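import Groth.Statements.S14952
import Groth.Agent.H9Hens.MilnorFlat
-- import your own Groth.Agent.* helpers here

set_option autoImplicit false
universe u
open TensorProduct
open EtAlg

namespace Groth.Agent.S14952

/-- Let B' = B ×_A A' be a fibre product of commutative rings with A' → A surjective and L' a B'-module.
If B ⊗_{B'} L' is a flat B-module and A' ⊗_{B'} L' is a flat A'-module, then L' is a flat B'-module.
(The converse holds by base change.) -/
theorem result (B' B A' A : Type u) [CommRing B'] [CommRing B] [CommRing A'] [CommRing A]
    [Algebra B' B] [Algebra B' A'] [Algebra B A] [Algebra A' A] [Algebra B' A] [IsScalarTower B' B A] [IsScalarTower B' A' A]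
    (hsq : EtMil.IsFibreSquare B' B A' A)
    (L' : Type u) [AddCommGroup L'] [Module B' L']
    [Module.Flat B (B ⊗[B'] L')] [Module.Flat A' (A' ⊗[B'] L')] : Module.Flat B' L' := by
  exact H9Hens.Milnor.flat_of_flat_baseChange hsq

end Groth.Agent.S14952
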