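import Groth.Statements.S14954
import Groth.Agent.H9Hens.MilnorFlat
-- import your own Groth.Agent.* helpers here

set_option autoImplicit false
universe u
open TensorProduct
open EtAlg

namespace Groth.Agent.S14954

/-- Let B' = B ×_A A' be a fibre product of commutative rings with A' → A surjective and L' a B'-module.
If B ⊗_{B'} L' is flat and finitely presented over B and A' ⊗_{B'} L' is flat and finitely presented
over A', then L' is finitely presented over B'. (Together with descent of flatness, L' is then flat
of finite presentation, i.e. finite locally free.) -/
theorem result (B' B A' A : Type u) [CommRing B'] [CommRing B] [CommRing A'] [CommRing A]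
    [Algebra B' B] [Algebra B' A'] [Algebra B A] [Algebra A' A] [Algebra B' A] [IsScalarTower B' B A] [IsScalarTower B' A' A]
    (hsq : EtMil.IsFibreSquare B' B A' A)
    (L' : Type u) [AddCommGroup L'] [Module B' L']
    [Module.Flat B (B ⊗[B'] L')] [Module.FinitePresentation B (B ⊗[B'] L')]
    [Module.Flat A' (A' ⊗[B'] L')] [Module.FinitePresentation A' (A' ⊗[B'] L')] :
    Module.FinitePresentation B' L' := by
  exact H9Hens.Milnor.finitePresentation_of_baseChange hsq

end Groth.Agent.S14954
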