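import Mathlib

/-!
# Geometric points avoiding a nowhere dense closed subset of a base change
-/

set_option autoImplicit false
set_option linter.style.haveILetI false
set_option linter.unusedSectionVars false

universe u

open scoped TensorProduct

noncomputable section

namespace Groth.Agent.H23DensePts

/-- Minimal primes contract to minimal primes along flat homomorphisms. -/
theorem comap_mem_minimalPrimes {R S : Type u} [CommRing R] [CommRing S] (f : R →+* S) (hf : f.Flat)
    {Q : Ideal S} (hQ : Q ∈ minimalPrimes S) : Q.comap f ∈ minimalPrimes R := by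
  algebraize [f]
  haveI := hQ.1.1
  obtain ⟨p, hp, hle⟩ := Ideal.exists_minimalPrimes_le (I := (⊥ : Ideal R)) (J := Q.comap f) bot_le
  haveI := hp.1.1
  haveI : Q.LiesOver (Q.comap f) := ⟨rfl⟩
  obtain ⟨Q', hQ', hQ'p, hlo⟩ := Ideal.exists_ideal_le_liesOver_of_le Q (q := Q.comap f) (p := p) hle
  have : Q' = Q := le_antisymm hQ' (hQ.2 ⟨hQ'p, bot_le⟩ hQ')
  rw [this] at hlo
  rw [show Q.comap f = p from hlo.over.symm]
  exact hp

section

variable {k K A : Type u} [Field k] [Field K] [Algebra k K] [CommRing A] [Algebra k A]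

/-- The comparison with the base change to a bigger field. -/
def enlarge (K' : Type u) [Field K'] [Algebra k K'] [Algebra K K'] [IsScalarTower k K K'] :
    A ⊗[k] K →ₐ[k] K' ⊗[k] A :=
  (Algebra.TensorProduct.map (IsScalarTower.toAlgHom k K K') (AlgHom.id k A)).comp
    (Algebra.TensorProduct.comm k A K).toAlgHom

theorem flat_enlarge (K' : Type u) [Field K'] [Algebra k K'] [Algebra K K'] [IsScalarTower k K K'] :
    (enlarge (k := k) (K := K) (A := A) K').toRingHom.Flat := by
  let e : (K ⊗[k] A) ⊗[K] K' ≃ₐ[K] K' ⊗[k] A :=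
    (Algebra.TensorProduct.comm K (K ⊗[k] A) K').trans
      ((Algebra.TensorProduct.cancelBaseChange k K K' K' A).restrictScalars K)
  have h : (enlarge (k := k) (K := K) (A := A) K').toRingHom =
      e.toRingEquiv.toRingHom.comp ((algebraMap (K ⊗[k] A) ((K ⊗[k] A) ⊗[K] K')).comp
        (Algebra.TensorProduct.comm k A K).toRingEquiv.toRingHom) := by
    refine RingHom.ext fun z => ?_
    induction z using TensorProduct.induction_on with
    | zero => simp
    | add x y hx hy => simp only [map_add, hx, hy]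
    | tmul a c =>
      show IsScalarTower.toAlgHom k K K' c ⊗ₜ[k] a = e ((c ⊗ₜ[k] a) ⊗ₜ[K] (1 : K'))
      show _ = Algebra.TensorProduct.cancelBaseChange k K K' K' A ((1 : K') ⊗ₜ[K] (c ⊗ₜ[k] a))
      rw [Algebra.TensorProduct.cancelBaseChange_tmul, Algebra.smul_def, mul_one]
      rfl
  rw [h]
  refine RingHom.Flat.comp (RingHom.Flat.comp (RingHom.Flat.of_bijective ?_) ?_) (RingHom.Flat.of_bijective ?_)
  · exact (Algebra.TensorProduct.comm k A K).bijective
  · exact RingHom.flat_algebraMap_iff.2 inferInstance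
  · exact e.bijective

/-- The locus of algebraic points at which an element of the big base change vanishes. -/
theorem exists_nowhereDense_coeff {k₁ K' : Type u} [Field k₁] [Field K'] [Algebra k k₁] [Algebra k K'] [Algebra k₁ K']
    [IsScalarTower k k₁ K'] [Algebra.IsAlgebraic k k₁] (f' : K' ⊗[k] A)
    (hf : ∀ p ∈ minimalPrimes (K' ⊗[k] A), f' ∉ p) :
    ∃ W : Set (PrimeSpectrum A), IsClosed W ∧ IsNowhereDense W ∧ ∀ x : A →ₐ[k] k₁,
      Algebra.TensorProduct.lift (Algebra.ofId K' K') ((IsScalarTower.toAlgHom k k₁ K').comp x)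
          (fun _ _ => Commute.all _ _) f' = 0 →
        (⟨RingHom.ker x, RingHom.ker_isPrime x⟩ : PrimeSpectrum A) ∈ W := by
  classical
  let b := Module.Free.chooseBasis k₁ K'
  let cb : K' ⊗[k₁] (k₁ ⊗[k] A) ≃ₐ[K'] K' ⊗[k] A := Algebra.TensorProduct.cancelBaseChange k k₁ K' K' A
  let c := TensorProduct.equivFinsuppOfBasisLeft b (cb.symm f')
  let I : Ideal (k₁ ⊗[k] A) := Ideal.span (Set.range c)
  let ι : A →ₐ[k] k₁ ⊗[k] A := Algebra.TensorProduct.includeRight
  have hf' : f' = c.sum fun i a => cb (b i ⊗ₜ a) := by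
    rw [← map_finsuppSum cb c fun i a => b i ⊗ₜ[k₁] a, ← TensorProduct.equivFinsuppOfBasisLeft_symm_apply,
      LinearEquiv.symm_apply_apply, AlgEquiv.apply_symm_apply]
  refine ⟨PrimeSpectrum.zeroLocus (I.comap ι.toRingHom : Set A), PrimeSpectrum.isClosed_zeroLocus _, ?_, ?_⟩
  · rw [(PrimeSpectrum.isClosed_zeroLocus _).isNowhereDense_iff, Set.eq_empty_iff_forall_notMem]
    intro r hr
    obtain ⟨_, ⟨g, rfl⟩, hrg, hg⟩ := PrimeSpectrum.isTopologicalBasis_basic_opens.exists_subset_of_mem_open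
      hr isOpen_interior
    haveI := r.isPrime
    obtain ⟨p, hp, hpr⟩ := Ideal.exists_minimalPrimes_le (I := (⊥ : Ideal A)) (J := r.asIdeal) bot_le
    haveI := hp.1.1
    have hIp : I.comap ι.toRingHom ≤ p :=
      (hg.trans interior_subset) (show (⟨p, hp.1.1⟩ : PrimeSpectrum A) ∈ _ from fun h => hrg (hpr h))
    letI : Algebra A (k₁ ⊗[k] A) := ι.toRingHom.toAlgebra
    haveI : Algebra.IsIntegral A (k₁ ⊗[k] A) := ⟨fun z => by
      induction z using TensorProduct.induction_on with
      | zero => exact isIntegral_zero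
      | add x y hx hy => exact hx.add hy
      | tmul l a =>
        have hl : IsIntegral k (l : k₁) := Algebra.IsIntegral.isIntegral l
        have h1 : IsIntegral A ((l ⊗ₜ[k] (1 : A)) : (k₁ ⊗[k] A)) := by
          haveI : IsScalarTower k A (k₁ ⊗[k] A) := IsScalarTower.of_algebraMap_eq fun x => (ι.commutes x).symm
          exact (hl.map (Algebra.TensorProduct.includeLeft : k₁ →ₐ[k] (k₁ ⊗[k] A))).tower_top
        have h2 : (l ⊗ₜ[k] a : (k₁ ⊗[k] A)) = (l ⊗ₜ[k] (1 : A)) * algebraMap A (k₁ ⊗[k] A) a := by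
          show _ = _ * ((1 : k₁) ⊗ₜ[k] a)
          rw [Algebra.TensorProduct.tmul_mul_tmul, mul_one, one_mul]
        rw [h2]
        exact h1.mul isIntegral_algebraMap⟩
    obtain ⟨q, hqI, hq, hqp⟩ := Ideal.exists_ideal_over_prime_of_isIntegral p I hIp
    haveI := hq
    have hqmin : q ∈ minimalPrimes (k₁ ⊗[k] A) := by
      refine ⟨⟨hq, bot_le⟩, fun q' hq' hle => ?_⟩
      haveI := hq'.1
      by_contra hne
      have hlt := Ideal.IsIntegral.comap_lt_comap (R := A) (lt_of_le_not_ge hle hne)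
      rw [hqp] at hlt
      exact hlt.not_ge (hp.2 ⟨Ideal.comap_isPrime _ q', bot_le⟩ hlt.le)
    let φ : (k₁ ⊗[k] A) →+* K' ⊗[k] A := cb.toRingEquiv.toRingHom.comp
      (Algebra.TensorProduct.includeRight : (k₁ ⊗[k] A) →ₐ[k₁] K' ⊗[k₁] (k₁ ⊗[k] A)).toRingHom
    have hinj : Function.Injective φ :=
      cb.injective.comp (Algebra.TensorProduct.includeRight_injective (algebraMap k₁ K').injective)
    obtain ⟨Q₀, hQ₀, hQ₀q⟩ : ∃ Q₀ : Ideal (K' ⊗[k] A), Q₀.IsPrime ∧ Q₀.comap φ = q := by
      obtain ⟨Q₀, hQ₀, -, h⟩ := Ideal.exists_comap_eq_of_mem_minimalPrimes φ (I := ⊥) q (by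
        rw [show Ideal.comap φ ⊥ = ⊥ from (RingHom.injective_iff_ker_eq_bot φ).1 hinj]
        exact hqmin)
      exact ⟨Q₀, hQ₀, h⟩
    obtain ⟨Q, hQ, hQle⟩ := Ideal.exists_minimalPrimes_le (I := (⊥ : Ideal (K' ⊗[k] A))) (J := Q₀) bot_le
    haveI := hQ.1.1
    have hQq : Q.comap φ = q := by
      have h1 : Q.comap φ ≤ q := (Ideal.comap_mono hQle).trans hQ₀q.le
      exact le_antisymm h1 (hqmin.2 ⟨Ideal.comap_isPrime φ Q, bot_le⟩ h1)
    have hfQ : f' ∈ Q := by
      rw [hf']
      refine Ideal.sum_mem _ fun i _ => ?_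
      have h3 : cb (b i ⊗ₜ c i) = cb (b i ⊗ₜ (1 : (k₁ ⊗[k] A))) * φ (c i) := by
        show _ = _ * cb ((1 : K') ⊗ₜ[k₁] c i)
        rw [← map_mul, Algebra.TensorProduct.tmul_mul_tmul, mul_one, one_mul]
      show cb (b i ⊗ₜ c i) ∈ Q
      rw [h3]
      refine Ideal.mul_mem_left _ _ ?_
      have h4 : c i ∈ q := hqI (Ideal.subset_span ⟨i, rfl⟩)
      rw [← hQq] at h4
      exact h4
    exact hf Q hQ hfQ
  · intro x hx
    let ξ : k₁ ⊗[k] A →ₐ[k₁] k₁ := Algebra.TensorProduct.lift (Algebra.ofId k₁ k₁) x fun _ _ => Commute.all _ _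
    let χ : K' ⊗[k] A →ₐ[K'] K' := Algebra.TensorProduct.lift (Algebra.ofId K' K')
      ((IsScalarTower.toAlgHom k k₁ K').comp x) fun _ _ => Commute.all _ _
    have h2 : ∀ (v : K') (a : k₁ ⊗[k] A), χ (cb (v ⊗ₜ a)) = ξ a • v := fun v a => by
      induction a using TensorProduct.induction_on with
      | zero => simp
      | add a a' ha ha' => simp only [TensorProduct.tmul_add, map_add, ha, ha', add_smul]
      | tmul l a =>
        rw [Algebra.TensorProduct.cancelBaseChange_tmul, Algebra.TensorProduct.lift_tmul,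
          Algebra.TensorProduct.lift_tmul, Algebra.smul_def, Algebra.smul_def, map_mul (algebraMap k₁ K')]
        show algebraMap k₁ K' l * v * algebraMap k₁ K' (x a) = algebraMap k₁ K' l * algebraMap k₁ K' (x a) * v
        ring
    have h5 : (c.sum fun i a => ξ a • b i) = 0 := by
      have hx' : χ f' = 0 := hx
      rw [hf', map_finsuppSum] at hx'
      rw [← hx']
      exact Finsupp.sum_congr fun i _ => (h2 _ _).symm
    have h4 : ∀ i, ξ (c i) = 0 := fun i => by
      by_contra hi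
      have hsupp : i ∈ c.support := Finsupp.mem_support_iff.2 fun h => hi (by rw [h, map_zero])
      exact hi (linearIndependent_iff'.1 b.linearIndependent c.support (fun i => ξ (c i)) h5 i hsupp)
    intro a ha
    have hI : I ≤ RingHom.ker ξ := Ideal.span_le.2 fun _ ⟨i, hi⟩ => hi ▸ h4 i
    have h6 : ξ ((1 : k₁) ⊗ₜ[k] a) = 0 := hI ha
    rw [Algebra.TensorProduct.lift_tmul, map_one, one_mul] at h6
    exact h6

/-- The image of an algebraic closure consists of all algebraic elements. -/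
theorem fieldRange_eq_algebraicClosure {F E L : Type u} [Field F] [Field E] [Field L] [Algebra F E] [Algebra F L]
    [IsAlgClosed E] [Algebra.IsAlgebraic F E] (j : E →ₐ[F] L) : j.fieldRange = algebraicClosure F L := by
  refine le_antisymm ?_ fun z hz => ?_
  · rintro _ ⟨w, rfl⟩
    exact mem_algebraicClosure_iff'.2 ((Algebra.IsIntegral.isIntegral w).map j)
  · letI : Algebra E L := j.toRingHom.toAlgebra
    haveI : IsScalarTower F E L := IsScalarTower.of_algebraMap_eq fun x => (j.commutes x).symm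
    have hi : IsIntegral E z := (mem_algebraicClosure_iff'.1 hz).tower_top
    obtain ⟨w, hw⟩ := minpoly.mem_range_of_degree_eq_one E z
      (IsAlgClosed.degree_eq_one_of_irreducible E (minpoly.irreducible hi))
    exact ⟨w, hw⟩

/-- A closed nowhere dense set of primes of the base change is met, over geometric points, only
above a closed nowhere dense set. -/
theorem exists_nowhereDense [Algebra.FiniteType k A] (Z : Set (PrimeSpectrum (A ⊗[k] K)))
    (hZ : IsClosed Z) (hZ' : IsNowhereDense Z) :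
    ∃ W : Set (PrimeSpectrum A), IsClosed W ∧ IsNowhereDense W ∧
      ∀ (kb Ω : Type u) [Field kb] [Algebra k kb] [IsAlgClosure k kb] [Field Ω] [Algebra k Ω] [Algebra kb Ω]
        [Algebra K Ω] [IsScalarTower k kb Ω] [IsScalarTower k K Ω] (x : A →ₐ[k] kb) (z : A ⊗[k] K →+* Ω),
        (∀ a c, z (a ⊗ₜ c) = algebraMap kb Ω (x a) * algebraMap K Ω c) →
        (⟨RingHom.ker z, RingHom.ker_isPrime z⟩ : PrimeSpectrum (A ⊗[k] K)) ∈ Z →
        (⟨RingHom.ker x, RingHom.ker_isPrime x⟩ : PrimeSpectrum A) ∈ W := by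
  classical
  haveI : IsNoetherianRing (A ⊗[k] K) := by
    haveI : Algebra.FiniteType K (K ⊗[k] A) := inferInstance
    haveI : IsNoetherianRing (K ⊗[k] A) := Algebra.FiniteType.isNoetherianRing K _
    exact isNoetherianRing_of_ringEquiv _ (Algebra.TensorProduct.comm k K A).toRingEquiv
  obtain ⟨J, rfl⟩ := (PrimeSpectrum.isClosed_iff_zeroLocus_ideal Z).1 hZ
  have hJ : ∀ p ∈ minimalPrimes (A ⊗[k] K), ¬ J ≤ p := fun p hp hle => by
    haveI := hp.1.1
    let O : Set (PrimeSpectrum (A ⊗[k] K)) :=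
      (⋃ q ∈ {q | q ∈ minimalPrimes (A ⊗[k] K) ∧ q ≠ p}, PrimeSpectrum.zeroLocus (q : Set (A ⊗[k] K)))ᶜ
    have hO : IsOpen O := (Set.Finite.isClosed_biUnion
      ((minimalPrimes.finite_of_isNoetherianRing _).subset fun q hq => hq.1)
      fun q _ => PrimeSpectrum.isClosed_zeroLocus _).isOpen_compl
    have hpO : (⟨p, hp.1.1⟩ : PrimeSpectrum (A ⊗[k] K)) ∈ O := fun h => by
      obtain ⟨q, ⟨hq, hne⟩, hqp⟩ := Set.mem_iUnion₂.1 h
      exact hne (le_antisymm hqp (hp.2 hq.1 hqp))
    have hsub : O ⊆ PrimeSpectrum.zeroLocus (J : Set (A ⊗[k] K)) := fun r hr => by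
      haveI := r.isPrime
      obtain ⟨q, hq, hqr⟩ := Ideal.exists_minimalPrimes_le (I := (⊥ : Ideal (A ⊗[k] K))) (J := r.asIdeal) bot_le
      by_cases hne : q = p
      · exact hle.trans (hne ▸ hqr)
      · exact absurd (Set.mem_iUnion₂.2 ⟨q, ⟨hq, hne⟩, hqr⟩) hr
    have h2 := interior_maximal (hsub.trans subset_closure) hO hpO
    rw [show interior (closure (PrimeSpectrum.zeroLocus (J : Set (A ⊗[k] K)))) = ∅ from hZ'] at h2
    exact h2
  obtain ⟨f, hfJ, hf⟩ : ∃ f ∈ J, ∀ p ∈ minimalPrimes (A ⊗[k] K), f ∉ p := by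
    by_contra hcon
    push Not at hcon
    obtain ⟨p, hp, hle⟩ := (Ideal.subset_union_prime_finite (minimalPrimes.finite_of_isNoetherianRing (A ⊗[k] K))
      (f := fun p => p) ⊥ ⊥ (fun i hi _ _ => hi.1.1) (I := J)).1 fun f hf => by
        obtain ⟨p, hp, hfp⟩ := hcon f hf
        exact Set.mem_iUnion₂.2 ⟨p, hp, hfp⟩
    exact hJ p hp hle
  let K' := AlgebraicClosure K
  let k₁ := algebraicClosure k K'
  haveI : IsAlgClosure k k₁ := algebraicClosure.isAlgClosure k K'
  obtain ⟨W, hW, hW', hprop⟩ := exists_nowhereDense_coeff (k₁ := k₁) (enlarge (k := k) (K := K) (A := A) K' f)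
    fun p hp => hf _ (comap_mem_minimalPrimes _ (flat_enlarge K') hp)
  refine ⟨W, hW, hW', ?_⟩
  intro kb Ω _ _ _ _ _ _ _ _ _ x z hz hmem
  haveI : IsAlgClosed k₁ := IsAlgClosure.isAlgClosed k
  haveI : IsAlgClosed kb := IsAlgClosure.isAlgClosed k
  haveI : Algebra.IsAlgebraic k kb := IsAlgClosure.isAlgebraic
  let Ω' := AlgebraicClosure Ω
  let σ : K' →ₐ[K] Ω' := IsAlgClosed.lift
  let σk : k₁ →ₐ[k] Ω' := (σ.restrictScalars k).comp k₁.val
  let jb : kb →ₐ[k] Ω' := IsScalarTower.toAlgHom k kb Ω'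
  have hrange : σk.fieldRange = jb.fieldRange :=
    (fieldRange_eq_algebraicClosure σk).trans (fieldRange_eq_algebraicClosure jb).symm
  let τ : kb →ₐ[k] k₁ := (σk.equivFieldRange.symm.toAlgHom).comp
    ((IntermediateField.inclusion hrange.ge).comp jb.equivFieldRange.toAlgHom)
  have hτ : ∀ w, σk (τ w) = jb w := fun w =>
    congrArg Subtype.val (σk.equivFieldRange.apply_symm_apply _)
  let χ : K' ⊗[k] A →ₐ[K'] K' := Algebra.TensorProduct.lift (Algebra.ofId K' K')
    ((IsScalarTower.toAlgHom k k₁ K').comp (τ.comp x)) fun _ _ => Commute.all _ _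
  have h1 : ∀ w, σ (χ (enlarge K' w)) = algebraMap Ω Ω' (z w) := fun w => by
    induction w using TensorProduct.induction_on with
    | zero => simp
    | add v w hv hw => simp only [map_add, hv, hw]
    | tmul a d =>
      show σ (χ (IsScalarTower.toAlgHom k K K' d ⊗ₜ[k] a)) = _
      rw [Algebra.TensorProduct.lift_tmul, hz, map_mul, map_mul, mul_comm, ← IsScalarTower.algebraMap_apply kb Ω Ω',
        ← IsScalarTower.algebraMap_apply K Ω Ω']
      exact congr (congrArg HMul.hMul (hτ (x a))) (σ.commutes d)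
  have h2 : χ (enlarge K' f) = 0 := σ.toRingHom.injective <| by
    rw [map_zero]
    exact (h1 f).trans (by rw [(hmem hfJ : f ∈ RingHom.ker z), map_zero])
  have h3 := hprop (τ.comp x) h2
  have h4 : RingHom.ker (τ.comp x) = RingHom.ker x := by
    ext a
    exact ⟨fun h => τ.toRingHom.injective (h.trans (map_zero τ).symm), fun h => by
      show τ (x a) = 0
      rw [show x a = 0 from h, map_zero]⟩
  convert h3 using 2
  exact h4.symm

end

end Groth.Agent.H23DensePts
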