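import Groth.Agent.H23DensePts
import Groth.Agent.H7Flat.QuasiFiniteDense

/-!
# Geometric points avoiding a nowhere dense closed subset: schemes
-/

set_option autoImplicit false
set_option linter.style.haveILetI false

universe u

open CategoryTheory CategoryTheory.Limits AlgebraicGeometry TopologicalSpace
open scoped TensorProduct

noncomputable section

namespace Groth.Agent.H23DensePts

variable {k K : Type u} [Field k] [Field K] [Algebra k K]

/-- The affine piece. -/
theorem exists_closed_affine (X : Scheme.{u}) (f : X ⟶ Spec (CommRingCat.of k)) [LocallyOfFiniteType f]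
    (U' : (pullback f (Spec.map (CommRingCat.ofHom (algebraMap k K)))).Opens)
    (hU' : Dense (U' : Set ↥(pullback f (Spec.map (CommRingCat.ofHom (algebraMap k K))))))
    {V : X.Opens} (hV : IsAffineOpen V) :
    ∃ T : Set X, IsNowhereDense T ∧
      ∀ (kb Ω : Type u) [Field kb] [Algebra k kb] [IsAlgClosure k kb]
        [Field Ω] [Algebra k Ω] [Algebra kb Ω] [Algebra K Ω] [IsScalarTower k kb Ω] [IsScalarTower k K Ω]
        (x : Spec (CommRingCat.of kb) ⟶ X),
        x ≫ f = Spec.map (CommRingCat.ofHom (algebraMap k kb)) →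
        ∀ (y : Spec (CommRingCat.of Ω) ⟶ pullback f (Spec.map (CommRingCat.ofHom (algebraMap k K)))),
          y ≫ pullback.fst f (Spec.map (CommRingCat.ofHom (algebraMap k K))) =
              Spec.map (CommRingCat.ofHom (algebraMap kb Ω)) ≫ x →
          y ≫ pullback.snd f (Spec.map (CommRingCat.ofHom (algebraMap k K))) =
              Spec.map (CommRingCat.ofHom (algebraMap K Ω)) →
          x (⟨⊥, Ideal.isPrime_bot⟩ : PrimeSpectrum kb) ∈ V →
          y (⟨⊥, Ideal.isPrime_bot⟩ : PrimeSpectrum Ω) ∉ U' →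
          x (⟨⊥, Ideal.isPrime_bot⟩ : PrimeSpectrum kb) ∈ T := by
  obtain ⟨α, hα⟩ := Spec.map_surjective (hV.fromSpec ≫ f)
  letI : Algebra k Γ(X, V) := α.hom.toAlgebra
  haveI : Algebra.FiniteType k Γ(X, V) := by
    have h : LocallyOfFiniteType (Spec.map α) := by rw [hα]; infer_instance
    exact (HasRingHomProperty.Spec_iff (P := @LocallyOfFiniteType)).1 h
  let j : Spec (CommRingCat.of (Γ(X, V) ⊗[k] K)) ⟶ pullback f (Spec.map (CommRingCat.ofHom (algebraMap k K))) :=
    (pullbackSpecIso k Γ(X, V) K).inv ≫ pullback.map _ _ _ _ hV.fromSpec (𝟙 _) (𝟙 _)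
      ((Category.comp_id _).trans hα) (by simp)
  haveI : IsOpenImmersion j := inferInstance
  have hnd : IsNowhereDense (j ⁻¹' (U' : Set ↥(pullback f (Spec.map (CommRingCat.ofHom (algebraMap k K)))))ᶜ) :=
    H7Flat.isNowhereDense_preimage j.continuous j.isOpenEmbedding.isOpenMap
      ((isClosed_isNowhereDense_iff_compl).2 ⟨by rw [compl_compl]; exact U'.2, by rw [compl_compl]; exact hU'⟩).2
  obtain ⟨W, hW, hW', hprop⟩ := exists_nowhereDense (k := k) (K := K) (A := Γ(X, V)) _
    (U'.2.isClosed_compl.preimage j.continuous) hnd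
  refine ⟨hV.fromSpec '' W, hV.fromSpec.isOpenEmbedding.isInducing.isNowhereDense_image hW', ?_⟩
  intro kb Ω _ _ _ _ _ _ _ _ _ x hx y hy₁ hy₂ hxV hyU
  have hrange : Set.range x ⊆ Set.range hV.fromSpec := by
    rintro _ ⟨t, rfl⟩
    rw [hV.range_fromSpec, Subsingleton.elim (α := PrimeSpectrum kb) t ⟨⊥, Ideal.isPrime_bot⟩]
    exact hxV
  obtain ⟨φ, hφ⟩ := Spec.map_surjective (IsOpenImmersion.lift hV.fromSpec x hrange)
  have hφx : Spec.map φ ≫ hV.fromSpec = x := by rw [hφ, IsOpenImmersion.lift_fac]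
  have hcomm : α ≫ φ = CommRingCat.ofHom (algebraMap k kb) := by
    apply Spec.map_injective
    rw [Spec.map_comp, hα, reassoc_of% hφx, hx]
  let xa : Γ(X, V) →ₐ[k] kb := { φ.hom with commutes' := fun c => ConcreteCategory.congr_hom hcomm c }
  let z : Γ(X, V) ⊗[k] K →ₐ[k] Ω := Algebra.TensorProduct.lift ((IsScalarTower.toAlgHom k kb Ω).comp xa)
    (IsScalarTower.toAlgHom k K Ω) fun _ _ => Commute.all _ _
  have hy : Spec.map (CommRingCat.ofHom z.toRingHom) ≫ j = y := by
    refine pullback.hom_ext ?_ ?_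
    · rw [hy₁, ← hφx, Category.assoc, Category.assoc, pullback.lift_fst, pullbackSpecIso_inv_fst_assoc,
        ← Spec.map_comp_assoc, ← Spec.map_comp_assoc]
      congr 2
      refine CommRingCat.hom_ext (RingHom.ext fun a => ?_)
      show z (a ⊗ₜ[k] (1 : K)) = algebraMap kb Ω (φ.hom a)
      rw [Algebra.TensorProduct.lift_tmul, map_one, mul_one]
      rfl
    · rw [hy₂, Category.assoc, Category.assoc, pullback.lift_snd, Category.comp_id, pullbackSpecIso_inv_snd,
        ← Spec.map_comp]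
      congr 1
      refine CommRingCat.hom_ext (RingHom.ext fun c => ?_)
      show z ((1 : Γ(X, V)) ⊗ₜ[k] c) = algebraMap K Ω c
      rw [Algebra.TensorProduct.lift_tmul, map_one, one_mul]
      rfl
  have hker : ∀ {R L : Type u} [CommRing R] [Field L] (g : R →+* L),
      Spec.map (CommRingCat.ofHom g) (⟨⊥, Ideal.isPrime_bot⟩ : PrimeSpectrum L) =
        (⟨RingHom.ker g, RingHom.ker_isPrime g⟩ : PrimeSpectrum R) := fun g => PrimeSpectrum.ext rfl
  have hmem := hprop kb Ω xa z.toRingHom (fun a c => Algebra.TensorProduct.lift_tmul _ _ _ _ _) (by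
    show j _ ∉ U'
    rw [← hker z.toRingHom]
    have h := hy ▸ hyU
    exact h)
  refine ⟨_, hmem, ?_⟩
  rw [← hφx]
  exact congrArg hV.fromSpec (hker xa.toRingHom).symm

/-- Geometric points of a dense open avoid a given nowhere dense closed subset of the base change. -/
theorem exists_dense_open (X : Scheme.{u}) (f : X ⟶ Spec (CommRingCat.of k)) [LocallyOfFiniteType f] [QuasiCompact f]
    (U' : (pullback f (Spec.map (CommRingCat.ofHom (algebraMap k K)))).Opens)
    (hU' : Dense (U' : Set ↥(pullback f (Spec.map (CommRingCat.ofHom (algebraMap k K)))))) :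
    ∃ U : X.Opens, Dense (U : Set ↥X) ∧
      ∀ (kb Ω : Type u) [Field kb] [Algebra k kb] [IsAlgClosure k kb]
        [Field Ω] [Algebra k Ω] [Algebra kb Ω] [Algebra K Ω] [IsScalarTower k kb Ω] [IsScalarTower k K Ω]
        (x : Spec (CommRingCat.of kb) ⟶ X),
        x ≫ f = Spec.map (CommRingCat.ofHom (algebraMap k kb)) →
        (∀ t : ↥(Spec (CommRingCat.of kb)), x.base t ∈ U) →
        ∀ (y : Spec (CommRingCat.of Ω) ⟶ pullback f (Spec.map (CommRingCat.ofHom (algebraMap k K)))),
          y ≫ pullback.fst f (Spec.map (CommRingCat.ofHom (algebraMap k K))) =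
              Spec.map (CommRingCat.ofHom (algebraMap kb Ω)) ≫ x →
          y ≫ pullback.snd f (Spec.map (CommRingCat.ofHom (algebraMap k K))) =
              Spec.map (CommRingCat.ofHom (algebraMap K Ω)) →
          ∀ t : ↥(Spec (CommRingCat.of Ω)), y.base t ∈ U' := by
  haveI : CompactSpace X := QuasiCompact.compactSpace_of_compactSpace f
  obtain ⟨G, hG, hGeq⟩ := (isCompact_iff_finite_and_eq_biUnion_affineOpens (U := (⊤ : X.Opens))).1 isCompact_univ
  choose T hT hprop using fun V : X.affineOpens => exists_closed_affine (K := K) X f U' hU' V.2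
  let B := closure (⋃ V ∈ G, T V)
  refine ⟨⟨Bᶜ, isClosed_closure.isOpen_compl⟩, ?_, ?_⟩
  · exact ((isClosed_isNowhereDense_iff_compl).1 ⟨isClosed_closure,
      (H7Flat.isNowhereDense_biUnion hG fun V _ => hT V).closure⟩).2
  intro kb Ω _ _ _ _ _ _ _ _ _ x hx hxU y hy₁ hy₂ t
  rw [Subsingleton.elim (α := PrimeSpectrum Ω) t ⟨⊥, Ideal.isPrime_bot⟩]
  by_contra hy
  have hmem : x (⟨⊥, Ideal.isPrime_bot⟩ : PrimeSpectrum kb) ∈ (⊤ : X.Opens) := trivial
  rw [hGeq] at hmem
  obtain ⟨V, hV⟩ := Opens.mem_iSup.1 hmem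
  obtain ⟨hVG, hxV⟩ := Opens.mem_iSup.1 hV
  exact hxU _ (subset_closure (Set.mem_iUnion₂.2 ⟨V, hVG, hprop V kb Ω x hx y hy₁ hy₂ hxV hy⟩))

end Groth.Agent.H23DensePts
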