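import Groth.Statements.S12596
import Mathlib
import Groth.Prelude.Def_W4bk4goldsch45p2

set_option autoImplicit false
open FunFld

namespace Groth.Agent.S12596

/-- Over an algebraically closed constant field, replacing a projective map `φ` by `Aφ` for an
invertible matrix `A` over `k` does not change the `τ`-order sequence, and multiplies every
generalized Wronskian determinant `det [τ(φ) | D^(I₁) φ | ⋯ | D^(Iₙ) φ]` (Hasse derivatives taken
with `H`) by `det A`. -/
theorem result
    (k K : Type*) [Field k] [IsAlgClosed k] [Field K] [Algebra k K]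
    (hK : FunFld.IsFunctionField k K) {n : ℕ} (φ : Fin (n + 1) → K) (hφ : LinearIndependent k φ)
    (τ : K →ₐ[k] K) (s : K) (H : K →ₐ[k] PowerSeries K) (hH : LocRes.IsHasseFamily s H)
    (A : Matrix (Fin (n + 1)) (Fin (n + 1)) k) (hA : A.det ≠ 0)
    (φ' : Fin (n + 1) → K) (hφ' : ∀ i, φ' i = ∑ j, A i j • φ j) :
    (∀ J : Fin n → ℕ, FunFld.IsOrders K (FunFld.hcol τ H φ') J ↔ FunFld.IsOrders K (FunFld.hcol τ H φ) J) ∧
    ∀ I : Fin n → ℕ, (FunFld.wrMat τ H φ' I).det = algebraMap k K A.det * (FunFld.wrMat τ H φ I).det := by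
  classical
  let AK : Matrix (Fin (n + 1)) (Fin (n + 1)) K := A.map (algebraMap k K)
  have hdet : AK.det = algebraMap k K A.det := (RingHom.map_det (algebraMap k K) A).symm
  let L : (Fin (n + 1) → K) →ₗ[K] (Fin (n + 1) → K) := AK.mulVecLin
  have hL : Function.Injective L :=
    (Matrix.mulVec_injective_iff_isUnit).2 ((Matrix.isUnit_iff_isUnit_det _).2 (isUnit_iff_ne_zero.2 (by
      rw [hdet]; simpa using hA)))
  have hc : ∀ j, FunFld.hcol τ H φ' j = L (FunFld.hcol τ H φ j) := by
    intro j
    funext i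
    rcases j with _ | m <;>
      simp [L, AK, Matrix.mulVec, dotProduct, FunFld.hcol, hφ', map_sum, map_smul, Algebra.smul_def,
        PowerSeries.algebraMap_apply, PowerSeries.coeff_C_mul]
  have hjump : ∀ j, FunFld.IsJump K (FunFld.hcol τ H φ') j ↔ FunFld.IsJump K (FunFld.hcol τ H φ) j := by
    intro j
    rw [FunFld.IsJump, FunFld.IsJump, hc, show FunFld.hcol τ H φ' = L ∘ FunFld.hcol τ H φ from funext hc,
      Set.image_comp, Submodule.span_image]
    refine not_congr ⟨fun h => ?_, fun h => Submodule.mem_map_of_mem h⟩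
    obtain ⟨w, hw, he⟩ := h
    exact hL he ▸ hw
  refine ⟨fun J => by simp only [FunFld.IsOrders, hjump], fun I => ?_⟩
  rw [← hdet, ← Matrix.det_mul]
  congr 1
  ext i a
  induction a using Fin.cases with
  | zero =>
    have := congrFun (hc 0) i
    simpa [L, FunFld.wrMat, Matrix.mul_apply, Matrix.mulVec, dotProduct, FunFld.hcol] using this
  | succ l =>
    have := congrFun (hc (I l + 1)) i
    simpa [L, FunFld.wrMat, Matrix.mul_apply, Matrix.mulVec, dotProduct, FunFld.hcol] using this

end Groth.Agent.S12596
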