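import Groth.Statements.S12598
import Mathlib
import Groth.Agent.H23Proj.Hasse
import Groth.Agent.H23Proj.Jumps

set_option autoImplicit false
open FunFld

namespace Groth.Agent.S12598

/-- Over an algebraically closed constant field, the `τ`-order sequence `J = (j₁, …, jₙ)` of a
projective map `φ` does not depend on the separating variable used for the Hasse derivatives, and
the Wronskians with respect to `t` and to `s` differ by the factor `(ds/dt)^(j₁ + ⋯ + jₙ)`, where
`ds/dt` is the first Hasse derivative of `s` with respect to `t`. -/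
theorem result
    (k K : Type*) [Field k] [IsAlgClosed k] [Field K] [Algebra k K]
    (hK : FunFld.IsFunctionField k K) {n : ℕ} (φ : Fin (n + 1) → K) (hφ : LinearIndependent k φ)
    (τ : K →ₐ[k] K) (s : K) (Hs : K →ₐ[k] PowerSeries K) (hHs : LocRes.IsHasseFamily s Hs)
    (t : K) (Ht : K →ₐ[k] PowerSeries K) (hHt : LocRes.IsHasseFamily t Ht) :
    (∀ J : Fin n → ℕ, FunFld.IsOrders K (FunFld.hcol τ Ht φ) J ↔ FunFld.IsOrders K (FunFld.hcol τ Hs φ) J) ∧
    ∀ J : Fin n → ℕ, FunFld.IsOrders K (FunFld.hcol τ Hs φ) J →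
      (FunFld.wrMat τ Ht φ J).det =
        LocRes.hasseD Ht 1 s ^ (∑ l, J l) * (FunFld.wrMat τ Hs φ J).det := by
  classical
  let c := FunFld.hcol τ Hs φ
  let c' := FunFld.hcol τ Ht φ
  let w := LocRes.hasseD Ht 1 s
  let u : ℕ → K := fun j => if j = 0 then 1 else w ^ (j - 1)
  have hσ : PowerSeries.constantCoeff (Ht s - PowerSeries.C s) = 0 := by simp [hHt.2]
  have hσ1 : PowerSeries.coeff 1 (Ht s - PowerSeries.C s) = w := by simp [w, PowerSeries.coeff_C]
  have hw : w ≠ 0 := by
    intro h
    have h1 := Groth.Agent.H23Proj.hasseD_chain hK hHs hHt t 1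
    rw [Groth.Agent.H23Proj.hasseD_one_self hHt, Finset.sum_range_succ, Finset.sum_range_one, pow_zero,
      pow_one, hσ1, h, PowerSeries.coeff_one] at h1
    simp at h1
  have hu : ∀ j, u j ≠ 0 := fun j => by
    simp only [u]; split_ifs
    · exact one_ne_zero
    · exact pow_ne_zero _ hw
  have h : ∀ j, c' j - u j • c j ∈ Submodule.span K (c '' Set.Iio j) := by
    rintro (_ | m)
    · have : c' 0 - u 0 • c 0 = 0 := by
        funext i
        simp [c, c', u, FunFld.hcol]
      rw [this]; exact zero_mem _
    · have hlead : c' (m + 1) - u (m + 1) • c (m + 1) =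
          ∑ b ∈ Finset.range m, PowerSeries.coeff m ((Ht s - PowerSeries.C s) ^ b) • c (b + 1) := by
        funext i
        simp only [c, c', u, FunFld.hcol, Pi.sub_apply, Pi.smul_apply, Finset.sum_apply, smul_eq_mul,
          if_neg (Nat.succ_ne_zero m)]
        rw [Groth.Agent.H23Proj.hasseD_chain hK hHs hHt, Finset.sum_range_succ,
          Groth.Agent.H23Proj.coeff_pow_self hσ, hσ1, Nat.succ_sub_one, add_sub_cancel_right]
      rw [hlead]
      refine Submodule.sum_mem _ fun b hb => Submodule.smul_mem _ _ (Submodule.subset_span ⟨b + 1, ?_, rfl⟩)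
      simpa using Finset.mem_range.1 hb
  refine ⟨fun J => Groth.Agent.H23Proj.isOrders_iff hu h J, fun J hJ => ?_⟩
  let idx : Fin (n + 1) → ℕ := Fin.cases (motive := fun _ => ℕ) 0 fun l => J l + 1
  have hidx : StrictMono idx := by
    intro a b hab
    induction b using Fin.cases with
    | zero => simp at hab
    | succ b =>
      induction a using Fin.cases with
      | zero => simp [idx]
      | succ a => simp only [idx, Fin.cases_succ]; exact Nat.add_lt_add_right (hJ.1 (Fin.succ_lt_succ_iff.1 hab)) 1
  have hns : ∀ j, j ∉ Set.range idx → c j ∈ Submodule.span K (c '' Set.Iio j) := by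
    intro j hj
    rcases j with _ | m
    · exact absurd ⟨0, rfl⟩ hj
    · by_contra hno
      obtain ⟨l, hl⟩ := (hJ.2 m).2 hno
      exact hj ⟨l.succ, by simp [idx, hl]⟩
  have hM : ∀ (G : K →ₐ[k] PowerSeries K), FunFld.wrMat τ G φ J =
      Matrix.of fun i a => FunFld.hcol τ G φ (idx a) i := by
    intro G
    ext i a
    induction a using Fin.cases <;> simp [FunFld.wrMat, idx, FunFld.hcol]
  rw [hM, hM, Groth.Agent.H23Proj.det_selected hidx hns h, Fin.prod_univ_succ]
  simp [u, idx, c, w, Finset.prod_pow_eq_pow_sum]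

end Groth.Agent.S12598
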