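import Groth.Statements.S12600
import Mathlib
import Groth.Agent.H23Proj.Hasse
import Groth.Agent.H23Proj.Jumps

set_option autoImplicit false
open FunFld

namespace Groth.Agent.S12600

/-- Over an algebraically closed constant field, for a linearly independent tuple `φ = (φ₀, …, φₙ)`, a
`k`-endomorphism `τ` and a total Hasse derivative `H`, there are exactly `n` `τ`-orders `j₁ < ⋯ <
jₙ` and the Wronskian `det [τ(φ) | D^(j₁) φ | ⋯ | D^(jₙ) φ]` is nonzero. -/
theorem result
    (k K : Type*) [Field k] [IsAlgClosed k] [Field K] [Algebra k K]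
    (hK : FunFld.IsFunctionField k K) {n : ℕ} (φ : Fin (n + 1) → K) (hφ : LinearIndependent k φ)
    (τ : K →ₐ[k] K) (s : K) (H : K →ₐ[k] PowerSeries K) (hH : LocRes.IsHasseFamily s H) :
    ∃ J : Fin n → ℕ, FunFld.IsOrders K (FunFld.hcol τ H φ) J ∧ (FunFld.wrMat τ H φ J).det ≠ 0 := by
  classical
  let c := FunFld.hcol τ H φ
  have h0 : c 0 ≠ 0 := fun h => hφ.ne_zero 0 ((map_eq_zero τ).1 (congrFun h 0))
  have hspan : Submodule.span K (Set.range c) = ⊤ := by
    by_contra hne
    obtain ⟨f, hf0, hf⟩ := Submodule.exists_dual_map_eq_bot_of_lt_top (lt_top_iff_ne_top.2 hne) inferInstance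
    have hexp : ∀ v : Fin (n + 1) → K, f v = ∑ i, f (Pi.single i 1) * v i := fun v => by
      conv_lhs => rw [pi_eq_sum_univ v, map_sum]
      refine Finset.sum_congr rfl fun i _ => ?_
      rw [map_smul, smul_eq_mul, mul_comm]
      congr 2
      funext j
      simp [Pi.single_apply, eq_comm]
    have hrel := Groth.Agent.H23Proj.hasse_relation_trivial hK hH hφ (fun i => f (Pi.single i 1)) fun j => by
      have h1 : f (c (j + 1)) = 0 := by
        have := Submodule.mem_map_of_mem (f := f) (Submodule.subset_span (R := K) (Set.mem_range_self (f := c) (j + 1)))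
        rwa [hf, Submodule.mem_bot] at this
      rw [hexp] at h1
      exact h1
    refine hf0 (LinearMap.ext fun v => ?_)
    rw [hexp, LinearMap.zero_apply]
    exact Finset.sum_eq_zero fun i _ => by rw [show f (Pi.single i 1) = 0 from congrFun hrel i, zero_mul]
  obtain ⟨J, hJ, hdet⟩ := Groth.Agent.H23Proj.exists_orders h0 hspan
  refine ⟨J, hJ, ?_⟩
  convert hdet using 2
  ext i a
  induction a using Fin.cases <;> simp [FunFld.wrMat, FunFld.hcol, c]

end Groth.Agent.S12600
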