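import Groth.Statements.S12609
import Mathlib
import Groth.Agent.H23Proj.Orders
import Groth.Agent.H23Curve.Basic

set_option autoImplicit false
open FunFld

namespace Groth.Agent.S12609

/-- Over an algebraically closed constant field, let `φ` be the canonical map (a basis of `L(C)`, `C`
canonical), normalized at the place `P` after multiplication by `y ≠ 0`, and `t` a local parameter
at `P`. For `j ≥ 1`: the canonical orders at `P` include `j` exactly when `j + 1` is a gap number at
`P`, i.e. `L((j+1)P) = L(jP)`. -/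
theorem result
    (k K : Type*) [Field k] [IsAlgClosed k] [Field K] [Algebra k K]
    (hK : FunFld.IsFunctionField k K) (C : FunFld.Divisor k K) (hC : FunFld.IsCanonical k K C)
    {n : ℕ} (φ : Fin (n + 1) → K) (hφ : LinearIndependent k φ)
    (hspan : Submodule.span k (Set.range φ) = FunFld.L C)
    (P : FunFld.Place k K) (y : K) (hy : y ≠ 0)
    (heff : (1 : K) ∈ Submodule.span k (Set.range (y • φ))) (hnorm : ∀ i, P.1 (y * φ i) ≤ 1)
    (t : K) (ht : P.1 t = WithZero.exp (-1))
    (Ht : K →ₐ[k] PowerSeries K) (hHt : LocRes.IsHasseFamily t Ht) (j : ℕ) (hj : 1 ≤ j) :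
    FunFld.IsJump (IsLocalRing.ResidueField P.O) (FunFld.hcolAt P Ht (y • φ)) (j + 1) ↔
      FunFld.L (Finsupp.single P ((j : ℤ) + 1)) = FunFld.L (Finsupp.single P (j : ℤ)) := by
  open Groth.Agent.H23FunFld in
  have hdeg1 := Groth.Agent.H23Proj.deg_eq_one_of_isAlgClosed hK P
  obtain ⟨hlC, hdC⟩ := canonical_ell_deg hK hC
  have hD : ∀ D : FunFld.Divisor k K, (∃ u ∈ FunFld.L D, P.1 u = WithZero.exp (D P)) ↔
      FunFld.ell (D - Finsupp.single P 1) ≠ FunFld.ell D := by
    intro D
    have hle : FunFld.L (D - Finsupp.single P 1) ≤ FunFld.L D :=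
      L_mono (sub_le_self _ (Finsupp.single_nonneg.2 zero_le_one))
    haveI := finiteDimensional_L hK D
    constructor
    · rintro ⟨u, hu, huv⟩ he
      have h := hu
      rw [← Submodule.eq_of_le_of_finrank_eq hle he] at h
      have h2 := h P
      rw [huv, Finsupp.sub_apply, Finsupp.single_eq_same, WithZero.exp_le_exp] at h2
      omega
    · intro he
      by_contra hno
      refine he (congrArg (fun W : Submodule k K => Module.finrank k W) (le_antisymm hle fun u hu Q => ?_))
      rcases eq_or_ne Q P with rfl | hQ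
      · rw [Finsupp.sub_apply, Finsupp.single_eq_same]
        rcases eq_or_ne u 0 with rfl | hu0
        · rw [map_zero]; exact zero_le
        have h1 := (val_le_exp_iff Q hu0).1 (hu Q)
        refine (val_le_exp_iff Q hu0).2 ?_
        by_contra hlt
        exact hno ⟨u, hu, by rw [val_eq_exp Q hu0]; congr 1; omega⟩
      · rw [Finsupp.sub_apply, Finsupp.single_eq_of_ne hQ, sub_zero]
        exact hu Q
  have hRR : ∀ i : ℤ, (FunFld.ell (C - Finsupp.single P i) : ℤ) =
      FunFld.ell (Finsupp.single P i) - i + FunFld.genus k K - 1 := by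
    intro i
    have h := riemann_roch hK hC (Finsupp.single P i)
    rw [deg_single, hdeg1] at h
    push_cast at h
    omega
  have hsmul : ∀ v, v ∈ Submodule.span k (Set.range (y • φ)) ↔ ∃ u ∈ FunFld.L C, v = y * u := by
    intro v
    rw [show Set.range (y • φ) = LinearMap.mulLeft k y '' Set.range φ by rw [← Set.range_comp]; rfl,
      Submodule.span_image, hspan]
    exact ⟨fun ⟨u, hu, e⟩ => ⟨u, hu, e.symm⟩, fun ⟨u, hu, e⟩ => ⟨u, hu, e.symm⟩⟩
  have hg : 0 < FunFld.genus k K := by
    rw [← hlC, FunFld.ell, ← hspan, finrank_span_eq_card hφ]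
    simp
  have hbpf : FunFld.ell (C - Finsupp.single P 1) ≠ FunFld.ell C := by
    intro he
    have h1 := hRR 1
    rw [he, hlC] at h1
    have htwo : FunFld.ell (Finsupp.single P (1 : ℤ)) = 2 := by omega
    have hne : FunFld.L (Finsupp.single P (1 : ℤ)) ≠ FunFld.L (Finsupp.single P ((1 : ℤ) - 1)) := by
      intro h
      norm_num at h
      have h2 : FunFld.ell (Finsupp.single P (1 : ℤ)) = FunFld.ell (0 : FunFld.Divisor k K) :=
        congrArg (fun W : Submodule k K => Module.finrank k W) h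
      rw [htwo, ell_zero hK] at h2
      omega
    obtain ⟨z, hz, hzL, hzo⟩ := Groth.Agent.H23Curve.exists_ord_of_ne hK hne
    have hother : ∀ Q : FunFld.Place k K, Q ≠ P → 0 ≤ Q.ord z := fun Q hQ => by
      have h3 := (val_le_exp_iff Q hz).1 (hzL Q)
      rw [Finsupp.single_eq_of_ne hQ] at h3
      omega
    have := genus_zero_of_adjoin_top hK (adjoin_eq_top_of_simple_pole hK hdeg1 hzo hother)
    omega
  obtain ⟨u₀, hu₀, hu₀v⟩ := (hD C).2 hbpf
  have hyP : P.ord y = C P := by
    have h1 : y * u₀ ∈ Submodule.span k (Set.range (y • φ)) := (hsmul _).2 ⟨u₀, hu₀, rfl⟩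
    obtain ⟨a, ha⟩ := (Submodule.mem_span_range_iff_exists_fun k).1 h1
    have h2 : P.1 (y * u₀) ≤ 1 := ha ▸ Groth.Agent.H23Proj.val_comb_le hK ht hHt hnorm a
    obtain ⟨u, hu, hu1⟩ := (hsmul 1).1 heff
    have h3 := hu P
    rw [show u = y⁻¹ from eq_inv_of_mul_eq_one_right hu1.symm, map_inv₀, val_eq_exp P hy, ← WithZero.exp_neg,
      WithZero.exp_le_exp] at h3
    rw [map_mul, hu₀v, val_eq_exp P hy, ← WithZero.exp_add, ← WithZero.exp_zero, WithZero.exp_le_exp] at h2
    omega
  have hnorm' : ∀ i, P.1 ((y • φ) i) ≤ 1 := hnorm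
  rw [Groth.Agent.H23Proj.isJump_hcolAt_iff hK ht hHt hnorm']
  have hiff : (∃ f ∈ Submodule.span k (Set.range (y • φ)), P.1 f = WithZero.exp (-(j : ℤ))) ↔
      ∃ u ∈ FunFld.L (C - Finsupp.single P (j : ℤ)), P.1 u = WithZero.exp ((C - Finsupp.single P (j : ℤ)) P) := by
    rw [Finsupp.sub_apply, Finsupp.single_eq_same]
    constructor
    · rintro ⟨f, hf, hfv⟩
      obtain ⟨u, hu, rfl⟩ := (hsmul f).1 hf
      have hu0 : u ≠ 0 := fun h => WithZero.exp_ne_zero (by rw [← hfv, h, mul_zero, map_zero])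
      rw [map_mul, val_eq_exp P hy, val_eq_exp P hu0, ← WithZero.exp_add, WithZero.exp_inj, hyP] at hfv
      have huv : P.1 u = WithZero.exp (C P - j) := by rw [val_eq_exp P hu0]; congr 1; omega
      refine ⟨u, fun Q => ?_, huv⟩
      rcases eq_or_ne Q P with rfl | hQ
      · rw [huv, Finsupp.sub_apply, Finsupp.single_eq_same]
      · rw [Finsupp.sub_apply, Finsupp.single_eq_of_ne hQ, sub_zero]; exact hu Q
    · rintro ⟨u, hu, huv⟩
      refine ⟨y * u, (hsmul _).2 ⟨u, L_mono (sub_le_self _ (Finsupp.single_nonneg.2 (Int.natCast_nonneg j))) hu, rfl⟩, ?_⟩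
      rw [map_mul, val_eq_exp P hy, huv, ← WithZero.exp_add, hyP]
      congr 1; ring
  rw [hiff, hD, sub_sub, ← Finsupp.single_add]
  have e1 := hRR j
  have e2 := hRR ((j : ℤ) + 1)
  have hle : FunFld.L (Finsupp.single P (j : ℤ)) ≤ FunFld.L (Finsupp.single P ((j : ℤ) + 1)) :=
    L_mono (Finsupp.single_mono (by omega))
  have hstep := Groth.Agent.H23Curve.ell_le_succ hK hdeg1 (Finsupp.single P (j : ℤ))
  rw [← Finsupp.single_add] at hstep
  haveI := finiteDimensional_L hK (Finsupp.single P ((j : ℤ) + 1))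
  constructor
  · rintro ⟨-, h⟩
    refine (Submodule.eq_of_le_of_finrank_eq hle ?_).symm
    change FunFld.ell _ = FunFld.ell _
    have := Submodule.finrank_mono hle
    change FunFld.ell _ ≤ FunFld.ell _ at this
    omega
  · intro h
    refine ⟨hj, fun h' => ?_⟩
    have h2 : FunFld.ell (Finsupp.single P ((j : ℤ) + 1)) = FunFld.ell (Finsupp.single P (j : ℤ)) :=
      congrArg (fun W : Submodule k K => Module.finrank k W) h
    omega

end Groth.Agent.S12609
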