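import Groth.Statements.S19396
import Mathlib
import Groth.Agent.H23Curve.Basic

set_option autoImplicit false
universe u v
open FunFld

namespace Groth.Agent.S19396

/-- On an elliptic curve with base point 0, if f has a double pole at 0 and no other pole and g a triple
pole at 0 and no other pole, then for n ≥ 2 the functions 1, f, …, f^[n/2], g, fg, …, f^[(n−3)/2] g
form a basis of the space of functions with at most an n-fold pole at 0. Stated for a function field
K/k of one variable of genus 1 with a place P of degree 1 in the role of the curve and its base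
point: the family indexed by Fin (n/2 + 1) ⊕ Fin ((n − 1)/2), sending i on the left to f^i and i on
the right to f^i g, is linearly independent over k and spans L(nP). -/
theorem result (k : Type u) (K : Type v) [Field k] [Field K]
    [Algebra k K] (hK : FunFld.IsFunctionField k K) (hgen : FunFld.genus k K = 1)
    (P : FunFld.Place k K) (hP : P.deg = 1) (f g : K)
    (hf : f ∈ FunFld.L (Finsupp.single P 2)) (hf2 : P.ord f = -2)
    (hg : g ∈ FunFld.L (Finsupp.single P 3)) (hg3 : P.ord g = -3) (n : ℕ) (hn : 2 ≤ n) :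
    LinearIndependent k
        (Sum.elim (fun i : Fin (n / 2 + 1) => f ^ (i : ℕ)) (fun i : Fin ((n - 1) / 2) => f ^ (i : ℕ) * g)) ∧
      Submodule.span k (Set.range
        (Sum.elim (fun i : Fin (n / 2 + 1) => f ^ (i : ℕ)) (fun i : Fin ((n - 1) / 2) => f ^ (i : ℕ) * g))) =
        FunFld.L (Finsupp.single P (n : ℤ)) := by
  classical
  open Groth.Agent.H23FunFld in
  have hf0 : f ≠ 0 := fun h => by rw [h, ord_zero] at hf2; omega
  have hg0 : g ≠ 0 := fun h => by rw [h, ord_zero] at hg3; omega
  set v : Fin (n / 2 + 1) ⊕ Fin ((n - 1) / 2) → K :=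
    Sum.elim (fun i : Fin (n / 2 + 1) => f ^ (i : ℕ)) (fun i : Fin ((n - 1) / 2) => f ^ (i : ℕ) * g)
  let o : Fin (n / 2 + 1) ⊕ Fin ((n - 1) / 2) → ℕ :=
    Sum.elim (fun i => 2 * (i : ℕ)) (fun i => 2 * (i : ℕ) + 3)
  have hval : ∀ a, P.1 (v a) = WithZero.exp (o a : ℤ) := by
    rintro (i | i)
    · simp only [v, o, Sum.elim_inl, map_pow, val_eq_exp P hf0, hf2, ← WithZero.exp_nsmul, nsmul_eq_mul]
      congr 1; push_cast; ring
    · simp only [v, o, Sum.elim_inr, map_mul, map_pow, val_eq_exp P hf0, hf2, val_eq_exp P hg0, hg3,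
        ← WithZero.exp_nsmul, ← WithZero.exp_add, nsmul_eq_mul]
      congr 1; push_cast; ring
  have hinj : Function.Injective o := by
    rintro (a | a) (b | b) hab <;> simp only [o, Sum.elim_inl, Sum.elim_inr] at hab
    · exact congrArg Sum.inl (Fin.ext (by omega))
    · omega
    · omega
    · exact congrArg Sum.inr (Fin.ext (by omega))
  have hmem : ∀ a, v a ∈ FunFld.L (Finsupp.single P (n : ℤ)) := by
    rintro (i | i)
    · refine L_mono ?_ (pow_mem_L hf (i : ℕ))
      rw [Finsupp.smul_single, nsmul_eq_mul]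
      exact Finsupp.single_mono (by have := i.2; push_cast; omega)
    · refine L_mono ?_ (mul_mem_L (pow_mem_L hf (i : ℕ)) hg)
      rw [Finsupp.smul_single, nsmul_eq_mul, ← Finsupp.single_add]
      exact Finsupp.single_mono (by have := i.2; push_cast; omega)
  have hLI : LinearIndependent k v := by
    rw [Fintype.linearIndependent_iff]
    intro c hc
    by_contra hne
    simp only [not_forall] at hne
    obtain ⟨i₀, hi₀, hmax⟩ := Finset.exists_max_image (Finset.univ.filter fun i => c i ≠ 0) o
      (by obtain ⟨i, hi⟩ := hne; exact ⟨i, by simpa using hi⟩)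
    have hi₀' : c i₀ ≠ 0 := (Finset.mem_filter.1 hi₀).2
    have h := congrArg P.1 hc
    rw [← Finset.add_sum_erase _ _ (Finset.mem_univ i₀), map_zero] at h
    have hv : P.1 (c i₀ • v i₀) = WithZero.exp (o i₀ : ℤ) := by
      rw [Algebra.smul_def, map_mul, val_const P hi₀', one_mul, hval]
    rw [P.1.map_add_eq_of_lt_left, hv] at h
    · exact WithZero.exp_ne_zero h
    rw [hv]
    refine P.1.map_sum_lt WithZero.exp_ne_zero fun i hi => ?_
    rcases eq_or_ne (c i) 0 with h0 | h0
    · rw [h0, zero_smul, map_zero]; exact zero_lt_iff.2 WithZero.exp_ne_zero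
    rw [Algebra.smul_def, map_mul, val_const P h0, one_mul, hval, WithZero.exp_lt_exp]
    have h1 := hmax i (Finset.mem_filter.2 ⟨Finset.mem_univ _, h0⟩)
    have h2 : o i₀ ≠ o i := fun e => (Finset.mem_erase.1 hi).1 (hinj e).symm
    omega
  refine ⟨hLI, ?_⟩
  haveI := finiteDimensional_L hK (Finsupp.single P (n : ℤ) : FunFld.Divisor k K)
  refine Submodule.eq_of_le_of_finrank_eq (Submodule.span_le.2 (Set.range_subset_iff.2 hmem)) ?_
  rw [finrank_span_eq_card hLI, Fintype.card_sum, Fintype.card_fin, Fintype.card_fin]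
  have h := ell_of_deg_large hK (D := Finsupp.single P (n : ℤ)) (by rw [deg_single, hP, hgen]; push_cast; omega)
  rw [deg_single, hP, hgen] at h
  change _ = FunFld.ell _
  push_cast at h
  omega

end Groth.Agent.S19396
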