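import Groth.Statements.S10997
import Groth.Agent.H23FunFld.Weil

set_option autoImplicit false
open FunFld

namespace Groth.Agent.S10997

/-- Given distinct places `P∞, P_1, …, P_n` of a function field of one variable, elements `x_i` and
integers `m_i`, some `x ∈ K` has `ord_{P_i}(x - x_i) = m_i` for all `i` and is integral outside
`{P∞, P_1, …, P_n}`. -/
theorem result (k K : Type*) [Field k] [Field K] [Algebra k K]
    (hK : FunFld.IsFunctionField k K) (Pinf : FunFld.Place k K) (n : ℕ) (P : Fin n → FunFld.Place k K) (hP : Function.Injective P)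
    (hinf : Pinf ∉ Set.range P) (x : Fin n → K) (m : Fin n → ℤ) :
    ∃ y : K, (∀ i, (P i).1 (y - x i) = WithZero.exp (-(m i))) ∧
      ∀ Q : FunFld.Place k K, Q ≠ Pinf → Q ∉ Set.range P → Q.1 y ≤ 1 := by
  classical
  obtain ⟨N, hN⟩ := H23FunFld.exists_large_deg hK
  have hex : ∀ i, ∃ t : K, (P i).1 t = WithZero.exp (-(m i)) :=
    fun i => (H23FunFld.exists_val_eq (P i) (-(m i))).imp fun _ h => h.2
  choose t ht using hex
  set D₁ : FunFld.Divisor k K := ∑ i, Finsupp.single (P i) (-(m i) - 1) with hD₁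
  set M : ℕ := (N - D₁.deg).toNat
  set D : FunFld.Divisor k K := D₁ + Finsupp.single Pinf (M : ℤ) with hD
  have hdeg : N ≤ D.deg := by
    have := H23FunFld.deg_pos hK Pinf
    rw [hD, H23FunFld.deg_add, H23FunFld.deg_single]
    have h2 : (M : ℤ) ≤ M * Pinf.deg := le_mul_of_one_le_right (Int.natCast_nonneg M) (by omega)
    omega
  let a : FunFld.Place k K → K :=
    fun Q => if hQ : ∃ i, P i = Q then x hQ.choose + t hQ.choose else 0
  have ha : a ∈ FunFld.adele k K := by
    change ∀ᶠ Q in Filter.cofinite, _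
    rw [Filter.eventually_cofinite]
    refine (Set.finite_range P).subset fun Q hQ => ?_
    by_contra hn
    refine hQ ?_
    simp only [a, dif_neg (show ¬ ∃ i, P i = Q from fun ⟨i, hi⟩ => hn ⟨i, hi⟩)]
    simp
  rw [← H23FunFld.adele_eq hK (hN D hdeg), Submodule.mem_sup] at ha
  obtain ⟨b, hb, _, ⟨y, rfl⟩, hab⟩ := ha
  have hval : ∀ Q, Q.1 (a Q - y) ≤ WithZero.exp (D Q) := fun Q => by
    rw [← hab]
    change Q.1 (b Q + y - y) ≤ _
    rw [add_sub_cancel_right]; exact hb Q
  refine ⟨y, fun i => ?_, fun Q hQ hQP => ?_⟩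
  · have h1 : a (P i) = x i + t i := by
      have he : ∃ j, P j = P i := ⟨i, rfl⟩
      simp only [a, dif_pos he, hP he.choose_spec]
    have hDi : D (P i) = -(m i) - 1 := by
      rw [hD, Finsupp.add_apply, hD₁, Finsupp.finsetSum_apply, Finset.sum_eq_single i]
      · rw [Finsupp.single_eq_same, Finsupp.single_eq_of_ne (fun h => hinf ⟨i, h⟩), add_zero]
      · intro j _ hj
        exact Finsupp.single_eq_of_ne (fun h => hj (hP h).symm)
      · simp
    have h2 := hval (P i)
    rw [h1, hDi] at h2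
    have h3 : (P i).1 (x i + t i - y) < (P i).1 (t i) := h2.trans_lt (by
      rw [ht i]; exact WithZero.exp_lt_exp.2 (by omega))
    rw [show y - x i = t i - (x i + t i - y) by ring, Valuation.map_sub_eq_of_lt_left _ h3, ht i]
  · have h1 : a Q = 0 := dif_neg (fun ⟨i, hi⟩ => hQP ⟨i, hi⟩)
    have hDQ : D Q = 0 := by
      rw [hD, Finsupp.add_apply, hD₁, Finsupp.finsetSum_apply, Finset.sum_eq_zero,
        Finsupp.single_eq_of_ne hQ, add_zero]
      intro j _
      exact Finsupp.single_eq_of_ne (fun h => hQP ⟨j, h.symm⟩)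
    have h2 := hval Q
    rwa [h1, hDQ, zero_sub, Valuation.map_neg, WithZero.exp_zero] at h2

end Groth.Agent.S10997
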