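import Groth.Statements.S1534
import Groth.Agent.H29Curve.PointSection
import Groth.Agent.H8Props.FlatDimOneBase
import Groth.Agent.H29DoubleCover.Hyperelliptic
import Groth.Agent.H12AlgSp.Codim

set_option autoImplicit false
universe u
open CategoryTheory CategoryTheory.Limits AlgebraicGeometry
open Curves

namespace Groth.Agent.S1534

/-- A proper scheme of dimension one over a field k whose global functions are k is connected, all of
its local rings are Cohen–Macaulay, and every irreducible component has dimension one. -/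
theorem result (k : Type u) [Field k] (X : Scheme.{u}) [X.Over (Spec (CommRingCat.of k))]
    [IsProper (X ↘ (Spec (CommRingCat.of k)))] (hdim : topologicalKrullDim X = 1) (h0 : Module.finrank k (Coh.HH X (Coh.structureModule X) 0) = 1) :
    ConnectedSpace X ∧ (∀ x : X, LocCoh.IsCohenMacaulayLocalRing (X.presheaf.stalk x)) ∧
      ∀ Z ∈ irreducibleComponents (X : Type u), topologicalKrullDim Z = 1 := by
  haveI : IsLocallyNoetherian X := LocallyOfFiniteType.isLocallyNoetherian (X ↘ Spec (CommRingCat.of k))
  haveI : CompactSpace X := QuasiCompact.compactSpace_of_compactSpace (X ↘ Spec (CommRingCat.of k))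
  haveI : IsNoetherian X := { }
  haveI : Nonempty X := by
    by_contra hne
    haveI := not_nonempty_iff.1 hne
    haveI : IsEmpty (TopologicalSpace.IrreducibleCloseds X) := ⟨fun s => isEmptyElim s.isIrreducible'.nonempty.some⟩
    rw [show topologicalKrullDim X = ⊥ from Order.krullDim_eq_bot] at hdim
    exact WithBot.bot_ne_one hdim
  haveI : Nonempty (⊤ : X.Opens) := ⟨⟨Classical.arbitrary X, trivial⟩⟩
  haveI : Nontrivial Γ(X, ⊤) := X.component_nontrivial ⊤
  let φ : k →+* Γ(X, ⊤) := H10Coh.globA (A := k) (X := X)
  have hsurj : ∀ a : Γ(X, ⊤), ∃ c : k, φ c = a := by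
    intro a
    let x₀ : Coh.HH X (Coh.structureModule X) 0 := (H29RR.sec _).symm (1 : Γ(X, ⊤))
    have hx₀ : x₀ ≠ 0 := fun h => one_ne_zero (α := Γ(X, ⊤))
      ((H29RR.sec (Coh.structureModule X)).symm.injective (h.trans (map_zero _).symm))
    obtain ⟨c, hc⟩ := exists_smul_eq_of_finrank_eq_one h0 hx₀ ((H29RR.sec _).symm a)
    refine ⟨c, ?_⟩
    have h := congrArg (H29RR.sec (Coh.structureModule X)) hc
    rw [H29RR.sec_smul, AddEquiv.apply_symm_apply, AddEquiv.apply_symm_apply] at h
    rw [← h]
    exact (mul_one (φ c)).symm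
  let e := RingEquiv.ofBijective φ ⟨φ.injective, hsurj⟩
  haveI : _root_.IsReduced Γ(X, ⊤) := isReduced_of_injective e.symm e.symm.injective
  haveI : GeometricallyConnected (X ↘ Spec (CommRingCat.of k)) := by
    rw [H8Props.Stein.geometricallyConnected_field_iff k]
    refine ⟨e.isLocalRing, ?_, fun a => ?_⟩
    · rw [← ringKrullDim_eq_of_ringEquiv e]
      exact ringKrullDim_eq_zero_of_field k
    · obtain ⟨c, rfl⟩ := hsurj a
      refine ⟨0, c, ?_⟩
      rw [pow_zero, pow_one]
      exact ⟨1, (pow_one _).trans (sub_self _)⟩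
  haveI hconn : ConnectedSpace X := GeometricallyConnected.geometrically_connectedSpace
    (f := X ↘ Spec (CommRingCat.of k)) (𝟙 (Spec (CommRingCat.of k))) (𝟙 X) (X ↘ Spec (CommRingCat.of k))
    (IsPullback.of_horiz_isIso ⟨by simp⟩)
  refine ⟨hconn, fun x => ?_, fun Z hZ => ?_⟩
  · by_cases hx : IsClosed ({x} : Set X)
    · exact H29Curve.PointSection.isCM_of_isReduced_globalSections x hx
        ((H8Props.FlatDimOneBase.ringKrullDim_stalk_le X x).trans hdim.le)
    refine H13CI.isCM_of_dim_zero _ ((H12AlgSp.ringKrullDim_stalk_eq_zero_iff x).2 ?_)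
    by_contra hg
    obtain ⟨y, hy, hyx⟩ : ∃ y ∈ closure ({x} : Set X), y ≠ x := by
      by_contra hh
      push Not at hh
      exact hx (closure_subset_iff_isClosed.1 fun y hy => hh y hy)
    obtain ⟨z, hz, hzx⟩ : ∃ z : X, z ⤳ x ∧ z ≠ x := by
      obtain ⟨W, hW, hxW⟩ : ∃ W ∈ irreducibleComponents (X : Type u), x ∈ W :=
        ⟨irreducibleComponent x, irreducibleComponent_mem_irreducibleComponents x, mem_irreducibleComponent⟩
      obtain ⟨w, hw⟩ := QuasiSober.sober hW.1 (isClosed_of_mem_irreducibleComponents W hW)
      refine ⟨w, hw.specializes hxW, fun e => hg ?_⟩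
      subst e
      rw [genericPoints, Set.mem_setOf_eq, (hw : closure {w} = W)]
      exact hW
    let I : X → TopologicalSpace.IrreducibleCloseds X := fun t =>
      ⟨closure {t}, isIrreducible_singleton.closure, isClosed_closure⟩
    have hlt : ∀ a b : X, b ⤳ a → b ≠ a → I a < I b := fun a b h hne => by
      refine lt_of_le_of_ne (closure_minimal (Set.singleton_subset_iff.2 (specializes_iff_mem_closure.1 h)) isClosed_closure) fun e => ?_
      have e' : closure ({a} : Set X) = closure {b} := congrArg (fun t : TopologicalSpace.IrreducibleCloseds X => (t : Set X)) e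
      exact hne ((inseparable_iff_closure_eq.2 e'.symm).eq)
    let s : LTSeries (TopologicalSpace.IrreducibleCloseds X) :=
      RelSeries.fromListIsChain [I y, I x, I z] (by simp)
        (List.isChain_cons_cons.mpr ⟨hlt y x (specializes_iff_mem_closure.2 hy) (Ne.symm hyx),
          List.isChain_cons_cons.mpr ⟨hlt x z hz hzx, List.isChain_singleton _⟩⟩)
    have := (Order.LTSeries.length_le_krullDim s).trans hdim.le
    norm_cast at this
  · refine le_antisymm (((Topology.IsInducing.subtypeVal).topologicalKrullDim_le).trans hdim.le) ?_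
    obtain ⟨w, hw⟩ := QuasiSober.sober hZ.1 (isClosed_of_mem_irreducibleComponents Z hZ)
    by_contra hlt
    have hsingle : Z = {w} := by
      refine Set.Subset.antisymm (fun y hy => ?_) (Set.singleton_subset_iff.2 hw.mem)
      by_contra hne
      refine hlt ?_
      haveI : Nonempty Z := ⟨⟨w, hw.mem⟩⟩
      let I : Z → TopologicalSpace.IrreducibleCloseds Z := fun t =>
        ⟨closure {t}, isIrreducible_singleton.closure, isClosed_closure⟩
      have hle : I ⟨y, hy⟩ < I ⟨w, hw.mem⟩ := by
        refine lt_of_le_of_ne (closure_minimal (Set.singleton_subset_iff.2 (specializes_iff_mem_closure.1 ((subtype_specializes_iff _ _).2 (hw.specializes hy)))) isClosed_closure) fun e => ?_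
        have e' : closure ({⟨y, hy⟩} : Set Z) = closure {⟨w, hw.mem⟩} := congrArg (fun t : TopologicalSpace.IrreducibleCloseds Z => (t : Set Z)) e
        exact hne (congrArg Subtype.val (inseparable_iff_closure_eq.2 e').eq)
      let s : LTSeries (TopologicalSpace.IrreducibleCloseds Z) :=
        RelSeries.fromListIsChain [I ⟨y, hy⟩, I ⟨w, hw.mem⟩] (by simp)
          (List.isChain_cons_cons.mpr ⟨hle, List.isChain_singleton _⟩)
      have hl := Order.LTSeries.length_le_krullDim s
      show (1 : WithBot ℕ∞) ≤ Order.krullDim (TopologicalSpace.IrreducibleCloseds Z)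
      exact (show ((1 : ℕ) : WithBot ℕ∞) ≤ _ from hl)
    have hopen : IsOpen Z := by
      have hcl : IsClosed (⋃₀ (irreducibleComponents (X : Type u) \ {Z})) := by
        rw [Set.sUnion_eq_biUnion]
        exact ((TopologicalSpace.NoetherianSpace.finite_irreducibleComponents).sdiff).isClosed_biUnion
          fun W hW => isClosed_of_mem_irreducibleComponents W hW.1
      have : Z = (⋃₀ (irreducibleComponents (X : Type u) \ {Z}))ᶜ := by
        ext y
        constructor
        · intro hy ⟨W, ⟨hW, hne⟩, hyW⟩
          refine hne (hZ.eq_of_subset hW.1 ?_).symm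
          rw [hsingle] at hy ⊢
          exact Set.singleton_subset_iff.2 ((Set.mem_singleton_iff.1 hy) ▸ hyW)
        · intro hy
          by_contra hyZ
          exact hy ⟨irreducibleComponent y, ⟨irreducibleComponent_mem_irreducibleComponents y,
            fun e => hyZ (e ▸ mem_irreducibleComponent)⟩, mem_irreducibleComponent⟩
      rw [this]; exact hcl.isOpen_compl
    have huniv : Z = Set.univ := (IsClopen.eq_univ ⟨isClosed_of_mem_irreducibleComponents Z hZ, hopen⟩ ⟨w, hw.mem⟩)
    haveI : Subsingleton X := ⟨fun a b => by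
      have ha : a ∈ Z := huniv ▸ Set.mem_univ a
      have hb : b ∈ Z := huniv ▸ Set.mem_univ b
      rw [hsingle] at ha hb
      exact ha.trans hb.symm⟩
    haveI : Subsingleton (TopologicalSpace.IrreducibleCloseds X) := ⟨fun a b => TopologicalSpace.IrreducibleCloseds.ext
      ((Subsingleton.eq_univ_of_nonempty a.isIrreducible'.nonempty).trans (Subsingleton.eq_univ_of_nonempty b.isIrreducible'.nonempty).symm)⟩
    have : topologicalKrullDim X ≤ 0 := Order.krullDim_nonpos_of_subsingleton
    rw [hdim] at this
    exact absurd this (by decide)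

end Groth.Agent.S1534
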