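import Groth.Statements.S12516
import Mathlib
import Groth.Agent.H23Hyp.RatPlaces
import Groth.Agent.H23Hyp.Ramify
import Groth.Agent.H23Hyp.Quadratic
import Groth.Agent.H23Ext.Conorm

set_option autoImplicit false
open FunFld

namespace Groth.Agent.S12516

/-- Let `char k ≠ 2`, `K` of degree `2` over `k(x)`, `y ∈ K` with `y² = f(x)` for a squarefree
polynomial `f` of degree `≥ 1`, and `P∞` the place of `k(x)` at which `x` has a pole. If `deg f` is
odd there is a unique place of `K` above `P∞`; it has ramification index `2` and degree `1`. If `deg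
f` is even, every place of `K` above `P∞` is unramified and the conorm of `P∞` has degree `2` (so it
is one place of degree `2` or the sum of two places of degree `1`). -/
theorem result (k K : Type*) [Field k] [Field K] (h2 : ringChar k ≠ 2) [Algebra k K]
    [Algebra (RatFunc k) K] [IsScalarTower k (RatFunc k) K]
    (hdeg : Module.finrank (RatFunc k) K = 2) (y : K) (f : Polynomial k) (hf : Squarefree f)
    (hd : 1 ≤ f.natDegree)
    (heq : y ^ 2 = algebraMap (RatFunc k) K (algebraMap (Polynomial k) (RatFunc k) f))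
    (Pinf : FunFld.Place k (RatFunc k)) (hinf : Pinf.ord (RatFunc.X : RatFunc k) < 0) :
    (Odd f.natDegree → (∃! P : FunFld.Place k K, FunFld.IsOver P Pinf) ∧
      ∀ P : FunFld.Place k K, FunFld.IsOver P Pinf → FunFld.IsOverWith P Pinf 2 ∧ P.deg = 1) ∧
    (Even f.natDegree → (FunFld.conorm K (Finsupp.single Pinf 1)).deg = 2 ∧
      ∀ P : FunFld.Place k K, FunFld.IsOver P Pinf → FunFld.IsOverWith P Pinf 1) := by
  classical
  haveI : FiniteDimensional (RatFunc k) K := Module.finite_of_finrank_pos (hdeg ▸ two_pos)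
  haveI := ringChar.charP k
  haveI : CharP K (ringChar k) := charP_of_injective_algebraMap (algebraMap k K).injective _
  have h2K : (2 : K) ≠ 0 := Ring.two_ne_zero (by rwa [ringChar.eq K (ringChar k)])
  have hF := Groth.Agent.H23Hyp.isFunctionField_ratFunc k
  set F := algebraMap (Polynomial k) (RatFunc k) f with hFdef
  have hf0 : f ≠ 0 := fun h => by rw [h] at hd; simp at hd
  have hF0 : F ≠ 0 := RatFunc.algebraMap_ne_zero hf0
  have hy0 : y ≠ 0 := fun h => by
    rw [h, zero_pow two_ne_zero] at heq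
    exact (map_ne_zero (algebraMap (RatFunc k) K)).2 hF0 heq.symm
  have hord : ∀ (P : FunFld.Place k K) (p : FunFld.Place k (RatFunc k)) (e : ℕ), FunFld.IsOverWith P p e →
      2 * P.ord y = (e : ℤ) * p.ord F := fun P p e he => by
    rw [← Groth.Agent.H23Ext.IsOverWith.ord_eq he, ← heq, pow_two, Groth.Agent.H23FunFld.ord_mul P hy0 hy0, two_mul]
  obtain ⟨hX1, hPdeg⟩ := Groth.Agent.H23Hyp.infty_facts Pinf hinf
  have hFd := Groth.Agent.H23Hyp.ord_poly_infty Pinf hinf hf0
  rw [← hFdef] at hFd
  refine ⟨fun hodd => ?_, fun heven => ?_⟩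
  · have key : ∀ P : FunFld.Place k K, FunFld.IsOver P Pinf → FunFld.IsOverWith P Pinf 2 ∧ P.deg = 1 ∧
        ∀ R : FunFld.Place k K, FunFld.IsOver R Pinf → R = P := fun P ⟨e, he⟩ => by
      have h1 := hord P Pinf e he
      obtain ⟨he2, hun⟩ := Groth.Agent.H23Hyp.ram_le_two hF he hdeg
      have he1 := Groth.Agent.H23Ext.IsOverWith.pos he
      obtain ⟨q, hq⟩ := hodd
      rw [hFd, hq] at h1
      push_cast at h1
      obtain rfl : e = 2 := by interval_cases e <;> omega
      exact ⟨he, (hun rfl).1.trans hPdeg, (hun rfl).2⟩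
    refine ⟨?_, fun P hP => ⟨(key P hP).1, (key P hP).2.1⟩⟩
    obtain ⟨P, hP⟩ := Groth.Agent.H23Ext.exists_above (K' := K) hF Pinf
    exact ⟨P, hP, fun R hR => (key P hP).2.2 R hR⟩
  · refine ⟨?_, fun P hP => ?_⟩
    · rw [Groth.Agent.H23Ext.deg_conorm hF, Groth.Agent.H23FunFld.deg_single, hdeg, hPdeg]
      norm_num
    obtain ⟨e, he⟩ := hP
    obtain ⟨he2, -⟩ := Groth.Agent.H23Hyp.ram_le_two hF he hdeg
    have he1 := Groth.Agent.H23Ext.IsOverWith.pos he
    by_cases h : e = 1
    · exact h ▸ he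
    exfalso
    obtain ⟨q, hq⟩ := heven
    have hynot : y ∉ Set.range (algebraMap (RatFunc k) K) := by
      rintro ⟨c, hc⟩
      have hcF : c ^ 2 = F := (algebraMap (RatFunc k) K).injective (by rw [map_pow, hc, heq])
      obtain ⟨g, hg⟩ := IsIntegrallyClosed.isIntegral_iff.1
        (IsIntegral.of_pow (R := Polynomial k) two_pos (hcF ▸ isIntegral_algebraMap) : IsIntegral (Polynomial k) c)
      have hgf : g * g = f := RatFunc.algebraMap_injective k (by rw [map_mul, hg, ← pow_two, hcF])
      have := Polynomial.natDegree_eq_zero_of_isUnit (hf g (dvd_of_eq hgf))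
      rw [← hgf, Polynomial.natDegree_mul (fun h0 => hf0 (by rw [← hgf, h0, zero_mul]))
        (fun h0 => hf0 (by rw [← hgf, h0, zero_mul]))] at hd
      omega
    obtain ⟨σ, hσ⟩ := Groth.Agent.H23Hyp.exists_conj hdeg hynot (a := 0) (b := -F)
      (by rw [map_zero, zero_mul, add_zero, map_neg, heq, add_neg_cancel])
    rw [map_zero, neg_zero, zero_sub] at hσ
    set c := ((RatFunc.X : RatFunc k) ^ q)⁻¹
    have hc0 : c ≠ 0 := inv_ne_zero (pow_ne_zero _ RatFunc.X_ne_zero)
    have hcord : Pinf.ord c = (q : ℤ) := by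
      have hv : Pinf.1 (RatFunc.X : RatFunc k) = WithZero.exp 1 := by
        rw [Groth.Agent.H23FunFld.val_eq_exp Pinf RatFunc.X_ne_zero, hX1]; rfl
      have hv2 : Pinf.1 c = WithZero.exp (-(q : ℤ)) := by
        rw [map_inv₀, map_pow, hv, ← WithZero.exp_nsmul, ← WithZero.exp_neg]
        congr 1
        simp
      rw [FunFld.Place.ord, hv2, WithZero.log_exp, neg_neg]
    set z := y * algebraMap (RatFunc k) K c
    have hc0' : algebraMap (RatFunc k) K c ≠ 0 := (map_ne_zero _).2 hc0
    have hzord : P.ord z = 0 := by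
      have h1 := hord P Pinf e he
      rw [hFd, hq] at h1
      rw [Groth.Agent.H23FunFld.ord_mul P hy0 hc0', Groth.Agent.H23Ext.IsOverWith.ord_eq he, hcord]
      push_cast at h1
      linarith
    have hz1 : P.1 z = 1 := by
      rw [Groth.Agent.H23FunFld.val_eq_exp P (mul_ne_zero hy0 hc0'), hzord, neg_zero, WithZero.exp_zero]
    have hlt := Groth.Agent.H23Hyp.val_conj_sub_lt hF he hdeg (by omega) σ hz1.le
    have e1 : σ z - z = algebraMap k K (-2) * z := by
      simp only [z, map_mul, σ.commutes, hσ, map_neg, map_ofNat]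
      ring
    have h2k : (-2 : k) ≠ 0 := neg_ne_zero.2 (Ring.two_ne_zero (by rwa [ringChar.eq k (ringChar k)]))
    rw [e1, map_mul, Groth.Agent.H23FunFld.val_const P h2k, hz1, one_mul] at hlt
    exact lt_irrefl _ hlt

end Groth.Agent.S12516
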