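import Groth.Statements.S12620
import Mathlib

set_option autoImplicit false
universe u v w
open LocRes

namespace Groth.Agent.S12620

/-- Let `K` be a field with a valuation `w` into `ℤ ∪ {0}` and `φ : K → F((X))` a `k`-algebra expansion
at `w` in a local parameter (valuation-compatible, valuation ring onto the coefficient field `F`,
`w` normalised). Then for every nonzero `f` the residue of the logarithmic differential `f⁻¹ df`
read through `φ` — the `X⁻¹`-coefficient of `φ(f)⁻¹ · (φ f)′` — is the order of `f` at `w` (the
integer `n` with `w f = exp (-n)`), viewed in `F`. (The published statement is for a complete field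
with a perfect coefficient field and its intrinsic residue; read through an expansion neither
completeness nor perfectness plays a role.) -/
theorem result {k : Type u} {K : Type v} {F : Type w} [CommRing k] [Field K] [Field F]
    [Algebra k K] [Algebra k F]
    (w : Valuation K (WithZero (Multiplicative ℤ))) (φ : K →ₐ[k] LaurentSeries F)
    (hφ : LocRes.IsExpansionAt w φ) (f : K) (hf : f ≠ 0) :
    LocRes.resExp φ f⁻¹ f = ((-WithZero.log (w f) : ℤ) : F) := by
  obtain ⟨n, hn⟩ : ∃ n : ℤ, n = -WithZero.log (w f) := ⟨_, rfl⟩
  rw [← hn]
  have hwf : w f = WithZero.exp (-n) := by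
    rw [hn, neg_neg, WithZero.exp_log (by simpa using hf)]
  have hv : Valued.v (HahnSeries.single (-n) (1 : F) * φ f) = (1 : WithZero (Multiplicative ℤ)) := by
    rw [map_mul, LaurentSeries.valuation_single_zpow, hφ.1, hwf, ← WithZero.exp_add]
    simp
  obtain ⟨U, hU⟩ := (LaurentSeries.val_le_one_iff_eq_coe F _).1 hv.le
  have hf' : φ f = HahnSeries.single n (1 : F) * (U : LaurentSeries F) := by
    rw [hU, ← mul_assoc, HahnSeries.single_mul_single, add_neg_cancel, one_mul]
    exact (one_mul _).symm
  have h0 : PowerSeries.constantCoeff U ≠ 0 := by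
    intro h
    rw [← hU] at hv
    have : Valued.v (U : LaurentSeries F) ≤ WithZero.exp (-((1 : ℕ) : ℤ)) :=
      (LaurentSeries.intValuation_le_iff_coeff_lt_eq_zero F U).2 fun m hm => by
        rw [show m = 0 by omega, PowerSeries.coeff_zero_eq_constantCoeff, h]
    rw [hv, ← WithZero.exp_zero, WithZero.exp_le_exp] at this
    omega
  have hUne : (U : LaurentSeries F) ≠ 0 := fun h => by
    rw [← hU, h, map_zero] at hv
    exact zero_ne_one hv
  have hinv : (U : LaurentSeries F)⁻¹ = ((U⁻¹ : PowerSeries F) : LaurentSeries F) :=
    inv_eq_of_mul_eq_one_right (by rw [← PowerSeries.coe_mul, PowerSeries.mul_inv_cancel _ h0, PowerSeries.coe_one])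
  rw [LocRes.resExp, map_inv₀, LocRes.res_apply, hf', LocRes.D_apply, LocRes.derivative_single_mul]
  have e : (HahnSeries.single n (1 : F) * (U : LaurentSeries F))⁻¹ *
      (HahnSeries.single n (1 : F) * LaurentSeries.derivative F (U : LaurentSeries F) +
        HahnSeries.single (n - 1) (n • (1 : F)) * (U : LaurentSeries F)) =
      ((U⁻¹ * PowerSeries.derivative F U : PowerSeries F) : LaurentSeries F) +
        HahnSeries.single (-1) (n : F) := by
    rw [PowerSeries.coe_mul, ← hinv, ← LocRes.derivative_coe, zsmul_one]
    have hs : HahnSeries.single (n - 1) (n : F) = HahnSeries.single n (1 : F) * HahnSeries.single (-1) (n : F) := by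
      rw [HahnSeries.single_mul_single, one_mul, sub_eq_add_neg]
    rw [hs]
    have : HahnSeries.single n (1 : F) ≠ 0 := HahnSeries.single_ne_zero one_ne_zero
    field_simp
  rw [e, HahnSeries.coeff_add, PowerSeries.coeff_coe, HahnSeries.coeff_single_same]
  simp

end Groth.Agent.S12620
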