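-- statement Lim8.GrothFrozen.S4788 (Groth/Statements/S4788.lean; the theorem Lim8.exists_module_finitePresentation_descend);
import Groth.Statements.S4788
import Groth.Agent.H7Lim.ModHom

set_option autoImplicit false
universe u
open CategoryTheory AlgebraicGeometry
open Lim8

namespace Groth.Agent.S4788
set_option backward.isDefEq.respectTransparency false

/-- Let S = lim S_i be a cofiltered limit of schemes with affine transition maps, some stage S_{i₀}
being quasi-compact and quasi-separated. Then every quasi-coherent O_S-module of finite presentation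
F is isomorphic to the pullback along S ⟶ S_i of a quasi-coherent O_{S_i}-module of finite
presentation, for some index i over i₀ (only the existence of an isomorphism is asserted, as in the
published statement). -/
theorem result {I : Type u} [SmallCategory I] [IsCofiltered I]
    (D : I ⥤ Scheme.{u}) (c : Limits.Cone D) (hc : Limits.IsLimit c)
    [∀ (i j : I) (f : i ⟶ j), IsAffineHom (D.map f)] (i₀ : I)
    [CompactSpace (D.obj i₀)] [QuasiSeparatedSpace (D.obj i₀)] (F : c.pt.Modules)
    [Coh.IsQCoh F] (hFfp : CohB1.IsFP F) :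
    ∃ (i : I) (_ : i ⟶ i₀) (Fi : (D.obj i).Modules), Coh.IsQCoh Fi ∧ CohB1.IsFP Fi ∧
      Nonempty ((Scheme.Modules.pullback (c.π.app i)).obj Fi ≅ F) := by
  obtain ⟨P, q, hP, hq⟩ := H7Lim.ModHom.exists_pullback_epi hc (i₀ := i₀) ‹_› (H29Fitt.isFT_of_isFP F hFfp)
  haveI := hq
  obtain ⟨j, φ, Gj, hGq, -, e, hGp, -, -⟩ := H7Lim.ModHom.exists_quotient hc hP ‹_› hFfp q
  exact ⟨j, φ, Gj, hGq, hGp, ⟨e⟩⟩

end Groth.Agent.S4788
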