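import Groth.Statements.S14204
import Groth.Agent.H16Derived.ProjFormula.Map
import Groth.Agent.H10Coh.Stab.TwistInt

set_option autoImplicit false
universe u
open CategoryTheory CategoryTheory.Limits AlgebraicGeometry
open ASBun

namespace Groth.Agent.S14204

section

variable {Y : Scheme.{u}}

/-- `A ⊗ B^{⊕ s} ≅ (A ⊗ B)^{⊕ s}`. -/
theorem tensor_pow_right (A B : Y.Modules) (s : ℕ) :
    Nonempty (CohB1.tensorMod A (BrSev.pow B s) ≅ BrSev.pow (CohB1.tensorMod A B) s) :=
  let T := (DCoh.tensorBi (X := Y)).obj A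
  ⟨(PreservesCoproduct.iso T (fun _ : Fin s => B) : T.obj (∐ fun _ : Fin s => B) ≅ ∐ fun _ => T.obj B)⟩

/-- `A^{⊕ r} ⊗ B ≅ (A ⊗ B)^{⊕ r}`. -/
theorem tensor_pow_left (A B : Y.Modules) (r : ℕ) :
    Nonempty (CohB1.tensorMod (BrSev.pow A r) B ≅ BrSev.pow (CohB1.tensorMod A B) r) :=
  let T := (DCoh.tensorBi (X := Y)).flip.obj B
  ⟨(PreservesCoproduct.iso T (fun _ : Fin r => A) : T.obj (∐ fun _ : Fin r => A) ≅ ∐ fun _ => T.obj A)⟩

/-- `(A^{⊕ s})^{⊕ r} ≅ A^{⊕ rs}`. -/
noncomputable def powPow (A : Y.Modules) (r s : ℕ) : BrSev.pow (BrSev.pow A s) r ≅ BrSev.pow A (r * s) :=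
  sigmaSigmaIso (fun (_ : Fin r) => Fin s) (fun _ _ => A) ≪≫
    Sigma.whiskerEquiv ((Equiv.sigmaEquivProd (Fin r) (Fin s)).trans finProdFinEquiv) (fun _ => Iso.refl A)

/-- `A^{⊕ r} ⊗ B^{⊕ s} ≅ C^{⊕ rs}` when `A ⊗ B ≅ C`. -/
theorem tensor_pow_pow (A B C : Y.Modules) (e : CohB1.tensorMod A B ≅ C) (r s : ℕ) :
    Nonempty (CohB1.tensorMod (BrSev.pow A r) (BrSev.pow B s) ≅ BrSev.pow C (r * s)) := by
  obtain ⟨a⟩ := tensor_pow_left A (BrSev.pow B s) r
  obtain ⟨b⟩ := tensor_pow_right A B s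
  exact ⟨a ≪≫ Sigma.mapIso (fun _ => b) ≪≫ powPow _ r s ≪≫ Sigma.mapIso (fun _ => e)⟩

end

/-- Let X be a scheme over a field k, K a field extension of k, e a K-isomorphism X_K ≅ P^n_K with
O_e(j) the pullback of O(j) along e, and W, W' two O_X-modules with W_K ≅ O_e(j)^{⊕r} and W'_K ≅
O_e(l)^{⊕s} for integers j, l and natural numbers r, s. Then the tensor product W ⊗_{O_X} W'
satisfies (W ⊗ W')_K ≅ O_e(j + l)^{⊕rs}: the tensor product of absolutely rank-one-isotypical
modules of twisting types O(j) and O(l) is absolutely rank-one-isotypical of type O(j + l), in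
particular absolutely split. (The published statement is for the indecomposable modules of types
O(j) and O(l) on a Severi–Brauer variety with K an algebraic closure; the argument uses only the
displayed decompositions.) -/
theorem result (k : Type u) [Field k] {X : Scheme.{u}}
    (f : X ⟶ Spec (CommRingCat.of k)) (n : ℕ)
    (K : Type u) [Field K] [Algebra k K] (e : BrSev.Splitting f K n) (j l : ℤ) (r s : ℕ)
    (W W' : X.Modules) (hWt : BrSev.IsTwPow e j r W) (hW't : BrSev.IsTwPow e l s W') :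
    BrSev.IsTwPow e (j + l) (r * s) (CohB1.tensorMod W W') := by
  obtain ⟨a⟩ := hWt
  obtain ⟨b⟩ := hW't
  let c : BrSev.bcMod f K (CohB1.tensorMod W W') ≅ CohB1.tensorMod (BrSev.bcMod f K W) (BrSev.bcMod f K W') :=
    (H16Derived.KFlat.Stalk.pullTensorLIso (BrSev.proj f K) W').app W
  let d : CohB1.tensorMod (e.twist j) (e.twist l) ≅ e.twist (j + l) :=
    ((H16Derived.KFlat.Stalk.pullTensorLIso e.iso.hom (Twist.twistProjSpace n K l)).app
      (Twist.twistProjSpace n K j)).symm ≪≫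
      (Scheme.Modules.pullback e.iso.hom).mapIso ((H10Coh.Stab.isTwistFamily_projSpace n K).add j l).some
  obtain ⟨g⟩ := tensor_pow_pow (e.twist j) (e.twist l) _ d r s
  exact ⟨c ≪≫ PicGrp.tensorModIso a b ≪≫ g⟩

end Groth.Agent.S14204
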