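import Groth.Statements.S4717
import Groth.Agent.H05EGA4.Topo
import Mathlib.AlgebraicGeometry.Morphisms.Finite
import Mathlib.AlgebraicGeometry.ZariskisMainTheorem

set_option autoImplicit false
set_option backward.isDefEq.respectTransparency.types false
universe u
open EGA4

open Groth.Agent.H05EGA4 Topology TopologicalSpace

namespace Groth.Agent.S4717

open AlgebraicGeometry CategoryTheory in
/-- Let f : X → Y be a finite morphism of locally Noetherian schemes. Then dim X equals the dimension of
the image f(X); in particular if f is surjective then dim X = dim Y. -/
theorem result {X Y : Scheme.{u}} (f : X ⟶ Y) [IsLocallyNoetherian X] [IsLocallyNoetherian Y]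
    [IsFinite f] :
    topologicalKrullDim X = topologicalKrullDim (Set.range f.base) ∧
      (Function.Surjective f.base → topologicalKrullDim X = topologicalKrullDim Y) := by
  have hr : IsClosed (Set.range f.base) := f.isClosedMap.isClosed_range
  have : QuasiSober (Set.range f.base) := hr.isClosedEmbedding_subtypeVal.quasiSober
  have disc : ∀ a b : X, a ⤳ b → f.base a = f.base b → a = b := fun a b => eq_of_specializes_of_fibre f
  constructor
  · refine le_antisymm (dim_le_of_fibre_discrete (f := Set.rangeFactorization f.base) (by fun_prop)
      fun a b hab e => disc a b hab (congrArg Subtype.val e)) ?_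
    refine dim_le_of_lift (f := Set.rangeFactorization f.base) (by fun_prop) Set.rangeFactorization_surjective
      (Or.inl (IsClosedMap.specializingMap ?_))
    exact f.isClosedMap.subtype_mk _
  · exact fun hs => le_antisymm (dim_le_of_fibre_discrete f.continuous disc)
      (dim_le_of_lift f.continuous hs (Or.inl f.isClosedMap.specializingMap))


end Groth.Agent.S4717
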