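import Groth.Statements.S15383
import Groth.Prelude.Def_GmPts
import Groth.Agent.H8Props.WeilRes.MorS

set_option autoImplicit false
universe u
open GmDual

namespace Groth.Agent.S15383

open CategoryTheory CategoryTheory.Limits AlgebraicGeometry Opposite TopologicalSpace

set_option backward.isDefEq.respectTransparency false

open Groth.Agent.H8Props.WeilRes in
theorem free_appTop {X X' : Scheme.{u}} (f : X' ⟶ X) (T : Over X) (V : T.left.Opens)
    (hV : V ∈ FreeOpens (pullback.fst T.hom f)) :
    letI : Algebra Γ(V.toScheme, ⊤) Γ(pullback (Over.mk (V.ι ≫ T.hom) : Over X).hom f, ⊤) :=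
      (pullback.fst (Over.mk (V.ι ≫ T.hom) : Over X).hom f).appTop.hom.toAlgebra
    Module.Free Γ(V.toScheme, ⊤) Γ(pullback (Over.mk (V.ι ≫ T.hom) : Over X).hom f, ⊤) := by
  obtain ⟨hVa, ι, _, e, he⟩ := hV
  let π : (Over.mk (V.ι ≫ T.hom) : Over X) ⟶ T := Over.homMk V.ι rfl
  have hsq := isPullback_pullback_map f π
  let g := pullback.fst T.hom f
  let q := pullback.fst (Over.mk (V.ι ≫ T.hom) : Over X).hom f
  let iso : pullback (Over.mk (V.ι ≫ T.hom) : Over X).hom f ≅ (g ⁻¹ᵁ V).toScheme :=
    hsq.isoPullback ≪≫ pullbackRestrictIsoRestrict g V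
  have hfac : iso.hom ≫ (g ∣_ V) = q := by
    rw [← cancel_mono V.ι, Category.assoc, morphismRestrict_ι]
    simp only [iso, Iso.trans_hom, Category.assoc, pullbackRestrictIsoRestrict_hom_ι_assoc]
    erw [IsPullback.isoPullback_hom_fst_assoc, hsq.w]
    rfl
  let α : Γ(pullback T.hom f, g ⁻¹ᵁ V) ≅ Γ(pullback (Over.mk (V.ι ≫ T.hom) : Over X).hom f, ⊤) :=
    (g ⁻¹ᵁ V).topIso.symm ≪≫ asIso iso.hom.appTop
  have hα : V.topIso.inv ≫ q.appTop = g.app V ≫ α.hom := by
    rw [← hfac, Scheme.Hom.comp_appTop, ← Category.assoc]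
    show (V.topIso.inv ≫ (g ∣_ V).appTop) ≫ iso.hom.appTop =
      g.app V ≫ (g ⁻¹ᵁ V).topIso.inv ≫ iso.hom.appTop
    rw [← Category.assoc]
    congr 1
    rw [Scheme.Hom.appTop, morphismRestrict_app', Scheme.Opens.topIso_inv,
      Scheme.Opens.topIso_inv, ← Scheme.Hom.appLE_eq_app, Scheme.Hom.map_appLE,
      Scheme.Hom.appLE_map]
    rfl
  letI : Algebra Γ(V.toScheme, ⊤) Γ(pullback (Over.mk (V.ι ≫ T.hom) : Over X).hom f, ⊤) := q.appTop.hom.toAlgebra
  have hb : Function.Bijective fun r : ι → Γ(V.toScheme, ⊤) => ∑ i, r i • α.hom (e i) := by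
    have h1 : (fun r : ι → Γ(V.toScheme, ⊤) => ∑ i, r i • α.hom (e i)) =
        (α.commRingCatIsoToRingEquiv : _ → _) ∘ (fun r : ι → Γ(T.left, V) => ∑ i, g.app V (r i) * e i) ∘
          fun r i => V.topIso.hom (r i) := by
      funext r
      show _ = α.hom (∑ i, g.app V (V.topIso.hom (r i)) * e i)
      rw [map_sum]
      refine Finset.sum_congr rfl fun i _ => ?_
      rw [map_mul, Algebra.smul_def]
      congr 1
      show q.appTop (r i) = _
      rw [← ConcreteCategory.comp_apply (g.app V), ← hα, ConcreteCategory.comp_apply,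
        ← ConcreteCategory.comp_apply V.topIso.hom, Iso.hom_inv_id]
      rfl
    rw [h1]
    exact α.commRingCatIsoToRingEquiv.bijective.comp (he.comp
      (Function.Bijective.piMap fun _ => V.topIso.commRingCatIsoToRingEquiv.bijective))
  let lin : (ι → Γ(V.toScheme, ⊤)) →ₗ[Γ(V.toScheme, ⊤)] Γ(pullback (Over.mk (V.ι ≫ T.hom) : Over X).hom f, ⊤) :=
    Fintype.linearCombination Γ(V.toScheme, ⊤) (fun i => α.hom (e i))
  have hlin : Function.Bijective lin := hb
  exact Module.Free.of_equiv (LinearEquiv.ofBijective lin hlin)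

open CategoryTheory AlgebraicGeometry in
/-- Let f : X' ⟶ X be a finite flat morphism of Noetherian schemes (so finite locally free). A morphism
of abelian sheaves N : f_* 𝔾_{m,X'} ⟶ 𝔾_{m,X} on the big fppf site of X is called a norm map of f
when, on every affine test scheme T over X for which the functions of T ×_X X' form a finite free
algebra over those of T, it sends an invertible function on T ×_X X' to the determinant of
multiplication by it. Two norm maps of f are equal: a norm map is determined by its affine-local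
description by determinants. -/
theorem result (X X' : Scheme.{u}) (f : X' ⟶ X) [IsFinite f] [Flat f]
    [AlgebraicGeometry.IsNoetherian X]
    (N N' : CGrpSh3.pushGm Scheme.fppfPrecoverage f ⟶ CGrpSh2.Gm Scheme.fppfPrecoverage X)
    (hN : CGrpSh3.IsNormMap Scheme.fppfPrecoverage f N) (hN' : CGrpSh3.IsNormMap Scheme.fppfPrecoverage f N') :
    N = N' := by
  refine Sheaf.hom_ext (NatTrans.ext (funext fun T => AddCommGrpCat.ext fun x => ?_))
  obtain ⟨T⟩ := T
  obtain ⟨t', rfl⟩ : ∃ t' : (Over.pullback f).obj T ⟶ Red.Gm X', x = ULift.up (Additive.ofMul t') := ⟨x.down.toMul, rfl⟩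
  suffices h : CGrpSh3.normPt Scheme.fppfPrecoverage f N T t' = CGrpSh3.normPt Scheme.fppfPrecoverage f N' T t' from
    congrArg (fun y => ULift.up (Additive.ofMul y)) h
  haveI : IsFinite (pullback.fst T.hom f) := inferInstance
  haveI : Flat (pullback.fst T.hom f) := inferInstance
  haveI : LocallyOfFinitePresentation f := inferInstance
  refine Over.OverMorphism.ext ?_
  let I := {V : T.left.Opens // V ∈ Groth.Agent.H8Props.WeilRes.FreeOpens (pullback.fst T.hom f)}
  have hcov : ⨆ V : I, V.1 = ⊤ := by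
    refine top_le_iff.1 fun y _ => ?_
    obtain ⟨V, hV, hy, -⟩ := Opens.isBasis_iff_nbhd.mp
      (Groth.Agent.H8Props.WeilRes.isBasis_freeOpens (pullback.fst T.hom f)) (Opens.mem_top y)
    exact Opens.mem_iSup.2 ⟨⟨V, hV⟩, hy⟩
  refine Scheme.Cover.hom_ext (T.left.openCoverOfIsOpenCover (fun V : I => V.1) hcov) _ _ fun V => ?_
  obtain ⟨V, hV⟩ := V
  let W : Over X := Over.mk (V.ι ≫ T.hom)
  let π : W ⟶ T := Over.homMk V.ι rfl
  haveI : IsAffine W.left := hV.1
  letI : Algebra Γ(W.left, ⊤) Γ(((Over.pullback f).obj W).left, ⊤) := (pullback.fst W.hom f).appTop.hom.toAlgebra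
  haveI : IsFinite (pullback.fst W.hom f) := inferInstance
  haveI : Module.Finite Γ(W.left, ⊤) Γ(((Over.pullback f).obj W).left, ⊤) := (pullback.fst W.hom f).finite_appTop
  haveI : Module.Free Γ(W.left, ⊤) Γ(((Over.pullback f).obj W).left, ⊤) := free_appTop f T V hV
  have hnat : ∀ M : CGrpSh3.pushGm Scheme.fppfPrecoverage f ⟶ CGrpSh2.Gm Scheme.fppfPrecoverage X,
      π ≫ CGrpSh3.normPt Scheme.fppfPrecoverage f M T t' =
        CGrpSh3.normPt Scheme.fppfPrecoverage f M W ((Over.pullback f).map π ≫ t') := by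
    intro M
    have h := ConcreteCategory.congr_hom (M.hom.naturality π.op) (ULift.up (Additive.ofMul t'))
    exact (congrArg (fun y => y.down.toMul) h).symm
  have heq : π ≫ CGrpSh3.normPt Scheme.fppfPrecoverage f N T t' =
      π ≫ CGrpSh3.normPt Scheme.fppfPrecoverage f N' T t' := by
    rw [hnat, hnat]
    apply GmPts.gmFn_injective
    show Red.gmFn _ = Red.gmFn _
    rw [hN W (fun _ => rfl) _, hN' W (fun _ => rfl) _]
  exact congrArg CommaMorphism.left heq

end Groth.Agent.S15383
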