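import Groth.Statements.S4535
import Mathlib
import Groth.Prelude.Def_EGA41
import Groth.Agent.H05EGA4.FSAdic
import Groth.Agent.S9316

set_option autoImplicit false
set_option linter.style.haveILetI false
universe u
open EGA41

open IsLocalRing TensorProduct Groth.Agent CAlgX Groth.Agent.H05EGA4

namespace Groth.Agent.S4535

open TensorProduct in
/-- Let B (𝔟-adic) be formally smooth over A (𝔞-adic) and let A' (𝔞'-adic) be a topological A-algebra (a
power of 𝔞 maps into 𝔞'). Then the A'-algebra A' ⊗_A B, with the tensor product topology, i.e. the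
adic topology of the ideal generated by the images of 𝔞' and 𝔟, is formally smooth over A'. -/
theorem result {A B A' : Type u} [CommRing A] [CommRing B] [CommRing A'] [Algebra A B] [Algebra A A']
    (𝔞 : Ideal A) (𝔟 : Ideal B) (𝔞' : Ideal A') (hAA' : ∃ k : ℕ, (𝔞 ^ k).map (algebraMap A A') ≤ 𝔞')
    (hB : EGA41.IsFormallySmoothAdic A 𝔞 B 𝔟) :
    EGA41.IsFormallySmoothAdic A' 𝔞' (A' ⊗[A] B)
      (𝔞'.map (algebraMap A' (A' ⊗[A] B)) ⊔
        𝔟.map (Algebra.TensorProduct.includeRight : B →ₐ[A] A' ⊗[A] B).toRingHom) := by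
  intro E _ _ J hJ ⟨j, hj⟩ u ⟨l, hl⟩
  letI : Algebra A E := ((algebraMap A' E).comp (algebraMap A A')).toAlgebra
  have : IsScalarTower A A' E := IsScalarTower.of_algebraMap_eq fun _ => rfl
  obtain ⟨k, hk⟩ := hAA'
  let uB : B →ₐ[A] E ⧸ J := (u.restrictScalars A).comp Algebra.TensorProduct.includeRight
  obtain ⟨w, hw⟩ := hB E J hJ ⟨k * j, by
    rw [IsScalarTower.algebraMap_eq A A' E, ← Ideal.map_map, pow_mul, Ideal.map_pow, ← le_bot_iff, ← hj]
    exact Ideal.map_mono (Ideal.pow_right_mono hk j)⟩ uB ⟨l, fun x hx => by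
    refine hl _ ?_
    refine Ideal.pow_right_mono le_sup_right l ?_
    rw [← Ideal.map_pow]
    exact Ideal.mem_map_of_mem _ hx⟩
  refine ⟨Algebra.TensorProduct.lift (Algebra.ofId A' E) w fun _ _ => Commute.all _ _, ?_⟩
  refine Algebra.TensorProduct.ext (AlgHom.ext fun a => ((Ideal.Quotient.mkₐ A' J).comp _).commutes a |>.trans (u.commutes a).symm) ?_
  refine AlgHom.ext fun b => ?_
  show Ideal.Quotient.mk J (algebraMap A' E 1 * w b) = u (1 ⊗ₜ b)
  rw [map_one, one_mul]
  exact AlgHom.congr_fun hw b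


end Groth.Agent.S4535
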