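import Groth.Statements.S11005
import Mathlib
import Groth.Agent.H23Geom.Criteria

set_option autoImplicit false
universe u v
open FunFld

namespace Groth.Agent.S11005

/-- An intermediate field `K₀` of a geometric function field of one variable `K/k` that is
transcendental over `k` is again a geometric function field of one variable over `k`. -/
theorem result (k : Type u) (K : Type v) [Field k] [Field K] [Algebra k K]
    (hK : FunFld.IsFunctionField k K) (hg : FunFld.IsGeometric k K) (K₀ : IntermediateField k K)
    (h₀ : ∃ x ∈ K₀, Transcendental k x) : FunFld.IsFunctionField k K₀ ∧ FunFld.IsGeometric k K₀ := by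
  exact Groth.Agent.H23Geom.isGeometric_of_le hK hg K₀ h₀

end Groth.Agent.S11005
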