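import Groth.Statements.S12575
import Mathlib
import Groth.Agent.H23Diff.Setup

set_option autoImplicit false
universe u v w
open FunFld

namespace Groth.Agent.S12575

/-- Let `Q` be a place of a finite separable extension `K' = K(y)` of a geometric function field of one
variable `K/k`, over `P` with ramification index `e` and residue degree `1`, both with Laurent
expansions over `k` in local parameters, with `y` integral over `O_P` and `g` its minimal polynomial
over `K`. Then `v_Q(g'(y)) ≥ d(Q|P)`, and when equality holds `O_Q` is the localisation of `O_P[y]`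
at `Q`. -/
theorem result (k : Type u) (K K' : Type v) [Field k] [Field K] [Field K'] [Algebra k K] [Algebra K K'] [Algebra k K']
    [IsScalarTower k K K'] [FiniteDimensional K K'] [Algebra.IsSeparable K K']
    (hK : FunFld.IsFunctionField k K) (hg : FunFld.IsGeometric k K)
    (F F' : Type w) [Field F] [Algebra k F] [Field F'] [Algebra k F']
    (P : FunFld.Place k K) (Q : FunFld.Place k K') (e : ℕ) (he : FunFld.IsOverWith Q P e)
    (φ : K →ₐ[k] LaurentSeries F) (hφ : LocRes.IsExpansionAt P.1 φ)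
    (ψ : K' →ₐ[k] LaurentSeries F') (hψ : LocRes.IsExpansionAt Q.1 ψ)
    (x : K) (hx : LocRes.vDiff φ 1 x ≠ 0) (hx' : LocRes.vDiff ψ 1 (algebraMap K K' x) ≠ 0)
    [P.1.HasExtension Q.1]
    (hf : Function.Surjective (algebraMap (IsLocalRing.ResidueField P.O) (IsLocalRing.ResidueField Q.O)))
    [Algebra P.O K'] [IsScalarTower P.O K K']
    (y : K') (hy : IntermediateField.adjoin K ({y} : Set K') = ⊤) (hyi : IsIntegral P.O y) :
    LocRes.diffExp φ ψ e x ≤ Q.ord (Polynomial.aeval y (Polynomial.derivative (minpoly K y))) ∧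
    (Q.ord (Polynomial.aeval y (Polynomial.derivative (minpoly K y))) = LocRes.diffExp φ ψ e x →
      ∀ z : K', Q.1 z ≤ 1 → ∃ a ∈ Algebra.adjoin P.O ({y} : Set K'), ∃ b ∈ Algebra.adjoin P.O ({y} : Set K'),
        Q.1 b = 1 ∧ z * b = a) := by
  classical
  obtain rfl : ‹Algebra P.O K'› = ValuationSubring.instAlgebraSubtypeMemValuationSubringWithZeroMultiplicativeInt P.1 K' :=
    Algebra.algebra_ext _ _ fun r => IsScalarTower.algebraMap_apply P.O K K' r
  have hres : ∀ z : K', Q.1 z ≤ 1 → ∃ a : K, P.1 a ≤ 1 ∧ Q.1 (z - algebraMap K K' a) < 1 :=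
    fun z hz => Groth.Agent.H23Diff.hres_of_surjective hf hz
  have hQ : FunFld.IsOver Q P := ⟨e, he⟩
  obtain ⟨s, hs, hs'⟩ := Groth.Agent.H23Diff.exists_s hK Q (P := P)
  have hd := Groth.Agent.H23Diff.ord_fp_eq_diffExp hK hg hφ hψ he hx hx' hres hs hs'
  obtain ⟨w₀, hw₀, hw₀v⟩ := Groth.Agent.H23Diff.exists_dual_eq hK hQ hres hs hs'
  rw [hd] at hw₀v
  have htop : Algebra.adjoin K ({y} : Set K') = ⊤ := by
    rw [← IntermediateField.adjoin_simple_toSubalgebra_of_isAlgebraic (Algebra.IsAlgebraic.isAlgebraic y), hy,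
      IntermediateField.top_toSubalgebra]
  set gp := Polynomial.aeval y (Polynomial.derivative (minpoly K y))
  have hgp : gp ≠ 0 := (Algebra.IsSeparable.isSeparable K y).aeval_derivative_ne_zero (minpoly.aeval _ _)
  have hyint : ∀ Q' : FunFld.Place k K', FunFld.IsOver Q' P → Q'.1 y ≤ 1 := fun Q' hQ' =>
    Groth.Agent.H23Diff.val_le_one_of_isIntegral hQ' hyi
  have hmul : ∀ z : K', (∀ Q' : FunFld.Place k K', FunFld.IsOver Q' P → Q'.1 z ≤ 1) →
      gp * w₀ * z ∈ Algebra.adjoin P.O ({y} : Set K') := by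
    intro z hz
    have hmem : w₀ * z ∈ (Algebra.traceForm K K').dualSubmodule
        (Subalgebra.toSubmodule (Algebra.adjoin P.O ({y} : Set K'))) := by
      rw [LinearMap.BilinForm.mem_dualSubmodule]
      intro a ha
      have h := hw₀ (z * a) fun Q' hQ' => by
        rw [map_mul]
        exact mul_le_one' (hz Q' hQ') (Groth.Agent.H23Diff.val_mem_adjoin_le hQ' (hyint Q' hQ') ha)
      refine Submodule.mem_one.2 ⟨⟨_, h⟩, ?_⟩
      rw [Algebra.traceForm_apply, mul_assoc]
      rfl
    rw [traceForm_dualSubmodule_adjoin P.O K htop hyi, Submodule.mem_smul_pointwise_iff_exists] at hmem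
    obtain ⟨b, hb, he'⟩ := hmem
    rw [mul_assoc, ← he', smul_eq_mul, ← mul_assoc, mul_inv_cancel₀ hgp, one_mul]
    exact hb
  have h1 := hmul 1 fun Q' _ => (map_one Q'.1).le
  rw [mul_one] at h1
  have h2 := Groth.Agent.H23Diff.val_mem_adjoin_le hQ (hyint Q hQ) h1
  rw [map_mul, hw₀v, Groth.Agent.H23FunFld.val_eq_exp Q hgp, ← WithZero.exp_add,
    Groth.Agent.H23Diff.exp_le_one_iff] at h2
  refine ⟨by linarith, fun heq z hz => ?_⟩
  have hβ : Q.1 (gp * w₀) = 1 := by
    rw [map_mul, hw₀v, Groth.Agent.H23FunFld.val_eq_exp Q hgp, heq, ← WithZero.exp_add, neg_add_cancel,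
      WithZero.exp_zero]
  rcases eq_or_ne z 0 with rfl | hz0
  · exact ⟨0, zero_mem _, 1, one_mem _, map_one _, zero_mul 1⟩
  obtain ⟨w, hw⟩ := Groth.Agent.H23FunFld.approximation
    (insert Q (Groth.Agent.H23Ext.finite_isOver (K' := K') hK P).toFinset)
    (fun Q' => if Q' = Q then (1 : K') else 0)
    (fun Q' => if Q' = Q then -1 else min (Q'.ord z) 0)
  have hwQ : Q.1 w = 1 := by
    have h := hw Q (Finset.mem_insert_self _ _)
    rw [if_pos rfl, if_pos rfl] at h
    rw [show w = 1 + (w - 1) by ring, Q.1.map_add_eq_of_lt_left (h.trans_lt (by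
      rw [map_one, ← WithZero.exp_zero, WithZero.exp_lt_exp]; omega)), map_one]
  have hwint : ∀ Q' : FunFld.Place k K', FunFld.IsOver Q' P → Q'.1 w ≤ 1 ∧ Q'.1 (z * w) ≤ 1 := by
    intro Q' hQ'
    rcases eq_or_ne Q' Q with rfl | hne
    · exact ⟨hwQ.le, by rw [map_mul, hwQ, mul_one]; exact hz⟩
    · have h := hw Q' (Finset.mem_insert_of_mem ((Set.Finite.mem_toFinset _).2 hQ'))
      rw [if_neg hne, if_neg hne, sub_zero] at h
      refine ⟨h.trans (Groth.Agent.H23Diff.exp_le_one_iff.2 (by omega)), ?_⟩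
      rw [map_mul, Groth.Agent.H23FunFld.val_eq_exp Q' hz0]
      refine (mul_le_mul' le_rfl h).trans ?_
      rw [← WithZero.exp_add, Groth.Agent.H23Diff.exp_le_one_iff]; omega
  refine ⟨_, hmul _ fun Q' h => (hwint Q' h).2, _, hmul w fun Q' h => (hwint Q' h).1, ?_, by ring⟩
  rw [map_mul, hβ, hwQ, one_mul]

end Groth.Agent.S12575
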