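import Groth.Statements.S11078
import Mathlib
import Groth.Agent.H23Proj.Basic

set_option autoImplicit false
open FunFld

namespace Groth.Agent.S11078

/-- Over an algebraically closed constant field, for a projective map `φ = (φ₀, …, φₙ)`, `n ≥ 1`, and a
point `a = φ(P)` with local ring `O_a`, the fibre `φ⁻¹(a)` consists of the places `Q` with `O_a ⊆
O_Q` and `m_Q ∩ O_a` equal to the maximal ideal of `O_a` (which is `m_P ∩ O_a`). Here `O_a` consists
of the quotients of polynomials over `k` in the ratios `φᵢ/φⱼ`, `φⱼ` of least order at `P`, with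
denominator a unit at `P`; and `Q` has the same image point as `P` when some entry has least order
at both places and the ratios are congruent to common constants modulo both maximal ideals. -/
theorem result
    (k K : Type*) [Field k] [IsAlgClosed k] [Field K] [Algebra k K]
    (hK : FunFld.IsFunctionField k K) {n : ℕ} (hn : 1 ≤ n) (φ : Fin (n + 1) → K)
    (hφ : LinearIndependent k φ) (P Q : FunFld.Place k K) :
    FunFld.SameImage φ P Q ↔
      ∀ z : K, FunFld.InLocRing φ P z → (Q.1 z ≤ 1 ∧ (Q.1 z < 1 ↔ P.1 z < 1)) := by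
  have hne : ∀ i, φ i ≠ 0 := hφ.ne_zero
  constructor
  · rintro ⟨j, hj0, hjP, hjQ, hc⟩ z ⟨j', hj'0, hj'P, u, hu, w, hw, hw1, huw⟩
    -- the common constants
    have hcc : ∀ i, ∃ c : k, P.1 (φ i / φ j' - algebraMap k K c) < 1 ∧ Q.1 (φ i / φ j' - algebraMap k K c) < 1 := by
      intro i
      obtain ⟨ci, hci⟩ := hc i
      obtain ⟨cj, hcj⟩ := hc j'
      have hcj0 : cj ≠ 0 := by
        rintro rfl
        have h1 := hcj.1
        rw [map_zero, sub_zero, map_div₀, div_lt_one₀ (zero_lt_iff.2 (Groth.Agent.H23FunFld.val_ne_zero P hj0))] at h1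
        exact absurd (hj'P j) (not_le.2 h1)
      have hc0 : algebraMap k K cj ≠ 0 := by simpa using hcj0
      have key : ∀ R : FunFld.Place k K, R.1 (φ i / φ j - algebraMap k K ci) < 1 →
          R.1 (φ j' / φ j - algebraMap k K cj) < 1 → R.1 (φ i / φ j' - algebraMap k K (ci / cj)) < 1 := by
        intro R h1 h2
        have hb : R.1 (φ j' / φ j) = 1 := by
          have := R.1.map_add_eq_of_lt_left (x := algebraMap k K cj) (y := φ j' / φ j - algebraMap k K cj)
            (by rwa [Groth.Agent.H23FunFld.val_const R hcj0])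
          rwa [add_sub_cancel, Groth.Agent.H23FunFld.val_const R hcj0] at this
        rw [map_div₀ (algebraMap k K), show φ i / φ j' - algebraMap k K ci / algebraMap k K cj =
          ((φ i / φ j - algebraMap k K ci) * algebraMap k K cj -
            algebraMap k K ci * (φ j' / φ j - algebraMap k K cj)) / (φ j' / φ j * algebraMap k K cj) by
            field_simp; ring, map_div₀ R.1, map_mul R.1 (φ j' / φ j), hb,
          Groth.Agent.H23FunFld.val_const R hcj0, one_mul, div_one]
        refine (R.1.map_sub _ _).trans_lt (max_lt ?_ ?_) <;> rw [map_mul]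
        · exact (mul_le_of_le_one_right zero_le (R.2.1 _)).trans_lt h1
        · exact (mul_le_of_le_one_left zero_le (R.2.1 _)).trans_lt h2
      exact ⟨ci / cj, key P hci.1 hcj.1, key Q hci.2 hcj.2⟩
    let A : Subalgebra k K :=
      { carrier := {x | ∃ c : k, P.1 (x - algebraMap k K c) < 1 ∧ Q.1 (x - algebraMap k K c) < 1}
        mul_mem' := by
          rintro a b ⟨c, hc1, hc2⟩ ⟨d, hd1, hd2⟩
          have key : ∀ R : FunFld.Place k K, R.1 (a - algebraMap k K c) < 1 →
              R.1 (b - algebraMap k K d) < 1 → R.1 (a * b - algebraMap k K (c * d)) < 1 := by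
            intro R h1 h2
            have ha : R.1 a ≤ 1 := by
              have := R.1.map_add (a - algebraMap k K c) (algebraMap k K c)
              rw [sub_add_cancel] at this
              exact this.trans (max_le h1.le (R.2.1 c))
            rw [map_mul, show a * b - algebraMap k K c * algebraMap k K d =
              a * (b - algebraMap k K d) + (a - algebraMap k K c) * algebraMap k K d by ring]
            refine (R.1.map_add _ _).trans_lt (max_lt ?_ ?_) <;> rw [map_mul]
            · exact (mul_le_of_le_one_left zero_le ha).trans_lt h2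
            · exact (mul_le_of_le_one_right zero_le (R.2.1 d)).trans_lt h1
          exact ⟨c * d, key P hc1 hd1, key Q hc2 hd2⟩
        add_mem' := by
          rintro a b ⟨c, hc1, hc2⟩ ⟨d, hd1, hd2⟩
          refine ⟨c + d, ?_, ?_⟩ <;> rw [map_add, add_sub_add_comm]
          · exact (P.1.map_add _ _).trans_lt (max_lt hc1 hd1)
          · exact (Q.1.map_add _ _).trans_lt (max_lt hc2 hd2)
        algebraMap_mem' := fun c => ⟨c, by simp, by simp⟩ }
    have hA : Algebra.adjoin k (Set.range fun i => φ i / φ j') ≤ A :=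
      Algebra.adjoin_le (Set.range_subset_iff.2 hcc)
    obtain ⟨a, haP, haQ⟩ := hA hu
    obtain ⟨b, hbP, hbQ⟩ := hA hw
    have hb0 : b ≠ 0 := by
      rintro rfl
      rw [map_zero, sub_zero, hw1] at hbP
      exact lt_irrefl _ hbP
    have hQw : Q.1 w = 1 := by
      have := Q.1.map_add_eq_of_lt_left (x := algebraMap k K b) (y := w - algebraMap k K b)
        (by rwa [Groth.Agent.H23FunFld.val_const Q hb0])
      rwa [add_sub_cancel, Groth.Agent.H23FunFld.val_const Q hb0] at this
    have hval : ∀ R : FunFld.Place k K, R.1 w = 1 → R.1 z = R.1 u := fun R hR => by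
      rw [← huw, map_mul, hR, mul_one]
    have hle : ∀ R : FunFld.Place k K, R.1 (u - algebraMap k K a) < 1 → R.1 u ≤ 1 ∧ (R.1 u < 1 ↔ a = 0) := by
      intro R hR
      rcases eq_or_ne a 0 with rfl | ha
      · rw [map_zero, sub_zero] at hR
        exact ⟨hR.le, by simp [hR]⟩
      · have := R.1.map_add_eq_of_lt_left (x := algebraMap k K a) (y := u - algebraMap k K a)
          (by rwa [Groth.Agent.H23FunFld.val_const R ha])
        rw [add_sub_cancel, Groth.Agent.H23FunFld.val_const R ha] at this
        exact ⟨this.le, by simp [this, ha]⟩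
    rw [hval Q hQw, hval P hw1]
    exact ⟨(hle Q haQ).1, (hle Q haQ).2.trans (hle P haP).2.symm⟩
  · intro h
    obtain ⟨j, hj⟩ := Groth.Agent.H23Proj.exists_max P φ
    have hr : ∀ i, FunFld.InLocRing φ P (φ i / φ j) := fun i =>
      ⟨j, hne j, hj, _, Algebra.subset_adjoin ⟨i, rfl⟩, 1, Subalgebra.one_mem _, map_one _, mul_one _⟩
    refine ⟨j, hne j, hj, fun i => ?_, fun i => ?_⟩
    · have h1 := (h _ (hr i)).1
      rwa [map_div₀, div_le_one₀ (zero_lt_iff.2 (Groth.Agent.H23FunFld.val_ne_zero Q (hne j)))] at h1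
    · obtain ⟨c, hc⟩ := Groth.Agent.H23Proj.eq_one_of_isAlgClosed hK P
        (Groth.Agent.H23Proj.val_ratio_le_one (hne j) hj i)
      refine ⟨c, hc, (h _ ⟨j, hne j, hj, φ i / φ j - algebraMap k K c, ?_, 1, Subalgebra.one_mem _,
        map_one _, mul_one _⟩).2.2 hc⟩
      exact Subalgebra.sub_mem _ (Algebra.subset_adjoin ⟨i, rfl⟩) (Subalgebra.algebraMap_mem _ c)

end Groth.Agent.S11078
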