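import Groth.Statements.S4839
import Groth.Agent.H7Lim.FPDescent.Model
import Groth.Agent.H17.ConsPairExists
import Groth.Agent.H12AlgSp.UnivInj
import Mathlib.RingTheory.Jacobson.Ring

set_option autoImplicit false
set_option linter.style.haveILetI false
set_option backward.isDefEq.respectTransparency false
set_option backward.defeqAttrib.useBackward true
open CategoryTheory AlgebraicGeometry
universe u
open Cons9

namespace Groth.Agent.S4839
open CategoryTheory.Limits Groth.Agent.H7Lim.FPDescent in
theorem aux {S S' T : Scheme.{u}} {X Y P R : Scheme.{u}} (p : X ⟶ S) (q : Y ⟶ S) (s : S' ⟶ S) (r : T ⟶ S')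
    (t : T ⟶ S) (ht : r ≫ s = t) {pP : P ⟶ S'} {qR : R ⟶ S'} {a : P ⟶ X} {b : R ⟶ Y}
    (hP : IsPullback a pP p s) (hR : IsPullback b qR q s) (o : P ⟶ R) [IsIso o] (ho : o ≫ qR = pP) :
    ∃ e : pullback p t ≅ pullback q t, e.hom ≫ pullback.snd q t = pullback.snd p t := by
  subst ht
  let eP := ((IsPullback.of_hasPullback pP r).paste_horiz hP).isoPullback
  let eR := ((IsPullback.of_hasPullback qR r).paste_horiz hR).isoPullback
  let m : pullback pP r ⟶ pullback qR r := pullback.map pP r qR r o (𝟙 _) (𝟙 _) (by simp [ho]) (by simp)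
  refine ⟨eP.symm ≪≫ asIso m ≪≫ eR, ?_⟩
  simp [eP, eR, m]


open CategoryTheory.Limits in
/-- Let k be a field and X, Y two schemes of finite type over k. If for some field extension K of k
there is a K-isomorphism X ⊗_k K ≅ Y ⊗_k K (X and Y are geometrically isomorphic), then there are a
finite extension k' of k and a k'-isomorphism X ⊗_k k' ≅ Y ⊗_k k'. This is the case of the property
of being an isomorphism (base changes are the chosen fibre products with Spec of the extension). -/
theorem result {k : Type u} [Field k] {X Y : Scheme.{u}}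
    (p : X ⟶ Spec (CommRingCat.of k)) (q : Y ⟶ Spec (CommRingCat.of k))
    [LocallyOfFiniteType p] [QuasiCompact p] [LocallyOfFiniteType q] [QuasiCompact q]
    (K : Type u) [Field K] [Algebra k K]
    (e : pullback p (Spec.map (CommRingCat.ofHom (algebraMap k K))) ≅ pullback q (Spec.map (CommRingCat.ofHom (algebraMap k K))))
    (he : e.hom ≫ pullback.snd q (Spec.map (CommRingCat.ofHom (algebraMap k K))) = pullback.snd p (Spec.map (CommRingCat.ofHom (algebraMap k K)))) :
    ∃ (k' : Type u) (_ : Field k') (_ : Algebra k k') (_ : Module.Finite k k')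
      (e' : pullback p (Spec.map (CommRingCat.ofHom (algebraMap k k'))) ≅ pullback q (Spec.map (CommRingCat.ofHom (algebraMap k k')))),
      e'.hom ≫ pullback.snd q (Spec.map (CommRingCat.ofHom (algebraMap k k'))) = pullback.snd p (Spec.map (CommRingCat.ofHom (algebraMap k k'))) := by
    haveI : LocallyOfFinitePresentation p := H12AlgSp.lfp_of_lft_of_isLocallyNoetherian p
    haveI : LocallyOfFinitePresentation q := H12AlgSp.lfp_of_lft_of_isLocallyNoetherian q
    haveI : QuasiSeparated p := by
      haveI : IsLocallyNoetherian X := LocallyOfFiniteType.isLocallyNoetherian p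
      infer_instance
    haveI : QuasiSeparated q := by
      haveI : IsLocallyNoetherian Y := LocallyOfFiniteType.isLocallyNoetherian q
      infer_instance
    let c := H17.ConsPair.specCone k K
    have hc : IsLimit c := H17.ConsPair.isLimitSpecCone k K
    let i₀ : (Finset K)ᵒᵖ := Opposite.op ∅
    let st := (H17.ConsPair.specStr k K).app i₀
    let t : c.pt ⟶ Spec (CommRingCat.of k) := Spec.map (CommRingCat.ofHom (algebraMap k K))
    have hst : c.π.app i₀ ≫ st = t := H17.ConsPair.specCone_str k K i₀
    haveI : ∀ i, CompactSpace ((H17.ConsPair.specSystem k K).obj i) := fun i => inferInstance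
    haveI : ∀ i, QuasiSeparatedSpace ((H17.ConsPair.specSystem k K).obj i) := fun i => inferInstance
    haveI : Nonempty (Finset K) := ⟨∅⟩
    have mkM : ∀ {Z : Scheme.{u}} (z : Z ⟶ Spec (CommRingCat.of k)) [LocallyOfFinitePresentation z]
        [QuasiCompact z] [QuasiSeparated z],
        ∃ M : H7Lim.FPDescent.Model c (pullback.snd z t) i₀,
          ∃ a : M.P ⟶ Z, IsPullback a M.p z st := by
      intro Z z _ _ _
      refine ⟨{ P := pullback z st, p := pullback.snd z st, lfp := MorphismProperty.pullback_snd _ _ ‹_›,
                qc := MorphismProperty.pullback_snd _ _ ‹_›, qs := MorphismProperty.pullback_snd _ _ ‹_›,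
                g := pullback.lift (pullback.fst z t) (pullback.snd z t ≫ c.π.app i₀)
                  (by rw [Category.assoc, hst]; exact pullback.condition),
                hpb := ?_ }, pullback.fst z st, IsPullback.of_hasPullback z st⟩
      refine IsPullback.of_right (h₁₂ := pullback.fst z st) (h₂₂ := st) (v₁₃ := z) ?_
        (pullback.lift_snd _ _ _) (IsPullback.of_hasPullback z st)
      rw [pullback.lift_fst, hst]
      exact IsPullback.of_hasPullback z t
    obtain ⟨M, a, ha⟩ := mkM p
    obtain ⟨N, b, hb⟩ := mkM q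
    obtain ⟨j, φ, ⟨F⟩⟩ := H7Lim.FPDescent.exists_hom hc M N e.hom he
    obtain ⟨l, ψ, hiso⟩ := H7Lim.FPDescent.exists_isIso hc F he
    let G := F.shift ψ he
    haveI : IsIso G.o := hiso
    let sl := (H17.ConsPair.specStr k K).app l
    have hs : (H17.ConsPair.specSystem k K).map ψ ≫ (H17.ConsPair.specSystem k K).map φ ≫ st = sl := by
      rw [← Category.assoc, ← Functor.map_comp]
      exact ((H17.ConsPair.specStr k K).naturality (ψ ≫ φ)).trans (Category.comp_id _)
    have hMl : IsPullback (pullback.fst _ _ ≫ pullback.fst _ _ ≫ a) ((M.shift φ).shift ψ).p p sl :=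
      hs ▸ (IsPullback.of_hasPullback (M.shift φ).p _).paste_horiz
        ((IsPullback.of_hasPullback M.p _).paste_horiz ha)
    have hNl : IsPullback (pullback.fst _ _ ≫ pullback.fst _ _ ≫ b) ((N.shift φ).shift ψ).p q sl :=
      hs ▸ (IsPullback.of_hasPullback (N.shift φ).p _).paste_horiz
        ((IsPullback.of_hasPullback N.p _).paste_horiz hb)
    let A := Algebra.adjoin k (l.unop : Set K)
    haveI : Algebra.FiniteType k A := (Subalgebra.fg_iff_finiteType _).1 (Subalgebra.fg_adjoin_finset _)
    obtain ⟨m, hm⟩ := Ideal.exists_maximal A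
    letI : Field (A ⧸ m) := Ideal.Quotient.field m
    let r : Spec (CommRingCat.of (A ⧸ m)) ⟶ (H17.ConsPair.specSystem k K).obj l :=
      Spec.map (CommRingCat.ofHom (Ideal.Quotient.mk m))
    have hr : r ≫ sl = Spec.map (CommRingCat.ofHom (algebraMap k (A ⧸ m))) := by
      show Spec.map _ ≫ Spec.map _ = _
      rw [← Spec.map_comp]
      rfl
    obtain ⟨e', he'⟩ := @aux _ _ _ _ _ _ _ p q sl r _ hr _ _ _ _ hMl hNl G.o hiso G.w_p
    exact ⟨A ⧸ m, inferInstance, inferInstance, finite_of_finite_type_of_isJacobsonRing k _, e', he'⟩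

end Groth.Agent.S4839
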