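import Groth.Statements.S1550
import Mathlib
import Groth.Agent.H22Alg.GaloisFibres
import Groth.Agent.H22Alg.VarDim
import Groth.Agent.H19Grp.SepPoints

set_option autoImplicit false
universe u
open CategoryTheory CategoryTheory.Limits AlgebraicGeometry
attribute [local instance] Curv2.resAlgebra
open Variety

namespace Groth.Agent.S1550

/-- If X is smooth over a field k, then the set of closed points of X whose residue field is finite
separable over k is dense in X. -/
theorem result (k : Type u) [Field k] (X : Scheme.{u}) [X.Over (Spec (CommRingCat.of k))] [Smooth (X ↘ (Spec (CommRingCat.of k)))] :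
    Dense {x : X | IsClosed ({x} : Set X) ∧ FiniteDimensional k (X.residueField x) ∧ Algebra.IsSeparable k (X.residueField x)} := by
  rw [dense_iff_inter_open]
  rintro U hU ⟨x₀, hx₀⟩
  set ks := SeparableClosure k
  set f := X ↘ Spec (CommRingCat.of k)
  set s := Spec.map (CommRingCat.ofHom (algebraMap k ks))
  obtain ⟨z₀, hz₀⟩ := Groth.Agent.H22Alg.GaloisFibres.surjective_bcπ f ks x₀
  obtain ⟨σ, hσ, hσU⟩ := Groth.Agent.H19Grp.exists_section_mem (pullback.snd f s)
    (pullback.fst f s ⁻¹ᵁ ⟨U, hU⟩) (show z₀ ∈ pullback.fst f s ⁻¹ᵁ ⟨U, hU⟩ from show pullback.fst f s z₀ ∈ U from hz₀.symm ▸ hx₀)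
  let p := σ ≫ pullback.fst f s
  have hp : p ≫ f = s := by
    rw [Category.assoc, pullback.condition, reassoc_of% hσ]
  obtain ⟨⟨x, ψ⟩, hψ⟩ : ∃ q : Σ x : ↥X, X.residueField x ⟶ CommRingCat.of ks,
      Spec.map q.2 ≫ X.fromSpecResidueField q.1 = p :=
    ⟨Scheme.SpecToEquivOfField ks _ p, (Scheme.SpecToEquivOfField ks _).symm_apply_apply p⟩
  dsimp only at hψ
  have hx : p (IsLocalRing.closedPoint ks) = x := by
    rw [← hψ, Scheme.Hom.comp_apply, Scheme.fromSpecResidueField_apply]
  have hcl : IsClosed ({x} : Set X) := by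
    haveI := isClosedImmersion_of_comp_eq_id (pullback.snd f s) σ hσ
    have h1 := Groth.Agent.H22Alg.GaloisFibres.isClosedMap_bcπ f ks _ σ.isClosedEmbedding.isClosed_range
    have h2 : pullback.fst f s '' Set.range σ = {x} := by
      ext w
      simp only [Set.mem_image, Set.mem_range, exists_exists_eq_and, Set.mem_singleton_iff]
      refine ⟨fun ⟨q, hq⟩ => ?_, fun hw => ⟨IsLocalRing.closedPoint ks, hw ▸ hx⟩⟩
      rw [← hq, ← hx, Subsingleton.elim (α := PrimeSpectrum ks) q (IsLocalRing.closedPoint ks)]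
      rfl
    rwa [h2] at h1
  letI := Curv2.resAlgebra k X x
  have hcomm : CommRingCat.ofHom (Curv2.resMap k X x) ≫ ψ = CommRingCat.ofHom (algebraMap k ks) := by
    apply Spec.map_injective
    rw [Spec.map_comp, ← Groth.Agent.H22Alg.VarDim.fromSpecResidueField_over, reassoc_of% hψ]
    exact hp
  let φ : X.residueField x →ₐ[k] ks := { ψ.hom with commutes' := fun c => ConcreteCategory.congr_hom hcomm c }
  refine ⟨x, hx ▸ hσU _, hcl, ?_, Algebra.IsSeparable.of_algHom k ks φ⟩
  haveI : IsFinite (X.fromSpecResidueField x ≫ f) := by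
    rw [isClosed_singleton_iff_isClosedImmersion] at hcl
    rw [isFinite_iff_locallyOfFiniteType_of_jacobsonSpace]
    infer_instance
  rw [Groth.Agent.H22Alg.VarDim.fromSpecResidueField_over, IsFinite.SpecMap_iff] at this
  exact this

end Groth.Agent.S1550
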