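import Groth.Statements.S10846
import Groth.Agent.H26Gr.Represent
import Groth.Agent.H26Gr.Vanish
import Groth.Agent.H26Gr.Points
set_option backward.isDefEq.respectTransparency false
set_option backward.isDefEq.respectTransparency.types false

set_option autoImplicit false
universe u
open Grass

namespace Groth.Agent.S10846

open AlgebraicGeometry CategoryTheory TensorProduct H26Gr in
theorem exists_rep_of_finite (R : Type u) [CommRing R]
    (M : Type u) [AddCommGroup M] [Module R M] [Module.Finite R M] (k : ℕ) :
    ∃ (X : Over (Spec (CommRingCat.of R)))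
      (e : ∀ A : CommAlgCat.{u} R, (SR A ⟶ X) ≃ Module.Grassmannian A (A ⊗[R] M) k),
      ∀ (A B : CommAlgCat.{u} R) (φ : A ⟶ B) (g : SR A ⟶ X) (g' : SR B ⟶ X),
        g'.left = Spec.map (CommRingCat.ofHom φ.hom.toRingHom) ≫ g.left →
          e B g' = Module.Grassmannian.map φ.hom (e A g) := by
  obtain ⟨n, v, hv⟩ := Module.Finite.exists_fin' R M
  obtain ⟨X₀, e₀, he₀⟩ := H26Gr.exists_rep R n k
  obtain ⟨Z, ι, hι, hZ⟩ := exists_closed (X := X₀)
    (fun A g => LinearMap.ker (v.baseChange A) ≤ (e₀ A g).toSubmodule)
    (fun A g => vanIdeal (e₀ A g) ((fun m => (1 : A) ⊗ₜ[R] m) '' {m | v m = 0}))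
    (fun A B φ g g' h => by
      rw [← forall_mem_map_iff, ← he₀ A B φ g g' h, ker_baseChange_eq_span v hv B, Submodule.span_le,
        Set.forall_mem_image, Set.image_subset_iff]
      refine forall₂_congr fun m _ => ?_
      simp [bc])
  let X : Over (Spec (CommRingCat.of R)) := Over.mk (ι ≫ X₀.hom)
  let i : X ⟶ X₀ := Over.homMk ι rfl
  haveI : IsClosedImmersion ι := hι
  have hex : ∀ (A : CommAlgCat.{u} R) (g : SR A ⟶ X), ∃ N, comapGr v hv N = e₀ A (g ≫ i) := fun A g =>
    exists_comapGr_eq v hv _ ((hZ A (g ≫ i)).1 ⟨g.left, rfl⟩)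
  choose F hF using hex
  have hbij : ∀ A, Function.Bijective (F A) := by
    refine fun A => ⟨fun g g' h => ?_, fun N => ?_⟩
    · have h1 : e₀ A (g ≫ i) = e₀ A (g' ≫ i) := by rw [← hF, ← hF, h]
      exact Over.OverMorphism.ext ((cancel_mono ι).1 (congrArg (fun t => t.left) ((e₀ A).injective h1)))
    · let g₀ := (e₀ A).symm (comapGr v hv N)
      have hP : LinearMap.ker (v.baseChange A) ≤ (e₀ A g₀).toSubmodule := by
        rw [Equiv.apply_symm_apply]
        exact LinearMap.ker_le_comap _
      obtain ⟨h, hh⟩ := (hZ A g₀).2 hP
      let g : SR A ⟶ X := Over.homMk h (by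
        show h ≫ ι ≫ X₀.hom = _
        rw [← Category.assoc, hh]; exact Over.w g₀)
      refine ⟨g, comapGr_injective v hv ?_⟩
      rw [hF, show g ≫ i = g₀ from Over.OverMorphism.ext hh, Equiv.apply_symm_apply]
  refine ⟨X, fun A => Equiv.ofBijective (F A) (hbij A), fun A B φ g g' h => ?_⟩
  refine comapGr_injective v hv ?_
  show comapGr v hv (F B g') = comapGr v hv (Module.Grassmannian.map φ.hom (F A g))
  rw [← comapGr_map, hF, hF]
  refine he₀ A B φ _ _ ?_
  show g'.left ≫ ι = _ ≫ g.left ≫ ι
  rw [h, Category.assoc]

open AlgebraicGeometry CategoryTheory in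
/-- Let R be a commutative ring, M a finitely generated R-module and k a natural number. The
Grassmannian functor of rank-k locally free quotients of M (on R-algebras A: submodules N of A ⊗_R M
whose quotient is a finite projective A-module of constant rank k) is representable by a scheme X
over Spec R: there is a family of bijections between Spec R-morphisms Spec A → X and the value of
the functor at A, compatible with base change along every R-algebra homomorphism A → B. (The
published statement is for a quasi-coherent module over an arbitrary base scheme, and is proved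
there for modules of finite type; this row takes the base affine and the module finitely generated.) -/
theorem result (R : Type u) [CommRing R]
    (M : Type u) [AddCommGroup M] [Module R M] [Module.Finite R M] (k : ℕ) :
    ∃ (X : Over (Spec (CommRingCat.of R)))
      (e : ∀ A : CommAlgCat.{u} R,
        (Over.mk (Spec.map (CommRingCat.ofHom (algebraMap R A))) ⟶ X) ≃
          (Module.Grassmannian.functor (R := R) (M := M) k).obj A),
      ∀ (A B : CommAlgCat.{u} R) (φ : A ⟶ B)
        (g : Over.mk (Spec.map (CommRingCat.ofHom (algebraMap R A))) ⟶ X)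
        (g' : Over.mk (Spec.map (CommRingCat.ofHom (algebraMap R B))) ⟶ X),
        g'.left = Spec.map (CommRingCat.ofHom φ.hom.toRingHom) ≫ g.left →
          e B g' = (Module.Grassmannian.functor (R := R) (M := M) k).map φ (e A g) := by
  exact exists_rep_of_finite R M k

end Groth.Agent.S10846
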