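import Groth.Statements.S13689
import Groth.Agent.H23KS.Isotypical
import Mathlib

set_option autoImplicit false
universe u
open CategoryTheory CategoryTheory.Limits AlgebraicGeometry
open ASBun

namespace Groth.Agent.S13689

open W4c1astiltbs12 in
/-- Let X be proper over a field k, K an algebraic closure of k with projection π : X_K → X, and E a
nonzero finite locally free O_X-module which is absolutely rank-one-isotypical: π^*E ≅ L^{⊕r} for
some r and some invertible O_{X_K}-module L that is indecomposable (nonzero, and in any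
decomposition as a direct sum one summand is zero; for an invertible module this says X_K is
connected). Then E ≅ G^{⊕n} for some n and some indecomposable finite locally free O_X-module G, and
G is unique: any indecomposable G and G' with E ≅ G^{⊕n} and E ≅ G'^{⊕m} are isomorphic. (The
published statement assumes k infinite and X projective, and its extension in the text X proper and
geometrically integral; the argument uses only properness of X and indecomposability of the type L,
without which the structure sheaf of two points is a counterexample.) -/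
theorem result (k : Type u) [Field k] {X : Scheme.{u}}
    (p : X ⟶ Spec (CommRingCat.of k)) [IsProper p] (K : Type u) [Field K] [Algebra k K]
    [IsAlgClosure k K] (E : X.Modules) (hE : FlatMod.IsFinLocFree E) (hE0 : ¬ IsZero E)
    (L : (W4bk4gw11416.baseChange p K).Modules) (hL : PicF.IsInvertible L)
    (hLi : (¬ IsZero L ∧ ∀ A B : (W4bk4gw11416.baseChange p K).Modules, Nonempty (L ≅ A ⊞ B) → IsZero A ∨ IsZero B))
    (r : ℕ) (e : Nonempty (bcMod p K E ≅ pow L r)) :
    (∃ (G : X.Modules) (n : ℕ), FlatMod.IsFinLocFree G ∧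
      (¬ IsZero G ∧ ∀ A B : X.Modules, Nonempty (G ≅ A ⊞ B) → IsZero A ∨ IsZero B) ∧
      Nonempty (E ≅ pow G n)) ∧
    (∀ (G G' : X.Modules) (n m : ℕ),
      (¬ IsZero G ∧ ∀ A B : X.Modules, Nonempty (G ≅ A ⊞ B) → IsZero A ∨ IsZero B) →
      (¬ IsZero G' ∧ ∀ A B : X.Modules, Nonempty (G' ≅ A ⊞ B) → IsZero A ∨ IsZero B) →
      Nonempty (E ≅ pow G n) → Nonempty (E ≅ pow G' m) → Nonempty (G ≅ G')) := by
  letI : X.Over (Spec (CommRingCat.of k)) := ⟨p⟩
  letI : (W4bk4gw11416.baseChange p K).Over (Spec (CommRingCat.of K)) :=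
    ⟨pullback.snd p (Spec.map (CommRingCat.ofHom (algebraMap k K)))⟩
  haveI : IsProper (X ↘ Spec (CommRingCat.of k)) := ‹IsProper p›
  haveI : IsProper ((W4bk4gw11416.baseChange p K) ↘ Spec (CommRingCat.of K)) :=
    inferInstanceAs (IsProper (pullback.snd p (Spec.map (CommRingCat.ofHom (algebraMap k K)))))
  haveI : IsLocallyNoetherian X := LocallyOfFiniteType.isLocallyNoetherian (X ↘ Spec (CommRingCat.of k))
  haveI := Abelian.hasFiniteBiproducts (C := X.Modules)
  haveI := Abelian.hasFiniteBiproducts (C := (W4bk4gw11416.baseChange p K).Modules)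
  have hsq := IsPullback.of_hasPullback p (Spec.map (CommRingCat.ofHom (algebraMap k K)))
  have hEc := Groth.Agent.H16Derived.KFlat.Stalk.isCoh_of_isFinLocFree hE
  let q := pullback.fst p (Spec.map (CommRingCat.ofHom (algebraMap k K)))
  obtain ⟨a⟩ := e
  have hEK : Coh.IsCoh (bcMod p K E) :=
    ⟨Groth.Agent.H29Fitt.isQCoh_pullback q E hEc.1, Groth.Agent.H29Fitt.isFT_pullback q E hEc.1 hEc.2⟩
  letI := Groth.Agent.H23KS.endAlgebra K (bcMod p K E)
  haveI := Groth.Agent.H23KS.finite_end K (bcMod p K E) hEK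
  haveI : PreservesColimitsOfSize.{0, 0} (Scheme.Modules.pullback q) :=
    (Scheme.Modules.pullbackPushforwardAdjunction q).leftAdjoint_preservesColimits
  letI := Groth.Agent.H23KS.endAlgebra k E
  haveI := Groth.Agent.H23KS.finite_end k E hEc
  obtain ⟨N, Gs, hGs, ⟨φ⟩⟩ := Groth.Agent.H23KS.existence k E
  have hi : ∀ i, (biproduct.ι Gs i ≫ φ.inv) ≫ (φ.hom ≫ biproduct.π Gs i) = 𝟙 (Gs i) := fun i => by simp
  have htype : ∀ i, ∃ m : ℕ, Nonempty (bcMod p K (Gs i) ≅ pow L m) := by
    intro i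
    let ii := (Scheme.Modules.pullback q).map (biproduct.ι Gs i ≫ φ.inv)
    let rr := (Scheme.Modules.pullback q).map (φ.hom ≫ biproduct.π Gs i)
    have hir : ii ≫ rr = 𝟙 _ := by rw [← Functor.map_comp, hi, CategoryTheory.Functor.map_id]
    have hdec := Groth.Agent.H23KS.nonempty_dec K (bcMod p K E) _ ii rr hir
    obtain ⟨d⟩ := hdec
    letI := d.fin
    have hall : ∀ x, Nonempty (d.obj x ≅ L) := by
      intro x
      classical
      have hx : (d.inc x ≫ ii) ≫ (rr ≫ d.proj x) = 𝟙 _ := by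
        rw [Category.assoc, reassoc_of% hir, d.inc_proj_self]
      have hsum : ∑ t : Fin r, ((d.inc x ≫ ii ≫ a.hom ≫ (biproduct.isoCoproduct _).inv ≫
          biproduct.π (fun _ : Fin r => L) t) ≫ (biproduct.ι (fun _ : Fin r => L) t ≫
            (biproduct.isoCoproduct _).hom ≫ a.inv ≫ rr ≫ d.proj x) : d.obj x ⟶ d.obj x) = 𝟙 _ := by
        have h1 : ∀ t, (d.inc x ≫ ii ≫ a.hom ≫ (biproduct.isoCoproduct _).inv ≫
            biproduct.π (fun _ : Fin r => L) t) ≫ (biproduct.ι (fun _ : Fin r => L) t ≫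
              (biproduct.isoCoproduct _).hom ≫ a.inv ≫ rr ≫ d.proj x) =
            (d.inc x ≫ ii ≫ a.hom ≫ (biproduct.isoCoproduct _).inv) ≫ (biproduct.π (fun _ : Fin r => L) t ≫
              biproduct.ι (fun _ : Fin r => L) t) ≫ (biproduct.isoCoproduct _).hom ≫ a.inv ≫ rr ≫ d.proj x := by
          intro t; simp
        rw [Finset.sum_congr rfl fun t _ => h1 t, ← Preadditive.comp_sum, ← Preadditive.sum_comp, biproduct.total,
          Category.id_comp]
        simp only [Category.assoc, Iso.inv_hom_id_assoc, Iso.hom_inv_id_assoc]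
        simpa using hx
      have hP := (Groth.Agent.H23KS.piReg_of_finite K (bcMod p K E)).of_retract _ _ hx
      have h1 : (1 : End (d.obj x)) = _ := hsum.symm
      obtain ⟨t, -, hu⟩ := Groth.Agent.H23KS.exists_isUnit_of_sum (d.indec x) hP Finset.univ _ (h1 ▸ isUnit_one)
      haveI := (isUnit_iff_isIso _).1 hu
      let u := d.inc x ≫ ii ≫ a.hom ≫ (biproduct.isoCoproduct _).inv ≫ biproduct.π (fun _ : Fin r => L) t
      let v := biproduct.ι (fun _ : Fin r => L) t ≫ (biproduct.isoCoproduct _).hom ≫ a.inv ≫ rr ≫ d.proj x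
      haveI : IsIso (u ≫ v) := by assumption
      let e' : End L := (v ≫ inv (u ≫ v)) ≫ u
      have hid : e' * e' = e' := by
        show ((v ≫ inv (u ≫ v)) ≫ u) ≫ (v ≫ inv (u ≫ v)) ≫ u = (v ≫ inv (u ≫ v)) ≫ u
        simp only [Category.assoc]
        rw [← Category.assoc u v, IsIso.hom_inv_id_assoc]
      rcases Groth.Agent.H23KS.eq_zero_or_one_of_idem hLi e' hid with h0 | h0
      · refine absurd ((IsZero.iff_id_eq_zero (d.obj x)).2 ?_) (d.indec x).1
        calc 𝟙 (d.obj x) = (u ≫ v) ≫ inv (u ≫ v) ≫ (u ≫ v) ≫ inv (u ≫ v) := by simp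
          _ = u ≫ ((v ≫ inv (u ≫ v)) ≫ u) ≫ v ≫ inv (u ≫ v) := by simp only [Category.assoc]
          _ = 0 := by
            rw [show (v ≫ inv (u ≫ v)) ≫ u = (0 : L ⟶ L) from h0, zero_comp, comp_zero]
      · exact ⟨⟨u, v ≫ inv (u ≫ v), by rw [← Category.assoc]; exact IsIso.hom_inv_id _, h0⟩⟩
    let ex := fun x => (hall x).some
    classical
    let φd : bcMod p K (Gs i) ≅ ⨁ d.obj := ⟨biproduct.lift d.proj, biproduct.desc d.inc,
      by rw [biproduct.lift_desc]; exact d.total, by
        refine biproduct.hom_ext' _ _ fun a => biproduct.hom_ext _ _ fun b => ?_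
        by_cases hab : a = b
        · subst hab; simp [d.inc_proj_self]
        · simp [d.inc_proj_ne _ _ hab, biproduct.ι_π_ne _ hab]⟩
    exact ⟨Fintype.card d.idx, ⟨φd ≪≫ biproduct.isoCoproduct _ ≪≫ Sigma.mapIso (fun x => ex x) ≪≫
      Sigma.whiskerEquiv (f := fun _ : d.idx => L) (g := fun _ : Fin (Fintype.card d.idx) => L)
        (Fintype.equivFin d.idx) (fun _ => Iso.refl L)⟩⟩
  choose ms hms using htype
  have hfl : ∀ i, FlatMod.IsFinLocFree (Gs i) := fun i =>
    Groth.Agent.H23KS.isFinLocFree_of_retract hE _ _ (hi i)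
  have hN : N ≠ 0 := fun h0 => by
    subst h0
    refine hE0 (IsZero.of_iso ((IsZero.iff_id_eq_zero _).2 ?_) φ)
    exact biproduct.hom_ext _ _ fun i => i.elim0
  let i₀ : Fin N := ⟨0, Nat.pos_of_ne_zero hN⟩
  have hsame : ∀ i, Nonempty (Gs i ≅ Gs i₀) := fun i =>
    Groth.Agent.H23KS.eq_of_isotypical (k := k) (K := K) hsq (Groth.Agent.H16Derived.KFlat.Stalk.isCoh_of_isFinLocFree (hfl i))
      (Groth.Agent.H16Derived.KFlat.Stalk.isCoh_of_isFinLocFree (hfl i₀)) (hGs i) (hGs i₀) L (ms i) (ms i₀)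
      (hms i).some (hms i₀).some
  refine ⟨⟨Gs i₀, N, hfl i₀, hGs i₀, ⟨φ ≪≫ biproduct.isoCoproduct _ ≪≫ Sigma.mapIso fun i => (hsame i).some⟩⟩, ?_⟩
  intro G G' n m hG hG' ⟨x⟩ ⟨y⟩
  obtain ⟨σ, hσ⟩ := Groth.Agent.H23KS.uniqueness k E (fun _ : Fin n => G) (fun _ : Fin m => G') (fun _ => hG)
    (fun _ => hG') (x ≪≫ (biproduct.isoCoproduct _).symm) (y ≪≫ (biproduct.isoCoproduct _).symm)
  have hn : n ≠ 0 := fun h0 => by
    subst h0
    refine hE0 (IsZero.of_iso ((IsZero.iff_id_eq_zero _).2 ?_) x)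
    ext a; exact a.elim0
  exact hσ ⟨0, Nat.pos_of_ne_zero hn⟩

end Groth.Agent.S13689
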