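import Groth.Statements.S14202
import Groth.Agent.H23KS.DualSum
import Groth.Agent.H23KS.RankOne
import Groth.Agent.H10Coh.Stab.TwistInt
import Groth.Agent.H28Int.FieldExt
import Groth.Agent.LeadPic.PnRel

set_option autoImplicit false
universe u
open CategoryTheory CategoryTheory.Limits AlgebraicGeometry
open ASBun

namespace Groth.Agent.S14202

attribute [local instance] Abelian.hasFiniteBiproducts

/-- Let X be a scheme proper over a field k, K an algebraic closure of k, e a K-isomorphism X_K ≅ P^n_K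
with O_e(j) the pullback of O(j) along e, and j an integer. If W and W' are indecomposable finite
locally free O_X-modules (nonzero, and in any decomposition as a direct sum one summand is zero)
with W_K ≅ O_e(j)^{⊕r} and W'_K ≅ O_e(−j)^{⊕r'} for some r, r' ≥ 1, then r = r': the indecomposable
modules of types O(j) and O(−j) have the same rank (W' is isomorphic to the dual of W). -/
theorem result (k : Type u) [Field k] {X : Scheme.{u}}
    (f : X ⟶ Spec (CommRingCat.of k)) [IsProper f] (n : ℕ)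
    (K : Type u) [Field K] [Algebra k K] [IsAlgClosure k K] (e : BrSev.Splitting f K n) (j : ℤ)
    (W W' : X.Modules) (hW : FlatMod.IsFinLocFree W) (hW' : FlatMod.IsFinLocFree W')
    (hWi : (¬ IsZero W ∧ ∀ M₁ M₂ : X.Modules, Nonempty (W ≅ M₁ ⊞ M₂) → IsZero M₁ ∨ IsZero M₂))
    (hW'i : (¬ IsZero W' ∧ ∀ M₁ M₂ : X.Modules, Nonempty (W' ≅ M₁ ⊞ M₂) → IsZero M₁ ∨ IsZero M₂))
    (r r' : ℕ) (hr : 0 < r) (hr' : 0 < r') (hWt : BrSev.IsTwPow e j r W)
    (hW't : BrSev.IsTwPow e (-j) r' W') : r = r' := by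
  letI : X.Over (Spec (CommRingCat.of k)) := ⟨f⟩
  letI : (BrSev.bc f K).Over (Spec (CommRingCat.of K)) := ⟨BrSev.bcTo f K⟩
  haveI : IsProper (X ↘ Spec (CommRingCat.of k)) := ‹IsProper f›
  haveI : IsProper ((BrSev.bc f K) ↘ Spec (CommRingCat.of K)) :=
    inferInstanceAs (IsProper (pullback.snd f (Spec.map (CommRingCat.ofHom (algebraMap k K)))))
  haveI := H28Int.isNoetherian k (X := X)
  haveI : IsAlgClosed K := IsAlgClosure.isAlgClosed k
  haveI : IsIntegral (CohB1.ProjSpace n K) := LeadPic.PnRel.isIntegral_projSpace (n := n) K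
  haveI : Nonempty (BrSev.bc f K) := ⟨e.iso.inv (Classical.arbitrary _)⟩
  haveI : IsIntegral (BrSev.bc f K) := isIntegral_of_isOpenImmersion e.iso.hom
  have hsq : IsPullback (BrSev.proj f K) ((BrSev.bc f K) ↘ Spec (CommRingCat.of K))
      (X ↘ Spec (CommRingCat.of k)) (Spec.map (CommRingCat.ofHom (algebraMap k K))) :=
    IsPullback.of_hasPullback f (Spec.map (CommRingCat.ofHom (algebraMap k K)))
  obtain ⟨a⟩ := hWt
  obtain ⟨b⟩ := hW't
  -- the twists on `X_K`
  have hT : H10Coh.Stab.IsTwistFamily fun i => e.twist i :=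
    (H10Coh.Stab.isTwistFamily_projSpace n K).pullback e.iso.hom
  obtain ⟨e₀⟩ := hT.zero
  obtain ⟨e₁⟩ := hT.add j (-j)
  obtain ⟨dl⟩ := H23KS.nonempty_dual_iso (hT.inv j)
    (e₁ ≪≫ eqToIso (congrArg (fun i => e.twist i) (add_neg_cancel j)) ≪≫ e₀)
  haveI : IsAffineHom (BrSev.proj f K) :=
    MorphismProperty.pullback_fst f (Spec.map (CommRingCat.ofHom (algebraMap k K))) inferInstance
  obtain ⟨pd⟩ := H23KS.nonempty_pullback_dual (BrSev.proj f K) hW
  let aD : LeadBC.qF (BrSev.proj f K) (RefHull.dual W) ≅ ∐ fun _ : Fin r => e.twist (-j) :=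
    pd ≪≫ (RefFun.dualIso a) ≪≫ H23KS.dualSigma _ ≪≫ Sigma.mapIso fun _ => dl
  have hWd : H23KS.Indec (RefHull.dual W) := H23KS.indec_dual hW hWi
  have hWc' := H16Derived.KFlat.Stalk.isCoh_of_isFinLocFree hW'
  obtain ⟨ψ⟩ := H23KS.eq_of_isotypical hsq
    (H16Derived.KFlat.Stalk.isCoh_of_isFinLocFree (H10Inj.SheafExt.isFinLocFree_dual hW)) hWc' hWd hW'i
    (e.twist (-j)) r r' aD b
  -- multiplicities are determined
  let L := e.twist (-j)
  have hL : ¬ IsZero L := fun hz => H23KS.not_isZero_map hsq hWc' hW'i.1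
    ((IsZero.iff_id_eq_zero _).2 (Sigma.hom_ext _ _ fun i => hz.eq_of_src _ _)|>.of_iso b)
  letI := H23KS.endAlgebra K L
  have hLi : H23KS.Indec L := by
    refine ⟨hL, fun B D ⟨g⟩ => ?_⟩
    haveI : Nontrivial (End L) := ⟨1, 0, fun h => hL ((IsZero.iff_id_eq_zero _).2 h)⟩
    let φ : End L := g.hom ≫ biprod.fst ≫ biprod.inl ≫ g.inv
    obtain ⟨c, hc⟩ := H23KS.end_invertible_scalar (K := K) (hT.inv (-j)) hL φ
    have hc' : φ = algebraMap K (End L) c := hc
    have hidem : φ * φ = φ := by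
      show φ ≫ φ = φ
      simp [φ]
    have hcc : c * c = c := (algebraMap K (End L)).injective (by rw [map_mul, ← hc', hidem])
    rcases mul_right_eq_self₀.1 hcc with rfl | rfl
    · refine Or.inr ((IsZero.iff_id_eq_zero _).2 ?_)
      have h1 : φ = 𝟙 L := hc'.trans (map_one _)
      have h2 := congrArg (fun t : L ⟶ L => biprod.inr ≫ g.inv ≫ t ≫ g.hom ≫ biprod.snd) h1
      simpa [φ] using h2.symm
    · refine Or.inl ((IsZero.iff_id_eq_zero _).2 ?_)
      have h1 : φ = 0 := hc'.trans (map_zero _)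
      have h2 := congrArg (fun t : L ⟶ L => biprod.inl ≫ g.inv ≫ t ≫ g.hom ≫ biprod.fst) h1
      simpa [φ] using h2
  let F := LeadBC.qF (BrSev.proj f K) W'
  letI := H23KS.endAlgebra K F
  haveI := H23KS.finite_end K F
    (H16Derived.KFlat.Stalk.isCoh_of_isFinLocFree (H16Derived.KFlat.Stalk.isFinLocFree_pullback (BrSev.proj f K) hW'))
  obtain ⟨σ, -⟩ := H23KS.uniqueness K F (fun _ : Fin r => L) (fun _ : Fin r' => L) (fun _ => hLi) (fun _ => hLi)
    (((Scheme.Modules.pullback (BrSev.proj f K)).mapIso ψ).symm ≪≫ aD ≪≫ (biproduct.isoCoproduct _).symm)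
    (b ≪≫ (biproduct.isoCoproduct _).symm)
  simpa using Fintype.card_congr σ

end Groth.Agent.S14202
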