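import Groth.Statements.S9680
import Groth.Agent.H17.BiratOver
import Mathlib.AlgebraicGeometry.Birational.Birational
import Mathlib.AlgebraicGeometry.SpreadingOut

set_option autoImplicit false
universe u
open CategoryTheory CategoryTheory.Limits AlgebraicGeometry
open Mor

namespace Groth.Agent.S9680

open CategoryTheory CategoryTheory.Limits AlgebraicGeometry TopologicalSpace
open Groth.Agent.H17 Groth.Agent.H17.BiratOver

/-- Suppose X and Y are irreducible S-schemes, each locally of finite presentation over S, with generic
points x and y. Then X and Y are S-birational (they admit S-isomorphic nonempty opens) if and only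
if x and y map to the same point s of S and the local rings of X at x and of Y at y are isomorphic
as algebras over the local ring of S at s. -/
theorem result {S X Y : Scheme.{u}}
    [IrreducibleSpace ↥X] [IrreducibleSpace ↥Y] (sX : X ⟶ S) (sY : Y ⟶ S)
    [LocallyOfFinitePresentation sX] [LocallyOfFinitePresentation sY] :
    Scheme.BirationalOver sX sY ↔
      ∃ (hs : sX.base (genericPoint ↥X) = sY.base (genericPoint ↥Y))
        (e : X.presheaf.stalk (genericPoint ↥X) ≅ Y.presheaf.stalk (genericPoint ↥Y)),
        sX.stalkMap (genericPoint ↥X) ≫ e.hom =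
          eqToHom (congrArg S.presheaf.stalk hs) ≫ sY.stalkMap (genericPoint ↥Y) := by
  refine ⟨exists_stalk_iso_of_birationalOver sX sY, fun ⟨hs, e, he⟩ => ?_⟩
  have he' : sY.stalkMap (genericPoint Y) ≫ e.inv =
      eqToHom (congrArg S.presheaf.stalk hs.symm) ≫ sX.stalkMap (genericPoint X) := by
    rw [Iso.comp_inv_eq, Category.assoc, he, ← Category.assoc, eqToHom_trans, eqToHom_refl,
      Category.id_comp]
  obtain ⟨U, hxU, f, hf, hfs⟩ := spread_out sX sY hs e.inv (by
    rw [stalkSpecializes_eq_eqToHom hs]; exact he')
  obtain ⟨V, hyV, g, hg, hgs⟩ := spread_out sY sX hs.symm e.hom (by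
    rw [stalkSpecializes_eq_eqToHom hs.symm]; exact he)
  exact birationalOver_of_spread sX sY hxU f hfs hyV g hgs e hf hg

end Groth.Agent.S9680
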