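import Groth.Statements.S6291
import Mathlib.RingTheory.Nakayama
import Mathlib.RingTheory.LocalRing.MaximalIdeal.Basic

set_option autoImplicit false
universe u
open CAlg

namespace Groth.Agent.S6291

/-- Let R be a local ring with maximal ideal m and M an R-module of finite length. Then mⁿM = 0 for some
n. -/
theorem result {R : Type u} [CommRing R] [IsLocalRing R] (M : Type u) [AddCommGroup M] [Module R M] (hM : IsFiniteLength R M) : ∃ n : ℕ, (IsLocalRing.maximalIdeal R) ^ n • (⊤ : Submodule R M) = ⊥ := by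
  obtain ⟨_, _⟩ := isFiniteLength_iff_isNoetherian_isArtinian.mp hM
  let g : ℕ →o (Submodule R M)ᵒᵈ := ⟨fun n => OrderDual.toDual ((IsLocalRing.maximalIdeal R) ^ n • (⊤ : Submodule R M)),
    fun a b h => Submodule.smul_mono_left (Ideal.pow_le_pow_right h)⟩
  obtain ⟨n, hn⟩ := IsArtinian.monotone_stabilizes g
  refine ⟨n, Submodule.eq_bot_of_le_smul_of_le_jacobson_bot (IsLocalRing.maximalIdeal R) _ (IsNoetherian.noetherian _) ?_ (IsLocalRing.maximalIdeal_le_jacobson ⊥)⟩
  rw [← Submodule.mul_smul, ← pow_succ']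
  exact le_of_eq (OrderDual.toDual.injective (hn (n + 1) n.le_succ))

end Groth.Agent.S6291
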