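import Groth.Statements.S13929
import Groth.Agent.H25FiniteFibre

set_option autoImplicit false
universe u
open W4c1limliniiii

namespace Groth.Agent.S13929

open Polynomial

section
variable {k : Type u} [Field k]

theorem coeff_mul_derivative (F G : k[X]) {m l : ℕ} (hF : F.natDegree ≤ m) (hG : G.natDegree ≤ l) :
    (F * derivative G).coeff (m + l - 1) = F.coeff m * G.coeff l * (l : k) := by
  rcases Nat.eq_zero_or_pos l with rfl | hl
  · rw [Polynomial.derivative_of_natDegree_zero (Nat.le_zero.mp hG)]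
    simp
  · have h1 : (derivative G).natDegree ≤ l - 1 := (natDegree_derivative_le G).trans (by omega)
    rw [show m + l - 1 = m + (l - 1) by omega, coeff_mul_add_eq_of_natDegree_le hF h1, coeff_derivative,
      show l - 1 + 1 = l by omega, ← mul_assoc]
    congr 1
    rw [Nat.cast_sub hl, Nat.cast_one, sub_add_cancel]

theorem coeff_wronskian (F G : k[X]) {m l : ℕ} (hF : F.natDegree ≤ m) (hG : G.natDegree ≤ l) :
    (wronskian F G).coeff (m + l - 1) = F.coeff m * G.coeff l * ((l : k) - m) := by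
  rw [wronskian, coeff_sub, coeff_mul_derivative F G hF hG, mul_comm (derivative F) G, add_comm m l,
    coeff_mul_derivative G F hG hF]
  ring

theorem natCast_ne {p d : ℕ} [CharP k p] (hp : p = 0 ∨ d < p) {l m : ℕ} (hl : l ≤ d) (hm : m ≤ d) (h : l ≠ m) :
    (l : k) ≠ (m : k) := by
  intro he
  rw [CharP.natCast_eq_natCast k p] at he
  rcases hp with rfl | hp
  · exact h (Nat.modEq_zero_iff.mp he)
  · exact h (he.eq_of_lt_of_lt (by omega) (by omega))

theorem dependent_of_wronskian {p d : ℕ} [CharP k p] (hp : p = 0 ∨ d < p) {F G : k[X]} (hF : F.natDegree ≤ d)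
    (hG : G.natDegree ≤ d) (h : wronskian F G = 0) (a b : ℕ) : F.coeff a * G.coeff b = F.coeff b * G.coeff a := by
  rcases eq_or_ne F 0 with rfl | hF0
  · simp
  set m := F.natDegree
  have hlc : F.coeff m ≠ 0 := leadingCoeff_ne_zero.mpr hF0
  let c := G.coeff m / F.coeff m
  let G' := G - C c * F
  have hG' : G' = 0 := by
    by_contra hne
    have hd : G'.natDegree ≤ d := (natDegree_sub_le _ _).trans (max_le hG ((natDegree_C_mul_le _ _).trans hF))
    have hm : G'.coeff m = 0 := by
      simp only [G', c, coeff_sub, coeff_C_mul]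
      field_simp
      ring
    have hlm : G'.natDegree ≠ m := fun he => leadingCoeff_ne_zero.mpr hne (by rw [leadingCoeff, he, hm])
    have hw : wronskian F G' = 0 := by
      simp only [G', wronskian, derivative_sub, derivative_C_mul] at h ⊢
      linear_combination h
    have := coeff_wronskian F G' (le_refl m) (le_refl _)
    rw [hw, coeff_zero] at this
    rcases mul_eq_zero.mp this.symm with h1 | h1
    · rcases mul_eq_zero.mp h1 with h2 | h2
      exacts [hlc h2, leadingCoeff_ne_zero.mpr hne h2]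
    · exact natCast_ne hp hd hF hlm (sub_eq_zero.mp h1)
  have hGe : G = C c * F := sub_eq_zero.mp hG'
  rw [hGe, coeff_C_mul, coeff_C_mul]
  ring

noncomputable def WP (d : ℕ) (ω : Fin (d + 1) × Fin (d + 1) → k) : k[X] :=
  ∑ ab, C (ω ab) * (X ^ (ab.1 : ℕ) * derivative (X ^ (ab.2 : ℕ)))

theorem expand {d : ℕ} {F : k[X]} (hF : F.natDegree ≤ d) : F = ∑ a : Fin (d + 1), C (F.coeff a) * X ^ (a : ℕ) := by
  conv_lhs => rw [F.as_sum_range_C_mul_X_pow' (Nat.lt_succ_of_le hF)]
  exact Finset.sum_range _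

theorem WP_wedge {d : ℕ} {F G : k[X]} (hF : F.natDegree ≤ d) (hG : G.natDegree ≤ d) :
    WP d (fun ab => F.coeff ab.1 * G.coeff ab.2 - F.coeff ab.2 * G.coeff ab.1) = wronskian F G := by
  conv_rhs => rw [expand hF, expand hG]
  rw [wronskian, derivative_sum, derivative_sum, Finset.sum_mul_sum, Finset.sum_mul_sum, WP, Fintype.sum_prod_type]
  simp only [map_sub, sub_mul, Finset.sum_sub_distrib]
  congr 1
  · refine Finset.sum_congr rfl fun a _ => Finset.sum_congr rfl fun b _ => ?_
    rw [map_mul, derivative_C_mul]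
    ring
  · rw [Finset.sum_comm]
    refine Finset.sum_congr rfl fun a _ => Finset.sum_congr rfl fun b _ => ?_
    rw [map_mul, derivative_C_mul]
    ring

theorem dvd_wronskian {s : k[X]} (t : k[X]) {a : k} {e : ℕ} (h : (X - C a) ^ e ∣ s) :
    (X - C a) ^ (e - 1) ∣ wronskian s t :=
  dvd_sub (((pow_dvd_pow _ (Nat.sub_le e 1)).trans h).mul_right _)
    ((pow_sub_one_dvd_derivative_of_pow_dvd h).mul_right _)

open MvPolynomial in
/-- The Plücker equations and the coefficients of the Wronskian. -/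
noncomputable def eqn (d : ℕ) :
    (Fin (d + 1) × Fin (d + 1)) ⊕ (Fin (d + 1)) ⊕ (Fin (d + 1) × Fin (d + 1) × Fin (d + 1) × Fin (d + 1)) ⊕ Fin (2 * d) →
      MvPolynomial (Fin (d + 1) × Fin (d + 1)) k
  | .inl (a, b) => MvPolynomial.X (a, b) + MvPolynomial.X (b, a)
  | .inr (.inl a) => MvPolynomial.X (a, a)
  | .inr (.inr (.inl (a, b, c, e))) =>
      MvPolynomial.X (a, b) * MvPolynomial.X (c, e) - MvPolynomial.X (a, c) * MvPolynomial.X (b, e) +
        MvPolynomial.X (a, e) * MvPolynomial.X (b, c)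
  | .inr (.inr (.inr j)) =>
      ∑ ab : Fin (d + 1) × Fin (d + 1), MvPolynomial.C (((Polynomial.X : k[X]) ^ (ab.1 : ℕ) *
        Polynomial.derivative (Polynomial.X ^ (ab.2 : ℕ))).coeff j) * MvPolynomial.X ab

def deg (d : ℕ) :
    (Fin (d + 1) × Fin (d + 1)) ⊕ (Fin (d + 1)) ⊕ (Fin (d + 1) × Fin (d + 1) × Fin (d + 1) × Fin (d + 1)) ⊕ Fin (2 * d) → ℕ
  | .inr (.inr (.inl _)) => 2
  | _ => 1

theorem eval_eqn_L {d : ℕ} (ω : Fin (d + 1) × Fin (d + 1) → k) (j : Fin (2 * d)) :
    MvPolynomial.eval ω (eqn d (.inr (.inr (.inr j)))) = (WP d ω).coeff j := by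
  simp only [eqn, WP, map_sum, map_mul, MvPolynomial.eval_C, MvPolynomial.eval_X, finsetSum_coeff, coeff_C_mul]
  exact Finset.sum_congr rfl fun _ _ => mul_comm _ _

theorem eqn_homogeneous (d : ℕ) (t) : (eqn (k := k) d t).IsHomogeneous (deg d t) := by
  rcases t with ⟨a, b⟩ | a | ⟨a, b, c, e⟩ | j
  · exact (MvPolynomial.isHomogeneous_X k _).add (MvPolynomial.isHomogeneous_X k _)
  · exact MvPolynomial.isHomogeneous_X k _
  · exact (((MvPolynomial.isHomogeneous_X k _).mul (MvPolynomial.isHomogeneous_X k _)).sub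
      ((MvPolynomial.isHomogeneous_X k _).mul (MvPolynomial.isHomogeneous_X k _))).add
      ((MvPolynomial.isHomogeneous_X k _).mul (MvPolynomial.isHomogeneous_X k _))
  · exact MvPolynomial.IsHomogeneous.sum _ _ _ fun ab _ => MvPolynomial.isHomogeneous_C_mul_X _ _

theorem WP_natDegree {d : ℕ} (ω : Fin (d + 1) × Fin (d + 1) → k) {j : ℕ} (hj : 2 * d ≤ j) : (WP d ω).coeff j = 0 := by
  rw [WP, finsetSum_coeff]
  refine Finset.sum_eq_zero fun ab _ => ?_
  rw [coeff_C_mul, derivative_X_pow, ← mul_assoc, mul_comm (X ^ (ab.1 : ℕ)) (C _), mul_assoc, ← pow_add, coeff_C_mul,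
    coeff_X_pow]
  have := ab.1.2
  have := ab.2.2
  rcases Nat.eq_zero_or_pos (ab.2 : ℕ) with h | h
  · simp [h]
  · rw [if_neg (by omega)]; simp

theorem eqn_zero {p d : ℕ} [CharP k p] (hp : p = 0 ∨ d < p) (ω : Fin (d + 1) × Fin (d + 1) → k)
    (h : ∀ t, MvPolynomial.eval ω (eqn d t) = 0) : ω = 0 := by
  funext ⟨a, b⟩
  by_contra hab
  simp only [Pi.zero_apply] at hab
  let Fc : Fin (d + 1) → k := fun c => ω (c, b) / ω (a, b)
  let Gc : Fin (d + 1) → k := fun e => ω (a, e)
  let F : k[X] := ∑ c, C (Fc c) * X ^ (c : ℕ)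
  let G : k[X] := ∑ c, C (Gc c) * X ^ (c : ℕ)
  have hco : ∀ (v : Fin (d + 1) → k) (c : Fin (d + 1)), (∑ c, C (v c) * X ^ (c : ℕ)).coeff c = v c := by
    intro v c
    simp [finsetSum_coeff, coeff_X_pow, Fin.val_inj]
  have hdeg : ∀ v : Fin (d + 1) → k, (∑ c, C (v c) * X ^ (c : ℕ)).natDegree ≤ d := fun v =>
    natDegree_sum_le_of_forall_le _ _ fun c _ => (natDegree_C_mul_X_pow_le _ _).trans (Nat.le_of_lt_succ c.2)
  have hanti : ∀ x y, ω (y, x) = - ω (x, y) := fun x y => by
    have := h (.inl (x, y))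
    simp only [eqn, map_add, MvPolynomial.eval_X] at this
    linear_combination this
  have hw : ∀ c e, ω (c, e) = F.coeff c * G.coeff e - F.coeff e * G.coeff c := by
    intro c e
    have := h (.inr (.inr (.inl (a, b, c, e))))
    simp only [eqn, map_add, map_sub, map_mul, MvPolynomial.eval_X] at this
    simp only [F, G, hco, Fc, Gc]
    rw [hanti b e, hanti b c]
    field_simp
    linear_combination this
  have hWP : WP d ω = 0 := by
    ext j
    rcases lt_or_ge j (2 * d) with hj | hj
    · rw [coeff_zero, ← h (.inr (.inr (.inr ⟨j, hj⟩))), eval_eqn_L]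
    · rw [WP_natDegree ω hj, coeff_zero]
  have hwr : wronskian F G = 0 := by
    rw [← WP_wedge (hdeg Fc) (hdeg Gc), ← hWP]
    congr 1
    exact funext fun ce => (hw ce.1 ce.2).symm
  have := dependent_of_wronskian hp (hdeg Fc) (hdeg Gc) hwr a b
  exact hab (by rw [hw a b, this, sub_self])

noncomputable def Vof (d : ℕ) (ω : Fin (d + 1) × Fin (d + 1) → k) : Submodule k k[X] :=
  Submodule.span k (Set.range fun b : Fin (d + 1) => ∑ a : Fin (d + 1), C (ω (a, b)) * X ^ (a : ℕ))

theorem Vof_wedge {d : ℕ} {F G : k[X]} (hF : F.natDegree ≤ d) (hG : G.natDegree ≤ d) {a b : Fin (d + 1)}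
    (hab : F.coeff a * G.coeff b - F.coeff b * G.coeff a ≠ 0) :
    Vof d (fun ab => F.coeff ab.1 * G.coeff ab.2 - F.coeff ab.2 * G.coeff ab.1) = Submodule.span k {F, G} := by
  have hrow : ∀ c : Fin (d + 1), ∑ x : Fin (d + 1), C (F.coeff x * G.coeff c - F.coeff c * G.coeff x) * X ^ (x : ℕ) =
      G.coeff c • F - F.coeff c • G := by
    intro c
    conv_rhs => rw [expand hF, expand hG]
    rw [Finset.smul_sum, Finset.smul_sum, ← Finset.sum_sub_distrib]
    refine Finset.sum_congr rfl fun x _ => ?_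
    simp only [smul_eq_C_mul, map_sub, map_mul, ← expand hF, ← expand hG]
    ring
  refine le_antisymm (Submodule.span_le.mpr ?_) (Submodule.span_le.mpr ?_)
  · rintro _ ⟨c, rfl⟩
    simp only [SetLike.mem_coe, hrow]
    exact sub_mem (Submodule.smul_mem _ _ (Submodule.subset_span (by simp)))
      (Submodule.smul_mem _ _ (Submodule.subset_span (by simp)))
  · have hm : ∀ c : Fin (d + 1), G.coeff c • F - F.coeff c • G ∈
        Vof d (fun ab => F.coeff ab.1 * G.coeff ab.2 - F.coeff ab.2 * G.coeff ab.1) :=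
      fun c => hrow c ▸ Submodule.subset_span ⟨c, rfl⟩
    generalize Vof d (fun ab => F.coeff ab.1 * G.coeff ab.2 - F.coeff ab.2 * G.coeff ab.1) = V' at hm ⊢
    have hF' : F ∈ V' := by
      have e : F.coeff a • (G.coeff b • F - F.coeff b • G) - F.coeff b • (G.coeff a • F - F.coeff a • G) =
          (F.coeff a * G.coeff b - F.coeff b * G.coeff a) • F := by module
      rw [← inv_smul_smul₀ hab F, ← e]
      exact Submodule.smul_mem _ _ (sub_mem (Submodule.smul_mem _ _ (hm b)) (Submodule.smul_mem _ _ (hm a)))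
    have hG' : G ∈ V' := by
      have e : G.coeff a • (G.coeff b • F - F.coeff b • G) - G.coeff b • (G.coeff a • F - F.coeff a • G) =
          (F.coeff a * G.coeff b - F.coeff b * G.coeff a) • G := by module
      rw [← inv_smul_smul₀ hab G, ← e]
      exact Submodule.smul_mem _ _ (sub_mem (Submodule.smul_mem _ _ (hm b)) (Submodule.smul_mem _ _ (hm a)))
    rintro z hz
    rcases hz with h | h
    · exact h ▸ hF'
    · exact (Set.mem_singleton_iff.mp h) ▸ hG'

end

open Polynomial in
/-- Over an algebraically closed field of characteristic p with p = 0 or d < p, fix n distinct points of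
the affine line and admissible ramification indices (2 ≤ e_i ≤ d, e_i prime to p, ∑ (e_i − 1) = 2d −
2). Then there are only finitely many separable self-maps of the projective line of degree d, up to
automorphisms of the target, with ramification index exactly e_i at the i-th point: the set of
base-point-free separable pencils of polynomials of degree at most d with this ramification is
finite. (This is the case of a fully specified ramification divisor; the points are arbitrary
distinct points, not only general ones.) -/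
theorem result (k : Type u) [Field k] [IsAlgClosed k]
    (p : ℕ) [CharP k p] (d n : ℕ) (P : Fin n → k) (hP : Function.Injective P)
    (e : Fin n → ℕ) (he : W4c1limliniiii.Admissible p d e) (hp : p = 0 ∨ d < p) :
    (W4c1limliniiii.ramMaps d P e).Finite := by
  classical
  let W0 : k[X] := ∏ i, (X - C (P i)) ^ (e i - 1)
  let w : (Fin (d + 1) × Fin (d + 1)) ⊕ (Fin (d + 1)) ⊕ (Fin (d + 1) × Fin (d + 1) × Fin (d + 1) × Fin (d + 1)) ⊕ Fin (2 * d) → k := fun t => match t with
    | .inr (.inr (.inr j)) => W0.coeff j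
    | _ => 0
  refine ((Groth.Agent.H25FiniteFibre.finite_fibre (eqn (k := k) d) (deg d) (eqn_homogeneous d)
    (fun t => by rcases t with _ | _ | _ | _ <;> simp [deg]) (fun x hx => eqn_zero hp x hx) w).image (Vof d)).subset ?_
  rintro V ⟨⟨hVd, hV2, -, -⟩, ⟨F₀, hF₀, G₀, hG₀, hne⟩, hram⟩
  haveI : FiniteDimensional k V := Module.finite_of_finrank_pos (by omega)
  have hdegV : ∀ s ∈ V, s.natDegree ≤ d := fun s hs => natDegree_le_iff_degree_le.mpr (Polynomial.mem_degreeLE.mp (hVd hs))
  have hind : LinearIndependent k ![(⟨F₀, hF₀⟩ : V), ⟨G₀, hG₀⟩] := by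
    rw [LinearIndependent.pair_iff]
    intro x y hxy
    have hxy' : x • F₀ + y • G₀ = 0 := congrArg Subtype.val hxy
    have h1 := congrArg (fun t => wronskianBilin k t G₀) hxy'
    have h2 := congrArg (fun t => wronskianBilin k F₀ t) hxy'
    simp only [map_add, map_smul, map_zero, LinearMap.add_apply, LinearMap.smul_apply, LinearMap.zero_apply,
      wronskianBilin_apply, wronskian_self_eq_zero, smul_zero, add_zero, zero_add] at h1 h2
    exact ⟨(smul_eq_zero.mp h1).resolve_right hne, (smul_eq_zero.mp h2).resolve_right hne⟩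
  let B := basisOfLinearIndependentOfCardEqFinrank hind (by simp [hV2])
  have hcoord : ∀ s ∈ V, ∃ x y : k, s = x • F₀ + y • G₀ := fun s hs => by
    refine ⟨B.repr ⟨s, hs⟩ 0, B.repr ⟨s, hs⟩ 1, ?_⟩
    have := congrArg Subtype.val (B.sum_repr ⟨s, hs⟩)
    simpa [Fin.sum_univ_two, B] using this.symm
  have hVspan : ∀ c : k, c ≠ 0 → V = Submodule.span k {c • F₀, G₀} := fun c hc => by
    refine le_antisymm (fun s hs => ?_) (Submodule.span_le.mpr ?_)
    · obtain ⟨x, y, rfl⟩ := hcoord s hs
      refine add_mem ?_ (Submodule.smul_mem _ _ (Submodule.subset_span (by simp)))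
      rw [show x • F₀ = (x * c⁻¹) • (c • F₀) by rw [smul_smul, mul_assoc, inv_mul_cancel₀ hc, mul_one]]
      exact Submodule.smul_mem _ _ (Submodule.subset_span (by simp))
    · rintro z (rfl | rfl)
      exacts [V.smul_mem _ hF₀, hG₀]
  have hdiv : W0 ∣ wronskian F₀ G₀ := by
    refine Finset.prod_dvd_of_coprime (fun i _ j _ hij => (isCoprime_X_sub_C_of_isUnit_sub
      ((sub_ne_zero.mpr fun h => hij (hP h)).isUnit)).pow) fun i _ => ?_
    obtain ⟨s, hs, hs0, hse⟩ := (hram i).1
    have hs' : (X - C (P i)) ^ e i ∣ s := (le_rootMultiplicity_iff hs0).mp hse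
    obtain ⟨x, y, rfl⟩ := hcoord s hs
    rcases eq_or_ne x 0 with rfl | hx
    · have hy : y ≠ 0 := by rintro rfl; simp at hs0
      have h2 := dvd_wronskian F₀ hs'
      rw [zero_smul, zero_add, ← wronskianBilin_apply, map_smul, LinearMap.smul_apply, wronskianBilin_apply,
        smul_eq_C_mul, ← wronskian_neg_eq] at h2
      exact dvd_neg.mp ((IsUnit.dvd_mul_left (isUnit_C.mpr hy.isUnit)).mp h2)
    · have h2 := dvd_wronskian G₀ hs'
      rw [← wronskianBilin_apply, map_add, map_smul, map_smul, LinearMap.add_apply, LinearMap.smul_apply,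
        LinearMap.smul_apply, wronskianBilin_apply, wronskianBilin_apply, wronskian_self_eq_zero, smul_zero,
        add_zero, smul_eq_C_mul] at h2
      exact (IsUnit.dvd_mul_left (isUnit_C.mpr hx.isUnit)).mp h2
  obtain ⟨r, hr⟩ := hdiv
  have hd1 : 1 ≤ d := by
    rcases Nat.eq_zero_or_pos d with rfl | h
    · have hn : n = 0 := by
        by_contra hn
        have := he.1 ⟨0, Nat.pos_of_ne_zero hn⟩
        omega
      subst hn
      have := he.2
      simp at this
    · exact h
  have hW0deg : W0.natDegree = 2 * d - 2 := by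
    have hs : ∑ i, (e i - 1) + n = ∑ i, e i := by
      calc ∑ i, (e i - 1) + n = ∑ i, ((e i - 1) + 1) := by simp [Finset.sum_add_distrib]
        _ = ∑ i, e i := Finset.sum_congr rfl fun i _ => by have := (he.1 i).1; omega
    have := he.2
    simp only [W0]
    rw [natDegree_prod _ _ fun i _ => pow_ne_zero _ (X_sub_C_ne_zero _)]
    simp only [natDegree_pow, natDegree_X_sub_C, mul_one]
    omega
  have hWdeg : (wronskian F₀ G₀).natDegree ≤ 2 * d - 2 := by
    have h1 := natDegree_wronskian_lt_add hne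
    have h2 := hdegV _ hF₀
    have h3 := hdegV _ hG₀
    by_contra hlt
    have h4 : (wronskian F₀ G₀).natDegree = d + d - 1 := by omega
    refine leadingCoeff_ne_zero.mpr hne ?_
    rw [leadingCoeff, h4, coeff_wronskian F₀ G₀ h2 h3, sub_self, mul_zero]
  have hr0 : r ≠ 0 := by rintro rfl; exact hne (by rw [hr, mul_zero])
  obtain ⟨c, rfl⟩ : ∃ c, C c = r := by
    refine ⟨r.coeff 0, (eq_C_of_natDegree_eq_zero ?_).symm⟩
    have hW00 : W0 ≠ 0 := fun h => hne (by rw [hr, h, zero_mul])
    rw [hr, natDegree_mul hW00 hr0] at hWdeg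
    omega
  have hc : c ≠ 0 := fun h => hr0 (by rw [h, C_0])
  have hwF : wronskian (c⁻¹ • F₀) G₀ = W0 := by
    rw [← wronskianBilin_apply, map_smul, LinearMap.smul_apply, wronskianBilin_apply, hr, smul_eq_C_mul,
      mul_comm W0, ← mul_assoc, ← map_mul, inv_mul_cancel₀ hc, C_1, one_mul]
  have hFd : (c⁻¹ • F₀).natDegree ≤ d := hdegV _ (V.smul_mem _ hF₀)
  have hGd : G₀.natDegree ≤ d := hdegV _ hG₀
  refine ⟨fun ab => (c⁻¹ • F₀).coeff ab.1 * G₀.coeff ab.2 - (c⁻¹ • F₀).coeff ab.2 * G₀.coeff ab.1, fun t => ?_, ?_⟩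
  · rcases t with ⟨a, b⟩ | a | ⟨a, b, x, y⟩ | j
    · simp only [eqn, w, map_add, MvPolynomial.eval_X]; ring
    · simp only [eqn, w, MvPolynomial.eval_X]; ring
    · simp only [eqn, w, map_add, map_sub, map_mul, MvPolynomial.eval_X]; ring
    · rw [eval_eqn_L, WP_wedge hFd hGd, hwF]
  · obtain ⟨a, b, hab⟩ : ∃ a b : Fin (d + 1), (c⁻¹ • F₀).coeff a * G₀.coeff b - (c⁻¹ • F₀).coeff b * G₀.coeff a ≠ 0 := by
      by_contra hh
      push Not at hh
      have hW := WP_wedge hFd hGd
      simp only [hh, WP, C_0, zero_mul, Finset.sum_const_zero] at hW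
      rw [hwF] at hW
      exact hne (by rw [hr, ← hW, zero_mul])
    rw [Vof_wedge hFd hGd hab]
    exact (hVspan _ (inv_ne_zero hc)).symm

end Groth.Agent.S13929
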