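import Groth.Statements.S15801
import Groth.Agent.H23Wild.Param

set_option autoImplicit false
universe u v
open WildQuot

namespace Groth.Agent.S15801

/-- Let `A` be a complete regular local ring of Krull dimension `n`, `k` a field with `k → A` mapping
onto the residue field, `x_1, …, x_n ∈ A` a system of parameters (the radical of `(x_1, …, x_n)` is
the maximal ideal), and `φ : k[[X_1, …, X_n]] → A` the `k`-algebra map with `φ X_i = x_i`. Then `A`
is a finite free module over `k[[X_1, …, X_n]]` through `φ`, of rank the length `d` of `A / (x_1, …,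
x_n)`: there are `b_1, …, b_d ∈ A` such that `(r_1, …, r_d) ↦ Σ φ(r_i) b_i` is a bijection from
`d`-tuples of power series onto `A`. -/
theorem result
    (A : Type u) [CommRing A] [IsRegularLocalRing A]
    [IsAdicComplete (IsLocalRing.maximalIdeal A) A] (n : ℕ) (hn : ringKrullDim A = n)
    (k : Type v) [Field k] [Algebra k A]
    (hk : Function.Surjective (IsLocalRing.residue A ∘ algebraMap k A))
    (x : Fin n → A) (hx : (Ideal.span (Set.range x)).radical = IsLocalRing.maximalIdeal A)
    (φ : MvPowerSeries (Fin n) k →ₐ[k] A) (hφ : ∀ i, φ (MvPowerSeries.X i) = x i) :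
    ∃ (d : ℕ) (b : Fin d → A), (d : ℕ∞) = Module.length A (A ⧸ Ideal.span (Set.range x)) ∧
      Function.Bijective (fun r : Fin d → MvPowerSeries (Fin n) k => ∑ i, φ (r i) * b i) := by
  let k₀ := (algebraMap k A).range
  have hinj : Function.Injective (algebraMap k A) := (algebraMap k A).injective
  let e : k ≃+* k₀ := RingEquiv.ofBijective (algebraMap k A).rangeRestrict
    ⟨fun a b h => hinj (congrArg Subtype.val h), (algebraMap k A).rangeRestrict_surjective⟩
  letI : Field k₀ := (MulEquiv.isField (Field.toIsField k) e.symm.toMulEquiv).toField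
  let E : MvPowerSeries (Fin n) k₀ →+* MvPowerSeries (Fin n) k := MvPowerSeries.map e.symm.toRingHom
  have hE : Function.Bijective E := Function.bijective_iff_has_inverse.mpr ⟨MvPowerSeries.map e.toRingHom,
    fun r => by ext m; simp [E], fun r => by ext m; simp [E]⟩
  have hX : ∀ i, φ.toRingHom.comp E (MvPowerSeries.X i) = x i := fun i => by simp [E, hφ]
  obtain ⟨d, b, hd, hb⟩ := Groth.Agent.H23Wild.exists_param_basis n hn (φ.toRingHom.comp E)
    (fun a => by
      obtain ⟨c, hc⟩ := hk (IsLocalRing.residue A a)
      refine ⟨e c, Ideal.Quotient.eq.mp (hc.symm.trans (congrArg (IsLocalRing.residue A) ?_))⟩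
      show algebraMap k A c = φ (E (MvPowerSeries.C (e c)))
      rw [show E (MvPowerSeries.C (e c)) = MvPowerSeries.C c by simp [E],
        MvPowerSeries.c_eq_algebraMap, AlgHom.commutes])
    (by rw [funext hX, hx])
  refine ⟨d, b, by rwa [funext hX] at hd, ?_⟩
  have he : (fun r : Fin d → MvPowerSeries (Fin n) k₀ => ∑ i, (φ.toRingHom.comp E) (r i) * b i) =
      (fun r : Fin d → MvPowerSeries (Fin n) k => ∑ i, φ (r i) * b i) ∘ (fun r i => E (r i)) := rfl
  rw [he, Function.Bijective.of_comp_iff _
    (show Function.Bijective (fun (r : Fin d → MvPowerSeries (Fin n) k₀) i => E (r i)) from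
      ⟨hE.1.comp_left, hE.2.comp_left⟩)] at hb
  exact hb

end Groth.Agent.S15801
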