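import Groth.Statements.S11043
import Mathlib.RingTheory.Polynomial.Cyclotomic.Basic
import Mathlib.Analysis.SpecialFunctions.Complex.Log
import Mathlib.RingTheory.RootsOfUnity.Complex

set_option autoImplicit false
open FunFld

namespace Groth.Agent.S11043

/-- For positive integers `n`, `d` with `e = gcd(n, d)`, in `ℂ[t]` one has `(1 - t^{nd/e})^e = ∏_{θⁿ =
1} (1 - (θ t)^d)`, the product over the complex `n`-th roots of unity. -/
theorem result (n d : ℕ) (hn : 0 < n) (hd : 0 < d) :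
    ((1 : Polynomial ℂ) - Polynomial.X ^ (n * d / Nat.gcd n d)) ^ Nat.gcd n d =
      ∏ θ ∈ Polynomial.nthRootsFinset n (1 : ℂ),
        (1 - Polynomial.C (θ ^ d) * Polynomial.X ^ d) := by
  have hrange : ∀ {R : Type} [CommRing R] [IsDomain R] {ζ : R} {m : ℕ}, 0 < m →
      IsPrimitiveRoot ζ m → ∀ {M : Type} [CommMonoid M] (F : R → M),
      ∏ θ ∈ Polynomial.nthRootsFinset m (1 : R), F θ = ∏ i ∈ Finset.range m, F (ζ ^ i) := by
    intro R _ _ ζ m hm hζ M _ F
    refine (Finset.prod_nbij (fun i => ζ ^ i) (fun i _ => ?_) (fun i hi j hj h => ?_)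
      (fun x hx => ?_) fun i _ => rfl).symm
    · rw [Polynomial.mem_nthRootsFinset hm, ← pow_mul, mul_comm i, pow_mul, hζ.pow_eq_one, one_pow]
    · simp only [Finset.coe_range, Set.mem_Iio] at hi hj
      exact hζ.pow_inj hi hj h
    · simp only [SetLike.mem_coe, Polynomial.mem_nthRootsFinset hm] at hx
      have : NeZero m := ⟨hm.ne'⟩
      obtain ⟨i, hi, rfl⟩ := hζ.eq_pow_of_pow_eq_one hx
      exact ⟨i, by simpa using hi, rfl⟩
  set g := Nat.gcd n d with hg
  have hg0 : 0 < g := Nat.gcd_pos_of_pos_left _ hn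
  obtain ⟨m, hm⟩ : g ∣ n := Nat.gcd_dvd_left n d
  have hm0 : 0 < m := Nat.pos_of_ne_zero fun h => by rw [h, mul_zero] at hm; omega
  obtain ⟨ζ, hζ⟩ : ∃ ζ : ℂ, IsPrimitiveRoot ζ n := ⟨_, Complex.isPrimitiveRoot_exp n hn.ne'⟩
  rw [hrange hn hζ]
  have hw : IsPrimitiveRoot (ζ ^ d) m := by
    obtain ⟨d', hd'⟩ : g ∣ d := Nat.gcd_dvd_right n d
    have h1 : IsPrimitiveRoot (ζ ^ g) m := hζ.pow hn hm
    have h2 : Nat.Coprime d' m := by
      have h3 := Nat.gcd_mul_left g m d'
      rw [← hm, ← hd', ← hg] at h3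
      rw [Nat.coprime_comm, Nat.coprime_iff_gcd_eq_one]
      refine Nat.eq_of_mul_eq_mul_left hg0 ?_
      rw [mul_one]
      exact h3.symm
    rw [hd', pow_mul]
    exact h1.pow_of_coprime d' h2
  have hblock : ∏ i ∈ Finset.range m, ((1 : Polynomial ℂ) -
      Polynomial.C ((ζ ^ d) ^ i) * Polynomial.X ^ d) = 1 - Polynomial.X ^ (d * m) := by
    have h3 := (hw.map_of_injective (f := Polynomial.C) Polynomial.C_injective)
    have h4 := h3.pow_sub_pow_eq_prod_sub_mul (1 : Polynomial ℂ) (Polynomial.X ^ d) hm0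
    rw [one_pow, ← pow_mul, hrange hm0 h3] at h4
    rw [h4]
    refine Finset.prod_congr rfl fun i _ => ?_
    rw [map_pow]
  have hper : ∀ j : ℕ, ∏ i ∈ Finset.range (j * m), ((1 : Polynomial ℂ) -
      Polynomial.C ((ζ ^ d) ^ i) * Polynomial.X ^ d) = (1 - Polynomial.X ^ (d * m)) ^ j := by
    intro j
    induction j with
    | zero => simp
    | succ j ih =>
      rw [add_mul, one_mul, Finset.prod_range_add, ih, pow_succ, ← hblock]
      congr 1
      refine Finset.prod_congr rfl fun i _ => ?_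
      rw [pow_add, mul_comm j m, pow_mul, hw.pow_eq_one, one_pow, one_mul]
  rw [show n * d / g = d * m by rw [hm, mul_assoc, Nat.mul_div_cancel_left _ hg0, mul_comm]]
  rw [← hper g, ← hm]
  refine Finset.prod_congr rfl fun i _ => ?_
  rw [← pow_mul, ← pow_mul, mul_comm i d]

end Groth.Agent.S11043
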