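import Groth.Statements.S8829
import Groth.Agent.H24Adic.Rig
import Mathlib.RingTheory.Jacobson.Ring
import Mathlib.RingTheory.FiniteType
import Mathlib.Tactic.TFAE

set_option autoImplicit false
set_option linter.style.haveILetI false
universe u
open AdicRing

namespace Groth.Agent.S8829

/-- In the case of adic Noetherian topological rings: let A be a Noetherian ring complete for the adic
topology of an ideal I, and B a Noetherian A-algebra complete for the IB-adic topology with B/IB of
finite type over A (so A → B is an adic morphism, topologically of finite type). Let q be a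
rig-closed prime of B (IB ⊄ q and q maximal among the primes not containing IB) and p its inverse
image in A. Three conditions turn out to be equivalent: (1) whenever m is a maximal ideal of B with
m ⊇ q, the quotient B/m is finite as an A-module (that is, residue fields of B/q are finite over A);
(2) p is rig-closed in A (I ⊄ p and p maximal among the primes not containing I); (3) B/q is a
finite A-module, i.e. A/p ⊆ B/q is a finite extension of rings. -/
theorem result (A : Type u) [CommRing A] [IsNoetherianRing A] (I : Ideal A) [IsAdicComplete I A] (B : Type u) [CommRing B] [Algebra A B] [IsNoetherianRing B] [IsAdicComplete (I.map (algebraMap A B)) B] (hft : Algebra.FiniteType A (B ⧸ (I.map (algebraMap A B)))) (q : PrimeSpectrum B) (hq : (¬ (I.map (algebraMap A B)) ≤ q.asIdeal ∧ ∀ y : PrimeSpectrum B, q ≤ y → ¬ (I.map (algebraMap A B)) ≤ y.asIdeal → y = q)) : List.TFAE [∀ m : Ideal B, m.IsMaximal → q.asIdeal ≤ m → Module.Finite A (B ⧸ m), (¬ I ≤ (PrimeSpectrum.comap (algebraMap A B) q).asIdeal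 ∧ ∀ y : PrimeSpectrum A, (PrimeSpectrum.comap (algebraMap A B) q) ≤ y → ¬ I ≤ y.asIdeal → y = (PrimeSpectrum.comap (algebraMap A B) q)), Module.Finite A (B ⧸ q.asIdeal)] := by
  classical
  obtain ⟨hqI, hqmax⟩ := hq
  have hdimB := Groth.Agent.H24Adic.rigClosed_quotient q hqI hqmax
  haveI := Groth.Agent.H24Adic.isAdicComplete_map_quotient (I := I.map (algebraMap A B)) q.asIdeal
  haveI : Ring.KrullDimLE 1 (B ⧸ q.asIdeal) := Ring.krullDimLE_iff.mpr hdimB.le
  have hK : (I.map (algebraMap A B)).map (Ideal.Quotient.mk q.asIdeal) ≠ ⊥ := fun h => hqI (by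
    rw [Ideal.map_eq_bot_iff_le_ker, Ideal.mk_ker] at h
    exact h)
  have hmax := fun (m : Ideal (B ⧸ q.asIdeal)) (hm : m.IsMaximal) =>
    Groth.Agent.H24Adic.eq_radical_of_isMaximal _ hK m
  let p := PrimeSpectrum.comap (algebraMap A B) q
  have hpI : ¬ I ≤ p.asIdeal := fun h => hqI (Ideal.map_le_iff_le_comap.mpr h)
  tfae_have 1 → 3 := by
    intro h
    obtain ⟨M, hM⟩ := Ideal.exists_maximal (B ⧸ q.asIdeal)
    let M' := M.comap (Ideal.Quotient.mk q.asIdeal)
    haveI hM' : M'.IsMaximal := Ideal.comap_isMaximal_of_surjective _ Ideal.Quotient.mk_surjective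
    haveI := h M' hM' (fun a ha => Ideal.mem_comap.mpr (by
      rw [Ideal.Quotient.eq_zero_iff_mem.mpr ha]; exact zero_mem M))
    haveI : IsAdicComplete I (B ⧸ q.asIdeal) := by
      haveI := Groth.Agent.H24Adic.isAdicComplete_of_finite (I.map (algebraMap A B)) (M := B ⧸ q.asIdeal)
      exact (IsAdicComplete.map_algebraMap_iff I (B ⧸ q.asIdeal) (S := B)).mp inferInstance
    let K : Ideal (B ⧸ q.asIdeal) := (I.map (algebraMap A B)).map (Ideal.Quotient.mk q.asIdeal)
    haveI : Algebra.FiniteType A ((B ⧸ q.asIdeal) ⧸ K) := by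
      haveI := hft
      refine Algebra.FiniteType.of_surjective
        (Ideal.quotientMapₐ K (Ideal.Quotient.mkₐ A q.asIdeal) Ideal.le_comap_map) fun z => ?_
      obtain ⟨y, rfl⟩ := Ideal.Quotient.mk_surjective z
      obtain ⟨b, rfl⟩ := Ideal.Quotient.mk_surjective y
      exact ⟨Ideal.Quotient.mk _ b, rfl⟩
    haveI : Algebra.IsIntegral A ((B ⧸ q.asIdeal) ⧸ K) := ⟨fun z => by
      obtain ⟨y, rfl⟩ := Ideal.Quotient.mk_surjective z
      obtain ⟨b, rfl⟩ := Ideal.Quotient.mk_surjective y
      obtain ⟨f, hf, hf0⟩ := Algebra.IsIntegral.isIntegral (R := A) (Ideal.Quotient.mk M' b)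
      have hmem : Ideal.Quotient.mk q.asIdeal (Polynomial.aeval b f) ∈ K.radical := by
        rw [← hmax M hM, ← Ideal.mem_comap]
        refine Ideal.Quotient.eq_zero_iff_mem.mp ?_
        rw [← Ideal.Quotient.mkₐ_eq_mk A, ← Polynomial.aeval_algHom_apply]
        exact hf0
      obtain ⟨N, hN⟩ := hmem
      refine ⟨f ^ N, hf.pow N, ?_⟩
      rw [← Polynomial.aeval_def, map_pow]
      have h1 : Polynomial.aeval (Ideal.Quotient.mk K (Ideal.Quotient.mk q.asIdeal b)) f =
          Ideal.Quotient.mk K (Ideal.Quotient.mk q.asIdeal (Polynomial.aeval b f)) :=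
        (Polynomial.aeval_algHom_apply ((Ideal.Quotient.mkₐ A K).comp (Ideal.Quotient.mkₐ A q.asIdeal)) b f)
      rw [h1, ← map_pow]
      exact Ideal.Quotient.eq_zero_iff_mem.mpr hN⟩
    haveI : Module.Finite A ((B ⧸ q.asIdeal) ⧸ K) := Algebra.IsIntegral.finite
    have hKs : K.restrictScalars A = (I • ⊤ : Submodule A (B ⧸ q.asIdeal)) := by
      rw [Ideal.smul_top_eq_map]
      exact congrArg (Submodule.restrictScalars A) (Ideal.map_map (algebraMap A B) (Ideal.Quotient.mk q.asIdeal))
    haveI : Module.Finite A ((B ⧸ q.asIdeal) ⧸ (I • ⊤ : Submodule A (B ⧸ q.asIdeal))) :=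
      Module.Finite.equiv ((Submodule.Quotient.restrictScalarsEquiv A K).symm.trans (Submodule.quotEquivOfEq _ _ hKs))
    exact Groth.Agent.H24Adic.finite_of_finite_quotient I
  tfae_have 3 → 2 := by
    intro hfin
    refine ⟨hpI, fun y hle hy => ?_⟩
    haveI := y.isPrime
    haveI : Algebra.IsIntegral A (B ⧸ q.asIdeal) := inferInstance
    obtain ⟨Q, -, hQ, hQy⟩ := Ideal.exists_ideal_over_prime_of_isIntegral (S := B ⧸ q.asIdeal) y.asIdeal ⊥ (by
      intro a ha
      refine hle ?_
      change algebraMap A B a ∈ q.asIdeal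
      rw [← Ideal.Quotient.eq_zero_iff_mem]
      exact Ideal.mem_bot.mp ha)
    have h := hqmax ⟨Q.comap (Ideal.Quotient.mk q.asIdeal), inferInstance⟩ (fun a ha => Ideal.mem_comap.mpr (by
      rw [Ideal.Quotient.eq_zero_iff_mem.mpr ha]; exact zero_mem Q)) (fun h' => hy (by
        rw [← hQy]
        intro a ha
        exact h' (Ideal.mem_map_of_mem _ ha)))
    refine PrimeSpectrum.ext ?_
    rw [← hQy]
    change (Q.comap (Ideal.Quotient.mk q.asIdeal)).comap (algebraMap A B) = q.asIdeal.comap (algebraMap A B)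
    rw [show Q.comap (Ideal.Quotient.mk q.asIdeal) = q.asIdeal from congrArg PrimeSpectrum.asIdeal h]
  tfae_have 2 → 1 := by
    intro h m hm hqm
    obtain ⟨hpI', hpmax⟩ := h
    haveI := Groth.Agent.H24Adic.isAdicComplete_map_quotient (I := I) p.asIdeal
    haveI : Ring.KrullDimLE 1 (A ⧸ p.asIdeal) :=
      Ring.krullDimLE_iff.mpr (Groth.Agent.H24Adic.rigClosed_quotient p hpI' hpmax).le
    have hIm : I.map (algebraMap A B) ≤ m :=
      (IsAdicComplete.le_jacobson_bot _).trans (sInf_le ⟨bot_le, hm⟩)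
    let k₀ := m.comap (algebraMap A B)
    haveI hk₀ : k₀.IsMaximal := by
      have hker : RingHom.ker (Ideal.Quotient.mk p.asIdeal) ≤ k₀ := by
        rw [Ideal.mk_ker]; exact Ideal.comap_mono hqm
      haveI hprime := Ideal.map_isPrime_of_surjective Ideal.Quotient.mk_surjective hker
      have hne : k₀.map (Ideal.Quotient.mk p.asIdeal) ≠ ⊥ := fun h0 => hpI' fun x hx => by
        rw [← Ideal.Quotient.eq_zero_iff_mem, ← Ideal.mem_bot, ← h0]
        exact Ideal.mem_map_of_mem _ (hIm (Ideal.mem_map_of_mem _ hx))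
      haveI := (Ring.krullDimLE_one_iff_of_noZeroDivisors.mp
        (inferInstance : Ring.KrullDimLE 1 (A ⧸ p.asIdeal))) _ hne hprime
      have h2 := Ideal.comap_isMaximal_of_surjective (Ideal.Quotient.mk p.asIdeal) Ideal.Quotient.mk_surjective
        (K := k₀.map (Ideal.Quotient.mk p.asIdeal))
      rwa [Ideal.comap_map_of_surjective _ Ideal.Quotient.mk_surjective, ← RingHom.ker_eq_comap_bot,
        sup_of_le_left hker] at h2
    letI := Ideal.Quotient.field k₀
    letI := Ideal.Quotient.field m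
    letI : Algebra (A ⧸ k₀) (B ⧸ m) := (Ideal.quotientMap m (algebraMap A B) le_rfl).toAlgebra
    haveI : IsScalarTower A (A ⧸ k₀) (B ⧸ m) := IsScalarTower.of_algebraMap_eq fun _ => rfl
    haveI := hft
    haveI : Algebra.FiniteType A (B ⧸ m) :=
      Algebra.FiniteType.of_surjective (Ideal.Quotient.factorₐ A hIm) (Ideal.Quotient.factor_surjective hIm)
    haveI : Algebra.FiniteType (A ⧸ k₀) (B ⧸ m) := Algebra.FiniteType.of_restrictScalars_finiteType A _ _
    haveI := finite_of_finite_type_of_isJacobsonRing (A ⧸ k₀) (B ⧸ m)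
    exact Module.Finite.trans (A ⧸ k₀) (B ⧸ m)
  tfae_finish

end Groth.Agent.S8829
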