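import Groth.Statements.S16453
import Groth.Agent.H24AdicGr.Approx

set_option autoImplicit false
set_option linter.style.haveILetI false
universe u
open AdicGr

namespace Groth.Agent.S16453

/-- Let A be a commutative ring, I an ideal and Â the I-adic completion, filtered by the kernels Âₙ of
the projections Â → A/Iⁿ. Then the homomorphism of associated graded rings ⊕ₙ Iⁿ/Iⁿ⁺¹ → ⊕ₙ Âₙ/Âₙ₊₁
induced by the canonical map A → Â is bijective. No hypothesis on A or I is needed. (The published
statement is for an arbitrary filtered ring and also asserts the analogous isomorphism for a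
compatibly filtered module; this row is the ring assertion for the filtration by the powers of one
ideal.) -/
theorem result (A : Type u) [CommRing A] (I : Ideal A) :
    Function.Bijective (AssocGr.map (AssocGr.isFiltHom_kerFilt I)) := by
    have key : ∀ (n : ℕ) (a : A), algebraMap A (AdicCompletion I A) a ∈ (AssocGr.kerFilt I).F n ↔ a ∈ I ^ n := fun n a => by
      rw [AssocGr.mem_kerFilt_iff, AlgHom.commutes, Ideal.Quotient.algebraMap_eq, Ideal.Quotient.eq_zero_iff_mem]
    refine ⟨Groth.Agent.H24AdicGr.map_injective _ fun n a _ h => (key _ a).mp h,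
      Groth.Agent.H24AdicGr.map_surjective _ fun n b hb => ?_⟩
    obtain ⟨a, ha⟩ := Ideal.Quotient.mk_surjective (AdicCompletion.evalₐ I (n + 1) b)
    have h1 : algebraMap A (AdicCompletion I A) a - b ∈ (AssocGr.kerFilt I).F (n + 1) := by
      rw [AssocGr.mem_kerFilt_iff, map_sub, AlgHom.commutes, Ideal.Quotient.algebraMap_eq, ha, sub_self]
    refine ⟨a, (key n a).mp ?_, h1⟩
    have := add_mem ((AssocGr.kerFilt I).antitone (Nat.le_succ n) h1) hb
    rwa [sub_add_cancel] at this

end Groth.Agent.S16453
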