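import Groth.Statements.S2032
import Mathlib.RingTheory.Smooth.StandardSmoothOfFree
import Mathlib.LinearAlgebra.Matrix.Charpoly.LinearMap
-- import your own Groth.Agent.* helpers here

set_option autoImplicit false
universe u
open Smoothing

namespace Groth.Agent.S2032

open MvPolynomial

/-- If the kernel `K` is, after multiplication by a lift `a₁` of `a`, contained in `J ⊔ K ^ 2`, then some
other lift `g` of a power of `a` sends `K` into `J`. -/
theorem exists_lift_mul_mem {P : Type u} [CommRing P] (K J : Ideal P) (hK : K.FG) (a₁ : P)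
    (h : ∀ x ∈ K, a₁ * x ∈ J ⊔ K ^ 2) :
    ∃ (d : ℕ) (g : P), g - a₁ ^ d ∈ K ∧ ∀ x ∈ K, g * x ∈ J := by
  let N : Submodule P (P ⧸ J) := Submodule.map (Submodule.mkQ J) K
  haveI : Module.Finite P N := Module.Finite.iff_fg.mpr (Submodule.FG.map (Submodule.mkQ J) hK)
  have hN : LinearMap.range (algebraMap P (Module.End P N) a₁) ≤ K • (⊤ : Submodule P N) := by
    rintro _ ⟨⟨_, x, hx, rfl⟩, rfl⟩
    obtain ⟨j, hj, k, hk, hjk⟩ := Submodule.mem_sup.mp (h x hx)
    rw [Submodule.mem_smul_top_iff]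
    show a₁ • Submodule.mkQ J x ∈ K • N
    rw [← map_smul, smul_eq_mul, ← hjk, map_add, Submodule.mkQ_apply, Submodule.mkQ_apply,
      (Submodule.Quotient.mk_eq_zero J).mpr hj, zero_add, ← Submodule.map_smul'']
    refine Submodule.mem_map_of_mem (f := Submodule.mkQ J) ?_
    rw [pow_two] at hk
    exact hk
  obtain ⟨p, hp, -, hc, h0⟩ :=
    LinearMap.exists_monic_and_natDegree_eq_and_coeff_mem_pow_and_aeval_eq_zero (R := P) (M := N) _ K hN
  refine ⟨p.natDegree, p.eval a₁, ?_, fun x hx => ?_⟩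
  · rw [Polynomial.eval_eq_sum_range, Finset.sum_range_succ, hp.coeff_natDegree, one_mul,
      add_sub_cancel_right]
    refine sum_mem fun k hk => Ideal.mul_mem_right _ _ ?_
    have hk' : p.natDegree - k ≠ 0 := by have := Finset.mem_range.mp hk; omega
    exact Ideal.pow_le_self hk' (hc k)
  · rw [Polynomial.aeval_algebraMap_apply, Polynomial.coe_aeval_eq_eval] at h0
    have := congrArg Subtype.val (DFunLike.congr_fun h0 ⟨_, x, hx, rfl⟩)
    rw [← Submodule.Quotient.mk_eq_zero J]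
    exact this

theorem pderiv_inr_rename_inl {R σ τ : Type*} [CommRing R] (p : MvPolynomial σ R) (i : τ) :
    pderiv (Sum.inr i) (rename Sum.inl p) = (0 : MvPolynomial (σ ⊕ τ) R) := by
  classical
  refine pderiv_eq_zero_of_notMem_vars fun h => ?_
  have := vars_rename Sum.inl p h
  simp at this

theorem isStandardSmooth_away_of_inverse {R A B : Type u} [CommRing R] [CommRing A] [CommRing B]
    [Algebra R A] [Algebra R B] [Algebra.IsStandardSmooth R B] (a : A) (ψ₀ : A →ₐ[R] B)
    (hu : IsUnit (ψ₀ a)) (φ : B →ₐ[R] Localization.Away a)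
    (h1 : ∀ x, φ (ψ₀ x) = algebraMap A (Localization.Away a) x)
    (h2 : ∀ ψ : Localization.Away a →ₐ[R] B,
      (∀ x, ψ (algebraMap A (Localization.Away a) x) = ψ₀ x) → ψ.comp φ = AlgHom.id R B) :
    Algebra.IsStandardSmooth R (Localization.Away a) := by
  let ψ : Localization.Away a →ₐ[R] B :=
    IsLocalization.liftAlgHom (M := Submonoid.powers a) (f := ψ₀) (by
      rintro ⟨_, k, rfl⟩; show IsUnit (ψ₀ (a ^ k)); rw [map_pow]; exact hu.pow k)
  have hψ : ∀ x, ψ (algebraMap A (Localization.Away a) x) = ψ₀ x := fun x => IsLocalization.lift_eq _ _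
  refine Algebra.IsStandardSmooth.of_algEquiv (AlgEquiv.ofAlgHom φ ψ ?_ (h2 ψ hψ))
  exact IsLocalization.algHom_ext (Submonoid.powers a) (AlgHom.ext fun x => by
    show φ (ψ (algebraMap A (Localization.Away a) x)) = algebraMap A (Localization.Away a) x
    rw [hψ, h1])

/-- For a finitely presented `R`-algebra `A` and `a ∈ A`, if `a` is elementary standard then `A_a` is
standard smooth over `R`. (Part (f), the converse for large powers of `a`, is not stated: as
published it fails, for example for the nodal cubic `A = {g ∈ ℚ[u] : g(0) = g(1)}` and `a =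
u(u-1)`.) -/
theorem result {R A : Type u} [CommRing R] [CommRing A]
    [Algebra R A] [Algebra.FinitePresentation R A] (a : A)
    (ha : Smoothing.IsElementaryStandard R A a) : Algebra.IsStandardSmooth R (Localization.Away a) := by
  classical
  obtain ⟨P, ⟨a'', ha''⟩, htail⟩ := ha
  obtain ⟨b, rfl⟩ := P.surj a''
  let μ := Smoothing.jacobianMinor P.rel (Fin.castLE P.hcm) (Fin.castLE P.hcn)
  let a₁ : MvPolynomial (Fin P.n) R := b * μ
  have ha₁ : P.hom a₁ = a := by rw [map_mul, ha'']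
  let J : Ideal (MvPolynomial (Fin P.n) R) := Ideal.span (P.rel '' {j' : Fin P.m | (j' : ℕ) < P.c})
  let K : Ideal (MvPolynomial (Fin P.n) R) := Ideal.span (Set.range P.rel)
  have hK : K.FG := ⟨Finset.univ.image P.rel, by simp [K]⟩
  have h1 : ∀ x ∈ K, a₁ * x ∈ J ⊔ K ^ 2 := fun x hx => by
    induction hx using Submodule.span_induction with
    | mem y hy =>
      obtain ⟨j, rfl⟩ := hy
      by_cases hj : (j : ℕ) < P.c
      · exact Ideal.mem_sup_left (Ideal.mul_mem_left _ _ (Ideal.subset_span ⟨j, hj, rfl⟩))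
      · exact htail a₁ ha₁ j (not_lt.mp hj)
    | zero => simp
    | add x y _ _ hx hy => rw [mul_add]; exact add_mem hx hy
    | smul r x _ hx => rw [smul_eq_mul, mul_left_comm]; exact Ideal.mul_mem_left _ _ hx
  obtain ⟨d, g₀, hg₀, hg₀K⟩ := exists_lift_mul_mem K J hK a₁ h1
  let g : MvPolynomial (Fin P.n) R := a₁ * g₀
  have hg : P.hom g = a ^ (d + 1) := by
    have h2 : P.hom (g₀ - a₁ ^ d) = 0 := by
      show g₀ - a₁ ^ d ∈ RingHom.ker P.hom.toRingHom
      rw [P.ker_eq]; exact hg₀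
    rw [map_sub, map_pow, ha₁, sub_eq_zero] at h2
    rw [map_mul, h2, ha₁, pow_succ']
  let v : Fin P.c ⊕ Fin 1 → MvPolynomial (Fin P.n ⊕ Fin 1) R :=
    Sum.elim (fun j => rename Sum.inl (P.rel (Fin.castLE P.hcm j)))
      (fun _ => X (Sum.inr 0) * rename Sum.inl g - 1)
  let cols : Fin P.c ⊕ Fin 1 → Fin P.n ⊕ Fin 1 := Sum.map (Fin.castLE P.hcn) id
  let Q₀ := Algebra.PreSubmersivePresentation.naive (R := R) (v := v) cols
    (Sum.map_injective.mpr ⟨Fin.castLE_injective P.hcn, Function.injective_id⟩)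
  let q := Ideal.Quotient.mkₐ R (Ideal.span (Set.range v))
  let qx := q.comp (rename Sum.inl : MvPolynomial (Fin P.n) R →ₐ[R] MvPolynomial (Fin P.n ⊕ Fin 1) R)
  have hqv : ∀ i, q (v i) = 0 := fun i =>
    Ideal.Quotient.eq_zero_iff_mem.mpr (Ideal.subset_span ⟨i, rfl⟩)
  have hgu : IsUnit (qx g) := by
    have h2 : q (X (Sum.inr 0) * rename Sum.inl g - 1) = 0 := hqv (Sum.inr 0)
    rw [map_sub, map_mul, map_one, sub_eq_zero] at h2
    exact isUnit_iff_exists_inv'.mpr ⟨_, h2⟩
  have hgu' : IsUnit (qx a₁ * qx g₀) := by rw [← map_mul]; exact hgu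
  have hg0u : IsUnit (qx g₀) := (IsUnit.mul_iff.mp hgu').2
  have ha₁u : IsUnit (qx a₁) := (IsUnit.mul_iff.mp hgu').1
  have hμu : IsUnit (qx μ) := by
    have h2 : IsUnit (qx b * qx μ) := by
      rw [← map_mul]; exact ha₁u
    exact (IsUnit.mul_iff.mp h2).2
  have hjac : IsUnit Q₀.jacobian := by
    rw [Q₀.jacobian_eq_jacobiMatrix_det,
      ← Matrix.fromBlocks_toBlocks Q₀.jacobiMatrix,
      show Q₀.jacobiMatrix.toBlocks₂₁ = 0 from Matrix.ext fun i j => by
        simp [Q₀, Matrix.toBlocks₂₁, cols, v, pderiv_inr_rename_inl],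
      Matrix.det_fromBlocks_zero₂₁,
      show Q₀.jacobiMatrix.toBlocks₁₁ = (Matrix.of fun j k : Fin P.c =>
          pderiv (Fin.castLE P.hcn k) (P.rel (Fin.castLE P.hcm j))).transpose.map
            (rename Sum.inl : MvPolynomial (Fin P.n) R →ₐ[R] MvPolynomial (Fin P.n ⊕ Fin 1) R) from
        Matrix.ext fun i j => by
          simp [Q₀, Matrix.toBlocks₁₁, cols, v, pderiv_rename Sum.inl_injective],
      Matrix.det_fin_one,
      show Q₀.jacobiMatrix.toBlocks₂₂ 0 0 = rename Sum.inl g by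
        simp [Q₀, Matrix.toBlocks₂₂, cols, v, pderiv_inr_rename_inl]]
    erw [← AlgHom.mapMatrix_apply, ← AlgHom.map_det, Matrix.det_transpose, map_mul]
    exact hμu.mul hgu
  haveI : Algebra.IsStandardSmooth R (MvPolynomial (Fin P.n ⊕ Fin 1) R ⧸ Ideal.span (Set.range v)) :=
    Algebra.SubmersivePresentation.isStandardSmooth { Q₀ with jacobian_isUnit := hjac }
  have hKQ : ∀ x ∈ K, qx x = 0 := fun x hx => by
    have h2 : qx (g₀ * x) = 0 := by
      refine (show J ≤ RingHom.ker qx.toRingHom from ?_) (hg₀K x hx)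
      rw [Ideal.span_le]
      rintro _ ⟨j, hj, rfl⟩
      have h3 := hqv (Sum.inl ⟨j, hj⟩)
      exact h3
    rw [map_mul] at h2
    exact hg0u.mul_right_eq_zero.mp h2
  let ψ₀ : A →ₐ[R] MvPolynomial (Fin P.n ⊕ Fin 1) R ⧸ Ideal.span (Set.range v) :=
    AlgHom.liftOfSurjective P.hom P.surj qx fun x hx => hKQ x (by
      have : x ∈ RingHom.ker P.hom.toRingHom := hx
      rwa [P.ker_eq] at this)
  have hψ₀ : ∀ x, ψ₀ (P.hom x) = qx x := fun x => AlgHom.liftOfSurjective_apply ..
  have hau : IsUnit (ψ₀ a) := by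
    rw [← ha₁, hψ₀]; exact ha₁u
  have haA : IsUnit (algebraMap A (Localization.Away a) a) := IsLocalization.Away.algebraMap_isUnit a
  let φ₀ : MvPolynomial (Fin P.n ⊕ Fin 1) R →ₐ[R] Localization.Away a :=
    aeval (Sum.elim (fun i => algebraMap A (Localization.Away a) (P.hom (X i)))
      (fun _ => ↑(haA.pow (d + 1)).unit⁻¹))
  have hφ₀ : ∀ x, φ₀ (rename Sum.inl x) = algebraMap A (Localization.Away a) (P.hom x) := fun x => by
    have : φ₀.comp (rename Sum.inl) = (IsScalarTower.toAlgHom R A (Localization.Away a)).comp P.hom :=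
      MvPolynomial.algHom_ext fun i => by simp [φ₀]
    exact DFunLike.congr_fun this x
  have hφv : ∀ x ∈ Ideal.span (Set.range v), φ₀ x = 0 := by
    suffices Ideal.span (Set.range v) ≤ RingHom.ker φ₀.toRingHom from fun x hx => this hx
    rw [Ideal.span_le]
    rintro _ ⟨j | j, rfl⟩
    · show φ₀ (rename Sum.inl _) = 0
      rw [hφ₀, show P.hom (P.rel (Fin.castLE P.hcm j)) = 0 from by
        show P.rel _ ∈ RingHom.ker P.hom.toRingHom
        rw [P.ker_eq]; exact Ideal.subset_span ⟨_, rfl⟩, map_zero]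
    · show φ₀ (X (Sum.inr 0) * rename Sum.inl g - 1) = 0
      rw [map_sub, map_mul, map_one, hφ₀, hg, map_pow, sub_eq_zero]
      simpa [φ₀] using (haA.pow (d + 1)).val_inv_mul
  let φ := Ideal.Quotient.liftₐ (Ideal.span (Set.range v)) φ₀ hφv
  refine isStandardSmooth_away_of_inverse a ψ₀ hau φ (fun x => ?_) fun ψ hψ => ?_
  · obtain ⟨x, rfl⟩ := P.surj x
    rw [hψ₀]
    exact hφ₀ x
  · refine Ideal.Quotient.algHom_ext R (MvPolynomial.algHom_ext fun i => ?_)
    rcases i with i | i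
    · show ψ (φ₀ (X (Sum.inl i))) = q (X (Sum.inl i))
      rw [show φ₀ (X (Sum.inl i)) = algebraMap A (Localization.Away a) (P.hom (X i)) from by simp [φ₀],
        hψ, hψ₀]
      simp [qx]
    · obtain rfl : i = 0 := Subsingleton.elim _ _
      have h2 : q (X (Sum.inr 0) * rename Sum.inl g - 1) = 0 := hqv (Sum.inr 0)
      rw [map_sub, map_mul, map_one, sub_eq_zero] at h2
      show ψ (φ₀ (X (Sum.inr 0))) = q (X (Sum.inr 0))
      refine hgu.mul_left_injective ?_
      show ψ _ * qx g = _ * qx g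
      rw [show q (X (Sum.inr 0)) * qx g = 1 from h2, ← hψ₀, hg, ← hψ, ← map_mul, map_pow]
      simp [φ₀]

end Groth.Agent.S2032
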