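import Groth.Statements.S2029
import Groth.Agent.H9Smooth.Standard
import Groth.Agent.H9Smooth.Retract
import Mathlib.RingTheory.MvPolynomial.Localization
import Mathlib.RingTheory.Localization.BaseChange
-- import your own Groth.Agent.* helpers here

set_option autoImplicit false
universe u
open Smoothing

namespace Groth.Agent.S2029

open MvPolynomial TensorProduct

theorem pderiv_scale {R V : Type*} [CommRing R] (c : V → R) (p : MvPolynomial V R) (i : V) :
    pderiv i (aeval (fun v => C (c v) * X v) p) = C (c i) * aeval (fun v => C (c v) * X v) (pderiv i p) := by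
  classical
  induction p using MvPolynomial.induction_on with
  | C r => simp [← MvPolynomial.algebraMap_eq]
  | add p q hp hq => simp only [map_add, hp, hq, mul_add]
  | mul_X p j hp =>
    simp only [map_mul, aeval_X, pderiv_mul, hp, pderiv_C, pderiv_X, zero_mul, zero_add, map_add]
    by_cases h : i = j
    · subst h
      simp only [Pi.single_eq_same, map_one]
      ring
    · simp only [Pi.single_eq_of_ne (Ne.symm h), map_zero, mul_zero, add_zero]
      ring

/-- A version of the minor criterion for arbitrary finite index types. -/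
theorem isElementaryStandard_of_fintype {R B : Type u} [CommRing R] [CommRing B] [Algebra R B]
    {V Row L : Type} [Fintype V] [Fintype Row] [Fintype L] [DecidableEq L]
    (f : Row → MvPolynomial V R) (φ : MvPolynomial V R →ₐ[R] B) (hφ : Function.Surjective φ)
    (hker : RingHom.ker φ = Ideal.span (Set.range f)) (rows : L ↪ Row) (cols : L ↪ V) (a a' : B)
    (ha : a = a' * φ (Matrix.of fun i j => pderiv (cols j) (f (rows i))).det)
    (hk : ∀ a₁, φ a₁ = a → ∀ j : Row, j ∉ Set.range rows →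
      a₁ * f j ∈ Ideal.span (Set.range (f ∘ rows)) ⊔ Ideal.span (Set.range f) ^ 2) :
    Smoothing.IsElementaryStandard R B a := by
  classical
  let eV := Fintype.equivFin V
  let eR := Fintype.equivFin Row
  let eL := Fintype.equivFin L
  let e := renameEquiv R eV
  let f' : Fin (Fintype.card Row) → MvPolynomial (Fin (Fintype.card V)) R := fun i => e (f (eR.symm i))
  let φ' := φ.comp e.symm.toAlgHom
  have hr : Set.range f' = e '' Set.range f := by
    rw [← Set.range_comp]
    exact eR.symm.surjective.range_comp fun i => e (f i)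
  have hker' : RingHom.ker φ' = Ideal.span (Set.range f') := by
    rw [hr, ← Ideal.map_span, ← hker]
    refine le_antisymm (fun x hx => ?_) (Ideal.map_le_iff_le_comap.mpr fun x hx => ?_)
    · rw [← e.apply_symm_apply x]
      exact Ideal.mem_map_of_mem _ hx
    · show φ (e.symm (e x)) = 0
      rw [e.symm_apply_apply]
      exact hx
  let rows' := (eL.symm.toEmbedding.trans rows).trans eR.toEmbedding
  let cols' := (eL.symm.toEmbedding.trans cols).trans eV.toEmbedding
  refine H9Smooth.isElementaryStandard_of_minor f' φ' (hφ.comp e.symm.surjective) hker' rows' cols' a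
    ⟨a', ha.trans (congrArg _ ?_)⟩ fun a₁ ha₁ j hj => ?_
  · show φ _ = φ (e.symm _)
    congr 1
    rw [Smoothing.jacobianMinor, AlgEquiv.map_det, ← Matrix.det_submatrix_equiv_self eL.symm]
    congr 1
    ext1 i j
    show pderiv (cols (eL.symm j)) (f (rows (eL.symm i))) =
      e.symm (pderiv (eV (cols (eL.symm j))) (e (f (eR.symm (eR (rows (eL.symm i)))))))
    rw [eR.symm_apply_apply]
    show _ = e.symm (pderiv (eV (cols (eL.symm j))) (rename eV (f (rows (eL.symm i)))))
    rw [pderiv_rename eV.injective]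
    exact (e.symm_apply_apply _).symm
  · have h1 := hk (e.symm a₁) ha₁ (eR.symm j) fun ⟨l, hl⟩ => hj ⟨eL l, by
      show eR (rows (eL.symm (eL l))) = j
      rw [eL.symm_apply_apply, hl, eR.apply_symm_apply]⟩
    have h2 := Ideal.mem_map_of_mem e h1
    rw [map_mul, e.apply_symm_apply, Ideal.map_sup, Ideal.map_pow, Ideal.map_span, Ideal.map_span, ← hr,
      ← Set.range_comp] at h2
    have h3 : Set.range (e ∘ f ∘ rows) = Set.range (f' ∘ rows') := by
      rw [show (f' ∘ rows' : Fin (Fintype.card L) → _) = (e ∘ f ∘ rows) ∘ eL.symm from funext fun i => by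
        show e (f (eR.symm (eR (rows (eL.symm i))))) = _
        rw [eR.symm_apply_apply]; rfl]
      exact (eL.symm.surjective.range_comp (e ∘ f ∘ rows)).symm
    rwa [h3] at h2

theorem ker_scale {R B : Type u} [CommRing R] [CommRing B] [Algebra R B] {ι σ : Type} (u v : ι → R)
    (huv : ∀ i, u i * v i = 1) (val : ι → B) (f : σ → MvPolynomial ι R)
    (hf : RingHom.ker (aeval val : MvPolynomial ι R →ₐ[R] B) = Ideal.span (Set.range f)) :
    RingHom.ker (aeval (fun i => algebraMap R B (u i) * val i) : MvPolynomial ι R →ₐ[R] B) =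
      Ideal.span (Set.range fun j => aeval (fun i => C (v i) * X i) (f j)) := by
  let α : MvPolynomial ι R →ₐ[R] MvPolynomial ι R := aeval fun i => C (v i) * X i
  let β : MvPolynomial ι R →ₐ[R] MvPolynomial ι R := aeval fun i => C (u i) * X i
  have hαβ : ∀ p, α (β p) = p := fun p => by
    rw [← AlgHom.comp_apply]
    refine (DFunLike.congr_fun (MvPolynomial.algHom_ext (g := AlgHom.id R _) fun i => ?_) p)
    simp only [α, β, AlgHom.comp_apply, aeval_X, map_mul, aeval_C, algebraMap_eq, AlgHom.id_apply, ← mul_assoc]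
    rw [← map_mul C, huv, map_one, one_mul]
  have hev : ∀ p, aeval (fun i => algebraMap R B (u i) * val i) (α p) = aeval val p := fun p => by
    rw [← AlgHom.comp_apply]
    refine (DFunLike.congr_fun (MvPolynomial.algHom_ext fun i => ?_) p)
    simp only [α, AlgHom.comp_apply, aeval_X, map_mul, aeval_C, ← mul_assoc]
    rw [← map_mul, mul_comm (v i), huv, map_one, one_mul]
  refine le_antisymm (fun p hp => ?_) ?_
  · rw [← hαβ p]
    have h1 : β p ∈ RingHom.ker (aeval val : MvPolynomial ι R →ₐ[R] B) := by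
      show aeval val (β p) = 0
      rw [← hev, hαβ]
      exact hp
    rw [hf] at h1
    have h2 := Ideal.mem_map_of_mem α h1
    rwa [Ideal.map_span, ← Set.range_comp] at h2
  · rw [Ideal.span_le]
    rintro _ ⟨j, rfl⟩
    show aeval (fun i => algebraMap R B (u i) * val i) (α (f j)) = 0
    rw [hev]
    show f j ∈ RingHom.ker (aeval val : MvPolynomial ι R →ₐ[R] B)
    rw [hf]
    exact Ideal.subset_span ⟨j, rfl⟩

theorem ker_extend {R B : Type u} [CommRing R] [CommRing B] [Algebra R B] {ι κ σ : Type} (val : ι → B)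
    (z : κ → B) (p : κ → MvPolynomial ι R) (hp : ∀ k, aeval val (p k) = z k) (f : σ → MvPolynomial ι R)
    (hf : RingHom.ker (aeval val : MvPolynomial ι R →ₐ[R] B) = Ideal.span (Set.range f)) :
    RingHom.ker (aeval (Sum.elim val z) : MvPolynomial (ι ⊕ κ) R →ₐ[R] B) =
      Ideal.span (Set.range (Sum.elim (fun j => rename Sum.inl (f j))
        (fun k => X (Sum.inr k) - rename Sum.inl (p k)) : σ ⊕ κ → MvPolynomial (ι ⊕ κ) R)) := by
  let S := Ideal.span (Set.range (Sum.elim (fun j => rename Sum.inl (f j))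
        (fun k => X (Sum.inr k) - rename Sum.inl (p k)) : σ ⊕ κ → MvPolynomial (ι ⊕ κ) R))
  let sub : MvPolynomial (ι ⊕ κ) R →ₐ[R] MvPolynomial ι R := aeval (Sum.elim X p)
  have hsub : ∀ q, q - rename Sum.inl (sub q) ∈ S := fun q => by
    rw [← Ideal.Quotient.eq]
    have : (Ideal.Quotient.mkₐ R S) = (Ideal.Quotient.mkₐ R S).comp ((rename Sum.inl).comp sub) := by
      refine MvPolynomial.algHom_ext fun v => ?_
      rcases v with i | k
      · simp [sub]
      · simp only [sub, AlgHom.comp_apply, aeval_X, Sum.elim_inr]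
        exact Ideal.Quotient.eq.mpr (Ideal.subset_span ⟨Sum.inr k, rfl⟩)
    exact DFunLike.congr_fun this q
  have hval : ∀ q, aeval (Sum.elim val z) (rename Sum.inl q : MvPolynomial (ι ⊕ κ) R) = aeval val q :=
    fun q => by rw [aeval_rename]; rfl
  refine le_antisymm (fun q hq => ?_) ?_
  · rw [← sub_add_cancel q (rename Sum.inl (sub q))]
    refine add_mem (hsub q) ?_
    have h1 : sub q ∈ RingHom.ker (aeval val : MvPolynomial ι R →ₐ[R] B) := by
      show aeval val (sub q) = 0
      rw [← AlgHom.comp_apply, show (aeval val).comp sub = aeval (Sum.elim val z) from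
        MvPolynomial.algHom_ext fun v => by rcases v with i | k <;> simp [sub, hp]]
      exact hq
    rw [hf] at h1
    have h2 := Ideal.mem_map_of_mem (rename (Sum.inl : ι → ι ⊕ κ)) h1
    rw [Ideal.map_span, ← Set.range_comp] at h2
    refine Ideal.span_mono ?_ h2
    rintro _ ⟨j, rfl⟩
    exact ⟨Sum.inl j, rfl⟩
  · rw [Ideal.span_le]
    rintro _ ⟨j | k, rfl⟩
    · show aeval (Sum.elim val z) _ = 0
      rw [Sum.elim_inl, hval]
      show f j ∈ RingHom.ker (aeval val : MvPolynomial ι R →ₐ[R] B)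
      rw [hf]
      exact Ideal.subset_span ⟨j, rfl⟩
    · show aeval (Sum.elim val z) _ = 0
      rw [Sum.elim_inr, map_sub, aeval_X, hval, hp, Sum.elim_inr, sub_self]

/-- Clearing denominators in a presentation over a localization. -/
theorem exists_cleared {R Rₛ Λ T : Type u} [CommRing R] (S : Submonoid R) [CommRing Rₛ] [Algebra R Rₛ]
    [IsLocalization S Rₛ] [CommRing Λ] [Algebra R Λ] [CommRing T] [Algebra R T] [Algebra Rₛ T]
    [IsScalarTower R Rₛ T] {V L : Type} [Fintype L] [DecidableEq L] (val : V → T) (lam : V → Λ)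
    (h : T →ₐ[Rₛ] Rₛ ⊗[R] Λ) (hlam : ∀ v, h (val v) = (1 : Rₛ) ⊗ₜ[R] lam v)
    (rel : L → MvPolynomial V Rₛ)
    (hker : RingHom.ker (aeval val : MvPolynomial V Rₛ →ₐ[Rₛ] T) = Ideal.span (Set.range rel))
    (hval : Function.Surjective (aeval val : MvPolynomial V Rₛ →ₐ[Rₛ] T))
    (cols : L → V) (hjac : IsUnit (aeval val (Matrix.of fun i j => pderiv (cols j) (rel i)).det : T)) :
    ∃ F : L → MvPolynomial V R, (∀ l, aeval (R := R) lam (F l) = 0) ∧
      (∀ G : MvPolynomial V R, aeval (R := R) val G = 0 → ∃ s ∈ S, C s * G ∈ Ideal.span (Set.range F)) ∧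
      ∃ s ∈ S, ∃ Q : MvPolynomial V R,
        C s - Q * (Matrix.of fun i j => pderiv (cols j) (F i)).det ∈ Ideal.span (Set.range F) := by
  classical
  letI : Algebra (MvPolynomial V R) (MvPolynomial V Rₛ) := MvPolynomial.algebraMvPolynomial
  let M := S.map (MvPolynomial.C (σ := V) : R →+* MvPolynomial V R)
  haveI : IsLocalization M (MvPolynomial V Rₛ) := MvPolynomial.isLocalization S Rₛ
  let m : MvPolynomial V R →+* MvPolynomial V Rₛ := MvPolynomial.map (algebraMap R Rₛ)
  have hm : ∀ x, algebraMap (MvPolynomial V R) (MvPolynomial V Rₛ) x = m x := fun x => rfl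
  have hmev : ∀ x, aeval val (m x) = aeval (R := R) val x := fun x => aeval_map_algebraMap _ _ _
  have hnum : ∀ p : MvPolynomial V Rₛ, ∃ r ∈ S, ∃ q : MvPolynomial V R, C (algebraMap R Rₛ r) * p = m q := by
    intro p
    obtain ⟨⟨q, ⟨_, r, hr, rfl⟩⟩, hq⟩ := IsLocalization.surj M p
    refine ⟨r, hr, q, ?_⟩
    rw [mul_comm, ← map_C (algebraMap R Rₛ) r]
    exact hq
  haveI : IsLocalizedModule S (TensorProduct.mk R Rₛ Λ 1) := inferInstance
  choose r hr F₀ hF₀ using fun l => hnum (rel l)
  have hF₀0 : ∀ l, ∃ u ∈ S, u • aeval (R := R) lam (F₀ l) = 0 := fun l => by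
    have h1 : (1 : Rₛ) ⊗ₜ[R] aeval (R := R) lam (F₀ l) = 0 := by
      have h2 : ((h.restrictScalars R).comp (aeval (R := R) val)) =
          (Algebra.TensorProduct.includeRight : Λ →ₐ[R] Rₛ ⊗[R] Λ).comp (aeval lam) :=
        MvPolynomial.algHom_ext fun v => by simp [hlam]
      have h3 := DFunLike.congr_fun h2 (F₀ l)
      rw [AlgHom.comp_apply, AlgHom.comp_apply, ← hmev, ← hF₀ l, map_mul, show aeval val (rel l) = 0 from by
        show rel l ∈ RingHom.ker (aeval val : MvPolynomial V Rₛ →ₐ[Rₛ] T)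
        rw [hker]; exact Ideal.subset_span ⟨l, rfl⟩, mul_zero, map_zero] at h3
      exact h3.symm
    obtain ⟨⟨u, hu⟩, hu0⟩ := (IsLocalizedModule.eq_zero_iff S (TensorProduct.mk R Rₛ Λ 1)).mp h1
    exact ⟨u, hu, hu0⟩
  choose u hu hu0 using hF₀0
  let F : L → MvPolynomial V R := fun l => C (u l) * F₀ l
  let c : L → Rₛ := fun l => algebraMap R Rₛ (u l * r l)
  have hFrel : ∀ l, m (F l) = C (c l) * rel l := fun l => by
    rw [map_mul, ← hF₀, ← mul_assoc]
    simp [m, c]
  have hc : ∀ l, IsUnit (c l) := fun l => IsLocalization.map_units Rₛ ⟨_, S.mul_mem (hu l) (hr l)⟩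
  have hspan : (Ideal.span (Set.range F)).map (algebraMap (MvPolynomial V R) (MvPolynomial V Rₛ)) =
      Ideal.span (Set.range rel) := by
    rw [Ideal.map_span, ← Set.range_comp]
    refine le_antisymm (Ideal.span_le.mpr ?_) (Ideal.span_le.mpr ?_)
    · rintro _ ⟨l, rfl⟩
      show m (F l) ∈ _
      rw [hFrel]
      exact Ideal.mul_mem_left _ _ (Ideal.subset_span ⟨l, rfl⟩)
    · rintro _ ⟨l, rfl⟩
      refine (Ideal.unit_mul_mem_iff_mem _ ((hc l).map MvPolynomial.C)).mp ?_
      rw [← hFrel]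
      exact Ideal.subset_span ⟨l, rfl⟩
  have hmem : ∀ G : MvPolynomial V R, aeval (R := R) val G = 0 →
      ∃ s ∈ S, C s * G ∈ Ideal.span (Set.range F) := fun G hG => by
    have h1 : m G ∈ (Ideal.span (Set.range F)).map (algebraMap (MvPolynomial V R) (MvPolynomial V Rₛ)) := by
      rw [hspan, ← hker]
      show aeval val (m G) = 0
      rw [hmev, hG]
    obtain ⟨⟨⟨x, hx⟩, ⟨_, s, hs, rfl⟩⟩, hxs⟩ := (IsLocalization.mem_map_algebraMap_iff M _).mp h1
    change m G * m (C s) = m x at hxs
    rw [← map_mul] at hxs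
    obtain ⟨⟨_, t, ht, rfl⟩, he⟩ := IsLocalization.exists_of_eq (M := M) hxs
    change C t * (G * C s) = C t * x at he
    refine ⟨t * s, S.mul_mem ht hs, ?_⟩
    rw [map_mul, mul_assoc, mul_comm (C s), he]
    exact Ideal.mul_mem_left _ _ hx
  refine ⟨F, fun l => ?_, hmem, ?_⟩
  · rw [map_mul, aeval_C, ← Algebra.smul_def, hu0]
  · let Δ := (Matrix.of fun i j => pderiv (cols j) (F i)).det
    have hΔ : IsUnit (aeval (R := R) val Δ) := by
      rw [← hmev]
      have h1 : m Δ = (∏ l, C (c l)) * (Matrix.of fun i j => pderiv (cols j) (rel i)).det := by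
        rw [RingHom.map_det, ← Matrix.det_mul_column]
        congr 1
        ext1 i j
        show m (pderiv (cols j) (F i)) = C (c i) * pderiv (cols j) (rel i)
        rw [← pderiv_map, hFrel, pderiv_mul, pderiv_C, zero_mul, zero_add]
      rw [h1, map_mul, map_prod]
      exact (IsUnit.prod_iff.mpr fun l _ => by rw [aeval_C]; exact (hc l).map _).mul hjac
    obtain ⟨i, hi⟩ := hΔ.exists_left_inv
    obtain ⟨p, rfl⟩ := hval i
    obtain ⟨s₀, hs₀, q, hq⟩ := hnum p
    obtain ⟨s₁, hs₁, h2⟩ := hmem (C s₀ - q * Δ) (by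
      rw [map_sub, map_mul, ← hmev q, ← hq, map_mul, mul_assoc, hi, mul_one, aeval_C, aeval_C,
        ← IsScalarTower.algebraMap_apply, sub_self])
    refine ⟨s₁ * s₀, S.mul_mem hs₁ hs₀, C s₁ * q, ?_⟩
    rwa [mul_sub, ← map_mul, ← mul_assoc] at h2

theorem det_extend {R : Type u} [CommRing R] {ι κ σ : Type} [Fintype σ] [Fintype κ] [DecidableEq σ]
    [DecidableEq κ] (cm : σ → ι) (f : σ → MvPolynomial ι R) (p : κ → MvPolynomial ι R) :
    (Matrix.of fun i j : σ ⊕ κ => pderiv (Sum.map cm id j : ι ⊕ κ) ((Sum.elim (fun j => rename Sum.inl (f j))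
      (fun k => X (Sum.inr k) - rename Sum.inl (p k)) : σ ⊕ κ → MvPolynomial (ι ⊕ κ) R) i)).det =
      rename Sum.inl (Matrix.of fun i j => pderiv (cm j) (f i)).det := by
  classical
  set N : Matrix (σ ⊕ κ) (σ ⊕ κ) (MvPolynomial (ι ⊕ κ) R) := Matrix.of fun i j : σ ⊕ κ =>
    pderiv (Sum.map cm id j : ι ⊕ κ) ((Sum.elim (fun j => rename Sum.inl (f j))
      (fun k => X (Sum.inr k) - rename Sum.inl (p k)) : σ ⊕ κ → MvPolynomial (ι ⊕ κ) R) i) with hN
  have h0 : ∀ (q : MvPolynomial ι R) (k : κ), pderiv (Sum.inr k : ι ⊕ κ) (rename Sum.inl q) = 0 := fun q k => by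
    refine pderiv_eq_zero_of_notMem_vars fun h => ?_
    have := vars_rename Sum.inl q h
    simp at this
  rw [← Matrix.fromBlocks_toBlocks N, show N.toBlocks₁₂ = 0 from Matrix.ext fun i k => h0 (f i) k,
    Matrix.det_fromBlocks_zero₁₂, show N.toBlocks₂₂ = 1 from Matrix.ext fun i k => by
      show pderiv (Sum.inr k : ι ⊕ κ) (X (Sum.inr i) - rename Sum.inl (p i)) = _
      rw [map_sub, h0, sub_zero, pderiv_X, Matrix.one_apply]
      by_cases h : i = k
      · subst h; simp
      · simp [h],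
    Matrix.det_one, mul_one, AlgHom.map_det]
  congr 1
  ext1 i j
  exact pderiv_rename Sum.inl_injective (cm j) (f i)

open TensorProduct in
/-- Let `R → A → Λ` with `A` finitely presented over `R`, `S ⊆ R` a multiplicative subset and `R_S` the
localization. If `R_S ⊗ A → R_S ⊗ Λ` factors through a smooth `R_S`-algebra, then `A → Λ` factors
through an `R`-algebra `B` in which some element of `S` is elementary standard over `R`. -/
theorem result {R A Λ Rₛ B' : Type u} [CommRing R] [CommRing A] [Algebra R A]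
    [Algebra.FinitePresentation R A] [CommRing Λ] [Algebra R Λ] (φ : A →ₐ[R] Λ) (S : Submonoid R)
    [CommRing Rₛ] [Algebra R Rₛ] [IsLocalization S Rₛ] [CommRing B'] [Algebra Rₛ B']
    [Algebra.Smooth Rₛ B'] (g : Rₛ ⊗[R] A →ₐ[Rₛ] B') (h : B' →ₐ[Rₛ] Rₛ ⊗[R] Λ)
    (hgh : h.comp g = Algebra.TensorProduct.map (AlgHom.id Rₛ Rₛ) φ) :
    ∃ (B : Type u) (_ : CommRing B) (_ : Algebra R B) (α : A →ₐ[R] B) (β : B →ₐ[R] Λ),
      β.comp α = φ ∧ ∃ s ∈ S, Smoothing.IsElementaryStandard R B (algebraMap R B s) := by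
  classical
  obtain ⟨B'', _, _, _, _, -, ⟨ret⟩, hstd⟩ := H9Smooth.exists_smooth_retract_isStandardSmooth Rₛ B'
  obtain ⟨ι, σ, _, _, ⟨P⟩⟩ := hstd.out
  haveI := Fintype.ofFinite σ
  haveI := Fintype.ofFinite ι
  letI : Algebra R B'' := ((algebraMap Rₛ B'').comp (algebraMap R Rₛ)).toAlgebra
  haveI : IsScalarTower R Rₛ B'' := IsScalarTower.of_algebraMap_eq fun _ => rfl
  let g' : Rₛ ⊗[R] A →ₐ[Rₛ] B'' := (IsScalarTower.toAlgHom Rₛ B' B'').comp g
  let h' : B'' →ₐ[Rₛ] Rₛ ⊗[R] Λ := h.comp (ret.restrictScalars Rₛ)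
  have hgh' : ∀ a, h' (g' ((1 : Rₛ) ⊗ₜ[R] a)) = (1 : Rₛ) ⊗ₜ[R] φ a := fun a => by
    show h (ret (algebraMap B' B'' (g ((1 : Rₛ) ⊗ₜ[R] a)))) = _
    rw [ret.commutes]
    exact DFunLike.congr_fun hgh ((1 : Rₛ) ⊗ₜ[R] a)
  haveI : IsLocalizedModule S (TensorProduct.mk R Rₛ Λ 1) := inferInstance
  choose lam t hlam using fun i => (IsLocalizedModule.surj S (TensorProduct.mk R Rₛ Λ 1) (h' (P.val i))) |>
    fun ⟨⟨x, s⟩, e⟩ => (⟨x, s, e⟩ : ∃ (x : Λ) (s : S), s • h' (P.val i) = (1 : Rₛ) ⊗ₜ[R] x)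
  choose v hv using fun i => (IsLocalization.map_units Rₛ (t i)).exists_right_inv
  let u : ι → Rₛ := fun i => algebraMap R Rₛ (t i)
  let val : ι → B'' := fun i => algebraMap Rₛ B'' (u i) * P.val i
  have hval : ∀ i, h' (val i) = (1 : Rₛ) ⊗ₜ[R] lam i := fun i => by
    rw [map_mul, h'.commutes, ← Algebra.smul_def, algebraMap_smul]
    exact hlam i
  let rel : σ → MvPolynomial ι Rₛ := fun j => aeval (fun i => C (v i) * X i) (P.relation j)
  have hker : RingHom.ker (aeval val : MvPolynomial ι Rₛ →ₐ[Rₛ] B'') = Ideal.span (Set.range rel) :=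
    ker_scale u v hv P.val P.relation (P.ker_eq_ker_aeval_val ▸ P.span_range_relation_eq_ker.symm)
  have hscale : ∀ p, aeval val (aeval (fun i => C (v i) * X i) p : MvPolynomial ι Rₛ) = aeval P.val p := fun p => by
    rw [← AlgHom.comp_apply]
    refine (DFunLike.congr_fun (MvPolynomial.algHom_ext fun i => ?_) p)
    simp only [val, AlgHom.comp_apply, aeval_X, map_mul, aeval_C, ← mul_assoc]
    rw [← map_mul, mul_comm (v i), hv, map_one, one_mul]
  have hsurj : Function.Surjective (aeval val : MvPolynomial ι Rₛ →ₐ[Rₛ] B'') := fun b =>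
    ⟨_, (hscale (P.σ b)).trans (P.aeval_val_σ b)⟩
  obtain ⟨q, π, hπ, hπk⟩ := Algebra.FinitePresentation.out (R := R) (A := A)
  obtain ⟨m, G, hG⟩ := Submodule.fg_iff_exists_fin_generating_family.mp hπk
  let z : Fin q → B'' := fun k => g' ((1 : Rₛ) ⊗ₜ[R] π (X k))
  choose p hp using fun k => hsurj (z k)
  let V := ι ⊕ Fin q
  let L := σ ⊕ Fin q
  let relV : L → MvPolynomial V Rₛ :=
    Sum.elim (fun j => rename Sum.inl (rel j)) (fun k => X (Sum.inr k) - rename Sum.inl (p k))
  let valV : V → B'' := Sum.elim val z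
  let lamV : V → Λ := Sum.elim lam fun k => φ (π (X k))
  let colsV : L → V := Sum.map P.map id
  have hjac : IsUnit (aeval valV (Matrix.of fun i j => pderiv (colsV j) (relV i)).det : B'') := by
    rw [det_extend P.map rel p, aeval_rename, show (valV ∘ Sum.inl) = val from rfl]
    have e : (Matrix.of fun i j => pderiv (P.map j) (rel i)) =
        Matrix.of fun i j => C (v (P.map j)) * (aeval (fun i => C (v i) * X i)).mapMatrix P.jacobiMatrix.transpose i j :=
      Matrix.ext fun i j => by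
        show pderiv (P.map j) (rel i) = _
        rw [pderiv_scale]
        simp [P.jacobiMatrix_apply]
    rw [e, Matrix.det_mul_row, ← AlgHom.map_det, Matrix.det_transpose, map_mul, map_prod, hscale]
    refine IsUnit.mul (IsUnit.prod_iff.mpr fun j _ => ?_) ?_
    · rw [aeval_C]
      exact (isUnit_iff_exists_inv'.mpr ⟨_, hv (P.map j)⟩).map _
    · have h1 := P.jacobian_isUnit
      rw [P.jacobian_eq_jacobiMatrix_det, P.algebraMap_eq] at h1
      exact h1
  obtain ⟨F, hFlam, hmem, s, hs, Q, hQ⟩ := exists_cleared S valV lamV h'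
    (fun w => by rcases w with i | k; exacts [hval i, hgh' _]) relV (ker_extend val z p hp rel hker)
    (fun b => by
      obtain ⟨x, hx⟩ := hsurj b
      exact ⟨rename Sum.inl x, by rw [aeval_rename]; exact hx⟩) colsV hjac
  let tail : Fin m → MvPolynomial V R := fun j => rename Sum.inr (G j)
  have hG0 : ∀ j, π (G j) = 0 := fun j => hG.le (Submodule.subset_span ⟨j, rfl⟩)
  have htail : ∀ j, ∃ s' ∈ S, C s' * tail j ∈ Ideal.span (Set.range F) := fun j => hmem _ (by
    rw [aeval_rename]
    have e : (aeval (R := R) (valV ∘ Sum.inr) : MvPolynomial (Fin q) R →ₐ[R] B'') =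
        ((g'.restrictScalars R).comp (Algebra.TensorProduct.includeRight : A →ₐ[R] Rₛ ⊗[R] A)).comp π :=
      MvPolynomial.algHom_ext fun k => by simp [valV, z]
    rw [e, AlgHom.comp_apply, hG0, map_zero])
  choose st hst hstmem using htail
  let f : L ⊕ Fin m → MvPolynomial V R := Sum.elim F tail
  let I := Ideal.span (Set.range f)
  let B := MvPolynomial V R ⧸ I
  have hlam' : ∀ x ∈ I, aeval (R := R) lamV x = 0 := by
    suffices I ≤ RingHom.ker (aeval (R := R) lamV : MvPolynomial V R →ₐ[R] Λ).toRingHom from fun x hx => this hx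
    rw [Ideal.span_le]
    rintro _ ⟨l | j, rfl⟩
    · exact hFlam l
    · show aeval lamV (rename Sum.inr (G j)) = 0
      rw [aeval_rename, show (aeval (R := R) (lamV ∘ Sum.inr) : MvPolynomial (Fin q) R →ₐ[R] Λ) = φ.comp π from
        MvPolynomial.algHom_ext fun k => by simp [lamV], AlgHom.comp_apply, hG0, map_zero]
  let mk' := Ideal.Quotient.mkₐ R I
  let α : A →ₐ[R] B := AlgHom.liftOfSurjective π hπ (mk'.comp (rename Sum.inr)) fun x hx => by
    have hx' : x ∈ Ideal.span (Set.range G) := hG.ge hx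
    refine (Ideal.span_le.mpr ?_ :
      Ideal.span (Set.range G) ≤ RingHom.ker (mk'.comp (rename Sum.inr)).toRingHom) hx'
    rintro _ ⟨j, rfl⟩
    exact Ideal.Quotient.eq_zero_iff_mem.mpr (Ideal.subset_span ⟨Sum.inr j, rfl⟩)
  refine ⟨B, inferInstance, inferInstance, α, Ideal.Quotient.liftₐ I (aeval lamV) hlam', ?_,
    s * ∏ j, st j, S.mul_mem hs (prod_mem fun j _ => hst j), ?_⟩
  · refine AlgHom.ext fun a => ?_
    obtain ⟨x, rfl⟩ := hπ a
    rw [AlgHom.comp_apply, AlgHom.liftOfSurjective_apply]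
    show aeval lamV (rename Sum.inr x) = _
    rw [aeval_rename, show (aeval (R := R) (lamV ∘ Sum.inr) : MvPolynomial (Fin q) R →ₐ[R] Λ) = φ.comp π from
      MvPolynomial.algHom_ext fun k => by simp [lamV]]
    rfl
  · refine isElementaryStandard_of_fintype f mk' Ideal.Quotient.mk_surjective Ideal.mk_ker
      ⟨Sum.inl, Sum.inl_injective⟩ ⟨colsV, Sum.map_injective.mpr ⟨P.map_inj, Function.injective_id⟩⟩
      _ (algebraMap R B (∏ j, st j) * mk' Q) ?_ fun a₁ ha₁ j hj => ?_
    · rw [mul_assoc, mul_comm s, map_mul]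
      congr 1
      rw [← map_mul, ← mk'.commutes]
      refine Ideal.Quotient.eq.mpr (Ideal.span_mono ?_ hQ)
      rintro _ ⟨l, rfl⟩
      exact ⟨Sum.inl l, rfl⟩
    · rcases j with l | j
      · exact absurd ⟨l, rfl⟩ hj
      show a₁ * tail j ∈ _
      rw [show a₁ * tail j = C (s * ∏ j, st j) * tail j + (a₁ - C (s * ∏ j, st j)) * tail j by ring]
      refine add_mem (Ideal.mem_sup_left ?_) (Ideal.mem_sup_right ?_)
      · obtain ⟨c, hc⟩ := Finset.dvd_prod_of_mem st (Finset.mem_univ j)
        rw [hc, mul_left_comm, map_mul, mul_right_comm]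
        exact Ideal.mul_mem_right _ _ (hstmem j)
      · rw [pow_two]
        refine Ideal.mul_mem_mul (Ideal.Quotient.eq.mp ?_) (Ideal.subset_span ⟨Sum.inr j, rfl⟩)
        exact ha₁.trans (mk'.commutes _).symm

end Groth.Agent.S2029
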