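import Groth.Statements.S12728
import Groth.Agent.H24Art.Formal

set_option autoImplicit false
universe u v
open CategoryTheory
open ArtFun

namespace Groth.Agent.S12728

/-- For functors, let F be a functor on Artinian local Λ-algebras with residue field k with F(k) a
point, satisfying (S1) and (S2), and ξ a family of F over a complete local Noetherian R with residue
field k. Then ξ is versal if and only if (1) the map h_R(k[ε]) → F(k[ε]) on tangent spaces is
surjective, and (2) whenever μ : B → A is a small extension, φ : R → A, and y ∈ F(B) lies over ξ(φ),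
the map φ lifts to some R → B. -/
theorem result {Λ : Type u} {k : Type u} [CommRing Λ] [Field k] [Algebra Λ k]
    [IsNoetherianRing Λ] [Module.Finite Λ k]
    {F : ArtFun.Art Λ k ⥤ Type v} (h0 : ArtFun.H0 F) (h1 : ArtFun.S1 F) (h2 : ArtFun.Heps F)
    (R : ArtFun.CRing Λ k) (ξ : ArtFun.Family R.carrier R.res F) :
    ArtFun.IsVersal ξ ↔
      (Function.Surjective (ArtFun.TangentSpace.ofFamily ξ) ∧
        ∀ ⦃B A : ArtFun.Art Λ k⦄ (μ : B ⟶ A), ArtFun.Art.IsSmallExt μ →
          ∀ (φ : ArtFun.HomSet R.carrier R.res A) (y : F.obj B), F.map μ y = ξ.app A φ →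
            ∃ ψ : ArtFun.HomSet R.carrier R.res B, ArtFun.HomSet.map μ ψ = φ) := by
  constructor
  · intro hξ
    refine ⟨Groth.Agent.H24Art.app_surjective_of_isVersal h0 ξ hξ _, fun B A μ hμ φ y hy => ?_⟩
    obtain ⟨ψ, hψ, -⟩ := hξ μ hμ.1 φ y hy
    exact ⟨ψ, hψ⟩
  · rintro ⟨hd, hl⟩ B A μ hμ
    refine Groth.Agent.H24Art.surjective_induction
      (fun A B μ => ∀ (φ : ArtFun.HomSet R.carrier R.res A) (y : F.obj B), F.map μ y = ξ.app A φ →
        ∃ ψ : ArtFun.HomSet R.carrier R.res B, ArtFun.HomSet.map μ ψ = φ ∧ ξ.app B ψ = y) ?_ ?_ ?_ μ hμ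
    · intro A B e he φ y hy
      refine ⟨ArtFun.HomSet.map (inv e) φ, ?_, ?_⟩
      · refine Subtype.ext (AlgHom.ext fun r => ?_)
        change (inv e ≫ e) (φ.1 r) = φ.1 r
        rw [IsIso.inv_hom_id]; rfl
      · refine (Groth.Agent.H24Art.map_bijective_of_isIso F e).injective ?_
        rw [ξ.natural, hy, ← Groth.Agent.H24Art.map_comp_apply', IsIso.inv_hom_id,
          Groth.Agent.H24Art.map_id_apply']
    · intro A B μ hμ φ y hy
      obtain ⟨ψ₀, hψ₀⟩ := hl μ hμ φ y hy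
      obtain ⟨P, p₁, p₂, g, d, hP, hPg, -, -, -⟩ := Groth.Agent.H24Art.exists_double hμ
      obtain ⟨w, hw⟩ := h1 p₁ p₂ μ μ hP hμ.1 ⟨(ξ.app B ψ₀, y), by rw [← ξ.natural, hψ₀, hy]⟩
      have e₁ : F.map p₁ w = ξ.app B ψ₀ := congrArg (fun z => z.1.1) hw
      have e₂ : F.map p₂ w = y := congrArg (fun z => z.1.2) hw
      obtain ⟨δ, hδ⟩ := hd (F.map g w)
      obtain ⟨χ, hχ₁, hχ₂⟩ := Groth.Agent.H24Art.exists_homSet_pair hPg ψ₀ δ
        ((Groth.Agent.H24Art.subsingleton_homSet_base (R₀ := R.carrier) (res₀ := R.res)).elim _ _)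
      have hχ : ξ.app P χ = w := (h2 p₁ g hPg).injective (FibProd.ext
        (by change F.map p₁ (ξ.app P χ) = F.map p₁ w
            rw [← ξ.natural, hχ₁, e₁])
        (by change F.map g (ξ.app P χ) = F.map g w
            rw [← ξ.natural, hχ₂]
            exact hδ))
      refine ⟨ArtFun.HomSet.map p₂ χ, ?_, by rw [ξ.natural, hχ, e₂]⟩
      rw [← hψ₀, ← hχ₁]
      refine Subtype.ext (AlgHom.ext fun r => ?_)
      exact (hP.w_apply (χ.1 r)).symm
    · intro A B C p q hp hq φ y hy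
      obtain ⟨ψ₁, h₁, h₁'⟩ := hq φ (F.map p y) (by rw [← Groth.Agent.H24Art.map_comp_apply', hy])
      obtain ⟨ψ, h₂, h₂'⟩ := hp ψ₁ y h₁'.symm
      refine ⟨ψ, ?_, h₂'⟩
      rw [← h₁, ← h₂]
      rfl

end Groth.Agent.S12728
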