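import Groth.Statements.S12729
import Groth.Agent.H24Art.Formal

set_option autoImplicit false
universe u v
open CategoryTheory
open ArtFun

namespace Groth.Agent.S12729

/-- For functors, let F satisfy (S1), let p : B → A be a surjection in the category of Artinian local
Λ-algebras with residue field k whose kernel I is annihilated by m_B, and let x ∈ F(A). Then the set
of ideals J ⊆ I for which x lifts to F(B/J) along B/J → A has a least element. -/
theorem result {Λ : Type u} {k : Type u} [CommRing Λ] [Field k] [Algebra Λ k]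
    [IsNoetherianRing Λ] [Module.Finite Λ k]
    {F : ArtFun.Art Λ k ⥤ Type v} (h1 : ArtFun.S1 F)
    {B A : ArtFun.Art Λ k} (p : B ⟶ A) (hp : ArtFun.Art.IsSemismallExt p) (x : F.obj A) :
    ∃ (J₀ : Ideal B) (hJ₀ : J₀ ≤ RingHom.ker p.toAlgHom) (hJ₀' : J₀ ≤ IsLocalRing.maximalIdeal B),
      (∃ y : F.obj (ArtFun.Art.quot B J₀ hJ₀'), F.map (ArtFun.Art.quotFactor hJ₀' p hJ₀) y = x) ∧
      ∀ (J : Ideal B) (hJ : J ≤ RingHom.ker p.toAlgHom) (hJ' : J ≤ IsLocalRing.maximalIdeal B),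
        (∃ y : F.obj (ArtFun.Art.quot B J hJ'), F.map (ArtFun.Art.quotFactor hJ' p hJ) y = x) → J₀ ≤ J := by
  classical
  set K := RingHom.ker p.toAlgHom with hK
  have hKm : K ≤ IsLocalRing.maximalIdeal B := Groth.Agent.H24Art.ker_le_maximalIdeal p
  let good : Ideal B → Prop := fun J => ∃ (hJ : J ≤ K) (hJ' : J ≤ IsLocalRing.maximalIdeal B),
    ∃ y : F.obj (ArtFun.Art.quot B J hJ'), F.map (ArtFun.Art.quotFactor hJ' p hJ) y = x
  have hgoodK : good K := by
    refine ⟨le_rfl, hKm, ?_⟩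
    haveI := Groth.Agent.H24Art.isIso_of_bijective (ArtFun.Art.quotFactor hKm p le_rfl)
      ⟨fun a b h => by
        obtain ⟨a, rfl⟩ := Ideal.Quotient.mk_surjective a
        obtain ⟨b, rfl⟩ := Ideal.Quotient.mk_surjective b
        refine Ideal.Quotient.eq.mpr ?_
        rw [hK, RingHom.mem_ker, map_sub, sub_eq_zero]
        exact h,
      fun a => by
        obtain ⟨b, rfl⟩ := hp.1 a
        exact ⟨ArtFun.Art.quotMk B K hKm b, rfl⟩⟩
    exact ((Groth.Agent.H24Art.map_bijective_of_isIso F _).surjective x)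
  have hinf : ∀ J J', good J → good J' → good (J ⊓ J') := by
    rintro J J' ⟨hJ, hJm, y, hy⟩ ⟨hJ', hJm', y', hy'⟩
    obtain ⟨J'', ⟨hle, hK'', hint⟩, hmax⟩ :=
      (wellFounded_gt (α := Ideal B)).has_min {I | J' ≤ I ∧ I ≤ K ∧ J ⊓ I ≤ J'}
        ⟨J', le_rfl, hJ', inf_le_right⟩
    have hsup : K ≤ J ⊔ J'' := by
      intro t ht
      by_contra htn
      have htJ : t ∉ J'' := fun h => htn (Ideal.mem_sup_right h)
      refine hmax (J'' ⊔ Ideal.span {t}) ⟨hle.trans le_sup_left,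
        sup_le hK'' ((Ideal.span_singleton_le_iff_mem _).mpr ht), ?_⟩
        (Submodule.lt_sup_iff_notMem.mpr htJ)
      rintro j ⟨hj, hj'⟩
      obtain ⟨a, ha, b, hb, rfl⟩ := Submodule.mem_sup.mp hj'
      obtain ⟨c, rfl⟩ := Ideal.mem_span_singleton'.mp hb
      have hc : c * t = 0 := by
        by_cases hu : IsUnit c
        · refine absurd ?_ htn
          have : c * t ∈ J ⊔ J'' := by
            have h := Ideal.sub_mem (J ⊔ J'') (Ideal.mem_sup_left hj) (Ideal.mem_sup_right ha)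
            rwa [add_sub_cancel_left] at h
          exact (Ideal.unit_mul_mem_iff_mem _ hu).mp this
        · rw [← Ideal.mem_bot, ← hp.2]
          exact Ideal.mul_mem_mul ((IsLocalRing.mem_maximalIdeal c).mpr hu) ht
      rw [hc, add_zero] at hj ⊢
      exact hint ⟨hj, ha⟩
    have hJm'' : J'' ≤ IsLocalRing.maximalIdeal B := hK''.trans hKm
    have hfac : J' ≤ RingHom.ker (ArtFun.Art.quotMk B J'' hJm'').toAlgHom := fun a ha =>
      Ideal.Quotient.eq_zero_iff_mem.mpr (hle ha)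
    let y'' := F.map (ArtFun.Art.quotFactor hJm' (ArtFun.Art.quotMk B J'' hJm'') hfac) y'
    have hy'' : F.map (ArtFun.Art.quotFactor hJm'' p hK'') y'' = x := by
      rw [← hy']
      change F.map _ (F.map _ y') = _
      rw [← Groth.Agent.H24Art.map_comp_apply']
      congr 2
      refine congrArg F.map (ArtFun.Art.hom_ext (AlgHom.ext fun z => ?_))
      obtain ⟨z, rfl⟩ := Ideal.Quotient.mk_surjective z
      rfl
    have hIm : J ⊓ J' ≤ IsLocalRing.maximalIdeal B := inf_le_left.trans hJm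
    have hf₁ : J ⊓ J' ≤ RingHom.ker (ArtFun.Art.quotMk B J hJm).toAlgHom := fun a ha =>
      Ideal.Quotient.eq_zero_iff_mem.mpr ha.1
    have hf₂ : J ⊓ J' ≤ RingHom.ker (ArtFun.Art.quotMk B J'' hJm'').toAlgHom := fun a ha =>
      Ideal.Quotient.eq_zero_iff_mem.mpr (hle ha.2)
    have hsq : ArtFun.Art.IsFibreProd (ArtFun.Art.quotFactor hIm (ArtFun.Art.quotMk B J hJm) hf₁)
        (ArtFun.Art.quotFactor hIm (ArtFun.Art.quotMk B J'' hJm'') hf₂)
        (ArtFun.Art.quotFactor hJm p hJ) (ArtFun.Art.quotFactor hJm'' p hK'') := by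
      refine ⟨ArtFun.Art.hom_ext (AlgHom.ext fun z => ?_), fun a b h₁ h₂ => ?_, fun a b hab => ?_⟩
      · obtain ⟨z, rfl⟩ := Ideal.Quotient.mk_surjective z
        rfl
      · obtain ⟨a, rfl⟩ := Ideal.Quotient.mk_surjective a
        obtain ⟨b, rfl⟩ := Ideal.Quotient.mk_surjective b
        refine Ideal.Quotient.eq.mpr ⟨Ideal.Quotient.eq.mp h₁, hint ⟨Ideal.Quotient.eq.mp h₁, ?_⟩⟩
        exact Ideal.Quotient.eq.mp h₂
      · obtain ⟨a, rfl⟩ := Ideal.Quotient.mk_surjective a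
        obtain ⟨b, rfl⟩ := Ideal.Quotient.mk_surjective b
        have hmem : b - a ∈ K := by
          rw [hK, RingHom.mem_ker, map_sub, sub_eq_zero]; exact hab.symm
        obtain ⟨j, hj, j'', hj'', e⟩ := Submodule.mem_sup.mp (hsup hmem)
        refine ⟨ArtFun.Art.quotMk B _ hIm (a + j), ?_, ?_⟩
        · exact Ideal.Quotient.eq.mpr (by rwa [add_sub_cancel_left])
        · refine Ideal.Quotient.eq.mpr ?_
          have : a + j - b = -j'' := by linear_combination e
          rw [this]; exact neg_mem hj''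
    have hs : Function.Surjective (ArtFun.Art.quotFactor hJm'' p hK'') := fun a => by
      obtain ⟨b, rfl⟩ := hp.1 a
      exact ⟨ArtFun.Art.quotMk B J'' hJm'' b, rfl⟩
    obtain ⟨z, hz⟩ := h1 _ _ _ _ hsq hs ⟨(y, y''), hy.trans hy''.symm⟩
    have e₁ : F.map (ArtFun.Art.quotFactor hIm (ArtFun.Art.quotMk B J hJm) hf₁) z = y :=
      congrArg (fun w => w.1.1) hz
    refine ⟨inf_le_left.trans hJ, hIm, z, ?_⟩
    rw [← hy, ← e₁, ← Groth.Agent.H24Art.map_comp_apply']
    congr 2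
    refine congrArg F.map (ArtFun.Art.hom_ext (AlgHom.ext fun w => ?_))
    obtain ⟨w, rfl⟩ := Ideal.Quotient.mk_surjective w
    rfl
  obtain ⟨J₀, hJ₀, hmin⟩ := (wellFounded_lt (α := Ideal B)).has_min {J | good J} ⟨K, hgoodK⟩
  obtain ⟨h₀, h₀', hy₀⟩ := hJ₀
  refine ⟨J₀, h₀, h₀', hy₀, fun J hJ hJ' hy => ?_⟩
  have := hmin (J₀ ⊓ J) (hinf J₀ J ⟨h₀, h₀', hy₀⟩ ⟨hJ, hJ', hy⟩)
  by_contra hle
  exact this (lt_of_le_of_ne inf_le_left fun e => hle (inf_eq_left.mp e))

end Groth.Agent.S12729
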