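import Groth.Statements.S1830
import Groth.Agent.H02CA.GorRing
import Mathlib

set_option autoImplicit false
universe u
open CategoryTheory
open scoped TensorProduct
attribute [local instance] HasDerivedCategory.standard
open Goren

namespace Groth.Agent.S1830

/-- A flat local complete intersection ring map has Gorenstein fibres: let A → B be a flat ring
homomorphism which is a local complete intersection. Then for every prime p of A the fibre ring B
⊗_A κ(p) is a Gorenstein ring. (This is the affine form of the statement that a syntomic morphism is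
a Gorenstein morphism.) -/
theorem result (A B : Type u) [CommRing A] [CommRing B] [Algebra A B] [Module.Flat A B] (hl : LCI.IsLCI A B) (p : PrimeSpectrum A) : LocCoh.IsGorensteinRing (B ⊗[A] p.asIdeal.ResidueField) := by
  classical
  obtain ⟨-, n, f, hf, hI⟩ := hl
  let κ := p.asIdeal.ResidueField
  let φ : κ ⊗[A] MvPolynomial (Fin n) A →ₐ[A] κ ⊗[A] B := Algebra.TensorProduct.map (AlgHom.id A κ) f
  have hφ : Function.Surjective φ := fun z => by
    obtain ⟨w, hw⟩ := LinearMap.lTensor_surjective κ (g := f.toLinearMap) hf z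
    refine ⟨w, ?_⟩
    rw [← hw]
    exact LinearMap.congr_fun (show φ.toLinearMap = f.toLinearMap.lTensor κ from
      TensorProduct.ext' fun a b => by simp [φ]) w
  haveI : IsRegularRing (κ ⊗[A] MvPolynomial (Fin n) A) := by
    haveI := Groth.Agent.H02CA.GorFlat.isRegularRing_mvPolynomial κ n
    exact IsRegularRing.of_ringEquiv (MvPolynomial.algebraTensorAlgEquiv A κ).toRingEquiv.symm
  haveI := Groth.Agent.H02CA.GorFlat.isGorensteinRing_of_isRegularRing (κ ⊗[A] MvPolynomial (Fin n) A)
  have hker : RingHom.ker φ.toRingHom =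
      (RingHom.ker f.toRingHom).map (Algebra.TensorProduct.includeRight : _ →ₐ[A] κ ⊗[A] MvPolynomial (Fin n) A) :=
    Algebra.TensorProduct.lTensor_ker f hf
  refine Groth.Agent.H02CA.GorFlat.isGorensteinRing_of_ringEquiv
    (Algebra.TensorProduct.comm A κ B).toRingEquiv
    (Groth.Agent.H02CA.GorFlat.isGorensteinRing_of_surjective φ.toRingHom hφ fun Q _ hQ => ?_)
  let inc : MvPolynomial (Fin n) A →ₐ[A] κ ⊗[A] MvPolynomial (Fin n) A := Algebra.TensorProduct.includeRight
  have hIP : RingHom.ker f.toRingHom ≤ Q.comap inc := by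
    rw [← Ideal.map_le_iff_le_comap, ← hker]; exact hQ
  obtain ⟨g, hg, l, hl', hspan⟩ := hI ⟨Q.comap inc, inferInstance⟩ hIP
  change inc g ∉ Q at hg
  let Pg := Localization.Away g
  have hT : Submonoid.map f (Submonoid.powers g) = Submonoid.powers (f g) := Submonoid.map_powers f g
  haveI : IsLocalization ((Submonoid.powers g).map f) (Localization.Away (f g)) := by
    rw [hT]; infer_instance
  -- flatness of `P_g / I P_g` over `A`
  have hle : Submonoid.powers g ≤ (Submonoid.powers (f g)).comap f.toRingHom := by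
    rintro _ ⟨m, rfl⟩; exact ⟨m, (map_pow f g m).symm⟩
  let ψ₀ : Pg →+* Localization.Away (f g) := IsLocalization.map (Localization.Away (f g)) f.toRingHom hle
  let ψ : Pg →ₐ[A] Localization.Away (f g) :=
    { ψ₀ with
      commutes' := fun a => by
        change ψ₀ (algebraMap A Pg a) = _
        rw [IsScalarTower.algebraMap_apply A (MvPolynomial (Fin n) A) Pg, IsLocalization.map_eq,
          IsScalarTower.algebraMap_apply A B (Localization.Away (f g))]
        congr 1
        exact f.commutes a }
  have hψ : Function.Surjective ψ := by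
    intro z
    obtain ⟨⟨b, ⟨_, m, rfl⟩⟩, hz⟩ := IsLocalization.surj (Submonoid.powers (f g)) z
    obtain ⟨x, rfl⟩ := hf b
    refine ⟨IsLocalization.mk' Pg x (⟨g ^ m, m, rfl⟩ : Submonoid.powers g), ?_⟩
    change ψ₀ _ = _
    rw [IsLocalization.map_mk', IsLocalization.mk'_eq_iff_eq_mul]
    refine Eq.trans ?_ (congrArg (fun w => z * algebraMap B (Localization.Away (f g)) w) (map_pow f g m).symm)
    exact hz.symm
  have hψker : RingHom.ker ψ.toRingHom = Ideal.span (Set.range l.get) := by
    rw [Set.range_list_get, ← hspan]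
    exact IsLocalization.ker_map (S := Pg) (Localization.Away (f g)) f.toRingHom hT
  haveI : Module.Flat A (Pg ⧸ Ideal.span (Set.range l.get)) := by
    haveI : Module.Flat A (Localization.Away (f g)) := Module.Flat.trans A B (Localization.Away (f g))
    exact Module.Flat.of_linearEquiv ((Ideal.quotientEquivAlgOfEq A hψker.symm).trans
      (Ideal.quotientKerAlgEquivOfSurjective hψ)).toLinearEquiv
  have hq := H29Slice.isQuasiRegular_baseChange A Pg κ l.get
    (H29Slice.isQuasiRegular_of_isH1Regular (H29Slice.isH1Regular_of_isKoszulRegular hl'))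
  -- localize at `Q`
  let L := Localization.AtPrime Q
  let T := κ ⊗[A] Pg
  letI : Algebra (κ ⊗[A] MvPolynomial (Fin n) A) T :=
    (Algebra.TensorProduct.map (AlgHom.id A κ)
      (IsScalarTower.toAlgHom A (MvPolynomial (Fin n) A) Pg)).toRingHom.toAlgebra
  haveI : IsScalarTower κ (κ ⊗[A] MvPolynomial (Fin n) A) T :=
    IsScalarTower.of_algebraMap_eq (R := κ) (S := κ ⊗[A] MvPolynomial (Fin n) A) (A := T)
      fun p => by simp [T, RingHom.algebraMap_toAlgebra]; rfl
  have h1 : IsLocalization ((Submonoid.powers g).map inc) T :=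
    IsLocalization.tensorProduct_tensorProduct_right A κ (Submonoid.powers g) Pg
      (RingHom.ext fun z => by simp [T, RingHom.algebraMap_toAlgebra])
  rw [Submonoid.map_powers] at h1
  haveI : IsLocalization.Away (inc g) T := h1
  let θ : T →+* L := IsLocalization.Away.lift (inc g) (g := algebraMap _ L)
    (IsLocalization.map_units L (⟨inc g, hg⟩ : Q.primeCompl))
  letI := θ.toAlgebra
  haveI : IsScalarTower (κ ⊗[A] MvPolynomial (Fin n) A) T L :=
    IsScalarTower.of_algebraMap_eq fun x => (IsLocalization.Away.lift_eq (inc g) _ x).symm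
  haveI : IsLocalization (Q.primeCompl.map (algebraMap (κ ⊗[A] MvPolynomial (Fin n) A) T)) L :=
    IsLocalization.isLocalization_of_submonoid_le T L (Submonoid.powers (inc g)) Q.primeCompl
      (by rintro _ ⟨m, rfl⟩; exact fun hm => hg (Ideal.IsPrime.mem_of_pow_mem inferInstance m hm))
  have hq' := H29Slice.isQuasiRegular_localization (L := L)
    (Q.primeCompl.map (algebraMap (κ ⊗[A] MvPolynomial (Fin n) A) T)) hq
  have hmap : Ideal.ofList (List.ofFn fun i => algebraMap T L ((1 : κ) ⊗ₜ[A] l.get i)) =
      (RingHom.ker φ.toRingHom).map (algebraMap _ L) := by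
    have e : (algebraMap T L).comp ((Algebra.TensorProduct.includeRight : Pg →ₐ[A] T).toRingHom.comp
        (algebraMap (MvPolynomial (Fin n) A) Pg)) = (algebraMap _ L).comp inc.toRingHom := by
      refine RingHom.ext fun x => ?_
      have : (1 : κ) ⊗ₜ[A] algebraMap _ Pg x = algebraMap (κ ⊗[A] MvPolynomial (Fin n) A) T (inc x) := by
        simp [T, inc, RingHom.algebraMap_toAlgebra]
      rw [IsScalarTower.algebraMap_eq (κ ⊗[A] MvPolynomial (Fin n) A) T L]
      exact congrArg (algebraMap T L) this
    rw [hker]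
    change _ = ((RingHom.ker f.toRingHom).map inc.toRingHom).map (algebraMap _ L)
    rw [Ideal.map_map, ← e, ← Ideal.map_map, ← Ideal.map_map, hspan, Ideal.map_span, Ideal.map_span,
      Ideal.ofList, ← Set.image_comp]
    refine congrArg Ideal.span (Set.ext fun y => ?_)
    simp only [Set.mem_image, Set.mem_setOf_eq]
    rw [List.mem_ofFn]
    constructor
    · rintro ⟨i, rfl⟩
      exact ⟨l.get i, List.get_mem l i, rfl⟩
    · rintro ⟨x, hx, rfl⟩
      obtain ⟨i, rfl⟩ := List.get_of_mem hx
      exact ⟨i, rfl⟩
  refine ⟨_, H29Slice.isWeaklyRegular_of_isQuasiRegular L _ (fun i => ?_) hq', hmap⟩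
  rw [IsLocalRing.jacobson_eq_maximalIdeal ⊥ bot_ne_top, ← Localization.AtPrime.map_eq_maximalIdeal]
  exact Ideal.map_mono hQ (hmap ▸ Ideal.subset_span (List.mem_ofFn.2 ⟨i, rfl⟩))

end Groth.Agent.S1830
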