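import Groth.Statements.S12285
import Groth.Agent.H24Cot.NineTerm

set_option autoImplicit false
set_option linter.style.haveILetI false
set_option maxHeartbeats 3000000
universe u w m
open scoped TensorProduct
open DefT

namespace Groth.Agent.S12285

/-- Let A → B → C be ring homomorphisms and M a C-module. Compute T^i(C/B, M), T^i(C/A, M) and T^i(B/A,
M) from the choice-free presentations (every element a variable, every kernel element a relation),
and let T^i(C/B, M) → T^i(C/A, M) and T^i(C/A, M) → T^i(B/A, M) be the maps induced by the morphisms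
of presentations given by A → B over the identity of C and by B → C over the identity of A. Then
T^0(C/B, M) → T^0(C/A, M) is injective, the sequences T^i(C/B, M) → T^i(C/A, M) → T^i(B/A, M) are
exact for i = 0, 1, 2, and there are additive connecting maps δ₀ : T^0(B/A, M) → T^1(C/B, M) and δ₁
: T^1(B/A, M) → T^2(C/B, M) making the nine-term sequence 0 → T^0(C/B) → T^0(C/A) → T^0(B/A) →
T^1(C/B) → T^1(C/A) → T^1(B/A) → T^2(C/B) → T^2(C/A) → T^2(B/A) exact. (The connecting maps are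
asserted to exist with this exactness only, and only as additive maps; the published statement is an
exact sequence of C-modules, with C-linear connecting maps.) -/
theorem result
    (A B C : Type u) [CommRing A] [CommRing B] [CommRing C] [Algebra A B] [Algebra B C] [Algebra A C]
    [IsScalarTower A B C] (M : Type u) [AddCommGroup M] [Module C M] [Module B M] [IsScalarTower B C M] :
    Function.Injective ((CotT.canonHom A C B C).T0pull M) ∧
    Function.Exact ((CotT.canonHom A C B C).T0pull M) ((CotT.canonHom A B A C).T0pull M) ∧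
    Function.Exact ((CotT.canonHom A C B C).T1pull M) ((CotT.canonHom A B A C).T1pull M) ∧
    Function.Exact ((CotT.canonHom A C B C).T2pull M) ((CotT.canonHom A B A C).T2pull M) ∧
    ∃ (δ₀ : CotT.T0 (CotT.canon A B) M →+ CotT.T1 (CotT.canon B C) M)
      (δ₁ : CotT.T1 (CotT.canon A B) M →+ CotT.T2 (CotT.canon B C) M),
      Function.Exact ((CotT.canonHom A B A C).T0pull M) δ₀ ∧ Function.Exact δ₀ ((CotT.canonHom A C B C).T1pull M) ∧
      Function.Exact ((CotT.canonHom A B A C).T1pull M) δ₁ ∧ Function.Exact δ₁ ((CotT.canonHom A C B C).T2pull M) := by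
  have hT : IsScalarTower A A C := IsScalarTower.left A
  let P := CotT.canon A B
  let Q := CotT.canon B C
  let R := CotT.canon A C
  let P'' := Q.comp P
  let e := Groth.Agent.H24Cot.someHom R P''
  have he0 : Function.Bijective (e.T0pull M) := Groth.Agent.H24Cot.T0pull_bijective M e
  have he1 : Function.Bijective (e.T1pull M) := Groth.Agent.H24Cot.T1pull_bijective M e
  have he2 : Function.Bijective (e.T2pull M) := Groth.Agent.H24Cot.T2pull_bijective M e
  let p := Groth.Agent.H24Cot.projHom Q P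
  let i := Groth.Agent.H24Cot.inclHom Q P
  have S := Groth.Agent.H24Cot.seq_comp M Q P
  obtain ⟨δ₀, hδ₀, hδ₀'⟩ := Groth.Agent.H24Cot.exists_delta0_of_seq S
  obtain ⟨δ₁, hδ₁, hδ₁'⟩ := Groth.Agent.H24Cot.exists_delta1_of_seq S
  let f := CotT.canonHom A C B C
  let g := CotT.canonHom A B A C
  have f0 : ∀ x, e.T0pull M (p.T0pull M x) = f.T0pull M x := fun x => by
    rw [← Groth.Agent.H24Cot.T0pull_compHom2, Groth.Agent.H24Cot.T0pull_eq _ f M]
  have f1 : ∀ x, e.T1pull M (p.T1pull M x) = f.T1pull M x := fun x => by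
    rw [← Groth.Agent.H24Cot.T1pull_compHom2, Groth.Agent.H24Cot.T1pull_eq _ f M]
  have f2 : ∀ x, e.T2pull M (p.T2pull M x) = f.T2pull M x := fun x => by
    rw [← Groth.Agent.H24Cot.T2pull_compHom2, Groth.Agent.H24Cot.T2pull_eq _ f M]
  have g0 : ∀ y, g.T0pull M (e.T0pull M y) = i.T0pull M y := fun y => by
    rw [← Groth.Agent.H24Cot.T0pull_compHom2, Groth.Agent.H24Cot.T0pull_eq _ i M]
  have g1 : ∀ y, g.T1pull M (e.T1pull M y) = i.T1pull M y := fun y => by
    rw [← Groth.Agent.H24Cot.T1pull_compHom2, Groth.Agent.H24Cot.T1pull_eq _ i M]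
  have g2 : ∀ y, g.T2pull M (e.T2pull M y) = i.T2pull M y := fun y => by
    rw [← Groth.Agent.H24Cot.T2pull_compHom2, Groth.Agent.H24Cot.T2pull_eq _ i M]
  refine ⟨fun a b h => ?_, ?_, ?_, ?_, δ₀, δ₁, ?_, ?_, ?_, ?_⟩
  · rw [← f0 a, ← f0 b] at h
    exact Groth.Agent.H24Cot.T0pull_injective_of_seq S (he0.1 h)
  · intro y
    obtain ⟨y, rfl⟩ := he0.2 y
    rw [g0, Groth.Agent.H24Cot.T0pull_exact_of_seq S y]
    exact ⟨fun ⟨x, hx⟩ => ⟨x, by rw [← f0 x, hx]⟩, fun ⟨x, hx⟩ => ⟨x, he0.1 ((f0 x).trans hx)⟩⟩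
  · intro y
    obtain ⟨y, rfl⟩ := he1.2 y
    rw [g1, Groth.Agent.H24Cot.T1pull_exact_of_seq S y]
    exact ⟨fun ⟨x, hx⟩ => ⟨x, by rw [← f1 x, hx]⟩, fun ⟨x, hx⟩ => ⟨x, he1.1 ((f1 x).trans hx)⟩⟩
  · intro y
    obtain ⟨y, rfl⟩ := he2.2 y
    rw [g2, Groth.Agent.H24Cot.T2pull_exact_of_seq S y]
    exact ⟨fun ⟨x, hx⟩ => ⟨x, by rw [← f2 x, hx]⟩, fun ⟨x, hx⟩ => ⟨x, he2.1 ((f2 x).trans hx)⟩⟩
  · intro z
    rw [hδ₀ z]
    constructor
    · rintro ⟨y, hy⟩; exact ⟨e.T0pull M y, by rw [g0, hy]⟩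
    · rintro ⟨y, hy⟩
      obtain ⟨y, rfl⟩ := he0.2 y
      exact ⟨y, by rw [← hy, g0]⟩
  · exact Groth.Agent.H24Cot.exact_postcomp hδ₀' he1.1 f1
  · intro z
    rw [hδ₁ z]
    constructor
    · rintro ⟨y, hy⟩; exact ⟨e.T1pull M y, by rw [g1, hy]⟩
    · rintro ⟨y, hy⟩
      obtain ⟨y, rfl⟩ := he1.2 y
      exact ⟨y, by rw [← hy, g1]⟩
  · exact Groth.Agent.H24Cot.exact_postcomp hδ₁' he2.1 f2

end Groth.Agent.S12285
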