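import Groth.Statements.S12287
import Groth.Agent.H24Cot.Compare
import Groth.Agent.H24Cot.Koszul

set_option autoImplicit false
set_option linter.style.haveILetI false
universe u w m
open scoped TensorProduct
open DefT

namespace Groth.Agent.S12287

/-- Let B be an A-algebra that is isomorphic over A to a polynomial ring A[x_j] in some set of
variables. Then for every B-module M the modules T^1(B/A, M) and T^2(B/A, M), computed from the
choice-free presentation of B over A (every element of B a variable, every element of the kernel a
relation), are zero. -/
theorem result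
    (A B : Type u) [CommRing A] [CommRing B] [Algebra A B] (κ : Type u) (e : MvPolynomial κ A ≃ₐ[A] B)
    (M : Type u) [AddCommGroup M] [Module B M] :
    Subsingleton (CotT.T1 (CotT.canon A B) M) ∧ Subsingleton (CotT.T2 (CotT.canon A B) M) := by
  let G : Algebra.Generators A B κ := Algebra.Generators.ofSurjective (fun i => e (MvPolynomial.X i)) (by
    have : MvPolynomial.aeval (R := A) (fun i => e (MvPolynomial.X i)) = e.toAlgHom :=
      MvPolynomial.algHom_ext fun i => by simp
    rw [this]
    exact e.surjective)
  have hker : G.ker = ⊥ := by
    rw [G.ker_eq_ker_aeval_val, eq_bot_iff]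
    intro x hx
    have : MvPolynomial.aeval (R := A) G.val = e.toAlgHom := MvPolynomial.algHom_ext fun i => by simp [G]
    rw [RingHom.mem_ker, this] at hx
    exact e.injective (hx.trans (map_zero e).symm)
  let P : Algebra.Presentation A B κ PEmpty.{u + 1} :=
    { toGenerators := G
      relation := fun x => x.elim
      span_range_relation_eq_ker := by rw [hker, Set.range_eq_empty, Ideal.span_empty] }
  haveI := Groth.Agent.H24Cot.subsingleton_T1_of_isEmpty P M
  haveI := Groth.Agent.H24Cot.subsingleton_T2 P (Groth.Agent.H24Cot.relKer_le_of_isEmpty P) M
  exact ⟨(Groth.Agent.H24Cot.T1equiv (M := M) (CotT.canon A B) P).toEquiv.symm.subsingleton,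
    (Groth.Agent.H24Cot.T2equiv (M := M) (CotT.canon A B) P).toEquiv.symm.subsingleton⟩

end Groth.Agent.S12287
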