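import Groth.Statements.S12288
import Groth.Agent.H24Cot.Compare
import Groth.Agent.H24Cot.Koszul

set_option autoImplicit false
set_option linter.style.haveILetI false
universe u w m
open scoped TensorProduct
open DefT

namespace Groth.Agent.S12288

/-- Let A be a local ring and A → B a surjective ring homomorphism whose kernel is generated by a
regular sequence a_1, …, a_r on A (each a_i is a non-zero-divisor on A/(a_1, …, a_{i-1}) and the
ideal is proper). Then T^2(B/A, M) = 0 for every B-module M, the module being computed from the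
choice-free presentation of B over A. -/
theorem result
    (A B : Type u) [CommRing A] [IsLocalRing A] [CommRing B] [Algebra A B]
    (hs : Function.Surjective (algebraMap A B)) (rs : List A) (hreg : RingTheory.Sequence.IsRegular A rs)
    (hI : RingHom.ker (algebraMap A B) = Ideal.ofList rs) (M : Type u) [AddCommGroup M] [Module B M] :
    Subsingleton (CotT.T2 (CotT.canon A B) M) := by
  let G : Algebra.Generators A B PEmpty.{u + 1} := Algebra.Generators.ofSurjectiveAlgebraMap hs
  let φ : MvPolynomial PEmpty.{u + 1} A ≃ₐ[A] A := MvPolynomial.isEmptyAlgEquiv A _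
  have hφ : ∀ x, MvPolynomial.aeval (R := A) G.val x = algebraMap A B (φ x) := by
    intro x
    induction x using MvPolynomial.induction_on with
    | C a =>
      rw [show φ (MvPolynomial.C a) = a from φ.commutes a]
      simp
    | add p q hp hq => simp [hp, hq]
    | mul_X p i _ => exact i.elim
  have hspan : Ideal.span (Set.range fun i : Fin rs.length => (MvPolynomial.C rs[i] : G.Ring)) = G.ker := by
    have e1 : Ideal.span (Set.range fun i : Fin rs.length => rs[i]) = Ideal.ofList rs := by
      unfold Ideal.ofList
      congr 1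
      ext x
      simp [List.mem_iff_getElem, Fin.exists_iff]
    have h1 : Ideal.span (Set.range fun i : Fin rs.length => (MvPolynomial.C rs[i] : G.Ring)) =
        (RingHom.ker (algebraMap A B)).map (MvPolynomial.C : A →+* MvPolynomial PEmpty.{u + 1} A) := by
      rw [hI, ← e1, Ideal.map_span, ← Set.range_comp]
      rfl
    rw [h1, G.ker_eq_ker_aeval_val]
    refine le_antisymm ?_ fun x hx => ?_
    · rw [Ideal.map_le_iff_le_comap]
      intro a ha
      simpa using ha
    · obtain ⟨a, rfl⟩ := MvPolynomial.C_surjective PEmpty.{u + 1} x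
      exact Ideal.mem_map_of_mem _ (by simpa using hx)
  let P : Algebra.Presentation A B PEmpty.{u + 1} (Fin rs.length) :=
    { toGenerators := G
      relation := fun i => MvPolynomial.C rs[i]
      span_range_relation_eq_ker := hspan }
  let R₀ := MvPolynomial PEmpty.{u + 1} A
  have hφC : ∀ a : A, φ (MvPolynomial.C a) = a := φ.commutes
  have hC : ∀ z : R₀, MvPolynomial.C (φ z) = z := fun z => by
    obtain ⟨a, rfl⟩ := MvPolynomial.C_surjective PEmpty.{u + 1} z
    rw [hφC]
  have hreg' : ∀ i : Fin rs.length, ∀ x : R₀,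
      x * MvPolynomial.C rs[i] ∈ Ideal.span ((fun i : Fin rs.length => (MvPolynomial.C rs[i] : R₀)) '' {j | j < i}) →
        x ∈ Ideal.span ((fun i : Fin rs.length => (MvPolynomial.C rs[i] : R₀)) '' {j | j < i}) := by
    intro i x hx
    have e : Ideal.span ((fun i : Fin rs.length => (MvPolynomial.C rs[i] : R₀)) '' {j | j < i}) =
        (Ideal.ofList (rs.take i)).map (MvPolynomial.C : A →+* R₀) := by
      unfold Ideal.ofList
      rw [Ideal.map_span]
      congr 1
      ext y
      simp only [Set.mem_image, Set.mem_ofPred_eq, List.mem_take_iff_getElem]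
      constructor
      · rintro ⟨j, hj, rfl⟩
        exact ⟨_, ⟨j, lt_min hj j.2, rfl⟩, rfl⟩
      · rintro ⟨_, ⟨j, hj, rfl⟩, rfl⟩
        exact ⟨⟨j, hj.trans_le (min_le_right _ _)⟩, hj.trans_le (min_le_left _ _), rfl⟩
    rw [e, ← hC x, ← map_mul] at hx
    rw [e, ← hC x]
    have hcomap : ∀ (J : Ideal A) (a : A), (MvPolynomial.C a : R₀) ∈ J.map (MvPolynomial.C : A →+* R₀) → a ∈ J := by
      intro J a ha
      have := Ideal.mem_map_of_mem (φ.toRingEquiv.toRingHom) ha
      rw [Ideal.map_map, show φ.toRingEquiv.toRingHom.comp (MvPolynomial.C : A →+* R₀) = RingHom.id A from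
        RingHom.ext hφC, Ideal.map_id] at this
      simpa using (hφC a) ▸ this
    refine Ideal.mem_map_of_mem _ ?_
    have h1 := hcomap _ _ hx
    have hr := (RingTheory.Sequence.isWeaklyRegular_iff_Fin A rs).mp hreg.toIsWeaklyRegular i
    have hmem : ∀ y : A, (Submodule.Quotient.mk y : A ⧸ (Ideal.ofList (rs.take i) • ⊤ : Submodule A A)) = 0 ↔
        y ∈ Ideal.ofList (rs.take i) := fun y => by
      rw [Submodule.Quotient.mk_eq_zero, smul_eq_mul, Ideal.mul_top]
    rw [← hmem] at h1 ⊢
    refine hr ?_
    change rs[i] • Submodule.Quotient.mk (φ x) = rs[i] • (0 : A ⧸ (Ideal.ofList (rs.take i) • ⊤ : Submodule A A))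
    rw [smul_zero, ← Submodule.Quotient.mk_smul, show rs[i] • φ x = φ x * rs[i] from mul_comm _ _]
    exact h1
  have hrel : Groth.Agent.H24Cot.RelationsTrivial (CotT.rel P) :=
    Groth.Agent.H24Cot.relationsTrivial_of_regular (R := P.toExtension.Ring) _ hreg'
  haveI := Groth.Agent.H24Cot.subsingleton_T2 P (Groth.Agent.H24Cot.trivRel_eq_relKer P hrel).ge M
  exact (Groth.Agent.H24Cot.T2equiv (M := M) (CotT.canon A B) P).toEquiv.symm.subsingleton

end Groth.Agent.S12288
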