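import Groth.Statements.S12310
import Groth.Agent.H28Def.Lift
import Groth.Agent.H24Art.Basic
import Groth.Prelude.Def_ArtFun2

set_option autoImplicit false
universe u
open CategoryTheory AlgebraicGeometry
open SGA7

namespace Groth.Agent.S12310

/-- Suppose Λ is a Noetherian local ring, complete for its maximal-ideal-adic topology, whose residue
field is k (so Λ → k is surjective), and work with functors defined on local Artinian Λ-algebras
having residue field k. Take a finite-type k-algebra A₀ that is a local complete intersection over k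
(meaning it admits a presentation as a quotient of a polynomial algebra in finitely many variables
whose kernel is Koszul-regular), and put X₀ = Spec A₀. Then X₀ has a smooth deformation functor (the
functor of isomorphism classes of schemes flat over Spec A whose closed fibre is X₀): given any
surjection A' → A, each deformation over A can be lifted to one over A'. -/
theorem result (Λ k : Type u) [CommRing Λ] [IsLocalRing Λ] [IsNoetherianRing Λ]
    [IsAdicComplete (IsLocalRing.maximalIdeal Λ) Λ] [Field k] [Algebra Λ k]
    (hk : Function.Surjective (algebraMap Λ k))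
    (A₀ : Type u) [CommRing A₀] [Algebra k A₀] (hA : LCI.IsLCI k A₀) :
    ArtFun.IsSmoothFunctor (ArtFun.defFunctor (Λ := Λ) (Spec (CommRingCat.of A₀))
      (Spec.map (CommRingCat.ofHom (algebraMap k A₀)))) := by
  haveI : Module.Finite Λ k := Module.Finite.of_surjective (Algebra.linearMap Λ k) hk
  intro B A μ hμ
  refine Groth.Agent.H24Art.surjective_induction
    (fun A B μ => Function.Surjective ((ArtFun.defFunctor (Λ := Λ) (Spec (CommRingCat.of A₀))
      (Spec.map (CommRingCat.ofHom (algebraMap k A₀)))).map μ))
    (fun A B e he => ?_) (fun A B p hp => ?_) (fun A B C p q hp hq => ?_) μ hμ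
  · haveI := he
    intro y
    refine ⟨(ArtFun.defFunctor (Spec (CommRingCat.of A₀)) _).map (inv e) y, ?_⟩
    rw [← CategoryTheory.Functor.map_comp_apply, IsIso.inv_hom_id, CategoryTheory.Functor.map_id_apply]
  · intro y
    obtain ⟨ξ, rfl⟩ := Quotient.exists_rep y
    obtain ⟨D, ⟨e⟩⟩ := Groth.Agent.H24Def.exists_toSch_iso (B₀ := A₀) ξ
    obtain ⟨D', φ, hφ, hc, hπ, hk'⟩ := Groth.Agent.H28Def.exists_lift hA p hp.1 hp.2.2.2 D
    obtain ⟨e'⟩ := Groth.Agent.H28Def.baseChange_iso p hp.1 D' D φ hφ hc hπ hk'
    exact ⟨D'.toSch.cl, Quotient.sound ⟨e'.trans e.symm⟩⟩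
  · intro y
    obtain ⟨z, rfl⟩ := hq y
    obtain ⟨w, rfl⟩ := hp z
    exact ⟨w, CategoryTheory.Functor.map_comp_apply _ _ _ _⟩

end Groth.Agent.S12310
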