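import Groth.Statements.S9287
import Groth.Agent.H8Props.KoszImm.Syntomic

set_option autoImplicit false
universe u
attribute [local instance] HasDerivedCategory.standard
open CategoryTheory
open Synt

namespace Groth.Agent.S9287

/-- A ring map R → S is syntomic if and only if it is flat and a local complete intersection
homomorphism. -/
theorem result (R S : Type u) [CommRing R] [CommRing S] [Algebra R S] :
    Synt.IsSyntomic R S ↔ Module.Flat R S ∧ LCI.IsLCI R S := by
  exact Groth.Agent.H8Props.KoszImm.isSyntomic_iff R S

end Groth.Agent.S9287
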