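import Groth.Statements.S5934
import Groth.Agent.H06EGA9.SmoothFibreLocus

set_option autoImplicit false
open CategoryTheory AlgebraicGeometry
universe u
open EGA43

namespace Groth.Agent.S5934

/-- Let f : X ⟶ Y be a proper, flat morphism of finite presentation. The set of points y of Y whose
fibre X_y is geometrically regular, i.e. smooth over the residue field κ(y), is open in Y. -/
theorem result {X Y : Scheme.{u}} (f : X ⟶ Y) [IsProper f] [Flat f]
    [LocallyOfFinitePresentation f] :
    IsOpen {y : Y | Smooth (f.fiberToSpecResidueField y)} := by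
  have key : {y : Y | Smooth (f.fiberToSpecResidueField y)} = (f '' (f.smoothLocus : Set X)ᶜ)ᶜ := by
    ext y
    haveI i : LocallyOfFinitePresentation (f.fiberToSpecResidueField y) :=
      MorphismProperty.of_isPullback (P := @LocallyOfFinitePresentation) (IsPullback.of_hasPullback f (Y.fromSpecResidueField y)) ‹_›
    rw [Set.mem_setOf_eq, ← @Scheme.Hom.smoothLocus_eq_top_iff _ _ _ i]
    simp only [Set.mem_compl_iff, Set.mem_image, not_exists, not_and, not_imp_not]
    constructor
    · intro h x hxy
      subst hxy
      refine (Groth.Agent.H06EGA9.mem_smFib_iff_mem_smoothLocus_of_flat f (Flat.stalkMap f x)).1 ?_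
      exact (show f.asFiber x ∈ (f.fiberToSpecResidueField (f x)).smoothLocus by rw [h]; trivial)
    · intro h
      refine TopologicalSpace.Opens.ext (Set.eq_univ_of_forall fun z => ?_)
      have hz : f (f.fiberι y z) = y := (f.range_fiberι y).subset (Set.mem_range_self z)
      have hx : f.fiberι y z ∈ f.smoothLocus := h _ hz
      exact (Groth.Agent.H06EGA9.mem_smFib_iff f z rfl).1
        ((Groth.Agent.H06EGA9.mem_smFib_iff_mem_smoothLocus_of_flat f (Flat.stalkMap f _)).2 hx)
  rw [key]
  exact (f.isClosedMap _ f.smoothLocus.2.isClosed_compl).isOpen_compl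

end Groth.Agent.S5934
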