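import Groth.Statements.S11526
import Groth.Agent.H24Val.Transfer

set_option autoImplicit false
universe u
open AdicRing

namespace Groth.Agent.S11526

/-- Let R be a base ring of class (N) or (V) for the ideal I and A an R-algebra topologically of finite
presentation. Then A is a coherent ring: every finitely generated ideal of A is finitely presented
as an A-module. -/
theorem result
    (R : Type u) [CommRing R] (I : Ideal R) (hR : AdicRing.IsBase R I)
    (A : Type u) [CommRing A] [Algebra R A] (hA : AdicRing.TopFinitePresentation R I A)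
    (J : Ideal A) (hJ : J.FG) :
    Module.FinitePresentation A J := by
  classical
  obtain ⟨n, φ, hφ, hK⟩ := hA
  haveI : Module.Finite A J := Module.Finite.iff_fg.mpr hJ
  rcases hR.2 with ⟨hN, -⟩ | ⟨hdom, hpre, hdim, t, ht, rfl⟩
  · haveI := Groth.Agent.H24Val.isNoetherianRing_rPow (R := R) (I := I) (n := n)
    haveI : IsNoetherianRing A := isNoetherianRing_of_surjective _ _ φ.toRingHom hφ
    exact Module.finitePresentation_of_finite A J
  · haveI := hR.1
    haveI := Groth.Agent.H24Val.isAdicComplete_rPow (n := n) hR
    letI : Algebra (AdicRing.RPow R (Ideal.span {t}) n) A := φ.toRingHom.toAlgebra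
    set Q := AdicRing.RPow R (Ideal.span {t}) n
    obtain ⟨s, hs⟩ := hJ
    choose lf hlf using hφ
    let J' : Ideal Q := Ideal.span (s.image lf : Finset Q) ⊔ RingHom.ker φ.toRingHom
    have hJ'fg : J'.FG := Submodule.FG.sup ⟨_, rfl⟩ hK
    haveI : Module.Finite Q J' := Module.Finite.iff_fg.mpr hJ'fg
    have hmap : J'.map φ.toRingHom = J := by
      rw [Ideal.map_sup, (Ideal.map_eq_bot_iff_le_ker _).mpr le_rfl, sup_bot_eq, Ideal.map_span, ← hs,
        Finset.coe_image, ← Set.image_comp]
      refine congrArg Ideal.span ((Set.image_congr fun a _ => ?_).trans (Set.image_id _))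
      exact hlf a
    let π : J' →ₗ[Q] J :=
      { toFun := fun x => ⟨φ x.1, hmap ▸ Ideal.mem_map_of_mem φ.toRingHom x.2⟩
        map_add' := fun x y => Subtype.ext (map_add φ _ _)
        map_smul' := fun c x => Subtype.ext (map_mul φ _ _) }
    have hπ : Function.Surjective π := by
      rintro ⟨y, hy⟩
      rw [← hmap, Ideal.mem_map_iff_of_surjective φ.toRingHom (fun a => ⟨lf a, hlf a⟩)] at hy
      obtain ⟨x, hx, hxy⟩ := hy
      exact ⟨⟨x, hx⟩, Subtype.ext hxy⟩
    have hπker : (LinearMap.ker π).FG := by
      refine Submodule.fg_of_fg_map_injective J'.subtype J'.injective_subtype ?_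
      rw [show (LinearMap.ker π).map J'.subtype = (RingHom.ker φ.toRingHom : Ideal Q) from ?_]
      · exact hK
      ext x
      refine ⟨?_, fun hx => ⟨⟨x, Submodule.mem_sup_right hx⟩, Subtype.ext hx, rfl⟩⟩
      rintro ⟨y, hy, rfl⟩
      exact congrArg Subtype.val (LinearMap.mem_ker.mp hy)
    haveI : Module.FinitePresentation Q J' :=
      Groth.Agent.H24Val.finitePresentation_of_noPowTorsion hR ⟨n, AlgHom.id R Q, fun a => ⟨a, rfl⟩⟩
        fun x m hx => by
          have h1 := hx (t ^ m) (Ideal.pow_mem_pow (Ideal.mem_span_singleton_self t) m)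
          clear hx
          induction m with
          | zero => simpa using h1
          | succ m ih =>
            refine ih (Subtype.ext (Groth.Agent.H24Val.noPowTorsion_rPow_val ht _ ?_))
            have h2 := congrArg Subtype.val h1
            rw [Submodule.coe_smul_of_tower, pow_succ', mul_smul] at h2
            rw [Submodule.coe_smul_of_tower]
            exact h2
    haveI : Module.FinitePresentation Q J := Module.finitePresentation_of_surjective π hπ hπker
    obtain ⟨r, ψ, hψ⟩ := Module.Finite.exists_fin' A J
    refine Module.finitePresentation_of_surjective ψ hψ ?_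
    let c : (Fin r → Q) →ₗ[Q] (Fin r → A) := (Algebra.linearMap Q A).compLeft (Fin r)
    have hc : Function.Surjective c := fun y => ⟨fun i => lf (y i), funext fun i => hlf (y i)⟩
    have h := Module.FinitePresentation.fg_ker ((ψ.restrictScalars Q).comp c) (hψ.comp hc)
    rw [LinearMap.ker_comp] at h
    have h' := h.map c
    rw [Submodule.map_comap_eq_of_surjective hc] at h'
    exact Submodule.FG.of_restrictScalars Q (M := Fin r → A) (S := LinearMap.ker ψ) h'

end Groth.Agent.S11526
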