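import Groth.Statements.S3868
import Groth.Agent.H24FSch.Descend
import Groth.Agent.H24Adic.RingLimit
import Groth.Agent.H7Lim.Thickening

set_option autoImplicit false
set_option linter.style.haveILetI false
universe u
open FCompl

open CategoryTheory AlgebraicGeometry

namespace Groth.Agent.S3868

open AlgebraicGeometry in
open CategoryTheory in
/-- (Systems of thickenings.) Let (X_n) be a system of schemes whose transition maps are surjective
closed immersions, with the kernel ideal of X_n -> X_(n+1) the (n+1)-st power of that of X_0 ->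
X_(n+1), X_0 affine and locally Noetherian, and the kernel ideal of X_0 -> X_1 of finite type. Then
the system is isomorphic to the formal spectrum Spec(A/J) -> Spec(A/J^2) -> ... of some Noetherian
ring A complete and separated for the J-adic topology, J an ideal of A. -/
theorem result (𝔛 : FSch.Sys.{u}) (hF : 𝔛.IsFormal) (hA : 𝔛.IsAdic)
    [IsAffine (𝔛.X 0)] [IsLocallyNoetherian (𝔛.X 0)] (hft : FSch.IdealFT (𝔛.ι 0).ker) :
    ∃ (A : Type u) (_ : CommRing A) (J : Ideal A),
      IsNoetherianRing A ∧ IsAdicComplete J A ∧ Nonempty (𝔛 ≅ FSch.spf A J) := by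
  haveI hcl : ∀ n, IsClosedImmersion (𝔛.ι n) := fun n => (hF n).1
  haveI hX : ∀ n, IsAffine (𝔛.X n) := fun n => by
    obtain ⟨hc, hs⟩ := Groth.Agent.H24FSch.isClosedImmersion_surjective_toX hF n
    exact Groth.Agent.H7Lim.isAffine_of_surjective_closedImmersion (𝔛.toX n) Surjective.surj
  haveI hcl' : ∀ n, IsClosedImmersion (𝔛.toX n) := fun n => (Groth.Agent.H24FSch.isClosedImmersion_surjective_toX hF n).1
  let R : ℕ → Type u := fun n => Γ(𝔛.X n, ⊤)
  let f : ∀ n, R (n + 1) →+* R n := fun n => (𝔛.ι n).appTop.hom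
  have hf : ∀ n, Function.Surjective (f n) := fun n => (𝔛.ι n).app_surjective ⊤ (isAffineOpen_top _)
  have ht : ∀ n, Groth.Agent.H24Adic.toZero f n = (𝔛.toX n).appTop.hom := by
    intro n
    induction n with
    | zero => rfl
    | succ n ih =>
      rw [Groth.Agent.H24Adic.toZero, ih]
      rfl
  have hk : ∀ {Y Z : Scheme.{u}} (g : Y ⟶ Z) [IsClosedImmersion g] [IsAffine Z],
      RingHom.ker g.appTop.hom = g.ker.ideal ⟨⊤, isAffineOpen_top Z⟩ := fun g _ _ =>
    (Scheme.Hom.ker_apply g ⟨⊤, isAffineOpen_top _⟩).symm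
  have hker : ∀ n, RingHom.ker (f n) = RingHom.ker (Groth.Agent.H24Adic.toZero f (n + 1)) ^ (n + 1) := fun n => by
    rw [ht]
    show RingHom.ker (𝔛.ι n).appTop.hom = RingHom.ker (𝔛.toX (n + 1)).appTop.hom ^ (n + 1)
    rw [hk, hk, hA n, Scheme.IdealSheafData.ideal_pow]
    rfl
  have h1 : (RingHom.ker (Groth.Agent.H24Adic.toZero f 1)).FG := by
    have := hft ⟨⊤, isAffineOpen_top _⟩
    rw [← hk] at this
    exact this
  haveI : IsNoetherianRing (R 0) := IsLocallyNoetherian.component_noetherian ⟨⊤, isAffineOpen_top (𝔛.X 0)⟩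
  obtain ⟨I, hN, hC, hkr⟩ := Groth.Agent.H24Adic.exists_adic_limit f hf hker h1
  refine ⟨Groth.Agent.H24Adic.ringLim f, inferInstance, I, hN, hC, ?_⟩
  let e : ∀ n, (Groth.Agent.H24Adic.ringLim f) ⧸ I ^ (n + 1) ≃+* R n := fun n =>
    (Ideal.quotEquivOfEq (hkr n).symm).trans
      (RingHom.quotientKerEquivOfSurjective (Groth.Agent.H24Adic.ringLimProj_surjective f hf n))
  let c : ∀ n, 𝔛.X n ≅ (FSch.spf (Groth.Agent.H24Adic.ringLim f) I).X n := fun n =>
    (𝔛.X n).isoSpec ≪≫ Scheme.Spec.mapIso (e n).toCommRingCatIso.op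
  have hcomm : ∀ n, (c n).hom ≫ (FSch.spf (Groth.Agent.H24Adic.ringLim f) I).ι n = 𝔛.ι n ≫ (c (n + 1)).hom := by
    intro n
    show ((𝔛.X n).isoSpec.hom ≫ Spec.map (CommRingCat.ofHom (e n).toRingHom)) ≫ Spec.map (CommRingCat.ofHom
        (Ideal.Quotient.factor (Ideal.pow_le_pow_right (Nat.le_succ (n + 1))))) =
      𝔛.ι n ≫ (𝔛.X (n + 1)).isoSpec.hom ≫ Spec.map (CommRingCat.ofHom (e (n + 1)).toRingHom)
    rw [← Scheme.isoSpec_hom_naturality_assoc, Category.assoc, ← Spec.map_comp, ← Spec.map_comp]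
    congr 2
    ext1
    refine Ideal.Quotient.ringHom_ext (RingHom.ext fun x => ?_)
    exact (Groth.Agent.H24Adic.ringLimProj_comm f n x).symm
  refine ⟨⟨⟨fun n => (c n).hom, hcomm⟩, ⟨fun n => (c n).inv, fun n => ?_⟩, ?_, ?_⟩⟩
  · rw [Iso.inv_comp_eq, ← Category.assoc, Iso.eq_comp_inv]
    exact (hcomm n).symm
  · exact FSch.Hom.ext (funext fun n => (c n).hom_inv_id)
  · exact FSch.Hom.ext (funext fun n => (c n).inv_hom_id)

end Groth.Agent.S3868
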