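import Groth.Agent.H4LC.LC
import Groth.Agent.H4LC.ExtColimit
import Mathlib.LinearAlgebra.Finsupp.Pi

/-!
# Splittings when the cohomological dimension is one
-/

set_option autoImplicit false

universe u

open CategoryTheory CategoryTheory.Limits Opposite CategoryTheory.Abelian

namespace Groth.Agent.H4CdOne

open H4LC

variable {A : Type u} [CommRing A] (I : Ideal A)

/-- `0 → I ^ n → A → A ⧸ I ^ n → 0`. -/
noncomputable abbrev seq (n : ℕ) : ShortComplex (ModuleCat.{u} A) :=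
  ShortComplex.mk (X₁ := ModuleCat.of A ↥(I ^ n)) (X₂ := ModuleCat.of A A)
    (X₃ := (quotSys I).obj (op n)) (ModuleCat.ofHom (I ^ n).subtype) (ModuleCat.ofHom (I ^ n).mkQ)
    (ModuleCat.hom_ext (LinearMap.exact_subtype_mkQ (I ^ n)).linearMap_comp_eq_zero)

theorem seq_shortExact (n : ℕ) : (seq I n).ShortExact :=
  ModuleCat.shortComplex_shortExact (seq I n) (LinearMap.exact_subtype_mkQ (I ^ n))
    Subtype.val_injective (Submodule.mkQ_surjective _)

/-- The transition between the sequences. -/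
noncomputable def seqMap {n m : ℕ} (h : n ≤ m) : seq I m ⟶ seq I n where
  τ₁ := ModuleCat.ofHom (Submodule.inclusion (Ideal.pow_le_pow_right h))
  τ₂ := 𝟙 _
  τ₃ := tr (quotSys I) h
  comm₁₂ := rfl
  comm₂₃ := rfl

/-- The splitting. -/
theorem exists_splitting [IsNoetherianRing A] {r : ℕ} (f : Fin r → A) (hI : I = Ideal.span (Set.range f))
    (hcd : LocCoh.CdLE A I 1) :
    ∃ (c : ℕ) (φ : Fin r → (↥(I ^ (c + 1)) →ₗ[A] A)),
      ∀ x : ↥(I ^ (c + 1)), (x : A) = ∑ j, f j * φ j x := by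
  classical
  have hmem : ∀ v, Fintype.linearCombination A f v ∈ I := fun v => by
    rw [Fintype.linearCombination_apply, hI]
    exact Ideal.sum_mem _ fun j _ => Ideal.mul_mem_left _ _ (Ideal.subset_span ⟨j, rfl⟩)
  let g : (Fin r → A) →ₗ[A] ↥I := (Fintype.linearCombination A f).codRestrict I hmem
  have hg : Function.Surjective g := fun x => by
    obtain ⟨c, hc⟩ := Ideal.mem_span_range_iff_exists_fun.1 (hI ▸ x.2 : (x : A) ∈ Ideal.span (Set.range f))
    exact ⟨c, Subtype.ext ((Fintype.linearCombination_apply A f c).trans hc)⟩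
  let T : ShortComplex (ModuleCat.{u} A) := ShortComplex.mk
    (ModuleCat.ofHom (LinearMap.ker g).subtype) (ModuleCat.ofHom g)
    (ModuleCat.hom_ext (LinearMap.exact_subtype_ker_map g).linearMap_comp_eq_zero)
  have hT : T.ShortExact := ModuleCat.shortComplex_shortExact T (LinearMap.exact_subtype_ker_map g)
    Subtype.val_injective hg
  let ι₁ : (seq I 1).X₁ ⟶ ModuleCat.of A ↥I :=
    ModuleCat.ofHom (Submodule.inclusion (le_of_eq (pow_one I)))
  let η : Abelian.Ext (seq I 1).X₁ T.X₁ 1 := (Abelian.Ext.mk₀ ι₁).comp hT.extClass (zero_add 1)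
  let y : Abelian.Ext ((quotSys I).obj (op 1)) T.X₁ 2 := (seq_shortExact I 1).extClass.comp η rfl
  have hy : ι (quotSys I) 2 T.X₁ 1 y = 0 :=
    @Subsingleton.elim _ (hcd (LinearMap.ker g) 2 one_lt_two) _ _
  obtain ⟨m, hm, hm'⟩ := (ι_eq_zero_iff _ _ _ _).1 hy
  have hnat := ShortComplex.ShortExact.extClass_naturality (seq_shortExact I m) (seq_shortExact I 1)
    (seqMap I hm)
  have hz : (seq_shortExact I m).extClass.comp
      ((Abelian.Ext.mk₀ (seqMap I hm).τ₁).comp η (zero_add 1)) (rfl : 1 + 1 = 2) = 0 := by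
    rw [← Abelian.Ext.comp_assoc _ _ _ (add_zero 1) (zero_add 1) (by omega), hnat,
      Abelian.Ext.comp_assoc _ _ _ (zero_add 1) (rfl : 1 + 1 = 2) (by omega)]
    exact hm'
  obtain ⟨w, hw⟩ := Abelian.Ext.contravariant_sequence_exact₁ (seq_shortExact I m) _ _
    (rfl : 1 + 1 = 2) hz
  have : Projective (seq I m).X₂ := (IsProjective.iff_projective (R := A) A).1 inferInstance
  rw [Abelian.Ext.eq_zero_of_projective w, Abelian.Ext.comp_zero] at hw
  have hw' : (Abelian.Ext.mk₀ ((seqMap I hm).τ₁ ≫ ι₁)).comp hT.extClass (zero_add 1) = 0 := by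
    rw [← Abelian.Ext.mk₀_comp_mk₀, Abelian.Ext.comp_assoc _ _ _ (add_zero 0) (zero_add 1) (by omega)]
    exact hw.symm
  obtain ⟨φ, hφ⟩ := Abelian.Ext.covariant_sequence_exact₃ _ hT _ _ hw'
  obtain ⟨φ, rfl⟩ := (Abelian.Ext.mk₀_bijective _ _).2 φ
  rw [Abelian.Ext.mk₀_comp_mk₀] at hφ
  have hφ' := (Abelian.Ext.mk₀_bijective _ _).1 hφ
  obtain ⟨c, rfl⟩ : ∃ c, m = c + 1 := ⟨m - 1, by omega⟩
  refine ⟨c, fun j => LinearMap.proj j ∘ₗ φ.hom, fun x => ?_⟩
  have h1 := congrArg (fun z : ↥I => (z : A)) (LinearMap.congr_fun (congrArg ModuleCat.Hom.hom hφ') x)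
  refine h1.symm.trans ((Fintype.linearCombination_apply A f _).trans ?_)
  exact Finset.sum_congr rfl fun j _ => mul_comm _ _

end Groth.Agent.H4CdOne
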