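import Groth.Statements.S2346
import Groth.Agent.H11Curve.DimOne
import Groth.Agent.H29Curve.Topology
import Groth.Agent.H17.GenFiniteDense

set_option autoImplicit false
universe u
open CategoryTheory CategoryTheory.Limits AlgebraicGeometry
open EGA2

namespace Groth.Agent.S2346

/-- Let X and Y be irreducible algebraic curves over k (separated, of finite type, local rings at closed
points one-dimensional) and f : X → Y a k-morphism. Then f is dominant if and only if every fibre
f⁻¹(y) is a finite set. -/
theorem result (k : Type u) [Field k] (X Y : Scheme.{u}) [X.Over (Spec (CommRingCat.of k))] [Y.Over (Spec (CommRingCat.of k))]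
    [LocallyOfFiniteType (X ↘ (Spec (CommRingCat.of k)))] [QuasiCompact (X ↘ (Spec (CommRingCat.of k)))] [IsSeparated (X ↘ (Spec (CommRingCat.of k)))] [LocallyOfFiniteType (Y ↘ (Spec (CommRingCat.of k)))] [QuasiCompact (Y ↘ (Spec (CommRingCat.of k)))] [IsSeparated (Y ↘ (Spec (CommRingCat.of k)))] [IrreducibleSpace X] [IrreducibleSpace Y]
    (hX : (∀ x : X, IsClosed ({x} : Set X) → ringKrullDim (X.presheaf.stalk x) = 1)) (hY : (∀ x : Y, IsClosed ({x} : Set Y) → ringKrullDim (Y.presheaf.stalk x) = 1))
    (f : X ⟶ Y) (hf : f ≫ (Y ↘ (Spec (CommRingCat.of k))) = X ↘ (Spec (CommRingCat.of k))) :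
    IsDominant f ↔ ∀ y : Y, (f.base ⁻¹' {y}).Finite := by
  let p := X ↘ (Spec (CommRingCat.of k))
  let q := Y ↘ (Spec (CommRingCat.of k))
  haveI : CompactSpace X := QuasiCompact.compactSpace_of_compactSpace p
  haveI : CompactSpace Y := QuasiCompact.compactSpace_of_compactSpace q
  haveI : IsLocallyNoetherian X := LocallyOfFiniteType.isLocallyNoetherian p
  haveI : IsNoetherian X := {}
  haveI : JacobsonSpace X := LocallyOfFiniteType.jacobsonSpace p
  have hdX : topologicalKrullDim X ≤ 1 :=
    H11Curve.topologicalKrullDim_le_one fun x hx => (hX x hx).le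
  have hdY : topologicalKrullDim Y ≤ 1 :=
    H11Curve.topologicalKrullDim_le_one fun x hx => (hY x hx).le
  have hηX := H11Curve.genericPoint_not_isClosed hX
  have hηY := H11Curve.genericPoint_not_isClosed hY
  constructor
  · intro hd y
    have hη : f (genericPoint X) = genericPoint Y := H17.GenFinite.map_genericPoint_of_isDominant f
    rcases H29Curve.isClosed_singleton_or_eq_genericPoint hdY y with hy | rfl
    · refine H29Curve.finite_of_isClosed_of_genericPoint_notMem hdX
        (hy.preimage f.base.hom.continuous) fun hm => hηY ?_
      have : y = genericPoint Y := (Set.mem_singleton_iff.1 hm).symm.trans hη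
      exact this ▸ hy
    · refine (Set.finite_singleton (genericPoint X)).subset fun x hx => ?_
      refine (H29Curve.isClosed_singleton_or_eq_genericPoint hdX x).resolve_left fun hxc => hηY ?_
      haveI : JacobsonSpace Y := LocallyOfFiniteType.jacobsonSpace q
      haveI : LocallyOfFiniteType (f ≫ q) := by rw [hf]; infer_instance
      haveI : LocallyOfFiniteType f := locallyOfFiniteType_of_comp f q
      have := f.closePoints_subset_preimage_closedPoints hxc
      simp only [Set.mem_preimage, mem_closedPoints_iff] at this
      rwa [show f x = genericPoint Y from hx] at this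
  · intro hfin
    rcases H29Curve.isClosed_singleton_or_eq_genericPoint hdY (f (genericPoint X)) with hc | hc
    · exfalso
      have huniv : (Set.univ : Set X) ⊆ f.base ⁻¹' {f (genericPoint X)} := fun x _ => by
        have h1 : f (genericPoint X) ⤳ f x :=
          f.base.hom.map_specializes ((genericPoint_spec X).specializes trivial)
        have h2 := h1.mem_closure
        rwa [hc.closure_eq] at h2
      haveI : Finite X := Set.finite_univ_iff.1 ((hfin _).subset huniv)
      refine hηX ?_
      have hd : closure (closedPoints X) = Set.univ := closure_closedPoints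
      have hcl : IsClosed (closedPoints X) := by
        rw [← Set.biUnion_of_singleton (closedPoints X)]
        exact (Set.toFinite _).isClosed_biUnion fun x hx => hx
      rw [hcl.closure_eq] at hd
      exact (hd ▸ Set.mem_univ (genericPoint X) : genericPoint X ∈ closedPoints X)
    · exact ⟨dense_iff_closure_eq.2 (Set.eq_univ_of_univ_subset (by
        rw [← (genericPoint_spec Y).def, ← hc]
        exact closure_mono (Set.singleton_subset_iff.2 ⟨_, rfl⟩)))⟩

end Groth.Agent.S2346
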