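import Groth.Statements.S4442
import Groth.Agent.H11Curve.DimOne
import Groth.Agent.H8Props.FieldDimScheme

set_option autoImplicit false
universe u
open CategoryTheory CategoryTheory.Limits AlgebraicGeometry
attribute [local instance] Curv2.resAlgebra
open EGA2

namespace Groth.Agent.S4442

/-- (a) ⇔ (b): let X be a scheme of finite type over a field k. The residue fields of the generic points
of the irreducible components of X all have transcendence degree one over k if and only if the local
ring of X at every closed point has dimension one. (The published statement has a third equivalent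
condition: the irreducible closed subsets of X other than the irreducible components are exactly the
closed points of X. This row states only the equivalence of the first two.) -/
theorem result (k : Type u) [Field k] (X : Scheme.{u})
    [X.Over (Spec (CommRingCat.of k))] [LocallyOfFiniteType (X ↘ (Spec (CommRingCat.of k)))]
    [QuasiCompact (X ↘ (Spec (CommRingCat.of k)))] :
    (∀ x : X, closure ({x} : Set X) ∈ irreducibleComponents (X : Type u) → Algebra.trdeg k (X.residueField x) = 1) ↔
      ∀ x : X, IsClosed ({x} : Set X) → ringKrullDim (X.presheaf.stalk x) = 1 := by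
  let p := X ↘ (Spec (CommRingCat.of k))
  haveI : CompactSpace X := QuasiCompact.compactSpace_of_compactSpace p
  letI := specializationOrder (X : Type u)
  have htr : ∀ x : X, Algebra.trdeg k (X.residueField x) = 1 ↔ H8Props.FieldDim.cdim x = 1 := by
    intro x
    have he : X.fromSpecResidueField x ≫ p = Spec.map (CommRingCat.ofHom (algebraMap k (X.residueField x))) := by
      have h1 : CommRingCat.ofHom (algebraMap k (X.residueField x)) = (Scheme.ΓSpecIso (CommRingCat.of k)).inv ≫
          p.appTop ≫ X.presheaf.germ ⊤ x trivial ≫ X.residue x := rfl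
      rw [h1, Scheme.fromSpecResidueField, Category.assoc, ← cancel_mono (Spec (CommRingCat.of k)).toSpecΓ,
        Category.assoc, Category.assoc, Scheme.toSpecΓ_naturality, Scheme.fromSpecStalk_toSpecΓ_assoc,
        ← SpecMap_ΓSpecIso_hom, ← Spec.map_comp, ← Spec.map_comp, ← Spec.map_comp, Iso.hom_inv_id_assoc,
        Category.assoc]
    haveI : IsPreimmersion (show Spec (CommRingCat.of (X.residueField x)) ⟶ X from X.fromSpecResidueField x) :=
      inferInstanceAs (IsPreimmersion (X.fromSpecResidueField x))
    obtain ⟨s, hs, ht⟩ := H8Props.FieldDim.exists_trdeg p (show Spec (CommRingCat.of (X.residueField x)) ⟶ X from X.fromSpecResidueField x) he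
      (IsLocalRing.closedPoint _)
    rw [Scheme.fromSpecResidueField_apply] at hs
    rw [ht, hs, Nat.cast_eq_one, Nat.cast_eq_one]
  have hnat : ∀ x : X, ∃ s : ℕ, H8Props.FieldDim.cdim x = s := H8Props.FieldDim.exists_nat_cdim p
  have hlt : ∀ {x y : X}, x ⤳ y → x ≠ y → H8Props.FieldDim.cdim y < H8Props.FieldDim.cdim x :=
    fun h hne => H8Props.FieldDim.cdim_lt p h hne
  have hgen : ∀ x : X, ∃ η : X, η ⤳ x ∧ closure ({η} : Set X) ∈ irreducibleComponents (X : Type u) := by
    intro x
    obtain ⟨T, hT, hsub⟩ := exists_mem_irreducibleComponents_subset_of_isIrreducible _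
      (isIrreducible_singleton (x := x)).closure
    have hTc := isClosed_of_mem_irreducibleComponents T hT
    have hg := hT.1.isGenericPoint_genericPoint hTc
    exact ⟨hT.1.genericPoint, hg.specializes (hsub (subset_closure rfl)), by rw [hg.def]; exact hT⟩
  constructor
  · intro h c hc
    obtain ⟨η, hηc, hη⟩ := hgen c
    have hη1 : H8Props.FieldDim.cdim η = 1 := (htr η).1 (h η hη)
    have hne : η ≠ c := by
      rintro rfl
      have : H8Props.FieldDim.cdim η ≤ 0 := by
        rw [H8Props.FieldDim.cdim, hc.closure_eq]
        exact (Order.krullDim_nonpos_iff_forall_isMax).2 fun a b _ => le_of_eq (SetLike.ext'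
          ((Subsingleton.eq_univ_of_nonempty b.isIrreducible'.nonempty).trans
            (Subsingleton.eq_univ_of_nonempty a.isIrreducible'.nonempty).symm))
      rw [hη1] at this
      exact absurd this (by norm_num)
    rw [ringKrullDim_stalk_eq_coheight]
    refine congrArg WithBot.some (le_antisymm (Order.coheight_le fun q hq => ?_) ?_)
    · by_contra hlen
      have hlen2 : 2 ≤ q.length := by
        by_contra h'
        exact hlen (by exact_mod_cast (show q.length ≤ 1 by omega))
      have l01 : q ⟨0, by omega⟩ < q ⟨1, by omega⟩ := q.strictMono (Fin.mk_lt_mk.2 Nat.zero_lt_one)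
      have l12 : q ⟨1, by omega⟩ < q ⟨2, by omega⟩ := q.strictMono (Fin.mk_lt_mk.2 Nat.one_lt_two)
      obtain ⟨z, hz, hzc⟩ := hgen (q ⟨2, by omega⟩)
      have d1 := hlt (show q ⟨1, by omega⟩ ⤳ q ⟨0, by omega⟩ from l01.le) l01.ne.symm
      have d2 := hlt (show q ⟨2, by omega⟩ ⤳ q ⟨1, by omega⟩ from l12.le) l12.ne.symm
      have d3 : H8Props.FieldDim.cdim (q ⟨2, by omega⟩) ≤ H8Props.FieldDim.cdim z := by
        rcases eq_or_ne z (q ⟨2, by omega⟩) with e | e
        · rw [e]
        · exact (hlt hz e).le
      rw [(htr z).1 (h z hzc)] at d3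
      obtain ⟨a, ha⟩ := hnat (q ⟨0, by omega⟩)
      obtain ⟨b, hb⟩ := hnat (q ⟨1, by omega⟩)
      obtain ⟨d, hd⟩ := hnat (q ⟨2, by omega⟩)
      rw [ha, hb] at d1
      rw [hb, hd] at d2
      rw [hd] at d3
      norm_cast at d1 d2 d3
      omega
    · exact ENat.one_le_iff_ne_zero.2 (Order.coheight_ne_zero.2 fun hmax => hne
        ((show η ⤳ c from hηc).antisymm (show c ⤳ η from hmax hηc)).eq)
  · intro h η hη
    have hdim := H11Curve.topologicalKrullDim_le_one (X := X) fun x hx => (h x hx).le
    have h1 : H8Props.FieldDim.cdim η ≤ 1 :=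
      (Topology.IsEmbedding.subtypeVal.isInducing.topologicalKrullDim_le).trans hdim
    obtain ⟨c, hηc, hc⟩ := H11Curve.exists_closed_specializes η
    have hne : η ≠ c := by
      rintro rfl
      obtain ⟨y, hy, hyη⟩ := H11Curve.exists_ne_specializes (h η hc)
      have hsub : closure ({η} : Set X) ⊆ closure {y} :=
        closure_minimal (Set.singleton_subset_iff.2 hyη.mem_closure) isClosed_closure
      have : y ∈ ({η} : Set X) := hc.closure_eq ▸ hη.2 (isIrreducible_singleton (x := y)).closure hsub (subset_closure rfl)
      exact hy this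
    obtain ⟨a, ha⟩ := hnat c
    obtain ⟨b, hb⟩ := hnat η
    have d := hlt hηc hne
    rw [ha, hb] at d
    rw [hb] at h1
    norm_cast at d h1
    refine (htr η).2 ?_
    rw [hb, show b = 1 by omega]
    rfl

end Groth.Agent.S4442
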