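import Groth.Statements.S4445
import Groth.Agent.S2344
import Groth.Agent.H11Curve.NormalizationBasic

set_option autoImplicit false
universe u
open CategoryTheory CategoryTheory.Limits AlgebraicGeometry
attribute [local instance] Curv2.stalkAlgebra
open EGA2

namespace Groth.Agent.S4445

/-- Let X be a normal irreducible algebraic curve over a field k with field of rational functions K, and
Y an integral complete (proper over k) algebraic curve with field of rational functions L. Dominant
k-morphisms X ⟶ Y correspond bijectively to k-embeddings L → K: for every k-algebra homomorphism φ :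
L → K there is exactly one k-morphism u : X ⟶ Y mapping the generic point of X to the generic point
of Y and inducing φ on the stalks at the generic points. -/
theorem result (k : Type u) [Field k] (X Y : Scheme.{u})
    [X.Over (Spec (CommRingCat.of k))] [LocallyOfFiniteType (X ↘ (Spec (CommRingCat.of k)))]
    [QuasiCompact (X ↘ (Spec (CommRingCat.of k)))] [IsSeparated (X ↘ (Spec (CommRingCat.of k)))] [IsIntegral X]
    (hX : ∀ x : X, IsClosed ({x} : Set X) → ringKrullDim (X.presheaf.stalk x) = 1) (hnorm : Pi1.IsNormalScheme X)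
    [Y.Over (Spec (CommRingCat.of k))] [IsProper (Y ↘ (Spec (CommRingCat.of k)))] [IsIntegral Y]
    (hY : ∀ y : Y, IsClosed ({y} : Set Y) → ringKrullDim (Y.presheaf.stalk y) = 1)
    (φ : Y.functionField →ₐ[k] X.functionField) :
    ∃! u : X ⟶ Y, u ≫ (Y ↘ (Spec (CommRingCat.of k))) = X ↘ (Spec (CommRingCat.of k)) ∧
      ∃ hu : u.base (genericPoint X) = genericPoint Y,
        (Y.presheaf.stalkSpecializes (specializes_of_eq hu) ≫ u.stalkMap (genericPoint X)).hom = (φ : Y.functionField →+* X.functionField) := by
  let p := X ↘ (Spec (CommRingCat.of k))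
  let q := Y ↘ (Spec (CommRingCat.of k))
  let η := genericPoint X
  haveI : IsLocallyNoetherian X := LocallyOfFiniteType.isLocallyNoetherian p
  have hstr : ∀ (Z : Scheme.{u}) [Z.Over (Spec (CommRingCat.of k))] (z : Z),
      Z.fromSpecStalk z ≫ (Z ↘ (Spec (CommRingCat.of k))) = Spec.map (CommRingCat.ofHom (Curv2.stalkMap k Z z)) := by
    intro Z _ z
    have : CommRingCat.ofHom (Curv2.stalkMap k Z z) = (Scheme.ΓSpecIso (CommRingCat.of k)).inv ≫
        (Z ↘ (Spec (CommRingCat.of k))).appTop ≫ Z.presheaf.germ ⊤ z trivial := rfl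
    rw [this, ← cancel_mono (Spec (CommRingCat.of k)).toSpecΓ, Category.assoc,
      Scheme.toSpecΓ_naturality, Scheme.fromSpecStalk_toSpecΓ_assoc, ← SpecMap_ΓSpecIso_hom,
      ← Spec.map_comp, ← Spec.map_comp, Iso.hom_inv_id_assoc]
  let φ' : Y.presheaf.stalk (genericPoint Y) ⟶ X.presheaf.stalk η := CommRingCat.ofHom (φ : Y.functionField →+* X.functionField)
  let σ : Spec (X.presheaf.stalk η) ⟶ Y := Spec.map φ' ≫ Y.fromSpecStalk (genericPoint Y)
  have hσ : σ ≫ q = X.fromSpecStalk η ≫ p := by
    rw [Category.assoc, hstr Y, hstr X, ← Spec.map_comp]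
    congr 1
    exact CommRingCat.hom_ext (RingHom.ext fun c => φ.commutes c)
  -- the key translation between the stalk condition and the composite with the generic point
  have key : ∀ u : X ⟶ Y, (∃ hu : u.base η = genericPoint Y,
        (Y.presheaf.stalkSpecializes (specializes_of_eq hu) ≫ u.stalkMap η).hom =
          (φ : Y.functionField →+* X.functionField)) ↔ X.fromSpecStalk η ≫ u = σ := by
    intro u
    constructor
    · rintro ⟨hu, h⟩
      have h' : Y.presheaf.stalkSpecializes (specializes_of_eq hu) ≫ u.stalkMap η = φ' := CommRingCat.hom_ext h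
      rw [show σ = Spec.map φ' ≫ Y.fromSpecStalk (genericPoint Y) from rfl, ← h', Spec.map_comp, Category.assoc,
        Scheme.SpecMap_stalkSpecializes_fromSpecStalk, Scheme.SpecMap_stalkMap_fromSpecStalk]
    · intro h
      have hu : u.base η = genericPoint Y := by
        have h1 := congrArg (fun m : Spec (X.presheaf.stalk η) ⟶ Y => m (IsLocalRing.closedPoint (X.presheaf.stalk η))) h
        simp only [Scheme.Hom.comp_apply, Scheme.fromSpecStalk_closedPoint] at h1
        rw [h1]
        show Y.fromSpecStalk (genericPoint Y) (Spec.map φ' (IsLocalRing.closedPoint (X.presheaf.stalk η))) = _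
        haveI : Subsingleton (Spec (Y.presheaf.stalk (genericPoint Y))) :=
          inferInstanceAs (Subsingleton (PrimeSpectrum Y.functionField))
        rw [Subsingleton.elim (Spec.map φ' (IsLocalRing.closedPoint (X.presheaf.stalk η)))
          (IsLocalRing.closedPoint (Y.presheaf.stalk (genericPoint Y))), Scheme.fromSpecStalk_closedPoint]
      refine ⟨hu, congrArg CommRingCat.Hom.hom (?_ : _ = φ')⟩
      apply Spec.map_injective
      rw [← cancel_mono (Y.fromSpecStalk (genericPoint Y)), Spec.map_comp, Category.assoc,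
        Scheme.SpecMap_stalkSpecializes_fromSpecStalk, Scheme.SpecMap_stalkMap_fromSpecStalk, h]
  obtain ⟨U, hηU, g, hg1, hg2⟩ := spread_out_of_isGermInjective' p q (x := η) σ hσ
  have hU : Dense (U : Set X) := U.2.dense ⟨η, hηU⟩
  obtain ⟨u, ⟨hu1, hu2⟩, -⟩ := S2344.result k X Y hX hnorm U hU g hg2
  have hu3 : X.fromSpecStalk η ≫ u = σ := by
    rw [hg1, ← hu1, ← Category.assoc, Scheme.Opens.fromSpecStalkOfMem_ι]
  refine ⟨u, ⟨hu2, (key u).2 hu3⟩, ?_⟩
  rintro u' ⟨hu', h⟩
  exact ext_of_isDominant_of_isSeparated q (hu'.trans hu2.symm) (X.fromSpecStalk η)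
    (((key u').1 h).trans hu3.symm)

end Groth.Agent.S4445
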