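import Groth.Statements.S4444
import Groth.Agent.S4442
import Groth.Agent.S4445
import Groth.Agent.S2346
import Groth.Agent.S2415
import Groth.Agent.H11Curve.Complete
import Groth.Agent.H17.PointLocal
import Groth.Agent.H12AlgSp.HilbQuot
import Groth.Agent.H18HTop.ProperSquare

set_option autoImplicit false
universe u
open CategoryTheory CategoryTheory.Limits AlgebraicGeometry
open EGA2

namespace Groth.Agent.S4444

/-- Every normal algebraic curve X over a field k (separated and of finite type over k, nonempty, local
rings at closed points of dimension one, all local rings integrally closed domains) admits a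
k-morphism which is an open immersion with dense image into a normal algebraic curve proper over k.
(The uniqueness of this completion up to unique isomorphism is not part of this row.) -/
theorem result (k : Type u) [Field k] (X : Scheme.{u})
    [X.Over (Spec (CommRingCat.of k))] [LocallyOfFiniteType (X ↘ (Spec (CommRingCat.of k)))]
    [QuasiCompact (X ↘ (Spec (CommRingCat.of k)))] [IsSeparated (X ↘ (Spec (CommRingCat.of k)))] [Nonempty X]
    (hcurve : ∀ x : X, IsClosed ({x} : Set X) → ringKrullDim (X.presheaf.stalk x) = 1) (hnorm : Pi1.IsNormalScheme X) :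
    ∃ (Xc : Scheme.{u}) (sc : Xc ⟶ Spec (CommRingCat.of k)) (j : X ⟶ Xc), IsOpenImmersion j ∧ Dense (Set.range j.base) ∧
      j ≫ sc = X ↘ (Spec (CommRingCat.of k)) ∧ IsProper sc ∧ Pi1.IsNormalScheme Xc ∧
      ∀ x : Xc, IsClosed ({x} : Set Xc) → ringKrullDim (Xc.presheaf.stalk x) = 1 := by
  classical
  let p := X ↘ (Spec (CommRingCat.of k))
  haveI : CompactSpace X := QuasiCompact.compactSpace_of_compactSpace p
  haveI : IsLocallyNoetherian X := LocallyOfFiniteType.isLocallyNoetherian p
  haveI : IsNoetherian X := {}
  haveI : IsReduced X := by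
    haveI : ∀ x : X, _root_.IsReduced (X.presheaf.stalk x) := fun x => by
      haveI := (hnorm x).1
      infer_instance
    exact isReduced_of_isReduced_stalk X
  let ι := ↥(irreducibleComponents (X : Type u))
  haveI : Finite ι := (TopologicalSpace.NoetherianSpace.finite_irreducibleComponents).to_subtype
  have huniq : ∀ (Z Z' : ι) (x : X), x ∈ Z.1 → x ∈ Z'.1 → Z = Z' := by
    intro Z Z' x hZ hZ'
    haveI := (hnorm x).1
    obtain ⟨g, -, hu⟩ := (H17.isPrime_nilradical_stalk_iff X x).mp (by
      rw [nilradical_eq_zero]; exact Ideal.isPrime_bot)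
    have h := genericPoints.isGenericPoint_ofComponent Z
    have h' := genericPoints.isGenericPoint_ofComponent Z'
    have e1 := hu _ ⟨(genericPoints.ofComponent Z).2, h.specializes hZ⟩
    have e2 := hu _ ⟨(genericPoints.ofComponent Z').2, h'.specializes hZ'⟩
    exact Subtype.ext (h.def.symm.trans (Eq.trans (by rw [e1, e2]) h'.def))
  have hopen : ∀ Z : ι, IsOpen Z.1 := by
    intro Z
    have e : Z.1 = (⋃ Z' : {Z' : ι // Z' ≠ Z}, Z'.1.1)ᶜ := by
      ext x
      simp only [Set.mem_compl_iff, Set.mem_iUnion, not_exists]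
      refine ⟨fun hx Z' hx' => Z'.2 (huniq _ _ x hx' hx), fun h => ?_⟩
      by_contra hx
      exact h ⟨⟨irreducibleComponent x, irreducibleComponent_mem_irreducibleComponents x⟩,
        fun e => hx (e ▸ mem_irreducibleComponent)⟩ mem_irreducibleComponent
    rw [e]
    exact (isClosed_iUnion_of_finite fun Z' => isClosed_of_mem_irreducibleComponents _ Z'.1.2).isOpen_compl
  let O : ι → X.Opens := fun Z => ⟨Z.1, hopen Z⟩
  -- each component completes
  have hcomp : ∀ i : ι, ∃ (C : Scheme.{u}) (sc : C ⟶ Spec (CommRingCat.of k)) (u : (O i).toScheme ⟶ C),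
      IsProper sc ∧ IsOpenImmersion u ∧ u ≫ sc = (O i).ι ≫ p ∧ Dense (Set.range u.base) ∧
      Pi1.IsNormalScheme C ∧ ∀ c : C, IsClosed ({c} : Set C) → ringKrullDim (C.presheaf.stalk c) = 1 := by
    intro i
    let Xi := (O i).toScheme
    letI : Xi.Over (Spec (CommRingCat.of k)) := ⟨(O i).ι ≫ p⟩
    haveI : IsClosedImmersion (O i).ι :=
      .of_isPreimmersion _ (by rw [Scheme.Opens.range_ι]; exact isClosed_of_mem_irreducibleComponents _ i.2)
    haveI : LocallyOfFiniteType (Xi ↘ (Spec (CommRingCat.of k))) := inferInstanceAs (LocallyOfFiniteType ((O i).ι ≫ p))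
    haveI : QuasiCompact (Xi ↘ (Spec (CommRingCat.of k))) := inferInstanceAs (QuasiCompact ((O i).ι ≫ p))
    haveI : IsSeparated (Xi ↘ (Spec (CommRingCat.of k))) := inferInstanceAs (IsSeparated ((O i).ι ≫ p))
    haveI : IrreducibleSpace Xi := by
      have h : IsIrreducible (O i : Set X) := i.2.1
      exact Subtype.irreducibleSpace h
    haveI : IsIntegral Xi := isIntegral_of_irreducibleSpace_of_isReduced Xi
    have hXi : ∀ x : Xi, IsClosed ({x} : Set Xi) → ringKrullDim (Xi.presheaf.stalk x) = 1 := fun x hx => by
      have hx' : IsClosed ({(O i).ι x} : Set X) := by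
        have := (O i).ι.isClosedEmbedding.isClosedMap _ hx
        rwa [Set.image_singleton] at this
      rw [← hcurve _ hx']
      exact (ringKrullDim_eq_of_ringEquiv (asIso ((O i).ι.stalkMap x)).commRingCatIsoToRingEquiv).symm
    have hNi : Pi1.IsNormalScheme Xi := fun x => by
      let e := (asIso ((O i).ι.stalkMap x)).commRingCatIsoToRingEquiv
      haveI := (hnorm ((O i).ι x)).1
      haveI := (hnorm ((O i).ι x)).2
      exact ⟨e.symm.toMulEquiv.isDomain, IsIntegrallyClosed.of_equiv e⟩
    letI algK : Algebra k Xi.functionField := Curv2.stalkAlgebra k Xi (genericPoint Xi)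
    letI := Curv2.resAlgebra k Xi (genericPoint Xi)
    have htr : Algebra.trdeg k Xi.functionField = 1 := by
      have h := (S4442.result k Xi).2 hXi (genericPoint Xi) (by
        rw [(genericPoint_spec Xi).def, irreducibleComponents_eq_singleton]; rfl)
      have hF : Function.Bijective (Xi.residue (genericPoint Xi)).hom := by
        have hfld : IsField (Xi.presheaf.stalk (genericPoint Xi)) := Field.toIsField Xi.functionField
        letI := hfld.toField
        exact ⟨RingHom.injective (Xi.residue (genericPoint Xi)).hom, IsLocalRing.residue_surjective⟩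
      let ε : Xi.functionField ≃ₐ[k] Xi.residueField (genericPoint Xi) :=
        AlgEquiv.ofRingEquiv (f := RingEquiv.ofBijective _ hF) fun r => rfl
      rw [ε.trdeg_eq]; exact h
    haveI hess : Algebra.EssFiniteType k Xi.functionField := by
      rw [← RingHom.essFiniteType_algebraMap]
      let q := (O i).ι ≫ p
      let η := genericPoint Xi
      have h1 : (H11Curve.toStalk k (q η)).EssFiniteType :=
        (RingHom.FiniteType.of_surjective _ (H11Curve.toStalk_bijective k (q η)).2).essFiniteType
      have h2 := RingHom.EssFiniteType.comp h1 (LocallyOfFiniteType.stalkMap q η)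
      have e : algebraMap k Xi.functionField = (q.stalkMap η).hom.comp (H11Curve.toStalk k (q η)) := by
        ext r
        simp only [H11Curve.toStalk, CommRingCat.hom_comp, RingHom.comp_apply]
        erw [Scheme.Hom.germ_stalkMap_apply]
        rfl
      rw [e]; exact h2
    have hfg : (⊤ : IntermediateField k Xi.functionField).FG := by
      refine IntermediateField.essFiniteType_iff.mp ?_
      exact Algebra.EssFiniteType.of_surjective (IntermediateField.topEquiv (F := k) (E := Xi.functionField)).symm.toAlgHom
        (IntermediateField.topEquiv (F := k) (E := Xi.functionField)).symm.surjective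
    obtain ⟨C, sc, hCI, hscP, hCN, hCd, e, he⟩ := H11Curve.exists_complete_curve k Xi.functionField hfg htr
    letI : C.Over (Spec (CommRingCat.of k)) := ⟨sc⟩
    haveI : IsProper (C ↘ (Spec (CommRingCat.of k))) := hscP
    haveI : IsLocallyNoetherian C := LocallyOfFiniteType.isLocallyNoetherian sc
    letI : Algebra k C.functionField := Curv2.stalkAlgebra k C (genericPoint C)
    let φ : C.functionField →ₐ[k] Xi.functionField := { (e : C.functionField →+* Xi.functionField) with commutes' := he }
    obtain ⟨u, ⟨hu1, hu, hu2⟩, -⟩ := S4445.result k Xi C hXi hNi hCd φ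
    haveI : IsDominant u := ⟨dense_iff_closure_eq.2 (Set.eq_univ_of_univ_subset (by
      rw [← (genericPoint_spec C).def, ← hu]
      exact closure_mono (Set.singleton_subset_iff.2 ⟨_, rfl⟩)))⟩
    have hfin := (S2346.result k Xi C hXi hCd u hu1).1 inferInstance
    have hiso : IsIso (u.stalkMap (genericPoint Xi)) := by
      have hs : ∀ {a b : C} (h : a ⤳ b), a = b → IsIso (C.presheaf.stalkSpecializes h) := by
        rintro a b h rfl
        rw [TopCat.Presheaf.stalkSpecializes_refl]
        infer_instance
      haveI := hs (specializes_of_eq hu) hu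
      haveI : IsIso (C.presheaf.stalkSpecializes (specializes_of_eq hu) ≫ u.stalkMap (genericPoint Xi)) := by
        rw [ConcreteCategory.isIso_iff_bijective]
        show Function.Bijective (C.presheaf.stalkSpecializes (specializes_of_eq hu) ≫ u.stalkMap (genericPoint Xi)).hom
        rw [hu2]
        exact e.bijective
      exact IsIso.of_isIso_comp_left (C.presheaf.stalkSpecializes (specializes_of_eq hu)) _
    haveI : LocallyOfFiniteType u := by
      haveI : LocallyOfFiniteType (u ≫ (C ↘ (Spec (CommRingCat.of k)))) := by rw [hu1]; infer_instance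
      exact locallyOfFiniteType_of_comp u (C ↘ (Spec (CommRingCat.of k)))
    haveI : IsSeparated u := by
      haveI : IsSeparated (u ≫ (C ↘ (Spec (CommRingCat.of k)))) := by rw [hu1]; infer_instance
      exact IsSeparated.of_comp u (C ↘ (Spec (CommRingCat.of k)))
    haveI : QuasiCompact u := by
      haveI : QuasiCompact (u ≫ (C ↘ (Spec (CommRingCat.of k)))) := by rw [hu1]; infer_instance
      exact QuasiCompact.of_comp u (C ↘ (Spec (CommRingCat.of k)))
    obtain ⟨huo, -⟩ := S2415.result hCN u hu hiso hfin
    exact ⟨C, sc, u, hscP, huo, hu1, u.denseRange, hCN, hCd⟩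
  choose C sc u hsc hu hfac hden hCN hCd using hcomp
  haveI := hu
  haveI := hsc
  -- assemble
  haveI : IsOpenImmersion (Sigma.desc fun i => (O i).ι) := isOpenImmersion_sigmaDesc _ _ fun i i' hne => by
    simp only [Function.onFun]
    rw [Scheme.Opens.range_ι, Scheme.Opens.range_ι]
    exact Set.disjoint_left.2 fun x hx hx' => hne (huniq i i' x hx hx')
  haveI : Surjective (Sigma.desc fun i => (O i).ι) := Surjective.sigmaDesc_of_union_range_eq_univ
    (Set.eq_univ_of_forall fun x => Set.mem_iUnion.2
      ⟨⟨irreducibleComponent x, irreducibleComponent_mem_irreducibleComponents x⟩,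
        by rw [Scheme.Opens.range_ι]; exact mem_irreducibleComponent⟩)
  haveI : IsIso (Sigma.desc fun i => (O i).ι) := isIso_of_isOpenImmersion_of_opensRange_eq_top _
    (TopologicalSpace.Opens.ext (Set.range_eq_univ.mpr (Sigma.desc fun i => (O i).ι).surjective))
  let m : (∐ fun i => (O i).toScheme) ⟶ ∐ C := Sigma.desc fun i => u i ≫ Sigma.ι C i
  haveI : IsOpenImmersion m := isOpenImmersion_sigmaDesc _ _ fun i i' hne => by
    refine Set.disjoint_left.2 ?_
    rintro _ ⟨a, rfl⟩ ⟨b, hb⟩
    refine Set.disjoint_left.1 (TopologicalSpace.Opens.coe_disjoint.2 (disjoint_opensRange_sigmaι C i i' hne))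
      (show (u i ≫ Sigma.ι C i) a ∈ _ from ⟨u i a, rfl⟩) ⟨u i' b, hb⟩
  let Sc : ∐ C ⟶ Spec (CommRingCat.of k) := Sigma.desc sc
  haveI : IsSeparated Sc := H12AlgSp.isSeparated_sigmaDesc sc fun i => inferInstance
  haveI : UniversallyClosed Sc := H18HTop.universallyClosed_sigmaDesc sc
  haveI : LocallyOfFiniteType Sc := IsZariskiLocalAtSource.sigmaDesc fun i => (inferInstance : LocallyOfFiniteType (sc i))
  have hsig : ∀ c : (∐ C : Scheme.{u}), ∃ (i : ι) (c' : C i), Sigma.ι C i c' = c :=
    fun c => (sigmaOpenCover C).exists_eq c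
  refine ⟨∐ C, Sc, inv (Sigma.desc fun i => (O i).ι) ≫ m, inferInstance, ?_, ?_, { }, ?_, ?_⟩
  · intro c
    obtain ⟨i, c', rfl⟩ := hsig c
    have h1 : Sigma.ι C i c' ∈ closure ((Sigma.ι C i).base '' Set.range (u i).base) :=
      image_closure_subset_closure_image (Sigma.ι C i).continuous ⟨c', hden i c', rfl⟩
    refine closure_mono ?_ h1
    rintro _ ⟨_, ⟨a, rfl⟩, rfl⟩
    refine ⟨(Sigma.desc fun i => (O i).ι) (Sigma.ι (fun i => (O i).toScheme) i a), ?_⟩
    rw [← Scheme.Hom.comp_apply, ← Category.assoc, IsIso.hom_inv_id, Category.id_comp, ← Scheme.Hom.comp_apply,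
      Sigma.ι_desc]
    rfl
  · rw [Category.assoc, IsIso.inv_comp_eq]
    refine Sigma.hom_ext _ _ fun i => ?_
    rw [Sigma.ι_desc_assoc, Sigma.ι_desc_assoc, Category.assoc, Sigma.ι_desc]
    exact hfac i
  · intro c
    obtain ⟨i, c', rfl⟩ := hsig c
    let e := (asIso ((Sigma.ι C i).stalkMap c')).commRingCatIsoToRingEquiv
    haveI := (hCN i c').1
    haveI := (hCN i c').2
    exact ⟨e.toMulEquiv.isDomain, IsIntegrallyClosed.of_equiv e.symm⟩
  · intro c hc
    obtain ⟨i, c', rfl⟩ := hsig c
    have hc' : IsClosed ({c'} : Set (C i)) := by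
      have := hc.preimage (Sigma.ι C i).continuous
      rwa [← Set.image_singleton, Set.preimage_image_eq _ (Sigma.ι C i).isOpenEmbedding.injective] at this
    rw [← hCd i c' hc']
    exact ringKrullDim_eq_of_ringEquiv (asIso ((Sigma.ι C i).stalkMap c')).commRingCatIsoToRingEquiv

end Groth.Agent.S4444
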