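import Groth.Statements.S11372
import Mathlib
import Groth.Agent.H22Alg.NakaiSemi

set_option autoImplicit false
universe u
open CategoryTheory CategoryTheory.Limits AlgebraicGeometry TopologicalSpace
open Variety

namespace Groth.Agent.S11372

/-- Let X be proper and integral over an algebraically closed field k, L an invertible O_X-module
generated by its global sections, and s : O_X ⟶ L a global section, with U = X_s the open subset
where s generates L (the complement of the support of the effective divisor of s). If U contains no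
integral closed subscheme of X of dimension one, then U is an affine open of X. -/
theorem result (k : Type u) [Field k] [IsAlgClosed k] (X : Scheme.{u})
    [X.Over (Spec (CommRingCat.of k))] [IsProper (X ↘ (Spec (CommRingCat.of k)))] [IsIntegral X]
    (L : X.Modules) (hL : PicF.IsInvertible L) (hgen : Curv2.IsGloballyGenerated L)
    (s : Coh.structureModule X ⟶ L)
    (hcurves : ∀ C : X.IdealSheafData, IsIntegral C.subscheme →
      topologicalKrullDim (C.support : Set X) = 1 →
        ¬ ((C.support : Set X) ⊆ (CohB1.genLocus L s : Set X))) :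
    IsAffineOpen (CohB1.genLocus L s) := by
  haveI := Groth.Agent.H28Int.isNoetherian k (X := X)
  rw [Groth.Agent.H11Ample.genLocus_eq_gen]
  let g : Γ(L, ⊤) := SecTwist.val s ⊤
  obtain ⟨n, w, hw⟩ := Groth.Agent.H22Alg.GenCurves.exists_fin_gen hL hgen
  let v : Fin (n + 1 + 1) → Γ(L, ⊤) := Fin.cons g w
  have hv : ∀ x, ∃ i, x ∈ Groth.Agent.H11Ample.gen L (v i) := fun x => by
    obtain ⟨i, hi⟩ := hw x
    exact ⟨i.succ, by simpa [v] using hi⟩
  haveI : IsProper (CohB1.ProjSpace (n + 1) k ↘ Spec (CommRingCat.of k)) :=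
    inferInstanceAs (IsProper (CohB1.ProjSpace.toSpec (n + 1) k))
  obtain ⟨r, hr, -, hpre, -⟩ := Groth.Agent.H11Ample.exists_toPn (X ↘ (Spec (CommRingCat.of k))) hL v hv
  haveI : IsProper (r ≫ CohB1.ProjSpace.toSpec (n + 1) k) := hr.symm ▸ inferInstance
  haveI : IsProper r := IsProper.of_comp r (CohB1.ProjSpace.toSpec (n + 1) k)
  let V : (CohB1.ProjSpace (n + 1) k).Opens := Proj.basicOpen (CohB1.polyGrading (n + 1) k) (MvPolynomial.X 0)
  have hV : IsAffineOpen V := Proj.isAffineOpen_basicOpen _ _ (Groth.Agent.H11Ample.X_mem 0) one_pos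
  have hU : r ⁻¹ᵁ V = Groth.Agent.H11Ample.gen L g := hpre 0
  have hle : r ⁻¹ᵁ V ≤ r.quasiFiniteLocus := by
    by_contra hne
    have hnon : ((r ⁻¹ᵁ V : Set X) ∩ (r.quasiFiniteLocus : Set X)ᶜ).Nonempty := by
      obtain ⟨x, hx, hx'⟩ := Set.not_subset.1 hne
      exact ⟨x, hx, hx'⟩
    haveI : JacobsonSpace X := LocallyOfFiniteType.jacobsonSpace (X ↘ (Spec (CommRingCat.of k)))
    obtain ⟨x, ⟨hxV, hxc⟩, hx⟩ := nonempty_inter_closedPoints hnon
      ((r ⁻¹ᵁ V).isOpen.isLocallyClosed.inter r.quasiFiniteLocus.isOpen.isClosed_compl.isLocallyClosed)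
    have hinf : (r ⁻¹' {r x}).Infinite := fun hfin => hxc (by
      have : Finite (r.fiber (r x)) := (r.fiberHomeo (r x)).finite_iff.mpr hfin.to_subtype
      exact Scheme.Hom.quasiFiniteAt_iff_isOpen_singleton_asFiber.mpr (isOpen_discrete _))
    have hp : IsClosed ({r x} : Set (CohB1.ProjSpace (n + 1) k)) := by
      have := r.isClosedMap _ (mem_closedPoints_iff.1 hx)
      rwa [Set.image_singleton] at this
    obtain ⟨c, hcS, hc⟩ := Groth.Agent.H22Alg.GenCurves.exists_curve (hp.preimage r.continuous) hinf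
    let J := Scheme.IdealSheafData.vanishingIdeal (Groth.Agent.H22Alg.DevLength.cl c)
    have hJ : (J.support : Set X) = closure {c} := Scheme.IdealSheafData.coe_support_vanishingIdeal _
    refine hcurves J (Groth.Agent.H22Alg.isIntegral_vanishingIdeal_closure c) (by rw [hJ]; exact hc) ?_
    rw [hJ, Groth.Agent.H11Ample.genLocus_eq_gen]
    refine fun y hy => hU.le (show r y ∈ V from ?_)
    rw [show r y = r x from hcS hy]
    exact hxV
  haveI : LocallyQuasiFinite (r ∣_ V) := by
    haveI : LocallyQuasiFinite ((r ∣_ V) ≫ V.ι) := by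
      rw [morphismRestrict_ι, ← X.homOfLE_ι hle, Category.assoc]
      infer_instance
    exact LocallyQuasiFinite.of_comp (r ∣_ V) V.ι
  haveI : IsFinite (r ∣_ V) := .of_isProper_of_locallyQuasiFinite _
  haveI : IsAffine (V : Scheme.{u}) := hV
  have : IsAffineOpen (r ⁻¹ᵁ V) := isAffine_of_isAffineHom (r ∣_ V)
  exact hU ▸ this

end Groth.Agent.S11372
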