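import Groth.Statements.S1875
import Mathlib
import Groth.Agent.H06Red.Algebra

set_option autoImplicit false
universe u
open TensorProduct
open RelCyc

namespace Groth.Agent.S1875

open IntermediateField

section
variable {k : Type u} [Field k]

lemma isReduced_tensor_fractions (K M : Type u) [Field K] [Algebra k K] [Field M] [Algebra k M] {ι : Type u}
    (f : MvPolynomial ι k →ₐ[k] M) (hfinj : Function.Injective f)
    (hfrac : ∀ w : M, ∃ r s, s ≠ 0 ∧ f s * w = f r) : IsReduced (K ⊗[k] M) := by
  let g : K ⊗[k] MvPolynomial ι k →ₐ[k] K ⊗[k] M := Algebra.TensorProduct.map (AlgHom.id k K) f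
  have hg : Function.Injective g := Module.Flat.lTensor_preserves_injective_linearMap _ hfinj
  haveI : IsReduced (K ⊗[k] MvPolynomial ι k) :=
    isReduced_of_injective (MvPolynomial.algebraTensorAlgEquiv k (σ := ι) K).toRingEquiv.toRingHom
      (MvPolynomial.algebraTensorAlgEquiv k (σ := ι) K).injective
  have hden : ∀ z : K ⊗[k] M, ∃ r : MvPolynomial ι k, r ≠ 0 ∧ ∃ y, (1 : K) ⊗ₜ f r * z = g y := by
    intro z
    induction z with
    | zero => exact ⟨1, one_ne_zero, 0, by simp⟩
    | add a b ha hb =>
      obtain ⟨r, hr, y, hy⟩ := ha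
      obtain ⟨s, hs, w, hw⟩ := hb
      refine ⟨r * s, mul_ne_zero hr hs, (1 : K) ⊗ₜ s * y + (1 : K) ⊗ₜ r * w, ?_⟩
      rw [map_add, map_mul g, map_mul g, ← hy, ← hw]
      simp only [g, Algebra.TensorProduct.map_tmul, AlgHom.id_apply, map_mul f]
      rw [← one_mul (1 : K), ← Algebra.TensorProduct.tmul_mul_tmul]
      simp only [one_mul]
      ring
    | tmul c w =>
      obtain ⟨r, s, hs, hw⟩ := hfrac w
      refine ⟨s, hs, c ⊗ₜ r, ?_⟩
      rw [Algebra.TensorProduct.tmul_mul_tmul, one_mul, hw]
      rfl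
  refine ⟨fun z hz => ?_⟩
  obtain ⟨r, hr, y, hy⟩ := hden z
  have hy0 : y = 0 := by
    apply IsReduced.eq_zero
    obtain ⟨n, hn⟩ := hz
    exact ⟨n, hg (by rw [map_pow, map_zero, ← hy, mul_pow, hn, mul_zero])⟩
  rw [hy0, map_zero] at hy
  have hu : IsUnit ((1 : K) ⊗ₜ f r : K ⊗[k] M) :=
    ((Ne.isUnit fun h => hr (hfinj (by rw [h, map_zero]))).map
      (Algebra.TensorProduct.includeRight : M →ₐ[k] K ⊗[k] M))
  exact hu.mul_right_eq_zero.mp hy

lemma isGeometricallyReduced_of_isSeparable (M S : Type u) [Field M] [Field S] [Algebra M S]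
    [FiniteDimensional M S] [Algebra.IsSeparable M S] : Algebra.IsGeometricallyReduced M S := by
  rw [Algebra.isGeometricallyReduced_field_iff]
  haveI : Algebra.FormallyUnramified M S := Algebra.FormallyUnramified.of_isSeparable M S
  exact Algebra.FormallyUnramified.isReduced_of_field (AlgebraicClosure M) (AlgebraicClosure M ⊗[M] S)

lemma isReduced_tensor_of_separable (K M S : Type u) [Field K] [Algebra k K] [Field M] [Algebra k M] [Field S]
    [Algebra k S] [Algebra M S] [IsScalarTower k M S] [FiniteDimensional M S] [Algebra.IsSeparable M S]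
    [IsReduced (K ⊗[k] M)] : IsReduced (K ⊗[k] S) := by
  haveI : IsReduced (M ⊗[k] K) :=
    isReduced_of_injective (Algebra.TensorProduct.comm k M K).toRingEquiv.toRingHom
      (Algebra.TensorProduct.comm k M K).injective
  haveI := isGeometricallyReduced_of_isSeparable M S
  haveI : IsReduced (S ⊗[M] (M ⊗[k] K)) := Groth.Agent.H06Red.isReduced_tensor M S (M ⊗[k] K)
  let e : K ⊗[k] S ≃ₐ[k] S ⊗[M] (M ⊗[k] K) :=
    (Algebra.TensorProduct.comm k K S).trans
      ((Algebra.TensorProduct.cancelBaseChange k M M S K).restrictScalars k).symm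
  exact isReduced_of_injective e.toRingEquiv.toRingHom e.injective

lemma length_pow (K S L : Type u) [Field K] [Algebra k K] [Field S] [Algebra k S] [Field L] [Algebra k L]
    [Algebra S L] [IsScalarTower k S L] [FiniteDimensional S L] [IsPurelyInseparable S L] (p : ℕ)
    [ExpChar k p] [IsReduced (K ⊗[k] S)] (q : Ideal (K ⊗[k] L)) [q.IsPrime]
    (hq : q ∈ minimalPrimes (K ⊗[k] L)) :
    ∃ n : ℕ, Module.length (Localization.AtPrime q) (Localization.AtPrime q) = (p ^ n : ℕ) := by
  classical
  haveI : ExpChar S p := expChar_of_injective_algebraMap (algebraMap k S).injective p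

  let C := K ⊗[k] S
  let jL : S →ₐ[k] L := IsScalarTower.toAlgHom k S L
  let φ : C →ₐ[k] K ⊗[k] L := Algebra.TensorProduct.map (AlgHom.id k K) jL
  letI : Algebra C (K ⊗[k] L) := φ.toRingHom.toAlgebra
  have hφt : ∀ (a : K) (l : S), algebraMap C (K ⊗[k] L) (a ⊗ₜ l) = a ⊗ₜ algebraMap S L l := fun a l => rfl
  have hφinj : Function.Injective (algebraMap C (K ⊗[k] L)) :=
    Module.Flat.lTensor_preserves_injective_linearMap jL.toLinearMap (algebraMap S L).injective
  let b := Module.finBasis S L
  -- A is free over C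
  let eb : L ≃ₗ[k] (Fin (Module.finrank S L) → S) := b.equivFun.restrictScalars k
  let Φ : K ⊗[k] L ≃ₗ[k] (Fin (Module.finrank S L) → C) :=
    (TensorProduct.congr (LinearEquiv.refl k K) eb).trans (TensorProduct.piRight k k K fun _ => S)
  let Ψ : (Fin (Module.finrank S L) → C) →ₗ[C] K ⊗[k] L :=
    Fintype.linearCombination C fun i => (1 : K) ⊗ₜ b i
  have hΨ : ∀ z, Ψ (Φ z) = z := by
    intro z
    induction z with
    | zero => simp
    | add a b ha hb => rw [map_add, map_add, ha, hb]
    | tmul a l =>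
      rw [Fintype.linearCombination_apply]
      have h1 : ∀ i, Φ (a ⊗ₜ l) i = a ⊗ₜ (b.repr l i) := fun i => by
        simp [Φ, eb, Module.Basis.equivFun_apply]
      conv_rhs => rw [← b.sum_repr l, TensorProduct.tmul_sum]
      refine Finset.sum_congr rfl fun i _ => ?_
      rw [h1, Algebra.smul_def, hφt, Algebra.TensorProduct.tmul_mul_tmul, mul_one,
        Algebra.smul_def]
  have hΨb : Function.Bijective Ψ := by
    refine ⟨fun v w h => ?_, fun z => ⟨_, hΨ z⟩⟩
    obtain ⟨z, rfl⟩ := Φ.surjective v
    obtain ⟨z', rfl⟩ := Φ.surjective w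
    rw [hΨ, hΨ] at h
    rw [h]
  let B0 : Module.Basis (Fin (Module.finrank S L)) C (K ⊗[k] L) :=
    Module.Basis.ofEquivFun (LinearEquiv.ofBijective Ψ hΨb).symm
  haveI : Module.Free C (K ⊗[k] L) := Module.Free.of_basis B0
  -- the minimal prime below q
  let q0 := q.comap (algebraMap C (K ⊗[k] L))
  have hq0 : q0 ∈ minimalPrimes C := by
    refine ⟨⟨inferInstance, bot_le⟩, fun r hr hrle => ?_⟩
    haveI := hr.1
    haveI : Algebra.HasGoingDown C (K ⊗[k] L) := inferInstance
    haveI : q.LiesOver q0 := ⟨rfl⟩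
    rcases hrle.lt_or_eq with hlt | heq
    · obtain ⟨r', hr'q, hr'p, hr'over⟩ := Ideal.exists_ideal_lt_liesOver_of_lt (S := K ⊗[k] L) q hlt
      exact absurd (hq.2 ⟨hr'p, bot_le⟩ hr'q.le) (not_le_of_gt hr'q)
    · exact heq.ge
  let F := Localization.AtPrime q0
  haveI : IsReduced F := inferInstance
  haveI hdimF : Ring.KrullDimLE 0 F := by
    rw [Ring.krullDimLE_iff, IsLocalization.AtPrime.ringKrullDim_eq_height q0,
      Ideal.height_eq_zero_iff.mpr hq0]
    simp
  have hFf : IsField F := Ring.KrullDimLE.isField_of_isReduced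
  have hFu : ∀ a : F, a ≠ 0 → IsUnit a := fun a ha => by
    obtain ⟨b, hb⟩ := hFf.mul_inv_cancel ha
    exact IsUnit.of_mul_eq_one b hb
  haveI : IsSimpleModule F F := isSimpleModule_self_iff_isUnit.mpr ⟨inferInstance, hFu⟩
  let T := Algebra.algebraMapSubmonoid (K ⊗[k] L) q0.primeCompl
  let B := Localization T
  letI : Algebra F B := localizationAlgebra q0.primeCompl (K ⊗[k] L)
  haveI : IsScalarTower C F B := inferInstance
  let bB : Module.Basis (Fin (Module.finrank S L)) F B := B0.localizationLocalization F q0.primeCompl B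
  have hfr : Module.finrank F B = Module.finrank S L := by
    rw [Module.finrank_eq_card_basis bB, Fintype.card_fin]
  haveI : Module.Finite F B := Module.Finite.of_basis bB
  obtain ⟨e, he⟩ := IsPurelyInseparable.finrank_eq_pow S L p
  have hSq : T ≤ q.primeCompl := by
    rintro _ ⟨c, hc, rfl⟩
    exact hc
  have hA0 : ExpChar (K ⊗[k] L) p := by
    haveI : Nontrivial (K ⊗[k] L) :=
      nontrivial_of_ne 0 1 fun h => Ideal.IsPrime.ne_top ‹q.IsPrime›
        (Ideal.eq_top_iff_one q |>.mpr (h ▸ zero_mem q))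
    exact expChar_of_injective_algebraMap (algebraMap k (K ⊗[k] L)).injective p
  have hpow : ∀ x : K ⊗[k] L, ∃ n : ℕ, x ^ p ^ n ∈ Set.range (algebraMap C (K ⊗[k] L)) := by
    intro x
    induction x with
    | zero => exact ⟨0, 0, by simp⟩
    | add x y hx hy =>
      obtain ⟨n, c, hc⟩ := hx
      obtain ⟨m, d, hd⟩ := hy
      refine ⟨n + m, c ^ p ^ m + d ^ p ^ n, ?_⟩
      rw [map_add, map_pow, map_pow, hc, hd, add_pow_expChar_pow, ← pow_mul, ← pow_mul, pow_add,
        mul_comm (p ^ m) (p ^ n)]
    | tmul a l =>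
      obtain ⟨n, hn⟩ := IsPurelyInseparable.pow_mem S p l
      obtain ⟨l', hl'⟩ := hn
      exact ⟨n, (a ^ p ^ n) ⊗ₜ l', by rw [hφt, Algebra.TensorProduct.tmul_pow, ← hl']⟩
  have hunit : ∀ z : B, IsNilpotent z ∨ IsUnit z := by
    intro z
    obtain ⟨x, s, rfl⟩ := IsLocalization.exists_mk'_eq T z
    obtain ⟨n, c, hc⟩ := hpow x
    have hc' : algebraMap (K ⊗[k] L) B x ^ p ^ n = algebraMap F B (algebraMap C F c) := by
      rw [← map_pow, ← hc, ← IsScalarTower.algebraMap_apply, ← IsScalarTower.algebraMap_apply]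
    have hms : IsLocalization.mk' B x s * algebraMap (K ⊗[k] L) B s = algebraMap _ B x :=
      IsLocalization.mk'_spec B x s
    have hsu : IsUnit (algebraMap (K ⊗[k] L) B (s : K ⊗[k] L)) := IsLocalization.map_units B s
    have hp0 : p ^ n ≠ 0 := pow_ne_zero _ (expChar_ne_zero k p)
    rcases eq_or_ne (algebraMap C F c) 0 with h0 | h0
    · left
      refine ⟨p ^ n, (hsu.pow (p ^ n)).mul_left_eq_zero.mp ?_⟩
      rw [← mul_pow, hms, hc', h0, map_zero]
    · right
      have : IsUnit (algebraMap (K ⊗[k] L) B x) :=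
        (isUnit_pow_iff hp0).mp (hc' ▸ (hFu _ h0).map _)
      rw [← hms] at this
      exact isUnit_of_mul_isUnit_left this
  have hQ : (q.map (algebraMap (K ⊗[k] L) B)).IsPrime :=
    IsLocalization.isPrime_of_isPrime_disjoint T B q inferInstance
      (Set.disjoint_left.mpr fun z hz hzq => hSq hz hzq)
  haveI : Nontrivial B := nontrivial_of_ne 0 1 fun h => hQ.ne_top
    ((Ideal.eq_top_iff_one _).mpr (h ▸ zero_mem _))
  haveI : IsLocalRing B := .of_nonunits_add fun a b ha hb => by
    rcases hunit a with hna | hua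
    · rcases hunit b with hnb | hub
      · exact fun hu => not_isUnit_zero (M₀ := B) (by
          obtain ⟨n, hn⟩ := Commute.isNilpotent_add (Commute.all a b) hna hnb
          exact hn ▸ hu.pow n)
      · exact absurd hub hb
    · exact absurd hua ha
  haveI : IsLocalization q.primeCompl B := IsLocalization.of_le T q.primeCompl hSq fun r hr => by
    refine (hunit _).resolve_left fun h => ?_
    have hmem : algebraMap _ B r ∈ q.map (algebraMap (K ⊗[k] L) B) := nilradical_le_prime _ h
    obtain ⟨t, ht, htr⟩ := (IsLocalization.algebraMap_mem_map_algebraMap_iff T B q r).mp hmem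
    exact (Ideal.IsPrime.mem_or_mem ‹q.IsPrime› htr).elim (hSq ht) hr
  haveI : IsLocalHom (algebraMap F B) := ⟨fun a ha => hFu a fun h => by
    rw [h, map_zero] at ha; exact not_isUnit_zero ha⟩
  have hlen := IsLocalRing.length_restrictScalars F B B
  have h2 : Module.length F B = Module.finrank F B := by
    rw [bB.equivFun.length_eq, Module.length_pi, hfr]
    simp [Module.length_eq_one F F, finsum_eq_sum_of_fintype]
  rw [h2, hfr, he] at hlen
  have hB : Module.length (Localization.AtPrime q) (Localization.AtPrime q) = Module.length B B := by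
    let f : Localization.AtPrime q ≃+* B :=
      (IsLocalization.algEquiv q.primeCompl (Localization.AtPrime q) B).toRingEquiv
    rw [Module.length, Module.length]
    congr 1
    refine Order.krullDim_eq_of_orderIso ?_
    exact f.symm.idealComapOrderIso
  rw [hB]
  obtain ⟨l, hl⟩ := ENat.ne_top_iff_exists.mp (show Module.length B B ≠ ⊤ by
    intro h
    rw [h, ENat.top_mul Module.length_pos.ne'] at hlen
    exact ENat.coe_ne_top _ hlen)
  obtain ⟨r, hr⟩ : ∃ r : ℕ, Module.length (IsLocalRing.ResidueField F) (IsLocalRing.ResidueField B) = r := by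
    refine ⟨_, (ENat.coe_toNat fun h => ?_).symm⟩
    rw [h, ← hl, ENat.mul_top (by rw [hl]; exact Module.length_pos.ne')] at hlen
    exact ENat.coe_ne_top _ hlen
  rw [← hl, hr] at hlen
  have hdvd : l ∣ p ^ e := ⟨r, by exact_mod_cast hlen⟩
  cases ‹ExpChar k p› with
  | zero => exact ⟨0, by rw [← hl, show l = 1 by simpa using hdvd]; simp⟩
  | prime hp =>
    obtain ⟨n, -, hn⟩ := (Nat.dvd_prime_pow hp).mp hdvd
    exact ⟨n, by rw [← hl, hn]⟩

end

/-- Let k be a field of exponential characteristic p, K/k any field extension and L/k a finitely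
generated field extension (the function field of an integral scheme locally of finite type over k).
For every minimal prime 𝔮 of K ⊗_k L the length of the Artinian local ring (K ⊗_k L)_𝔮 — the
multiplicity of the corresponding irreducible component of the base change — is a power of p (so 1
in characteristic zero). -/
theorem result (k K L : Type u) [Field k] [Field K] [Field L] [Algebra k K] [Algebra k L] (hL : (⊤ : IntermediateField k L).FG) (p : ℕ) [ExpChar k p] (q : Ideal (K ⊗[k] L)) [q.IsPrime] (hq : q ∈ minimalPrimes (K ⊗[k] L)) : ∃ n : ℕ, Module.length (Localization.AtPrime q) (Localization.AtPrime q) = (p ^ n : ℕ) := by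
  classical
  haveI : Algebra.EssFiniteType k L := IntermediateField.fg_top_iff.mp hL
  obtain ⟨s, hs⟩ := exists_isTranscendenceBasis k L
  set M := adjoin k (Set.range ((↑) : s → L)) with hMdef
  haveI : Algebra.IsAlgebraic M L := hs.isAlgebraic_field
  haveI : Algebra.EssFiniteType M L := Algebra.EssFiniteType.of_comp k M L
  haveI : FiniteDimensional M L := Algebra.finite_of_essFiniteType_of_isAlgebraic
  let Ls := separableClosure M L
  haveI : IsPurelyInseparable Ls L := separableClosure.isPurelyInseparable M L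
  haveI : FiniteDimensional M Ls := inferInstance
  haveI : FiniteDimensional Ls L := FiniteDimensional.right M Ls L
  haveI : IsReduced (K ⊗[k] M) := by
    let f : MvPolynomial s k →ₐ[k] M :=
      MvPolynomial.aeval fun i : s => (⟨(i : L), subset_adjoin k _ ⟨i, rfl⟩⟩ : M)
    have hf : ∀ r, ((f r : M) : L) = MvPolynomial.aeval ((↑) : s → L) r := fun r => by
      rw [← IntermediateField.coe_val, ← AlgHom.comp_apply, MvPolynomial.comp_aeval]
      rfl
    refine isReduced_tensor_fractions K M f (fun a b h => hs.1 (by rw [← hf, ← hf, h])) fun w => ?_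
    obtain ⟨r, t, hw⟩ := (mem_adjoin_range_iff k _ (w : L)).mp w.2
    by_cases ht : t = 0
    · refine ⟨0, 1, one_ne_zero, ?_⟩
      rw [show w = 0 from Subtype.ext (by rw [hw, ht]; simp), mul_zero, map_zero]
    · refine ⟨r, t, ht, Subtype.ext ?_⟩
      show ((f t : M) : L) * (w : L) = _
      rw [hf, hf, hw, mul_div_cancel₀ _ fun h => ht (hs.1 (by rw [h, map_zero]))]
  haveI : IsScalarTower k Ls L := IsScalarTower.of_algebraMap_eq fun x => rfl
  haveI := isReduced_tensor_of_separable (k := k) K M Ls
  exact length_pow (k := k) K Ls L p q hq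

end Groth.Agent.S1875
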