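import Mathlib

/-!
Supports of the Hirzebruch hypersurface series and of their complete-intersection combination.
-/

set_option autoImplicit false

namespace Groth.Agent.H25HodgeSeries

open MvPowerSeries

abbrev S := MvPowerSeries (Fin 2) ℤ

noncomputable def y : S := X 0
noncomputable def z : S := X 1

noncomputable def Pser (b : ℕ) : S := ∑ u ∈ Finset.range (b + 1), ∑ v ∈ Finset.range (b + 1),
  if 1 ≤ u ∧ 1 ≤ v ∧ u + v ≤ b then (b.choose (u + v) : S) * y ^ u * z ^ v else 0

noncomputable def Nser (b : ℕ) : S := ∑ u ∈ Finset.range b, ∑ v ∈ Finset.range b,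
  if u + v + 1 ≤ b - 1 then ((b - 1).choose (u + v + 1) : S) * y ^ u * z ^ v else 0

noncomputable def mk (p q : ℕ) : Fin 2 →₀ ℕ := Finsupp.single 0 p + Finsupp.single 1 q

theorem mk_zero_apply (p q : ℕ) : mk p q 0 = p := by simp [mk]

theorem mk_one_apply (p q : ℕ) : mk p q 1 = q := by simp [mk]

theorem eq_mk (e : Fin 2 →₀ ℕ) : e = mk (e 0) (e 1) := by
  ext i
  fin_cases i <;> simp [mk]

theorem mk_add (p q p' q' : ℕ) : mk p q + mk p' q' = mk (p + p') (q + q') := by
  simp only [mk, Finsupp.single_add]; abel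

theorem mk_inj {p q p' q' : ℕ} (h : mk p q = mk p' q') : p = p' ∧ q = q' :=
  ⟨by simpa [mk] using congrArg (fun e => e 0) h, by simpa [mk] using congrArg (fun e => e 1) h⟩

theorem term_eq (c u v : ℕ) : (c : S) * y ^ u * z ^ v = monomial (mk u v) (c : ℤ) := by
  rw [y, z, X_pow_eq, X_pow_eq, ← map_natCast (MvPowerSeries.C (σ := Fin 2) (R := ℤ)) c,
    ← monomial_zero_eq_C_apply, monomial_mul_monomial, monomial_mul_monomial, zero_add, mul_one,
    mul_one, mk]

theorem coeff_table (n : ℕ) (P : ℕ → ℕ → Prop) [∀ u v, Decidable (P u v)] (c : ℕ → ℕ → ℕ)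
    (hP : ∀ u v, P u v → u < n ∧ v < n) (p q : ℕ) :
    coeff (mk p q) (∑ u ∈ Finset.range n, ∑ v ∈ Finset.range n,
      if P u v then (c u v : S) * y ^ u * z ^ v else 0) = if P p q then (c p q : ℤ) else 0 := by
  classical
  simp only [term_eq, map_sum, apply_ite (coeff (mk p q)), map_zero, coeff_monomial]
  by_cases h : P p q
  · obtain ⟨hu, hv⟩ := hP p q h
    rw [Finset.sum_eq_single p, Finset.sum_eq_single q]
    · simp [h]
    · intro v _ hv
      split_ifs with _ h2 <;> first | rfl | exact absurd (mk_inj h2).2.symm hv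
    · exact fun h' => absurd (Finset.mem_range.mpr hv) h'
    · intro u _ hu
      refine Finset.sum_eq_zero fun v _ => ?_
      split_ifs with _ h2 <;> first | rfl | exact absurd (mk_inj h2).1.symm hu
    · exact fun h' => absurd (Finset.mem_range.mpr hu) h'
  · rw [if_neg h]
    refine Finset.sum_eq_zero fun u _ => Finset.sum_eq_zero fun v _ => ?_
    split_ifs with h1 h2 <;> first | rfl | exact absurd (by obtain ⟨rfl, rfl⟩ := mk_inj h2; exact h1) h

theorem coeff_Pser (b p q : ℕ) :
    coeff (mk p q) (Pser b) = if 1 ≤ p ∧ 1 ≤ q ∧ p + q ≤ b then (b.choose (p + q) : ℤ) else 0 :=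
  coeff_table (b + 1) (fun u v => 1 ≤ u ∧ 1 ≤ v ∧ u + v ≤ b) (fun u v => b.choose (u + v))
    (fun u v h => ⟨by omega, by omega⟩) p q

theorem coeff_Nser (b p q : ℕ) :
    coeff (mk p q) (Nser b) =
      if p + q + 1 ≤ b - 1 then ((b - 1).choose (p + q + 1) : ℤ) else 0 :=
  coeff_table b (fun u v => u + v + 1 ≤ b - 1) (fun u v => (b - 1).choose (u + v + 1))
    (fun u v h => ⟨by omega, by omega⟩) p q

/-- all coefficients nonnegative. -/
def Nonneg (f : S) : Prop := ∀ e, 0 ≤ coeff e f

/-- `e 0 + e 1 ≤ A * e 0 + c` on the support. -/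
def Bnd (A : ℕ) (f : S) (c : ℤ) : Prop :=
  ∀ e, coeff e f ≠ 0 → (e 0 : ℤ) + e 1 ≤ A * e 0 + c

/-- positive on `(0, s)` for `s ≤ c`. -/
def Cov (f : S) (c : ℕ) : Prop := ∀ s ≤ c, 0 < coeff (mk 0 s) f

theorem Nonneg.mul {f g : S} (hf : Nonneg f) (hg : Nonneg g) : Nonneg (f * g) := fun e => by
  rw [coeff_mul]
  exact Finset.sum_nonneg fun p _ => mul_nonneg (hf _) (hg _)

theorem nonneg_one : Nonneg (1 : S) := fun e => by
  classical
  rw [coeff_one]; split_ifs <;> norm_num

theorem Nonneg.prod {ι : Type*} (s : Finset ι) {f : ι → S} (h : ∀ i ∈ s, Nonneg (f i)) :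
    Nonneg (∏ i ∈ s, f i) :=
  Finset.prod_induction f Nonneg (fun _ _ => Nonneg.mul) nonneg_one h

theorem Nonneg.pow {f : S} (hf : Nonneg f) : ∀ m : ℕ, Nonneg (f ^ m)
  | 0 => by simpa using nonneg_one
  | m + 1 => by rw [pow_succ]; exact (hf.pow m).mul hf

theorem nonneg_one_add_X (i : Fin 2) : Nonneg (1 + X i : S) := fun e => by
  classical
  rw [map_add, coeff_one, coeff_X]; split_ifs <;> norm_num

theorem mul_pos_coeff {f g : S} (hf : Nonneg f) (hg : Nonneg g) {e e' : Fin 2 →₀ ℕ}
    (h : 0 < coeff e f) (h' : 0 < coeff e' g) : 0 < coeff (e + e') (f * g) := by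
  classical
  rw [coeff_mul]
  exact Finset.sum_pos' (fun p _ => mul_nonneg (hf _) (hg _))
    ⟨(e, e'), Finset.HasAntidiagonal.mem_antidiagonal.mpr rfl, mul_pos h h'⟩

theorem Bnd.mul {A : ℕ} {f g : S} {c c' : ℤ} (hf : Bnd A f c) (hg : Bnd A g c') :
    Bnd A (f * g) (c + c') := by
  classical
  intro e he
  rw [coeff_mul] at he
  obtain ⟨p, hp, hne⟩ := Finset.exists_ne_zero_of_sum_ne_zero he
  have h1 := hf _ (left_ne_zero_of_mul hne)
  have h2 := hg _ (right_ne_zero_of_mul hne)
  rw [← Finset.HasAntidiagonal.mem_antidiagonal.mp hp]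
  simp only [Finsupp.coe_add, Pi.add_apply, Nat.cast_add, mul_add]
  linarith

theorem bnd_one (A : ℕ) : Bnd A (1 : S) 0 := fun e he => by
  classical
  rw [coeff_one] at he
  split_ifs at he with h
  · simp [h]
  · exact absurd rfl he

theorem Bnd.prod {A : ℕ} {ι : Type*} (s : Finset ι) {f : ι → S} {c : ι → ℤ}
    (h : ∀ i ∈ s, Bnd A (f i) (c i)) : Bnd A (∏ i ∈ s, f i) (∑ i ∈ s, c i) := by
  classical
  induction s using Finset.induction with
  | empty => simpa using bnd_one A
  | insert a s ha ih =>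
    rw [Finset.prod_insert ha, Finset.sum_insert ha]
    exact (h a (Finset.mem_insert_self a s)).mul (ih fun i hi => h i (Finset.mem_insert_of_mem hi))

theorem Cov.mul {f g : S} (hf : Nonneg f) (hg : Nonneg g) {c c' : ℕ} (h : Cov f c)
    (h' : Cov g c') : Cov (f * g) (c + c') := by
  intro s hs
  have := mul_pos_coeff hf hg (h (min s c) (min_le_right _ _)) (h' (s - min s c) (by omega))
  rwa [mk_add, zero_add, show min s c + (s - min s c) = s by omega] at this

theorem cov_one : Cov (1 : S) 0 := fun s hs => by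
  classical
  rw [coeff_one, if_pos]; · norm_num
  simp [mk, Nat.le_zero.mp hs]

theorem Cov.prod {ι : Type*} (s : Finset ι) {f : ι → S} {c : ι → ℕ}
    (hn : ∀ i ∈ s, Nonneg (f i)) (h : ∀ i ∈ s, Cov (f i) (c i)) :
    Cov (∏ i ∈ s, f i) (∑ i ∈ s, c i) := by
  classical
  induction s using Finset.induction with
  | empty => simpa using cov_one
  | insert a s ha ih =>
    rw [Finset.prod_insert ha, Finset.sum_insert ha]
    exact Cov.mul (hn a (Finset.mem_insert_self a s))
      (Nonneg.prod s fun i hi => hn i (Finset.mem_insert_of_mem hi))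
      (h a (Finset.mem_insert_self a s))
      (ih (fun i hi => hn i (Finset.mem_insert_of_mem hi))
        fun i hi => h i (Finset.mem_insert_of_mem hi))

/-- support of one hypersurface series. -/
theorem coeff_H (b : ℕ) {H : S} (hH : (1 - Pser b) * H = Nser b) : ∀ n p q : ℕ, p + q = n →
    0 ≤ coeff (mk p q) H ∧
      (coeff (mk p q) H ≠ 0 ↔ 2 ≤ b ∧ p + q + 2 ≤ (min p q + 1) * b) := by
  classical
  have hrec : H = Nser b + Pser b * H := by rw [← hH]; ring
  intro n
  induction n using Nat.strong_induction_on with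
  | _ n ih =>
    intro p q hn
    have hco : coeff (mk p q) H = coeff (mk p q) (Nser b) +
        ∑ x ∈ Finset.HasAntidiagonal.antidiagonal (mk p q), coeff x.1 (Pser b) * coeff x.2 H := by
      conv_lhs => rw [hrec]
      rw [map_add, coeff_mul]
    have hNnn : 0 ≤ coeff (mk p q) (Nser b) := by
      rw [coeff_Nser]; split_ifs <;> simp
    have hterm : ∀ x ∈ Finset.HasAntidiagonal.antidiagonal (mk p q), 0 ≤ coeff x.1 (Pser b) * coeff x.2 H ∧
        (coeff x.1 (Pser b) * coeff x.2 H ≠ 0 →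
          2 ≤ b ∧ p + q + 2 ≤ (min p q + 1) * b) := by
      rintro ⟨e, e'⟩ hx
      rw [Finset.HasAntidiagonal.mem_antidiagonal, eq_mk e, eq_mk e', mk_add] at hx
      obtain ⟨hp, hq⟩ := mk_inj hx
      rw [eq_mk e, eq_mk e', coeff_Pser]
      split_ifs with h
      · obtain ⟨hnn, hiff⟩ := ih (e' 0 + e' 1) (by omega) _ _ rfl
        refine ⟨mul_nonneg (by positivity) hnn, fun hne => ?_⟩
        obtain ⟨hb, hle⟩ := hiff.mp (right_ne_zero_of_mul hne)
        refine ⟨hb, ?_⟩
        have h1 : (min (e' 0) (e' 1) + 1 + 1) * b ≤ (min p q + 1) * b :=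
          Nat.mul_le_mul_right b (by omega)
        have h2 : (min (e' 0) (e' 1) + 1 + 1) * b = (min (e' 0) (e' 1) + 1) * b + b := by ring
        omega
      · simp
    have hsum : 0 ≤ ∑ x ∈ Finset.HasAntidiagonal.antidiagonal (mk p q), coeff x.1 (Pser b) * coeff x.2 H :=
      Finset.sum_nonneg fun x hx => (hterm x hx).1
    refine ⟨hco ▸ add_nonneg hNnn hsum, ?_, ?_⟩
    · intro hne
      rw [hco] at hne
      by_cases hN : coeff (mk p q) (Nser b) = 0
      · rw [hN, zero_add] at hne
        obtain ⟨x, hx, hxne⟩ := Finset.exists_ne_zero_of_sum_ne_zero hne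
        exact (hterm x hx).2 hxne
      · rw [coeff_Nser] at hN
        split_ifs at hN with h
        · refine ⟨by omega, ?_⟩
          have : 1 * b ≤ (min p q + 1) * b := Nat.mul_le_mul_right b (by omega)
          omega
        · exact absurd rfl hN
    · rintro ⟨hb, hle⟩
      rw [hco]
      refine (ne_of_gt ?_)
      by_cases hsmall : p + q + 2 ≤ b
      · refine add_pos_of_pos_of_nonneg ?_ hsum
        rw [coeff_Nser, if_pos (by omega)]
        exact_mod_cast Nat.choose_pos (by omega)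
      · refine add_pos_of_nonneg_of_pos hNnn ?_
        obtain ⟨m, hm⟩ : ∃ m, min p q = m + 1 := by
          rcases Nat.eq_zero_or_pos (min p q) with h | h
          · rw [h] at hle; omega
          · exact ⟨min p q - 1, by omega⟩
        rw [hm] at hle
        have hexp : (m + 1 + 1) * b = (m + 1) * b + b := by ring
        have hmb : (m + 1) * 2 ≤ (m + 1) * b := Nat.mul_le_mul_left _ hb
        obtain ⟨u, v, hu, hv, huv, hup, hvq, hmin, hnew⟩ : ∃ u v, 1 ≤ u ∧ 1 ≤ v ∧ u + v ≤ b ∧
            u ≤ p ∧ v ≤ q ∧ min (p - u) (q - v) = m ∧ p - u + (q - v) + 2 ≤ (m + 1) * b := by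
          rcases le_total p q with hpq | hpq
          · exact ⟨1, min (b - 1) (q - p + 1), le_rfl, by omega, by omega, by omega, by omega,
              by omega, by omega⟩
          · exact ⟨min (b - 1) (p - q + 1), 1, by omega, le_rfl, by omega, by omega, by omega,
              by omega, by omega⟩
        refine Finset.sum_pos' (fun x hx => (hterm x hx).1)
          ⟨(mk u v, mk (p - u) (q - v)), ?_, ?_⟩
        · rw [Finset.HasAntidiagonal.mem_antidiagonal, mk_add]; congr 1 <;> omega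
        · obtain ⟨hnn, hiff⟩ := ih (p - u + (q - v)) (by omega) _ _ rfl
          refine mul_pos ?_ (lt_of_le_of_ne hnn (hiff.mpr ⟨hb, by rw [hmin]; exact hnew⟩).symm)
          rw [coeff_Pser, if_pos ⟨hu, hv, huv⟩]
          exact_mod_cast Nat.choose_pos huv

theorem nonneg_H {b : ℕ} {H : S} (hH : (1 - Pser b) * H = Nser b) : Nonneg H := fun e => by
  rw [eq_mk e]; exact (coeff_H b hH _ _ _ rfl).1

theorem bnd_H {b A : ℕ} (hA : b ≤ A) {H : S} (hH : (1 - Pser b) * H = Nser b) :
    Bnd A H ((b : ℤ) - 2) := fun e he => by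
  rw [eq_mk e] at he
  obtain ⟨-, hle⟩ := ((coeff_H b hH _ _ _ rfl).2).mp he
  have h1 : (min (e 0) (e 1) + 1) * b ≤ e 0 * b + b := by
    have : (min (e 0) (e 1) + 1) * b ≤ (e 0 + 1) * b := Nat.mul_le_mul_right b (by omega)
    linarith
  have h2 : e 0 * b ≤ A * e 0 := by rw [mul_comm A]; exact Nat.mul_le_mul_left _ hA
  zify at h1 h2 hle
  linarith

theorem cov_H {b : ℕ} (hb : 2 ≤ b) {H : S} (hH : (1 - Pser b) * H = Nser b) : Cov H (b - 2) :=
  fun s hs => by
  obtain ⟨hnn, hiff⟩ := coeff_H b hH _ 0 s rfl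
  exact lt_of_le_of_ne hnn (hiff.mpr ⟨hb, by simp; omega⟩).symm

theorem cov_one_add_z : Cov (1 + X 1 : S) 1 := fun s hs => by
  classical
  rw [map_add, coeff_one, coeff_X]
  interval_cases s <;> simp only [mk, Finsupp.single_zero, add_zero, zero_add] <;> split_ifs <;>
    first | norm_num | simp_all

theorem cov_one_add_y : Cov (1 + X 0 : S) 0 := fun s hs => by
  classical
  rw [map_add, coeff_one, coeff_X]
  interval_cases s
  simp only [mk, Finsupp.single_zero, add_zero]
  split_ifs <;> norm_num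

theorem bnd_one_add_y {A : ℕ} (hA : 1 ≤ A) : Bnd A (1 + X 0 : S) 0 := fun e he => by
  classical
  rw [map_add, coeff_one, coeff_X] at he
  split_ifs at he with h1 h2 h2
  all_goals first
    | (subst h1; simp)
    | (subst h2; simp; exact_mod_cast hA)
    | simp at he

theorem bnd_one_add_z (A : ℕ) : Bnd A (1 + X 1 : S) 1 := fun e he => by
  classical
  rw [map_add, coeff_one, coeff_X] at he
  split_ifs at he with h1 h2 h2
  all_goals first
    | (subst h1; simp)
    | (subst h2; simp)
    | simp at he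

/-- the complete intersection series. -/
noncomputable def ciSeries {d : ℕ} (Hs : Fin d → S) : S :=
  ∑ P ∈ (Finset.univ : Finset (Fin d)).powerset with P.Nonempty,
    ((1 + y) * (1 + z)) ^ (P.card - 1) * ∏ i ∈ P, Hs i

theorem coeff_ciSeries_ne_zero_iff (d : ℕ) (a : Fin d → ℕ) (ha : ∀ i, 1 ≤ a i) (Hs : Fin d → S)
    (hH : ∀ i, (1 - Pser (a i)) * Hs i = Nser (a i)) (p q : ℕ) (hpq : p ≤ q) :
    coeff (mk p q) (ciSeries Hs) ≠ 0 ↔ p + q + d < p * Finset.univ.sup a + ∑ i, a i := by
  classical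
  set A := Finset.univ.sup a with hA
  have hle : ∀ i, a i ≤ A := fun i => Finset.le_sup (Finset.mem_univ i)
  have hnn : ∀ i, Nonneg (Hs i) := fun i => nonneg_H (hH i)
  have hfac : Nonneg ((1 + y) * (1 + z) : S) := (nonneg_one_add_X 0).mul (nonneg_one_add_X 1)
  have hsumd : (∑ i, ((a i : ℤ) - 1)) = (∑ i, (a i : ℤ)) - d := by simp
  constructor
  · intro hne
    rw [ciSeries, map_sum] at hne
    obtain ⟨P, hP, hne⟩ := Finset.exists_ne_zero_of_sum_ne_zero hne
    obtain ⟨-, hPne⟩ := Finset.mem_filter.mp hP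
    obtain ⟨i, hi⟩ := hPne
    have hA1 : 1 ≤ A := (ha i).trans (hle i)
    have hb : Bnd A (((1 + y) * (1 + z) : S) ^ (P.card - 1) * ∏ i ∈ P, Hs i)
        (((P.card - 1 : ℕ) : ℤ) + ∑ i ∈ P, ((a i : ℤ) - 2)) := by
      refine Bnd.mul ?_ (Bnd.prod P fun i _ => bnd_H (hle i) (hH i))
      have := Bnd.prod (A := A) (Finset.range (P.card - 1))
        (f := fun _ => ((1 + y) * (1 + z) : S)) (c := fun _ => (0 + 1 : ℤ))
        fun _ _ => (bnd_one_add_y hA1).mul (bnd_one_add_z A)
      simpa using this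
    have h := hb _ hne
    rw [mk_zero_apply, mk_one_apply] at h
    have hc : 1 ≤ P.card := Finset.card_pos.mpr ⟨i, hi⟩
    have hsub : ∑ i ∈ P, ((a i : ℤ) - 1) ≤ ∑ i, ((a i : ℤ) - 1) :=
      Finset.sum_le_sum_of_subset_of_nonneg (Finset.subset_univ P) fun i _ _ => by
        have := ha i; omega
    have hsplit : ∑ i ∈ P, ((a i : ℤ) - 2) = ∑ i ∈ P, ((a i : ℤ) - 1) - P.card := by
      rw [Finset.card_eq_sum_ones, Nat.cast_sum, ← Finset.sum_sub_distrib]
      exact Finset.sum_congr rfl fun i _ => by push_cast; ring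
    rw [hsplit, Nat.cast_sub hc] at h
    push_cast at h
    zify
    rw [mul_comm (p : ℤ)]
    linarith
  · intro hlt
    let P : Finset (Fin d) := Finset.univ.filter fun i => 2 ≤ a i
    have hPsum : ∑ i ∈ P, (a i - 1) = ∑ i, (a i - 1) :=
      Finset.sum_filter_of_ne fun i _ h => by omega
    have hd' : ∑ i, (a i - 1) + d = ∑ i, a i := by
      have : ∑ i, ((a i - 1) + 1) = ∑ i, a i :=
        Finset.sum_congr rfl fun i _ => by have := ha i; omega
      simpa [Finset.sum_add_distrib] using this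
    have hne : (Finset.univ : Finset (Fin d)).Nonempty := by
      rw [Finset.univ_nonempty_iff]
      by_contra h
      rw [not_nonempty_iff] at h
      simp [hA] at hlt
    obtain ⟨i0, -, hi0⟩ := Finset.exists_mem_eq_sup _ hne a
    rw [← hA] at hi0
    have hA2 : 2 ≤ A := by
      by_contra h
      have h0 : ∑ i, (a i - 1) = 0 := Finset.sum_eq_zero fun i _ => by
        have := hle i; omega
      have : p * A ≤ p * 1 := Nat.mul_le_mul_left _ (by omega)
      omega
    have hiP : i0 ∈ P := by simp [P]; omega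
    have hdec := Finset.add_sum_erase P (fun i => a i - 1) hiP
    simp only [hPsum, ← hi0] at hdec
    have hE : ∑ i ∈ P.erase i0, (a i - 2) + (P.card - 1) = ∑ i ∈ P.erase i0, (a i - 1) := by
      rw [← Finset.card_erase_of_mem hiP, Finset.card_eq_sum_ones, ← Finset.sum_add_distrib]
      refine Finset.sum_congr rfl fun i hi => ?_
      have : 2 ≤ a i := (Finset.mem_filter.mp (Finset.mem_of_mem_erase hi)).2
      omega
    have hpA : p * 2 ≤ p * A := Nat.mul_le_mul_left _ hA2
    set q0 := min q (p * A + A - 2 - p) with hq0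
    have hq0p : p ≤ q0 := by omega
    have hcov : Cov (((1 + y) * (1 + z) : S) ^ (P.card - 1) * ∏ i ∈ P.erase i0, Hs i)
        ((P.card - 1) + ∑ i ∈ P.erase i0, (a i - 2)) := by
      refine Cov.mul (hfac.pow _) (Nonneg.prod _ fun i _ => hnn i) ?_
        (Cov.prod _ (fun i _ => hnn i) fun i hi =>
          cov_H (Finset.mem_filter.mp (Finset.mem_of_mem_erase hi)).2 (hH i))
      have := Cov.prod (Finset.range (P.card - 1)) (f := fun _ => ((1 + y) * (1 + z) : S))
        (c := fun _ => 0 + 1) (fun _ _ => hfac) fun _ _ =>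
          Cov.mul (nonneg_one_add_X 0) (nonneg_one_add_X 1) cov_one_add_y cov_one_add_z
      simpa using this
    have hmain : 0 < coeff (mk p q) (((1 + y) * (1 + z) : S) ^ (P.card - 1) * ∏ i ∈ P, Hs i) := by
      rw [← Finset.mul_prod_erase P Hs hiP,
        show ((1 + y) * (1 + z) : S) ^ (P.card - 1) * (Hs i0 * ∏ i ∈ P.erase i0, Hs i) =
          Hs i0 * (((1 + y) * (1 + z) : S) ^ (P.card - 1) * ∏ i ∈ P.erase i0, Hs i) by ring]
      have h1 : 0 < coeff (mk p q0) (Hs i0) := by
        obtain ⟨hn', hiff⟩ := coeff_H _ (hH i0) _ p q0 rfl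
        refine lt_of_le_of_ne hn' (hiff.mpr ⟨by omega, ?_⟩).symm
        rw [min_eq_left hq0p, ← hi0, add_mul, one_mul]
        omega
      have h2 := mul_pos_coeff (hnn i0) ((hfac.pow _).mul (Nonneg.prod _ fun i _ => hnn i)) h1
        (hcov (q - q0) (by omega))
      rwa [mk_add, add_zero, show q0 + (q - q0) = q by omega] at h2
    rw [ciSeries, map_sum]
    refine (ne_of_gt (Finset.sum_pos' (fun Q _ => ?_) ⟨P, ?_, hmain⟩))
    · exact (hfac.pow _).mul (Nonneg.prod _ fun i _ => hnn i) _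
    · exact Finset.mem_filter.mpr ⟨Finset.mem_powerset.mpr (Finset.subset_univ _), ⟨i0, hiP⟩⟩

end Groth.Agent.H25HodgeSeries
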