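import Groth.Prelude.Def_SuppFam
import Groth.Agent.H15Site.LocCoh
import Mathlib.CategoryTheory.Abelian.RightDerived
import Mathlib.CategoryTheory.Abelian.Injective.Ext
import Mathlib.CategoryTheory.Preadditive.Yoneda.Basic
import Mathlib.Algebra.Homology.ShortComplex.PreservesHomology

/-! The sheaves of local cohomology as sheafifications of the presheaves of cohomology with supports. -/

set_option autoImplicit false
set_option linter.style.haveILetI false
set_option linter.unusedSectionVars false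
set_option backward.isDefEq.respectTransparency false

universe u

open CategoryTheory CategoryTheory.Limits Opposite TopologicalSpace Abelian

namespace Groth.Agent.H25SuppPre

open Groth.Agent.H10Coh Groth.Agent.H15Site

attribute [local instance 10000] hasSheafifyAb hasWeakSheafifyAb hasExtAb enoughInjAb

variable {X : TopCat.{u}} {W V : Opens X} (h : W ≤ V)

/-- `V' ↦ ℤ_{V ∩ V'}/ℤ_{W ∩ V'}`. -/
noncomputable def zqFun : Opens X ⥤ CohTop.Ab X where
  obj V' := LocCohZ.zq (inf_le_inf_right V' h)
  map {A B} g := LocCohZ.zqMap (inf_le_inf_right B h) (inf_le_inf_right A h)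
    (inf_le_inf_left W g.le) (inf_le_inf_left V g.le)
  map_id A := SuppFam.zqMap_id _
  map_comp f g := (SuppFam.zqMap_comp _ _ _ _ _ _ _).symm

/-- Maps out of `ℤ_{V ∩ ·}/ℤ_{W ∩ ·}`. -/
noncomputable abbrev G : CohTop.Ab X ⥤ ((Opens X)ᵒᵖ ⥤ AddCommGrpCat.{u}) :=
  preadditiveYoneda ⋙ (Functor.whiskeringLeft _ _ _).obj (zqFun h).op

/-- Sections over the intersection with `V`. -/
noncomputable abbrev sec (V' : Opens X) (F : CohTop.Ab X) : AddCommGrpCat.{u} := F.obj.obj (op (V ⊓ V'))

/-- The section of a map out of `ℤ_{V ∩ V'}/ℤ_{W ∩ V'}`. -/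
noncomputable def α (F : CohTop.Ab X) (V' : Opens X) :
    ((zqFun h).obj V' ⟶ F) → sec (V := V) V' F := fun x => (ZqHom.homEquiv F (inf_le_inf_right V' h) x).1

theorem α_injective (F : CohTop.Ab X) (V' : Opens X) : Function.Injective (α h F V') :=
  fun _ _ e => (ZqHom.homEquiv F _).injective (Subtype.ext e)

theorem α_range (F : CohTop.Ab X) (V' : Opens X) (s : sec (V := V) V' F) :
    (∃ x, α h F V' x = s) ↔ F.obj.map (homOfLE (inf_le_inf_right V' h)).op s = 0 := by
  constructor
  · rintro ⟨x, rfl⟩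
    exact (ZqHom.homEquiv F (inf_le_inf_right V' h) x).2
  · intro hs
    exact ⟨(ZqHom.homEquiv F (inf_le_inf_right V' h)).symm ⟨s, hs⟩,
      congrArg Subtype.val (AddEquiv.apply_symm_apply _ _)⟩

theorem α_add (F : CohTop.Ab X) (V' : Opens X) (x y : (zqFun h).obj V' ⟶ F) :
    α h F V' (x + y) = α h F V' x + α h F V' y :=
  congrArg Subtype.val (map_add (ZqHom.homEquiv F (inf_le_inf_right V' h)) x y)

theorem α_res (F : CohTop.Ab X) {A B : Opens X} (g : A ⟶ B) (x : (zqFun h).obj B ⟶ F) :
    α h F A ((zqFun h).map g ≫ x) = F.obj.map (homOfLE (inf_le_inf_left V g.le)).op (α h F B x) := by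
  simp only [α, ZqHom.homEquiv_apply_val]
  rw [← CohFree.evalGen_freeSheafMap_comp]
  refine congrArg _ ?_
  show cokernel.π _ ≫ LocCohZ.zqMap (inf_le_inf_right B h) (inf_le_inf_right A h)
    (inf_le_inf_left W g.le) (inf_le_inf_left V g.le) ≫ x = _
  rw [LocCohZ.zqMap, ← Category.assoc]
  exact (congrArg (· ≫ x) (cokernel.π_desc _ _ _)).trans (Category.assoc _ _ _)

theorem α_comp {F F' : CohTop.Ab X} (f : F ⟶ F') (V' : Opens X) (x : (zqFun h).obj V' ⟶ F) :
    α h F' V' (x ≫ f) = f.hom.app (op (V ⊓ V')) (α h F V' x) :=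
  ZqHom.homEquiv_comp f _ x

theorem im_inOpen (V' : Opens X) :
    im (j := CohCx.incl V) V.isOpenEmbedding' ((Opens.map (CohCx.incl V)).obj V') = V ⊓ V' :=
  Opens.ext (show Subtype.val '' (Subtype.val ⁻¹' (V' : Set X)) = (V : Set X) ∩ (V' : Set X) by
    rw [Set.image_preimage_eq_inter_range, Set.inter_comm]; exact congrArg (· ∩ _) Subtype.range_coe)

/-- A section over `O` dies in `j_* j⁻¹` iff it dies on `O ∩ U`. -/
theorem unit_app_eq_zero_iff {Y : TopCat.{u}} (U O : Opens Y) (F : CohTop.Ab Y) (s : F.obj.obj (op O)) :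
    (SuppSect.η U F).hom.app (op O) s = 0 ↔ F.obj.map (homOfLE (inf_le_left : O ⊓ U ≤ O)).op s = 0 := by
  obtain ⟨φ, rfl⟩ := (sect O F).surjective s
  have h1 := sect_comp φ (SuppSect.η U F)
  have h2 := sect_res (inf_le_left : O ⊓ U ≤ O) φ
  constructor
  · intro hs
    have hz : φ ≫ SuppSect.η U F = 0 := (sect O _).injective ((h1.trans hs).trans (map_zero _).symm)
    exact (h2.symm.trans (congrArg _ ((LocCoh.free_comp_unit_eq_zero_iff U O F φ).mp hz))).trans (map_zero _)
  · intro hs
    have hz : zmap (inf_le_left : O ⊓ U ≤ O) ≫ φ = 0 := (sect _ F).injective ((h2.trans hs).trans (map_zero _).symm)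
    exact (h1.symm.trans (congrArg _ ((LocCoh.free_comp_unit_eq_zero_iff U O F φ).mpr hz))).trans (map_zero _)

/-- The section of a section with support. -/
noncomputable def β (F : CohTop.Ab X) (V' : Opens X) :
    ((SuppFam.sectSuppLC h).obj F).obj.obj (op V') ⟶ sec (V := V) V' F :=
  (kernel.ι (SuppSect.η (SuppFam.inOpen V W) ((CohTop.restrFunctor V).obj F))).hom.app
      (op ((Opens.map (CohCx.incl V)).obj V')) ≫
    F.obj.map (homOfLE (im_inOpen (V := V) V').ge).op

theorem β_res (F : CohTop.Ab X) {A B : Opens X} (g : A ⟶ B)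
    (t : ((SuppFam.sectSuppLC h).obj F).obj.obj (op B)) :
    β h F A (((SuppFam.sectSuppLC h).obj F).obj.map g.op t) =
      F.obj.map (homOfLE (inf_le_inf_left V g.le)).op (β h F B t) := by
  have e1 := congr($((kernel.ι (SuppSect.η (SuppFam.inOpen V W) ((CohTop.restrFunctor V).obj F))).hom.naturality
    ((Opens.map (CohCx.incl V)).map g).op) t)
  refine (congrArg _ e1).trans ?_
  show F.obj.map _ (F.obj.map _ _) = F.obj.map _ (F.obj.map _ _)
  rw [← ConcreteCategory.comp_apply, ← ConcreteCategory.comp_apply, ← F.obj.map_comp, ← F.obj.map_comp]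
  rfl

theorem β_comp {F F' : CohTop.Ab X} (f : F ⟶ F') (V' : Opens X)
    (t : ((SuppFam.sectSuppLC h).obj F).obj.obj (op V')) :
    β h F' V' (((SuppFam.sectSuppLC h).map f).hom.app (op V') t) = f.hom.app (op (V ⊓ V')) (β h F V' t) := by
  have e0 := LocCoh.sectSuppF_map_ι (SuppFam.inOpen V W) ((CohTop.restrFunctor V).map f)
  have e2 := NatTrans.congr_app (congrArg InducedCategory.Hom.hom e0) (op ((Opens.map (CohCx.incl V)).obj V'))
  have e1 := ConcreteCategory.congr_hom e2 t
  refine (congrArg _ e1).trans ?_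
  exact (congr($(f.hom.naturality (homOfLE (im_inOpen (V := V) V').ge).op) _)).symm

theorem β_injective (F : CohTop.Ab X) (V' : Opens X) : Function.Injective (β h F V') := by
  haveI : (sheafToPresheaf (Opens.grothendieckTopology (TopCat.of V)) AddCommGrpCat.{u}).IsRightAdjoint :=
    (sheafificationAdjunction _ _).isRightAdjoint
  haveI : Mono (kernel.ι (SuppSect.η (SuppFam.inOpen V W) ((CohTop.restrFunctor V).obj F))).hom :=
    inferInstanceAs (Mono ((sheafToPresheaf _ _).map (kernel.ι _)))
  haveI : IsIso (F.obj.map (homOfLE (im_inOpen (V := V) V').ge).op) := by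
    haveI : IsIso (homOfLE (im_inOpen (V := V) V').ge) :=
      ⟨homOfLE (im_inOpen (V := V) V').le, Subsingleton.elim _ _, Subsingleton.elim _ _⟩
    infer_instance
  exact (ConcreteCategory.bijective_of_isIso (F.obj.map (homOfLE (im_inOpen (V := V) V').ge).op)).1.comp
    ((AddCommGrpCat.mono_iff_injective _).1 inferInstance)

theorem β_range (F : CohTop.Ab X) (V' : Opens X) (s : sec (V := V) V' F) :
    (∃ t, β h F V' t = s) ↔ F.obj.map (homOfLE (inf_le_inf_right V' h)).op s = 0 := by
  let O := (Opens.map (CohCx.incl V)).obj V'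
  let U := SuppFam.inOpen V W
  let S := (CohTop.restrFunctor V).obj F
  let η := SuppSect.η U S
  have hO : im (j := CohCx.incl V) V.isOpenEmbedding' (O ⊓ U) = W ⊓ V' := by
    refine Opens.ext ?_
    show Subtype.val '' (Subtype.val ⁻¹' (V' : Set X) ∩ Subtype.val ⁻¹' (W : Set X)) = (W : Set X) ∩ (V' : Set X)
    rw [← Set.preimage_inter, Set.image_preimage_eq_inter_range]
    ext z
    exact ⟨fun hz => ⟨hz.1.2, hz.1.1⟩, fun hz => ⟨⟨hz.2, hz.1⟩, ⟨⟨z, h hz.1⟩, rfl⟩⟩⟩
  have key : ∀ s' : S.obj.obj (op O), F.obj.map (homOfLE (inf_le_inf_right V' h)).op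
      (F.obj.map (homOfLE (im_inOpen (V := V) V').ge).op s') = 0 ↔
        S.obj.map (homOfLE (inf_le_left : O ⊓ U ≤ O)).op s' = 0 := by
    intro s'
    have e : F.obj.map (homOfLE hO.le).op (F.obj.map (homOfLE (inf_le_inf_right V' h)).op
        (F.obj.map (homOfLE (im_inOpen (V := V) V').ge).op s')) =
          S.obj.map (homOfLE (inf_le_left : O ⊓ U ≤ O)).op s' := by
      rw [← ConcreteCategory.comp_apply, ← ConcreteCategory.comp_apply, ← F.obj.map_comp, ← F.obj.map_comp]
      rfl
    haveI : IsIso (homOfLE hO.le) := ⟨homOfLE hO.ge, Subsingleton.elim _ _, Subsingleton.elim _ _⟩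
    rw [← e, map_eq_zero_iff _ (ConcreteCategory.bijective_of_isIso (F.obj.map (homOfLE hO.le).op)).1]
  constructor
  · rintro ⟨t, rfl⟩
    refine (key _).mpr ((unit_app_eq_zero_iff U O S _).mp ?_)
    exact ConcreteCategory.congr_hom (NatTrans.congr_app (congrArg InducedCategory.Hom.hom (kernel.condition η)) (op O)) t
  · intro hs
    haveI : IsIso (homOfLE (im_inOpen (V := V) V').ge) :=
      ⟨homOfLE (im_inOpen (V := V) V').le, Subsingleton.elim _ _, Subsingleton.elim _ _⟩
    obtain ⟨s', rfl⟩ := (ConcreteCategory.bijective_of_isIso (F.obj.map (homOfLE (im_inOpen (V := V) V').ge).op)).2 s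
    have hz := (unit_app_eq_zero_iff U O S s').mpr ((key s').mp hs)
    obtain ⟨φ, rfl⟩ := (sect O S).surjective s'
    replace hz : φ ≫ η = 0 := (sect O _).injective (((sect_comp φ η).trans hz).trans (map_zero _).symm)
    refine ⟨sect O _ (kernel.lift η φ hz), ?_⟩
    exact congrArg _ ((sect_comp (kernel.lift η φ hz) (kernel.ι η)).symm.trans
      (congrArg (sect O S) (kernel.lift_ι η φ hz)))

theorem exists_β (F : CohTop.Ab X) (V' : Opens X) (x : (zqFun h).obj V' ⟶ F) :
    ∃ t, β h F V' t = α h F V' x :=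
  (β_range h F V' (α h F V' x)).mpr ((α_range h F V' _).mp ⟨x, rfl⟩)

/-- The comparison from maps out of the quotient to sections with support. -/
noncomputable def γ (F : CohTop.Ab X) (V' : Opens X) :
    ((G h).obj F).obj (op V') ⟶ ((SuppFam.sectSuppLC h).obj F).obj.obj (op V') :=
  AddCommGrpCat.ofHom <| AddMonoidHom.mk' (fun x => (exists_β h F V' x).choose)
    (fun x y => β_injective h F V' ((exists_β h F V' (x + y)).choose_spec.trans
      ((α_add h F V' x y).trans (((congr_arg₂ (· + ·) (exists_β h F V' x).choose_spec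
        (exists_β h F V' y).choose_spec).symm.trans (map_add _ _ _).symm)))))

theorem β_γ (F : CohTop.Ab X) (V' : Opens X) (x : (zqFun h).obj V' ⟶ F) :
    β h F V' (γ h F V' x) = α h F V' x :=
  (exists_β h F V' x).choose_spec

instance isIso_γ (F : CohTop.Ab X) (V' : Opens X) : IsIso (γ h F V') := by
  refine (ConcreteCategory.isIso_iff_bijective _).mpr ⟨fun x y e => α_injective h F V' ?_, fun t => ?_⟩
  · rw [← β_γ h F V' x, ← β_γ h F V' y, e]
  · obtain ⟨x, hx⟩ := (α_range h F V' (β h F V' t)).mpr ((β_range h F V' _).mp ⟨t, rfl⟩)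
    exact ⟨x, β_injective h F V' ((β_γ h F V' x).trans hx)⟩

/-- Maps out of the quotient are the sections with support. -/
noncomputable def gIso : G h ≅ SuppFam.sectSuppLC h ⋙ sheafToPresheaf _ _ :=
  NatIso.ofComponents
    (fun F => NatIso.ofComponents (fun V' => asIso (γ h F V'.unop)) (fun {A B} g => by
      ext x
      refine β_injective h F B.unop ?_
      refine (β_γ h F B.unop _).trans ?_
      refine (α_res h F g.unop x).trans ?_
      refine (congrArg _ (β_γ h F A.unop x).symm).trans ?_
      exact (β_res h F g.unop _).symm))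
    (fun {F F'} f => by
      refine NatTrans.ext (funext fun V' => ?_)
      ext x
      refine β_injective h F' V'.unop ?_
      refine (β_γ h F' V'.unop _).trans ?_
      refine (α_comp h f V'.unop x).trans ?_
      refine (congrArg _ (β_γ h F V'.unop x).symm).trans ?_
      exact (β_comp h f V'.unop _).symm)

section Homology

theorem extMk_zero_eq_zero {C : Type (u+1)} [Category.{u} C] [Abelian C] [HasExt.{u} C] {A B : C}
    (R : InjectiveResolution B) (f : A ⟶ R.cocomplex.X 0) (hf : f ≫ R.cocomplex.d 0 1 = 0)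
    (h0 : R.extMk f 1 rfl hf = 0) : f = 0 := by
  rw [← R.extEquivCohomologyClass.apply_eq_iff_eq, R.extEquivCohomologyClass_extMk,
    R.extEquivCohomologyClass_zero, CochainComplex.HomComplex.CohomologyClass.mk_eq_zero_iff,
    CochainComplex.HomComplex.Cocycle.fromSingleMk_mem_coboundaries_iff _ _ _ _ _ (-1) (by lia)] at h0
  obtain ⟨g, hg⟩ := h0
  have hz : g = 0 := (CochainComplex.isZero_of_isStrictlyGE R.cochainComplex 0 (-1) (by lia)).eq_of_tgt g 0
  rw [hz, zero_comp] at hg
  rw [← cancel_mono (R.cochainComplexXIso 0 0 rfl).inv, zero_comp]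
  exact hg.symm

variable {F : CohTop.Ab X} (R : InjectiveResolution F) (q : ℕ)

/-- The complex of presheaves attached to a resolution. -/
noncomputable abbrev cx : CochainComplex ((Opens X)ᵒᵖ ⥤ AddCommGrpCat.{u}) ℕ :=
  ((G h).mapHomologicalComplex _).obj R.cocomplex

theorem extMk_congr {A : CohTop.Ab X} {f f' : A ⟶ R.cocomplex.X q} {hf : f ≫ R.cocomplex.d q (q + 1) = 0}
    {hf' : f' ≫ R.cocomplex.d q (q + 1) = 0} (e : f = f') :
    R.extMk f (q + 1) rfl hf = R.extMk f' (q + 1) rfl hf' := by
  subst e; rfl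

theorem icycles_d (V' : (Opens X)ᵒᵖ) (x : ((cx h R).cycles q).obj V') :
    (show (zqFun h).obj V'.unop ⟶ R.cocomplex.X q from ((cx h R).iCycles q).app V' x) ≫
      R.cocomplex.d q (q + 1) = 0 := by
  exact ConcreteCategory.congr_hom (NatTrans.congr_app ((cx h R).iCycles_d q (q + 1)) V') x

/-- The class of a cocycle. -/
noncomputable def θapp (V' : (Opens X)ᵒᵖ) :
    ((cx h R).cycles q).obj V' ⟶ (SuppFam.HZpre F q h).obj V' :=
  AddCommGrpCat.ofHom <| AddMonoidHom.mk'
    (fun x => R.extMk (show (zqFun h).obj V'.unop ⟶ R.cocomplex.X q from ((cx h R).iCycles q).app V' x)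
      (q + 1) rfl (icycles_d h R q V' x))
    (fun x y => by
      rw [R.add_extMk]
      congr 1
      exact map_add _ x y)

/-- The class map, natural in the open. -/
noncomputable def θ : (cx h R).cycles q ⟶ SuppFam.HZpre F q h where
  app := θapp h R q
  naturality {A B} g := by
    ext x
    refine Eq.trans ?_ (R.mk₀_comp_extMk _ _ rfl (icycles_d h R q A x) ((zqFun h).map g.unop)).symm
    exact extMk_congr R q (hf := icycles_d h R q B (((cx h R).cycles q).map g x)) (ConcreteCategory.congr_hom (((cx h R).iCycles q).naturality g) x)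

instance epi_θ : Epi (θ h R q) := by
  haveI : ∀ V', Epi ((θ h R q).app V') := fun V' => by
    rw [AddCommGrpCat.epi_iff_surjective]
    intro a
    obtain ⟨f, hf, rfl⟩ := R.extMk_surjective a (q + 1) rfl
    have hex := ((ShortComplex.exact_of_f_is_kernel
      (ShortComplex.mk ((cx h R).iCycles q) ((cx h R).d q (q + 1)) ((cx h R).iCycles_d q (q + 1)))
      ((cx h R).cyclesIsKernel q (q + 1) (ComplexShape.next_eq' _ rfl)))).map
      ((evaluation (Opens X)ᵒᵖ AddCommGrpCat.{u}).obj V')
    rw [ShortComplex.ab_exact_iff] at hex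
    obtain ⟨x, hx⟩ := hex f hf
    refine ⟨x, ?_⟩
    exact extMk_congr R q (hf := icycles_d h R q V' x) hx
  exact NatTrans.epi_of_epi_app _

theorem toCycles_θ (p : ℕ) (hp : p + 1 = q) : (cx h R).toCycles p q ≫ θ h R q = 0 := by
  ext V' x
  refine (R.extMk_eq_zero_iff _ _ rfl (icycles_d h R q V' (((cx h R).toCycles p q).app V' x)) p hp).mpr ⟨x, ?_⟩
  exact (ConcreteCategory.congr_hom (NatTrans.congr_app ((cx h R).toCycles_i p q) V') x).symm

theorem mono_iCycles_app (V' : (Opens X)ᵒᵖ) : Function.Injective (((cx h R).iCycles q).app V') :=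
  (AddCommGrpCat.mono_iff_injective _).1
    (inferInstanceAs (Mono (((evaluation (Opens X)ᵒᵖ AddCommGrpCat.{u}).obj V').map ((cx h R).iCycles q))))

theorem exact_θ (p : ℕ) (hp : p + 1 = q) : (ShortComplex.mk _ _ (toCycles_θ h R q p hp)).Exact := by
  rw [ShortComplex.exact_iff_isZero_homology]
  refine Functor.isZero _ fun V' => ?_
  let E := (evaluation (Opens X)ᵒᵖ AddCommGrpCat.{u}).obj V'
  refine IsZero.of_iso ?_ ((ShortComplex.mk _ _ (toCycles_θ h R q p hp)).mapHomologyIso E).symm
  refine (ShortComplex.exact_iff_isZero_homology _).mp ((ShortComplex.ab_exact_iff _).mpr fun x hx => ?_)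
  obtain ⟨g, hg⟩ := (R.extMk_eq_zero_iff _ _ rfl (icycles_d h R q V' x) p hp).mp hx
  refine ⟨g, mono_iCycles_app h R q V' ?_⟩
  exact (ConcreteCategory.congr_hom (NatTrans.congr_app ((cx h R).toCycles_i p q) V') g).trans hg

/-- The homology of the complex of presheaves is the presheaf of cohomology with supports. -/
theorem nonempty_homology_iso : Nonempty ((cx h R).homology q ≅ SuppFam.HZpre F q h) := by
  rcases q with _ | p
  · haveI : Mono (θ h R 0) := by
      haveI : ∀ V', Mono ((θ h R 0).app V') := fun V' => by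
        rw [AddCommGrpCat.mono_iff_injective, injective_iff_map_eq_zero]
        intro x hx
        refine mono_iCycles_app h R 0 V' ?_
        rw [map_zero]
        exact extMk_zero_eq_zero R _ (icycles_d h R 0 V' x) hx
      exact NatTrans.mono_of_mono_app _
    haveI : IsIso (θ h R 0) := isIso_of_mono_of_epi _
    exact ⟨((cx h R).isoHomologyπ 0 0 CochainComplex.prev_nat_zero ((cx h R).shape 0 0 (by simp))).symm ≪≫ asIso (θ h R 0)⟩
  · exact ⟨((cx h R).homologyIsCokernel p (p + 1) (CochainComplex.prev_nat_succ p)).coconePointUniqueUpToIso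
      ((exact_θ h R (p + 1) p rfl).gIsCokernel)⟩

end Homology

/-- The local cohomology sheaf is the sheafified presheaf. -/
theorem nonempty_HZshLC_iso (F : CohTop.Ab X) (q : ℕ) :
    Nonempty ((SuppFam.HZshLC h q).obj F ≅
      (presheafToSheaf (Opens.grothendieckTopology X) AddCommGrpCat.{u}).obj (SuppFam.HZpre F q h)) := by
  let R := InjectiveResolution.of F
  let L := presheafToSheaf (Opens.grothendieckTopology X) AddCommGrpCat.{u}
  obtain ⟨e⟩ := nonempty_homology_iso h R q
  haveI : L.Additive := inferInstance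
  haveI : L.PreservesHomology := inferInstance
  let τ : SuppFam.sectSuppLC h ≅ G h ⋙ L :=
    (Functor.rightUnitor _).symm ≪≫
      Functor.isoWhiskerLeft _ (asIso (sheafificationAdjunction (Opens.grothendieckTopology X) AddCommGrpCat.{u}).counit).symm ≪≫
      (Functor.associator _ _ _).symm ≪≫ Functor.isoWhiskerRight (gIso h).symm L
  exact ⟨R.isoRightDerivedObj (SuppFam.sectSuppLC h) q ≪≫
    (HomologicalComplex.homologyFunctor _ _ q).mapIso ((NatIso.mapHomologicalComplex τ _).app R.cocomplex) ≪≫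
    ((cx h R).sc q).mapHomologyIso L ≪≫ L.mapIso e⟩

end Groth.Agent.H25SuppPre
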