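import Groth.Agent.H25Param.SingForms

/-!
Forms tangent to two given linear subspaces at two given points.
-/

set_option autoImplicit false
universe u

namespace Groth.Agent.H25TangentForms
open MvPolynomial LefPen H25Param

variable {k : Type u} [Field k] {r d : ℕ}

/-- value and differential along `W` at `v`. -/
noncomputable def T (W : Submodule k (Fin (r + 1) → k)) (v : Fin (r + 1) → k) :
    Form r k d →ₗ[k] k × Module.Dual k W :=
  LinearMap.prod ((aeval v).toLinearMap ∘ₗ (CohB1.polyGrading r k d).subtype)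
    (∑ i : Fin (r + 1), ((aeval v).toLinearMap ∘ₗ (pderiv i).toLinearMap ∘ₗ
      (CohB1.polyGrading r k d).subtype).smulRight ((LinearMap.proj i).comp W.subtype))

theorem T_fst (W : Submodule k (Fin (r + 1) → k)) (v : Fin (r + 1) → k) (G : Form r k d) :
    (T W v G).1 = eval v G.1 := rfl

theorem T_snd (W : Submodule k (Fin (r + 1) → k)) (v : Fin (r + 1) → k) (G : Form r k d) (w : W) :
    (T W v G).2 w = ∑ i, w.1 i * eval v (pderiv i G.1) := by
  simp [T, LinearMap.sum_apply, aeval_eq_eval, mul_comm]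

theorem ker_tangLin (W : Submodule k (Fin (r + 1) → k)) (v : Fin (r + 1) → k) :
    LinearMap.ker (tangLin k (d := d) W v) = LinearMap.ker (T W v) := by
  ext G
  simp only [LinearMap.mem_ker, Prod.ext_iff, Prod.fst_zero, Prod.snd_zero, funext_iff,
    LinearMap.ext_iff, T_fst, T_snd]
  simp [tangLin, LinearMap.sum_apply, aeval_eq_eval]

theorem sum_coe_pderiv {G : MvPolynomial (Fin (r + 1)) k} {e : ℕ} (hG : G.IsHomogeneous e)
    (v : Fin (r + 1) → k) : ∑ i, v i * eval v (pderiv i G) = e * eval v G := by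
  have h := congrArg (eval v) hG.sum_X_mul_pderiv
  simpa [nsmul_eq_mul] using h

/-- the target of `T`. -/
noncomputable def ξ (d : ℕ) (W : Submodule k (Fin (r + 1) → k)) {v : Fin (r + 1) → k}
    (hv : v ∈ W) : k × Module.Dual k W →ₗ[k] k :=
  (Module.Dual.eval k W ⟨v, hv⟩).comp (LinearMap.snd k k _) - (d : k) • LinearMap.fst k k _

theorem mem_ker_ξ {W : Submodule k (Fin (r + 1) → k)} {v : Fin (r + 1) → k} {hv : v ∈ W}
    {x : k × Module.Dual k W} : x ∈ LinearMap.ker (ξ d W hv) ↔ x.2 ⟨v, hv⟩ = d * x.1 := by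
  simp [ξ, sub_eq_zero]

theorem exists_dual_one {V : Type u} [AddCommGroup V] [Module k V] {p : Submodule k V} {v : V}
    (hv : v ∉ p) : ∃ μ : Module.Dual k V, μ v = 1 ∧ ∀ x ∈ p, μ x = 0 := by
  obtain ⟨f, hf, hmap⟩ := Submodule.exists_dual_map_eq_bot_of_notMem hv inferInstance
  refine ⟨(f v)⁻¹ • f, by simp [hf], fun x hx => ?_⟩
  have : f x = 0 := by
    rw [← Submodule.mem_bot k, ← hmap]
    exact Submodule.mem_map_of_mem hx
  simp [this]

theorem finrank_ker_ξ (d : ℕ) (W : Submodule k (Fin (r + 1) → k)) {v : Fin (r + 1) → k}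
    (hv : v ∈ W) (hv0 : v ≠ 0) :
    Module.finrank k (LinearMap.ker (ξ d W hv)) = Module.finrank k W := by
  obtain ⟨μ, hμ, -⟩ := exists_dual_one (p := (⊥ : Submodule k W)) (v := ⟨v, hv⟩)
    (by simpa using hv0)
  have hsurj : Function.Surjective (ξ d W hv) := fun a => ⟨(0, a • μ), by simp [ξ, hμ]⟩
  have h := LinearMap.finrank_range_add_finrank_ker (ξ d W hv)
  rw [LinearMap.range_eq_top.mpr hsurj, finrank_top, Module.finrank_prod, Module.finrank_self,
    Subspace.dual_finrank_eq] at h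
  omega

theorem T_mem (W : Submodule k (Fin (r + 1) → k)) {v : Fin (r + 1) → k} (hv : v ∈ W)
    (G : Form r k d) : T W v G ∈ LinearMap.ker (ξ d W hv) := by
  rw [mem_ker_ξ, T_fst, T_snd]
  exact sum_coe_pderiv G.2 v

/-- the two-point map. -/
noncomputable def T₂ (W₁ W₂ : Submodule k (Fin (r + 1) → k)) {v₁ v₂ : Fin (r + 1) → k}
    (h₁ : v₁ ∈ W₁) (h₂ : v₂ ∈ W₂) :
    Form r k d →ₗ[k] LinearMap.ker (ξ d W₁ h₁) × LinearMap.ker (ξ d W₂ h₂) :=
  LinearMap.prod ((T W₁ v₁).codRestrict _ (T_mem W₁ h₁)) ((T W₂ v₂).codRestrict _ (T_mem W₂ h₂))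

theorem ker_T₂ (W₁ W₂ : Submodule k (Fin (r + 1) → k)) {v₁ v₂ : Fin (r + 1) → k}
    (h₁ : v₁ ∈ W₁) (h₂ : v₂ ∈ W₂) :
    LinearMap.ker (T₂ (d := d) W₁ W₂ h₁ h₂) = tangentForms k d W₁ v₁ W₂ v₂ := by
  rw [T₂, LinearMap.ker_prod, LinearMap.ker_codRestrict, LinearMap.ker_codRestrict,
    tangentForms, ker_tangLin, ker_tangLin]

/-- `a^(d-1) l` with `l` prescribed: its value and differential at a point `u`. -/
theorem exists_form (hd : 1 ≤ d) (a l : (Fin (r + 1) → k) →ₗ[k] k) :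
    ∃ G : Form r k d, (∀ u, eval u G.1 = a u ^ (d - 1) * l u) ∧
      ∀ u w, ∑ i, w i * eval u (pderiv i G.1) =
        ((d - 1 : ℕ) : k) * a u ^ (d - 1 - 1) * a w * l u + a u ^ (d - 1) * l w := by
  have hhom : (linPoly a ^ (d - 1) * linPoly l).IsHomogeneous d := by
    have h := ((isHomogeneous_linPoly a).pow (d - 1)).mul (isHomogeneous_linPoly l)
    rwa [show 1 * (d - 1) + 1 = d by omega] at h
  refine ⟨⟨_, hhom⟩, fun u => by simp [eval_linPoly], fun u w => ?_⟩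
  simp only [pderiv_mul, pderiv_pow, pderiv_linPoly, map_add, map_mul, map_pow, map_natCast,
    eval_linPoly, eval_C, mul_add, Finset.sum_add_distrib]
  rw [← sum_mul_single a w, ← sum_mul_single l w, Finset.mul_sum, Finset.sum_mul, Finset.mul_sum]
  congr 1 <;> exact Finset.sum_congr rfl fun i _ => by ring

/-- hit a prescribed value at the first point, nothing at the second. -/
theorem exists_form_one (hd : 2 ≤ d) {W₁ W₂ : Submodule k (Fin (r + 1) → k)}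
    {v₁ v₂ : Fin (r + 1) → k} (h₁ : v₁ ∈ W₁) (hv : LinearIndependent k ![v₁, v₂])
    (e : k × Module.Dual k W₁) (he : e.2 ⟨v₁, h₁⟩ = d * e.1)
    (hc : 3 ≤ d ∨ ∀ h : v₂ ∈ W₁, e.2 ⟨v₂, h⟩ = 0) :
    ∃ G : Form r k d, T W₁ v₁ G = e ∧ T W₂ v₂ G = 0 := by
  have hnp : v₁ ∉ Submodule.span k {v₂} := by
    rw [Submodule.mem_span_singleton]
    rintro ⟨c, hc'⟩
    exact one_ne_zero ((LinearIndependent.pair_iff.mp hv 1 (-c) (by simp [← hc'])).1)
  obtain ⟨a, ha₁, ha₂⟩ := exists_dual_one hnp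
  have ha₂' : a v₂ = 0 := ha₂ v₂ (Submodule.mem_span_singleton_self v₂)
  obtain ⟨l', hl'⟩ := LinearMap.exists_extend (e.2 - (((d - 1 : ℕ) : k) * e.1) • a.comp W₁.subtype)
  have hl'W : ∀ w : W₁, l' w.1 = e.2 w - ((d - 1 : ℕ) : k) * e.1 * a w.1 := fun w => by
    simpa [mul_assoc] using LinearMap.congr_fun hl' w
  obtain ⟨l, hlW, hl₂⟩ : ∃ l : (Fin (r + 1) → k) →ₗ[k] k,
      (∀ w : W₁, l w.1 = l' w.1) ∧ (3 ≤ d ∨ l v₂ = 0) := by
    by_cases hmem : v₂ ∈ W₁
    · exact ⟨l', fun _ => rfl, hc.imp id fun h => by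
        have := hl'W ⟨v₂, hmem⟩
        simp only [ha₂', mul_zero, sub_zero, h hmem] at this
        exact this⟩
    · obtain ⟨μ, hμ, hμW⟩ := exists_dual_one hmem
      exact ⟨l' - l' v₂ • μ, fun w => by simp [hμW w.1 w.2], Or.inr (by simp [hμ])⟩
  have hl₁ : l v₁ = e.1 := by
    rw [hlW ⟨v₁, h₁⟩, hl'W, he]
    change (d : k) * e.1 - ((d - 1 : ℕ) : k) * e.1 * a v₁ = e.1
    rw [ha₁, Nat.cast_sub (by omega)]
    push_cast
    ring
  obtain ⟨G, hG, hDG⟩ := exists_form (d := d) (by omega) a l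
  refine ⟨G, ?_, ?_⟩
  · refine Prod.ext ?_ (LinearMap.ext fun w => ?_)
    · rw [T_fst, hG, ha₁, hl₁, one_pow, one_mul]
    · rw [T_snd, hDG, ha₁, hl₁, hlW, hl'W, one_pow, one_pow]
      ring
  · refine Prod.ext ?_ (LinearMap.ext fun w => ?_)
    · rw [T_fst, hG, ha₂', zero_pow (by omega), zero_mul]; rfl
    · rw [T_snd, hDG, ha₂', zero_pow (by omega : d - 1 ≠ 0)]
      change _ = (0 : k)
      rcases hl₂ with h | h
      · rw [zero_pow (by omega : d - 1 - 1 ≠ 0)]; ring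
      · rw [h]; ring

theorem pderiv_pderiv_comm (i j : Fin (r + 1)) (f : MvPolynomial (Fin (r + 1)) k) :
    pderiv i (pderiv j f) = pderiv j (pderiv i f) := by
  classical
  induction f using MvPolynomial.induction_on with
  | C a => simp
  | add p q hp hq => simp [hp, hq]
  | mul_X p l hp =>
    simp only [pderiv_mul, map_add, hp, pderiv_X]
    simp only [Pi.single_apply]; split_ifs <;> simp <;> ring

/-- for quadrics the polar pairing is symmetric. -/
theorem polar_comm {G : MvPolynomial (Fin (r + 1)) k} (hG : G.IsHomogeneous 2)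
    (v w : Fin (r + 1) → k) :
    ∑ i, w i * eval v (pderiv i G) = ∑ i, v i * eval w (pderiv i G) := by
  have h2 : ∀ i, (pderiv i G).IsHomogeneous 1 := fun i => hG.pderiv
  have hlin : ∀ (u : Fin (r + 1) → k) (i : Fin (r + 1)),
      eval u (pderiv i G) = ∑ j, u j * constantCoeff (pderiv j (pderiv i G)) := by
    intro u i
    have h := sum_coe_pderiv (h2 i) u
    rw [Nat.cast_one, one_mul] at h
    rw [← h]
    refine Finset.sum_congr rfl fun j _ => ?_
    congr 1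
    have h0 : (pderiv j (pderiv i G)).IsHomogeneous 0 := (h2 i).pderiv
    rw [← totalDegree_zero_iff_isHomogeneous, totalDegree_eq_zero_iff_eq_C] at h0
    rw [h0]; simp
  simp only [hlin, Finset.mul_sum]
  rw [Finset.sum_comm]
  refine Finset.sum_congr rfl fun j _ => Finset.sum_congr rfl fun i _ => ?_
  rw [pderiv_pderiv_comm]
  ring

theorem surj_pair (hd : 2 ≤ d) {W₁ W₂ : Submodule k (Fin (r + 1) → k)} {v₁ v₂ : Fin (r + 1) → k}
    (h₁ : v₁ ∈ W₁) (h₂ : v₂ ∈ W₂) (hv : LinearIndependent k ![v₁, v₂])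
    (e₁ : LinearMap.ker (ξ d W₁ h₁)) (e₂ : LinearMap.ker (ξ d W₂ h₂))
    (hc : 3 ≤ d ∨ ∀ h : v₂ ∈ W₁, d = 2 ∧ ∀ h' : v₁ ∈ W₂, e₁.1.2 ⟨v₂, h⟩ = e₂.1.2 ⟨v₁, h'⟩)
    (hc' : 3 ≤ d ∨ v₂ ∉ W₁ ∨ v₁ ∈ W₂) :
    ∃ G, T₂ W₁ W₂ h₁ h₂ G = (e₁, e₂) := by
  have hv' : LinearIndependent k ![v₂, v₁] := LinearIndependent.pair_symm_iff.mp hv
  obtain ⟨G₂, hG₂⟩ : ∃ G : Form r k d, T W₂ v₂ G = e₂.1 ∧
      (3 ≤ d ∨ ∀ h : v₂ ∈ W₁, (T W₁ v₁ G).2 ⟨v₂, h⟩ = e₁.1.2 ⟨v₂, h⟩) := by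
    obtain ⟨b, hb₂, hb⟩ := exists_dual_one (p := Submodule.span k {v₁}) (v := v₂) (by
      rw [Submodule.mem_span_singleton]
      rintro ⟨c, hc''⟩
      exact one_ne_zero ((LinearIndependent.pair_iff.mp hv' 1 (-c) (by simp [← hc''])).1))
    obtain ⟨l, hl⟩ := LinearMap.exists_extend
      (e₂.1.2 - (((d - 1 : ℕ) : k) * e₂.1.1) • b.comp W₂.subtype)
    have hlW : ∀ w : W₂, l w.1 = e₂.1.2 w - ((d - 1 : ℕ) : k) * e₂.1.1 * b w.1 := fun w => by
      simpa [mul_assoc] using LinearMap.congr_fun hl w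
    obtain ⟨G, hG, hDG⟩ := exists_form (d := d) (by omega) b l
    have hl2 : l v₂ = e₂.1.1 := by
      rw [hlW ⟨v₂, h₂⟩, mem_ker_ξ.mp e₂.2]
      change (d : k) * e₂.1.1 - ((d - 1 : ℕ) : k) * e₂.1.1 * b v₂ = e₂.1.1
      rw [hb₂, Nat.cast_sub (by omega)]
      push_cast
      ring
    refine ⟨G, Prod.ext ?_ (LinearMap.ext fun w => ?_), ?_⟩
    · rw [T_fst, hG, hb₂, hl2, one_pow, one_mul]
    · rw [T_snd, hDG, hb₂, hl2, hlW, one_pow, one_pow]; ring
    · by_cases hd3 : 3 ≤ d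
      · exact Or.inl hd3
      refine Or.inr fun hmem => ?_
      have hd2 : d = 2 := by omega
      subst hd2
      rcases hc' with h | h | h
      · exact absurd h hd3
      · exact absurd hmem h
      · rcases hc with h3 | h3
        · exact absurd h3 hd3
        rw [(h3 hmem).2 h, T_snd, polar_comm G.2, hDG, hb₂, hl2, hlW ⟨v₁, h⟩]
        norm_num [hb v₁ (Submodule.mem_span_singleton_self v₁)]
  obtain ⟨hG₂, hG₂'⟩ := hG₂
  obtain ⟨G₁, hG₁, hG₁'⟩ := exists_form_one (W₂ := W₂) hd h₁ hv (e₁.1 - T W₁ v₁ G₂)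
    (mem_ker_ξ.mp (Submodule.sub_mem _ e₁.2 (T_mem W₁ h₁ G₂)))
    (hG₂'.imp id fun h hm => by simp [h hm])
  refine ⟨G₁ + G₂, Prod.ext (Subtype.ext ?_) (Subtype.ext ?_)⟩
  · change T W₁ v₁ (G₁ + G₂) = e₁.1
    rw [map_add, hG₁, sub_add_cancel]
  · change T W₂ v₂ (G₁ + G₂) = e₂.1
    rw [map_add, hG₁', hG₂, zero_add]

end Groth.Agent.H25TangentForms
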