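import Groth.Statements.S14943
import Groth.Agent.H25AbCube.FrobEnd

set_option autoImplicit false
set_option linter.style.haveILetI false
set_option backward.isDefEq.respectTransparency false
set_option synthInstance.maxHeartbeats 200000
universe u
open CategoryTheory MonoidalCategory CartesianMonoidalCategory MonObj GrpObj AlgebraicGeometry
open AbVar
open scoped TensorProduct

namespace Groth.Agent.S14943

/-- Let A be an abelian variety over a finite field k with q elements (a proper, geometrically integral
commutative group scheme over k), π_A its q-Frobenius endomorphism (the identity on points and the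
q-th power map on sections; a homomorphism), Ω an algebraic closure of k and l a prime invertible in
k. Then the Frobenius endomorphism acts semisimply on V_l(A) = ℚ_l ⊗_{ℤ_l} T_l(A), T_l(A) the l-adic
Tate module of Ω-points: the ℚ_l-linear endomorphism ℚ_l ⊗ T_l(π_A) is semisimple. (The published
statement is that ℚ[π_A] ⊆ ℚ ⊗ End_k(A) is a semisimple algebra, hence acts semisimply in every
representation over a field of characteristic zero; this row states that action on V_l(A).) -/
theorem result (k Ω : Type u) [Field k] [Finite k] [Field Ω] [Algebra k Ω] [IsAlgClosure k Ω]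
    (l : ℕ) [Fact l.Prime] (hl : (l : k) ≠ 0) (A : Over (Spec (CommRingCat.of k)))
    [GrpObj A] [IsCommMonObj A] [IsProper A.hom] [GeometricallyIntegral A.hom]
    (πA : A ⟶ A) [IsMonHom πA] (hπAb : πA.left.base = 𝟙 _)
    (hπAle : ∀ U : A.left.Opens, U ≤ πA.left ⁻¹ᵁ U)
    (hπAapp : ∀ (U : A.left.Opens) (s : Γ(A.left, U)), (πA.left.appLE U U (hπAle U)).hom s = s ^ Nat.card k) :
    Module.End.IsSemisimple ((AbDual.tateMapₗ (l := l) (T := SGA7.pt Ω) πA).baseChange ℚ_[l]) := by
  obtain ⟨p, hp, hp0⟩ := Groth.Agent.H25AbCube.frob_semisimple_poly (Nat.card k) πA hπAb hπAle hπAapp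
  let E := Module.End ℚ_[l] (ℚ_[l] ⊗[ℤ_[l]] AbDual.TateMod A l (SGA7.pt Ω))
  let F : EndAV.End A →+* E :=
    (Module.End.baseChangeHom ℤ_[l] ℚ_[l] (AbDual.TateMod A l (SGA7.pt Ω))).toRingHom.comp
      (EndAV.End.tateRep l (SGA7.pt Ω))
  letI : Algebra ℚ E := ((algebraMap ℚ_[l] E).comp (algebraMap ℚ ℚ_[l])).toAlgebra'
    fun c x => Algebra.commutes _ x
  haveI : IsScalarTower ℚ ℚ_[l] E := IsScalarTower.of_algebraMap_eq' rfl
  let F' : EndAV.End A →ₐ[ℤ] E := { F with
    commutes' := fun n => by
      show F (algebraMap ℤ (EndAV.End A) n) = _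
      rw [Algebra.algebraMap_eq_smul_one, map_zsmul, map_one, Algebra.algebraMap_eq_smul_one] }
  let G : EndAV.End0 A →ₐ[ℚ] E :=
    Algebra.TensorProduct.lift (Algebra.ofId ℚ E) F' fun r x => Algebra.commutes r (F' x)
  have hG : G (EndAV.toEnd0 (EndAV.End.of πA)) = F (EndAV.End.of πA) := by
    rw [EndAV.toEnd0_apply]
    show Algebra.TensorProduct.lift _ _ _ _ = _
    rw [Algebra.TensorProduct.lift_tmul, map_one, _root_.one_mul]
    rfl
  refine Module.End.isSemisimple_of_squarefree_aeval_eq_zero (p := p.map (algebraMap ℚ ℚ_[l]))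
    (((Polynomial.separable_map _).2 (PerfectField.separable_iff_squarefree.2 hp)).squarefree) ?_
  rw [Polynomial.aeval_map_algebraMap]
  have h := congrArg G hp0
  rw [← Polynomial.aeval_algHom_apply, hG, map_zero] at h
  exact h

end Groth.Agent.S14943
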