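import Groth.Statements.S14944
import Groth.Agent.H25AbCube.FrobEnd
import Groth.Agent.H25AbCube.GeomCharPoly
import Groth.Agent.H25AbCube.Centralizer

set_option autoImplicit false
set_option linter.style.haveILetI false
set_option backward.isDefEq.respectTransparency false
set_option synthInstance.maxHeartbeats 200000
set_option maxHeartbeats 1000000
universe u
open CategoryTheory MonoidalCategory CartesianMonoidalCategory MonObj GrpObj AlgebraicGeometry
open scoped TensorProduct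
open AbVar
open scoped TensorProduct

namespace Groth.Agent.S14944

/-- Let A be an abelian variety over a finite field k with q elements (a proper, geometrically integral
commutative group scheme over k), π_A its q-Frobenius endomorphism (the identity on points and the
q-th power map on sections; a homomorphism), Ω an algebraic closure of k, and l₁, l₂ primes
invertible in k; assume (as is the case) that the l_i-adic Tate modules of Ω-points are free of
finite rank. Then the dimension over ℚ_l of the space of ℚ_l-linear endomorphisms of V_l(A) = ℚ_l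
⊗_{ℤ_l} T_l(A) commuting with V_l(π_A) — the endomorphisms commuting with the Galois action — does
not depend on l: it is the same number for l₁ and l₂. -/
theorem result (k Ω : Type u) [Field k] [Finite k] [Field Ω] [Algebra k Ω] [IsAlgClosure k Ω]
    (A : Over (Spec (CommRingCat.of k)))
    [GrpObj A] [IsCommMonObj A] [IsProper A.hom] [GeometricallyIntegral A.hom]
    (πA : A ⟶ A) [IsMonHom πA] (hπAb : πA.left.base = 𝟙 _)
    (hπAle : ∀ U : A.left.Opens, U ≤ πA.left ⁻¹ᵁ U)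
    (hπAapp : ∀ (U : A.left.Opens) (s : Γ(A.left, U)), (πA.left.appLE U U (hπAle U)).hom s = s ^ Nat.card k)
    (l₁ l₂ : ℕ) [Fact l₁.Prime] [Fact l₂.Prime] (h₁ : (l₁ : k) ≠ 0) (h₂ : (l₂ : k) ≠ 0)
    [Module.Free ℤ_[l₁] (AbDual.TateMod A l₁ (SGA7.pt Ω))] [Module.Finite ℤ_[l₁] (AbDual.TateMod A l₁ (SGA7.pt Ω))]
    [Module.Free ℤ_[l₂] (AbDual.TateMod A l₂ (SGA7.pt Ω))] [Module.Finite ℤ_[l₂] (AbDual.TateMod A l₂ (SGA7.pt Ω))] :
    Module.finrank ℚ_[l₁] (LinearMap.ker (LinearMap.lcomp ℚ_[l₁] _ ((AbDual.tateMapₗ (l := l₁) (T := SGA7.pt Ω) πA).baseChange ℚ_[l₁]) -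
          LinearMap.llcomp ℚ_[l₁] _ _ _ ((AbDual.tateMapₗ (l := l₁) (T := SGA7.pt Ω) πA).baseChange ℚ_[l₁]) :
        Module.End ℚ_[l₁] (ℚ_[l₁] ⊗[ℤ_[l₁]] AbDual.TateMod A l₁ (SGA7.pt Ω)) →ₗ[ℚ_[l₁]]
          Module.End ℚ_[l₁] (ℚ_[l₁] ⊗[ℤ_[l₁]] AbDual.TateMod A l₁ (SGA7.pt Ω)))) =
      Module.finrank ℚ_[l₂] (LinearMap.ker (LinearMap.lcomp ℚ_[l₂] _ ((AbDual.tateMapₗ (l := l₂) (T := SGA7.pt Ω) πA).baseChange ℚ_[l₂]) -
          LinearMap.llcomp ℚ_[l₂] _ _ _ ((AbDual.tateMapₗ (l := l₂) (T := SGA7.pt Ω) πA).baseChange ℚ_[l₂]) :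
        Module.End ℚ_[l₂] (ℚ_[l₂] ⊗[ℤ_[l₂]] AbDual.TateMod A l₂ (SGA7.pt Ω)) →ₗ[ℚ_[l₂]]
          Module.End ℚ_[l₂] (ℚ_[l₂] ⊗[ℤ_[l₂]] AbDual.TateMod A l₂ (SGA7.pt Ω)))) := by
  haveI := IsAlgClosure.isAlgClosed k (K := Ω)
  haveI : Algebra.IsAlgebraic k Ω := IsAlgClosure.isAlgebraic
  haveI : IsIntegral A.left := GeometricallyIntegral.isIntegral_of_subsingleton A.hom
  obtain ⟨g, hg⟩ := Groth.Agent.H25Grp.exists_nat_dim A.hom
  obtain ⟨P, -, -, -, hP⟩ := Groth.Agent.H25AbCube.exists_charpoly_pt (Ω := Ω) hg (EndAV.End.of πA)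
  obtain ⟨p, hp, hp0⟩ := Groth.Agent.H25AbCube.frob_semisimple_poly (Nat.card k) πA hπAb hπAle hπAapp
  have key : ∀ (l : ℕ) [Fact l.Prime], (l : k) ≠ 0 → ∀ [Module.Free ℤ_[l] (AbDual.TateMod A l (SGA7.pt Ω))]
      [Module.Finite ℤ_[l] (AbDual.TateMod A l (SGA7.pt Ω))],
      Module.finrank ℚ_[l] (LinearMap.ker (LinearMap.lcomp ℚ_[l] _ ((AbDual.tateMapₗ (l := l) (T := SGA7.pt Ω) πA).baseChange ℚ_[l]) -
          LinearMap.llcomp ℚ_[l] _ _ _ ((AbDual.tateMapₗ (l := l) (T := SGA7.pt Ω) πA).baseChange ℚ_[l]) :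
        Module.End ℚ_[l] (ℚ_[l] ⊗[ℤ_[l]] AbDual.TateMod A l (SGA7.pt Ω)) →ₗ[ℚ_[l]]
          Module.End ℚ_[l] (ℚ_[l] ⊗[ℤ_[l]] AbDual.TateMod A l (SGA7.pt Ω)))) =
        Groth.Agent.H25AbCube.Centralizer.sqMult (P.map (Int.castRingHom (AlgebraicClosure ℚ))) := by
    intro l _ hl _ _
    let E := Module.End ℚ_[l] (ℚ_[l] ⊗[ℤ_[l]] AbDual.TateMod A l (SGA7.pt Ω))
    let F : EndAV.End A →+* E :=
      (Module.End.baseChangeHom ℤ_[l] ℚ_[l] (AbDual.TateMod A l (SGA7.pt Ω))).toRingHom.comp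
        (EndAV.End.tateRep l (SGA7.pt Ω))
    letI : Algebra ℚ E := ((algebraMap ℚ_[l] E).comp (algebraMap ℚ ℚ_[l])).toAlgebra'
      fun c x => Algebra.commutes _ x
    haveI : IsScalarTower ℚ ℚ_[l] E := IsScalarTower.of_algebraMap_eq' rfl
    let F' : EndAV.End A →ₐ[ℤ] E := { F with
      commutes' := fun n => by
        show F (algebraMap ℤ (EndAV.End A) n) = _
        rw [Algebra.algebraMap_eq_smul_one, map_zsmul, map_one, Algebra.algebraMap_eq_smul_one] }
    let G : EndAV.End0 A →ₐ[ℚ] E :=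
      Algebra.TensorProduct.lift (Algebra.ofId ℚ E) F' fun r x => Algebra.commutes r (F' x)
    have hG : G (EndAV.toEnd0 (EndAV.End.of πA)) = F (EndAV.End.of πA) := by
      rw [EndAV.toEnd0_apply]
      show Algebra.TensorProduct.lift _ _ _ _ = _
      rw [Algebra.TensorProduct.lift_tmul, map_one, _root_.one_mul]
      rfl
    have hss : Module.End.IsSemisimple (F (EndAV.End.of πA)) := by
      refine Module.End.isSemisimple_of_squarefree_aeval_eq_zero (p := p.map (algebraMap ℚ ℚ_[l]))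
        (((Polynomial.separable_map _).2 (PerfectField.separable_iff_squarefree.2 hp)).squarefree) ?_
      rw [Polynomial.aeval_map_algebraMap]
      have h := congrArg G hp0
      rw [← Polynomial.aeval_algHom_apply, hG, map_zero] at h
      exact h
    let K := AlgebraicClosure ℚ_[l]
    refine (Groth.Agent.H25AbCube.Centralizer.finrank_centralizer_of_semisimple (F (EndAV.End.of πA)) hss K).trans ?_
    show Groth.Agent.H25AbCube.Centralizer.sqMult ((((EndAV.End.tateRep l (SGA7.pt Ω) (EndAV.End.of πA)).baseChange ℚ_[l]).charpoly).map _) = _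
    rw [LinearMap.charpoly_baseChange, hP l hl, Polynomial.map_map, Polynomial.map_map]
    let i : AlgebraicClosure ℚ →ₐ[ℚ] K := IsAlgClosed.lift
    rw [← Groth.Agent.H25AbCube.Centralizer.sqMult_map i.toRingHom (Int.castRingHom (AlgebraicClosure ℚ)) P]
    congr 2
    exact RingHom.ext_int _ _
  exact (key l₁ h₁).trans (key l₂ h₂).symm

end Groth.Agent.S14944
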