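import Groth.Statements.S14133
import Groth.Agent.H25Dual.DegLam

set_option autoImplicit false
set_option linter.style.haveILetI false
set_option backward.isDefEq.respectTransparency false
set_option synthInstance.maxHeartbeats 200000
universe u
open CategoryTheory CategoryTheory.Limits MonoidalCategory CartesianMonoidalCategory MonObj GrpObj AlgebraicGeometry
open AbVar

namespace Groth.Agent.S14133

/-- Let k be a field, A and B abelian varieties over k (proper smooth k-group schemes with geometrically
connected fibres), f : A → B a homomorphism which is an isogeny, taken here to mean finite, flat and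
surjective, of constant rank d = deg f, and let (A^t, φ_A), (B^t, φ_B) be given dual abelian
varieties for the fppf topology, both abelian varieties, with f^t : B^t → A^t the transpose of f.
Then f^t is again finite, flat and surjective, of the same constant rank d. (The published statement
takes an isogeny to be finite and surjective; flatness, which then holds, is assumed and concluded
explicitly here so that the rank is the degree.) -/
theorem result (k : Type u) [Field k]
    (A At B Bt : Over (Spec (CommRingCat.of k))) [GrpObj A] [IsProper A.hom] [Smooth A.hom] [GeometricallyConnected A.hom]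
    [GrpObj At] [IsProper At.hom] [Smooth At.hom] [GeometricallyConnected At.hom]
    [GrpObj B] [IsProper B.hom] [Smooth B.hom] [GeometricallyConnected B.hom]
    [GrpObj Bt] [IsProper Bt.hom] [Smooth Bt.hom] [GeometricallyConnected Bt.hom]
    (φA : ∀ T : Over (Spec (CommRingCat.of k)), PicF.Cl (PicF.XT A.hom T) → (T ⟶ At))
    (hφA : AbDual.IsDualAV Scheme.fppfPrecoverage A At φA)
    (φB : ∀ T : Over (Spec (CommRingCat.of k)), PicF.Cl (PicF.XT B.hom T) → (T ⟶ Bt))
    (hφB : AbDual.IsDualAV Scheme.fppfPrecoverage B Bt φB)
    (f : A ⟶ B) [IsMonHom f] [IsFinite f.left] [Flat f.left] [Surjective f.left]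
    (d : ℕ) (hd : ∀ y : ↥B.left, Scheme.Hom.finrank f.left y = d)
    (ft : Bt ⟶ At) (hft : AbDual.IsTranspose f φA φB ft) :
    IsFinite ft.left ∧ Flat ft.left ∧ Surjective ft.left ∧
      ∀ x : ↥At.left, Scheme.Hom.finrank ft.left x = d := by
  haveI : GeometricallyIntegral A.hom := Groth.Agent.H25AbCube.geometricallyIntegral_of_smooth A
  haveI : GeometricallyIntegral At.hom := Groth.Agent.H25AbCube.geometricallyIntegral_of_smooth At
  haveI : GeometricallyIntegral B.hom := Groth.Agent.H25AbCube.geometricallyIntegral_of_smooth B
  haveI : GeometricallyIntegral Bt.hom := Groth.Agent.H25AbCube.geometricallyIntegral_of_smooth Bt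
  exact Groth.Agent.H25Dual.transpose_isogeny hφA hφB hft hd

end Groth.Agent.S14133
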