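import Groth.Statements.S2102
import Groth.Agent.H17.Imports
import Mathlib.AlgebraicGeometry.FunctionField
import Mathlib.RingTheory.IntegralClosure.IntegrallyClosed

set_option autoImplicit false
universe u
open CategoryTheory AlgebraicGeometry
open Mor

namespace Groth.Agent.S2102

open CategoryTheory AlgebraicGeometry TopologicalSpace Opposite

/-- The ring of global sections of an integral normal scheme is an integrally closed domain. -/
theorem result (X : Scheme.{u}) [IsIntegral X] (hX : Pi1.IsNormalScheme X) :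
    IsIntegrallyClosed (Γ(X, ⊤) : Type u) := by
  have : Nonempty (⊤ : X.Opens) := by
    obtain ⟨x⟩ := (inferInstance : Nonempty X)
    exact ⟨⟨x, trivial⟩⟩
  set g : Γ(X, ⊤) →+* X.functionField := (X.germToFunctionField ⊤).hom with hg
  have ginj : Function.Injective g := Scheme.germToFunctionField_injective X ⊤
  set φ : FractionRing Γ(X, ⊤) →+* X.functionField := IsFractionRing.lift ginj with hφ
  have hφg : ∀ r, φ (algebraMap Γ(X, ⊤) (FractionRing Γ(X, ⊤)) r) = g r :=
    fun r => IsLocalization.lift_eq _ r
  refine (isIntegrallyClosed_iff (FractionRing Γ(X, ⊤))).2 fun {a} ha => ?_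
  set b : X.functionField := φ a with hb
  -- local sections with germ b
  have hloc : ∀ x : X, ∃ (U : X.Opens) (hx : x ∈ U) (s : Γ(X, U)),
      letI : Nonempty U := ⟨⟨x, hx⟩⟩; X.germToFunctionField U s = b := by
    intro x
    obtain ⟨_, hic⟩ := hX x
    obtain ⟨p, hp, hpa⟩ := ha
    have hcomp : (algebraMap (X.presheaf.stalk x) X.functionField).comp
        (X.presheaf.germ ⊤ x trivial).hom = g := by
      ext r
      exact Scheme.algebraMap_germ_eq_germToFunctionField X (U := ⊤) trivial r
    have hint : IsIntegral (X.presheaf.stalk x) b := by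
      refine ⟨p.map (X.presheaf.germ ⊤ x trivial).hom, hp.map _, ?_⟩
      rw [Polynomial.eval₂_map, hcomp]
      have := congrArg φ hpa
      rw [map_zero, Polynomial.hom_eval₂] at this
      rw [show g = φ.comp (algebraMap Γ(X, ⊤) (FractionRing Γ(X, ⊤))) from
        RingHom.ext fun r => (hφg r).symm]
      exact this
    obtain ⟨y, hy⟩ := (isIntegrallyClosed_iff X.functionField).1 hic hint
    obtain ⟨U, hx, s, rfl⟩ := X.presheaf.exists_germ_eq y
    refine ⟨U, hx, s, ?_⟩
    haveI : Nonempty U := ⟨⟨x, hx⟩⟩
    rw [← hy]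
    exact (Scheme.algebraMap_germ_eq_germToFunctionField X hx s).symm
  choose U hxU s hs using hloc
  have hne : ∀ x, Nonempty (U x) := fun x => ⟨⟨x, hxU x⟩⟩
  have hcov : (⊤ : X.Opens) ≤ iSup U := fun x _ => Opens.mem_iSup.2 ⟨x, hxU x⟩
  have hcompat : TopCat.Presheaf.IsCompatible X.presheaf U s := by
    intro x y
    have hgx : genericPoint X ∈ U x := ((genericPoint_spec X).mem_open_set_iff (U x).isOpen).mpr
      (by simpa using hne x)
    have hgy : genericPoint X ∈ U y := ((genericPoint_spec X).mem_open_set_iff (U y).isOpen).mpr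
      (by simpa using hne y)
    apply germ_injective_of_isIntegral X (U := U x ⊓ U y) (genericPoint X) ⟨hgx, hgy⟩
    rw [TopCat.Presheaf.germ_res_apply, TopCat.Presheaf.germ_res_apply]
    exact (hs x).trans (hs y).symm
  obtain ⟨d, hd, -⟩ := X.sheaf.existsUnique_gluing' U ⊤ (fun x => homOfLE le_top) hcov s hcompat
  refine ⟨d, φ.injective ?_⟩
  rw [hφg]
  obtain ⟨x⟩ := (inferInstance : Nonempty X)
  show X.germToFunctionField ⊤ d = φ a
  rw [← hb, ← hs x, ← hd x]
  exact (TopCat.Presheaf.germ_res_apply X.presheaf (homOfLE le_top) _ _ d).symm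

end Groth.Agent.S2102
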