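import Groth.Statements.S11192
import Groth.Agent.H21Taylor.GeomInt
import Groth.Agent.H28Neron.NormalSmooth
import Groth.Agent.H8Props.FibreStalk
import Groth.Agent.S2102

set_option autoImplicit false
set_option maxHeartbeats 1000000
set_option synthInstance.maxHeartbeats 100000
set_option linter.style.haveILetI false
set_option backward.isDefEq.respectTransparency false
universe u
open CategoryTheory MonoidalCategory CartesianMonoidalCategory MonObj GrpObj AlgebraicGeometry
open scoped TensorProduct
open AGF

namespace Groth.Agent.S11192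

theorem isNormalScheme_spec_field (k : Type u) [Field k] : Pi1.IsNormalScheme (Spec (CommRingCat.of k)) := fun x => by
  have h := H8Props.FibreStalk.isField_stalk_Spec (CommRingCat.of k) (Field.toIsField k) x
  exact ⟨h.isDomain, letI := h.toField; inferInstance⟩


/-- Let k be an algebraically closed field, G a linear algebraic group over k (an affine smooth group
scheme over k) and H a closed subgroup of G (a smooth closed subgroup scheme, i : H → G), with G
connected. Then the ring of global functions on G invariant under right translation by H is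
integrally closed. -/
theorem result (k : Type u) [Field k] [IsAlgClosed k]
    (G : Over (Spec (CommRingCat.of k))) [GrpObj G] [IsAffine G.left] [Smooth G.hom]
    (H : Over (Spec (CommRingCat.of k))) [GrpObj H] [Smooth H.hom] (i : H ⟶ G) [IsMonHom i]
    [IsClosedImmersion i.left] [ConnectedSpace G.left] :
    IsIntegrallyClosed ↥(AGF.rTransInv i) := by
  have hNS : Pi1.IsNormalScheme G.left := H28Neron.isNormalScheme_of_smooth G.hom (isNormalScheme_spec_field k)
  haveI : IsLocallyNoetherian G.left := LocallyOfFiniteType.isLocallyNoetherian G.hom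
  haveI : ∀ x : G.left, _root_.IsReduced (G.left.presheaf.stalk x) := fun x => by
    haveI := (hNS x).1
    infer_instance
  haveI : IsReduced G.left := isReduced_of_isReduced_stalk G.left
  haveI : IrreducibleSpace G.left := H21Taylor.irreducibleSpace_of_connected_of_domain_stalks G.left fun x => (hNS x).1
  haveI : IsIntegral G.left := isIntegral_of_irreducibleSpace_of_isReduced _
  have hN : IsIntegrallyClosed Γ(G.left, ⊤) := S2102.result G.left hNS
  haveI : IsAffine H.left := isAffine_of_isAffineHom i.left
  haveI : IsAffine (G ⊗ H).left := inferInstanceAs (IsAffine (Limits.pullback G.hom H.hom))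
  haveI : Flat (fst G H).left := inferInstanceAs (Flat (Limits.pullback.fst G.hom H.hom))
  set σ := ((G ◁ i) ≫ μ[G]).left.appTop.hom
  set τ := (fst G H).left.appTop.hom
  have hτ : τ.Flat := HasRingHomProperty.appTop (P := @Flat) _ inferInstance
  have hcancel : ∀ b : Γ(G.left, ⊤), b ≠ 0 → IsRegular (τ b) := by
    intro b hb
    letI := τ.toAlgebra
    haveI : Module.Flat Γ(G.left, ⊤) Γ((G ⊗ H).left, ⊤) := hτ
    have h1 : IsSMulRegular Γ(G.left, ⊤) b := IsSMulRegular.of_ne_zero hb
    have h2 : IsSMulRegular Γ((G ⊗ H).left, ⊤) (τ b) := IsSMulRegular.of_flat h1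
    exact ⟨h2, fun x y hxy => h2 (show τ b * x = τ b * y by rw [mul_comm (τ b) x, mul_comm (τ b) y]; exact hxy)⟩
  let S := AGF.rTransInv i
  let K := FractionRing Γ(G.left, ⊤)
  have hinj : Function.Injective ((algebraMap Γ(G.left, ⊤) K).comp S.subtype) :=
    (IsFractionRing.injective Γ(G.left, ⊤) K).comp Subtype.val_injective
  refine (isIntegrallyClosed_iff (FractionRing S)).mpr fun {x} hx => ?_
  obtain ⟨a, b, hb, rfl⟩ := IsFractionRing.div_surjective (A := S) x
  let φ : FractionRing S →+* K := IsFractionRing.lift hinj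
  have hφ : ∀ r : S, φ (algebraMap S _ r) = algebraMap Γ(G.left, ⊤) K r.1 := fun r => IsLocalization.lift_eq _ r
  have hint : IsIntegral Γ(G.left, ⊤) (φ (algebraMap S _ a / algebraMap S _ b)) := by
    obtain ⟨p, hp, hpx⟩ := hx
    refine ⟨p.map S.subtype, hp.map _, ?_⟩
    rw [Polynomial.eval₂_map, show (algebraMap Γ(G.left, ⊤) K).comp S.subtype = φ.comp (algebraMap S _) from
      RingHom.ext fun r => (hφ r).symm, ← Polynomial.hom_eval₂, hpx, map_zero]
  obtain ⟨c, hc⟩ := (IsIntegrallyClosed.isIntegral_iff (R := Γ(G.left, ⊤)) (K := K)).mp hint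
  have hb0 : (b : Γ(G.left, ⊤)) ≠ 0 := fun e => nonZeroDivisors.ne_zero hb (Subtype.ext e)
  have hcb : c * (b : Γ(G.left, ⊤)) = a := by
    apply IsFractionRing.injective Γ(G.left, ⊤) K
    rw [map_mul, hc, map_div₀, hφ, hφ, div_mul_cancel₀]
    exact fun e => hb0 ((IsFractionRing.to_map_eq_zero_iff (K := K)).mp e)
  have hcS : c ∈ S := by
    show σ c = τ c
    have h1 : σ c * τ (b : Γ(G.left, ⊤)) = τ c * τ (b : Γ(G.left, ⊤)) := by
      have hbS : σ (b : Γ(G.left, ⊤)) = τ b := b.2
      have haS : σ (a : Γ(G.left, ⊤)) = τ a := a.2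
      rw [← hcb, map_mul, map_mul, hbS] at haS
      exact haS
    exact (hcancel _ hb0).2 h1
  refine ⟨⟨c, hcS⟩, ?_⟩
  rw [eq_div_iff ((IsFractionRing.to_map_ne_zero_of_mem_nonZeroDivisors hb)), ← map_mul]
  exact congrArg _ (Subtype.ext hcb)

end Groth.Agent.S11192
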