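import Groth.Statements.S17396
import Groth.Agent.H26Cyc.Chart
import Groth.Agent.S11192

set_option autoImplicit false
set_option maxHeartbeats 1000000
set_option backward.isDefEq.respectTransparency false
universe u
open AlgebraicGeometry CategoryTheory CategoryTheory.Limits
open CycCov

namespace Groth.Agent.S17396

open CategoryTheory AlgebraicGeometry in
/-- For X integral and smooth over an algebraically closed field k, L an invertible module, N ≥ 1
invertible in k, D_1, …, D_r a strict normal crossing divisor on X with multiplicities α_j, s a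
global section of the N-th tensor power of L whose divisor of zeros is D = Σ α_j D_j, and π : Y → X
with its root datum the normalised cyclic N-th-root cover of X defined by s, the morphism π is étale
over every open W of X disjoint from the components D_j with α_j > 0. (The published claim allows
any effective divisor on a manifold; it is stated here for components forming a strict normal
crossing divisor.) -/
theorem result {k : Type u} [Field k] [IsAlgClosed k] {X Y : Scheme.{u}}
    (f : X ⟶ Spec (CommRingCat.of k)) [Smooth f] [IsIntegral X]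
    (L : X.Modules) (hL : PicF.IsInvertible L) (N : ℕ) (hN : 0 < N) (hNk : (N : k) ≠ 0)
    {r : ℕ} (D : Fin r → X.IdealSheafData) (α : Fin r → ℕ) (hD : LogNCD.IsNCD D f)
    (s : Coh.structureModule X ⟶ CohB1.tensorPow L N) (hs : CycCov.IsZeroDiv (CohB1.tensorPow L N) s (CycCov.divIdeal D α))
    (π : Y ⟶ X) (R : CycCov.Root L N s π) (hR : CycCov.IsCover R)
    (W : X.Opens) (hW : ∀ j : Fin r, 0 < α j → Disjoint (W : Set X) ((D j).support : Set X)) :
    Etale (π ∣_ W) := by
  have hfin := hR.1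
  have key : ∀ y : (π ⁻¹ᵁ W : Y.Opens), ∃ U : X.affineOpens, U.1 ≤ W ∧ π y.1 ∈ U.1 ∧
      Etale ((π ⁻¹ᵁ U.1).ι ≫ π) := by
    rintro ⟨y, hy⟩
    obtain ⟨V, e₀, hyV, he₀⟩ := H11Ample.exists_gen hL (π y)
    obtain ⟨U, hU, hyU, hUV⟩ := exists_isAffineOpen_mem_and_subset (U := V ⊓ W) ⟨hyV, hy⟩
    have hUV' : U ≤ V := fun x hx => (hUV hx).1
    have hUW : U ≤ W := fun x hx => (hUV hx).2
    have he := he₀.res hUV'
    obtain ⟨g, hg, hgf⟩ := H26Cyc.exists_coeff (U := ⟨U, hU⟩) he hs (H26Cyc.divIdeal_eq_top D α W hW _ hUW)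
    refine ⟨⟨U, hU⟩, hUW, hyU, ?_⟩
    haveI : Nonempty U := ⟨⟨π y, hyU⟩⟩
    have hNA : IsUnit (N : Γ(X, U)) := by
      have h := (isUnit_iff_ne_zero.2 hNk).map ((Scheme.ΓSpecIso (CommRingCat.of k)).inv ≫ f.appTop ≫
        X.presheaf.map (homOfLE le_top).op : CommRingCat.of k ⟶ Γ(X, U)).hom
      rwa [map_natCast] at h
    haveI := H26Cyc.etale_adjoin g hN hg hNA
    have het : (AdjoinRoot.of (Polynomial.X ^ N - Polynomial.C g)).Etale := by
      rw [← AdjoinRoot.algebraMap_eq, RingHom.etale_algebraMap]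
      infer_instance
    haveI : Etale (Spec.map (CommRingCat.ofHom (AdjoinRoot.of (Polynomial.X ^ N - Polynomial.C g)))) :=
      (HasRingHomProperty.Spec_iff (P := @Etale)).2 het
    have hS : EGA4.IsNormalRing (AdjoinRoot (Polynomial.X ^ N - Polynomial.C g)) :=
      H22Alg.NormalProd.isNormalRing_of_isNormalScheme_spec (H28Neron.isNormalScheme_of_smooth
        (Spec.map (CommRingCat.ofHom (AdjoinRoot.of (Polynomial.X ^ N - Polynomial.C g))) ≫ hU.fromSpec ≫ f)
        (S11192.isNormalScheme_spec_field k))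
    have hb := H26Cyc.bijective_chart R hN hR ⟨U, hU⟩ he g hgf hS
    have happ : (π.app U).hom.Etale := by
      have h := RingHom.Etale.stableUnderComposition _ _ het (RingHom.Etale.of_bijective hb)
      rwa [CycCov.chart, AdjoinRoot.lift_comp_of] at h
    have hP : IsAffineOpen (π ⁻¹ᵁ U) := hU.preimage π
    haveI : Etale (Spec.map (π.app U)) := (HasRingHomProperty.Spec_iff (P := @Etale)).2 happ
    have heq : (π ⁻¹ᵁ U).ι ≫ π = hP.isoSpec.hom ≫ Spec.map (π.app U) ≫ hU.fromSpec := by
      rw [Scheme.Hom.app_eq_appLE, IsAffineOpen.SpecMap_appLE_fromSpec _ hU hP,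
        ← IsAffineOpen.isoSpec_inv_ι, Category.assoc, Iso.hom_inv_id_assoc]
    rw [heq]
    infer_instance
  choose U hUW hyU hU using key
  have h1 : Etale ((π ⁻¹ᵁ W).ι ≫ π) := by
    refine IsZariskiLocalAtSource.of_openCover (Scheme.openCoverOfIsOpenCover _
      (fun y => (π ⁻¹ᵁ W).ι ⁻¹ᵁ (π ⁻¹ᵁ (U y).1)) (TopologicalSpace.IsOpenCover.mk ?_)) fun y => ?_
    · rw [eq_top_iff]
      exact fun z _ => TopologicalSpace.Opens.mem_iSup.2 ⟨z, hyU z⟩
    · change Etale (Scheme.Opens.ι _ ≫ (π ⁻¹ᵁ W).ι ≫ π)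
      have h2 := hU y
      have h3 : (π ⁻¹ᵁ W).ι ⁻¹ᵁ (π ⁻¹ᵁ (U y).1) ≤ (π ⁻¹ᵁ W).ι ⁻¹ᵁ (π ⁻¹ᵁ (U y).1) := le_rfl
      rw [← Category.assoc, ← morphismRestrict_ι, Category.assoc]
      infer_instance
  rw [← morphismRestrict_ι] at h1
  exact Etale.of_comp _ W.ι

end Groth.Agent.S17396
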