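import Groth.Statements.S17854
import Mathlib
-- import your own Groth.Agent.* helpers here

set_option autoImplicit false
open TensorProduct
universe u
open EtAlg

namespace Groth.Agent.S17854

open KaehlerDifferential in
theorem isEtaleAt_of_basis (k : Type u) [CommRing k] (R : Type u) [CommRing R] [Algebra k R]
    [Algebra.FinitePresentation k R] (m : Ideal R) [m.IsMaximal] [Algebra.IsSmoothAt k m] (d : ℕ)
    (x : Fin d → R)
    (hb : ∃ b : Module.Basis (Fin d) (R ⧸ m) ((R ⧸ m) ⊗[R] Ω[R⁄k]), ∀ i, b i = 1 ⊗ₜ D k R (x i)) :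
    letI := (MvPolynomial.aeval x : MvPolynomial (Fin d) k →ₐ[k] R).toRingHom.toAlgebra
    Algebra.IsEtaleAt (MvPolynomial (Fin d) k) m := by
  letI := (MvPolynomial.aeval x : MvPolynomial (Fin d) k →ₐ[k] R).toRingHom.toAlgebra
  let P := MvPolynomial (Fin d) k
  have : IsScalarTower k P R :=
    IsScalarTower.of_algebraMap_eq fun c => ((MvPolynomial.aeval x).commutes c).symm
  obtain ⟨b, hb⟩ := hb
  let Ap := Localization.AtPrime m
  have : IsScalarTower k P Ap := IsScalarTower.of_algebraMap_eq fun c => by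
    rw [IsScalarTower.algebraMap_apply k R Ap, IsScalarTower.algebraMap_apply P R Ap,
      ← IsScalarTower.algebraMap_apply k P R]
  have : Algebra.EssFiniteType k Ap := Algebra.EssFiniteType.comp k R Ap
  have : Algebra.FormallySmooth k Ap := ‹Algebra.IsSmoothAt k m›
  have : Module.Free Ap Ω[Ap⁄k] := Module.free_of_flat_of_isLocalRing
  let l : Ω[R⁄k] →ₗ[R] Ω[Ap⁄k] := map k k R Ap
  let q : Ω[R⁄k] →ₗ[R] (R ⧸ m) ⊗[R] Ω[R⁄k] := TensorProduct.mk R (R ⧸ m) _ 1
  have hl : ∀ ω, ∀ r ∈ m, l (r • ω) ∈ IsLocalRing.maximalIdeal Ap • (⊤ : Submodule Ap Ω[Ap⁄k]) :=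
    fun ω r hr => by
      rw [map_smul, ← IsScalarTower.algebraMap_smul Ap r]
      exact Submodule.smul_mem_smul ((IsLocalization.AtPrime.to_map_mem_maximal_iff Ap m r).mpr hr)
        Submodule.mem_top
  -- spanning
  have hspan : Submodule.span Ap (Set.range fun i => l (D k R (x i))) = ⊤ := by
    refine top_le_iff.mp (Submodule.le_of_le_smul_of_le_jacobson_bot
      (I := IsLocalRing.maximalIdeal Ap) (Module.Finite.fg_top)
      (IsLocalRing.maximalIdeal_le_jacobson ⊥) ?_)
    rintro w -
    obtain ⟨⟨ω, s⟩, hs⟩ := IsLocalizedModule.surj m.primeCompl l w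
    choose c hc using fun i => Ideal.Quotient.mk_surjective ((b.repr (q ω)) i)
    have h0 : q (ω - ∑ i, c i • D k R (x i)) = 0 := by
      rw [map_sub, map_sum, sub_eq_zero]
      conv_lhs => rw [← b.sum_repr (q ω)]
      exact Finset.sum_congr rfl fun i _ => by
        rw [hb, map_smul, ← hc i, ← Ideal.Quotient.algebraMap_eq, algebraMap_smul]; rfl
    have h1 : ω - ∑ i, c i • D k R (x i) ∈ m • (⊤ : Submodule R Ω[R⁄k]) := by
      have := congrArg (TensorProduct.quotTensorEquivQuotSMul Ω[R⁄k] m) h0
      rw [map_zero, TensorProduct.mk_apply,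
        show (1 : R ⧸ m) = Ideal.Quotient.mk m 1 from (map_one _).symm,
        TensorProduct.quotTensorEquivQuotSMul_mk_tmul, one_smul,
        Submodule.Quotient.mk_eq_zero] at this
      exact this
    have h2 : l (ω - ∑ i, c i • D k R (x i)) ∈
        IsLocalRing.maximalIdeal Ap • (⊤ : Submodule Ap Ω[Ap⁄k]) := by
      refine Submodule.smul_induction_on h1 (fun r hr n _ => hl n r hr) fun a a' ha ha' => ?_
      rw [map_add]; exact Submodule.add_mem _ ha ha'
    have hu : IsUnit (algebraMap R Ap s) := IsLocalization.map_units Ap s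
    have h3 : algebraMap R Ap s • w ∈ Submodule.span Ap (Set.range fun i => l (D k R (x i))) ⊔
        IsLocalRing.maximalIdeal Ap • (⊤ : Submodule Ap Ω[Ap⁄k]) := by
      rw [IsScalarTower.algebraMap_smul, show (s : R) • w = l ω from hs,
        show ω = ∑ i, c i • D k R (x i) + (ω - ∑ i, c i • D k R (x i)) by abel, map_add]
      refine Submodule.add_mem_sup ?_ h2
      rw [map_sum]
      refine Submodule.sum_mem _ fun i _ => ?_
      rw [map_smul, ← IsScalarTower.algebraMap_smul Ap]
      exact Submodule.smul_mem _ _ (Submodule.subset_span ⟨i, rfl⟩)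
    simpa using (Submodule.smul_mem_iff_of_isUnit _ hu).mp h3
  -- rank
  have hrank : d ≤ Module.finrank Ap Ω[Ap⁄k] := by
    let bΩ := Module.finBasis Ap Ω[Ap⁄k]
    choose ω hω using fun j => IsLocalizedModule.surj m.primeCompl l (bΩ j)
    have htop : Submodule.span (R ⧸ m) (Set.range fun j => q (ω j).1) = ⊤ := by
      rw [eq_top_iff, ← b.span_eq, Submodule.span_le]
      rintro _ ⟨i, rfl⟩
      have h1 : l (D k R (x i)) ∈ Submodule.span Ap (Set.range fun j => l (ω j).1) := by
        have h2 : Submodule.span Ap (Set.range fun j => l (ω j).1) = ⊤ := by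
          rw [eq_top_iff, ← bΩ.span_eq, Submodule.span_le]
          rintro _ ⟨j, rfl⟩
          refine (Submodule.smul_mem_iff_of_isUnit _
            (IsLocalization.map_units Ap (ω j).2)).mp ?_
          rw [IsScalarTower.algebraMap_smul]
          exact Submodule.subset_span ⟨j, (hω j).symm⟩
        rw [h2]; trivial
      rw [Submodule.mem_span_range_iff_exists_fun] at h1
      obtain ⟨a, ha⟩ := h1
      obtain ⟨t, ht⟩ := IsLocalization.exist_integer_multiples m.primeCompl
        (Finset.univ : Finset (Fin _)) a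
      choose a' ha' using fun j => ht j (Finset.mem_univ j)
      have h3 : l ((t : R) • D k R (x i) - ∑ j, a' j • (ω j).1) = 0 := by
        rw [map_sub, map_smul, map_sum, sub_eq_zero, ← ha, Finset.smul_sum]
        refine Finset.sum_congr rfl fun j _ => ?_
        rw [map_smul, ← smul_assoc, ← ha' j, IsScalarTower.algebraMap_smul]
      obtain ⟨s, hs⟩ := (IsLocalizedModule.eq_zero_iff m.primeCompl l).mp h3
      have h4 := congrArg q (show (s : R) • _ = (0 : Ω[R⁄k]) from hs)
      rw [smul_sub, map_sub, map_smul, map_smul, map_smul, map_sum, map_zero, sub_eq_zero,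
        ← mul_smul, show q (D k R (x i)) = b i from (hb i).symm] at h4
      have hst : IsUnit (Ideal.Quotient.mk m ((s : R) * t)) := by
        letI := Ideal.Quotient.field m
        have hne : Ideal.Quotient.mk m ((s : R) * t) ≠ 0 := fun h =>
          (s * t).2 (Ideal.Quotient.eq_zero_iff_mem.mp h)
        exact hne.isUnit
      refine (Submodule.smul_mem_iff_of_isUnit _ hst).mp ?_
      rw [← Ideal.Quotient.algebraMap_eq, algebraMap_smul, h4, Finset.smul_sum]
      refine Submodule.sum_mem _ fun j _ => ?_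
      rw [map_smul, ← mul_smul, ← algebraMap_smul (R ⧸ m)]
      exact Submodule.smul_mem _ _ (Submodule.subset_span ⟨j, rfl⟩)
    letI := Ideal.Quotient.field m
    have h5 := finrank_range_le_card (R := R ⧸ m) (fun j => q (ω j).1)
    unfold Set.finrank at h5
    rwa [htop, finrank_top, Module.finrank_eq_card_basis b, Fintype.card_fin, Fintype.card_fin]
      at h5
  -- bijectivity
  have hbij : Function.Bijective (mapBaseChange k P Ap) := by
    have hD : ∀ i, mapBaseChange k P Ap (1 ⊗ₜ D k P (MvPolynomial.X i)) = l (D k R (x i)) :=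
      fun i => by
        rw [mapBaseChange_tmul, one_smul, map_D]
        simp only [l, map_D, IsScalarTower.algebraMap_apply P R Ap]
        congr 2
        exact MvPolynomial.aeval_X _ i
    have hs : Function.Surjective (mapBaseChange k P Ap) := by
      rw [← LinearMap.range_eq_top, eq_top_iff, ← hspan, Submodule.span_le]
      rintro _ ⟨i, rfl⟩
      exact ⟨_, hD i⟩
    let bP := (mvPolynomialBasis k (Fin d)).baseChange Ap
    have : Module.Finite Ap (Ap ⊗[P] Ω[P⁄k]) := Module.Finite.of_basis bP
    have hr : Module.finrank Ap Ω[Ap⁄k] = d := by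
      refine le_antisymm ?_ hrank
      have h6 := finrank_range_le_card (R := Ap) (fun i => l (D k R (x i)))
      unfold Set.finrank at h6
      rwa [hspan, finrank_top, Fintype.card_fin] at h6
    let e : Ω[Ap⁄k] ≃ₗ[Ap] Ap ⊗[P] Ω[P⁄k] :=
      ((Module.finBasis Ap Ω[Ap⁄k]).reindex (finCongr hr)).equiv bP (Equiv.refl _)
    have h := OrzechProperty.injective_of_surjective_endomorphism
      (e.toLinearMap.comp (mapBaseChange k P Ap)) (e.surjective.comp hs)
    exact ⟨fun a a' haa => h (congrArg e haa), hs⟩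
  show Algebra.FormallyEtale P Ap
  refine ⟨subsingleton_of_forall_eq 0 fun z => ?_, subsingleton_of_forall_eq 0 fun z => ?_⟩
  · obtain ⟨y, rfl⟩ := KaehlerDifferential.map_surjective k P Ap z
    obtain ⟨w, rfl⟩ := hbij.2 y
    exact (exact_mapBaseChange_map k P Ap _).2 ⟨w, rfl⟩
  · have h1 : Algebra.H1Cotangent.δ k P Ap z = 0 :=
      hbij.1 (by rw [map_zero]; exact (Algebra.H1Cotangent.exact_δ_mapBaseChange k P Ap _).2 ⟨z, rfl⟩)
    obtain ⟨y, rfl⟩ := (Algebra.H1Cotangent.exact_map_δ k P Ap z).1 h1
    rw [Subsingleton.elim y 0, map_zero]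

open KaehlerDifferential in
/-- With finite residue field, differentials of elements of `m` fill the cotangent fibre. -/
theorem exists_mem_D_eq (k : Type u) [CommRing k] (R : Type u) [CommRing R] [Algebra k R]
    (m : Ideal R) [m.IsMaximal] [Finite (R ⧸ m)] (v : (R ⧸ m) ⊗[R] Ω[R⁄k]) :
    ∃ y ∈ m, (1 : R ⧸ m) ⊗ₜ[R] D k R y = v := by
  letI := Ideal.Quotient.field m
  have := Fintype.ofFinite (R ⧸ m)
  let q : Ω[R⁄k] →ₗ[R] (R ⧸ m) ⊗[R] Ω[R⁄k] := TensorProduct.mk R (R ⧸ m) _ 1
  have hkill : ∀ r ∈ m, ∀ w : (R ⧸ m) ⊗[R] Ω[R⁄k], r • w = 0 := fun r hr w => by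
    rw [← algebraMap_smul (R ⧸ m) r w, Ideal.Quotient.algebraMap_eq,
      Ideal.Quotient.eq_zero_iff_mem.mpr hr, zero_smul]
  let S : Submodule R ((R ⧸ m) ⊗[R] Ω[R⁄k]) :=
    { carrier := {w | ∃ y ∈ m, q (D k R y) = w}
      zero_mem' := ⟨0, m.zero_mem, by simp⟩
      add_mem' := by
        rintro _ _ ⟨y, hy, rfl⟩ ⟨y', hy', rfl⟩
        exact ⟨y + y', m.add_mem hy hy', by simp⟩
      smul_mem' := by
        rintro r _ ⟨y, hy, rfl⟩
        exact ⟨r * y, m.mul_mem_left _ hy, by
          rw [Derivation.leibniz, map_add, map_smul, map_smul, hkill y hy, add_zero]⟩ }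
  have hS : ∀ r : R, q (D k R r) ∈ S := fun r => by
    have hr : r ^ Fintype.card (R ⧸ m) - r ∈ m := by
      rw [← Ideal.Quotient.eq, map_pow, FiniteField.pow_card]
    have h : q (D k R r) = - q (D k R (r ^ Fintype.card (R ⧸ m) - r)) := by
      rw [map_sub, map_sub, Derivation.leibniz_pow, map_nsmul, neg_sub]
      rw [← Nat.cast_smul_eq_nsmul (R ⧸ m), Nat.cast_card_eq_zero, zero_smul, sub_zero]
    rw [h]
    exact S.neg_mem ⟨_, hr, rfl⟩
  have hq : ∀ ω : Ω[R⁄k], q ω ∈ S := fun ω => by
    have hω : ω ∈ Submodule.span R (Set.range (D k R)) := by rw [span_range_derivation]; trivial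
    induction hω using Submodule.span_induction with
    | mem z hz => obtain ⟨r, rfl⟩ := hz; exact hS r
    | zero => simp
    | add a b _ _ ha hb => rw [map_add]; exact S.add_mem ha hb
    | smul r a _ ha => rw [map_smul]; exact S.smul_mem r ha
  show v ∈ S
  induction v with
  | zero => exact S.zero_mem
  | tmul a ω =>
    obtain ⟨a, rfl⟩ := Ideal.Quotient.mk_surjective a
    rw [show Ideal.Quotient.mk m a ⊗ₜ[R] ω = a • q ω by
      simp only [q, TensorProduct.mk_apply, TensorProduct.smul_tmul']
      rw [Algebra.smul_def, mul_one]; rfl]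
    exact S.smul_mem a (hq ω)
  | add a b ha hb => exact S.add_mem ha hb

/-- In the case of a base with finite residue field, let k be a local ring whose residue field is
finite, R a finitely presented k-algebra and m a maximal ideal of R over the maximal ideal of k such
that R is smooth over k at m of relative dimension d > 0 (the module of Kähler differentials of R
over k has rank d at m). Then there are g ∉ m and an étale k-algebra homomorphism φ : k[x₁, …, x_d]
→ R[1/g] which induces an isomorphism of residue fields at m, i.e. k[x₁, …, x_d] → R[1/g]/m R[1/g]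
is surjective. The published statement is for any local ring k; this row takes the residue field of
k finite. -/
theorem result
    (k : Type u) [CommRing k] [IsLocalRing k] [Finite (IsLocalRing.ResidueField k)]
    (R : Type u) [CommRing R] [Algebra k R] [Algebra.FinitePresentation k R]
    (m : Ideal R) [m.IsMaximal] (hm : m.comap (algebraMap k R) = IsLocalRing.maximalIdeal k)
    [Algebra.IsSmoothAt k m] (d : ℕ) (hd : 0 < d)
    (hdim : Module.finrank (R ⧸ m) ((R ⧸ m) ⊗[R] KaehlerDifferential k R) = d) :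
    ∃ g : R, g ∉ m ∧ ∃ φ : MvPolynomial (Fin d) k →ₐ[k] Localization.Away g,
      φ.toRingHom.Etale ∧
      Function.Surjective
        ((Ideal.Quotient.mk (m.map (algebraMap R (Localization.Away g)))).comp φ.toRingHom) := by
  obtain ⟨n, rfl⟩ : ∃ n, d = n + 1 := ⟨d - 1, by omega⟩
  letI := Ideal.Quotient.field m
  -- the residue field is finite
  have hle : IsLocalRing.maximalIdeal k ≤ m.comap (algebraMap k R) := hm.ge
  letI : Algebra (IsLocalRing.ResidueField k) (R ⧸ m) :=
    (Ideal.quotientMap m (algebraMap k R) hle).toAlgebra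
  haveI : IsScalarTower k (IsLocalRing.ResidueField k) (R ⧸ m) :=
    IsScalarTower.of_algebraMap_eq fun a => rfl
  haveI : Algebra.FiniteType k (R ⧸ m) :=
    (inferInstance : Algebra.FiniteType k R).of_surjective (Ideal.Quotient.mkₐ k m)
      Ideal.Quotient.mk_surjective
  haveI : Algebra.FiniteType (IsLocalRing.ResidueField k) (R ⧸ m) :=
    Algebra.FiniteType.of_restrictScalars_finiteType k _ _
  haveI : Module.Finite (IsLocalRing.ResidueField k) (R ⧸ m) :=
    finite_of_finite_type_of_isJacobsonRing _ _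
  haveI : Finite (R ⧸ m) := Module.finite_of_finite (IsLocalRing.ResidueField k)
  obtain ⟨θ, hθ⟩ := IsCyclic.exists_monoid_generator (α := (R ⧸ m)ˣ)
  obtain ⟨t, ht⟩ := Ideal.Quotient.mk_surjective (θ : R ⧸ m)
  have hfin : FiniteDimensional (R ⧸ m) ((R ⧸ m) ⊗[R] Ω[R⁄k]) :=
    Module.finite_of_finrank_pos (by omega)
  let b : Module.Basis (Fin (n + 1)) (R ⧸ m) ((R ⧸ m) ⊗[R] Ω[R⁄k]) :=
    Module.finBasisOfFinrankEq _ _ hdim
  let t' : Fin (n + 1) → R := Fin.cons t 0
  choose y hy hy' using fun i =>
    exists_mem_D_eq k R m (b i - (1 : R ⧸ m) ⊗ₜ[R] KaehlerDifferential.D k R (t' i))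
  let x : Fin (n + 1) → R := fun i => t' i + y i
  letI : Algebra (MvPolynomial (Fin (n + 1)) k) R :=
    (MvPolynomial.aeval x : MvPolynomial (Fin (n + 1)) k →ₐ[k] R).toRingHom.toAlgebra
  haveI : IsScalarTower k (MvPolynomial (Fin (n + 1)) k) R :=
    IsScalarTower.of_algebraMap_eq fun c => ((MvPolynomial.aeval x).commutes c).symm
  haveI : Algebra.IsEtaleAt (MvPolynomial (Fin (n + 1)) k) m :=
    isEtaleAt_of_basis k R m (n + 1) x ⟨b, fun i => by
      simp only [x, map_add, TensorProduct.tmul_add, hy', add_sub_cancel]⟩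
  haveI : Algebra.FinitePresentation (MvPolynomial (Fin (n + 1)) k) R :=
    Algebra.FinitePresentation.of_restrict_scalars_finitePresentation k _ R
  obtain ⟨g, hg, hget⟩ := Algebra.exists_etale_of_isEtaleAt (R := MvPolynomial (Fin (n + 1)) k) m
  let φ : MvPolynomial (Fin (n + 1)) k →ₐ[k] Localization.Away g :=
    (IsScalarTower.toAlgHom k R (Localization.Away g)).comp (MvPolynomial.aeval x)
  refine ⟨g, hg, φ, ?_, ?_⟩
  · have : φ.toRingHom = algebraMap (MvPolynomial (Fin (n + 1)) k) (Localization.Away g) := rfl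
    rw [this]
    exact RingHom.etale_algebraMap.mpr hget
  · let M := m.map (algebraMap R (Localization.Away g))
    have h1 : ∀ r : R, ∃ p, Ideal.Quotient.mk M (φ p) =
        Ideal.Quotient.mk M (algebraMap R _ r) := fun r => by
      have : ∀ p, Ideal.Quotient.mk m (MvPolynomial.aeval x p) = Ideal.Quotient.mk m r →
          Ideal.Quotient.mk M (φ p) = Ideal.Quotient.mk M (algebraMap R _ r) := fun p hp => by
        rw [Ideal.Quotient.eq] at hp ⊢
        rw [show φ p = algebraMap R _ (MvPolynomial.aeval x p) from rfl, ← map_sub]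
        exact Ideal.mem_map_of_mem _ hp
      by_cases hr : Ideal.Quotient.mk m r = 0
      · exact ⟨0, this 0 (by rw [map_zero, map_zero, hr])⟩
      · obtain ⟨N, hN⟩ := hθ (Ne.isUnit hr).unit
        refine ⟨MvPolynomial.X 0 ^ N, this _ ?_⟩
        have hN' : (θ : R ⧸ m) ^ N = Ideal.Quotient.mk m r := by
          have := congrArg Units.val hN
          simpa using this
        rw [map_pow, map_pow, MvPolynomial.aeval_X, ← hN', ← ht]
        simp [x, t', Ideal.Quotient.eq_zero_iff_mem.mpr (hy 0)]
    intro z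
    obtain ⟨w, rfl⟩ := Ideal.Quotient.mk_surjective z
    obtain ⟨⟨r, ⟨_, N, rfl⟩⟩, hw⟩ := IsLocalization.surj (Submonoid.powers g) w
    obtain ⟨h, hh⟩ := Ideal.Quotient.mk_surjective (Ideal.Quotient.mk m g)⁻¹
    have hgh : g * h - 1 ∈ m := by
      rw [← Ideal.Quotient.eq, map_mul, hh, map_one]
      exact mul_inv_cancel₀ fun h0 => hg (Ideal.Quotient.eq_zero_iff_mem.mp h0)
    obtain ⟨p, hp⟩ := h1 (r * h ^ N)
    refine ⟨p, ?_⟩
    show Ideal.Quotient.mk M (φ p) = _
    dsimp only at hw
    rw [hp, map_mul (algebraMap R (Localization.Away g)), ← hw, map_pow, map_pow, mul_assoc, ← mul_pow, ← map_mul (algebraMap R (Localization.Away g))]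
    have : Ideal.Quotient.mk M (algebraMap R (Localization.Away g) (g * h)) = 1 := by
      rw [← map_one (Ideal.Quotient.mk M), Ideal.Quotient.eq,
        ← map_one (algebraMap R (Localization.Away g)), ← map_sub]
      exact Ideal.mem_map_of_mem _ hgh
    rw [map_mul, map_pow, this, one_pow, mul_one]

end Groth.Agent.S17854
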