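import Groth.Statements.S11268
import Groth.Agent.H26Grass.Basis

set_option autoImplicit false
open W4bk4grassmannian

namespace Groth.Agent.S11268

open W4bk4grassmannian in
/-- Let τ < w in I(d,n), the strictly increasing maps Fin d → Fin n ordered entrywise. Then there is a
Schubert divisor φ of w, i.e. φ < w with Σ_t (φ_t - t) + 1 = Σ_t (w_t - t), such that τ ≤ φ: every
proper Schubert subvariety of X(w) lies in a Schubert divisor of X(w). -/
theorem result (d n : ℕ) (τ w : Idx d n) (h : τ < w) :
    ∃ φ ∈ divisors w, τ ≤ φ := by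
  obtain ⟨t, ht, hmin⟩ : ∃ t, τ.1 t < w.1 t ∧ ∀ u < t, ¬ τ.1 u < w.1 u := by
    have hne : ((Finset.univ : Finset (Fin d)).filter fun t => τ.1 t < w.1 t).Nonempty := by
      by_contra hc
      exact h.not_ge fun t => le_of_not_gt fun h' => hc ⟨t, by simp [h']⟩
    refine ⟨Finset.min' _ hne, ?_, fun u hu h' => ?_⟩
    · simpa using (Finset.mem_filter.1 (Finset.min'_mem _ hne)).2
    · exact absurd hu (not_lt.2 (Finset.min'_le _ u (by simp [h'])))
  obtain ⟨x, hx⟩ : ∃ x : Fin n, x.val + 1 = (w.1 t).val :=
    ⟨⟨(w.1 t).val - 1, by have := (w.1 t).isLt; omega⟩, by rw [Fin.lt_def] at ht; simp; omega⟩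
  have hlo : ∀ u < t, (w.1 u).val < x.val := fun u hu => by
    have h1 : (w.1 u).val ≤ (τ.1 u).val := Fin.le_def.1 (not_lt.1 (hmin u hu))
    have h2 : (τ.1 u).val < (τ.1 t).val := Fin.lt_def.1 (τ.2 hu)
    rw [Fin.lt_def] at ht
    omega
  have hmono : StrictMono (Function.update w.1 t x) := by
    intro a b hab
    rw [Fin.lt_def]
    rcases eq_or_ne a t with rfl | ha
    · rw [Function.update_self, Function.update_of_ne hab.ne']
      have := Fin.lt_def.1 (w.2 hab); omega
    rcases eq_or_ne b t with rfl | hb
    · rw [Function.update_self, Function.update_of_ne ha]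
      exact hlo a hab
    · rw [Function.update_of_ne ha, Function.update_of_ne hb]
      exact Fin.lt_def.1 (w.2 hab)
  refine ⟨⟨_, hmono⟩, ⟨lt_of_le_not_ge ?_ ?_, ?_⟩, ?_⟩
  · intro u
    rcases eq_or_ne u t with rfl | hu
    · simp only [Function.update_self, Fin.le_def]; omega
    · simp [Function.update_of_ne hu]
  · intro hle
    have := Fin.le_def.1 (hle t)
    simp only [Function.update_self] at this
    omega
  · unfold codeg
    simp only
    rw [← Finset.add_sum_erase _ _ (Finset.mem_univ t), ← Finset.add_sum_erase _ _ (Finset.mem_univ t),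
      Finset.sum_congr rfl fun u hu => by rw [Function.update_of_ne (Finset.ne_of_mem_erase hu)]]
    rw [Function.update_self]
    have h1 := H26Grass.idx_val_ge ⟨_, hmono⟩ t
    simp only [Function.update_self] at h1
    omega
  · intro u
    rcases eq_or_ne u t with rfl | hu
    · simp only [Function.update_self, Fin.le_def]
      rw [Fin.lt_def] at ht; omega
    · simp only [Function.update_of_ne hu]
      exact h.le u

end Groth.Agent.S11268
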