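import Groth.Statements.S11254
import Groth.Agent.H26Grass.Basis
import Groth.Agent.S11268

set_option autoImplicit false
universe u
open W4bk4grassmannian

namespace Groth.Agent.S11254

open W4bk4grassmannian in
/-- Let K be an algebraically closed field, 0 < d < n, and I(d,n) the strictly increasing maps Fin d →
Fin n ordered entrywise; S = K[X_θ : θ ∈ I(d,n)] is the Plücker polynomial ring and, for τ ∈ I(d,n),
J(τ) ⊆ S is the ideal of polynomials vanishing at the d × d row-minors of every n × d matrix over K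
whose minors on rows φ ≰ τ are zero (the homogeneous ideal of the Schubert variety X(τ) ⊆ G(d,n)).
Let τ ∈ I(d,n) admit some φ < τ (X(τ) has positive dimension). Then J(τ) + (X_τ) = ⋂_φ J(φ), the
intersection over the Schubert divisors φ of τ, i.e. the φ < τ with Σ_t (φ_t - t) + 1 = Σ_t (τ_t -
t). (For the zero-dimensional Schubert variety there is no divisor and the left side is the
irrelevant ideal, so positive dimension is required at the level of ideals.) -/
theorem result (K : Type u) [Field K] [IsAlgClosed K]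
    (d n : ℕ) (hd : 0 < d) (hdn : d < n) (τ : Idx d n) (hτ : ∃ φ : Idx d n, φ < τ) :
    schubertVanishing K d n τ ⊔ Ideal.span {MvPolynomial.X τ} =
      ⨅ φ ∈ divisors τ, schubertVanishing K d n φ := by
  haveI : Infinite K := IsAlgClosed.instInfinite
  apply le_antisymm
  · refine sup_le (le_iInf₂ fun φ hφ => H26Grass.schubertVanishing_mono K hφ.1.le) ?_
    rw [Ideal.span_le, Set.singleton_subset_iff]
    simp only [SetLike.mem_coe, Ideal.mem_iInf]
    exact fun φ hφ => H26Grass.X_mem_schubertVanishing K hφ.1.not_ge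
  intro p hp
  set L := schubertVanishing K d n τ ⊔ Ideal.span {MvPolynomial.X τ}
  have hspan := H26Grass.span_std_eq_top K (I := L)
    (((H26Grass.plIdealTop_le_vanishing K).trans (H26Grass.vanishing_le_schubertVanishing K τ)).trans le_sup_left)
    (fun m c => ∃ φ : divisors τ, ∀ k, c k ≤ φ.1) (by
      intro m c hc hno
      rcases Nat.eq_zero_or_pos m with rfl | hm
      · obtain ⟨φ, hφ⟩ := hτ
        obtain ⟨ψ, hψ, -⟩ := Groth.Agent.S11268.result d n φ τ hφ
        exact absurd ⟨⟨ψ, hψ⟩, fun k => k.elim0⟩ hno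
      by_cases h0 : c ⟨0, hm⟩ ≤ τ
      · rcases h0.lt_or_eq with hlt | heq
        · obtain ⟨ψ, hψ, hle⟩ := Groth.Agent.S11268.result d n _ τ hlt
          exact absurd ⟨⟨ψ, hψ⟩, fun k => le_trans (hc (Fin.le_def.2 (Nat.zero_le k.val))) hle⟩ hno
        · rw [chainMon, ← Finset.mul_prod_erase _ _ (Finset.mem_univ (⟨0, hm⟩ : Fin m)), heq]
          exact Ideal.mem_sup_right (Ideal.mul_mem_right _ _ (Ideal.subset_span rfl))
      · exact Ideal.mem_sup_left (H26Grass.chainMon_mem_schubertVanishing K _ h0))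
  obtain ⟨g, hg⟩ := (Finsupp.mem_span_range_iff_exists_finsupp).1
    (show Ideal.Quotient.mk L p ∈ _ from hspan ▸ Submodule.mem_top)
  set J := ⨅ φ : divisors τ, schubertVanishing K d n φ.1 with hJ
  have hpJ : p ∈ J := by
    rw [hJ, Ideal.mem_iInf]; rintro ⟨φ, hφ⟩
    exact (Ideal.mem_iInf.1 (Ideal.mem_iInf.1 hp φ)) hφ
  have hLJ : L ≤ J := by
    refine sup_le (le_iInf fun φ => H26Grass.schubertVanishing_mono K φ.2.1.le) ?_
    rw [Ideal.span_le, Set.singleton_subset_iff, SetLike.mem_coe, hJ, Ideal.mem_iInf]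
    exact fun φ => H26Grass.X_mem_schubertVanishing K φ.2.1.not_ge
  have h0 : Ideal.Quotient.factor hLJ (Ideal.Quotient.mk L p) = 0 := by
    rw [Ideal.Quotient.factor_mk, Ideal.Quotient.eq_zero_iff_mem]; exact hpJ
  rw [← hg, Finsupp.sum, map_sum] at h0
  have hli := H26Grass.linearIndependent_union K hd (I := J) (fun φ : divisors τ => φ.1)
    (fun φ => iInf_le _ φ) (fun m c => ∃ φ : divisors τ, ∀ k, c k ≤ φ.1) (fun m c h => h)
  have hzero := linearIndependent_iff'.1 hli g.support g (by
    rw [← h0]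
    refine Finset.sum_congr rfl fun c _ => ?_
    rw [show Ideal.Quotient.mk L (chainMon K c.2.1) = (Ideal.Quotient.mkₐ K L) (chainMon K c.2.1) from rfl,
      ← map_smul (Ideal.Quotient.mkₐ K L)]
    exact ((Ideal.Quotient.mkₐ K J).toLinearMap.map_smul _ _).symm)
  rw [← Ideal.Quotient.eq_zero_iff_mem, ← hg, Finsupp.sum]
  exact Finset.sum_eq_zero fun c hc => by rw [hzero c hc, zero_smul]

end Groth.Agent.S11254
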