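import Groth.Statements.S11033
import Mathlib
import Groth.Agent.H23Ext.Semilocal

set_option autoImplicit false
open FunFld

namespace Groth.Agent.S11033

/-- The divisor norm of a principal divisor is the principal divisor of the field norm:
`v_P(N_{K'/K}(x)) = ∑_{Q|P} f(Q|P) v_Q(x)`, written with `f(Q|P) deg P = deg_k Q`. -/
theorem result (k K K' : Type*) [Field k] [Field K] [Field K'] [Algebra k K] [Algebra K K'] [Algebra k K']
    [IsScalarTower k K K'] [FiniteDimensional K K'] (hK : FunFld.IsFunctionField k K) (hg : FunFld.IsGeometric k K) (P : FunFld.Place k K) (x : K')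
    (Qs : Finset (FunFld.Place k K')) (hQs : ∀ Q, Q ∈ Qs ↔ FunFld.IsOver Q P) :
    (P.deg : ℤ) * P.ord (Algebra.norm K x) = ∑ Q ∈ Qs, (Q.deg : ℤ) * Q.ord x := by
  classical
  open Groth.Agent.H23FunFld Groth.Agent.H23Ext in
  rcases eq_or_ne x 0 with rfl | hx0
  · simp [FunFld.Place.ord]
  haveI : IsScalarTower k P.O K' := IsScalarTower.of_algebraMap_eq fun c =>
    IsScalarTower.algebraMap_apply k K K' c
  haveI : IsScalarTower P.O K K' := IsScalarTower.of_algebraMap_eq fun _ => rfl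
  obtain ⟨t, ht0, ht⟩ := Groth.Agent.H23FunFld.exists_val_eq P (-1)
  have hord : P.ord t = 1 := by simp [FunFld.Place.ord, ht]
  set T := algebraMap K K' t
  have hT0 : T ≠ 0 := by simpa [T] using ht0
  have hTord : ∀ Q ∈ Qs, 1 ≤ Q.ord T ∧ Q.ord T = (FunFld.ramIdx Q P : ℤ) := by
    intro Q hQ
    obtain ⟨e, he⟩ := (hQs Q).1 hQ
    rw [Groth.Agent.H23Ext.IsOverWith.ord_eq he, hord, mul_one, Groth.Agent.H23Ext.ramIdx_eq he]
    exact ⟨by exact_mod_cast Groth.Agent.H23Ext.IsOverWith.pos he, rfl⟩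
  set N := Qs.sup fun Q => (-Q.ord x).toNat
  have hz0 : T ^ N * x ≠ 0 := mul_ne_zero (pow_ne_zero _ hT0) hx0
  have hpow : ∀ Q : FunFld.Place k K', Q.ord (T ^ N * x) = N * Q.ord T + Q.ord x := fun Q => by
    rw [Groth.Agent.H23FunFld.ord_mul Q (pow_ne_zero _ hT0) hx0]
    simp [FunFld.Place.ord, map_pow]
  have hz : T ^ N * x ∈ integralClosure P.O K' := by
    rw [Groth.Agent.H23Ext.mem_integralClosure_iff hK P]
    intro Q hQ
    refine (Groth.Agent.H23FunFld.val_le_one_iff Q hz0).2 ?_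
    rw [hpow]
    have h1 := (hTord Q ((hQs Q).2 hQ)).1
    have h2 := Finset.le_sup (f := fun Q => (-Q.ord x).toNat) ((hQs Q).2 hQ)
    have h3 : (N : ℤ) * 1 ≤ N * Q.ord T := mul_le_mul_of_nonneg_left h1 (Int.natCast_nonneg _)
    omega
  have h := Groth.Agent.H23Ext.ord_norm hK P hz0 hz Qs hQs
  have hn0 : Algebra.norm K x ≠ 0 := Algebra.norm_ne_zero_iff.2 hx0
  rw [map_mul, map_pow, show Algebra.norm K T = t ^ Module.finrank K K' from Algebra.norm_algebraMap t, ← pow_mul,
    Groth.Agent.H23FunFld.ord_mul P (pow_ne_zero _ ht0) hn0,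
    show P.ord (t ^ (Module.finrank K K' * N)) = ((Module.finrank K K' * N : ℕ) : ℤ) by
      simp [FunFld.Place.ord, map_pow, ht],
    Finset.sum_congr rfl (fun Q hQ => by rw [hpow, (hTord Q hQ).2, mul_add])] at h
  rw [Finset.sum_add_distrib] at h
  have hsum := Groth.Agent.H23Ext.sum_ramIdx_mul_deg (K' := K') hK P Qs hQs
  have hsum' : ∑ Q ∈ Qs, (Q.deg : ℤ) * (N * (FunFld.ramIdx Q P : ℤ)) = (N : ℤ) * ((Module.finrank K K' * P.deg : ℕ) : ℤ) := by
    rw [← hsum, Nat.cast_sum, Finset.mul_sum]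
    refine Finset.sum_congr rfl fun Q _ => ?_
    push_cast; ring
  rw [hsum'] at h
  push_cast at h
  linear_combination h

end Groth.Agent.S11033
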