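import Groth.Statements.S18738
import Groth.Agent.H26ModPair.Basic
import Groth.Agent.H28Neron.Ext
import Groth.Agent.H17.SchDense
import Mathlib.CategoryTheory.Localization.CalculusOfFractions

set_option autoImplicit false
universe u
open CategoryTheory CategoryTheory.Limits AlgebraicGeometry TopologicalSpace
open ModPair

namespace Groth.Agent.S18738

open Groth.Agent.H26ModPair

theorem interior_le_of_ambient {X Y : Scheme.{u}} {I : X.IdealSheafData} {J : Y.IdealSheafData} {f : X ⟶ Y}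
    (h : IsAmbient I J f) : ModPair.interior I ≤ f ⁻¹ᵁ ModPair.interior J := by
  rw [preimage_interior]
  exact fun x hx hs => hx (Scheme.IdealSheafData.support_antitone h hs)

theorem adm_id {X : Scheme.{u}} (I : X.IdealSheafData) : IsAdmBlowup I I (𝟙 X) :=
  ⟨(Scheme.IdealSheafData.comap_id I).symm, inferInstance, inferInstance⟩

theorem adm_comp {X Y Z : Scheme.{u}} {I : X.IdealSheafData} {J : Y.IdealSheafData} {K : Z.IdealSheafData}
    {f : X ⟶ Y} {g : Y ⟶ Z} (hf : IsAdmBlowup I J f) (hg : IsAdmBlowup J K g) :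
    IsAdmBlowup I K (f ≫ g) := by
  obtain ⟨hfm, _, hfi⟩ := hf
  obtain ⟨hgm, _, hgi⟩ := hg
  refine ⟨?_, inferInstance, ?_⟩
  · show I = _
    rw [Scheme.IdealSheafData.comap_comp, ← (hgm : J = _)]
    exact hfm
  · have e : g ⁻¹ᵁ ModPair.interior K = ModPair.interior J := by
      rw [preimage_interior, ← (hgm : J = _)]
    have : IsIso (f ∣_ (g ⁻¹ᵁ ModPair.interior K)) := by rw [e]; exact hfi
    rw [morphismRestrict_comp]
    exact IsIso.comp_isIso' this hgi

theorem isIso_pullback_fst_restrict {X Y' Y : Scheme.{u}} (f : X ⟶ Y') (s : Y ⟶ Y') (U : X.Opens) (V : Y'.Opens)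
    (h : U ≤ f ⁻¹ᵁ V) [IsIso (s ∣_ V)] : IsIso (pullback.fst f s ∣_ U) := by
  set p := pullback.fst f s
  set q := pullback.snd f s
  have sq : IsPullback (p ∣_ U) ((p ⁻¹ᵁ U).ι ≫ q) (U.ι ≫ f) s :=
    (isPullback_morphismRestrict p U).paste_vert (IsPullback.of_hasPullback f s)
  have hq : p ⁻¹ᵁ U ≤ q ⁻¹ᵁ (s ⁻¹ᵁ V) := by
    rw [← Scheme.Hom.comp_preimage, ← pullback.condition, Scheme.Hom.comp_preimage]
    exact Scheme.Hom.preimage_mono _ h
  let a : (U : Scheme.{u}) ⟶ V := f.resLE V U h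
  let b : (p ⁻¹ᵁ U : Scheme.{u}) ⟶ (s ⁻¹ᵁ V) := q.resLE (s ⁻¹ᵁ V) (p ⁻¹ᵁ U) hq
  have hw : (p ∣_ U) ≫ a = b ≫ (s ∣_ V) := by
    rw [← cancel_mono V.ι, Category.assoc, Category.assoc, morphismRestrict_ι,
      Scheme.Hom.resLE_comp_ι, Scheme.Hom.resLE_comp_ι_assoc, morphismRestrict_ι_assoc, pullback.condition]
  have sq' : IsPullback (p ∣_ U) b a (s ∣_ V) := by
    refine IsPullback.of_bot ?_ hw (isPullback_morphismRestrict s V)
    simpa only [a, b, Scheme.Hom.resLE_comp_ι] using sq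
  exact MorphismProperty.of_isPullback (P := MorphismProperty.isomorphisms Scheme.{u}) sq'.flip ‹_›

theorem exists_square {X Y Y' : Scheme.{u}} {I : X.IdealSheafData} {J' : Y'.IdealSheafData}
    {J : Y.IdealSheafData} (hI : BlowUp.IsEffCartierIdeal I) {f : X ⟶ Y'} (hf : IsAmbient I J' f)
    {s : Y ⟶ Y'} (hs : IsAdmBlowup J J' s) :
    ∃ (Z : Scheme.{u}) (π : Z ⟶ X) (g : Z ⟶ Y), BlowUp.IsEffCartierIdeal (I.comap π) ∧
      IsAdmBlowup (I.comap π) I π ∧ IsAmbient (I.comap π) J g ∧ π ≫ f = g ≫ s := by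
  obtain ⟨hmin, _, _⟩ := hs
  set U := pullback.fst f s ⁻¹ᵁ ModPair.interior I with hU
  let π : U.ι.image ⟶ X := U.ι.imageι ≫ pullback.fst f s
  haveI : IsIso (pullback.fst f s ∣_ ModPair.interior I) :=
    isIso_pullback_fst_restrict f s _ _ (interior_le_of_ambient hf)
  haveI := isAffineHom_interior hI
  haveI : IsAffineHom U.ι :=
    MorphismProperty.of_isPullback (P := @IsAffineHom) (isPullback_morphismRestrict (pullback.fst f s) (ModPair.interior I)).flip.flip inferInstance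
  haveI : QuasiCompact U.ι := inferInstance
  haveI : IsSchemeTheoreticallyDominant U.ι.toImage := ⟨Groth.Agent.H17.ker_toImage _⟩
  set W := U.ι.imageι ⁻¹ᵁ U with hW
  have hle : Set.range U.ι.toImage.base ⊆ Set.range W.ι.base := by
    rintro _ ⟨y, rfl⟩
    refine ⟨⟨U.ι.toImage y, ?_⟩, rfl⟩
    show U.ι.imageι (U.ι.toImage y) ∈ U
    rw [← Scheme.Hom.comp_apply, Scheme.Hom.toImage_imageι]
    exact y.2
  let σ := IsOpenImmersion.lift W.ι U.ι.toImage hle
  have hσ : σ ≫ W.ι = U.ι.toImage := IsOpenImmersion.lift_fac _ _ _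
  have hdom : IsSchemeTheoreticallyDominant W.ι := ⟨le_bot_iff.1 (by
    rw [← U.ι.toImage.ker_eq_bot, ← hσ]
    exact Scheme.Hom.le_ker_comp _ _)⟩
  haveI : IsAffineHom W.ι :=
    MorphismProperty.of_isPullback (P := @IsAffineHom) (isPullback_morphismRestrict U.ι.imageι U).flip.flip inferInstance
  have heff : BlowUp.IsEffCartierIdeal (I.comap π) := by
    refine isEff_comap_of_dense hI π ?_
    rw [show π ⁻¹ᵁ ModPair.interior I = W from rfl]
    exact dense_of_dominant
  haveI : IsIso (U.ι.imageι ∣_ U) := by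
    have h1 : σ ≫ (U.ι.imageι ∣_ U) = 𝟙 _ := by
      rw [← cancel_mono U.ι, Category.assoc, morphismRestrict_ι, ← Category.assoc]
      erw [hσ]
      rw [Scheme.Hom.toImage_imageι, Category.id_comp]
    exact ⟨⟨σ, (cancel_mono (U.ι.imageι ∣_ U)).1 (by rw [Category.assoc, h1]; simp), h1⟩⟩
  refine ⟨U.ι.image, π, U.ι.imageι ≫ pullback.snd f s, heff, ⟨rfl, inferInstance, ?_⟩, ?_, ?_⟩
  · rw [morphismRestrict_comp]
    exact IsIso.comp_isIso' (show IsIso (U.ι.imageι ∣_ U) from inferInstance) ‹_›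
  · show I.comap π ≤ _
    calc I.comap π ≤ (J'.comap f).comap π := Scheme.IdealSheafData.comap_mono π hf
      _ = J.comap (U.ι.imageι ≫ pullback.snd f s) := by
        rw [(hmin : J = _), ← Scheme.IdealSheafData.comap_comp, ← Scheme.IdealSheafData.comap_comp]
        simp only [π, Category.assoc, pullback.condition]
  · simp only [π, Category.assoc, pullback.condition]

theorem eq_of_comp_eq {X Y Y' : Scheme.{u}} {I : X.IdealSheafData} {J' : Y'.IdealSheafData}
    {J : Y.IdealSheafData} (hI : BlowUp.IsEffCartierIdeal I) {f₁ f₂ : X ⟶ Y} (h₁ : IsAmbient I J f₁)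
    (h₂ : IsAmbient I J f₂) {s : Y ⟶ Y'} (hs : IsAdmBlowup J J' s) (he : f₁ ≫ s = f₂ ≫ s) : f₁ = f₂ := by
  obtain ⟨hmin, _, _⟩ := hs
  haveI := dominant_interior hI
  refine Groth.Agent.H28Neron.ext_of_schDominant f₁ f₂ s he (ModPair.interior I).ι ?_
  have e : s ⁻¹ᵁ ModPair.interior J' = ModPair.interior J := by rw [preimage_interior, ← (hmin : J = _)]
  have k₁ : ModPair.interior I ≤ f₁ ⁻¹ᵁ (s ⁻¹ᵁ ModPair.interior J') := e.symm ▸ interior_le_of_ambient h₁
  have k₂ : ModPair.interior I ≤ f₂ ⁻¹ᵁ (s ⁻¹ᵁ ModPair.interior J') := e.symm ▸ interior_le_of_ambient h₂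
  have hh : f₁.resLE _ _ k₁ = f₂.resLE _ _ k₂ := by
    rw [← cancel_mono (s ∣_ ModPair.interior J'), ← cancel_mono (ModPair.interior J').ι]
    simp only [Category.assoc, morphismRestrict_ι]
    rw [Scheme.Hom.resLE_comp_ι_assoc, Scheme.Hom.resLE_comp_ι_assoc, he]
  rw [← Scheme.Hom.resLE_comp_ι f₁ k₁, ← Scheme.Hom.resLE_comp_ι f₂ k₂, hh]

/-- In the category of modulus pairs and ambient morphisms, the class Σ of abstract admissible blow-ups
(minimal, proper, an isomorphism over the interior of the target) admits a calculus of right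
fractions: it contains the identities and is stable under composition; every pair X' ⟶ X ⟵ Y with X'
⟶ X in Σ can be completed to a commutative square with a morphism Y' ⟶ Y in Σ; and two ambient
morphisms f, g : X ⟶ Y equalized by some Y ⟶ Z in Σ are equalized by some X' ⟶ X in Σ. -/
theorem result :
    (ModPair.Pair.admBlowup.{u}).HasRightCalculusOfFractions := by
  haveI : (ModPair.Pair.admBlowup.{u}).IsMultiplicative :=
    { id_mem := fun P => adm_id P.mod
      comp_mem := fun _ _ hf hg => adm_comp hf hg }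
  refine { exists_rightFraction := ?_, ext := ?_ }
  · intro X Y φ
    obtain ⟨Z, π, g, heff, hadm, hamb, heq⟩ := exists_square X.isEffCartier φ.f.cond φ.hs
    exact ⟨.mk (X' := ⟨Z, _, heff⟩) ⟨π, le_of_eq hadm.1⟩ hadm ⟨g, hamb⟩, Pair.Hom.ext heq⟩
  · intro X Y Y' f₁ f₂ s hs he
    exact ⟨X, 𝟙 X, adm_id X.mod, by
      rw [Category.id_comp, Category.id_comp]
      exact Pair.Hom.ext (eq_of_comp_eq X.isEffCartier f₁.cond f₂.cond hs (congrArg Pair.Hom.hom he))⟩

end Groth.Agent.S18738
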