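import Groth.Statements.S18746
import Groth.Agent.H26MPA.Model
import Groth.Agent.H26ModPair.AmbProd

set_option autoImplicit false
universe u
open CategoryTheory CategoryTheory.Limits AlgebraicGeometry TopologicalSpace
open ModPair

namespace Groth.Agent.S18746

set_option backward.isDefEq.respectTransparency false

open Groth.Agent.H7Lim Groth.Agent.H26MPA Groth.Agent.H26ModPair

/-- Let (X_i, I_i) be a cofiltered system of quasi-compact quasi-separated schemes with quasi-coherent
ideal sheaves of effective Cartier divisors and affine, minimal transition morphisms, X its limit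
with projections π_i and modulus I = I_i.comap π_i for all i, and s : Y ⟶ X an abstract admissible
blow-up of modulus pairs (I.comap s an effective Cartier ideal sheaf, s proper and an isomorphism
over the interior of (X, I)). Then the blow-up descends: for some index i there are a scheme Y_i
with the ideal sheaf I_{Y_i} of an effective Cartier divisor, an abstract admissible blow-up s_i :
Y_i ⟶ X_i from (Y_i, I_{Y_i}) to (X_i, I_i), and an isomorphism over X between Y and the ambient
product of X and Y_i over X_i, namely the scheme-theoretic image of pr₁⁻¹(X°) ∩ pr₂⁻¹(Y_i°) in X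
×_{X_i} Y_i. -/
theorem result {I : Type u}
    [SmallCategory I] [IsCofiltered I] (D : I ⥤ Scheme.{u}) (c : Cone D) (hc : IsLimit c)
    [∀ (i j : I) (t : i ⟶ j), IsAffineHom (D.map t)]
    [∀ i, CompactSpace (D.obj i)] [∀ i, QuasiSeparatedSpace (D.obj i)]
    (J : ∀ i, (D.obj i).IdealSheafData) (hJ : ∀ i, BlowUp.IsEffCartierIdeal (J i))
    (hmin : ∀ (i j : I) (t : i ⟶ j), ModPair.IsMinimal (J i) (J j) (D.map t))
    (IX : c.pt.IdealSheafData) (hIX : ∀ i, IX = (J i).comap (c.π.app i))
    {Y : Scheme.{u}} (s : Y ⟶ c.pt) (hY : BlowUp.IsEffCartierIdeal (IX.comap s))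
    (hs : ModPair.IsAdmBlowup (IX.comap s) IX s) :
    ∃ (i : I) (Yi : Scheme.{u}) (IYi : Yi.IdealSheafData) (si : Yi ⟶ D.obj i),
      BlowUp.IsEffCartierIdeal IYi ∧ ModPair.IsAdmBlowup IYi (J i) si ∧
        ∃ e : Y ≅ ModPair.mprod (c.π.app i) si IX IYi,
          e.hom ≫ ModPair.mprodι (c.π.app i) si IX IYi ≫ pullback.fst (c.π.app i) si = s := by
  haveI : ∀ i, IsAffineHom (c.π.app i) := fun i => isAffineHom_π_app D c hc i
  haveI : Nonempty I := IsCofiltered.nonempty
  let i₀ : I := Classical.arbitrary I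
  haveI : CompactSpace c.pt := QuasiCompact.compactSpace_of_compactSpace (c.π.app i₀)
  haveI : QuasiSeparatedSpace c.pt := quasiSeparatedSpace_of_quasiSeparated (c.π.app i₀)
  have hU : ∀ i, c.π.app i ⁻¹ᵁ ModPair.interior (J i) = ModPair.interior IX := fun i => by
    rw [preimage_interior, ← hIX]
  have hcpt : ∀ i, IsCompact (ModPair.interior (J i) : Set (D.obj i)) := fun i => by
    haveI := quasiCompact_interior (hJ i)
    haveI : CompactSpace (ModPair.interior (J i)) :=
      QuasiCompact.compactSpace_of_compactSpace (ModPair.interior (J i)).ι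
    exact isCompact_iff_compactSpace.2 ‹_›
  obtain ⟨hsmin, hsp, hsi⟩ := hs
  haveI := hsp
  obtain ⟨Z, f', j, hlfp, hfp, hj, hjf, hfi⟩ := exists_proper_model s (ModPair.interior IX)
    (hU i₀ ▸ QuasiCompact.isCompact_preimage _ (ModPair.interior (J i₀)).2 (hcpt i₀)) hsi
  obtain ⟨i₁, ⟨M⟩⟩ := FPDescent.exists_model hc f'
  haveI := M.lfp; haveI := M.qc; haveI := M.qs
  haveI : CompactSpace M.P := QuasiCompact.compactSpace_of_compactSpace M.p
  haveI : QuasiSeparatedSpace M.P := quasiSeparatedSpace_of_quasiSeparated M.p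
  obtain ⟨i₂, φ, hp₂⟩ := descends_isProper _ D c hc i₁ M.p
    (inferInstanceAs (LocallyOfFiniteType M.p))
    ((prop_iff_of_isPullback (P := @IsProper) M.hpb).mp hfp)
  let M₂ := M.shift φ
  haveI := M₂.lfp; haveI := M₂.qc; haveI := M₂.qs
  obtain ⟨k, χ, hp₃⟩ := exists_isIso_restrict_stage hc i₂ M₂.p (ModPair.interior (J i₂)) (hcpt i₂) (by
    haveI : IsIso (f' ∣_ (c.π.app i₂ ⁻¹ᵁ ModPair.interior (J i₂))) := by rw [hU i₂]; exact hfi
    have h : IsIso ((M₂.hpb.isoPullback.hom ≫ pullback.snd M₂.p (c.π.app i₂)) ∣_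
        (c.π.app i₂ ⁻¹ᵁ ModPair.interior (J i₂))) := by
      rw [M₂.hpb.isoPullback_hom_snd]; infer_instance
    rw [morphismRestrict_comp] at h
    exact IsIso.of_isIso_comp_left (M₂.hpb.isoPullback.hom ∣_ _) _)
  let N := M₂.shift χ
  haveI hNp : IsProper N.p :=
    MorphismProperty.pullback_snd _ _ (hp₂ : IsProper M₂.p)
  have hVk : D.map χ ⁻¹ᵁ ModPair.interior (J i₂) = ModPair.interior (J k) := by
    rw [preimage_interior]
    exact congrArg _ (hmin k i₂ χ).symm
  haveI hNi : IsIso (N.p ∣_ ModPair.interior (J k)) := by rw [← hVk]; exact hp₃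
  let Po : N.P.Opens := N.p ⁻¹ᵁ ModPair.interior (J k)
  haveI := isAffineHom_interior (hJ k)
  haveI hPo : IsAffineHom Po.ι :=
    MorphismProperty.of_isPullback (P := @IsAffineHom) (isPullback_morphismRestrict N.p _).flip.flip inferInstance
  let si : Po.ι.image ⟶ D.obj k := Po.ι.imageι ≫ N.p
  let IYi := (J k).comap si
  have hsiI : IsIso (si ∣_ ModPair.interior (J k)) := by
    show IsIso ((Po.ι.imageι ≫ N.p) ∣_ ModPair.interior (J k))
    rw [morphismRestrict_comp]
    haveI : IsIso (Po.ι.imageι ∣_ N.p ⁻¹ᵁ ModPair.interior (J k)) := isIso_imageι_restrict Po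
    infer_instance
  have hYi : BlowUp.IsEffCartierIdeal IYi := isEff_comap_of_dense (hJ k) si (dense_image Po)
  refine ⟨k, Po.ι.image, IYi, si, hYi,
    ⟨rfl, inferInstanceAs (IsProper (Po.ι.imageι ≫ N.p)), hsiI⟩, ?_⟩
  -- the map from `Y`
  have hjg : j ≫ N.g ≫ N.p = s ≫ c.π.app k := by
    rw [N.hpb.w, reassoc_of% hjf]
  haveI := dominant_interior hY
  obtain ⟨l, hl⟩ := exists_lift_image (j ≫ N.g) Po (ModPair.interior (IX.comap s)) (by
    rw [← preimage_interior, ← hU k]
    show s ⁻¹ᵁ (c.π.app k ⁻¹ᵁ ModPair.interior (J k)) ≤ (j ≫ N.g) ⁻¹ᵁ (N.p ⁻¹ᵁ ModPair.interior (J k))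
    rw [← Scheme.Hom.comp_preimage, ← Scheme.Hom.comp_preimage, Category.assoc, hjg])
  have hlsi : l ≫ si = s ≫ c.π.app k := by
    show l ≫ Po.ι.imageι ≫ N.p = _
    rw [reassoc_of% hl, hjg]
  let h : Y ⟶ pullback (c.π.app k) si := pullback.lift s l hlsi.symm
  obtain ⟨e, he⟩ := exists_lift_mprod (c.π.app k) si IX IYi hY h
    (by rw [ModPair.IsAmbient, pullback.lift_fst])
    (by
      rw [ModPair.IsAmbient, pullback.lift_snd, ← Scheme.IdealSheafData.comap_comp, hlsi,
        Scheme.IdealSheafData.comap_comp, ← hIX k])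
  -- the map back
  let m := ModPair.mprodι (c.π.app k) si IX IYi
  let q : pullback (c.π.app k) si ⟶ Z :=
    N.hpb.lift (pullback.snd _ si ≫ Po.ι.imageι) (pullback.fst _ _)
      (by rw [Category.assoc]; exact pullback.condition.symm)
  have hint : ModPair.prodInterior (c.π.app k) si IX IYi =
      pullback.fst (c.π.app k) si ⁻¹ᵁ ModPair.interior IX := by
    refine inf_eq_left.2 (le_of_eq ?_)
    rw [show ModPair.interior IYi = si ⁻¹ᵁ ModPair.interior (J k) from (preimage_interior si (J k)).symm,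
      ← hU k, ← Scheme.Hom.comp_preimage, ← Scheme.Hom.comp_preimage, pullback.condition]
  haveI : IsAffineHom (ModPair.interior IX).ι := by
    rw [← hU k]
    exact MorphismProperty.of_isPullback (P := @IsAffineHom) (isPullback_morphismRestrict (c.π.app k) _).flip.flip inferInstance
  haveI : IsAffineHom (ModPair.prodInterior (c.π.app k) si IX IYi).ι := by
    rw [hint]
    exact MorphismProperty.of_isPullback (P := @IsAffineHom)
      (isPullback_morphismRestrict (pullback.fst (c.π.app k) si) _).flip.flip inferInstance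
  let V' := m ⁻¹ᵁ ModPair.prodInterior (c.π.app k) si IX IYi
  haveI : IsAffineHom V'.ι :=
    MorphismProperty.of_isPullback (P := @IsAffineHom) (isPullback_morphismRestrict m _).flip.flip inferInstance
  haveI : IsSchemeTheoreticallyDominant V'.ι := dominant_of_dense (dense_image _)
  haveI hjU : IsIso (j ∣_ f' ⁻¹ᵁ ModPair.interior IX) := by
    rw [← hjf, morphismRestrict_comp] at hsi
    haveI := hfi
    exact IsIso.of_isIso_comp_right (j ∣_ _) (f' ∣_ ModPair.interior IX)
  have hr : Set.range (V'.ι ≫ m ≫ q) ⊆ Set.range (f' ⁻¹ᵁ ModPair.interior IX).ι := by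
    rw [Scheme.Opens.range_ι]
    rintro _ ⟨y, rfl⟩
    show (V'.ι ≫ m ≫ q ≫ f') y ∈ ModPair.interior IX
    rw [IsPullback.lift_snd]
    exact (hint.le y.2 : _)
  let r := IsOpenImmersion.lift _ _ hr ≫ inv (j ∣_ f' ⁻¹ᵁ ModPair.interior IX) ≫
    (j ⁻¹ᵁ (f' ⁻¹ᵁ ModPair.interior IX)).ι
  have hrj : r ≫ j = V'.ι ≫ m ≫ q := by
    simp only [r, Category.assoc]
    rw [← morphismRestrict_ι, IsIso.inv_hom_id_assoc, IsOpenImmersion.lift_fac]
  have hker : j.ker ≤ (m ≫ q).ker := by
    refine (Scheme.Hom.le_ker_comp r j).trans (le_of_eq ?_)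
    rw [hrj, Scheme.Hom.ker_comp, V'.ι.ker_eq_bot, Scheme.IdealSheafData.map_bot]
  let d := IsClosedImmersion.lift j (m ≫ q) hker
  have hd : d ≫ j = m ≫ q := IsClosedImmersion.lift_fac _ _ _
  have hed : e ≫ d = 𝟙 Y := by
    rw [← cancel_mono j, Category.assoc, hd, reassoc_of% he, Category.id_comp]
    apply N.hpb.hom_ext
    · rw [Category.assoc, IsPullback.lift_fst, pullback.lift_snd_assoc, hl]
    · rw [Category.assoc, IsPullback.lift_snd, pullback.lift_fst, hjf]
  have hde : d ≫ e = 𝟙 _ := by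
    rw [← cancel_mono m, Category.assoc, he, Category.id_comp]
    apply pullback.hom_ext
    · rw [Category.assoc, pullback.lift_fst, ← hjf, reassoc_of% hd, IsPullback.lift_snd]
    · rw [← cancel_mono Po.ι.imageι, Category.assoc, Category.assoc, pullback.lift_snd_assoc, hl,
        reassoc_of% hd, IsPullback.lift_fst, Category.assoc]
  refine ⟨⟨e, d, hed, hde⟩, ?_⟩
  show e ≫ m ≫ _ = s
  rw [reassoc_of% he, pullback.lift_fst]

end Groth.Agent.S18746
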