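import Groth.Statements.S7198
import Groth.Agent.H8Props.FppfTower.Scheme

set_option autoImplicit false
universe w u
open FlatMor

namespace Groth.Agent.S7198

open AlgebraicGeometry CategoryTheory Limits in
/-- Any fppf covering {S_i → S} is refined by a family built in four steps — cover S by Zariski opens
U_j; over each U_j take a surjective finite locally free W_j → U_j; cover each W_j by Zariski opens
W_{j,k}; over each of those take a surjective finite locally free T_{j,k} → W_{j,k} — where every
composite T_{j,k} → S factors through some S_i. Stated pointwise: around every point of S, and then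
around every point of the finite locally free cover, such data exist. -/
theorem result {S : Scheme.{u}} (E : PreZeroHypercover.{w} S)
    (hflat : ∀ i, Flat (E.f i)) (hfp : ∀ i, LocallyOfFinitePresentation (E.f i))
    (hsurj : ∀ s : S, ∃ (i : E.I₀) (x : E.X i), E.f i x = s) (s : S) :
    ∃ (U : S.Opens) (W : Scheme.{u}) (π : W ⟶ U.toScheme), s ∈ U ∧ Mor2.IsFinLocFree π ∧ Surjective π ∧
      ∀ w : W, ∃ (W' : W.Opens) (T : Scheme.{u}) (ρ : T ⟶ W'.toScheme) (i : E.I₀) (r : T ⟶ E.X i),
        w ∈ W' ∧ Mor2.IsFinLocFree ρ ∧ Surjective ρ ∧ r ≫ E.f i = ρ ≫ W'.ι ≫ π ≫ U.ι := by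
    obtain ⟨i, x, hx⟩ := hsurj s
    haveI := hflat i
    haveI := hfp i
    obtain ⟨U, W, π, hU, hπ, hπs, hloc⟩ :=
      Groth.Agent.H8Props.FppfTower.exists_tower_scheme (E.f i) x
    refine ⟨U, W, π, hx ▸ hU, hπ, hπs, fun w => ?_⟩
    obtain ⟨W', T', ρ, r, hw, hρ, hρs, hr⟩ := hloc w
    exact ⟨W', T', ρ, i, r, hw, hρ, hρs, hr⟩

end Groth.Agent.S7198
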