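import Groth.Statements.S1592
import Groth.Agent.H29Node.Family

set_option autoImplicit false
universe u
open CategoryTheory CategoryTheory.Limits AlgebraicGeometry
open Curves

namespace Groth.Agent.S1592

/-- If f : X → S is at-worst-nodal of relative dimension one and g : Y → X is étale, then g ≫ f is
at-worst-nodal of relative dimension one. -/
theorem result {X Y S : Scheme.{u}} (f : X ⟶ S) (hf : Curv2.IsNodalFamily f) (g : Y ⟶ X) [Etale g] :
    Curv2.IsNodalFamily (g ≫ f) := by
  obtain ⟨hfl, hlfp, hfib⟩ := hf
  haveI := hfl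
  haveI := hlfp
  refine ⟨inferInstance, inferInstance, fun s => ?_⟩
  obtain ⟨m, hm, hsq⟩ := H29Node.exists_fibre_map g f s
  haveI : Etale m := MorphismProperty.of_isPullback hsq ‹Etale g›
  letI : (f.fiber s).Over (Spec (CommRingCat.of (S.residueField s))) := ⟨f.fiberToSpecResidueField s⟩
  letI : ((g ≫ f).fiber s).Over (Spec (CommRingCat.of (S.residueField s))) := ⟨(g ≫ f).fiberToSpecResidueField s⟩
  haveI : LocallyOfFiniteType (f.fiber s ↘ Spec (CommRingCat.of (S.residueField s))) :=
    H8Props.FieldDim.locallyOfFiniteType_fiberToSpec f s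
  obtain ⟨h1, h2⟩ := hfib s
  exact ⟨H29Node.pure_of_etale (k := S.residueField s) m hm h1, H29Node.atWorstNodal_of_etale (k := S.residueField s) m hm h2⟩

end Groth.Agent.S1592
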