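import Groth.Statements.S5760
import Groth.Agent.H05EGA4.SamuelParams
import Groth.Agent.H05EGA4.DepthMisc

set_option autoImplicit false
universe u
open EGA41

open Groth.Agent Groth.Agent.H05EGA4 IsLocalRing
open scoped Pointwise

namespace Groth.Agent.S5760

/-- Let A be a Noetherian local ring, M a nonzero finitely generated Cohen-Macaulay A-module, p a prime
ideal in the support of M and r the integer dim(M) - dim(M/pM). Then there exists an M-regular
sequence x_1, ..., x_r of elements of p; for every such sequence, dim(M/(x_1 M + ... + x_r M)) =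
dim(M/pM) = dim(A/p), and p is a minimal element of the set of associated primes of M/(x_1 M + ... +
x_r M). -/
theorem result (A : Type u) [CommRing A]
    [IsLocalRing A] [IsNoetherianRing A] (M : Type u) [AddCommGroup M] [Module A M] [Module.Finite A M]
    (hM : LocCoh.IsCohenMacaulayModule A M) (p : PrimeSpectrum A) (hp : p ∈ Module.support A M) (r : ℕ)
    (hr : Module.supportDim A (M ⧸ (p.asIdeal • (⊤ : Submodule A M))) + r = Module.supportDim A M) :
    (∃ xs : List A, xs.length = r ∧ (∀ x ∈ xs, x ∈ p.asIdeal) ∧ RingTheory.Sequence.IsWeaklyRegular M xs) ∧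
      ∀ xs : List A, xs.length = r → (∀ x ∈ xs, x ∈ p.asIdeal) → RingTheory.Sequence.IsWeaklyRegular M xs →
        Module.supportDim A (M ⧸ (Ideal.ofList xs • (⊤ : Submodule A M))) =
            Module.supportDim A (M ⧸ (p.asIdeal • (⊤ : Submodule A M))) ∧
          Module.supportDim A (M ⧸ (p.asIdeal • (⊤ : Submodule A M))) = ringKrullDim (A ⧸ p.asIdeal) ∧
          p.asIdeal ∈ associatedPrimes A (M ⧸ (Ideal.ofList xs • (⊤ : Submodule A M))) ∧
          ∀ q ∈ associatedPrimes A (M ⧸ (Ideal.ofList xs • (⊤ : Submodule A M))), q ≤ p.asIdeal → q = p.asIdeal := by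
  haveI := H4Depth.IsCM.nontrivial hM
  obtain ⟨d, hd⟩ := H4Depth.exists_nat_supportDim_eq (R := A) (M := M)
  have hpm : p.asIdeal ≤ maximalIdeal A := le_maximalIdeal p.isPrime.ne_top
  have hsupp : Module.supportDim A (M ⧸ (p.asIdeal • (⊤ : Submodule A M))) = ringKrullDim (A ⧸ p.asIdeal) := by
    refine H4Depth.supportDim_eq_ringKrullDim_quotient_of_support_eq ?_
    rw [H4Depth.support_quotient_smul_top, Set.inter_eq_right]
    exact fun q hq => Module.mem_support_mono (p := p) (fun a ha => hq ha) hp
  have hne : p.asIdeal • (⊤ : Submodule A M) ≠ ⊤ :=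
    ne_top_of_le_ne_top H4Depth.maximalIdeal_smul_top_ne_top (Submodule.smul_mono_left hpm)
  haveI : Nontrivial (M ⧸ (p.asIdeal • (⊤ : Submodule A M))) := Submodule.Quotient.nontrivial_iff.mpr hne
  obtain ⟨e, he⟩ := H4Depth.exists_nat_supportDim_eq (R := A) (M := M ⧸ (p.asIdeal • (⊤ : Submodule A M)))
  have hed : e + r = d := by rw [he, hd] at hr; exact_mod_cast hr
  refine ⟨?_, fun xs hlen hxp hreg => ?_⟩
  · obtain ⟨a, ha⟩ := ENat.ne_top_iff_exists.mp (H4Depth.idealDepth_ne_top hne)
    have h0 := H4Depth.IsCM.supportDim_eq_add_idealDepth p.isPrime.ne_top hM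
    rw [hd, he, ← ha] at h0
    have h1 : d = e + a := by exact_mod_cast h0
    exact H4Depth.exists_isWeaklyRegular_of_le_idealDepth hne (by rw [← ha, show a = r by omega])
  · have hxm : ∀ x ∈ xs, x ∈ maximalIdeal A := fun x hx => hpm (hxp x hx)
    obtain ⟨-, hdim⟩ := (DepthMisc.isCM_main xs hxm M hM).1 hreg
    let Q := M ⧸ (Ideal.ofList xs • (⊤ : Submodule A M))
    have hQne : Ideal.ofList xs • (⊤ : Submodule A M) ≠ ⊤ :=
      (H4Depth.ofList_smul_top_ne_top hne hxp).symm
    haveI : Nontrivial Q := Submodule.Quotient.nontrivial_iff.mpr hQne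
    obtain ⟨f, hf⟩ := H4Depth.exists_nat_supportDim_eq (R := A) (M := Q)
    have hfe : f = e := by
      rw [hlen, hd, hf] at hdim
      have : f + r = d := by exact_mod_cast hdim
      omega
    have hpQ : p ∈ Module.support A Q := by
      rw [H4Depth.support_quotient_smul_top]
      exact ⟨hp, Ideal.span_le.mpr fun x hx => hxp x hx⟩
    have hmin : ∀ q : PrimeSpectrum A, q ∈ Module.support A Q → q ≤ p → q = p := by
      intro q hq hqp
      by_contra hqne
      have hlt : q < p := lt_of_le_of_ne hqp hqne
      have h1 := H4Depth.ringKrullDim_quotient_le_supportDim hq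
      have h2 : ringKrullDim (A ⧸ p.asIdeal) + 1 ≤ ringKrullDim (A ⧸ q.asIdeal) := by
        obtain ⟨x, hx, hxq⟩ := Set.exists_of_ssubset (show (q.asIdeal : Set A) ⊂ p.asIdeal from hlt)
        rw [← Module.supportDim_quotient_eq_ringKrullDim, ← Module.supportDim_quotient_eq_ringKrullDim]
        have h3 : Module.supportDim A (A ⧸ p.asIdeal) ≤ Module.supportDim A (QuotSMulTop x (A ⧸ q.asIdeal)) := by
          rw [Module.supportDim, Module.supportDim]
          refine Order.krullDim_le_of_strictMono (fun z => (⟨z.1, ?_⟩ : Module.support A (QuotSMulTop x (A ⧸ q.asIdeal)))) fun _ _ h => h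
          have hz : p.asIdeal ≤ z.1.asIdeal := by
            have := z.2
            simp only [Module.support_eq_zeroLocus, Ideal.annihilator_quotient] at this
            exact this
          rw [Module.support_quotSMulTop]
          refine ⟨?_, ?_⟩
          · rw [Module.support_eq_zeroLocus, Ideal.annihilator_quotient]
            exact le_trans hlt.le hz
          · rw [PrimeSpectrum.mem_zeroLocus, Set.singleton_subset_iff]
            exact hz hx
        refine (add_le_add h3 le_rfl).trans (Module.supportDim_quotSMulTop_succ_le_of_notMem_minimalPrimes fun r hr' => ?_)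
        rw [Ideal.annihilator_quotient, Ideal.minimalPrimes_eq_subsingleton_self, Set.mem_singleton_iff] at hr'
        exact hr' ▸ hxq
      rw [← hsupp, he] at h2
      rw [hf, hfe] at h1
      have h4 := h2.trans h1
      have h5 : e + 1 ≤ e := by exact_mod_cast h4
      omega
    refine ⟨by rw [hf, he, hfe], hsupp, ?_, fun q hq hqp => ?_⟩
    · refine Module.associatedPrimes.minimalPrimes_annihilator_subset_associatedPrimes A Q
        ⟨⟨p.isPrime, Module.mem_support_iff_of_finite.mp hpQ⟩, fun q hq hqp => ?_⟩
      exact (hmin ⟨q, hq.1⟩ (Module.mem_support_iff_of_finite.mpr hq.2) hqp) ▸ le_rfl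
    · exact congrArg PrimeSpectrum.asIdeal (hmin ⟨q, hq.isPrime⟩ (H4Depth.mem_support_of_mem_associatedPrimes hq) hqp)

end Groth.Agent.S5760
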