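import Groth.Statements.S18368
import Groth.Agent.H25Rig.Rigidity
import Mathlib

set_option autoImplicit false
universe u
open CategoryTheory CategoryTheory.Limits MonoidalCategory CartesianMonoidalCategory AlgebraicGeometry
open AbVar

namespace Groth.Agent.S18368

/-- Let k be a field, X and Y geometrically integral k-schemes of finite type with X proper, Z a
separated k-scheme and f : X ×_k Y → Z a k-morphism (products in the cartesian monoidal category of
k-schemes). If for some algebraically closed field K over k there are points y₀ : Spec K → Y and z₀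
: Spec K → Z over k such that f restricted to X ×_k Spec K along y₀ is the constant map z₀, then f
factors uniquely through the second projection: there is exactly one g : Y → Z over k with f = pr₂ ≫
g. (The target Z is not assumed to be of finite type over k.) -/
theorem result (k : Type u) [Field k]
    (X Y Z : Over (Spec (CommRingCat.of k)))
    [IsProper X.hom] [GeometricallyIntegral X.hom]
    [LocallyOfFiniteType Y.hom] [QuasiCompact Y.hom] [GeometricallyIntegral Y.hom]
    [IsSeparated Z.hom] (f : X ⊗ Y ⟶ Z)
    (K : Type u) [Field K] [Algebra k K] [IsAlgClosed K]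
    (y₀ : (Over.mk (Spec.map (CommRingCat.ofHom (algebraMap k K))) : Over (Spec (CommRingCat.of k))) ⟶ Y)
    (z₀ : (Over.mk (Spec.map (CommRingCat.ofHom (algebraMap k K))) : Over (Spec (CommRingCat.of k))) ⟶ Z)
    (h : (X ◁ y₀) ≫ f = snd X _ ≫ z₀) :
    ∃! g : Y ⟶ Z, f = snd X Y ≫ g := by
  haveI : IsProper X.hom := inferInstance
  let pK : ↥(Over.mk (Spec.map (CommRingCat.ofHom (algebraMap k K))) : Over (Spec (CommRingCat.of k))).left :=
    IsLocalRing.closedPoint K
  obtain ⟨U, hU, hzU, -⟩ := exists_isAffineOpen_mem_and_subset (X := Z.left) (U := ⊤) (TopologicalSpace.Opens.mem_top (z₀.left pK))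
  have hfib : ∀ p, pullback.snd X.hom Y.hom p = y₀.left pK → f.left p ∈ U := by
    intro p hp
    have hr : p ∈ Set.range (X ◁ y₀).left := by
      rw [Over.whiskerLeft_left, Scheme.Pullback.range_map]
      exact ⟨⟨pullback.fst X.hom Y.hom p, rfl⟩, ⟨pK, hp.symm⟩⟩
    obtain ⟨w, rfl⟩ := hr
    have hh := congrArg (fun e : X ⊗ (Over.mk (Spec.map (CommRingCat.ofHom (algebraMap k K))) : Over (Spec (CommRingCat.of k))) ⟶ Z => e.left w) h
    have hu : ∀ x : ↥(Over.mk (Spec.map (CommRingCat.ofHom (algebraMap k K))) : Over (Spec (CommRingCat.of k))).left, x = pK :=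
      fun x => Subsingleton.elim (α := PrimeSpectrum K) _ _
    have hh' : f.left ((X ◁ y₀).left w) = z₀.left pK := hh.trans (congrArg z₀.left (hu _))
    exact hh' ▸ hzU
  obtain ⟨b, hb, hbu⟩ := Groth.Agent.H25Rig.exists_factor_snd X.hom Y.hom Z.hom f.left
    ((Over.w f).trans (by rw [Over.tensorObj_hom, ← pullback.condition])) (y₀.left pK) U hU hfib
  haveI : IsLocallyNoetherian Y.left := LocallyOfFiniteType.isLocallyNoetherian Y.hom
  haveI : Epi (pullback.snd X.hom Y.hom) := inferInstance
  have hw : b ≫ Z.hom = Y.hom := by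
    rw [← cancel_epi (pullback.snd X.hom Y.hom), ← Category.assoc, hb]
    exact (Over.w f).trans (by rw [Over.tensorObj_hom, ← pullback.condition])
  refine ⟨Over.homMk b hw, Over.OverMorphism.ext ?_, fun g hg => Over.OverMorphism.ext (hbu g.left ?_)⟩
  · exact hb.symm
  · exact (congrArg (fun e => e.left) hg).symm

end Groth.Agent.S18368
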