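import Groth.Statements.S12667
import Groth.Agent.H3Cyc.TopChern
import Groth.Agent.H22Alg.CycBasic
import Groth.Agent.H22Alg.ExtPowSum
-- import your own Groth.Agent.* helpers here

set_option autoImplicit false
universe u
open CategoryTheory CategoryTheory.Limits AlgebraicGeometry
set_option backward.isDefEq.respectTransparency.types false
open Cyc
open Groth.Agent
open Groth.Agent.H3Cyc

namespace Groth.Agent.S12667

theorem es_length {R : Type*} [Semiring R] : ∀ l : List R, ESym.es l l.length = l.prod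
  | [] => by simp
  | x :: xs => by
    rw [List.length_cons, ESym.es_cons_succ, ESym.es_eq_zero xs (xs.length + 1) (Nat.lt_succ_self _),
      es_length xs, List.prod_cons, zero_add]

theorem exists_stalk_basis {X : Scheme.{u}} {E : X.Modules} {r : ℕ} (hE : FlatMod.IsFinLocFreeOfRank r E) (x : X) :
    Nonempty (Module.Basis (Fin r) (X.presheaf.stalk x) (E.presheaf.stalk x)) := by
  obtain ⟨U, hx, ⟨e⟩⟩ := hE x
  obtain ⟨V, hV, hxV, hle⟩ := exists_isAffineOpen_mem_and_subset (x := x) (U := U) hx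
  obtain ⟨b⟩ := H8Props.FinLocFree.exists_basis_of_chart E e hle
  exact H22Alg.ExtPowSum.exists_stalkBasis (H8Props.FinLocFree.isQCoh_of_isFinLocFree E
    (H22Alg.KPullLam.finLocFree_of_rank hE)) hV b hxV

/-- The length of a stalk modulo an extended ideal along a flat morphism. -/
theorem length_map {X Y : Scheme.{u}} (f : Y ⟶ X) [Flat f] (y : Y) (I : Ideal (X.presheaf.stalk (f y))) :
    Module.length (Y.presheaf.stalk y) (Y.presheaf.stalk y ⧸ I.map (f.stalkMap y).hom) =
      Module.length (X.presheaf.stalk (f y)) (X.presheaf.stalk (f y) ⧸ I) *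
        Module.length (Y.presheaf.stalk y)
          (Y.presheaf.stalk y ⧸ (IsLocalRing.maximalIdeal (X.presheaf.stalk (f y))).map (f.stalkMap y).hom) :=
  H22Alg.CycBasic.length_quot_map (f.stalkMap y).hom (Flat.stalkMap f y) I

/-- Flat pullback of a fundamental cycle. -/
theorem pullFun_fund {X Y : Scheme.{u}} (f : Y ⟶ X) [Flat f] {δY : Y → ℤ} {δ : X → ℤ} (hY : Cyc.IsSetup Y δY) {c : ℤ}
    (hc : FlatRat.MaxDim f δY δ c) (n : ℤ) (hn : ∀ x, δ x ≤ n) :
    Cyc.pullFun f δY δ c (Cyc.subschemeFun δ n (𝟙 X)) = Cyc.subschemeFun δY (n + c) (𝟙 Y) := by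
  funext y
  simp only [Cyc.pullFun]
  rw [Fund.subschemeFun_id, Fund.subschemeFun_id]
  have h1 := hn (f y)
  have h2 := FlatRat.delta_le_of_maxDim f hY hc y
  have hlen := length_map f y ⊥
  rw [(Submodule.quotEquivOfEqBot _ (Ideal.map_bot (f := (f.stalkMap y).hom))).length_eq,
    (Submodule.quotEquivOfEqBot _ (rfl : (⊥ : Ideal (X.presheaf.stalk (f y))) = ⊥)).length_eq] at hlen
  rw [hlen, ENat.toNat_mul]
  push_cast
  split_ifs <;> first | rfl | (exfalso; omega) | simp

/-- Let E be finite locally free of rank r on X with dim_δ(X) ≤ n, s ∈ Γ(X, E) a global section and Z =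
Z(s) its zero scheme, the closed subscheme whose ideal is the image of s : E^∨ → O_X (pinned here
pointwise: Z is the locus where s vanishes in E(x), and at each point of Z the ideal of Z in O_{X,x}
is generated by the coordinates of the germ of s in a basis of the free module E_x). Suppose further
that dim_δ(Z) ≤ n - r, and that whenever ξ is a generic point of Z with δ(ξ) = n - r, the ideal of Z
in the local ring O_{X,ξ} admits r generators forming a regular sequence. Under these hypotheses the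
classes c_r(E) ∩ [X]_n and [Z]_{n-r} coincide in CH_{n-r}(X), where [X]_n and [Z]_{n-r} denote the
cycles attached to the closed subschemes (Cyc.subschemeFun). (The published statement is for a
section of f^*E along any f : X' → X locally of finite type; since f^*E is again finite locally free
of rank r on X', the case f = id stated here for all X and E is the general one.) Setting: (X, δ)
with Cyc.IsSetup stands for a scheme locally of finite type over the base (S, δ) (X locally
Noetherian with universally catenary local rings, δ a dimension function); (p : P → X, O_P(1), q) is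
the projective bundle of E given by its universal property (KRR.IsProjBundle), p is proper and δP is
the induced dimension function (Cyc.DeltaCompat); a tuple γ with Cyc.IsChernCap represents (c_0(E) ∩
α, …, c_r(E) ∩ α) through the defining relation Σ_i (-1)^i c_1(O_P(1))^i ∩ p^*(γ_{r-i}) ∼_rat 0 on
P, and classes are compared up to rational equivalence of representing cycles. -/
theorem result (X : Scheme.{u}) (δ : X → ℤ) (hX : Cyc.IsSetup X δ) (r : ℕ) (E : X.Modules) (hPE : FlatMod.IsFinLocFreeOfRank r E) (P : Scheme.{u}) (p : P ⟶ X) (O1 : P.Modules) (q : (Scheme.Modules.pullback p).obj E ⟶ O1) (hP : KRR.IsProjBundle p E O1 q) [IsProper p] (δP : P → ℤ) (hPs : Cyc.IsSetup P δP) (hδ : Cyc.DeltaCompat p δP δ) (n : ℤ) (hn : ∀ x : X, δ x ≤ n) (s : E.presheaf.obj (Opposite.op ⊤)) (Z : Scheme.{u}) (i : Z ⟶ X) [IsClosedImmersion i] (hZ1 : Set.range ⇑i = {x : X | (E.presheaf.germ ⊤ x trivial) s ∈ IsLocalRing.maximalIdeal (X.presheaf.stalk x) • (⊤ : Submodule (X.presheaf.stalk x) (E.presheaf.stalk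 x))}) (hZ2 : ∀ z : Z, ∃ b : Module.Basis (Fin r) (X.presheaf.stalk (i z)) (E.presheaf.stalk (i z)), RingHom.ker (i.stalkMap z).hom = Ideal.span (Set.range fun l : Fin r => b.repr ((E.presheaf.germ ⊤ (i z) trivial) s) l)) (hZ3 : ∀ z : Z, δ (i z) ≤ n - (r : ℤ)) (hZ4 : ∀ z : Z, δ (i z) = n - (r : ℤ) → ∃ f : Fin r → X.presheaf.stalk (i z), RingTheory.Sequence.IsRegular (X.presheaf.stalk (i z)) (List.ofFn f) ∧ RingHom.ker (i.stalkMap z).hom = Ideal.span (Set.range f)) (α : AlgebraicCycle X ℤ) (hα : ⇑α = Cyc.subschemeFun δ n (𝟙 X)) (γ : Fin (r + 1) → AlgebraicCycle X ℤ) (hγ : Cyc.IsChernCap p δ δP O1 r n α γ) (ζ : AlgebraicCycle X ℤ) (hζ : ⇑ζ = Cyc.subschemeFun δ (n - (r : ℤ)) i) : Cyc.RatEquiv δ (n - (r : ℤ)) (γ (Fin.last r)) ζ := by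
  classical
  obtain ⟨Y, π, δY, hY, hπ, hprop, hflat, d, hrel, hd, hinj, hsp⟩ :=
    SplitChern.exists_setting hX 1 (fun _ => E) (fun _ => r) fun _ => hPE
  obtain ⟨ls, hls, hlen⟩ := hsp 0
  haveI := hX.1
  haveI := hY.1
  have hαm : α ∈ Cyc.Zk X δ n := fun x hx => by rw [hα, Fund.subschemeFun_id, if_neg hx]
  have hζm : ζ ∈ Cyc.Zk X δ (n - r) := fun x hx => by rw [hζ, Cyc.subschemeFun, if_neg hx]
  have hγm : γ (Fin.last r) ∈ Cyc.Zk X δ (n - r) := by simpa using hγ.2.1 (Fin.last r)
  obtain ⟨α', hα'f, hα'⟩ := C1Api.exists_pullFun_cycle π hY hX hd n α hαm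
  obtain ⟨ζ', hζ'f, hζ'⟩ := C1Api.exists_pullFun_cycle π hY hX hd (n - r) ζ hζm
  let sY : ((Scheme.Modules.pullback π).obj E).presheaf.obj (Opposite.op ⊤) := OmegaSh.pullSect π E ⊤ s
  obtain ⟨β, hβ, hsupp, hcl, hcoef⟩ := TopChern.exists_top r hY hls hlen sY (n + d) α' hα'
  refine SplitChern.ratEquiv_of_Pull hinj hγm hζm ?_
  rw [SplitChern.master hX hPE hP hPs hδ hαm hγ π hY hπ hrel hd hls.toFilt hlen (Fin.last r) (by simp) hγm]
  have hPull : ∀ (m : ℤ) (a : AlgebraicCycle X ℤ) (ha : a ∈ Cyc.Zk X δ m) (b : AlgebraicCycle Y ℤ)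
      (hb : b ∈ Cyc.Zk Y δY (m + d)), ⇑b = Cyc.pullFun π δY δ d ⇑a →
      Tot.Pull π hY hX hd (SplitChern.sg a ha) = SplitChern.sg b hb := fun m a ha b hb hab => by
    simp only [SplitChern.sg]
    funext l
    by_cases hl : l = m + d
    · subst hl
      rw [Tot.Pull_single π hY hX hd m _ rfl, Tot.single_apply]
      exact Chow.pull_cl π hY hX hd _ a ha b hb hab
    · rw [Pi.single_eq_of_ne hl, Tot.Pull_apply π hY hX hd _ (show l = l - d + d by ring),
        Pi.single_eq_of_ne (by omega), map_zero]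
  rw [hPull n α hαm α' hα' hα'f, hPull (n - r) ζ hζm ζ' hζ' hζ'f,
    show ((Fin.last r : Fin (r + 1)) : ℕ) = (ls.map (Filt.cc hY)).length by simp [hlen], es_length, ← hcl]
  refine SplitChern.sg_congr _ _ (by ring) (DFunLike.coe_injective (funext fun y => ?_))
  obtain ⟨bE⟩ := exists_stalk_basis hPE (π y)
  obtain ⟨bY⟩ := SecIdeal.exists_basis hls y
  have hidl : TopChern.IDL sY y = (TopChern.IDL s (π y)).map (π.stalkMap y).hom := by
    refine Eq.trans ?_ (SecIdeal.idl_pullStalk π E y bE (E.presheaf.germ ⊤ (π y) trivial s))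
    exact congrArg _ (H06Mod.pullStalk_germ π E y ⊤ trivial s).symm
  have hiff : ((Scheme.Modules.pullback π).obj E).presheaf.germ ⊤ y trivial sY ∈
      IsLocalRing.maximalIdeal (Y.presheaf.stalk y) •
        (⊤ : Submodule (Y.presheaf.stalk y) (((Scheme.Modules.pullback π).obj E).presheaf.stalk y)) ↔
      π y ∈ Set.range i := by
    rw [hZ1, Set.mem_setOf_eq, SecIdeal.mem_smul_top_iff bE, SecIdeal.mem_smul_top_iff bY]
    show TopChern.IDL sY y ≤ _ ↔ TopChern.IDL s (π y) ≤ _
    rw [hidl, Ideal.map_le_iff_le_comap,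
      IsLocalRing.maximalIdeal_comap (π.stalkMap y).hom]
  rw [hζ'f]
  simp only [Cyc.pullFun]
  rw [hζ, Cyc.subschemeFun]
  have h2 := FlatRat.delta_le_of_maxDim π hY hd y
  by_cases hy : δY y = n + d - r
  swap
  · rw [hβ y hy]
    split_ifs <;> first | rfl | (exfalso; omega) | simp
  by_cases hz : π y ∈ Set.range i
  swap
  · rw [show {z : Z | i z = π y} = (∅ : Set Z) from Set.eq_empty_of_forall_notMem fun z hh => hz ⟨z, hh⟩,
      finsum_mem_empty]
    simp only [ite_self, zero_mul]
    by_contra hne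
    exact hz (hiff.mp (hsupp y hne))
  obtain ⟨z, hzy⟩ := id hz
  have h3 := hZ3 z
  rw [hzy] at h3
  have hδy : δ (π y) = n - r := by omega
  obtain ⟨f, hfreg, hfker⟩ := hZ4 z (by rw [hzy]; exact hδy)
  obtain ⟨bz, hbz⟩ := hZ2 z
  have hkz : RingHom.ker (i.stalkMap z).hom = TopChern.IDL s (i z) :=
    hbz.trans (SecIdeal.idl_eq_span bz _).symm
  have hreg : SecIdeal.RegIdl (TopChern.IDL s (i z)) r :=
    ⟨List.ofFn f, List.length_ofFn, hfreg, by rw [H13CInt.ofList_ofFn, ← hfker, hkz]⟩
  have hlz : Module.length (Z.presheaf.stalk z) (Z.presheaf.stalk z) =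
      Module.length (X.presheaf.stalk (i z)) (X.presheaf.stalk (i z) ⧸ TopChern.IDL s (i z)) := by
    letI := (i.stalkMap z).hom.toAlgebra
    have hs : Function.Surjective (algebraMap (X.presheaf.stalk (i z)) (Z.presheaf.stalk z)) :=
      i.stalkMap_surjective z
    rw [← Module.length_eq_of_surjective (S := X.presheaf.stalk (i z)) (R := Z.presheaf.stalk z) hs]
    exact ((Submodule.quotEquivOfEq _ _ hkz.symm).trans (Ideal.quotientKerAlgEquivOfSurjective
      (f := Algebra.ofId (X.presheaf.stalk (i z)) (Z.presheaf.stalk z)) hs).toLinearEquiv).length_eq.symm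
  have key : ∀ (x : X), x = i z → SecIdeal.RegIdl (TopChern.IDL s x) r ∧
      Module.length (Z.presheaf.stalk z) (Z.presheaf.stalk z) =
        Module.length (X.presheaf.stalk x) (X.presheaf.stalk x ⧸ TopChern.IDL s x) := by
    rintro x rfl
    exact ⟨hreg, hlz⟩
  obtain ⟨⟨rs, hrs, hrsreg, hrsI⟩, hlz'⟩ := key (π y) hzy.symm
  have hregY : SecIdeal.RegIdl (TopChern.IDL sY y) r := by
    letI := (π.stalkMap y).hom.toAlgebra
    haveI : Module.Flat (X.presheaf.stalk (π y)) (Y.presheaf.stalk y) := Flat.stalkMap π y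
    haveI : IsLocalHom (algebraMap (X.presheaf.stalk (π y)) (Y.presheaf.stalk y)) :=
      inferInstanceAs (IsLocalHom (π.stalkMap y).hom)
    haveI : Module.FaithfullyFlat (X.presheaf.stalk (π y)) (Y.presheaf.stalk y) :=
      Module.FaithfullyFlat.of_flat_of_isLocalHom
    refine ⟨rs.map (algebraMap (X.presheaf.stalk (π y)) (Y.presheaf.stalk y)), by simpa using hrs,
      RingTheory.Sequence.IsRegular.of_faithfullyFlat hrsreg, ?_⟩
    rw [← Ideal.map_ofList, hrsI, hidl]
    rfl
  rw [hcoef y (hiff.mpr hz) hy (fun ξ hξ => ⟨?_, ?_⟩) hregY, hidl, if_pos (by omega : δY y = δ (π y) + d), if_pos hδy,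
    show {w : Z | i w = π y} = {z} from Set.ext fun w => ⟨fun hw => i.isEmbedding.injective (hw.trans hzy.symm),
      fun hw => hw ▸ hzy⟩, finsum_mem_singleton, hlz', length_map, ENat.toNat_mul]
  · push_cast
    rfl
  · rw [hα'f, hα, pullFun_fund π hY hd n hn]
  · have h4 := hn (π ξ)
    have h5 := FlatRat.delta_le_of_maxDim π hY hd ξ
    omega

end Groth.Agent.S12667
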