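import Groth.Statements.S19773
import Groth.Agent.H25Hat.BaseK
import Groth.Agent.H25Index.EulerIsogeny

set_option autoImplicit false
set_option backward.isDefEq.respectTransparency false
set_option maxHeartbeats 1600000
set_option synthInstance.maxHeartbeats 400000
set_option linter.style.haveILetI false
set_option backward.isDefEq.respectTransparency false
set_option synthInstance.maxHeartbeats 200000
universe u
open CategoryTheory MonoidalCategory CartesianMonoidalCategory MonObj GrpObj AlgebraicGeometry
open AbVar
open Groth.Agent Groth.Agent.H25AbCube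
attribute [local instance] CategoryTheory.Functor.grpObjObj

namespace Groth.Agent.S19773

/-- Let k be a field and f : X → Y an isogeny between abelian varieties over k (X, Y proper,
geometrically integral k-group schemes; f a finite flat surjective homomorphism) of degree d (the
rank of f at every point of Y), and let M be a non-degenerate invertible O_Y-module: for a closed
immersion i_M : K_M → Y exhibiting K_M as K(M) (the maximal closed subscheme over which the Mumford
bundle m^*M ⊗ p_1^*M⁻¹ ⊗ p_2^*M⁻¹, restricted to Y ×_k K_M, is the inverse image of an invertible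
module on K_M, with its universal property), K_M is finite over k, of rank r (the rank of K_M → Spec
k). Let L = f^*M and let i_L : K_L → X exhibit K_L as K(L). Then L is non-degenerate as well and
rank K(L) = d² · rank K(M): K_L is finite over k and K_L → Spec k has rank d² · r. -/
theorem result (k : Type u) [Field k]
    (X Y : Over (Spec (CommRingCat.of k)))
    [GrpObj X] [IsProper X.hom] [GeometricallyIntegral X.hom]
    [GrpObj Y] [IsProper Y.hom] [GeometricallyIntegral Y.hom]
    (f : X ⟶ Y) [IsMonHom f] [IsFinite f.left] [Flat f.left] (hf : Surjective f.left)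
    (d : ℕ) (hd : ∀ y : ↥Y.left, Scheme.Hom.finrank f.left y = d)
    (M : Y.left.Modules) (hM : PicF.IsInvertible M)
    (KM : Over (Spec (CommRingCat.of k))) (iM : KM ⟶ Y) (hKM : ThetaGrp.IsKL Y M iM)
    [IsFinite KM.hom] (r : ℕ) (hr : ∀ s : ↥(Spec (CommRingCat.of k)), Scheme.Hom.finrank KM.hom s = r)
    (KL : Over (Spec (CommRingCat.of k))) (iL : KL ⟶ X)
    (hKL : ThetaGrp.IsKL X ((Scheme.Modules.pullback f.left).obj M) iL) :
    IsFinite KL.hom ∧ ∀ s : ↥(Spec (CommRingCat.of k)), Scheme.Hom.finrank KL.hom s = d ^ 2 * r := by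
  haveI := hKM.closed
  haveI := hKL.closed
  haveI := hf
  have hL := H11Ample.isInvertible_pullback f.left hM
  have hKM' := H25Hat.kl_iff M hM hKM
  have hfin := H25Hat.fixFinite_gM M hM iM hKM'
  obtain ⟨-, hrM⟩ := H25Hat.euler_sq_field M hM hfin iM hKM'
  let Ω := H25Index.Kbar k
  let gY := H25Index.gX (k := k) Y
  let gX' := H25Index.gX (k := k) X
  let fK : gX' ⟶ gY := (H25AbCube.GeomTate.bc k Ω).map f
  have sq := H25AbCube.GeomTate.isPullback_map (Ω := Ω) X f
  haveI : IsFinite fK.left := MorphismProperty.of_isPullback (P := @IsFinite) sq ‹_›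
  haveI : Flat fK.left := MorphismProperty.of_isPullback (P := @Flat) sq ‹_›
  haveI : Surjective fK.left := MorphismProperty.of_isPullback (P := @Surjective) sq ‹_›
  haveI : IsMonHom fK := inferInstance
  haveI : IsIntegral gY.left := GeometricallyIntegral.isIntegral_of_subsingleton gY.hom
  obtain ⟨g', hg'⟩ := H25Grp.exists_nat_dim gY.hom
  obtain ⟨j, -, hvan, hne, -⟩ := H25Index.exists_index (H25Index.gM M) (H11Ample.isInvertible_pullback _ hM) hfin g' hg'
  obtain ⟨hF, -, -⟩ := H25Index.index_pullback fK (H25Index.gM M) (H11Ample.isInvertible_pullback _ hM) hfin j hne hvan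
  have hfinL : H25Index.FixFinite (pc (H25Index.gM ((Scheme.Modules.pullback f.left).obj M))
      (H11Ample.isInvertible_pullback _ hL)) := by
    refine (congrArg H25Index.FixFinite ?_).mp hF
    exact (pc_eq_iff _ _).2 ⟨(Scheme.Modules.pullbackComp fK.left (H25Index.gp Y)).app M ≪≫
      (Scheme.Modules.pullbackCongr sq.w.symm).app M ≪≫
      ((Scheme.Modules.pullbackComp (H25Index.gp X) f.left).app M).symm⟩
  obtain ⟨hfinK, hrL⟩ := H25Hat.euler_sq_field _ hL hfinL iL (H25Hat.kl_iff _ hL hKL)
  refine ⟨hfinK, fun s => ?_⟩
  haveI : IsIntegral Y.left := GeometricallyIntegral.isIntegral_of_subsingleton Y.hom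
  haveI : IsIntegral X.left := GeometricallyIntegral.isIntegral_of_subsingleton X.hom
  obtain ⟨g, hg⟩ := H25Grp.exists_nat_dim Y.hom
  have hd0 : d ≠ 0 := by
    have h := f.left.one_le_finrank_map (Classical.arbitrary X.left)
    rw [hd] at h
    omega
  obtain ⟨H, hH⟩ := exists_isAmple Y
  have hE := H25Index.euler_pullback (k := k) hH f g hg.le d hd0 hd M hM
  have h1 := hrL s
  rw [hE, mul_pow, ← hrM s, hr s] at h1
  exact_mod_cast h1

end Groth.Agent.S19773
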