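import Groth.Statements.S19945
import Groth.Agent.H26Theta.Pts
-- import your own Groth.Agent.* helpers here

set_option autoImplicit false
universe u
open CategoryTheory MonoidalCategory CartesianMonoidalCategory MonObj GrpObj AlgebraicGeometry
open ThetaGrp

open AlgebraicGeometry CategoryTheory CategoryTheory.Limits MonoidalCategory CartesianMonoidalCategory MonObj Groth.Agent
open Groth.Agent.H25Theta (pb pC pI pT pO tI IsTranslEq mumford_iff)

set_option backward.isDefEq.respectTransparency false

namespace Groth.Agent.S19945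

/-- Let X be an abelian variety over a field k (a proper, geometrically integral, commutative k-group
scheme), L an invertible O_X-module and i : K → X a closed immersion exhibiting K as K(L), the
maximal closed subscheme of X over which the Mumford bundle m^*L ⊗ p_1^*L⁻¹ ⊗ p_2^*L⁻¹, restricted
to X ×_k K, is the inverse image of an invertible module on K, with its universal property for
morphisms T → X. For a k-scheme T and a T-valued point x of X, the following are equivalent: x
factors through i; every point of T has an open neighbourhood U over which some point of the theta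
group G(L)(U) lies over the restriction of x, that is, there is an isomorphism L_U ≅ t_x^*L_U of
modules on X ×_k U. In other words the map G(L) → X, (x, φ) ↦ x, has image the subfunctor K(L),
surjectively for the Zariski topology. -/
theorem result (k : Type u) [Field k]
    (A : Over (Spec (CommRingCat.of k))) [GrpObj A] [IsCommMonObj A] [IsProper A.hom] [GeometricallyIntegral A.hom]
    (L : A.left.Modules) (hL : PicF.IsInvertible L)
    (K : Over (Spec (CommRingCat.of k))) (iK : K ⟶ A) (hK : ThetaGrp.IsKL A L iK)
    (T : Over (Spec (CommRingCat.of k))) (x : T ⟶ A) :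
    (∃ y : T ⟶ K, y ≫ iK = x) ↔
      ∀ t : ↥T.left, ∃ U : T.left.Opens, t ∈ U ∧
        ∃ β : ThetaGrp.thetaPts A L (Over.mk (U.ι ≫ T.hom)),
          ThetaGrp.IsOverPt β ((Over.homMk U.ι rfl : Over.mk (U.ι ≫ T.hom) ⟶ T) ≫ x) := by
  have hpull : ∀ {T' : Over (Spec (CommRingCat.of k))} (s : T' ⟶ T) {M : T.left.Modules},
      IsTranslEq A L x M → IsTranslEq A L (s ≫ x) (pb s.left M) := by
    intro T' s M h
    obtain ⟨e⟩ := h
    have h1 : (A ◁ s).left ≫ (fst A T).left = (fst A T').left := by rw [← Over.comp_left, whiskerLeft_fst]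
    have h2 : (A ◁ s).left ≫ (snd A T).left = (snd A T').left ≫ s.left := by
      rw [← Over.comp_left, ← Over.comp_left, whiskerLeft_snd]
    have h3 : (A ◁ s).left ≫ (ThetaGrp.transl A x ≫ fst A T).left = (ThetaGrp.transl A (s ≫ x) ≫ fst A T').left := by
      rw [← Over.comp_left, ThetaGrp.transl_fst, ThetaGrp.transl_fst, MonObj.comp_mul, whiskerLeft_fst,
        whiskerLeft_snd_assoc]
    exact ⟨tI (pC _ _ h1 L).symm (pC (snd A T').left s.left h2.symm M ≪≫ (pC _ _ rfl M).symm) ≪≫ (pT _ _ _).symm ≪≫
      (Scheme.Modules.pullback (A ◁ s).left).mapIso e ≪≫ pC _ _ h3 L⟩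
  constructor
  · intro hy t
    obtain ⟨M, hM, hMe⟩ := (mumford_iff A L hL x).1 ((hK.univ T x).2 hy)
    obtain ⟨U, htU, ⟨ν⟩⟩ := hM t
    refine ⟨U, htU, (H26Theta.exists_pt_iff A L _).2 (H25Theta.isTranslEq_congr A L ?_
      (hpull (Over.homMk U.ι rfl : Over.mk (U.ι ≫ T.hom) ⟶ T) hMe))⟩
    exact ((Scheme.Modules.restrictFunctorIsoPullback U.ι).app M).symm ≪≫ ν
  · intro h
    choose U hU β hβ using h
    let W := fun t => (Over.homMk (U t).ι rfl : Over.mk ((U t).ι ≫ T.hom) ⟶ T)
    have hy : ∀ t, ∃ y : Over.mk ((U t).ι ≫ T.hom) ⟶ K, y ≫ iK = W t ≫ x := fun t =>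
      (hK.univ _ _).1 ((mumford_iff A L hL _).2
        ⟨_, H11Ample.isInvertible_structureModule, (H26Theta.exists_pt_iff A L _).1 ⟨β t, hβ t⟩⟩)
    choose y hy using hy
    haveI := hK.closed
    let 𝒰 := Scheme.openCoverOfIsOpenCover T.left U
      (TopologicalSpace.IsOpenCover.mk (top_le_iff.1 fun z _ => TopologicalSpace.Opens.mem_iSup.2 ⟨z, hU z⟩))
    have hy' : ∀ t, (y t).left ≫ iK.left = (U t).ι ≫ x.left := fun t => congrArg CommaMorphism.left (hy t)
    let g : T.left ⟶ K.left := 𝒰.glueMorphisms (fun t => (y t).left) fun a b => by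
      rw [← cancel_mono iK.left, Category.assoc, Category.assoc, hy', hy', ← Category.assoc, ← Category.assoc]
      exact congrArg (· ≫ x.left) pullback.condition
    have hg : g ≫ iK.left = x.left := 𝒰.hom_ext _ _ fun t => by
      rw [← Category.assoc, Scheme.Cover.ι_glueMorphisms]
      exact hy' t
    exact ⟨Over.homMk g (by rw [← Over.w iK, reassoc_of% hg]; exact Over.w x), Over.OverMorphism.ext hg⟩

end Groth.Agent.S19945
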