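import Groth.Statements.S19949
import Groth.Agent.S19945
import Groth.Agent.H26Theta.PullPts
import Groth.Agent.H26Theta.Pairing
import Groth.Agent.H26Theta.Descend
import Groth.Agent.H26Theta.KernelPair
import Groth.Agent.H19Grp.HomFlat
-- import your own Groth.Agent.* helpers here

set_option autoImplicit false
universe u
open CategoryTheory MonoidalCategory CartesianMonoidalCategory MonObj GrpObj AlgebraicGeometry
open ThetaGrp

open CategoryTheory.Limits Groth.Agent Groth.Agent.H26Theta
open Groth.Agent.H25Theta (pb)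

set_option backward.isDefEq.respectTransparency false
set_option backward.isDefEq.respectTransparency.types false
set_option maxHeartbeats 1600000

namespace Groth.Agent.S19949

/-- Let f : X → Y be a surjective homomorphism of abelian varieties over a field k (proper,
geometrically integral, commutative k-group schemes), i : N → X its kernel (a homomorphism forming a
cartesian square with the unit section of Y), M an invertible O_Y-module and L = f^*M. Let i_L : K_L
→ X and i_M : K_M → Y be closed immersions exhibiting K_L as K(L) and K_M as K(M): the maximal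
closed subschemes over which the Mumford bundles of L, resp. M, restricted to X ×_k K_L, resp. Y ×_k
K_M, are inverse images of invertible modules on K_L, resp. K_M, with their universal properties.
Then f⁻¹(K(M)) = Ker(f)^⊥ inside K(L): for a k-scheme T and a T-valued point x of X, the point f(x)
factors through i_M if and only if x factors through i_L and x is orthogonal to N for the commutator
pairing e_L, meaning that after every base change T' → T every point of G(L)(T') lying over the
translation by x commutes with every point lying over the translation by a point of N. (In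
particular every point x with f(x) in K(M) lies in K(f^*M). The source's further identifications of
G(M) with the centralizer of the level subgroup modulo it, and of K(M) with Ker(f)^⊥/Ker(f), are not
part of this statement.) -/
theorem result (k : Type u) [Field k]
    (A : Over (Spec (CommRingCat.of k))) [GrpObj A] [IsCommMonObj A] [IsProper A.hom] [GeometricallyIntegral A.hom]
    (B : Over (Spec (CommRingCat.of k))) [GrpObj B] [IsCommMonObj B] [IsProper B.hom] [GeometricallyIntegral B.hom]
    (f : A ⟶ B) [IsMonHom f] (hf : Surjective f.left)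
    (N : Over (Spec (CommRingCat.of k))) [GrpObj N] (i : N ⟶ A) [IsMonHom i] (hN : AlgGrp.IsKernel i f)
    (M : B.left.Modules) (hM : PicF.IsInvertible M)
    (KL : Over (Spec (CommRingCat.of k))) (iL : KL ⟶ A)
    (hKL : ThetaGrp.IsKL A ((Scheme.Modules.pullback f.left).obj M) iL)
    (KM : Over (Spec (CommRingCat.of k))) (iM : KM ⟶ B) (hKM : ThetaGrp.IsKL B M iM)
    (T : Over (Spec (CommRingCat.of k))) (x : T ⟶ A) :
    (∃ y : T ⟶ KM, y ≫ iM = x ≫ f) ↔
      ((∃ y : T ⟶ KL, y ≫ iL = x) ∧ ThetaGrp.IsPerpPt ((Scheme.Modules.pullback f.left).obj M) i x) := by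
  let L := pb f.left M
  have hL : PicF.IsInvertible L := H11Ample.isInvertible_pullback _ hM
  have hif : i ≫ f = (1 : N ⟶ B) := hN.w.trans (by rw [Hom.one_def])
  constructor
  · intro hy
    obtain ⟨N₀, hN₀, hNe⟩ := (H25Theta.mumford_iff B M hM (x ≫ f)).1 ((hKM.univ T _).2 hy)
    refine ⟨(hKL.univ T _).1 ((H25Theta.mumford_iff A L hL x).2 ⟨N₀, hN₀, isTranslEq_pullback hNe⟩),
      fun T' g n β₁ β₂ h₁ h₂ => ?_⟩
    obtain ⟨y, hy⟩ := hy
    obtain ⟨N₁, hN₁, hN₁e⟩ := (H25Theta.mumford_iff B M hM ((g ≫ x) ≫ f)).1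
      ((hKM.univ T' _).2 ⟨g ≫ y, by simp only [Category.assoc, hy]⟩)
    obtain ⟨δ, hδ⟩ := exists_pushed_pt hM hN₁e h₁
    obtain ⟨γ₁, hγ₁, q₁⟩ := exists_lift_pt hδ
    obtain ⟨γ₂, hγ₂, q₂⟩ := exists_lift_pt (f := f) (M := M) (x := n ≫ i)
      (δ := (1 : thetaPts B M T')) (by rw [Category.assoc, hif, MonObj.comp_one]; exact isOverPt_one)
    exact commute_congr hL hγ₁ h₁ hγ₂ h₂
      (commute_lifts hγ₁ hγ₂ q₁ q₂ (by rw [_root_.mul_one, _root_.one_mul]))
  rintro ⟨hy, hperp⟩
  -- locally a point lies over `x`; it descends as it commutes with the kernel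
  refine (S19945.result k B M hM KM iM hKM T (x ≫ f)).2 fun t => ?_
  obtain ⟨U, htU, β, hβ⟩ := (S19945.result k A L hL KL iL hKL T x).1 hy t
  refine ⟨U, htU, ?_⟩
  let T₁ := Over.mk (U.ι ≫ T.hom)
  let w : T₁ ⟶ T := Over.homMk U.ι rfl
  suffices h : ∃ δ : thetaPts B M T₁, IsOverPt δ ((w ≫ x) ≫ f) by
    obtain ⟨δ, hδ⟩ := h
    exact ⟨δ, by rw [Category.assoc] at hδ; exact hδ⟩
  let T₂ := N ⊗ T₁
  let p : T₂ ⟶ T₁ := snd N T₁
  obtain ⟨γn, hγn, qn⟩ := exists_lift_pt (f := f) (M := M) (x := fst N T₁ ≫ i)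
    (δ := (1 : thetaPts B M T₂)) (by rw [Category.assoc, hif, MonObj.comp_one]; exact isOverPt_one)
  obtain ⟨β', hβ', hβbc⟩ := exists_baseChange p hβ
  have hcomm : β' * γn = γn * β' := hperp T₂ (p ≫ w) (fst N T₁) β' γn
    (by rw [Category.assoc]; exact hβ') hγn
  have qn' : γn.1.hom ≫ qm f M T₂ = qm f M T₂ := qn.trans (Category.comp_id _)
  have hbq : bcLift A L p ≫ qm f M T₁ = qm f M T₂ ≫ bcLift B M p := bcLift_qm f M p
  let p₁ := bcLift A L p
  let p₂ := γn.1.hom ≫ bcLift A L p
  haveI : IsIso (fib p₁) := isIso_fib_bcLift A L p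
  haveI := isIso_fib β.1
  haveI : Surjective (f ▷ T₁).left :=
    MorphismProperty.of_isPullback (P := @Surjective) (isPullback_whiskerRight f T₁) hf
  haveI : LocallyOfFiniteType A.hom := inferInstance
  haveI : Smooth B.hom := by
    haveI : GrpObj (Over.mk B.hom) := inferInstanceAs (GrpObj B)
    exact smooth_of_grpObj B.hom
  haveI : QuasiCompact f.left := by
    haveI : QuasiCompact (f.left ≫ B.hom) := by rw [Over.w f]; infer_instance
    exact QuasiCompact.of_comp f.left B.hom
  haveI := hf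
  haveI : Flat f.left := H19Grp.flat_of_surjective f
  haveI : Flat (f ▷ T₁).left := MorphismProperty.of_isPullback (P := @Flat) (isPullback_whiskerRight f T₁) ‹_›
  haveI : QuasiCompact (f ▷ T₁).left :=
    MorphismProperty.of_isPullback (P := @QuasiCompact) (isPullback_whiskerRight f T₁) ‹_›
  haveI : Flat (qm f M T₁).base := by rw [qm_base]; infer_instance
  haveI : Surjective (qm f M T₁).base := by rw [qm_base]; infer_instance
  haveI : QuasiCompact (qm f M T₁).base := by rw [qm_base]; infer_instance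
  have hinvB : PicF.IsInvertible (pb (fst B T₁).left M) := H11Ample.isInvertible_pullback _ hM
  have hP : IsPullback p₁.base p₂.base (qm f M T₁).base (qm f M T₁).base := by
    rw [qm_base]
    show IsPullback (A ◁ p).left (γn.1.hom.base ≫ (A ◁ p).left) (f ▷ T₁).left (f ▷ T₁).left
    rw [hγn, ← Over.comp_left]
    exact (isPullback_kernel_pair hN T₁).map (Over.forget _)
  have hq : p₁ ≫ qm f M T₁ = p₂ ≫ qm f M T₁ := by
    simp only [p₁, p₂, Category.assoc]
    rw [hbq, reassoc_of% qn']
  have hcb : β'.1.hom ≫ γn.1.hom = γn.1.hom ≫ β'.1.hom :=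
    (congrArg (fun z : thetaPts A L T₂ => z.1.hom) hcomm).symm
  -- descent of a point commuting with the kernel, applied to the point and to its inverse
  have hdesc : ∀ (g : thetaObj A L T₁ ⟶ thetaObj A L T₁) (g' : thetaObj A L T₂ ⟶ thetaObj A L T₂) (y : T₁ ⟶ A),
      IsIso (fib g) → g.base = (transl A y).left → g' ≫ bcLift A L p = bcLift A L p ≫ g →
      γn.1.hom ≫ g' = g' ≫ γn.1.hom →
      ∃ d : thetaObj B M T₁ ⟶ thetaObj B M T₁, d.base = (transl B (y ≫ f)).left ∧
        qm f M T₁ ≫ d = g ≫ qm f M T₁ := fun g g' y hi hb hbc hc => by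
    haveI := hi
    haveI : IsIso (fib (g ≫ qm f M T₁)) := cart_comp _ _ hi inferInstance
    refine exists_descend (qm f M T₁) (g ≫ qm f M T₁) _ ?_ hinvB p₁ p₂ hP hq ?_
    · show (qm f M T₁).base ≫ (transl B (y ≫ f)).left = g.base ≫ (qm f M T₁).base
      rw [qm_base, hb, ← Over.comp_left, ← Over.comp_left, whiskerRight_transl]
    · simp only [p₁, p₂, Category.assoc]
      rw [← reassoc_of% hbc, reassoc_of% hc, hbq, reassoc_of% qn']
  have hβ'b : β'.1.hom ≫ bcLift A L p = bcLift A L p ≫ β.1.hom := hβbc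
  obtain ⟨d, hdb, hd⟩ := hdesc β.1.hom β'.1.hom (w ≫ x) (isIso_fib β.1) hβ hβ'b hcb.symm
  obtain ⟨v, hv⟩ := (β⁻¹).2
  obtain ⟨e, heb, he⟩ := hdesc β.1.inv β'.1.inv v (isIso_fib β.1.symm) hv
    (by rw [Iso.inv_comp_eq, reassoc_of% hβ'b, Iso.hom_inv_id, Category.comp_id])
    (by rw [Iso.comp_inv_eq, Category.assoc, ← hcb, Iso.inv_hom_id_assoc])
  have hvw : v * (w ≫ x) = 1 := by
    have h1 := isOverPt_mul hβ (show IsOverPt β⁻¹ v from hv)
    rw [mul_inv_cancel] at h1
    exact isOverPt_unique h1 isOverPt_one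
  have hid : ∀ (a b : thetaObj B M T₁ ⟶ thetaObj B M T₁) (g h : thetaObj A L T₁ ⟶ thetaObj A L T₁) (y z : T₁ ⟶ A),
      a.base = (transl B (y ≫ f)).left → b.base = (transl B (z ≫ f)).left → z * y = 1 →
      qm f M T₁ ≫ a = g ≫ qm f M T₁ → qm f M T₁ ≫ b = h ≫ qm f M T₁ → g ≫ h = 𝟙 _ →
      a ≫ b = 𝟙 _ := fun a b g h y z ha hb hzy hga hgb hgh => by
    refine descend_ext (qm f M T₁) hinvB ?_ ?_
    · show a.base ≫ b.base = 𝟙 (B ⊗ T₁).left
      rw [ha, hb, ← Over.comp_left, ← transl_mul, ← MonObj.mul_comp, mul_comm, hzy, MonObj.one_comp, transl_one]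
      rfl
    · rw [reassoc_of% hga, hgb, ← Category.assoc, hgh, Category.id_comp, Category.comp_id]
  exact ⟨⟨⟨d, e, hid d e _ _ _ _ hdb heb hvw hd he β.1.hom_inv_id,
    hid e d _ _ _ _ heb hdb (by rw [mul_comm]; exact hvw) he hd β.1.inv_hom_id⟩, (w ≫ x) ≫ f, hdb⟩, hdb⟩

end Groth.Agent.S19949
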