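import Groth.Statements.S19144
import Groth.Agent.H21Diag.FpqcLocal
import Groth.Agent.H12AlgSp.HilbQuot
import Mathlib.AlgebraicGeometry.ValuativeCriterion

set_option autoImplicit false
open CategoryTheory MonoidalCategory CartesianMonoidalCategory MonObj GrpObj AlgebraicGeometry
universe u
open TwC

namespace Groth.Agent.S19144

open CategoryTheory CategoryTheory.Limits AlgebraicGeometry TopologicalSpace

/-- A valuative square of a constant scheme lifts on the sheet of its generic point. -/
theorem existence_const (S : Scheme.{u}) (I : Type u) :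
    ValuativeCriterion.Existence (Limits.Sigma.desc fun _ : I => 𝟙 S) := by
  intro sq
  obtain ⟨j, x, hx⟩ := (sigmaOpenCover fun _ : I => S).exists_eq (sq.i₁ (IsLocalRing.closedPoint sq.K))
  have hr : Set.range sq.i₁ ⊆ Set.range (Limits.Sigma.ι (fun _ : I => S) j) := by
    rintro _ ⟨z, rfl⟩
    obtain rfl : z = IsLocalRing.closedPoint sq.K := Subsingleton.elim _ _
    exact ⟨x, hx⟩
  let l := IsOpenImmersion.lift (Limits.Sigma.ι (fun _ : I => S) j) sq.i₁ hr
  refine ⟨⟨⟨sq.i₂ ≫ Limits.Sigma.ι (fun _ : I => S) j, ?_, ?_⟩⟩⟩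
  · have hl : l = Spec.map (CommRingCat.ofHom (algebraMap sq.R sq.K)) ≫ sq.i₂ := by
      rw [← sq.commSq.w, ← IsOpenImmersion.lift_fac (Limits.Sigma.ι (fun _ : I => S) j) sq.i₁ hr,
        Category.assoc, Limits.Sigma.ι_desc, Category.comp_id]
    rw [← Category.assoc, ← hl, IsOpenImmersion.lift_fac]
  · rw [Category.assoc, Limits.Sigma.ι_desc, Category.comp_id]

/-- The specializing property can be checked after flat base changes covering the base. -/
theorem existence_of_cover {X S : Scheme.{u}} (f : X ⟶ S)
    (h : ∀ s : S, ∃ (S' : Scheme.{u}) (g : S' ⟶ S), Flat g ∧ s ∈ Set.range g ∧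
      ValuativeCriterion.Existence (pullback.snd f g)) : ValuativeCriterion.Existence f := by
  rw [ValuativeCriterion.Existence.eq]
  intro A T a b q hP x y hxy
  obtain ⟨S', g, hg, ⟨s', hs'⟩, hE⟩ := h (b y)
  haveI := hg
  rw [ValuativeCriterion.Existence.eq] at hE
  let c := pullback.fst b g
  let d := pullback.snd q c
  have hsq : IsPullback (pullback.fst q c ≫ a) d f (c ≫ b) :=
    (IsPullback.of_hasPullback q c).paste_horiz hP.flip
  let L : pullback q c ⟶ pullback f g := pullback.lift (pullback.fst q c ≫ a) (d ≫ pullback.snd b g)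
    (by rw [hsq.w, Category.assoc, pullback.condition])
  have hsq' : IsPullback (L ≫ pullback.fst f g) d f (pullback.snd b g ≫ g) := by
    rw [pullback.lift_fst, ← pullback.condition]
    exact hsq
  have hbig := hE _ _ _ (IsPullback.of_right hsq' (pullback.lift_snd _ _ _) (IsPullback.of_hasPullback f g)).flip
  obtain ⟨y', hy', -⟩ := Scheme.Pullback.exists_preimage_pullback (f := b) (g := g) y s' hs'.symm
  obtain ⟨y₁, hy₁, hy₁q⟩ := Flat.generalizingMap c (show q x ⤳ c y' by rw [show c y' = y from hy']; exact hxy)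
  obtain ⟨x', hx', hdx⟩ := Scheme.Pullback.exists_preimage_pullback (f := q) (g := c) x y₁ hy₁q.symm
  obtain ⟨x₂, hx₂, hdx₂⟩ := hbig (show d x' ⤳ y' by rw [show d x' = y₁ from hdx]; exact hy₁)
  refine ⟨pullback.fst q c x₂, ?_, ?_⟩
  · rw [← show pullback.fst q c x' = x from hx']
    exact hx₂.map (pullback.fst q c).continuous
  · rw [← Scheme.Hom.comp_apply, pullback.condition, Scheme.Hom.comp_apply, show pullback.snd q c x₂ = y' from hdx₂]
    exact hy'

theorem existence_cancel {X Y S : Scheme.{u}} (e : X ⟶ Y) [IsIso e] (f : Y ⟶ S)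
    (h : ValuativeCriterion.Existence f) : ValuativeCriterion.Existence (e ≫ f) := by
  haveI : ValuativeCriterion.Existence.RespectsIso := inferInstance
  exact (MorphismProperty.cancel_left_of_respectsIso (P := ValuativeCriterion.Existence) e f).2 h

/-- A quasi-isotrivial twisted constant S-scheme X (etale-locally on S isomorphic to a constant scheme)
is separated and etale over S, and its structure morphism satisfies the valuative criterion of
properness (every valuative square has exactly one lift; X ⟶ S need not be quasi-compact). -/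
theorem result {S : Scheme.{u}} (X : Over S)
    (hX : TwC.IsTwConst TwC.Topology.etale X) :
    IsSeparated X.hom ∧ Etale X.hom ∧ ValuativeCriterion X.hom := by
  choose S' g hg hs I e using hX
  have he : ∀ s, (e s).some.hom.left ≫ Limits.Sigma.desc (fun _ : I s => 𝟙 (S' s)) = Limits.pullback.snd X.hom (g s) :=
    fun s => Over.w (e s).some.hom
  have hiso : ∀ s, IsIso (e s).some.hom.left := fun s => inferInstanceAs (IsIso ((Over.forget _).map (e s).some.hom))
  let G : (∐ fun s => S' s) ⟶ S := Limits.Sigma.desc g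
  haveI : Etale G := IsZariskiLocalAtSource.sigmaDesc (P := @Etale) hg
  have hqc : ∀ V : S.Opens, IsAffineOpen V → ∃ W : (∐ fun s => S' s : Scheme.{u}).Opens,
      IsCompact (W : Set (∐ fun s => S' s : Scheme.{u})) ∧ G.base '' (W : Set (∐ fun s => S' s : Scheme.{u})) = (V : Set S) := by
    intro V hV
    obtain ⟨W, hW, hW'⟩ := G.isOpenMap.exists_opens_image_eq_of_prespectralSpace G.continuous (U := (V : Set S))
      (fun s _ => by
        obtain ⟨z, hz⟩ := hs s
        exact ⟨Limits.Sigma.ι S' s z, by rw [← Scheme.Hom.comp_apply, Limits.Sigma.ι_desc]; exact hz⟩)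
      V.isOpen hV.isCompact
    exact ⟨W, hW, hW'⟩
  have key : ∀ (P : MorphismProperty Scheme.{u}) [IsZariskiLocalAtTarget P] [P.IsStableUnderBaseChange]
      [P.DescendsAlong H18Descent.fpqc.{u}],
      (∀ (T : Scheme.{u}) (J : Type u), P (Limits.Sigma.desc fun _ : J => 𝟙 T)) → P X.hom := by
    intro P _ _ _ hP
    refine H21Diag.of_fpqc_cover_base P G hqc X.hom fun t => ?_
    obtain ⟨s, z, hz⟩ := (sigmaOpenCover S').exists_eq t
    let U := (Limits.Sigma.ι S' s).opensRange
    refine ⟨U, ⟨z, hz⟩, ?_⟩
    let l : (U : Scheme.{u}) ⟶ S' s := (Limits.Sigma.ι S' s).isoOpensRange.inv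
    have hl : U.ι ≫ G = l ≫ g s := by
      rw [← Limits.Sigma.ι_desc (f := S') g s, ← Category.assoc]
      congr 1
      exact (Scheme.Hom.isoOpensRange_inv_comp _).symm
    rw [hl, ← Limits.pullbackLeftPullbackSndIso_inv_snd_snd X.hom (g s) l,
      MorphismProperty.cancel_left_of_respectsIso (P := P)]
    refine MorphismProperty.pullback_snd _ _ ?_
    haveI := hiso s
    rw [← he, MorphismProperty.cancel_left_of_respectsIso (P := P)]
    exact hP _ _
  have hsep : IsSeparated X.hom := key @IsSeparated fun T J =>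
    H12AlgSp.isSeparated_sigmaDesc _ fun _ => inferInstance
  refine ⟨hsep, key @Etale fun T J => IsZariskiLocalAtSource.sigmaDesc (P := @Etale) fun _ => inferInstance, ?_⟩
  rw [ValuativeCriterion.iff]
  haveI := hsep
  refine ⟨existence_of_cover X.hom fun s => ⟨S' s, g s, ?_, hs s, ?_⟩, IsSeparated.valuativeCriterion X.hom⟩
  · haveI := hg s
    infer_instance
  · haveI := hiso s
    rw [← he]
    exact existence_cancel _ _ (existence_const _ _)

end Groth.Agent.S19144
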