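import Groth.Statements.S15524
import Groth.Agent.H27Zeta.PowerSums

set_option autoImplicit false
open Finset
open Zeta

namespace Groth.Agent.S15524

/-- Let q ≥ 1 and let α_1, …, α_{2g} be complex numbers permuted by α ↦ q/α, i.e. α_{σ(i)} α_i = q for a
permutation σ of the indices; these play the role of the inverse roots of the numerator of the zeta
function of a curve over a field with q elements, for which #X(F_{q^N}) = q^N + 1 − Σ_i α_i^N. If
for some d ≥ 1 and real C one has |Σ_i α_i^{dN}| ≤ C q^{dN/2} for every N ≥ 1, then |α_i|^2 = q for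
every i (the Riemann hypothesis for the curve). -/
theorem result {g : ℕ} (q : ℕ) (hq : 0 < q)
    (α : Fin (2 * g) → ℂ) (σ : Equiv.Perm (Fin (2 * g))) (hσ : ∀ i, α (σ i) * α i = q)
    (d : ℕ) (hd : 0 < d) (C : ℝ)
    (hC : ∀ N : ℕ, 1 ≤ N → ‖∑ i, α i ^ (d * N)‖ ≤ C * (q : ℝ) ^ ((d : ℝ) * N / 2))
    (i : Fin (2 * g)) : ‖α i‖ ^ 2 = q := by
  have hq' : (0 : ℝ) < q := Nat.cast_pos.2 hq
  set t : ℝ := (q : ℝ) ^ ((d : ℝ) / 2) with ht
  have ht0 : 0 < t := Real.rpow_pos_of_pos hq' _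
  have hle : ∀ j, ‖α j‖ ^ 2 ≤ q := by
    intro j
    have h := Groth.Agent.H27Zeta.norm_le_one_of_powerSum_bounded (fun j => α j ^ d / (t : ℂ)) C
      (fun N hN => by
        have h1 := hC N hN
        have e1 : ∀ j, (α j ^ d / (t : ℂ)) ^ N = α j ^ (d * N) / ((t ^ N : ℝ) : ℂ) := fun j => by
          rw [div_pow, ← pow_mul]; push_cast; rfl
        simp only [e1]
        rw [← Finset.sum_div, norm_div, Complex.norm_real, Real.norm_of_nonneg (pow_nonneg ht0.le N),
          div_le_iff₀ (pow_pos ht0 N), ht, ← Real.rpow_natCast, ← Real.rpow_mul hq'.le]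
        rwa [show (d : ℝ) / 2 * N = (d : ℝ) * N / 2 by ring]) j
    rw [norm_div, norm_pow, Complex.norm_real, Real.norm_of_nonneg ht0.le, div_le_iff₀ ht0,
      one_mul] at h
    by_contra hcon
    push Not at hcon
    have : t < ‖α j‖ ^ d := by
      rw [ht, show ((d : ℝ) / 2) = (1 / 2 : ℝ) * d by ring, Real.rpow_mul hq'.le, Real.rpow_natCast,
        ← Real.sqrt_eq_rpow]
      refine pow_lt_pow_left₀ ?_ (Real.sqrt_nonneg _) hd.ne'
      rwa [Real.sqrt_lt hq'.le (norm_nonneg _)]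
    linarith
  refine le_antisymm (hle i) ?_
  by_contra hcon
  push Not at hcon
  have h1 := congrArg (fun z : ℂ => ‖z‖ ^ 2) (hσ i)
  simp only [norm_mul, mul_pow, Complex.norm_natCast] at h1
  have h2 := hle (σ i)
  have h3 : ‖α (σ i)‖ ^ 2 * ‖α i‖ ^ 2 ≤ q * ‖α i‖ ^ 2 :=
    mul_le_mul_of_nonneg_right h2 (sq_nonneg _)
  have h4 : (q : ℝ) * ‖α i‖ ^ 2 < q * q := mul_lt_mul_of_pos_left hcon hq'
  have h5 : (q : ℝ) ^ 2 = q * q := sq _
  linarith

end Groth.Agent.S15524
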