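import Groth.Statements.S0534
import Groth.Agent.H9Hens.IdemMatrix
import Mathlib.LinearAlgebra.Matrix.ToLin
import Mathlib.LinearAlgebra.TensorProduct.Pi
import Mathlib.RingTheory.Finiteness.Cardinality
-- import your own Groth.Agent.* helpers here

set_option autoImplicit false
universe u
open Hensel

namespace Groth.Agent.S0534

open scoped TensorProduct

/-- If `R` is Henselian at `I`, every finitely generated projective `R/I`-module is the base change of a
finitely generated projective `R`-module. -/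
theorem result (R : Type u) [CommRing R] (I : Ideal R)
    [HenselianRing R I] (Q : Type u) [AddCommGroup Q] [Module (R ⧸ I) Q] [Module.Finite (R ⧸ I) Q]
    [Module.Projective (R ⧸ I) Q] :
    ∃ (P : Type u) (_ : AddCommGroup P) (_ : Module R P), Module.Finite R P ∧ Module.Projective R P ∧
      Nonempty (TensorProduct R (R ⧸ I) P ≃ₗ[R ⧸ I] Q) := by
  obtain ⟨n, π, hπ⟩ := Module.Finite.exists_fin' (R ⧸ I) Q
  obtain ⟨s, hs⟩ := Module.projective_lifting_property π LinearMap.id hπ
  have hπs : ∀ q, π (s q) = q := fun q => DFunLike.congr_fun hs q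
  let ε := LinearMap.toMatrix' (s ∘ₗ π)
  have hε : IsIdempotentElem ε := by
    show LinearMap.toMatrix' (s ∘ₗ π) * LinearMap.toMatrix' (s ∘ₗ π) = _
    rw [← LinearMap.toMatrix'_comp]
    congr 1
    exact LinearMap.ext fun x => by simp [hπs]
  obtain ⟨E, hE, hEmap⟩ := H9Hens.exists_idem_matrix_lift ε hε
  let E' : (Fin n → R) →ₗ[R] LinearMap.range E.mulVecLin := E.mulVecLin.rangeRestrict
  let P := LinearMap.range E.mulVecLin
  have hEp : ∀ p : P, E' (p : Fin n → R) = p := by
    rintro ⟨_, v, rfl⟩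
    apply Subtype.ext
    show E.mulVec (E.mulVec v) = E.mulVec v
    rw [Matrix.mulVec_mulVec, hE.eq]
  have hproj : Module.Projective R P := Module.Projective.of_split P.subtype E' (LinearMap.ext hEp)
  refine ⟨P, inferInstance, inferInstance, inferInstance, hproj, ⟨?_⟩⟩
  let η := TensorProduct.piScalarRight R (R ⧸ I) (R ⧸ I) (Fin n)
  let Φ : (R ⧸ I) ⊗[R] P →ₗ[R ⧸ I] Q :=
    π ∘ₗ η.toLinearMap ∘ₗ P.subtype.baseChange (R ⧸ I)
  let Ψ : Q →ₗ[R ⧸ I] (R ⧸ I) ⊗[R] P := E'.baseChange (R ⧸ I) ∘ₗ η.symm.toLinearMap ∘ₗ s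
  have hη : ∀ v : Fin n → R, η ((1 : R ⧸ I) ⊗ₜ v) = fun i => Ideal.Quotient.mk I (v i) := fun v => by
    funext i
    simp [η, Algebra.smul_def]
  have hεv : ∀ v : Fin n → R, s (π (fun i => Ideal.Quotient.mk I (v i))) =
      fun i => Ideal.Quotient.mk I (E.mulVec v i) := fun v => by
    have h1 : Matrix.toLin' ε = s ∘ₗ π := Matrix.toLin'_toMatrix' _
    funext i
    rw [← LinearMap.comp_apply, ← h1, Matrix.toLin'_apply, ← hEmap]
    exact (RingHom.map_mulVec (Ideal.Quotient.mk I) E v i).symm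
  refine LinearEquiv.ofLinearMap Φ Ψ (LinearMap.ext fun q => ?_) ?_
  · obtain ⟨v, hv⟩ : ∃ v : Fin n → R, s q = fun i => Ideal.Quotient.mk I (v i) := by
      choose v hv using fun i => Ideal.Quotient.mk_surjective (s q i)
      exact ⟨v, funext fun i => (hv i).symm⟩
    have h1 : η.symm (s q) = (1 : R ⧸ I) ⊗ₜ v := by
      rw [LinearEquiv.symm_apply_eq, hη, hv]
    simp only [Φ, Ψ, LinearMap.comp_apply, LinearEquiv.coe_coe, h1, LinearMap.baseChange_tmul]
    show π (η (1 ⊗ₜ E.mulVec v)) = q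
    rw [hη, ← hεv, ← hv, hπs, hπs]
  · refine LinearMap.ext fun x => ?_
    induction x using TensorProduct.induction_on with
    | zero => simp
    | add x y hx hy => simp only [LinearMap.id_coe, id_eq] at hx hy ⊢; rw [map_add, hx, hy]
    | tmul a p =>
      have h0 : (Ψ ∘ₗ Φ) ((1 : R ⧸ I) ⊗ₜ p) = 1 ⊗ₜ p := by
        simp only [Φ, Ψ, LinearMap.comp_apply, LinearEquiv.coe_coe, LinearMap.baseChange_tmul,
          Submodule.coe_subtype, hη]
        rw [hεv, ← hη, LinearEquiv.symm_apply_apply, LinearMap.baseChange_tmul]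
        congr 1
        exact (congrArg E' (congrArg Subtype.val (hEp p))).trans (hEp p)
      have h2 : a ⊗ₜ[R] p = a • ((1 : R ⧸ I) ⊗ₜ[R] p) := by
        rw [TensorProduct.smul_tmul', smul_eq_mul, mul_one]
      rw [h2, map_smul, h0]
      rfl

end Groth.Agent.S0534
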