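import Groth.Statements.S2324
import Groth.Agent.H11Ample.Ample

set_option autoImplicit false
universe u
open CategoryTheory CategoryTheory.Limits AlgebraicGeometry
open EGA2

namespace Groth.Agent.S2324

/-- Let X be a quasi-compact separated scheme, L an ample invertible O_X-module, Z a finite set of
points of X and U an open subset containing Z. Then for some n > 0 and some global section s of
L^{⊗n}, the open X_s where s generates is affine, contains Z and is contained in U. -/
theorem result (X : Scheme.{u}) [CompactSpace X] [X.IsSeparated] (L : X.Modules) (hL : CohB1.IsAmple L)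
    (Z : Set X) (hZ : Z.Finite) (U : X.Opens) (hZU : Z ⊆ U) :
    ∃ (n : ℕ) (s : Coh.structureModule X ⟶ CohB1.tensorPow L (n + 1)),
      Z ⊆ CohB1.genLocus _ s ∧ (CohB1.genLocus _ s : Set X) ⊆ U ∧ IsAffineOpen (CohB1.genLocus _ s) := by
  obtain ⟨k, s, hk, hZs, hsU, hs⟩ := H11Ample.exists_affine_gen_nhd_finite hL hZ hZU
  obtain ⟨n, rfl⟩ := Nat.exists_eq_add_of_le' (Nat.one_le_iff_ne_zero.2 hk.ne')
  refine ⟨n, H11Tilde.homOfGlobal _ s, ?_, ?_, ?_⟩ <;>
    rw [H11Ample.genLocus_eq_gen, H11Ample.val_homOfGlobal]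
  exacts [hZs, hsU, hs]

end Groth.Agent.S2324
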