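import Groth.Statements.S13437
import Groth.Agent.H25Hilb.Signs

set_option autoImplicit false
universe u
open W4c1hilbpn

namespace Groth.Agent.S13437

open W4c1hilbpn Groth.Agent.H25Hilb in
theorem tgt_eq_sum {k : Type u} [Field k] {I : Ideal (MvPolynomial (Fin 3) k)} (hI : IsMonomial I)
    [Module.Finite k (MvPolynomial (Fin 3) k ⧸ I)] :
    Module.finrank k (Tgt I) = ∑ i : Fin 3,
      (Module.finrank k ↥(sigPiece I ({i} : Set (Fin 3))) + Module.finrank k ↥(sigPiece I ({i}ᶜ : Set (Fin 3)))) := by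
  classical
  let F := fun α => Module.finrank k (tPiece I α)
  let χ : (Fin 3 → ℤ) → Finset (Fin 3) := fun α => Finset.univ.filter fun l => α l < 0
  have hN : ∀ N : Finset (Fin 3), Module.finrank k ↥(sigPiece I (N : Set (Fin 3))) =
      ∑ α ∈ (finite_ne_bot hI).toFinset with χ α = N, F α := fun N => by
    rw [sigPiece, finrank_iSup_filter hI]
    refine Finset.sum_congr (Finset.ext fun α => ?_) fun _ _ => rfl
    simp [mem_sel, χ, Finset.ext_iff]
  rw [finrank_tgt hI (finite_ne_bot hI).toFinset (fun α hα => by simpa using hα),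
    ← Finset.sum_fiberwise (g := χ) (f := F) (s := (finite_ne_bot hI).toFinset),
    Finset.sum_congr rfl fun N _ => (hN N).symm]
  have hz : ∀ N : Finset (Fin 3), (N = ∅ ∨ N = Finset.univ) → Module.finrank k ↥(sigPiece I (N : Set (Fin 3))) = 0 := by
    intro N h
    have : sigPiece I (N : Set (Fin 3)) = ⊥ := eq_bot_iff.2 (iSup_le fun α => le_of_eq (tPiece_eq_bot_of_signs hI (by
      rcases h with rfl | rfl
      · exact Or.inl fun l => not_lt.1 fun hh => by simpa using (α.2 l).1 hh
      · exact Or.inr fun l => (α.2 l).2 (by simp))))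
    rw [this]; exact finrank_bot _ _
  rw [show (Finset.univ : Finset (Finset (Fin 3))) = {∅, {0}, {1}, {2}, {1, 2}, {0, 2}, {0, 1}, Finset.univ} from by decide]
  repeat rw [Finset.sum_insert (by decide)]
  rw [Finset.sum_singleton]
  have c : ∀ (S : Finset (Fin 3)) (T : Set (Fin 3)), (S : Set (Fin 3)) = T →
      Module.finrank k ↥(sigPiece I (S : Set (Fin 3))) = Module.finrank k ↥(sigPiece I T) := by rintro _ _ rfl; rfl
  rw [c {0} {0} (by simp), c {1} {1} (by simp), c {2} {2} (by simp), c {1, 2} {1, 2} (by simp),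
    c {0, 2} {0, 2} (by simp), c {0, 1} {0, 1} (by simp)]
  have e0 : ({0}ᶜ : Set (Fin 3)) = {1, 2} := by ext l; fin_cases l <;> simp
  have e1 : ({1}ᶜ : Set (Fin 3)) = {0, 2} := by ext l; fin_cases l <;> simp
  have e2 : ({2}ᶜ : Set (Fin 3)) = {0, 1} := by ext l; fin_cases l <;> simp
  have z0 := hz ∅ (Or.inl rfl)
  have z1 := hz Finset.univ (Or.inr rfl)
  rw [z0, z1]
  rw [Fin.sum_univ_three, e0, e1, e2]
  omega

open W4c1hilbpn in
/-- Let k be an infinite field, S = k[x,y,z] and I a monomial ideal of S of finite colength d. Then the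
dimension of Hom_S(I, S/I) is congruent to d modulo 2. -/
theorem result (k : Type u) [Field k] [Infinite k]
    (I : Ideal (MvPolynomial (Fin 3) k)) (hI : IsMonomial I) [Module.Finite k (MvPolynomial (Fin 3) k ⧸ I)] :
    Module.finrank k (Tgt I) % 2 = Module.finrank k (MvPolynomial (Fin 3) k ⧸ I) % 2 := by
  rw [tgt_eq_sum hI, Fin.sum_univ_three, H25Hilb.finrank_sigPiece_singleton hI 0,
    H25Hilb.finrank_sigPiece_singleton hI 1, H25Hilb.finrank_sigPiece_singleton hI 2]
  omega

end Groth.Agent.S13437
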