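import Groth.Statements.S1036
import Groth.Agent.H16Derived.QRep.Main

set_option autoImplicit false
universe u
open CategoryTheory CategoryTheory.Limits AlgebraicGeometry
attribute [local instance] HasDerivedCategory.standard
open Perf

namespace Groth.Agent.S1036

set_option linter.style.haveILetI false

/-- Let the scheme X be quasi-compact, quasi-separated and have the resolution property. Every perfect
object of D(O_X) is isomorphic in D(O_X) to (the image of) a strictly perfect complex, i.e. a
bounded complex of finite locally free O_X-modules. -/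
theorem result (X : Scheme.{u}) [CompactSpace ↥X] [QuasiSeparatedSpace ↥X] (hX : PerfAux.HasResolutionProperty X) (K : DCoh.D X) (hK : DCoh.IsPerfect K) :
    ∃ E : CochainComplex X.Modules ℤ, DCoh.IsStrictlyPerfect E ∧ Nonempty (DCoh.toD X E ≅ K) := by
  obtain ⟨a, b, hab, hamp⟩ := H16Derived.QRep.exists_hasPerfectAmplitudeIn hK
  obtain ⟨F, hFa, hFq, ⟨e⟩⟩ := H16Derived.QRep.exists_qcoh_rep_amp hX K hamp
  have hF : DCoh.IsPerfect (DCoh.toD X F) :=
    H16Derived.TorTest.isPerfect_of_hasPerfectAmplitudeIn (H16Derived.QRep.hasPerfectAmplitudeIn_of_iso e.symm hamp)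
  obtain ⟨E, φ, hE, hφ⟩ := H16Derived.QRep.exists_strictlyPerfect_qis hX F hFq a
    (fun n hn => F.isZero_of_isStrictlyGE a n hn) hF
  haveI : IsIso (DerivedCategory.Q.map φ) := H16Derived.KFlat.Stalk.isIso_Q_map _ hφ
  exact ⟨E, hE, ⟨asIso (DerivedCategory.Q.map φ) ≪≫ e⟩⟩

end Groth.Agent.S1036
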