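import Groth.Statements.S5019
import Groth.Agent.H06Unram.SmoothRank

set_option autoImplicit false
universe u
open CategoryTheory CategoryTheory.Limits AlgebraicGeometry TopologicalSpace
open Unram17

namespace Groth.Agent.S5019

set_option linter.style.haveILetI false

/-- Let f : X ⟶ Y be smooth and let (Ω', d) be a sheaf of differentials of X over Y (d a universal
Y-derivation). Then for every point x of X there are an open neighbourhood U of x and an integer n
such that Ω' restricted to U is free of rank n and n is the local dimension at x of the fibre of f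
through x. -/
theorem result {X Y : Scheme.{u}} (f : X ⟶ Y) [Smooth f]
    (Ω' : X.Modules) (d : OmegaSh.Der f Ω') (hd : OmegaSh.IsUniversal d) (x : ↥X) :
    ∃ (U : X.Opens) (n : ℕ), x ∈ U ∧ Nonempty (Ω'.restrict U.ι ≅ FlatMod.freeMod (↑U) n) ∧
      FlatMor.fibreDimAt f x = (n : WithBot ℕ∞) := by
  obtain ⟨U, n, hxU, ⟨e⟩⟩ := H06Unram.OmegaLocFree.isFinLocFree ((H8Props.FormallySmoothScheme.isFormallySmoothHom_iff f).mpr fun U V hU hV hUV => RingHom.Smooth.formallySmooth (f.smooth_appLE hV hU hUV)) hd x
  exact ⟨U, n, hxU, ⟨e⟩, H06Unram.SmoothRank.rank_eq_fibreDimAt f hd e hxU⟩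

end Groth.Agent.S5019
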