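import Groth.Statements.S17910
import Mathlib

set_option autoImplicit false
universe u
open scoped TensorProduct
open SymTen

namespace Groth.Agent.S17910

/-- Let R be a commutative ring, A a commutative R-algebra, d ≥ 0, and P an A-module that is finitely
generated projective (finite locally free) as an R-module. Let the d-fold tensor power of A over R
act on the d-fold tensor power of P over R factor by factor, and let I_d be the R-span of the pure
tensors p_1 ⊗ ⋯ ⊗ p_d with two equal factors p_i = p_j, i ≠ j (the submodule by which the tensor
power is divided to give the d-th exterior power). Then every symmetric tensor a ∈ TS^d_R(A) maps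
I_d into itself, so that TS^d_R(A) acts on the d-th exterior power of P over R. -/
theorem result (R : Type u) [CommRing R] (A : Type u) [CommRing A] [Algebra R A]
    (P : Type u) [AddCommGroup P] [Module R P] [Module A P] [IsScalarTower R A P]
    [Module.Finite R P] [Module.Projective R P] (d : ℕ)
    (a : ⨂[R] _ : Fin d, A) (ha : a ∈ SymTen.TS R A d)
    (x : ⨂[R] _ : Fin d, P) (hx : x ∈ SymTen.altSpan R P d) :
    SymTen.tpowAct R A P d a x ∈ SymTen.altSpan R P d := by
  classical
  -- `x + τ x` lies in the alternating span
  have hpol : ∀ (i j : Fin d), i ≠ j → ∀ z : ⨂[R] _ : Fin d, P,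
      z + PiTensorProduct.reindex R (fun _ : Fin d => P) (Equiv.swap i j) z ∈ SymTen.altSpan R P d := by
    intro i j hij z
    induction z using PiTensorProduct.induction_on with
    | smul_tprod r f =>
      rw [map_smul, ← smul_add, PiTensorProduct.reindex_tprod]
      refine Submodule.smul_mem _ _ ?_
      let T := PiTensorProduct.tprod R (s := fun _ : Fin d => P)
      let g : P → P → Fin d → P := fun u v => Function.update (Function.update f i u) j v
      have hg : ∀ u, T (g u u) ∈ SymTen.altSpan R P d := fun u =>
        Submodule.subset_span ⟨g u u, i, j, hij, by simp [g, hij], rfl⟩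
      have hexp : T (g (f i + f j) (f i + f j)) = T (g (f i) (f i)) + T (g (f j) (f j)) +
          (T (g (f i) (f j)) + T (g (f j) (f i))) := by
        have e1 : ∀ u v w, T (g u (v + w)) = T (g u v) + T (g u w) := fun u v w =>
          T.map_update_add (Function.update f i u) j v w
        have hswap : ∀ u v, g u v = Function.update (Function.update f j v) i u := fun u v =>
          Function.update_comm hij u v f
        have e2 : ∀ u v w, T (g (u + v) w) = T (g u w) + T (g v w) := fun u v w => by
          rw [hswap, hswap, hswap]
          exact T.map_update_add (Function.update f j w) i u v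
        rw [e2, e1, e1]
        abel
      have h1 : g (f i) (f j) = f := by simp [g]
      have h2 : g (f j) (f i) = fun l => f ((Equiv.swap i j).symm l) := by
        rw [Equiv.symm_swap]
        exact (Function.update_comm hij (f j) (f i) f).trans (Equiv.comp_swap_eq_update i j f).symm
      rw [h1, h2] at hexp
      have := sub_mem (sub_mem (hg (f i + f j)) (hg (f i))) (hg (f j))
      rw [hexp] at this
      convert! this using 1
      simp only [T]
      abel
    | add a b ha hb => rw [map_add, add_add_add_comm]; exact add_mem ha hb
  -- fixed tensors of a free module lie in the alternating span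
  obtain ⟨n, π, hπ⟩ := Module.Finite.exists_fin' R P
  obtain ⟨s, hs⟩ := Module.projective_lifting_property π LinearMap.id hπ
  have hfix : ∀ (i j : Fin d), i ≠ j → ∀ z : ⨂[R] _ : Fin d, P,
      PiTensorProduct.reindex R (fun _ : Fin d => P) (Equiv.swap i j) z = z → z ∈ SymTen.altSpan R P d := by
    intro i j hij z hz
    let bb := Basis.piTensorProduct fun _ : Fin d => Pi.basisFun R (Fin n)
    let mπ := PiTensorProduct.map fun _ : Fin d => π
    let U : (⨂[R] _ : Fin d, Fin n → R) →ₗ[R] ⨂[R] _ : Fin d, Fin n → R :=
      bb.constr R fun m => if m i < m j then bb m else 0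
    let L : (⨂[R] _ : Fin d, Fin n → R) →ₗ[R] ⨂[R] _ : Fin d, Fin n → R :=
      bb.constr R fun m => if m j < m i then bb m else 0
    let τ := (PiTensorProduct.reindex R (fun _ : Fin d => Fin n → R) (Equiv.swap i j)).toLinearMap
    have hτb : ∀ m, τ (bb m) = bb fun l => m (Equiv.swap i j l) := by
      intro m
      simp [τ, bb, Basis.piTensorProduct_apply]
    have hLτ : L ∘ₗ τ = τ ∘ₗ U := by
      refine bb.ext fun m => ?_
      simp only [LinearMap.comp_apply, hτb, L, U, Module.Basis.constr_basis, Equiv.swap_apply_left,
        Equiv.swap_apply_right]
      split_ifs with h <;> simp [hτb]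
    have hrest : ∀ w, mπ (w - U w - L w) ∈ SymTen.altSpan R P d := by
      intro w
      induction bb.mem_span w using Submodule.span_induction with
      | zero => simp
      | add a b _ _ ha hb =>
        rw [map_add, map_add, show a + b - (U a + U b) - (L a + L b) = (a - U a - L a) + (b - U b - L b) by abel,
          map_add]
        exact add_mem ha hb
      | smul c a _ ha =>
        rw [map_smul, map_smul, ← smul_sub, ← smul_sub, map_smul]
        exact Submodule.smul_mem _ _ ha
      | mem w hw =>
        obtain ⟨m, rfl⟩ := hw
        simp only [U, L, Module.Basis.constr_basis]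
        rcases lt_trichotomy (m i) (m j) with h | h | h
        · simp [h, not_lt.mpr h.le]
        · simp only [h, lt_irrefl, if_false, sub_zero, bb, mπ, Basis.piTensorProduct_apply,
            PiTensorProduct.map_tprod]
          exact Submodule.subset_span ⟨_, i, j, hij, by simp [h], rfl⟩
        · simp [h, not_lt.mpr h.le]
    let y := PiTensorProduct.map (fun _ : Fin d => s) z
    have hy : τ y = y := by
      show PiTensorProduct.reindex R _ _ (PiTensorProduct.map (fun _ : Fin d => s) z) = _
      rw [← PiTensorProduct.map_reindex, hz]
    have hzy : mπ y = z := by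
      show PiTensorProduct.map (fun _ : Fin d => π) (PiTensorProduct.map (fun _ : Fin d => s) z) = z
      rw [← LinearMap.comp_apply, ← PiTensorProduct.map_comp]
      simp only [hs]
      rw [PiTensorProduct.map_id]
      rfl
    have hL : L y = τ (U y) := by
      conv_lhs => rw [← hy]
      exact LinearMap.congr_fun hLτ y
    have hτπ : mπ (τ (U y)) = PiTensorProduct.reindex R (fun _ : Fin d => P) (Equiv.swap i j) (mπ (U y)) :=
      (PiTensorProduct.map_reindex (fun _ : Fin d => π) (Equiv.swap i j) (U y))
    rw [← hzy, show y = (y - U y - L y) + (U y + τ (U y)) by rw [hL]; abel, map_add, map_add, hτπ]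
    exact add_mem (hrest y) (hpol i j hij _)
  -- equivariance of the action
  have heq : ∀ (σ : Equiv.Perm (Fin d)) (c : ⨂[R] _ : Fin d, A) (q : ⨂[R] _ : Fin d, P),
      PiTensorProduct.reindex R (fun _ : Fin d => P) σ (SymTen.tpowAct R A P d c q) =
        SymTen.tpowAct R A P d (PiTensorProduct.reindex R (fun _ : Fin d => A) σ c)
          (PiTensorProduct.reindex R (fun _ : Fin d => P) σ q) := by
    intro σ c q
    induction c using PiTensorProduct.induction_on with
    | add a b ha hb => simp only [map_add, LinearMap.add_apply, ha, hb]
    | smul_tprod r f =>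
      simp only [map_smul, LinearMap.smul_apply]
      congr 1
      induction q using PiTensorProduct.induction_on with
      | add a b ha hb => simp only [map_add, ha, hb]
      | smul_tprod r g => simp [SymTen.tpowAct, PiTensorProduct.reindex_tprod]
  unfold SymTen.altSpan at hx
  induction hx using Submodule.span_induction with
  | zero => rw [map_zero]; exact zero_mem _
  | add u v _ _ hu hv => rw [map_add]; exact add_mem hu hv
  | smul c u _ hu => rw [map_smul]; exact Submodule.smul_mem _ _ hu
  | mem u hu =>
    obtain ⟨q, i, j, hij, hq, rfl⟩ := hu
    refine hfix i j hij _ ?_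
    rw [heq, ha (Equiv.swap i j), PiTensorProduct.reindex_tprod]
    congr 1
    congr 1
    funext l
    rcases eq_or_ne l i with rfl | hi
    · simp [hq]
    · rcases eq_or_ne l j with rfl | hj
      · simp [hq]
      · simp [Equiv.swap_apply_of_ne_of_ne hi hj]

end Groth.Agent.S17910
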