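import Groth.Statements.S14693
import Mathlib

set_option autoImplicit false
universe u
open CategoryTheory AlgebraicGeometry
open SekSuwa

namespace Groth.Agent.S14693

open CategoryTheory.Limits in
theorem isPushout_quotient (R : Type u) [CommRing R] (lam : R) (N : ℕ) (h : SekSuwa.DivCond lam N) :
    IsPushout (CommRingCat.ofHom ((SekSuwa.psiHom R lam N h : SekSuwa.A R (lam ^ N) →ₐc[R] SekSuwa.A R lam) : SekSuwa.A R (lam ^ N) →+* SekSuwa.A R lam))
      (CommRingCat.ofHom ((Bialgebra.counitAlgHom R (SekSuwa.A R (lam ^ N))) : SekSuwa.A R (lam ^ N) →+* R))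
      (CommRingCat.ofHom ((SekSuwa.AK.mkHom R lam N h : SekSuwa.A R lam →ₐc[R] SekSuwa.AK R lam N h) : SekSuwa.A R lam →+* SekSuwa.AK R lam N h))
      (CommRingCat.ofHom (algebraMap R (SekSuwa.AK R lam N h))) := by
  refine ⟨⟨?_⟩, ⟨PushoutCocone.isColimitAux' _ fun s => ?_⟩⟩
  · refine CommRingCat.hom_ext (RingHom.ext fun z => ?_)
    exact DFunLike.congr_fun (SekSuwa.mkHom_comp_psiHom R lam N h) z
  · have hc : ∀ z, s.inl.hom (SekSuwa.psiHom R lam N h z) = s.inr.hom (Bialgebra.counitAlgHom R _ z) := fun z =>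
      DFunLike.congr_fun (congrArg CommRingCat.Hom.hom s.condition) z
    have hz : ∀ a ∈ SekSuwa.kerIdeal lam N h, s.inl.hom a = 0 := by
      intro a ha
      obtain ⟨d, rfl⟩ := Ideal.mem_span_singleton'.mp ha
      have h1 := hc SekSuwa.A.t
      rw [SekSuwa.psiHom_t] at h1
      have h2 : Bialgebra.counitAlgHom R (SekSuwa.A R (lam ^ N)) SekSuwa.A.t = 0 := SekSuwa.A.counit_t
      rw [h2, map_zero] at h1
      rw [map_mul, h1, mul_zero]
    refine ⟨CommRingCat.ofHom (Ideal.Quotient.lift (SekSuwa.kerIdeal lam N h) s.inl.hom hz), ?_, ?_, ?_⟩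
    · exact CommRingCat.hom_ext (RingHom.ext fun z => rfl)
    · refine CommRingCat.hom_ext (RingHom.ext fun r => ?_)
      have h1 := hc (algebraMap R _ r)
      rw [AlgHomClass.commutes, AlgHom.commutes] at h1
      exact h1
    · intro m hm1 hm2
      refine CommRingCat.hom_ext (Ideal.Quotient.ringHom_ext (RingHom.ext fun z => ?_))
      exact DFunLike.congr_fun (congrArg CommRingCat.Hom.hom hm1) z


/-- For any commutative ring R, λ ∈ R and N such that λ is a non-zero-divisor and λ^N divides (1 + λX)^N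
− 1 in R[X] with quotient P_{λ,N}, the closed subgroup scheme G_{λ,N} = Spec R[T]/(P_{λ,N}(T)) of
the affine R-group G^(λ) = Spec R[T, 1/(1+λT)] (group law s + t + λst) is the kernel of the
homomorphism ψ_{λ,N} : G^(λ) → G^(λ^N), T ↦ P_{λ,N}(T): the square with sides the inclusion G_{λ,N}
→ G^(λ), ψ_{λ,N}, the unit section of G^(λ^N) and G_{λ,N} → Spec R is cartesian. (The published
text, over a discrete valuation ring and with N = p^n, introduces G_{λ,n} as the kernel of the
isogeny ψ_{λ,n}; this row is that assertion for every N, including the degenerate N = 0 where ψ is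
trivial and G_{λ,0} = G^(λ).) -/
theorem result (R : Type u) [CommRing R] (lam : R) (N : ℕ) (h : SekSuwa.DivCond lam N) :
    AlgGrp.IsKernel (SekSuwa.incl R lam N h) (SekSuwa.psi R lam N h) := by
  refine CategoryTheory.IsPullback.of_map (Over.forget _) ?_ ?_
  · exact SekSuwa.incl_psi R lam N h
  · have h1 := isPullback_SpecMap_of_isPushout _ _ _ _ (isPushout_quotient R lam N h)
    have h2 : (CartesianMonoidalCategory.toUnit (SekSuwa.GK R lam N h)).left =
        Spec.map (CommRingCat.ofHom (algebraMap R (SekSuwa.AK R lam N h))) := by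
      rw [← Category.comp_id (CartesianMonoidalCategory.toUnit (SekSuwa.GK R lam N h)).left]
      exact Over.w (CartesianMonoidalCategory.toUnit (SekSuwa.GK R lam N h))
    simp only [Over.forget_map]
    rw [h2]
    exact h1

end Groth.Agent.S14693
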