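import Groth.Statements.S9688
import Groth.Agent.H22Alg.NormalizationDimOne
import Mathlib.AlgebraicGeometry.Morphisms.Finite
-- import your own Groth.Agent.* helpers here

set_option autoImplicit false
universe u
open CategoryTheory CategoryTheory.Limits AlgebraicGeometry
open Mor

namespace Groth.Agent.S9688

/-- Let X be an integral Japanese scheme (every nonempty affine open has Japanese, i.e. N-2, coordinate
ring). Then the normalization morphism X^ν ⟶ X is finite. (The quasi-compactness and
quasi-separatedness binders on Spec K(X) ⟶ X always hold; they are only needed to form the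
normalization.) -/
theorem result (X : Scheme.{u}) [IsIntegral X] [QuasiCompact (X.fromSpecStalk (genericPoint ↥X))] [QuasiSeparated (X.fromSpecStalk (genericPoint ↥X))]
    (hJ : ∀ (U : X.Opens), IsAffineOpen U → ∀ (hne : Nonempty ↥U),
      @CAlg.IsN2 ↑Γ(X, U) _ (@IsIntegral.component_integral X _ U hne)) :
    IsFinite (Curv2.normalizationι X) := by
  rw [isFinite_iff]
  haveI := Groth.Agent.H22Alg.NormalizationDimOne.isIntegralHom_normalizationι X
  refine ⟨inferInstance, fun U hU => ?_⟩
  rcases isEmpty_or_nonempty (↥U : Type u) with hemp | hne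
  · have hbot : Curv2.normalizationι X ⁻¹ᵁ U = ⊥ :=
      eq_bot_iff.2 fun y hy => hemp.elim ⟨_, hy⟩
    haveI : Subsingleton Γ(Curv2.normalization X, Curv2.normalizationι X ⁻¹ᵁ U) := by
      rw [hbot]; infer_instance
    exact RingHom.Finite.of_surjective _ fun x => ⟨0, Subsingleton.elim _ _⟩
  · haveI : Nonempty U.toScheme := hne
    obtain ⟨φ, hφ⟩ := Groth.Agent.H22Alg.NormalizationDimOne.exists_obj_iso X hU
    haveI : IsFractionRing Γ(X, U) X.functionField := functionField_isFractionRing_of_isAffineOpen X U hU
    let e : FractionRing Γ(X, U) ≃ₐ[Γ(X, U)] X.functionField := FractionRing.algEquiv Γ(X, U) X.functionField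
    letI : Algebra (FractionRing Γ(X, U)) X.functionField := e.toAlgHom.toRingHom.toAlgebra
    haveI : IsScalarTower Γ(X, U) (FractionRing Γ(X, U)) X.functionField :=
      .of_algebraMap_eq fun b => (e.commutes b).symm
    haveI : Module.Finite (FractionRing Γ(X, U)) X.functionField :=
      Module.Finite.of_surjective (Algebra.linearMap (FractionRing Γ(X, U)) X.functionField) e.surjective
    haveI := hJ U hU hne X.functionField this
    have h1 : (algebraMap Γ(X, U) (integralClosure Γ(X, U) X.functionField)).Finite :=
      RingHom.finite_algebraMap.mpr ‹_›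
    have h2 := RingHom.Finite.comp (RingHom.Finite.of_surjective φ.toRingHom φ.surjective) h1
    convert h2 using 1
    exact RingHom.ext fun b => (hφ b).symm

end Groth.Agent.S9688
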