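import Groth.Statements.S7359
import Groth.Agent.H26Blow.Proper
import Groth.Agent.H12AlgSp.NagataSpace
import Groth.Agent.S9688
import Groth.Agent.S2351

set_option autoImplicit false
universe u
open CategoryTheory CategoryTheory.Limits AlgebraicGeometry
open Resolve

namespace Groth.Agent.S7359

/-- Let X be an integral locally Noetherian Nagata scheme (every affine open has a Nagata coordinate
ring), x ∈ X a closed point, b : X' → X the blowing up of X at x (in the reduced point; X' is again
integral) and X'' → X' the normalization of X'. Then the normalized blowing up X'' is a normal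
scheme, is Nagata, and X'' → X is proper. (The quasi-compactness and quasi-separatedness binders on
Spec K(X') → X' always hold; they are needed only to form the normalization.) -/
theorem result (X : Scheme.{u}) [IsIntegral X] [IsLocallyNoetherian X]
    (hN : ∀ U : X.affineOpens, CAlg.IsNagata Γ(X, U.1)) (x : X) (hx : IsClosed ({x} : Set X))
    (X' : Scheme.{u}) (b : X' ⟶ X) (hb : BlowUp.IsBlowUp b (Scheme.IdealSheafData.vanishingIdeal ⟨{x}, hx⟩)) [IsIntegral X']
    [QuasiCompact (X'.fromSpecStalk (genericPoint X'))] [QuasiSeparated (X'.fromSpecStalk (genericPoint X'))] :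
    Pi1.IsNormalScheme (Curv2.normalization X') ∧
      (∀ U : (Curv2.normalization X').affineOpens, CAlg.IsNagata Γ(Curv2.normalization X', U.1)) ∧
      IsProper (Curv2.normalizationι X' ≫ b) := by
  haveI hprop : IsProper b := Groth.Agent.H26Blow.isProper_of_isBlowUp hb fun z => by
    obtain ⟨U, hU, hz, -⟩ := exists_isAffineOpen_mem_and_subset (show z ∈ (⊤ : X.Opens) from trivial)
    haveI : IsNoetherianRing Γ(X, U) := IsLocallyNoetherian.component_noetherian ⟨U, hU⟩
    exact ⟨⟨U, hU⟩, hz, IsNoetherian.noetherian _⟩
  have hN' : ∀ W : X'.Opens, IsAffineOpen W → CAlg.IsNagata Γ(X', W) := fun W hW =>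
    Groth.Agent.H12AlgSp.isNagata_affineOpens_of_lft b (fun A hA => hN ⟨A, hA⟩) W hW
  haveI : IsFinite (Curv2.normalizationι X') := Groth.Agent.S9688.result X' fun U hU hne => by
    haveI := hne
    haveI : IsDomain Γ(X', U) := @IsIntegral.component_integral X' _ U hne
    exact Groth.Agent.H1CAlg.isN2_of_ringEquiv (RingEquiv.quotientBot Γ(X', U)) ((hN' U hU).2 ⊥)
  obtain ⟨-, hnorm, -⟩ := Groth.Agent.S2351.result X'
  exact ⟨hnorm, fun U => Groth.Agent.H12AlgSp.isNagata_affineOpens_of_lft (Curv2.normalizationι X') hN' U.1 U.2,
    inferInstance⟩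

end Groth.Agent.S7359
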