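import Groth.Statements.S7624
import Groth.Agent.H06EGA14.ValuationDim

set_option autoImplicit false
universe u
open CategoryTheory CategoryTheory.Limits AlgebraicGeometry
open Variety

namespace Groth.Agent.S7624

open Groth.Agent.H8Props.FieldDim

/-- Let R be a valuation ring, X an irreducible scheme and f : X → Spec R a surjective morphism locally
of finite type. Then each irreducible component of the fibre of f over the closed point of Spec R
has Krull dimension equal to that of the fibre of f over the generic point. -/
theorem result (R : Type u) [CommRing R] [IsDomain R] [ValuationRing R]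
    (X : Scheme.{u}) [IrreducibleSpace ↥X] (f : X ⟶ Spec (CommRingCat.of R)) [LocallyOfFiniteType f] [Surjective f]
    (Z : Set ↥(f.fiber (IsLocalRing.closedPoint R))) (hZ : Z ∈ irreducibleComponents ↥(f.fiber (IsLocalRing.closedPoint R))) :
    topologicalKrullDim ↥Z = topologicalKrullDim ↥(f.fiber (⟨⊥, Ideal.bot_prime⟩ : PrimeSpectrum R)) := by
  have hZirr : IsIrreducible Z := hZ.1
  have hZcl : IsClosed Z := isClosed_of_mem_irreducibleComponents Z hZ
  let ζ := hZirr.genericPoint
  have hζ : closure ({ζ} : Set _) = Z := hZirr.closure_genericPoint hZcl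
  let v := genericPoint X
  obtain ⟨w, hw⟩ := f.surjective (⊥ : PrimeSpectrum R)
  have hfv : f v = (⊥ : PrimeSpectrum R) := by
    have h : f v ⤳ f w := ((genericPoint_spec X).specializes trivial).map f.continuous
    rw [hw] at h
    exact PrimeSpectrum.ext (le_bot_iff.mp ((PrimeSpectrum.le_iff_specializes _ _).mpr h))
  have key : ∀ (s : Spec (CommRingCat.of R)) (z : f.fiber s) (x : X), f x = s → f.fiberι s z = x →
      cdim z = cdim (f.asFiber x) ∧ FlatMor.localDim (f.fiber s) z = FlatMor.fibreDimAt f x := by
    intro s z x hs hz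
    subst hs
    rw [show z = f.asFiber x from (f.fiberι _).isEmbedding.injective (hz.trans (f.fiberι_asFiber x).symm)]
    exact ⟨rfl, rfl⟩
  let x := f.fiberι _ ζ
  have hx : f x = IsLocalRing.closedPoint R := (f.range_fiberι _).subset (Set.mem_range_self ζ)
  obtain ⟨h1, h2⟩ := key _ ζ x hx rfl
  obtain ⟨v', hv'⟩ : v ∈ Set.range (f.fiberι (⊥ : PrimeSpectrum R)) := by
    rw [f.range_fiberι]; exact hfv
  obtain ⟨h3, h4⟩ := key _ v' v hfv hv'
  have hdimη : topologicalKrullDim ↥(f.fiber (⊥ : PrimeSpectrum R)) = cdim v' := by
    rw [dim_eq_iSup_cdim]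
    refine le_antisymm (iSup_le fun u => ?_) (le_iSup (fun u => cdim u) v')
    refine dim_mono (specializes_iff_closure_subset.1 ?_)
    rw [← (f.fiberι _).isEmbedding.isInducing.specializes_iff, hv']
    exact (genericPoint_spec X).specializes trivial
  have hZd : topologicalKrullDim ↥Z = cdim ζ := by
    rw [show cdim ζ = topologicalKrullDim ↥(closure ({ζ} : Set _)) from rfl, hζ]
  change _ = topologicalKrullDim ↥(f.fiber (⊥ : PrimeSpectrum R))
  rw [hZd, hdimη, h1, h3]
  refine le_antisymm (Groth.Agent.H06EGA14.cdim_asFiber_le_of_valuationRing f x v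
    ((genericPoint_spec X).specializes trivial) hfv) ?_
  have hstalk : ringKrullDim ((f.fiber (IsLocalRing.closedPoint R)).presheaf.stalk ζ) = 0 := by
    rw [AlgebraicGeometry.ringKrullDim_stalk_eq_coheight, Order.coheight_eq_zero.2 ?_]
    · rfl
    · intro y hy
      replace hy : y ⤳ ζ := hy
      show ζ ⤳ y
      refine specializes_iff_mem_closure.2 ?_
      rw [hζ]
      have hsub : Z ⊆ closure {y} := by
        rw [← hζ]; exact specializes_iff_closure_subset.1 hy
      exact hZ.2 isIrreducible_singleton.closure hsub (subset_closure rfl)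
  haveI := locallyOfFiniteType_fiberToSpec f (f v)
  haveI := locallyOfFiniteType_fiberToSpec f (IsLocalRing.closedPoint R)
  calc cdim (f.asFiber v) ≤ FlatMor.fibreDimAt f v := by
        show _ ≤ FlatMor.localDim (f.fiber (f v)) (f.asFiber v)
        rw [localDim_eq_stalk_add_cdim (k := (Spec (CommRingCat.of R)).residueField (f v)) (f.fiberToSpecResidueField (f v))]
        exact le_add_of_nonneg_left ringKrullDim_nonneg_of_nontrivial
    _ ≤ FlatMor.fibreDimAt f x := fibreDimAt_le_of_specializes f ((genericPoint_spec X).specializes trivial)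
    _ = cdim ζ := by
        rw [← h2, localDim_eq_stalk_add_cdim (k := (Spec (CommRingCat.of R)).residueField (IsLocalRing.closedPoint R))
          (f.fiberToSpecResidueField (IsLocalRing.closedPoint R)), hstalk, zero_add]
    _ = _ := h1

end Groth.Agent.S7624
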