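import Groth.Statements.S8708
import Groth.Agent.H28Const.Split

set_option autoImplicit false
set_option linter.style.haveILetI false
set_option backward.isDefEq.respectTransparency.types false
set_option maxHeartbeats 1600000
universe u
open CategoryTheory CategoryTheory.Limits MonoidalCategory CartesianMonoidalCategory MonObj AlgebraicGeometry
open SGA7
open Groth.Agent

namespace Groth.Agent.S8708

/-- Let k be a field, Z a group without non-trivial elements of finite order, P a connected k-group
scheme locally of finite type, G the constant k-group scheme Z_k (through the isomorphism eG), and u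
: G → E, v : E → P homomorphisms of k-group schemes forming a sequence 1 → G → E → P → 1 which is
exact for the fppf topology. Then the extension is rigid and trivial: every automorphism of the
k-group scheme E compatible with u and v is the identity, and there is a homomorphism of k-group
schemes s : P → E with s followed by v equal to the identity of P. (For P not connected the
published statement reduces extensions of P to extensions of its group of connected components; that
part is not stated.) -/
theorem result (k : Type u) [Field k]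
    (Z : Type u) [Group Z] (hZ : ∀ z : Z, IsOfFinOrder z → z = 1)
    (P E G : Over (Spec (CommRingCat.of k))) [GrpObj P] [GrpObj E] [GrpObj G]
    [LocallyOfFiniteType P.hom] [ConnectedSpace ↥P.left]
    (eG : G ≅ TwC.const (Spec (CommRingCat.of k)) Z) (hG : TwC.IsConstGrp Z G eG)
    (u : G ⟶ E) (v : E ⟶ P) (hex : NonAbH1.IsExactSeq Scheme.fppfPrecoverage u v) :
    (∀ φ : E ≅ E, IsMonHom φ.hom → u ≫ φ.hom = u → φ.hom ≫ v = v → φ.hom = 𝟙 E) ∧
      ∃ s : P ⟶ E, IsMonHom s ∧ s ≫ v = 𝟙 P := by
  haveI hu : IsMonHom u := hex.1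
  haveI hvm : IsMonHom v := hex.2.1
  haveI := H28Const.etale_of_exact hex eG
  have hkill : ∀ {T : Over (Spec (CommRingCat.of k))} (g : T ⟶ G), (g ≫ u) ≫ v = 1 := fun g => by
    rw [Category.assoc, hex.2.2.1, MonObj.comp_one]
  have htr : ∀ m : Z, H28Const.trans eG u m ≫ v = v := fun m => by
    rw [H28Const.trans, MonObj.mul_comp, Category.id_comp, ← Category.assoc (TwC.pt _ Z m), ← Category.assoc, hkill,
      _root_.mul_one]
  refine ⟨fun φ hφ hφu hφv => ?_, ?_⟩
  · haveI := hφ
    obtain ⟨w, hw, -⟩ := H28SGA7.exists_unique_kernel hex (φ.hom * (𝟙 E)⁻¹) (by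
      rw [MonObj.mul_comp, GrpObj.inv_comp, hφv, Category.id_comp, mul_inv_cancel])
    have hwT : ∀ {T : Over (Spec (CommRingCat.of k))} (x : T ⟶ E), (x ≫ w) ≫ u = (x ≫ φ.hom) * x⁻¹ := by
      intro T x
      rw [Category.assoc, hw, MonObj.comp_mul, GrpObj.comp_inv, Category.comp_id]
    have hinv : ∀ (T : Over (Spec (CommRingCat.of k))) (a b : T ⟶ E), a ≫ v = b ≫ v → a ≫ w = b ≫ w := by
      intro T a b h
      obtain ⟨g, hg, -⟩ := H28SGA7.exists_unique_mul hex a b h
      refine H28SGA7.kernel_injective hex ?_
      rw [hwT, hwT, ← hg, MonObj.mul_comp, Category.assoc g u, hφu, mul_inv_rev, _root_.mul_assoc,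
        mul_inv_cancel_left]
    have hw1 : w = 1 := by
      refine H28Const.eq_one_of_idx hG w fun x => ?_
      obtain ⟨m, c, hc, rfl⟩ := H28Const.exists_trans_component hex hG x
      rw [← H28Const.idx_comp, ← Category.assoc,
        show H28Const.trans eG u m ≫ w = w by
          simpa using hinv E (H28Const.trans eG u m) (𝟙 E) (by rw [htr, Category.id_comp]),
        (H28Const.isLocallyConstant_idx (w ≫ eG.hom)).apply_eq_of_isPreconnected isPreconnected_connectedComponent
          hc mem_connectedComponent]
      show H28Const.idx (w ≫ eG.hom) (η[E].left (IsLocalRing.closedPoint k)) = 1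
      rw [← H28Const.idx_comp, ← Category.assoc, show η[E] ≫ w = 1 by
        refine H28SGA7.kernel_injective hex ?_
        rw [hwT, IsMonHom.one_hom, mul_inv_cancel, MonObj.one_comp]]
      exact H28Const.idx_one hG _
    have h1 : φ.hom * (𝟙 E)⁻¹ = 1 := by rw [← hw, hw1, MonObj.one_comp]
    exact mul_inv_eq_one.1 h1
  · obtain ⟨grp, hi⟩ := H19Grp.exists_grpObj_idComp E
    letI := grp
    haveI := hi
    let i := H19Grp.idCompι E
    haveI : LocallyOfFiniteType E.hom := by rw [← Over.w v]; infer_instance
    haveI : IsLocallyNoetherian E.left := LocallyOfFiniteType.isLocallyNoetherian E.hom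
    haveI : Flat i.left := H19Grp.flat_clopenIdeal_subschemeι (X := E.left) _
    haveI : LocallyOfFinitePresentation i.left := inferInstance
    haveI : IsOpenImmersion i.left := IsOpenImmersion.of_flat_of_mono i.left
    haveI : IsSeparated P.hom := H19Grp.AffineQuotient.isSeparated_of_grp P
    -- `u` is a closed immersion
    haveI : IsClosedImmersion u.left := by
      haveI : IsClosedImmersion (η[P].left ≫ P.hom) := by
        rw [Over.w]; exact inferInstanceAs (IsClosedImmersion (𝟙 _))
      haveI : IsClosedImmersion η[P].left := IsClosedImmersion.of_comp η[P].left P.hom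
      have sq := (H28Const.isPullback_trivialise hex η[E]).map (Over.forget _)
      simp only [Over.forget_map, IsMonHom.one_hom] at sq
      haveI : IsClosedImmersion ((fst _ G ≫ η[E]) * (snd _ G ≫ u)).left :=
        MorphismProperty.of_isPullback (P := @IsClosedImmersion) sq.flip ‹_›
      have hfac : u = lift (toUnit G) (𝟙 G) ≫ ((fst _ G ≫ η[E]) * (snd _ G ≫ u)) := by
        rw [MonObj.comp_mul, lift_fst_assoc, lift_snd_assoc, Category.id_comp, ← Hom.one_def, _root_.one_mul]
      haveI : IsIso (lift (toUnit G) (𝟙 G)) := ⟨snd _ _, lift_snd _ _,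
        CartesianMonoidalCategory.hom_ext _ _ (Subsingleton.elim _ _) (by simp)⟩
      haveI : IsIso (lift (toUnit G) (𝟙 G)).left := inferInstanceAs (IsIso ((Over.forget (Spec (CommRingCat.of k))).map (lift (toUnit G) (𝟙 G))))
      rw [hfac, Over.comp_left]
      infer_instance
    let q : Z → (𝟙_ (Over (Spec (CommRingCat.of k))) ⟶ E) := fun m => TwC.pt _ Z m ≫ eG.inv ≫ u
    have hq : ∀ m n, q (m * n) = q m * q n := fun m n => by
      show TwC.pt _ Z (m * n) ≫ eG.inv ≫ u = _
      rw [← Category.assoc, ← hG, MonObj.mul_comp, Category.assoc, Category.assoc]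
    let F : Set Z := {m | ∃ c, c ≫ i = q m}
    have hFmem : ∀ m p, (q m).left p ∈ Set.range i.left → m ∈ F := fun m p hp => by
      refine H19Grp.idComp_lift E (q m) ?_
      rintro _ ⟨p', rfl⟩
      rw [← H19Grp.range_idCompι, @Subsingleton.elim (PrimeSpectrum k) inferInstance p' p]
      exact hp
    have hFfin : F.Finite := by
      have hK : IsCompact (u.left ⁻¹' Set.range i.left) := by
        refine u.left.isClosedEmbedding.isCompact_preimage ?_
        rw [show Set.range i.left = _ from H19Grp.range_idCompι_ept E]
        exact H19Grp.isCompact_component_ept E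
      haveI : CompactSpace (u.left ⁻¹' Set.range i.left : Set G.left) := isCompact_iff_compactSpace.1 hK
      refine ((H28Const.isLocallyConstant_idx eG.hom).comp_continuous (continuous_subtype_val
        (p := (· ∈ u.left ⁻¹' Set.range i.left)))).range_finite.subset ?_
      rintro m ⟨c, hc⟩
      refine ⟨⟨(TwC.pt _ Z m ≫ eG.inv).left (IsLocalRing.closedPoint k), c.left (IsLocalRing.closedPoint k), ?_⟩, ?_⟩
      · rw [← Scheme.Hom.comp_apply, ← Scheme.Hom.comp_apply, ← Over.comp_left, ← Over.comp_left, hc, Category.assoc]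
      · show H28Const.idx eG.hom _ = m
        rw [← H28Const.idx_comp, Category.assoc, eG.inv_hom_id, Category.comp_id]
        simpa [Subsingleton.elim (toUnit (𝟙_ (Over (Spec (CommRingCat.of k))))) (𝟙 _)] using
          H28Const.idx_pt m (T := 𝟙_ (Over (Spec (CommRingCat.of k)))) (IsLocalRing.closedPoint k)
    have hF1 : ∀ m ∈ F, m = 1 := by
      intro m hm
      refine hZ m ?_
      by_contra hord
      refine Set.infinite_range_of_injective (injective_pow_iff_not_isOfFinOrder.2 hord) (hFfin.subset ?_)
      rintro _ ⟨n, rfl⟩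
      induction n with
      | zero =>
        refine ⟨1, ?_⟩
        show (1 : _ ⟶ _) ≫ i = TwC.pt _ Z (m ^ 0) ≫ eG.inv ≫ u
        rw [pow_zero, ← Category.assoc, H28Const.pt_one hG, MonObj.one_comp, MonObj.one_comp]
      | succ n ih =>
        obtain ⟨c, hc⟩ := ih
        obtain ⟨c', hc'⟩ := hm
        exact ⟨c * c', by
          rw [MonObj.mul_comp, hc, hc', ← hq]
          show q (m ^ n * m) = q (m ^ (n + 1))
          rw [pow_succ]⟩
    haveI : Mono (i ≫ v) := ⟨fun {T} a b h => by
      obtain ⟨g, hg, -⟩ := H28SGA7.exists_unique_mul hex (a ≫ i) (b ≫ i) (by simpa using h)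
      have hgC : g ≫ u = (a⁻¹ * b) ≫ i := by
        rw [MonObj.mul_comp, GrpObj.inv_comp, ← hg, inv_mul_cancel_left]
      have : g = 1 := H28Const.eq_one_of_idx hG g fun t => by
        obtain ⟨T', f, r, hr, hfg⟩ := H28Const.idx_hom hG g t
        refine hF1 _ (hFmem _ ((toUnit T').left r) ?_)
        refine ⟨(f ≫ (a⁻¹ * b)).left r, ?_⟩
        rw [← Scheme.Hom.comp_apply, ← Scheme.Hom.comp_apply, ← Over.comp_left, ← Over.comp_left,
          Category.assoc, ← hgC, ← Category.assoc f, hfg, Category.assoc, Category.assoc]
      rw [this, MonObj.one_comp, _root_.mul_one, cancel_mono] at hg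
      exact hg⟩
    haveI : Mono (i ≫ v).left := inferInstance
    haveI : Etale (i ≫ v).left := by rw [Over.comp_left]; infer_instance
    haveI : IsOpenImmersion (i ≫ v).left := IsOpenImmersion.of_flat_of_mono _
    haveI : Surjective (i ≫ v).left := ⟨fun p => by
      obtain ⟨-, -, -, -, R, hR, hsec⟩ := id hex
      obtain ⟨Y', g', hg', hx⟩ := hR.1 p
      obtain ⟨hg⟩ := hg'
      rename_i W g
      obtain ⟨y, hy⟩ := hx
      obtain ⟨σ, hσ⟩ := hsec g hg
      have hσ' : σ ≫ v.left = g := hσ
      obtain ⟨m, c, hc, hmc⟩ := H28Const.exists_trans_component hex hG (σ y)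
      rw [← H19Grp.range_idCompι_ept] at hc
      obtain ⟨c', rfl⟩ := hc
      refine ⟨c', ?_⟩
      rw [Over.comp_left, Scheme.Hom.comp_apply]
      have h := congrArg (fun z => v.left z) hmc
      simp only [← Scheme.Hom.comp_apply, hσ'] at h
      rw [Category.assoc, ← Over.comp_left, htr] at h
      exact ((Scheme.Hom.comp_apply _ _ _).symm.trans h).trans hy⟩
    haveI : IsIso (i ≫ v).left :=
      (isIso_iff_isOpenImmersion_and_surjective _).2 ⟨inferInstance, inferInstance⟩
    haveI : IsIso ((Over.forget _).map (i ≫ v)) := ‹IsIso (i ≫ v).left›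
    haveI : IsIso (i ≫ v) := isIso_of_reflects_iso _ (Over.forget _)
    haveI : IsMonHom (inv (i ≫ v)) :=
      { one_hom := by rw [IsIso.comp_inv_eq, IsMonHom.one_hom]
        mul_hom := by
          rw [IsIso.comp_inv_eq, Category.assoc, IsMonHom.mul_hom, MonoidalCategory.tensorHom_comp_tensorHom_assoc,
            IsIso.inv_hom_id, MonoidalCategory.id_tensorHom_id, Category.id_comp] }
    exact ⟨inv (i ≫ v) ≫ i, inferInstance, by rw [Category.assoc, IsIso.inv_hom_id]⟩

end Groth.Agent.S8708
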