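import Groth.Statements.S5062
import Mathlib
import Groth.Agent.H9Hens.SchemeSections
-- import your own Groth.Agent.* helpers here

set_option autoImplicit false
open CategoryTheory AlgebraicGeometry
universe u
open Hensel

namespace Groth.Agent.S5062

/-- a) iff c): a local ring A is henselian with separably closed residue field if and only if, for every
étale morphism f : X ⟶ Spec A and every point x of X lying over the closed point s, there is a
section u of f with u s = x. -/
theorem result (A : Type u) [CommRing A] [IsLocalRing A] :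
    (HenselianLocalRing A ∧ IsSepClosed (IsLocalRing.ResidueField A)) ↔
      ∀ (X : Scheme.{u}) (f : X ⟶ Spec (CommRingCat.of A)), Etale f →
        ∀ x : X, f.base x = IsLocalRing.closedPoint A →
          ∃ u : Spec (CommRingCat.of A) ⟶ X, u ≫ f = 𝟙 _ ∧ u.base (IsLocalRing.closedPoint A) = x := by
  constructor
  · rintro ⟨hA, hsep⟩ X f _ x hx
    obtain ⟨S, j, ψ, _, ⟨q, hq⟩, hψ⟩ := H9Hens.exists_affine_chart f x
    have het : ψ.hom.Etale := by
      rw [← HasRingHomProperty.Spec_iff (P := @Etale), hψ]; infer_instance
    algebraize [ψ.hom]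
    let qq : PrimeSpectrum S := q
    have hqm : qq.asIdeal.comap (algebraMap A S) = IsLocalRing.maximalIdeal A := by
      have : (Spec.map ψ).base q = IsLocalRing.closedPoint A := by
        rw [hψ]; exact (congrArg f.base hq).trans hx
      exact congrArg PrimeSpectrum.asIdeal this
    let κ := qq.asIdeal.ResidueField
    have hker : IsLocalRing.maximalIdeal A ≤ RingHom.ker (algebraMap A κ) := by
      rw [← hqm, IsScalarTower.algebraMap_eq A S κ, ← RingHom.comap_ker,
        Ideal.ker_algebraMap_residueField]
    let : Algebra (IsLocalRing.ResidueField A) κ :=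
      (Ideal.Quotient.lift (IsLocalRing.maximalIdeal A) (algebraMap A κ) hker).toAlgebra
    have : IsScalarTower A (IsLocalRing.ResidueField A) κ :=
      IsScalarTower.of_algebraMap_eq fun a => rfl
    have : Algebra.EssFiniteType A κ := Algebra.EssFiniteType.comp A S κ
    have : Algebra.FormallyUnramified S κ :=
      Algebra.FormallyUnramified.comp S (Localization.AtPrime qq.asIdeal) κ
    have : Algebra.FormallyUnramified A κ := Algebra.FormallyUnramified.comp A S κ
    have : Algebra.EssFiniteType (IsLocalRing.ResidueField A) κ :=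
      Algebra.EssFiniteType.of_comp A _ κ
    have : Algebra.FormallyUnramified (IsLocalRing.ResidueField A) κ :=
      Algebra.FormallyUnramified.of_restrictScalars A _ κ
    have := Algebra.FormallyUnramified.isSeparable (IsLocalRing.ResidueField A) κ
    let e := RingEquiv.ofBijective (algebraMap (IsLocalRing.ResidueField A) κ)
      ⟨RingHom.injective _, IsSepClosed.algebraMap_surjective _ _⟩
    let σ : S →ₐ[A] A ⧸ IsLocalRing.maximalIdeal A :=
      { (e.symm.toRingHom.comp (algebraMap S κ) : S →+* A ⧸ IsLocalRing.maximalIdeal A) with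
        commutes' := fun a => e.symm_apply_eq.mpr rfl }
    have := H9Hens.henselianRing_maximalIdeal A
    obtain ⟨τ, hτ⟩ := H9Hens.exists_algHom_lift σ
    refine ⟨Spec.map (CommRingCat.ofHom τ.toRingHom) ≫ j, ?_, ?_⟩
    · rw [Category.assoc, ← hψ, ← Spec.map_comp, ← Spec.map_id]
      congr 1
      ext a
      exact τ.commutes a
    · rw [← hq]
      refine congrArg j.base (PrimeSpectrum.ext ?_)
      ext s
      have h1 : Ideal.Quotient.mk (IsLocalRing.maximalIdeal A) (τ s) = σ s := AlgHom.congr_fun hτ s
      change τ s ∈ IsLocalRing.maximalIdeal A ↔ s ∈ qq.asIdeal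
      rw [← Ideal.Quotient.eq_zero_iff_mem, h1]
      change e.symm (algebraMap S κ s) = 0 ↔ _
      rw [EmbeddingLike.map_eq_zero_iff, Ideal.algebraMap_residueField_eq_zero]
  · intro H
    have key : ∀ (S : Type u) [CommRing S] [Algebra A S] [Algebra.Etale A S] (q : Ideal S)
        [q.IsPrime], q.comap (algebraMap A S) = IsLocalRing.maximalIdeal A →
        ∃ τ : S →ₐ[A] A, (IsLocalRing.maximalIdeal A).comap τ = q := by
      intro S _ _ _ q hq hqm
      have : Etale (Spec.map (CommRingCat.ofHom (algebraMap A S))) := by
        rw [HasRingHomProperty.Spec_iff (P := @Etale)]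
        exact RingHom.etale_algebraMap.mpr inferInstance
      obtain ⟨u, hu, hux⟩ := H _ _ this ⟨q, hq⟩ (PrimeSpectrum.ext hqm)
      obtain ⟨φ, rfl⟩ := Spec.map_surjective u
      rw [← Spec.map_comp, ← Spec.map_id] at hu
      exact ⟨{ φ.hom with
        commutes' := fun a => RingHom.congr_fun (congrArg CommRingCat.Hom.hom (Spec.map_injective hu)) a },
        congrArg PrimeSpectrum.asIdeal hux⟩
    have hh : HenselianRing A (IsLocalRing.maximalIdeal A) := by
      refine H9Hens.henselianRing_of_lift fun S _ _ _ σ => ?_
      have := Ideal.Quotient.field (IsLocalRing.maximalIdeal A)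
      have hp : (RingHom.ker σ).IsPrime := RingHom.ker_isPrime σ
      obtain ⟨τ, hτ⟩ := key S (RingHom.ker σ) (by
        ext a
        rw [Ideal.mem_comap, RingHom.mem_ker, σ.commutes, Ideal.Quotient.algebraMap_eq,
          Ideal.Quotient.eq_zero_iff_mem])
      refine ⟨τ, AlgHom.ext fun s => ?_⟩
      obtain ⟨a, ha⟩ := Ideal.Quotient.mk_surjective (σ s)
      have : s - algebraMap A S a ∈ RingHom.ker σ := by
        rw [RingHom.mem_ker, map_sub, σ.commutes, Ideal.Quotient.algebraMap_eq, ha, sub_self]
      rw [← hτ, Ideal.mem_comap, map_sub, τ.commutes, ← Ideal.Quotient.eq] at this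
      exact this.trans ha
    refine ⟨H9Hens.henselianLocalRing_of_henselianRing, IsSepClosed.of_exists_root _ ?_⟩
    intro p hp hirr hsep
    obtain ⟨P, hP, -, hPm⟩ := Polynomial.lifts_and_degree_eq_and_monic
      (Polynomial.lifts_iff_coeff_lifts p |>.mpr fun n => IsLocalRing.residue_surjective _) hp
    obtain ⟨u, v, huv⟩ := H9Hens.isCoprime_of_map (IsLocalRing.maximalIdeal_le_jacobson ⊥)
      (g := P) (h := P.derivative) hPm (by
        rw [← Polynomial.derivative_map]
        change IsCoprime (P.map (IsLocalRing.residue A)) (P.map (IsLocalRing.residue A)).derivative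
        rw [hP]; exact hsep)
    let Q : StandardEtalePair A := ⟨P, hPm, 1, v, u, 0, by linear_combination huv⟩
    have := Fact.mk hirr
    let L := AdjoinRoot p
    have hroot : Polynomial.aeval (AdjoinRoot.root p) P = 0 := by
      rw [← Polynomial.aeval_map_algebraMap (IsLocalRing.ResidueField A)]
      change Polynomial.aeval _ (P.map (IsLocalRing.residue A)) = 0
      rw [hP, AdjoinRoot.aeval_eq, AdjoinRoot.mk_self]
    let π := Q.lift (AdjoinRoot.root p) ⟨hroot, by simp [Q]⟩
    have hp' : (RingHom.ker π).IsPrime := RingHom.ker_isPrime π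
    obtain ⟨τ, -⟩ := key Q.Ring (RingHom.ker π) (by
      ext a
      rw [Ideal.mem_comap, RingHom.mem_ker, π.commutes,
        IsScalarTower.algebraMap_apply A (IsLocalRing.ResidueField A) L,
        map_eq_zero_iff _ (RingHom.injective _)]
      exact IsLocalRing.residue_eq_zero_iff a)
    refine ⟨IsLocalRing.residue A (τ Q.X), ?_⟩
    rw [← hP, Polynomial.eval_map, Polynomial.eval₂_hom, ← Polynomial.coe_aeval_eq_eval,
      Polynomial.aeval_algHom_apply, Q.hasMap_X.1, map_zero, map_zero]

end Groth.Agent.S5062
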