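import Groth.Statements.S17906
import Groth.Agent.H17.PullCl
-- import your own Groth.Agent.* helpers here

set_option autoImplicit false
universe u
open CategoryTheory CategoryTheory.Limits AlgebraicGeometry
open PicRel

namespace Groth.Agent.S17906

/-- Let f : X → S be a morphism of schemes, g : S' → S a morphism and X' = X ×_S S'. If the relative
Picard functor of X over S, sheafified and described through a representing S-scheme P with maps φ_T
from classes of modules on X ×_S T to S-morphisms T → P, is represented by P, then the relative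
Picard functor of X' over S' is represented by P ×_S S': a class c on (X ×_S S') ×_{S'} T is sent,
after transport along the canonical isomorphism of this scheme with X ×_S T, to the S'-morphism T →
P ×_S S' whose components are φ(c) and the structure morphism of T. (The published statement is for
the fppf sheafification, asserts the isomorphism of functors Pic_{X/S} ×_S S' ≅ Pic_{X'/S'} in
general, and adds the compatibility of universal bundles and rigidifications; stated here is the
representability consequence for the étale sheafification, to which the same argument applies.) -/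
theorem result {X S S' : Scheme.{u}} (f : X ⟶ S) (g : S' ⟶ S)
    (P : Over S) (φ : ∀ T : Over S, PicF.Cl (PicF.XT f T) → (T ⟶ P)) (hP : PicRel.IsRelPic f P φ) :
    PicRel.IsRelPic (pullback.snd f g) (Over.mk (pullback.snd P.hom g))
      (fun T c => Over.homMk
        (pullback.lift (φ (Over.mk (T.hom ≫ g)) (PicF.pullCl (pullbackLeftPullbackSndIso f g T.hom).inv c)).left T.hom
          (Over.w (φ (Over.mk (T.hom ≫ g)) (PicF.pullCl (pullbackLeftPullbackSndIso f g T.hom).inv c))))
        (pullback.lift_snd _ _ _)) := by
  let F : ∀ (T : Over S'), PicF.Cl (PicF.XT (pullback.snd f g) T) → PicF.Cl (PicF.XT f (Over.mk (T.hom ≫ g))) :=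
    fun T c => PicF.pullCl (pullbackLeftPullbackSndIso f g T.hom).inv c
  have hF : ∀ (T T' : Over S') (h : T' ⟶ T) (c : PicF.Cl (PicF.XT (pullback.snd f g) T)),
      F T' (PicF.pullCl (PicF.XTmap (pullback.snd f g) h) c) =
        PicF.pullCl (PicF.XTmap f (Over.homMk (U := Over.mk (T'.hom ≫ g)) (V := Over.mk (T.hom ≫ g)) h.left (by
          simp [reassoc_of% Over.w h]))) (F T c) := fun T T' h c => by
    simp only [F, ← Groth.Agent.H17.PullCl.pullCl_comp, Groth.Agent.H17.PullCl.inv_XTmap]
  have hFi : ∀ (T : Over S') (c : PicF.Cl (PicF.XT (pullback.snd f g) T)), PicF.IsInvertibleCl c → PicF.IsInvertibleCl (F T c) :=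
    fun T c hc => Groth.Agent.H17.PullCl.isInvertibleCl_pullCl _ hc
  refine ⟨fun T T' h c hc => ?_, fun T h => ?_, fun T c c' hc hc' he => ?_⟩
  · refine Over.OverMorphism.ext (pullback.hom_ext ?_ ?_)
    · simp only [Over.homMk_left, Over.comp_left, pullback.lift_fst, Category.assoc]
      rw [show PicF.pullCl (pullbackLeftPullbackSndIso f g T'.hom).inv _ = _ from hF T T' h c, hP.natural _ _ _ _ (hFi T c hc)]
      rfl
    · have := Over.w h
      simp only [Over.homMk_left, Over.comp_left, Category.assoc]
      erw [pullback.lift_snd, pullback.lift_snd]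
      exact this.symm
  · let hh : Over.mk (T.hom ≫ g) ⟶ P := Over.homMk (h.left ≫ pullback.fst P.hom g) (by
      have := Over.w h
      simp only [Over.mk_hom] at this
      simp [pullback.condition, reassoc_of% this])
    obtain ⟨ι, U, hU, hc⟩ := hP.locallySurjective _ hh
    refine ⟨ι, U, hU, fun i => ?_⟩
    obtain ⟨c, hc, hce⟩ := hc i
    let a : Over.mk ((PicRel.ovr T (U i)).hom ≫ g) ⟶ PicRel.ovr (Over.mk (T.hom ≫ g)) (U i) :=
      Over.homMk (𝟙 _) (by simp)
    refine ⟨PicF.pullCl (pullbackLeftPullbackSndIso f g (PicRel.ovr T (U i)).hom).hom (PicF.pullCl (PicF.XTmap f a) c),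
      Groth.Agent.H17.PullCl.isInvertibleCl_pullCl _ (Groth.Agent.H17.PullCl.isInvertibleCl_pullCl _ hc),
      Over.OverMorphism.ext (pullback.hom_ext ?_ ?_)⟩
    · simp only [Over.homMk_left, Over.comp_left, pullback.lift_fst, Category.assoc]
      rw [← Groth.Agent.H17.PullCl.pullCl_comp _ (pullbackLeftPullbackSndIso f g (PicRel.ovr T (U i)).hom).hom,
        Iso.inv_hom_id]
      erw [Groth.Agent.H17.PullCl.pullCl_id, hP.natural _ _ _ _ hc, hce]
      simp [a, hh]
    · have := Over.w h
      simp only [Over.mk_hom] at this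
      simp only [Over.homMk_left, Over.comp_left, Category.assoc]
      erw [pullback.lift_snd, this]
      rfl
  · have he' := congrArg (fun k => k.left ≫ pullback.fst P.hom g) he
    simp only [Over.homMk_left, pullback.lift_fst] at he'
    obtain ⟨ι, U, hU, hUe⟩ := hP.locallyInjective _ _ _ (hFi T c hc) (hFi T c' hc') (Over.OverMorphism.ext he')
    refine ⟨ι, U, hU, fun i => ?_⟩
    let a : Over.mk ((PicRel.ovr T (U i)).hom ≫ g) ⟶ PicRel.ovr (Over.mk (T.hom ≫ g)) (U i) :=
      Over.homMk (𝟙 _) (by simp)
    have key := congrArg (fun d => PicF.pullCl (pullbackLeftPullbackSndIso f g (PicRel.ovr T (U i)).hom).hom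
      (PicF.pullCl (PicF.XTmap f a) d)) (hUe i)
    have e : ∀ d, PicF.pullCl (pullbackLeftPullbackSndIso f g (PicRel.ovr T (U i)).hom).hom
        (PicF.pullCl (PicF.XTmap f a) (PicF.pullCl (PicF.XTmap f (PicRel.ovrHom _ (U i))) (F T d))) =
        PicF.pullCl (PicF.XTmap (pullback.snd f g) (PicRel.ovrHom T (U i))) d := fun d => by
      rw [← Groth.Agent.H17.PullCl.pullCl_comp (PicF.XTmap f a), ← Groth.Agent.H17.PullCl.XTmap_comp,
        show a ≫ PicRel.ovrHom (Over.mk (T.hom ≫ g)) (U i) = Over.homMk (U := Over.mk ((PicRel.ovr T (U i)).hom ≫ g))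
          (V := Over.mk (T.hom ≫ g)) (PicRel.ovrHom T (U i)).left (by simp) from Over.OverMorphism.ext (by simp [a]),
        ← hF T (PicRel.ovr T (U i)) (PicRel.ovrHom T (U i)) d, ← Groth.Agent.H17.PullCl.pullCl_comp,
        Iso.hom_inv_id, Groth.Agent.H17.PullCl.pullCl_id]
    simp only [e] at key
    exact key

end Groth.Agent.S17906
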