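import Groth.Statements.S19352
import Groth.Agent.H28Int.Surface
import Groth.Agent.H28NT.GlobalFunctions
import Groth.Agent.H11Ample.Converse
import Groth.Agent.H8Props.AmpleBatch
import Groth.Agent.H27Weil.Geometry
import Groth.Agent.H11Sym.InvertibleInverse
import Groth.Agent.H28Int.Num
import Groth.Agent.LeadBC.Model

set_option autoImplicit false
universe u
open CategoryTheory CategoryTheory.Limits AlgebraicGeometry

namespace Groth.Agent.S19352

theorem finrank_structure (k : Type u) [Field k] [IsAlgClosed k] (X : Scheme.{u})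
    [X.Over (Spec (CommRingCat.of k))] [IsProper (X ↘ Spec (CommRingCat.of k))] [AlgebraicGeometry.IsIntegral X] :
    Module.finrank k (Coh.HH X (Coh.structureModule X) 0) = 1 := by
  let p := X ↘ Spec (CommRingCat.of k)
  letI : Algebra k Γ(X, ⊤) := (Coh.toGlobal p).toAlgebra
  haveI : Nonempty ↥(⊤ : X.Opens) := ⟨⟨genericPoint X, trivial⟩⟩
  let e : Coh.HH X (Coh.structureModule X) 0 ≃ₗ[k] Γ(X, ⊤) :=
    { H10Coh.HH0Equiv (Coh.structureModule X) with
      map_smul' := fun c x =>
        (H10Coh.HH0Equiv_smul (Coh.structureModule X) (Coh.toGlobal p c) x).trans rfl }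
  haveI : Module.Finite k (Coh.HH X (Coh.structureModule X) 0) :=
    H10Coh.finite_HH_proper k X _ (H10Coh.isCoh_structureModule' X) 0
  haveI : Module.Finite k Γ(X, ⊤) := Module.Finite.equiv e
  haveI : Algebra.IsIntegral k Γ(X, ⊤) := Algebra.IsIntegral.of_finite k _
  rw [e.finrank_eq]
  exact (AlgEquiv.ofBijective (Algebra.ofId k Γ(X, ⊤))
    (IsAlgClosed.algebraMap_bijective_of_isIntegral (k := k))).toLinearEquiv.finrank_eq.symm.trans
    (Module.finrank_self k)

/-- Let k be an algebraically closed field and X a nonsingular projective surface over k, namely an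
integral scheme, smooth over k, of dimension two, given with a closed immersion ι into a projective
space P^n_k over k, and let H = ι^* O(1) be the invertible module of a hyperplane section. If L is
an invertible O_X-module (the module of a divisor D) with dim_k H^0(X, L) > 1, then (L·H) > 0. Here
(A·B) denotes the intersection number of two invertible modules, the alternating sum χ(O_X) − χ(A) −
χ(B) + χ(A ⊗ B) of Euler characteristics (cohomology in degrees at most two); for two invertible
modules this agrees with the same sum formed from their inverses. -/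
theorem result (k : Type u) [Field k] [IsAlgClosed k]
    (X : Scheme.{u}) [X.Over (Spec (CommRingCat.of k))] [AlgebraicGeometry.IsIntegral X]
    [Smooth (X ↘ Spec (CommRingCat.of k))] (hdim : topologicalKrullDim X = 2)
    (n : ℕ) (ι : X ⟶ CohB1.ProjSpace n k) [IsClosedImmersion ι]
    (hι : ι ≫ CohB1.ProjSpace.toSpec n k = X ↘ Spec (CommRingCat.of k))
    (L : X.Modules) (hL : PicF.IsInvertible L)
    (hsec : 1 < Module.finrank k (Coh.HH X L 0)) :
    0 < FGA.intNum k X 2 ![L, (Scheme.Modules.pullback ι).obj (Twist.twistProjSpace n k 1)] (Coh.structureModule X) := by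
  haveI : IsProper (X ↘ Spec (CommRingCat.of k)) := hι ▸ inferInstanceAs (IsProper (ι ≫ CohB1.ProjSpace.toSpec n k))
  haveI := H28Int.isNoetherian k (X := X)
  let H := (Scheme.Modules.pullback ι).obj (Twist.twistProjSpace n k 1)
  have hH : CohB1.IsAmple H := H8Props.Ample.isAmple_pullback_of_isEmbedding ι ι.isClosedEmbedding.isEmbedding
    (H11Ample.isAmple_twistProjSpace n k)
  obtain ⟨L', hL', ⟨e₀⟩⟩ := H11Sym.exists_inverse hL
  obtain ⟨H', hH', ⟨eH₀⟩⟩ := H11Sym.exists_inverse hH.1
  let e := H10Coh.Tw.commIso L L' ≪≫ e₀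
  let eH := H10Coh.Tw.commIso H H' ≪≫ eH₀
  have hA := H28Int.Surface.isCoh_structure k (X := X)
  have hd : topologicalKrullDim X ≤ ((2 : ℕ) : WithBot ℕ∞) := hdim.le
  have hdA : topologicalKrullDim (CohB1.support (Coh.structureModule X)) ≤ ((2 : ℕ) : WithBot ℕ∞) :=
    Topology.IsInducing.subtypeVal.topologicalKrullDim_le.trans hd
  rw [H28Int.intNum_eq k hd _ (fun i => by fin_cases i <;> first | exact hL | exact hH.1) hA]
  show 0 < H28Int.D k [L, H] (Coh.structureModule X)
  have hflip : ∀ (A A' B : X.Modules), PicF.IsInvertible A → PicF.IsInvertible A' → PicF.IsInvertible B →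
      (CohB1.tensorMod A A' ≅ Coh.structureModule X) →
      H28Int.D k [A, B] (Coh.structureModule X) = - H28Int.D k [A', B] (Coh.structureModule X) := by
    intro A A' B hA₁ hA₂ hB eA
    have h1 := H28Int.D_cons_tensor k (l := [B]) (List.forall_mem_singleton.2 hB) hA₁ hA₂ hA hdA
    have h2 := H28Int.D_cons_structure k (l := [B]) (List.forall_mem_singleton.2 hB) (Coh.structureModule X)
    have h3 : H28Int.D k [CohB1.tensorMod A A', B] (Coh.structureModule X) =
        H28Int.D k [Coh.structureModule X, B] (Coh.structureModule X) := by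
      show H28Int.D k [B] _ - H28Int.D k [B] _ = H28Int.D k [B] _ - H28Int.D k [B] _
      rw [(H28Int.isAddFn_D k [B] (List.forall_mem_singleton.2 hB)).congr
        (PicGrp.tensorModIso eA (Iso.refl (Coh.structureModule X)))]
    omega
  rw [hflip L L' H hL hL' hH.1 e, H28Int.Num.D_swap k (l := []) (by simp),
    hflip H H' L' hH.1 hH' hL' eH, neg_neg, H28Int.Num.D_swap k (l := []) (by simp)]
  obtain ⟨g, hg⟩ := H28Int.Surface.exists_section (M := L) (Module.nontrivial_of_finrank_pos (R := k)
    (lt_trans Nat.zero_lt_one hsec))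
  obtain ⟨C, hC, hCd, hCs, hsC, hDC⟩ := H28Int.Surface.exists_zero_locus k (l := [H'])
    (List.forall_mem_singleton.2 hH') hd hL hL' e hg
  rw [hDC]
  have hne : (closure ({genericPoint X} : Set X) \ (H11Ample.gen L g : Set X)).Nonempty := by
    by_contra hemp
    have htop : H11Ample.gen L g = ⊤ := TopologicalSpace.Opens.ext (Set.eq_univ_of_forall fun x => by_contra fun hx =>
      hemp ⟨x, by rw [genericPoint_spec X]; trivial, hx⟩)
    haveI : IsIso (H11Tilde.homOfGlobal L g) := by
      refine H11Tilde.isIso_homOfGlobal L g fun V => ?_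
      have := (H11Ample.isGen_gen (L := L) g).bijective (show V ≤ H11Ample.gen L g from htop ▸ le_top)
      refine Eq.mpr (congrArg Function.Bijective (funext fun r => ?_)) this
      rw [H10Coh.mres_mres]
    have h1 := ((LeadBC.HMod k 0).mapIso (asIso (H11Tilde.homOfGlobal L g))).toLinearEquiv.finrank_eq
    have h2 : Module.finrank k (Coh.HH X (Coh.structureModule X) 0) = 1 := finrank_structure k X
    change Module.finrank k (Coh.HH X (Coh.structureModule X) 0) = Module.finrank k (Coh.HH X L 0) at h1
    omega
  obtain ⟨w, -, hwG, hdimw⟩ := H28Int.exists_point_cut k hL g (H28Int.Surface.generic_mem_gen hL hg) hne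
  rw [H28Int.Surface.cdim_genericPoint, hdim] at hdimw
  exact (H28Int.pos_of_ample k [H'] (List.forall_mem_singleton.2 ⟨H, hH, ⟨eH⟩⟩) C hC hCd).2
    ⟨w, hsC w hwG, H28Int.le_of_add_one_le hdimw.le⟩

end Groth.Agent.S19352
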