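import Groth.Statements.S7638
import Mathlib
import Groth.Agent.H22Alg.DetSections
import Groth.Agent.H22Alg.DegBundle
import Groth.Agent.H22Alg.CurveProj
import Groth.Agent.H22Alg.ExtPowTwist
import Groth.Agent.H22Alg.ExtPowHom

set_option autoImplicit false
universe u
open CategoryTheory CategoryTheory.Limits AlgebraicGeometry
open Variety

namespace Groth.Agent.S7638

/-- Let X be proper of dimension at most one over a field k, let E be finite locally free of rank n and
let L be an n-th exterior power of E (its determinant). Then deg(E) = deg(L), the latter computed as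
a module of rank one. -/
theorem result (k : Type u) [Field k] (X : Scheme.{u}) [X.Over (Spec (CommRingCat.of k))] [IsProper (X ↘ (Spec (CommRingCat.of k)))]
    (hdim : topologicalKrullDim X ≤ 1) (n : ℕ) (E : X.Modules) (hE : FlatMod.IsFinLocFreeOfRank n E)
    (L : X.Modules) (hL : ExtPow.IsExtPow n E L) :
    Curv2.deg k X E n = Curv2.deg k X L 1 := by
  haveI := H28Int.isNoetherian k (X := X)
  obtain ⟨A, hA⟩ := H22Alg.CurveProj.exists_ample (X := X) k hdim
  haveI : X.IsSeparated := Scheme.IsSeparated.mk (by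
    rw [Subsingleton.elim (terminal.from X) ((X ↘ (Spec (CommRingCat.of k))) ≫ terminal.from _)]; infer_instance)
  obtain ⟨m, σ, hrank, hσ⟩ := H22Alg.DetSections.exists_regular_frame hA hE
  let M := CohB1.tensorPow A m
  have hM : PicF.IsInvertible M := H11Ample.isInvertible_tensorPow (H11Ample.isInvertible_of_isAmple hA) m
  have key := H22Alg.DetDeg.euler_sub_eq (k := k) hrank hdim hσ
  have hqc : ∀ {F : X.Modules}, FlatMod.IsFinLocFreeOfRank n F → Coh.IsQCoh F := fun {F} hF =>
    H8Props.FinLocFree.isQCoh_of_isFinLocFree _ (fun y => let ⟨U, hU⟩ := hF y; ⟨U, n, hU⟩)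
  have hinv : ∀ {F : X.Modules}, FlatMod.IsFinLocFreeOfRank n F →
      PicF.IsInvertible (H22Alg.ExtPowSheaf.sheaf n F) := fun {F} hF =>
    H11Ample.isInvertible_of_gen fun x => by
      obtain ⟨c⟩ := H22Alg.DetDeg.nonempty_chart hF (fun _ => (0 : Γ(F, ⊤))) x
      obtain ⟨d, -, hd, -⟩ := H22Alg.DetDeg.exists_detChart (hqc hF) c
      exact ⟨d.U, _, d.hx, hd⟩
  have hone : ∀ {A B : X.Modules}, PicF.IsInvertible A → PicF.IsInvertible B →
      Curv2.euler k X (CohB1.tensorMod A B) - Curv2.euler k X A =
        Curv2.euler k X B - Curv2.euler k X (Coh.structureModule X) := fun {A B} hA hB => by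
    have h := H22Alg.DegBundle.defect_eq k hdim (H29RR.rank_one_of_isInvertible hA) (H29RR.rank_one_of_isInvertible hB)
    push_cast at h
    linarith
  have hpow : ∀ j : ℕ, Curv2.euler k X (CohB1.tensorPow M j) - Curv2.euler k X (Coh.structureModule X) =
      j * (Curv2.euler k X M - Curv2.euler k X (Coh.structureModule X)) := fun j => by
    induction j with
    | zero => simp [CohB1.tensorPow]
    | succ j ih =>
      have h := hone (H11Ample.isInvertible_tensorPow hM j) hM
      show Curv2.euler k X (CohB1.tensorMod (CohB1.tensorPow M j) M) - _ = _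
      push_cast
      linarith
  obtain ⟨e₁⟩ := H22Alg.ExtPowTwist.nonempty_iso (hqc hE) hM (H22Alg.ExtPowSheaf.isExtPow_sheaf (hqc hE))
    (H22Alg.ExtPowSheaf.isExtPow_sheaf (hqc hrank))
  obtain ⟨e₂⟩ := H22Alg.ExtPowHom.nonempty_iso hL (H22Alg.ExtPowSheaf.isExtPow_sheaf (hqc hE))
  have h₁ := H22Alg.DegBundle.defect_eq k hdim hE (H29RR.rank_one_of_isInvertible hM)
  have h₂ := hone (hinv hE) (H11Ample.isInvertible_tensorPow hM n)
  have h₃ := hpow n
  rw [H25Euler.euler_congr e₁] at key
  show Curv2.euler k X E - n * Curv2.euler k X (Coh.structureModule X) =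
    Curv2.euler k X L - (1 : ℕ) * Curv2.euler k X (Coh.structureModule X)
  rw [H25Euler.euler_congr e₂]
  push_cast at h₁ ⊢
  linarith

end Groth.Agent.S7638
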