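import Groth.Statements.S7308
import Groth.Agent.H28Contr.Glue

set_option autoImplicit false
universe u
open CategoryTheory CategoryTheory.Limits AlgebraicGeometry
open Resolve

namespace Groth.Agent.S7308

/-- Let X be a Noetherian scheme and ι : E → X a closed immersion which is an exceptional curve of the
first kind. A contraction of E, if it exists, is unique up to unique isomorphism: for contractions
b₁ : X → X₁ and b₂ : X → X₂ of E there is a unique isomorphism e : X₁ ≅ X₂ with b₁ ≫ e = b₂. -/
theorem result {E X X₁ X₂ : Scheme.{u}} [IsNoetherian X] (ι : E ⟶ X) [IsClosedImmersion ι]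
    (hE : Models.IsExcCurve ι) (b₁ : X ⟶ X₁) (hb₁ : Models.IsContractionOf ι b₁) (b₂ : X ⟶ X₂) (hb₂ : Models.IsContractionOf ι b₂) :
    ∃! e : X₁ ≅ X₂, b₁ ≫ e.hom = b₂ := by
  exact Groth.Agent.H28Contr.existsUnique_iso hE hb₁ hb₂

end Groth.Agent.S7308
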