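import Groth.Statements.S4407
import Groth.Agent.H11Ample.Global
import Groth.Agent.H17.QAffGen
import Groth.Agent.H10Coh.Local

set_option autoImplicit false
universe u
open CategoryTheory CategoryTheory.Limits AlgebraicGeometry
open EGA2

namespace Groth.Agent.S4407

/-- (a) ⇒ (e): let X be a quasi-affine scheme. Then every quasi-coherent O_X-module is generated by its
global sections (it is a quotient of a free O_X-module on some index set). -/
theorem result (X : Scheme.{u}) [X.IsQuasiAffine] (F : X.Modules)
    (hF : Coh.IsQCoh F) : Curv2.IsGloballyGenerated F := by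
  haveI : F.IsQuasicoherent := hF
  refine H11Ample.isGloballyGenerated_of_locally F (fun s : Γ(F, ⊤) => s) fun W t x hx => ?_
  obtain ⟨f, -, hfW, hxf⟩ := H17.QAffGen.exists_basicOpen_finite (U := W) (E := {x})
    (fun e he => by rw [Finset.mem_singleton.mp he]; exact hx)
  refine ⟨X.basicOpen f, hfW, hxf x (Finset.mem_singleton_self x), ?_⟩
  generalize F.presheaf.map (homOfLE hfW).op t = t'
  obtain ⟨n, s, hs⟩ := H10Coh.exists_pow_smul_eq_res_of_isCompact F (W := ⊤) isCompact_univ f t'
  have hu : IsUnit (X.presheaf.map (homOfLE (X.basicOpen_le f)).op (f ^ n)) := by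
    rw [map_pow]
    exact (X.toRingedSpace.isUnit_res_basicOpen f).pow n
  have : t' = (↑hu.unit⁻¹ : Γ(X, X.basicOpen f)) • F.presheaf.map (homOfLE (X.basicOpen_le f)).op s := by
    rw [hs, smul_smul, IsUnit.val_inv_mul, one_smul]
  rw [this]
  exact Submodule.smul_mem _ _ (Submodule.subset_span ⟨s, rfl⟩)

end Groth.Agent.S4407
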