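import Groth.Statements.S10855
import Groth.Agent.H29Blow.Basic

set_option autoImplicit false
universe u
open BlowUp

namespace Groth.Agent.S10855

open AlgebraicGeometry CategoryTheory in
/-- Let f : X → Y be a flat morphism of schemes and 𝓘 the quasi-coherent ideal sheaf of an effective
Cartier divisor on Y (near every point generated on an affine open by one non-zero-divisor). Then
the inverse image ideal sheaf of 𝓘 on X is again the ideal of an effective Cartier divisor: the
subscheme f⁻¹(Z) is an effective Cartier divisor on X. (The published corollary also identifies this
divisor with the pullback of Z as a divisor; that clause is not included here.) -/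
theorem result {X Y : Scheme.{u}} (f : X ⟶ Y) [Flat f]
    (𝓘 : Y.IdealSheafData) (hD : BlowUp.IsEffCartierIdeal 𝓘) :
    BlowUp.IsEffCartierIdeal (𝓘.comap f) := by
  exact H29Blow.isEffCartierIdeal_comap_of_flat hD f

end Groth.Agent.S10855
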