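import Groth.Statements.S3257
import Groth.Agent.H28Contr.IrredFibre
import Groth.Agent.H27Weil.Geometry

set_option autoImplicit false
universe u
open AlgebraicGeometry CategoryTheory CategoryTheory.Limits
open ArSurf

namespace Groth.Agent.S3257

/-- Let R be a Dedekind domain, X and Y arithmetic surfaces over Spec R, f : X -> Y an R-morphism and y
a closed point of Y such that f restricts to an isomorphism over Y minus y while the fibre of f over
y is irreducible and has more than one point (so the exceptional locus of the birational morphism f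
is irreducible). Then f is the blowing-up of Y at y: it has the universal property of the blow-up
along the ideal of the reduced closed point y (BlowUp.IsBlowUp). (The factorization result of the
source says more generally that every birational morphism of regular fibered surfaces is a finite
sequence of blow-ups of closed points.) -/
theorem result {R : Type u} [CommRing R] [IsDedekindDomain R]
    (X Y : Over (Spec (CommRingCat.of R))) (hX : ArSurf.IsArithSurface R X) (hY : ArSurf.IsArithSurface R Y)
    (f : X ⟶ Y) (y : Y.left) (hy : IsClosed ({y} : Set Y.left))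
    (hiso : IsIso (f.left ∣_ (⟨{y}ᶜ, hy.isOpen_compl⟩ : Y.left.Opens)))
    (hirr : IsPreirreducible (f.left.base ⁻¹' {y}))
    (hbig : ∃ x x' : X.left, x ≠ x' ∧ f.left.base x = y ∧ f.left.base x' = y) :
    BlowUp.IsBlowUp f.left (Scheme.IdealSheafData.vanishingIdeal ⟨{y}, hy⟩) := by
  obtain ⟨hXreg, hXint, hXdim, -, nX, iX, hiX, hiXe⟩ := hX
  obtain ⟨hYreg, hYint, hYdim, -, nY, iY, hiY, hiYe⟩ := hY
  haveI := hXint
  haveI := hYint
  haveI := hiX
  haveI := hiY
  haveI : IsProper X.hom := hiXe ▸ MorphismProperty.comp_mem _ _ _ inferInstance (H27Weil.isProper_toBase nX _)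
  haveI : IsProper Y.hom := hiYe ▸ MorphismProperty.comp_mem _ _ _ inferInstance (H27Weil.isProper_toBase nY _)
  haveI : IsNoetherianRing (CommRingCat.of R) := inferInstanceAs (IsNoetherianRing R)
  haveI : IsLocallyNoetherian X.left := LocallyOfFiniteType.isLocallyNoetherian X.hom
  haveI : CompactSpace X.left := QuasiCompact.compactSpace_of_compactSpace X.hom
  haveI : IsNoetherian X.left := ⟨⟩
  haveI : IsLocallyNoetherian Y.left := LocallyOfFiniteType.isLocallyNoetherian Y.hom
  haveI : CompactSpace Y.left := QuasiCompact.compactSpace_of_compactSpace Y.hom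
  haveI : IsNoetherian Y.left := ⟨⟩
  haveI : IsProper (f.left ≫ Y.hom) := by rw [Over.w f]; infer_instance
  haveI : IsProper f.left := IsProper.of_comp f.left Y.hom
  haveI := hiso
  have hηy : genericPoint Y.left ≠ y := by
    intro he
    have hall : ∀ w : Y.left, w = y := fun w => ((he ▸ genericPoint_specializes w : y ⤳ w).mem_closed hy rfl)
    haveI : Subsingleton Y.left := ⟨fun a b => (hall a).trans (hall b).symm⟩
    haveI : Subsingleton (TopologicalSpace.IrreducibleCloseds Y.left) := ⟨fun a b => SetLike.coe_injective (by
      ext w
      obtain ⟨p, hp⟩ := a.isIrreducible'.nonempty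
      obtain ⟨q, hq⟩ := b.isIrreducible'.nonempty
      exact ⟨fun _ => (hall q).trans (hall w).symm ▸ hq, fun _ => (hall p).trans (hall w).symm ▸ hp⟩)⟩
    have h0 : topologicalKrullDim Y.left ≤ 0 := Order.krullDim_nonpos_of_subsingleton
    rw [hYdim] at h0
    exact absurd h0 (by decide)
  exact H28Contr.isBlowUp_of_irreducible_fibre f.left hXreg
    (fun x => (H28Contr.ringKrullDim_stalk_le_top x).trans hXdim.le) hy (hYreg y)
    ((H28Contr.ringKrullDim_stalk_le_top y).trans hYdim.le) hηy hirr hbig

end Groth.Agent.S3257
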