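import Groth.Statements.S3258
import Groth.Agent.H28Vert.SmoothRelMin

set_option autoImplicit false
universe u
open AlgebraicGeometry CategoryTheory CategoryTheory.Limits
open ArSurf

namespace Groth.Agent.S3258

/-- Let R be a Dedekind domain and X an arithmetic surface over Spec R (a regular, integral scheme of
dimension 2, flat and projective over Spec R) which is smooth over Spec R. Then X is relatively
minimal: every R-morphism from X to a regular, projective, flat R-scheme that is an isomorphism on
generic fibres is an isomorphism. -/
theorem result {R : Type u} [CommRing R] [IsDedekindDomain R]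
    (X : Over (Spec (CommRingCat.of R))) (hX : ArSurf.IsArithSurface R X) [Smooth X.hom] :
    Neron.IsRelMinimalRegularModel R X := by
  haveI := hX.2.1
  haveI : Flat X.hom := hX.2.2.2.1
  have hproj : ∀ Z : Over (Spec (CommRingCat.of R)), Neron.IsProjectiveOver R Z → IsProper Z.hom := by
    rintro Z ⟨n, i, hi, hiZ⟩
    haveI := hi
    haveI : IsProper (CohB1.ProjSpaceOver.toBase n (Spec (CommRingCat.of R))) := H27Weil.isProper_toBase n _
    rw [← hiZ]; infer_instance
  refine ⟨hX.1, hX.2.2.2.2, inferInstance, fun Y hY hYp hYf g hg => ?_⟩
  haveI := hproj X hX.2.2.2.2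
  haveI := hproj Y hYp
  haveI := hYf
  by_cases hR : IsField R
  · haveI : IsIso (CommRingCat.ofHom (algebraMap R (FractionRing R))) := by
      rw [ConcreteCategory.isIso_iff_bijective]
      exact IsField.localization_map_bijective (M := nonZeroDivisors R) (fun h => zero_notMem_nonZeroDivisors h) hR
    haveI : IsIso (Neron.genPt R) :=
      inferInstanceAs (IsIso (Spec.map (CommRingCat.ofHom (algebraMap R (FractionRing R)))))
    let φ := ((Neron.genericFibre R).map g).left
    haveI : IsIso φ := inferInstanceAs (IsIso ((Over.forget _).map ((Neron.genericFibre R).map g)))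
    have hφ : φ ≫ pullback.fst Y.hom (Neron.genPt R) = pullback.fst X.hom (Neron.genPt R) ≫ g.left :=
      pullback.lift_fst _ _ _
    haveI : IsIso (pullback.fst X.hom (Neron.genPt R) ≫ g.left) := hφ ▸ inferInstance
    haveI : IsIso g.left := IsIso.of_isIso_comp_left (pullback.fst X.hom (Neron.genPt R)) g.left
    haveI : IsIso ((Over.forget _).map g) := ‹IsIso g.left›
    exact isIso_of_reflects_iso g (Over.forget _)
  · exact H28Vert.isIso_of_smooth hR hX.2.2.1 hY g hg

end Groth.Agent.S3258
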