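import Groth.Statements.S16558
import Groth.Agent.H28Surf.NefSect
import Groth.Agent.H11Ample.ToPn

set_option autoImplicit false
universe u
open CategoryTheory CategoryTheory.Limits AlgebraicGeometry TopologicalSpace
open Surf

namespace Groth.Agent.S16558

/-- Let k be an algebraically closed field, p_1, …, p_r distinct closed points of the projective plane
P²_k and σ : X → P²_k the blow-up of P²_k in the ideal of the reduced finite set {p_1, …, p_r}
(universal property), X being regarded over k through σ; X is then an integral smooth proper surface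
(carried as hypotheses). Write H = σ^*O(1), (L·M) = χ(O_X) − χ(L) − χ(M) + χ(L ⊗ M) for the
intersection number of invertible modules L, M, and for a closed subscheme C ⊆ X with ideal I_C
write (L·C) = χ(O_C ⊗ L) − χ(O_C) and C² = (I_C·I_C). If L is an invertible O_X-module with (L·H) <
0, then H⁰(X, L) = 0. (The source takes the points in general position; that assumption plays no
role here.) -/
theorem result (k : Type u) [Field k] [IsAlgClosed k]
    (r : ℕ) (P : Fin r → ↥(CohB1.ProjSpace 2 k)) (hP : Function.Injective P)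
    (hPc : ∀ i, IsClosed ({P i} : Set ↥(CohB1.ProjSpace 2 k))) (hZ : IsClosed (Set.range P))
    (X : Scheme.{u}) [X.Over (Spec (CommRingCat.of k))] (σ : X ⟶ CohB1.ProjSpace 2 k)
    (hσk : σ ≫ CohB1.ProjSpace.toSpec 2 k = X ↘ (Spec (CommRingCat.of k)))
    (hσ : BlowUp.IsBlowUp σ (Scheme.IdealSheafData.vanishingIdeal ⟨Set.range P, hZ⟩))
    [IsIntegral X] [IsProper (X ↘ (Spec (CommRingCat.of k)))] [Smooth (X ↘ (Spec (CommRingCat.of k)))] (hdim : topologicalKrullDim X = 2)
    (L : X.Modules) (hL : PicF.IsInvertible L) (hLH : FGA.intNum k X 2 ![L, ((Scheme.Modules.pullback σ).obj (Twist.twistProjSpace 2 k 1))] (Coh.structureModule X) < 0) :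
    Subsingleton (Coh.HH X L 0) := by
  rw [← not_nontrivial_iff_subsingleton]
  intro hne
  haveI := H28Int.isNoetherian k (X := X)
  let H := (Scheme.Modules.pullback σ).obj (Twist.twistProjSpace 2 k 1)
  have hH : PicF.IsInvertible H := H11Ample.isInvertible_pullback σ H11Ample.isInvertible_twist
  have hg : ∀ x : X, ∃ g : Γ(H, ⊤), x ∈ H11Ample.gen H g := fun x => by
    obtain ⟨i, hi⟩ := H11Ample.exists_mem_basicOpen_X (σ x)
    refine ⟨(1 : Γ(X, ⊤)) • H11Ample.pullTop σ (ProjUP.coord 2 k i), ?_⟩
    rw [H11Ample.gen_smul_pullSect σ H11Ample.isInvertible_twist _ isUnit_one]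
    exact (H11Ample.gen_coord i).ge hi
  obtain ⟨L', hL', ⟨e₀⟩⟩ := H11Sym.exists_inverse hL
  obtain ⟨H', hH', ⟨eH₀⟩⟩ := H11Sym.exists_inverse hH
  let e := H10Coh.Tw.commIso L L' ≪≫ e₀
  let eH := H10Coh.Tw.commIso H H' ≪≫ eH₀
  have hA := H28Int.Surface.isCoh_structure k (X := X)
  have hd : topologicalKrullDim X ≤ ((2 : ℕ) : WithBot ℕ∞) := hdim.le
  have hdA : topologicalKrullDim (CohB1.support (Coh.structureModule X)) ≤ ((2 : ℕ) : WithBot ℕ∞) :=
    Topology.IsInducing.subtypeVal.topologicalKrullDim_le.trans hd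
  rw [H28Int.intNum_eq k hd _ (fun i => by fin_cases i <;> first | exact hL | exact hH) hA] at hLH
  change H28Int.D k [L, H] (Coh.structureModule X) < 0 at hLH
  have hflip : ∀ (A A' B : X.Modules), PicF.IsInvertible A → PicF.IsInvertible A' → PicF.IsInvertible B →
      (CohB1.tensorMod A A' ≅ Coh.structureModule X) →
      H28Int.D k [A, B] (Coh.structureModule X) = - H28Int.D k [A', B] (Coh.structureModule X) := by
    intro A A' B hA₁ hA₂ hB eA
    have h1 := H28Int.D_cons_tensor k (l := [B]) (List.forall_mem_singleton.2 hB) hA₁ hA₂ hA hdA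
    have h2 := H28Int.D_cons_structure k (l := [B]) (List.forall_mem_singleton.2 hB) (Coh.structureModule X)
    have h3 : H28Int.D k [CohB1.tensorMod A A', B] (Coh.structureModule X) =
        H28Int.D k [Coh.structureModule X, B] (Coh.structureModule X) := by
      show H28Int.D k [B] _ - H28Int.D k [B] _ = H28Int.D k [B] _ - H28Int.D k [B] _
      rw [(H28Int.isAddFn_D k [B] (List.forall_mem_singleton.2 hB)).congr
        (PicGrp.tensorModIso eA (Iso.refl (Coh.structureModule X)))]
    omega
  rw [hflip L L' H hL hL' hH e, H28Int.Num.D_swap k (l := []) (by simp),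
    hflip H H' L' hH hH' hL' eH, neg_neg, H28Int.Num.D_swap k (l := []) (by simp)] at hLH
  obtain ⟨g, hgne⟩ := H28Int.Surface.exists_section hne
  obtain ⟨C, hC, hCd, -, -, hDC⟩ := H28Int.Surface.exists_zero_locus k (l := [H'])
    (List.forall_mem_singleton.2 hH') hd hL hL' e hgne
  rw [hDC] at hLH
  exact absurd hLH (not_lt.2 (H28Surf.D_nonneg_of_sections k hH eH hg C hC hCd))

end Groth.Agent.S16558
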