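import Groth.Statements.S17831
import Groth.Agent.H26AutInf.FirstOrder
import Groth.Agent.H19Grp.HomUnramified
import Groth.Agent.H19Grp.Diagonal

set_option linter.style.haveILetI false
set_option backward.isDefEq.respectTransparency false

set_option autoImplicit false
universe u
open CategoryTheory MonoidalCategory CartesianMonoidalCategory MonObj GrpObj AlgebraicGeometry
open AutSch

namespace Groth.Agent.S17831

open Groth.Agent

variable {k : Type u} [Field k] {X G : Over (Spec (CommRingCat.of k))} [GrpObj G]

theorem fst_comp_z : fst X (𝟙_ (Over (Spec (CommRingCat.of k)))) ≫ H26AutInf.z X =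
    X ◁ H19Grp.TangentPow.red k k := by
  refine CartesianMonoidalCategory.hom_ext _ _ ?_ ?_
  · rw [Category.assoc, H26AutInf.z, lift_fst, Category.comp_id, whiskerLeft_fst]
  · rw [Category.assoc, H26AutInf.z, lift_snd, whiskerLeft_snd, ← Category.assoc]
    congr 1
    exact toUnit_unique _ _

theorem famOf_one (a : AlgGrp.Action G X) (T : Over (Spec (CommRingCat.of k))) :
    AutSch.famOf a (1 : T ⟶ G) = fst X T := by
  have h1 : CartesianMonoidalCategory.lift (snd X T ≫ (1 : T ⟶ G)) (fst X T) =
      CartesianMonoidalCategory.lift (toUnit (X ⊗ T)) (fst X T) ≫ (η[G] ▷ X) := by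
    refine CartesianMonoidalCategory.hom_ext _ _ ?_ ?_
    · rw [lift_fst, Category.assoc, whiskerRight_fst, lift_fst_assoc, MonObj.comp_one, Hom.one_def]
    · rw [lift_snd, Category.assoc, whiskerRight_snd, lift_snd]
  rw [AutSch.famOf, h1, Category.assoc, a.one_act, leftUnitor_hom, lift_snd]

theorem isAutFamily_fst (T : Over (Spec (CommRingCat.of k))) : AutSch.IsAutFamily (fst X T) := by
  have h : AutSch.endOf (fst X T) = 𝟙 _ := lift_fst_snd
  rw [AutSch.IsAutFamily, h]
  infer_instance

theorem tangent_eq_one [LocallyOfFiniteType G.hom] [FormallyUnramified G.hom]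
    (g : H26AutInf.T k ⟶ G) (hg : H19Grp.TangentPow.red k k ≫ g = 1) : g = 1 := by
  haveI : IsOpenImmersion (η[G]).left :=
    (H19Grp.formallyUnramified_iff_isOpenImmersion_one G).1 inferInstance
  have hred : Function.Surjective (H19Grp.TangentPow.red k k).left := fun y => ⟨IsLocalRing.closedPoint k, by
    refine @Subsingleton.elim (PrimeSpectrum (TrivSqZeroExt k k)) ⟨fun p q => PrimeSpectrum.ext ?_⟩ _ _
    ext w
    have key : ∀ r : PrimeSpectrum (TrivSqZeroExt k k), w ∈ r.asIdeal ↔ w.fst = 0 := fun r => by
      refine ⟨fun hw => by_contra fun h => r.isPrime.ne_top (Ideal.eq_top_of_isUnit_mem _ hw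
        (TrivSqZeroExt.isUnit_iff_isUnit_fst.2 (Ne.isUnit h))), fun h0 => r.isPrime.mem_of_pow_mem 2 ?_⟩
      rw [show w ^ 2 = 0 by ext <;> simp [pow_two, h0]]
      exact zero_mem _
    rw [key, key]⟩
  have hrange : Set.range g.left ⊆ Set.range (η[G]).left := by
    rintro _ ⟨y, rfl⟩
    obtain ⟨t, rfl⟩ := hred y
    refine ⟨t, ?_⟩
    have : (H19Grp.TangentPow.red k k ≫ g).left = (η[G]).left := by
      rw [hg, Hom.one_def, toUnit_unit, Category.id_comp]
    exact (congrArg (fun f : (𝟙_ (Over (Spec (CommRingCat.of k)))).left ⟶ G.left => f t) this).symm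
  have h : g.left = (toUnit (H26AutInf.T k)).left ≫ (η[G]).left := by
    have he : (η[G]).left ≫ G.hom = 𝟙 _ := Over.w η[G]
    have hl := IsOpenImmersion.lift_fac (η[G]).left g.left hrange
    have : IsOpenImmersion.lift (η[G]).left g.left hrange = (toUnit (H26AutInf.T k)).left := by
      have h1 := congrArg (· ≫ G.hom) hl
      simp only [Category.assoc, he, Over.w g] at h1
      exact (Category.comp_id _).symm.trans h1
    rw [← hl, this]
  rw [Hom.one_def]
  exact Over.OverMorphism.ext h

end Groth.Agent.S17831

namespace Groth.Agent.S17831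

/-- Let k be a field and X a proper k-scheme of dimension at most 1, and let the k-group scheme G,
locally of finite type over k, with its action a be the automorphism group scheme of X over k. Then
G → Spec k is unramified exactly when Der_k(O_X, O_X) = 0, i.e. when every k-derivation of O_X into
O_X takes the value zero on every section over every open. (Unramified is stated as formally
unramified, G being locally of finite type. The published statement also lists as equivalent that
the automorphism group scheme is geometrically reduced of dimension zero, and a condition on the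
moduli stack of curves; this row states the unramified condition only.) -/
theorem result (k : Type u) [Field k]
    (X : Over (Spec (CommRingCat.of k))) [IsProper X.hom] (hdim : topologicalKrullDim ↥X.left ≤ 1)
    (G : Over (Spec (CommRingCat.of k))) [GrpObj G] [LocallyOfFiniteType G.hom] (a : AlgGrp.Action G X)
    (hG : AutSch.Represents X G a) :
    FormallyUnramified G.hom ↔
      ∀ (D : OmegaSh.Der X.hom (Coh.structureModule X.left)) (U : X.left.Opens) (s : Γ(X.left, U)),
        D.app U s = 0 := by
  rw [AutSch.represents_iff] at hG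
  constructor
  · intro _ D U s
    have hfam := H26AutInf.isAutFamily_phiOver D
    obtain ⟨g, hg, huniq⟩ := hG _ _ hfam
    have hred : H19Grp.TangentPow.red k k ≫ g = 1 := by
      obtain ⟨g₀, -, hu⟩ := hG _ _ (isAutFamily_fst (X := X) (𝟙_ _))
      refine (hu _ ?_).trans (hu _ (famOf_one a _)).symm
      show AutSch.famOf a _ = _
      rw [AutSch.famOf_comp, hg, AutSch.pullFam, ← fst_comp_z, Category.assoc, H26AutInf.z_phiOver, Category.comp_id]
    have h1 := tangent_eq_one g hred
    rw [h1, famOf_one] at hg
    have h0 := H26AutInf.dFun_eq_zero_of_phiOver hg.symm U s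
    exact h0
  · intro h
    refine (show FormallyUnramified G.hom ↔ FormallyUnramified (toUnit G).left from Iff.rfl).2 ?_
    refine H19Grp.formallyUnramified_of_tangent (toUnit G) fun g hg _ => ?_
    have hz : H26AutInf.z X ≫ AutSch.famOf a g = 𝟙 X := by
      have h1 : fst X (𝟙_ _) ≫ H26AutInf.z X ≫ AutSch.famOf a g = fst X (𝟙_ _) ≫ 𝟙 X := by
        rw [← Category.assoc, fst_comp_z, Category.comp_id]
        exact ((AutSch.famOf_comp a _ g).symm.trans (congrArg _ hg)).trans (famOf_one a _)
      have h2 := congrArg (fun m => CartesianMonoidalCategory.lift (𝟙 X) (toUnit X) ≫ m) h1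
      simp only [← Category.assoc, lift_fst, Category.id_comp, Category.comp_id] at h2
      exact h2
    have h1 := H26AutInf.eq_fst_of_forall_dFun hz h
    obtain ⟨g₀, -, hu⟩ := hG _ _ (isAutFamily_fst (X := X) (H26AutInf.T k))
    exact (hu g h1).trans (hu 1 (famOf_one a _)).symm

end Groth.Agent.S17831
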