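import Groth.Statements.S1593
import Groth.Agent.H29Node.Family
import Groth.Agent.H13Flat.Scheme
import Groth.Agent.S4656

set_option autoImplicit false
universe u
open CategoryTheory CategoryTheory.Limits AlgebraicGeometry
open Curves

namespace Groth.Agent.S1593

/-- Being an at-worst-nodal family of curves is étale local on the source: let f : X → S be a morphism
and g_i : U_i → X a jointly surjective family of étale morphisms. If every composite g_i ≫ f is
at-worst-nodal of relative dimension one, then so is f. -/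
theorem result {X S : Scheme.{u}} (f : X ⟶ S) (ι : Type u) (U : ι → Scheme.{u})
    (g : ∀ i, U i ⟶ X) [∀ i, Etale (g i)] (hsurj : ∀ x : X, ∃ i, x ∈ Set.range (g i).base)
    (h : ∀ i, Curv2.IsNodalFamily (g i ≫ f)) : Curv2.IsNodalFamily f := by
  haveI : ∀ i, Flat (g i ≫ f) := fun i => (h i).1
  haveI : ∀ i, LocallyOfFinitePresentation (g i ≫ f) := fun i => (h i).2.1
  haveI hlfp : LocallyOfFinitePresentation f :=
    H13Flat.locallyOfFinitePresentation_of_fppf_covering f fun x => by
      obtain ⟨i, hi⟩ := hsurj x
      exact ⟨U i, g i, inferInstance, inferInstance, hi, inferInstance⟩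
  haveI hfl : Flat f := by
    rw [Flat.iff_flat_stalkMap]
    intro x
    obtain ⟨i, u, rfl⟩ := hsurj x
    exact (S4656.result (g i) f u (Flat.stalkMap (g i) u)).1 (Flat.stalkMap _ u)
  refine ⟨hfl, hlfp, fun s => ?_⟩
  letI : (f.fiber s).Over (Spec (CommRingCat.of (S.residueField s))) := ⟨f.fiberToSpecResidueField s⟩
  haveI : LocallyOfFiniteType (f.fiber s ↘ Spec (CommRingCat.of (S.residueField s))) :=
    H8Props.FieldDim.locallyOfFiniteType_fiberToSpec f s
  choose m hm hsq using fun i => H29Node.exists_fibre_map (g i) f s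
  haveI : ∀ i, Etale (m i) := fun i => MorphismProperty.of_isPullback (hsq i) inferInstance
  letI : ∀ i, ((g i ≫ f).fiber s).Over (Spec (CommRingCat.of (S.residueField s))) :=
    fun i => ⟨(g i ≫ f).fiberToSpecResidueField s⟩
  refine H29Node.pure_atWorstNodal_of_cover (k := S.residueField s) (fun i => (g i ≫ f).fiber s) m hm
    (fun x => ?_) (fun i => ((h i).2.2 s).1) (fun i => ((h i).2.2 s).2)
  obtain ⟨i, u, hu⟩ := hsurj (f.fiberι s x)
  obtain ⟨w, -, hw⟩ := Scheme.exists_preimage_of_isPullback (hsq i) u x hu
  exact ⟨i, w, hw⟩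

end Groth.Agent.S1593
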