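import Groth.Statements.S1595
import Groth.Agent.H29Node.BaseField
import Groth.Agent.H13Desc.EtaleFibre

set_option autoImplicit false
universe u
open CategoryTheory CategoryTheory.Limits AlgebraicGeometry
open Curves

namespace Groth.Agent.S1595

/-- If S' → S is étale and f : X → S' is at-worst-nodal of relative dimension one, then the composite X
→ S is at-worst-nodal of relative dimension one. -/
theorem result {X S S' : Scheme.{u}} (e : S' ⟶ S) [Etale e] (f : X ⟶ S') (hf : Curv2.IsNodalFamily f) :
    Curv2.IsNodalFamily (f ≫ e) := by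
  obtain ⟨hfl, hlfp, hfib⟩ := hf
  haveI := hfl
  haveI := hlfp
  refine ⟨inferInstance, inferInstance, fun s => ?_⟩
  letI : ((f ≫ e).fiber s).Over (Spec (CommRingCat.of (S.residueField s))) := ⟨(f ≫ e).fiberToSpecResidueField s⟩
  haveI : LocallyOfFiniteType ((f ≫ e).fiber s ↘ Spec (CommRingCat.of (S.residueField s))) :=
    H8Props.FieldDim.locallyOfFiniteType_fiberToSpec (f ≫ e) s
  have key : ∀ (t : S) (s' : S'), e s' = t →
      letI : ((f ≫ e).fiber t).Over (Spec (CommRingCat.of (S.residueField t))) := ⟨(f ≫ e).fiberToSpecResidueField t⟩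
      ∃ (U : Scheme.{u}) (_ : U.Over (Spec (CommRingCat.of (S.residueField t)))) (m : U ⟶ (f ≫ e).fiber t),
        Etale m ∧ m ≫ ((f ≫ e).fiber t ↘ Spec (CommRingCat.of (S.residueField t))) = U ↘ Spec (CommRingCat.of (S.residueField t)) ∧
        (∀ x, f ((f ≫ e).fiberι t x) = s' → x ∈ Set.range m) ∧
        (∀ Z ∈ irreducibleComponents U, topologicalKrullDim Z = 1) ∧ Curv2.AtWorstNodal (S.residueField t) U := by
    intro t s' hs
    subst hs
    obtain ⟨h1, h2⟩ := hfib s'
    let σ := Spec.map (e.residueFieldMap s')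
    haveI : Etale σ := H13Desc.etale_SpecMap_residueFieldMap e s'
    let m : f.fiber s' ⟶ (f ≫ e).fiber (e s') := pullback.lift (f.fiberι s') (f.fiberToSpecResidueField s' ≫ σ) (by
      rw [← Category.assoc (f.fiberι s'), show f.fiberι s' ≫ f = f.fiberToSpecResidueField s' ≫ S'.fromSpecResidueField s' from pullback.condition,
        Category.assoc, Category.assoc, Scheme.Hom.SpecMap_residueFieldMap_fromSpecResidueField])
    haveI : Etale m := H13Desc.etale_fiberMap (f ≫ e) f (𝟙 X) e (Category.id_comp _).symm s' m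
      ((pullback.lift_fst _ _ _).trans (Category.comp_id _).symm) (pullback.lift_snd _ _ _)
    let U : Scheme.{u} := f.fiber s'
    letI : U.Over (Spec (CommRingCat.of (S'.residueField s'))) := ⟨f.fiberToSpecResidueField s'⟩
    letI : U.Over (Spec (CommRingCat.of (S.residueField (e s')))) := ⟨f.fiberToSpecResidueField s' ≫ σ⟩
    haveI : LocallyOfFiniteType (U ↘ Spec (CommRingCat.of (S'.residueField s'))) :=
      H8Props.FieldDim.locallyOfFiniteType_fiberToSpec f s'
    refine ⟨U, inferInstance, m, inferInstance, pullback.lift_snd _ _ _, fun x hx => ?_, h1, fun y hy => ?_⟩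
    · obtain ⟨u, hu⟩ : ∃ u, f.fiberι s' u = (f ≫ e).fiberι (e s') x := (f.range_fiberι s').superset hx
      refine ⟨u, ((f ≫ e).fiberι _).isEmbedding.injective ?_⟩
      rw [← Scheme.Hom.comp_apply, show m ≫ (f ≫ e).fiberι (e s') = f.fiberι s' from pullback.lift_fst _ _ _]
      exact hu
    · letI := (e.residueFieldMap s').hom.toAlgebra
      haveI : Module.Finite (S.residueField (e s')) (S'.residueField s') := H12AlgSp.finite_residueFieldMap_etale e s'
      rcases h2 y hy with ⟨V, hyV, hV⟩ | hn
      · haveI : Smooth (V.ι ≫ f.fiberToSpecResidueField s') := hV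
        refine Or.inl ⟨V, hyV, ?_⟩
        show Smooth (V.ι ≫ f.fiberToSpecResidueField s' ≫ σ)
        rw [← Category.assoc]
        infer_instance
      · exact Or.inr ((H29Node.isNode_iff_of_separable (k := S.residueField (e s')) (k' := S'.residueField s')
          (X := U) rfl hy).1 hn)
  let ι := {s' : S' // e s' = s}
  choose U hU m hm hmo hmr hp1 hp2 using fun i : ι => key s i.1 i.2
  letI := hU
  haveI := hm
  exact H29Node.pure_atWorstNodal_of_cover (k := S.residueField s) U m hmo
    (fun x => ⟨⟨f ((f ≫ e).fiberι s x), ((f ≫ e).range_fiberι s).subset ⟨x, rfl⟩⟩, hmr _ x rfl⟩) hp1 hp2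

end Groth.Agent.S1595
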