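import Groth.Statements.S0377
import Groth.Agent.H4DR.Dualizing.FiniteMap
import Groth.Agent.H4DR.FlatBC.Polynomial

set_option autoImplicit false
universe u v
open CategoryTheory
attribute [local instance] HasDerivedCategory.standard
open Dual

namespace Groth.Agent.S0377

/-- If a Noetherian ring A has a dualizing complex then so does every A-algebra essentially of finite
type. -/
theorem result (A : Type u) [CommRing A] [IsNoetherianRing A] (ω : Dual.D A) (hω : Dual.IsDualizing A ω) (B : Type u) [CommRing B] [Algebra A B] [Algebra.EssFiniteType A B] : ∃ ω' : Dual.D B, Dual.IsDualizing B ω' := by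
  obtain ⟨S₀, M, hS, hM⟩ := (Algebra.essFiniteType_iff_exists_subalgebra (R := A) (S := B)).1 inferInstance
  haveI := hS
  haveI := hM
  obtain ⟨n, f, hf⟩ := Algebra.FiniteType.iff_quotient_mvPolynomial''.1 hS
  obtain ⟨ω₁, h₁⟩ := H4DR.FlatBC.exists_isDualizing_mvPolynomial hω n
  obtain ⟨ω₂, h₂⟩ := H4DR.Dualizing.exists_isDualizing_finite f.toRingHom (RingHom.Finite.of_surjective _ hf) h₁
  haveI : IsNoetherianRing S₀ := h₂.isNoetherianRing
  haveI : Module.Flat S₀ B := IsLocalization.flat B M
  haveI : IsNoetherianRing B := IsLocalization.isNoetherianRing M B ‹_›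
  exact ⟨_, H4DR.FlatBC.isDualizing_localization (B := B) M h₂⟩

end Groth.Agent.S0377
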