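import Groth.Statements.S4961
import Groth.Agent.H06EGA12.Scheme2
import Groth.Agent.H8Props.FieldDimFormula

set_option autoImplicit false
open CategoryTheory AlgebraicGeometry
universe u v w
open EGA43

namespace Groth.Agent.S4961

/-- Let f : X ⟶ Y be a morphism locally of finite presentation. The set of points x of X at which f is
Cohen–Macaulay (f flat at x and the local ring at x of the fibre through x Cohen–Macaulay) is open
in X. -/
theorem result {X Y : Scheme.{u}} (f : X ⟶ Y)
    [LocallyOfFinitePresentation f] : IsOpen {x : X | MoreMor.IsCMAt f x} := by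
  convert H06EGA12.isOpen_setOf_flat_and_onFibre f (Coh.structureModule X) H06EGA9.isFP_structureModule
    H06EGA12.semilinearInvariant_cm H06EGA12.affineOpen_cm using 1
  ext x
  refine and_congr (H06EGA9.isFlatOverAt_structureModule_iff f x).symm ?_
  refine Iff.trans ?_ (H06EGA12.onFibre_structureModule_iff f H06EGA12.semilinearInvariant_cm
    (f.asFiber x)).symm
  rw [or_iff_right (not_subsingleton _)]
  haveI := H8Props.FieldDim.locallyOfFiniteType_fiberToSpec f (f x)
  haveI : IsLocallyNoetherian (f.fiber (f x)) :=
    LocallyOfFiniteType.isLocallyNoetherian (f.fiberToSpecResidueField (f x))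
  exact ⟨fun h => h.supportDim_eq_depth, fun h => ⟨h⟩⟩

end Groth.Agent.S4961
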