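import Groth.Statements.S18910
import Groth.Agent.LeadVA.Main
import Groth.Agent.H29CurveDual.VeryAmpleField
import Groth.Agent.H29CurveDual.Canonical
import Groth.Agent.H29CurveDual.CanonAux
import Groth.Agent.H21Taylor.GeomInt
import Groth.Agent.H12Pic.PicCurve.RelDimFibres
import Groth.Agent.H29Omega.SmoothInvertible
import Groth.Agent.S11777
import Groth.Agent.H22Alg.CurveAmple
import Groth.Agent.H11Ample.Converse
import Groth.Agent.H11Ample.Immersion

set_option autoImplicit false
universe u
open CategoryTheory CategoryTheory.Limits AlgebraicGeometry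
open Curves

namespace Groth.Agent.S18910

open Groth.Agent.H11Ample in
theorem fibre_facts {Y : Scheme.{u}} {k : Type u} [Field k] [Y.Over (Spec (CommRingCat.of k))]
    [IsProper (Y ↘ Spec (CommRingCat.of k))] [Smooth (Y ↘ Spec (CommRingCat.of k))]
    [GeometricallyConnected (Y ↘ Spec (CommRingCat.of k))] (hdim : topologicalKrullDim ↥Y = 1) {g : ℕ}
    (hg : 2 ≤ g) (hgen : Curv2.genus k Y = g) {n : ℕ} (hn : 3 ≤ n) {L : Y.Modules} (hL : PicF.IsInvertible L)
    (hdeg : Curv2.deg k Y L 1 = n * Curv2.deg k Y (Omega.sheaf (Y ↘ Spec (CommRingCat.of k))) 1) :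
    RelAmple.IsRelVeryAmplePn (Y ↘ Spec (CommRingCat.of k)) L ∧ Subsingleton (Coh.HH Y L 1) := by
  haveI : GeometricallyIntegral (Y ↘ Spec (CommRingCat.of k)) :=
    H21Taylor.geometricallyIntegral_of_smooth _ fun s =>
      GeometricallyConnected.geometrically_connectedSpace _ _ _ (.of_hasPullback _ _)
  haveI : IsIntegral Y := GeometricallyIntegral.isIntegral_of_subsingleton (Y ↘ Spec (CommRingCat.of k))
  have h0 := H29CurveDual.finrank_h0_structure_smooth (k := k) (X := Y)
  have hΩ := H29CurveDual.deg_omega_of_h0 (k := k) hdim h0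
  rw [hgen] at hΩ
  have hd : 2 * (g : ℤ) + 1 ≤ Curv2.deg k Y L 1 := by
    rw [hdeg, hΩ]
    nlinarith [(by exact_mod_cast hn : (3 : ℤ) ≤ n), (by exact_mod_cast hg : (2 : ℤ) ≤ g)]
  refine ⟨?_, H29CurveDual.subsingleton_h1_of_deg_ge (k := k) hdim.le h0 hL (by rw [hgen]; omega)⟩
  obtain ⟨m, v, hva⟩ := H29CurveDual.exists_vaData_of_deg_ge hdim.le h0 hL (by rw [hgen]; exact hd)
  exact H11Ample.isRelVeryAmplePn_of_sections _ hL v Set.univ
    (fun x => (hva.cover x).imp fun j hj => ⟨trivial, hj⟩) (fun j _ => hva.affine j) (fun j _ => hva.surj j)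


/-- Let f : X → S be a smooth curve of genus g ≥ 2 over a scheme S (proper and smooth, geometrically
connected fibres of dimension one and genus g) and n ≥ 3. Then ω_f^{⊗n} = Ω_{X/S}^{⊗n} is very ample
relative to f: there are a quasi-coherent O_S-module E and an S-immersion i of X into the projective
bundle P(E) with Ω_{X/S}^{⊗n} isomorphic to i^*O_{P(E)}(1) (existence of an isomorphism, as in the
definition of relative very ampleness). (The second assertion of the published statement, that
f_*ω_f^{⊗n} is locally free of rank (2n − 1)(g − 1), is not restated here.) -/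
theorem result {X S : Scheme.{u}} (f : X ⟶ S)
    [IsProper f] [Smooth f] [GeometricallyConnected f]
    (hdim : ∀ s : S, topologicalKrullDim ↥(f.fiber s) = 1) (g : ℕ) (hg : 2 ≤ g)
    (hgen : ∀ s : S, letI : (f.fiber s).Over (Spec (S.residueField s)) := ⟨f.fiberToSpecResidueField s⟩
      Curv2.genus (S.residueField s) (f.fiber s) = g)
    (n : ℕ) (hn : 3 ≤ n) :
    RelProj.IsRelVeryAmple f (CohB1.tensorPow (Omega.sheaf f) n) := by
  haveI hfib : ∀ s : S, IsProper (f.fiberToSpecResidueField s) := fun s =>
    MorphismProperty.pullback_snd f _ inferInstance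
  haveI hsm : ∀ s : S, Smooth (f.fiberToSpecResidueField s) := fun s =>
    MorphismProperty.pullback_snd f _ inferInstance
  haveI : SmoothOfRelativeDimension 1 f := H12Pic.PicCurve.smoothOfRelativeDimension_of_fibres f 1
    (fun s => by
      haveI : GeometricallyIntegral (f.fiberToSpecResidueField s) :=
        H21Taylor.geometricallyIntegral_of_smooth _ fun t =>
          GeometricallyConnected.geometrically_connectedSpace _ _ _ (.of_hasPullback _ _)
      haveI : IsIntegral (f.fiber s) :=
        GeometricallyIntegral.isIntegral_of_subsingleton (f.fiberToSpecResidueField s)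
      infer_instance)
    (fun s => by simpa using hdim s)
  have hω := H29Omega.SmoothInvertible.isInvertible_omega_smooth f
  have hL := H11Ample.isInvertible_tensorPow hω n
  have key : ∀ s : S, RelAmple.IsRelVeryAmplePn (f.fiberToSpecResidueField s)
      ((Scheme.Modules.pullback (f.fiberι s)).obj (CohB1.tensorPow (Omega.sheaf f) n)) ∧
      Subsingleton (CohIII.fiberH f (CohB1.tensorPow (Omega.sheaf f) n) s 1) := fun s => by
    letI : (f.fiber s).Over (Spec (CommRingCat.of (S.residueField s))) := ⟨f.fiberToSpecResidueField s⟩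
    haveI : IsProper (f.fiber s ↘ Spec (CommRingCat.of (S.residueField s))) := hfib s
    haveI : Smooth (f.fiber s ↘ Spec (CommRingCat.of (S.residueField s))) := hsm s
    haveI : GeometricallyConnected (f.fiber s ↘ Spec (CommRingCat.of (S.residueField s))) :=
      (inferInstance : GeometricallyConnected (f.fiberToSpecResidueField s))
    obtain ⟨eΩ⟩ := S11777.nonempty_iso_omega_baseChange f (S.fromSpecResidueField s) (f.fiberι s)
      (f.fiber s ↘ Spec (CommRingCat.of (S.residueField s))) (IsPullback.of_hasPullback _ _)
    obtain ⟨eT⟩ := H11Ample.exists_iso_pullback_tensorPow (f.fiberι s) hω n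
    haveI : IsIntegral (f.fiber s) := by
      haveI : GeometricallyIntegral (f.fiberToSpecResidueField s) :=
        H21Taylor.geometricallyIntegral_of_smooth _ fun t =>
          GeometricallyConnected.geometrically_connectedSpace _ _ _ (.of_hasPullback _ _)
      exact GeometricallyIntegral.isIntegral_of_subsingleton (f.fiberToSpecResidueField s)
    refine fibre_facts (k := S.residueField s) (by simpa using hdim s) hg (hgen s) hn
      (H11Ample.isInvertible_pullback _ hL) ?_
    rw [H29RR.deg_congr eT, H22Alg.CurveAmple.deg_tensorPow (by simpa using (hdim s).le)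
      (H11Ample.isInvertible_pullback _ hω), H29RR.deg_congr eΩ]
  exact LeadVA.isRelVeryAmple_of_fibres f _ hL (fun s => (key s).1) fun s => (key s).2

end Groth.Agent.S18910
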