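import Groth.Statements.S0054
import Groth.Agent.H10Coh.AmpleClosedFibre
import Groth.Agent.H7Lim.AmpleDescent
import Groth.Agent.H8Props.SpreadGeneric
-- import your own Groth.Agent.* helpers here

set_option autoImplicit false
set_option linter.style.haveILetI false
universe u
open CategoryTheory CategoryTheory.Limits AlgebraicGeometry TopologicalSpace
open Coherent

namespace Groth.Agent.S0054

open AlgebraicGeometry CategoryTheory in
/-- Let f : X → Y be proper with Y Noetherian, L invertible on X, and y a point such that the pullback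
of L to the fibre X_y is ample. Then there is an open neighbourhood V of y such that L is ample on
f⁻¹(W) for every affine open W ⊆ V (i.e. L is relatively ample over V). -/
theorem result {X Y : Scheme.{u}} (f : X ⟶ Y) [IsProper f] [IsNoetherian Y]
    (L : X.Modules) (hL : PicF.IsInvertible L) (y : Y)
    (hy : CohB1.IsAmple ((Scheme.Modules.pullback (f.fiberι y)).obj L)) :
    ∃ V : Y.Opens, y ∈ V ∧ ∀ W : Y.Opens, W ≤ V → IsAffineOpen W →
      CohB1.IsAmple (L.restrict (f ⁻¹ᵁ W).ι) := by
  obtain ⟨i₀⟩ : Nonempty (Groth.Agent.H8Props.SpreadGeneric.AffNhds y) := IsCofiltered.nonempty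
  let D := Groth.Agent.H8Props.SpreadGeneric.stageFun y
  let c := Groth.Agent.H8Props.SpreadGeneric.stageCone y
  let t := Groth.Agent.H8Props.SpreadGeneric.toBase i₀
  let X₀ := Limits.pullback f t
  let a : X₀ ⟶ D.obj i₀ := Limits.pullback.snd f t
  let q₀ : X₀ ⟶ X := Limits.pullback.fst f t
  have sq₀ : IsPullback q₀ a f t := IsPullback.of_hasPullback _ _
  have hlim := Groth.Agent.H7Lim.isLimitPbCone D i₀ a (Groth.Agent.H8Props.SpreadGeneric.isLimitStageCone y)
  let X₁ := Limits.pullback a (c.π.app i₀)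
  letI : X₁.Over (Spec (CommRingCat.of (Y.presheaf.stalk y))) := ⟨Limits.pullback.snd a (c.π.app i₀)⟩
  have hsq : IsPullback (Limits.pullback.fst a (c.π.app i₀) ≫ q₀) (X₁ ↘ Spec (CommRingCat.of (Y.presheaf.stalk y))) f
      (Y.fromSpecStalk y) := by
    rw [← Groth.Agent.H8Props.SpreadGeneric.cone_toBase i₀]
    exact (IsPullback.of_hasPullback a (c.π.app i₀)).paste_horiz sq₀
  have h1 := Groth.Agent.H10Coh.ClosedFibre.isAmple_stalk f y (X₁ := X₁) _ hsq hL hy
  let T := Groth.Agent.H7Lim.pbDiagram D i₀ a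
  let top : Over i₀ := Over.mk (𝟙 i₀)
  let r : T.obj top ⟶ X := Limits.pullback.fst a (D.map top.hom) ≫ q₀
  haveI : IsAffine (D.obj i₀) := inferInstanceAs (IsAffine (Spec _))
  haveI : IsProper a := MorphismProperty.of_isPullback sq₀ (inferInstance : IsProper f)
  haveI : IsProper (Limits.pullback.snd a (D.map top.hom)) := MorphismProperty.pullback_snd _ _ inferInstance
  haveI : CompactSpace ↥(T.obj top) := QuasiCompact.compactSpace_of_compactSpace (Limits.pullback.snd a (D.map top.hom))
  have hqs : QuasiSeparated (Limits.pullback.snd a (D.map top.hom)) := ⟨inferInstance⟩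
  haveI : QuasiSeparatedSpace ↥(T.obj top) :=
    @quasiSeparatedSpace_of_quasiSeparated _ _ (Limits.pullback.snd a (D.map top.hom)) inferInstance hqs
  have h2 : CohB1.IsAmple ((Scheme.Modules.pullback ((Groth.Agent.H7Lim.pbCone D c i₀ a).π.app top)).obj
      ((Scheme.Modules.pullback r).obj L)) := by
    rw [← Groth.Agent.H11Ample.isAmple_pullback_comp_iff]
    have e : (Groth.Agent.H7Lim.pbCone D c i₀ a).π.app top ≫ r = Limits.pullback.fst a (c.π.app i₀) ≫ q₀ := by
      simp [r, Groth.Agent.H7Lim.pbCone]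
      erw [Limits.pullback.lift_fst_assoc]
      simp
    rw [e]
    exact h1
  haveI : ∀ (i j : Over i₀) (φ : i ⟶ j), IsAffineHom (T.map φ) := fun i j φ => inferInstance
  obtain ⟨j, φ, hj⟩ := Groth.Agent.H7Lim.AmpleDescent.exists_isAmple_stage hlim (i := top)
    (Groth.Agent.H11Ample.isInvertible_pullback r hL) h2
  rw [← Groth.Agent.H11Ample.isAmple_pullback_comp_iff] at hj
  let q : T.obj j ⟶ X := Limits.pullback.fst a (D.map j.hom) ≫ q₀
  have hq : T.map φ ≫ r = q := by
    simp [r, q, T, Groth.Agent.H7Lim.pbDiagram]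
    erw [Limits.pullback.lift_fst_assoc]
    simp
  rw [hq] at hj
  have sqj : IsPullback q (Limits.pullback.snd a (D.map j.hom)) f (Groth.Agent.H8Props.SpreadGeneric.toBase j.left) := by
    rw [← Groth.Agent.H8Props.SpreadGeneric.map_toBase j.hom]
    exact (IsPullback.of_hasPullback a (D.map j.hom)).paste_horiz sq₀
  let V : Y.Opens := j.left.1.1
  haveI : IsOpenImmersion (Groth.Agent.H8Props.SpreadGeneric.toBase j.left) :=
    inferInstanceAs (IsOpenImmersion j.left.1.2.fromSpec)
  haveI : IsOpenImmersion q := MorphismProperty.of_isPullback sqj.flip inferInstance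
  have hrange : Set.range q = Set.range (f ⁻¹ᵁ V).ι := by
    rw [← sqj.isoPullback_hom_fst, Scheme.Hom.comp_base, TopCat.coe_comp,
      Set.range_comp, sqj.isoPullback.hom.surjective.range_eq, Set.image_univ,
      Scheme.Pullback.range_fst, Scheme.Opens.range_ι, Groth.Agent.H8Props.SpreadGeneric.range_toBase]
    rfl
  have hV : CohB1.IsAmple ((Scheme.Modules.pullback (f ⁻¹ᵁ V).ι).obj L) := by
    rw [← IsOpenImmersion.isoOfRangeEq_hom_fac q (f ⁻¹ᵁ V).ι hrange, Groth.Agent.H11Ample.isAmple_pullback_comp_iff,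
      Groth.Agent.H11Ample.isAmple_pullback_iso_iff] at hj
    exact hj
  refine ⟨V, j.left.2, fun W hW hWa => ?_⟩
  haveI : CompactSpace ↥((f ⁻¹ᵁ W : X.Opens) : Scheme.{u}) :=
    isCompact_iff_compactSpace.1 (f.isCompact_preimage hWa.isCompact)
  refine Groth.Agent.H11Ample.isAmple_of_iso ((Scheme.Modules.restrictFunctorIsoPullback (f ⁻¹ᵁ W).ι).app L).symm ?_
  rw [← X.homOfLE_ι (f.preimage_mono hW), Groth.Agent.H11Ample.isAmple_pullback_comp_iff]
  exact Groth.Agent.H8Props.Ample.isAmple_pullback_of_isEmbedding _ (X.homOfLE (f.preimage_mono hW)).isOpenEmbedding.isEmbedding hV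

end Groth.Agent.S0054
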