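-- statement Lim.GrothFrozen.S2147 (Groth/Statements/S2147.lean; the theorem Lim.proper_isLimit_of_proper_over_finiteType);
import Groth.Statements.S2147
import Groth.Agent.S2079
import Groth.Agent.H7Lim.Proper.ImageSystem

set_option autoImplicit false
universe u
open CategoryTheory AlgebraicGeometry
open Lim

namespace Groth.Agent.S2147
set_option backward.isDefEq.respectTransparency false
attribute [local instance] CategoryTheory.isConnected_of_hasTerminal
open CategoryTheory CategoryTheory.Limits AlgebraicGeometry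

/-- Let `f : X → S` be proper with `S` quasi-compact and quasi-separated. Then `f` is a limit of proper
morphisms `f_i : X_i → S_i` with `S_i` of finite type over `ℤ`: there are cofiltered diagrams of
schemes `X_i`, `S_i` with affine transition morphisms, a natural transformation with proper
components, and limit cones identified with `X` and `S` compatibly with `f`. -/
theorem result {X S : Scheme.{u}} (f : X ⟶ S) [IsProper f] [CompactSpace S]
    [QuasiSeparatedSpace S] :
    ∃ (I : Type u) (_ : SmallCategory I) (_ : IsCofiltered I) (DX DS : I ⥤ Scheme.{u}) (φ : DX ⟶ DS)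
      (cX : Limits.Cone DX) (cS : Limits.Cone DS) (_ : Limits.IsLimit cX) (_ : Limits.IsLimit cS)
      (eX : cX.pt ≅ X) (eS : cS.pt ≅ S),
      (∀ (i j : I) (a : i ⟶ j), IsAffineHom (DX.map a) ∧ IsAffineHom (DS.map a)) ∧
      (∀ i, IsProper (φ.app i) ∧ CompactSpace (DS.obj i) ∧
        LocallyOfFiniteType (Limits.IsTerminal.from specULiftZIsTerminal (DS.obj i))) ∧
      (∀ i, cX.π.app i ≫ φ.app i = eX.hom ≫ f ≫ eS.inv ≫ cS.π.app i) := by
  haveI : CompactSpace X := QuasiCompact.compactSpace_of_compactSpace f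
  haveI : QuasiSeparatedSpace X := quasiSeparatedSpace_of_quasiSeparated f
  obtain ⟨I₀, _, _, D₀, c₀, -, e, -, hD₀⟩ := Groth.Agent.S2079.result f
  haveI : Nonempty I₀ := IsCofiltered.nonempty
  let o : I₀ := Classical.arbitrary _
  let p₀ : (D₀.obj o).left ⟶ S := (D₀.obj o).hom
  haveI : IsProper p₀ := (hD₀ o).2.1
  haveI : LocallyOfFinitePresentation p₀ := (hD₀ o).2.2
  haveI := (hD₀ o).1
  haveI : IsIso e.inv.left := inferInstanceAs (IsIso ((Over.forget S).map e.inv))
  let k₀ : X ⟶ (D₀.obj o).left := e.inv.left ≫ (c₀.π.app o).left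
  have hk₀ : k₀ ≫ p₀ = f := by
    show (e.inv.left ≫ (c₀.π.app o).left) ≫ (D₀.obj o).hom = f
    rw [Category.assoc, Over.w (c₀.π.app o)]
    exact Over.w e.inv
  haveI : IsClosedImmersion k₀ := inferInstanceAs (IsClosedImmersion (e.inv.left ≫ (c₀.π.app o).left))
  obtain ⟨S₀, g, hg, hS₀, hS₀t⟩ := H7Lim.Approx.exists_affineHom_finiteType S
  haveI := H7Lim.Approx.quasiSeparatedSpace_of_toZ S₀
  obtain ⟨hc⟩ := H7Lim.Approx.nonempty_isLimit_sysCone g
  let A := H7Lim.Approx.sys g
  let cA : Cone A := H7Lim.Approx.sysCone g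
  haveI : ∀ i, CompactSpace (A.obj i) := fun i ↦ inferInstanceAs (CompactSpace i.unop.spec)
  haveI : ∀ i, QuasiSeparatedSpace (A.obj i) := fun i ↦
    inferInstanceAs (QuasiSeparatedSpace i.unop.spec)
  haveI : ∀ (i j : (H7Lim.Approx.FGSub g)ᵒᵖ) (a : i ⟶ j), IsAffineHom (A.map a) := fun i j a ↦
    inferInstanceAs (IsAffineHom ((H7Lim.Approx.system g).map a).left)
  haveI : CompactSpace (D₀.obj o).left := QuasiCompact.compactSpace_of_compactSpace p₀
  haveI : QuasiSeparatedSpace (D₀.obj o).left := quasiSeparatedSpace_of_quasiSeparated p₀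
  obtain ⟨k, ⟨M⟩⟩ := H7Lim.FPDescent.exists_model (c := cA) hc p₀
  haveI := M.lfp; haveI := M.qc; haveI := M.qs
  haveI : CompactSpace M.P := QuasiCompact.compactSpace_of_compactSpace M.p
  haveI : QuasiSeparatedSpace M.P := quasiSeparatedSpace_of_quasiSeparated M.p
  obtain ⟨i₁, φ, hi₁⟩ := H7Lim.descends_isProper _ A cA hc k M.p
    (inferInstanceAs (LocallyOfFiniteType M.p))
    ((H7Lim.prop_iff_of_isPullback (P := @IsProper) M.hpb).mp inferInstance)
  let a := pullback.snd M.p (A.map φ)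
  haveI : IsProper a := hi₁
  haveI : CompactSpace ↥(pullback M.p (A.map φ)) := QuasiCompact.compactSpace_of_compactSpace a
  haveI : QuasiSeparatedSpace ↥(pullback M.p (A.map φ)) := quasiSeparatedSpace_of_quasiSeparated a
  let ga : (D₀.obj o).left ⟶ pullback M.p (A.map φ) :=
    pullback.lift M.g (p₀ ≫ cA.π.app i₁) (by rw [Category.assoc, cA.w]; exact M.hpb.w)
  have h : IsPullback ga p₀ a (cA.π.app i₁) :=
    IsPullback.of_right (h₁₂ := pullback.fst M.p (A.map φ)) (h₂₂ := A.map φ) (v₁₃ := M.p)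
      (by rw [pullback.lift_fst, cA.w]; exact M.hpb) (pullback.lift_snd _ _ _)
      (IsPullback.of_hasPullback _ _)
  let E := H7Lim.pbDiagram A i₁ a
  let d : Cone E := H7Lim.pbCone A cA i₁ a
  let kk : X ⟶ d.pt := k₀ ≫ h.isoPullback.hom
  haveI : IsClosedImmersion kk := inferInstanceAs (IsClosedImmersion (k₀ ≫ h.isoPullback.hom))
  obtain ⟨hX⟩ := H7Lim.nonempty_isLimit_imgCone kk (H7Lim.isLimitPbCone A i₁ a hc)
  let DS := Over.forget i₁ ⋙ A
  let ψ : H7Lim.imgDiagram kk ⟶ DS :=
    { app := fun j ↦ H7Lim.imgι kk j ≫ pullback.snd a (A.map j.hom)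
      naturality := fun i j m ↦ by
        rw [← Category.assoc, H7Lim.imgDiagram_map_ι, Category.assoc, Category.assoc]
        simp [DS, E] }
  refine ⟨Over i₁, inferInstance, inferInstance, H7Lim.imgDiagram kk, DS, ψ, H7Lim.imgCone kk,
    cA.whisker (Over.forget i₁), hX, (Functor.Initial.isLimitWhiskerEquiv (Over.forget i₁) cA).symm hc,
    Iso.refl _, Iso.refl _, fun i j m ↦ ⟨inferInstance, inferInstanceAs (IsAffineHom (A.map m.left))⟩,
    fun j ↦ ⟨?_, inferInstanceAs (CompactSpace (A.obj j.left)), ?_⟩, fun j ↦ ?_⟩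
  · haveI : IsProper (pullback.snd a (A.map j.hom)) := inferInstance
    exact inferInstanceAs (IsProper (H7Lim.imgι kk j ≫ pullback.snd a (A.map j.hom)))
  · show LocallyOfFiniteType (H7Lim.Approx.toZ j.left.unop.spec)
    rw [← H7Lim.Approx.toZ_eq (j.left.unop.proj ≫ H7Lim.Approx.toZ S₀)]; infer_instance
  · show H7Lim.toImg kk j ≫ H7Lim.imgι kk j ≫ pullback.snd a (A.map j.hom) = 𝟙 X ≫ f ≫ 𝟙 S ≫ cA.π.app j.left
    rw [Category.id_comp, Category.id_comp, ← Category.assoc, H7Lim.toImg_ι, Category.assoc]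
    simp only [d, kk, H7Lim.pbCone_π_app, pullback.map, Category.assoc]
    erw [pullback.lift_snd]
    erw [IsPullback.isoPullback_hom_snd_assoc, reassoc_of% hk₀]

end Groth.Agent.S2147
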