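import Groth.Statements.S4380
import Groth.Agent.H11Ample.RelAmple

set_option autoImplicit false
universe u
open CategoryTheory CategoryTheory.Limits AlgebraicGeometry
open EGA2

namespace Groth.Agent.S4380

/-- Let f : X → Y be a quasi-compact morphism, L an O_X-module and (U_i) a cover of Y by open subsets.
Then L is ample relative to f if and only if, for every i, the restriction of L to f⁻¹(U_i) is ample
relative to the restriction f⁻¹(U_i) → U_i of f. -/
theorem result {X Y : Scheme.{u}} (f : X ⟶ Y) [QuasiCompact f] (L : X.Modules)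
    {ι : Type u} (U : ι → Y.Opens) (hU : ⨆ i, U i = ⊤) :
    RelAmple.IsRelAmple f L ↔ ∀ i, RelAmple.IsRelAmple (f ∣_ (U i)) (L.restrict (f ⁻¹ᵁ (U i)).ι) := by
  exact H11Ample.isRelAmple_iff_of_openCover U hU

end Groth.Agent.S4380
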