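import Groth.Statements.S12128
import Groth.Agent.H8Props.AmpleSpread.Main
import Groth.Agent.S4381
import Groth.Agent.S4380
-- import your own Groth.Agent.* helpers here

set_option autoImplicit false
universe u
open Cons9

namespace Groth.Agent.S12128

open AlgebraicGeometry CategoryTheory Limits in
/-- Let f : X → S be a proper morphism of finite presentation and L an invertible O_X-module. Then L is
ample relative to f if and only if, for every point s of S, the pullback of L to the fibre X_s is
ample (relative to X_s → Spec k(s), i.e. an ample invertible sheaf on the quasi-compact scheme X_s). -/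
theorem result {X S : Scheme.{u}} (f : X ⟶ S)
    [IsProper f] [LocallyOfFinitePresentation f] (L : X.Modules) (hL : PicF.IsInvertible L) :
    RelAmple.IsRelAmple f L ↔
      ∀ s : S, CohB1.IsAmple ((Scheme.Modules.pullback (f.fiberι s)).obj L) := by
  constructor
  · intro h s
    obtain ⟨V, hV, hsV, -⟩ := exists_isAffineOpen_mem_and_subset (X := S) (x := s) (U := ⊤) trivial
    have hamp : CohB1.IsAmple ((Scheme.Modules.pullback (f ⁻¹ᵁ V).ι).obj L) :=
      Groth.Agent.H11Ample.isAmple_of_iso ((Scheme.Modules.restrictFunctorIsoPullback (f ⁻¹ᵁ V).ι).app L)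
        (h.2 ⟨V, hV⟩)
    have hrange : Set.range (f.fiberι s) ⊆ Set.range (f ⁻¹ᵁ V).ι := by
      rw [f.range_fiberι, Scheme.Opens.range_ι]
      intro x hx
      show f x ∈ V
      rw [Set.mem_preimage, Set.mem_singleton_iff] at hx
      rw [hx]
      exact hsV
    haveI : IsAffineHom (f.fiberι s) :=
      MorphismProperty.pullback_fst f (S.fromSpecResidueField s)
        (haveI : Subsingleton (Spec (S.residueField s)) := inferInstanceAs (Subsingleton (PrimeSpectrum _))
         Groth.Agent.H8Props.AmpleSpread.isAffineHom_of_subsingleton _)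
    let u := IsOpenImmersion.lift (f ⁻¹ᵁ V).ι (f.fiberι s) hrange
    haveI : IsAffineHom (u ≫ (f ⁻¹ᵁ V).ι) := by rw [IsOpenImmersion.lift_fac]; infer_instance
    haveI : IsAffineHom u := IsAffineHom.of_comp u (f ⁻¹ᵁ V).ι
    have h2 := Groth.Agent.H11Ample.isAmple_pullback_of_isAffineHom u hamp
    rwa [← Groth.Agent.H11Ample.isAmple_pullback_comp_iff, IsOpenImmersion.lift_fac] at h2
  · intro h
    choose V hV using fun s => Groth.Agent.H8Props.AmpleSpread.exists_nhd f hL s (h s)
    refine (Groth.Agent.S4380.result f L V ?_).2 fun s => ?_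
    · exact top_unique fun s _ => TopologicalSpace.Opens.mem_iSup.2 ⟨s, (hV s).1⟩
    · haveI : IsAffine (V s) := (hV s).2.1
      haveI : QuasiCompact (f ∣_ (V s)) := IsZariskiLocalAtTarget.restrict (P := @QuasiCompact) inferInstance _
      refine (Groth.Agent.S4381.result (f ∣_ (V s)) _).2 ?_
      exact Groth.Agent.H11Ample.isAmple_of_iso
        ((Scheme.Modules.restrictFunctorIsoPullback (f ⁻¹ᵁ (V s)).ι).app L).symm (hV s).2.2

end Groth.Agent.S12128
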