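import Groth.Statements.S13457
import Groth.Agent.H29CurveDual.CanonAux

set_option autoImplicit false
universe u
open CategoryTheory CategoryTheory.Limits AlgebraicGeometry
open Curves

namespace Groth.Agent.S13457

/-- Let k be a field and C a smooth proper geometrically connected curve over k (proper, smooth and
geometrically connected over k, of dimension one), of genus g = dim_k H^1(C, O_C). Let L be an
invertible O_C-module of degree 2g − 2, the degree of an invertible module being χ(L) − χ(O_C), such
that dim_k H^0(C, L) ≥ g. Then L is isomorphic to the sheaf of differentials Ω_{C/k} (existence of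
an isomorphism; no particular map is singled out). (The published statement takes C projective; this
row takes C proper over k.) -/
theorem result (k : Type u) [Field k] (C : Scheme.{u}) [C.Over (Spec (CommRingCat.of k))]
    [IsProper (C ↘ (Spec (CommRingCat.of k)))] [Smooth (C ↘ (Spec (CommRingCat.of k)))] [GeometricallyConnected (C ↘ (Spec (CommRingCat.of k)))]
    (hdim : topologicalKrullDim C = 1) (L : C.Modules) (hL : PicF.IsInvertible L)
    (hdeg : Curv2.deg k C L 1 = 2 * (Curv2.genus k C : ℤ) - 2)
    (hh0 : Curv2.genus k C ≤ Module.finrank k (Coh.HH C L 0)) :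
    Nonempty (L ≅ Omega.sheaf (C ↘ (Spec (CommRingCat.of k)))) := by
  haveI := H29RR.isIntegral_of_geomConnected k C
  have h0 := H29CurveDual.finrank_h0_structure_smooth (k := k) (X := C)
  have hΩ := H29CurveDual.isInvertible_omega_curve (k := k) hdim
  obtain ⟨N, hN, ⟨e⟩⟩ := H29RR.exists_inverse_comm hL
  have hrr := H29RR.riemann_roch (k := k) hdim.le L
  rw [h0, hdeg, H29CurveDual.finrank_h1_invertible hdim hL hN e] at hrr
  refine H29CurveDual.nonempty_iso_of_quot (k := k) hdim.le hL hΩ hN e ?_
    (Module.nontrivial_of_finrank_pos (R := k) ?_)
  · rw [H29CurveDual.deg_omega_of_h0 hdim h0, hdeg]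
  · omega

end Groth.Agent.S13457
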