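import Groth.Statements.S5729
import Groth.Agent.H11Sym.Bundle
import Groth.Agent.H11Proj.ProjTransfer
import Groth.Agent.H11Proj.RelProjExists

set_option autoImplicit false
universe u
open CategoryTheory CategoryTheory.Limits AlgebraicGeometry TopologicalSpace Opposite
open scoped HomogeneousIdeal
open EGA2

namespace Groth.Agent.S5729

/-- For a morphism f : X → Y the following are equivalent: (a) there are a quasi-coherent O_Y-module E
of finite type, its graded symmetric algebra 𝒯 with projective bundle p : P(E) = Proj(𝒯) → Y (given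
with its charts over affine opens), and a closed immersion i : X → P(E) with i ≫ p = f; (b) f is
projective in the sense that X is isomorphic over Y to the relative homogeneous spectrum of some
quasi-coherent graded O_Y-algebra generated by its degree-one part, that part being of finite type. -/
theorem result {X Y : Scheme.{u}} (f : X ⟶ Y) :
    RelProj.IsProjective f ↔
      ∃ (E : Y.Modules) (𝒯 : RelProj.QCGrAlg Y) (j : E ⟶ 𝒯.toModule) (P : Scheme.{u}) (p : P ⟶ Y)
        (chart : ∀ (U : Y.Opens) (hU : IsAffineOpen U), ((p ⁻¹ᵁ U : P.Opens) : Scheme.{u}) ≅ Proj (𝒯.deg U hU))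
        (i : X ⟶ P),
        Coh.IsQCoh E ∧ CohB1.IsFT E ∧ RelProj.IsGrSymAlg E 𝒯 j ∧ RelProj.IsRelProj 𝒯 p chart ∧
          IsClosedImmersion i ∧ i ≫ p = f := by
  constructor
  · rintro ⟨𝒮, PS, pS, chartS, e, hgen, hft, hPS, he⟩
    let M := H11Sym.degModule 𝒮 1
    have hM : Coh.IsQCoh M := H11Sym.isQCoh_degModule 𝒮 1
    obtain ⟨𝒯, j, hT⟩ := H11Sym.exists_isGrSymAlg M hM
    obtain ⟨P, p, chart, hP⟩ := H11Proj.exists_isRelProj 𝒯
    obtain ⟨-, -, -, h, -, hh, hp, -⟩ := H11Sym.exists_isClosedImmersion_relProj hM hT hgen (H11Sym.degIncl 𝒮 1)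
      (fun U hU x => H11Sym.degIncl_mem 𝒮 1 hU x) (fun U hU a ha => H11Sym.exists_degIncl_eq 𝒮 1 hU ha) hP hPS
    have : IsClosedImmersion h := hh
    exact ⟨M, 𝒯, j, P, p, chart, e.hom ≫ h, hM, H11Sym.isFT_degModule 𝒮 1 hft, hT, hP, inferInstance,
      by rw [Category.assoc, hp, he]⟩
  · rintro ⟨E, 𝒯, j, P, p, chart, i, hE, hft, hT, hP, hi, rfl⟩
    have hp : RelProj.IsProjective p :=
      ⟨𝒯, P, p, chart, Iso.refl P, H11Sym.isGenDegOne hE hT, H11Sym.isFTDeg_one hE hft hT, hP,
        Category.id_comp p⟩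
    refine H11Proj.isProjective_of_isClosedImmersion_lift (g := 𝟙 Y) (h := i) (f' := i ≫ p)
      (hc := by simp) hp ?_
    have : IsClosedImmersion (pullback.lift (f := p) (g := 𝟙 Y) i (i ≫ p) (by simp) ≫ pullback.fst p (𝟙 Y)) := by
      rw [pullback.lift_fst]; exact hi
    exact IsClosedImmersion.of_comp _ (pullback.fst p (𝟙 Y))

end Groth.Agent.S5729
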