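import Groth.Statements.S1863
import Mathlib
import Groth.Agent.H22Alg.CycDiv

set_option autoImplicit false
universe u
open CategoryTheory AlgebraicGeometry
open Cyc

namespace Groth.Agent.S1863

/-- Let U ⊆ X be open and α, β k-cycles on X whose restrictions to U are rationally equivalent on U (for
the restricted dimension function). Then there is a k-cycle γ on X vanishing on U with α rationally
equivalent to β + γ. Here a pair (X, δ) with Cyc.IsSetup plays the role of a scheme locally of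
finite type over a fixed base with a dimension function (X locally Noetherian with universally
catenary local rings, δ a dimension function). -/
theorem result (X : Scheme.{u}) (δ : X → ℤ) (hX : Cyc.IsSetup X δ) (U : X.Opens) (k : ℤ) (α β : AlgebraicCycle X ℤ) (hα : α ∈ Cyc.Zk X δ k) (hβ : β ∈ Cyc.Zk X δ k) (αU βU : AlgebraicCycle (↑U : Scheme.{u}) ℤ) (hαU : ∀ u : ↥U, αU u = α (U.ι u)) (hβU : ∀ u : ↥U, βU u = β (U.ι u)) (h : Cyc.RatEquiv (fun u : ↥U => δ (U.ι u)) k αU βU) : ∃ γ : AlgebraicCycle X ℤ, γ ∈ Cyc.Zk X δ k ∧ (∀ x : X, x ∈ U → γ x = 0) ∧ Cyc.RatEquiv δ k α (β + γ) := by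
  haveI := hX.1
  obtain ⟨ι, ξ, f, hk, hf, hlf, hsum⟩ := h
  choose f' hf' hmap using fun i => Groth.Agent.H22Alg.CycDiv.exists_lift_residueField U (ξ i) (hf i)
  have hlf' := Groth.Agent.H22Alg.CycDiv.locFinFamily_ι U ξ hlf
  obtain ⟨c, hc⟩ := Groth.Agent.H22Alg.CycDiv.exists_cycle_sum (ξ := fun i => U.ι (ξ i)) (f := f') hX.2.2 hf' hlf'
  refine ⟨α - β - c, ?_, ?_, ?_⟩
  · intro x hx
    show α x - β x - c x = 0
    rw [hα x hx, hβ x hx, hc, finsum_eq_zero_of_forall_eq_zero fun i =>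
      Groth.Agent.H22Alg.CycDiv.eq_zero_of_delta_ne (ξ := fun i => U.ι (ξ i)) hk i hx]
    ring
  · intro x hx
    obtain ⟨u, rfl⟩ : x ∈ Set.range U.ι := by rw [Scheme.Opens.range_ι]; exact hx
    have h1 : α (U.ι u) - β (U.ι u) =
        ∑ᶠ i, Cyc.divFun (X := (U : Scheme.{u})) (fun v => δ (U.ι v)) (ξ i) (f i) u := by
      refine Eq.trans ?_ (hsum u)
      show α (U.ι u) - β (U.ι u) = αU u - βU u
      exact (congrArg₂ (· - ·) (hαU u) (hβU u)).symm
    show α (U.ι u) - β (U.ι u) - c (U.ι u) = 0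
    rw [hc, h1, finsum_congr fun i => Groth.Agent.H22Alg.CycDiv.divFun_opens U δ (ξ i) (f i) (f' i) (hmap i) u,
      sub_self]
  · refine ⟨ι, fun i => U.ι (ξ i), f', hk, hf', hlf', fun x => ?_⟩
    show α x - (β x + (α x - β x - c x)) = _
    rw [← hc]
    ring

end Groth.Agent.S1863
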