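import Groth.Statements.S12674
import Groth.Agent.H3Cyc.SymSection
import Groth.Agent.H3Cyc.SplitFlat
import Groth.Agent.H3Cyc.DualFilt
import Groth.Agent.H3Cyc.VBComp
import Groth.Agent.H3Cyc.OpenSupp
import Groth.Agent.H3Cyc.FlatComp
import Groth.Agent.H3Cyc.RelDimBC
import Groth.Agent.H3CAlg.PrimeMod
import Groth.Agent.H22Alg.CycBasic
import Groth.Agent.H22Alg.TorIndepLocal
import Groth.Agent.H22Alg.KPushCl
import Groth.Agent.H22Alg.ExtPowSum
import Groth.Agent.H12AlgSp.RelDim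
import Groth.Agent.H26Gr.QuotBC
-- import your own Groth.Agent.* helpers here

set_option autoImplicit false
set_option backward.isDefEq.respectTransparency.types false
universe u
open CategoryTheory CategoryTheory.Limits AlgebraicGeometry
attribute [local instance] HasDerivedCategory.standard
open Cyc

namespace Groth.Agent.S12674

open Groth.Agent Groth.Agent.H3Cyc
open Groth.Agent.H3Cyc.SplitChern (sg sg_congr)
open RingTheory.Sequence Opposite ZeroObject

theorem es_length {R : Type*} [Semiring R] : ∀ l : List R, ESym.es l l.length = l.prod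
  | [] => by simp
  | x :: xs => by
    rw [List.length_cons, ESym.es_cons_succ, ESym.es_eq_zero xs (xs.length + 1) (Nat.lt_succ_self _),
      es_length xs, List.prod_cons, zero_add]

theorem ofRank_iso {X : Scheme.{u}} {r : ℕ} {E F : X.Modules} (e : E ≅ F) (h : FlatMod.IsFinLocFreeOfRank r E) :
    FlatMod.IsFinLocFreeOfRank r F := fun x => by
  obtain ⟨U, hx, ⟨c⟩⟩ := h x
  exact ⟨U, hx, ⟨(Scheme.Modules.restrictFunctor U.ι).mapIso e.symm ≪≫ c⟩⟩

theorem ofRank_dual {X : Scheme.{u}} {r : ℕ} {E : X.Modules} (hE : FlatMod.IsFinLocFreeOfRank r E) :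
    FlatMod.IsFinLocFreeOfRank r (RefHull.dual E) := fun x => by
  have hEf := H22Alg.KPullLam.finLocFree_of_rank hE
  have hD := H10Inj.SheafExt.isFinLocFree_dual hEf
  obtain ⟨U, hx, ⟨c⟩⟩ := hE x
  obtain ⟨V, n, hxV, ⟨d⟩⟩ := hD x
  obtain ⟨W, hW, hxW, hle⟩ := exists_isAffineOpen_mem_and_subset (X := X) (U := U ⊓ V) (x := x) ⟨hx, hxV⟩
  obtain ⟨bE⟩ := H8Props.FinLocFree.exists_basis_of_chart E c fun y hy => (hle hy).1
  obtain ⟨bD⟩ := H8Props.FinLocFree.exists_basis_of_chart _ d fun y hy => (hle hy).2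
  obtain ⟨sE⟩ := H22Alg.ExtPowSum.exists_stalkBasis (H8Props.FinLocFree.isQCoh_of_isFinLocFree E hEf) hW bE hxW
  obtain ⟨sD⟩ := H22Alg.ExtPowSum.exists_stalkBasis (H8Props.FinLocFree.isQCoh_of_isFinLocFree _ hD) hW bD hxW
  have h1 := (H29Ref.dualEquiv E (H8Props.FinLocFree.isFP_of_isFinLocFree E hEf) x).finrank_eq
  rw [Module.finrank_eq_card_basis sD, Module.finrank_eq_card_basis sE.dualBasis, Fintype.card_fin,
    Fintype.card_fin] at h1
  exact h1 ▸ ⟨V, hxV, ⟨d⟩⟩

theorem hasRelDim_pi {X : Scheme.{u}} {r : ℕ} {Q : X.Modules} (hq : Coh.IsQCoh Q)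
    (hQ : FlatMod.IsFinLocFreeOfRank r Q) (A : RelSpec.QCAlg X) (j : Q ⟶ A.toModule)
    (hA : RelSpec.IsSymAlg Q A j) :
    Flat A.π ∧ LocallyOfFiniteType A.π ∧ Cyc.HasRelDim A.π r := by
  obtain ⟨P, p, O1, i, φ, hB, hi, hip, -⟩ := VBComp.exists_completion hq hQ A j hA
  haveI := hi
  haveI := hB.isProper
  haveI := hB.flat
  rw [← hip]
  exact ⟨inferInstance, inferInstance, H12AlgSp.hasRelDim_of_fibreDimAt _ r fun x => by
    rw [H8Props.FieldDim.fibreDimAt_openImmersion_comp]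
    exact H22Alg.CycBasic.fibreDimAt_of_hasRelDim p hB.hasRelDim (i x)⟩

theorem pull_sg {X Y : Scheme.{u}} (f : Y ⟶ X) [Flat f] {δ : X → ℤ} {δY : Y → ℤ} (hY : Cyc.IsSetup Y δY)
    (hX : Cyc.IsSetup X δ) {d : ℤ} (hd : FlatRat.MaxDim f δY δ d) (m : ℤ) (a : AlgebraicCycle X ℤ)
    (ha : a ∈ Cyc.Zk X δ m) (b : AlgebraicCycle Y ℤ) (hb : b ∈ Cyc.Zk Y δY (m + d))
    (hab : ⇑b = Cyc.pullFun f δY δ d ⇑a) : Tot.Pull f hY hX hd (sg a ha) = sg b hb := by
  funext l
  simp only [SplitChern.sg]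
  by_cases hl : l = m + d
  · subst hl
    rw [Tot.Pull_single f hY hX hd m _ rfl, Tot.single_apply]
    exact Chow.pull_cl f hY hX hd _ a ha b hb hab
  · rw [Pi.single_eq_of_ne hl, Tot.Pull_apply f hY hX hd _ (show l = l - d + d by ring),
      Pi.single_eq_of_ne (by omega), map_zero]

/-- The stalk of the inverse image of the module of a point at a point over it. -/
theorem stalk_pull_primeMod {X Y : Scheme.{u}} (h : Y ⟶ X) (y : Y) {a : X} (ha : h y = a) :
    Nonempty (((Scheme.Modules.pullback h).obj (H3CAlg.PrimeMod.primeMod a)).presheaf.stalk y ≃ₗ[Y.presheaf.stalk y]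
      Y.presheaf.stalk y ⧸ (IsLocalRing.maximalIdeal (X.presheaf.stalk (h y))).map (h.stalkMap y).hom) := by
  subst ha
  letI := H06Mod.stalkAlgebra h y
  obtain ⟨e⟩ := H3CAlg.PrimeMod.stalk_primeMod (specializes_rfl (x := h y))
  exact ⟨(H06Mod.pullStalkEquiv h _ y).symm.trans ((TensorProduct.AlgebraTensorModule.congr (LinearEquiv.refl _ _)
    (e.trans (Submodule.quotEquivOfEq _ _ (H3CAlg.IntPt.stalkIdeal_ptIdeal_self (h y))))).trans
      (Algebra.TensorProduct.quotIdealMapEquivTensorQuot (Y.presheaf.stalk y)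
        (IsLocalRing.maximalIdeal (X.presheaf.stalk (h.base y)))).toLinearEquiv.symm)⟩

theorem length_quot_quot {R : Type u} [CommRing R] (J I : Ideal R) {M : Type u} [AddCommGroup M] [Module R M]
    (ε : M ≃ₗ[R] R ⧸ J) :
    Module.length R (M ⧸ (I • (⊤ : Submodule R M))) = Module.length R (R ⧸ (J ⊔ I)) := by
  have h1 : (I • (⊤ : Submodule R M)).map (ε : M →ₗ[R] R ⧸ J) = Submodule.map (Submodule.mkQ J) (J ⊔ I : Submodule R R) := by
    rw [Submodule.map_smul'', Submodule.map_top, LinearEquiv.range, Submodule.map_sup, Submodule.mkQ_map_self,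
      bot_sup_eq]
    refine Eq.symm ?_
    rw [show (I : Submodule R R) = I • ⊤ by rw [smul_eq_mul, Ideal.mul_top], Submodule.map_smul'',
      Submodule.map_top, Submodule.range_mkQ, smul_eq_mul, Ideal.mul_top]
  exact ((Submodule.Quotient.equiv _ _ ε h1).trans
    (Submodule.quotientQuotientEquivQuotient J (J ⊔ I) le_sup_left)).length_eq

theorem length_closed {R S : Type u} [CommRing R] [CommRing S] (f : R →+* S) (hf : Function.Surjective f)
    (J : Ideal R) : Module.length R (R ⧸ (J ⊔ RingHom.ker f)) = Module.length S (S ⧸ J.map f) := by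
  letI := f.toAlgebra
  rw [← Module.length_eq_of_surjective (S := R) (R := S) (M := S ⧸ J.map f) hf]
  let q := (Ideal.Quotient.mkₐ R (J.map f)).comp (Algebra.ofId R S)
  have hq : Function.Surjective q := Ideal.Quotient.mk_surjective.comp hf
  refine ((Submodule.quotEquivOfEq _ _ ?_).trans (Ideal.quotientKerAlgEquivOfSurjective (f := q) hq).toLinearEquiv).length_eq
  show _ = (RingHom.ker (Ideal.Quotient.mk (J.map f))).comap f
  rw [Ideal.mk_ker, Ideal.comap_map_of_surjective _ hf, ← RingHom.ker_eq_comap_bot]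

/-- Generators of the length of a regular sequence are regular on a quotient ring. -/
theorem regGen_quot {R : Type u} [CommRing R] [IsLocalRing R] [IsNoetherianRing R] {J I : Ideal R}
    (hJ : J ≤ IsLocalRing.maximalIdeal R) {e : ℕ} (x : Fin e → R) (hx : Ideal.span (Set.range x) = I)
    (hI : I ≤ IsLocalRing.maximalIdeal R) (h : IsWeaklyRegular (R ⧸ J) (List.ofFn x)) {M : Type u} [AddCommGroup M]
    [Module R M] (ε : M ≃ₗ[R] R ⧸ J) : TopChern.RegGen I M e := by
  intro g hg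
  rw [ε.isWeaklyRegular_congr]
  haveI : Nontrivial (R ⧸ J) :=
    Ideal.Quotient.nontrivial_iff.mpr (ne_top_of_le_ne_top (IsLocalRing.maximalIdeal.isMaximal R).ne_top hJ)
  haveI : IsLocalRing (R ⧸ J) := IsLocalRing.of_surjective' _ (Ideal.Quotient.mk_surjective (I := J))
  have h1 : IsWeaklyRegular (R ⧸ J) ((List.ofFn x).map (algebraMap R (R ⧸ J))) :=
    (isWeaklyRegular_map_algebraMap_iff _ _ _).mpr h
  have h2 : IsRegular (R ⧸ J) ((List.ofFn x).map (algebraMap R (R ⧸ J))) := by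
    rw [IsLocalRing.isRegular_iff_isWeaklyRegular_of_subset_maximalIdeal]
    · exact h1
    intro r hr
    obtain ⟨s, hs, rfl⟩ := List.mem_map.mp hr
    obtain ⟨l, rfl⟩ := List.mem_ofFn.mp hs
    rw [IsLocalRing.mem_maximalIdeal]
    intro hu
    haveI : IsLocalHom (algebraMap R (R ⧸ J)) :=
      IsLocalHom.of_surjective _ Ideal.Quotient.mk_surjective
    exact (IsLocalRing.mem_maximalIdeal _).mp (hI (hx ▸ Ideal.subset_span ⟨l, rfl⟩)) (isUnit_of_map_unit _ _ hu)
  have hlen : ((List.ofFn x).map (algebraMap R (R ⧸ J))).length = e := by simp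
  have h3 := H22Alg.TorIndepLocal.isRegular_of_span_eq h2 (fun l => algebraMap R (R ⧸ J) (g (Fin.cast hlen l))) (by
    rw [← Ideal.map_ofList, H13CInt.ofList_ofFn, hx, ← hg, Ideal.map_span, ← Set.range_comp]
    exact congrArg Ideal.span ((finCongr hlen).surjective.range_comp (fun l => algebraMap R (R ⧸ J) (g l))))
  rw [← isWeaklyRegular_map_algebraMap_iff (R ⧸ J), List.map_ofFn]
  have e2 : List.ofFn (fun l => algebraMap R (R ⧸ J) (g (Fin.cast hlen l))) = List.ofFn (algebraMap R (R ⧸ J) ∘ g) :=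
    List.ext_getElem (by simp) fun n h₁ h₂ => by rw [List.getElem_ofFn, List.getElem_ofFn]; rfl
  exact e2 ▸ h3.toIsWeaklyRegular

/-- For a short exact sequence 0 → N' → N → E → 0 of finite locally free O_X-modules of constant ranks
r', r' + e and e, write π : V = Spec Sym(N^∨) → X and π' : V' = Spec Sym((N')^∨) → X for the
associated vector bundles and i : V' → V for the closed immersion induced by the dual map N^∨ →
(N')^∨. Then i_*((π')^*α) = π^*(c_e(E) ∩ α) in CH_{k+r'}(V) for every k-cycle α on X (c_e = c_top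
for constant rank e). The duals are Hom_{O_X}(-, O_X) (DCoh.sheafHom, existence carried as
hypotheses), the vector bundles are the relative spectra of their symmetric algebras
(RelSpec.IsSymAlg, RelSpec.QCAlg.spec), i is RelSpec.QCAlg.specMap of the algebra map extending the
dual N^∨ → (N')^∨ of N' → N (the mate of N' ⊗ - → N ⊗ - under the tensor-Hom adjunctions), its being
a closed immersion is carried as a hypothesis, and flat pullbacks are coefficientwise with the
induced dimension functions. (The published statement allows nonconstant ranks through c_top;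
constant ranks are stated here.) Setting: (X, δ) with Cyc.IsSetup stands for a scheme locally of
finite type over the base (S, δ) (X locally Noetherian with universally catenary local rings, δ a
dimension function); (p : P → X, O_P(1), q) is the projective bundle of E given by its universal
property (KRR.IsProjBundle), p is proper and δP is the induced dimension function (Cyc.DeltaCompat);
a tuple γ with Cyc.IsChernCap represents (c_0(E) ∩ α, …, c_r(E) ∩ α) through the defining relation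
Σ_i (-1)^i c_1(O_P(1))^i ∩ p^*(γ_{r-i}) ∼_rat 0 on P, and classes are compared up to rational
equivalence of representing cycles. -/
theorem result (X : Scheme.{u}) (δ : X → ℤ) (hX : Cyc.IsSetup X δ) (r' e : ℕ) (N' N E : X.Modules) (hN' : FlatMod.IsFinLocFreeOfRank r' N') (hN : FlatMod.IsFinLocFreeOfRank (r' + e) N) (hPE : FlatMod.IsFinLocFreeOfRank e E) (P : Scheme.{u}) (p : P ⟶ X) (O1 : P.Modules) (q : (Scheme.Modules.pullback p).obj E ⟶ O1) (hP : KRR.IsProjBundle p E O1 q) [IsProper p] (δP : P → ℤ) (hPs : Cyc.IsSetup P δP) (hδ : Cyc.DeltaCompat p δP δ) (a : N' ⟶ N) (b : N ⟶ E) (hab : a ≫ b = 0) (hex : (ShortComplex.mk a b hab).ShortExact) [DCoh.HasSheafHom N] [DCoh.HasSheafHom N'] (hqN : Coh.IsQCoh ((DCoh.sheafHom N).obj (Coh.structureModule X))) (hqN' : Coh.IsQCoh ((DCoh.sheafHom N').obj (Coh.structureModule X))) (A : RelSpec.QCAlg X) (j : ((DCoh.sheafHom N).obj (Coh.structureModule X)) ⟶ A.toModule) (hA : RelSpec.IsSymAlg ((DCoh.sheafHom N).obj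 (Coh.structureModule X)) A j) (A' : RelSpec.QCAlg X) (j' : ((DCoh.sheafHom N').obj (Coh.structureModule X)) ⟶ A'.toModule) (hA' : RelSpec.IsSymAlg ((DCoh.sheafHom N').obj (Coh.structureModule X)) A' j') (φ : A ⟶ A') (hφ : j ≫ RelSpec.QCAlg.Hom.toModuleMap φ = ((CategoryTheory.conjugateEquiv (DCoh.sheafHomAdj N) (DCoh.sheafHomAdj N')) ((DCoh.tensorBi (X := X)).map a)).app (Coh.structureModule X) ≫ j') [IsClosedImmersion (RelSpec.QCAlg.specMap φ)] (δV : ↥A.spec → ℤ) (hV : Cyc.IsSetup A.spec δV) (hpδ : Cyc.DeltaCompat A.π δV δ) (δV' : ↥A'.spec → ℤ) (hV' : Cyc.IsSetup A'.spec δV') (hp'δ : Cyc.DeltaCompat A'.π δV' δ) (k : ℤ) (α : AlgebraicCycle X ℤ) (hα : α ∈ Cyc.Zk X δ k) (γ : Fin (e + 1) → AlgebraicCycle X ℤ) (hγ : Cyc.IsChernCap p δ δP O1 e k α γ) (β' : AlgebraicCycle A'.spec ℤ) (hβ' : ⇑β' = Cyc.pullFun A'.π δV' δ (r' : ℤ) ⇑α) (β : AlgebraicCycle A.spec ℤ) (hβ : ⇑β = Cyc.pullFun A.π δV δ ((r' : ℤ) + e) ⇑(γ (Fin.last e))) : Cyc.RatEquiv δV (k + r') (AlgebraicCycle.map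 (RelSpec.QCAlg.specMap φ) δV' δV β') β := by
  classical
  haveI := hX.1
  haveI := hV.1
  have hNf := H22Alg.KPullLam.finLocFree_of_rank hN
  have hN'f := H22Alg.KPullLam.finLocFree_of_rank hN'
  have hEf := H22Alg.KPullLam.finLocFree_of_rank hPE
  let cN := H10Coh.SheafHom.homShIso N (Coh.structureModule X)
  let cN' := H10Coh.SheafHom.homShIso N' (Coh.structureModule X)
  have hQr := ofRank_iso cN.symm (ofRank_dual hN)
  have hQ'r := ofRank_iso cN'.symm (ofRank_dual hN')
  let a' := ((CategoryTheory.conjugateEquiv (DCoh.sheafHomAdj N) (DCoh.sheafHomAdj N'))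
    ((DCoh.tensorBi (X := X)).map a)).app (Coh.structureModule X)
  let u : RefHull.dual E ⟶ (DCoh.sheafHom N).obj (Coh.structureModule X) := RefFun.dualMap b ≫ cN.inv
  obtain ⟨wd, hd0⟩ := H3Cyc.Filt.dual_shortExact a b hab hex hN'f hNf hEf
  have hconj : a' ≫ cN'.hom = cN.hom ≫ RefFun.dualMap a := SymSplit.conj_homShIso a _
  have wu : u ≫ a' = 0 := by
    rw [← cancel_mono cN'.hom, Category.assoc, hconj, Category.assoc, Iso.inv_hom_id_assoc, wd, zero_comp]
  have hexu : (ShortComplex.mk u a' wu).ShortExact :=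
    ShortComplex.shortExact_of_iso (S₁ := ShortComplex.mk _ _ wd) (ShortComplex.isoMk (Iso.refl _) cN.symm cN'.symm (by simp [u])
      (by
        show cN.inv ≫ a' = RefFun.dualMap a ≫ cN'.inv
        rw [Iso.inv_comp_eq, ← Category.assoc, Iso.eq_comp_inv, hconj])) hd0
  have hAs := hA.isAffSym hqN
  have hA's := hA'.isAffSym hqN'
  obtain ⟨hflat, hlft, hrA⟩ := hasRelDim_pi hqN hQr A j hA
  obtain ⟨hflat', hlft', hrA'⟩ := hasRelDim_pi hqN' hQ'r A' j' hA'
  haveI := hflat
  haveI := hflat'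
  haveI := hlft
  haveI := hlft'
  set i := RelSpec.QCAlg.specMap φ with hi
  have hiπ : i ≫ A.π = A'.π := RelSpec.QCAlg.specMap_π φ
  obtain rfl : δV' = fun v => δV (i v) := OpenSupp.deltaCompat_unique A'.π hp'δ
    (hiπ ▸ BCPush.deltaCompat_comp i A.π (Reduction.deltaCompat_immersion i δV) hpδ)
  obtain ⟨σ, hσ⟩ := SymSection.exists_section j hEf u
  have hED := ofRank_dual hPE
  haveI : Coh.IsQCoh ((DCoh.sheafHom N).obj (Coh.structureModule X)) := hqN
  have hloc : ∀ v : A.spec, ∃ x : Fin e → A.spec.presheaf.stalk v,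
      TopChern.IDL σ v = Ideal.span (Set.range x) ∧
      ((∀ l, x l ∈ IsLocalRing.maximalIdeal (A.spec.presheaf.stalk v)) → v ∈ Set.range i) ∧
      (∀ v' : A'.spec, ∀ h : i v' = v, RingHom.ker ((A.spec.presheaf.stalkCongr (.of_eq h.symm)).hom ≫
        i.stalkMap v').hom = Ideal.span (Set.range x)) ∧
      IsWeaklyRegular (A.spec.presheaf.stalk v ⧸
        (IsLocalRing.maximalIdeal (X.presheaf.stalk (A.π v))).map (A.π.stalkMap v).hom) (List.ofFn x) := fun v => by
    obtain ⟨U₁, h₁, ⟨c₁⟩⟩ := hED (A.π v)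
    obtain ⟨U₂, h₂, ⟨c₂⟩⟩ := hQ'r (A.π v)
    obtain ⟨U, hU, hvU, hle⟩ := exists_isAffineOpen_mem_and_subset (X := X) (U := U₁ ⊓ U₂) (x := A.π v) ⟨h₁, h₂⟩
    obtain ⟨k⟩ := H8Props.FinLocFree.exists_basis_of_chart _ c₁ (V := U) fun y hy => (hle hy).1
    obtain ⟨k'⟩ := H8Props.FinLocFree.exists_basis_of_chart _ c₂ (V := U) fun y hy => (hle hy).2
    haveI := Module.Free.of_basis k'
    haveI : ((DCoh.sheafHom N).obj (Coh.structureModule X)).IsQuasicoherent := hqN
    haveI : ((DCoh.sheafHom N').obj (Coh.structureModule X)).IsQuasicoherent := hqN'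
    haveI := hexu.epi_g
    obtain ⟨x, hx, hv⟩ := SymSplit.exists_coords hexu hAs hA's φ hφ hU
      (H10Coh.surjective_app_of_epi a' hU) k
    obtain ⟨g1, g2, g3⟩ := hv v hvU
    exact ⟨fun l => A.spec.presheaf.germ _ v hvU (x l), hσ U hU e k x hx v hvU, g1, g2, g3⟩
  have hker : ∀ v' : A'.spec, RingHom.ker (i.stalkMap v').hom = TopChern.IDL σ (i v') := fun v' => by
    obtain ⟨x, h1, -, h3, -⟩ := hloc (i v')
    rw [h1, ← h3 v' rfl]
    simp
  have hrange : ∀ v : A.spec, TopChern.IDL σ v ≤ IsLocalRing.maximalIdeal _ → v ∈ Set.range i := fun v hv => by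
    obtain ⟨x, h1, h2, -, -⟩ := hloc v
    exact h2 fun l => hv (h1 ▸ Ideal.subset_span ⟨l, rfl⟩)
  -- the splitting
  have hπE := H26Gr.isFinLocFreeOfRank_pullback A.π hPE
  obtain ⟨Y, g, δY, hY, hg, hprop, hflg, d, hrel, hd, hinj, hsp⟩ :=
    SplitChern.exists_setting hV 1 (fun _ => (Scheme.Modules.pullback A.π).obj E) (fun _ => e) fun _ => hπE
  obtain ⟨ls, hls, hlen⟩ := hsp 0
  haveI := hY.1
  have hdA := FlatRat.maxDim_of_hasRelDim A.π hrA hpδ
  have hdA' := FlatRat.maxDim_of_hasRelDim A'.π hrA' hp'δ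
  have hgA : Cyc.DeltaCompat (g ≫ A.π) δY δ := BCPush.deltaCompat_comp g A.π hg hpδ
  have hrgA : Cyc.HasRelDim (g ≫ A.π) (d + (r' + e)) := H22Alg.CycBasic.hasRelDim_comp g A.π hrel hrA
  have hdgA : FlatRat.MaxDim (g ≫ A.π) δY δ ((d + (r' + e) : ℕ) : ℤ) :=
    FlatRat.maxDim_of_hasRelDim _ hrgA hgA
  -- cycles
  have hγm : γ (Fin.last e) ∈ Cyc.Zk X δ (k - e) := by simpa using hγ.2.1 (Fin.last e)
  obtain ⟨α₁, hα₁f, hα₁⟩ := C1Api.exists_pullFun_cycle (g ≫ A.π) hY hX hdgA k α hα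
  obtain ⟨γ₁, hγ₁f, hγ₁⟩ := C1Api.exists_pullFun_cycle (g ≫ A.π) hY hX hdgA (k - e) _ hγm
  have hβ'm : β' ∈ Cyc.Zk A'.spec (fun v => δV (i v)) (k + r') := fun v hv => by
    rw [hβ']
    simp only [Cyc.pullFun]
    split_ifs with h
    · rw [show α (A'.π v) = 0 from hα _ (by intro h'; rw [h'] at h; exact hv h), zero_mul]
    · rfl
  have hμm : AlgebraicCycle.map i (fun v => δV (i v)) δV β' ∈ Cyc.Zk A.spec δV (k + r') :=
    Chow.map_mem (δ := fun v => δV (i v)) i β' hβ'm
  have hβm : β ∈ Cyc.Zk A.spec δV (k + r') := fun v hv => by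
    rw [hβ]
    simp only [Cyc.pullFun]
    split_ifs with h
    · rw [show γ (Fin.last e) (A.π v) = 0 from hγm _ (by intro h'; rw [h'] at h; exact hv (by omega)), zero_mul]
    · rfl
  obtain ⟨μ₁, hμ₁f, hμ₁⟩ := C1Api.exists_pullFun_cycle g hY hV hd (k + r') _ hμm
  let sY : ((Scheme.Modules.pullback g).obj ((Scheme.Modules.pullback A.π).obj E)).presheaf.obj (op ⊤) :=
    OmegaSh.pullSect g _ ⊤ σ
  obtain ⟨β₁, hβ₁, hsupp, hcl, hcoef⟩ :=
    TopChern.exists_topF e hY hls hlen sY (k + ((d + (r' + e) : ℕ) : ℤ)) α₁ hα₁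
  refine SplitChern.ratEquiv_of_Pull hinj hμm hβm ?_
  -- the right side
  have hR : Tot.Pull g hY hV hd (sg β hβm) = sg β₁ hβ₁ := by
    have hγ₁' : γ₁ ∈ Cyc.Zk Y δY (k + r' + d) := by
      have := hγ₁
      rwa [show k - (e : ℤ) + ((d + (r' + e) : ℕ) : ℤ) = k + r' + d by push_cast; ring] at this
    rw [pull_sg g hY hV hd (k + r') β hβm γ₁ hγ₁' (by
        rw [hγ₁f, hβ, FlatRat.pullFun_comp g A.π hY hV hd (by exact_mod_cast hdA)]
        congr 1),
      ← sg_congr hγ₁ hγ₁' (by push_cast; ring) rfl, ← pull_sg (g ≫ A.π) hY hX hdgA (k - e) _ hγm γ₁ hγ₁ hγ₁f]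
    simp only [SplitChern.sg]
    rw [SplitChern.master_flat hX hPE hP hPs hδ hα hγ (g ≫ A.π) hY hgA hrgA hdgA
        (ls := ls) (hls.toFilt.of_iso ((Scheme.Modules.pullbackComp g A.π).app E)) hlen (Fin.last e) (by simp) hγm,
      show ((Fin.last e : Fin (e + 1)) : ℕ) = (ls.map (H3Cyc.Filt.cc hY)).length by simp [hlen], es_length]
    have := pull_sg (g ≫ A.π) hY hX hdgA k α hα α₁ hα₁ hα₁f
    simp only [SplitChern.sg] at this hcl
    rw [this, ← hcl]
  have hμ₁' : μ₁ ∈ Cyc.Zk Y δY (k + r' + d) := hμ₁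
  rw [hR, pull_sg g hY hV hd (k + r') _ hμm μ₁ hμ₁' hμ₁f]
  refine sg_congr _ _ (by push_cast; ring) (DFunLike.coe_injective (funext fun y => ?_))
  -- pointwise
  obtain ⟨x, hx1, -, -, hxreg⟩ := hloc (g y)
  obtain ⟨bY⟩ := SecIdeal.exists_basis hls y
  obtain ⟨n, ⟨bV⟩⟩ := H22Alg.KExists.stalk_free (H22Alg.KPullLam.finLocFree_of_rank hπE) (g y)
  have hidl : TopChern.IDL sY y = (TopChern.IDL σ (g y)).map (g.stalkMap y).hom := by
    refine Eq.trans ?_ (SecIdeal.idl_pullStalk g _ y bV _)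
    exact congrArg _ (H06Mod.pullStalk_germ g _ y ⊤ trivial σ).symm
  have hmem : ((Scheme.Modules.pullback g).obj ((Scheme.Modules.pullback A.π).obj E)).presheaf.germ ⊤ y trivial sY ∈
      IsLocalRing.maximalIdeal (Y.presheaf.stalk y) • (⊤ : Submodule (Y.presheaf.stalk y) _) ↔
      TopChern.IDL σ (g y) ≤ IsLocalRing.maximalIdeal _ := by
    rw [SecIdeal.mem_smul_top_iff bY]
    show TopChern.IDL sY y ≤ _ ↔ _
    rw [hidl, Ideal.map_le_iff_le_comap, IsLocalRing.maximalIdeal_comap (g.stalkMap y).hom]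
  rw [hμ₁f]
  simp only [Cyc.pullFun]
  have hK : k + ((d + (r' + e) : ℕ) : ℤ) - e = k + r' + d := by push_cast; ring
  by_cases hy : δY y = k + r' + d
  swap
  · rw [hβ₁ y (by rw [hK]; exact hy)]
    split_ifs with h
    · rw [show (AlgebraicCycle.map i (fun v => δV (i v)) δV β') (g y) = 0 from hμm _ (by omega), zero_mul]
    · rfl
  by_cases hz : g y ∈ Set.range i
  swap
  · rw [Gysin.map_immersion_eq_zero i δV β' _ hz]
    have hb : β₁ y = 0 := by
      by_contra hne
      exact hz (hrange _ (hmem.mp (hsupp y hne)))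
    simp [hb]
  obtain ⟨v', hv'⟩ := id hz
  rw [show (AlgebraicCycle.map i (fun v => δV (i v)) δV β') (g y) = β' v' from
    hv' ▸ Gysin.map_immersion_apply i δV β' v', hβ']
  simp only [Cyc.pullFun]
  have hle : TopChern.IDL σ (g y) ≤ IsLocalRing.maximalIdeal _ := by
    rw [← hv', ← hker]
    exact IsLocalRing.le_maximalIdeal (RingHom.ker_ne_top _)
  have hb1 := H22Alg.CycBasic.delta_le_of_hasRelDim g hrel hg y
  have hb2 := H22Alg.CycBasic.delta_le_of_hasRelDim A'.π hrA' hp'δ v'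
  have hπv : A'.π v' = A.π (g y) := by rw [← hv', ← Scheme.Hom.comp_apply, hiπ]
  rw [hπv] at hb2
  rw [show α (A'.π v') = α (A.π (g y)) by rw [hπv], show δ (A'.π v') = δ (A.π (g y)) by rw [hπv], hv']
  simp only [hv'] at hb2
  let J := (IsLocalRing.maximalIdeal (X.presheaf.stalk (A.π (g y)))).map (A.π.stalkMap (g y)).hom
  let JY := (IsLocalRing.maximalIdeal (X.presheaf.stalk (A.π (g y)))).map ((g ≫ A.π).stalkMap y).hom
  have hJY : JY = J.map (g.stalkMap y).hom := by
    rw [Ideal.map_map]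
    exact congrArg (Ideal.map · _) (congrArg CommRingCat.Hom.hom (Scheme.Hom.stalkMap_comp g A.π y))
  have hJ : J ≤ IsLocalRing.maximalIdeal _ := IsLocalRing.map_maximalIdeal_le (A.π.stalkMap (g y)).hom
  -- the coefficient
  have hfund : ∀ ξ, ξ ⤳ y → δ (A.π (g ξ)) = k → A.π (g ξ) = A.π (g y) := fun ξ hξ h => by
    by_contra hne
    have := (hX.2.2 _ _ (hξ.map (g ≫ A.π).continuous) hne).1
    simp only [Scheme.Hom.comp_apply] at this
    omega
  have hKd : ∀ ξ, ξ ⤳ y → δY ξ ≤ δ (A.π (g ξ)) + ((d + (r' + e) : ℕ) : ℤ) := fun ξ _ =>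
    H22Alg.CycBasic.delta_le_of_hasRelDim _ hrgA hgA ξ
  have hzk : δY y = k + ((d + (r' + e) : ℕ) : ℤ) - (e : ℤ) := by rw [hK]; exact hy
  by_cases hk : δ (A.π (g y)) = k
  swap
  · haveI hsub : ∀ ξ, Subsingleton ((0 : Y.Modules).presheaf.stalk ξ) := fun ξ =>
      ModuleCat.subsingleton_of_isZero ((DerSch.stalkFunctor Y ξ).map_isZero (isZero_zero _))
    have h0fund : TopChern.FundF δY (k + ((d + (r' + e) : ℕ) : ℤ)) ⇑α₁ 0 (0 : Y.Modules) y := fun ξ hξ => by
      refine ⟨?_, fun hn => (not_subsingleton _ (hsub ξ)).elim⟩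
      rw [zero_mul, hα₁f]
      simp only [Cyc.pullFun]
      split_ifs with h
      · rw [show α ((g ≫ A.π) ξ) = 0 from hα _ fun h' => ?_, zero_mul]
        simp only [Scheme.Hom.comp_apply] at h'
        rw [← hfund ξ hξ h'] at hk
        exact hk h'
      · rfl
    have h0reg : TopChern.RegGen (TopChern.IDL sY y) ((0 : Y.Modules).presheaf.stalk y) e :=
      fun g' _ => (isWeaklyRegular_iff _ _).mpr fun i hi a b _ => Subsingleton.elim a b
    rw [hcoef y (hmem.mpr hle) hzk 0 0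
      (H16Derived.KFlat.Stalk.isCoh_of_isFinLocFree (H22Alg.KModel.finLocFree_zero (isZero_zero _)))
      h0fund h0reg, hα _ hk]
    simp
  haveI : IsLocallyNoetherian (IntMult.ptIdeal (A.π (g y))).subscheme :=
    LocallyOfFiniteType.isLocallyNoetherian (IntMult.ptIdeal (A.π (g y))).subschemeι
  let F := (Scheme.Modules.pullback (g ≫ A.π)).obj (H3CAlg.PrimeMod.primeMod (A.π (g y)))
  have hFc : Coh.IsCoh F := H3CAlg.ChiPull.isCoh_pullback _ _
    (H22Alg.KPushCl.isCoh_push _ (H8Props.RelPC.isFinLocFree_structure _))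
  obtain ⟨εy⟩ := stalk_pull_primeMod (g ≫ A.π) y (a := A.π (g y)) rfl
  have hIm : TopChern.IDL sY y ≤ IsLocalRing.maximalIdeal (Y.presheaf.stalk y) := by
    rw [hidl]
    exact (Ideal.map_mono hle).trans (IsLocalRing.map_maximalIdeal_le (g.stalkMap y).hom)
  have hJYm : JY ≤ IsLocalRing.maximalIdeal _ := IsLocalRing.map_maximalIdeal_le ((g ≫ A.π).stalkMap y).hom
  have hFfund : TopChern.FundF δY (k + ((d + (r' + e) : ℕ) : ℤ)) ⇑α₁ (α (A.π (g y))) F y := fun ξ hξ => by
    have hn : Nontrivial (F.presheaf.stalk ξ) → A.π (g ξ) = A.π (g y) := fun hn => by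
      have h1 := H3CAlg.PrimeMod.specializes_of_nontrivial _ _ (H3CAlg.ChiPull.nontrivial_of_pullback _ _ ξ hn)
      exact ((hξ.map (g ≫ A.π).continuous).antisymm h1).eq
    refine ⟨?_, fun h => ?_⟩
    · rw [hα₁f, Cyc.sheafFun]
      simp only [Cyc.pullFun]
      by_cases ha : A.π (g ξ) = A.π (g y)
      · obtain ⟨ε⟩ := stalk_pull_primeMod (g ≫ A.π) ξ (a := A.π (g y)) ha
        rw [show α ((g ≫ A.π) ξ) = α (A.π (g y)) from congrArg α ha,
          show δ ((g ≫ A.π) ξ) = k from (congrArg δ ha).trans hk, ← ε.length_eq]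
        split_ifs <;> simp [F]
      · have h0 : α ((g ≫ A.π) ξ) = 0 := hα _ fun h' => ha (hfund ξ hξ h')
        haveI : Subsingleton (F.presheaf.stalk ξ) := not_nontrivial_iff_subsingleton.mp fun h => ha (hn h)
        rw [h0, show Module.length (Y.presheaf.stalk ξ) (F.presheaf.stalk ξ) = 0 from Module.length_eq_zero]
        simp
    · have := hKd ξ hξ
      rw [hn h, hk] at this
      exact this
  have hreg : TopChern.RegGen (TopChern.IDL sY y) (F.presheaf.stalk y) e := by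
    letI := (g.stalkMap y).hom.toAlgebra
    haveI : Module.Flat (A.spec.presheaf.stalk (g y)) (Y.presheaf.stalk y) := Flat.stalkMap g y
    have h1 := SymSplit.isWeaklyRegular_quot_map (T := Y.presheaf.stalk y) J _ hxreg
    rw [List.map_ofFn] at h1
    refine regGen_quot hJYm ((g.stalkMap y).hom ∘ x) ?_ hIm ?_ εy
    · rw [hidl, hx1, Ideal.map_span, Set.range_comp]
    · exact ((Submodule.quotEquivOfEq _ _ hJY.symm).isWeaklyRegular_congr _).mp h1
  have hlen' : Module.length (Y.presheaf.stalk y)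
      (F.presheaf.stalk y ⧸ (TopChern.IDL sY y • (⊤ : Submodule (Y.presheaf.stalk y) (F.presheaf.stalk y)))) =
      Module.length (A'.spec.presheaf.stalk v') (A'.spec.presheaf.stalk v' ⧸
        (IsLocalRing.maximalIdeal (X.presheaf.stalk (A'.π v'))).map (A'.π.stalkMap v').hom) *
      Module.length (Y.presheaf.stalk y) (Y.presheaf.stalk y ⧸
        (IsLocalRing.maximalIdeal (A.spec.presheaf.stalk (g y))).map (g.stalkMap y).hom) := by
    rw [length_quot_quot _ _ εy]
    change Module.length (Y.presheaf.stalk y) (Y.presheaf.stalk y ⧸ (JY ⊔ TopChern.IDL sY y)) = _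
    rw [hJY, hidl, ← Ideal.map_sup,
      H22Alg.CycBasic.length_quot_map (g.stalkMap y).hom (Flat.stalkMap g y)]
    congr 1
    have key : ∀ (v : A.spec), i v' = v → Module.length (A.spec.presheaf.stalk v) (A.spec.presheaf.stalk v ⧸
        ((IsLocalRing.maximalIdeal (X.presheaf.stalk (A.π v))).map (A.π.stalkMap v).hom ⊔ TopChern.IDL σ v)) =
        Module.length (A'.spec.presheaf.stalk v') (A'.spec.presheaf.stalk v' ⧸
          (IsLocalRing.maximalIdeal (X.presheaf.stalk (A'.π v'))).map (A'.π.stalkMap v').hom) := by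
      rintro v rfl
      rw [← hker, length_closed _ (i.stalkMap_surjective v'), Ideal.map_map]
      have : ∀ (f : A'.spec ⟶ X) (_ : f = i ≫ A.π),
          (IsLocalRing.maximalIdeal (X.presheaf.stalk (A.π (i v')))).map
            ((i.stalkMap v').hom.comp (A.π.stalkMap (i v')).hom) =
          (IsLocalRing.maximalIdeal (X.presheaf.stalk (f v'))).map (f.stalkMap v').hom := by
        rintro f rfl
        exact congrArg (Ideal.map · _) (congrArg CommRingCat.Hom.hom (Scheme.Hom.stalkMap_comp i A.π v')).symm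
      rw [this A'.π hiπ.symm]
    exact key _ hv'
  rw [hcoef y (hmem.mpr hle) hzk (α (A.π (g y))) F hFc hFfund hreg, hlen', ENat.toNat_mul,
    if_pos (by omega : δY y = δV (g y) + d), if_pos (by omega : δV (g y) = δ (A.π (g y)) + r')]
  push_cast
  ring

end Groth.Agent.S12674
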