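import Groth.Statements.S1931
import Groth.Agent.H3Cyc.CommApp
-- import your own Groth.Agent.* helpers here

set_option autoImplicit false
universe u
open CategoryTheory AlgebraicGeometry
open CategoryTheory.Limits
open Cyc
open Groth.Agent
open Groth.Agent.H3Cyc

namespace Groth.Agent.S1931

/-- Let (L, s, i : D → X) and (L', s', i' : D' → X) be two invertible modules with global sections and
their zero schemes, and D ∩ D' = D ×_X D' with projections j to D and j' to D' (the zero schemes of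
the restricted sections). For a k-cycle α on X, (j')^*(i^*α) ∼_rat j^*((i')^*α) as (k − 2)-cycles on
D ∩ D'. The Gysin maps on D and D' are computed from any global sections σ' of L'|_D and σ of
L|_{D'} whose zero schemes are j and j'. Here i : D → X is the zero scheme of a global section s of
the invertible module L (Cyc.IsZeroSchemeOf), the Gysin map i^* : Z_{k+1}(X) → CH_k(D) is computed
on coefficient functions as c_1(L) ∩ − with the rational sections taken to be s where it is nonzero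
(Cyc.gysinChoice) and restricted to the points of D, and classes on D are compared up to rational
equivalence on D for the restricted dimension function. A pair (X, δ) with Cyc.IsSetup plays the
role of a scheme locally of finite type over a base with a dimension function (X locally Noetherian
with universally catenary local rings, δ a dimension function), and Cyc.DeltaCompat records that the
dimension function upstairs is the induced one. -/
theorem result (X D D' : Scheme.{u}) (δ : X → ℤ) (hX : Cyc.IsSetup X δ) (L L' : X.Modules) (hL : PicF.IsInvertible L) (hL' : PicF.IsInvertible L') (s : L.presheaf.obj (Opposite.op ⊤)) (s' : L'.presheaf.obj (Opposite.op ⊤)) (i : D ⟶ X) (i' : D' ⟶ X) [IsClosedImmersion i] [IsClosedImmersion i'] (hD : Cyc.IsZeroSchemeOf i L s) (hD' : Cyc.IsZeroSchemeOf i' L' s') (σ' : ((Scheme.Modules.pullback i).obj L').presheaf.obj (Opposite.op ⊤)) (hσ' : Cyc.IsZeroSchemeOf (pullback.fst i i') ((Scheme.Modules.pullback i).obj L')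 σ') (σ : ((Scheme.Modules.pullback i').obj L).presheaf.obj (Opposite.op ⊤)) (hσ : Cyc.IsZeroSchemeOf (pullback.snd i i') ((Scheme.Modules.pullback i').obj L) σ) (k : ℤ) (α : AlgebraicCycle X ℤ) (hα : α ∈ Cyc.Zk X δ k) (w : (ξ : X) → Cyc.secFibre L ξ) (hw : ∀ ξ, w ξ ≠ 0) (w' : (ξ : X) → Cyc.secFibre L' ξ) (hw' : ∀ ξ, w' ξ ≠ 0) (w₁ : (d : D) → Cyc.secFibre ((Scheme.Modules.pullback i).obj L') d) (hw₁ : ∀ d, w₁ d ≠ 0) (w₂ : (d : D') → Cyc.secFibre ((Scheme.Modules.pullback i').obj L) d) (hw₂ : ∀ d, w₂ d ≠ 0) (γ : D → ℤ) (hγ : γ = fun d => Cyc.c1CapFun δ L ⇑α (Cyc.gysinChoice L s w) (i d)) (γ' : D' → ℤ) (hγ' : γ' = fun d => Cyc.c1CapFun δ L' ⇑α (Cyc.gysinChoice L' s' w') (i' d)) (ζ₁ ζ₂ : AlgebraicCycle (pullback i i') ℤ) (h₁ : ∀ z, ζ₁ z = Cyc.c1CapFun (fun d => δ (i d)) ((Scheme.Modules.pullback i).obj L') γ (Cyc.gysinChoice ((Scheme.Modules.pullback i).obj L') σ' w₁) (pullback.fst i i' z)) (h₂ : ∀ z, ζ₂ z = Cyc.c1CapFun (fun d => δ (i' d)) ((Scheme.Modules.pullback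 i').obj L) γ' (Cyc.gysinChoice ((Scheme.Modules.pullback i').obj L) σ w₂) (pullback.snd i i' z)) : Cyc.RatEquiv (fun z => δ (i (pullback.fst i i' z))) (k - 2) ζ₁ ζ₂ := by
  classical
  haveI := hX.1
  haveI : IsLocallyNoetherian D := LocallyOfFiniteType.isLocallyNoetherian i
  haveI : IsLocallyNoetherian D' := LocallyOfFiniteType.isLocallyNoetherian i'
  have hc : IsClosed (Set.range i) := i.isClosedEmbedding.isClosed_range
  have hc' : IsClosed (Set.range i') := i'.isClosedEmbedding.isClosed_range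
  have hv := Gysin.gysinChoice_ne_zero L s w hw
  have hv' := Gysin.gysinChoice_ne_zero L' s' w' hw'
  have hk2 : α ∈ Cyc.Zk X δ (k - 2 + 2) := by rwa [sub_add_cancel]
  have hfam := CommApp.comm_cycle hX hL hL' (k - 2) α hk2 (Cyc.gysinChoice L s w) (Cyc.gysinChoice L s w) hv hv
    (Cyc.gysinChoice L' s' w') (Cyc.gysinChoice L' s' w') hv' hv' (Set.range i ∩ Set.range i') fun ξ _ z hz hs _ => by
      by_cases h : z ∈ Set.range i
      · have h' : z ∉ Set.range i' := fun h' => hz ⟨h, h'⟩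
        exact Or.inr (CommApp.gysinChoice_flat hL' hD' w' (fun h2 => h' (hs.mem_closed hc' h2)) h')
      · exact Or.inl (CommApp.gysinChoice_flat hL hD w (fun h2 => h (hs.mem_closed hc h2)) h)
  obtain ⟨A, hA, hAk⟩ := C1Api.exists_c1Cap_cycle hX.2.2 hL (k - 1) α
    (show α ∈ Cyc.Zk X δ (k - 1 + 1) by rwa [sub_add_cancel]) _ hv
  obtain ⟨A', hA', hAk'⟩ := C1Api.exists_c1Cap_cycle hX.2.2 hL' (k - 1) α
    (show α ∈ Cyc.Zk X δ (k - 1 + 1) by rwa [sub_add_cancel]) _ hv'
  obtain ⟨B, hB, -⟩ := C1Api.exists_c1Cap_cycle hX.2.2 hL' (k - 2) A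
    (show A ∈ Cyc.Zk X δ (k - 2 + 1) by rwa [show k - 2 + 1 = k - 1 by ring]) _ hv'
  obtain ⟨B', hB', -⟩ := C1Api.exists_c1Cap_cycle hX.2.2 hL (k - 2) A'
    (show A' ∈ Cyc.Zk X δ (k - 2 + 1) by rwa [show k - 2 + 1 = k - 1 by ring]) _ hv
  have res : ∀ {E : Scheme.{u}} (j : E ⟶ X) [IsClosedImmersion j] (C : AlgebraicCycle X ℤ) (m : ℤ), C ∈ Cyc.Zk X δ m →
      ∃ C' : AlgebraicCycle E ℤ, (∀ e, C' e = C (j e)) ∧ C' ∈ Cyc.Zk E (fun e => δ (j e)) m := fun j _ C m hC =>
    ⟨⟨fun e => C (j e), by simp, fun e _ => by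
      obtain ⟨t, ht, hfin⟩ := C.supportLocallyFiniteWithinDomain' (j e) trivial
      exact ⟨j ⁻¹' t, j.continuous.continuousAt.preimage_mem_nhds ht,
        (hfin.preimage j.isEmbedding.injective.injOn).subset fun y hy => hy⟩⟩, fun _ => rfl, fun e he => hC (j e) he⟩
  obtain ⟨AD, hAD, hADk⟩ := res i A (k - 1) hAk
  obtain ⟨AD', hAD', hADk'⟩ := res i' A' (k - 1) hAk'
  let j : pullback i i' ⟶ X := pullback.fst i i' ≫ i
  haveI : IsClosedImmersion j := inferInstanceAs (IsClosedImmersion (pullback.fst i i' ≫ i))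
  have hcond : ∀ z, i' (pullback.snd i i' z) = i (pullback.fst i i' z) := fun z =>
    (congrArg (fun g : pullback i i' ⟶ X => g z) pullback.condition).symm
  have hrange : Set.range i ∩ Set.range i' ⊆ Set.range j := by
    rintro _ ⟨⟨a, rfl⟩, b, hb⟩
    obtain ⟨z, hz, -⟩ := Scheme.Pullback.exists_preimage_pullback a b hb.symm
    exact ⟨z, show i (pullback.fst i i' z) = i a by rw [hz]⟩
  let u₁ : (d : D) → Cyc.secFibre ((Scheme.Modules.pullback i).obj L') d := fun d =>
    C1Api.pullFib i L' d (Cyc.gysinChoice L' s' w' (i d))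
  let u₂ : (d : D') → Cyc.secFibre ((Scheme.Modules.pullback i').obj L) d := fun d =>
    C1Api.pullFib i' L d (Cyc.gysinChoice L s w (i' d))
  have res0 : ∀ {E : Scheme.{u}} (q : E ⟶ X) [IsClosedImmersion q] (C : AlgebraicCycle X ℤ),
      ∃ C' : AlgebraicCycle E ℤ, ∀ e, C' e = C (q e) := fun q _ C =>
    ⟨⟨fun e => C (q e), by simp, fun e _ => by
      obtain ⟨t, ht, hfin⟩ := C.supportLocallyFiniteWithinDomain' (q e) trivial
      exact ⟨q ⁻¹' t, q.continuous.continuousAt.preimage_mem_nhds ht,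
        (hfin.preimage q.isEmbedding.injective.injOn).subset fun y hy => hy⟩⟩, fun _ => rfl⟩
  obtain ⟨Y₁, hY₁⟩ := res0 j B
  obtain ⟨Y₂, hY₂⟩ := res0 j B'
  have e12 : Cyc.RatEquiv (fun z => δ (j z)) (k - 2) Y₁ Y₂ := by
    refine RatFam.restrict j hfam hrange fun z => ?_
    show Y₁ z - Y₂ z = _
    rw [hY₁, hY₂, hB, hB', hA, hA']
  have e1 : Cyc.RatEquiv (fun z => δ (i (pullback.fst i i' z))) (k - 2) ζ₁ Y₁ := by
    refine Gysin.gysin_congr (pullback.fst i i') (C1Api.isInvertible_pullback' i hL') (k - 2) AD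
      (show AD ∈ Cyc.Zk D (fun d => δ (i d)) (k - 2 + 1) by rwa [show k - 2 + 1 = k - 1 by ring])
      (Cyc.gysinChoice _ σ' w₁) u₁ (Gysin.gysinChoice_ne_zero _ σ' w₁ hw₁) (fun d => C1Api.pullFib_ne_zero i hL' d _ (hv' _))
      (fun d hd z h => Gysin.secDiv_gysin_pullFib i _ hL' hD' hσ' w' w₁ d hd z h) ζ₁ Y₁ (fun z => ?_) fun z => ?_
    · rw [h₁, hγ, show (fun d => Cyc.c1CapFun δ L ⇑α (Cyc.gysinChoice L s w) (i d)) = ⇑AD from funext fun d => by rw [hAD, hA]]
    · rw [hY₁, hB]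
      show Cyc.c1CapFun δ L' ⇑A (Cyc.gysinChoice L' s' w') (i (pullback.fst i i' z)) = _
      rw [Gysin.c1Cap_immersion i hL' δ (⇑A) (fun x hx => by rw [hA]; exact CommApp.gysin_off hL hD w _ hx) _ hv']
      exact congrArg (fun F => Cyc.c1CapFun _ _ F _ _) (funext fun d => (hAD d).symm)
  have e2 : Cyc.RatEquiv (fun z => δ (i' (pullback.snd i i' z))) (k - 2) Y₂ ζ₂ := by
    refine Gysin.gysin_congr (pullback.snd i i') (C1Api.isInvertible_pullback' i' hL) (k - 2) AD'
      (show AD' ∈ Cyc.Zk D' (fun d => δ (i' d)) (k - 2 + 1) by rwa [show k - 2 + 1 = k - 1 by ring])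
      u₂ (Cyc.gysinChoice _ σ w₂) (fun d => C1Api.pullFib_ne_zero i' hL d _ (hv _)) (Gysin.gysinChoice_ne_zero _ σ w₂ hw₂)
      (fun d hd z h => (Gysin.secDiv_gysin_sq i' _ hL hD (IsPullback.of_hasPullback i i').flip hσ w w₂ d hd z h).symm)
      Y₂ ζ₂ (fun z => ?_) fun z => ?_
    · rw [hY₂, hB']
      show Cyc.c1CapFun δ L ⇑A' (Cyc.gysinChoice L s w) (i (pullback.fst i i' z)) = _
      rw [← hcond, Gysin.c1Cap_immersion i' hL δ (⇑A') (fun x hx => by rw [hA']; exact CommApp.gysin_off hL' hD' w' _ hx) _ hv]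
      exact congrArg (fun F => Cyc.c1CapFun _ _ F _ _) (funext fun d => (hAD' d).symm)
    · rw [h₂, hγ', show (fun d => Cyc.c1CapFun δ L' ⇑α (Cyc.gysinChoice L' s' w') (i' d)) = ⇑AD' from funext fun d => by rw [hAD', hA']]
  rw [show (fun z => δ (i' (pullback.snd i i' z))) = fun z => δ (i (pullback.fst i i' z)) from funext fun z => by rw [hcond]] at e2
  exact RatRel.trans e1 (RatRel.trans e12 e2)

end Groth.Agent.S1931
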