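import Groth.Statements.S6488
import Groth.Agent.S1945
import Groth.Agent.S1931
import Groth.Agent.S1933
import Groth.Agent.H3Cyc.TotLine
import Groth.Agent.H3Cyc.GysOps
import Groth.Agent.H06Equidim.AffineSpace
import Groth.Agent.H16Derived.GTheory.AffineLine
import Groth.Agent.H28Pinch.FullyFaithful
import Groth.Agent.H17.PullSectLocal
import Groth.Agent.H11Ample.RelQuasiAffine
import Groth.Agent.H12Pic.AffineLinePic
-- import your own Groth.Agent.* helpers here

set_option autoImplicit false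
set_option linter.style.haveILetI false
set_option backward.isDefEq.respectTransparency.types false
universe u
open CategoryTheory AlgebraicGeometry
open Cyc

namespace Groth.Agent.S6488

open Opposite
open Groth.Agent Groth.Agent.H3Cyc
open CategoryTheory.Limits
open Groth.Agent.H11Tilde (IsGen)
open Groth.Agent.H16Derived.GTheory (A1 prL zeroL tL psiL)

theorem regAll_map {R B B' : Type u} [CommRing R] [CommRing B] [CommRing B'] {α : R →+* B} {α' : R →+* B'} {a : B}
    (h : RelCartier.RegAll α a) (φ : B →+* B') (hφ : Function.Bijective φ) (hc : φ.comp α = α') :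
    RelCartier.RegAll α' (φ a) := fun J g hg => by
  subst hc
  obtain ⟨g0, rfl⟩ := hφ.2 g
  rw [← Ideal.map_map] at hg ⊢
  rw [← map_mul, Ideal.mem_map_iff_of_surjective φ hφ.2] at hg
  obtain ⟨w, hw, e⟩ := hg
  exact Ideal.mem_map_of_mem φ (h J g0 (hφ.1 e ▸ hw))

theorem regAll_surjective {R B R' B' : Type u} [CommRing R] [CommRing B] [CommRing R'] [CommRing B']
    {α : R →+* B} {a : B} (h : RelCartier.RegAll α a) {α' : R' →+* B'} (ρ : R →+* R') (φ : B →+* B')
    (hρ : Function.Surjective ρ) (hφ : Function.Surjective φ) (hc : α'.comp ρ = φ.comp α)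
    (hker : RingHom.ker φ ≤ (RingHom.ker ρ).map α) : RelCartier.RegAll α' (φ a) := fun J g hg => by
  obtain ⟨g0, rfl⟩ := hφ g
  have e : J.map α' = ((J.comap ρ).map α).map φ := by
    conv_lhs => rw [← Ideal.map_comap_of_surjective ρ hρ J]
    rw [Ideal.map_map, Ideal.map_map, hc]
  rw [e] at hg ⊢
  rw [← map_mul, Ideal.mem_map_iff_of_surjective φ hφ] at hg
  obtain ⟨w, hw, hwe⟩ := hg
  refine Ideal.mem_map_of_mem φ (h _ g0 ?_)
  have h1 : a * g0 - w ∈ (J.comap ρ).map α := Ideal.map_mono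
    (fun r hr => by rw [Ideal.mem_comap, RingHom.mem_ker.1 hr]; exact J.zero_mem)
    (hker (RingHom.mem_ker.2 (by rw [map_sub, hwe, sub_self])))
  simpa using add_mem h1 hw

variable {X Y Z : Scheme.{u}}

theorem exists_coeff {L : X.Modules} {U : X.Opens} {e : Γ(L, U)} (he : IsGen L e)
    (s : L.presheaf.obj (op ⊤)) : ∃ c : Γ(X, U), ∀ (y : X) (hy : y ∈ U),
      L.presheaf.germ ⊤ y trivial s = X.presheaf.germ U y hy c • L.presheaf.germ U y hy e := by
  obtain ⟨c, hc⟩ := (he.bijective le_rfl).2 (L.presheaf.map (homOfLE (le_top : U ≤ ⊤)).op s)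
  refine ⟨c, fun y hy => ?_⟩
  rw [← H06Mod.germ_smul]
  have h := congrArg (L.presheaf.germ U y hy) hc
  rw [TopCat.Presheaf.germ_res_apply] at h
  rw [← h]
  simp

theorem germ_pullSect_smul (f : Y ⟶ X) {L : X.Modules} (s : L.presheaf.obj (op ⊤)) {U : X.Opens} (e : Γ(L, U))
    (y : Y) (hy : f y ∈ U) (c : X.presheaf.stalk (f y))
    (hc : L.presheaf.germ ⊤ (f y) trivial s = c • L.presheaf.germ U (f y) hy e) :
    ((Scheme.Modules.pullback f).obj L).presheaf.germ ⊤ y trivial (OmegaSh.pullSect f L ⊤ s) =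
      f.stalkMap y c • ((Scheme.Modules.pullback f).obj L).presheaf.germ (f ⁻¹ᵁ U) y hy (OmegaSh.pullSect f L U e) := by
  rw [← H06Mod.pullStalk_germ, ← H06Mod.pullStalk_smul]
  exact Eq.trans (H06Mod.pullStalk_germ f L y ⊤ trivial s).symm (congrArg (H06Mod.pullStalk f L y) hc)

theorem pullSect_comp' (g : Y ⟶ X) (h : X ⟶ Z) (M : Z.Modules) (W : Z.Opens) (m : Γ(M, W)) :
    ((Scheme.Modules.pullbackComp g h).hom.app M).app ((g ≫ h) ⁻¹ᵁ W)
        (OmegaSh.pullSect g ((Scheme.Modules.pullback h).obj M) (h ⁻¹ᵁ W) (OmegaSh.pullSect h M W m)) =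
      OmegaSh.pullSect (g ≫ h) M W m := by
  rw [← H17.PullSect.pullSect_comp]
  exact congr($(congrArg (fun k => Scheme.Modules.Hom.app k ((g ≫ h) ⁻¹ᵁ W))
    ((Scheme.Modules.pullbackComp g h).inv_hom_id_app M)) _)

theorem congr_pullSect_top {a b : Y ⟶ X} (e : a = b) (N : X.Modules) (s : N.presheaf.obj (op ⊤)) :
    ((Scheme.Modules.pullbackCongr e).hom.app N).app ⊤ (OmegaSh.pullSect a N ⊤ s) = OmegaSh.pullSect b N ⊤ s := by
  subst e
  simp [Scheme.Modules.pullbackCongr]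

theorem germ_appLE' (f : Y ⟶ X) (U : X.Opens) (y : Y) (hy : f y ∈ U) (r : Γ(X, U)) :
    Y.presheaf.germ (f ⁻¹ᵁ U) y hy (f.app U r) = f.stalkMap y (X.presheaf.germ U (f y) hy r) :=
  (f.germ_stalkMap_apply U y hy r).symm

/-- The affine line is flat of relative dimension one. -/
theorem line_props (V : Scheme.{u}) : Flat (prL V) ∧ LocallyOfFiniteType (prL V) ∧ Cyc.HasRelDim (prL V) 1 := by
  haveI hl : LocallyOfFiniteType (prL V) := inferInstance
  refine ⟨H06Equidim.flat_affineSpace _, hl, H12AlgSp.hasRelDim_of_fibreDimAt _ 1 fun y => ?_⟩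
  rw [H06Equidim.fibreDimAt_affineSpace]
  simp

/-- The zero section of the affine line is the zero scheme of the coordinate. -/
theorem isZero_zeroL (V : Scheme.{u}) :
    Cyc.IsZeroSchemeOf (zeroL V) (Coh.structureModule (A1 V)) (tL V : Γ(A1 V, ⊤)) := by
  refine RelCartier.isZeroScheme_of_local _ fun w => ?_
  obtain ⟨W, hW, hwW, -⟩ := exists_isAffineOpen_mem_and_subset (show prL V w ∈ (⊤ : V.Opens) from trivial)
  let c : Γ(A1 V, prL V ⁻¹ᵁ W) := psiL V W Polynomial.X
  refine ⟨prL V ⁻¹ᵁ W, hW.preimage (prL V), hwW, H11Ample.one _, c, H11Ample.isGen_one _, fun v hv => ?_, ?_⟩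
  · rw [← H06Mod.germ_smul]
    refine Eq.trans (TopCat.Presheaf.germ_res_apply (Coh.structureModule (A1 V)).presheaf
      (homOfLE (le_top : prL V ⁻¹ᵁ W ≤ ⊤)) v hv (tL V)).symm (congrArg _ ?_)
    show _ = c * 1
    rw [mul_one]
    exact (H16Derived.GTheory.psiL_X V W).symm
  · have hb := H16Derived.GTheory.psiL_bijective V hW
    rw [Scheme.Hom.ker_apply]
    ext a
    obtain ⟨v, rfl⟩ := hb.2 a
    haveI : IsIso (V.presheaf.map (homOfLE (H16Derived.GTheory.le_zeroL V W)).op) := by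
      rw [show (homOfLE (H16Derived.GTheory.le_zeroL V W)) = eqToHom (H16Derived.GTheory.zeroL_pre_eq V W).symm from
        Subsingleton.elim _ _]
      infer_instance
    rw [RingHom.mem_ker, ← (ConcreteCategory.bijective_of_isIso
      (V.presheaf.map (homOfLE (H16Derived.GTheory.le_zeroL V W)).op)).1.eq_iff, map_zero]
    show (zeroL V).appLE (prL V ⁻¹ᵁ W) W (H16Derived.GTheory.le_zeroL V W) (psiL V W v) = 0 ↔ _
    rw [H16Derived.GTheory.zeroL_psiL, ← Polynomial.coeff_zero_eq_eval_zero, Ideal.mem_span_singleton]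
    refine (Polynomial.X_dvd_iff (f := v)).symm.trans ?_
    exact (map_dvd_iff (RingEquiv.ofBijective (psiL V W) hb)).symm

/-- The deforming section `h^*s - u t` on the line over the total space. -/
noncomputable def defSec {V : Scheme.{u}} (π : V ⟶ X) (L : X.Modules) (s : L.presheaf.obj (op ⊤))
    (t : ((Scheme.Modules.pullback π).obj L).presheaf.obj (op ⊤)) :
    ((Scheme.Modules.pullback (prL V ≫ π)).obj L).presheaf.obj (op ⊤) :=
  let a : Γ((Scheme.Modules.pullback (prL V ≫ π)).obj L, ⊤) := OmegaSh.pullSect (prL V ≫ π) L ⊤ s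
  let b : Γ((Scheme.Modules.pullback (prL V ≫ π)).obj L, ⊤) :=
    ((Scheme.Modules.pullbackComp (prL V) π).hom.app L).app ⊤
      (OmegaSh.pullSect (prL V) ((Scheme.Modules.pullback π).obj L) ⊤ t)
  a - (tL V : Γ(A1 V, ⊤)) • b

theorem germ_comp_section {V W : Scheme.{u}} (q : W ⟶ V) (π : V ⟶ X) (L : X.Modules)
    (t : ((Scheme.Modules.pullback π).obj L).presheaf.obj (op ⊤)) {U : X.Opens} (e : Γ(L, U)) (w : W)
    (hw : π (q w) ∈ U) (c : V.presheaf.stalk (q w))
    (hc : ((Scheme.Modules.pullback π).obj L).presheaf.germ ⊤ (q w) trivial t =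
      c • ((Scheme.Modules.pullback π).obj L).presheaf.germ (π ⁻¹ᵁ U) (q w) hw (OmegaSh.pullSect π L U e)) :
    ((Scheme.Modules.pullback (q ≫ π)).obj L).presheaf.germ ⊤ w trivial
        (((Scheme.Modules.pullbackComp q π).hom.app L).app ⊤
          (OmegaSh.pullSect q ((Scheme.Modules.pullback π).obj L) ⊤ t)) =
      q.stalkMap w c •
        ((Scheme.Modules.pullback (q ≫ π)).obj L).presheaf.germ ((q ≫ π) ⁻¹ᵁ U) w hw (OmegaSh.pullSect (q ≫ π) L U e) := by
  have h1 := germ_pullSect_smul q t (OmegaSh.pullSect π L U e) w hw c hc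
  let ψ : (Scheme.Modules.pullback q).obj ((Scheme.Modules.pullback π).obj L) ≅ (Scheme.Modules.pullback (q ≫ π)).obj L :=
    (Scheme.Modules.pullbackComp q π).app L
  refine (GysOps.germ_map_iso ψ (V := ⊤) (x := w) trivial _).symm.trans ?_
  refine (congrArg ((KDev.st w).map ψ.hom).hom h1).trans ?_
  refine (((KDev.st w).map ψ.hom).hom.map_smul _ _).trans (congrArg _ ?_)
  refine (GysOps.germ_map_iso ψ hw _).trans (congrArg _ ?_)
  exact pullSect_comp' q π L U e

theorem germ_psiL {V : Scheme.{u}} (π : V ⟶ X) {U : X.Opens} (f : Γ(X, U)) (a : Γ(V, π ⁻¹ᵁ U)) (w : A1 V)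
    (hw : π (prL V w) ∈ U) :
    (A1 V).presheaf.germ (prL V ⁻¹ᵁ (π ⁻¹ᵁ U)) w hw
        (psiL V (π ⁻¹ᵁ U) (Polynomial.C (π.app U f) - Polynomial.C a * Polynomial.X)) =
      (prL V ≫ π).stalkMap w (X.presheaf.germ U (π (prL V w)) hw f) -
        (A1 V).presheaf.germ ⊤ w trivial (tL V) * (prL V).stalkMap w (V.presheaf.germ (π ⁻¹ᵁ U) (prL V w) hw a) := by
  rw [map_sub, map_sub, map_mul, map_mul, H16Derived.GTheory.psiL_C, H16Derived.GTheory.psiL_C,
    H16Derived.GTheory.psiL_X]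
  refine congrArg₂ (· - ·) ?_ ?_
  · refine (germ_appLE' (prL V) _ w hw _).trans ?_
    rw [Scheme.Hom.stalkMap_comp]
    exact congrArg ((prL V).stalkMap w) (germ_appLE' π U (prL V w) hw f)
  · rw [mul_comm]
    exact congrArg₂ (· * ·) (TopCat.Presheaf.germ_res_apply _ _ _ _ _) (germ_appLE' (prL V) _ w hw a)

/-- The deforming section is regular modulo every ideal of the base. -/
theorem defSec_reg {V : Scheme.{u}} (π : V ⟶ X) [IsAffineHom π] {L : X.Modules} (s : L.presheaf.obj (op ⊤))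
    (t : ((Scheme.Modules.pullback π).obj L).presheaf.obj (op ⊤)) {U : X.Opens} (hU : IsAffineOpen U) {e : Γ(L, U)}
    (he : IsGen L e) {a : Γ(V, π ⁻¹ᵁ U)}
    (hta : ∀ (v : V) (hv : v ∈ π ⁻¹ᵁ U), ((Scheme.Modules.pullback π).obj L).presheaf.germ ⊤ v trivial t =
      V.presheaf.germ _ v hv a •
        ((Scheme.Modules.pullback π).obj L).presheaf.germ (π ⁻¹ᵁ U) v hv (OmegaSh.pullSect π L U e))
    (hareg : RelCartier.RegAll (π.app U).hom a) (w : A1 V) (hw : π (prL V w) ∈ U) :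
    ∃ (U' : (A1 V).Opens) (hw' : w ∈ U') (e' : Γ((Scheme.Modules.pullback (prL V ≫ π)).obj L, U'))
      (a' : (A1 V).presheaf.stalk w), IsGen _ e' ∧
      ((Scheme.Modules.pullback (prL V ≫ π)).obj L).presheaf.germ ⊤ w trivial (defSec π L s t) =
        a' • ((Scheme.Modules.pullback (prL V ≫ π)).obj L).presheaf.germ U' w hw' e' ∧
      RelCartier.RegAll ((prL V ≫ π).stalkMap w).hom a' := by
  obtain ⟨f, hf⟩ := exists_coeff he s
  have hU₁ : IsAffineOpen (π ⁻¹ᵁ U) := hU.preimage π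
  have hb := H16Derived.GTheory.psiL_bijective V hU₁
  let P : Polynomial Γ(V, π ⁻¹ᵁ U) := Polynomial.C (π.app U f) - Polynomial.C a * Polynomial.X
  have hc : RelCartier.RegAll ((prL V ≫ π).appLE U (prL V ⁻¹ᵁ (π ⁻¹ᵁ U)) le_rfl).hom (psiL V (π ⁻¹ᵁ U) P) :=
    regAll_map (RelCartier.regAll_linear (π.app U f) hareg) _ hb (RingHom.ext fun r => by
      show psiL V (π ⁻¹ᵁ U) (Polynomial.C (π.app U r)) = _
      rw [H16Derived.GTheory.psiL_C]
      exact ConcreteCategory.congr_hom ((prL V ≫ π).app_eq_appLE (U := U)) r)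
  refine ⟨(prL V ≫ π) ⁻¹ᵁ U, hw, OmegaSh.pullSect (prL V ≫ π) L U e,
    (A1 V).presheaf.germ (prL V ⁻¹ᵁ (π ⁻¹ᵁ U)) w hw (psiL V (π ⁻¹ᵁ U) P),
    IsGen.pullSect (prL V ≫ π) he, ?_,
    RelCartier.regAll_stalk (prL V ≫ π) hU (hU₁.preimage (prL V)) le_rfl hc w hw⟩
  have h1 := germ_pullSect_smul (prL V ≫ π) s e w hw _ (hf _ hw)
  have h2 := germ_comp_section (prL V) π L t e w hw _ (hta (prL V w) hw)
  rw [germ_psiL π f a w hw, sub_smul, mul_smul, ← h2]
  refine Eq.trans ?_ (congrArg₂ (· - ·) h1 (H06Mod.germ_smul _ ⊤ trivial (tL V : Γ(A1 V, ⊤)) _))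
  exact map_sub (((Scheme.Modules.pullback (prL V ≫ π)).obj L).presheaf.germ ⊤ w trivial).hom _ _

/-- The coordinate of the line is regular modulo every ideal of the base. -/
theorem coord_reg (V : Scheme.{u}) (w : A1 V) :
    ∃ (U : (A1 V).Opens) (hw : w ∈ U) (e : Γ(Coh.structureModule (A1 V), U)) (a : (A1 V).presheaf.stalk w),
      IsGen (Coh.structureModule (A1 V)) e ∧
      (Coh.structureModule (A1 V)).presheaf.germ ⊤ w trivial (tL V : Γ(A1 V, ⊤)) =
        a • (Coh.structureModule (A1 V)).presheaf.germ U w hw e ∧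
      RelCartier.RegAll ((prL V).stalkMap w).hom a := by
  obtain ⟨U, hU, hwU, -⟩ := exists_isAffineOpen_mem_and_subset (show prL V w ∈ (⊤ : V.Opens) from trivial)
  have hb := H16Derived.GTheory.psiL_bijective V hU
  have h1 : RelCartier.RegAll (Polynomial.C.comp (RingHom.id Γ(V, U))) (Polynomial.X : Polynomial Γ(V, U)) :=
    (RelCartier.regAll_linear (α := RingHom.id _) (0 : Γ(V, U)) (c := 1)
      (fun J g hg => by simpa using hg)).of_dvd ⟨-1, by simp⟩
  have h2 : RelCartier.RegAll ((prL V).appLE U (prL V ⁻¹ᵁ U) le_rfl).hom (psiL V U Polynomial.X) :=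
    regAll_map h1 _ hb (RingHom.ext fun r => by
      show psiL V U (Polynomial.C r) = _
      rw [H16Derived.GTheory.psiL_C]
      exact ConcreteCategory.congr_hom ((prL V).app_eq_appLE (U := U)) r)
  refine ⟨prL V ⁻¹ᵁ U, hwU, H11Ample.one _, _, H11Ample.isGen_one _, ?_,
    RelCartier.regAll_stalk (prL V) hU (hU.preimage (prL V)) le_rfl h2 w hwU⟩
  rw [← H06Mod.germ_smul]
  refine Eq.trans (TopCat.Presheaf.germ_res_apply (Coh.structureModule (A1 V)).presheaf
    (homOfLE (le_top : prL V ⁻¹ᵁ U ≤ ⊤)) w hwU (tL V)).symm (congrArg _ ?_)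
  show _ = psiL V U Polynomial.X * 1
  rw [mul_one]
  exact (H16Derived.GTheory.psiL_X V U).symm

/-- Pulled back to the zero section the deforming section is the given one. -/
theorem defSec_zero {V : Scheme.{u}} (π : V ⟶ X) (L : X.Modules) (s : L.presheaf.obj (op ⊤))
    (t : ((Scheme.Modules.pullback π).obj L).presheaf.obj (op ⊤)) (hzh : zeroL V ≫ prL V ≫ π = π) :
    ((Scheme.Modules.pullbackComp (zeroL V) (prL V ≫ π)).app L ≪≫ (Scheme.Modules.pullbackCongr hzh).app L).hom.app ⊤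
        (GysinTot.pullSec (zeroL V) ((Scheme.Modules.pullback (prL V ≫ π)).obj L) (defSec π L s t)) =
      OmegaSh.pullSect π L ⊤ s := by
  have e1 : GysinTot.pullSec (zeroL V) ((Scheme.Modules.pullback (prL V ≫ π)).obj L) (defSec π L s t) =
      OmegaSh.pullSect (zeroL V) ((Scheme.Modules.pullback (prL V ≫ π)).obj L) ⊤
        (OmegaSh.pullSect (prL V ≫ π) L ⊤ s) := by
    refine (map_sub (((Scheme.Modules.pullbackPushforwardAdjunction (zeroL V)).unit.app
      ((Scheme.Modules.pullback (prL V ≫ π)).obj L)).app ⊤).hom _ _).trans ?_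
    refine Eq.trans (congrArg (_ - ·) ?_) (sub_zero _)
    refine (H12Pic.AffineLinePic.pullSect_smul (zeroL V) ⊤ (tL V) _).trans ?_
    rw [show (zeroL V).app ⊤ (tL V) = 0 from H16Derived.GTheory.zeroL_tL V]
    exact zero_smul _ _
  rw [e1]
  show ((Scheme.Modules.pullbackCongr hzh).hom.app L).app ⊤
    (((Scheme.Modules.pullbackComp (zeroL V) (prL V ≫ π)).hom.app L).app ⊤ _) = _
  refine Eq.trans (congrArg (fun x => ((Scheme.Modules.pullbackCongr hzh).hom.app L).app ⊤ x)
    (pullSect_comp' (zeroL V) (prL V ≫ π) L ⊤ s)) ?_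
  exact congr_pullSect_top hzh L s

/-- Pullback to the total space of the restricted bundle is injective on classes. -/
theorem inj_pull {V X D X₀ : Scheme.{u}} (π : V ⟶ X) {L : X.Modules} (hπL : PicF.IsInvertible ((Scheme.Modules.pullback π).obj L))
    {t : ((Scheme.Modules.pullback π).obj L).presheaf.obj (op ⊤)} {z : X₀ ⟶ V} [IsClosedImmersion z] [IsIso (z ≫ π)]
    (hz : Cyc.IsZeroSchemeOf z ((Scheme.Modules.pullback π).obj L) t)
    (hdata : ∀ x : X, ∃ (U : X.Opens) (_ : IsAffineOpen U) (_ : x ∈ U) (e : Γ(L, U)) (a : Γ(V, π ⁻¹ᵁ U)),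
      IsGen L e ∧
      (∀ (v : V) (hv : v ∈ π ⁻¹ᵁ U), ((Scheme.Modules.pullback π).obj L).presheaf.germ ⊤ v trivial t =
        V.presheaf.germ _ v hv a •
          ((Scheme.Modules.pullback π).obj L).presheaf.germ (π ⁻¹ᵁ U) v hv (OmegaSh.pullSect π L U e)) ∧
      RelCartier.RegAll (π.app U).hom a)
    [IsAffineHom π] (i : D ⟶ X) [IsClosedImmersion i] [Flat (pullback.snd π i)] [LocallyOfFiniteType (pullback.snd π i)]
    (hrP : Cyc.HasRelDim (pullback.snd π i) 1) {δP : ↥(pullback π i) → ℤ} {δD : D → ℤ}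
    (hP : Cyc.IsSetup _ δP) (hDs : Cyc.IsSetup D δD) (hδ : Cyc.DeltaCompat (pullback.snd π i) δP δD)
    (k : ℤ) (β : AlgebraicCycle D ℤ) (hβ : β ∈ Cyc.Zk D δD k) (βP : AlgebraicCycle (pullback π i) ℤ)
    (hβPf : ⇑βP = Cyc.pullFun (pullback.snd π i) δP δD 1 ⇑β) (h1 : Cyc.RatEquivZero δP (k + 1) βP) :
    Cyc.RatEquivZero δD k β := by
  haveI := hP.1
  haveI := hDs.1
  have hsqP : IsPullback (pullback.fst π i) (pullback.snd π i) π i := IsPullback.of_hasPullback π i
  haveI : IsClosedImmersion (pullback.fst π i) := MorphismProperty.pullback_fst _ _ inferInstance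
  have hβP : βP ∈ Cyc.Zk _ δP (k + 1) := fun y hy => by
    rw [hβPf]
    simp only [Cyc.pullFun]
    split_ifs with h
    · rw [show β (pullback.snd π i y) = 0 from hβ _ fun h' => hy (by rw [h, h']), zero_mul]
    · rfl
  let pP := pullback.snd π i
  let LP := (Scheme.Modules.pullback (pullback.fst π i)).obj ((Scheme.Modules.pullback π).obj L)
  have hLP : PicF.IsInvertible LP := H11Ample.isInvertible_pullback _ hπL
  let tP := GysinTot.pullSec (pullback.fst π i) ((Scheme.Modules.pullback π).obj L) t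
  let j := pullback.fst (pullback.fst π i) z
  haveI : IsClosedImmersion j := MorphismProperty.pullback_fst _ _ inferInstance
  have htP : Cyc.IsZeroSchemeOf j LP tP := GysinTot.isZeroScheme_pullSec hπL hz (pullback.fst π i)
  have htreg : ∀ y : ↥(pullback π i), ∃ (U : (pullback π i).Opens) (hy : y ∈ U) (e : Γ(LP, U))
      (a : (pullback π i).presheaf.stalk y), IsGen LP e ∧
      LP.presheaf.germ ⊤ y trivial tP = a • LP.presheaf.germ U y hy e ∧ RelCartier.RegAll (pP.stalkMap y).hom a := by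
    intro y
    obtain ⟨U, hU, hxU, e, a, he, hta, hareg⟩ := hdata (π (pullback.fst π i y))
    refine ⟨_, hxU, _, (pullback.fst π i).stalkMap y (V.presheaf.germ (π ⁻¹ᵁ U) (pullback.fst π i y) hxU a),
      IsGen.pullSect (pullback.fst π i) (IsGen.pullSect π he), germ_pullSect_smul _ t _ y hxU _ (hta _ hxU), ?_⟩
    have h2 : RelCartier.RegAll (π.stalkMap (pullback.fst π i y)).hom
        (V.presheaf.germ (π ⁻¹ᵁ U) (pullback.fst π i y) hxU a) :=
      RelCartier.regAll_stalk π hU (hU.preimage π) le_rfl (by rwa [← Scheme.Hom.app_eq_appLE]) _ hxU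
    refine regAll_surjective h2 (H8Props.NilThick.baseMap hsqP y).hom ((pullback.fst π i).stalkMap y).hom ?_
      ((pullback.fst π i).stalkMap_surjective y) ?_ (H8Props.NilThick.ker_stalkMap_eq hsqP y).le
    · exact (i.stalkMap_surjective (pP y)).comp
        (ConcreteCategory.bijective_of_isIso (X.presheaf.stalkCongr (.of_eq (H8Props.NilThick.base_eq hsqP y))).hom).2
    · refine Eq.trans ?_ (congrArg CommRingCat.Hom.hom (Scheme.Hom.stalkMap_comp (pullback.fst π i) π y))
      rw [Scheme.Hom.stalkMap_congr_hom _ _ hsqP.w y, Scheme.Hom.stalkMap_comp]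
      rfl
  obtain ⟨htinj, hqfl, hqr⟩ := RelCartier.main pP 0 hrP hLP j htP htreg
  haveI := hqfl
  haveI : IsIso (j ≫ pP) :=
    MorphismProperty.of_isPullback (P := MorphismProperty.isomorphisms Scheme.{u})
      ((IsPullback.of_hasPullback (pullback.fst π i) z).flip.paste_vert hsqP) (show IsIso _ from inferInstance)
  let δQ : ↥(pullback (pullback.fst π i) z) → ℤ := fun y => δP (j y)
  have hδQ : δQ = fun y => δD ((j ≫ pP) y) := OpenSupp.deltaCompat_unique (j ≫ pP)
    (BCPush.deltaCompat_comp j pP (Reduction.deltaCompat_immersion j δP) hδ)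
    (Reduction.deltaCompat_immersion (j ≫ pP) δD)
  have hQ : Cyc.IsSetup _ δQ := GysinTot.isSetupD hP (i := j)
  haveI := hQ.1
  have hdQ : FlatRat.MaxDim (j ≫ pP) δQ δD ((0 : ℕ) : ℤ) := by
    rw [hδQ]
    exact_mod_cast OpenSupp.maxDim_immersion (j ≫ pP) δD
  obtain ⟨ζ, hζf, hζ⟩ := C1Api.exists_pullFun_cycle (j ≫ pP) hQ hDs hdQ k β hβ
  rw [Nat.cast_zero, add_zero] at hζ
  obtain ⟨γ, hγf, hγ⟩ := GysinTot.exists_gysin_cycle (s := tP) (i := j) hP hLP k βP hβP
    (Chow.sec hLP) (Chow.sec_ne_zero hLP)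
  have h3 : Cyc.RatEquiv δQ k γ ζ := by
    have := Groth.Agent.S1945.result (pullback π i) D _ δP δD hP hDs pP 0 hrP hδ LP hLP tP htinj j htP hqr
      (k - 1) β (by simpa using hβ) (Chow.sec hLP) (Chow.sec_ne_zero hLP) γ ζ
      (fun y => by rw [hγf, hβPf]; norm_num; rfl) hζf
    simpa using this
  have h4 : Cyc.RatEquivZero δQ k γ :=
    Groth.Agent.S1929.result (pullback π i) _ δP hP LP hLP tP j htP k βP hβP h1 (Chow.sec hLP)
      (Chow.sec_ne_zero hLP) γ hγf
  have h5 : Cyc.RatEquivZero δQ k ζ := by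
    rw [← Chow.cl_eq_zero_iff hζ, ← (Chow.cl_eq_iff hγ hζ).mpr h3, Chow.cl_eq_zero_iff hγ]
    exact h4
  refine GysOps.ratEquivZero_iso hDs (asIso (j ≫ pP)) k β ζ (fun y => ?_) (hδQ ▸ h5)
  rw [hζf, hδQ, Nat.cast_zero, OpenSupp.pullFun_openImmersion]
  rfl

/-- Let (L, s, i : D → X) be a triple defining a Gysin map. There is a commutative diagram with i' : D'
→ X', p : D' → D, g : X' → X (p ≫ i = i' ≫ g) such that (1) p and g are flat, of finite type, with
all fibre components of dimension 1, (2) p^* : CH_k(D) → CH_{k+1}(D') is injective for all k, (3) i'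
identifies D' with the vanishing scheme in X' of a single global function s' ∈ Γ(X', O_{X'}), and
(4) p^* ∘ i^* = (i')^* ∘ g^* : CH_{k+1}(X) → CH_{k+1}(D'). Dimension functions on X', D' are the
induced ones; Gysin maps are computed as c_1 ∩ − with the sections s, s' where nonzero and arbitrary
nonzero fallbacks. (The published statement adds that these properties survive any base change Y → X
locally of finite type; this row omits that addendum.) Here a pair (X, δ) with Cyc.IsSetup plays the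
role of a scheme locally of finite type over the base (S, δ) (X locally Noetherian with universally
catenary local rings, δ a dimension function), and Cyc.DeltaCompat records that the dimension
function upstairs is the induced one. -/
theorem result (X D : Scheme.{u}) (δ : X → ℤ) (hX : Cyc.IsSetup X δ) (L : X.Modules) (hL : PicF.IsInvertible L) (s : L.presheaf.obj (Opposite.op ⊤)) (i : D ⟶ X) [IsClosedImmersion i] (hD : Cyc.IsZeroSchemeOf i L s) : ∃ (X' D' : Scheme.{u}) (i' : D' ⟶ X') (p : D' ⟶ D) (g : X' ⟶ X) (_ : IsClosedImmersion i') (_ : Flat p) (_ : Flat g) (_ : LocallyOfFiniteType p) (_ : LocallyOfFiniteType g) (_ : QuasiCompact p) (_ : QuasiCompact g) (δX' : X' → ℤ) (δD' : D' → ℤ) (s' : (Coh.structureModule X').presheaf.obj (Opposite.op ⊤)), i' ≫ g = p ≫ i ∧ Cyc.IsSetup X' δX' ∧ Cyc.DeltaCompat g δX' δ ∧ (∀ d', δD' d' = δX' (i' d')) ∧ Cyc.HasRelDim p 1 ∧ Cyc.HasRelDim g 1 ∧ Cyc.IsZeroSchemeOf i' (Coh.structureModule X') s' ∧ (∀ (k : ℤ) (β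 : AlgebraicCycle D ℤ), β ∈ Cyc.Zk D (fun d => δ (i d)) k → ∀ β' : AlgebraicCycle D' ℤ, ⇑β' = Cyc.pullFun p δD' (fun d => δ (i d)) 1 ⇑β → Cyc.RatEquivZero δD' (k + 1) β' → Cyc.RatEquivZero (fun d => δ (i d)) k β) ∧ ∀ (k : ℤ) (α : AlgebraicCycle X ℤ), α ∈ Cyc.Zk X δ (k + 1) → ∀ (w : (ξ : X) → Cyc.secFibre L ξ), (∀ ξ, w ξ ≠ 0) → ∀ (w' : (ξ : X') → Cyc.secFibre (Coh.structureModule X') ξ), (∀ ξ, w' ξ ≠ 0) → ∀ ζ₁ ζ₂ : AlgebraicCycle D' ℤ, ⇑ζ₁ = Cyc.pullFun p δD' (fun d => δ (i d)) 1 (fun d => Cyc.c1CapFun δ L ⇑α (Cyc.gysinChoice L s w) (i d)) → (∀ d', ζ₂ d' = Cyc.c1CapFun δX' (Coh.structureModule X') (Cyc.pullFun g δX' δ 1 ⇑α) (Cyc.gysinChoice (Coh.structureModule X') s' w') (i' d')) → Cyc.RatEquiv δD' (k + 1) ζ₁ ζ₂ := by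
  classical
  haveI := hX.1
  -- the total space and the line over it
  obtain ⟨V, π, hπfl, hπlft, hπaff, t, X₀, z, hzcl, hzπ, hz0, hrπ, hdata⟩ := TotLine.exists_totalSpace hL
  haveI := hπfl
  haveI := hπlft
  haveI := hπaff
  haveI := hzcl
  haveI := hzπ
  obtain ⟨hflat₁, hlft₁, hr₁⟩ := line_props V
  haveI := hflat₁
  haveI := hlft₁
  let W := A1 V
  let h : W ⟶ X := prL V ≫ π
  have hhr : Cyc.HasRelDim h (1 + 1) := H22Alg.CycBasic.hasRelDim_comp (prL V) π hr₁ hrπ
  have hzh : zeroL V ≫ h = π := by rw [← Category.assoc, H16Derived.GTheory.zeroL_prL, Category.id_comp]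
  obtain ⟨δW, hδW⟩ := SpFun.exists_deltaCompat h δ
  have hW : Cyc.IsSetup W δW := isSetup_of_locallyOfFiniteType h hX hδW
  haveI := hW.1
  -- the section σ
  let M := (Scheme.Modules.pullback h).obj L
  have hM : PicF.IsInvertible M := H11Ample.isInvertible_pullback h hL
  let σ : M.presheaf.obj (op ⊤) := defSec π L s t
  have hσreg : ∀ w : W, ∃ (U : W.Opens) (hw : w ∈ U) (e : Γ(M, U)) (a : W.presheaf.stalk w), IsGen M e ∧
      M.presheaf.germ ⊤ w trivial σ = a • M.presheaf.germ U w hw e ∧ RelCartier.RegAll (h.stalkMap w).hom a := by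
    intro w
    obtain ⟨U, hU, hxU, e, a, he, hta, hareg⟩ := hdata (h w)
    exact defSec_reg π s t hU he hta hareg w hxU
  obtain ⟨X', ι, hιcl, hι⟩ := ZeroSch.exists_zeroScheme hM σ
  haveI := hιcl
  obtain ⟨hσinj, hgfl, hgr⟩ := RelCartier.main h 1 hhr hM ι hι hσreg
  haveI := hgfl
  -- the coordinate
  let OW := Coh.structureModule W
  have hOW : PicF.IsInvertible OW := H11Ample.isInvertible_structureModule
  have hu : Cyc.IsZeroSchemeOf (zeroL V) OW (tL V : Γ(W, ⊤)) := isZero_zeroL V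
  obtain ⟨huinj, -, -⟩ := RelCartier.main (prL V) 0 hr₁ hOW (zeroL V) hu (coord_reg V)
  haveI : Flat (zeroL V ≫ h) := by rw [hzh]; infer_instance
  -- dimension functions
  let δX' : X' → ℤ := fun x => δW (ι x)
  let δV : V → ℤ := fun v => δW (zeroL V v)
  let g : X' ⟶ X := ι ≫ h
  have hX' : Cyc.IsSetup X' δX' := GysinTot.isSetupD hW (i := ι)
  have hV : Cyc.IsSetup V δV := GysinTot.isSetupD hW (i := zeroL V)
  haveI := hX'.1
  haveI := hV.1
  have hδg : Cyc.DeltaCompat g δX' δ := BCPush.deltaCompat_comp ι h (Reduction.deltaCompat_immersion ι δW) hδW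
  have hδπ : Cyc.DeltaCompat π δV δ := by
    have := BCPush.deltaCompat_comp (zeroL V) h (Reduction.deltaCompat_immersion (zeroL V) δW) hδW
    rwa [hzh] at this
  -- the divisor
  let P := pullback π i
  let pP : P ⟶ D := pullback.snd π i
  let δP : P → ℤ := fun y => δV (pullback.fst π i y)
  let πs := OmegaSh.pullSect π L ⊤ s
  have hπs : Cyc.IsZeroSchemeOf (pullback.fst π i) ((Scheme.Modules.pullback π).obj L) πs :=
    GysinTot.isZeroScheme_pullSec hL hD π
  have hπL : PicF.IsInvertible ((Scheme.Modules.pullback π).obj L) := H11Ample.isInvertible_pullback π hL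
  let D' := pullback ι (zeroL V)
  let δD' : D' → ℤ := fun y => δX' (pullback.fst ι (zeroL V) y)
  have hcond : ∀ y : D', δV (pullback.snd ι (zeroL V) y) = δD' y := fun y =>
    congrArg δW congr($(pullback.condition (f := ι) (g := zeroL V)).base y).symm
  -- the section on the zero section
  have hσV₀ : Cyc.IsZeroSchemeOf (pullback.fst (zeroL V) ι) ((Scheme.Modules.pullback (zeroL V)).obj M)
      (GysinTot.pullSec (zeroL V) M σ) := GysinTot.isZeroScheme_pullSec hM hι (zeroL V)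
  let σV := GysinTot.pullSec (zeroL V) M σ
  have hMV : PicF.IsInvertible ((Scheme.Modules.pullback (zeroL V)).obj M) := H11Ample.isInvertible_pullback _ hM
  have hσV : Cyc.IsZeroSchemeOf (pullback.snd ι (zeroL V)) ((Scheme.Modules.pullback (zeroL V)).obj M) σV := by
    rw [← pullbackSymmetry_hom_comp_fst ι (zeroL V)]
    exact GysOps.isZero_iso_comp _ hσV₀
  let ψV : (Scheme.Modules.pullback (zeroL V)).obj M ≅ (Scheme.Modules.pullback π).obj L :=
    (Scheme.Modules.pullbackComp (zeroL V) h).app L ≪≫ (Scheme.Modules.pullbackCongr hzh).app L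
  have hψV : ψV.hom.app ⊤ σV = πs := defSec_zero π L s t hzh
  have hσV' : Cyc.IsZeroSchemeOf (pullback.snd ι (zeroL V)) ((Scheme.Modules.pullback π).obj L) πs :=
    hψV ▸ GysOps.isZero_map_iso ψV hMV hσV
  haveI : IsClosedImmersion (pullback.snd ι (zeroL V)) := MorphismProperty.pullback_snd _ _ inferInstance
  haveI : IsClosedImmersion (pullback.fst ι (zeroL V)) := MorphismProperty.pullback_fst _ _ inferInstance
  haveI : IsClosedImmersion (pullback.fst π i) := MorphismProperty.pullback_fst _ _ inferInstance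
  obtain ⟨ε, hε⟩ := GysOps.exists_iso_zero hπL hπs hσV'
  let p : D' ⟶ D := ε.hom ≫ pP
  haveI : Flat pP := MorphismProperty.pullback_snd _ _ inferInstance
  haveI : LocallyOfFiniteType pP := MorphismProperty.pullback_snd _ _ inferInstance
  haveI : IsAffineHom pP := MorphismProperty.pullback_snd _ _ inferInstance
  have hsqP : IsPullback (pullback.fst π i) pP π i := IsPullback.of_hasPullback π i
  have hrP : Cyc.HasRelDim pP 1 := hasRelDim_of_isPullback hsqP hrπ
  have hrp : Cyc.HasRelDim p 1 := by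
    refine hasRelDim_of_isPullback (IsPullback.of_iso hsqP ε.symm (Iso.refl _) (Iso.refl _) (Iso.refl _)
      (by simp [← hε]) (by simp [p]) (by simp) (by simp) : IsPullback (pullback.snd ι (zeroL V)) p π i) hrπ
  have hδε : ∀ y : D', δP (ε.hom y) = δD' y := fun y => by
    rw [← hcond y, ← hε]
    rfl
  have hi'g : pullback.fst ι (zeroL V) ≫ g = p ≫ i := by
    simp only [g, p, Category.assoc]
    rw [← pullback.condition, reassoc_of% hε, pullback.condition_assoc, hzh]
  have hDs : Cyc.IsSetup D (fun d => δ (i d)) := GysinTot.isSetupD hX (i := i)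
  haveI := hDs.1
  have hP : Cyc.IsSetup P δP := GysinTot.isSetupD hV (i := pullback.fst π i)
  haveI := hP.1
  have hδpP : Cyc.DeltaCompat pP δP (fun d => δ (i d)) :=
    BCPush.deltaCompat_cancel pP i (Reduction.deltaCompat_immersion i δ) (by
      rw [← hsqP.w]
      exact BCPush.deltaCompat_comp (pullback.fst π i) π (Reduction.deltaCompat_immersion _ δV) hδπ)
  have hdP : FlatRat.MaxDim pP δP (fun d => δ (i d)) ((1 : ℕ) : ℤ) := FlatRat.maxDim_of_hasRelDim pP hrP hδpP
  have hD' : Cyc.IsSetup D' δD' := GysinTot.isSetupD hX' (i := pullback.fst ι (zeroL V))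
  haveI := hD'.1
  have hpull : ∀ (F : D → ℤ) (y : D'), Cyc.pullFun p δD' (fun d => δ (i d)) 1 F y =
      Cyc.pullFun pP δP (fun d => δ (i d)) 1 F (ε.hom y) := fun F y => by
    have h0 := congrFun (FlatRat.pullFun_comp ε.hom pP (δX := fun y => δP (ε.hom y)) (δY := δP)
      (δZ := fun d => δ (i d)) (r := 0) (s := 1) (isSetup_of_locallyOfFiniteType ε.hom hP
        (Reduction.deltaCompat_immersion ε.hom δP)) hP (OpenSupp.maxDim_immersion ε.hom δP)
      (by exact_mod_cast hdP) F) y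
    rw [OpenSupp.pullFun_openImmersion, zero_add, funext hδε] at h0
    exact h0.symm
  -- the structure module on X'
  let ψ' := H16Derived.KFlat.Stalk.structurePullbackIso ι
  let u' := GysinTot.pullSec ι OW (tL V : Γ(W, ⊤))
  let s' := ψ'.hom.app ⊤ u'
  have hOW' : PicF.IsInvertible ((Scheme.Modules.pullback ι).obj OW) := H11Ample.isInvertible_pullback ι hOW
  have hu' : Cyc.IsZeroSchemeOf (pullback.fst ι (zeroL V)) ((Scheme.Modules.pullback ι).obj OW) u' :=
    GysinTot.isZeroScheme_pullSec hOW hu ι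
  have hs' : Cyc.IsZeroSchemeOf (pullback.fst ι (zeroL V)) (Coh.structureModule X') s' :=
    GysOps.isZero_map_iso ψ' hOW' hu'
  refine ⟨X', D', pullback.fst ι (zeroL V), p, g, inferInstance, inferInstance, hgfl, inferInstance, inferInstance,
    inferInstance, inferInstance, δX', δD', s', hi'g, hX', hδg, fun _ => rfl, hrp, hgr, hs', ?_, ?_⟩
  · -- injectivity of the pullback
    intro k β hβ β' hβ' h0
    obtain ⟨βP, hβPf, hβP⟩ := C1Api.exists_pullFun_cycle pP hP hDs hdP k β hβ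
    have h1 : Cyc.RatEquivZero δP (k + 1) βP :=
      GysOps.ratEquivZero_iso hP ε (k + 1) βP β' (fun y => by
        rw [hβ', hβPf]
        exact hpull _ y) (by rw [funext hδε]; exact h0)
    exact inj_pull π hπL hz0 hdata i hrP hP hDs hδpP k β hβ βP (by exact_mod_cast hβPf) h1
  · -- the two classes
    intro k α hα w hw w' hw' ζ₁ ζ₂ hζ₁ hζ₂
    have hdh : FlatRat.MaxDim h δW δ ((1 + 1 : ℕ) : ℤ) := FlatRat.maxDim_of_hasRelDim h hhr hδW
    have hdg : FlatRat.MaxDim g δX' δ ((1 : ℕ) : ℤ) := FlatRat.maxDim_of_hasRelDim g hgr hδg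
    have hdπ : FlatRat.MaxDim π δV δ ((1 : ℕ) : ℤ) := FlatRat.maxDim_of_hasRelDim π hrπ hδπ
    obtain ⟨A, hAf, hA⟩ := C1Api.exists_pullFun_cycle h hW hX hdh (k + 1) α hα
    replace hA : A ∈ Cyc.Zk W δW (k + 3) := by
      rw [show k + 3 = k + 1 + ((1 + 1 : ℕ) : ℤ) by push_cast; ring]
      exact hA
    have hA' : A ∈ Cyc.Zk W δW (k + 2 + 1) := by rwa [show k + 2 + 1 = k + 3 by ring]
    obtain ⟨B, hBf, hB⟩ := C1Api.exists_pullFun_cycle g hX' hX hdg (k + 1) α hα
    replace hB : B ∈ Cyc.Zk X' δX' (k + 1 + 1) := by simpa using hB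
    obtain ⟨Q, hQf, hQ⟩ := C1Api.exists_pullFun_cycle π hV hX hdπ (k + 1) α hα
    replace hQ : Q ∈ Cyc.Zk V δV (k + 1 + 1) := by simpa using hQ
    obtain ⟨γσ, hγσf, hγσ⟩ := GysinTot.exists_gysin_cycle (s := σ) (i := ι) hW hM (k + 2) A hA'
      (Chow.sec hM) (Chow.sec_ne_zero hM)
    replace hγσ : γσ ∈ Cyc.Zk X' δX' (k + 1 + 1) := by rw [show k + 1 + 1 = k + 2 by ring]; exact hγσ
    obtain ⟨γu, hγuf, hγu⟩ := GysinTot.exists_gysin_cycle (s := (tL V : Γ(W, ⊤))) (i := zeroL V) hW hOW (k + 2) A hA'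
      (Chow.sec hOW) (Chow.sec_ne_zero hOW)
    replace hγu : γu ∈ Cyc.Zk V δV (k + 1 + 1) := by rw [show k + 1 + 1 = k + 2 by ring]; exact hγu
    have r1 : Cyc.RatEquiv δX' (k + 1 + 1) γσ B := by
      have := Groth.Agent.S1945.result W X X' δW δ hW hX h 1 hhr hδW M hM σ hσinj ι hι hgr k α hα
        (Chow.sec hM) (Chow.sec_ne_zero hM) γσ B (fun x => by rw [hγσf, hAf]; norm_num) hBf
      simpa using this
    have hzr : Cyc.HasRelDim (zeroL V ≫ h) 1 := by rw [hzh]; exact hrπ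
    have r2 : Cyc.RatEquiv δV (k + 1 + 1) γu Q := by
      have := Groth.Agent.S1945.result W X V δW δ hW hX h 1 hhr hδW OW hOW (tL V : Γ(W, ⊤)) huinj (zeroL V) hu hzr
        k α hα (Chow.sec hOW) (Chow.sec_ne_zero hOW) γu Q (fun x => by rw [hγuf, hAf]; norm_num)
        (by rw [hQf]; exact congrArg (fun f : V ⟶ X => Cyc.pullFun f δV δ ((1 : ℕ) : ℤ) ⇑α) hzh.symm)
      simpa using this
    -- successive Gysin images on D'
    obtain ⟨c₁, hc₁f, hc₁⟩ := GysinTot.exists_gysin_cycle (s := u') (i := pullback.fst ι (zeroL V)) hX' hOW' (k + 1)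
      γσ hγσ (Chow.sec hOW') (Chow.sec_ne_zero hOW')
    obtain ⟨c₂, hc₂f, hc₂⟩ := GysinTot.exists_gysin_cycle (s := σV) (i := pullback.snd ι (zeroL V)) hV hMV (k + 1)
      γu hγu (Chow.sec hMV) (Chow.sec_ne_zero hMV)
    have e12 : Cyc.RatEquiv δD' (k + 1) c₁ c₂ := by
      have := Groth.Agent.S1931.result W X' V δW hW M OW hM hOW σ (tL V : Γ(W, ⊤)) ι (zeroL V) hι hu u' hu' σV hσV
        (k + 3) A hA (Chow.sec hM) (Chow.sec_ne_zero hM) (Chow.sec hOW) (Chow.sec_ne_zero hOW)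
        (Chow.sec hOW') (Chow.sec_ne_zero hOW') (Chow.sec hMV) (Chow.sec_ne_zero hMV) ⇑γσ (funext hγσf) ⇑γu
        (funext hγuf) c₁ c₂ hc₁f hc₂f
      rwa [show k + 3 - 2 = k + 1 by ring] at this
    have e1 : Cyc.RatEquiv δD' (k + 1) c₁ ζ₂ :=
      GysOps.gys_compare hX' ψ' hOW' H11Ample.isInvertible_structureModule (s := u') rfl (pullback.fst ι (zeroL V)) hu'
        (k + 1) γσ B hγσ hB r1 (Chow.sec hOW') (Chow.sec_ne_zero hOW') w' hw' c₁ ζ₂ hc₁f
        (fun y => by rw [hζ₂, hBf]; norm_num; rfl)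
    -- the image on the total space
    obtain ⟨ζQ, hζQf, hζQ⟩ := GysinTot.exists_gysin_cycle (s := πs) (i := pullback.snd ι (zeroL V)) hV hπL (k + 1)
      Q hQ (Chow.sec hπL) (Chow.sec_ne_zero hπL)
    have hδD'V : (fun y : D' => δV (pullback.snd ι (zeroL V) y)) = δD' := funext hcond
    rw [hδD'V] at hc₂ hζQ
    have e2 : Cyc.RatEquiv δD' (k + 1) c₂ ζQ := by
      have := GysOps.gys_compare hV ψV hMV hπL hψV (pullback.snd ι (zeroL V)) hσV (k + 1) γu Q hγu hQ r2
        (Chow.sec hMV) (Chow.sec_ne_zero hMV) (Chow.sec hπL) (Chow.sec_ne_zero hπL) c₂ ζQ hc₂f hζQf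
      rwa [hδD'V] at this
    obtain ⟨γD, hγDf, hγD⟩ := GysinTot.exists_gysin_cycle (s := s) (i := i) hX hL k α hα w hw
    obtain ⟨ζP, hζPf, hζP⟩ := C1Api.exists_pullFun_cycle pP hP hDs hdP k γD hγD
    obtain ⟨ηP, hηPf, hηP⟩ := GysinTot.exists_gysin_cycle (s := πs) (i := pullback.fst π i) hV hπL (k + 1) Q hQ
      (Chow.sec hπL) (Chow.sec_ne_zero hπL)
    have r3 : Cyc.RatEquiv δP (k + 1) ηP ζP := by
      have := Groth.Agent.S1933.result X V D δ δV hX hV π 1 hrπ hδπ L hL s i hD πs hπs k α hα w hw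
        (Chow.sec hπL) (Chow.sec_ne_zero hπL) ηP ζP (fun y => by rw [hηPf, hQf])
        (by rw [hζPf]; exact congrArg _ (funext hγDf))
      simpa using this
    have e3 : Cyc.RatEquiv δD' (k + 1) ζQ ζ₁ := by
      have := GysOps.ratEquiv_iso hP ε (k + 1) ηP ζP r3 ζQ ζ₁ (fun y => by
          rw [hζQf, hηPf]
          exact congrArg _ (congr($(hε).base y).symm))
        (fun y => by
          rw [hζ₁, hpull, hζPf, show (fun d => Cyc.c1CapFun δ L ⇑α (Cyc.gysinChoice L s w) (i d)) = ⇑γD from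
            (funext hγDf).symm]
          norm_num)
      rwa [funext hδε] at this
    have hm₂ : ζ₂ ∈ Cyc.Zk D' δD' (k + 1) :=
      GysOps.gysin_mem (s := s') hX' H11Ample.isInvertible_structureModule (pullback.fst ι (zeroL V)) (k + 1) B hB w' hw' ζ₂
        (fun y => by rw [hζ₂, hBf]; norm_num)
    have hm₁ : ζ₁ ∈ Cyc.Zk D' δD' (k + 1) := fun y hy => by
      rw [hζ₁, hpull, show (fun d => Cyc.c1CapFun δ L ⇑α (Cyc.gysinChoice L s w) (i d)) = ⇑γD from
        (funext hγDf).symm]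
      have := hζP (ε.hom y) (by rw [hδε]; simpa using hy)
      rw [hζPf] at this
      simpa using this
    rw [← Chow.cl_eq_iff hm₁ hm₂, ← (Chow.cl_eq_iff hc₁ hm₂).mpr e1, (Chow.cl_eq_iff hc₁ hc₂).mpr e12,
      (Chow.cl_eq_iff hc₂ hζQ).mpr e2, (Chow.cl_eq_iff hζQ hm₁).mpr e3]

end Groth.Agent.S6488
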