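import Groth.Statements.S10045
import Groth.Agent.H13AlgSp.ThickAff.Base

set_option autoImplicit false
universe u
open CategoryTheory CategoryTheory.Limits AlgebraicGeometry
open AlgSp

namespace Groth.Agent.S10045

open Groth.Agent.H12AlgSp Groth.Agent.H13AlgSp

/-- Let `X` be an algebraic space over `S` and `X_red ⟶ X` its reduction (the reduced closed subspace
with the same points). If `X_red` is a scheme, then `X` is a scheme. -/
theorem result (S : Scheme.{u}) (X Z : AlgSp.Space S) (i : Z ⟶ X)
    (hi : AlgSp.IsRedInduced Set.univ i.hom) (hZ : Z.obj.obj.IsRepresentable) : X.obj.obj.IsRepresentable := by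
  obtain ⟨T, ⟨e⟩⟩ := isRepresentable_iff_exists_iso.1 hZ
  have h : AlgSp.IsThickMor i.hom := repWith_inf_iff.2 ⟨hi.1, repWith_surjective_of_map hi.1.1
    (Set.range_eq_univ.1 hi.2.1)⟩
  obtain ⟨M, hM⟩ := ThickAff.exists_iso_of_thickMor X.property
    (MorphismProperty.RespectsIso.precomp (AlgSp.RepWith AlgSp.thick) e.hom i.hom h)
  exact isRepresentable_iff_exists_iso.2 ⟨M, hM⟩

end Groth.Agent.S10045
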