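import Groth.Statements.S19178
import Mathlib.RingTheory.Polynomial.Eisenstein.Criterion
import Mathlib.Algebra.MvPolynomial.Equiv
import Mathlib.Algebra.MvPolynomial.Division
import Mathlib.Tactic.ComputeDegree
import Mathlib.Tactic.IntervalCases
import Mathlib.RingTheory.Polynomial.UniqueFactorization

set_option autoImplicit false
universe u
open Curves

namespace Groth.Agent.S19178

/-- For every field k and every choice of coefficients a₁, a₂, a₃, a₄, a₆ in k, the homogeneous
Weierstrass cubic Y²Z + a₁XYZ + a₃YZ² − (X³ + a₂X²Z + a₄XZ² + a₆Z³) is an irreducible polynomial in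
k[X, Y, Z]. Applied to all fields, this says every fibre of the Weierstrass family over the affine
space of coefficients is geometrically integral. -/
theorem result (k : Type u) [Field k]
    (W : WeierstrassCurve k) :
    Irreducible (WeierstrassCurve.Projective.polynomial W) := by
  classical
  set R := MvPolynomial (Fin 2) k
  set Y : R := MvPolynomial.X 0 with hY
  set Z : R := MvPolynomial.X 1 with hZ
  set f : Polynomial R := Polynomial.X ^ 3 + Polynomial.C (MvPolynomial.C W.a₂ * Z) * Polynomial.X ^ 2
      + Polynomial.C (MvPolynomial.C W.a₄ * Z ^ 2 - MvPolynomial.C W.a₁ * (Y * Z)) * Polynomial.X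
      + Polynomial.C (MvPolynomial.C W.a₆ * Z ^ 3 - Y ^ 2 * Z - MvPolynomial.C W.a₃ * (Y * Z ^ 2)) with hf
  have hdeg : f.natDegree = 3 := by rw [hf]; compute_degree!
  have hmon : f.Monic := by
    rw [Polynomial.Monic, Polynomial.leadingCoeff, hdeg, hf]
    simp only [Polynomial.coeff_add, Polynomial.coeff_C_mul, Polynomial.coeff_X_pow, Polynomial.coeff_X, Polynomial.coeff_C]
    simp
  have hZp : (Ideal.span ({Z} : Set R)).IsPrime :=
    (Ideal.span_singleton_prime (MvPolynomial.X_ne_zero 1)).mpr MvPolynomial.X_prime
  have hirr : Irreducible f := by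
    apply Polynomial.irreducible_of_eisenstein_criterion hZp
    · rw [hmon.leadingCoeff]; exact fun h => hZp.ne_top ((Ideal.eq_top_iff_one _).mpr h)
    · intro n hn
      rw [Polynomial.degree_eq_natDegree hmon.ne_zero, hdeg] at hn
      have hn3 : n < 3 := by exact_mod_cast hn
      interval_cases n <;>
        simp only [hf, Polynomial.coeff_add, Polynomial.coeff_C_mul, Polynomial.coeff_X_pow, Polynomial.coeff_X, Polynomial.coeff_C] <;>
        norm_num <;>
        rw [Ideal.mem_span_singleton]
      · exact dvd_sub (dvd_sub (Dvd.dvd.mul_left (dvd_pow_self _ three_ne_zero) _) (dvd_mul_left _ _))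
          (Dvd.dvd.mul_left (Dvd.dvd.mul_left (dvd_pow_self _ two_ne_zero) _) _)
      · exact dvd_sub (Dvd.dvd.mul_left (dvd_pow_self _ two_ne_zero) _)
          (Dvd.dvd.mul_left (dvd_mul_left _ _) _)
      · exact dvd_mul_left _ _
    · rw [← Polynomial.natDegree_pos_iff_degree_pos, hdeg]; norm_num
    · rw [Ideal.span_singleton_pow, Ideal.mem_span_singleton]
      intro h
      have h' := map_dvd (MvPolynomial.aeval (R := k) ![(1 : Polynomial k), Polynomial.X]) h
      simp only [hf, Polynomial.coeff_add, Polynomial.coeff_C_mul, Polynomial.coeff_X_pow, Polynomial.coeff_X, Polynomial.coeff_C] at h'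
      simp [hY, hZ] at h'
      have := Polynomial.X_pow_dvd_iff.mp h' 1 (by norm_num)
      simp [Polynomial.coeff_X_pow, ← map_mul] at this
    · exact hmon.isPrimitive
  have he : MvPolynomial.finSuccEquiv k 2 (WeierstrassCurve.Projective.polynomial W) = -f := by
    have e0 : MvPolynomial.finSuccEquiv k 2 (MvPolynomial.X 0) = Polynomial.X :=
      MvPolynomial.finSuccEquiv_X_zero
    have e1 : MvPolynomial.finSuccEquiv k 2 (MvPolynomial.X 1) = Polynomial.C Y :=
      MvPolynomial.finSuccEquiv_X_succ (j := 0)
    have e2 : MvPolynomial.finSuccEquiv k 2 (MvPolynomial.X 2) = Polynomial.C Z :=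
      MvPolynomial.finSuccEquiv_X_succ (j := 1)
    have ec : ∀ a : k, MvPolynomial.finSuccEquiv k 2 (MvPolynomial.C a) =
        Polynomial.C (MvPolynomial.C a) := fun a => by
      simp [MvPolynomial.finSuccEquiv_apply]
    simp only [WeierstrassCurve.Projective.polynomial, hf, map_add, map_sub, map_mul, map_pow,
      e0, e1, e2, ec]
    ring
  rw [← MulEquiv.irreducible_iff (MvPolynomial.finSuccEquiv k 2)]
  rw [he]
  exact (Associated.refl f).neg_right.irreducible hirr

end Groth.Agent.S19178
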