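import Groth.Statements.S1929
import Groth.Agent.H3Cyc.CommApp
-- import your own Groth.Agent.* helpers here

set_option autoImplicit false
universe u
open CategoryTheory AlgebraicGeometry
open Cyc
open Groth.Agent
open Groth.Agent.H3Cyc

namespace Groth.Agent.S1929

/-- Let (L, s, i : D → X) be an invertible module, a global section and the inclusion of its zero
scheme. If a (k + 1)-cycle α on X is rationally equivalent to zero on X, then i^*α is rationally
equivalent to zero on D. Here i : D → X is the zero scheme of a global section s of the invertible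
module L (Cyc.IsZeroSchemeOf), the Gysin map i^* : Z_{k+1}(X) → CH_k(D) is computed on coefficient
functions as c_1(L) ∩ − with the rational sections taken to be s where it is nonzero
(Cyc.gysinChoice) and restricted to the points of D, and classes on D are compared up to rational
equivalence on D for the restricted dimension function. A pair (X, δ) with Cyc.IsSetup plays the
role of a scheme locally of finite type over a base with a dimension function (X locally Noetherian
with universally catenary local rings, δ a dimension function). -/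
theorem result (X D : Scheme.{u}) (δ : X → ℤ) (hX : Cyc.IsSetup X δ) (L : X.Modules) (hL : PicF.IsInvertible L) (s : L.presheaf.obj (Opposite.op ⊤)) (i : D ⟶ X) [IsClosedImmersion i] (hD : Cyc.IsZeroSchemeOf i L s) (k : ℤ) (α : AlgebraicCycle X ℤ) (hα : α ∈ Cyc.Zk X δ (k + 1)) (h0 : Cyc.RatEquivZero δ (k + 1) α) (t : (ξ : X) → Cyc.secFibre L ξ) (ht : ∀ ξ, t ξ ≠ 0) (γ : AlgebraicCycle D ℤ) (hγ : ∀ d : D, γ d = Cyc.c1CapFun δ L ⇑α (Cyc.gysinChoice L s t) (i d)) : Cyc.RatEquivZero (fun d => δ (i d)) k γ := by
  classical
  haveI := hX.1
  obtain ⟨ι, ξ, f, hk, hf, hlf, hsum⟩ := h0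
  have hc : IsClosed (Set.range i) := i.isClosedEmbedding.isClosed_range
  have hv := Gysin.gysinChoice_ne_zero L s t ht
  have hfam : RatFam δ k (Set.range i) fun x => Cyc.c1CapFun δ L ⇑α (Cyc.gysinChoice L s t) x := by
    refine RatFam.family (fun a => closure {ξ a}) (fun a => isClosed_closure) hlf
      (fun a x => Cyc.c1CapFun δ L (Cyc.divFun δ (ξ a) (f a)) (Cyc.gysinChoice L s t) x) (fun a => ?_) fun x => ?_
    · refine CommApp.comm_div hX hL k (by rw [hk a]; ring) (hf a) _ (hv (ξ a)) _ hv (Set.range i) fun z hz hs _ => ?_
      exact CommApp.gysinChoice_flat hL hD t (fun h => hz (hs.mem_closed hc h)) hz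
    · refine Transfer.c1CapFun_family (fun a => closure {ξ a}) (fun a => isClosed_closure) _ (fun a z hz => ?_)
        (fun a y => H22Alg.CycDiv.locallyFinite_divFun hX.2.2 _ (hf a) y) hlf _ ⇑α hsum x
      simp only [Cyc.divFun]
      rw [dif_neg fun hh => hz (specializes_iff_mem_closure.mp hh.1)]
  exact RatFam.restrict i hfam subset_rfl hγ

end Groth.Agent.S1929
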