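import Groth.Statements.S6466
import Groth.Agent.H3Cyc.CommApp
-- import your own Groth.Agent.* helpers here

set_option autoImplicit false
universe u
open CategoryTheory AlgebraicGeometry
open Cyc
open Groth.Agent
open Groth.Agent.H3Cyc

namespace Groth.Agent.S6466

/-- Let (L, s, i : D → X) be a triple defining a Gysin map and N an invertible O_X-module. Then
i^*(c_1(N) ∩ α) = c_1(i^*N) ∩ i^*α in CH_{k−2}(D) for every k-cycle α on X: with β any (k − 1)-cycle
with the coefficients of c_1(N) ∩ α (any nonzero sections v) and γ = i^*α as a coefficient function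
on D, the cycles i^*β and c_1(i^*N) ∩ γ (any nonzero sections t of i^*N) are rationally equivalent
on D. Here i : D → X is the zero scheme of a global section s of the invertible module L
(Cyc.IsZeroSchemeOf), the Gysin map i^* : Z_{k+1}(X) → CH_k(D) is computed on coefficient functions
as c_1(L) ∩ − with the rational sections taken to be s where it is nonzero and a nonzero fallback
elsewhere (Cyc.gysinChoice), restricted to the points of D, and classes on D are compared up to
rational equivalence on D for the restricted dimension function; (X, δ) with Cyc.IsSetup stands for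
a scheme locally of finite type over the base (S, δ). -/
theorem result (X D : Scheme.{u}) (δ : X → ℤ) (hX : Cyc.IsSetup X δ) (L N : X.Modules) (hL : PicF.IsInvertible L) (hN : PicF.IsInvertible N) (s : L.presheaf.obj (Opposite.op ⊤)) (i : D ⟶ X) [IsClosedImmersion i] (hD : Cyc.IsZeroSchemeOf i L s) (k : ℤ) (α : AlgebraicCycle X ℤ) (hα : α ∈ Cyc.Zk X δ k) (w : (ξ : X) → Cyc.secFibre L ξ) (hw : ∀ ξ, w ξ ≠ 0) (v : (ξ : X) → Cyc.secFibre N ξ) (hv : ∀ ξ, v ξ ≠ 0) (t : (d : D) → Cyc.secFibre ((Scheme.Modules.pullback i).obj N) d) (ht : ∀ d, t d ≠ 0) (β : AlgebraicCycle X ℤ) (hβ : ⇑β = Cyc.c1CapFun δ N ⇑α v) (γ : D → ℤ) (hγ : γ = fun d => Cyc.c1CapFun δ L ⇑α (Cyc.gysinChoice L s w) (i d)) (ζ₁ ζ₂ : AlgebraicCycle D ℤ) (h₁ : ∀ d, ζ₁ d = Cyc.c1CapFun δ L ⇑β (Cyc.gysinChoice L s w) (i d)) (h₂ : ⇑ζ₂ = Cyc.c1CapFun (fun d => δ (i d)) ((Scheme.Modules.pullback i).obj N) γ t) : Cyc.RatEquiv (fun d => δ (i d)) (k - 2) ζ₁ ζ₂ := by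
  classical
  haveI := hX.1
  haveI : IsLocallyNoetherian D := LocallyOfFiniteType.isLocallyNoetherian i
  have hc : IsClosed (Set.range i) := i.isClosedEmbedding.isClosed_range
  have hcv := Gysin.gysinChoice_ne_zero L s w hw
  have hk2 : α ∈ Cyc.Zk X δ (k - 2 + 2) := by rwa [sub_add_cancel]
  have hfam := CommApp.comm_cycle hX hL hN (k - 2) α hk2 (Cyc.gysinChoice L s w) (Cyc.gysinChoice L s w) hcv hcv v v hv hv
    (Set.range i) fun ξ _ z hz hs _ => Or.inl (CommApp.gysinChoice_flat hL hD w (fun h => hz (hs.mem_closed hc h)) hz)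
  obtain ⟨γX, hγX, hγXk⟩ := C1Api.exists_c1Cap_cycle hX.2.2 hL (k - 1) α
    (show α ∈ Cyc.Zk X δ (k - 1 + 1) by rwa [sub_add_cancel]) _ hcv
  let γD : AlgebraicCycle D ℤ := ⟨fun d => γX (i d), by simp, fun d _ => by
    obtain ⟨t', ht', hfin⟩ := γX.supportLocallyFiniteWithinDomain' (i d) trivial
    exact ⟨i ⁻¹' t', i.continuous.continuousAt.preimage_mem_nhds ht',
      (hfin.preimage i.isEmbedding.injective.injOn).subset fun y hy => hy⟩⟩
  have hγD : γD ∈ Cyc.Zk D (fun d => δ (i d)) (k - 2 + 1) := fun d hd => hγXk (i d) (by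
    rw [show k - 1 = k - 2 + 1 by ring]; exact hd)
  have hγe : ⇑γD = γ := by
    funext d
    show γX (i d) = γ d
    rw [hγX, hγ]
  have hu : ∀ d, C1Api.pullFib i N d (v (i d)) ≠ 0 := fun d => C1Api.pullFib_ne_zero i hN d _ (hv _)
  obtain ⟨ζ', hζ', -⟩ := C1Api.exists_c1Cap_cycle (Reduction.isSetup_closedImmersion i hX).2.2
    (C1Api.isInvertible_pullback' i hN) (k - 2) γD hγD _ hu
  have e1 : Cyc.RatEquiv (fun d => δ (i d)) (k - 2) ζ' ζ₁ := by
    refine RatFam.restrict i hfam subset_rfl fun d => ?_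
    show ζ' d - ζ₁ d = _
    rw [h₁, hζ', hβ, ← hγX, Gysin.c1Cap_immersion i hN δ (⇑γX)
      (fun x hx => by rw [hγX]; exact CommApp.gysin_off hL hD w _ hx) v hv d]
    rfl
  exact RatRel.trans (RatRel.symm e1)
    (RatRel.c1Cap_indep (C1Api.isInvertible_pullback' i hN) γD hγD _ t hu ht ζ' ζ₂ hζ' (by rw [h₂, hγe]))

end Groth.Agent.S6466
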