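import Groth.Statements.S1932
import Groth.Agent.H3Cyc.Gysin
-- import your own Groth.Agent.* helpers here

set_option autoImplicit false
universe u
open CategoryTheory AlgebraicGeometry
open CategoryTheory.Limits
open Cyc
open Groth.Agent.H3Cyc

namespace Groth.Agent.S1932

/-- Gysin maps commute with proper push-forward: let f : X' → X be a proper morphism, L an invertible
O_X-module with a global section s whose zero scheme is the closed immersion i : D → X
(Cyc.IsZeroSchemeOf), and D' = X' ×_X D with projections i' : D' → X' and g : D' → D, where i' is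
the zero scheme of some global section s' of f^*L. For a (k + 1)-cycle α' on X', i^*(f_*α') ∼_rat
g_*((i')^*α') as k-cycles on D. Here the Gysin map i^* : Z_{k+1}(X) → CH_k(D) is computed on
coefficient functions as c_1(L) ∩ − with the rational sections taken to be s where it is nonzero
(Cyc.gysinChoice, completed by arbitrary nonzero choices elsewhere) and restricted to the points of
D, likewise for (i')^* with f^*L and s', and classes on D are compared up to rational equivalence on
D for the restricted dimension function. A pair (X, δ) with Cyc.IsSetup (X locally Noetherian with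
universally catenary local rings, δ a dimension function) plays the role of a scheme locally of
finite type over a base equipped with a dimension function, and Cyc.DeltaCompat records that the
dimension function δ' on X' is the one induced from δ along f. -/
theorem result (X X' D : Scheme.{u}) (δ : X → ℤ) (δ' : X' → ℤ) (hX : Cyc.IsSetup X δ) (hX' : Cyc.IsSetup X' δ') (f : X' ⟶ X) [IsProper f] (hδ : Cyc.DeltaCompat f δ' δ) (L : X.Modules) (hL : PicF.IsInvertible L) (s : L.presheaf.obj (Opposite.op ⊤)) (i : D ⟶ X) [IsClosedImmersion i] (hD : Cyc.IsZeroSchemeOf i L s) (s' : ((Scheme.Modules.pullback f).obj L).presheaf.obj (Opposite.op ⊤)) (hD' : Cyc.IsZeroSchemeOf (pullback.fst f i) ((Scheme.Modules.pullback f).obj L) s') (k : ℤ) (α' : AlgebraicCycle X' ℤ) (hα' : α' ∈ Cyc.Zk X' δ' (k + 1)) (w : (ξ : X) → Cyc.secFibre L ξ) (hw : ∀ ξ, w ξ ≠ 0) (w' : (ξ : X') → Cyc.secFibre ((Scheme.Modules.pullback f).obj L) ξ) (hw' : ∀ ξ, w' ξ ≠ 0) (γ : AlgebraicCycle D ℤ) (hγ : ∀ d, γ d = Cyc.c1CapFun δ L ⇑(AlgebraicCycle.map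 f δ' δ α') (Cyc.gysinChoice L s w) (i d)) (γ' : AlgebraicCycle (pullback f i) ℤ) (hγ' : ∀ z, γ' z = Cyc.c1CapFun δ' ((Scheme.Modules.pullback f).obj L) ⇑α' (Cyc.gysinChoice ((Scheme.Modules.pullback f).obj L) s' w') (pullback.fst f i z)) : Cyc.RatEquiv (fun d => δ (i d)) k γ (AlgebraicCycle.map (pullback.snd f i) (fun z => δ' (pullback.fst f i z)) (fun d => δ (i d)) γ') := by
  classical
  haveI := hX.1
  haveI := hX'.1
  have hL' := C1Api.isInvertible_pullback' f hL
  have hv := Gysin.gysinChoice_ne_zero L s w hw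
  let u₀ : (ξ : X') → Cyc.secFibre ((Scheme.Modules.pullback f).obj L) ξ := fun ξ =>
    C1Api.pullFib f L ξ (Cyc.gysinChoice L s w (f ξ))
  have hu₀ : ∀ ξ, u₀ ξ ≠ 0 := fun ξ => C1Api.pullFib_ne_zero f hL ξ _ (hv _)
  obtain ⟨γ₀, hγ₀, -⟩ := C1Api.exists_c1Cap_cycle hX'.2.2 hL' k α' hα' u₀ hu₀
  let γ₁ : AlgebraicCycle (pullback f i) ℤ := ⟨fun z => γ₀ (pullback.fst f i z), by simp, fun z _ => by
    obtain ⟨t, ht, hfin⟩ := γ₀.supportLocallyFiniteWithinDomain' (pullback.fst f i z) trivial
    exact ⟨pullback.fst f i ⁻¹' t, (pullback.fst f i).continuous.continuousAt.preimage_mem_nhds ht,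
      (hfin.preimage (pullback.fst f i).isEmbedding.injective.injOn).subset fun w hw => hw⟩⟩
  have h1 : Cyc.RatEquiv (fun z => δ' (pullback.fst f i z)) k γ₁ γ' :=
    Gysin.gysin_congr (pullback.fst f i) hL' k α' hα' u₀ (Cyc.gysinChoice _ s' w') hu₀
      (Gysin.gysinChoice_ne_zero _ s' w' hw')
      (fun ξ hξ z h => (Gysin.secDiv_gysin_pullFib f δ' hL hD hD' w w' ξ hξ z h).symm) γ₁ γ'
      (fun z => congrFun hγ₀ (pullback.fst f i z)) hγ'
  have h2 := PushRat.ratEquiv_map (pullback.snd f i) (Reduction.isSetup_closedImmersion (pullback.fst f i) hX')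
    (Reduction.isSetup_closedImmersion i hX)
    (Reduction.deltaCompat_factor (pullback.fst f i) f (pullback.snd f i) i pullback.condition.symm hδ) k γ₁ γ' h1
  suffices he : AlgebraicCycle.map (pullback.snd f i) (fun z => δ' (pullback.fst f i z)) (fun d => δ (i d)) γ₁ = γ by
    rwa [he] at h2
  refine DFunLike.coe_injective (funext fun d => ?_)
  rw [hγ, ← C1Api.map_c1Cap_apply f hX' hX hδ hL α' _ hv γ₀ hγ₀]
  exact Gysin.map_restrict_apply f i δ' δ γ₀ γ₁ (fun z => rfl) d

end Groth.Agent.S1932
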