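import Groth.Statements.S15076
-- import your own Groth.Agent.* helpers here
import Groth.Agent.H29Ref.Free
import Groth.Agent.H22Alg.KClOps
import Groth.Agent.H17.AssPts
import Mathlib

set_option autoImplicit false
universe u
open CategoryTheory CategoryTheory.Limits AlgebraicGeometry TopologicalSpace Opposite
open OrdSurf

namespace Groth.Agent.S15076

open TopologicalSpace

set_option backward.isDefEq.respectTransparency.types false
set_option backward.isDefEq.respectTransparency false

/-- The stalk of a ring sheaf, as a ring. -/
abbrev St {X : Scheme.{u}} (A : Sheaf (Opens.grothendieckTopology X) RingCat.{u}) (x : X) : Type u :=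
  ↑(TopCat.Presheaf.stalk (C := RingCat.{u}) (X := X.carrier) A.obj x)

/-- The stalk of a sheaf of modules over a ring sheaf. -/
abbrev MSt {X : Scheme.{u}} {A : Sheaf (Opens.grothendieckTopology X) RingCat.{u}} (P : SheafOfModules.{u} A) (x : X) : Type u :=
  ↑(TopCat.Presheaf.stalk (C := Ab.{u}) (X := X.carrier) P.val.presheaf x)

variable {X : Scheme.{u}} {A : Sheaf (Opens.grothendieckTopology X) RingCat.{u}}

/-- The stalk of the structure sheaf acts on restricted modules through the stalk of the algebra. -/
theorem smul_eq (φ : X.ringCatSheaf ⟶ A) (x : X) (r : X.presheaf.stalk x) :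
    ∃ c : St A x, ∀ (P : SheafOfModules.{u} A)
      (m : (id (α := X.Modules) ((SheafOfModules.restrictScalars φ).obj P)).presheaf.stalk x),
        r • m = (show (id (α := X.Modules) ((SheafOfModules.restrictScalars φ).obj P)).presheaf.stalk x from
          c • (show MSt P x from m)) := by
  obtain ⟨U, hU, t, rfl⟩ := X.presheaf.exists_germ_eq r
  refine ⟨TopCat.Presheaf.germ (C := RingCat.{u}) (X := X.carrier) A.obj U x hU ((φ.hom.app (Opposite.op U)).hom t), fun P m => ?_⟩
  let Po : X.Modules := (SheafOfModules.restrictScalars φ).obj P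
  obtain ⟨V, hV, s, rfl⟩ := Po.presheaf.exists_germ_eq m
  let W := U ⊓ V
  have hW : x ∈ W := ⟨hU, hV⟩
  rw [← TopCat.Presheaf.germ_res_apply X.presheaf (homOfLE inf_le_left : W ⟶ U) x hW t,
    ← TopCat.Presheaf.germ_res_apply A.obj (homOfLE inf_le_left : W ⟶ U) x hW]
  erw [← TopCat.Presheaf.germ_res_apply Po.presheaf (homOfLE inf_le_right : W ⟶ V) x hW s]
  rw [← H17.AssPts.germ_smul' Po hW]
  have hn : A.obj.map (homOfLE inf_le_left : W ⟶ U).op ((φ.hom.app (Opposite.op U)).hom t) =
      (φ.hom.app (Opposite.op W)).hom (X.presheaf.map (homOfLE inf_le_left : W ⟶ U).op t) :=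
    (ConcreteCategory.congr_hom (φ.hom.naturality (homOfLE inf_le_left : W ⟶ U).op) t).symm
  erw [hn, ← PresheafOfModules.germ_ringCat_smul P.val x W hW]
  rfl

/-- The stalk of the unit module is free of rank one over the stalk ring. -/
noncomputable def unitEquiv (A : Sheaf (Opens.grothendieckTopology X) RingCat.{u}) (x : X) :
    St A x ≃ₗ[St A x] MSt (SheafOfModules.unit A) x :=
  let u1 : MSt (SheafOfModules.unit A) x :=
    TopCat.Presheaf.germ (C := Ab.{u}) (X := X.carrier) (SheafOfModules.unit A).val.presheaf ⊤ x trivial
      (show A.obj.obj (Opposite.op ⊤) from 1)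
  LinearEquiv.ofBijective (LinearMap.toSpanSingleton (St A x) (MSt (SheafOfModules.unit A) x) u1) (by
    have key : ∀ (U : X.Opens) (hU : x ∈ U) (a : A.obj.obj (Opposite.op U)),
        TopCat.Presheaf.germ (C := RingCat.{u}) (X := X.carrier) A.obj U x hU a • u1 =
          TopCat.Presheaf.germ (C := Ab.{u}) (X := X.carrier) (SheafOfModules.unit A).val.presheaf U x hU
            (show A.obj.obj (Opposite.op U) from a) := by
      intro U hU a
      have h1 : u1 = TopCat.Presheaf.germ (C := Ab.{u}) (X := X.carrier) (SheafOfModules.unit A).val.presheaf U x hU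
          (show A.obj.obj (Opposite.op U) from 1) := by
        show TopCat.Presheaf.germ (C := Ab.{u}) (X := X.carrier) (SheafOfModules.unit A).val.presheaf ⊤ x trivial _ = _
        rw [← TopCat.Presheaf.germ_res_apply (SheafOfModules.unit A).val.presheaf (homOfLE le_top : U ⟶ ⊤) x hU]
        exact congrArg _ (map_one (A.obj.map (homOfLE le_top : U ⟶ ⊤).op).hom)
      rw [h1]
      erw [← PresheafOfModules.germ_ringCat_smul (SheafOfModules.unit A).val x U hU]
      exact congrArg _ (mul_one a)
    refine ⟨(injective_iff_map_eq_zero _).2 fun c hc => ?_, fun m => ?_⟩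
    · obtain ⟨U, hU, a, rfl⟩ := TopCat.Presheaf.germ_exist A.obj c
      rw [LinearMap.toSpanSingleton_apply, key U hU a] at hc
      obtain ⟨W, hW, i, i', h⟩ := TopCat.Presheaf.germ_eq (SheafOfModules.unit A).val.presheaf x hU hU _
        (show A.obj.obj (Opposite.op U) from 0) (hc.trans (map_zero _).symm)
      rw [← TopCat.Presheaf.germ_res_apply A.obj i x hW]
      have h0 : A.obj.map i.op a = 0 := h.trans (map_zero (A.obj.map i'.op).hom)
      rw [h0, map_zero]
    · obtain ⟨U, hU, a, rfl⟩ := TopCat.Presheaf.germ_exist (SheafOfModules.unit A).val.presheaf m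
      exact ⟨_, key U hU a⟩)

end Groth.Agent.S15076

namespace Groth.Agent.S15076

/-- Let k be an algebraically closed field of characteristic zero and X a smooth projective surface over
k (an integral k-scheme, smooth over k, of dimension two, admitting a closed immersion over k into
some projective space P^n_k). Let A be a sheaf of rings on X with a morphism φ : O_X → A of sheaves
of rings with central image (a sheaf of O_X-algebras) such that A is finite locally free as an
O_X-module through φ. Let M be a sheaf of A-modules whose underlying O_X-module is coherent and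
which is locally projective over A in the sense that every stalk M_x is a projective module over the
stalk A_x. Then the underlying O_X-module of M is finite locally free. (The published statement
takes A to be a maximal order on X, which is locally free of finite rank; only that consequence is
assumed here, together with the stalkwise reading of local projectivity.) -/
theorem result (k : Type u) [Field k] [IsAlgClosed k] [CharZero k]
    (X : Scheme.{u}) [X.Over (Spec (CommRingCat.of k))] [IsIntegral X]
    [Smooth (X ↘ Spec (CommRingCat.of k))] (hdim : topologicalKrullDim X = 2)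
    (hproj : ∃ (n : ℕ) (ι : X ⟶ CohB1.ProjSpace n k), IsClosedImmersion ι ∧
      ι ≫ CohB1.ProjSpace.toSpec n k = X ↘ Spec (CommRingCat.of k))
    (A : Sheaf (Opens.grothendieckTopology X) RingCat.{u}) (φ : X.ringCatSheaf ⟶ A)
    (hcen : ∀ (U : (Opens X)ᵒᵖ) (s : X.ringCatSheaf.obj.obj U) (a : A.obj.obj U),
      φ.hom.app U s * a = a * φ.hom.app U s)
    (hA : FlatMod.IsFinLocFree (X := X) ((SheafOfModules.restrictScalars φ).obj (SheafOfModules.unit A)))
    (M : SheafOfModules.{u} A)
    (hMc : Coh.IsCoh (X := X) ((SheafOfModules.restrictScalars φ).obj M))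
    (hMp : ∀ x : X, Module.Projective ↑(TopCat.Presheaf.stalk (C := RingCat.{u}) (X := X.carrier) A.obj x)
      ↑(TopCat.Presheaf.stalk (C := Ab.{u}) (X := X.carrier) M.val.presheaf x)) :
    FlatMod.IsFinLocFree (X := X) ((SheafOfModules.restrictScalars φ).obj M) := by
  classical
  haveI : IsLocallyNoetherian X := LocallyOfFiniteType.isLocallyNoetherian (X ↘ Spec (CommRingCat.of k))
  refine H29Ref.isFinLocFree_of_free_stalk _ hMc fun x => ?_
  let R := X.presheaf.stalk x
  let Uo : X.Modules := (SheafOfModules.restrictScalars φ).obj (SheafOfModules.unit A)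
  let Mo : X.Modules := (SheafOfModules.restrictScalars φ).obj M
  haveI : Module.Free R (Uo.presheaf.stalk x) := H8Props.FinLocFree.free_stalk Uo hA x
  haveI : Module.Finite R (Mo.presheaf.stalk x) := H29Ref.finite_stalk Mo hMc.2 x
  choose cR hcR using smul_eq φ x
  obtain ⟨s, hs⟩ := Module.projective_def'.1 (hMp x)
  let E : (MSt M x →₀ St A x) ≃ₗ[St A x] (MSt M x →₀ MSt (SheafOfModules.unit A) x) :=
    Finsupp.mapRange.linearEquiv (unitEquiv A x)
  let i₀ : MSt M x →ₗ[St A x] (MSt M x →₀ MSt (SheafOfModules.unit A) x) := E.toLinearMap ∘ₗ s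
  let p₀ : (MSt M x →₀ MSt (SheafOfModules.unit A) x) →ₗ[St A x] MSt M x :=
    Finsupp.linearCombination (St A x) id ∘ₗ E.symm.toLinearMap
  have hpi : ∀ m, p₀ (i₀ m) = m := fun m => by
    show Finsupp.linearCombination (St A x) id (E.symm (E (s m))) = m
    rw [E.symm_apply_apply]
    exact LinearMap.congr_fun hs m
  let i : Mo.presheaf.stalk x →ₗ[R] (MSt M x →₀ Uo.presheaf.stalk x) :=
    { toFun := fun m => i₀ m
      map_add' := map_add i₀
      map_smul' := fun r m => by
        rw [RingHom.id_apply, hcR r M m]
        refine (map_smul i₀ (cR r) (show MSt M x from m)).trans (Finsupp.ext fun a => ?_)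
        show cR r • (i₀ m a) = r • (show Uo.presheaf.stalk x from i₀ m a)
        exact (hcR r (SheafOfModules.unit A) _).symm }
  let p : (MSt M x →₀ Uo.presheaf.stalk x) →ₗ[R] Mo.presheaf.stalk x :=
    { toFun := fun v => p₀ v
      map_add' := map_add p₀
      map_smul' := fun r v => by
        rw [RingHom.id_apply, hcR r M (p₀ v)]
        refine (congrArg p₀ (Finsupp.ext fun a => ?_)).trans (map_smul p₀ (cR r) (show MSt M x →₀ MSt (SheafOfModules.unit A) x from v))
        show r • (show Uo.presheaf.stalk x from v a) = cR r • (show MSt (SheafOfModules.unit A) x from v a)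
        exact hcR r (SheafOfModules.unit A) _ }
  haveI : Module.Free R (MSt M x →₀ Uo.presheaf.stalk x) := inferInstance
  haveI : Module.Projective R (Mo.presheaf.stalk x) := Module.Projective.of_split i p (LinearMap.ext hpi)
  exact Module.free_of_flat_of_isLocalRing

end Groth.Agent.S15076
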