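import Groth.Statements.S7113
import Groth.Agent.H02CA.SerreSplit
import Mathlib.Algebra.Module.LocalizedModule.AtPrime
import Mathlib.Algebra.Module.FinitePresentation
import Mathlib.RingTheory.LocalRing.Basic
import Mathlib.RingTheory.Localization.AtPrime.Basic
import Mathlib.Topology.KrullDimension

set_option autoImplicit false
universe u
open CAlg

namespace Groth.Agent.S7113

open Groth.Agent.H02CA

attribute [local instance] Ideal.Quotient.field

theorem le_finrank_of_split (R : Type u) [CommRing R] (M : Type u) [AddCommGroup M] [Module R M]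
    [Module.FinitePresentation R M] (n : ℕ) (x : MaximalSpectrum R)
    (f : (Fin n → Localization.AtPrime x.asIdeal) →ₗ[Localization.AtPrime x.asIdeal]
      LocalizedModule x.asIdeal.primeCompl M)
    (g : LocalizedModule x.asIdeal.primeCompl M →ₗ[Localization.AtPrime x.asIdeal]
      (Fin n → Localization.AtPrime x.asIdeal))
    (hgf : g ∘ₗ f = LinearMap.id) :
    n ≤ Module.finrank (R ⧸ x.asIdeal) (SerreSplit.Vq M x) := by
  classical
  let S := x.asIdeal.primeCompl
  choose p hp using fun j ↦ IsLocalizedModule.surj S (LocalizedModule.mkLinearMap S M)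
    (f (Pi.single j 1))
  have hlift : ∀ i, ∃ (φ : M →ₗ[R] R) (t : S), ∀ m, algebraMap R (Localization.AtPrime x.asIdeal) (φ m) =
      (t : R) • g (LocalizedModule.mkLinearMap S M m) i := by
    intro i
    obtain ⟨φ, t, hφ⟩ := Module.FinitePresentation.exists_lift_of_isLocalizedModule S
      (Algebra.linearMap R (Localization.AtPrime x.asIdeal))
      ((LinearMap.proj i ∘ₗ g.restrictScalars R) ∘ₗ LocalizedModule.mkLinearMap S M)
    exact ⟨φ, t, fun m ↦ LinearMap.congr_fun hφ m⟩
  choose φ t hφ using hlift
  have key : ∀ i j, algebraMap R (Localization.AtPrime x.asIdeal) (φ i (p j).1) =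
      (((t i : R) * ((p j).2 : R)) • ((Pi.single j 1 : Fin n → Localization.AtPrime x.asIdeal) i)) := by
    intro i j
    have h1 : g (f (Pi.single j 1)) = Pi.single j 1 := LinearMap.congr_fun hgf _
    rw [hφ i, ← hp j, mul_smul]
    congr 1
    change g (((p j).2 : R) • f (Pi.single j 1)) i = _
    rw [LinearMap.map_smul_of_tower, h1, Pi.smul_apply]
  have hoff : ∀ i j, i ≠ j → φ i (p j).1 ∈ x.asIdeal := fun i j hij ↦ by
    have h := key i j
    rw [Pi.single_eq_of_ne hij, smul_zero] at h
    exact (IsLocalization.AtPrime.to_map_mem_maximal_iff (Localization.AtPrime x.asIdeal)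
      x.asIdeal _).mp (h ▸ zero_mem _)
  have hdiag : ∀ i, φ i (p i).1 ∉ x.asIdeal := fun i hi ↦ by
    have h := key i i
    rw [Pi.single_eq_same, Algebra.smul_def, mul_one] at h
    have h' := (IsLocalization.AtPrime.to_map_mem_maximal_iff (Localization.AtPrime x.asIdeal)
      x.asIdeal _).mpr hi
    rw [h, IsLocalization.AtPrime.to_map_mem_maximal_iff (Localization.AtPrime x.asIdeal)
      x.asIdeal] at h'
    exact ((inferInstance : x.asIdeal.IsPrime).mem_or_mem h').elim (t i).2 (p i).2.2
  have hfin : Module.Finite (R ⧸ x.asIdeal) (M ⧸ (x.asIdeal • ⊤ : Submodule R M)) :=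
    Module.Finite.of_restrictScalars_finite R _ _
  have hLI : LinearIndependent (R ⧸ x.asIdeal) fun j ↦ SerreSplit.imq M x (p j).1 := by
    refine Fintype.linearIndependent_iff.mpr fun a ha i ↦ ?_
    choose c hc using fun j ↦ Ideal.Quotient.mk_surjective (a j)
    have h0 : SerreSplit.imq M x (∑ j, c j • (p j).1) = 0 := by
      refine (map_sum _ _ _).trans (Eq.trans (Finset.sum_congr rfl fun j _ ↦ ?_) ha)
      rw [SerreSplit.imq_smul, hc]
    have h1 := (SerreSplit.imq_eq_zero_iff x _).mp h0 (φ i)
    rw [map_sum, ← Finset.add_sum_erase _ _ (Finset.mem_univ i),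
      Submodule.add_mem_iff_left _ (sum_mem fun j hj ↦ by
        rw [map_smul]
        exact x.asIdeal.mul_mem_left _ (hoff i j (Finset.ne_of_mem_erase hj).symm))] at h1
    rw [map_smul, smul_eq_mul] at h1
    rw [← hc i, Ideal.Quotient.eq_zero_iff_mem]
    exact ((inferInstance : x.asIdeal.IsPrime).mem_or_mem h1).resolve_right (hdiag i)
  simpa using hLI.fintype_card_le_finrank

/-- Let R be a ring whose set of maximal ideals, with the Zariski topology, is a Noetherian topological
space of Krull dimension at most d, and let M be an R-module of finite presentation whose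
localization M_m at each maximal ideal m contains a free direct summand of rank d + 1. Then M is
isomorphic to R ⊕ M' for some M': there are s in M and a linear form φ on M with φ(s) = 1. (The
published statement takes the dimension equal to d; a space of smaller dimension satisfies the
hypothesis for a smaller d, so the bound form is equivalent.) -/
theorem result (R : Type u) [CommRing R] (d : ℕ)
    [TopologicalSpace.NoetherianSpace (MaximalSpectrum R)]
    (hdim : topologicalKrullDim (MaximalSpectrum R) ≤ d)
    (M : Type u) [AddCommGroup M] [Module R M] [Module.FinitePresentation R M]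
    (hM : ∀ (m : Ideal R) [m.IsMaximal],
      ∃ (f : (Fin (d + 1) → Localization.AtPrime m) →ₗ[Localization.AtPrime m] LocalizedModule m.primeCompl M)
        (g : LocalizedModule m.primeCompl M →ₗ[Localization.AtPrime m] (Fin (d + 1) → Localization.AtPrime m)),
        g ∘ₗ f = LinearMap.id) :
    ∃ (s : M) (φ : M →ₗ[R] R), φ s = 1 := by
  classical
  obtain ⟨s, F', hF', -, hsub, hsmall⟩ := SerreSplit.exists_section_maximalSpectrum (M := M) (d + 1) 0
    Fin.elim0 ∅ isClosed_empty (fun x hx ↦ absurd linearIndependent_empty_type hx) (fun x ↦ by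
      obtain ⟨f, g, hfg⟩ := hM x.asIdeal
      simpa using le_finrank_of_split R M (d + 1) x f g hfg) ∅ (by simp) fun x ↦ 0
  have hF'e : ∀ x, x ∉ F' := fun x hx ↦ by
    let Z : TopologicalSpace.IrreducibleCloseds (MaximalSpectrum R) :=
      ⟨closure {x}, isIrreducible_singleton.closure, isClosed_closure⟩
    have h1 := hsmall Z (closure_minimal (Set.singleton_subset_iff.mpr hx) hF')
    have h2 : ((Order.coheight Z : ℕ∞) : WithBot ℕ∞) ≤ (d : ℕ) :=
      (Order.coheight_le_krullDim Z).trans hdim
    have h3 : Order.coheight Z ≤ (d : ℕ∞) := WithBot.coe_le_coe.mp h2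
    have h4 := Nat.cast_le.mp (h1.trans h3)
    omega
  have htop : LinearMap.range ((Module.Dual.eval R M) s) = (⊤ : Ideal R) := by
    by_contra hne
    obtain ⟨m, hm, hle⟩ := Ideal.exists_le_maximal _ hne
    have hI : SerreSplit.Indep (fun x ↦ R ⧸ x.asIdeal) (SerreSplit.imq M) ⟨m, hm⟩
        (Fin.snoc Fin.elim0 s) :=
      by_contra fun hc ↦ (hsub _ hc).elim (Set.notMem_empty _) (hF'e _)
    have h0 : SerreSplit.imq M ⟨m, hm⟩ s ≠ 0 := by
      have := hI.ne_zero (Fin.last 0)
      rwa [Fin.snoc_last] at this
    exact h0 ((SerreSplit.imq_eq_zero_iff _ s).mpr fun φ ↦ hle ⟨φ, rfl⟩)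
  obtain ⟨φ, hφ⟩ : (1 : R) ∈ LinearMap.range ((Module.Dual.eval R M) s) := by
    rw [htop]; trivial
  exact ⟨s, φ, hφ⟩

end Groth.Agent.S7113
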