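import Groth.Statements.S1714
import Groth.Agent.H4DR.Dualizing.GorensteinFibre
import Groth.Agent.H4DR.FlatBC.Unramified
import Groth.Agent.H24Adic.CompletionNoetherian
import Groth.Agent.H4DR.Dualizing.Normalized
import Groth.Agent.H05EGA4.FlatSk
import Groth.Agent.H4Depth.SkFree
import Groth.Agent.H02CA.RegularLocal
import Groth.Agent.S0341

set_option autoImplicit false
universe u
open CategoryTheory
attribute [local instance] HasDerivedCategory.standard
open LocCoh

namespace Groth.Agent.S1714

open CategoryTheory TensorProduct IsLocalRing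
open Groth.Agent.H4DR.Ext (Ex addLin)
open Groth.Agent.H4DR.Dualizing
open Groth.Agent.H4DR.FlatBC (FD)

attribute [local instance] HasDerivedCategory.standard

/-- The primes between `J` and `q` compute the dimension of the quotient of the local ring. -/
theorem dim_loc_quotient {R : Type u} [CommRing R] (J : Ideal R) (q : PrimeSpectrum R) :
    ringKrullDim (Loc q ⧸ J.map (algebraMap R (Loc q))) =
      Order.krullDim {x : PrimeSpectrum R | J ≤ x.asIdeal ∧ x ≤ q} := by
  rw [ringKrullDim_quotient]
  let o := IsLocalization.AtPrime.primeSpectrumOrderIso (Loc q) q.asIdeal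
  refine Order.krullDim_eq_of_orderIso
    { toFun := fun P => ⟨(o P.1).1, Ideal.map_le_iff_le_comap.1 P.2, (o P.1).2⟩
      invFun := fun x => ⟨o.symm ⟨x.1, x.2.2⟩, fun a ha => by
        refine (?_ : J.map (algebraMap R (Loc q)) ≤ (o.symm ⟨x.1, x.2.2⟩).asIdeal) ha
        rw [Ideal.map_le_iff_le_comap]
        exact x.2.1.trans (le_of_eq (congrArg (fun y : Set.Iic (⟨q.asIdeal, q.2⟩ : PrimeSpectrum R) => y.1.asIdeal)
          (o.apply_symm_apply ⟨x.1, x.2.2⟩)).symm)⟩
      left_inv := fun P => Subtype.ext (o.symm_apply_apply P.1)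
      right_inv := fun x => Subtype.ext (by
        show (o (o.symm ⟨x.1, x.2.2⟩)).1 = x.1
        rw [o.apply_symm_apply])
      map_rel_iff' := fun {P Q} => o.le_iff_le }

theorem dim_loc_quotient_Icc {R : Type u} [CommRing R] (p q : PrimeSpectrum R) :
    ringKrullDim (Loc q ⧸ p.asIdeal.map (algebraMap R (Loc q))) = Order.krullDim (Set.Icc p q) :=
  dim_loc_quotient p.asIdeal q

variable {A B : Type u} [CommRing A] [CommRing B] [Algebra A B] [Module.Flat A B]
  [IsNoetherianRing A] [IsNoetherianRing B] {ω : Dual.D A}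

/-- At a minimal prime of a fibre the degree does not change. -/
theorem deg_eq_of_minimal (hω : Dual.IsDualizing A ω) (hB : Dual.IsDualizing B ((FD A B).obj ω))
    (r : PrimeSpectrum B)
    (hr : ∀ x : PrimeSpectrum B, (r.asIdeal.comap (algebraMap A B)).map (algebraMap A B) ≤ x.asIdeal → x ≤ r → x = r) :
    deg hB r = deg hω (PrimeSpectrum.comap (algebraMap A B) r) := by
  haveI : Module.Flat B (Loc r) := IsLocalization.flat (Loc r) r.asIdeal.primeCompl
  haveI : IsNoetherianRing (Loc r) := IsLocalization.isNoetherianRing r.asIdeal.primeCompl (Loc r) ‹_›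
  let J : Ideal B := (r.asIdeal.comap (algebraMap A B)).map (algebraMap A B)
  have hJ : J ≤ r.asIdeal := Ideal.map_comap_le
  haveI : Nontrivial (FibreLoc A r) := Ideal.Quotient.nontrivial_iff.2
    (ne_top_of_le_ne_top (maximalIdeal.isMaximal (Loc r)).ne_top
      ((Ideal.map_mono hJ).trans Localization.AtPrime.map_eq_maximalIdeal.le))
  have hd0 : Module.supportDim (Loc r) (FibreLoc A r) ≤ 0 := by
    rw [Module.supportDim_quotient_eq_ringKrullDim]
    refine (dim_loc_quotient J r).trans_le ?_
    haveI : Subsingleton {x : PrimeSpectrum B | J ≤ x.asIdeal ∧ x ≤ r} :=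
      ⟨fun x y => Subtype.ext ((hr x.1 x.2.1 x.2.2).trans (hr y.1 y.2.1 y.2.2).symm)⟩
    exact Order.krullDim_nonpos_of_subsingleton
  obtain ⟨-, ⟨e⟩⟩ := exists_fibre_ex hω r
  set c := deg hω (PrimeSpectrum.comap (algebraMap A B) r)
  set d := deg hB r
  haveI hne : Nontrivial (Ex (Dual.inD (Loc r) (FibreLoc A r)) (loc ((FD A B).obj ω) r) c) :=
    e.toEquiv.nontrivial
  haveI : Nontrivial (Ex (Dual.inD (Loc r) (FibreLoc A r)) ((loc ((FD A B).obj ω) r)⟦d⟧) (c - d)) :=
    (addLin (Dual.inD (Loc r) (FibreLoc A r)) (loc ((FD A B).obj ω) r) d (c - d) c (by omega)).toEquiv.nontrivial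
  obtain ⟨h1, h2⟩ := (dimBound (isDualizing_shift (isDualizing_loc hB r) d) (isNormalized_deg hB r)
    (FibreLoc A r) (c - d)).2 ‹_›
  have h3 := h1.trans hd0
  have h4 : (-(c - d)).toNat = 0 := by exact_mod_cast le_antisymm h3 (by exact_mod_cast Nat.zero_le _)
  omega

/-- The degree upstairs drops by the dimension of the fibre. -/
theorem deg_eq_sub_fibre (hω : Dual.IsDualizing A ω) (hB : Dual.IsDualizing B ((FD A B).obj ω))
    (P : PrimeSpectrum B) :
    ∃ g : ℕ, ringKrullDim (FibreLoc A P) = g ∧
      deg hω (PrimeSpectrum.comap (algebraMap A B) P) = deg hB P - g := by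
  haveI : IsNoetherianRing (Loc P) := IsLocalization.isNoetherianRing P.asIdeal.primeCompl (Loc P) ‹_›
  let J : Ideal B := (P.asIdeal.comap (algebraMap A B)).map (algebraMap A B)
  have hJ : J ≤ P.asIdeal := Ideal.map_comap_le
  haveI : Nontrivial (FibreLoc A P) := Ideal.Quotient.nontrivial_iff.2
    (ne_top_of_le_ne_top (maximalIdeal.isMaximal (Loc P)).ne_top
      ((Ideal.map_mono hJ).trans Localization.AtPrime.map_eq_maximalIdeal.le))
  obtain ⟨g, hg⟩ := H4Depth.exists_nat_supportDim_eq (R := Loc P) (M := FibreLoc A P)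
  rw [Module.supportDim_quotient_eq_ringKrullDim] at hg
  refine ⟨g, hg, ?_⟩
  have hg' : Order.krullDim {x : PrimeSpectrum B | J ≤ x.asIdeal ∧ x ≤ P} = g := (dim_loc_quotient J P).symm.trans hg
  obtain ⟨l, hl⟩ := Order.le_krullDim_iff.1 hg'.ge
  obtain ⟨r, hr, hrl⟩ := Ideal.exists_minimalPrimes_le l.head.2.1
  let r' : PrimeSpectrum B := ⟨r, hr.1.1⟩
  have hrP : r' ≤ P := hrl.trans l.head.2.2
  have hcI : r'.asIdeal.comap (algebraMap A B) = P.asIdeal.comap (algebraMap A B) :=
    le_antisymm (Ideal.comap_mono hrP) (Ideal.map_le_iff_le_comap.1 hr.1.2)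
  have hc : PrimeSpectrum.comap (algebraMap A B) r' = PrimeSpectrum.comap (algebraMap A B) P :=
    PrimeSpectrum.ext hcI
  have hdim : ringKrullDim (Loc P ⧸ r'.asIdeal.map (algebraMap B (Loc P))) = g := by
    refine (dim_loc_quotient r'.asIdeal P).trans (le_antisymm ?_ ?_)
    · rw [← hg']
      exact Order.krullDim_le_of_strictMono (fun x => ⟨x.1, hr.1.2.trans x.2.1, x.2.2⟩) fun _ _ h => h
    · let l' : LTSeries {x : PrimeSpectrum B | r'.asIdeal ≤ x.asIdeal ∧ x ≤ P} :=
        ⟨l.length, fun i => ⟨(l i).1, hrl.trans (LTSeries.head_le l i : l.head ≤ l i), (l i).2.2⟩,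
          fun i => l.step i⟩
      exact Order.le_krullDim_iff.2 ⟨l', hl⟩
  have hc' : (r'.asIdeal.comap (algebraMap A B)).map (algebraMap A B) = J := by
    rw [hcI]
  have hmin := deg_eq_of_minimal hω hB r' fun x hx hxr =>
    le_antisymm hxr (hr.2 ⟨x.2, hc'.symm.le.trans hx⟩ hxr)
  have hsub := deg_eq_sub hB hrP hdim
  rw [hc] at hmin
  exact hmin.symm.trans hsub

end Groth.Agent.S1714

namespace Groth.Agent.S1714

/-- Let A be a Noetherian ring with a dualizing complex, I an ideal, M a finite A-module, A' and M' the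
I-adic completions. Let p' ⊆ q' be primes of A' with I A' ⊆ q', lying over the primes p ⊆ q of A.
Then the depth of M'_{p'} over A'_{p'} is at least the depth of M_p over A_p, and depth(M'_{p'})
plus the dimension of the interval of primes [p', q'] equals depth(M_p) plus the dimension of [p,
q]. -/
theorem result (A : Type u) [CommRing A] [IsNoetherianRing A] (hA : ∃ ω : Dual.D A, Dual.IsDualizing A ω) (I : Ideal A) (M : Type u) [AddCommGroup M] [Module A M] [Module.Finite A M] (p' q' : PrimeSpectrum (AdicCompletion I A)) (hpq : p' ≤ q') (hq : Ideal.map (algebraMap A (AdicCompletion I A)) I ≤ q'.asIdeal) : LocCoh.depth (Localization.AtPrime (p'.asIdeal.comap (algebraMap A (AdicCompletion I A)))) (LocalizedModule (p'.asIdeal.comap (algebraMap A (AdicCompletion I A))).primeCompl M) ≤ LocCoh.depth (Localization.AtPrime p'.asIdeal) (LocalizedModule p'.asIdeal.primeCompl (AdicCompletion I M)) ∧ ((LocCoh.depth (Localization.AtPrime p'.asIdeal) (LocalizedModule p'.asIdeal.primeCompl (AdicCompletion I M)) : ℕ∞)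 : WithBot ℕ∞) + Order.krullDim (Set.Icc p' q') = ((LocCoh.depth (Localization.AtPrime (p'.asIdeal.comap (algebraMap A (AdicCompletion I A)))) (LocalizedModule (p'.asIdeal.comap (algebraMap A (AdicCompletion I A))).primeCompl M) : ℕ∞) : WithBot ℕ∞) + Order.krullDim (Set.Icc ((PrimeSpectrum.comap (algebraMap A (AdicCompletion I A))) p') ((PrimeSpectrum.comap (algebraMap A (AdicCompletion I A))) q')) := by
  classical
  obtain ⟨ω, hω⟩ := hA
  have hI : I.FG := IsNoetherian.noetherian I
  haveI := Groth.Agent.H24Adic.isNoetherianRing_adicCompletion I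
  haveI := AdicCompletion.isAdicComplete_self I hI
  haveI : Module.Flat A (AdicCompletion I A) := AdicCompletion.flat_of_isNoetherian I
  have hs : Function.Surjective ((Ideal.Quotient.mk (I.map (algebraMap A (AdicCompletion I A)))).comp
      (algebraMap A (AdicCompletion I A))) := fun z => by
    obtain ⟨x, rfl⟩ := Ideal.Quotient.mk_surjective z
    obtain ⟨a, ha⟩ := Groth.Agent.H24Adic.exists_sub_of_mem hI 1 x
    rw [pow_one] at ha
    exact ⟨a, (Ideal.Quotient.eq.mpr ha).symm⟩
  have hB := Groth.Agent.H4DR.Dualizing.isDualizing_maxUnramified hω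
    (Groth.Agent.H4DR.Dualizing.maxUnramified_of_surjective I hs (IsAdicComplete.le_jacobson_bot _))
  set p := PrimeSpectrum.comap (algebraMap A (AdicCompletion I A)) p' with hp
  set q := PrimeSpectrum.comap (algebraMap A (AdicCompletion I A)) q' with hq'
  have hpq' : p ≤ q := Ideal.comap_mono hpq
  -- the degree does not change at `q'`
  have hqmap : q'.asIdeal ≤ (q'.asIdeal.comap (algebraMap A (AdicCompletion I A))).map (algebraMap A (AdicCompletion I A)) := by
    intro x hx
    obtain ⟨a, ha⟩ := hs (Ideal.Quotient.mk _ x)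
    have h1 : algebraMap A (AdicCompletion I A) a - x ∈ I.map (algebraMap A (AdicCompletion I A)) := Ideal.Quotient.eq.1 ha
    have h2 : a ∈ q'.asIdeal.comap (algebraMap A (AdicCompletion I A)) :=
      Ideal.mem_comap.2 (by simpa using add_mem (hq h1) hx)
    have h3 := Ideal.map_mono (f := algebraMap A (AdicCompletion I A)) (Ideal.map_le_iff_le_comap.1 hq)
    simpa using sub_mem (Ideal.mem_map_of_mem (algebraMap A (AdicCompletion I A)) h2) (h3 h1)
  have hdq := deg_eq_of_minimal hω hB q' fun x hx hxq => le_antisymm hxq (hqmap.trans hx)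
  obtain ⟨g, hg, hgd⟩ := deg_eq_sub_fibre hω hB p'
  obtain ⟨d, hd, hdd, -⟩ := Groth.Agent.H4DR.Dualizing.exists_dim hω hpq'
  obtain ⟨e, he, hee, -⟩ := Groth.Agent.H4DR.Dualizing.exists_dim hB hpq
  rw [dim_loc_quotient_Icc] at hd he
  have hde : d = e + g := by
    rw [← hp] at hgd
    rw [← hq'] at hdq
    omega
  -- the depth
  haveI : IsNoetherianRing (p.asIdeal.Fiber (AdicCompletion I A)) :=
    Groth.Agent.H02CA.isNoetherianRing_tensor_of_essFiniteType _ _ _
  have hgor := Groth.Agent.H4DR.Dualizing.isGorensteinLocalRing_fibreLoc p'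
    (Groth.Agent.H4DR.Dualizing.isGorensteinRing_fibre_of_dualizing hω hB p)
  let F := Groth.Agent.H4DR.Dualizing.FibreLoc A p'
  haveI : LocCoh.IsGorensteinLocalRing F := hgor
  haveI := Groth.Agent.S0341.result F
  haveI : IsNoetherianRing (Localization.AtPrime p'.asIdeal) :=
    IsLocalization.isNoetherianRing p'.asIdeal.primeCompl _ inferInstance
  have hdepth : ((LocCoh.depth (Localization.AtPrime p'.asIdeal) F : ℕ∞) : WithBot ℕ∞) = g := by
    rw [← Groth.Agent.H8Props.FlatDepth.depth_eq_of_surjective (R := Localization.AtPrime p'.asIdeal) (S := F)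
      (M := F) Ideal.Quotient.mk_surjective, ← (Groth.Agent.H8Props.FlatDepth.isCM_iff_dim F).1 inferInstance, hg]
  obtain ⟨eB⟩ := Groth.Agent.H4Depth.exists_localizedModule_self_equiv p'.asIdeal
  let J := (p'.asIdeal.comap (algebraMap A (AdicCompletion I A))).map (algebraMap A (Localization.AtPrime p'.asIdeal))
  let eF : EGA4.FibLocMod A (AdicCompletion I A) p'.asIdeal (AdicCompletion I A) ≃ₗ[Localization.AtPrime p'.asIdeal] F :=
    Submodule.Quotient.equiv _ _ eB (by
      rw [Submodule.map_smul'', Submodule.map_top, LinearMap.range_eq_top.2 eB.surjective]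
      show J • (⊤ : Submodule _ _) = _
      rw [smul_eq_mul, Ideal.mul_top, Ideal.map_map, ← IsScalarTower.algebraMap_eq]
      rfl)
  have hsupp : (p' : PrimeSpectrum (AdicCompletion I A)) ∈ Module.support (AdicCompletion I A) (AdicCompletion I A) := by
    haveI := eB.toEquiv.nontrivial
    exact Module.mem_support_iff.2 inferInstance
  have hform := (Groth.Agent.H05EGA4.FlatSk.formulas (A := A) (B := AdicCompletion I A) (F := AdicCompletion I A)
    M p'.asIdeal hsupp).1
  let eM : LocalizedModule p'.asIdeal.primeCompl (TensorProduct A (AdicCompletion I A) M) ≃ₗ[Localization.AtPrime p'.asIdeal]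
      LocalizedModule p'.asIdeal.primeCompl (AdicCompletion I M) :=
    IsLocalizedModule.mapEquiv p'.asIdeal.primeCompl (LocalizedModule.mkLinearMap p'.asIdeal.primeCompl _)
      (LocalizedModule.mkLinearMap p'.asIdeal.primeCompl _) (Localization.AtPrime p'.asIdeal)
      (AdicCompletion.ofTensorProductEquivOfFiniteNoetherian I M)
  rw [Groth.Agent.H4Depth.depth_congr eM, Groth.Agent.H4Depth.depth_congr eF, hdepth] at hform
  refine ⟨?_, ?_⟩
  · have h0 : (0 : WithBot ℕ∞) ≤ (g : WithBot ℕ∞) := Nat.cast_nonneg g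
    exact WithBot.coe_le_coe.1 (hform ▸ le_add_of_nonneg_right h0)
  · rw [he, hd, hform, add_assoc, hde, Nat.cast_add, add_comm (g : WithBot ℕ∞)]

end Groth.Agent.S1714
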