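import Groth.Statements.S8797
import Groth.Agent.S1714
import Groth.Agent.S2290
import Groth.Agent.H26Boot.Basic
import Groth.Agent.H4LC.TopDegree
import Groth.Agent.H4LC.ChangeRings
import Groth.Agent.H4DR.Dualizing.Compare
import Groth.Agent.H24Formal2.DimBetween

set_option autoImplicit false
universe u
open CategoryTheory
open Dual2

namespace Groth.Agent.S8797Aux

open Groth.Agent IsLocalRing
open scoped TensorProduct

theorem krullDim_Icc_closedPoint {R : Type u} [CommRing R] [IsLocalRing R] (P : PrimeSpectrum R) :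
    Order.krullDim (Set.Icc P (closedPoint R)) = ringKrullDim (R ⧸ P.asIdeal) := by
  rw [ringKrullDim_quotient]
  exact Order.krullDim_eq_of_orderIso
    { toFun := fun z => ⟨z.1, z.2.1⟩
      invFun := fun z => ⟨z.1, z.2, IsLocalRing.le_maximalIdeal z.1.2.ne_top⟩
      left_inv := fun _ => rfl
      right_inv := fun _ => rfl
      map_rel_iff' := Iff.rfl }

theorem cdLE_map {R S : Type u} [CommRing R] [IsNoetherianRing R] [CommRing S] [IsNoetherianRing S]
    [Algebra R S] {I : Ideal R} {d : ℕ} (h : LocCoh.CdLE R I d) :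
    LocCoh.CdLE S (I.map (algebraMap R S)) d := by
  intro N _ _ i hi
  letI : Module R N := Module.compHom N (algebraMap R S)
  haveI : IsScalarTower R S N := IsScalarTower.of_algebraMap_smul fun _ _ => rfl
  exact (H4LC.subsingleton_H_map_iff (R := R) S I N i).2 (h N i hi)

theorem ringKrullDim_quotient_le_of_cdLE {R : Type u} [CommRing R] [IsNoetherianRing R] [IsLocalRing R]
    {I : Ideal R} {d : ℕ} (h : LocCoh.CdLE R I d) (p : Ideal R) [p.IsPrime]
    (hpI : (p ⊔ I).radical = maximalIdeal R) : ringKrullDim (R ⧸ p) ≤ ((d : ℕ∞) : WithBot ℕ∞) := by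
  haveI : IsLocalRing (R ⧸ p) := .of_surjective' _ Ideal.Quotient.mk_surjective
  haveI : FiniteRingKrullDim (R ⧸ p) := inferInstance
  obtain ⟨D, hD⟩ : ∃ D : ℕ, ringKrullDim (R ⧸ p) = D := by
    generalize hg : ringKrullDim (R ⧸ p) = D
    have h1 : D ≠ ⊥ := hg ▸ ringKrullDim_ne_bot
    have h2 : D ≠ ⊤ := hg ▸ ringKrullDim_ne_top
    match D, h1, h2 with
    | (k : ℕ), _, _ => exact ⟨k, rfl⟩
  rw [hD]
  by_contra hlt
  have hdD : d < D := by
    by_contra h'
    exact hlt (by exact_mod_cast not_lt.1 h')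
  exact H4LC.not_cdLE_of_radical_sup I p hpI D hD (by omega) fun M _ _ i hi => h M i (by omega)

theorem main (A : Type u) [CommRing A] [IsNoetherianRing A] (hdc : ∃ ω : Dual.D A, Dual.IsDualizing A ω)
    (I 𝔞 : Ideal A) (hI𝔞 : I ≤ 𝔞) (d : ℕ) (hcd : LocCoh.CdLE A I d) (M : Type u) [AddCommGroup M]
    [Module A M] [Module.Finite A M] (s : ℕ)
    (hc : ∀ p q : PrimeSpectrum A, p ≤ q → ¬ I ≤ p.asIdeal → 𝔞 ≤ q.asIdeal →
      (s : ℕ∞) < LocCoh.depth (Localization.AtPrime p.asIdeal) (LocalizedModule p.asIdeal.primeCompl M) ∨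
      (((d + s : ℕ) : ℕ∞) : WithBot ℕ∞) < ((LocCoh.depth (Localization.AtPrime p.asIdeal)
        (LocalizedModule p.asIdeal.primeCompl M) : ℕ∞) : WithBot ℕ∞) + Formal2.dimBetween A p.asIdeal q.asIdeal)
    (q : PrimeSpectrum A) (hq : 𝔞 ≤ q.asIdeal)
    (p' : PrimeSpectrum (AdicCompletion (I.map (algebraMap A (Localization.AtPrime q.asIdeal))) (Localization.AtPrime q.asIdeal)))
    (hp' : ¬ (I.map (algebraMap A (AdicCompletion (I.map (algebraMap A (Localization.AtPrime q.asIdeal))) (Localization.AtPrime q.asIdeal)))) ≤ p'.asIdeal)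
    (hmax : ∀ q' : PrimeSpectrum (AdicCompletion (I.map (algebraMap A (Localization.AtPrime q.asIdeal))) (Localization.AtPrime q.asIdeal)),
      p' ≤ q' → (I.map (algebraMap A (AdicCompletion (I.map (algebraMap A (Localization.AtPrime q.asIdeal))) (Localization.AtPrime q.asIdeal)))) ≤ q'.asIdeal → q'.asIdeal.IsMaximal) :
    (s : ℕ∞) < LocCoh.depth (Localization.AtPrime p'.asIdeal) (LocalizedModule p'.asIdeal.primeCompl
      (AdicCompletion (I.map (algebraMap A (Localization.AtPrime q.asIdeal))) (LocalizedModule q.asIdeal.primeCompl M))) := by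
  obtain ⟨ω, hω⟩ := hdc
  let R := Localization.AtPrime q.asIdeal
  let IR := I.map (algebraMap A R)
  let Rh := AdicCompletion IR R
  haveI : IsNoetherianRing R := IsLocalization.isNoetherianRing q.asIdeal.primeCompl _ ‹_›
  haveI : IsNoetherianRing Rh := H24Adic.isNoetherianRing_adicCompletion IR
  have hIq : I ≤ q.asIdeal := hI𝔞.trans hq
  haveI : IsLocalRing Rh := S2290.result A I (IsNoetherian.noetherian _) q.asIdeal hIq
  haveI : Module.Finite R (LocalizedModule q.asIdeal.primeCompl M) :=
    Module.Finite.of_isLocalizedModule q.asIdeal.primeCompl (LocalizedModule.mkLinearMap q.asIdeal.primeCompl M)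
  have hmapI : I.map (algebraMap A Rh) = IR.map (algebraMap R Rh) := by
    rw [IsScalarTower.algebraMap_eq A R Rh, ← Ideal.map_map]
  rw [hmapI] at hp' hmax
  have hIR : IR ≤ maximalIdeal R := by
    rw [← Localization.AtPrime.map_eq_maximalIdeal]; exact Ideal.map_mono hIq
  have hmh : (maximalIdeal R).map (algebraMap R Rh) = maximalIdeal Rh :=
    IsLocalRing.eq_maximalIdeal (H26Boot.isMaximal_map_completion IR hIR)
  have hcomapm : PrimeSpectrum.comap (algebraMap R Rh) (closedPoint Rh) = closedPoint R := by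
    refine PrimeSpectrum.ext (((maximalIdeal.isMaximal R).eq_of_le
      (Ideal.IsPrime.ne_top (PrimeSpectrum.comap (algebraMap R Rh) (closedPoint Rh)).2) ?_).symm)
    exact Ideal.map_le_iff_le_comap.1 hmh.le
  have hrad : (p'.asIdeal ⊔ IR.map (algebraMap R Rh)).radical = maximalIdeal Rh := by
    refine le_antisymm ((maximalIdeal.isMaximal Rh).isPrime.radical_le_iff.2 (sup_le
      (le_maximalIdeal p'.2.ne_top) ((Ideal.map_mono hIR).trans hmh.le))) ?_
    rw [Ideal.radical_eq_sInf]
    refine le_sInf fun Q hQ => ?_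
    obtain ⟨hle, hQp⟩ := hQ
    exact (IsLocalRing.eq_maximalIdeal (hmax ⟨Q, hQp⟩ (le_sup_left.trans hle) (le_sup_right.trans hle))).ge
  have hdim : Order.krullDim (Set.Icc p' (closedPoint Rh)) ≤ ((d : ℕ∞) : WithBot ℕ∞) := by
    rw [krullDim_Icc_closedPoint]
    exact ringKrullDim_quotient_le_of_cdLE (cdLE_map (cdLE_map hcd)) p'.asIdeal hrad
  have h14 := S1714.result R ⟨_, H4DR.Dualizing.isDualizing_loc hω q⟩ IR
    (LocalizedModule q.asIdeal.primeCompl M) p' (closedPoint Rh)
    (IsLocalRing.le_maximalIdeal p'.2.ne_top) ((Ideal.map_mono hIR).trans hmh.le)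
  rw [hcomapm] at h14
  -- the prime of `A`
  let P : PrimeSpectrum R := PrimeSpectrum.comap (algebraMap R Rh) p'
  let p : PrimeSpectrum A := PrimeSpectrum.comap (algebraMap A R) P
  have hpq : p ≤ q := (Ideal.comap_mono (IsLocalRing.le_maximalIdeal P.2.ne_top)).trans
    (IsLocalization.AtPrime.comap_maximalIdeal R q.asIdeal).le
  have hPmap : p.asIdeal.map (algebraMap A R) = P.asIdeal :=
    IsLocalization.map_comap q.asIdeal.primeCompl R P.asIdeal
  have hpI : ¬ I ≤ p.asIdeal := fun h => hp' (Ideal.map_le_iff_le_comap.2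
    ((Ideal.map_mono h).trans hPmap.le))
  haveI : P.asIdeal.LiesOver p.asIdeal := ⟨rfl⟩
  have hdep : LocCoh.depth (Localization.AtPrime P.asIdeal)
      (LocalizedModule P.asIdeal.primeCompl (LocalizedModule q.asIdeal.primeCompl M)) =
      LocCoh.depth (Localization.AtPrime p.asIdeal) (LocalizedModule p.asIdeal.primeCompl M) := by
    rw [← H26Boot.depth_localization_eq M p.asIdeal P.asIdeal
      (by rw [hPmap, Ideal.minimalPrimes_eq_subsingleton_self]; rfl)]
    let S := Localization.AtPrime P.asIdeal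
    exact H4Depth.depth_congr ((LocalizedModule.equivTensorProduct P.asIdeal.primeCompl _).trans
      ((TensorProduct.AlgebraTensorModule.congr (LinearEquiv.refl S S)
        (LocalizedModule.equivTensorProduct q.asIdeal.primeCompl M)).trans
        (TensorProduct.AlgebraTensorModule.cancelBaseChange A R S S M)))
  have hdimq : Order.krullDim (Set.Icc P (closedPoint R)) = Formal2.dimBetween A p.asIdeal q.asIdeal := by
    rw [krullDim_Icc_closedPoint]
    show _ = ringKrullDim (R ⧸ p.asIdeal.map (algebraMap A R))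
    rw [hPmap]
  obtain ⟨hle, heq⟩ := h14
  change LocCoh.depth (Localization.AtPrime P.asIdeal)
    (LocalizedModule P.asIdeal.primeCompl (LocalizedModule q.asIdeal.primeCompl M)) ≤ _ at hle
  change _ = ((LocCoh.depth (Localization.AtPrime P.asIdeal) (LocalizedModule P.asIdeal.primeCompl
    (LocalizedModule q.asIdeal.primeCompl M)) : ℕ∞) : WithBot ℕ∞) + Order.krullDim (Set.Icc P (closedPoint R)) at heq
  rw [hdep] at hle
  rw [hdep, hdimq] at heq
  rcases hc p q hpq hpI hq with h | h
  · exact h.trans_le hle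
  · rw [← heq] at h
    by_contra hcon
    refine absurd (h.trans_le (add_le_add (WithBot.coe_le_coe.2 (not_lt.1 hcon)) hdim)) (not_lt.2 ?_)
    rw [← WithBot.coe_add, WithBot.coe_le_coe]
    push_cast
    rw [add_comm]

end Groth.Agent.S8797Aux

namespace Groth.Agent.S8797

/-- Let I ⊆ 𝔞 be ideals of a Noetherian ring A with a dualizing complex, d a natural with cd(A, I) ≤ d,
M a finite A-module and s a natural. Assume (c): for every prime p ∉ V(I) and every prime q ∈ V(p) ∩
V(𝔞), either depth(M_p) > s or depth(M_p) + dim((A/p)_q) > d + s. Then for every q ∈ V(𝔞), writing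
A', I', M' for the I-adic completions of A_q, IA_q, M_q, one has depth(M'_{p'}) > s for every prime
p' of A' not containing I' such that the only primes containing both p' and I' are maximal. (The
published statement concludes that all standing conditions of the setting hold; the others follow at
once from the hypotheses, and this row states only this depth condition on completions.) -/
theorem result (A : Type u) [CommRing A] [IsNoetherianRing A] (hdc : ∃ ω : Dual.D A, Dual.IsDualizing A ω) (I 𝔞 : Ideal A) (hI𝔞 : I ≤ 𝔞) (d : ℕ) (hcd : LocCoh.CdLE A I d) (M : Type u) [AddCommGroup M] [Module A M] [Module.Finite A M] (s : ℕ) (hc : ∀ p q : PrimeSpectrum A, p ≤ q → ¬ I ≤ p.asIdeal → 𝔞 ≤ q.asIdeal → (s : ℕ∞) < LocCoh.depth (Localization.AtPrime p.asIdeal) (LocalizedModule p.asIdeal.primeCompl M) ∨ (((d + s : ℕ) : ℕ∞) : WithBot ℕ∞) < ((LocCoh.depth (Localization.AtPrime p.asIdeal) (LocalizedModule p.asIdeal.primeCompl M) : ℕ∞) : WithBot ℕ∞) + Formal2.dimBetween A p.asIdeal q.asIdeal) (T : Set (PrimeSpectrum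 A)) (hT : T = PrimeSpectrum.zeroLocus ((𝔞 : Ideal A) : Set A)) : ∀ q : PrimeSpectrum A, q ∈ T → ∀ p' : PrimeSpectrum (AdicCompletion (I.map (algebraMap A (Localization.AtPrime q.asIdeal))) (Localization.AtPrime q.asIdeal)), ¬ (I.map (algebraMap A (AdicCompletion (I.map (algebraMap A (Localization.AtPrime q.asIdeal))) (Localization.AtPrime q.asIdeal)))) ≤ p'.asIdeal → (∀ q' : PrimeSpectrum (AdicCompletion (I.map (algebraMap A (Localization.AtPrime q.asIdeal))) (Localization.AtPrime q.asIdeal)), p' ≤ q' → (I.map (algebraMap A (AdicCompletion (I.map (algebraMap A (Localization.AtPrime q.asIdeal))) (Localization.AtPrime q.asIdeal)))) ≤ q'.asIdeal → q'.asIdeal.IsMaximal) → (s : ℕ∞) < LocCoh.depth (Localization.AtPrime p'.asIdeal) (LocalizedModule p'.asIdeal.primeCompl (AdicCompletion (I.map (algebraMap A (Localization.AtPrime q.asIdeal))) (LocalizedModule q.asIdeal.primeCompl M))) := by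
  intro q hq p' hp' hmax
  rw [hT, PrimeSpectrum.mem_zeroLocus] at hq
  exact Groth.Agent.S8797Aux.main A hdc I 𝔞 hI𝔞 d hcd M s hc q hq p' hp' hmax

end Groth.Agent.S8797
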