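import Groth.Statements.S8940
import Groth.Agent.H4HTPtwise.Iterate

set_option autoImplicit false
universe u
open CategoryTheory
open LocCoh

namespace Groth.Agent.S8940

/-- Let A be a Noetherian ring of finite dimension, T ⊆ Spec A a specialization-stable subset whose
chains of primes have length at most e, (M_n) an inverse system of A-modules and i ≥ 0. If m′(m) ≥ m
is such that the maps H^i_{pA_p}(M_{k,p}) → H^i_{pA_p}(M_{m,p}) vanish for every p ∈ T and k ≥
m′(m), then H^i_T(M_k) → H^i_T(M_m) vanishes for all k ≥ m″(m), m″ the 2^e-fold iterate of m′. (The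
published statement uses exactly dim T; any bound e ≥ dim T gives the same conclusion since m′(m) ≥
m.) -/
theorem result (A : Type u) [CommRing A] [IsNoetherianRing A] (hA : ringKrullDim A < ⊤) (T : Set (PrimeSpectrum A)) (hT : StableUnderSpecialization T) (e : ℕ) (he : Order.krullDim ↥T ≤ (e : WithBot ℕ∞)) (M : ℕ → Type u) [∀ n, AddCommGroup (M n)] [∀ n, Module A (M n)] (φ : ∀ k m : ℕ, m ≤ k → (M k →ₗ[A] M m)) (hφ : ∀ (k l m : ℕ) (h₁ : m ≤ l) (h₂ : l ≤ k), φ k m (h₁.trans h₂) = φ l m h₁ ∘ₗ φ k l h₂) (i : ℕ) (m' : ℕ → ℕ) (hm' : ∀ m, m ≤ m' m) (hloc : ∀ (p : PrimeSpectrum A), p ∈ T → ∀ (m k : ℕ) (h : m ≤ k), m' m ≤ k → (localCohomology (IsLocalRing.maximalIdeal (Localization.AtPrime p.asIdeal)) i).map (ModuleCat.ofHom (LocalizedModule.map p.asIdeal.primeCompl (φ k m h))) = 0) (m k : ℕ) (h : m ≤ k) (hk : (m'^[2 ^ e]) m ≤ k) : (localCohomology.ofDiagram (Dual2.idealsInDiagram T) i).map (ModuleCat.ofHom (φ k m h)) = 0 := by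
  open Groth.Agent.H4DR in
  refine ModuleCat.hom_ext (LinearMap.ext fun x => ?_)
  obtain ⟨y, rfl⟩ := (Groth.Agent.H4DR.HT.bijective_cmp T (M k) i).2 x
  rw [← Groth.Agent.H4HTPtwise.cmp_natural]
  have h0 := Groth.Agent.H4HTPtwise.hmap_eq_zero_iterate
    (W := fun n => (CategoryTheory.shiftFunctor (Dual.D A) (i : ℤ)).obj (Dual.inD A (M n)))
    (fun k m h => Groth.Agent.H4HTPtwise.shMap (φ k m h) i)
    (fun k l m h₁ h₂ => by
      rw [hφ k l m h₁ h₂]
      simp only [Groth.Agent.H4HTPtwise.shMap, ModuleCat.ofHom_comp, Functor.map_comp])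
    m' hm'
    (fun q hq m k h hk y => Groth.Agent.H4HTPtwise.exists_smul_hmap_eq_zero_of_map q (φ k m h) i (hloc q hq m k h hk) y)
    (e + 1) T subset_rfl
    (fun q hq => lt_of_le_of_lt (Groth.Agent.H4HTPtwise.coheight_le hT he hq) (by exact_mod_cast Nat.lt_succ_self e))
    m k h ((Groth.Agent.H4HTPtwise.iterate_mono hm' (Nat.lt_two_pow_self) m).trans hk) y
  rw [h0, map_zero]
  rfl

end Groth.Agent.S8940
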