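import Groth.Statements.S8946
import Groth.Agent.H4HTPtwise.Main

set_option autoImplicit false
universe u
open CategoryTheory
open LocCoh

namespace Groth.Agent.S8946

/-- Let A be a Noetherian ring of finite dimension, T ⊆ Spec A a specialization-stable subset, (M_n) an
inverse system of A-modules and i ≥ 0. Suppose m′(m) ≥ m is such that for every p ∈ T: the maps
H^{i-1}_{pA_p}(M_{k,p}) → H^{i-1}_{pA_p}(M_{m,p}) vanish for k ≥ m′(m) (no condition when i = 0),
and the maps H^i_{pA_p}(M_{k,p}) → H^i_{pA_p}(M_{m,p}) have the same image for all k ≥ m′(m), this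
image mapping injectively into H^i_{pA_p}(M_{0,p}). Then there is m₀ such that for every m ≥ m₀
there is m″ ≥ m such that for k ≥ m″ the image of H^i_T(M_k) → H^i_T(M_m) maps injectively into
H^i_T(M_{m₀}). -/
theorem result (A : Type u) [CommRing A] [IsNoetherianRing A] (hA : ringKrullDim A < ⊤) (T : Set (PrimeSpectrum A)) (hT : StableUnderSpecialization T) (M : ℕ → Type u) [∀ n, AddCommGroup (M n)] [∀ n, Module A (M n)] (φ : ∀ k m : ℕ, m ≤ k → (M k →ₗ[A] M m)) (hφ : ∀ (k l m : ℕ) (h₁ : m ≤ l) (h₂ : l ≤ k), φ k m (h₁.trans h₂) = φ l m h₁ ∘ₗ φ k l h₂) (i : ℕ) (m' : ℕ → ℕ) (hm' : ∀ m, m ≤ m' m) (h1 : 0 < i → ∀ (p : PrimeSpectrum A), p ∈ T → ∀ (m k : ℕ) (h : m ≤ k), m' m ≤ k → (localCohomology (IsLocalRing.maximalIdeal (Localization.AtPrime p.asIdeal)) (i - 1)).map (ModuleCat.ofHom (LocalizedModule.map p.asIdeal.primeCompl (φ k m h))) = 0) (h2 : ∀ (p : PrimeSpectrum A), p ∈ T → ∀ (m k : ℕ) (h : m ≤ k), m' m ≤ k → LinearMap.range ((localCohomology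 (IsLocalRing.maximalIdeal (Localization.AtPrime p.asIdeal)) i).map (ModuleCat.ofHom (LocalizedModule.map p.asIdeal.primeCompl (φ k m h)))).hom = LinearMap.range ((localCohomology (IsLocalRing.maximalIdeal (Localization.AtPrime p.asIdeal)) i).map (ModuleCat.ofHom (LocalizedModule.map p.asIdeal.primeCompl (φ (m' m) m (hm' m))))).hom) (h3 : ∀ (p : PrimeSpectrum A), p ∈ T → ∀ (m : ℕ) (x : ↑((localCohomology (IsLocalRing.maximalIdeal (Localization.AtPrime p.asIdeal)) i).obj (ModuleCat.of (Localization.AtPrime p.asIdeal) (LocalizedModule p.asIdeal.primeCompl (M m))))), x ∈ LinearMap.range ((localCohomology (IsLocalRing.maximalIdeal (Localization.AtPrime p.asIdeal)) i).map (ModuleCat.ofHom (LocalizedModule.map p.asIdeal.primeCompl (φ (m' m) m (hm' m))))).hom → ((localCohomology (IsLocalRing.maximalIdeal (Localization.AtPrime p.asIdeal)) i).map (ModuleCat.ofHom (LocalizedModule.map p.asIdeal.primeCompl (φ m 0 (Nat.zero_le m))))).hom x = 0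 → x = 0) : ∃ m₀ : ℕ, ∀ m : ℕ, ∀ (hm : m₀ ≤ m), ∃ m'' : ℕ, m ≤ m'' ∧ ∀ (k : ℕ) (h : m ≤ k), m'' ≤ k → ∀ x : ↑((localCohomology.ofDiagram (Dual2.idealsInDiagram T) i).obj (ModuleCat.of A (M m))), x ∈ LinearMap.range ((localCohomology.ofDiagram (Dual2.idealsInDiagram T) i).map (ModuleCat.ofHom (φ k m h))).hom → ((localCohomology.ofDiagram (Dual2.idealsInDiagram T) i).map (ModuleCat.ofHom (φ m m₀ hm))).hom x = 0 → x = 0 := by
  open Groth.Agent.H4DR in
  obtain ⟨c, hc⟩ := Groth.Agent.H4HTPtwise.exists_coheight_lt hA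
  let L : (p : PrimeSpectrum A) → ∀ k l : ℕ, l ≤ k → _ := fun p k l h =>
    ((localCohomology (IsLocalRing.maximalIdeal (Localization.AtPrime p.asIdeal)) i).map
      (ModuleCat.ofHom (LocalizedModule.map p.asIdeal.primeCompl (φ k l h)))).hom
  have hL : ∀ (p : PrimeSpectrum A) (k l a : ℕ) (h₁ : a ≤ l) (h₂ : l ≤ k) z,
      L p k a (h₁.trans h₂) z = L p l a h₁ (L p k l h₂ z) := fun p k l a h₁ h₂ z => by
    simp only [L, ← ModuleCat.comp_apply, ← Functor.map_comp, ← ModuleCat.ofHom_comp]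
    refine congrArg (fun g => ((localCohomology _ i).map (ModuleCat.ofHom g)).hom z) ?_
    refine LinearMap.ext fun x => ?_
    induction x using LocalizedModule.induction_on with
    | _ x s => simp only [LinearMap.comp_apply, LocalizedModule.map_mk, hφ k l a h₁ h₂]
  obtain ⟨m₀, hm₀⟩ := Groth.Agent.H4HTPtwise.exists_injective_iterate (T := T)
    (W := fun n => (CategoryTheory.shiftFunctor (Dual.D A) (i : ℤ)).obj (Dual.inD A (M n)))
    (fun k m h => Groth.Agent.H4HTPtwise.shMap (φ k m h) i)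
    (fun k l m h₁ h₂ => by rw [hφ k l m h₁ h₂, Groth.Agent.H4HTPtwise.shMap_comp]) m' hm'
    (fun c T' hT' hc m k h hk x =>
      Groth.Agent.H4HTPtwise.hmap_shift_neg_one_eq_zero M φ hφ i m' hm' h1 c T' hT' hc m k h hk x)
    (fun q hq a l k hal hlk hk y hy => by
      obtain ⟨z, hz⟩ := Groth.Agent.H4HTPtwise.exists_local_class q i y
      have h0 : L q k a (hal.trans hlk) z = 0 := (hz (M a) (φ k a _)).2 hy
      refine (hz (M l) (φ k l hlk)).1 (h3 q hq l _ ?_ ?_)
      · rw [← h2 q hq l k hlk hk]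
        exact ⟨z, rfl⟩
      · show L q l 0 (Nat.zero_le l) (L q k l hlk z) = 0
        rw [← hL q k l 0 (Nat.zero_le l) hlk z, hL q k a 0 (Nat.zero_le a) (hal.trans hlk) z, h0, map_zero]) c
  refine ⟨m₀, fun m hm => ?_⟩
  obtain ⟨m'', hmm, hm''⟩ := hm₀ m hm
  refine ⟨m'', hmm, fun k h hk x hx hx0 => ?_⟩
  obtain ⟨w, rfl⟩ := hx
  obtain ⟨y, rfl⟩ := (Groth.Agent.H4DR.HT.bijective_cmp T (M k) i).2 w
  rw [← Groth.Agent.H4HTPtwise.cmp_natural, ← Groth.Agent.H4HTPtwise.cmp_natural] at hx0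
  have h0 := (injective_iff_map_eq_zero _).1 (Groth.Agent.H4DR.HT.bijective_cmp T (M m₀) i).1 _ hx0
  rw [← Groth.Agent.H4DR.HT.hmap_comp, ← Groth.Agent.H4HTPtwise.shMap_comp, ← hφ k m m₀ hm h] at h0
  rw [← Groth.Agent.H4HTPtwise.cmp_natural, hm'' T subset_rfl (fun q _ => hc q) k h hk y h0, map_zero]

end Groth.Agent.S8946
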