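import Groth.Statements.S9240
import Groth.Agent.H9Hens.BranchFlat
import Mathlib.RingTheory.Ideal.GoingDown
-- import your own Groth.Agent.* helpers here

set_option autoImplicit false
universe u
open Brnch

namespace Groth.Agent.S9240

/-- Let A be a Noetherian local ring, S its henselization and A^ its completion, and let ψ : S → A^ be
the ring map compatible with the structure maps from A (it is unique, A^ being henselian). Then
contraction along ψ sends every minimal prime of A^ to a minimal prime of S, and every minimal prime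
of S arises this way: contraction maps the minimal primes of A^ onto the minimal primes of S. -/
theorem result (A S : Type u) [CommRing A] [IsLocalRing A]
    [IsNoetherianRing A] [CommRing S] [IsLocalRing S] [Algebra A S] [IsLocalHom (algebraMap A S)]
    [Hensel.IsHenselization A S] (ψ : S →+* AdicCompletion (IsLocalRing.maximalIdeal A) A)
    (hψ : ψ.comp (algebraMap A S) = algebraMap A (AdicCompletion (IsLocalRing.maximalIdeal A) A)) :
    Set.MapsTo (Ideal.comap ψ) (minimalPrimes (AdicCompletion (IsLocalRing.maximalIdeal A) A))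
        (minimalPrimes S) ∧
      Set.SurjOn (Ideal.comap ψ) (minimalPrimes (AdicCompletion (IsLocalRing.maximalIdeal A) A))
        (minimalPrimes S) := by
  let T := AdicCompletion (IsLocalRing.maximalIdeal A) A
  obtain ⟨π, hπ⟩ := H9Hens.exists_isPtColim_of_isHenselization (R := A) S
  let : Algebra S T := ψ.toAlgebra
  have : IsScalarTower A S T :=
    IsScalarTower.of_algebraMap_eq fun a => (RingHom.congr_fun hψ a).symm
  have := hπ.flat_of_restrictScalars T
  have : IsLocalHom (algebraMap S T) := by
    refine ((IsLocalRing.local_hom_TFAE (algebraMap S T)).out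
      (a := IsLocalHom (algebraMap S T)) 0 2).mpr ?_
    rw [← hπ.map_maximalIdeal H9Hens.ker_algebraMap_residueField, Ideal.map_map,
      ← IsScalarTower.algebraMap_eq]
    exact IsLocalRing.map_maximalIdeal_le _
  have : Module.FaithfullyFlat S T := Module.FaithfullyFlat.of_flat_of_isLocalHom
  refine ⟨fun P hP => ?_, fun p hp => ?_⟩
  · have := hP.1.1
    refine ⟨⟨inferInstance, bot_le⟩, fun q hq hle => ?_⟩
    have := hq.1
    have : P.LiesOver (P.comap ψ) := ⟨rfl⟩
    obtain ⟨P', hP'le, hP', hlo⟩ := Ideal.exists_ideal_le_liesOver_of_le (q := P.comap ψ) P hle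
    have hPP : P = P' := le_antisymm (hP.2 ⟨hP', bot_le⟩ hP'le) hP'le
    exact le_of_eq ((congrArg (Ideal.comap ψ) hPP).trans hlo.over.symm)
  · have := hp.1.1
    obtain ⟨P, hP⟩ := PrimeSpectrum.comap_surjective_of_faithfullyFlat (A := S) (B := T) ⟨p, hp.1.1⟩
    obtain ⟨P₀, hP₀, hle⟩ := Ideal.exists_minimalPrimes_le (I := ⊥) (J := P.asIdeal) bot_le
    refine ⟨P₀, hP₀, ?_⟩
    have hle' : P₀.comap ψ ≤ p :=
      (Ideal.comap_mono hle).trans (le_of_eq (congrArg PrimeSpectrum.asIdeal hP))
    have := hP₀.1.1
    exact le_antisymm hle' (hp.2 ⟨inferInstance, bot_le⟩ hle')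

end Groth.Agent.S9240
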