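import Groth.Statements.S9242
import Groth.Agent.H9Hens.PuncturedHens
-- import your own Groth.Agent.* helpers here

set_option autoImplicit false
universe u
open Brnch

namespace Groth.Agent.S9242

/-- Let A be a Noetherian local ring with henselization S and completion A^, let ψ : S → A^ be the ring
map compatible with the structure maps from A, and let q be a minimal prime of A^ with dim(A^/q) =
1. Then q is the radical of the extension along ψ of some minimal prime of S. -/
theorem result (A S : Type u) [CommRing A]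
    [IsLocalRing A] [IsNoetherianRing A] [CommRing S] [IsLocalRing S] [Algebra A S]
    [IsLocalHom (algebraMap A S)] [Hensel.IsHenselization A S]
    (ψ : S →+* AdicCompletion (IsLocalRing.maximalIdeal A) A)
    (hψ : ψ.comp (algebraMap A S) = algebraMap A (AdicCompletion (IsLocalRing.maximalIdeal A) A))
    (q : Ideal (AdicCompletion (IsLocalRing.maximalIdeal A) A))
    (hq : q ∈ minimalPrimes (AdicCompletion (IsLocalRing.maximalIdeal A) A))
    (hdim : ringKrullDim (AdicCompletion (IsLocalRing.maximalIdeal A) A ⧸ q) = 1) :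
    ∃ q' ∈ minimalPrimes S, (Ideal.map ψ q').radical = q := by
  haveI := H9Hens.henselianLocalRing_cpl A
  haveI := H05EGA4.isNoetherianRing_cpl A
  obtain ⟨_, _, hfl, hm, hres⟩ := H9Hens.henselization_to_cpl_data A S ψ hψ
  letI : Algebra S (EGA4.Cpl A) := ψ.toAlgebra
  haveI : Module.Flat S (EGA4.Cpl A) := hfl
  haveI : IsLocalHom (algebraMap S (EGA4.Cpl A)) := ((IsLocalRing.local_hom_TFAE _).out 2 0).mp hm.le
  haveI : Module.FaithfullyFlat S (EGA4.Cpl A) := Module.FaithfullyFlat.of_flat_of_isLocalHom
  let Q : PrimeSpectrum (EGA4.Cpl A) := ⟨q, hq.1.1⟩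
  refine ⟨q.comap ψ, H9Hens.comap_mem_minimalPrimes_of_flat (H := S) hq, ?_⟩
  refine H9Hens.radical_map_eq (H := S) (H9Hens.comap_mem_minimalPrimes_of_flat hq) hq rfl fun P hP hPc => ?_
  exact congrArg PrimeSpectrum.asIdeal (H9Hens.eq_of_comap_eq_of_dim_one hm hres (q := Q) hq
    (H9Hens.ne_closedPoint_of_dim_one Q hdim) (H9Hens.eq_closedPoint_of_lt Q hdim.le) ⟨P, hP.1.1⟩
    (PrimeSpectrum.ext hPc))

end Groth.Agent.S9242
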