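import Groth.Statements.S4536
import Mathlib
import Groth.Prelude.Def_EGA41
import Groth.Agent.H05EGA4.FSAdic
import Groth.Agent.S9316

set_option autoImplicit false
set_option linter.style.haveILetI false
universe u
open EGA41

open IsLocalRing TensorProduct Groth.Agent CAlgX Groth.Agent.H05EGA4

namespace Groth.Agent.S4536

/-- Let A carry the 𝔞-adic and B the 𝔟-adic topology, A → B being continuous (a power of 𝔞 maps into 𝔟).
Then B is formally smooth over A if and only if for every n the (A/𝔞ⁿ)-algebra B/𝔞ⁿB, with the adic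
topology of the image of 𝔟, is formally smooth over the discrete ring A/𝔞ⁿ. -/
theorem result {A B : Type u} [CommRing A] [CommRing B] [Algebra A B]
    (𝔞 : Ideal A) (𝔟 : Ideal B) (hAB : ∃ k : ℕ, (𝔞 ^ k).map (algebraMap A B) ≤ 𝔟) :
    EGA41.IsFormallySmoothAdic A 𝔞 B 𝔟 ↔
      ∀ n : ℕ, EGA41.IsFormallySmoothAdic (A ⧸ 𝔞 ^ n) ⊥ (B ⧸ (𝔞 ^ n).map (algebraMap A B))
        (𝔟.map (Ideal.Quotient.mk ((𝔞 ^ n).map (algebraMap A B)))) := by
  constructor
  · intro h n C _ _ J hJ _ u ⟨l, hl⟩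
    letI : Algebra A C := ((algebraMap (A ⧸ 𝔞 ^ n) C).comp (Ideal.Quotient.mk (𝔞 ^ n))).toAlgebra
    have : IsScalarTower A (A ⧸ 𝔞 ^ n) C := IsScalarTower.of_algebraMap_eq fun _ => rfl
    have hCn : (𝔞 ^ n).map (algebraMap A C) = ⊥ := by
      rw [IsScalarTower.algebraMap_eq A (A ⧸ 𝔞 ^ n) C, ← Ideal.map_map, Ideal.Quotient.algebraMap_eq,
        Ideal.map_quotient_self, Ideal.map_bot]
    obtain ⟨v, hv⟩ := h C J hJ ⟨n, hCn⟩ ((u.restrictScalars A).comp (Ideal.Quotient.mkₐ A _)) ⟨l, fun x hx =>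
      hl _ (by rw [← Ideal.map_pow]; exact Ideal.mem_map_of_mem _ hx)⟩
    have hv0 : ∀ x ∈ (𝔞 ^ n).map (algebraMap A B), v x = 0 := fun x hx => by
      have h1 := Ideal.mem_map_of_mem v.toRingHom hx
      rw [Ideal.map_map, show v.toRingHom.comp (algebraMap A B) = algebraMap A C from v.comp_algebraMap, hCn] at h1
      exact h1
    let v' : B ⧸ (𝔞 ^ n).map (algebraMap A B) →+* C := Ideal.Quotient.lift _ v.toRingHom hv0
    refine ⟨{ v' with commutes' := fun a => ?_ }, AlgHom.ext fun y => ?_⟩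
    · obtain ⟨a, rfl⟩ := Ideal.Quotient.mk_surjective a
      exact v.commutes a
    · obtain ⟨y, rfl⟩ := Ideal.Quotient.mk_surjective y
      exact AlgHom.congr_fun hv y
  · intro h C _ _ J hJ ⟨n, hn⟩ u ⟨l, hl⟩
    have hA : ∀ a ∈ 𝔞 ^ n, algebraMap A C a = 0 := fun a ha =>
      Ideal.mem_bot.mp (hn ▸ Ideal.mem_map_of_mem _ ha)
    letI : Algebra (A ⧸ 𝔞 ^ n) C := (Ideal.Quotient.lift (𝔞 ^ n) (algebraMap A C) hA).toAlgebra
    have : IsScalarTower A (A ⧸ 𝔞 ^ n) C := IsScalarTower.of_algebraMap_eq fun _ => rfl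
    have hu0 : ∀ x ∈ (𝔞 ^ n).map (algebraMap A B), u x = 0 := fun x hx => by
      have h1 := Ideal.mem_map_of_mem u.toRingHom hx
      rw [Ideal.map_map, show u.toRingHom.comp (algebraMap A B) = algebraMap A (C ⧸ J) from u.comp_algebraMap,
        IsScalarTower.algebraMap_eq A C (C ⧸ J), ← Ideal.map_map, hn, Ideal.map_bot] at h1
      exact h1
    let u' : B ⧸ (𝔞 ^ n).map (algebraMap A B) →ₐ[A ⧸ 𝔞 ^ n] C ⧸ J :=
      { Ideal.Quotient.lift _ u.toRingHom hu0 with
        commutes' := fun a => by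
          obtain ⟨a, rfl⟩ := Ideal.Quotient.mk_surjective a
          exact u.commutes a }
    obtain ⟨v, hv⟩ := h n C J hJ ⟨1, by rw [pow_one, Ideal.map_bot]⟩ u' ⟨l, fun x hx => by
      rw [← Ideal.map_pow] at hx
      obtain ⟨y, hy, rfl⟩ := (Ideal.mem_map_iff_of_surjective _ Ideal.Quotient.mk_surjective).mp hx
      exact hl y hy⟩
    exact ⟨(v.restrictScalars A).comp (Ideal.Quotient.mkₐ A _), AlgHom.ext fun y =>
      AlgHom.congr_fun hv (Ideal.Quotient.mk _ y)⟩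


end Groth.Agent.S4536
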