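import Groth.Statements.S9285
import Mathlib.RingTheory.Finiteness.Ideal
import Mathlib.LinearAlgebra.Pi

set_option autoImplicit false
universe u
open CAlg

namespace Groth.Agent.S9285

/-- A ring R has the property that every proper finitely generated ideal has a nonzero annihilator if
and only if every injective linear map R → R^n admits a retraction. -/
theorem result (R : Type u) [CommRing R] :
    (∀ I : Ideal R, I.FG → I ≠ ⊤ → I.annihilator ≠ ⊥) ↔
      ∀ (n : ℕ) (u : R →ₗ[R] (Fin n → R)), Function.Injective u →
        ∃ v : (Fin n → R) →ₗ[R] R, v.comp u = LinearMap.id := by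
  classical
  constructor
  · intro hP n u hu
    let I : Ideal R := Ideal.span (Set.range (u 1))
    have hI : I = ⊤ := by
      by_contra hne
      refine hP I (Submodule.fg_span (Set.finite_range _)) hne (eq_bot_iff.mpr fun r hr => ?_)
      rw [Submodule.mem_annihilator] at hr
      refine Ideal.mem_bot.mpr (hu ?_)
      rw [map_zero]
      funext i
      rw [show r = r • (1 : R) by simp, map_smul]
      exact hr _ (Ideal.subset_span ⟨i, rfl⟩)
    obtain ⟨c, hc⟩ := Ideal.mem_span_range_iff_exists_fun.mp ((Ideal.eq_top_iff_one _).mp hI)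
    refine ⟨∑ i, c i • LinearMap.proj i, LinearMap.ext_ring ?_⟩
    simpa [mul_comm] using hc
  · intro h I hI hne hann
    obtain ⟨n, s, hs⟩ := Submodule.fg_iff_exists_fin_generating_family.mp hI
    let u : R →ₗ[R] (Fin n → R) := LinearMap.toSpanSingleton R _ s
    have hu : Function.Injective u := by
      rw [injective_iff_map_eq_zero]
      intro r hr
      rw [← Submodule.mem_bot R, ← hann, ← hs, Submodule.mem_annihilator_span]
      rintro ⟨_, i, rfl⟩
      exact congr_fun hr i
    obtain ⟨v, hv⟩ := h n u hu
    refine hne ((Ideal.eq_top_iff_one _).mpr ?_)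
    have h1 : v s = 1 := by simpa [u] using LinearMap.congr_fun hv 1
    rw [← h1, show s = ∑ i, s i • Pi.single i (1 : R) from (pi_eq_sum_univ' s), map_sum, ← hs]
    exact Submodule.sum_mem _ fun i _ => by
      rw [map_smul, smul_eq_mul]; exact Ideal.mul_mem_right _ _ (Ideal.subset_span ⟨i, rfl⟩)

end Groth.Agent.S9285
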