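import Groth.Statements.S6896
import Groth.Prelude.Def_CAlg2
import Groth.Prelude.Def_Fitting

set_option autoImplicit false
universe u
open Fitt

namespace Groth.Agent.S6896

/-- Let `R` be a local ring, `M` a finite `R`-module and `k ≥ 0` with `Fit_k(M) = (f)` principal. Then
the quotient `M'` of `M` by the submodule `{x ∈ M | f x = 0}` can be generated by `k` elements. -/
theorem result {R : Type u} [CommRing R] [IsLocalRing R]
    (M : Type u) [AddCommGroup M] [Module R M] [Module.Finite R M] (k : ℕ) (f : R)
    (hf : Fitt.ideal R M k = Ideal.span {f}) :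
    ∃ g : Fin k → M ⧸ LinearMap.ker (f • (LinearMap.id : M →ₗ[R] M)),
      Submodule.span R (Set.range g) = ⊤ := by
  classical
  let Q := M ⧸ LinearMap.ker (f • (LinearMap.id : M →ₗ[R] M))
  by_cases hf0 : f = 0
  · refine ⟨0, ?_⟩
    subst hf0
    haveI : Subsingleton (M ⧸ LinearMap.ker ((0 : R) • (LinearMap.id : M →ₗ[R] M))) := by
      rw [Submodule.Quotient.subsingleton_iff, zero_smul, LinearMap.ker_zero]
    exact Subsingleton.elim _ _
  obtain ⟨d, hd, c, hc, hdc⟩ : ∃ d ∈ {d | ∃ (n : ℕ) (x : Fin n → M) (a : Matrix (Fin n) (Fin n) R),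
      Submodule.span R (Set.range x) = ⊤ ∧ (∀ i : Fin n, (i : ℕ) < n - k → ∑ j, a i j • x j = 0) ∧ d = a.det},
      ∃ c, IsUnit c ∧ d = c * f := by
    by_contra hne
    push Not at hne
    have hle : Fitt.ideal R M k ≤ IsLocalRing.maximalIdeal R * Ideal.span {f} := by
      refine Ideal.span_le.mpr fun d hd => ?_
      have hd' : d ∈ Fitt.ideal R M k := Ideal.subset_span hd
      rw [hf] at hd'
      obtain ⟨c, hc⟩ := Ideal.mem_span_singleton'.mp hd'
      rw [← hc]
      exact Ideal.mul_mem_mul (fun hu => hne d hd c hu hc.symm) (Ideal.mem_span_singleton_self f)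
    rw [hf] at hle
    obtain ⟨z, hz, hzf⟩ := Ideal.mem_mul_span_singleton.mp (hle (Ideal.mem_span_singleton_self f))
    refine hf0 ?_
    have hu : IsUnit (1 - z) := (IsLocalRing.isUnit_or_isUnit_one_sub_self z).resolve_left hz
    exact hu.mul_right_eq_zero.mp (by rw [sub_mul, one_mul, hzf, sub_self])
  obtain ⟨n, x, a, hx, ha, rfl⟩ := hd
  let y : Fin n → M := fun i => ∑ j, a i j • x j
  let g : Fin k → Q := fun t =>
    if h : n - k + t.val < n then Submodule.Quotient.mk (y ⟨n - k + t.val, h⟩) else 0
  refine ⟨g, eq_top_iff.mpr ?_⟩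
  have hmin : ∀ i j : Fin n, n - k ≤ i.val → ∃ b, (a.updateRow i (Pi.single j 1)).det = b * f := by
    intro i j hi
    have h : (a.updateRow i (Pi.single j 1)).det ∈ Fitt.ideal R M k := Ideal.subset_span ⟨n, x,
      a.updateRow i (Pi.single j 1), hx, fun i' hi' => by
        rw [Matrix.updateRow_ne (by intro h; subst h; omega)]
        exact ha i' hi', rfl⟩
    rw [hf, Ideal.mem_span_singleton'] at h
    exact ⟨h.choose, h.choose_spec.symm⟩
  have hgen : ∀ j, (Submodule.Quotient.mk (x j) : Q) ∈ Submodule.span R (Set.range g) := by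
    intro j
    have hb : ∀ i : Fin n, ∃ b : R, a.adjugate j i • y i = f • b • y i := by
      intro i
      by_cases hi : i.val < n - k
      · exact ⟨0, by simp [y, ha i hi]⟩
      · obtain ⟨b, hb⟩ := hmin i j (not_lt.mp hi)
        exact ⟨b, by rw [Matrix.adjugate_apply, hb, mul_comm, mul_smul]⟩
    choose b hb using hb
    have h1 : a.det • x j = ∑ i, a.adjugate j i • y i := by
      simp only [y, Finset.smul_sum, smul_smul]
      rw [Finset.sum_comm]
      simp_rw [← Finset.sum_smul, ← Matrix.mul_apply, Matrix.adjugate_mul, Matrix.smul_apply,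
        Matrix.one_apply, smul_eq_mul, mul_ite, mul_one, mul_zero, ite_smul, zero_smul]
      rw [Finset.sum_ite_eq]
      simp
    simp_rw [hdc, hb, ← Finset.smul_sum, mul_comm c f, mul_smul] at h1
    have h2 : c • x j - ∑ i, b i • y i ∈ LinearMap.ker (f • (LinearMap.id : M →ₗ[R] M)) := by
      rw [LinearMap.mem_ker, LinearMap.smul_apply, LinearMap.id_apply, smul_sub, h1, sub_self]
    have h3 := (Submodule.Quotient.eq _).mpr h2
    rw [← Submodule.mkQ_apply, ← Submodule.mkQ_apply, map_sum] at h3
    have h4 : c • (Submodule.Quotient.mk (x j) : Q) ∈ Submodule.span R (Set.range g) := by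
      rw [← Submodule.Quotient.mk_smul]
      rw [← Submodule.mkQ_apply, h3]
      refine Submodule.sum_mem _ fun i _ => ?_
      rw [map_smul]
      refine Submodule.smul_mem _ _ ?_
      by_cases hi : i.val < n - k
      · rw [show y i = 0 from ha i hi, map_zero]
        exact zero_mem _
      · have hlt : i.val - (n - k) < k := by have := i.isLt; omega
        refine Submodule.subset_span ⟨⟨i.val - (n - k), hlt⟩, ?_⟩
        have h : n - k + (i.val - (n - k)) < n := by have := i.isLt; omega
        simp only [g, dif_pos h, Submodule.mkQ_apply]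
        congr 2
        ext
        simp only []
        omega
    exact (Submodule.smul_mem_iff_of_isUnit _ hc).mp h4
  intro z _
  obtain ⟨m, rfl⟩ := Submodule.Quotient.mk_surjective _ z
  have hm : m ∈ Submodule.span R (Set.range x) := hx ▸ Submodule.mem_top
  induction hm using Submodule.span_induction with
  | mem w hw => obtain ⟨j, rfl⟩ := hw; exact hgen j
  | zero => exact zero_mem _
  | add u v _ _ hu hv => exact add_mem (hu trivial) (hv trivial)
  | smul t u _ hu => exact Submodule.smul_mem _ t (hu trivial)

end Groth.Agent.S6896
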