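import Groth.Statements.S18702
import Groth.Agent.H4Depth.SkFree

set_option autoImplicit false
universe u
open QGor

namespace Groth.Agent.S18702

/-- Affine form, for an arbitrary Noetherian ring A (not assumed to be a domain). Let I be an ideal and
G a finite reflexive A-module (the evaluation map into the double dual is bijective). For k = 1 and
k = 2: if depth_I A ≥ k then depth_I G ≥ k; and if A satisfies (S_k) then G satisfies (S_k). -/
theorem result (A : Type u) [CommRing A] [IsNoetherianRing A] (I : Ideal A)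
    (G : Type u) [AddCommGroup G] [Module A G] [Module.Finite A G] [Module.IsReflexive A G] :
    (1 ≤ LocCoh.idealDepth I A → 1 ≤ LocCoh.idealDepth I G) ∧
    (2 ≤ LocCoh.idealDepth I A → 2 ≤ LocCoh.idealDepth I G) ∧
    (LocCoh.HasSk 1 A A → LocCoh.HasSk 1 A G) ∧ (LocCoh.HasSk 2 A A → LocCoh.HasSk 2 A G) := by
  obtain ⟨n, m, f, g, hf, hfg⟩ := H4Depth.exists_dual_presentation (R := A) (Module.Dual A G)
  set e := Module.evalEquiv A G
  have hf' : Function.Injective (f.comp e.toLinearMap) := hf.comp e.injective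
  have hfg' : Function.Exact (f.comp e.toLinearMap) g := fun y =>
    ⟨fun h => by obtain ⟨x, rfl⟩ := (hfg y).mp h; exact ⟨e.symm x, by simp⟩,
      fun ⟨x, hx⟩ => (hfg y).mpr ⟨e x, hx⟩⟩
  have hn := fun J : Ideal A => H4Depth.idealDepth_le_idealDepth_pi J n
  refine ⟨fun h => H4Depth.one_le_idealDepth_of_injective I hf' (h.trans (hn I)),
    fun h => H4Depth.two_le_idealDepth_of_exact I hf' hfg' (h.trans (hn I))
      (le_trans (le_trans one_le_two h) (H4Depth.idealDepth_le_idealDepth_pi I m)), fun h => ?_, fun h => ?_⟩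
  · exact H4Depth.hasSk_one_of_injective hf' (H4Depth.hasSk_pi h n)
  · rcases Nat.eq_zero_or_pos m with hm | hm
    · subst hm
      exact H4Depth.hasSk_of_bijective (M := Fin n → A) (f := f.comp e.toLinearMap)
        ⟨hf', fun y => (hfg' y).mp (Subsingleton.elim _ _)⟩ (H4Depth.hasSk_pi h n)
    · exact H4Depth.hasSk_two_of_exact hf' hfg' (H4Depth.support_subset_pi G hm)
        (H4Depth.hasSk_pi (H4Depth.hasSk_mono (by norm_num) h) m) (H4Depth.hasSk_pi h n)

end Groth.Agent.S18702
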