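import Groth.Statements.S18703
import Groth.Agent.H1CAlg.Reflexive
import Groth.Agent.H1CAlg.Associated
import Groth.Agent.H4Depth.LocDepth

set_option autoImplicit false
universe u
open QGor

namespace Groth.Agent.S18703

/-- Affine form. Let A be a Noetherian ring and I an ideal with depth_I A ≥ 1. Let G be a finite
A-module such that G_p is a reflexive A_p-module for every prime p not containing I (G is reflexive
off V(I)). If depth_I G ≥ 2, then G is reflexive. -/
theorem result (A : Type u) [CommRing A] [IsNoetherianRing A] (I : Ideal A)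
    (hA : 1 ≤ LocCoh.idealDepth I A)
    (G : Type u) [AddCommGroup G] [Module A G] [Module.Finite A G]
    (hU : ∀ p : PrimeSpectrum A, ¬ I ≤ p.asIdeal →
      Module.IsReflexive (Localization.AtPrime p.asIdeal) (LocalizedModule p.asIdeal.primeCompl G))
    (hG : 2 ≤ LocCoh.idealDepth I G) : Module.IsReflexive A G := by
  obtain ⟨n₀, m₀, f₀, g₀, hf₀, -⟩ := Groth.Agent.H4Depth.exists_dual_presentation (R := A) G
  haveI : Module.Finite A (Module.Dual A G) := Module.Finite.of_injective f₀ hf₀
  obtain ⟨n, m, f, g, hf, -⟩ := Groth.Agent.H4Depth.exists_dual_presentation (R := A) (Module.Dual A G)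
  refine ⟨Groth.Agent.H1CAlg.bijective_of_depth_two _ fun p _ => ?_⟩
  by_cases hIp : I ≤ p
  · refine Or.inr ⟨hG.trans (Groth.Agent.H4Depth.idealDepth_le_depth_localization p hIp), fun hass => ?_⟩
    have hIM : I • (⊤ : Submodule A A) ≠ ⊤ := fun h => by
      rw [Ideal.smul_eq_mul, Ideal.mul_top] at h
      exact (inferInstance : p.IsPrime).ne_top (top_le_iff.1 (h ▸ hIp))
    obtain ⟨x, hx, hreg⟩ := (Groth.Agent.H4Depth.one_le_idealDepth_iff hIM).1 hA
    refine Groth.Agent.H4Depth.not_isSMulRegular_of_mem_associatedPrimes hass (hIp hx) fun a b hab => hf ?_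
    funext i
    refine hreg ?_
    simpa using congrFun (congrArg f hab) i
  · exact Or.inl ((Groth.Agent.H1CAlg.isReflexive_localizedModule_iff G p.primeCompl).mp (hU ⟨p, ‹_›⟩ hIp))

end Groth.Agent.S18703
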