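import Groth.Statements.S18708
import Groth.Agent.H4Depth.FlatFour

set_option autoImplicit false
universe u
open QGor

namespace Groth.Agent.S18708

/-- Affine-local form at a point of the equivalence (b) ⇔ (c) ⇔ (b″) and of the note after it. Let A → B
be a local homomorphism of Noetherian local rings, m the maximal ideal of A, J an ideal of B and 0 →
F → E⁰ → E¹ → G → 0 an exact sequence of finite B-modules with E⁰, E¹ flat over A, G_q flat over A
for every prime q not containing J, depth_J (E⁰/mE⁰) ≥ 2 and depth_J (E¹/mE¹) ≥ 1. Then depth_J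
(F/mF) ≥ 2 (the restriction map of the closed fibre of F off V(J) is bijective) if and only if G is
flat over A, if and only if depth_J (F/m^(n+1)F) ≥ 2 for all n; and when G is flat over A so is F. -/
theorem result (A B : Type u) [CommRing A] [CommRing B]
    [IsNoetherianRing A] [IsNoetherianRing B] [IsLocalRing A] [IsLocalRing B] [Algebra A B]
    [IsLocalHom (algebraMap A B)] (J : Ideal B)
    (F E0 E1 G : Type u) [AddCommGroup F] [Module B F] [Module A F] [IsScalarTower A B F] [Module.Finite B F]
    [AddCommGroup E0] [Module B E0] [Module A E0] [IsScalarTower A B E0] [Module.Finite B E0] [Module.Flat A E0]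
    [AddCommGroup E1] [Module B E1] [Module A E1] [IsScalarTower A B E1] [Module.Finite B E1] [Module.Flat A E1]
    [AddCommGroup G] [Module B G] [Module A G] [IsScalarTower A B G] [Module.Finite B G]
    (f : F →ₗ[B] E0) (u : E0 →ₗ[B] E1) (v : E1 →ₗ[B] G)
    (hf : Function.Injective f) (hfu : Function.Exact f u) (huv : Function.Exact u v) (hv : Function.Surjective v)
    (hGU : ∀ q : PrimeSpectrum B, ¬ J ≤ q.asIdeal → FlatCA.FlatAt A q.asIdeal G)
    (h0 : 2 ≤ LocCoh.idealDepth J (EGA4.FibMod A B E0)) (h1 : 1 ≤ LocCoh.idealDepth J (EGA4.FibMod A B E1)) :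
    (2 ≤ LocCoh.idealDepth J (EGA4.FibMod A B F) ↔ Module.Flat A G) ∧
    (Module.Flat A G ↔ ∀ n : ℕ, 2 ≤ LocCoh.idealDepth J (F ⧸ ((EGA4.mB A B) ^ (n + 1) • (⊤ : Submodule B F)))) ∧
    (Module.Flat A G → Module.Flat A F) := by
  open Groth.Agent.H4Depth TensorProduct IsLocalRing in
  let K := LinearMap.range u
  let u' : E0 →ₗ[B] K := u.rangeRestrict
  have hu' : Function.Surjective u' := u.surjective_rangeRestrict
  have hfu' : Function.Exact f u' := fun x => by
    rw [← hfu x]
    exact ⟨fun h => congrArg Subtype.val h, fun h => Subtype.ext h⟩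
  have hKv : Function.Exact K.subtype v := fun y => by
    rw [huv y]
    exact ⟨fun ⟨x, hx⟩ => ⟨⟨y, x, hx⟩, rfl⟩, fun ⟨⟨w, x, hx⟩, hw⟩ => ⟨x, hx.trans hw⟩⟩
  let k0 := A ⧸ maximalIdeal A
  have hGK : Module.Flat A G → Module.Flat A K := fun _ =>
    Groth.Agent.H8Props.flat_of_exact (K.subtype.restrictScalars A) (v.restrictScalars A) K.subtype_injective hKv hv
  have hGF : Module.Flat A G → Module.Flat A F := fun hG => by
    haveI := hGK hG
    exact Groth.Agent.H8Props.flat_of_exact (f.restrictScalars A) (u'.restrictScalars A) hf hfu' hu'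
  haveI : Module.Finite B (F ⊗[A] k0) := Groth.Agent.H05EGA4.FlatDim.finite_tensor k0
  haveI : Module.Finite B (E0 ⊗[A] k0) := Groth.Agent.H05EGA4.FlatDim.finite_tensor k0
  haveI : Module.Finite B (E1 ⊗[A] k0) := Groth.Agent.H05EGA4.FlatDim.finite_tensor k0
  haveI : Module.Finite B (K ⊗[A] k0) := Groth.Agent.H05EGA4.FlatDim.finite_tensor k0
  have h0' : 2 ≤ LocCoh.idealDepth J (E0 ⊗[A] k0) := by
    rw [← idealDepth_congr J (tensorQuotEquiv (maximalIdeal A))]; exact h0
  have h1' : 1 ≤ LocCoh.idealDepth J (E1 ⊗[A] k0) := by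
    rw [← idealDepth_congr J (tensorQuotEquiv (maximalIdeal A))]; exact h1
  let f' := AlgebraTensorModule.rTensor A k0 f
  let u'' := AlgebraTensorModule.rTensor A k0 u'
  have hfs : Function.Exact f' u'' := rTensor_exact (f := f.restrictScalars A) (g := u'.restrictScalars A) k0 hfu' hu'
  have hus : Function.Surjective u'' := LinearMap.rTensor_surjective (g := u'.restrictScalars A) k0 hu'
  have key1 : Module.Flat A G → 2 ≤ LocCoh.idealDepth J (EGA4.FibMod A B F) := fun hG => by
    haveI := hG
    haveI := hGK hG
    have hinjf : Function.Injective f' :=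
      rTensor_injective_of_flat (f.restrictScalars A) (u'.restrictScalars A) hf hfu' hu' k0
    have hinjK : Function.Injective (AlgebraTensorModule.rTensor A k0 K.subtype) :=
      rTensor_injective_of_flat (K.subtype.restrictScalars A) (v.restrictScalars A) K.subtype_injective hKv hv k0
    have hex : Function.Exact f' (AlgebraTensorModule.rTensor A k0 K.subtype ∘ₗ u'') := fun x => by
      rw [← hfs x]
      exact ⟨fun h => hinjK (h.trans (map_zero _).symm), fun h => by rw [LinearMap.comp_apply, h, map_zero]⟩
    refine le_of_le_of_eq ?_ (idealDepth_congr J (tensorQuotEquiv (B := B) (M := F) (maximalIdeal A))).symm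
    exact two_le_idealDepth_of_exact J hinjf hex h0' h1'
  have key2 : 2 ≤ LocCoh.idealDepth J (EGA4.FibMod A B F) → Module.Flat A G := fun hF2 => by
    have hUK : ∀ q : PrimeSpectrum B, ¬ J ≤ q.asIdeal → FlatCA.FlatAt A q.asIdeal K := fun q hq =>
      flatAt_kernel q K.subtype v K.subtype_injective hKv hv (flatAt_of_flat q) (hGU q hq)
    replace hF2 := le_of_le_of_eq hF2 (idealDepth_congr J (tensorQuotEquiv (B := B) (M := F) (maximalIdeal A)))
    have hinjf : Function.Injective f' :=
      rTensor_injective_of_noTor f u' hf hfu' hu' hUK (noTor_of_one_le (le_trans one_le_two hF2))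
    have hK1 : 1 ≤ LocCoh.idealDepth J (K ⊗[A] k0) := by
      refine le_trans (le_min (le_trans one_le_two h0') ?_) (min_le_idealDepth_right J hinjf hus hfs)
      calc (1 : ℕ∞) = 2 - 1 := rfl
        _ ≤ _ := tsub_le_tsub_right hF2 1
    have hinjK := rTensor_injective_of_noTor K.subtype v K.subtype_injective hKv hv hGU (noTor_of_one_le hK1)
    have hres : Function.Injective ((K.subtype.restrictScalars A).lTensor (ResidueField A)) := by
      rw [← LinearMap.comm_comp_rTensor_comp_comm_eq (K.subtype.restrictScalars A)]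
      exact (TensorProduct.comm A E1 (ResidueField A)).injective.comp
        (hinjK.comp (TensorProduct.comm A (ResidueField A) K).injective)
    haveI := (Groth.Agent.H7Flat.injective_and_flat_quotient (S := B) (K.subtype.restrictScalars A) hres).2
    refine Module.Flat.of_linearEquiv ((Submodule.quotEquivOfEq (LinearMap.range (K.subtype.restrictScalars A)) (LinearMap.ker (v.restrictScalars A)) ?_).trans
      ((v.restrictScalars A).quotKerEquivOfSurjective hv)).symm
    exact ((LinearMap.exact_iff (f := K.subtype.restrictScalars A) (g := v.restrictScalars A)).1 hKv).symm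
  refine ⟨⟨key2, key1⟩, ⟨fun hG n => ?_, fun h => key2 ?_⟩, hGF⟩
  · haveI := hGF hG
    exact two_le_quot_pow (fun q _ => flatAt_of_flat q) (key1 hG) n
  · have := h 0
    rw [zero_add, pow_one] at this
    exact this

end Groth.Agent.S18708
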