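import Groth.Statements.S18709
import Groth.Agent.H1CAlg.Reflexive
import Groth.Agent.H4Depth.SkFree
import Mathlib.RingTheory.LocalRing.Module
-- import your own Groth.Agent.* helpers here

set_option autoImplicit false
universe u
open QGor

namespace Groth.Agent.S18709

theorem free_coker {B : Type u} [CommRing B] [IsNoetherianRing B] (q : Ideal B) [q.IsPrime] {n m : ℕ}
    (h : (Fin n → B) →ₗ[B] (Fin m → B)) (u : (Fin m → B) →ₗ[B] (Fin n → B)) (s : q.primeCompl)
    (huh : h ∘ₗ u ∘ₗ h = (s : B) • h) :
    Module.Free (Localization.AtPrime q) (LocalizedModule q.primeCompl ((Fin m → B) ⧸ LinearMap.range h)) := by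
  obtain ⟨e⟩ := Groth.Agent.H4Depth.exists_localizedModule_pi_equiv (R := B) q m
  obtain ⟨e1⟩ := Groth.Agent.H4Depth.exists_localizedModule_self_equiv (R := B) q
  haveI : Module.Free (Localization.AtPrime q) (LocalizedModule q.primeCompl (Fin m → B)) :=
    Module.Free.of_equiv (e.trans (LinearEquiv.piCongrRight fun _ => e1)).symm
  let σ : ((Fin m → B) ⧸ LinearMap.range h) →ₗ[B] (Fin m → B) :=
    (LinearMap.range h).liftQ ((s : B) • LinearMap.id - h ∘ₗ u) (by
      rintro _ ⟨x, rfl⟩
      rw [LinearMap.mem_ker, LinearMap.sub_apply]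
      exact sub_eq_zero.2 (LinearMap.congr_fun huh x).symm)
  have hσ : (LinearMap.range h).mkQ ∘ₗ σ = (s : B) • LinearMap.id := by
    ext x
    simp [σ]
  obtain ⟨a, ha⟩ := (IsLocalization.map_units (Localization.AtPrime q) s).exists_left_inv
  let P := LocalizedModule.map q.primeCompl (LinearMap.range h).mkQ
  let S' := a • LocalizedModule.map q.primeCompl σ
  have hsplit : P ∘ₗ S' = LinearMap.id := by
    refine LinearMap.ext fun x => ?_
    induction x using LocalizedModule.induction_on with
    | _ x t =>
      simp only [P, S', LinearMap.comp_apply, LinearMap.smul_apply, map_smul, LocalizedModule.map_mk,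
        LinearMap.id_apply]
      rw [show (LinearMap.range h).mkQ (σ x) = (s : B) • x from LinearMap.congr_fun hσ x,
        ← LocalizedModule.smul'_mk, ← algebraMap_smul (Localization.AtPrime q) (s : B), smul_smul, ha, one_smul]
  haveI : Module.Projective (Localization.AtPrime q)
      (LocalizedModule q.primeCompl ((Fin m → B) ⧸ LinearMap.range h)) := Module.Projective.of_split S' P hsplit
  haveI : Module.Finite (Localization.AtPrime q)
      (LocalizedModule q.primeCompl ((Fin m → B) ⧸ LinearMap.range h)) :=
    Module.Finite.of_surjective P (LocalizedModule.map_surjective q.primeCompl _ (Submodule.mkQ_surjective _))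
  exact Module.free_of_flat_of_isLocalRing

theorem exists_section {B : Type u} [CommRing B] [IsNoetherianRing B] (q : Ideal B) [q.IsPrime]
    {M P : Type u} [AddCommGroup M] [Module B M] [AddCommGroup P] [Module B P] [Module.Finite B P]
    (π : M →ₗ[B] P) (hπ : Function.Surjective π)
    [Module.Free (Localization.AtPrime q) (LocalizedModule q.primeCompl P)] :
    ∃ (σ : P →ₗ[B] M) (s : q.primeCompl), π ∘ₗ σ = (s : B) • LinearMap.id := by
  haveI : Module.FinitePresentation B P := Module.finitePresentation_of_finite _ _
  obtain ⟨τ, hτ⟩ := Module.projective_lifting_property (LocalizedModule.map q.primeCompl π) LinearMap.id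
    (LocalizedModule.map_surjective q.primeCompl π hπ)
  obtain ⟨σ, s, hσ⟩ := Module.FinitePresentation.exists_lift_of_isLocalizedModule q.primeCompl
    (LocalizedModule.mkLinearMap q.primeCompl M) (τ.restrictScalars B ∘ₗ LocalizedModule.mkLinearMap q.primeCompl P)
  have key : (LocalizedModule.mkLinearMap q.primeCompl P).comp (π ∘ₗ σ) =
      (LocalizedModule.mkLinearMap q.primeCompl P).comp ((s : B) • LinearMap.id) := by
    refine LinearMap.ext fun x => ?_
    have h1 := congrArg (LocalizedModule.map q.primeCompl π) (LinearMap.congr_fun hσ x)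
    simp only [LinearMap.comp_apply, LinearMap.smul_apply, LinearMap.coe_restrictScalars, Submonoid.smul_def,
      LocalizedModule.mkLinearMap_apply, LocalizedModule.map_mk] at h1 ⊢
    rw [h1, LinearMap.map_smul_of_tower, show LocalizedModule.map q.primeCompl π (τ _) = _ from
      LinearMap.congr_fun hτ _, LinearMap.id_apply, LinearMap.id_apply, LocalizedModule.smul'_mk]
  obtain ⟨t, ht⟩ := Module.Finite.exists_smul_of_comp_eq_of_isLocalizedModule q.primeCompl
    (LocalizedModule.mkLinearMap q.primeCompl P) _ _ key
  refine ⟨(t : B) • σ, t * s, ?_⟩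
  rw [LinearMap.comp_smul, show (t : B) • (π ∘ₗ σ) = (t : B) • ((s : B) • LinearMap.id) from ht, smul_smul]
  rfl

/-- Affine form; the flatness and depth hypotheses of the printed lemma only serve to place the sequence
in the situation of the key proposition and are not needed for the existence. Let B be a Noetherian
ring, J an ideal and F a finite reflexive B-module with F_q free for every prime q not containing J.
Then there is an exact sequence 0 → F → Bⁿ → Bᵐ → G → 0 with G_q free for every prime q not
containing J. -/
theorem result (B : Type u) [CommRing B] [IsNoetherianRing B]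
    (J : Ideal B) (F : Type u) [AddCommGroup F] [Module B F] [Module.Finite B F] [Module.IsReflexive B F]
    (hU : ∀ q : PrimeSpectrum B, ¬ J ≤ q.asIdeal →
      Module.Free (Localization.AtPrime q.asIdeal) (LocalizedModule q.asIdeal.primeCompl F)) :
    ∃ (n m : ℕ) (g : F →ₗ[B] (Fin n → B)) (h : (Fin n → B) →ₗ[B] (Fin m → B)),
      Function.Injective g ∧ Function.Exact g h ∧
      ∀ q : PrimeSpectrum B, ¬ J ≤ q.asIdeal →
        Module.Free (Localization.AtPrime q.asIdeal)
          (LocalizedModule q.asIdeal.primeCompl ((Fin m → B) ⧸ LinearMap.range h)) := by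
  obtain ⟨k, m₀, f₀, g₀, hf₀, -⟩ := Groth.Agent.H4Depth.exists_dual_presentation (R := B) F
  haveI : Module.Finite B (Module.Dual B F) := Module.Finite.of_injective f₀ hf₀
  obtain ⟨n, π, hπ⟩ := Module.Finite.exists_fin' B (Module.Dual B F)
  obtain ⟨m, vf, hvf⟩ := Submodule.fg_iff_exists_fin_generating_family.mp (IsNoetherian.noetherian (LinearMap.ker π))
  let v : (Fin m → B) →ₗ[B] (Fin n → B) := Fintype.linearCombination B vf
  have hv : LinearMap.range v = LinearMap.ker π := by rw [Fintype.range_linearCombination, hvf]
  let en := (Pi.basisFun B (Fin n)).toDualEquiv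
  let em := (Pi.basisFun B (Fin m)).toDualEquiv
  let g : F →ₗ[B] (Fin n → B) := en.symm.toLinearMap ∘ₗ π.dualMap ∘ₗ (Module.evalEquiv B F).toLinearMap
  let h : (Fin n → B) →ₗ[B] (Fin m → B) := em.symm.toLinearMap ∘ₗ v.dualMap ∘ₗ en.toLinearMap
  have hex : Function.Exact π.dualMap v.dualMap := LinearMap.exact_iff.2 (by
    rw [LinearMap.ker_dualMap_eq_dualAnnihilator_range, hv,
      LinearMap.range_dualMap_eq_dualAnnihilator_ker_of_surjective π hπ])
  refine ⟨n, m, g, h, ?_, ?_, fun q hq => ?_⟩
  · exact en.symm.injective.comp ((LinearMap.dualMap_injective_of_surjective hπ).comp (Module.evalEquiv B F).injective)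
  · intro y
    constructor
    · intro hy
      obtain ⟨φ, hφ⟩ := (hex (en y)).1 (em.symm.injective (hy.trans (map_zero em.symm).symm))
      refine ⟨(Module.evalEquiv B F).symm φ, ?_⟩
      show en.symm (π.dualMap (Module.evalEquiv B F ((Module.evalEquiv B F).symm φ))) = y
      rw [LinearEquiv.apply_symm_apply, hφ, LinearEquiv.symm_apply_apply]
    · rintro ⟨x, rfl⟩
      show em.symm (v.dualMap (en (en.symm (π.dualMap (Module.evalEquiv B F x))))) = 0
      rw [LinearEquiv.apply_symm_apply, (hex _).2 ⟨_, rfl⟩, map_zero]
  · haveI := hU q hq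
    haveI : Module.Flat B (Localization.AtPrime q.asIdeal) := IsLocalization.flat _ q.asIdeal.primeCompl
    haveI : Module.FinitePresentation B F := Module.finitePresentation_of_finite _ _
    haveI : Module.Free (Localization.AtPrime q.asIdeal) (TensorProduct B (Localization.AtPrime q.asIdeal) F) :=
      Module.Free.of_equiv (Groth.Agent.H1CAlg.localizedEquivTensor q.asIdeal.primeCompl F)
    haveI : Module.Free (Localization.AtPrime q.asIdeal)
        (LocalizedModule q.asIdeal.primeCompl (Module.Dual B F)) :=
      Module.Free.of_equiv ((Groth.Agent.H1CAlg.localizedEquivTensor q.asIdeal.primeCompl (Module.Dual B F)).trans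
        (LinearEquiv.ofBijective _
          (Groth.Agent.H1CAlg.bijective_liftBaseChange_dual (Localization.AtPrime q.asIdeal) F))).symm
    obtain ⟨σ, s, hσ⟩ := exists_section q.asIdeal π hπ
    have hmem : ∀ i, (s : B) • (Pi.single i 1 : Fin n → B) - σ (π (Pi.single i 1)) ∈ LinearMap.range v := fun i => by
      rw [hv, LinearMap.mem_ker, map_sub, map_smul, sub_eq_zero]
      exact (LinearMap.congr_fun hσ _).symm
    choose c hc using hmem
    let w : (Fin n → B) →ₗ[B] (Fin m → B) := Fintype.linearCombination B c
    have hvw : v ∘ₗ w = (s : B) • LinearMap.id - σ ∘ₗ π := LinearMap.pi_ext' fun i => LinearMap.ext_ring (by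
      simp [w, hc])
    have hvwv : v ∘ₗ w ∘ₗ v = (s : B) • v := by
      rw [← LinearMap.comp_assoc, hvw]
      refine LinearMap.ext fun x => ?_
      have : π (v x) = 0 := LinearMap.mem_ker.1 (hv.le ⟨x, rfl⟩)
      simp [this]
    refine free_coker q.asIdeal h (en.symm.toLinearMap ∘ₗ w.dualMap ∘ₗ em.toLinearMap) s
      (LinearMap.ext fun x => ?_)
    show em.symm (v.dualMap (en (en.symm (w.dualMap (em (em.symm (v.dualMap (en x)))))))) = (s : B) • em.symm (v.dualMap (en x))
    rw [LinearEquiv.apply_symm_apply, LinearEquiv.apply_symm_apply, ← map_smul, ← map_smul]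
    refine congrArg em.symm (LinearMap.ext fun y => ?_)
    show en x (v (w (v y))) = _
    rw [show v (w (v y)) = (s : B) • v y from LinearMap.congr_fun hvwv y, map_smul]
    simp

end Groth.Agent.S18709
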