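import Groth.Statements.S1848
import Groth.Agent.H3CAlg.Tame.Laws
import Mathlib

set_option autoImplicit false
universe u
open CycAlg

namespace Groth.Agent.S1848

/-- For a Noetherian local ring A of dimension 1, the tame symbol ∂ on pairs of nonzerodivisors of A
takes nonzero values, is multiplicative in each variable, satisfies ∂(b, b) = (−1)^m and ∂(u, b) =
ū^m for a unit u (ū its image in the residue field), where m = length_A(A/bA), and satisfies ∂(a, b
− a) ∂(b, b) = ∂(b, b − a) ∂(a, b) whenever a, b and b − a are nonzerodivisors. -/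
theorem result (A : Type u) [CommRing A] [IsNoetherianRing A] [IsLocalRing A] (hA : ringKrullDim A = 1) : (∀ a b : A, a ∈ nonZeroDivisors A → b ∈ nonZeroDivisors A → CycAlg.tameSymbol A a b ≠ 0) ∧ (∀ a a' b : A, a ∈ nonZeroDivisors A → a' ∈ nonZeroDivisors A → b ∈ nonZeroDivisors A → CycAlg.tameSymbol A (a * a') b = CycAlg.tameSymbol A a b * CycAlg.tameSymbol A a' b ∧ CycAlg.tameSymbol A b (a * a') = CycAlg.tameSymbol A b a * CycAlg.tameSymbol A b a') ∧ (∀ b : A, b ∈ nonZeroDivisors A → CycAlg.tameSymbol A b b = (-1) ^ (Module.length A (A ⧸ Ideal.span {b})).toNat) ∧ (∀ (c : Aˣ) (b : A), b ∈ nonZeroDivisors A → CycAlg.tameSymbol A (c : A) b = IsLocalRing.residue A (c : A) ^ (Module.length A (A ⧸ Ideal.span {b})).toNat) ∧ (∀ a b : A, a ∈ nonZeroDivisors A → b ∈ nonZeroDivisors A → b - a ∈ nonZeroDivisors A → CycAlg.tameSymbol A a (b - a) * CycAlg.tameSymbol A b b = CycAlg.tameSymbol A b (b - a) * CycAlg.tameSymbol A a b) := by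
  classical
  have hloc : ∀ {C : Type u} [CommRing C] [Algebra A C], CycAlg.IsFinExt A C (IsLocalRing.maximalIdeal A) →
      ∀ Q : MaximalSpectrum C, IsLocalHom (algebraMap A (Localization.AtPrime Q.asIdeal)) :=
    fun hC Q => H3CAlg.Tame.isLocalHom_ext hC Q
  refine ⟨fun a b ha hb => ?_, fun a a' b ha ha' hb => ?_, fun b hb => ?_, fun c b hb => ?_, fun a b ha hb hba => ?_⟩
  · obtain ⟨C, _, _, hC, hreg, π, hπ, hfac⟩ := H3CAlg.Tame.exists_fac_ext hA (a ::ₘ b ::ₘ 0) (by simp [ha, hb])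
    haveI := hC.2.1
    haveI := H22Alg.finite_maximalSpectrum_of_finite A C
    haveI := Fintype.ofFinite (MaximalSpectrum C)
    haveI := hloc hC
    obtain ⟨v, e, hv⟩ := hfac a (by simp)
    obtain ⟨w, f, hw⟩ := hfac b (by simp)
    rw [H3CAlg.Tame.tameSymbol_eq_prod hA hC hπ ha hb hv hw]
    refine Finset.prod_ne_zero_iff.mpr fun Q _ => ?_
    haveI := Q.isMaximal
    haveI := H3CAlg.Tame.finite_residue (A := A) Q.asIdeal
    exact H3CAlg.Tame.fct_ne_zero A _ _ _ _ _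
  · obtain ⟨C, _, _, hC, hreg, π, hπ, hfac⟩ := H3CAlg.Tame.exists_fac_ext hA (a ::ₘ a' ::ₘ b ::ₘ 0) (by simp [ha, ha', hb])
    haveI := hC.2.1
    haveI := H22Alg.finite_maximalSpectrum_of_finite A C
    haveI := Fintype.ofFinite (MaximalSpectrum C)
    haveI := hloc hC
    obtain ⟨v, e, hv⟩ := hfac a (by simp)
    obtain ⟨v', e', hv'⟩ := hfac a' (by simp)
    obtain ⟨w, f, hw⟩ := hfac b (by simp)
    have hm := mul_mem ha ha'
    constructor
    · rw [H3CAlg.Tame.tameSymbol_eq_prod hA hC hπ hm hb (hv.mul hv') hw, H3CAlg.Tame.tameSymbol_eq_prod hA hC hπ ha hb hv hw,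
        H3CAlg.Tame.tameSymbol_eq_prod hA hC hπ ha' hb hv' hw, ← Finset.prod_mul_distrib]
      refine Finset.prod_congr rfl fun Q _ => ?_
      rw [H3CAlg.Tame.fct, H3CAlg.Tame.fct, H3CAlg.Tame.fct, H3CAlg.Tame.rsym_mul_left, map_mul, mul_pow]
    · rw [H3CAlg.Tame.tameSymbol_eq_prod hA hC hπ hb hm hw (hv.mul hv'), H3CAlg.Tame.tameSymbol_eq_prod hA hC hπ hb ha hw hv,
        H3CAlg.Tame.tameSymbol_eq_prod hA hC hπ hb ha' hw hv', ← Finset.prod_mul_distrib]
      refine Finset.prod_congr rfl fun Q _ => ?_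
      rw [H3CAlg.Tame.fct, H3CAlg.Tame.fct, H3CAlg.Tame.fct, H3CAlg.Tame.rsym_mul_right, map_mul, mul_pow]
  · obtain ⟨C, _, _, hC, hreg, π, hπ, hfac⟩ := H3CAlg.Tame.exists_fac_ext hA (b ::ₘ 0) (by simp [hb])
    haveI := hC.2.1
    haveI := H22Alg.finite_maximalSpectrum_of_finite A C
    haveI := Fintype.ofFinite (MaximalSpectrum C)
    haveI := hloc hC
    obtain ⟨w, f, hw⟩ := hfac b (by simp)
    rw [H3CAlg.Tame.tameSymbol_eq_prod hA hC hπ hb hb hw hw, ← H3CAlg.Tame.sum_deg_eq hA hC hπ hb (hreg b hb) hw,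
      ← Finset.prod_pow_eq_pow_sum]
    refine Finset.prod_congr rfl fun Q _ => ?_
    haveI := Q.isMaximal
    rw [H3CAlg.Tame.fct, H3CAlg.Tame.rsym_self, map_pow,
      show (-1 : IsLocalRing.ResidueField (Localization.AtPrime Q.asIdeal)) =
        algebraMap (IsLocalRing.ResidueField A) _ (-1) by rw [map_neg, map_one],
      Algebra.norm_algebraMap, ← pow_mul, ← pow_mul]
  · obtain ⟨C, _, _, hC, hreg, π, hπ, hfac⟩ := H3CAlg.Tame.exists_fac_ext hA (b ::ₘ 0) (by simp [hb])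
    haveI := hC.2.1
    haveI := H22Alg.finite_maximalSpectrum_of_finite A C
    haveI := Fintype.ofFinite (MaximalSpectrum C)
    haveI := hloc hC
    obtain ⟨w, f, hw⟩ := hfac b (by simp)
    have hc : H3CAlg.Tame.Fac π (c : A) (fun Q => Units.map (algebraMap A (Localization.AtPrime Q.asIdeal)).toMonoidHom c)
        (fun _ => 0) := fun Q => by rw [pow_zero, mul_one]; rfl
    rw [H3CAlg.Tame.tameSymbol_eq_prod hA hC hπ c.isUnit.mem_nonZeroDivisors hb hc hw,
      ← H3CAlg.Tame.sum_deg_eq hA hC hπ hb (hreg b hb) hw, ← Finset.prod_pow_eq_pow_sum]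
    refine Finset.prod_congr rfl fun Q _ => ?_
    haveI := Q.isMaximal
    rw [H3CAlg.Tame.fct]
    simp only [H3CAlg.Tame.rsym, zero_mul, pow_zero, one_mul, inv_one, mul_one]
    rw [show IsLocalRing.residue (Localization.AtPrime Q.asIdeal)
        ((Units.map (algebraMap A (Localization.AtPrime Q.asIdeal)).toMonoidHom c : (Localization.AtPrime Q.asIdeal)ˣ) : Localization.AtPrime Q.asIdeal) =
        algebraMap (IsLocalRing.ResidueField A) _ (IsLocalRing.residue A (c : A)) from rfl,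
      map_pow, Algebra.norm_algebraMap, ← pow_mul, ← pow_mul]
  · obtain ⟨C, _, _, hC, hreg, π, hπ, hfac⟩ := H3CAlg.Tame.exists_fac_ext hA (a ::ₘ b ::ₘ (b - a) ::ₘ 0) (by simp [ha, hb, hba])
    haveI := hC.2.1
    haveI := H22Alg.finite_maximalSpectrum_of_finite A C
    haveI := Fintype.ofFinite (MaximalSpectrum C)
    haveI := hloc hC
    obtain ⟨u, e, hu⟩ := hfac a (by simp)
    obtain ⟨v, f, hv⟩ := hfac b (by simp)
    obtain ⟨w, g, hw⟩ := hfac (b - a) (by simp)
    rw [H3CAlg.Tame.tameSymbol_eq_prod hA hC hπ ha hba hu hw, H3CAlg.Tame.tameSymbol_eq_prod hA hC hπ hb hb hv hv,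
      H3CAlg.Tame.tameSymbol_eq_prod hA hC hπ hb hba hv hw, H3CAlg.Tame.tameSymbol_eq_prod hA hC hπ ha hb hu hv,
      ← Finset.prod_mul_distrib, ← Finset.prod_mul_distrib]
    refine Finset.prod_congr rfl fun Q _ => ?_
    rw [H3CAlg.Tame.fct, H3CAlg.Tame.fct, H3CAlg.Tame.fct, H3CAlg.Tame.fct, ← mul_pow, ← mul_pow, ← map_mul, ← map_mul]
    by_cases hun : IsUnit (π Q)
    · rw [H3CAlg.Tame.ord_toNat_eq_zero_of_isUnit hun, pow_zero, pow_zero]
    · rw [H3CAlg.Tame.rsym_steinberg (hπ Q) hun (u Q) (v Q) (w Q) (e Q) (f Q) (g Q)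
        (by rw [← hu Q, ← hv Q, ← hw Q, map_sub])]

end Groth.Agent.S1848
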