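import Groth.Statements.S1867
import Mathlib
import Groth.Agent.H17.DimIneqScheme
import Groth.Agent.H17.Fibre

set_option autoImplicit false
universe u
open CategoryTheory AlgebraicGeometry
open Cyc

namespace Groth.Agent.S1867

/-- Let f : X → Y be a proper morphism of integral schemes with Y locally Noetherian, mapping the
generic point to the generic point with finite extension of function fields, and let ξ be a point of
Y whose local ring has dimension 1. Then f is finite over some open neighbourhood of ξ. -/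
theorem result (X Y : Scheme.{u}) [IsIntegral X] [IsIntegral Y] [IsLocallyNoetherian Y] (f : X ⟶ Y) [IsProper f] (hgen : f (genericPoint X) = genericPoint Y) (hfin : (f.residueFieldMap (genericPoint X)).hom.Finite) (ξ : Y) (hξ : ringKrullDim (Y.presheaf.stalk ξ) = 1) : ∃ V : Y.Opens, ξ ∈ V ∧ IsFinite (f ∣_ V) := by
  refine exists_isFinite_morphismRestrict_of_finite_preimage_singleton f ξ ?_
  haveI : IsLocallyNoetherian (f.fiber ξ) := Groth.Agent.H17.isLocallyNoetherian_fiber f ξ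
  suffices key : ∀ x x' : X, f x = ξ → f x' = ξ → x' ⤳ x → x' = x by
    have key' : ∀ a b : f.fiber ξ, a ⤳ b → a = b := fun a b hab =>
      (f.fiberι ξ).isEmbedding.injective (key _ _ ((f.range_fiberι ξ).subset (Set.mem_range_self b))
        ((f.range_fiberι ξ).subset (Set.mem_range_self a)) (hab.map (f.fiberι ξ).continuous))
    haveI : DiscreteTopology (f.fiber ξ) := Groth.Agent.H17.discreteTopology_of_isClosed_singleton fun a =>
      closure_subset_iff_isClosed.mp fun b hb => (key' a b (specializes_iff_mem_closure.mpr hb)).symm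
    haveI : CompactSpace (f.fiber ξ) := inferInstance
    haveI : Finite (f.fiber ξ) := finite_of_compact_of_discrete
    exact Set.finite_coe_iff.mp ((f.fiberHomeo ξ).finite_iff.mp inferInstance)
  intro x x' hx hx' hsp
  by_contra hne
  obtain ⟨V, hV, hξV, -⟩ := exists_isAffineOpen_mem_and_subset (X := Y) (x := ξ) (U := ⊤) trivial
  obtain ⟨U, hU, hxU, hUV⟩ := exists_isAffineOpen_mem_and_subset (X := X) (x := x) (U := f ⁻¹ᵁ V) (by show f x ∈ V; rwa [hx])
  haveI : Nonempty V := ⟨⟨ξ, hξV⟩⟩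
  haveI : Nonempty U := ⟨⟨x, hxU⟩⟩
  haveI : IsNoetherianRing Γ(Y, V) := IsLocallyNoetherian.component_noetherian ⟨V, hV⟩
  letI : Algebra Γ(Y, V) Γ(X, U) := (f.appLE V U hUV).hom.toAlgebra
  haveI : Algebra.FiniteType Γ(Y, V) Γ(X, U) := f.finiteType_appLE hV hU hUV
  have hη : genericPoint X ∈ U := (genericPoint_specializes x).mem_open U.isOpen hxU
  have hηV : genericPoint Y ∈ V := hgen ▸ hUV hη
  have hqη : (hU.primeIdealOf ⟨genericPoint X, hη⟩).asIdeal = ⊥ := by
    rw [show (⟨genericPoint X, hη⟩ : U) = ⟨genericPoint X, ((genericPoint_spec X).mem_open_set_iff U.isOpen).mpr ⟨x, trivial, hxU⟩⟩ from rfl,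
      hU.primeIdealOf_genericPoint]
    exact congrArg PrimeSpectrum.asIdeal (genericPoint_eq_bot_of_affine _)
  have hpη : (hV.primeIdealOf ⟨genericPoint Y, hηV⟩).asIdeal = ⊥ := by
    rw [show (⟨genericPoint Y, hηV⟩ : V) = ⟨genericPoint Y, ((genericPoint_spec Y).mem_open_set_iff V.isOpen).mpr ⟨ξ, trivial, hξV⟩⟩ from rfl,
      hV.primeIdealOf_genericPoint]
    exact congrArg PrimeSpectrum.asIdeal (genericPoint_eq_bot_of_affine _)
  have hover : ∀ (z : X) (hz : z ∈ U), (hU.primeIdealOf ⟨z, hz⟩).asIdeal.comap (algebraMap Γ(Y, V) Γ(X, U)) =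
      (hV.primeIdealOf ⟨f z, hUV hz⟩).asIdeal := fun z hz =>
    congrArg PrimeSpectrum.asIdeal (IsAffineOpen.comap_primeIdealOf_appLE V hV U hU hUV hz)
  haveI : FaithfulSMul Γ(Y, V) Γ(X, U) := (faithfulSMul_iff_algebraMap_injective _ _).mpr ((RingHom.injective_iff_ker_eq_bot _).mpr (by
    rw [RingHom.ker_eq_comap_bot]
    conv_lhs => rw [← hqη, hover _ hη]
    rw [← hpη]
    simp only [hgen]))
  haveI : Algebra.IsAlgebraic Γ(Y, V) Γ(X, U) := by
    letI := (f.residueFieldMap (genericPoint X)).hom.toAlgebra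
    haveI : Module.Finite (Y.residueField (f (genericPoint X))) (X.residueField (genericPoint X)) := hfin
    obtain ⟨hle, htr⟩ := Groth.Agent.H7Flat.trdeg_residue_eq f hV hU hUV (genericPoint X) hη
    have hI : Groth.Agent.H7Flat.evKer V (f (genericPoint X)) (hUV hη) = ⊥ := by
      rw [Groth.Agent.H7Flat.evKer_eq hV, ← hpη]; simp only [hgen]
    have hJ : Groth.Agent.H7Flat.evKer U (genericPoint X) hη = ⊥ := (Groth.Agent.H7Flat.evKer_eq hU _ _).trans hqη
    letI := (Ideal.quotientMap (Groth.Agent.H7Flat.evKer U (genericPoint X) hη) (algebraMap Γ(Y, V) Γ(X, U)) hle).toAlgebra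
    rw [trdeg_eq_zero] at htr
    haveI : FaithfulSMul (Γ(Y, V) ⧸ Groth.Agent.H7Flat.evKer V (f (genericPoint X)) (hUV hη)) (Γ(X, U) ⧸ Groth.Agent.H7Flat.evKer U (genericPoint X) hη) :=
      (faithfulSMul_iff_algebraMap_injective _ _).mpr (Ideal.quotientMap_injective' (by
        rw [hI, hJ, ← RingHom.ker_eq_comap_bot, (RingHom.injective_iff_ker_eq_bot _).mp (FaithfulSMul.algebraMap_injective Γ(Y, V) Γ(X, U))]))
    haveI : Algebra.IsAlgebraic (Γ(Y, V) ⧸ Groth.Agent.H7Flat.evKer V (f (genericPoint X)) (hUV hη)) (Γ(X, U) ⧸ Groth.Agent.H7Flat.evKer U (genericPoint X) hη) :=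
      trdeg_eq_zero_iff.mp htr.symm
    refine ⟨fun s => ?_⟩
    obtain ⟨P, hP0, hP⟩ := Algebra.IsAlgebraic.isAlgebraic (R := Γ(Y, V) ⧸ Groth.Agent.H7Flat.evKer V (f (genericPoint X)) (hUV hη)) (Ideal.Quotient.mk (Groth.Agent.H7Flat.evKer U (genericPoint X) hη) s)
    obtain ⟨P, rfl⟩ := Polynomial.map_surjective (Ideal.Quotient.mk (Groth.Agent.H7Flat.evKer V (f (genericPoint X)) (hUV hη))) Ideal.Quotient.mk_surjective P
    refine ⟨P, fun h => hP0 (by rw [h, Polynomial.map_zero]), ?_⟩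
    rw [← Ideal.mem_bot, ← hJ, ← Ideal.Quotient.eq_zero_iff_mem]
    refine Eq.trans ?_ hP
    rw [Polynomial.aeval_def, Polynomial.aeval_def, Polynomial.eval₂_map, Polynomial.hom_eval₂]
    congr 1
  have hx'U : x' ∈ U := hsp.mem_open U.isOpen hxU
  let q := hU.primeIdealOf ⟨x, hxU⟩
  let q' := hU.primeIdealOf ⟨x', hx'U⟩
  have hlt : q'.asIdeal < q.asIdeal := by
    refine lt_of_le_of_ne ?_ fun e => hne (congrArg Subtype.val ?_ : ((⟨x', hx'U⟩ : U) : X) = ((⟨x, hxU⟩ : U) : X))
    · show q' ≤ q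
      rw [PrimeSpectrum.le_iff_specializes]
      refine hU.fromSpec.isOpenEmbedding.toIsInducing.specializes_iff.mp ?_
      rw [hU.fromSpec_primeIdealOf, hU.fromSpec_primeIdealOf]
      exact hsp
    · refine Subtype.ext ?_
      rw [← hU.fromSpec_primeIdealOf ⟨x', hx'U⟩, ← hU.fromSpec_primeIdealOf ⟨x, hxU⟩]
      exact congrArg hU.fromSpec (PrimeSpectrum.ext e)
  have hbot : (⊥ : Ideal Γ(X, U)) < q'.asIdeal := by
    refine bot_lt_iff_ne_bot.mpr fun e => ?_
    have : x' = genericPoint X := by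
      show ((⟨x', hx'U⟩ : U) : X) = ((⟨genericPoint X, hη⟩ : U) : X)
      rw [← hU.fromSpec_primeIdealOf ⟨x', hx'U⟩]
      exact (congrArg hU.fromSpec (PrimeSpectrum.ext (e.trans hqη.symm))).trans (hU.fromSpec_primeIdealOf _)
    rw [this, hgen] at hx'
    subst hx'
    haveI : IsField (Y.presheaf.stalk (genericPoint Y)) := Field.toIsField Y.functionField
    rw [ringKrullDim_eq_zero_of_isField this] at hξ
    exact absurd hξ (by norm_num)
  haveI : IsNoetherianRing Γ(X, U) := Algebra.FiniteType.isNoetherianRing Γ(Y, V) Γ(X, U)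
  have h1 := Ideal.height_strict_mono_of_isPrime (I := q'.asIdeal) hlt
  have h2 := Ideal.height_strict_mono_of_isPrime hbot
  have hp : (hV.primeIdealOf ⟨ξ, hξV⟩).asIdeal.height = 1 := by
    letI := TopCat.Presheaf.algebra_section_stalk Y.presheaf (⟨ξ, hξV⟩ : V)
    haveI := hV.isLocalization_stalk ⟨ξ, hξV⟩
    have := IsLocalization.AtPrime.ringKrullDim_eq_height (hV.primeIdealOf ⟨ξ, hξV⟩).asIdeal (Y.presheaf.stalk ξ)
    rw [hξ] at this
    exact_mod_cast this.symm
  haveI : q.asIdeal.LiesOver (hV.primeIdealOf ⟨ξ, hξV⟩).asIdeal := ⟨by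
    rw [Ideal.under_def, hover]; simp only [hx]⟩
  have h := Groth.Agent.H17.DimIneq.ineq Γ(Y, V) Γ(X, U) (hV.primeIdealOf ⟨ξ, hξV⟩).asIdeal q.asIdeal
  rw [hp, trdeg_eq_zero (R := Γ(Y, V)) (A := Γ(X, U)), add_zero] at h
  have h' : q.asIdeal.height ≤ 1 := Cardinal.ofENat_le_ofENat.mp ((le_add_right le_rfl).trans h)
  have h3 : q'.asIdeal.height < 1 := h1.trans_le h'
  rw [ENat.lt_one_iff_eq_zero] at h3
  rw [h3] at h2
  exact not_lt_bot h2

end Groth.Agent.S1867
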