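import Groth.Statements.S1906
import Groth.Agent.H3Cyc.PushDiv
-- import your own Groth.Agent.* helpers here

set_option autoImplicit false
universe u
open CategoryTheory AlgebraicGeometry
open Cyc

namespace Groth.Agent.S1906

/-- Let p : X → Y be a dominant proper morphism of integral schemes with δX(η_X) = δY(η_Y), and f a
nonzero rational function on X. Then p_*(div_X f) = div_Y(Nm f) coefficientwise, where Nm is the
norm for the finite extension κ(η_X)/κ(p(η_X)) of function fields. A pair (X, δ) with Cyc.IsSetup
plays the role of a scheme locally of finite type over a fixed base with a dimension function (X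
locally Noetherian with universally catenary local rings, δ a dimension function), and
Cyc.DeltaCompat records that the dimension function upstairs is the induced one. -/
theorem result (X Y : Scheme.{u}) [IsIntegral X] [IsIntegral Y] (δX : X → ℤ) (δY : Y → ℤ) (hX : Cyc.IsSetup X δX) (hY : Cyc.IsSetup Y δY) (p : X ⟶ Y) [IsProper p] (hδ : Cyc.DeltaCompat p δX δY) (hdom : p (genericPoint X) = genericPoint Y) (hn : δX (genericPoint X) = δY (genericPoint Y)) (f : X.residueField (genericPoint X)) (hf : f ≠ 0) (α : AlgebraicCycle X ℤ) (hα : ⇑α = Cyc.divFun δX (genericPoint X) f) : ⇑(AlgebraicCycle.map p δX δY α) = Cyc.divFun δY (p (genericPoint X)) (Cyc.normGen p (genericPoint X) f) := by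
  exact Groth.Agent.H3Cyc.PushDiv.map_divFun hX hY p hδ hdom hn f hf α hα

end Groth.Agent.S1906
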