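import Groth.Statements.S17840
import Mathlib
import Groth.Agent.H22Alg.DeltaDim
import Groth.Agent.H22Alg.DimFunLft
import Groth.Agent.H22Alg.CycBasic
import Groth.Agent.H22Alg.FibreDimBound
import Groth.Agent.H02CA.FlatRegular
import Groth.Agent.H8Props.FibreStalk

set_option autoImplicit false
universe u
open CategoryTheory AlgebraicGeometry
open Cyc

namespace Groth.Agent.S17840

/-- Let (Y, δY) be a locally Noetherian scheme with universally catenary local rings and a dimension
function, f : X ⟶ Y a flat morphism locally of finite type between irreducible schemes with generic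
points ξ and η, and δX the induced function on X, δX(x) = δY(f x) + trdeg_{κ(f x)} κ(x). Put d =
δX(ξ) − δY(η). Then d ≥ 0, every irreducible component of every fibre of f has dimension d, and for
every point x of X the fibre of f over f(x) has dimension d. (The published statement is for schemes
separated of finite type over a Noetherian excellent regular separated base S with δ the S-dimension
— transcendence degree of the residue field minus the dimension of the local ring of S at the image
point — and for the fibre over every point of Y; the fibre over a point outside f(X) is empty, so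
the dimension statement is made here at points of the image; this row allows any dimension function
δY on a locally Noetherian Y with universally catenary local rings, with δX induced from it.) -/
theorem result {X Y : Scheme.{u}} (f : X ⟶ Y) [Flat f] [LocallyOfFiniteType f]
    [IrreducibleSpace X] [IrreducibleSpace Y] (δX : X → ℤ) (δY : Y → ℤ) (hY : Cyc.IsSetup Y δY)
    (hδ : Cyc.DeltaCompat f δX δY) :
    0 ≤ δX (genericPoint X) - δY (genericPoint Y) ∧
      Cyc.HasRelDim f (δX (genericPoint X) - δY (genericPoint Y)).toNat ∧
      ∀ x : X, topologicalKrullDim ↥(f.fiber (f x)) =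
        ((δX (genericPoint X) - δY (genericPoint Y)).toNat : WithBot ℕ∞) := by
  open Groth.Agent.H8Props in
  open Groth.Agent.H22Alg in
  obtain ⟨hN, huc, hδY⟩ := hY
  haveI := hN
  haveI : IsLocallyNoetherian X := LocallyOfFiniteType.isLocallyNoetherian f
  have hδX : Cyc.IsDimFun X δX := DimFunLft.isDimFun_of_deltaCompat f δY ⟨hN, huc, hδY⟩ δX hδ
  have hstalk : ∀ {Z : Scheme.{u}} [IrreducibleSpace Z] (δ : Z → ℤ), Cyc.IsDimFun Z δ → ∀ z : Z,
      ringKrullDim (Z.presheaf.stalk z) = ((δ (genericPoint Z) - δ z).toNat : WithBot ℕ∞) := by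
    intro Z _ δ hd z
    have h : genericPoint Z ⤳ z := genericPoint_specializes z
    rw [← DeltaDim.eq_ringKrullDim_locQuot hd h]
    obtain ⟨J, hJx, hJ⟩ := DeltaDim.exists_prime h
    show _ = ringKrullDim (Z.presheaf.stalk z ⧸ RingHom.ker (Cyc.specMap z (genericPoint Z) h))
    rw [← hJ, ringKrullDim_quotient, Set.eq_univ_of_forall (s := PrimeSpectrum.zeroLocus (R := Z.presheaf.stalk z) (J.asIdeal : Set _)) fun K => ?_]
    · exact (Order.krullDim_eq_of_orderIso OrderIso.Set.univ).symm
    · refine (PrimeSpectrum.le_iff_specializes J K).mpr ((Z.fromSpecStalk z).isEmbedding.isInducing.specializes_iff.mp ?_)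
      rw [hJx]
      exact genericPoint_specializes _
  have hgen : f (genericPoint X) = genericPoint Y := by
    obtain ⟨ζ, hζ, hfζ⟩ := Flat.generalizingMap f (genericPoint_specializes (f (genericPoint X)))
    have : ζ = genericPoint X := (hζ.antisymm (genericPoint_specializes ζ)).eq
    rw [← hfζ, this]
  obtain ⟨c₀, -, hc₀⟩ := CycBasic.exists_cdim f hδ (genericPoint X)
  rw [hgen] at hc₀
  have hd0 : (δX (genericPoint X) - δY (genericPoint Y)).toNat = c₀ := by omega
  have hmax : ∀ (y : Y) (u : f.fiber y), (∀ v, v ⤳ u → v = u) → FieldDim.cdim u = c₀ := by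
    intro y u hu
    have hy : f (f.fiberι y u) = y := (f.range_fiberι y).subset (Set.mem_range_self u)
    generalize hx : f.fiberι y u = x at hy
    subst hy
    obtain rfl : u = f.asFiber x := (f.fiberι _).isEmbedding.injective (hx.trans (f.fiberι_asFiber x).symm)
    obtain ⟨n, hn, hxn⟩ := CycBasic.exists_cdim f hδ x
    have h0 : ringKrullDim (X.presheaf.stalk x ⧸ (IsLocalRing.maximalIdeal (Y.presheaf.stalk (f x))).map (f.stalkMap x).hom) = 0 := by
      rw [ringKrullDim_eq_of_ringEquiv (FibreStalk.asFiberStalkEquiv f x),
        AlgebraicGeometry.ringKrullDim_stalk_eq_coheight, WithBot.coe_eq_zero, Order.coheight_eq_zero]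
      intro v hv
      rw [hu v hv]
    letI := (f.stalkMap x).hom.toAlgebra
    haveI : Module.Flat (Y.presheaf.stalk (f x)) (X.presheaf.stalk x) := Flat.stalkMap f x
    haveI : IsLocalHom (algebraMap (Y.presheaf.stalk (f x)) (X.presheaf.stalk x)) :=
      inferInstanceAs (IsLocalHom (f.stalkMap x).hom)
    have h := H02CA.ringKrullDim_eq_add_of_flat (Y.presheaf.stalk (f x)) (X.presheaf.stalk x)
    rw [RingHom.algebraMap_toAlgebra, h0, add_zero, hstalk δX hδX x, hstalk δY hδY (f x)] at h
    have e : (δX (genericPoint X) - δX x).toNat = (δY (genericPoint Y) - δY (f x)).toNat := by exact_mod_cast h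
    have := DeltaDim.delta_le hδX (genericPoint_specializes x)
    have := DeltaDim.delta_le hδY (genericPoint_specializes (f x))
    rw [hn, show n = c₀ by omega]
  have hrel : Cyc.HasRelDim f c₀ := fun y T hT => by
    obtain ⟨u, rfl, hu⟩ := FieldDim.mem_irreducibleComponents_iff hT
    exact hmax y u hu
  refine ⟨by omega, hd0 ▸ hrel, fun x => ?_⟩
  rw [hd0]
  refine le_antisymm ?_ ?_
  · rw [FieldDim.dim_eq_iSup_cdim]
    refine iSup_le fun u => ?_
    obtain ⟨v, hv, hvmax⟩ := exists_max_generization u
    rw [← hmax _ v hvmax]
    exact Topology.IsInducing.topologicalKrullDim_le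
      (f := Set.inclusion (closure_minimal (Set.singleton_subset_iff.mpr hv.mem_closure) isClosed_closure))
      (Topology.IsInducing.subtypeVal.of_comp_iff.mp Topology.IsInducing.subtypeVal)
  · obtain ⟨v, hv, hvmax⟩ := exists_max_generization (f.asFiber x)
    rw [← hmax _ v hvmax, FieldDim.dim_eq_iSup_cdim]
    exact le_iSup FieldDim.cdim v

end Groth.Agent.S17840
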