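import Groth.Statements.S1899
import Mathlib
import Groth.Agent.H17.PrinStalk
import Groth.Agent.H06EGA9.StructureStalk

set_option autoImplicit false
universe u
open CategoryTheory AlgebraicGeometry
open Cyc

namespace Groth.Agent.S1899

/-- For a closed immersion i : Z → X with Z of δ-dimension ≤ k, [Z]_k = [O_Z]_k, i.e. the multiplicities
computed from lengths of the local rings O_{Z,z} agree with those computed from the stalks of i_*O_Z
as O_X-modules. A pair (X, δ) with Cyc.IsSetup plays the role of a scheme locally of finite type
over a fixed base with a dimension function (X locally Noetherian with universally catenary local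
rings, δ a dimension function), and Cyc.DeltaCompat records that the dimension function upstairs is
the induced one. -/
theorem result (X Z : Scheme.{u}) (δ : X → ℤ) (hX : Cyc.IsSetup X δ) (i : Z ⟶ X) [IsClosedImmersion i] (k : ℤ) (hdim : ∀ z : Z, δ (i z) ≤ k) : Cyc.subschemeFun δ k i = Cyc.sheafFun δ k ((Coh.push i).obj (Coh.structureModule Z)) := by
  funext x
  simp only [Cyc.subschemeFun, Cyc.sheafFun]
  split_ifs with hx
  · by_cases hr : x ∈ Set.range i
    · obtain ⟨z, rfl⟩ := hr
      have hs : {z' : Z | i z' = i z} = {z} := Set.ext fun z' => ⟨fun h => i.isClosedEmbedding.injective h, fun h => congrArg i h⟩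
      rw [hs, finsum_mem_singleton]
      suffices h : Module.length (X.presheaf.stalk (i z)) (((Coh.push i).obj (Coh.structureModule Z)).presheaf.stalk (i z)) =
          Module.length (Z.presheaf.stalk z) (Z.presheaf.stalk z) by rw [h]
      letI : Algebra (X.presheaf.stalk (i z)) (Z.presheaf.stalk z) := (Groth.Agent.H17.PrinStalk.stalkTo i z rfl).toAlgebra
      have hsurj : Function.Surjective (algebraMap (X.presheaf.stalk (i z)) (Z.presheaf.stalk z)) := by
        show Function.Surjective ⇑(X.presheaf.stalkSpecializes (specializes_of_eq rfl) ≫ i.stalkMap z).hom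
        rw [TopCat.Presheaf.stalkSpecializes_refl, Category.id_comp]
        exact SurjectiveOnStalks.stalkMap_surjective i z
      letI := Module.compHom ((Coh.structureModule Z).presheaf.stalk z) (algebraMap (X.presheaf.stalk (i z)) (Z.presheaf.stalk z))
      haveI : IsScalarTower (X.presheaf.stalk (i z)) (Z.presheaf.stalk z) ((Coh.structureModule Z).presheaf.stalk z) :=
        IsScalarTower.of_algebraMap_smul fun _ _ => rfl
      let e : ((Coh.push i).obj (Coh.structureModule Z)).presheaf.stalk (i z) ≃ₗ[X.presheaf.stalk (i z)] (Coh.structureModule Z).presheaf.stalk z :=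
        LinearEquiv.ofBijective
          ({ toFun := Groth.Agent.H17.PrinStalk.pushTo i (Coh.structureModule Z) z rfl
             map_add' := map_add _
             map_smul' := Groth.Agent.H17.PrinStalk.pushTo_smul i (Coh.structureModule Z) z rfl } :
            ((Coh.push i).obj (Coh.structureModule Z)).presheaf.stalk (i z) →ₗ[X.presheaf.stalk (i z)] (Coh.structureModule Z).presheaf.stalk z)
          (Groth.Agent.H17.PrinStalk.pushTo_bijective i i.isClosedEmbedding.isInducing _ z rfl)
      let e' := LinearEquiv.ofBijective (LinearMap.toSpanSingleton (Z.presheaf.stalk z) _ (Groth.Agent.H06EGA9.oneStalk z))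
        (Groth.Agent.H06EGA9.bijective_smul_oneStalk z)
      rw [e.length_eq, e'.length_eq, Module.length_eq_of_surjective hsurj]
    · have hs : {z' : Z | i z' = x} = ∅ := Set.eq_empty_of_forall_notMem fun z' h => hr ⟨z', h⟩
      rw [hs, finsum_mem_empty]
      suffices h : Subsingleton (((Coh.push i).obj (Coh.structureModule Z)).presheaf.stalk x) by
        rw [Module.length_eq_zero_iff.mpr h]; rfl
      refine subsingleton_of_forall_eq 0 fun a => ?_
      obtain ⟨U, hU, a, rfl⟩ := ((Coh.push i).obj (Coh.structureModule Z)).presheaf.exists_germ_eq a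
      let C : X.Opens := ⟨(Set.range i)ᶜ, i.isClosedEmbedding.isClosed_range.isOpen_compl⟩
      let W : X.Opens := U ⊓ C
      rw [← ((Coh.push i).obj (Coh.structureModule Z)).presheaf.germ_res_apply (homOfLE (inf_le_left : W ≤ U)) x ⟨hU, hr⟩ a]
      have hW : i ⁻¹ᵁ W = ⊥ := eq_bot_iff.mpr fun y hy => hy.2 ⟨y, rfl⟩
      haveI : Subsingleton Γ(Z, i ⁻¹ᵁ W) := hW ▸ inferInstance
      haveI : Subsingleton Γ((Coh.push i).obj (Coh.structureModule Z), W) := this
      rw [Subsingleton.elim (((Coh.push i).obj (Coh.structureModule Z)).presheaf.map (homOfLE (inf_le_left : W ≤ U)).op a) 0, map_zero]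
  · rfl

end Groth.Agent.S1899
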