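import Groth.Statements.S12676
import Groth.Agent.H3CAlg.ChiPull
import Groth.Agent.H3CAlg.ChiCycles
import Groth.Agent.H3CAlg.TorFlatBC
import Groth.Agent.H3CAlg.PrimeMod
import Groth.Agent.H3Cyc.Gysin
import Groth.Agent.H3Cyc.PushRat
import Groth.Agent.H3Cyc.BCPush
import Groth.Agent.H3Cyc.OpenSupp
import Groth.Agent.H3Cyc.Chow
import Groth.Agent.H27Weil.Geometry
import Groth.Agent.H29Ref.Ops
import Groth.Agent.S17840
-- import your own Groth.Agent.* helpers here

set_option autoImplicit false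
universe u
open CategoryTheory CategoryTheory.Limits AlgebraicGeometry
attribute [local instance] HasDerivedCategory.standard
open IntMult

namespace Groth.Agent.S12676

attribute [local instance] HasDerivedCategory.standard

open Groth.Agent Groth.Agent.H3Cyc TensorProduct

/-- The stalk of the structure sheaf of a closed subscheme at a point of it. -/
theorem stalk_push_section {X W : Scheme.{u}} [IsIntegral X] (g : X ⟶ W) [IsClosedImmersion g] (x : X) :
    IntMult.stalkIdeal (IntMult.ptIdeal (g (genericPoint X))) (g x) = RingHom.ker (g.stalkMap x).hom := by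
  have hsp : g (genericPoint X) ⤳ g x := (genericPoint_specializes x).map g.continuous
  refine le_antisymm (fun a ha => ?_) ?_
  · have h1 : W.presheaf.stalkSpecializes hsp a ∈ IntMult.stalkIdeal (IntMult.ptIdeal (g (genericPoint X))) (g (genericPoint X)) := by
      rw [H29Ref.stalkIdeal_specializes _ hsp]
      exact Ideal.mem_map_of_mem _ ha
    rw [H3CAlg.IntPt.stalkIdeal_ptIdeal_self] at h1
    have h2 : g.stalkMap (genericPoint X) (W.presheaf.stalkSpecializes hsp a) = 0 := by
      have h3 : g.stalkMap (genericPoint X) (W.presheaf.stalkSpecializes hsp a) ∈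
          IsLocalRing.maximalIdeal (X.presheaf.stalk (genericPoint X)) := fun hu =>
        h1 ((isUnit_map_iff (g.stalkMap (genericPoint X)).hom _).mp hu)
      rwa [show IsLocalRing.maximalIdeal (X.presheaf.stalk (genericPoint X)) = ⊥ from
        IsLocalRing.isField_iff_maximalIdeal_eq.mp (Field.toIsField (X.functionField)), Ideal.mem_bot] at h3
    rw [g.stalkSpecializes_stalkMap_apply (genericPoint X) x (genericPoint_specializes x) a] at h2
    refine RingHom.mem_ker.mpr (IsFractionRing.injective (X.presheaf.stalk x) X.functionField ?_)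
    rw [map_zero]
    exact h2
  · rw [← H3CAlg.IntPt.stalkIdeal_ker g x]
    exact H3CAlg.IntPt.stalkIdeal_le_of_mem_support g.ker hsp (g.range_subset_ker_support ⟨genericPoint X, rfl⟩)

/-- Tor independence of a section of a projection and an extended module. -/
theorem chi_section {X W Y : Scheme.{u}} [IsLocallyNoetherian W] [IsLocallyNoetherian Y] (g : X ⟶ W) [IsClosedImmersion g] (q : W ⟶ Y)
    [Flat q] [Flat (g ≫ q)] (x : X) (N : Y.Modules) (hN : Coh.IsCoh N) (F : W.Modules)
    (eF : F.presheaf.stalk (g x) ≃ₗ[W.presheaf.stalk (g x)]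
      W.presheaf.stalk (g x) ⧸ RingHom.ker (g.stalkMap x).hom) :
    IntMult.chi (W.presheaf.stalk (g x)) (F.presheaf.stalk (g x))
        (((Scheme.Modules.pullback q).obj N).presheaf.stalk (g x)) =
      ((Module.length (Y.presheaf.stalk ((g ≫ q) x)) (N.presheaf.stalk ((g ≫ q) x))).toNat : ℤ) *
      ((Module.length (X.presheaf.stalk x) (X.presheaf.stalk x ⧸ Ideal.map ((g ≫ q).stalkMap x).hom
        (IsLocalRing.maximalIdeal (Y.presheaf.stalk ((g ≫ q) x))))).toNat : ℤ) := by
  let B := Y.presheaf.stalk (q (g x))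
  let E := W.presheaf.stalk (g x)
  let A := X.presheaf.stalk x
  let NN := N.presheaf.stalk (q.base (g x))
  letI : Algebra B E := H06Mod.stalkAlgebra q (g x)
  letI : Algebra E A := (g.stalkMap x).hom.toAlgebra
  letI : Algebra B A := ((g ≫ q).stalkMap x).hom.toAlgebra
  haveI : IsScalarTower B E A := IsScalarTower.of_algebraMap_eq' (by
    show ((g ≫ q).stalkMap x).hom = _
    rw [Scheme.Hom.stalkMap_comp]
    rfl)
  haveI : Module.Flat B E := Flat.stalkMap q (g x)
  haveI : Module.Flat B A := Flat.stalkMap (g ≫ q) x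
  haveI : IsLocalHom (algebraMap B A) := inferInstanceAs (IsLocalHom ((g ≫ q).stalkMap x).hom)
  have hs : Function.Surjective (algebraMap E A) := g.stalkMap_surjective x
  let eA : F.presheaf.stalk (g x) ≃ₗ[E] A :=
    eF.trans (Ideal.quotientKerAlgEquivOfSurjective (f := Algebra.ofId E A) hs).toLinearEquiv
  haveI : Module.Finite B NN := H3CAlg.ChiStalk.finite_stalk N hN (q (g x))
  haveI : Module.Finite E (F.presheaf.stalk (g x)) := Module.Finite.equiv eF.symm
  rw [H3CAlg.ChiDev.chi_congr _ (H06Mod.pullStalkEquiv q N (g x)).symm, H3CAlg.TorComm.chi_comm,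
    H3CAlg.ChiDev.chi_congr _ eA,
    H3CAlg.TorFlatBC.chi_eq_length B E A NN (E ⊗[B] NN) (LinearEquiv.refl E _)]
  have hl : Module.length E ((E ⊗[B] NN) ⊗[E] A) = Module.length B NN *
      Module.length A (A ⧸ (IsLocalRing.maximalIdeal B).map (algebraMap B A)) := by
    rw [(TensorProduct.comm E (E ⊗[B] NN) A).length_eq, Module.length_eq_of_surjective (R := A) hs,
      (AlgebraTensorModule.cancelBaseChange B E A A NN).length_eq]
    exact IsLocalRing.length_baseChange B A NN
  rw [hl, ENat.toNat_mul, Nat.cast_mul]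
  rfl

/-- Let f : X → Y be a morphism of nonsingular projective varieties over an algebraically closed field
and define f^*α = pr_{X,*}(Γ_f · pr_Y^*α) on Chow groups, with Γ_f ⊂ X × Y the graph and · the
intersection product of the nonsingular projective variety X × Y. If f is flat, f^*α agrees with the
flat pullback of α (relative dimension dim X - dim Y). Here X, Y and X × Y are nonsingular varieties
over the algebraically closed field K (smooth, separated, quasi-compact, integral) embedded as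
closed subschemes of projective spaces over K, with dimension functions the transcendence degree
(Cyc.IsSetup, Cyc.DeltaCompat to Spec K with value 0) and dimensions pinned at the generic points;
the product on CH_*(X × Y) is any mul with ChowOps.IsChowMul (it agrees with the Tor-formula product
IntMult.interProd on properly meeting cycles, which determines it); [Γ_f] is the prime cycle of the
image of the generic point of X under the graph morphism, pr_Y^* and f^* are coefficientwise flat
pullbacks (Cyc.pullFun), pr_{X,*} is the proper pushforward of a representing cycle, and the two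
sides are compared up to rational equivalence on X. (Parts (1)–(3) of the published statement — f^*
is a ring map, functoriality, projection formula — are not stated here.) -/
theorem result (K : Type u) [Field K] [IsAlgClosed K] (X : Scheme.{u}) (fX : X ⟶ Spec (CommRingCat.of K)) [Smooth fX] [IsSeparated fX] [QuasiCompact fX] [IsIntegral X] (δX : X → ℤ) (hX : Cyc.IsSetup X δX) (hδX : Cyc.DeltaCompat fX δX (fun _ => 0)) (dX : ℕ) (hdX : δX (genericPoint X) = dX) (NX : ℕ) (ιX : X ⟶ CohB1.ProjSpace NX K) [IsClosedImmersion ιX] (hιX : ιX ≫ CohB1.ProjSpace.toSpec NX K = fX) (Y : Scheme.{u}) (fY : Y ⟶ Spec (CommRingCat.of K)) [Smooth fY] [IsSeparated fY] [QuasiCompact fY] [IsIntegral Y] (δY : Y → ℤ) (hY : Cyc.IsSetup Y δY) (hδY : Cyc.DeltaCompat fY δY (fun _ => 0)) (dY : ℕ) (hdY : δY (genericPoint Y) = dY) (NY : ℕ) (ιY : Y ⟶ CohB1.ProjSpace NY K) [IsClosedImmersion ιY] (hιY : ιY ≫ CohB1.ProjSpace.toSpec NY K = fY) (f : X ⟶ Y) (hf : f ≫ fY = fX) [Flat f] [IsIntegral (pullback fX fY)] (δW :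 ↥(pullback fX fY) → ℤ) (hW : Cyc.IsSetup (pullback fX fY) δW) (hδW : Cyc.DeltaCompat (pullback.fst fX fY ≫ fX) δW (fun _ => 0)) (hdW : δW (genericPoint ↥(pullback fX fY)) = (dX : ℤ) + (dY : ℤ)) (NW : ℕ) (ιW : (pullback fX fY) ⟶ CohB1.ProjSpace NW K) [IsClosedImmersion ιW] (hιW : ιW ≫ CohB1.ProjSpace.toSpec NW K = pullback.fst fX fY ≫ fX) (mul : (r s : ℤ) → ChowOps.CH (pullback fX fY) δW r → ChowOps.CH (pullback fX fY) δW s → ChowOps.CH (pullback fX fY) δW (r + s - ((dX : ℤ) + (dY : ℤ)))) (hmul : ChowOps.IsChowMul (pullback fX fY) δW ((dX : ℤ) + (dY : ℤ)) mul) (γ : AlgebraicCycle (pullback fX fY) ℤ) (hγ : ⇑γ = Set.indicator {(pullback.lift (𝟙 X) f (Eq.trans (Category.id_comp fX) hf.symm)) (genericPoint X)} 1) (hγk : γ ∈ Cyc.Zk (pullback fX fY) δW (dX : ℤ)) (k : ℤ) (α : AlgebraicCycle Y ℤ) (hα : α ∈ Cyc.Zk Y δY k) (αW : AlgebraicCycle (pullback fX fY) ℤ) (hαW : ⇑αW = Cyc.pullFun (pullback.snd fX fY) δW δY (dX : ℤ) ⇑α) (hαWk : αW ∈ Cyc.Zk (pullback fX fY) δW (k + dX)) (ζ : AlgebraicCycle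 (pullback fX fY) ℤ) (hζk : ζ ∈ Cyc.Zk (pullback fX fY) δW ((dX : ℤ) + (k + dX) - ((dX : ℤ) + (dY : ℤ)))) (hζ : ChowOps.cl ζ hζk = mul (dX : ℤ) (k + dX) (ChowOps.cl γ hγk) (ChowOps.cl αW hαWk)) (αX : AlgebraicCycle X ℤ) (hαX : ⇑αX = Cyc.pullFun f δX δY ((dX : ℤ) - (dY : ℤ)) ⇑α) : Cyc.RatEquiv δX (k + dX - dY) (AlgebraicCycle.map (pullback.fst fX fY) δW δX ζ) αX := by
  classical
  let W := pullback fX fY
  let p : W ⟶ X := pullback.fst fX fY
  let q : W ⟶ Y := pullback.snd fX fY
  let g : X ⟶ W := pullback.lift (𝟙 X) f (Eq.trans (Category.id_comp fX) hf.symm)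
  have hgp : g ≫ p = 𝟙 X := pullback.lift_fst _ _ _
  have hgq : g ≫ q = f := pullback.lift_snd _ _ _
  have hqW : q ≫ fY = p ≫ fX := pullback.condition.symm
  haveI : IsProper (CohB1.ProjSpace.toSpec NY K) := inferInstance
  haveI : IsProper fY := by rw [← hιY]; infer_instance
  haveI : IsProper p := inferInstanceAs (IsProper (pullback.fst fX fY))
  haveI : IsClosedImmersion (g ≫ p) := by rw [hgp]; infer_instance
  haveI : IsClosedImmersion g := IsClosedImmersion.of_comp g p
  haveI : Smooth q := inferInstanceAs (Smooth (pullback.snd fX fY))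
  haveI : Flat q := inferInstance
  haveI : Flat (g ≫ q) := by rw [hgq]; infer_instance
  haveI : LocallyOfFiniteType (p ≫ fX) := inferInstance
  haveI : LocallyOfFiniteType (f ≫ fY) := by rw [hf]; infer_instance
  haveI : LocallyOfFiniteType f := locallyOfFiniteType_of_comp f fY
  haveI : IsLocallyNoetherian W := LocallyOfFiniteType.isLocallyNoetherian (p ≫ fX)
  haveI : IsLocallyNoetherian Y := LocallyOfFiniteType.isLocallyNoetherian fY
  haveI : QuasiCompact (p ≫ fX) := inferInstance
  haveI : CompactSpace W := (quasiCompact_iff_compactSpace (p ≫ fX)).mp inferInstance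
  haveI : CompactSpace Y := (quasiCompact_iff_compactSpace fY).mp inferInstance
  haveI : IsNoetherian W := {}
  haveI : IsNoetherian Y := {}
  -- dimension functions
  have hδf : Cyc.DeltaCompat f δX δY := BCPush.deltaCompat_cancel f fY hδY (by rw [hf]; exact hδX)
  have hδq : Cyc.DeltaCompat q δW δY := BCPush.deltaCompat_cancel q fY hδY (by rw [hqW]; exact hδW)
  have hδp : Cyc.DeltaCompat p δW δX := BCPush.deltaCompat_cancel p fX hδX hδW
  obtain rfl : δX = fun x => δW (g x) := by
    refine OpenSupp.deltaCompat_unique fX hδX ?_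
    have h := BCPush.deltaCompat_comp g (p ≫ fX) (Reduction.deltaCompat_immersion g δW) hδW
    rwa [← Category.assoc, hgp, Category.id_comp] at h
  obtain ⟨c, hc, hrf⟩ : ∃ c : ℕ, (c : ℤ) = (dX : ℤ) - dY ∧ Cyc.HasRelDim f c := by
    obtain ⟨h0, h1, -⟩ := Groth.Agent.S17840.result f _ δY hY hδf
    beta_reduce at hdX h0 h1
    rw [hdX, hdY] at h0 h1
    exact ⟨_, Int.toNat_of_nonneg h0, h1⟩
  have hrq : Cyc.HasRelDim q dX := by
    obtain ⟨-, h1, -⟩ := Groth.Agent.S17840.result q δW δY hY hδq
    rw [hdW, hdY] at h1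
    simpa using h1
  have hlef := fun x => H22Alg.CycBasic.delta_le_of_hasRelDim f hrf hδf x
  have hleq := fun z => H22Alg.CycBasic.delta_le_of_hasRelDim q hrq hδq z
  have hqg : ∀ x, q (g x) = f x := fun x => by rw [← Scheme.Hom.comp_apply, hgq]
  have hαd : ∀ y, α y ≠ 0 → δY y = k := fun y hy => by by_contra h; exact hy (hα y h)
  have hαW0 : ∀ b, αW b ≠ 0 → δW b = δY (q b) + dX ∧ α (q b) ≠ 0 := fun b hb => by
    rw [hαW, Cyc.pullFun] at hb
    split_ifs at hb with h
    · exact ⟨h, left_ne_zero_of_mul hb⟩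
    · exact absurd rfl hb
  have hγ0 : ∀ a, γ a ≠ 0 → a = g (genericPoint X) := fun a ha => by
    rw [hγ, Set.indicator_apply_ne_zero] at ha
    exact ha.1
  have hrange : ∀ z, g (genericPoint X) ⤳ z → z ∈ Set.range g := fun z hz =>
    hz.mem_closed g.isClosedEmbedding.isClosed_range ⟨_, rfl⟩
  have hδg : δW (g (genericPoint X)) = dX := hdX
  have hprop : IntMult.IntersectProperly δW ((dX : ℤ) + dY) ⇑γ ⇑αW := fun a b z ha hb haz hbz => by
    obtain rfl := hγ0 a ha
    obtain ⟨x, rfl⟩ := hrange z haz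
    obtain ⟨hdb, hαb⟩ := hαW0 b hb
    have h1 : δY (f x) ≤ δY (q b) :=
      (H3CAlg.ChiMain.eq_of_specializes fY δY hδY (by rw [← hqg]; exact hbz.map q.continuous)).1
    have h2 : δW (g x) ≤ δY (f x) + c := hlef x
    omega
  have hαXk : αX ∈ Cyc.Zk X (fun x => δW (g x)) (k + dX - dY) := fun x hx => by
    rw [hαX, Cyc.pullFun]
    split_ifs with h
    · by_cases h1 : α (f x) = 0
      · rw [h1, zero_mul]
      · exact absurd (by have := hαd _ h1; beta_reduce at h ⊢; omega) hx
    · rfl
  let ζ₀ : AlgebraicCycle W ℤ := AlgebraicCycle.map g (fun x => δW (g x)) δW αX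
  have hidx : (dX : ℤ) + (k + dX) - ((dX : ℤ) + (dY : ℤ)) = k + dX - dY := by ring
  have hζ₀k : ζ₀ ∈ Cyc.Zk W δW ((dX : ℤ) + (k + dX) - ((dX : ℤ) + (dY : ℤ))) := by
    rw [hidx]
    exact Chow.map_mem (δ := fun x => δW (g x)) g αX hαXk
  have hG : ∀ η : Y, Coh.IsCoh ((Scheme.Modules.pullback q).obj (H3CAlg.PrimeMod.primeMod η)) := fun η =>
    H3CAlg.ChiPull.isCoh_pullback q _ (H3CAlg.PrimeMod.isCoh_primeMod η)
  let F : W.Modules := H3CAlg.PrimeMod.primeMod (g (genericPoint X))
  have hF : Coh.IsCoh F := H3CAlg.PrimeMod.isCoh_primeMod _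
  have hboundF : ∀ z : W, Nontrivial (F.presheaf.stalk z) → δW z ≤ dX := fun z hz => by
    have := (H3CAlg.ChiMain.eq_of_specializes (p ≫ fX) δW hδW ((H3CAlg.PrimeMod.nontrivial_iff _ z).mp hz)).1
    omega
  have hboundY : ∀ η y : Y, δY η = k → Nontrivial ((H3CAlg.PrimeMod.primeMod η).presheaf.stalk y) → δY y ≤ k :=
    fun η y hη h => by
      have := (H3CAlg.ChiMain.eq_of_specializes fY δY hδY ((H3CAlg.PrimeMod.nontrivial_iff η y).mp h)).1
      omega
  have hinter : ⇑ζ₀ = IntMult.interProd δW ((dX : ℤ) + dY) ⇑γ ⇑αW := by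
    funext z
    by_cases hz : z ∈ Set.range g
    swap
    · rw [show ζ₀ z = 0 from Gysin.map_immersion_eq_zero g δW αX z hz, IntMult.interProd,
        finsum_eq_zero_of_forall_eq_zero]
      rintro ⟨⟨a, b⟩, ha, hb, hab⟩
      by_cases h1 : γ a = 0
      · rw [show γ (a, b).1 = 0 from h1, zero_mul, zero_mul]
      · obtain rfl := hγ0 a h1
        exact absurd (hrange z ha) hz
    obtain ⟨x, rfl⟩ := hz
    rw [show ζ₀ (g x) = αX x from Gysin.map_immersion_apply g δW αX x]
    by_cases hxd : δW (g x) = k + dX - dY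
    swap
    · rw [hαXk x hxd, IntMult.interProd, finsum_eq_zero_of_forall_eq_zero]
      rintro ⟨⟨a, b⟩, ha, hb, hab⟩
      change δW a + δW b - _ = δW (g x) at hab
      show γ a * αW b * _ = 0
      by_contra h0
      simp only [mul_eq_zero, not_or] at h0
      obtain rfl := hγ0 a h0.1.1
      obtain ⟨hdb, hαb⟩ := hαW0 b h0.1.2
      have := hαd _ hαb
      omega
    have hfin := H3CAlg.ChiCycles.finite_generizations_support α (f x)
    have hS : ∀ η ∈ hfin.toFinset, δY η = k ∧ η = f x ∧ α η ≠ 0 := fun η hη => by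
      obtain ⟨h1, h2⟩ := hfin.mem_toFinset.mp hη
      obtain ⟨h3, h4⟩ := H3CAlg.ChiMain.eq_of_specializes fY δY hδY h1
      have h5 : δW (g x) ≤ δY (f x) + c := hlef x
      have h6 := hαd η h2
      exact ⟨h6, h4 (by omega), h2⟩
    have expγ : ∀ a : W, a ⤳ g x → γ a = ∑ _i ∈ ({()} : Finset Unit), (1 : ℤ) * Cyc.sheafFun δW dX F a := fun a _ => by
      rw [Finset.sum_singleton, one_mul]
      by_cases ha : a = g (genericPoint X)
      · subst ha
        rw [hγ, Set.indicator_of_mem (Set.mem_singleton _), Cyc.sheafFun, if_pos hδg, H3CAlg.PrimeMod.length_self]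
        rfl
      · rw [hγ, Set.indicator_of_notMem (by exact ha)]
        by_contra h0
        obtain ⟨h1, h2⟩ := H3CAlg.ChiMain.nontrivial_of_sheafFun_ne_zero F δW _ (Ne.symm h0)
        exact ha ((H3CAlg.ChiMain.eq_of_specializes (p ≫ fX) δW hδW
          ((H3CAlg.PrimeMod.nontrivial_iff _ a).mp h2)).2 (by omega)).symm
    have expα : ∀ b : W, b ⤳ g x → αW b = ∑ η ∈ hfin.toFinset, α η *
        Cyc.sheafFun δW (k + dX) ((Scheme.Modules.pullback q).obj (H3CAlg.PrimeMod.primeMod η)) b := fun b hb => by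
      have hqb : q b ⤳ f x := by rw [← hqg]; exact hb.map q.continuous
      rw [hαW, Cyc.pullFun]
      by_cases hdb : δW b = δY (q b) + dX ∧ α (q b) ≠ 0
      · obtain ⟨hdb, hne⟩ := hdb
        rw [if_pos hdb, Finset.sum_eq_single (q b) (fun η hη hne' => ?_)
          (fun h => absurd (hfin.mem_toFinset.mpr ⟨hqb, hne⟩) h), Cyc.sheafFun,
          if_pos (by have := hαd _ hne; omega), H3CAlg.ChiPull.length_pullback, H3CAlg.PrimeMod.length_self, one_mul]
        exact absurd ((hS η hη).2.1.trans (hS (q b) (hfin.mem_toFinset.mpr ⟨hqb, hne⟩)).2.1.symm) hne'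
      · have h0 : (if δW b = δY (q b) + dX then α (q b) * ((Module.length (W.presheaf.stalk b)
            (W.presheaf.stalk b ⧸ Ideal.map (q.stalkMap b).hom
              (IsLocalRing.maximalIdeal (Y.presheaf.stalk (q b))))).toNat : ℤ) else 0) = 0 := by
          split_ifs with h
          · rw [not_not.mp fun h' => hdb ⟨h, h'⟩, zero_mul]
          · rfl
        refine h0.trans (Finset.sum_eq_zero fun η hη => ?_).symm
        by_contra hc0
        obtain ⟨h1, h2⟩ := H3CAlg.ChiMain.nontrivial_of_sheafFun_ne_zero _ _ _ (right_ne_zero_of_mul hc0)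
        obtain ⟨h3, h4⟩ := H3CAlg.ChiMain.eq_of_specializes fY δY hδY
          ((H3CAlg.PrimeMod.nontrivial_iff η (q b)).mp (H3CAlg.ChiPull.nontrivial_of_pullback q _ b h2))
        have h5 := hleq b
        have h6 := (hS η hη).1
        exact hdb ⟨by omega, h4 (by omega) ▸ (hS η hη).2.2⟩
    have hcomp : ∀ η, δY η = k → IntMult.interProd δW ((dX : ℤ) + dY) (Cyc.sheafFun δW dX F)
        (Cyc.sheafFun δW (k + dX) ((Scheme.Modules.pullback q).obj (H3CAlg.PrimeMod.primeMod η))) (g x) =
        ((Module.length (Y.presheaf.stalk (f x)) ((H3CAlg.PrimeMod.primeMod η).presheaf.stalk (f x))).toNat : ℤ) *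
        ((Module.length (X.presheaf.stalk x) (X.presheaf.stalk x ⧸ Ideal.map (f.stalkMap x).hom
          (IsLocalRing.maximalIdeal (Y.presheaf.stalk (f x))))).toNat : ℤ) := fun η hη => by
      rw [← H3CAlg.ChiMain.chi_stalk (p ≫ fX) δW hδW _ hdW F _ hF (hG η) dX (k + dX) hboundF
        (fun z h => H3CAlg.ChiPull.support_bound q _ z hrq hδq k (fun y => hboundY η y hη) h) (g x) (by omega) ?_]
      · obtain ⟨e₀⟩ := H3CAlg.PrimeMod.stalk_primeMod (v := g (genericPoint X)) (x := g x)
          ((genericPoint_specializes x).map g.continuous)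
        rw [chi_section g q x (H3CAlg.PrimeMod.primeMod η) (H3CAlg.PrimeMod.isCoh_primeMod η) F
          (e₀.trans (Submodule.quotEquivOfEq _ _ (stalk_push_section g x)))]
        have key : ∀ (φ : X ⟶ Y), φ = f →
            ((Module.length (Y.presheaf.stalk (φ x)) ((H3CAlg.PrimeMod.primeMod η).presheaf.stalk (φ x))).toNat : ℤ) *
            ((Module.length (X.presheaf.stalk x) (X.presheaf.stalk x ⧸ Ideal.map (φ.stalkMap x).hom
              (IsLocalRing.maximalIdeal (Y.presheaf.stalk (φ x))))).toNat : ℤ) =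
            ((Module.length (Y.presheaf.stalk (f x)) ((H3CAlg.PrimeMod.primeMod η).presheaf.stalk (f x))).toNat : ℤ) *
            ((Module.length (X.presheaf.stalk x) (X.presheaf.stalk x ⧸ Ideal.map (f.stalkMap x).hom
              (IsLocalRing.maximalIdeal (Y.presheaf.stalk (f x))))).toNat : ℤ) := by
          rintro φ rfl
          rfl
        exact key (g ≫ q) hgq
      · intro z h1 h2 hzx
        obtain ⟨x', rfl⟩ := hrange z ((H3CAlg.PrimeMod.nontrivial_iff _ z).mp h1)
        have h3 := hboundY η _ hη (H3CAlg.ChiPull.nontrivial_of_pullback q _ (g x') h2)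
        rw [hqg] at h3
        have h4 : δW (g x') ≤ δY (f x') + c := hlef x'
        exact (H3CAlg.ChiMain.eq_of_specializes (p ≫ fX) δW hδW hzx).2 (by omega)
    rw [H3CAlg.ChiCycles.interProd_expand δW ((dX : ℤ) + dY) ⇑γ ⇑αW (g x) ({()} : Finset Unit) hfin.toFinset
      (fun _ => (1 : ℤ)) (fun _ => Cyc.sheafFun δW dX F) (fun η => α η)
      (fun η => Cyc.sheafFun δW (k + dX) ((Scheme.Modules.pullback q).obj (H3CAlg.PrimeMod.primeMod η))) expγ expα
      (fun _ _ => H3CAlg.ChiCycles.finite_sheafFun (p ≫ fX) δW hδW F hF _ hboundF (g x))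
      (fun η hη => H3CAlg.ChiCycles.finite_sheafFun (p ≫ fX) δW hδW _ (hG η) _
        (fun z h => H3CAlg.ChiPull.support_bound q _ z hrq hδq k (fun y => hboundY η y (hS η hη).1) h) (g x)),
      Finset.sum_singleton, hαX, Cyc.pullFun]
    by_cases hy : δY (f x) = k ∧ α (f x) ≠ 0
    · obtain ⟨hy, hne⟩ := hy
      rw [if_pos (show δW (g x) = δY (f x) + ((dX : ℤ) - dY) by omega),
        Finset.sum_eq_single (f x) (fun η hη h => absurd (hS η hη).2.1 h)
          (fun h => absurd (hfin.mem_toFinset.mpr ⟨specializes_rfl, hne⟩) h), hcomp (f x) hy,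
        H3CAlg.PrimeMod.length_self]
      simp
    · rw [Finset.sum_eq_zero fun η hη => absurd ⟨(hS η hη).2.1 ▸ (hS η hη).1, (hS η hη).2.1 ▸ (hS η hη).2.2⟩ hy]
      split_ifs with h
      · have h' : δW (g x) = δY (f x) + ((dX : ℤ) - dY) := h
        rw [not_not.mp fun h'' => hy ⟨by omega, h''⟩, zero_mul]
      · rfl
  have hcl := hζ.trans (hmul (dX : ℤ) (k + dX) γ αW hγk hαWk hprop ζ₀ hζ₀k hinter)
  have hrat := PushRat.ratEquiv_map p hW hX hδp _ ζ ζ₀ ((Chow.cl_eq_iff hζk hζ₀k).mp hcl)
  rw [hidx] at hrat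
  have hid : AlgebraicCycle.map p δW (fun x => δW (g x)) ζ₀ = αX := by
    ext x
    have hpg : p (g x) = x := by rw [← Scheme.Hom.comp_apply, hgp]; rfl
    show ∑ᶠ z ∈ p ⁻¹' {x}, ζ₀ z * ((AlgebraicCycle.mapCoeff p δW (fun x => δW (g x)) z : ℕ) : ℤ) = αX x
    rw [finsum_mem_def, finsum_eq_single _ (g x) fun z hne => ?_]
    · rw [Set.indicator_of_mem (show g x ∈ p ⁻¹' {x} from hpg),
        show ζ₀ (g x) = αX x from Gysin.map_immersion_apply g δW αX x, AlgebraicCycle.mapCoeff,
        if_pos (by rw [hpg]), ← Gysin.residueDegree_immersion_comp g p x]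
      have : (g ≫ p).residueDegree x = 1 := Gysin.residueDegree_immersion (g ≫ p) x
      rw [this]
      simp
    · by_cases hzp : z ∈ p ⁻¹' {x}
      · rw [Set.indicator_of_mem hzp]
        by_cases hzr : z ∈ Set.range g
        · obtain ⟨x', rfl⟩ := hzr
          refine absurd (congrArg g ?_) hne
          have : p (g x') = x' := by rw [← Scheme.Hom.comp_apply, hgp]; rfl
          exact this.symm.trans hzp
        · rw [show ζ₀ z = 0 from Gysin.map_immersion_eq_zero g δW αX z hzr, zero_mul]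
      · exact Set.indicator_of_notMem hzp _
  rwa [hid] at hrat

end Groth.Agent.S12676
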