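import Groth.Statements.S1850
import Groth.Agent.H3CAlg.Tame.FlatSymbol
import Mathlib

set_option autoImplicit false
universe u
open CycAlg

namespace Groth.Agent.S1850

open scoped TensorProduct
attribute [local instance] Algebra.TensorProduct.rightAlgebra

/-- Let A → A' be a flat local homomorphism of Noetherian local rings of dimension 1 and m =
length_{A'}(A'/𝔪_A A'). For nonzerodivisors a₁, a₂ of A the image of ∂_A(a₁, a₂)^m in the residue
field of A' equals ∂_{A'}(a₁, a₂). -/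
theorem result (A A' : Type u) [CommRing A] [CommRing A'] [IsNoetherianRing A] [IsNoetherianRing A'] [IsLocalRing A] [IsLocalRing A'] [Algebra A A'] [IsLocalHom (algebraMap A A')] [Module.Flat A A'] (hA : ringKrullDim A = 1) (hA' : ringKrullDim A' = 1) (a₁ a₂ : A) (h₁ : a₁ ∈ nonZeroDivisors A) (h₂ : a₂ ∈ nonZeroDivisors A) : IsLocalRing.ResidueField.map (algebraMap A A') (CycAlg.tameSymbol A a₁ a₂) ^ (Module.length A' (A' ⧸ Ideal.map (algebraMap A A') (IsLocalRing.maximalIdeal A))).toNat = CycAlg.tameSymbol A' (algebraMap A A' a₁) (algebraMap A A' a₂) := by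
  classical
  have hmap : ∀ z ∈ nonZeroDivisors A, algebraMap A A' z ∈ nonZeroDivisors A' := fun z hz =>
    H3CAlg.Tame.algebraMap_base_mem hz
  by_cases hu : IsUnit a₁ ∧ IsUnit a₂
  · rw [H3CAlg.Tame.tameSymbol_of_isUnit hu.1 hu.2, map_one, one_pow,
      H3CAlg.Tame.tameSymbol_of_isUnit (hu.1.map _) (hu.2.map _)]
  obtain ⟨a, hva, ham, ha⟩ : ∃ a, (a = a₁ ∨ a = a₂) ∧ a ∈ IsLocalRing.maximalIdeal A ∧ a ∈ nonZeroDivisors A := by
    rcases not_and_or.mp hu with h | h
    exacts [⟨a₁, Or.inl rfl, (IsLocalRing.mem_maximalIdeal _).mpr h, h₁⟩, ⟨a₂, Or.inr rfl, (IsLocalRing.mem_maximalIdeal _).mpr h, h₂⟩]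
  have hm : Module.length A' (A' ⧸ (IsLocalRing.maximalIdeal A).map (algebraMap A A')) ≠ ⊤ := by
    have hle : Ideal.span {algebraMap A A' a} ≤ (IsLocalRing.maximalIdeal A).map (algebraMap A A') :=
      (Ideal.span_singleton_le_iff_mem _).mpr (Ideal.mem_map_of_mem _ ham)
    have h := H3CAlg.Tame.ord_algebraMap_ne_top hA' (B := A') (hmap a ha)
    rw [Algebra.algebraMap_self_apply] at h
    exact ne_top_of_le_ne_top h (Module.length_le_of_surjective (Submodule.factor hle) (Submodule.factor_surjective hle))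
  obtain ⟨C, _, _, hC, hreg, π, hπ, hfac⟩ := H3CAlg.Tame.exists_fac_ext hA (a₁ ::ₘ a₂ ::ₘ 0) (by simp [h₁, h₂])
  obtain ⟨v, e, hv⟩ := hfac a₁ (by simp)
  obtain ⟨w, f, hw⟩ := hfac a₂ (by simp)
  haveI := hC.2.1
  haveI := H22Alg.finite_maximalSpectrum_of_finite A C
  haveI := Fintype.ofFinite (MaximalSpectrum C)
  haveI hlocC : ∀ Q : MaximalSpectrum C, IsLocalHom (algebraMap A (Localization.AtPrime Q.asIdeal)) :=
    H3CAlg.Tame.isLocalHom_ext hC
  have hC' := H3CAlg.Tame.isFinExt_base (A' := A') hA' hC ha ham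
  haveI := H22Alg.finite_maximalSpectrum_of_finite A' (A' ⊗[A] C)
  haveI := Fintype.ofFinite (MaximalSpectrum (A' ⊗[A] C))
  haveI hlocC' : ∀ Q : MaximalSpectrum (A' ⊗[A] C), IsLocalHom (algebraMap A' (Localization.AtPrime Q.asIdeal)) :=
    H3CAlg.Tame.isLocalHom_ext hC'
  let π' : (Q' : MaximalSpectrum (A' ⊗[A] C)) → Localization.AtPrime Q'.asIdeal := fun Q' =>
    H3CAlg.Tame.locHom Q' (π (H3CAlg.Tame.below Q'))
  have hloc : ∀ (Q' : MaximalSpectrum (A' ⊗[A] C)) (r : A), H3CAlg.Tame.locHom Q' (algebraMap A _ r) =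
      algebraMap A' (Localization.AtPrime Q'.asIdeal) (algebraMap A A' r) := fun Q' r => by
    rw [IsScalarTower.algebraMap_apply A C (Localization.AtPrime (H3CAlg.Tame.below Q').asIdeal)]
    refine (Localization.localRingHom_to_map (H3CAlg.Tame.below Q').asIdeal Q'.asIdeal (algebraMap C (A' ⊗[A] C)) rfl (algebraMap A C r)).trans ?_
    rw [
      ← IsScalarTower.algebraMap_apply A C (A' ⊗[A] C), IsScalarTower.algebraMap_apply A A' (A' ⊗[A] C),
      ← IsScalarTower.algebraMap_apply A' (A' ⊗[A] C)]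
  have hx : H3CAlg.Tame.Fac π' (algebraMap A A' a₁) (fun Q' => Units.map (H3CAlg.Tame.locHom Q').toMonoidHom (v (H3CAlg.Tame.below Q')))
      (fun Q' => e (H3CAlg.Tame.below Q')) := fun Q' => by
    rw [← hloc, hv (H3CAlg.Tame.below Q'), map_mul, map_pow]; rfl
  have hy : H3CAlg.Tame.Fac π' (algebraMap A A' a₂) (fun Q' => Units.map (H3CAlg.Tame.locHom Q').toMonoidHom (w (H3CAlg.Tame.below Q')))
      (fun Q' => f (H3CAlg.Tame.below Q')) := fun Q' => by
    rw [← hloc, hw (H3CAlg.Tame.below Q'), map_mul, map_pow]; rfl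
  let D : CycAlg.TameData A a₁ a₂ := ⟨C, hC, hlocC, π, hπ, v, w, e, f, hv, hw⟩
  have hdvd : ∀ Q, π Q ∣ algebraMap A (Localization.AtPrime Q.asIdeal) a := fun Q => by
    obtain ⟨u, k, hk⟩ := H3CAlg.Tame.pos_exponent hva ham D Q
    rw [hk, pow_succ]
    exact (dvd_mul_left _ _).mul_left _
  have hπ' : ∀ Q', π' Q' ∈ nonZeroDivisors (Localization.AtPrime Q'.asIdeal) := fun Q' => by
    obtain ⟨t, ht⟩ := hdvd (H3CAlg.Tame.below Q')
    have h1 : algebraMap A' (Localization.AtPrime Q'.asIdeal) (algebraMap A A' a) ∈ nonZeroDivisors (Localization.AtPrime Q'.asIdeal) := by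
      rw [IsScalarTower.algebraMap_apply A' (A' ⊗[A] C), ← IsScalarTower.algebraMap_apply A A' (A' ⊗[A] C),
        IsScalarTower.algebraMap_apply A C (A' ⊗[A] C)]
      exact IsLocalization.map_nonZeroDivisors_le Q'.asIdeal.primeCompl _
        ⟨_, H3CAlg.Tame.algebraMap_ext_mem (hreg a ha), rfl⟩
    rw [← hloc, ht, map_mul] at h1
    exact (mul_mem_nonZeroDivisors.mp h1).1
  rw [H3CAlg.Tame.tameSymbol_eq_prod hA hC hπ h₁ h₂ hv hw,
    H3CAlg.Tame.tameSymbol_eq_prod hA' hC' hπ' (hmap _ h₁) (hmap _ h₂) hx hy, map_prod, ← Finset.prod_pow,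
    ← Finset.prod_fiberwise Finset.univ H3CAlg.Tame.below]
  refine Finset.prod_congr rfl fun Q _ => ?_
  rw [H3CAlg.Tame.prod_above hA hm ha Q (π Q) (hdvd Q) (v Q) (w Q) (e Q) (f Q),
    Finset.prod_subtype (Finset.univ.filter fun Q' => H3CAlg.Tame.below Q' = Q) (p := fun Q' => H3CAlg.Tame.below Q' = Q) (by simp)]
  refine Finset.prod_congr rfl ?_
  rintro ⟨Q', hQ'⟩ -
  subst hQ'
  rfl

end Groth.Agent.S1850
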