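import Groth.Statements.S5195
import Groth.Agent.H13CInt.FibreDepth
import Groth.Agent.H25Euler.ParSh
import Groth.Agent.H17.Ample.GenAffine
import Groth.Agent.H11Ample.Ample

set_option autoImplicit false
universe u
open CategoryTheory CategoryTheory.Limits AlgebraicGeometry
open Lef

namespace Groth.Agent.S5195

open AlgebraicGeometry CategoryTheory CategoryTheory.Limits TopologicalSpace Opposite in
/-- The complement of an ample effective Cartier divisor sits in an affine open. -/
theorem exists_affine_compl {A : CommRingCat.{u}} {X : Scheme.{u}} (f : X ⟶ Spec A) [IsProper f]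
    (I : X.IdealSheafData) (L : X.Modules) (hL : ClSub.IsInverseOf L (ClSub.idealMod I)) (hamp : CohB1.IsAmple L) :
    ∃ V : X.Opens, IsAffineOpen V ∧ (I.support : Set X)ᶜ ⊆ (V : Set X) := by
  obtain ⟨e⟩ := hL
  let ψ : Coh.structureModule X ⟶ L := e.inv ≫ ParSh.twistMap I L
  refine ⟨Groth.Agent.H11Ample.gen L (SecTwist.val ψ ⊤),
    Groth.Agent.H17.GenAffine.isAffineOpen_gen f hamp _, fun z hz => ?_⟩
  refine (Groth.Agent.H11Ample.mem_gen_iff hamp.1 _ z).2 ?_
  haveI := Groth.Agent.H25Euler.isIso_stalk_twistMap I L hz
  haveI : IsIso ((DerSch.stalkFunctor X z).map ψ) := by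
    rw [show ψ = e.inv ≫ ParSh.twistMap I L from rfl, Functor.map_comp]; infer_instance
  have hb : Function.Bijective ((DerSch.stalkFunctor X z).map ψ).hom :=
    ConcreteCategory.bijective_of_isIso ((DerSch.stalkFunctor X z).map ψ)
  have h1 := Groth.Agent.H11Ample.isGen_one (X := X) ⊤ z trivial
  have hs : ((DerSch.stalkFunctor X z).map ψ).hom
      ((Coh.structureModule X).presheaf.germ ⊤ z trivial (Groth.Agent.H11Ample.one ⊤)) =
        L.presheaf.germ ⊤ z trivial (SecTwist.val ψ ⊤) :=
    TopCat.Presheaf.stalkFunctor_map_germ_apply ⊤ _ _ ψ.mapPresheaf _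
  refine (congrArg Function.Bijective (funext fun r => ?_)).mp (hb.comp h1)
  show ((DerSch.stalkFunctor X z).map ψ).hom (r • _) = _
  rw [map_smul, hs]
  rfl

/-- For the structure sheaf, with the key step of its proof made explicit. Let A be a Noetherian ring, X
a proper A-scheme and 𝓘 a quasi-coherent ideal whose ideal module is invertible with ample inverse L
(Y = V(𝓘) is an ample effective Cartier divisor), and let Z be a closed subset of X not meeting Y.
Then (1) every point of Z is closed in its fibre over Spec A (indeed Z is finite over A, being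
proper and contained in the affine X − Y); and (2) if moreover X is flat over A and for every s the
fibre X_s has depth ≥ n at each of its closed points, then the local ring O_{X,z} has depth ≥ n at
every point z of Z. (The published statement allows any coherent module flat over the base whose
fibres have depth ≥ n at closed points; this row takes the structure sheaf.) -/
theorem result (A : Type u) [CommRing A] [IsNoetherianRing A] (X : Scheme.{u}) [X.Over (Spec (CommRingCat.of A))] [IsProper (X ↘ Spec (CommRingCat.of A))] (𝓘 : X.IdealSheafData) (L : X.Modules) (hL : ClSub.IsInverseOf L (ClSub.idealMod 𝓘)) (hamp : CohB1.IsAmple L) (Z : Set X) (hZ : IsClosed Z) (hZY : Disjoint Z (𝓘.support : Set X)) (n : ℕ) : (∀ z : X, z ∈ Z → IsClosed ({((X ↘ Spec (CommRingCat.of A))).asFiber z} : Set ↥(((X ↘ Spec (CommRingCat.of A))).fiber (((X ↘ Spec (CommRingCat.of A))).base z)))) ∧ (Flat (X ↘ Spec (CommRingCat.of A)) → (∀ x : X, IsClosed ({((X ↘ Spec (CommRingCat.of A))).asFiber x} : Set ↥(((X ↘ Spec (CommRingCat.of A))).fiber (((X ↘ Spec (CommRingCat.of A))).base x)))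 → (n : ℕ∞) ≤ LocCoh.depth ↑(CInt.fiberStalk (X ↘ Spec (CommRingCat.of A)) x) ↑(CInt.fiberStalk (X ↘ Spec (CommRingCat.of A)) x)) → ∀ z : X, z ∈ Z → (n : ℕ∞) ≤ LocCoh.depth (X.presheaf.stalk z) (X.presheaf.stalk z)) := by
    haveI : IsLocallyNoetherian X := LocallyOfFiniteType.isLocallyNoetherian (X ↘ Spec (CommRingCat.of A))
    have h1 : ∀ z : X, z ∈ Z → IsClosed ({((X ↘ Spec (CommRingCat.of A))).asFiber z} : Set ↥(((X ↘ Spec (CommRingCat.of A))).fiber (((X ↘ Spec (CommRingCat.of A))).base z))) := by
      let f := X ↘ Spec (CommRingCat.of A)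
      obtain ⟨V, hV, hVZ⟩ := exists_affine_compl f 𝓘 L hL hamp
      let K := Scheme.IdealSheafData.vanishingIdeal ⟨Z, hZ⟩
      have hrange : Set.range K.subschemeι = Z := by
        rw [Scheme.IdealSheafData.range_subschemeι, Scheme.IdealSheafData.coe_support_vanishingIdeal]
        rfl
      have hle : Set.range K.subschemeι ⊆ Set.range V.ι := by
        rw [hrange, Scheme.Opens.range_ι]
        exact fun z hz => hVZ (fun hz' => Set.disjoint_left.1 hZY hz hz')
      haveI : IsAffine V.toScheme := hV
      let j := IsOpenImmersion.lift V.ι K.subschemeι hle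
      haveI : IsClosedImmersion j := by
        have : IsClosedImmersion (j ≫ V.ι) := by rw [IsOpenImmersion.lift_fac]; infer_instance
        exact IsClosedImmersion.of_comp j V.ι
      haveI : IsAffine K.subscheme := isAffine_of_isAffineHom j
      haveI : IsAffineHom (K.subschemeι ≫ f) := isAffineHom_of_isAffine _
      haveI : IsFinite (K.subschemeι ≫ f) := IsFinite.iff_isProper_and_isAffineHom.2 ⟨inferInstance, inferInstance⟩
      intro z hz
      obtain ⟨w, rfl⟩ := hrange.ge hz
      have hd := (K.subschemeι ≫ f).isDiscrete_preimage_singleton ((K.subschemeι ≫ f).base w)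
      let φ : f.fiber (f.base (K.subschemeι.base w)) → X := f.fiberι _
      have hemb : Topology.IsEmbedding φ := (f.fiberι _).isEmbedding
      have hsub : closure ({f.asFiber (K.subschemeι.base w)} : Set _) ⊆ {f.asFiber (K.subschemeι.base w)} := by
        intro y hy
        have hspec : φ (f.asFiber (K.subschemeι.base w)) ⤳ φ y :=
          (specializes_iff_mem_closure.2 hy).map hemb.continuous
        have hp : φ (f.asFiber (K.subschemeι.base w)) = K.subschemeι.base w := f.fiberι_asFiber _
        rw [hp] at hspec
        have hyfib : f.base (φ y) = f.base (K.subschemeι.base w) := by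
          have : φ y ∈ Set.range (f.fiberι (f.base (K.subschemeι.base w))) := ⟨y, rfl⟩
          rwa [f.range_fiberι] at this
        obtain ⟨w', hw'⟩ := hspec.mem_closed K.subschemeι.isClosedEmbedding.isClosed_range ⟨w, rfl⟩
        have hws : w ⤳ w' := by
          rw [← K.subschemeι.isClosedEmbedding.isInducing.specializes_iff, hw']
          exact hspec
        haveI := hd.to_subtype
        let s : Set K.subscheme := (K.subschemeι ≫ f).base ⁻¹' {(K.subschemeι ≫ f).base w}
        have hw's : w' ∈ s := by
          show f.base (K.subschemeι.base w') = f.base (K.subschemeι.base w)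
          rw [hw', hyfib]
        have he : (⟨w, rfl⟩ : s) = ⟨w', hw's⟩ := by
          have : (⟨w, rfl⟩ : s) ⤳ ⟨w', hw's⟩ :=
            (Topology.IsInducing.subtypeVal.specializes_iff).1 hws
          exact this.eq
        refine hemb.injective ?_
        rw [hp, ← hw', show w' = w from (congrArg Subtype.val he).symm]
      exact closure_subset_iff_isClosed.1 hsub
    refine ⟨h1, fun hflat hdepth z hz => ?_⟩
    haveI := hflat
    exact (hdepth z (h1 z hz)).trans (H13CInt.depth_stalk_ge_fiber (X ↘ Spec (CommRingCat.of A)) z)

end Groth.Agent.S5195
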