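import Groth.Statements.S6990
import Groth.Agent.H4DR.TorAmp.Basic

set_option autoImplicit false
universe u
open CategoryTheory CategoryTheory.Limits
attribute [local instance] HasDerivedCategory.standard
open DRing

namespace Groth.Agent.S6990

open CategoryTheory.Pretriangulated in
/-- Let R be a commutative ring, a, b integers, L an object of D(R) isomorphic to a complex of
projective R-modules vanishing outside [a, b], and K an object of D(R). (1) If H^i(K) = 0 for all i
≥ a, then every morphism L → K in D(R) is zero. (2) If H^i(K) = 0 for all i ≥ a + 1, then for every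
distinguished triangle K → M → L → K[1] there is an isomorphism M ≅ K ⊕ L carrying K → M to the
first inclusion and whose composite with the second projection is M → L. -/
theorem result (R : Type u) [CommRing R] (a b : ℤ)
    (L : Dual.D R) (hL : ∃ P : DRing.Cx R, DRing.VanishesOutside P a b ∧ (∀ i : ℤ, Module.Projective R (P.X i)) ∧
      Nonempty (DRing.toD P ≅ L)) (K : Dual.D R) :
    ((∀ i : ℤ, a ≤ i → Subsingleton (Dual.HD R K i)) → Subsingleton (L ⟶ K)) ∧
      ((∀ i : ℤ, a + 1 ≤ i → Subsingleton (Dual.HD R K i)) → ∀ (T : Triangle (Dual.D R)), T ∈ distinguishedTriangles →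
        T.obj₁ = K → T.obj₃ = L → ∀ [HasBinaryBiproduct T.obj₁ T.obj₃],
          ∃ e : T.obj₂ ≅ T.obj₁ ⊞ T.obj₃, T.mor₁ ≫ e.hom = biprod.inl ∧ e.hom ≫ biprod.snd = T.mor₂) := by
  obtain ⟨P, hP, hp, ⟨e⟩⟩ := hL
  haveI : P.IsStrictlyLE b := (CochainComplex.isStrictlyLE_iff P b).2 fun i hi => hP i (Or.inr hi)
  haveI : ∀ i, Projective (P.X i) := fun i => by haveI := hp i; infer_instance
  haveI := CochainComplex.isKProjective_of_projective P b
  have key : ∀ X : Dual.D R, (∀ i : ℤ, a ≤ i → Subsingleton (Dual.HD R X i)) →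
      Subsingleton (L ⟶ X) := by
    intro X hX
    haveI : X.IsLE (a - 1) := (DerivedCategory.isLE_iff X (a - 1)).2 fun i hi =>
      ModuleCat.isZero_of_iff_subsingleton.2 (hX i (by omega))
    obtain ⟨Y, hY, ⟨eY⟩⟩ := DerivedCategory.exists_iso_Q_obj_of_isLE X (a - 1)
    haveI := hY
    refine subsingleton_of_forall_eq 0 fun f => ?_
    obtain ⟨g, hg⟩ := Groth.Agent.H16Derived.ProjLift.Q_map_surjective P Y (e.hom ≫ f ≫ eY.hom)
    have : g = 0 := HomologicalComplex.hom_ext _ _ fun i => by
      rcases lt_or_ge i a with h | h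
      · exact (hP i (Or.inl h)).eq_of_src _ _
      · exact (Y.isZero_of_isStrictlyLE (a - 1) i (by omega)).eq_of_tgt _ _
    rw [this, Functor.map_zero] at hg
    rw [← cancel_epi e.hom, ← cancel_mono eY.hom, Category.assoc, ← hg]
    simp
  refine ⟨fun h => key K h, fun h T hT h₁ h₃ _ => ?_⟩
  subst h₁ h₃
  have hz : T.mor₃ = 0 := by
    have := key (T.obj₁⟦(1 : ℤ)⟧) fun i hi => by
      haveI := h (1 + i) (by omega)
      exact (Groth.Agent.H4DR.PCoh.hShift T.obj₁ 1 i (1 + i) rfl).injective.subsingleton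
    exact Subsingleton.elim _ _
  obtain ⟨e, h1, h2⟩ := Pretriangulated.exists_iso_binaryBiproduct_of_distTriang T hT hz
  exact ⟨e, h1, h2.symm⟩

end Groth.Agent.S6990
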