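import Groth.Statements.S3523
import Groth.Agent.H26Tor.Kunneth.Filtration
import Groth.Agent.H1CAlg.Tor

set_option autoImplicit false
universe u
attribute [local instance] HasDerivedCategory.standard
open HTor

namespace Groth.Agent.S3523

open Groth.Agent.H26Tor.Kunneth

open CategoryTheory CategoryTheory.Limits in
theorem kmap_surjective {A : Type u} [CommRing A] {L : DRing.Cx A} (hL : DRing.TermwiseFlat L) (a : ℤ)
    (ha : DRing.VanishesAbove L a) (M : DRing.Cx A) (b : ℤ) (hb : DRing.VanishesAbove M b)
    (hH : ∀ i : ℤ, Module.Flat A (L.homology i)) (n : ℤ) : Function.Surjective (kmap L M n) := by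
  have hT : ∀ p, Subsingleton (HTor.TorSum L M n (p + 1)) := fun p => by
    haveI : ∀ c : {ij : ℤ × ℤ // ij.1 + ij.2 - ((p + 1 : ℕ) : ℤ) = n},
        Subsingleton (DRing.Tor A (p + 1) (L.homology c.1.1) (M.homology c.1.2)) := fun c =>
      haveI := hH c.1.1
      ModuleCat.subsingleton_of_isZero (Groth.Agent.H1CAlg.isZero_Tor_of_flat _ _ p)
    exact ⟨fun x y => DFinsupp.ext fun c => Subsingleton.elim (α := DRing.Tor A (p + 1) _ _) _ _⟩
  have hF : ∀ p, F L M hL n p ≤ F L M hL n 0 := fun p => by
    induction p with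
    | zero => exact le_rfl
    | succ p ih =>
      refine le_trans ?_ ih
      haveI := hT p
      haveI := subsingleton_of_isSubquotient (isSubquotient_gr L M hL n a ha p)
      intro x hx
      have h := Subsingleton.elim (Submodule.Quotient.mk (⟨x, hx⟩ : F L M hL n (p + 1)) :
        HTor.grSucc (F L M hL n) p) 0
      exact (Submodule.Quotient.mk_eq_zero (Submodule.comap (F L M hL n (p + 1)).subtype (F L M hL n p))).1 h
  intro x
  have h := hF (a + b - n).toNat (F_eq_top L M hL n a b ha hb ▸ Submodule.mem_top (x := x))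
  rwa [F_zero L M hL n a ha] at h

open CategoryTheory CategoryTheory.Limits in
/-- (Cochain indexing.) Let A be a ring and L, M complexes of A-modules vanishing in large degrees, with
every term of L flat and every cohomology module H^i(L) flat. Then for every n there is a Künneth
map ⊕_{i+j=n} H^i(L) ⊗_A H^j(M) → H^n(L ⊗_A M), sending [z] ⊗ [z'] to the class of z ⊗ z', and it is
bijective. -/
theorem result (A : Type u) [CommRing A] (L M : DRing.Cx A)
    (hL : DRing.TermwiseFlat L) (bL : ∃ b : ℤ, DRing.VanishesAbove L b)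
    (bM : ∃ b : ℤ, DRing.VanishesAbove M b) (hH : ∀ i : ℤ, Module.Flat A (L.homology i)) (n : ℤ) :
    ∃ Φ : HTor.KunnethSum L M n →ₗ[A] (HTor.tensorCx L M).homology n,
      HTor.IsKunnethMap L M n Φ ∧ Function.Bijective Φ := by
  obtain ⟨a, ha⟩ := bL
  obtain ⟨b, hb⟩ := bM
  exact ⟨kmap L M n, kmap_spec L M n,
    kmap_injective hL a ha M n (kmap_surjective hL a ha _ b (isZero_next M b hb) hH n),
    kmap_surjective hL a ha M b hb hH n⟩

end Groth.Agent.S3523
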