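import Groth.Statements.S6937
import Groth.Agent.H4DR.PCoh.Modules

set_option autoImplicit false
universe u
open CategoryTheory CategoryTheory.Limits
attribute [local instance] HasDerivedCategory.standard
open DRing

namespace Groth.Agent.S6937

/-- Let R be a commutative ring, m an integer and K, L objects of D(R). If K ⊕ L is m-pseudo-coherent
then K and L are m-pseudo-coherent; if K ⊕ L is pseudo-coherent (isomorphic in D(R) to a bounded
above complex of finite free modules) then so are K and L. -/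
theorem result (R : Type u) [CommRing R] (m : ℤ) (K L : Dual.D R)
    [HasBinaryBiproduct K L] :
    (DRing.IsPseudoCoherent R m (K ⊞ L) → DRing.IsPseudoCoherent R m K ∧ DRing.IsPseudoCoherent R m L) ∧
      (DRing.IsPseudoCoherent' R (K ⊞ L) → DRing.IsPseudoCoherent' R K ∧ DRing.IsPseudoCoherent' R L) := by
  have key : ∀ {m : ℤ} {X Y : Dual.D R} (i : Y ⟶ X) (r : X ⟶ Y), i ≫ r = 𝟙 Y →
      DRing.IsPseudoCoherent R m X → DRing.IsPseudoCoherent R m Y := by
    intro m X Y i r hir hX
    obtain ⟨b, hb, hv⟩ := Groth.Agent.H4DR.PCoh.exists_bound hX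
    refine Groth.Agent.H4DR.PCoh.pc_of_retract (b + 1 - m).toNat i r (by rw [hir]; infer_instance) (fun j hj => ?_) hX
    haveI := hv j (by omega)
    have h1 : Function.LeftInverse (Groth.Agent.H4DR.PCoh.hm j r) (Groth.Agent.H4DR.PCoh.hm j i) := fun x => by
      rw [← Groth.Agent.H4DR.PCoh.hm_comp_apply, hir, Groth.Agent.H4DR.PCoh.hm_id]; rfl
    exact h1.injective.subsingleton
  refine ⟨fun h => ⟨key biprod.inl biprod.fst biprod.inl_fst h,
    key biprod.inr biprod.snd biprod.inr_snd h⟩, fun h => ?_⟩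
  exact ⟨Groth.Agent.H4DR.PCoh.pc'_of_forall fun m => key biprod.inl biprod.fst biprod.inl_fst (Groth.Agent.H4DR.PCoh.pc_of_pc' h m),
    Groth.Agent.H4DR.PCoh.pc'_of_forall fun m => key biprod.inr biprod.snd biprod.inr_snd (Groth.Agent.H4DR.PCoh.pc_of_pc' h m)⟩

end Groth.Agent.S6937
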