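import Groth.Statements.S6902
import Groth.Agent.H4DR.KFlatMod

set_option autoImplicit false
universe u
open CategoryTheory CategoryTheory.Limits MonoidalCategory
open DRing

namespace Groth.Agent.S6902

/-- Let `0 → K₁• → K₂• → K₃• → 0` be a short exact sequence of complexes of `R`-modules such that every
term `K₃^n` is flat. If two out of the three complexes are K-flat, so is the third. -/
theorem result (R : Type u) [CommRing R] (S : ShortComplex (DRing.Cx R))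
    (hS : S.ShortExact) (h3 : DRing.TermwiseFlat S.X₃) :
    (((∀ L : DRing.Cx R, (∀ i : ℤ, IsZero (L.homology i)) → ∀ i : ℤ, IsZero ((L ⊗ S.X₁).homology i))) → ((∀ L : DRing.Cx R, (∀ i : ℤ, IsZero (L.homology i)) → ∀ i : ℤ, IsZero ((L ⊗ S.X₂).homology i))) → (∀ L : DRing.Cx R, (∀ i : ℤ, IsZero (L.homology i)) → ∀ i : ℤ, IsZero ((L ⊗ S.X₃).homology i))) ∧
    (((∀ L : DRing.Cx R, (∀ i : ℤ, IsZero (L.homology i)) → ∀ i : ℤ, IsZero ((L ⊗ S.X₁).homology i))) → ((∀ L : DRing.Cx R, (∀ i : ℤ, IsZero (L.homology i)) → ∀ i : ℤ, IsZero ((L ⊗ S.X₃).homology i))) → (∀ L : DRing.Cx R, (∀ i : ℤ, IsZero (L.homology i)) → ∀ i : ℤ, IsZero ((L ⊗ S.X₂).homology i))) ∧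
    (((∀ L : DRing.Cx R, (∀ i : ℤ, IsZero (L.homology i)) → ∀ i : ℤ, IsZero ((L ⊗ S.X₂).homology i))) → ((∀ L : DRing.Cx R, (∀ i : ℤ, IsZero (L.homology i)) → ∀ i : ℤ, IsZero ((L ⊗ S.X₃).homology i))) → (∀ L : DRing.Cx R, (∀ i : ℤ, IsZero (L.homology i)) → ∀ i : ℤ, IsZero ((L ⊗ S.X₁).homology i))) := by
  have hF := Groth.Agent.H4DR.KFlatMod.isFSES_of_flat S hS h3
  simp only [Groth.Agent.H4DR.KFlatMod.iff_isKFlat]
  exact ⟨fun h₁ h₂ => hF.isKFlat₃ h₁ h₂, fun h₁ h₃ => hF.isKFlat₂ h₁ h₃,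
    fun h₂ h₃ => hF.isKFlat₁ h₂ h₃⟩

end Groth.Agent.S6902
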