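import Groth.Prelude.Def_Wider
import Groth.Agent.H4Matlis.End
import Mathlib.CategoryTheory.Linear.LinearFunctor

/-!
# Linear self-equivalences of finite length modules over a local ring
-/

set_option autoImplicit false

universe u

open CategoryTheory IsLocalRing

namespace Groth.Agent.H4FinLenSelf

variable {A : Type u} [CommRing A] [IsLocalRing A] [IsNoetherianRing A]

/-- The thickening `A ⧸ m ^ (n + 1)`. -/
noncomputable abbrev X (n : ℕ) : Dual.FinLen A :=
  ⟨ModuleCat.of A (A ⧸ maximalIdeal A ^ (n + 1)), H4Matlis.isFiniteLength_quotient_pow (n + 1)⟩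

/-- The class of `1`. -/
noncomputable abbrev one (n : ℕ) : (X (A := A) n).obj := (Submodule.Quotient.mk 1 : A ⧸ maximalIdeal A ^ (n + 1))

/-- The map out of a thickening given by an element. -/
noncomputable def elem (n : ℕ) {M : Dual.FinLen A} (x : M.obj)
    (h : ∀ a ∈ maximalIdeal A ^ (n + 1), a • x = 0) : X n ⟶ M :=
  ObjectProperty.homMk (ModuleCat.ofHom (Submodule.liftQ (maximalIdeal A ^ (n + 1))
    (LinearMap.toSpanSingleton A M.obj x) fun a ha => by simpa using h a ha))

theorem elem_one (n : ℕ) {M : Dual.FinLen A} (x : M.obj)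
    (h : ∀ a ∈ maximalIdeal A ^ (n + 1), a • x = 0) : (elem n x h).hom (one n) = x := one_smul A x

theorem hom_ext_one (n : ℕ) {M : Dual.FinLen A} {f g : X n ⟶ M}
    (h : f.hom (one n) = g.hom (one n)) : f = g := by
  refine ObjectProperty.hom_ext _ (ModuleCat.hom_ext ?_)
  refine Submodule.linearMap_qext _ (LinearMap.ext_ring ?_)
  exact h

omit [IsLocalRing A] [IsNoetherianRing A] in
theorem hom_ext' {M N : Dual.FinLen A} {f g : M ⟶ N} (h : ∀ x : M.obj, f.hom x = g.hom x) : f = g :=
  ObjectProperty.hom_ext _ (ModuleCat.hom_ext (LinearMap.ext h))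

theorem smul_one_eq_zero_iff (n : ℕ) (a : A) :
    a • one (A := A) n = 0 ↔ a ∈ maximalIdeal A ^ (n + 1) := by
  rw [one, ← Submodule.Quotient.mk_smul, smul_eq_mul, mul_one]
  exact Submodule.Quotient.mk_eq_zero _

theorem smul_id_eq_zero (n : ℕ) {a : A} (ha : a ∈ maximalIdeal A ^ (n + 1)) : a • 𝟙 (X (A := A) n) = 0 :=
  hom_ext_one n ((smul_one_eq_zero_iff n a).2 ha)

/-- The projection between thickenings. -/
noncomputable def proj {n l : ℕ} (h : n ≤ l) : X (A := A) l ⟶ X n :=
  elem l (one n) fun _ ha => (smul_one_eq_zero_iff n _).2 (Ideal.pow_le_pow_right (by omega) ha)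

variable (F : Dual.FinLen A ≌ Dual.FinLen A) [F.functor.Additive] [F.functor.Linear A]

theorem killed (n : ℕ) (y : (F.functor.obj (X n)).obj) {a : A} (ha : a ∈ maximalIdeal A ^ (n + 1)) :
    a • y = 0 := by
  have h := congrArg F.functor.map (smul_id_eq_zero n ha)
  rw [Functor.map_smul, CategoryTheory.Functor.map_id, Functor.map_zero] at h
  exact congrArg (fun f : F.functor.obj (X n) ⟶ _ => f.hom y) h

theorem exists_generator_zero :
    ∃ g : (F.functor.obj (X (A := A) 0)).obj, ∀ y : (F.functor.obj (X 0)).obj, ∃ a : A, a • g = y := by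
  classical
  let V := (F.functor.obj (X (A := A) 0)).obj
  have hk : ∀ (a : maximalIdeal A) (y : V), (a : A) • y = 0 := fun a y =>
    killed F 0 y (by rw [zero_add, pow_one]; exact a.2)
  obtain ⟨g, hg⟩ : ∃ g : V, g ≠ 0 := by
    by_contra hall
    push Not at hall
    have h1 : F.functor.map (𝟙 (X (A := A) 0)) = F.functor.map 0 :=
      hom_ext' fun x => (hall _).trans (hall _).symm
    have h2 := congrArg (fun f : X (A := A) 0 ⟶ X 0 => f.hom (one 0)) (F.functor.map_injective h1)
    have h3 : (1 : A) • one (A := A) 0 = 0 := (one_smul _ _).trans h2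
    rw [smul_one_eq_zero_iff, zero_add, pow_one] at h3
    exact (maximalIdeal.isMaximal A).ne_top ((Ideal.eq_top_iff_one _).2 h3)
  refine ⟨g, fun y => ?_⟩
  let : Module (A ⧸ maximalIdeal A) V :=
    Module.IsTorsionBySet.module fun y a => hk a y
  let : Field (A ⧸ maximalIdeal A) := Ideal.Quotient.field _
  obtain ⟨φ, hφ⟩ := Submodule.exists_le_ker_of_notMem (p := (⊥ : Submodule (A ⧸ maximalIdeal A) V))
    (v := g) (by simpa using hg)
  let P : V →ₗ[A] V :=
    { toFun := fun y => φ y • g
      map_add' := fun y z => by rw [map_add, add_smul]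
      map_smul' := fun a y => by
        have h1 : a • y = Ideal.Quotient.mk (maximalIdeal A) a • y := rfl
        rw [h1, map_smul, RingHom.id_apply, smul_eq_mul, mul_smul]
        rfl }
  obtain ⟨ψ, hψ⟩ := F.functor.map_surjective (ObjectProperty.homMk (ModuleCat.ofHom P) :
    F.functor.obj (X (A := A) 0) ⟶ F.functor.obj (X 0))
  obtain ⟨c, hc⟩ := Submodule.Quotient.mk_surjective _ (ψ.hom (one 0))
  have hψ' : ψ = c • 𝟙 (X (A := A) 0) := hom_ext_one 0 (hc.symm.trans (by
    show _ = c • (Submodule.Quotient.mk 1 : A ⧸ maximalIdeal A ^ (0 + 1))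
    rw [← Submodule.Quotient.mk_smul, smul_eq_mul, mul_one]))
  have hP : ∀ z : V, φ z • g = c • z := fun z => by
    have := congrArg (fun f : F.functor.obj (X (A := A) 0) ⟶ _ => f.hom z) hψ
    rw [hψ', Functor.map_smul, CategoryTheory.Functor.map_id] at this
    exact this.symm
  obtain ⟨b, hb⟩ := Ideal.Quotient.mk_surjective (φ g)
  have hcu : IsUnit c := by
    by_contra hcu
    have h0 := (hP g).trans (hk ⟨c, hcu⟩ g)
    exact hφ.1 (smul_eq_zero.1 h0 |>.resolve_right hg)
  obtain ⟨u, rfl⟩ := hcu
  obtain ⟨e, he⟩ := Ideal.Quotient.mk_surjective (φ y)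
  refine ⟨↑u⁻¹ * e, ?_⟩
  rw [mul_smul, show e • g = φ y • g from by rw [← he]; rfl, hP, smul_smul, Units.inv_mul, one_smul]

omit [F.functor.Linear A] in
theorem map_proj_surjective {n l : ℕ} (h : n ≤ l) :
    Function.Surjective (F.functor.map (proj (A := A) h)).hom := by
  let φ := (F.functor.map (proj (A := A) h)).hom.hom
  have hfl : IsFiniteLength A (_ ⧸ LinearMap.range φ) :=
    isFiniteLength_iff_isNoetherian_isArtinian.2
      ⟨have := (isFiniteLength_iff_isNoetherian_isArtinian.1 (F.functor.obj (X (A := A) n)).property).1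
       inferInstance,
       have := (isFiniteLength_iff_isNoetherian_isArtinian.1 (F.functor.obj (X (A := A) n)).property).2
       inferInstance⟩
  let Q : Dual.FinLen A := ⟨ModuleCat.of A (_ ⧸ LinearMap.range φ), hfl⟩
  let π : F.functor.obj (X (A := A) n) ⟶ Q := ObjectProperty.homMk (ModuleCat.ofHom (LinearMap.range φ).mkQ)
  let e : F.functor.obj (F.inverse.obj Q) ≅ Q := F.counitIso.app Q
  obtain ⟨π', hπ'⟩ := F.functor.map_surjective (π ≫ e.inv)
  have h0 : F.functor.map (proj (A := A) h) ≫ π = 0 :=
    hom_ext' fun x => (Submodule.Quotient.mk_eq_zero _).2 ⟨x, rfl⟩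
  have h1 : proj (A := A) h ≫ π' = 0 := F.functor.map_injective (by
    rw [CategoryTheory.Functor.map_comp, hπ', ← Category.assoc, h0, Limits.zero_comp,
      CategoryTheory.Functor.map_zero])
  have h2 : π' = 0 := hom_ext_one n (by
    have := congrArg (fun f : X (A := A) l ⟶ F.inverse.obj Q => f.hom (one l)) h1
    refine Eq.trans ?_ this
    show π'.hom (one n) = π'.hom ((proj (A := A) h).hom (one l))
    rw [proj, elem_one])
  rw [h2, CategoryTheory.Functor.map_zero] at hπ'
  have h3 : π = 0 := by rw [← cancel_mono e.inv, ← hπ', Limits.zero_comp]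
  intro y
  exact (Submodule.Quotient.mk_eq_zero _).1 (congrArg (fun f : F.functor.obj (X (A := A) n) ⟶ Q => f.hom y) h3)

/-- A compatible family of lifts. -/
noncomputable def gen : ∀ n : ℕ, (F.functor.obj (X (A := A) n)).obj
  | 0 => (exists_generator_zero F).choose
  | n + 1 => (map_proj_surjective F (Nat.le_succ n) (gen n)).choose

theorem proj_comp {n l r : ℕ} (h : n ≤ l) (h' : l ≤ r) :
    proj (A := A) h' ≫ proj h = proj (h.trans h') := hom_ext_one r (by
  show (proj (A := A) h).hom ((proj (A := A) h').hom (one r)) = _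
  exact (congrArg _ (elem_one r (one l) _)).trans ((elem_one l (one n) _).trans (elem_one r (one n) _).symm))

theorem map_proj_gen {n l : ℕ} (h : n ≤ l) :
    (F.functor.map (proj (A := A) h)).hom (gen F l) = gen F n := by
  induction l, h using Nat.le_induction with
  | base =>
    rw [show proj (A := A) (le_refl n) = 𝟙 _ from hom_ext_one n (elem_one _ _ _),
      CategoryTheory.Functor.map_id]
    rfl
  | succ l h ih =>
    have hs : (F.functor.map (proj (A := A) (Nat.le_succ l))).hom (gen F (l + 1)) = gen F l :=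
      (map_proj_surjective F (Nat.le_succ l) (gen F l)).choose_spec
    rw [← proj_comp h (Nat.le_succ l), CategoryTheory.Functor.map_comp, ← ih, ← hs]
    rfl

theorem exists_smul_gen (n : ℕ) (y : (F.functor.obj (X (A := A) n)).obj) : ∃ a : A, a • gen F n = y := by
  let V := (F.functor.obj (X (A := A) n)).obj
  obtain ⟨hV₁, hV₂⟩ := isFiniteLength_iff_isNoetherian_isArtinian.1 (F.functor.obj (X (A := A) n)).property
  let N : Submodule A V := Submodule.span A {gen F n}
  suffices N = ⊤ from Submodule.mem_span_singleton.1 (this ▸ Submodule.mem_top : y ∈ N)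
  by_contra hN
  have hnt : Nontrivial (V ⧸ N) := Submodule.Quotient.nontrivial_iff.2 hN
  obtain ⟨T, hT, hsimple⟩ : ∃ T : Submodule A V, N ≤ T ∧ IsCoatom T :=
    (eq_top_or_exists_le_coatom N).resolve_left hN |>.imp fun T hT => ⟨hT.2, hT.1⟩
  have : IsSimpleModule A (V ⧸ T) := isSimpleModule_iff_isCoatom.2 hsimple
  have hkill : ∀ a ∈ maximalIdeal A, ∀ q : V ⧸ T, a • q = 0 := fun a ha q =>
    Module.mem_annihilator.1 (show a ∈ Module.annihilator A (V ⧸ T) by
      rw [IsLocalRing.eq_maximalIdeal (IsSimpleModule.annihilator_isMaximal (R := A))]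
      exact ha) q
  let Q : Dual.FinLen A := ⟨ModuleCat.of A (V ⧸ T), by
    exact isFiniteLength_iff_isNoetherian_isArtinian.2 ⟨inferInstance, inferInstance⟩⟩
  let π : F.functor.obj (X (A := A) n) ⟶ Q := ObjectProperty.homMk (ModuleCat.ofHom T.mkQ)
  let e : F.functor.obj (F.inverse.obj Q) ≅ Q := F.counitIso.app Q
  obtain ⟨π', hπ'⟩ := F.functor.map_surjective (π ≫ e.inv)
  have hk' : ∀ a ∈ maximalIdeal A ^ (0 + 1), a • π'.hom (one n) = 0 := fun a ha => by
    have : a • π' = 0 := F.functor.map_injective (by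
      rw [Functor.map_smul, hπ', CategoryTheory.Functor.map_zero, ← Linear.smul_comp,
        show a • π = 0 from hom_ext' fun v => hkill a (by simpa using ha) _, Limits.zero_comp])
    exact congrArg (fun f : X (A := A) n ⟶ _ => f.hom (one n)) this
  have hfac : π' = proj (A := A) (Nat.zero_le n) ≫ elem 0 (π'.hom (one n)) hk' := hom_ext_one n (by
    show _ = (elem 0 (π'.hom (one n)) hk').hom ((proj (A := A) (Nat.zero_le n)).hom (one n))
    rw [proj, elem_one, elem_one])
  have hz : F.functor.map (elem 0 (π'.hom (one n)) hk') = 0 := hom_ext' fun z => by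
    obtain ⟨a, rfl⟩ := (exists_generator_zero F).choose_spec z
    have h1 : (π ≫ e.inv).hom (gen F n) = 0 := by
      show e.inv.hom ((Submodule.Quotient.mk (gen F n) : V ⧸ T)) = 0
      rw [(Submodule.Quotient.mk_eq_zero T).2 (hT (Submodule.mem_span_singleton_self _))]
      exact map_zero _
    rw [← hπ', hfac, CategoryTheory.Functor.map_comp] at h1
    change (F.functor.map _).hom ((F.functor.map _).hom (gen F n)) = 0 at h1
    rw [map_proj_gen] at h1
    rw [map_smul]
    exact (congrArg (a • ·) h1).trans (smul_zero a)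
  have h3 : π = 0 := by
    rw [← cancel_mono e.inv, ← hπ', hfac, CategoryTheory.Functor.map_comp, hz, Limits.comp_zero,
      Limits.zero_comp]
  have : Nontrivial (V ⧸ T) := IsSimpleModule.nontrivial A _
  obtain ⟨q, hq⟩ := exists_ne (0 : V ⧸ T)
  obtain ⟨v, rfl⟩ := Submodule.Quotient.mk_surjective T q
  exact hq (congrArg (fun f : F.functor.obj (X (A := A) n) ⟶ Q => f.hom v) h3)

theorem smul_gen_eq_zero_iff (n : ℕ) (a : A) : a • gen F n = 0 ↔ a ∈ maximalIdeal A ^ (n + 1) := by
  refine ⟨fun h => ?_, fun h => killed F n _ h⟩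
  have h1 : a • 𝟙 (X (A := A) n) = 0 := F.functor.map_injective (by
    rw [Functor.map_smul, CategoryTheory.Functor.map_id, CategoryTheory.Functor.map_zero]
    refine hom_ext' fun y => ?_
    obtain ⟨b, rfl⟩ := exists_smul_gen F n y
    show a • b • gen F n = 0
    rw [smul_comm, h, smul_zero])
  exact (smul_one_eq_zero_iff n a).1 (congrArg (fun f : X (A := A) n ⟶ _ => f.hom (one n)) h1)

omit [F.functor.Additive] [F.functor.Linear A] in
theorem exists_level (M : Dual.FinLen A) (x : M.obj) :
    ∃ n : ℕ, ∀ a ∈ maximalIdeal A ^ (n + 1), a • x = 0 := by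
  have := (isFiniteLength_iff_isNoetherian_isArtinian.1 M.property).2
  obtain ⟨n, hn⟩ := H4Matlis.isPowerTorsion_of_isArtinian (m := maximalIdeal A) (M := M.obj)
    (fun _ h => IsLocalRing.eq_maximalIdeal h) x
  exact ⟨n, fun a ha => hn a (Ideal.pow_le_pow_right (Nat.le_succ n) ha)⟩

/-- The comparison map. -/
noncomputable def alpha (M : Dual.FinLen A) (x : M.obj) : (F.functor.obj M).obj :=
  (F.functor.map (elem (exists_level M x).choose x (exists_level M x).choose_spec)).hom
    (gen F (exists_level M x).choose)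

theorem alpha_eq (M : Dual.FinLen A) (x : M.obj) (n : ℕ)
    (h : ∀ a ∈ maximalIdeal A ^ (n + 1), a • x = 0) :
    alpha F M x = (F.functor.map (elem n x h)).hom (gen F n) := by
  have aux : ∀ (n l : ℕ) (hnl : n ≤ l) (h : ∀ a ∈ maximalIdeal A ^ (n + 1), a • x = 0)
      (h' : ∀ a ∈ maximalIdeal A ^ (l + 1), a • x = 0),
      (F.functor.map (elem n x h)).hom (gen F n) = (F.functor.map (elem l x h')).hom (gen F l) := by
    intro n l hnl h h'
    have e : elem l x h' = proj hnl ≫ elem n x h := hom_ext_one l (by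
      show _ = (elem n x h).hom ((proj (A := A) hnl).hom (one l))
      rw [proj, elem_one, elem_one, elem_one])
    rw [e, CategoryTheory.Functor.map_comp, ← map_proj_gen F hnl]
    rfl
  rcases le_total (exists_level M x).choose n with hle | hle
  · exact aux _ _ hle _ _
  · exact (aux _ _ hle _ _).symm

theorem alpha_natural {M N : Dual.FinLen A} (f : M ⟶ N) (x : M.obj) :
    alpha F N (f.hom x) = (F.functor.map f).hom (alpha F M x) := by
  obtain ⟨n, hn⟩ := exists_level M x
  rw [alpha_eq F M x n hn, alpha_eq F N (f.hom x) n fun a ha => by rw [← map_smul, hn a ha, map_zero]]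
  have e : elem n (f.hom x) (fun a ha => by rw [← map_smul, hn a ha, map_zero]) = elem n x hn ≫ f :=
    hom_ext_one n (by
      show _ = f.hom ((elem n x hn).hom (one n))
      rw [elem_one, elem_one])
  rw [e, CategoryTheory.Functor.map_comp]
  rfl

theorem alpha_add (M : Dual.FinLen A) (x y : M.obj) :
    alpha F M (x + y) = alpha F M x + alpha F M y := by
  obtain ⟨n, hn⟩ := exists_level M x
  obtain ⟨l, hl⟩ := exists_level M y
  have hx : ∀ a ∈ maximalIdeal A ^ (max n l + 1), a • x = 0 := fun a ha =>
    hn a (Ideal.pow_le_pow_right (by omega) ha)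
  have hy : ∀ a ∈ maximalIdeal A ^ (max n l + 1), a • y = 0 := fun a ha =>
    hl a (Ideal.pow_le_pow_right (by omega) ha)
  rw [alpha_eq F M x _ hx, alpha_eq F M y _ hy,
    alpha_eq F M (x + y) _ fun a ha => by rw [smul_add, hx a ha, hy a ha, add_zero],
    show elem (max n l) (x + y) (fun a ha => by rw [smul_add, hx a ha, hy a ha, add_zero]) =
      elem (max n l) x hx + elem (max n l) y hy from hom_ext_one _ (by
        show _ = (elem (max n l) x hx).hom (one _) + (elem (max n l) y hy).hom (one _)
        rw [elem_one, elem_one, elem_one]),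
    Functor.map_add]
  rfl

theorem alpha_smul (M : Dual.FinLen A) (c : A) (x : M.obj) : alpha F M (c • x) = c • alpha F M x := by
  have h := alpha_natural F (c • 𝟙 M) x
  rw [Functor.map_smul, CategoryTheory.Functor.map_id] at h
  exact h

theorem alpha_bijective (M : Dual.FinLen A) : Function.Bijective (alpha F M) := by
  constructor
  · intro x y hxy
    rw [← sub_eq_zero]
    have h0 : alpha F M (x - y) = 0 := by
      rw [← sub_eq_zero] at hxy
      rw [← hxy, eq_sub_iff_add_eq, ← alpha_add, sub_add_cancel]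
    obtain ⟨n, hn⟩ := exists_level M (x - y)
    rw [alpha_eq F M _ n hn] at h0
    have h1 : elem n (x - y) hn = 0 := F.functor.map_injective (by
      rw [CategoryTheory.Functor.map_zero]
      refine hom_ext' fun z => ?_
      obtain ⟨b, rfl⟩ := exists_smul_gen F n z
      rw [map_smul, h0, smul_zero]
      rfl)
    have h2 := congrArg (fun f : X (A := A) n ⟶ M => f.hom (one n)) h1
    exact (elem_one n (x - y) hn).symm.trans h2
  · intro y
    obtain ⟨n, hn⟩ := exists_level (F.functor.obj M) y
    let q : A →ₗ[A] (F.functor.obj (X (A := A) n)).obj := LinearMap.toSpanSingleton A _ (gen F n)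
    have hq : Function.Surjective q := exists_smul_gen F n
    let r : A →ₗ[A] (F.functor.obj M).obj := LinearMap.toSpanSingleton A _ y
    have hqr : LinearMap.ker q ≤ LinearMap.ker r := fun a ha => hn a ((smul_gen_eq_zero_iff F n a).1 ha)
    let l := (LinearMap.ker q).liftQ r hqr ∘ₗ (q.quotKerEquivOfSurjective hq).symm.toLinearMap
    obtain ⟨φ, hφ⟩ := F.functor.map_surjective
      (ObjectProperty.homMk (ModuleCat.ofHom l) : F.functor.obj (X (A := A) n) ⟶ F.functor.obj M)
    have hg : l (gen F n) = y := by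
      have e : (q.quotKerEquivOfSurjective hq).symm (gen F n) = Submodule.Quotient.mk 1 := by
        rw [LinearEquiv.symm_apply_eq, LinearMap.quotKerEquivOfSurjective_apply_mk]
        exact (one_smul A _).symm
      show (LinearMap.ker q).liftQ r hqr _ = y
      refine (congrArg ((LinearMap.ker q).liftQ r hqr) e).trans ?_
      rw [Submodule.liftQ_apply]
      exact one_smul A y
    refine ⟨φ.hom (one n), ?_⟩
    have hk : ∀ a ∈ maximalIdeal A ^ (n + 1), a • φ.hom (one n) = 0 := fun a ha => by
      rw [← map_smul, (smul_one_eq_zero_iff n a).2 ha, map_zero]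
    rw [alpha_eq F M _ n hk, show elem n (φ.hom (one n)) hk = φ from hom_ext_one n (elem_one _ _ _), hφ]
    exact hg

/-- A linear self-equivalence is isomorphic to the identity. -/
theorem nonempty_iso : Nonempty (F.functor ≅ 𝟭 (Dual.FinLen A)) := by
  let e (M : Dual.FinLen A) : M.obj ≃ₗ[A] (F.functor.obj M).obj := LinearEquiv.ofBijective
    { toFun := alpha F M, map_add' := alpha_add F M, map_smul' := alpha_smul F M } (alpha_bijective F M)
  refine ⟨(NatIso.ofComponents (fun M => ObjectProperty.isoMk _ (e M).toModuleIso) fun {M N} f => ?_).symm⟩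
  exact hom_ext' fun x => alpha_natural F f x

end Groth.Agent.H4FinLenSelf
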