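import Groth.Statements.S18636
import Groth.Agent.H4Gr.BassStep

set_option autoImplicit false
universe u
open GrLC

namespace Groth.Agent.S18636

/-- Let R be a commutative Noetherian ℤ-graded ring, M a graded R-module (not necessarily finitely
generated) and p a prime ideal of R which is not graded; write p* for the largest graded ideal
contained in p (a graded prime). Then μ_0(p, M) = 0 and μ_{i+1}(p, M) = μ_i(p*, M) for every i ≥ 0.
(Bass numbers μ_i(q, M) are taken as the k(q)-dimension of Ext^i over R_q of k(q) into M_q, as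
extended natural numbers; the published text also recalls their description as multiplicities in a
minimal injective resolution, and the two agree over a Noetherian ring.) -/
theorem result (R : Type u) [CommRing R] [IsNoetherianRing R] (𝒜 : ℤ → AddSubgroup R) [GradedRing 𝒜] (M : Type u) [AddCommGroup M] [Module R M] (ℳ : ℤ → AddSubgroup M) [DirectSum.Decomposition ℳ] [SetLike.GradedSMul 𝒜 ℳ] (p : Ideal R) [p.IsPrime] (hp : ¬ Ideal.IsHomogeneous 𝒜 p) [(Ideal.homogeneousCore 𝒜 p).toIdeal.IsPrime] : GrLC.bassNum p M 0 = 0 ∧ ∀ i : ℕ, GrLC.bassNum p M (i + 1) = GrLC.bassNum (Ideal.homogeneousCore 𝒜 p).toIdeal M i := by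
  let q := (Ideal.homogeneousCore 𝒜 p).toIdeal
  have hqp : q ≤ p := Ideal.toIdeal_homogeneousCore_le 𝒜 p
  have hlt : q < p := hqp.lt_of_ne fun h => hp (h ▸ (Ideal.homogeneousCore 𝒜 p).isHomogeneous)
  obtain ⟨x, hxp, hxq, hx⟩ := H4Gr.exists_uniformizer (φ := (0 : ℤ →+ PUnit)) (w := AddMonoidHom.id ℤ)
    (fun g _ h => h) hlt (Ideal.homogeneousCore 𝒜 p).isHomogeneous
    (fun g x hx hxp => H4Gr.mem_core_of_mem 𝒜 hx hxp) (fun x hx h => by
      have : H4Gr.cproj (0 : ℤ →+ PUnit) 𝒜 h x = x := H4Gr.ext_proj 𝒜 fun g => by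
        rw [H4Gr.proj_cproj, if_pos (Subsingleton.elim _ _)]
      rw [this]; exact hx)
  exact H4Gr.bassNum_step ℳ p q (Ideal.homogeneousCore 𝒜 p).isHomogeneous hqp
    (fun g x hx hxp => H4Gr.mem_core_of_mem 𝒜 hx hxp) hxp hxq hx

end Groth.Agent.S18636
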