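import Groth.Statements.S17771
import Groth.Agent.H4Gr.RegApps
import Groth.Agent.H4Gr.Dim

set_option autoImplicit false
universe u
open GrLC

namespace Groth.Agent.S17771

/-- Let R = ⊕_{n ≥ 0} R_n be a positively ℤ-graded ring which is standard graded (irrelevant ideal
generated by R_1), with R_0 Artinian, *local with unique homogeneous maximal ideal m, and
Cohen–Macaulay of Krull dimension d. Then the a-invariant of R is at least −d: the end (largest
nonzero degree) of the graded local cohomology module H^d_m(R), computed from any *injective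
resolution of R in the graded category, is ≥ −d. (Equality holds exactly for polynomial rings
R_0[T_1, …, T_d]; that characterisation is not part of this statement.) -/
theorem result (R : Type u) [CommRing R] [LocCoh.IsCohenMacaulayRing R] (𝒜 : ℤ → AddSubgroup R) [GradedRing 𝒜] (hpos : ∀ n : ℤ, n < 0 → 𝒜 n = ⊥) (hstd : Ideal.span (⋃ n ∈ Set.Ioi (0 : ℤ), (𝒜 n : Set R)) = Ideal.span ((𝒜 1 : AddSubgroup R) : Set R)) [IsArtinianRing (GrLC.deg0 𝒜)] (m : HomogeneousIdeal 𝒜) (hm : GrLC.IsStarLocal 𝒜 m) (d : ℕ) (hd : ringKrullDim R = d) (I : GrLC.StarInjRes 𝒜 𝒜) : (((-(d : ℤ) : ℤ) : WithTop ℤ) : WithBot (WithTop ℤ)) ≤ GrLC.endDeg (I.Hgr m d) := by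
  open Groth.Agent.H4Gr in
  let a : HomogeneousIdeal 𝒜 := ⟨Ideal.span ((𝒜 1 : AddSubgroup R) : Set R), Ideal.homogeneous_span 𝒜 _ fun x hx => ⟨1, hx⟩⟩
  have ha : a.toIdeal = Ideal.span ((𝒜 1 : AddSubgroup R) : Set R) := rfl
  have hmax := isMaximal_of_isStarLocal hpos hm
  have hnil : ∀ x ∈ m.toIdeal, x ∈ a.toIdeal.radical := by
    intro x hx
    have h0 : proj 𝒜 0 x ∈ m.toIdeal := m.isHomogeneous 0 hx
    have hn : IsNilpotent (⟨proj 𝒜 0 x, proj_mem 𝒜 0 x⟩ : GrLC.deg0 𝒜) := by
      by_contra hc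
      obtain ⟨p, hp, hxp⟩ : ∃ p : Ideal (GrLC.deg0 𝒜), p.IsPrime ∧
          (⟨proj 𝒜 0 x, proj_mem 𝒜 0 x⟩ : GrLC.deg0 𝒜) ∉ p := by
        by_contra hcc
        push Not at hcc
        exact hc (mem_nilradical.1 ((nilradical_eq_sInf (GrLC.deg0 𝒜)).symm ▸ Ideal.mem_sInf.2 fun {p} hp => hcc p hp))
      haveI := hp
      haveI : p.IsMaximal := Ideal.IsPrime.isMaximal' inferInstance
      obtain ⟨y, i, hi, hyi⟩ := Ideal.IsMaximal.exists_inv (inferInstance : p.IsMaximal) hxp
      have hi' : (i : R) ∈ m.toIdeal := by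
        by_contra him
        have hu : IsUnit (i : R) := by
          rw [← Ideal.span_singleton_eq_top]
          by_contra htop
          exact him (le_of_isStarLocal hm (Ideal.homogeneous_span 𝒜 {(i : R)} fun z hz =>
            ⟨0, Set.mem_singleton_iff.1 hz ▸ i.2⟩) htop (Ideal.mem_span_singleton_self _))
        obtain ⟨v, hv⟩ := hu.exists_left_inv
        refine hp.ne_top ((Ideal.eq_top_iff_one p).2 ?_)
        have hv0 : proj 𝒜 0 v * (i : R) = 1 := by
          rw [← hv, mul_comm, mul_comm v, ← smul_eq_mul, ← smul_eq_mul, ← show proj 𝒜 0 ((i : R) • v) = (i : R) • proj 𝒜 0 v by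
            rw [proj_smul (ℳ := 𝒜) i.2, sub_zero], smul_eq_mul, mul_comm, hv, proj_same (SetLike.one_mem_graded 𝒜)]
        have : (⟨proj 𝒜 0 v, proj_mem 𝒜 0 v⟩ : GrLC.deg0 𝒜) * i = 1 := Subtype.ext hv0
        exact this ▸ p.mul_mem_left _ hi
      refine hmax.ne_top ((Ideal.eq_top_iff_one _).2 ?_)
      have h1 : (y : R) * proj 𝒜 0 x + (i : R) = 1 := congrArg Subtype.val hyi
      exact h1 ▸ add_mem (m.toIdeal.mul_mem_left _ h0) hi'
    obtain ⟨k, hk⟩ := hn
    have hsub : x - proj 𝒜 0 x ∈ a.toIdeal := by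
      rw [ha, ← hstd]
      have : ∀ y : R, y - proj 𝒜 0 y ∈ Ideal.span (⋃ n ∈ Set.Ioi (0 : ℤ), (𝒜 n : Set R)) := fun y => by
        induction y using induction 𝒜 with
        | zero => simp
        | hom g r hr =>
          rcases lt_trichotomy g 0 with hg | rfl | hg
          · rw [show r = 0 by simpa [hpos g hg] using hr, map_zero, sub_zero]; exact zero_mem _
          · rw [proj_same hr, sub_self]; exact zero_mem _
          · rw [proj_ne hr hg.ne', sub_zero]
            exact Ideal.subset_span (Set.mem_iUnion₂.2 ⟨g, hg, hr⟩)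
        | add p q hp hq => rw [map_add, add_sub_add_comm]; exact add_mem hp hq
      exact this x
    have hx0 : proj 𝒜 0 x ∈ a.toIdeal.radical := ⟨k, by
      have := congrArg Subtype.val hk
      simp only [SubmonoidClass.coe_pow, ZeroMemClass.coe_zero] at this
      rw [this]; exact zero_mem _⟩
    simpa using add_mem (Ideal.le_radical hsub) hx0
  have hrad : m.toIdeal.radical = a.toIdeal.radical := le_antisymm
    ((Ideal.radical_mono hnil).trans_eq (Ideal.radical_idem _))
    (Ideal.radical_mono (Ideal.span_le.2 fun y hy => pos_mem_of_isStarLocal hpos hm one_pos hy))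
  by_contra hlt
  have hvan : ∀ i : ℕ, I.Hcomp a i (-(i : ℤ)) = ⊥ := fun i => by
    rw [← Hcomp_eq_bot_iff_of_radical hrad]
    rcases eq_or_ne i d with rfl | hi
    · by_contra hne
      exact hlt (le_iSup₂_of_le (-(i : ℤ)) (fun h => hne ((Hgr_eq_bot_iff m).1 h)) le_rfl)
    · exact (Hcomp_eq_bot_iff m).2 fun x _ => H_eq_zero_of_ne_dim hpos hm hd hi I x
  have h1 : (1 : R) ∈ a.toIdeal • (⊤ : Submodule R R) :=
    mem_smul_top_of_diag I ha (g := 0) (by simpa using hvan 0)
      (fun n => by rw [show (0 : ℤ) - ((n + 1 : ℕ) : ℤ) = -((1 + n : ℕ) : ℤ) by push_cast; ring]; exact hvan (1 + n))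
      (SetLike.one_mem_graded 𝒜)
  rw [Ideal.smul_eq_mul, Ideal.mul_top] at h1
  refine hmax.ne_top ((Ideal.eq_top_iff_one _).2 ?_)
  exact (show a.toIdeal ≤ m.toIdeal from Ideal.span_le.2 fun y hy => pos_mem_of_isStarLocal hpos hm one_pos hy) h1

end Groth.Agent.S17771
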