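import Groth.Statements.S18644
import Groth.Agent.H4Gr.PolyRing
import Mathlib.LinearAlgebra.Lagrange

set_option autoImplicit false
universe u
open GrLC

namespace Groth.Agent.S18644

/-- Let R be a graded ring defined over a field k = R_0 which is Cohen–Macaulay and generated over k by
R_1, of dimension r. Then a(R) = −r holds exactly when R is isomorphic to the polynomial ring over k
in r variables. Here 'graded ring defined over a field' means R = ⊕_{n ≥ 0} R_n is Noetherian with
R_0 a field, and m = R_+ is its unique graded maximal ideal. The a-invariant a(R) is the largest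
degree in which the graded local cohomology H^n_m(R) (n = dim R, m = R_+), computed from a
*injective resolution of R in the graded category, is nonzero. (The inequality a(R) ≥ −r of the same
lemma is stated separately.) -/
theorem result (R : Type u) [CommRing R] [LocCoh.IsCohenMacaulayRing R] (𝒜 : ℤ → AddSubgroup R) [GradedRing 𝒜] (hpos : ∀ n : ℤ, n < 0 → 𝒜 n = ⊥) (h0 : IsField (GrLC.deg0 𝒜)) (m : HomogeneousIdeal 𝒜) (hm : GrLC.IsStarLocal 𝒜 m) (hmsp : m.toIdeal = Ideal.span (⋃ n ∈ Set.Ioi (0 : ℤ), (𝒜 n : Set R))) (hstd : Ideal.span (⋃ n ∈ Set.Ioi (0 : ℤ), (𝒜 n : Set R)) = Ideal.span ((𝒜 1 : AddSubgroup R) : Set R)) (r : ℕ) (hr : ringKrullDim R = r) (I : GrLC.StarInjRes 𝒜 𝒜) : GrLC.endDeg (I.Hgr m r) = (((-(r : ℤ) : ℤ) : WithTop ℤ) : WithBot (WithTop ℤ)) ↔ Nonempty (R ≃+* MvPolynomial (Fin r) (GrLC.deg0 𝒜)) := by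
  open Groth.Agent.H4Gr in
  letI := h0.toField
  haveI : IsArtinianRing (GrLC.deg0 𝒜) := inferInstance
  have hpm : ∀ n : ℤ, 0 < n → ∀ x ∈ 𝒜 n, x ∈ m.toIdeal := fun n hn x hx => pos_mem_of_isStarLocal hpos hm hn hx
  have hm1 : m.toIdeal = Ideal.span ((𝒜 1 : AddSubgroup R) : Set R) := hmsp.trans hstd
  have hmax := isMaximal_of_isStarLocal hpos hm
  constructor
  · intro hend
    haveI : Module.Finite R (GrLC.GMod.of 𝒜 R 𝒜).carrier := inferInstanceAs (Module.Finite R R)
    obtain ⟨q, hq, hdeg⟩ := polyChi m hpos hm hstd hr.le (GrLC.GMod.of 𝒜 R 𝒜) inferInstance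
    have hqr : q.degree < (r : ℕ) := hdeg ⊥ r (fun x hx y => by rw [(Submodule.mem_bot R).1 hx, zero_smul])
      ((ringKrullDim_eq_of_ringEquiv (RingEquiv.quotientBot R)).trans hr).le
    have hH : ∀ n : ℤ, -(r : ℤ) < n → q.eval (n : ℚ) = len (GrLC.deg0 𝒜) (GrLC.comp 𝒜 𝒜 n) := fun n hn => by
      rw [← hq I n, chi]
      refine sub_eq_self.2 (Finset.sum_eq_zero fun i _ => ?_)
      haveI : Subsingleton (I.Hcomp m i n) := by
        refine ⟨fun x y => Subtype.ext ?_⟩
        rcases eq_or_ne i r with rfl | hi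
        · have h := (Hgr_eq_bot_iff m).1 ((endDeg_le_iff' (-(i : ℤ))).1 hend.le n hn)
          exact ((Hcomp_eq_bot_iff m).1 h x x.2).trans ((Hcomp_eq_bot_iff m).1 h y y.2).symm
        · exact (H_eq_zero_of_ne_dim hpos hm hr hi I _).trans (H_eq_zero_of_ne_dim hpos hm hr hi I _).symm
      exact mul_eq_zero_of_right _ (len_eq_zero_of_subsingleton (A := I.Hcomp m i n) _)
    have hfl : ∀ n, IsArtinian (GrLC.deg0 𝒜) (GrLC.comp 𝒜 𝒜 n) ∧ IsNoetherian (GrLC.deg0 𝒜) (GrLC.comp 𝒜 𝒜 n) :=
      fun n => finLen_comp (𝒜 := 𝒜) (ℳ := 𝒜) n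
    have hfr : ∀ n, len (GrLC.deg0 𝒜) (GrLC.comp 𝒜 𝒜 n) =
        (Module.finrank (GrLC.deg0 𝒜) (GrLC.comp 𝒜 𝒜 n) : ℚ) := fun n => by
      haveI := (hfl n).2
      rw [len, Module.length_eq_finrank]; rfl
    have hneg : ∀ n : ℤ, n < 0 → len (GrLC.deg0 𝒜) (GrLC.comp 𝒜 𝒜 n) = 0 := fun n hn => by
      haveI : Subsingleton (GrLC.comp 𝒜 𝒜 n) := ⟨fun x y => Subtype.ext (by
        have hx : (x : R) ∈ 𝒜 n := x.2
        have hy : (y : R) ∈ 𝒜 n := y.2
        rw [hpos n hn, AddSubgroup.mem_bot] at hx hy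
        rw [hx, hy])⟩
      exact len_eq_zero_of_subsingleton _
    have hz0 : len (GrLC.deg0 𝒜) (GrLC.comp 𝒜 𝒜 0) = 1 := by
      let e : GrLC.comp 𝒜 𝒜 0 ≃ₗ[GrLC.deg0 𝒜] GrLC.deg0 𝒜 :=
        { toFun := fun x => ⟨x.1, x.2⟩
          invFun := fun x => ⟨x.1, x.2⟩
          map_add' := fun _ _ => rfl
          map_smul' := fun _ _ => rfl
          left_inv := fun _ => rfl
          right_inv := fun _ => rfl }
      rw [hfr, e.finrank_eq, Module.finrank_self, Nat.cast_one]
    have h1 : Module.finrank (GrLC.deg0 𝒜) (GrLC.comp 𝒜 𝒜 1) = r := by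
      suffices h : q.eval 1 = (r : ℚ) by
        rw [show (1 : ℚ) = ((1 : ℤ) : ℚ) by norm_num, hH 1 (by omega), hfr] at h
        exact_mod_cast h
      rcases Nat.eq_zero_or_pos r with rfl | hrpos
      · simp [show q = 0 from Polynomial.degree_eq_bot.1 (Nat.WithBot.lt_zero_iff.1 hqr)]
      obtain ⟨k, rfl⟩ : ∃ k, r = k + 1 := ⟨r - 1, by omega⟩
      let w : Polynomial ℚ := Polynomial.C (((k.factorial : ℕ) : ℚ)⁻¹) *
        ∏ j ∈ Finset.range k, (Polynomial.X + Polynomial.C ((j : ℚ) + 1))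
      have hw0 : w.eval 0 = 1 := by
        simp only [w, Polynomial.eval_mul, Polynomial.eval_C, Polynomial.eval_prod, Polynomial.eval_add,
          Polynomial.eval_X, zero_add]
        rw [← Finset.prod_range_add_one_eq_factorial]
        push_cast
        exact inv_mul_cancel₀ (Finset.prod_ne_zero_iff.2 fun j _ => by positivity)
      have hw1 : w.eval 1 = ((k + 1 : ℕ) : ℚ) := by
        simp only [w, Polynomial.eval_mul, Polynomial.eval_C, Polynomial.eval_prod, Polynomial.eval_add,
          Polynomial.eval_X]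
        have h2 : (∏ j ∈ Finset.range k, ((1 : ℚ) + ((j : ℚ) + 1))) = (((k + 1).factorial : ℕ) : ℚ) := by
          rw [← Finset.prod_range_add_one_eq_factorial, Finset.prod_range_succ']
          push_cast
          rw [mul_one]
          exact Finset.prod_congr rfl fun j _ => by ring
        rw [h2, Nat.factorial_succ, Nat.cast_mul, mul_comm _ (((k.factorial : ℕ)) : ℚ), ← mul_assoc,
          inv_mul_cancel₀ (by exact_mod_cast k.factorial_ne_zero), one_mul]
      have hwd : w.degree < ((k + 1 : ℕ) : WithBot ℕ) := by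
        refine lt_of_le_of_lt Polynomial.degree_le_natDegree (Nat.cast_lt.2 (Nat.lt_succ_of_le ?_))
        refine Polynomial.natDegree_mul_le.trans ?_
        rw [Polynomial.natDegree_C, zero_add]
        refine (Polynomial.natDegree_prod_le _ _).trans ?_
        simp only [Polynomial.natDegree_X_add_C]
        simp
      have hwneg : ∀ j : ℕ, 0 < j → j ≤ k → w.eval (-(j : ℚ)) = 0 := fun j hj hjk => by
        simp only [w, Polynomial.eval_mul, Polynomial.eval_prod]
        refine mul_eq_zero_of_right _ (Finset.prod_eq_zero (Finset.mem_range.2 (show j - 1 < k by omega)) ?_)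
        simp [Nat.cast_sub (show 1 ≤ j by omega)]
      have hzero : q - w = 0 := by
        refine Polynomial.eq_zero_of_degree_lt_of_eval_finset_eq_zero
          ((Finset.range (k + 1)).image fun j : ℕ => -(j : ℚ)) ?_ ?_
        · rw [Finset.card_image_of_injective _ (fun a b h => by simpa using h), Finset.card_range]
          exact (Polynomial.degree_sub_le _ _).trans_lt (max_lt hqr hwd)
        · intro x hx
          obtain ⟨j, hj, rfl⟩ := Finset.mem_image.1 hx
          rw [Finset.mem_range] at hj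
          rw [Polynomial.eval_sub, show -(j : ℚ) = ((-(j : ℤ) : ℤ) : ℚ) by push_cast; ring,
            hH _ (by omega), show ((-(j : ℤ) : ℤ) : ℚ) = -(j : ℚ) by push_cast; ring]
          rcases Nat.eq_zero_or_pos j with rfl | hjpos
          · simp [hw0, hz0]
          · rw [hwneg j hjpos (by omega), hneg _ (by omega), sub_zero]
      rw [sub_eq_zero.1 hzero, hw1]
    haveI := (hfl 1).2
    let b := Module.finBasisOfFinrankEq (GrLC.deg0 𝒜) (GrLC.comp 𝒜 𝒜 1) h1
    have hv : ∀ x ∈ 𝒜 1, x ∈ Submodule.span (GrLC.deg0 𝒜) (Set.range fun i => (b i : R)) := fun x hx => by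
      have h : (⟨x, hx⟩ : GrLC.comp 𝒜 𝒜 1) ∈ Submodule.span (GrLC.deg0 𝒜) (Set.range b) := b.mem_span _
      have h' := Submodule.mem_map_of_mem (f := (GrLC.comp 𝒜 𝒜 1).subtype) h
      rwa [Submodule.map_span, ← Set.range_comp] at h'
    exact ⟨(AlgEquiv.ofBijective _ (aeval_bijective hpos hm1 hpm h0 hr _ hv)).symm.toRingEquiv⟩
  · rintro ⟨e⟩
    haveI : IsDomain R := e.toMulEquiv.isDomain _
    haveI : Module.Finite R (GrLC.GMod.of 𝒜 R 𝒜).carrier := inferInstanceAs (Module.Finite R R)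
    let v : Fin r → R := fun i => proj 𝒜 1 (e.symm (MvPolynomial.X i))
    have hv : ∀ x ∈ 𝒜 1, x ∈ Submodule.span (GrLC.deg0 𝒜) (Set.range v) := by
      have key : ∀ p, proj 𝒜 1 (e.symm p) ∈ Submodule.span (GrLC.deg0 𝒜) (Set.range v) := fun p => by
        induction p using MvPolynomial.induction_on with
        | C c =>
          rcases eq_or_ne c 0 with rfl | hc
          · rw [map_zero, map_zero, map_zero]; exact zero_mem _
          · rw [proj_ne (mem_zero_of_isUnit hpos (((isUnit_iff_ne_zero.2 hc).map MvPolynomial.C).map e.symm)) zero_ne_one]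
            exact zero_mem _
        | add p q hp hq => rw [map_add, map_add]; exact add_mem hp hq
        | mul_X p i hp =>
          rw [map_mul, proj_one_mul hpos]
          refine add_mem ?_ ?_
          · exact Submodule.smul_mem _ (⟨proj 𝒜 0 (e.symm p), proj_mem 𝒜 0 _⟩ : GrLC.deg0 𝒜) (Submodule.subset_span ⟨i, rfl⟩)
          · rw [mul_comm]
            exact Submodule.smul_mem _ (⟨proj 𝒜 0 (e.symm (MvPolynomial.X i)), proj_mem 𝒜 0 _⟩ : GrLC.deg0 𝒜) hp
      intro x hx
      have h := key (e x)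
      rwa [e.symm_apply_apply, proj_same hx] at h
    let φ := (AlgEquiv.ofBijective _ (aeval_bijective hpos hm1 hpm h0 hr v hv)).toRingEquiv
    have hreg : RingTheory.Sequence.IsWeaklyRegular R (List.ofFn v) := by
      have h : RingTheory.Sequence.IsWeaklyRegular R ((List.ofFn fun i : Fin r =>
          (MvPolynomial.X i : MvPolynomial (Fin r) (GrLC.deg0 𝒜))).map φ) := (AddEquiv.isWeaklyRegular_congr (e := φ.toAddEquiv)
        (List.forall₂_map_right_iff.mpr (List.forall₂_same.mpr fun x _ y => map_mul φ x y))).mp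
        (isWeaklyRegular_vars (GrLC.deg0 𝒜) r)
      rw [List.map_ofFn] at h
      convert h using 2
      exact funext fun i => (MvPolynomial.aeval_X _ i).symm
    let l : List (R × ℤ) := List.ofFn fun i => (v i, (1 : ℤ))
    have hfst : l.map Prod.fst = List.ofFn v := List.map_ofFn
    have hl : ∀ p ∈ l, p.1 ∈ 𝒜 p.2 ∧ p.1 ∈ m.toIdeal := fun p hp => by
      obtain ⟨i, rfl⟩ := List.mem_ofFn.1 hp
      exact ⟨proj_mem 𝒜 1 _, hpm 1 one_pos _ (proj_mem 𝒜 1 _)⟩
    let V : Ideal R := Ideal.span (Set.range v)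
    have hVm : m.toIdeal = V := by
      refine le_antisymm ?_ (Ideal.span_le.2 fun _ ⟨i, hi⟩ => hi ▸ hpm 1 one_pos _ (proj_mem 𝒜 1 _))
      rw [hm1]
      refine Ideal.span_le.2 fun x hx => ?_
      have hxv := hv x hx
      clear hx
      induction hxv using Submodule.span_induction with
      | mem w hw => exact Ideal.subset_span hw
      | zero => exact zero_mem _
      | add p q _ _ hp hq => exact add_mem hp hq
      | smul c p _ hp => exact V.mul_mem_left _ hp
    have hV : Submodule.IsHomogeneous (V : Submodule R R) 𝒜 := hVm ▸ m.isHomogeneous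
    let Y := quotMod 𝒜 (ℳ := 𝒜) (V : Submodule R R) hV
    obtain ⟨F⟩ := nonempty_starInjRes (𝒜 := 𝒜) (ℳ := Y.gr)
    have hlist := endDeg_quot_list 𝒜 hpos m l hl (GrLC.GMod.of 𝒜 R 𝒜)
      (show RingTheory.Sequence.IsWeaklyRegular R (l.map Prod.fst) by rw [hfst]; exact hreg) r
      (le_of_eq List.length_ofFn) I (fun j hj => H_eq_zero_of_lt_dim hpos hm hr hj I) Y
      (quotProj 𝒜 V hV) (isGrHom_quotProj V hV) (Submodule.mkQ_surjective V) (by
        show LinearMap.ker (Submodule.mkQ V) = Ideal.ofList (l.map Prod.fst) • (⊤ : Submodule R R)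
        rw [Submodule.ker_mkQ, hfst, Ideal.smul_eq_mul, Ideal.mul_top]
        exact congrArg Ideal.span (by ext y; simp [List.mem_ofFn])) F
    have hY : GrLC.endDeg (F.Hgr m 0) = ((0 : ℤ) : WithTop ℤ) := by
      have htor : ∀ y : Y.carrier, y ∈ GrLC.gam m.toIdeal Y.carrier := fun y => ⟨1, fun x hx => by
        obtain ⟨z, rfl⟩ := Submodule.mkQ_surjective V y
        rw [pow_one, hVm] at hx
        exact (Submodule.Quotient.mk_eq_zero V).2 (V.mul_mem_right z hx)⟩
      refine le_antisymm ((endDeg_le_iff' 0).2 fun n hn => (Hgr_eq_bot_iff m).2 ?_) (le_iSup₂_of_le 0 ?_ le_rfl)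
      · refine (Hcomp_zero_eq_bot_iff F n).2 fun y hy _ => ?_
        obtain ⟨z, hz, rfl⟩ := hy
        exact (Submodule.Quotient.mk_eq_zero V).2 (hVm ▸ hpm n hn z hz)
      · intro hbot
        have h := (Hcomp_zero_eq_bot_iff F 0).1 ((Hgr_eq_bot_iff m).1 hbot) (quotProj 𝒜 V hV 1)
          (isGrHom_quotProj V hV 0 1 (SetLike.one_mem_graded 𝒜)) (htor _)
        exact hmax.ne_top ((Ideal.eq_top_iff_one _).2 (hVm ▸ (Submodule.Quotient.mk_eq_zero V).1 h))
    have hsum : (l.map Prod.snd).sum = (r : ℤ) := by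
      rw [show l.map Prod.snd = List.ofFn (fun _ : Fin r => (1 : ℤ)) from List.map_ofFn]; simp
    rw [show r - l.length = 0 by simp [l], hY, hsum] at hlist
    replace hlist : (((0 : ℤ) : WithTop ℤ) : WithBot (WithTop ℤ)) =
        GrLC.endDeg (I.Hgr m r) + (((r : ℤ) : WithTop ℤ) : WithBot (WithTop ℤ)) := hlist
    generalize GrLC.endDeg (I.Hgr m r) = A at hlist ⊢
    cases A with
    | bot => exact absurd hlist WithBot.coe_ne_bot
    | coe A =>
      cases A with
      | top => exact absurd (WithBot.coe_inj.1 hlist) WithTop.coe_ne_top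
      | coe A =>
        have h : (0 : ℤ) = A + (r : ℤ) := WithTop.coe_inj.1 (WithBot.coe_inj.1 hlist)
        rw [show A = -(r : ℤ) by omega]

end Groth.Agent.S18644
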