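import Groth.Statements.S18647
import Groth.Agent.H4Segre.DimApps

set_option autoImplicit false
universe u
open scoped TensorProduct
open GrSegre

namespace Groth.Agent.S18647

/-- Let R and S be graded rings defined over a field k with dim R = r ≥ 1 and dim S = s ≥ 1. Then the
Segre product T = R # S has Krull dimension r + s − 1. Here a graded ring defined over k is a
commutative k-algebra of finite type, graded in nonnegative degrees by k-subspaces with degree-zero
part k·1; the Segre product T = R # S = ⊕_n R_n ⊗_k S_n (graded by T_n = R_n ⊗_k S_n) is presented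
abstractly as a graded k-algebra T with an injective k-algebra homomorphism ψ : T → R ⊗_k S carrying
T_n onto the k-span of the elementary tensors a ⊗ b with a ∈ R_n, b ∈ S_n, for every n. -/
theorem result (k : Type u) [Field k] (R : Type u) [CommRing R] [Algebra k R] (𝒜 : ℤ → Submodule k R) [GradedAlgebra 𝒜] (hposR : ∀ n : ℤ, n < 0 → 𝒜 n = ⊥) (h0R : 𝒜 0 = Submodule.span k {(1 : R)}) [Algebra.FiniteType k R] (S : Type u) [CommRing S] [Algebra k S] (ℬ : ℤ → Submodule k S) [GradedAlgebra ℬ] (hposS : ∀ n : ℤ, n < 0 → ℬ n = ⊥) (h0S : ℬ 0 = Submodule.span k {(1 : S)}) [Algebra.FiniteType k S] (T : Type u) [CommRing T] [Algebra k T] (𝒯 : ℤ → Submodule k T) [GradedAlgebra 𝒯] (ψ : T →ₐ[k] TensorProduct k R S) (hψ : Function.Injective ψ) (hdegT : ∀ n : ℤ, (𝒯 n).map ψ.toLinearMap = Submodule.span k {x : TensorProduct k R S | ∃ a ∈ 𝒜 n, ∃ b ∈ ℬ n, x = a ⊗ₜ[k] b}) (r s : ℕ) (hr : ringKrullDim R = r) (hs : ringKrullDim S = s) (h1r : 1 ≤ r) (h1s : 1 ≤ s) : ringKrullDim T = ((r + s - 1 :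 ℕ) : WithBot ℕ∞) := by
  have hP : GrSeg.IsSegreMod ψ 𝒜 ℬ 𝒯 ψ.toLinearMap := by
    refine ⟨hψ, fun n => ?_, fun t p => ?_⟩
    · rw [← Submodule.map_coe]
      exact congrArg SetLike.coe (hdegT n)
    · rw [Groth.Agent.H4Segre.act_self]
      exact map_mul ψ t p
  have e : ∀ {A : Type u} [CommRing A], ringKrullDim (A ⧸ Groth.Agent.H4Segre.annElt A (1 : A)) = ringKrullDim A := by
    intro A _
    have h1 : Groth.Agent.H4Segre.annElt A (1 : A) = ⊥ := by
      ext x; simp [Groth.Agent.H4Segre.mem_annElt]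
    rw [h1]
    exact ringKrullDim_eq_of_ringEquiv (RingEquiv.quotientBot A)
  rw [← Module.supportDim_self_eq_ringKrullDim]
  exact Groth.Agent.H4Segre.supportDim_segre 𝒜 𝒜 ℬ ℬ hposR h0R hposS h0S hψ hdegT hP r s
    ((Module.supportDim_self_eq_ringKrullDim (R := R)).trans hr) ((Module.supportDim_self_eq_ringKrullDim (R := S)).trans hs) h1r h1s
    (SetLike.one_mem_graded 𝒜) (SetLike.one_mem_graded ℬ) (e.trans hr) (e.trans hs)

end Groth.Agent.S18647
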