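import Groth.Statements.S11174
import Groth.Agent.H4Matlis.Socle

set_option autoImplicit false
universe u
open CategoryTheory
open InjHull

namespace Groth.Agent.S11174

/-- Fix a Noetherian local ring A, write m for its maximal ideal and k for its residue field, and let I
be an A-module such that (a) every element of I is killed by some power of m, (b) the A-module
Hom_A(k, I) is isomorphic to k, and (c) there is a decreasing sequence of ideals a_1 ⊇ a_2 ⊇ … of A,
cofinal with the powers of m in both directions (each a_n contains a power of m and each power of m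
contains some a_n), with length_A(A/a_n) = length_A(Hom_A(A/a_n, I)) for every n. Then I is an
injective hull of k: some A-linear map k → I is an essential injection into an injective module. -/
theorem result (A : Type u) [CommRing A] [IsLocalRing A] [IsNoetherianRing A] (I : Type u) [AddCommGroup I] [Module A I] (ha : LocCoh.IsPowerTorsion (IsLocalRing.maximalIdeal A) I) (hb : Nonempty ((IsLocalRing.ResidueField A →ₗ[A] I) ≃ₗ[A] IsLocalRing.ResidueField A)) (a : ℕ → Ideal A) (hanti : Antitone a) (hcof : ∀ n : ℕ, ∃ N : ℕ, IsLocalRing.maximalIdeal A ^ N ≤ a n) (hcof' : ∀ N : ℕ, ∃ n : ℕ, a n ≤ IsLocalRing.maximalIdeal A ^ N) (hlen : ∀ n : ℕ, Module.length A (A ⧸ a n) = Module.length A ((A ⧸ a n) →ₗ[A] I)) : ∃ f : IsLocalRing.ResidueField A →ₗ[A] I, InjHull.IsInjectiveHull f := by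
  open H4Matlis in
  obtain ⟨e⟩ := hb
  set f := e.symm 1
  have hf0 : f ≠ 0 := by simp [f]
  have hmk : ∀ x : A, (Ideal.Quotient.mk (IsLocalRing.maximalIdeal A) x :
      IsLocalRing.ResidueField A) = x • (1 : IsLocalRing.ResidueField A) := fun x =>
    ((Algebra.smul_def x (1 : A ⧸ IsLocalRing.maximalIdeal A)).trans (mul_one _)).symm
  have hfinj : Function.Injective f := by
    rw [← LinearMap.ker_eq_bot, Submodule.eq_bot_iff]
    intro x hx
    by_contra hx0
    refine hf0 (LinearMap.ext fun y => ?_)
    obtain ⟨c, hc⟩ := Ideal.Quotient.mk_surjective (y * x⁻¹)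
    have hy : y = c • x := by
      rw [Algebra.smul_def]
      show y = IsLocalRing.residue A c * x
      rw [show IsLocalRing.residue A c = y * x⁻¹ from hc, mul_assoc, inv_mul_cancel₀ hx0, mul_one]
    rw [hy, map_smul, LinearMap.mem_ker.mp hx, smul_zero, LinearMap.zero_apply]
  have hsocle : LocCoh.torsionBy (IsLocalRing.maximalIdeal A) I ≤ LinearMap.range f := by
    intro y hy
    let ψ : IsLocalRing.ResidueField A →ₗ[A] I :=
      (IsLocalRing.maximalIdeal A).liftQ (LinearMap.toSpanSingleton A I y) fun c hc => by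
        simpa using (Submodule.mem_torsionBySet_iff _ _).mp hy ⟨c, hc⟩
    obtain ⟨c, hc⟩ := Ideal.Quotient.mk_surjective (e ψ)
    have hψ : ψ = c • f := e.injective (by
      rw [map_smul, LinearEquiv.apply_symm_apply, ← hmk]
      exact hc.symm)
    refine ⟨c • (1 : IsLocalRing.ResidueField A), ?_⟩
    rw [map_smul, ← LinearMap.smul_apply, ← hψ]
    exact one_smul A y
  obtain ⟨E, _, _, g, hg⟩ := H4Inj.exists_isInjectiveHull (R := A) (IsLocalRing.ResidueField A)
  obtain ⟨φ, hφ⟩ := Module.Injective.extension_property (inj := hg.isInjective) A E _ I f hfinj g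
  have hess := isEssentialInj_of_socle hfinj ha hsocle
  have hφinj : Function.Injective φ :=
    H4Inj.injective_of_comp_essential hess φ (by rw [hφ]; exact hg.injective)
  have hsurj : Function.Surjective φ := by
    intro x
    obtain ⟨N, hN⟩ := isPowerTorsion hg x
    obtain ⟨n, hn⟩ := hcof' N
    let χ : (A ⧸ a n) →ₗ[A] E := (a n).liftQ (LinearMap.toSpanSingleton A E x) fun c hc => by
      simpa using hN c (hn hc)
    obtain ⟨M, hM⟩ := hcof n
    have hfl : IsFiniteLength A (A ⧸ a n) := by
      refine isFiniteLength_iff_isNoetherian_isArtinian.mpr ⟨inferInstance, ?_⟩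
      refine (H4Matlis.isArtinian_iff _).mpr ⟨fun z => ⟨M, fun c hc => ?_⟩, ?_⟩
      · obtain ⟨z, rfl⟩ := Ideal.Quotient.mk_surjective z
        show Ideal.Quotient.mk _ (c • z) = 0
        rw [Ideal.Quotient.eq_zero_iff_mem, smul_eq_mul]
        exact Ideal.mul_mem_right _ _ (hM hc)
      · exact Module.Finite.of_restrictScalars_finite A _ _
    let P : ((A ⧸ a n) →ₗ[A] I) →ₗ[A] ((A ⧸ a n) →ₗ[A] E) := φ.compRight A
    have hP : Function.Injective P := fun u v h => LinearMap.ext fun z =>
      hφinj (LinearMap.congr_fun h z)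
    have hPsurj : LinearMap.range P = ⊤ := by
      obtain ⟨_, _⟩ := isFiniteLength_iff_isNoetherian_isArtinian.mp (isFiniteLength_hom hg hfl)
      by_contra hne
      have hlt := Submodule.length_lt hne
      rw [← (LinearEquiv.ofInjective P hP).length_eq, ← hlen n, length_hom_eq_length hg hfl] at hlt
      exact lt_irrefl _ hlt
    obtain ⟨u, hu⟩ := LinearMap.range_eq_top.mp hPsurj χ
    refine ⟨u (Submodule.Quotient.mk 1), ?_⟩
    exact (LinearMap.congr_fun hu (Submodule.Quotient.mk 1)).trans (one_smul A x)
  exact ⟨f, hess, H4Inj.injective_of_equiv (LinearEquiv.ofBijective φ ⟨hφinj, hsurj⟩) hg.isInjective⟩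

end Groth.Agent.S11174
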