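import Groth.Statements.S8925

set_option autoImplicit false
universe u
open InjHull
open scoped TensorProduct

namespace Groth.Agent.S8925

/-- If S is a flat R-algebra and E is an injective S-module, then E, viewed as an R-module by
restriction of scalars, is an injective R-module. -/
theorem result (R S : Type u) [CommRing R] [CommRing S] [Algebra R S] [Module.Flat R S] (E : Type u) [AddCommGroup E] [Module S E] [Module R E] [IsScalarTower R S E] [Module.Injective S E] : Module.Injective R E := by
  refine Module.Baer.injective fun I g => ?_
  obtain ⟨h, hh⟩ := Module.Injective.extension_property S E (S ⊗[R] I) (S ⊗[R] R)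
    (LinearMap.baseChange S I.subtype)
    (Module.Flat.lTensor_preserves_injective_linearMap (M := S) I.subtype Subtype.val_injective)
    (g.liftBaseChange S)
  refine ⟨(h.restrictScalars R) ∘ₗ TensorProduct.mk R S R 1, fun x hx => ?_⟩
  have := LinearMap.congr_fun hh (1 ⊗ₜ[R] (⟨x, hx⟩ : I))
  simpa using this

end Groth.Agent.S8925
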