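import Groth.Statements.S1822
import Groth.Agent.H4RSH.Main
import Groth.Agent.H4DR.RHom.Precomp
import Groth.Agent.H4DR.KFlatMod

set_option autoImplicit false
universe u
open CategoryTheory CategoryTheory.Limits AlgebraicGeometry
attribute [local instance] HasDerivedCategory.standard
open Dual

namespace Groth.Agent.S1822

/-- Let A be a Noetherian ring, K a complex of A-modules with finite cohomology modules and L an object
of D(A) of finite injective dimension. Work on Spec A with the derived tilde functor (tilde assumed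
left exact), a complex E of modules on Spec A representing the image of K, and the assumed derived
functors − ⊗^L E with its right adjoint RSheafHom(E, −), and RHom_A(K, −). Then RSheafHom(E, L~) is
isomorphic in D(O_{Spec A}) to the derived tilde of RHom_A(K, L). -/
theorem result (A : Type u) [CommRing A] [IsNoetherianRing A] [PreservesFiniteLimits (tilde.functor (CommRingCat.of A))] (K : DRing.Cx A) (hK : ∀ i : ℤ, Module.Finite A (Dual.HD A (DRing.toD K) i)) [DRing.HasRHomCx K] (L : Dual.D A) (hL : DRing.HasFiniteInjDim A L) (E : CochainComplex (Spec (CommRingCat.of A)).Modules ℤ) (hE : Nonempty (DCoh.toD (Spec (CommRingCat.of A)) E ≅ (DCoh.tildeD (CommRingCat.of A)).obj (DRing.toD K))) [DCoh.HasLTensorCx E] [DCoh.HasRSheafHom E] : Nonempty ((DCoh.RSheafHom E).obj ((DCoh.tildeD (CommRingCat.of A)).obj L) ≅ (DCoh.tildeD (CommRingCat.of A)).obj ((DRing.RHomCx K).obj L)) := by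
  obtain ⟨a, b, hL⟩ := hL
  obtain ⟨J, hv, hJ, ⟨eJ⟩⟩ := id hL
  haveI := H4DR.Ext.isKInjective_of_vanishesOutside hv hJ
  obtain ⟨P, r, hP, -, hr, -⟩ := H4DR.KFlatMod.exists_resolution (R := A) K
  haveI hQ : IsIso (DerivedCategory.Q.map r) :=
    Localization.inverts _ (HomologicalComplex.quasiIso _ (ComplexShape.up ℤ)) _ hr
  obtain ⟨eE⟩ := hE
  let td := DCoh.tildeD (CommRingCat.of A)
  let eK : DCoh.toD _ E ≅ td.obj (DerivedCategory.Q.obj P) :=
    eE ≪≫ td.mapIso (asIso (DerivedCategory.Q.map r)).symm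
  let eS : (DCoh.RSheafHom E).obj (td.obj L) ≅
      (H16Derived.Dual.R (td.obj (DerivedCategory.Q.obj P))).obj (td.obj (DerivedCategory.Q.obj J)) :=
    (H16Derived.Dual.rsheafHomIso E).app _ ≪≫
      { hom := H16Derived.Dual.Rmap eK.inv _
        inv := H16Derived.Dual.Rmap eK.hom _
        hom_inv_id := by rw [← LeadBrown.Rmap_comp, eK.hom_inv_id, LeadBrown.Rmap_id]
        inv_hom_id := by rw [← LeadBrown.Rmap_comp, eK.inv_hom_id, LeadBrown.Rmap_id] } ≪≫
      (H16Derived.Dual.R _).mapIso (td.mapIso eJ.symm)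
  have hfin : ∀ i, Module.Finite A (Dual.HD A (DerivedCategory.Q.obj P) i) := fun i =>
    haveI := hK i
    Module.Finite.equiv ((DerivedCategory.homologyFunctor (ModuleCat.{u} A) i).mapIso
      (asIso (DerivedCategory.Q.map r))).symm.toLinearEquiv
  obtain ⟨e⟩ := H4RSH.nonempty_R_tilde_homCx P J hP
    (H4RSH.isQCohD_R_tilde hfin ⟨J, hv, hJ, ⟨Iso.refl _⟩⟩)
  haveI := H4DR.RHom.quasiIso_homCxPre r J fun n =>
    ⟨fun x y h => (cancel_epi (DerivedCategory.Q.map r)).1 h,
      fun y => ⟨inv (DerivedCategory.Q.map r) ≫ y, IsIso.hom_inv_id_assoc _ _⟩⟩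
  haveI : IsIso (DerivedCategory.Q.map (H4DR.RHom.homCxPre r J)) :=
    Localization.inverts _ (HomologicalComplex.quasiIso _ (ComplexShape.up ℤ)) _ ‹QuasiIso _›
  exact ⟨eS ≪≫ e ≪≫ td.mapIso ((asIso (DerivedCategory.Q.map (H4DR.RHom.homCxPre r J))).symm ≪≫
    (H4DR.RHom.rhomObj K J).symm ≪≫ (DRing.RHomCx K).mapIso eJ)⟩

end Groth.Agent.S1822
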