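import Groth.Statements.S9028
import Groth.Agent.H8Props.RelAssBC.Scheme
import Groth.Agent.H8Props.FlatGen.Basic
import Groth.Agent.H8Props.FunDescent.EtalePull
import Groth.Agent.H29Fitt.PullbackQCoh

set_option autoImplicit false
universe u
open FlatMor

namespace Groth.Agent.S9028

open CategoryTheory AlgebraicGeometry Topology Groth.Agent.H8Props in
theorem pointTrdeg_le_of_specializes {X T : Scheme.{u}} (q : X ⟶ T) [LocallyOfFiniteType q] {y x : X}
    (h : y ⤳ x) (e : q y = q x) : FunDescent.pointTrdeg q x ≤ FunDescent.pointTrdeg q y := by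
  have hy : y ∈ Set.range (q.fiberι (q x)) := by rw [q.range_fiberι]; exact e
  obtain ⟨v, hv⟩ := hy
  obtain ⟨a, ha, ha'⟩ := FunDescent.exists_cdim_pointTrdeg q (q.asFiber x) (q.fiberι_asFiber x)
  obtain ⟨b, hb, hb'⟩ := FunDescent.exists_cdim_pointTrdeg q v hv
  have hs : v ⤳ q.asFiber x := (q.fiberι (q x)).isEmbedding.isInducing.specializes_iff.1 (by
    rw [hv, q.fiberι_asFiber]; exact h)
  have hle : FieldDim.cdim (q.asFiber x) ≤ FieldDim.cdim v :=
    FieldDim.dim_mono (specializes_iff_closure_subset.1 hs)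
  rw [ha, hb] at hle
  rw [ha', hb']
  exact_mod_cast hle

open CategoryTheory CategoryTheory.Limits AlgebraicGeometry Opposite in
/-- For f : X → S locally of finite type, F a quasi-coherent O_X-module of finite type, an etale
morphism h : X' → X whose image contains every point of the relative assassin of F over S, and n ≥
0, the functors F_n of F and of h^*F agree: for every scheme T over S, if the base change of h^*F on
X' ×_S T is flat over T in dimensions ≥ n then so is the base change F_T on X ×_S T (the other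
implication holds without the hypothesis on the image). -/
theorem result {X X' S : Scheme.{u}} (f : X ⟶ S) [LocallyOfFiniteType f] (F : X.Modules) [Coh.IsQCoh F] (hF : CohB1.IsFT F)
    (h : X' ⟶ X) [Etale h] (hAss : MoreMor.relAss f F ⊆ Set.range h.base) (n : ℕ) (T : Over S)
    (hT : FlatFun.DimFibresLT n (PicF.XTproj (h ≫ f) T)
        {x | ¬ FlatMod.IsFlatOverAt (PicF.XTproj (h ≫ f) T) (FGA.ET (h ≫ f) ((Scheme.Modules.pullback h).obj F) T) x}) :
    FlatFun.DimFibresLT n (PicF.XTproj f T)
        {x | ¬ FlatMod.IsFlatOverAt (PicF.XTproj f T) (FGA.ET f F T) x} := by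
  let q := PicF.XTproj f T
  haveI : LocallyOfFiniteType q := Groth.Agent.H8Props.FunDescent.locallyOfFiniteType_XTproj f T
  haveI : Coh.IsQCoh (FGA.ET f F T) := Groth.Agent.H29Fitt.isQCoh_pullback _ F inferInstance
  intro x hx
  show Groth.Agent.H8Props.FunDescent.pointTrdeg q x < _
  by_contra hlt
  refine hx (Groth.Agent.H8Props.FlatGen.isFlatOverAt_of_relAss q (FGA.ET f F T) inferInstance
    (Groth.Agent.H29Fitt.isFT_pullback _ F inferInstance hF) x fun y hy hyx hq => ?_)
  by_contra hyn
  obtain ⟨x', hx'⟩ := hAss (Groth.Agent.H8Props.RelAssBC.map_mem_relAss F (IsPullback.of_hasPullback f T.hom) hy)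
  have hsq := Groth.Agent.H8Props.FunDescent.isPullback_liftXT h f T
  obtain ⟨y', hy'⟩ : y ∈ Set.range (Groth.Agent.H8Props.FunDescent.liftXT h f T) :=
    (Scheme.Pullback.exists_preimage_pullback (f := pullback.fst f T.hom) (g := h) y x' hx'.symm).elim
      fun z hz => ⟨hsq.isoPullback.inv z, by
        rw [← Scheme.Hom.comp_apply, IsPullback.isoPullback_inv_fst]; exact hz.1⟩
  have hlty := hT y' fun H => hyn (hy' ▸ (Groth.Agent.H8Props.FunDescent.isFlatOverAt_liftXT_iff h f T F y').1 H)
  change Groth.Agent.H8Props.FunDescent.pointTrdeg (PicF.XTproj (h ≫ f) T) y' < _ at hlty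
  rw [Groth.Agent.H8Props.FunDescent.pointTrdeg_liftXT h f T y', hy'] at hlty
  exact hlt (lt_of_le_of_lt (pointTrdeg_le_of_specializes q hyx hq) hlty)

end Groth.Agent.S9028
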