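import Groth.Statements.S19040
import Groth.Agent.S13502
import Groth.Agent.S2768
import Groth.Agent.H26Smooth.ProjSmooth
import Groth.Agent.H3CAlg.EtaEtale
import Groth.Agent.H22Alg.FibreDimBound
import Groth.Agent.H22Alg.DimFunLft
import Groth.Agent.H17.DimIneqScheme
import Groth.Agent.H8Props.FieldDimSmooth
import Groth.Agent.H8Props.FieldDimFormula
import Groth.Agent.H02CA.FlatRegular
import Groth.Agent.H27Weil.Geometry
import Groth.Agent.H17.MonoField
-- import your own Groth.Agent.* helpers here

set_option autoImplicit false
set_option linter.style.haveILetI false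
set_option backward.isDefEq.respectTransparency.types false
universe u
open CategoryTheory CategoryTheory.Limits AlgebraicGeometry
open Cyc

namespace Groth.Agent.S19040

theorem smoothOfRelDim_toSpec (n : ℕ) (R : Type u) [CommRing R] :
    SmoothOfRelativeDimension n (CohB1.ProjSpace.toSpec n R) := by
  classical
  refine IsZariskiLocalAtSource.of_openCover (P := @SmoothOfRelativeDimension n)
    (Groth.Agent.H26Smooth.stdCover n R).openCover fun i => ?_
  have h : SmoothOfRelativeDimension n
      (Spec.map (CommRingCat.ofHom ((Groth.Agent.H11Proj.ProjSpace.chartMap n R i).comp MvPolynomial.C))) := by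
    refine (HasRingHomProperty.Spec_iff (P := @SmoothOfRelativeDimension n)).2 ?_
    refine RingHom.locally_of RingHom.isStandardSmoothOfRelativeDimension_respectsIso _ ?_
    haveI := Groth.Agent.H3CAlg.EtaEtale.isStandardSmooth_mvPolynomial R n
    let ec : Fin n ≃ {j : Fin (n + 1) // j ≠ i} :=
      (Fintype.equivFinOfCardEq (by simp [Fintype.card_subtype_compl])).symm
    let e := (MvPolynomial.renameEquiv R ec).toRingEquiv.trans
      (RingEquiv.ofBijective _ (Groth.Agent.H11Proj.ProjSpace.chartMap_bijective n R i))
    show RingHom.IsStandardSmoothOfRelativeDimension n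
      ((Groth.Agent.H11Proj.ProjSpace.chartMap n R i).comp MvPolynomial.C)
    rw [show (Groth.Agent.H11Proj.ProjSpace.chartMap n R i).comp MvPolynomial.C =
      e.toRingHom.comp (algebraMap R (MvPolynomial (Fin n) R)) from RingHom.ext fun r => by
        simp [e, MvPolynomial.algebraMap_eq]]
    exact RingHom.isStandardSmoothOfRelativeDimension_respectsIso.1 _ e
      ((RingHom.isStandardSmoothOfRelativeDimension_algebraMap n).2 inferInstance)
  rw [← Groth.Agent.H11Proj.ProjSpace.awayι_toSpec] at h
  exact h

theorem trdeg_base_le {X P : Scheme.{u}} {n : ℕ} {b : P ⟶ X} {φ : P ⟶ CohB1.ProjSpaceOver n X} [IsFinite φ]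
    (hφ : φ ≫ CohB1.ProjSpaceOver.toBase n X = b) (p : P) :
    (letI := (b.residueFieldMap p).hom.toAlgebra; Algebra.trdeg (X.residueField (b p)) (P.residueField p)) ≤ (n : ℕ) := by
  subst hφ
  haveI := smoothOfRelativeDimension_isStableUnderBaseChange (n := n)
  haveI : SmoothOfRelativeDimension n (CohB1.ProjSpaceOver.toBase n X) :=
    MorphismProperty.of_isPullback (P := @SmoothOfRelativeDimension n)
      (IsPullback.of_hasPullback _ _) (smoothOfRelDim_toSpec n (ULift.{u} ℤ))
  haveI := SmoothOfRelativeDimension.smooth n (CohB1.ProjSpaceOver.toBase n X)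
  refine Groth.Agent.H22Alg.trdeg_le_fibreDimAt _ p ?_
  refine ((Groth.Agent.H8Props.FieldDim.fibreDimAt_comp_le φ (CohB1.ProjSpaceOver.toBase n X) p).1).trans ?_
  rw [Groth.Agent.H8Props.FieldDim.fibreDimAt_eq_zero_of_lqf φ p,
    Groth.Agent.S2768.result n (CohB1.ProjSpaceOver.toBase n X) (φ p), zero_add]

theorem trdeg_eq_zero_of_stalk {W P X : Scheme.{u}} [IsIntegral W] [IsLocallyNoetherian X] (i : W ⟶ P)
    [IsClosedImmersion i] (b : P ⟶ X) [LocallyOfFiniteType b] {f : W ⟶ X} (hf : i ≫ b = f) (n : ℕ)
    (hn : ringKrullDim (P.presheaf.stalk (i (genericPoint W))) = n)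
    (hE : ∀ p : P, (letI := (b.residueFieldMap p).hom.toAlgebra; Algebra.trdeg (X.residueField (b p)) (P.residueField p)) ≤ (n : ℕ))
    (h0 : ringKrullDim (X.presheaf.stalk (f (genericPoint W))) = 0) :
    (letI := (f.residueFieldMap (genericPoint W)).hom.toAlgebra; Algebra.trdeg (X.residueField (f (genericPoint W))) (W.residueField (genericPoint W))) = 0 := by
  subst hf
  let w := genericPoint W
  obtain ⟨c, hc, hl⟩ := Groth.Agent.H17.DimIneq.scheme_ineq b (i w) n (fun p _ _ => hE p)
  obtain ⟨t, -, ht⟩ := Groth.Agent.H8Props.FieldDim.fibreDimAt_eq b (i w)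
  have hc0 : c = 0 := by
    have := hc.symm.trans h0
    exact_mod_cast this
  have h2 := hl n hn.ge
  rw [ht, hc0] at h2
  have ht0 : t = 0 := by
    simp only [Cardinal.ofENat_zero, zero_add] at h2
    have : n + t ≤ n := by exact_mod_cast h2
    omega
  rw [ht0, Nat.cast_zero] at ht
  letI := (b.residueFieldMap (i w)).hom.toAlgebra
  letI := ((i ≫ b).residueFieldMap w).hom.toAlgebra
  haveI : IsIso (i.residueFieldMap w) := Groth.Agent.H17.MonoField.isIso_residueFieldMap_of_mono i w
  refine (Groth.Agent.H22Alg.DimFunLft.trdeg_congr (R := X.residueField (b (i w))) (R' := X.residueField ((i ≫ b) w)) (A := P.residueField (i w))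
    (A' := W.residueField w) (RingEquiv.refl (X.residueField (b (i w))))
    (asIso (i.residueFieldMap w)).commRingCatIsoToRingEquiv fun r => ?_).symm.trans ht
  exact ConcreteCategory.congr_hom (Scheme.residueFieldMap_comp i b w) r

theorem quasiFiniteAt_of_flat {W X : Scheme.{u}} [IsIntegral W] [IsLocallyNoetherian W] [IsLocallyNoetherian X]
    (f : W ⟶ X) [LocallyOfFiniteType f] [Flat f]
    (h0 : (letI := (f.residueFieldMap (genericPoint W)).hom.toAlgebra; Algebra.trdeg (X.residueField (f (genericPoint W))) (W.residueField (genericPoint W))) = 0) (w : W) :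
    f.QuasiFiniteAt w := by
  refine Groth.Agent.H22Alg.quasiFiniteAt_of_fibreDimAt_le_zero f w ?_
  obtain ⟨c, hc, hl⟩ := Groth.Agent.H17.DimIneq.scheme_ineq f w 0 fun ξ hξ _ => by
    have : ξ = genericPoint W := by
      have h : closure ({ξ} : Set W) = Set.univ := by
        rw [irreducibleComponents_eq_singleton] at hξ
        exact hξ
      exact (show IsGenericPoint ξ Set.univ from h).eq (genericPoint_spec W)
    subst this
    rw [h0, Nat.cast_zero]
  obtain ⟨t, ht, ht'⟩ := Groth.Agent.H8Props.FieldDim.fibreDimAt_eq f w
  obtain ⟨b, hb⟩ := Groth.Agent.H22Alg.exists_nat_ringKrullDim' (X.presheaf.stalk (f w))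
  obtain ⟨d, hd⟩ := Groth.Agent.H22Alg.exists_nat_ringKrullDim' (W.presheaf.stalk w)
  obtain ⟨N, hN⟩ := Groth.Agent.H22Alg.exists_nat_fibreDimAt f w
  have hcb : c = b := by
    have := hc.symm.trans hb
    exact_mod_cast this
  letI : Algebra (X.presheaf.stalk (f w)) (W.presheaf.stalk w) := (f.stalkMap w).hom.toAlgebra
  haveI : IsLocalHom (algebraMap (X.presheaf.stalk (f w)) (W.presheaf.stalk w)) :=
    inferInstanceAs (IsLocalHom (f.stalkMap w).hom)
  haveI : Module.Flat (X.presheaf.stalk (f w)) (W.presheaf.stalk w) := Flat.stalkMap f w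
  have hsum : (d : WithBot ℕ∞) + t = b + N := by
    rw [← hd, ← hb, ← hN, ht, Groth.Agent.H02CA.ringKrullDim_eq_add_of_flat (X.presheaf.stalk (f w)) (W.presheaf.stalk w),
      add_assoc]
    rfl
  have h2 := hl d hd.ge
  rw [ht', hcb] at h2
  have h3 : d + t ≤ b + 0 := by exact_mod_cast h2
  have h4 : d + t = b + N := by exact_mod_cast hsum
  rw [hN]
  have : N = 0 := by omega
  rw [this, Nat.cast_zero]


/-- Let X be an integral Noetherian scheme and n a natural number, let P be the n-fold fibre product
over X of copies of the projective line over X, with structure map to X, and let W be an integral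
closed subscheme of P of codimension n, in the sense that the local ring of P at the generic point
of W has Krull dimension n. If the induced morphism f : W → X is dominant and flat, then f is finite
and surjective, so finite and faithfully flat. (The source works with a Noetherian separated scheme
X of finite dimension over a field k, takes W to be the closure in X ×_k (P^1_k)^n of an integral
closed subscheme Z of codimension n of X × (P^1 minus the point 1)^n, and assumes the closure
dominant and flat over X; such a closure is an integral closed subscheme of codimension n of the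
n-fold product of projective lines over X, which is the form stated here, and the field k plays no
role.) -/
theorem result
    (X : Scheme.{u}) [IsIntegral X] [IsNoetherian X] (n : ℕ)
    (W : Scheme.{u}) [IsIntegral W]
    (i : W ⟶ widePullback X (fun _ : Fin n => CohB1.ProjSpaceOver 1 X)
      (fun _ => CohB1.ProjSpaceOver.toBase 1 X))
    [IsClosedImmersion i]
    (hcodim : ringKrullDim
      ((widePullback X (fun _ : Fin n => CohB1.ProjSpaceOver 1 X)
        (fun _ => CohB1.ProjSpaceOver.toBase 1 X)).presheaf.stalk (i.base (genericPoint W))) = n)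
    (f : W ⟶ X)
    (hf : i ≫ WidePullback.base (fun _ : Fin n => CohB1.ProjSpaceOver.toBase 1 X) = f)
    [IsDominant f] [Flat f] :
    IsFinite f ∧ Surjective f := by
    classical
  let b := WidePullback.base (fun _ : Fin n => CohB1.ProjSpaceOver.toBase 1 X)
  obtain ⟨φ, hφ₁, -, hφ⟩ := Groth.Agent.S13502.result X n
  haveI : IsProper (CohB1.ProjSpaceOver.toBase n X) := Groth.Agent.H27Weil.isProper_toBase n X
  haveI : IsProper b := by
    show IsProper (WidePullback.base _)
    rw [← hφ]; infer_instance
  haveI : IsProper f := by rw [← hf]; infer_instance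
  haveI : IsLocallyNoetherian (widePullback X (fun _ : Fin n => CohB1.ProjSpaceOver 1 X)
      (fun _ => CohB1.ProjSpaceOver.toBase 1 X)) := LocallyOfFiniteType.isLocallyNoetherian b
  haveI : IsLocallyNoetherian W := LocallyOfFiniteType.isLocallyNoetherian i
  have hgen : f (genericPoint W) = genericPoint X := by
    refine ((genericPoint_specializes _).antisymm ?_).eq.symm
    refine specializes_iff_mem_closure.2 ?_
    have h1 : Set.range f ⊆ closure {f (genericPoint W)} := by
      rintro _ ⟨w, rfl⟩
      exact ((genericPoint_specializes w).map f.continuous).mem_closure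
    exact (closure_minimal h1 isClosed_closure) (IsDominant.denseRange (f := f) _)
  have hE := trdeg_base_le hφ
  have hgenf : (letI := (f.residueFieldMap (genericPoint W)).hom.toAlgebra; Algebra.trdeg (X.residueField (f (genericPoint W))) (W.residueField (genericPoint W))) = 0 :=
    trdeg_eq_zero_of_stalk i b hf n hcodim (fun p => hE p) (by rw [hgen]; exact ringKrullDim_eq_zero_of_field _)
  have hq : ∀ w, f.QuasiFiniteAt w := fun w =>
    quasiFiniteAt_of_flat f hgenf w
  haveI : LocallyQuasiFinite f := f.quasiFiniteLocus_eq_top_iff.1 (top_le_iff.mp fun w _ => hq w)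
  refine ⟨IsFinite.of_isProper_of_locallyQuasiFinite f, ⟨fun x => ?_⟩⟩
  have h := (IsDominant.denseRange (f := f) x)
  rwa [f.isClosedMap.isClosed_range.closure_eq] at h


end Groth.Agent.S19040
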