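-- statement FlatMor.GrothFrozen.S1392 (Groth/Statements/S1392.lean; the theorem FlatMor.isFlatOverAt_of_baseChange_of_flatAt);
import Groth.Statements.S1392
import Groth.Agent.H7Flat.FlatAtDescent

set_option autoImplicit false
universe u
open FlatMor

namespace Groth.Agent.S1392

open AlgebraicGeometry CategoryTheory Limits in
/-- In a cartesian square X' = S' ×_S X with projections g' : X' → X and f' : X' → S', let F be a
quasi-coherent O_X-module; whenever g : S' → S is flat at f' x' and the pullback of F to X' is
S'-flat at x', F itself is S-flat at g' x'. -/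
theorem result {X S X' S' : Scheme.{u}} (f : X ⟶ S) (f' : X' ⟶ S') (g' : X' ⟶ X) (g : S' ⟶ S) (hc : IsPullback g' f' f g)
    (F : X.Modules) (hF : Coh.IsQCoh F) (x' : X') (hg : (g.stalkMap (f' x')).hom.Flat)
    (h : FlatMod.IsFlatOverAt f' ((Scheme.Modules.pullback g').obj F) x') :
    FlatMod.IsFlatOverAt f F (g' x') := by
  exact Groth.Agent.H7Flat.isFlatOverAt_of_isPullback_flatAt f g hc F x' hg h

end Groth.Agent.S1392
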