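-- statement FlatMor.GrothFrozen.S1341 (Groth/Statements/S1341.lean; the theorem FlatMor.isOpen_cmLocus_and_dense_in_fibres);
import Groth.Statements.S1341
import Groth.Agent.S4961
import Groth.Agent.H8Props.FlatFibreConst

set_option autoImplicit false
universe u
open FlatMor

namespace Groth.Agent.S1341
set_option backward.isDefEq.respectTransparency false

open AlgebraicGeometry CategoryTheory Limits in
/-- Let f : X ⟶ S be flat and locally of finite presentation. Then the set of points of X at which f is
Cohen–Macaulay is open in X, and its intersection with every fibre of f is dense in that fibre. -/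
theorem result {X S : Scheme.{u}} (f : X ⟶ S) [Flat f] [LocallyOfFinitePresentation f] :
    IsOpen {x : ↑X | MoreMor.IsCMAt f x} ∧ ∀ s : S, Dense ((f.fiberι s) ⁻¹' {x : ↑X | MoreMor.IsCMAt f x}) := by
  refine ⟨Groth.Agent.S4961.result f, fun s => ?_⟩
  have hmax : ∀ ζ : f.fiber s, (∀ w, w ⤳ ζ → w = ζ) →
      ζ ∈ (f.fiberι s) ⁻¹' {x : ↑X | MoreMor.IsCMAt f x} := by
    intro ζ hζ
    obtain ⟨x, hx⟩ : ∃ x, f.fiberι s ζ = x := ⟨_, rfl⟩
    show MoreMor.IsCMAt f (f.fiberι s ζ)
    obtain rfl : f x = s := by
      rw [← hx]; exact (f.range_fiberι s).le ⟨ζ, rfl⟩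
    obtain rfl : ζ = f.asFiber x := (f.fiberι _).isEmbedding.injective (by rw [hx]; simp)
    rw [hx]
    exact ⟨Flat.stalkMap f x, Groth.Agent.H8Props.FieldDim.fibre_CM_of_maximal f x hζ⟩
  intro z
  let C := irreducibleComponent z
  have hC : C ∈ irreducibleComponents (f.fiber s) := irreducibleComponent_mem_irreducibleComponents z
  obtain ⟨ζ, hζ⟩ := QuasiSober.sober (isIrreducible_irreducibleComponent (x := z)) isClosed_irreducibleComponent
  have hζmax : ∀ w, w ⤳ ζ → w = ζ := by
    intro w hw
    have hle : C ⊆ closure {w} := by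
      show irreducibleComponent z ⊆ closure {w}
      rw [← hζ.def]
      exact closure_minimal (Set.singleton_subset_iff.mpr hw.mem_closure) isClosed_closure
    have heq : C = closure {w} :=
      Set.Subset.antisymm hle (hC.2 isIrreducible_singleton.closure hle)
    exact (hζ.eq (show IsGenericPoint w C from heq.symm)).symm
  have hz : z ∈ closure ({ζ} : Set ↑(f.fiber s)) := hζ.def ▸ mem_irreducibleComponent
  exact closure_mono (Set.singleton_subset_iff.mpr (hmax ζ hζmax)) hz

end Groth.Agent.S1341
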