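import Groth.Statements.S3612
import Groth.Agent.LeadBrown.Rel.Amp
-- import your own Groth.Agent.* helpers here

set_option autoImplicit false
universe u
open CategoryTheory CategoryTheory.Limits AlgebraicGeometry
attribute [local instance] HasDerivedCategory.standard
open Dual3

namespace Groth.Agent.S3612

/-- Let S be a Noetherian scheme, X and Y schemes separated and of finite type over S and f : X → Y a
morphism over S; compute f^! through a compactification f = j ∘ p (j : X → X' an open immersion, p :
X' → Y proper, Rp_* on D_QCoh assumed to exist and to preserve quasi-coherence of cohomology, a a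
right adjoint of Rp_*, restriction of modules to opens assumed exact), so that f^!K = a(K)|_X.
Assume f is flat and let O be the structure sheaf of Y in degree 0. (i) For a point x and n ≥
dim_x(X_{f(x)}): if the stalk of H^i(f^!O) at x is nonzero then -n ≤ i ≤ 0. (ii) If every fibre of f
has dimension at most d, then f^!O has tor amplitude in [-d, 0] relative to Y: it is represented by
a complex of O_X-modules flat over Y placed in degrees [-d, 0]. -/
theorem result (S X Y : Scheme.{u}) [IsNoetherian S] (p : X ⟶ S) (q : Y ⟶ S) [Dual3.IsSepFT p] [Dual3.IsSepFT q] (f : X ⟶ Y) (w : f ≫ q = p) [Flat f] (c : DEt.Compactification f) [DCoh.HasRpush c.fbar] (hc : DCoh.RpushPreservesQCoh c.fbar) (a : DCoh.DQCoh Y ⥤ DCoh.DQCoh c.Xbar) (adj : DCoh.RpushQ c.fbar hc ⊣ a) [∀ (U V : Scheme.{u}) (j : U ⟶ V) [IsOpenImmersion j], PreservesFiniteLimits (Scheme.Modules.restrictFunctor j)] (O : DCoh.DQCoh Y) (hO : Nonempty (O.obj ≅ DCoh.inD Y (Coh.structureModule Y))) : (∀ (x : X) (n : ℕ), Dual3.localFibreDim f x ≤ (n : WithBot ℕ∞)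 → ∀ i : ℤ, Nontrivial ((DCoh.HD ((Dual3.shriekC c a).obj O) i).presheaf.stalk x) → -(n : ℤ) ≤ i ∧ i ≤ 0) ∧ ∀ d : ℕ, Dual3.FibreDimLE f d → DCoh.HasRelFlatAmplitudeIn f (-(d : ℤ)) 0 ((Dual3.shriekC c a).obj O) := by
  haveI : IsNoetherian X := LeadBrown.isNoetherian_of_isSepFT p
  haveI : IsNoetherian Y := LeadBrown.isNoetherian_of_isSepFT q
  haveI : LocallyOfFiniteType f := by
    haveI : LocallyOfFiniteType (f ≫ q) := by rw [w]; exact Dual3.IsSepFT.locallyOfFiniteType
    exact locallyOfFiniteType_of_comp f q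
  haveI : LocallyOfFinitePresentation f := inferInstance
  haveI : ∀ (R : CommRingCat.{u}), PreservesFiniteLimits (tilde.functor R) := inferInstance
  haveI : ∀ y : Y, DCoh.HasLpull (f.fiberι y) := fun y => H16Derived.KFlat.Stalk.hasLpull _
  haveI := c.isOpenImmersion
  have hf := H8Props.PseudoCoh.isPerfectMor_of_flat f
  refine ⟨fun x n hn i hi => ?_, fun d hd => ?_⟩
  · obtain ⟨P⟩ := LeadBrown.Rel.nonempty_atPoint c adj O hO x
    rw [LeadBrown.Rel.localFibreDim_eq, P.dim] at hn
    have hle : P.n ≤ n := by exact_mod_cast hn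
    have := P.range i hi
    omega
  · have hpc := (LeadBrown.relPerfect_shriek hf c adj O hO).1
    obtain ⟨eO⟩ := hO
    refine LeadBrown.Rel.hasRelFlatAmplitudeIn_of_fibres
      (H16Derived.QCohD.isQCohD_rd c.j (a.obj O).property) hpc _ _ fun y z i hi hne => ?_
    obtain ⟨n, hn, hrange, -, -, -⟩ := LeadBrown.Rel.fibre_degrees hf c adj O eO y z
    have h1 := hrange i hne
    have h2 : FlatMor.localDim (f.fiber y) z ≤ (d : WithBot ℕ∞) :=
      (iInf_le _ ⟨⊤, trivial⟩).trans ((topologicalKrullDim_subspace_le _ _).trans (hd y))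
    rw [hn] at h2
    have h3 : n ≤ d := by exact_mod_cast h2
    omega

end Groth.Agent.S3612
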