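import Groth.Statements.S7268
import Groth.Agent.H8Props.RpushAffine

set_option autoImplicit false
universe u
open CategoryTheory CategoryTheory.Limits AlgebraicGeometry
attribute [local instance] HasDerivedCategory.standard
open Perf

namespace Groth.Agent.S7268

open H16Derived.KFlat.Stalk in
/-- Two right adjoints compared through fully faithful functors, naturally. -/
theorem nonempty_iso_comp_of_adjoints {C D C' D' : Type*} [Category C] [Category D] [Category C']
    [Category D'] {L : C ⥤ D} {R : D ⥤ C} {L' : C' ⥤ D'} {R' : D' ⥤ C'} (a : L ⊣ R) (a' : L' ⊣ R')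
    (F : C ⥤ C') (G : D ⥤ D') [F.Full] [F.Faithful] [G.Full] [G.Faithful]
    (σ : L ⋙ G ≅ F ⋙ L') (h : ∀ M : D, F.essImage (R'.obj (G.obj M))) :
    Nonempty (G ⋙ R' ≅ R ⋙ F) := by
  let F' := Functor.FullyFaithful.ofFullyFaithful F
  let G' := Functor.FullyFaithful.ofFullyFaithful G
  choose N hN using h
  let e : ∀ M, F.obj (N M) ≅ R'.obj (G.obj M) := fun M => (hN M).some
  let R₂ : D ⥤ C :=
    { obj := N
      map := fun {M M'} g => F'.preimage ((e M).hom ≫ R'.map (G.map g) ≫ (e M').inv)
      map_id := fun M => F'.map_injective (by simp)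
      map_comp := fun {M M' M''} g g' => F'.map_injective (by simp) }
  let a₂ : L ⊣ R₂ := Adjunction.mkOfHomEquiv
    { homEquiv := fun P M =>
        G'.homEquiv.trans <| (Iso.homCongr (σ.app P) (Iso.refl (G.obj M))).trans <|
          (a'.homEquiv (F.obj P) (G.obj M)).trans <|
          (Iso.homCongr (Iso.refl (F.obj P)) (e M).symm).trans F'.homEquiv.symm
      homEquiv_naturality_left_symm := fun {P P' M} g u => G'.map_injective (by
        simp [Adjunction.homEquiv_naturality_left_symm]
        erw [σ.hom.naturality_assoc]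
        rfl)
      homEquiv_naturality_right := fun {P M M'} u g => F'.map_injective (by
        simp [R₂, Adjunction.homEquiv_naturality_right]) }
  exact ⟨(NatIso.ofComponents e (fun {M M'} g => by simp [R₂])).symm ≪≫
    Functor.isoWhiskerRight (a₂.rightAdjointUniq a) F⟩

/-- Let A → B be a ring map and f : X = Spec B ⟶ Y = Spec A the corresponding morphism of affine
schemes. Assuming Rf_* exists on the unbounded derived category (and tilde is recorded as exact over
A and over B), the square formed by D(B) ⟶ D(A) (restriction of scalars), the tilde functors D(B) ⟶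
D_QCoh(O_X), D(A) ⟶ D_QCoh(O_Y) and Rf_* commutes: the functors M ↦ Rf_*(M~) and M ↦ (M_A)~ from
D(B) to D(O_Y) are isomorphic (existence of a natural isomorphism only). -/
theorem result {A B : Type u} [CommRing A] [CommRing B] (φ : A →+* B)
    [PreservesFiniteLimits (tilde.functor (CommRingCat.of A))] [PreservesFiniteLimits (tilde.functor (CommRingCat.of B))]
    [DCoh.HasRpush (Spec.map (CommRingCat.ofHom φ))] :
    Nonempty (DCoh.tildeD (CommRingCat.of B) ⋙ DCoh.Rpush (Spec.map (CommRingCat.ofHom φ)) ≅
      DRing.restrictD φ ⋙ DCoh.tildeD (CommRingCat.of A)) := by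
  haveI := H16Derived.KFlat.Stalk.hasLpull (Spec.map (CommRingCat.ofHom φ))
  haveI := H4DR.TorAmp.hasLBaseChange φ
  haveI := (H16Derived.QCohD.full_faithful (CommRingCat.of A)).1
  haveI := (H16Derived.QCohD.full_faithful (CommRingCat.of A)).2
  haveI := (H16Derived.QCohD.full_faithful (CommRingCat.of B)).1
  haveI := (H16Derived.QCohD.full_faithful (CommRingCat.of B)).2
  obtain ⟨a⟩ := S12898.result φ
  refine nonempty_iso_comp_of_adjoints a
    (H16Derived.KFlat.Stalk.lpullRpushAdj (Spec.map (CommRingCat.ofHom φ)))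
    (DCoh.tildeD (CommRingCat.of A)) (DCoh.tildeD (CommRingCat.of B))
    (H16Derived.QCohD.lpullTildeIso φ) (fun M => ?_)
  obtain ⟨N, ⟨e⟩⟩ := H16Derived.QCohD.exists_tildeD_iso (R := CommRingCat.of A)
    (H16Derived.QCohD.isQCohD_rpush (Spec.map (CommRingCat.ofHom φ))
      (H16Derived.QCohD.isQCohD_tildeD (CommRingCat.of B) M))
  exact ⟨N, ⟨e⟩⟩

end Groth.Agent.S7268
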