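import Groth.Agent.H4LC.HLVTApps
import Groth.Agent.H4LC.NonvanishingHeight
import Groth.Agent.H4LC.Cd
import Mathlib.Algebra.Category.ModuleCat.ChangeOfRings

/-!
# Representability of duals of top local cohomology
-/

set_option autoImplicit false
set_option linter.style.haveILetI false

universe u

open CategoryTheory TensorProduct Opposite

namespace Groth.Agent.H4RepTop

open H4LC

variable {R : Type u} [CommRing R] [IsNoetherianRing R] (I : Ideal R) (d : ℕ) (hcd : LocCoh.CdLE R I d)

include hcd in
theorem Hmap_surjective_of_surjective {L N : Type u} [AddCommGroup L] [Module R L] [AddCommGroup N] [Module R N]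
    (g : L →ₗ[R] N) (hg : Function.Surjective g) : Function.Surjective (Hmap I g d) := fun z =>
  (exactH₃ I (LinearMap.ker g).injective_subtype hg (LinearMap.exact_subtype_ker_map g) d z).1
    (@Subsingleton.elim _ (hcd _ (d + 1) (Nat.lt_succ_self d)) _ _)

include hcd in
theorem tensorToH_surjective (M : Type u) [AddCommGroup M] [Module R M] :
    Function.Surjective (tensorToH I d M) := by
  intro z
  obtain ⟨S, hS, w, rfl⟩ := exists_fg_H I d M z
  haveI : Module.Finite R S := Module.Finite.iff_fg.2 hS
  obtain ⟨n, g, hg⟩ := Module.Finite.exists_fin' R S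
  obtain ⟨v, rfl⟩ := Hmap_surjective_of_surjective I d hcd g hg w
  refine ⟨S.subtype.lTensor _ (g.lTensor _ (∑ i : Fin n,
    Hmap I (LinearMap.proj i) d v ⊗ₜ[R] Pi.single i (1 : R))), ?_⟩
  rw [tensorToH_natural, tensorToH_natural]
  refine congrArg _ (congrArg _ ?_)
  rw [map_sum]
  conv_rhs => rw [← sum_Hmap_single I d v]
  refine Finset.sum_congr rfl fun i _ => ?_
  simp only [tensorToH, TensorProduct.lift.tmul, LinearMap.mk₂_apply]
  refine congrArg (fun f => Hmap I f d _) (LinearMap.ext fun c => ?_)
  simp [LinearMap.toSpanSingleton, ← Pi.single_smul']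

include hcd in
theorem tensorToH_bijective (M : Type u) [AddCommGroup M] [Module R M] :
    Function.Bijective (tensorToH I d M) := by
  classical
  refine ⟨?_, tensorToH_surjective I d hcd M⟩
  let g : (M →₀ R) →ₗ[R] M := Finsupp.linearCombination R (id : M → M)
  have hg : Function.Surjective g := fun m => ⟨Finsupp.single m 1, by simp [g]⟩
  have hfree : Function.Injective (tensorToH I d (M →₀ R)) := by
    rw [injective_iff_map_eq_zero]
    intro t ht
    refine (TensorProduct.finsuppScalarRight R R (LocCoh.H I d R) M).injective ?_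
    rw [map_zero]
    refine Finsupp.ext fun m => ?_
    have h1 := (tensorToH_natural I d (Finsupp.lapply m) t).trans (by rw [ht, map_zero])
    rw [tensorToH_self] at h1
    refine Eq.trans ?_ h1
    clear ht h1
    induction t using TensorProduct.induction_on with
    | zero => simp
    | add a b ha hb => simp only [map_add, Finsupp.add_apply, ha, hb]
    | tmul z c => simp
  rw [injective_iff_map_eq_zero]
  intro t ht
  obtain ⟨s, rfl⟩ := LinearMap.lTensor_surjective _ hg t
  rw [tensorToH_natural] at ht
  let K : Submodule R (M →₀ R) := LinearMap.ker g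
  have hi : Function.Injective K.subtype := K.injective_subtype
  have hex : Function.Exact K.subtype g := LinearMap.exact_subtype_ker_map g
  have h2 : Function.Exact (Hmap I (M := ↥K) (N := M →₀ R) K.subtype d) (Hmap I g d) :=
    exactH₂ (L := ↥K) (M := M →₀ R) I hi hg hex d
  obtain ⟨k, hk⟩ := (h2 _).1 ht
  obtain ⟨k', rfl⟩ := tensorToH_surjective I d hcd _ k
  rw [← tensorToH_natural] at hk
  rw [← hfree hk, ← LinearMap.comp_apply, ← LinearMap.lTensor_comp, hex.linearMap_comp_eq_zero,
    LinearMap.lTensor_zero, LinearMap.zero_apply]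

/-- `H^d_I(R) ⊗ M ≅ H^d_I(M)` when the cohomological dimension is at most `d`. -/
noncomputable def topEquiv (M : Type u) [AddCommGroup M] [Module R M] :
    LocCoh.H I d R ⊗[R] M ≃ₗ[R] LocCoh.H I d M :=
  LinearEquiv.ofBijective (tensorToH I d M) (tensorToH_bijective I d hcd M)

omit hcd in
theorem cdLE_of_radical_eq {J : Ideal R} (hK : LocCoh.CdLE R I d) (h : J.radical = I.radical) :
    LocCoh.CdLE R J d := fun M _ _ i hi => by
  obtain ⟨e⟩ := nonempty_H_equiv_of_radical_eq h M i
  exact @Equiv.subsingleton _ _ e.toEquiv (hK M i hi)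

omit hcd in
theorem cdLE_of_generators {J : Ideal R} {d : ℕ} (u : Fin d → R) (hu : ∀ i, u i ∈ J)
    (hJ : J ≤ (Ideal.span (Set.range u)).radical) : LocCoh.CdLE R J d := by
  classical
  refine cdLE_of_radical_eq (Ideal.span ((Finset.univ.image u : Finset R) : Set R)) d (fun M _ _ i hi =>
    cdLE_span_finset _ M i (lt_of_le_of_lt (Finset.card_image_le.trans (by simp)) hi)) ?_
  rw [Finset.coe_image, Finset.coe_univ, Set.image_univ]
  refine le_antisymm ((Ideal.radical_mono hJ).trans (Ideal.radical_idem _).le) (Ideal.radical_mono ?_)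
  exact Ideal.span_le.2 (by rintro _ ⟨i, rfl⟩; exact hu i)

/-- Linear maps into `Hom(H, X)` are maps out of the top cohomology into `X`. -/
noncomputable def topHomEquiv (M : ModuleCat.{u} R) (X : ModuleCat.{u} R) :
    (M ⟶ ModuleCat.of R (LocCoh.H I d R →ₗ[R] X)) ≃ ((localCohomology I d).obj M ⟶ X) where
  toFun f := ModuleCat.ofHom (TensorProduct.lift f.hom.flip ∘ₗ (topEquiv I d hcd M).symm.toLinearMap)
  invFun g := ModuleCat.ofHom (TensorProduct.curry (g.hom ∘ₗ (topEquiv I d hcd M).toLinearMap)).flip
  left_inv f := ModuleCat.hom_ext (LinearMap.ext fun m => LinearMap.ext fun z => by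
    show TensorProduct.lift f.hom.flip ((topEquiv I d hcd M).symm (topEquiv I d hcd M (z ⊗ₜ[R] m))) = _
    rw [LinearEquiv.symm_apply_apply]
    rfl)
  right_inv g := ModuleCat.hom_ext (LinearMap.ext fun y => by
    obtain ⟨t, rfl⟩ := (topEquiv I d hcd M).surjective y
    show TensorProduct.lift _ ((topEquiv I d hcd M).symm (topEquiv I d hcd M t)) = _
    rw [LinearEquiv.symm_apply_apply]
    induction t with
    | zero => simp
    | tmul z m => rfl
    | add a b ha hb => simp only [map_add, ha, hb])

theorem topHomEquiv_comp {M M' X : ModuleCat.{u} R} (f : M ⟶ M')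
    (g : M' ⟶ ModuleCat.of R (LocCoh.H I d R →ₗ[R] X)) :
    topHomEquiv I d hcd M X (f ≫ g) = (localCohomology I d).map f ≫ topHomEquiv I d hcd M' X g := by
  refine ModuleCat.hom_ext (LinearMap.ext fun y => ?_)
  obtain ⟨t, rfl⟩ := (topEquiv I d hcd M).surjective y
  show TensorProduct.lift _ ((topEquiv I d hcd M).symm (topEquiv I d hcd M t)) =
    TensorProduct.lift g.hom.flip ((topEquiv I d hcd M').symm (Hmap I f.hom d (tensorToH I d M t)))
  rw [LinearEquiv.symm_apply_apply, ← tensorToH_natural]
  show _ = TensorProduct.lift g.hom.flip ((topEquiv I d hcd M').symm (topEquiv I d hcd M' _))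
  rw [LinearEquiv.symm_apply_apply]
  induction t with
  | zero => simp
  | tmul z m => rfl
  | add a b ha hb => simp only [map_add, ha, hb]

end Groth.Agent.H4RepTop

namespace Groth.Agent.H4RepTop

theorem isRepresentable {R S : Type u} [CommRing R] [CommRing S] [IsNoetherianRing S] [Algebra R S]
    (J : Ideal S) (d : ℕ) (hcd : LocCoh.CdLE S J d) (F : ModuleCat.{u} R) :
    ((localCohomology J d ⋙ ModuleCat.restrictScalars (algebraMap R S)).op ⋙ yoneda.obj F).IsRepresentable := by
  let adj := ModuleCat.restrictCoextendScalarsAdj.{u} (algebraMap R S)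
  let X := (ModuleCat.coextendScalars (algebraMap R S)).obj F
  refine Functor.RepresentableBy.isRepresentable (Y := ModuleCat.of S (LocCoh.H J d S →ₗ[S] X))
    { homEquiv := fun {M} => (topHomEquiv J d hcd M X).trans (adj.homEquiv _ F).symm
      homEquiv_comp := fun {M M'} f g => ?_ }
  show (adj.homEquiv _ F).symm (topHomEquiv J d hcd M X (f ≫ g)) =
    (ModuleCat.restrictScalars (algebraMap R S)).map ((localCohomology J d).map f) ≫
      (adj.homEquiv _ F).symm (topHomEquiv J d hcd M' X g)
  rw [topHomEquiv_comp, adj.homEquiv_naturality_left_symm]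

end Groth.Agent.H4RepTop
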