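import Groth.Agent.H3CAlg.TorOneMap
import Mathlib.RingTheory.Filtration
import Mathlib.LinearAlgebra.TensorProduct.Quotient

/-!
# Artin–Rees for maps of `Tor`
-/

set_option autoImplicit false
set_option linter.style.haveILetI false

universe u v v' u'

open CategoryTheory CategoryTheory.Limits MonoidalCategory TensorProduct

namespace Groth.Agent.H4TorAR

open Groth.Agent.H3CAlg

section General

variable {C : Type u} [Category.{v} C] [Abelian C] [EnoughProjectives C]
  {D : Type u'} [Category.{v'} D] [Abelian D]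

/-- A composite kills `Lₙ₊₁H` if the first map kills `LₙF` and the second kills `Lₙ₊₁G`. -/
theorem leftDerived_map_comp_eq_zero {F G H : C ⥤ D} [F.Additive] [G.Additive] [H.Additive]
    (α : F ⟶ G) (β : G ⟶ H) (w : ∀ X : C, α.app X ≫ β.app X = 0)
    (hex : ∀ (X : C) [Projective X], (ShortComplex.mk (α.app X) (β.app X) (w X)).ShortExact)
    {X Y W : C} (f : X ⟶ Y) (g : Y ⟶ W) (n : ℕ)
    (hf : (F.leftDerived n).map f = 0) (hg : (G.leftDerived (n + 1)).map g = 0) :
    (H.leftDerived (n + 1)).map (f ≫ g) = 0 := by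
  let P := projectiveResolution X
  let Q := projectiveResolution Y
  let φ := ProjectiveResolution.lift f P Q
  have hφ : φ.f 0 ≫ Q.π.f 0 = P.π.f 0 ≫ f := by
    exact ProjectiveResolution.lift_commutes_zero f P Q
  let mkT : ∀ {Z : C} (R : ProjectiveResolution Z), ShortComplex (ChainComplex D ℕ) := fun R =>
    ShortComplex.mk ((NatTrans.mapHomologicalComplex α (ComplexShape.down ℕ)).app R.complex)
      ((NatTrans.mapHomologicalComplex β (ComplexShape.down ℕ)).app R.complex) (by ext i; exact w _)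
  have hT : ∀ {Z : C} (R : ProjectiveResolution Z), (mkT R).ShortExact := fun R =>
    HomologicalComplex.shortExact_of_degreewise_shortExact _ fun i => hex (R.complex.X i)
  let Φ : mkT P ⟶ mkT Q := ShortComplex.homMk ((F.mapHomologicalComplex _).map φ)
    ((G.mapHomologicalComplex _).map φ) ((H.mapHomologicalComplex _).map φ)
    ((NatTrans.mapHomologicalComplex α (ComplexShape.down ℕ)).naturality φ)
    ((NatTrans.mapHomologicalComplex β (ComplexShape.down ℕ)).naturality φ)
  have hrel : (ComplexShape.down ℕ).Rel (n + 1) n := rfl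
  let δ : ∀ {Z : C} (R : ProjectiveResolution Z),
      (H.leftDerived (n + 1)).obj Z ⟶ (F.leftDerived n).obj Z := fun R =>
    (R.isoLeftDerivedObj H (n + 1)).hom ≫ (hT R).δ (n + 1) n hrel ≫ (R.isoLeftDerivedObj F n).inv
  have nat₂ : (NatTrans.leftDerived β (n + 1)).app Y ≫ (Q.isoLeftDerivedObj H (n + 1)).hom =
      (Q.isoLeftDerivedObj G (n + 1)).hom ≫ HomologicalComplex.homologyMap (mkT Q).g (n + 1) := by
    rw [Q.leftDerived_app_eq β (n + 1)]
    simp only [Category.assoc]
    erw [Iso.inv_hom_id, Category.comp_id]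
    rfl
  have hδ : δ Q ≫ (Q.isoLeftDerivedObj F n).hom =
      (Q.isoLeftDerivedObj H (n + 1)).hom ≫ (hT Q).δ (n + 1) n hrel := by
    exact (Category.assoc _ _ _).trans (congrArg (fun m => _ ≫ m) ((Category.assoc _ _ _).trans
      ((congrArg (fun m => _ ≫ m) (Q.isoLeftDerivedObj F n).inv_hom_id).trans (Category.comp_id _))))
  obtain ⟨w₁, h₁⟩ := exact_of_homology _ _ _ nat₂ hδ ((hT Q).homology_exact₃ (n + 1) n hrel)
  have hnat : (H.leftDerived (n + 1)).map f ≫ δ Q = δ P ≫ (F.leftDerived n).map f :=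
    conj_comm _ _ (P.isoLeftDerivedObj_hom_naturality f Q φ hφ H (n + 1))
      (P.isoLeftDerivedObj_hom_naturality f Q φ hφ F n)
      (HomologicalComplex.HomologySequence.δ_naturality Φ (hT P) (hT Q) (n + 1) n hrel)
  obtain ⟨A, π, hπ, y, hy⟩ := h₁.exact_up_to_refinements
    ((H.leftDerived (n + 1)).map f) (hnat.trans ((congrArg (fun m => δ P ≫ m) hf).trans comp_zero))
  rw [← cancel_epi π, comp_zero, CategoryTheory.Functor.map_comp, ← Category.assoc, hy]
  dsimp only
  rw [Category.assoc, ← NatTrans.naturality, hg, zero_comp, comp_zero]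

end General

variable {R : Type u} [CommRing R]

section SES

variable (S : ShortComplex (ModuleCat.{u} R)) (hS : S.ShortExact)

lemma whisker_zero (Z : ModuleCat.{u} R) :
    ((tensoringLeft (ModuleCat.{u} R)).map S.f).app Z ≫ ((tensoringLeft (ModuleCat.{u} R)).map S.g).app Z = 0 := by
  show S.f ▷ Z ≫ S.g ▷ Z = 0
  rw [← comp_whiskerRight, S.zero]
  exact MonoidalPreadditive.zero_whiskerRight

include hS in
lemma whisker_shortExact (Z : ModuleCat.{u} R) [Projective Z] :
    (ShortComplex.mk _ _ (whisker_zero S Z)).ShortExact := by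
  have : Module.Projective R Z := Z.projective_of_module_projective
  refine { exact := ?_, mono_f := ?_, epi_g := ?_ }
  · exact Module.Flat.rTensor_shortComplex_exact Z S hS.exact
  · rw [ModuleCat.mono_iff_injective]
    exact Module.Flat.rTensor_preserves_injective_linearMap _
      ((ModuleCat.mono_iff_injective _).mp hS.mono_f)
  · rw [ModuleCat.epi_iff_surjective]
    exact LinearMap.rTensor_surjective Z ((ModuleCat.epi_iff_surjective _).mp hS.epi_g)

include hS in
/-- Composites killing `Tor`. -/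
theorem tor_map_comp_eq_zero {X Y W : ModuleCat.{u} R} (f : X ⟶ Y) (g : Y ⟶ W) (n : ℕ)
    (hf : ((CategoryTheory.Tor (ModuleCat.{u} R) n).obj S.X₁).map f = 0)
    (hg : ((CategoryTheory.Tor (ModuleCat.{u} R) (n + 1)).obj S.X₂).map g = 0) :
    ((CategoryTheory.Tor (ModuleCat.{u} R) (n + 1)).obj S.X₃).map (f ≫ g) = 0 :=
  leftDerived_map_comp_eq_zero ((tensoringLeft (ModuleCat.{u} R)).map S.f)
    ((tensoringLeft (ModuleCat.{u} R)).map S.g) (whisker_zero S)
    (fun Z _ => whisker_shortExact S hS Z) f g n hf hg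

include hS in
/-- If `S.X₁ ⊗ X → S.X₂ ⊗ X` is injective, `Tor₁(S.X₂, X) → Tor₁(S.X₃, X)` is surjective. -/
theorem tor_one_map_eq_zero {X Y : ModuleCat.{u} R} (f : X ⟶ Y)
    (hinj : Function.Injective (S.f.hom.rTensor X))
    (hf : ((CategoryTheory.Tor (ModuleCat.{u} R) 1).obj S.X₂).map f = 0) :
    ((CategoryTheory.Tor (ModuleCat.{u} R) 1).obj S.X₃).map f = 0 := by
  obtain ⟨-, -, δ, w₁, w₂, h₁, -⟩ := leftDerived_les_natTrans
    ((tensoringLeft (ModuleCat.{u} R)).map S.f) ((tensoringLeft (ModuleCat.{u} R)).map S.g)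
    (whisker_zero S) (fun Z _ => whisker_shortExact S hS Z) X 0
  have hsq : (NatTrans.leftDerived ((tensoringLeft (ModuleCat.{u} R)).map S.f) 0).app X ≫
      ((Tor.zeroIso S.X₂).app X).hom = ((Tor.zeroIso S.X₁).app X).hom ≫ S.f ▷ X :=
    leftDerived_zero_app_comp ((tensoringLeft (ModuleCat.{u} R)).map S.f) X
  haveI : Mono (S.f ▷ X) := (ModuleCat.mono_iff_injective _).2 hinj
  haveI : Mono ((NatTrans.leftDerived ((tensoringLeft (ModuleCat.{u} R)).map S.f) 0).app X) :=
    @mono_of_mono _ _ _ _ _ _ ((Tor.zeroIso S.X₂).app X).hom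
      (hsq ▸ mono_comp ((Tor.zeroIso S.X₁).app X).hom (S.f ▷ X))
  haveI := h₁.epi_f (zero_of_comp_mono _ w₂)
  refine (cancel_epi ((NatTrans.leftDerived ((tensoringLeft (ModuleCat.{u} R)).map S.g) 1).app X)).1 ?_
  refine Eq.trans ?_ comp_zero.symm
  refine ((NatTrans.leftDerived ((tensoringLeft (ModuleCat.{u} R)).map S.g) 1).naturality f).symm.trans ?_
  exact (congrArg (fun m => m ≫ _) hf).trans zero_comp

end SES

variable (I : Ideal R)

/-- The projection `R/Iⁿ → R/Iᵏ`. -/
noncomputable def q {n k : ℕ} (h : k ≤ n) : ModuleCat.of R (R ⧸ I ^ n) ⟶ ModuleCat.of R (R ⧸ I ^ k) :=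
  ModuleCat.ofHom (Submodule.mapQ (I ^ n) (I ^ k) LinearMap.id (Ideal.pow_le_pow_right h))

lemma q_comp {n k j : ℕ} (h : k ≤ n) (h' : j ≤ k) : q I h ≫ q I h' = q I (h'.trans h) := by
  ext x; rfl

/-- The short complex of a surjection. -/
lemma shortExact_of_surjective {M N : Type u} [AddCommGroup M] [AddCommGroup N] [Module R M] [Module R N]
    (g : M →ₗ[R] N) (hg : Function.Surjective g) :
    (ShortComplex.mk (ModuleCat.ofHom (LinearMap.ker g).subtype) (ModuleCat.ofHom g)
      (ModuleCat.hom_ext (LinearMap.exact_subtype_ker_map g).linearMap_comp_eq_zero)).ShortExact :=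
  ModuleCat.shortComplex_shortExact _ (LinearMap.exact_subtype_ker_map g) (Submodule.injective_subtype _) hg

/-- Elementary tensors with `1` span. -/
lemma exists_eq_tmul_one {M : Type u} [AddCommGroup M] [Module R M] (J : Ideal R) (z : M ⊗[R] (R ⧸ J)) :
    ∃ y : M, z = y ⊗ₜ[R] (Submodule.Quotient.mk (1 : R) : R ⧸ J) := by
  induction z using TensorProduct.induction_on with
  | zero => exact ⟨0, (TensorProduct.zero_tmul _ _).symm⟩
  | tmul y x =>
    obtain ⟨r, rfl⟩ := Submodule.Quotient.mk_surjective _ x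
    refine ⟨r • y, ?_⟩
    rw [TensorProduct.smul_tmul, ← Submodule.Quotient.mk_smul, smul_eq_mul, mul_one]
  | add a b ha hb =>
    obtain ⟨y, rfl⟩ := ha
    obtain ⟨y', rfl⟩ := hb
    exact ⟨y + y', (TensorProduct.add_tmul _ _ _).symm⟩

lemma tmul_one_eq_zero_iff {M : Type u} [AddCommGroup M] [Module R M] (J : Ideal R) (y : M) :
    y ⊗ₜ[R] (Submodule.Quotient.mk (1 : R) : R ⧸ J) = 0 ↔ y ∈ J • (⊤ : Submodule R M) := by
  rw [← (TensorProduct.tensorQuotEquivQuotSMul M J).map_eq_zero_iff,
    show (Submodule.Quotient.mk (1 : R) : R ⧸ J) = Ideal.Quotient.mk J 1 from rfl,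
    TensorProduct.tensorQuotEquivQuotSMul_tmul_mk, one_smul, Submodule.Quotient.mk_eq_zero]

lemma finsupp_mem_smul_top_iff {ι : Type u} {M : Type u} [AddCommGroup M] [Module R M] (J : Ideal R) (y : ι →₀ M) :
    y ∈ J • (⊤ : Submodule R (ι →₀ M)) ↔ ∀ j, y j ∈ J • (⊤ : Submodule R M) := by
  classical
  refine ⟨fun h j => ?_, fun h => ?_⟩
  · have := Submodule.mem_map_of_mem (f := Finsupp.lapply j) h
    rw [Submodule.map_smul''] at this
    exact Submodule.smul_mono le_rfl le_top this
  · rw [← Finsupp.sum_single y]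
    refine Submodule.sum_mem _ fun j _ => ?_
    have := Submodule.mem_map_of_mem (f := (Finsupp.lsingle j : M →ₗ[R] ι →₀ M)) (h j)
    rw [Submodule.map_smul''] at this
    exact Submodule.smul_mono le_rfl le_top this

/-- The finite case, uniformly for direct sums of copies. -/
theorem exists_finite [IsNoetherianRing R] : ∀ (i : ℕ) (L : Type u) [AddCommGroup L] [Module R L]
    [Module.Finite R L], ∃ c : ℕ, ∀ (ι : Type u) (n : ℕ), c ≤ n →
      ((CategoryTheory.Tor (ModuleCat.{u} R) (i + 1)).obj (ModuleCat.of R (ι →₀ L))).map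
        (q I (Nat.sub_le n c)) = 0 := by
  classical
  intro i
  induction i with
  | zero =>
    intro L _ _ _
    obtain ⟨k, g, hg⟩ := Module.Finite.exists_fin' R L
    obtain ⟨c, hc⟩ := Ideal.exists_pow_inf_eq_pow_smul I (LinearMap.ker g)
    refine ⟨c, fun ι n hn => ?_⟩
    let g' : (ι →₀ (Fin k → R)) →ₗ[R] (ι →₀ L) := Finsupp.mapRange.linearMap g
    refine Tor.one_map_eq_zero _ (shortExact_of_surjective g' (Finsupp.mapRange_surjective g (map_zero g) hg))
      (q I (Nat.sub_le n c)) fun z hz => ?_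
    obtain ⟨y, rfl⟩ := exists_eq_tmul_one (I ^ n) z
    replace hz := (finsupp_mem_smul_top_iff _ _).1 ((tmul_one_eq_zero_iff _ _).1 hz)
    refine (tmul_one_eq_zero_iff (I ^ (n - c)) y).2 ?_
    have hK : ∀ j, y.1 j ∈ LinearMap.ker g := fun j => DFunLike.congr_fun (LinearMap.mem_ker.1 y.2) j
    -- the components, as elements of the kernel
    let y' : ι →₀ LinearMap.ker g :=
      Finsupp.onFinset y.1.support (fun j => ⟨y.1 j, hK j⟩) fun j hj =>
        Finsupp.mem_support_iff.2 fun h => hj (Subtype.ext h)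
    have hy' : y' ∈ I ^ (n - c) • (⊤ : Submodule R (ι →₀ LinearMap.ker g)) := by
      refine (finsupp_mem_smul_top_iff _ _).2 fun j => ?_
      rw [← Submodule.comap_map_eq_of_injective (LinearMap.ker g).injective_subtype
        (I ^ (n - c) • (⊤ : Submodule R (LinearMap.ker g))), Submodule.mem_comap, Submodule.map_smul'',
        Submodule.map_top, Submodule.range_subtype]
      exact Submodule.smul_mono le_rfl inf_le_right (hc n hn ▸ Submodule.mem_inf.2 ⟨hz j, hK j⟩)
    let e : (ι →₀ LinearMap.ker g) →ₗ[R] LinearMap.ker g' :=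
      LinearMap.codRestrict _ (Finsupp.mapRange.linearMap (LinearMap.ker g).subtype) fun x =>
        Finsupp.ext fun j => (x j).2
    have he : e y' = y := Subtype.ext (Finsupp.ext fun j => rfl)
    have := Submodule.mem_map_of_mem (f := e) hy'
    rw [Submodule.map_smul'', he] at this
    exact Submodule.smul_mono le_rfl le_top this
  | succ i ih =>
    intro L _ _ _
    obtain ⟨k, g, hg⟩ := Module.Finite.exists_fin' R L
    obtain ⟨c, hc⟩ := ih (LinearMap.ker g)
    refine ⟨c, fun ι n hn => ?_⟩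
    let g' : (ι →₀ (Fin k → R)) →ₗ[R] (ι →₀ L) := Finsupp.mapRange.linearMap g
    let f' : (ι →₀ LinearMap.ker g) →ₗ[R] (ι →₀ (Fin k → R)) :=
      Finsupp.mapRange.linearMap (LinearMap.ker g).subtype
    have hfg : Function.Exact f' g' := fun x => ⟨fun hx => ⟨Finsupp.onFinset x.support
        (fun j => ⟨x j, DFunLike.congr_fun hx j⟩) (fun j hj =>
          Finsupp.mem_support_iff.2 fun h => hj (Subtype.ext h)), Finsupp.ext fun j => rfl⟩, by
      rintro ⟨y, rfl⟩
      exact Finsupp.ext fun j => (y j).2⟩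
    let F' : ModuleCat.of R (ι →₀ LinearMap.ker g) ⟶ ModuleCat.of R (ι →₀ (Fin k → R)) := ModuleCat.ofHom f'
    let G' : ModuleCat.of R (ι →₀ (Fin k → R)) ⟶ ModuleCat.of R (ι →₀ L) := ModuleCat.ofHom g'
    have hfg0 : F' ≫ G' = 0 :=
      ModuleCat.hom_ext (LinearMap.ext fun x => hfg.apply_apply_eq_zero x)
    have hS : (ShortComplex.mk F' G' hfg0).ShortExact :=
      ModuleCat.shortComplex_shortExact _ hfg
        (Finsupp.mapRange_injective _ (map_zero _) (LinearMap.ker g).injective_subtype)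
        (Finsupp.mapRange_surjective g (map_zero g) hg)
    haveI : Module.Flat R (ι →₀ (Fin k → R)) := inferInstance
    have h := tor_map_comp_eq_zero _ hS (q I (Nat.sub_le n c)) (𝟙 _) (i + 1) (hc ι n hn)
      ((H1CAlg.isZero_Tor_of_flat (ModuleCat.of R (ι →₀ (Fin k → R))) _ (i + 1)).eq_of_src _ _)
    rwa [Category.comp_id] at h

/-- Modules killed by a power of `I`. -/
theorem exists_killed [IsNoetherianRing R] (m : ℕ) : ∀ i : ℕ, ∃ c : ℕ, ∀ (M : Type u) [AddCommGroup M]
    [Module R M], (∀ a ∈ I ^ m, ∀ x : M, a • x = 0) → ∀ n : ℕ, c ≤ n →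
      ((CategoryTheory.Tor (ModuleCat.{u} R) (i + 1)).obj (ModuleCat.of R M)).map (q I (Nat.sub_le n c)) = 0 := by
  intro i
  induction i with
  | zero =>
    obtain ⟨c, hc⟩ := exists_finite I 0 (R ⧸ I ^ m)
    refine ⟨max c m, fun M _ _ hM n hn => ?_⟩
    let g : (M →₀ R ⧸ I ^ m) →ₗ[R] M := Finsupp.lsum ℕ fun x =>
      Submodule.liftQ (I ^ m) (LinearMap.toSpanSingleton R M x) fun a ha => hM a ha x
    have hg : Function.Surjective g := fun x => ⟨Finsupp.single x (Submodule.Quotient.mk 1), by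
      rw [Finsupp.lsum_single]; exact one_smul R x⟩
    have hG : I ^ n • (⊤ : Submodule R (M →₀ R ⧸ I ^ m)) = ⊥ := eq_bot_iff.2 <|
      Submodule.smul_le.2 fun a ha x _ => (Submodule.mem_bot R).2 (Finsupp.ext fun j => by
        obtain ⟨r, hr⟩ := Submodule.Quotient.mk_surjective _ (x j)
        rw [Finsupp.smul_apply, ← hr, ← Submodule.Quotient.mk_smul]
        exact (Submodule.Quotient.mk_eq_zero _).2
          (Ideal.mul_mem_right r _ (Ideal.pow_le_pow_right (le_of_max_le_right hn) ha)))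
    have h := tor_one_map_eq_zero _ (shortExact_of_surjective g hg)
      (q I (Nat.sub_le n c) ≫ q I (Nat.sub_le_sub_left (le_max_left c m) n)) (fun a b hab => by
        obtain ⟨y, rfl⟩ := exists_eq_tmul_one (I ^ n) a
        obtain ⟨y', rfl⟩ := exists_eq_tmul_one (I ^ n) b
        have h0 : ((y : M →₀ R ⧸ I ^ m) - y') ⊗ₜ[R] (Submodule.Quotient.mk (1 : R) : R ⧸ I ^ n) = 0 := by
          rw [TensorProduct.sub_tmul, sub_eq_zero]; exact hab
        rw [tmul_one_eq_zero_iff, hG, Submodule.mem_bot, sub_eq_zero] at h0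
        rw [Subtype.ext h0])
      (by rw [CategoryTheory.Functor.map_comp, hc M n (le_of_max_le_left hn), zero_comp])
    rwa [q_comp] at h
  | succ i ih =>
    obtain ⟨c', hc'⟩ := ih
    obtain ⟨c, hc⟩ := exists_finite I (i + 1) (R ⧸ I ^ m)
    refine ⟨c' + c, fun M _ _ hM n hn => ?_⟩
    let g : (M →₀ R ⧸ I ^ m) →ₗ[R] M := Finsupp.lsum ℕ fun x =>
      Submodule.liftQ (I ^ m) (LinearMap.toSpanSingleton R M x) fun a ha => hM a ha x
    have hg : Function.Surjective g := fun x => ⟨Finsupp.single x (Submodule.Quotient.mk 1), by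
      rw [Finsupp.lsum_single]; exact one_smul R x⟩
    have hK : ∀ a ∈ I ^ m, ∀ x : LinearMap.ker g, a • x = 0 := fun a ha x => Subtype.ext (Finsupp.ext fun j => by
      obtain ⟨r, hr⟩ := Submodule.Quotient.mk_surjective _ (x.1 j)
      rw [Submodule.coe_smul, Finsupp.smul_apply, ← hr, ← Submodule.Quotient.mk_smul]
      exact (Submodule.Quotient.mk_eq_zero _).2 (Ideal.mul_mem_right r _ ha))
    have hle : n - c' - c ≤ n - c' := Nat.sub_le _ _
    have h := tor_map_comp_eq_zero _ (shortExact_of_surjective g hg)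
      (q I (Nat.sub_le n c')) (q I hle) (i + 1)
      (hc' (LinearMap.ker g) hK n (le_of_add_le_left hn)) (hc M (n - c') (Nat.le_sub_of_add_le' hn))
    rw [q_comp] at h
    convert h using 3 <;> rw [Nat.sub_sub]

end Groth.Agent.H4TorAR
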