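import Groth.Statements.S1689
import Groth.Agent.H29Ref.Free
import Groth.Agent.H8Props.FlatDimOneBase
import Groth.Agent.H8Props.FinLocFree.Global

set_option autoImplicit false
universe u
open CategoryTheory CategoryTheory.Limits AlgebraicGeometry TopologicalSpace
open SDiv

namespace Groth.Agent.S1689

/-- Let X be a locally Noetherian scheme of dimension at most 2 all of whose local rings are regular,
and F a coherent module on X. Then F is reflexive (every stalk is a reflexive module over the local
ring) if and only if F is finite locally free. -/
theorem result (X : Scheme.{u}) [IsLocallyNoetherian X]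
    (hreg : ∀ x : ↥X, IsRegularLocalRing (X.presheaf.stalk x)) (hdim : topologicalKrullDim ↥X ≤ 2) (F : X.Modules)
    (hF : Coh.IsCoh F) : (∀ x : ↥X, Module.IsReflexive (X.presheaf.stalk x) (F.presheaf.stalk x)) ↔ FlatMod.IsFinLocFree F := by
  refine ⟨fun h => H29Ref.isFinLocFree_of_free_stalk F hF fun x => ?_, fun h x => ?_⟩
  · haveI := hreg x
    haveI := H29Ref.finite_stalk F hF.2 x
    haveI := h x
    exact H29Ref.free_of_isReflexive _ ((H8Props.FlatDimOneBase.ringKrullDim_stalk_le X x).trans hdim)
  · haveI := H29Ref.finite_stalk F hF.2 x
    haveI := H8Props.FinLocFree.free_stalk F h x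
    infer_instance

end Groth.Agent.S1689
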