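import Groth.Statements.S12058
import Groth.Agent.H28Alg.ExtOne

set_option autoImplicit false
universe w v u
open CategoryTheory CategoryTheory.Limits CategoryTheory.Abelian
open SGA3

namespace Groth.Agent.S12058

open CategoryTheory.Pretriangulated DerivedCategory in
theorem extClass_naturality' {C : Type u} [Category.{v} C] [Abelian C] [HasExt.{w} C]
    {S₁ S₂ : ShortComplex C} (h₁ : S₁.ShortExact) (h₂ : S₂.ShortExact)
    (a : S₁.X₁ ⟶ S₂.X₁) (b : S₁.X₂ ⟶ S₂.X₂) (c : S₁.X₃ ⟶ S₂.X₃)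
    (w₁ : S₁.f ≫ b = a ≫ S₂.f) (w₂ : b ≫ S₂.g = S₁.g ≫ c) :
    h₁.extClass.comp (Ext.mk₀ a) (add_zero 1) = (Ext.mk₀ c).comp h₂.extClass (zero_add 1) := by
  let := HasDerivedCategory.standard C
  let S := singleFunctor C 0
  obtain ⟨θ, e1, e2⟩ := complete_distinguished_triangle_morphism h₁.singleTriangle h₂.singleTriangle
    h₁.singleTriangle_distinguished h₂.singleTriangle_distinguished (S.map a) (S.map b)
    (show S.map S₁.f ≫ S.map b = S.map a ≫ S.map S₂.f by rw [← Functor.map_comp, w₁, Functor.map_comp])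
  obtain ⟨t, rfl⟩ : ∃ t, S.map t = θ := ⟨S.preimage θ, S.map_preimage θ⟩
  have e1' : S.map S₁.g ≫ S.map t = S.map b ≫ S.map S₂.g := e1
  rw [← Functor.map_comp, ← Functor.map_comp, w₂] at e1'
  haveI := h₁.epi_g
  have ht : t = c := (cancel_epi S₁.g).mp (S.map_injective e1')
  subst ht
  refine Ext.ext ?_
  have e2' : h₁.singleδ ≫ (shiftFunctor _ (1 : ℤ)).map (S.map a) = S.map t ≫ h₂.singleδ := e2
  simpa [S, Ext.comp_hom, Ext.mk₀_hom, ShiftedHom.comp_mk₀, ShiftedHom.mk₀_comp] using e2'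


/-- In an abelian category, let 0 → A' → A → A'' → 0 be a short exact sequence, φ : A' ⟶ Q a morphism
and π : A'' ⟶ P an epimorphism with kernel C. Consider the quadruples (B, f, g, h) with 0 → Q → B →
P → 0 short exact (maps f, g) and h : A ⟶ B such that the squares commute: (A' → A → B) = (A' → Q →
B) and (A → B → P) = (A → A'' → P). Such a quadruple exists if and only if the image in Ext¹(C, Q)
of the class of the given extension in Ext¹(A'', A') (push forward along φ, pull back along the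
inclusion C → A'') is zero. -/
theorem result {C : Type u} [Category.{v} C] [Abelian C]
    [HasExt.{w} C] {S : ShortComplex C} (hS : S.ShortExact) {Q P : C} (φ : S.X₁ ⟶ Q) (π : S.X₃ ⟶ P) [Epi π] :
    (∃ (B : C) (f : Q ⟶ B) (g : B ⟶ P) (h : S.X₂ ⟶ B) (w : f ≫ g = 0),
        (ShortComplex.mk f g w).ShortExact ∧ S.f ≫ h = φ ≫ f ∧ h ≫ g = S.g ≫ π) ↔
      (Ext.mk₀ (kernel.ι π)).comp (hS.extClass.comp (Ext.mk₀ φ) (add_zero 1)) (zero_add 1) = 0 := by
  have hπ : (ShortComplex.mk (kernel.ι π) π (kernel.condition π)).ShortExact :=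
    { exact := ShortComplex.exact_of_f_is_kernel _ (kernelIsKernel π)
      mono_f := inferInstanceAs (Mono (kernel.ι π))
      epi_g := inferInstanceAs (Epi π) }
  constructor
  · rintro ⟨B, f, g, h, w, hB, e1, e2⟩
    have := extClass_naturality' hS hB φ h π e1 e2
    rw [this, ← Ext.comp_assoc_of_second_deg_zero, Ext.mk₀_comp_mk₀, kernel.condition, Ext.mk₀_zero,
      Ext.zero_comp]
  · intro h0
    obtain ⟨ξ, hξ⟩ := Ext.contravariant_sequence_exact₂ hπ Q (hS.extClass.comp (Ext.mk₀ φ) (add_zero 1)) h0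
    obtain ⟨B, f, g, w, hB, hcl⟩ := H28Alg.exists_shortExact_extClass_eq ξ
    obtain ⟨h, e1, e2⟩ := H28Alg.exists_map_of_extClass_comp hS hB φ π (by rw [hcl]; exact hξ.symm)
    exact ⟨B, f, g, h, w, hB, e1, e2⟩

end Groth.Agent.S12058
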