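import Groth.Statements.S15848
import Groth.Agent.H22Alg.KPullFree
import Groth.Agent.H19Grp.RegularSmooth
import Groth.Agent.H16Derived.ProjFormula.ClosedImm
import Groth.Agent.S5165
import Groth.Agent.H05EGA4.HullCompletion
import Groth.Agent.H02CA.AuslanderBuchsbaum
import Groth.Agent.H10Coh.AffinePush
import Groth.Agent.H10Coh.FinType2
import Groth.Agent.H17.Dim
import Groth.Agent.H17.ConsModModels

set_option autoImplicit false
set_option backward.isDefEq.respectTransparency.types false
universe u
open CategoryTheory CategoryTheory.Limits AlgebraicGeometry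
open Surf

attribute [local instance] specializationOrder

namespace Groth.Agent.S15848

theorem projective_X₁ {A : Type u} [CommRing A] [IsRegularLocalRing A] {N P M : Type u}
    [AddCommGroup N] [Module A N] [AddCommGroup P] [Module A P] [Module.Free A P] [Module.Finite A P]
    [AddCommGroup M] [Module A M] [Module.Finite A M]
    (f : N →ₗ[A] P) (g : P →ₗ[A] M) (hf : Function.Injective f) (hfg : Function.Exact f g)
    (hg : Function.Surjective g) (hd : ringKrullDim A ≤ ((2 : ℕ) : WithBot ℕ∞))
    (hcond : ringKrullDim A ≤ ((1 : ℕ) : WithBot ℕ∞) ∨ Subsingleton M ∨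
      ∃ b ∈ IsLocalRing.maximalIdeal A, IsSMulRegular M b) : Module.Projective A N := by
  classical
  haveI : IsRegularRing A := H05EGA4.HullCompletion.isRegularRing_of_local A
  obtain ⟨d, hpd⟩ := S5165.result A M
  have hex : ∃ n, HasProjectiveDimensionLT (ModuleCat.of A M) n := ⟨_, hpd⟩
  have h2 : HasProjectiveDimensionLT (ModuleCat.of A M) 2 := by
    have hn := Nat.find_spec hex
    by_cases hle : Nat.find hex ≤ 2
    · exact hasProjectiveDimensionLT_of_ge _ _ _ hle
    obtain ⟨e, he⟩ : ∃ e, Nat.find hex = e + 1 := ⟨Nat.find hex - 1, by omega⟩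
    rw [he] at hn
    haveI : Nontrivial M := by
      by_contra hnt
      rw [not_nontrivial_iff_subsingleton] at hnt
      haveI := hnt
      haveI := (ModuleCat.isZero_of_subsingleton (ModuleCat.of A M)).hasProjectiveDimensionLT_zero
      exact absurd (Nat.find_min' hex (show HasProjectiveDimensionLT (ModuleCat.of A M) 0 from inferInstance)) (by omega)
    have hAB := H02CA.AuslanderBuchsbaum.depth_eq_add e M hn (Nat.find_min hex (by omega))
    have hdep := H4Depth.depth_self_eq_ringKrullDim_of_regular A
    rw [← hdep] at hd
    have hd' : LocCoh.depth A A ≤ ((2 : ℕ) : ℕ∞) := WithBot.coe_le_coe.1 hd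
    rcases hcond with h1 | hs | ⟨b, hb, hreg⟩
    · rw [← hdep] at h1
      have h1' : LocCoh.depth A A ≤ ((1 : ℕ) : ℕ∞) := WithBot.coe_le_coe.1 h1
      rw [hAB] at h1'
      have := le_self_add.trans h1'
      have : e ≤ 1 := ENat.natCast_le_natCast.1 this
      omega
    · exact absurd hs (not_subsingleton M)
    · have hdM : ((1 : ℕ) : ℕ∞) ≤ LocCoh.depth A M := by
        have := H4Depth.length_le_idealDepth (I := IsLocalRing.maximalIdeal A) (M := M) (rs := [b])
          ((RingTheory.Sequence.isWeaklyRegular_cons_iff M b []).2 ⟨hreg, RingTheory.Sequence.IsWeaklyRegular.nil A _⟩)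
          (fun r hr => by rw [List.mem_singleton] at hr; exact hr ▸ hb)
        exact this
      rw [hAB] at hd'
      have := (add_le_add (le_refl (e : ℕ∞)) hdM).trans hd'
      have : e + 1 ≤ 2 := ENat.natCast_le_natCast.1 ((Nat.cast_add (R := ℕ∞) e 1).le.trans this)
      omega
  let S := ShortComplex.mk (ModuleCat.ofHom f) (ModuleCat.ofHom g) (by
    ext x; exact hfg.apply_apply_eq_zero x)
  have hS : S.ShortExact :=
    { exact := (ShortComplex.moduleCat_exact_iff S).2 fun x hx => (hfg x).1 hx
      mono_f := (ModuleCat.mono_iff_injective _).2 hf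
      epi_g := (ModuleCat.epi_iff_surjective _).2 hg }
  haveI : Module.Projective A P := inferInstance
  haveI : Projective S.X₂ := ModuleCat.projective_of_categoryTheory_projective (ModuleCat.of A P)
  have h1 : HasProjectiveDimensionLT S.X₁ 1 := (hS.hasProjectiveDimensionLT_X₃_iff 0 ‹_›).1 h2
  exact (IsProjective.iff_projective (R := A) N).2 (projective_iff_hasProjectiveDimensionLT_one.2 h1)

/-- Let k be an algebraically closed field of characteristic zero and S a smooth surface over k (an
integral k-scheme, smooth over k, of dimension two). Let j : C → S be a closed immersion with C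
integral of dimension one, M a coherent O_C-module whose stalks are torsion-free modules over the
local rings of C, F a finite locally free O_S-module and f : F → j_*M an epimorphism of O_S-modules.
Then the kernel of f, the elementary transformation of F along f, is a finite locally free
O_S-module. (The published setting takes S projective; the argument is local on S and projectivity
is not assumed here.) -/
theorem result
    (k : Type u) [Field k] [IsAlgClosed k] [CharZero k]
    (S : Scheme.{u}) [S.Over (Spec (CommRingCat.of k))] [IsIntegral S]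
    [Smooth (S ↘ Spec (CommRingCat.of k))] (hdim : topologicalKrullDim S = 2)
    (C : Scheme.{u}) (j : C ⟶ S) [IsClosedImmersion j] [IsIntegral C]
    (hC : topologicalKrullDim C = 1)
    (M : C.Modules) (hM : Coh.IsCoh M) (hMtf : TorSh.IsTorsionFree M)
    (F : S.Modules) (hF : FlatMod.IsFinLocFree F)
    (f : F ⟶ (Coh.push j).obj M) [Epi f] :
    FlatMod.IsFinLocFree (kernel f) := by
  classical
  let σ := S ↘ Spec (CommRingCat.of k)
  haveI : IsLocallyNoetherian S := LocallyOfFiniteType.isLocallyNoetherian σ
  haveI : IsLocallyNoetherian C := LocallyOfFiniteType.isLocallyNoetherian (j ≫ σ)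
  have hFc : Coh.IsCoh F := H17.ConsProp.isCoh_of_isFP (F := F) (H8Props.FinLocFree.isFP_of_isFinLocFree F hF)
  have hPc : Coh.IsCoh ((Coh.push j).obj M) := H10Coh.isCoh_push_of_isFinite (f := j) (M := M) hM
  have hKc : Coh.IsCoh (kernel f) := H10Coh.isCoh_kernel f hFc hPc.1
  refine H22Alg.KLFRes.finLocFree_of_coh_flat hKc fun s => ?_
  let S' := ShortComplex.mk (kernel.ι f) f (kernel.condition f)
  have hS' : S'.ShortExact := { exact := ShortComplex.exact_of_f_is_kernel _ (kernelIsKernel f) }
  haveI := H19Grp.isRegularLocalRing_stalk_of_smooth (k := k) σ s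
  haveI := H8Props.FinLocFree.free_stalk F hF s
  haveI := H06Mod.finite_stalk F hFc.2 s
  haveI := H06Mod.finite_stalk ((Coh.push j).obj M) hPc.2 s
  haveI := H06Mod.finite_stalk (kernel f) hKc.2 s
  have hd : ringKrullDim (S.presheaf.stalk s) ≤ ((2 : ℕ) : WithBot ℕ∞) := by
    rw [ringKrullDim_stalk_eq_coheight]
    have h : Order.krullDim S = topologicalKrullDim S :=
      (H17.topologicalKrullDim_eq_krullDim_specialization (α := S)).symm
    exact (Order.coheight_le_krullDim s).trans (le_of_eq (h.trans hdim))
  have hcond : ringKrullDim (S.presheaf.stalk s) ≤ ((1 : ℕ) : WithBot ℕ∞) ∨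
      Subsingleton (((Coh.push j).obj M).presheaf.stalk s) ∨ ∃ b ∈ IsLocalRing.maximalIdeal (S.presheaf.stalk s),
        IsSMulRegular (((Coh.push j).obj M).presheaf.stalk s) b := by
    by_cases hs : s ∈ Set.range j
    swap
    · exact Or.inr (Or.inl (H16Derived.ProjFormula.subsingleton_stalk_push j M s hs))
    obtain ⟨x, rfl⟩ := hs
    haveI : IsDomain (C.presheaf.stalk x) := inferInstance
    by_cases hb : ∃ b ∈ IsLocalRing.maximalIdeal (S.presheaf.stalk (j x)), (j.stalkMap x).hom b ≠ 0
    · obtain ⟨b, hbm, hb0⟩ := hb
      refine Or.inr (Or.inr ⟨b, hbm, fun σ₁ σ₂ h => ?_⟩)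
      haveI := hMtf x
      refine (H16Derived.ProjFormula.pushStalk_bijective j M x).1 ?_
      have h2 := congrArg (H16Derived.ProjFormula.pushStalk j M x) h
      rw [H16Derived.ProjFormula.pushStalk_smul, H16Derived.ProjFormula.pushStalk_smul] at h2
      exact Module.IsTorsionFree.isSMulRegular (isRegular_of_ne_zero hb0) h2
    · push Not at hb
      left
      have hfield : ringKrullDim (C.presheaf.stalk x) = 0 := by
        refine ringKrullDim_eq_zero_of_isField ⟨⟨0, 1, zero_ne_one⟩, mul_comm, fun {c} hc => ?_⟩
        obtain ⟨a, rfl⟩ := j.stalkMap_surjective x c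
        exact (((by by_contra ha; exact hc (hb a ((IsLocalRing.mem_maximalIdeal _).2 ha))) : IsUnit a).map
          (j.stalkMap x).hom).exists_right_inv
      obtain ⟨w, hw⟩ : ∃ w : C, w ≠ genericPoint C := by
        by_contra hne
        push Not at hne
        haveI : Subsingleton C := ⟨fun a b => (hne a).trans (hne b).symm⟩
        have := topologicalKrullDim_zero_of_discreteTopology C
        rw [hC] at this
        exact absurd this (by decide)
      have hxη : x = genericPoint C := by
        by_contra hne
        have h1 : x < genericPoint C := lt_of_le_of_ne (genericPoint_specializes x) hne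
        rw [ringKrullDim_stalk_eq_coheight] at hfield
        have h2 := Order.coheight_add_one_le h1
        rw [show Order.coheight x = 0 from WithBot.coe_eq_coe.1 hfield] at h2
        exact absurd (le_add_self.trans h2) (by norm_num)
      have hlt : j w < j x := by
        rw [hxη]
        refine lt_of_le_of_ne ((genericPoint_specializes w).map j.continuous) fun e => hw ?_
        exact j.isClosedEmbedding.injective e
      rw [ringKrullDim_stalk_eq_coheight]
      have h := Order.coheight_add_one_le hlt
      have h2 : Order.coheight (j w) ≤ ((2 : ℕ) : ℕ∞) := WithBot.coe_le_coe.1 (by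
        have h : Order.krullDim S = topologicalKrullDim S :=
          (H17.topologicalKrullDim_eq_krullDim_specialization (α := S)).symm
        exact (Order.coheight_le_krullDim (j w)).trans (le_of_eq (h.trans hdim)))
      refine WithBot.coe_le_coe.2 ?_
      have h3 := h.trans h2
      exact (ENat.add_le_add_iff_right ENat.one_ne_top).1 (h3.trans (by norm_num))
  haveI : Module.Projective (S.presheaf.stalk s) ((kernel f).presheaf.stalk s) := (projective_X₁ (H06Mod.stalkLin S'.f s) (H06Mod.stalkLin S'.g s)
    (H06Mod.stalk_injective S' hS' s) (H06Mod.stalk_exact S' hS' s) (H06Mod.stalk_surjective S' hS' s) hd hcond)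
  exact Module.Flat.of_projective

end Groth.Agent.S15848
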