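-- statement FlatMor.GrothFrozen.S1223 (Groth/Statements/S1223.lean; the theorem FlatMor.isUnivPure_of_flat_geomIntegralFibres);
import Groth.Statements.S1223
import Groth.Agent.H7Flat.ImpurityStage

set_option autoImplicit false
universe u
open FlatMor

namespace Groth.Agent.S1223
open scoped TensorProduct
set_option backward.isDefEq.respectTransparency false
set_option maxHeartbeats 1000000
set_option synthInstance.maxHeartbeats 400000

open AlgebraicGeometry CategoryTheory Limits in
/-- Tensoring a geometrically integral algebra with a field gives a domain. -/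
theorem isDomain_tensor {A B : Type u} [CommRing A] [CommRing B] [Algebra A B]
    (h : FlatCA.GeomIntegralFibres A B) (K : Type u) [Field K] [Algebra A K] :
    IsDomain (B ⊗[A] K) := by
  have hint : IsIntegral (pullback (Spec.map (CommRingCat.ofHom (algebraMap A B)))
      (Spec.map (CommRingCat.ofHom (algebraMap A K)))) :=
    h.geometrically_isIntegral (Spec.map (CommRingCat.ofHom (algebraMap A K)))
      (pullback.fst _ _) (pullback.snd _ _) (IsPullback.of_hasPullback _ _)
  have : IsIntegral (Spec (CommRingCat.of (B ⊗[A] K))) :=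
    IsIntegral.of_isIso (pullbackSpecIso A B K).hom
  exact (affine_isIntegral_iff (CommRingCat.of (B ⊗[A] K))).mp this

attribute [local instance] Algebra.TensorProduct.rightAlgebra in
/-- Fibres of base changes of a geometrically integral algebra are domains. -/
theorem isDomain_fiber {A B : Type u} [CommRing A] [CommRing B] [Algebra A B]
    (h : FlatCA.GeomIntegralFibres A B) (A' B' : Type u) [CommRing A'] [CommRing B'] [Algebra A A']
    [Algebra B B'] [Algebra A' B'] [Algebra A B'] [IsScalarTower A B B'] [IsScalarTower A A' B']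
    [Algebra.IsPushout A A' B B'] (s : Ideal A') [s.IsPrime] : IsDomain (s.Fiber B') := by
  letI : Algebra B (s.Fiber B') :=
    ((algebraMap B' (s.Fiber B')).comp (algebraMap B B')).toAlgebra
  haveI : IsScalarTower B B' (s.Fiber B') := IsScalarTower.of_algebraMap_eq fun _ => rfl
  haveI : IsScalarTower A B' (s.Fiber B') := IsScalarTower.of_algebraMap_eq fun r => by
    rw [IsScalarTower.algebraMap_apply A A' B', ← IsScalarTower.algebraMap_apply A' B' (s.Fiber B'),
      ← IsScalarTower.algebraMap_apply]
  haveI : IsScalarTower A B (s.Fiber B') := IsScalarTower.of_algebraMap_eq fun r => by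
    change _ = algebraMap B' (s.Fiber B') (algebraMap B B' (algebraMap A B r))
    rw [← IsScalarTower.algebraMap_apply A B B', ← IsScalarTower.algebraMap_apply]
  have h0 : Algebra.IsPushout A' s.ResidueField B' (s.Fiber B') := inferInstance
  have h1 : Algebra.IsPushout A s.ResidueField B (s.Fiber B') :=
    (Algebra.IsPushout.comp_iff A A' B B' (T := s.ResidueField) (T' := s.Fiber B')).mpr h0
  haveI := isDomain_tensor h s.ResidueField
  exact (((Algebra.IsPushout.equiv A s.ResidueField B (s.Fiber B')).symm.toRingEquiv).trans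
    (Algebra.TensorProduct.comm A s.ResidueField B).toRingEquiv).toMulEquiv.isDomain

attribute [local instance] Algebra.TensorProduct.rightAlgebra in
/-- Ring form, X = Spec B affine: a finite type, flat A-algebra B with geometrically integral fibres is
universally pure relative to Spec A. -/
theorem result {A B : Type u} [CommRing A] [CommRing B] [Algebra A B] [Algebra.FiniteType A B] [Module.Flat A B]
    (h : FlatCA.GeomIntegralFibres A B) : FlatCA.IsUnivPure A B B := by
  intro p _ A' B' N' _ _ _ _ _ _ _ _ _ _ _ _ _ _ f t' t _ _ P _ himp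
  obtain ⟨hpush, hbc, htt, -, hPt', hass, hnone⟩ := himp
  haveI := hPt'
  haveI := hpush
  haveI : Algebra.IsPushout A A' B B' := Algebra.IsPushout.symm hpush
  haveI : Module.Flat A' B' := Module.Flat.isBaseChange A A' B B'
    (f := (IsScalarTower.toAlgHom A B B').toLinearMap) Algebra.IsPushout.out
  letI : Algebra B (t'.Fiber B') :=
    ((algebraMap B' (t'.Fiber B')).comp (algebraMap B B')).toAlgebra
  haveI : IsScalarTower B B' (t'.Fiber B') := IsScalarTower.of_algebraMap_eq fun _ => rfl
  have hdom : ∀ (s : Ideal A') [s.IsPrime], IsDomain (s.Fiber B') := fun s _ =>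
    Groth.Agent.S1223.isDomain_fiber h A' B' s
  let M := FlatCA.fiberMod t' B' N'
  letI : Module B M := Module.compHom M (algebraMap B B')
  haveI : IsScalarTower B B' M := IsScalarTower.of_algebraMap_smul fun _ _ => rfl
  haveI : IsScalarTower B' (t'.Fiber B') M := IsScalarTower.of_algebraMap_smul fun s m =>
    algebraMap_smul (t'.Fiber B') s (show (t'.Fiber B') ⊗[B'] N' from m)
  haveI : IsScalarTower B (t'.Fiber B') M := IsScalarTower.of_algebraMap_smul fun b m =>
    algebraMap_smul (t'.Fiber B') (algebraMap B B' b) (show (t'.Fiber B') ⊗[B'] N' from m)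
  have hM : IsBaseChange (t'.Fiber B') (((FlatCA.toFiberMod t' B' N').restrictScalars B).comp f) :=
    IsBaseChange.comp hbc (TensorProduct.isBaseChange B' N' (t'.Fiber B'))
  let e : M ≃ₗ[t'.Fiber B'] t'.Fiber B' :=
    hM.equiv.symm ≪≫ₗ TensorProduct.AlgebraTensorModule.rid B (t'.Fiber B') (t'.Fiber B')
  change FlatCA.fiberIdeal t' P ∈ associatedPrimes (t'.Fiber B') M at hass
  rw [LinearEquiv.AssociatedPrimes.eq e] at hass
  have hbot : FlatCA.fiberIdeal t' P = ⊥ := by
    obtain ⟨hQ, x, hx⟩ := hass
    haveI := hdom t'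
    by_cases hx0 : x = 0
    · exfalso
      refine hQ.ne_top ?_
      rw [hx, eq_top_iff]
      intro c _
      exact Ideal.le_radical (by simp [Submodule.mem_colon_singleton, hx0])
    · rw [hx, show Submodule.colon (⊥ : Submodule (t'.Fiber B') (t'.Fiber B')) {x} = (⊥ : Ideal _) from ?_,
        Ideal.radical_eq_iff.mpr Ideal.isPrime_bot.isRadical]
      rw [eq_bot_iff]
      intro c hc
      rw [Submodule.mem_colon_singleton, Submodule.mem_bot, smul_eq_mul] at hc
      exact (mul_eq_zero.mp hc).resolve_right hx0
  haveI := hdom t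
  let Q₀ : Ideal B' := (⊥ : Ideal (t.Fiber B')).comap (algebraMap B' (t.Fiber B'))
  haveI : (⊥ : Ideal (t.Fiber B')).IsPrime := Ideal.isPrime_bot
  haveI : Q₀.IsPrime := Ideal.comap_isPrime _ _
  haveI : Q₀.LiesOver t := Groth.Agent.H7Flat.ImpurityStage.liesOver_comap_fiber t ⊥
  obtain ⟨P₀, hle, _, _⟩ := Ideal.exists_ideal_le_liesOver_of_le (p := t') (q := t) Q₀ htt
  refine hnone Q₀ (le_trans ?_ hle) inferInstance
  intro x hx
  rw [← Groth.Agent.H7Flat.ImpurityDescend.comap_fiberIdeal t' P₀, Ideal.mem_comap]
  have h0 : algebraMap B' (t'.Fiber B') x ∈ FlatCA.fiberIdeal t' P := Ideal.mem_map_of_mem _ hx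
  rw [hbot, Ideal.mem_bot] at h0
  rw [h0]
  exact zero_mem _

end Groth.Agent.S1223
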