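-- statement FlatMor.GrothFrozen.S1204 (Groth/Statements/S1204.lean; the theorem FlatMor.tfae_flatAt_of_fiber_basis_local);
import Groth.Statements.S1204
import Groth.Agent.H7Flat.FiberBasis

set_option autoImplicit false
universe u
open FlatMor

namespace Groth.Agent.S1204

open TensorProduct IsLocalRing in
/-- Let R be a local ring and S a finitely presented flat R-algebra with geometrically integral fibres,
so that 𝔭 = 𝔪_R S is a prime of S; let q be a prime of S over 𝔪_R and N a finite S-module. Then
there is an S-linear map α from a finite free module S^r to N inducing a bijection after base change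
to κ(𝔭); and for any such α the following are equivalent: N_q is flat over R; α is universally
injective over R and the cokernel of α is flat over R at q; α is injective and the cokernel is flat
at q; α localized at 𝔭 is bijective and the cokernel is flat at q; α localized at q is injective and
the cokernel is flat at q. -/
theorem result {R S : Type u} [CommRing R] [IsLocalRing R] [CommRing S] [Algebra R S] [Algebra.FinitePresentation R S] [Module.Flat R S]
    (hgi : FlatCA.GeomIntegralFibres R S) [((maximalIdeal R).map (algebraMap R S)).IsPrime]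
    (q : Ideal S) [q.IsPrime] [q.LiesOver (maximalIdeal R)]
    (N : Type u) [AddCommGroup N] [Module S N] [Module R N] [IsScalarTower R S N] [Module.Finite S N] :
    (∃ (r : ℕ) (α : (Fin r → S) →ₗ[S] N), Function.Bijective (α.baseChange ((maximalIdeal R).map (algebraMap R S)).ResidueField)) ∧
    ∀ (r : ℕ) (α : (Fin r → S) →ₗ[S] N), Function.Bijective (α.baseChange ((maximalIdeal R).map (algebraMap R S)).ResidueField) →
      [FlatCA.FlatAt R q N,
       FlatCA.UnivInj R (α.restrictScalars R) ∧ FlatCA.FlatAt R q (N ⧸ LinearMap.range α),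
       Function.Injective α ∧ FlatCA.FlatAt R q (N ⧸ LinearMap.range α),
       Function.Bijective (LocalizedModule.map ((maximalIdeal R).map (algebraMap R S)).primeCompl α) ∧ FlatCA.FlatAt R q (N ⧸ LinearMap.range α),
       Function.Injective (LocalizedModule.map q.primeCompl α) ∧ FlatCA.FlatAt R q (N ⧸ LinearMap.range α)].TFAE := by
  let P := (maximalIdeal R).map (algebraMap R S)
  refine ⟨Groth.Agent.H7Flat.FiberBasis.exists_basis P, fun r α hα => ?_⟩
  have hqm : q.comap (algebraMap R S) = maximalIdeal R := (Ideal.LiesOver.over (p := maximalIdeal R) (P := q)).symm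
  have hPq : P ≤ q := Ideal.map_le_iff_le_comap.mpr hqm.ge
  have hle : ∀ p : Ideal R, p.IsPrime → p.map (algebraMap R S) ≤ P := fun p hp =>
    Ideal.map_mono (IsLocalRing.le_maximalIdeal hp.ne_top)
  have hbotq : ∀ p : Ideal R, p.IsPrime → (p.map (algebraMap R S)).IsPrime →
      (p.map (algebraMap R S)).comap (algebraMap R S) = p →
      Disjoint ((⊥ : Submonoid S) : Set S) (p.map (algebraMap R S) : Ideal S) →
      Disjoint (q.primeCompl : Set S) (p.map (algebraMap R S) : Ideal S) := fun p hp _ _ _ =>
    Set.disjoint_left.mpr fun x hx h => hx (hPq (hle p hp h))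
  have hbotP : ∀ p : Ideal R, p.IsPrime → (p.map (algebraMap R S)).IsPrime →
      (p.map (algebraMap R S)).comap (algebraMap R S) = p →
      Disjoint ((⊥ : Submonoid S) : Set S) (p.map (algebraMap R S) : Ideal S) →
      Disjoint (P.primeCompl : Set S) (p.map (algebraMap R S) : Ideal S) := fun p hp _ _ _ =>
    Set.disjoint_left.mpr fun x hx h => hx (hle p hp h)
  have hinj : ∀ T : Submonoid S,
      (∀ p : Ideal R, p.IsPrime → (p.map (algebraMap R S)).IsPrime →
        (p.map (algebraMap R S)).comap (algebraMap R S) = p →
        Disjoint ((⊥ : Submonoid S) : Set S) (p.map (algebraMap R S) : Ideal S) →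
        Disjoint (T : Set S) (p.map (algebraMap R S) : Ideal S)) →
      Function.Injective (LocalizedModule.map T α) → Function.Injective α := fun T hT h => by
    refine (injective_iff_map_eq_zero α).mpr fun x hx => ?_
    obtain ⟨t, ht, htx⟩ := (Groth.Agent.H7Flat.FiberBasis.injective_map_iff ⊥ α).mp
      (Groth.Agent.H7Flat.FiberBasis.injective_of_injective hgi ⊥ T hT α h) x hx
    rwa [Submonoid.mem_bot.mp ht, one_smul] at htx
  tfae_have 1 → 2 := fun hN => by
    have hk := Groth.Agent.H7Flat.FiberBasis.kills_of_flatAt (maximalIdeal R) q α hα.1 hN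
    refine ⟨fun Q _ _ => ?_, Groth.Agent.H7Flat.FiberBasis.flatAt_coker q α hN hk⟩
    rw [LinearMap.lTensor_inj_iff_rTensor_inj, injective_iff_map_eq_zero]
    intro w hw
    obtain ⟨t, ht, htw⟩ :=
      Groth.Agent.H7Flat.FiberBasis.kills_of_kills hgi ⊥ q.primeCompl hbotq α hk Q w hw
    rwa [Submonoid.mem_bot.mp ht, one_smul] at htw
  tfae_have 2 → 3 := fun ⟨h, hC⟩ => by
    refine ⟨fun x y hxy => ?_, hC⟩
    apply (TensorProduct.lid R (Fin r → S)).symm.injective
    exact h R (by simp [hxy])
  tfae_have 3 → 4 := fun ⟨h, hC⟩ => by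
    refine ⟨⟨LocalizedModule.map_injective P.primeCompl α h, fun z => ?_⟩, hC⟩
    induction z using LocalizedModule.induction_on with
    | _ n s =>
      obtain ⟨c, hc, x, hx⟩ := Groth.Agent.H7Flat.FiberBasis.exists_smul_mem_range P α hα.2 n
      refine ⟨LocalizedModule.mk x (⟨c, hc⟩ * s), ?_⟩
      rw [LocalizedModule.map_mk, hx, LocalizedModule.mk_eq]
      exact ⟨1, by simp [Submonoid.smul_def, mul_smul, smul_comm (s : S) c]⟩
  tfae_have 4 → 5 := fun ⟨h, hC⟩ =>
    ⟨LocalizedModule.map_injective q.primeCompl α (hinj P.primeCompl hbotP h.1), hC⟩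
  tfae_have 5 → 1 := fun ⟨h, hC⟩ => by
    haveI : Module.Flat R (Fin r → S) := Module.Flat.trans R S (Fin r → S)
    exact Groth.Agent.H7Flat.FiberBasis.flatAt_of_injective q α h hC
  tfae_finish

end Groth.Agent.S1204
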