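import Groth.Statements.S12243
import Groth.Agent.H8Props.Devissage.CompleteBC

set_option autoImplicit false
universe u
open FlatMor

namespace Groth.Agent.S12243

open TensorProduct in
open Groth.Agent.H8Props.Devissage in
attribute [local instance] Algebra.TensorProduct.rightAlgebra in
/-- All schemes are affine; the base-changed complete dévissage is asserted to exist with its pieces
pinned as base changes. Let R → S be of finite type, N a finite S-module, p a prime of R and 𝒟 a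
complete dévissage of N/S/R over p in the prelude's algebraic form (rings A_i, smooth R-algebras B_i
with pB_i prime and geometrically irreducible fibres, finite A_i-modules M_i with N ≅ M_0, maps α_i
from finite free B_i-modules, bijective on the fibre at pB_i, whose cokernels are the next modules,
the last one surjective; steps indexed by i below the length). Let R → R' be a ring map, p' a prime
of R' over p, S' the base change of S and N' = N ⊗_S S'. Then N'/S'/R' has a complete dévissage 𝒟'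
over p' of the same length and the same ranks whose pieces are base changes of those of 𝒟: for the
steps i below the length there are algebra structures making A'_i and B'_i the base changes of A_i
and B_i along R → R', compatibly with B_i → A_i, with B_i → A_{i+1}, with S → A_0 and with S' →
A'_0, and A_i-linear base-change maps M_i → M'_i (M'_i ≅ M_i ⊗_{A_i} A'_i) carrying N ≅ M_0 to N' ≅
M'_0 and the image of α_i onto a generating set of the image of α'_i. (The published statement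
base-changes all the data functorially; here the identifications of cokernels inside 𝒟' are not
required to be the base-changed ones.) -/
theorem result
    (R S : Type u) [CommRing R] [CommRing S] [Algebra R S] [Algebra.FiniteType R S]
    (N : Type u) [AddCommGroup N] [Module S N] [Module.Finite S N]
    (p : Ideal R) [p.IsPrime] (𝒟 : FlatCA.CompleteDevissage R S N p)
    (R' : Type u) [CommRing R'] [Algebra R R'] (p' : Ideal R') [p'.IsPrime] [p'.LiesOver p]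
    (S' : Type u) [CommRing S'] [Algebra R' S'] [Algebra R S'] [Algebra S S'] [IsScalarTower R R' S']
    [IsScalarTower R S S'] [Algebra.IsPushout R R' S S']
    (N' : Type u) [AddCommGroup N'] [Module S' N'] [Module S N'] [IsScalarTower S S' N']
    (f : N →ₗ[S] N') (hf : IsBaseChange S' f) :
    ∃ (𝒟' : FlatCA.CompleteDevissage R' S' N' p')
      (aA : ∀ i : Fin 𝒟.n, Algebra (𝒟.A i) (𝒟'.A i)) (rA : ∀ i : Fin 𝒟.n, Algebra R (𝒟'.A i))
      (_t1 : ∀ i : Fin 𝒟.n, IsScalarTower R (R') (𝒟'.A i)) (_t2 : ∀ i : Fin 𝒟.n, IsScalarTower R (𝒟.A i) (𝒟'.A i))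
      (aB : ∀ i : Fin 𝒟.n, Algebra (𝒟.B i) (𝒟'.B i)) (rB : ∀ i : Fin 𝒟.n, Algebra R (𝒟'.B i))
      (_t3 : ∀ i : Fin 𝒟.n, IsScalarTower R (R') (𝒟'.B i)) (_t4 : ∀ i : Fin 𝒟.n, IsScalarTower R (𝒟.B i) (𝒟'.B i))
      (bA : ∀ i : Fin 𝒟.n, Algebra (𝒟.B i) (𝒟'.A i)) (_t5 : ∀ i : Fin 𝒟.n, IsScalarTower (𝒟.B i) (𝒟.A i) (𝒟'.A i))
      (_t6 : ∀ i : Fin 𝒟.n, IsScalarTower (𝒟.B i) (𝒟'.B i) (𝒟'.A i))
      (bA' : ∀ i : Fin 𝒟.n, Algebra (𝒟.B i) (𝒟'.A (i + 1)))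
      (_t7 : ∀ i : Fin 𝒟.n, IsScalarTower (𝒟.B i) (𝒟'.B i) (𝒟'.A (i + 1)))
      (sA : Algebra S (𝒟'.A 0)) (_t8 : IsScalarTower S (S') (𝒟'.A 0))
      (mA : ∀ i : Fin 𝒟.n, Module (𝒟.A i) (𝒟'.M i)) (_t9 : ∀ i : Fin 𝒟.n, IsScalarTower (𝒟.A i) (𝒟'.A i) (𝒟'.M i))
      (gM : ∀ i : Fin 𝒟.n, 𝒟.M i →ₗ[𝒟.A i] 𝒟'.M i),
      𝒟'.n = 𝒟.n ∧ 𝒟'.r = 𝒟.r ∧
      (letI := aA ⟨0, 𝒟.pos⟩; IsScalarTower S (𝒟.A 0) (𝒟'.A 0)) ∧
      (∀ x : N, 𝒟'.isoN (f x) = gM ⟨0, 𝒟.pos⟩ (𝒟.isoN x)) ∧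
      (∀ (i : Fin 𝒟.n) (h : (i : ℕ) + 1 < 𝒟.n),
        letI := aA ⟨i + 1, h⟩; IsScalarTower (𝒟.B i) (𝒟.A (i + 1)) (𝒟'.A (i + 1))) ∧
      ∀ i : Fin 𝒟.n,
        Algebra.IsPushout R R' (𝒟.A i) (𝒟'.A i) ∧ Algebra.IsPushout R R' (𝒟.B i) (𝒟'.B i) ∧
        IsBaseChange (𝒟'.A i) (gM i) ∧
        LinearMap.range (𝒟'.α i) =
          Submodule.span (𝒟'.B i) ((gM i) '' (LinearMap.range (𝒟.α i) : Set (𝒟.M i))) := by
  let s₀ : S' →ₐ[R'] CBC.A' 𝒟 R' 0 := (CBC.mkA 𝒟 R' 0).comp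
    ((Algebra.TensorProduct.map (AlgHom.id R' R') (IsScalarTower.toAlgHom R S (𝒟.A 0))).comp
      (Algebra.IsPushout.equiv R R' S S').symm.toAlgHom)
  let aS' : Algebra S' (CBC.A' 𝒟 R' 0) := s₀.toRingHom.toAlgebra
  let sA : Algebra S (CBC.A' 𝒟 R' 0) :=
    ((algebraMap S' (CBC.A' 𝒟 R' 0)).comp (algebraMap S S')).toAlgebra
  have tR'S' : IsScalarTower R' S' (CBC.A' 𝒟 R' 0) :=
    IsScalarTower.of_algebraMap_eq fun r => (s₀.commutes r).symm
  have t8 : IsScalarTower S S' (CBC.A' 𝒟 R' 0) := IsScalarTower.of_algebraMap_eq fun _ => rfl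
  have tSA : IsScalarTower S (𝒟.A 0) (CBC.A' 𝒟 R' 0) := IsScalarTower.of_algebraMap_eq fun s => by
    show s₀ (algebraMap S S' s) = CBC.mkA 𝒟 R' 0 (1 ⊗ₜ algebraMap S (𝒟.A 0) s)
    have he : (Algebra.IsPushout.equiv R R' S S').symm (algebraMap S S' s) = 1 ⊗ₜ s := by
      rw [AlgEquiv.symm_apply_eq, Algebra.IsPushout.equiv_tmul, map_one, one_mul]
    show CBC.mkA 𝒟 R' 0 (Algebra.TensorProduct.map _ _
      ((Algebra.IsPushout.equiv R R' S S').symm (algebraMap S S' s))) = _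
    rw [he, Algebra.TensorProduct.map_tmul]
    rfl
  have hA0 : Algebra.IsPushout R R' (𝒟.A 0) (CBC.A' 𝒟 R' 0) := CBC.isPushout_A 𝒟 R' ⟨0, 𝒟.pos⟩
  have hS0 : Algebra.IsPushout S S' (𝒟.A 0) (CBC.A' 𝒟 R' 0) :=
    isPushout_middle R S (𝒟.A 0) R' S' (CBC.A' 𝒟 R' 0)
  have hM : IsBaseChange S' ((CBC.g 𝒟 R' 0).restrictScalars S) :=
    isBaseChange_restrict (CBC.g_isBaseChange 𝒟 R' 0)
  let e : N' ≃ₗ[S'] CBC.M' 𝒟 R' 0 := hf.equiv.symm ≪≫ₗ
    AlgebraTensorModule.congr (LinearEquiv.refl S' S') 𝒟.isoN ≪≫ₗ hM.equiv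
  have he : ∀ x : N, e (f x) = CBC.g 𝒟 R' 0 (𝒟.isoN x) := fun x => by
    have h1 : hf.equiv.symm (f x) = 1 ⊗ₜ x := by rw [LinearEquiv.symm_apply_eq, hf.equiv_tmul, one_smul]
    show hM.equiv (AlgebraTensorModule.congr (LinearEquiv.refl S' S') 𝒟.isoN (hf.equiv.symm (f x))) = _
    rw [h1, AlgebraTensorModule.congr_tmul, hM.equiv_tmul, LinearEquiv.refl_apply, one_smul]
    rfl
  have : Algebra.FinitePresentation S (𝒟.A 0) := 𝒟.fpSA
  let 𝒟' := CBC.devissage 𝒟 R' p' S'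
    (surjective_middle R S (𝒟.A 0) R' S' (CBC.A' 𝒟 R' 0) 𝒟.surjSA)
    (finitePresentation_middle R S (𝒟.A 0) R' S' (CBC.A' 𝒟 R' 0)) e
  exact ⟨𝒟', fun i => (inferInstance : Algebra (𝒟.A i) (CBC.A' 𝒟 R' i)),
    fun i => (inferInstance : Algebra R (CBC.A' 𝒟 R' i)), fun i => (inferInstance :
      IsScalarTower R R' (CBC.A' 𝒟 R' i)),
    fun i => (inferInstance : IsScalarTower R (𝒟.A i) (CBC.A' 𝒟 R' i)),
    fun i => CBC.instAlgBB 𝒟 R' p' i, fun i => (inferInstance : Algebra R (CBC.B' 𝒟 R' p' i)),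
    fun i => (inferInstance : IsScalarTower R R' (CBC.B' 𝒟 R' p' i)),
    fun i => (inferInstance : IsScalarTower R (𝒟.B i) (CBC.B' 𝒟 R' p' i)),
    fun i => CBC.instAlgBAi 𝒟 R' i,
    fun i => (inferInstance : IsScalarTower (𝒟.B i) (𝒟.A i) (CBC.A' 𝒟 R' i)),
    fun i => (inferInstance : IsScalarTower (𝒟.B i) (CBC.B' 𝒟 R' p' i) (CBC.A' 𝒟 R' i)),
    fun i => CBC.instAlgBA'i 𝒟 R' i,
    fun i => (inferInstance : IsScalarTower (𝒟.B i) (CBC.B' 𝒟 R' p' i) (CBC.A' 𝒟 R' (i + 1))),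
    sA, t8, fun i => (inferInstance : Module (𝒟.A i) (CBC.M' 𝒟 R' i)),
    fun i => (inferInstance : IsScalarTower (𝒟.A i) (CBC.A' 𝒟 R' i) (CBC.M' 𝒟 R' i)),
    fun i => CBC.g 𝒟 R' i, rfl, rfl, tSA, he,
    fun i _ => (inferInstance : IsScalarTower (𝒟.B i) (𝒟.A (i + 1)) (CBC.A' 𝒟 R' (i + 1))),
    fun i => ⟨CBC.isPushout_A 𝒟 R' i, CBC.isPushout_B 𝒟 R' p' i, CBC.g_isBaseChange 𝒟 R' i,
      CBC.range_α' 𝒟 R' p' i⟩⟩

end Groth.Agent.S12243
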