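-- statement FlatMor.GrothFrozen.S1253 (Groth/Statements/S1253.lean; the theorem FlatMor.free_and_fp_of_flatAt_of_completeDevissageAt);
import Groth.Statements.S1253
import Groth.Agent.H7Flat.DevissageChain

set_option autoImplicit false
universe u
open FlatMor

namespace Groth.Agent.S1253

open IsLocalRing in
/-- Let R be a local ring, S a finitely presented R-algebra, N a finite S-module and q a prime of S over
𝔪_R with N_q flat over R. If N/S/R admits a complete dévissage at q, then N is of finite
presentation over S and free over R; more precisely N is R-isomorphic to the product over the steps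
of the dévissage of the free modules B_i^{r_i}, with B_i and r_i the dévissage's own smooth algebras
and ranks. -/
theorem result {R S : Type u} [CommRing R] [IsLocalRing R] [CommRing S] [Algebra R S] [Algebra.FinitePresentation R S]
    (N : Type u) [AddCommGroup N] [Module S N] [Module R N] [IsScalarTower R S N] [Module.Finite S N]
    (q : Ideal S) [q.IsPrime] [q.LiesOver (maximalIdeal R)] (hflat : FlatCA.FlatAt R q N)
    (D : FlatCA.CompleteDevissage R S N (maximalIdeal R)) (hD : Nonempty (FlatCA.CompleteDevissageAt R S N (maximalIdeal R) q D)) :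
    Module.FinitePresentation S N ∧ Module.Free R N ∧
      Nonempty (N ≃ₗ[R] (∀ i : Fin D.n, Fin (D.r i) → D.B i)) := by
  classical
  obtain ⟨H⟩ := hD
  haveI := H.hqB; haveI := H.hqA; haveI := H.overB; haveI := H.overA
  haveI tRAM : ∀ i, IsScalarTower R (D.A i) (D.M i) := fun i => .of_algebraMap_smul fun x y => by
    rw [IsScalarTower.algebraMap_apply R (D.B i) (D.A i), algebraMap_smul, algebraMap_smul]
  haveI tRBM' : ∀ i, IsScalarTower R (D.B i) (D.M (i + 1)) := fun i => .of_algebraMap_smul fun x y => by
    rw [← algebraMap_smul (D.A (i + 1)) (algebraMap R (D.B i) x) y, ← IsScalarTower.algebraMap_apply,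
      algebraMap_smul]
  haveI : IsScalarTower R S (D.M 0) := .of_algebraMap_smul fun x y => by
    rw [← algebraMap_smul (D.A 0) (algebraMap R S x) y, ← IsScalarTower.algebraMap_apply, algebraMap_smul]
  have hfin : ∀ i, i < D.n → Module.Finite (D.B i) (D.M i) := fun i hi => by
    haveI := D.finiteBA i hi; haveI := D.finiteM i hi
    exact Module.Finite.trans (D.A i) (D.M i)
  have hint : ∀ i, i < D.n → Algebra.IsIntegral (D.B i) (D.A i) := fun i hi => by
    haveI := D.finiteBA i hi; exact Algebra.IsIntegral.of_finite (D.B i) (D.A i)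
  have htop : ∀ i, i < D.n → (FlatCA.FlatAt R (H.qA i) (D.M i) → FlatCA.FlatAt R (H.qB i) (D.M i)) :=
    fun i hi h => by
      haveI := hint i hi
      exact (H7Flat.DevissageChain.flatAt_comap (D.M i) (H.qA i) (H.qB i)
        (Ideal.LiesOver.over (p := H.qB i) (P := H.qA i)).symm
        fun c hc => H7Flat.DevissageLoc.exists_notMem_dvd (H.qB i) (H.qA i) (H.uniq i hi) c hc).mpr h
  have hsmooth : ∀ i, i < D.n → Algebra.Smooth R (D.B i) := D.smooth
  -- the conclusions at one step
  have hstep : ∀ i, i < D.n → FlatCA.FlatAt R (H.qB i) (D.M i) →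
      Function.Injective (D.α i) ∧ FlatCA.FlatAt R (H.qB i) (D.M i ⧸ LinearMap.range (D.α i)) := by
    intro i hi h
    haveI := hsmooth i hi; haveI := hfin i hi
    haveI : Module.Flat R (D.B i) := inferInstance
    have hT := (Groth.Agent.S1204.result (R := R) (S := D.B i)
      (H7Flat.DevissageChain.geomIntegralFibres (D.geomIrred i hi)) (H.qB i) (D.M i)).2 (D.r i) (D.α i)
      (D.fibreIso i hi)
    exact (hT.out 0 2).mp h
  have hflatM : ∀ i, i < D.n → FlatCA.FlatAt R (H.qB i) (D.M i) := by
    intro i
    induction i with
    | zero =>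
      intro hi
      refine htop 0 hi ?_
      refine (H7Flat.DevissageChain.flatAt_comap (D := S) (D.M 0) (H.qA 0) q H.q0 fun c hc => ?_).mp
        (H7Flat.DevissageChain.flatAt_congr q D.isoN hflat)
      obtain ⟨t, rfl⟩ := D.surjSA c
      exact ⟨t, fun h => hc (Ideal.mem_comap.mp (H.q0.symm ▸ h)), dvd_rfl⟩
    | succ i ih =>
      intro hi
      refine htop (i + 1) hi ?_
      refine (H7Flat.DevissageChain.flatAt_comap (D := D.B i) (D.M (i + 1)) (H.qA (i + 1)) (H.qB i)
        (H.qStep i hi) fun c hc => ?_).mp
        (H7Flat.DevissageChain.flatAt_congr (H.qB i) (D.isoCoker i hi) (hstep i (by omega) (ih (by omega))).2)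
      obtain ⟨t, rfl⟩ := D.surjBA' i hi c
      exact ⟨t, fun h => hc (Ideal.mem_comap.mp ((H.qStep i hi).symm ▸ h)), dvd_rfl⟩
  have hinj : ∀ i, i < D.n → Function.Injective (D.α i) := fun i hi => (hstep i hi (hflatM i hi)).1
  have hprojF : ∀ i, i < D.n → Module.Projective R (Fin (D.r i) → D.B i) := fun i hi => by
    haveI := hsmooth i hi
    haveI := H7Flat.DevissageChain.projective (R := R) (D.geomIrred i hi)
    exact Module.Projective.of_equiv (DirectSum.linearEquivFunOnFintype R (Fin (D.r i)) fun _ => D.B i)
  have hlast : ∀ i, i + 1 = D.n → Function.Bijective (D.α i) := fun i hi => by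
    refine ⟨hinj i (by omega), ?_⟩
    rw [show i = D.n - 1 by omega]
    exact D.cokerLast
  have hdown : ∀ k i, i + k + 1 = D.n →
      Module.Projective R (D.M i) ∧ Module.FinitePresentation (D.A i) (D.M i) ∧
        (i + 1 < D.n → Nonempty (D.M i ≃ₗ[R] (Fin (D.r i) → D.B i) × D.M (i + 1))) := by
    intro k
    induction k with
    | zero =>
      intro i hi
      have hb := hlast i (by omega)
      let e : (Fin (D.r i) → D.B i) ≃ₗ[D.B i] D.M i := LinearEquiv.ofBijective (D.α i) hb
      haveI := hprojF i (by omega)
      haveI := D.finiteBA i (by omega); haveI := D.finiteM i (by omega)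
      haveI : Module.FinitePresentation (D.B i) (D.M i) := Module.FinitePresentation.of_equiv e
      exact ⟨Module.Projective.of_equiv (e.restrictScalars R), H7Flat.DevissageChain.fp_of_restrictScalars (D := D.B i),
        fun h => absurd h (by omega)⟩
    | succ k ih =>
      intro i hi
      obtain ⟨hP, hF, -⟩ := ih (i + 1) (by omega)
      haveI := hprojF i (by omega)
      haveI := D.finiteBA i (by omega); haveI := D.finiteM i (by omega)
      haveI : Module.FinitePresentation (D.B i) (D.A (i + 1)) := by
        haveI := D.fpBA' i (by omega)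
        exact Module.finitePresentation_of_surjective (Algebra.linearMap (D.B i) (D.A (i + 1)))
          (D.surjBA' i (by omega))
          (Algebra.FinitePresentation.ker_fG_of_surjective (Algebra.ofId (D.B i) (D.A (i + 1)))
            (D.surjBA' i (by omega)))
      haveI : Module.FinitePresentation (D.B i) (D.M (i + 1)) :=
        Module.FinitePresentation.trans (D.B i) (D.M (i + 1)) (D.A (i + 1))
      let π : D.M i →ₗ[D.B i] D.M (i + 1) :=
        (D.isoCoker i (by omega)).toLinearMap ∘ₗ (LinearMap.range (D.α i)).mkQ
      have hπ : Function.Surjective π :=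
        (D.isoCoker i (by omega)).surjective.comp (LinearMap.range (D.α i)).mkQ_surjective
      have hker : LinearMap.ker π = LinearMap.range (D.α i) := by
        rw [LinearEquiv.ker_comp, Submodule.ker_mkQ]
      haveI : Module.FinitePresentation (D.B i) (LinearMap.ker π) :=
        Module.FinitePresentation.of_equiv ((LinearEquiv.ofInjective (D.α i) (hinj i (by omega))).trans
          (LinearEquiv.ofEq _ _ hker.symm))
      haveI : Module.FinitePresentation (D.B i) (D.M i) := Module.finitePresentation_of_ker π hπ
      obtain ⟨s, hs⟩ := Module.projective_lifting_property (π.restrictScalars R) LinearMap.id hπ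
      have hs' : ∀ x, π (s x) = x := fun x => LinearMap.congr_fun hs x
      have hπα : ∀ x, π (D.α i x) = 0 := fun x => by
        rw [← LinearMap.mem_ker, hker]; exact LinearMap.mem_range_self _ x
      let j : ((Fin (D.r i) → D.B i) × D.M (i + 1)) →ₗ[R] D.M i :=
        ((D.α i).restrictScalars R).coprod s
      have hj : Function.Bijective j := by
        refine ⟨(injective_iff_map_eq_zero j).mpr fun x hx => ?_, fun y => ?_⟩
        · obtain ⟨a, b⟩ := x
          have hb0 : b = 0 := by
            have := congrArg π hx
            simpa [j, hs', hπα] using this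
          subst hb0
          have : a = 0 := hinj i (by omega) (by simpa [j] using hx)
          rw [this]; rfl
        · obtain ⟨a, ha⟩ : y - s (π y) ∈ LinearMap.range (D.α i) := by
            rw [← hker, LinearMap.mem_ker, map_sub, hs', sub_self]
          exact ⟨(a, π y), by simp [j, ha]⟩
      exact ⟨Module.Projective.of_equiv (LinearEquiv.ofBijective j hj),
        H7Flat.DevissageChain.fp_of_restrictScalars (D := D.B i), fun _ => ⟨(LinearEquiv.ofBijective j hj).symm⟩⟩
  obtain ⟨m, hm⟩ : ∃ m, D.n = m + 1 := ⟨D.n - 1, by have := D.pos; omega⟩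
  obtain ⟨hP0, hF0, -⟩ := hdown m 0 (by omega)
  haveI := hP0
  haveI : Module.Projective R N := Module.Projective.of_equiv (D.isoN.restrictScalars R).symm
  refine ⟨?_, H1CAlg.free_of_projective_isLocalRing N, ?_⟩
  · haveI : Module.FinitePresentation S (D.A 0) := by
      haveI := D.fpSA
      exact Module.finitePresentation_of_surjective (Algebra.linearMap S (D.A 0)) D.surjSA
        (Algebra.FinitePresentation.ker_fG_of_surjective (Algebra.ofId S (D.A 0)) D.surjSA)
    haveI : Module.FinitePresentation S (D.M 0) := Module.FinitePresentation.trans S (D.M 0) (D.A 0)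
    exact Module.FinitePresentation.of_equiv D.isoN.symm
  · obtain ⟨e⟩ := H7Flat.DevissageChain.nonempty_equiv (R := R) m D.M (fun i => Fin (D.r i) → D.B i)
      (fun i hi => (hdown (D.n - i - 1) i (by omega)).2.2 (by omega))
      ⟨((LinearEquiv.ofBijective (D.α m) (hlast m (by omega))).restrictScalars R).symm⟩
    exact ⟨D.isoN.restrictScalars R ≪≫ₗ e ≪≫ₗ
      LinearEquiv.piCongrLeft R (fun i : Fin D.n => Fin (D.r i) → D.B i) (finCongr hm.symm)⟩

end Groth.Agent.S1253
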