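-- statement FlatMor.GrothFrozen.S1212 (Groth/Statements/S1212.lean; the theorem FlatMor.assoc_fiber_sup_maximal_ne_top_of_projective);
import Groth.Statements.S1212
import Groth.Agent.H7Flat.AssMeets
import Groth.Agent.H1CAlg.LocalFree
import Mathlib

set_option autoImplicit false
universe u
open FlatMor

namespace Groth.Agent.S1212

open TensorProduct IsLocalRing in
/-- Let R be a local ring, S an R-algebra and N an S-module which is projective as an R-module, such
that the closed fibre ring of S is Noetherian and the closed fibre module of N is finite over it.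
Then every prime q of S, over p in R, which is an associated prime (the annihilator of an element)
of the S-module N ⊗_R κ(p) satisfies q + 𝔪_R S ≠ S. -/
theorem result {R S : Type u} [CommRing R] [IsLocalRing R] [CommRing S] [Algebra R S]
    (N : Type u) [AddCommGroup N] [Module S N] [Module R N] [IsScalarTower R S N] [Module.Projective R N]
    [IsNoetherianRing ((maximalIdeal R).Fiber S)]
    [Module.Finite ((maximalIdeal R).Fiber S) (FlatCA.fiberMod (maximalIdeal R) S N)]
    (p : Ideal R) [p.IsPrime] (q : Ideal S) [q.IsPrime] [q.LiesOver p]
    (hq : q ∈ FlatCA.ass S (N ⊗[R] p.ResidueField)) :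
    q ⊔ (maximalIdeal R).map (algebraMap R S) ≠ ⊤ := by
  classical
  obtain ⟨-, z, hz⟩ := hq
  haveI : Module.Free R N := Groth.Agent.H1CAlg.free_of_projective_isLocalRing (R := R) N
  let b := Module.Free.chooseBasis R N
  refine H7Flat.AssMeets.sup_ne_top_of_injective _ _ q z hz fun f hf hfz =>
    H7Flat.AssMeets.eq_zero_of_smul_eq_self_of_isInternal (fun i => Submodule.span R {b i})
      b.linearIndependent.iSupIndep_span_singleton ?_
      (fun i => Module.Finite.span_singleton R (b i)) _ z hf hfz
  rw [← Submodule.span_range_eq_iSup]
  exact b.span_eq

end Groth.Agent.S1212
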