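import Groth.Statements.S0584
import Groth.Agent.H1CAlg.Kaplansky
import Groth.Agent.H1CAlg.CountableML
import Groth.Agent.H1CAlg.MLTensor
import Groth.Agent.S6337
import Mathlib.RingTheory.Flat.Basic

set_option autoImplicit false
universe u
open scoped Classical
open CAlg

namespace Groth.Agent.S0584

open Groth.Agent.H1CAlg

/-- Projectivity of a module is equivalent to the conjunction of three conditions — flatness, the
Mittag-Leffler property, and being an internal direct sum of countably generated submodules. -/
theorem result (R : Type u) [CommRing R] (M : Type u)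
    [AddCommGroup M] [Module R M] :
    Module.Projective R M ↔ (Module.Flat R M ∧ CAlg.IsMittagLeffler R M ∧
      ∃ (ι : Type u) (N : ι → Submodule R M), DirectSum.IsInternal N ∧
        ∀ i, CAlg.IsCountablyGenerated R (N i)) := by
  constructor
  · intro hP
    obtain ⟨𝓛, hind, hsup, hL⟩ := exists_sSupIndep_of_projective R M
    obtain ⟨s, hs⟩ := Module.projective_def.mp hP
    refine ⟨inferInstance, ?_, 𝓛, fun L => (L : Submodule R M), (by convert isInternal_of_sSupIndep 𝓛 hind hsup), fun L => hL L L.2⟩
    refine isMittagLeffler_of_universallyInjective ((finsuppLEquivDirectSum R R M).toLinearMap ∘ₗ s)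
      (ui_of_leftInverse _ (Finsupp.linearCombination R id ∘ₗ (finsuppLEquivDirectSum R R M).symm.toLinearMap)
        (LinearMap.ext fun x => by simp [hs x])) ?_
    exact (Groth.Agent.S6337.result R (fun _ : M => R)).mpr fun _ => isMittagLeffler_of_finitePresentation
  · rintro ⟨hflat, hML, ι, N, hN, hc⟩
    let e := LinearEquiv.ofBijective (DirectSum.coeLinearMap N) hN
    have hret : ∀ i, (DirectSum.component R ι (fun i => ↥(N i)) i ∘ₗ e.symm.toLinearMap) ∘ₗ (N i).subtype =
        LinearMap.id := fun i => LinearMap.ext fun v => by
      have : e.symm (v : M) = DirectSum.lof R ι (fun i => ↥(N i)) i v := by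
        rw [LinearEquiv.symm_apply_eq]
        simp [e, DirectSum.lof_eq_of]
      simp [this]
    haveI : ∀ i, Module.Projective R (N i) := fun i => by
      haveI : Module.Flat R (N i) := Module.Flat.of_retract (N i).subtype _ (hret i)
      exact projective_of_countablyGenerated
        (isMittagLeffler_of_universallyInjective (N i).subtype (ui_of_leftInverse _ _ (hret i)) hML) (hc i)
    haveI : Module.Projective R (DirectSum ι fun i => ↥(N i)) :=
      inferInstanceAs (Module.Projective R (Π₀ i, ↥(N i)))
    exact Module.Projective.of_equiv e

end Groth.Agent.S0584
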