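-- statement FlatMor.GrothFrozen.S1217 (Groth/Statements/S1217.lean; the theorem FlatMor.isPureAlong_of_flat_baseChange);
import Groth.Statements.S1217
import Groth.Agent.H7Flat.ImpurityRebase

set_option autoImplicit false
universe u
open FlatMor

namespace Groth.Agent.S1217
open scoped TensorProduct
set_option backward.isDefEq.respectTransparency false
set_option maxHeartbeats 1000000
set_option synthInstance.maxHeartbeats 400000

/-- Ring form, X = Spec B affine: let B be a finite type A-algebra, N a finite B-module, p a prime of A,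
and A' an A-algebra with a prime p' over p such that the local ring of A' at p' is flat over A. Let
B', N' be the base changes of B, N to A'. If N' is pure along the fibre over p' then N is pure along
the fibre over p, and likewise for universal purity. -/
theorem result {A B : Type u} [CommRing A] [CommRing B] [Algebra A B] [Algebra.FiniteType A B]
    (N : Type u) [AddCommGroup N] [Module B N] [Module.Finite B N] (p : Ideal A) [p.IsPrime]
    (A' B' N' : Type u) [CommRing A'] [CommRing B'] [Algebra A A'] [Algebra B B'] [Algebra A' B'] [Algebra A B']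
    [IsScalarTower A B B'] [IsScalarTower A A' B'] [Algebra.IsPushout A B A' B']
    [AddCommGroup N'] [Module B' N'] [Module B N'] [IsScalarTower B B' N'] (f : N →ₗ[B] N') (hf : IsBaseChange B' f)
    (p' : Ideal A') [p'.IsPrime] [p'.LiesOver p] [Module.Flat A (Localization.AtPrime p')] :
    (FlatCA.IsPureAlong A' B' N' p' → FlatCA.IsPureAlong A B N p) ∧
    (FlatCA.IsUnivPureAlong A' B' N' p' → FlatCA.IsUnivPureAlong A B N p) := by
  classical
  have hp : p'.comap (algebraMap A A') = p := (Ideal.over_def p' p).symm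
  haveI hmax : (IsLocalRing.maximalIdeal (Localization.AtPrime p')).LiesOver p := ⟨by
    rw [Ideal.under, IsScalarTower.algebraMap_eq A A' (Localization.AtPrime p'), ← Ideal.comap_comap,
      ← hp]
    exact congrArg _ (IsLocalization.AtPrime.under_maximalIdeal (Localization.AtPrime p') p').symm⟩
  have key : ∀ {A'' B'' N'' : Type u} [CommRing A''] [CommRing B''] [Algebra A A''] [Algebra B B'']
      [Algebra A'' B''] [Algebra A B''] [IsScalarTower A B B''] [IsScalarTower A A'' B'']
      [AddCommGroup N''] [Module B'' N''] [Module B N''] [IsScalarTower B B'' N''] [Module A'' N'']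
      [IsScalarTower A'' B'' N''] {g : N →ₗ[B] N''} {t' t : Ideal A''} [t'.IsPrime] [t.IsPrime]
      {P : Ideal B''} [P.IsPrime], FlatCA.IsImpurity A B N p A'' B'' N'' g t' t P →
      ∀ Q : (∀ (A₂ : Type u) [CommRing A₂] [Algebra A' A₂], Ideal A₂ → Prop),
      (∀ (t₂ : Ideal (A' ⊗[A] A'')) [t₂.IsPrime],
        t₂.comap (Algebra.TensorProduct.includeLeft : A' →ₐ[A] A' ⊗[A] A'').toRingHom = p' →
        t₂.comap (Algebra.TensorProduct.includeRight : A'' →ₐ[A] A' ⊗[A] A'').toRingHom = t →
          Q (A' ⊗[A] A'') t₂) →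
      FlatCA.HasImpurity A' B' N' p' Q := by
    intro A'' B'' N'' _ _ _ _ _ _ _ _ _ _ _ _ _ _ g t' t _ _ P _ himp Q hQ
    haveI : t.LiesOver p := himp.2.2.2.1
    obtain ⟨t₃, _, h₃l, h₃r⟩ := Groth.Agent.H7Flat.ImpurityRebase.exists_prime_over_pair p
      (IsLocalRing.maximalIdeal (Localization.AtPrime p')) t
    letI : Algebra A'' (Localization.AtPrime p' ⊗[A] A'') := Algebra.TensorProduct.rightAlgebra
    haveI : IsScalarTower A A'' (Localization.AtPrime p' ⊗[A] A'') :=
      IsScalarTower.of_algebraMap_eq fun a => by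
        exact ((Algebra.TensorProduct.includeRight :
          A'' →ₐ[A] Localization.AtPrime p' ⊗[A] A'').commutes a).symm
    haveI : Module.Flat A'' (Localization.AtPrime p' ⊗[A] A'') := by
      haveI : Algebra.IsPushout A A'' (Localization.AtPrime p') (Localization.AtPrime p' ⊗[A] A'') :=
        Algebra.IsPushout.symm inferInstance
      exact Module.Flat.isBaseChange A A'' (Localization.AtPrime p')
        (Localization.AtPrime p' ⊗[A] A'')
        (f := (IsScalarTower.toAlgHom A (Localization.AtPrime p')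
          (Localization.AtPrime p' ⊗[A] A'')).toLinearMap) Algebra.IsPushout.out
    haveI : t₃.LiesOver t := ⟨h₃r.symm⟩
    obtain ⟨t'₃, hle, _, ht'₃⟩ :=
      Ideal.exists_ideal_le_liesOver_of_le (p := t') (q := t) t₃ himp.2.2.1
    let φ : A' ⊗[A] A'' →ₐ[A] Localization.AtPrime p' ⊗[A] A'' :=
      Algebra.TensorProduct.map (IsScalarTower.toAlgHom A A' (Localization.AtPrime p'))
        (AlgHom.id A A'')
    let t₂ : Ideal (A' ⊗[A] A'') := t₃.comap φ.toRingHom
    let t'₂ : Ideal (A' ⊗[A] A'') := t'₃.comap φ.toRingHom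
    haveI : t₂.IsPrime := Ideal.comap_isPrime _ _
    haveI : t'₂.IsPrime := Ideal.comap_isPrime _ _
    have hφr : φ.toRingHom.comp
        (Algebra.TensorProduct.includeRight : A'' →ₐ[A] A' ⊗[A] A'').toRingHom =
          (Algebra.TensorProduct.includeRight :
            A'' →ₐ[A] Localization.AtPrime p' ⊗[A] A'').toRingHom := by
      ext x; simp [φ]
    have h₂r : t₂.comap (Algebra.TensorProduct.includeRight : A'' →ₐ[A] A' ⊗[A] A'').toRingHom = t := by
      rw [Ideal.comap_comap, hφr, h₃r]
    have h₂l : t₂.comap (Algebra.TensorProduct.includeLeft : A' →ₐ[A] A' ⊗[A] A'').toRingHom = p' := by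
      ext x
      change φ (x ⊗ₜ[A] 1) ∈ t₃ ↔ _
      rw [show φ (x ⊗ₜ[A] 1) = (Algebra.TensorProduct.includeLeft :
        Localization.AtPrime p' →ₐ[A] Localization.AtPrime p' ⊗[A] A'').toRingHom
          (algebraMap A' (Localization.AtPrime p') x) by simp [φ],
        ← Ideal.mem_comap, h₃l]
      exact IsLocalization.AtPrime.to_map_mem_maximal_iff (Localization.AtPrime p') p' x
    letI : Algebra A'' (A' ⊗[A] A'') := Algebra.TensorProduct.rightAlgebra
    haveI : IsScalarTower A A'' (A' ⊗[A] A'') :=
      IsScalarTower.of_algebraMap_eq fun a => by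
        exact ((Algebra.TensorProduct.includeRight : A'' →ₐ[A] A' ⊗[A] A'').commutes a).symm
    haveI : t₂.LiesOver t := ⟨h₂r.symm⟩
    haveI : t'₂.LiesOver t' := ⟨by
      change t' = (t'₃.comap φ.toRingHom).comap _
      rw [Ideal.comap_comap]
      refine ht'₃.over.trans ?_
      rw [Ideal.under]
      exact congrArg (fun h => t'₃.comap h) hφr.symm⟩
    refine Groth.Agent.H7Flat.ImpurityRebase.hasImpurity_extend (p := p) hf p' Q ?_
    refine Groth.Agent.H7Flat.ImpurityBaseChange.hasImpurity_baseChange himp (A' ⊗[A] A'') t'₂ t₂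
      (Ideal.comap_mono hle) _ ⟨Algebra.TensorProduct.includeLeft, h₂l, ?_⟩
    convert hQ t₂ h₂l h₂r
    refine Algebra.algebra_ext _ _ fun x => ?_
    rfl
  constructor
  · intro h A'' B'' N'' _ _ _ _ _ _ _ _ _ _ _ _ _ _ g t' t _ _ P _ het himp
    obtain ⟨A₂, B₂, N₂, _, _, _, _, _, _, _, _, _, _, _, _, _, _, g₂, t₂', t₂, _, _, P₂, _, himp₂, _, het₂⟩ :=
      key himp (fun A₂ _ _ t₂ => ∃ _ : t₂.IsPrime, FlatCA.IsEtaleNhd A' A₂ p' t₂) (by
        intro t₂ _ h₂l h₂r
        haveI : Algebra.Etale A A'' := het.1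
        obtain ⟨_, ht, hbij⟩ := het
        haveI : t₂.LiesOver p' := ⟨h₂l.symm⟩
        refine ⟨inferInstance, inferInstance, inferInstance, RingHom.injective _, ?_⟩
        let rf := Ideal.ResidueField.mapₐ p' t₂ (Algebra.ofId A' (A' ⊗[A] A'')) (t₂.over_def p')
        have hgen : ∀ w : A' ⊗[A] A'', ∃ k, rf k = algebraMap _ t₂.ResidueField w := by
          intro w
          induction w using TensorProduct.induction_on with
          | zero => exact ⟨0, by simp⟩
          | add x y hx hy =>
            obtain ⟨k, hk⟩ := hx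
            obtain ⟨l, hl⟩ := hy
            exact ⟨k + l, by rw [map_add, map_add, hk, hl]⟩
          | tmul x y =>
            obtain ⟨k, hk⟩ := hbij.2 (algebraMap A'' t.ResidueField y)
            let ν : t.ResidueField →ₐ[A] t₂.ResidueField := Ideal.ResidueField.mapₐ t t₂
              (Algebra.TensorProduct.includeRight : A'' →ₐ[A] A' ⊗[A] A'') h₂r.symm
            let μ : p.ResidueField →ₐ[A] p'.ResidueField :=
              Ideal.ResidueField.mapₐ p p' (Algebra.ofId A A') hp.symm
            refine ⟨algebraMap A' p'.ResidueField x * μ k, ?_⟩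
            have e : (rf.restrictScalars A).comp μ =
                ν.comp (Ideal.ResidueField.mapₐ p t (Algebra.ofId A A'') ht.over) :=
              Ideal.ResidueField.algHom_ext (Subsingleton.elim _ _)
            have e2 := DFunLike.congr_fun e k
            simp only [AlgHom.comp_apply, AlgHom.restrictScalars_apply] at e2
            rw [hk] at e2
            rw [map_mul, rf.commutes, e2,
              IsScalarTower.algebraMap_apply A' (A' ⊗[A] A'') t₂.ResidueField,
              show ν (algebraMap A'' t.ResidueField y) =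
                algebraMap (A' ⊗[A] A'') t₂.ResidueField (1 ⊗ₜ[A] y) by simp [ν], ← map_mul]
            congr 1
            simp
        intro k
        obtain ⟨a, b, -, rfl⟩ := IsFractionRing.div_surjective ((A' ⊗[A] A'') ⧸ t₂) k
        obtain ⟨a, rfl⟩ := Ideal.Quotient.mk_surjective a
        obtain ⟨b, rfl⟩ := Ideal.Quotient.mk_surjective b
        obtain ⟨k₁, hk₁⟩ := hgen a
        obtain ⟨k₂, hk₂⟩ := hgen b
        refine ⟨k₁ / k₂, ?_⟩
        rw [map_div₀, hk₁, hk₂]
        rfl)
    exact h A₂ B₂ N₂ g₂ t₂' t₂ P₂ het₂ himp₂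
  · intro h A'' B'' N'' _ _ _ _ _ _ _ _ _ _ _ _ _ _ g t' t _ _ P _ himp
    obtain ⟨A₂, B₂, N₂, _, _, _, _, _, _, _, _, _, _, _, _, _, _, g₂, t₂', t₂, _, _, P₂, _, himp₂, -⟩ :=
      key himp (fun _ _ _ _ => True) (fun _ _ _ _ => trivial)
    exact h A₂ B₂ N₂ g₂ t₂' t₂ P₂ himp₂

end Groth.Agent.S1217
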