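import Groth.Statements.S6347
import Groth.Agent.H1CAlg.MittagLeffler
import Mathlib.RingTheory.Flat.Tensor

set_option autoImplicit false
universe u
open CAlg

namespace Groth.Agent.S6347

open Groth.Agent.H1CAlg TensorProduct

/-- Over a Noetherian ring R, the product module R^A (functions from any set A to R) is flat and
Mittag-Leffler. -/
theorem result (R : Type u) [CommRing R] [IsNoetherianRing R]
    (A : Type u) : Module.Flat R (A → R) ∧ CAlg.IsMittagLeffler R (A → R) := by
  have hflat : Module.Flat R (A → R) := by
    refine Module.Flat.iff_rTensor_injective.mpr fun I hI => ?_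
    haveI : Module.FinitePresentation R I := Module.finitePresentation_of_finite _ _
    rw [injective_iff_map_eq_zero]
    intro x hx
    apply (piRightHom_bijective_of_finitePresentation (M := I) (fun _ : A => R)).1
    rw [map_zero]
    funext a
    have e := piRightHom_natural (fun _ : A => R) (Submodule.subtype I) x a
    rw [hx, map_zero, Pi.zero_apply] at e
    refine Module.Flat.rTensor_preserves_injective_linearMap (M := R) (Submodule.subtype I) Subtype.val_injective ?_
    rw [← e, Pi.zero_apply, map_zero]
  refine ⟨hflat, isMittagLeffler_of_exists_smallest fun n x => ?_⟩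
  let comp : ∀ a, (Fin n → R) := fun a => TensorProduct.rid R _ (TensorProduct.piRightHom R R _ (fun _ : A => R) x a)
  let F' : Submodule R (Fin n → R) := Submodule.span R (Set.range comp)
  have hF' : ∀ a, comp a ∈ F' := fun a => Submodule.subset_span ⟨a, rfl⟩
  haveI : Module.FinitePresentation R F' := Module.finitePresentation_of_finite _ _
  refine ⟨F', ?_, ?_⟩
  · obtain ⟨w, hw⟩ := (piRightHom_bijective_of_finitePresentation (M := F') (fun _ : A => R)).2
      (fun a => (⟨comp a, hF' a⟩ : F') ⊗ₜ[R] (1 : R))
    refine ⟨w, (piRightHom_bijective_fin (fun _ : A => R) n).1 (funext fun a => ?_)⟩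
    rw [piRightHom_natural, hw, LinearMap.rTensor_tmul]
    apply (TensorProduct.rid R (Fin n → R)).injective
    simp [comp]
  · rintro F'' ⟨w, hw⟩
    rw [Submodule.span_le]
    rintro _ ⟨a, rfl⟩
    show comp a ∈ F''
    have : comp a = F''.subtype (TensorProduct.rid R F'' (TensorProduct.piRightHom R R F'' (fun _ : A => R) w a)) := by
      simp only [comp, ← hw, piRightHom_natural]
      generalize TensorProduct.piRightHom R R F'' (fun _ : A => R) w a = z
      induction z with
      | zero => simp
      | tmul u v => simp
      | add u v hu hv => simp only [map_add, hu, hv]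
    rw [this]
    exact Submodule.coe_mem _

end Groth.Agent.S6347
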