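-- statement FlatMor.GrothFrozen.S1219 (Groth/Statements/S1219.lean; the theorem FlatMor.projective_iff_isPure_of_flat_finitePresentation);
import Groth.Statements.S1219
import Groth.Agent.H7Flat.ProjectivePure
import Groth.Agent.H7Flat.PureUnivPure

set_option autoImplicit false
universe u
open FlatMor

namespace Groth.Agent.S1219

/-- For a finitely presented A-algebra B and a finitely presented B-module N flat over A, projectivity
of N over A is equivalent to purity of N, viewed on Spec B, over Spec A. -/
theorem result {A B : Type u} [CommRing A] [CommRing B] [Algebra A B] [Algebra.FinitePresentation A B]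
    (N : Type u) [AddCommGroup N] [Module B N] [Module A N] [IsScalarTower A B N] [Module.FinitePresentation B N] [Module.Flat A N] :
    Module.Projective A N ↔ FlatCA.IsPure A B N := by
  refine ⟨fun _ p _ A' B' N' => ?_, fun h => ?_⟩
  · intro _ _ _ _ _ _ _ _ _ _ _ _ _ _ f t' t _ _ P _ _
    exact H7Flat.ProjectivePure.isUnivPureAlong_of_projective N p A' B' N' f t' t P
  · exact H7Flat.PureProjective.projective_of_univPure (S := B) N fun p _ =>
      H7Flat.PureUnivPure.isUnivPureAlong_of_isPureAlong N p (h p)

end Groth.Agent.S1219
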