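-- statement FlatMor.GrothFrozen.S1246 (Groth/Statements/S1246.lean; the theorem FlatMor.hasImpurity_etaleNhd_of_hasImpurity_quasiFiniteAt);
import Groth.Statements.S1246
import Groth.Agent.H7Flat.ImpurityBaseChange

set_option autoImplicit false
universe u
open FlatMor

namespace Groth.Agent.S1246
open scoped TensorProduct
set_option backward.isDefEq.respectTransparency false
set_option maxHeartbeats 1000000
set_option synthInstance.maxHeartbeats 400000

/-- Ring form, X = Spec B affine: let B be a finite type A-algebra, N a finite B-module and p a prime of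
A. If there is an impurity of N above p whose base change A → A' is of finite type and quasi-finite
at the point t, then there is an impurity of N above p for which (A', t) is an elementary étale ring
map at p. -/
theorem result {A B : Type u} [CommRing A] [CommRing B] [Algebra A B] [Algebra.FiniteType A B]
    (N : Type u) [AddCommGroup N] [Module B N] [Module.Finite B N] (p : Ideal A) [p.IsPrime]
    (h : FlatCA.HasImpurity A B N p (fun A' _ _ t => ∃ _ : t.IsPrime, Algebra.FiniteType A A' ∧ Algebra.QuasiFiniteAt A t)) :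
    FlatCA.HasImpurity A B N p (fun A' _ _ t => ∃ _ : t.IsPrime, FlatCA.IsEtaleNhd A A' p t) := by
  obtain ⟨A', B', N', _, _, _, _, _, _, _, _, _, _, _, _, _, _, f, t', t, _, _, P, _, himp, _, hft, hqf⟩ := h
  haveI : t.LiesOver p := himp.2.2.2.1
  have htt : t' ≤ t := himp.2.2.1
  haveI := hft
  haveI := hqf
  obtain ⟨R', _, _, _, q, _, _, e, -, P', _, hP'q, hP't, he, hbij, hfin, huniq⟩ :=
    Algebra.exists_etale_isIdempotentElem_forall_liesOver_eq (R := A) (S := A') p t
  haveI := hP'q
  letI : Algebra A' (R' ⊗[A] A') := Algebra.TensorProduct.rightAlgebra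
  haveI : IsScalarTower A A' (R' ⊗[A] A') := IsScalarTower.of_algebraMap_eq fun a => by
    exact ((Algebra.TensorProduct.includeRight : A' →ₐ[A] R' ⊗[A] A').commutes a).symm
  haveI : Module.Flat A' (R' ⊗[A] A') := by
    haveI : Algebra.IsPushout A A' R' (R' ⊗[A] A') := Algebra.IsPushout.symm inferInstance
    exact Module.Flat.isBaseChange A A' R' (R' ⊗[A] A')
      (f := (IsScalarTower.toAlgHom A R' (R' ⊗[A] A')).toLinearMap) Algebra.IsPushout.out
  let A₂ := Localization.Away e
  haveI : Module.Flat A' A₂ := by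
    haveI : Module.Flat (R' ⊗[A] A') A₂ := IsLocalization.flat A₂ (Submonoid.powers e)
    exact Module.Flat.trans A' (R' ⊗[A] A') A₂
  have hdisj : Disjoint (Submonoid.powers e : Set (R' ⊗[A] A')) (P' : Set (R' ⊗[A] A')) :=
    (Ideal.disjoint_powers_iff_notMem_of_isPrime ..).mpr he
  let t₂ : Ideal A₂ := P'.map (algebraMap (R' ⊗[A] A') A₂)
  haveI : t₂.IsPrime := IsLocalization.isPrime_of_isPrime_disjoint (Submonoid.powers e) A₂ P' ‹_› hdisj
  have hcomap : t₂.comap (algebraMap (R' ⊗[A] A') A₂) = P' :=
    IsLocalization.comap_map_of_isPrime_disjoint (Submonoid.powers e) A₂ ‹_› hdisj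
  haveI : t₂.LiesOver t := ⟨by
    rw [Ideal.under, IsScalarTower.algebraMap_eq A' (R' ⊗[A] A') A₂, ← Ideal.comap_comap, hcomap]
    exact hP't.symm⟩
  obtain ⟨t'₂, hle, _, _⟩ := Ideal.exists_ideal_le_liesOver_of_le (p := t') (q := t) t₂ htt
  refine Groth.Agent.H7Flat.ImpurityBaseChange.hasImpurity_of_integral R' q ?_ _
    ⟨inferInstance, ‹Algebra.Etale A R'›, inferInstance, hbij⟩
  refine Groth.Agent.H7Flat.ImpurityBaseChange.hasImpurity_baseChange himp A₂ t'₂ t₂ hle _
    ⟨IsScalarTower.toAlgHom A R' A₂, ?_, ?_, ?_⟩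
  · haveI : Module.Finite R' A₂ := hfin
    exact algebraMap_isIntegral_iff.mpr inferInstance
  · change t₂.comap (algebraMap R' A₂) = q
    rw [IsScalarTower.algebraMap_eq R' (R' ⊗[A] A') A₂, ← Ideal.comap_comap, hcomap]
    exact hP'q.over.symm
  · intro t₃ _ ht₃
    have hd := (IsLocalization.isPrime_iff_isPrime_disjoint (Submonoid.powers e) A₂ t₃).mp ‹_›
    haveI := hd.1
    have hne : e ∉ t₃.comap (algebraMap (R' ⊗[A] A') A₂) := fun hmem =>
      Set.disjoint_left.mp hd.2 (Submonoid.mem_powers e) hmem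
    have h3 := huniq (t₃.comap (algebraMap (R' ⊗[A] A') A₂)) hd.1 ⟨by
      rw [Ideal.under, Ideal.comap_comap, ← IsScalarTower.algebraMap_eq]
      exact ht₃.symm⟩ hne
    rw [← IsLocalization.map_comap (Submonoid.powers e) A₂ t₃, Ideal.under, h3]

end Groth.Agent.S1246
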