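-- statement FlatMor.GrothFrozen.S1226 (Groth/Statements/S1226.lean; the theorem FlatMor.isPureAlong_baseChange_of_quasiFiniteAt);
import Groth.Statements.S1226
import Groth.Agent.S1246
import Groth.Agent.H7Flat.ImpurityRebase

set_option autoImplicit false
universe u
open FlatMor

namespace Groth.Agent.S1226
open scoped TensorProduct
set_option backward.isDefEq.respectTransparency false
set_option maxHeartbeats 1000000
set_option synthInstance.maxHeartbeats 400000

/-- Ring form, X = Spec B affine: let B be a finite type A-algebra, N a finite B-module and p a prime of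
A; let A' be an A-algebra with a prime p' over p such that A' is of finite type over A and
quasi-finite at p', and let B', N' be the base changes of B, N. If N is pure along the fibre over p
then N' is pure along the fibre over p'. -/
theorem result {A B : Type u} [CommRing A] [CommRing B] [Algebra A B] [Algebra.FiniteType A B]
    (N : Type u) [AddCommGroup N] [Module B N] [Module.Finite B N] (p : Ideal A) [p.IsPrime]
    (A' B' N' : Type u) [CommRing A'] [CommRing B'] [Algebra A A'] [Algebra B B'] [Algebra A' B'] [Algebra A B']
    [IsScalarTower A B B'] [IsScalarTower A A' B'] [Algebra.IsPushout A B A' B']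
    [AddCommGroup N'] [Module B' N'] [Module B N'] [IsScalarTower B B' N'] (f : N →ₗ[B] N') (hf : IsBaseChange B' f)
    (p' : Ideal A') [p'.IsPrime] [p'.LiesOver p] [Algebra.FiniteType A A'] [Algebra.QuasiFiniteAt A p']
    (h : FlatCA.IsPureAlong A B N p) : FlatCA.IsPureAlong A' B' N' p' := by
  intro A'' B'' N'' _ _ _ _ _ _ _ _ _ _ _ _ _ _ g t' t _ _ P _ het himp
  have h1 : FlatCA.HasImpurity A' B' N' p' (fun A₂ _ _ t₂ => ∃ _ : t₂.IsPrime,
      FlatCA.IsEtaleNhd A' A₂ p' t₂) :=
    ⟨A'', B'', N'', inferInstance, inferInstance, inferInstance, inferInstance, inferInstance,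
      inferInstance, inferInstance, inferInstance, inferInstance, inferInstance, inferInstance,
      inferInstance, inferInstance, inferInstance, g, t', t, inferInstance, inferInstance, P,
      inferInstance, himp, inferInstance, het⟩
  have h2 : FlatCA.HasImpurity A B N p (fun A₂ _ _ t₂ => ∃ _ : t₂.IsPrime,
      Algebra.FiniteType A A₂ ∧ Algebra.QuasiFiniteAt A t₂) := by
    refine Groth.Agent.H7Flat.ImpurityRebase.hasImpurity_restrict hf p' _ _ ?_ h1
    rintro A₂ _ _ _ _ t₂ _ ht₂ ⟨_, het₂, -⟩
    haveI := het₂
    haveI := ht₂
    refine ⟨inferInstance, Algebra.FiniteType.trans (R := A) (S := A') (A := A₂) inferInstance inferInstance, ?_⟩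
    letI : Algebra (Localization.AtPrime p') (Localization.AtPrime t₂) :=
      (Localization.localRingHom p' t₂ (algebraMap A' A₂) ht₂.over).toAlgebra
    haveI : IsScalarTower A' (Localization.AtPrime p') (Localization.AtPrime t₂) :=
      IsScalarTower.of_algebraMap_eq fun x => by
        change _ = Localization.localRingHom p' t₂ (algebraMap A' A₂) ht₂.over (algebraMap A' _ x)
        rw [Localization.localRingHom_to_map, IsScalarTower.algebraMap_apply A' A₂ (Localization.AtPrime t₂)]
    haveI : IsScalarTower A (Localization.AtPrime p') (Localization.AtPrime t₂) :=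
      IsScalarTower.of_algebraMap_eq fun x => by
        rw [IsScalarTower.algebraMap_apply A A' (Localization.AtPrime p'),
          ← IsScalarTower.algebraMap_apply A' (Localization.AtPrime p') (Localization.AtPrime t₂),
          ← IsScalarTower.algebraMap_apply]
    haveI : Algebra.QuasiFinite A' (Localization.AtPrime t₂) := inferInstance
    haveI : Algebra.QuasiFinite (Localization.AtPrime p') (Localization.AtPrime t₂) :=
      Algebra.QuasiFinite.of_restrictScalars A' _ _
    exact Algebra.QuasiFinite.trans A (Localization.AtPrime p') (Localization.AtPrime t₂)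
  obtain ⟨A₃, B₃, N₃, _, _, _, _, _, _, _, _, _, _, _, _, _, _, g₃, t₃', t₃, _, _, P₃, _, himp₃, _, het₃⟩ :=
    Groth.Agent.S1246.result N p h2
  exact h A₃ B₃ N₃ g₃ t₃' t₃ P₃ het₃ himp₃

end Groth.Agent.S1226
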