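-- statement Lim.GrothFrozen.S9195 (Groth/Statements/S9195.lean; the theorem Lim.exists_fibreDimAt_le_descend_of_locallyOfFiniteType);
import Groth.Statements.S9195
import Groth.Agent.H7Flat.FibreDim
import Groth.Agent.H7Lim.Basic

set_option autoImplicit false
universe u
open CategoryTheory AlgebraicGeometry
open Lim

namespace Groth.Agent.S9195

/-- Let S = lim S_i be a cofiltered limit of schemes with affine transition morphisms, S_{i₀} a
quasi-compact quasi-separated stage, f₀ : X₀ → Y₀ a morphism of quasi-compact quasi-separated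
schemes over S_{i₀}, and f : X → Y its base change along S → S_{i₀} (base changes expressed by
pullback squares). Let d be a natural number. If f₀ is locally of finite type and f has relative
dimension at most d (every fibre of f has local dimension at most d at each of its points), then for
some index i over i₀ the base change f_i : X_i → Y_i of f₀ along S_i → S_{i₀} has relative dimension
at most d. -/
theorem result {I : Type u} [SmallCategory I] [IsCofiltered I]
    (D : I ⥤ Scheme.{u}) (c : Limits.Cone D) (hc : Limits.IsLimit c)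
    [∀ (i j : I) (f : i ⟶ j), IsAffineHom (D.map f)] (i₀ : I) [CompactSpace (D.obj i₀)]
    [QuasiSeparatedSpace (D.obj i₀)] {X₀ Y₀ : Scheme.{u}} (f₀ : X₀ ⟶ Y₀) (g₀ : Y₀ ⟶ D.obj i₀)
    [CompactSpace X₀] [QuasiSeparatedSpace X₀] [CompactSpace Y₀] [QuasiSeparatedSpace Y₀]
    [LocallyOfFiniteType f₀] (d : ℕ)
    {X Y : Scheme.{u}} (f : X ⟶ Y) (g : Y ⟶ c.pt) (qY : Y ⟶ Y₀) (qX : X ⟶ X₀)
    (hY : IsPullback qY g g₀ (c.π.app i₀)) (hX : IsPullback qX f f₀ qY) (hd : ∀ x : X, FlatMor.fibreDimAt f x ≤ d) :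
    ∃ (i : I) (φ : i ⟶ i₀) (Xi Yi : Scheme.{u}) (fi : Xi ⟶ Yi) (gi : Yi ⟶ D.obj i) (pY : Yi ⟶ Y₀)
      (pX : Xi ⟶ X₀), IsPullback pY gi g₀ (D.map φ) ∧ IsPullback pX fi f₀ pY ∧ ∀ x : Xi, FlatMor.fibreDimAt fi x ≤ d := by
  classical
  haveI : LocallyOfFiniteType f := MorphismProperty.of_isPullback hX inferInstance
  let C : Set X₀ := {x | ¬ FlatMor.fibreDimAt f₀ x ≤ d}
  have hC : IsClosed C := by
    rw [← isOpen_compl_iff]
    convert! Groth.Agent.H7Flat.isOpen_fibreDimAt_le' f₀ (d : ℕ) using 1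
    ext x; simp [C]
  let k := (Scheme.IdealSheafData.vanishingIdeal ⟨C, hC⟩).subschemeι
  have hk : Set.range k = C := by
    rw [Scheme.IdealSheafData.range_subschemeι, Scheme.IdealSheafData.coe_support_vanishingIdeal]
    rfl
  haveI : CompactSpace (Scheme.IdealSheafData.vanishingIdeal ⟨C, hC⟩).subscheme :=
    QuasiCompact.compactSpace_of_compactSpace k
  let a := k ≫ f₀ ≫ g₀
  have hbig : IsPullback qX (f ≫ g) (f₀ ≫ g₀) (c.π.app i₀) := hX.paste_vert hY
  have hempty : IsEmpty ↥(Limits.pullback a (c.π.app i₀)) := by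
    refine ⟨fun z => ?_⟩
    let x := hbig.lift (Limits.pullback.fst a (c.π.app i₀) ≫ k) (Limits.pullback.snd a (c.π.app i₀))
      (by rw [Category.assoc]; exact Limits.pullback.condition)
    have h1 : qX (x z) = k (Limits.pullback.fst a (c.π.app i₀) z) :=
      congrArg (fun m => m z) (hbig.lift_fst _ _ _)
    have h2 : qX (x z) ∈ C := h1 ▸ hk.le ⟨_, rfl⟩
    exact h2 ((Groth.Agent.H8Props.FieldDim.fibreDimAt_baseChange f₀ hX (x z)).ge.trans (hd (x z)))
  obtain ⟨i, φ, hi⟩ := Groth.Agent.H7Lim.exists_isEmpty_pullback D i₀ a hc hempty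
  have hYi := IsPullback.of_hasPullback g₀ (D.map φ)
  have hXi := IsPullback.of_hasPullback f₀ (Limits.pullback.fst g₀ (D.map φ))
  refine ⟨i, φ, _, _, _, _, _, _, hYi, hXi, fun x => ?_⟩
  rw [Groth.Agent.H8Props.FieldDim.fibreDimAt_baseChange f₀ hXi x]
  by_contra hn
  obtain ⟨t, ht⟩ : Limits.pullback.fst f₀ (Limits.pullback.fst g₀ (D.map φ)) x ∈ Set.range k := hk.ge hn
  obtain ⟨w, -, -⟩ := Scheme.Pullback.exists_preimage_pullback t x ht
  refine hi.false ((Limits.pullback.map k (Limits.pullback.fst f₀ (Limits.pullback.fst g₀ (D.map φ))) a (D.map φ)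
    (𝟙 _) (Limits.pullback.snd f₀ _ ≫ Limits.pullback.snd g₀ _) (f₀ ≫ g₀) (by simp [a]) ?_) w)
  simp [Limits.pullback.condition_assoc, Limits.pullback.condition]

end Groth.Agent.S9195
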