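import Groth.Statements.S15540
import Groth.Agent.S9370
import Groth.Agent.S9386
import Groth.Agent.S9776
import Groth.Agent.H17.PrinOmega
import Groth.Agent.H22Alg.ExtPowHom
import Groth.Agent.H22Alg.ExtPowSES
import Groth.Agent.H29Omega.SheafFinite

set_option autoImplicit false
universe u
open OmegaSh

namespace Groth.Agent.S15540

open CategoryTheory AlgebraicGeometry in
/-- For a commutative square of schemes g ≫ f = f' ≫ h with f : X → S and f' : X' → S' quasi-separated
and g : X' → X, h : S' → S étale, and an O_X-module L which is a p-th exterior power of the sheaf of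
differentials Ω_{X/S}, the pulled-back module g^*L is a p-th exterior power of Ω_{X'/S'}. (The
published statement is that the canonical map g^*Ω^p_{X/S} → Ω^p_{X'/S'} is an isomorphism; only the
resulting identification of g^*Ω^p_{X/S} as an exterior power is stated here. The published
statement is for arbitrary morphisms; quasi-separatedness of f and f′ is assumed here.) -/
theorem result (X S X' S' : Scheme.{u}) (f : X ⟶ S) (f' : X' ⟶ S')
    (g : X' ⟶ X) (h : S' ⟶ S) (w : g ≫ f = f' ≫ h) [Etale g] [Etale h] [QuasiSeparated f]
    [QuasiSeparated f'] (p : ℕ) (L : X.Modules) (hL : ExtPow.IsExtPow p (Omega.sheaf f) L) :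
    ExtPow.IsExtPow p (Omega.sheaf f') ((Scheme.Modules.pullback g).obj L) := by
  obtain ⟨c, hc, -⟩ := S9370.result f f' g h w.symm _ _
    (H17.PrinOmega.isUniversal_dOmega f) _ _ (H17.PrinOmega.isUniversal_dOmega f')
  haveI := S9776.result f f' g h w _ _
    (H17.PrinOmega.isUniversal_dOmega f) _ _ (H17.PrinOmega.isUniversal_dOmega f') c hc
  exact H22Alg.ExtPowSES.isExtPow_of_iso (asIso c)
    (H22Alg.ExtPowHom.isExtPow_pullback g (H29Omega.isQCoh_sheaf f) hL)

end Groth.Agent.S15540
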