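-- statement Lim8.GrothFrozen.S4807 (Groth/Statements/S4807.lean; the theorem Lim8.exists_immersion_finite_fac_iff_isImmersion_toNormalization);
import Groth.Statements.S4807
import Groth.Agent.H7Lim.QuasiFiniteFactor

set_option autoImplicit false
universe u
open CategoryTheory AlgebraicGeometry
open Lim8

namespace Groth.Agent.S4807

/-- Let Y be a quasi-compact quasi-separated scheme and f : X ⟶ Y a separated morphism of finite type.
Let X' be the relative normalization of Y in X, the spectrum of the integral closure of O_Y in
f_*O_X, with its canonical morphism g : X ⟶ X'. Then f admits a factorization X ⟶ Y' ⟶ Y into an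
immersion followed by a finite morphism if and only if g is an immersion. -/
theorem result {X Y : Scheme.{u}} (f : X ⟶ Y)
    [CompactSpace Y] [QuasiSeparatedSpace Y] [IsSeparated f] [LocallyOfFiniteType f] [QuasiCompact f] :
    (∃ (Y' : Scheme.{u}) (f' : X ⟶ Y') (u : Y' ⟶ Y), IsImmersion f' ∧ IsFinite u ∧ f' ≫ u = f) ↔
      IsImmersion f.toNormalization := by
  constructor
  · rintro ⟨Y', f', u, hf', hu, h⟩
    haveI : IsImmersion (f.toNormalization ≫ f.normalizationDesc f' u h.symm) := by
      rw [Scheme.Hom.toNormalization_normalizationDesc]
      exact hf'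
    exact IsImmersion.of_comp f.toNormalization (f.normalizationDesc f' u h.symm)
  · intro himm
    haveI := himm
    haveI : CompactSpace X := QuasiCompact.compactSpace_of_compactSpace f
    let g := f.toNormalization
    let j := g.toImage
    let ν := g.imageι ≫ f.fromNormalization
    let e := j.isoOpensRange
    have hjν : j ≫ ν = f := by
      simp only [j, ν, Scheme.Hom.toImage_imageι_assoc]
      exact f.toNormalization_fromNormalization
    have he : j.opensRange.ι ≫ ν = e.inv ≫ f := by
      rw [← cancel_epi e.hom, Iso.hom_inv_id_assoc, Scheme.Hom.isoOpensRange_hom_ι_assoc]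
      exact hjν
    haveI : LocallyOfFiniteType (j.opensRange.ι ≫ ν) := by rw [he]; infer_instance
    obtain ⟨P, p, b, hp, hbp, hb⟩ := Groth.Agent.H7Lim.exists_finFp_isImmersion ν j.opensRange (by
      rw [Scheme.Hom.coe_opensRange]; exact isCompact_range j.continuous)
    refine ⟨P, e.hom ≫ j.opensRange.ι ≫ b, p, inferInstance, hp.1, ?_⟩
    rw [Category.assoc, Category.assoc, hbp, he, Iso.hom_inv_id_assoc]

end Groth.Agent.S4807
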