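import Groth.Statements.S1326
import Groth.Agent.H06SecComp.ModelApps

set_option autoImplicit false
universe u
open FlatMor

namespace Groth.Agent.S1326

open Groth.Agent

open AlgebraicGeometry CategoryTheory Limits in
/-- Let f be of finite presentation (locally of finite presentation, quasi-compact and quasi-separated)
with a section s. Then the section components of (f, s) form a locally constructible subset of the
source. -/
theorem result {X Y : Scheme.{u}} (f : X ⟶ Y) (s : Y ⟶ X) (hs : s ≫ f = 𝟙 Y)
    [LocallyOfFinitePresentation f] [QuasiCompact f] [QuasiSeparated f] :
    Topology.IsLocallyConstructible (MoreMor.sectionComponents f s) := by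
  exact H06SecComp.isLocallyConstructible_sectionComponents_fp f s hs

end Groth.Agent.S1326
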