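import Groth.Statements.S13624
import Groth.Agent.H7Lim.GorOpen
-- import your own Groth.Agent.* helpers here

set_option autoImplicit false
universe u
open CategoryTheory CategoryTheory.Limits AlgebraicGeometry Opposite
open Goren

namespace Groth.Agent.S13624

/-- Let f : X → Y be a proper, flat morphism of schemes which is locally of finite presentation. Then
the set of points y of Y whose scheme-theoretic fibre X_y = X ×_Y Spec κ(y) is a Gorenstein scheme
(every local ring of X_y is a Gorenstein local ring) is open in Y. -/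
theorem result (X Y : Scheme.{u}) (f : X ⟶ Y)
    [IsProper f] [Flat f] [LocallyOfFinitePresentation f] :
    IsOpen {y : Y | ∀ x : ↥(f.fiber y), LocCoh.IsGorensteinLocalRing ((f.fiber y).presheaf.stalk x)} := by
  have key : {y : Y | ∀ x : ↥(f.fiber y), LocCoh.IsGorensteinLocalRing ((f.fiber y).presheaf.stalk x)} =
      (f '' {x | Dual3.IsGorensteinAt f x}ᶜ)ᶜ := by
    ext y
    refine ⟨?_, fun h z => ?_⟩
    · rintro h ⟨x, hx, rfl⟩
      exact hx ⟨Flat.stalkMap f x, h _⟩
    · have hfz : f (f.fiberι y z) = y := by
        have : f.fiberι y z ∈ f ⁻¹' {y} := f.range_fiberι y ▸ Set.mem_range_self z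
        exact this
      have hG : Dual3.IsGorensteinAt f (f.fiberι y z) := by
        by_contra hn
        exact h ⟨_, hn, hfz⟩
      obtain ⟨x, hx⟩ : ∃ x, f.fiberι y z = x := ⟨_, rfl⟩
      rw [hx] at hG hfz
      subst hfz
      have hz : f.asFiber x = z := (f.fiberι (f x)).isEmbedding.injective (by rw [f.fiberι_asFiber, hx])
      exact hz ▸ hG.2
  rw [key, isOpen_compl_iff]
  exact f.isClosedMap _ (H7Lim.GorOpen.isOpen_gorensteinLocus f).isClosed_compl

end Groth.Agent.S13624
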