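import Groth.Statements.S5933
import Groth.Agent.H06EGA12.GeomNormalOpen
import Groth.Agent.H06EGA12.ProperForall

set_option autoImplicit false
open CategoryTheory AlgebraicGeometry
universe u
open EGA43

namespace Groth.Agent.S5933

open Groth.Agent

/-- Let f : X ⟶ Y be a proper, flat morphism of finite presentation. The set of points y of Y whose
fibre X_y is geometrically normal over κ(y) — for every point x of X_y, every finite field extension
K of κ(y) and every point x' over x of the base change of X_y to K, the local ring at x' is an
integrally closed domain — is open in Y. -/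
theorem result {X Y : Scheme.{u}} (f : X ⟶ Y) [IsProper f] [Flat f]
    [LocallyOfFinitePresentation f] :
    IsOpen {y : Y | ∀ x : ↥(f.fiber y), (∀ (K : Type u) [Field K] [Algebra (IsLocalRing.ResidueField (Y.presheaf.stalk y)) K],
        Module.Finite (IsLocalRing.ResidueField (Y.presheaf.stalk y)) K →
        ∀ x' : ↥(FBase.bc (f.fiberToSpecResidueField y) K),
          (FBase.bcπ (f.fiberToSpecResidueField y) K).base x' = x →
          IsDomain ((FBase.bc (f.fiberToSpecResidueField y) K).presheaf.stalk x') ∧
            IsIntegrallyClosed ((FBase.bc (f.fiberToSpecResidueField y) K).presheaf.stalk x'))} := by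
  refine H06EGA12.isOpen_setOf_forall_fibre f (fun y x => ∀ (K : Type u) [Field K] [Algebra (IsLocalRing.ResidueField (Y.presheaf.stalk y)) K],
        Module.Finite (IsLocalRing.ResidueField (Y.presheaf.stalk y)) K →
        ∀ x' : ↥(FBase.bc (f.fiberToSpecResidueField y) K),
          (FBase.bcπ (f.fiberToSpecResidueField y) K).base x' = x →
          IsDomain ((FBase.bc (f.fiberToSpecResidueField y) K).presheaf.stalk x') ∧
            IsIntegrallyClosed ((FBase.bc (f.fiberToSpecResidueField y) K).presheaf.stalk x'))
    (H06EGA12.isOpen_normalLocus f) fun x => H06EGA12.mem_normalLocus_iff f x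

end Groth.Agent.S5933
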