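import Groth.Statements.S0436
import Mathlib

set_option autoImplicit false
universe u
open CategoryTheory AlgebraicGeometry FlatMor
open scoped TensorProduct

namespace Groth.Agent.S0436
set_option backward.isDefEq.respectTransparency false

open CategoryTheory.Limits

/-- a flat algebra over a DVR, noetherian local, with reduced closed fibre is reduced -/
lemma isReduced_of_quotient {A : Type u} [CommRing A] [IsNoetherianRing A] [IsLocalRing A] (π : A)
    (hπ : π ∈ IsLocalRing.maximalIdeal A) (hreg : ∀ a : A, π * a = 0 → a = 0)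
    (hred : ∀ a : A, IsNilpotent a → π ∣ a) : _root_.IsReduced A := by
  constructor
  intro a ha
  have h : ∀ n : ℕ, ∀ b : A, IsNilpotent b → π ^ n ∣ b := by
    intro n
    induction n with
    | zero => simp
    | succ n ih =>
      intro b hb
      obtain ⟨c, rfl⟩ := hred b hb
      obtain ⟨k, hk⟩ := hb
      have hc : IsNilpotent c := ⟨k, by
        rw [mul_pow] at hk
        clear ih
        induction k with
        | zero => simpa using hk
        | succ k _ =>
          have : ∀ m : ℕ, ∀ z : A, π ^ m * z = 0 → z = 0 := by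
            intro m
            induction m with
            | zero => simp
            | succ m ihm => intro z hz; exact ihm z (hreg _ (by rw [← hz]; ring))
          exact this _ _ hk⟩
      rw [pow_succ', ]
      exact mul_dvd_mul_left π (ih c hc)
  have hmem : a ∈ (⨅ n : ℕ, (IsLocalRing.maximalIdeal A) ^ n) := by
    simp only [Ideal.mem_iInf]
    intro n
    obtain ⟨c, rfl⟩ := h n a ha
    exact Ideal.mul_mem_right _ _ (Ideal.pow_mem_pow hπ n)
  rw [Ideal.iInf_pow_eq_bot_of_isLocalRing _ (IsLocalRing.maximalIdeal.isMaximal A).ne_top] at hmem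
  exact hmem

lemma isReduced_stalk_of_specializes {X : Scheme.{u}} {x z : X} (h : x ⤳ z)
    (hz : _root_.IsReduced (X.presheaf.stalk z)) : _root_.IsReduced (X.presheaf.stalk x) := by
  obtain ⟨V, hV, hzV, -⟩ := exists_isAffineOpen_mem_and_subset (show z ∈ (⊤ : X.Opens) from trivial)
  have hxV : x ∈ V := h.mem_open V.isOpen hzV
  letI := TopCat.Presheaf.algebra_section_stalk X.presheaf (⟨z, hzV⟩ : V)
  letI := TopCat.Presheaf.algebra_section_stalk X.presheaf (⟨x, hxV⟩ : V)
  haveI := hV.isLocalization_stalk ⟨z, hzV⟩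
  haveI := hV.isLocalization_stalk ⟨x, hxV⟩
  let p := hV.primeIdealOf ⟨x, hxV⟩
  let q := hV.primeIdealOf ⟨z, hzV⟩
  have hpq : p.asIdeal ≤ q.asIdeal := by
    rw [PrimeSpectrum.asIdeal_le_asIdeal, PrimeSpectrum.le_iff_specializes,
      ← hV.fromSpec.isOpenEmbedding.toIsEmbedding.isInducing.specializes_iff]
    show hV.fromSpec.base p ⤳ hV.fromSpec.base q
    rw [IsAffineOpen.fromSpec_primeIdealOf, IsAffineOpen.fromSpec_primeIdealOf]
    exact h
  have hle : q.asIdeal.primeCompl ≤ p.asIdeal.primeCompl := fun s hs h1 => hs (hpq h1)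
  let φ : X.presheaf.stalk z →+* X.presheaf.stalk x :=
    IsLocalization.lift (M := q.asIdeal.primeCompl) (g := algebraMap Γ(X, V) (X.presheaf.stalk x))
      fun s => IsLocalization.map_units _ (⟨s.1, hle s.2⟩ : p.asIdeal.primeCompl)
  letI := φ.toAlgebra
  haveI : IsScalarTower Γ(X, V) (X.presheaf.stalk z) (X.presheaf.stalk x) :=
    IsScalarTower.of_algebraMap_eq fun r => (IsLocalization.lift_eq _ r).symm
  haveI := IsLocalization.localization_isScalarTower_of_submonoid_le (X.presheaf.stalk z)
    (X.presheaf.stalk x) q.asIdeal.primeCompl p.asIdeal.primeCompl hle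
  haveI : IsLocalization (p.asIdeal.primeCompl.map (algebraMap Γ(X, V) (X.presheaf.stalk z)))
      (X.presheaf.stalk x) :=
    IsLocalization.isLocalization_of_submonoid_le (X.presheaf.stalk z) (X.presheaf.stalk x)
      q.asIdeal.primeCompl p.asIdeal.primeCompl hle
  exact isReduced_localizationPreserves (p.asIdeal.primeCompl.map (algebraMap Γ(X, V) (X.presheaf.stalk z)))
    (X.presheaf.stalk x) hz

open CategoryTheory AlgebraicGeometry in
/-- For a proper flat morphism to the spectrum of a discrete valuation ring whose special fibre is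
reduced, both the total space and the generic fibre are reduced. (The published statement is
stronger: instead of flatness it only needs every irreducible component of the total space to
dominate the base.) -/
theorem result {R : Type u} [CommRing R] [IsDomain R] [IsDiscreteValuationRing R] {X : Scheme.{u}}
    (f : X ⟶ Spec (CommRingCat.of R)) [IsProper f] [Flat f]
    (hred : IsReduced (f.fiber (IsLocalRing.closedPoint R))) :
    IsReduced X ∧ IsReduced (f.fiber (⟨⊥, Ideal.isPrime_bot⟩ : PrimeSpectrum R)) := by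
  classical
  obtain ⟨ϖ, hϖ⟩ := IsDiscreteValuationRing.exists_irreducible R
  have hm : IsLocalRing.maximalIdeal R = Ideal.span {ϖ} := hϖ.maximalIdeal_eq
  set y₀ : ↑(Spec (CommRingCat.of R)) := IsLocalRing.closedPoint R with hy₀
  obtain ⟨φ₀, hφ₀⟩ := Spec.map_surjective ((Spec (CommRingCat.of R)).fromSpecResidueField y₀)
  have hstalk₀ : ∀ z : X, f.base z = y₀ → _root_.IsReduced (X.presheaf.stalk z) := by
    intro z hz
    obtain ⟨V, hV, hzV, -⟩ := exists_isAffineOpen_mem_and_subset (show z ∈ (⊤ : X.Opens) from trivial)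
    obtain ⟨ρ, hρ⟩ := Spec.map_surjective (hV.fromSpec ≫ f)
    have hρfl : ρ.hom.Flat := by
      haveI : Flat (Spec.map ρ) := by rw [hρ]; infer_instance
      exact HasRingHomProperty.Spec_iff.mp ‹Flat (Spec.map ρ)›
    have hρft : ρ.hom.FiniteType := by
      haveI : LocallyOfFiniteType (Spec.map ρ) := by rw [hρ]; infer_instance
      exact HasRingHomProperty.Spec_iff.mp ‹LocallyOfFiniteType (Spec.map ρ)›
    algebraize [ρ.hom, φ₀.hom]
    let κ := (Spec (CommRingCat.of R)).residueField y₀
    have hsq : IsPullback (Spec.map (CommRingCat.ofHom (Algebra.TensorProduct.includeLeftRingHom :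
        Γ(X, V) →+* Γ(X, V) ⊗[R] κ)))
        (Spec.map (CommRingCat.ofHom (Algebra.TensorProduct.includeRight (R := R) (A := Γ(X, V))
          (B := κ)).toRingHom)) (Spec.map ρ) (Spec.map φ₀) :=
      (isPullback_SpecMap_of_isPushout _ _ _ _ (CommRingCat.isPushout_tensorProduct R Γ(X, V) κ))
    let e : Spec (CommRingCat.of (Γ(X, V) ⊗[R] κ)) ⟶ f.fiber y₀ :=
      hsq.isoPullback.hom ≫ pullback.map _ _ _ _ hV.fromSpec (𝟙 _) (𝟙 _) (by simp [hρ]) (by simp [hφ₀])
    haveI : IsOpenImmersion e := inferInstance
    haveI := hred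
    haveI : IsReduced (Spec (CommRingCat.of (Γ(X, V) ⊗[R] κ))) := isReduced_of_isOpenImmersion e
    haveI : _root_.IsReduced (Γ(X, V) ⊗[R] κ) :=
      (affine_isReduced_iff (CommRingCat.of (Γ(X, V) ⊗[R] κ))).1 inferInstance
    haveI := Algebra.FiniteType.isNoetherianRing R Γ(X, V)
    letI := TopCat.Presheaf.algebra_section_stalk X.presheaf (⟨z, hzV⟩ : V)
    haveI := hV.isLocalization_stalk ⟨z, hzV⟩
    set q := hV.primeIdealOf ⟨z, hzV⟩
    haveI : IsNoetherianRing (X.presheaf.stalk z) :=
      IsLocalization.isNoetherianRing q.asIdeal.primeCompl _ inferInstance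
    have hker : ∀ r : R, φ₀.hom r = 0 ↔ ϖ ∣ r := by
      intro r
      rw [← RingHom.mem_ker, ← Ideal.mem_span_singleton, ← hm]
      have hp : PrimeSpectrum.comap φ₀.hom ⊥ = y₀ := by
        have : (Spec.map φ₀).base (⊥ : PrimeSpectrum κ) = y₀ := by
          rw [hφ₀]; exact Scheme.fromSpecResidueField_apply _ _
        exact this
      rw [show RingHom.ker φ₀.hom = IsLocalRing.maximalIdeal R from ?_]
      have := congr(PrimeSpectrum.asIdeal $hp)
      rw [RingHom.ker_eq_comap_bot]
      exact this
    have hdvd : ∀ a : Γ(X, V), IsNilpotent a → algebraMap R Γ(X, V) ϖ ∣ a := by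
      intro a ha
      have h0 : a ⊗ₜ[R] (1 : κ) = 0 :=
        (ha.map (Algebra.TensorProduct.includeLeftRingHom : Γ(X, V) →+* Γ(X, V) ⊗[R] κ)).eq_zero
      let I : Ideal R := Ideal.span {ϖ}
      let ψ : (R ⧸ I) →ₗ[R] κ := Submodule.liftQ I (Algebra.linearMap R κ) (fun r hr =>
        (hker r).2 (Ideal.mem_span_singleton.1 hr))
      have hψ : Function.Injective ψ := by
        rw [← LinearMap.ker_eq_bot, eq_bot_iff]
        intro r hr
        obtain ⟨r, rfl⟩ := Submodule.Quotient.mk_surjective _ r
        exact (Submodule.mem_bot _).2 ((Submodule.Quotient.mk_eq_zero _).2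
          (Ideal.mem_span_singleton.2 ((hker r).1 hr)))
      have h1 : a ⊗ₜ[R] (Submodule.Quotient.mk (1 : R) : R ⧸ I) = 0 := by
        refine Module.Flat.lTensor_preserves_injective_linearMap ψ hψ ?_
        rw [map_zero, LinearMap.lTensor_tmul]
        rw [show ψ (Submodule.Quotient.mk (1 : R)) = (1 : κ) from map_one φ₀.hom]
        exact h0
      have h2 := congr(TensorProduct.tensorQuotEquivQuotSMul Γ(X, V) I $h1)
      rw [map_zero] at h2
      have h3 : a ∈ (I • ⊤ : Submodule R Γ(X, V)) := by
        rw [← Submodule.Quotient.mk_eq_zero]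
        rw [← h2]
        simp [TensorProduct.tensorQuotEquivQuotSMul]
      rw [show (I : Ideal R) = Ideal.span {ϖ} from rfl, Submodule.ideal_span_singleton_smul,
        Submodule.mem_smul_pointwise_iff_exists] at h3
      obtain ⟨b, -, rfl⟩ := h3
      exact ⟨b, Algebra.smul_def ϖ b⟩
    refine isReduced_of_quotient (algebraMap Γ(X, V) (X.presheaf.stalk z) (algebraMap R Γ(X, V) ϖ))
      ?_ ?_ ?_
    · rw [IsLocalization.AtPrime.to_map_mem_maximal_iff (X.presheaf.stalk z) q.asIdeal]
      have hq : PrimeSpectrum.comap ρ.hom q = y₀ := by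
        show (Spec.map ρ).base q = y₀
        rw [hρ, Scheme.Hom.comp_apply, IsAffineOpen.fromSpec_primeIdealOf]
        exact hz
      have := congr(PrimeSpectrum.asIdeal $hq)
      show ρ.hom ϖ ∈ q.asIdeal
      rw [← Ideal.mem_comap]
      rw [show q.asIdeal.comap ρ.hom = IsLocalRing.maximalIdeal R from this]
      exact hm ▸ Ideal.mem_span_singleton_self ϖ
    · intro a ha
      obtain ⟨⟨b, s⟩, rfl⟩ := IsLocalization.mk'_surjective q.asIdeal.primeCompl a
      dsimp only at ha ⊢
      rw [IsLocalization.mul_mk'_eq_mk'_of_mul, IsLocalization.mk'_eq_zero_iff] at ha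
      obtain ⟨t, ht⟩ := ha
      rw [IsLocalization.mk'_eq_zero_iff]
      refine ⟨t, ?_⟩
      have : ϖ • ((t : Γ(X, V)) * b) = ϖ • (0 : Γ(X, V)) := by
        rw [smul_zero, Algebra.smul_def, mul_left_comm]; exact ht
      exact Module.Flat.isSMulRegular_of_nonZeroDivisors (mem_nonZeroDivisors_of_ne_zero hϖ.ne_zero) this
    · intro a ha
      obtain ⟨⟨b, s⟩, rfl⟩ := IsLocalization.mk'_surjective q.asIdeal.primeCompl a
      obtain ⟨k, hk⟩ := ha
      dsimp only at hk ⊢
      rw [← IsLocalization.mk'_pow, IsLocalization.mk'_eq_zero_iff] at hk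
      obtain ⟨t, ht⟩ := hk
      have hnil : IsNilpotent ((t : Γ(X, V)) * b) := ⟨k + 1, by
        rw [mul_pow, pow_succ' (t : Γ(X, V)), pow_succ b]
        calc (t : Γ(X, V)) * (t : Γ(X, V)) ^ k * (b ^ k * b)
            = ((t : Γ(X, V)) * b ^ k) * ((t : Γ(X, V)) ^ k * b) := by ring
          _ = 0 := by rw [ht, zero_mul]⟩
      obtain ⟨c, hc⟩ := hdvd _ hnil
      refine ⟨IsLocalization.mk' _ c (s * t), ?_⟩
      rw [IsLocalization.mul_mk'_eq_mk'_of_mul, IsLocalization.mk'_eq_iff_eq]
      congr 1
      rw [← hc, Submonoid.coe_mul]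
      ring
  have hX : IsReduced X := by
    haveI : ∀ x : X, _root_.IsReduced (X.presheaf.stalk x) := fun x => by
      have hcl : IsClosed (f.base '' closure {x}) := f.isClosedMap _ isClosed_closure
      have hy : y₀ ∈ f.base '' closure {x} := by
        have hx : f.base x ∈ f.base '' closure {x} := ⟨x, subset_closure rfl, rfl⟩
        exact (IsLocalRing.specializes_closedPoint (f.base x)).mem_closed hcl hx
      obtain ⟨z, hz, hzy⟩ := hy
      exact isReduced_stalk_of_specializes (specializes_iff_mem_closure.2 hz) (hstalk₀ z hzy)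
    exact isReduced_of_isReduced_stalk X
  refine ⟨hX, ?_⟩
  set η : ↑(Spec (CommRingCat.of R)) := (⟨⊥, Ideal.isPrime_bot⟩ : PrimeSpectrum R)
  haveI : Flat ((Spec (CommRingCat.of R)).fromSpecResidueField η) := by
    obtain ⟨φ, hφ⟩ := Spec.map_surjective ((Spec (CommRingCat.of R)).fromSpecResidueField η)
    rw [← hφ, HasRingHomProperty.Spec_iff (P := @Flat)]
    algebraize [φ.hom]
    have hinj : Function.Injective φ.hom := by
      rw [RingHom.injective_iff_ker_eq_bot, RingHom.ker_eq_comap_bot]
      have : (Spec.map φ).base (⊥ : PrimeSpectrum ((Spec (CommRingCat.of R)).residueField η)) = η := by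
        rw [hφ]; exact Scheme.fromSpecResidueField_apply _ _
      exact congr(PrimeSpectrum.asIdeal $this)
    haveI : FaithfulSMul R ((Spec (CommRingCat.of R)).residueField η) :=
      (faithfulSMul_iff_algebraMap_injective _ _).2 hinj
    show Module.Flat R _
    exact (Module.Flat.flat_iff_torsion_eq_bot_of_isBezout).2 (Submodule.isTorsionFree_iff_torsion_eq_bot.1 inferInstance)
  haveI : Flat (f.fiberι η) := inferInstanceAs (Flat (pullback.fst _ _))
  haveI : ∀ x : f.fiber η, _root_.IsReduced ((f.fiber η).presheaf.stalk x) := fun x => by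
    have hsurj : Function.Surjective ((f.fiberι η).stalkMap x).hom :=
      (f.fiberι η).stalkMap_surjective x
    have hinj : Function.Injective ((f.fiberι η).stalkMap x).hom := by
      algebraize [((f.fiberι η).stalkMap x).hom]
      haveI : Module.FaithfullyFlat (X.presheaf.stalk ((f.fiberι η).base x)) ((f.fiber η).presheaf.stalk x) :=
        @Module.FaithfullyFlat.of_flat_of_isLocalHom _ _ _ _ _ _ _
          (Flat.stalkMap (f.fiberι η) x) ((f.fiberι η).toLRSHom.prop x)
      exact FaithfulSMul.algebraMap_injective _ _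
    exact isReduced_of_injective (RingEquiv.ofBijective _ ⟨hinj, hsurj⟩).symm
      (RingEquiv.ofBijective _ ⟨hinj, hsurj⟩).symm.injective
  exact isReduced_of_isReduced_stalk _

end Groth.Agent.S0436
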