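import Groth.Statements.S7386
import Groth.Agent.H17.FiniteAffine
import Mathlib.AlgebraicGeometry.Normalization

set_option autoImplicit false
universe u
open CategoryTheory AlgebraicGeometry
open Mor

namespace Groth.Agent.S7386

open CategoryTheory Limits AlgebraicGeometry TopologicalSpace

/-- Let `X` be a quasi-separated scheme, `η_1, …, η_n` generic points of irreducible components of `X`
and `x` any point of `X`. Then some affine open of `X` contains `x` and all the `η_i`. -/
theorem result (X : Scheme.{u}) [QuasiSeparatedSpace X] {n : ℕ}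
    (η : Fin n → X) (hη : ∀ i, closure ({η i} : Set X) ∈ irreducibleComponents (X : Type u)) (x : X) :
    ∃ U : X.Opens, IsAffineOpen U ∧ x ∈ U ∧ ∀ i, η i ∈ U := by
  obtain ⟨V, hV, hxV, -⟩ := exists_isAffineOpen_mem_and_subset (Opens.mem_top x)
  let s : Set X := {z | z ∈ Set.range η ∧ z ∉ V}
  have hs : s.Finite := (Set.finite_range η).subset fun z hz => hz.1
  have hgen : s ⊆ genericPoints X := by rintro z ⟨⟨i, rfl⟩, -⟩; exact hη i
  let C : X.Opens := ⟨(closure (V : Set X))ᶜ, isClosed_closure.isOpen_compl⟩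
  obtain ⟨U, h1, h2⟩ := Groth.Agent.H17.exists_disjoint_affine_nhds s hs hgen (fun _ => C)
    (fun z hz => Groth.Agent.H17.notMem_closure_of_mem_genericPoints V hV.isCompact (hgen hz) hz.2)
  refine ⟨V ⊔ ⨆ z ∈ s, U z, hV.sup_of_disjoint (IsAffineOpen.biSup_of_disjoint hs (fun z hz => (h1 z hz).1) h2) ?_,
    Or.inl hxV, fun i => ?_⟩
  · rw [← Opens.coe_disjoint, Set.disjoint_left]
    intro z hz hz'
    simp only [Opens.coe_iSup, Set.mem_iUnion] at hz'
    obtain ⟨w, hw, hz'⟩ := hz'
    exact (h1 w hw).2.2 hz' (subset_closure hz)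
  · by_cases h : η i ∈ V
    · exact Or.inl h
    · refine Or.inr ?_
      exact Opens.mem_iSup.mpr ⟨η i, Opens.mem_iSup.mpr ⟨⟨⟨i, rfl⟩, h⟩, (h1 _ ⟨⟨i, rfl⟩, h⟩).2.1⟩⟩

end Groth.Agent.S7386
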