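import Groth.Statements.S7184
import Groth.Agent.H8Props.AmpleBatch
import Groth.Agent.H11Ample.RelQuasiAffine

set_option autoImplicit false
universe u
open FlatMor

namespace Groth.Agent.S7184

open AlgebraicGeometry CategoryTheory Limits in
/-- If f : X → Y is affine or quasi-affine and Y has an ample family of invertible modules, then X has
an ample family of invertible modules. -/
theorem result {X Y : Scheme.{u}} (f : X ⟶ Y) (hf : IsAffineHom f ∨ Mor2.IsQuasiAffine f)
    (hY : MoreMor.HasAmpleFamily Y) : MoreMor.HasAmpleFamily X := by
    have hq : Mor2.IsQuasiAffine f := by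
      rcases hf with h | h
      · haveI := h
        refine ⟨inferInstance, fun V hV => ?_⟩
        haveI : IsAffine (f ⁻¹ᵁ V).toScheme := hV.preimage f
        infer_instance
      · exact h
    haveI := hq.1
    exact H8Props.Ample.hasAmpleFamily_of_isRelAmple f hY (H11Ample.isQuasiAffineHom_iff.1 hq)

end Groth.Agent.S7184
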