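import Groth.Statements.S1481
import Mathlib

set_option autoImplicit false
universe u
open FlatMor

namespace Groth.Agent.S1481

open AlgebraicGeometry CategoryTheory Limits in
/-- Let f : X → S, y a point of X with image t, Y the closure of y, s a point of S and x a point of Y
over s which is generic in an irreducible component of the fibre of Y over s (fibres as subspaces).
Then there are a valuation ring R and a morphism g : Spec R → S sending the generic point to t and
the closed point to s, such that, writing X' for the base change with projections g' : X' → X and f'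
: X' → Spec R, there is a point y' of X' over the generic point with g' y' = y which is generic in
an irreducible component of the generic fibre of g'⁻¹(Y), and a point x' in the closure of y' over
the closed point with g' x' = x which is generic in an irreducible component of the special fibre of
the closure of y'. -/
theorem result {X S : Scheme.{u}} (f : X ⟶ S) (y : X) (s : S) (x : X)
    (hx : x ∈ closure ({y} : Set ↑X)) (hxs : f x = s)
    (hgen : ∃ C ∈ irreducibleComponents ↑(closure ({y} : Set ↑X) ∩ f ⁻¹' {s}), IsGenericPoint (⟨x, hx, hxs⟩ : ↑(closure ({y} : Set ↑X) ∩ f ⁻¹' {s})) C) :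
    ∃ (R : Type u) (_ : CommRing R) (_ : IsDomain R) (_ : ValuationRing R) (g : Spec (CommRingCat.of R) ⟶ S),
      g (⊥ : PrimeSpectrum R) = f y ∧ g (IsLocalRing.closedPoint R) = s ∧
      ∃ (y' : ↑(pullback f g)) (hy't : pullback.snd f g y' = (⊥ : PrimeSpectrum R)) (hy'Y : pullback.fst f g y' ∈ closure ({y} : Set ↑X)),
        pullback.fst f g y' = y ∧
        (∃ C ∈ irreducibleComponents ↑((pullback.fst f g) ⁻¹' closure ({y} : Set ↑X) ∩ (pullback.snd f g) ⁻¹' {(⊥ : PrimeSpectrum R)}),
          IsGenericPoint (⟨y', hy'Y, hy't⟩ : ↑((pullback.fst f g) ⁻¹' closure ({y} : Set ↑X) ∩ (pullback.snd f g) ⁻¹' {(⊥ : PrimeSpectrum R)})) C) ∧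
        ∃ (x' : ↑(pullback f g)) (hx' : x' ∈ closure ({y'} : Set ↑(pullback f g))) (hx's : pullback.snd f g x' = IsLocalRing.closedPoint R),
          pullback.fst f g x' = x ∧
          ∃ C ∈ irreducibleComponents ↑(closure ({y'} : Set ↑(pullback f g)) ∩ (pullback.snd f g) ⁻¹' {IsLocalRing.closedPoint R}),
            IsGenericPoint (⟨x', hx', hx's⟩ : ↑(closure ({y'} : Set ↑(pullback f g)) ∩ (pullback.snd f g) ⁻¹' {IsLocalRing.closedPoint R})) C := by
  have hgen' : ∀ z : X, z ∈ closure ({y} : Set ↑X) → f z = s → z ⤳ x → z = x := by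
    obtain ⟨C, hC, hCx⟩ := hgen
    intro z hz hzs hzx
    let z' : ↑(closure ({y} : Set ↑X) ∩ f ⁻¹' {s}) := ⟨z, hz, hzs⟩
    have h1 : z' ⤳ ⟨x, hx, hxs⟩ := (Topology.IsEmbedding.subtypeVal.isInducing.specializes_iff).1 hzx
    have h2 : C ≤ closure {z'} := by
      rw [← hCx.def]
      exact h1.closure_subset
    have h3 := hC.le_of_ge (isIrreducible_singleton.closure) h2
    have h4 : IsGenericPoint z' C := le_antisymm h3 h2
    exact congrArg Subtype.val (h4.eq hCx)
  have hyx : y ⤳ x := specializes_iff_mem_closure.2 hx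
  let φX : X.presheaf.stalk x ⟶ X.residueField y := X.presheaf.stalkSpecializes hyx ≫ X.residue y
  have hts : f y ⤳ s := hxs ▸ hyx.map f.continuous
  let φS : S.presheaf.stalk s ⟶ S.residueField (f y) := S.presheaf.stalkSpecializes hts ≫ S.residue (f y)
  obtain ⟨A, hA, hA_local⟩ := IsLocalRing.exists_factor_valuationRing φX.hom
  let R := A.comap (Scheme.Hom.residueFieldMap f y).hom
  have key : φS ≫ Scheme.Hom.residueFieldMap f y =
      (S.presheaf.stalkCongr (Inseparable.of_eq hxs.symm)).hom ≫ f.stalkMap x ≫ φX := by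
    subst hxs
    simp only [φS, φX, Category.assoc, Scheme.residue_residueFieldMap]
    simp only [TopCat.Presheaf.stalkCongr_hom, TopCat.Presheaf.stalkSpecializes_refl, Category.id_comp]
    exact Scheme.Hom.stalkSpecializes_stalkMap_assoc f _ _ hyx _
  have hR : ∀ a, φS.hom a ∈ R.toSubring := fun a => by
    show (Scheme.Hom.residueFieldMap f y).hom (φS.hom a) ∈ A
    rw [← RingHom.comp_apply, ← CommRingCat.hom_comp, key]
    exact hA _
  let ψX : X.presheaf.stalk x ⟶ CommRingCat.of A := CommRingCat.ofHom (φX.hom.codRestrict A.toSubring hA)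
  let ψS : S.presheaf.stalk s ⟶ CommRingCat.of R := CommRingCat.ofHom (φS.hom.codRestrict R.toSubring hR)
  let ι : CommRingCat.of R ⟶ CommRingCat.of A :=
    CommRingCat.ofHom (((Scheme.Hom.residueFieldMap f y).hom.comp R.subtype).codRestrict A.toSubring fun r => r.2)
  have hι : Function.Injective ι.hom := fun a b h =>
    Subtype.ext ((Scheme.Hom.residueFieldMap f y).hom.injective (congrArg Subtype.val h))
  haveI : IsLocalHom ι.hom := ⟨fun r hr => by
    obtain ⟨v, hv⟩ := hr.exists_right_inv
    have hv' : (Scheme.Hom.residueFieldMap f y).hom r.1 * v.1 = 1 := congrArg Subtype.val hv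
    have hr0 : r.1 ≠ 0 := fun h => by simp [h] at hv'
    refine IsUnit.of_mul_eq_one ⟨r.1⁻¹, ?_⟩ (Subtype.ext (mul_inv_cancel₀ hr0))
    show (Scheme.Hom.residueFieldMap f y).hom r.1⁻¹ ∈ A
    rw [map_inv₀, inv_eq_of_mul_eq_one_right hv']
    exact v.2⟩
  let g : Spec (CommRingCat.of R) ⟶ S := Spec.map ψS ≫ S.fromSpecStalk s
  let a : Spec (CommRingCat.of A) ⟶ X := Spec.map ψX ≫ X.fromSpecStalk x
  have hag : a ≫ f = Spec.map ι ≫ g := by
    simp only [a, g, Category.assoc, ← Scheme.SpecMap_stalkMap_fromSpecStalk,
      ← Scheme.SpecMap_stalkSpecializes_fromSpecStalk (X := S) (x := f x) (y := s) (Inseparable.of_eq hxs).specializes,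
      ← Spec.map_comp_assoc]
    congr 2
    ext r
    exact (congrArg (fun φ : S.presheaf.stalk s ⟶ X.residueField y => φ.hom r) key.symm)
  let σ : Spec (CommRingCat.of A) ⟶ pullback f g := pullback.lift a (Spec.map ι) hag
  let η : ↑(Spec (CommRingCat.of A)) := (⊥ : PrimeSpectrum A)
  let c : ↑(Spec (CommRingCat.of A)) := IsLocalRing.closedPoint A
  have hσ₁ : ∀ p, pullback.fst f g (σ p) = a p := fun p => by
    rw [← Scheme.Hom.comp_apply, pullback.lift_fst]
  have hσ₂ : ∀ p, pullback.snd f g (σ p) = Spec.map ι p := fun p => by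
    rw [← Scheme.Hom.comp_apply, pullback.lift_snd]
  have hs2 : pullback.snd f g (σ η) = (⊥ : PrimeSpectrum R) := by
    rw [hσ₂]
    exact PrimeSpectrum.ext (Ideal.comap_bot_of_injective ι.hom hι)
  have hc2 : pullback.snd f g (σ c) = IsLocalRing.closedPoint R :=
    (hσ₂ c).trans (IsLocalRing.comap_closedPoint ι.hom)
  have haη : a η = y := by
    have e : Spec.map (CommRingCat.ofHom A.subtype) ≫ a = X.fromSpecResidueField y := by
      simp only [a, ← Spec.map_comp_assoc, Scheme.fromSpecResidueField,
        ← Scheme.SpecMap_stalkSpecializes_fromSpecStalk hyx]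
      rfl
    have e2 : Spec.map (CommRingCat.ofHom A.subtype) (IsLocalRing.closedPoint (X.residueField y)) = η :=
      PrimeSpectrum.ext (by
        show Ideal.comap A.subtype (IsLocalRing.maximalIdeal (X.residueField y)) = ⊥
        rw [IsLocalRing.maximalIdeal_eq_bot]
        exact Ideal.comap_bot_of_injective _ Subtype.val_injective)
    rw [← e2, ← Scheme.Hom.comp_apply, e, Scheme.fromSpecResidueField_apply]
  have hac : a c = x := by
    show X.fromSpecStalk x (Spec.map ψX c) = x
    haveI : IsLocalHom ψX.hom := hA_local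
    rw [show Spec.map ψX c = IsLocalRing.closedPoint (X.presheaf.stalk x) from IsLocalRing.comap_closedPoint ψX.hom,
      Scheme.fromSpecStalk_closedPoint]
  have hfst : pullback.fst f g (σ η) = y := (hσ₁ η).trans haη
  have hηY : pullback.fst f g (σ η) ∈ closure ({y} : Set ↑X) := by
    rw [hfst]
    exact subset_closure rfl
  refine ⟨R, inferInstance, inferInstance, inferInstance, g, ?_, ?_, σ η, hs2, hηY, hfst, ?_, ?_⟩
  · rw [← hs2, ← Scheme.Hom.comp_apply, ← pullback.condition, Scheme.Hom.comp_apply, hfst]
  · rw [← hc2, ← Scheme.Hom.comp_apply, ← pullback.condition, Scheme.Hom.comp_apply, hσ₁, hac, hxs]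
  · have key2 : ∀ z, pullback.snd f g z = (⊥ : PrimeSpectrum R) → y ⤳ pullback.fst f g z → σ η ⤳ z := by
      intro z hz hyz
      let i : Spec (S.residueField (f y)) ⟶ Spec (CommRingCat.of R) := Spec.map (CommRingCat.ofHom R.subtype)
      have hig : i ≫ g = S.fromSpecResidueField (f y) := by
        simp only [i, g, ← Spec.map_comp_assoc, Scheme.fromSpecResidueField,
          ← Scheme.SpecMap_stalkSpecializes_fromSpecStalk hts]
        rfl
      haveI : IsPreimmersion (i ≫ g) := hig ▸ inferInstance
      let ρ := pullback.fst (pullback.snd f g) i ≫ pullback.fst f g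
      haveI : IsPreimmersion ρ := by
        rw [show ρ = (pullbackLeftPullbackSndIso f g i).hom ≫ pullback.fst f (i ≫ g) from
          (pullbackLeftPullbackSndIso_hom_fst f g i).symm]
        infer_instance
      have hb : (⊥ : PrimeSpectrum R) ∈ Set.range i := ⟨IsLocalRing.closedPoint (S.residueField (f y)),
        PrimeSpectrum.ext (by
          show Ideal.comap R.subtype (IsLocalRing.maximalIdeal (S.residueField (f y))) = ⊥
          rw [IsLocalRing.maximalIdeal_eq_bot]
          exact Ideal.comap_bot_of_injective _ Subtype.val_injective)⟩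
      have hr : ∀ w, pullback.snd f g w = (⊥ : PrimeSpectrum R) →
          ∃ w', pullback.fst (pullback.snd f g) i w' = w := fun w hw => by
        have h : w ∈ Set.range (pullback.fst (pullback.snd f g) i) := by
          rw [Scheme.Pullback.range_fst]
          show pullback.snd f g w ∈ Set.range i
          rw [hw]
          exact hb
        exact h
      obtain ⟨z', hz'⟩ := hr z hz
      obtain ⟨e', he'⟩ := hr _ hs2
      have h : e' ⤳ z' := (ρ.isEmbedding.isInducing.specializes_iff).1 (by
        simpa [ρ, hz', he', hfst] using hyz)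
      have := h.map (pullback.fst (pullback.snd f g) i).continuous
      rwa [hz', he'] at this
    have hI : closure {(⟨σ η, hηY, hs2⟩ :
        ↑((pullback.fst f g) ⁻¹' closure ({y} : Set ↑X) ∩ (pullback.snd f g) ⁻¹' {(⊥ : PrimeSpectrum R)}))} = Set.univ := by
      refine Set.eq_univ_of_forall fun w => specializes_iff_mem_closure.1 ?_
      exact (Topology.IsEmbedding.subtypeVal.isInducing.specializes_iff).1
        (key2 w.1 w.2.2 (specializes_iff_mem_closure.2 w.2.1))
    refine ⟨Set.univ, ⟨hI ▸ isIrreducible_singleton.closure, fun _ _ _ => Set.subset_univ _⟩, hI⟩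
  · have hηc : σ η ⤳ σ c := (IsLocalRing.specializes_closedPoint η).map σ.continuous
    have hT : IsClosed (closure ({σ η} : Set ↑(pullback f g)) ∩ (pullback.snd f g) ⁻¹' {IsLocalRing.closedPoint R}) :=
      isClosed_closure.inter (IsLocalRing.isClosed_singleton_closedPoint R |>.preimage (pullback.snd f g).continuous)
    haveI : QuasiSober ↑(closure ({σ η} : Set ↑(pullback f g)) ∩ (pullback.snd f g) ⁻¹' {IsLocalRing.closedPoint R}) :=
      hT.isClosedEmbedding_subtypeVal.quasiSober
    let p0 : ↑(closure ({σ η} : Set ↑(pullback f g)) ∩ (pullback.snd f g) ⁻¹' {IsLocalRing.closedPoint R}) :=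
      ⟨σ c, hηc.mem_closure, hc2⟩
    have hirr : IsIrreducible (irreducibleComponent p0) := isIrreducible_irreducibleComponent
    have hgp : IsGenericPoint hirr.genericPoint (irreducibleComponent p0) :=
      hirr.isGenericPoint_genericPoint isClosed_irreducibleComponent
    refine ⟨hirr.genericPoint.1, hirr.genericPoint.2.1, hirr.genericPoint.2.2, ?_,
      irreducibleComponent p0, irreducibleComponent_mem_irreducibleComponents p0, hgp⟩
    have hsp : (hirr.genericPoint.1 : ↑(pullback f g)) ⤳ σ c :=
      (hgp.specializes mem_irreducibleComponent).map continuous_subtype_val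
    refine hgen' _ ?_ ?_ ?_
    · have h1 : σ η ⤳ hirr.genericPoint.1 := specializes_iff_mem_closure.2 hirr.genericPoint.2.1
      have h2 := h1.map (pullback.fst f g).continuous
      rw [hfst] at h2
      exact specializes_iff_mem_closure.1 h2
    · rw [← Scheme.Hom.comp_apply, pullback.condition, Scheme.Hom.comp_apply,
        show pullback.snd f g hirr.genericPoint.1 = IsLocalRing.closedPoint R from hirr.genericPoint.2.2,
        ← hc2, ← Scheme.Hom.comp_apply, ← pullback.condition, Scheme.Hom.comp_apply, hσ₁, hac, hxs]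
    · have := hsp.map (pullback.fst f g).continuous
      rwa [hσ₁, hac] at this

end Groth.Agent.S1481
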