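-- statement Lim8.GrothFrozen.S4799 (Groth/Statements/S4799.lean; the theorem Lim8.generic_flatness_module_of_isIntegral);
import Groth.Statements.S4799
import Groth.Agent.H7Flat.FlatChain
import Groth.Agent.H8Props.FlatLocus.Sheaf
import Groth.Agent.H8Props.FinLocFree.Sheaf
import Groth.Agent.H06EGA11.Loc

set_option autoImplicit false
universe u
open CategoryTheory AlgebraicGeometry
open Lim8

namespace Groth.Agent.S4799
set_option backward.isDefEq.respectTransparency false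

/-- Generic flatness without Noetherian hypotheses: let Y be an integral scheme, u : X ⟶ Y a
quasi-compact morphism locally of finite presentation, and F a quasi-coherent O_X-module of finite
presentation. Then there is a nonempty open subset U of Y such that F restricted to u⁻¹(U) is flat
over U, i.e. the stalk F_x is flat over O_{Y, u(x)} for every x with u(x) ∈ U. -/
theorem result {X Y : Scheme.{u}} (u : X ⟶ Y) [IsIntegral Y]
    [LocallyOfFinitePresentation u] [QuasiCompact u] (F : X.Modules) [Coh.IsQCoh F] (hF : CohB1.IsFP F) :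
    ∃ U : Y.Opens, (U : Set Y).Nonempty ∧ ∀ x : X, u.base x ∈ U → FlatMod.IsFlatOverAt u F x := by
  classical
  obtain ⟨y₀⟩ := (inferInstance : Nonempty Y)
  obtain ⟨V, hV, hy₀, -⟩ := exists_isAffineOpen_mem_and_subset (U := (⊤ : Y.Opens)) (x := y₀) trivial
  haveI : Nonempty V := ⟨⟨y₀, hy₀⟩⟩
  have hc : IsCompact (u ⁻¹ᵁ V : Set X) := u.isCompact_preimage hV.isCompact
  obtain ⟨W, hW⟩ := hc.elim_finite_subcover (fun W : {W : X.affineOpens // W.1 ≤ u ⁻¹ᵁ V} => (W.1.1 : Set X))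
    (fun W => W.1.1.2) (fun x hx => by
      obtain ⟨V', hV', hxV, hle⟩ := exists_isAffineOpen_mem_and_subset (U := u ⁻¹ᵁ V) (x := x) hx
      exact Set.mem_iUnion.mpr ⟨⟨⟨V', hV'⟩, hle⟩, hxV⟩)
  letI alg : ∀ l : W, Algebra Γ(Y, V) Γ(X, l.1.1.1) := fun l => (u.appLE V l.1.1 l.1.2).hom.toAlgebra
  letI mod : ∀ l : W, Module Γ(Y, V) Γ(F, l.1.1.1) := fun l =>
    Module.compHom Γ(F, l.1.1.1) (u.appLE V l.1.1 l.1.2).hom
  haveI : ∀ l : W, IsScalarTower Γ(Y, V) Γ(X, l.1.1.1) Γ(F, l.1.1.1) := fun l =>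
    .of_algebraMap_smul fun _ _ => rfl
  haveI : ∀ l : W, Algebra.FinitePresentation Γ(Y, V) Γ(X, l.1.1.1) := fun l =>
    HasRingHomProperty.appLE @LocallyOfFinitePresentation u ‹_› ⟨V, hV⟩ l.1.1 l.1.2
  haveI : ∀ l : W, Module.FinitePresentation Γ(X, l.1.1.1) Γ(F, l.1.1.1) := fun l =>
    H8Props.FinLocFree.finitePresentation_sections F hF l.1.1.2
  obtain ⟨m, c, h0, hm, hmono, -, hflat⟩ := H7Flat.exists_flatChain (A := Γ(Y, V))
    (fun l : W => Γ(X, l.1.1.1)) (fun l : W => Γ(F, l.1.1.1))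
  have hex : ∃ k, c k ≠ ⊥ := ⟨m, by rw [hm]; exact top_ne_bot⟩
  obtain ⟨k, hk⟩ : ∃ k, Nat.find hex = k + 1 := Nat.exists_eq_add_one.mpr
    (Nat.pos_of_ne_zero fun h => Nat.find_spec hex (h ▸ h0))
  have hk0 : c k = ⊥ := not_not.1 (Nat.find_min hex (by omega))
  have hkm : k < m := by
    have := Nat.find_min' hex (show c m ≠ ⊥ by rw [hm]; exact top_ne_bot)
    omega
  obtain ⟨g, hg, hg0⟩ := Submodule.exists_mem_ne_zero_of_ne_bot (hk ▸ Nat.find_spec hex)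
  refine ⟨Y.basicOpen g, ?_, fun x hx => ?_⟩
  · rw [Set.nonempty_iff_ne_empty]
    intro h
    exact hg0 ((basicOpen_eq_bot_iff g).1 (TopologicalSpace.Opens.ext h))
  have hxV : x ∈ u ⁻¹ᵁ V := Y.basicOpen_le g hx
  obtain ⟨l, hl, hxl⟩ := Set.mem_iUnion₂.mp (hW hxV)
  rw [H8Props.FlatLocus.isFlatOverAt_iff_localizedModule u F ‹_› hV l.1.2 l.2 ⟨x, hxl⟩]
  letI := (u.appLE V l.1 l.2).hom.toAlgebra
  letI := Module.compHom Γ(F, l.1.1) (u.appLE V l.1 l.2).hom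
  haveI : IsScalarTower Γ(Y, V) Γ(X, l.1.1) Γ(F, l.1.1) := .of_algebraMap_smul fun _ _ => rfl
  let R := Localization.Away g
  haveI : Module.Flat R (TensorProduct Γ(Y, V) R Γ(F, l.1.1)) :=
    hflat k hkm R (by rw [hk0, Ideal.map_bot])
      (Ideal.eq_top_of_isUnit_mem _ (Ideal.mem_map_of_mem _ hg) (IsLocalization.Away.algebraMap_isUnit g)) ⟨l, hl⟩
  haveI : Module.Flat Γ(Y, V) (TensorProduct Γ(Y, V) R Γ(F, l.1.1)) := Module.Flat.trans Γ(Y, V) R _
  haveI : Module.Flat Γ(Y, V) (LocalizedModule (Submonoid.powers g) Γ(F, l.1.1)) :=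
    Module.Flat.of_linearEquiv ((IsLocalizedModule.isBaseChange (Submonoid.powers g) R
      (LocalizedModule.mkLinearMap (Submonoid.powers g) Γ(F, l.1.1))).equiv.restrictScalars Γ(Y, V)).symm
  refine H06EGA11.flat_localizedModule _ fun J z hz => ?_
  obtain ⟨_, ⟨n, rfl⟩, hn⟩ := H06EGA11.exists_smul_eq_zero_of_flat (S := Γ(Y, V))
    (Submonoid.powers g) J.subtype Subtype.val_injective z hz
  refine ⟨algebraMap Γ(Y, V) Γ(X, l.1.1) (g ^ n), ?_, by rwa [algebraMap_smul]⟩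
  intro hmem
  rw [map_pow] at hmem
  have h1 := (l.1.2.primeIdealOf ⟨x, hxl⟩).2.mem_of_pow_mem n hmem
  have h2 : x ∈ X.basicOpen (algebraMap Γ(Y, V) Γ(X, l.1.1) g) := by
    show x ∈ X.basicOpen ((u.appLE V l.1 l.2).hom g)
    rw [Scheme.basicOpen_appLE]
    exact ⟨hxl, hx⟩
  replace h2 : l.1.2.fromSpec (l.1.2.primeIdealOf ⟨x, hxl⟩) ∈ X.basicOpen (algebraMap Γ(Y, V) Γ(X, l.1.1) g) := by
    rw [l.1.2.fromSpec_primeIdealOf]; exact h2
  have h3 : l.1.2.primeIdealOf ⟨x, hxl⟩ ∈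
      l.1.2.fromSpec ⁻¹ᵁ X.basicOpen (algebraMap Γ(Y, V) Γ(X, l.1.1) g) := h2
  rw [l.1.2.fromSpec_preimage_basicOpen] at h3
  exact h3 h1

end Groth.Agent.S4799
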