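import Groth.Statements.S1370
import Groth.Agent.H7Flat.Chain.RelAssScheme
import Groth.Agent.H8Props.FinLocFree.Sheaf
import Mathlib

set_option autoImplicit false
universe u
open FlatMor

namespace Groth.Agent.S1370

set_option backward.isDefEq.respectTransparency false
set_option maxHeartbeats 1000000

open AlgebraicGeometry CategoryTheory Limits in
/-- Let f be of finite presentation, F a quasi-coherent module of finite presentation on the source, and
U an open of the source which is quasi-compact over the target. Then the set of points y of the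
target such that all associated points of F restricted to the fibre over y lie in U is locally
constructible. -/
theorem result {X Y : Scheme.{u}} (f : X ⟶ Y) [LocallyOfFinitePresentation f] [QuasiCompact f] [QuasiSeparated f]
    (F : X.Modules) (hFq : Coh.IsQCoh F) (hFp : CohB1.IsFP F) (U : X.Opens) [QuasiCompact (U.ι ≫ f)] :
    Topology.IsLocallyConstructible {y : ↑Y | ∀ x ∈ MoreMor.relAss f F, f x = y → x ∈ U} := by
  intro y
  obtain ⟨V, hV, hyV, -⟩ := exists_isAffineOpen_mem_and_subset (X := Y) (x := y) (U := ⊤) trivial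
  refine ⟨V, V.2.mem_nhds hyV, V.2, ?_⟩
  obtain ⟨s, hs, hW⟩ := (isCompact_and_isOpen_iff_finite_and_eq_biUnion_affineOpens
    (X := X) (U := f ⁻¹ᵁ V)).mp ⟨f.isCompact_preimage hV.isCompact, (f ⁻¹ᵁ V).2⟩
  have hle : ∀ W ∈ s, (W : X.Opens) ≤ f ⁻¹ᵁ V := fun W hW' x hx ↦
    hW.ge (Set.mem_biUnion hW' hx)
  haveI : Finite s := hs
  have hcov : ∀ x : X, f x ∈ V → ∃ W : s, x ∈ (W.1 : X.Opens) := fun x hx => by
    obtain ⟨W, hW', hxW⟩ := Set.mem_iUnion₂.mp (hW.le (show x ∈ (f ⁻¹ᵁ V : Set X) from hx))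
    exact ⟨⟨W, hW'⟩, hxW⟩
  have hloc : ∀ W : s, ∃ E : Set (PrimeSpectrum Γ(Y, V)), Topology.IsConstructible E ∧
      ∀ z : V, (∀ x ∈ MoreMor.relAss f F, f x = z.1 → x ∈ (W.1 : X.Opens) → x ∈ U) ↔ hV.primeIdealOf z ∈ E := by
    intro W
    letI : Algebra Γ(Y, V) Γ(X, W.1.1) := (f.appLE V W.1.1 (hle W.1 W.2)).hom.toAlgebra
    letI : Module Γ(Y, V) Γ(F, W.1.1) := Module.compHom _ (algebraMap Γ(Y, V) Γ(X, W.1.1))
    haveI : IsScalarTower Γ(Y, V) Γ(X, W.1.1) Γ(F, W.1.1) := IsScalarTower.of_algebraMap_smul fun _ _ => rfl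
    have hcpt : IsCompact ((U : Set X) ∩ (W.1 : X.Opens)) := by
      have hU : IsCompact ((U : Set X) ∩ (f ⁻¹ᵁ V : Set X)) := by
        have h1 := (U.ι ≫ f).isCompact_preimage hV.isCompact
        have h2 := h1.image U.ι.continuous
        convert h2 using 1
        ext z
        exact ⟨fun hz => ⟨⟨z, hz.1⟩, hz.2, rfl⟩, fun ⟨w, hw, e⟩ => e ▸ ⟨w.2, hw⟩⟩
      have h3 := f.isQuasiSeparated_preimage hV.isQuasiSeparated _ _ Set.inter_subset_right
        (U.2.inter (f ⁻¹ᵁ V).2) hU (hle W.1 W.2) W.1.1.2 W.1.2.isCompact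
      convert h3 using 1
      ext z
      exact ⟨fun hz => ⟨⟨hz.1, hle W.1 W.2 hz.2⟩, hz.2⟩, fun hz => ⟨hz.1.1, hz.2⟩⟩
    obtain ⟨k, g, hg⟩ := H7Flat.Chain.RelAss.exists_finite_basicOpen U W.1.2 hcpt
    haveI : Algebra.FinitePresentation Γ(Y, V) Γ(X, W.1.1) :=
      f.finitePresentation_appLE hV W.1.2 (hle W.1 W.2)
    haveI : Module.FinitePresentation Γ(X, W.1.1) Γ(F, W.1.1) :=
      H8Props.FinLocFree.finitePresentation_sections F hFp W.1.2
    refine ⟨_, H7Flat.Chain.isConstructible_assAvoid (A := Γ(Y, V)) Γ(F, W.1.1) g, fun z => ?_⟩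
    refine (H7Flat.Chain.RelAss.forall_mem_open_iff f F hFq hV W.1.2 (hle W.1 W.2) U (Set.range g) hg rfl z).trans ?_
    exact ⟨fun h Q _ hQ hass => by obtain ⟨_, ⟨i, rfl⟩, hi⟩ := h Q hQ hass; exact ⟨i, hi⟩,
      fun h Q _ hQ hass => by obtain ⟨i, hi⟩ := h Q hQ hass; exact ⟨g i, ⟨i, rfl⟩, hi⟩⟩
  choose E hE hEiff using hloc
  have key : (Subtype.val ⁻¹' {y : ↑Y | ∀ x ∈ MoreMor.relAss f F, f x = y → x ∈ U} : Set V) =
      hV.isoSpec.hom ⁻¹' (⋂ W : s, E W) := by
    ext z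
    refine ⟨fun h => Set.mem_iInter.mpr fun W => (hEiff W z).mp fun x hx hxz _ => h x hx hxz,
      fun h x hx hxz => ?_⟩
    obtain ⟨W, hxW⟩ := hcov x (hxz ▸ z.2)
    exact (hEiff W z).mpr (Set.mem_iInter.mp h W) x hx hxz hxW
  show Topology.IsConstructible (Subtype.val ⁻¹' {y : ↑Y | ∀ x ∈ MoreMor.relAss f F, f x = y → x ∈ U})
  erw [key]
  exact (Topology.IsConstructible.iInter hE).preimage_of_isOpenEmbedding hV.isoSpec.hom.isOpenEmbedding

end Groth.Agent.S1370
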