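import Groth.Statements.S1357
import Groth.Agent.H7Lim.EtaleGenFibre
-- import your own Groth.Agent.* helpers here

set_option autoImplicit false
universe u
open FlatMor

namespace Groth.Agent.S1357

open AlgebraicGeometry CategoryTheory Limits in
/-- Let f be of finite type with irreducible target Y. Then there are a nonempty open V of Y and a
surjective finite étale morphism g from an irreducible affine scheme Y' to V such that, for the base
change f' of f to Y', every irreducible component of the generic fibre of f' (with its reduced
induced structure) is geometrically irreducible over the residue field of the generic point of Y'. -/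
theorem result {X Y : Scheme.{u}} (f : X ⟶ Y) [IrreducibleSpace ↑Y] [LocallyOfFiniteType f] [QuasiCompact f] :
    ∃ (V : Y.Opens) (Y' : Scheme.{u}) (g : Y' ⟶ (V : Scheme.{u})) (hY' : IrreducibleSpace ↑Y'), (V : Set ↑Y).Nonempty ∧ IsAffine Y' ∧ Surjective g ∧ IsFinite g ∧ Etale g ∧
      ∀ (Z : Set ↑((pullback.snd f (g ≫ V.ι)).fiber (genericPoint ↑Y'))) (hZ : Z ∈ irreducibleComponents ↑((pullback.snd f (g ≫ V.ι)).fiber (genericPoint ↑Y'))),
        GeometricallyIrreducible ((Scheme.IdealSheafData.vanishingIdeal (⟨Z, isClosed_of_mem_irreducibleComponents Z hZ⟩ : TopologicalSpace.Closeds _)).subschemeι ≫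
          (pullback.snd f (g ≫ V.ι)).fiberToSpecResidueField (genericPoint ↑Y')) := by
  exact H7Lim.EtaleGenFibre.exists_base_change f

end Groth.Agent.S1357
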