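import Groth.Statements.S1585
import Mathlib
import Groth.Agent.H11Curve.NormFinite
import Groth.Agent.H11Curve.NormalizationBasic
import Groth.Agent.H26BMCoh.NormIso

set_option autoImplicit false
universe u
open CategoryTheory CategoryTheory.Limits AlgebraicGeometry
open Variety

namespace Groth.Agent.S1585

/-- Part (1): and (4), for an integral scheme locally of finite type over a field: the normalization
morphism ν (normalization of X in its function field) is finite, dominant and an isomorphism over a
nonempty open, and the normalization is an integral scheme all of whose local rings are integrally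
closed domains. (The quasi-compactness/quasi-separatedness binders on Spec K(X) → X always hold;
they are needed only to form Mathlib's relative normalization.) -/
theorem result (k : Type u) [Field k] (X : Scheme.{u}) [X.Over (Spec (CommRingCat.of k))] [IsIntegral X] [LocallyOfFiniteType (X ↘ (Spec (CommRingCat.of k)))]
    [QuasiCompact (X.fromSpecStalk (genericPoint X))] [QuasiSeparated (X.fromSpecStalk (genericPoint X))] :
    IsFinite (Curv2.normalizationι X) ∧ IsDominant (Curv2.normalizationι X) ∧
      (∃ V : X.Opens, (V : Set X).Nonempty ∧ IsIso (Curv2.normalizationι X ∣_ V)) ∧
      IsIntegral (Curv2.normalization X) ∧ Pi1.IsNormalScheme (Curv2.normalization X) := by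
  have hfin : IsFinite (Curv2.normalizationι X) := H11Curve.isFinite_normalizationι (X ↘ (Spec (CommRingCat.of k)))
  haveI := hfin
  refine ⟨hfin, ⟨(H11Curve.surjective_normalizationι X).surj.denseRange⟩, ?_,
    H11Curve.isIntegral_normalization X, H11Curve.isNormal_normalization X⟩
  exact H26BMCoh.exists_isIso_normalization X

end Groth.Agent.S1585
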