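import Groth.Statements.S7600
import Mathlib
import Groth.Agent.H22Alg.NormalDescentField

set_option autoImplicit false
universe u
open CategoryTheory CategoryTheory.Limits AlgebraicGeometry
open Variety

namespace Groth.Agent.S7600

/-- (2) ⇒ (1): let X be a scheme over a field k, k' an extension field of k and x' a point of X_{k'}
with image x in X. If X_{k'} is geometrically normal at x' over k' (for every extension field k'' of
k' and every point x'' of (X_{k'})_{k''} over x' the local ring at x'' is an integrally closed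
domain), then X is geometrically normal at x over k. -/
theorem result (k : Type u) [Field k] (X : Scheme.{u}) [X.Over (Spec (CommRingCat.of k))] (k' : Type u) [Field k'] [Algebra k k'] (x' : ↥(Curv2.bc k X k'))
    (h : letI : (Curv2.bc k X k').Over (Spec (CommRingCat.of k')) := ⟨Curv2.bcSnd k X k'⟩
      ∀ (k'' : Type u) [Field k''] [Algebra k' k''] (x'' : ↥(Curv2.bc k' (Curv2.bc k X k') k'')), Curv2.bcFst k' (Curv2.bc k X k') k'' x'' = x' →
          IsDomain ↥((Curv2.bc k' (Curv2.bc k X k') k'').presheaf.stalk x'') ∧ IsIntegrallyClosed ↥((Curv2.bc k' (Curv2.bc k X k') k'').presheaf.stalk x'')) :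
    ∀ (K : Type u) [Field K] [Algebra k K] (y : ↥(Curv2.bc k X K)), Curv2.bcFst k X K y = (Curv2.bcFst k X k' x') →
          IsDomain ↥((Curv2.bc k X K).presheaf.stalk y) ∧ IsIntegrallyClosed ↥((Curv2.bc k X K).presheaf.stalk y) := by
  intro K _ _ y hy
  let q := X ↘ (Spec (CommRingCat.of k))
  let σ' := Spec.map (CommRingCat.ofHom (algebraMap k k'))
  let σK := Spec.map (CommRingCat.ofHom (algebraMap k K))
  letI : (Curv2.bc k X k').Over (Spec (CommRingCat.of k')) := ⟨Curv2.bcSnd k X k'⟩
  obtain ⟨w, hw1, hw2⟩ := Scheme.Pullback.exists_preimage_pullback (f := Curv2.bcFst k X K) (g := Curv2.bcFst k X k') y x' hy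
  let T := pullback (Curv2.bcFst k X K) (Curv2.bcFst k X k')
  let L : Type u := T.residueField w
  let r : Spec (CommRingCat.of L) ⟶ T := T.fromSpecResidueField w
  let φ' : CommRingCat.of k' ⟶ CommRingCat.of L := Spec.preimage (r ≫ pullback.snd _ _ ≫ pullback.snd q σ')
  let φK : CommRingCat.of K ⟶ CommRingCat.of L := Spec.preimage (r ≫ pullback.fst _ _ ≫ pullback.snd q σK)
  letI : Algebra k' L := φ'.hom.toAlgebra
  let σL : Spec (CommRingCat.of L) ⟶ Spec (CommRingCat.of k') := Spec.map (CommRingCat.ofHom (algebraMap k' L))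
  have hσL : σL = r ≫ pullback.snd _ _ ≫ pullback.snd q σ' := Spec.map_preimage _
  have hσK : Spec.map φK = r ≫ pullback.fst _ _ ≫ pullback.snd q σK := Spec.map_preimage _
  have hcomp : Spec.map φK ≫ σK = σL ≫ σ' := by
    rw [hσK, hσL]
    simp only [Category.assoc, ← pullback.condition]
    rw [← Category.assoc (pullback.fst (Curv2.bcFst k X K) (Curv2.bcFst k X k')), pullback.condition, Category.assoc]
  haveI : Flat (Spec.map φK) := by
    rw [HasRingHomProperty.Spec_iff (P := @Flat)]
    letI := φK.hom.toAlgebra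
    exact RingHom.flat_algebraMap_iff.mpr inferInstance
  let M₀ : pullback q (σL ≫ σ') ⟶ pullback q σK :=
    pullback.lift (pullback.fst _ _) (pullback.snd _ _ ≫ Spec.map φK)
      (by rw [Category.assoc, hcomp, pullback.condition])
  haveI : Flat M₀ := by
    have hP : IsPullback (pullback.snd q (σL ≫ σ')) M₀ (Spec.map φK) (pullback.snd q σK) := by
      refine (IsPullback.of_right ?_ (pullback.lift_snd _ _ _) (IsPullback.of_hasPullback q σK)).flip
      rw [pullback.lift_fst, hcomp]
      exact IsPullback.of_hasPullback q (σL ≫ σ')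
    exact MorphismProperty.of_isPullback hP inferInstance
  let j := pullbackLeftPullbackSndIso q σ' σL
  let M : pullback (pullback.snd q σ') σL ⟶ pullback q σK := j.hom ≫ M₀
  haveI : Flat M := inferInstance
  let z : Spec (CommRingCat.of L) ⟶ pullback (pullback.snd q σ') σL :=
    pullback.lift (r ≫ pullback.snd _ _) (𝟙 _) (by rw [Category.id_comp, Category.assoc]; exact hσL.symm)
  have hzM : z ≫ M = r ≫ pullback.fst _ _ := by
    apply pullback.hom_ext
    · show (z ≫ j.hom ≫ M₀) ≫ pullback.fst q σK = (r ≫ pullback.fst _ _) ≫ pullback.fst q σK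
      simp only [M₀, j, z, Category.assoc, pullback.lift_fst, pullbackLeftPullbackSndIso_hom_fst, pullback.lift_fst_assoc]
      exact congrArg (r ≫ ·) pullback.condition.symm
    · show (z ≫ j.hom ≫ M₀) ≫ pullback.snd q σK = (r ≫ pullback.fst _ _) ≫ pullback.snd q σK
      simp only [M₀, j, z, Category.assoc, pullback.lift_snd, pullbackLeftPullbackSndIso_hom_snd_assoc, pullback.lift_snd_assoc, Category.id_comp]
      exact hσK
  let c : ↥(Spec (CommRingCat.of L)) := IsLocalRing.closedPoint L
  have hx : Curv2.bcFst k' (Curv2.bc k X k') L (z c) = x' := by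
    show pullback.fst (pullback.snd q σ') σL (z c) = x'
    rw [← Scheme.Hom.comp_apply, pullback.lift_fst, Scheme.Hom.comp_apply]
    erw [Scheme.fromSpecResidueField_apply]
    exact hw2
  have hy' : M (z c) = y := by
    rw [← Scheme.Hom.comp_apply, hzM, Scheme.Hom.comp_apply]
    erw [Scheme.fromSpecResidueField_apply]
    exact hw1
  rw [← hy']
  exact Groth.Agent.H22Alg.NormalDescentField.normal_stalk_of_flat M (z c) (h L (z c) hx)

end Groth.Agent.S7600
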