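import Groth.Statements.S3455
import Groth.Agent.H06EGA12.GeomRkLocus
import Groth.Agent.H06EGA12.GeomSkField
import Groth.Agent.H06EGA12.ConstrLoci
import Groth.Agent.S3422

set_option autoImplicit false
open CategoryTheory AlgebraicGeometry
universe u
open EGA43

namespace Groth.Agent.S3455

open Groth.Agent

/-- Let f : X ⟶ S be locally of finite presentation. The set of points x of X such that the fibre of f
through x is geometrically normal at x — for every field extension K of the residue field of f x and
every point x' above x in the base-changed fibre, the local ring at x' is an integrally closed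
domain — is locally constructible in X. -/
theorem result {X S : Scheme.{u}} (f : X ⟶ S)
    [LocallyOfFinitePresentation f] :
    Topology.IsLocallyConstructible {x : X |
      ∀ (K : Type u) [Field K] [Algebra (IsLocalRing.ResidueField (S.presheaf.stalk (f.base x))) K]
        (x' : ↥(FBase.bc (f.fiberToSpecResidueField (f.base x)) K)),
        (FBase.bcπ (f.fiberToSpecResidueField (f.base x)) K).base x' = f.asFiber x →
          (IsDomain ((FBase.bc (f.fiberToSpecResidueField (f.base x)) K).presheaf.stalk x') ∧ IsIntegrallyClosed ((FBase.bc (f.fiberToSpecResidueField (f.base x)) K).presheaf.stalk x'))} := by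
  have h : ∀ x, _ ↔ x ∈ (H06EGA12.rkBad f 1)ᶜ ∩ {x : X | LocCoh.HasSk 2 ((f.fiber (f.base x)).presheaf.stalk (f.asFiber x))
        ((f.fiber (f.base x)).presheaf.stalk (f.asFiber x))} := fun x => by
    haveI : LocallyOfFiniteType (Y := Spec (CommRingCat.of (IsLocalRing.ResidueField (S.presheaf.stalk (f.base x)))))
        (f.fiberToSpecResidueField (f x)) :=
      H8Props.FieldDim.locallyOfFiniteType_fiberToSpec f (f x)
    exact (H06EGA12.geomNormal_iff (k := IsLocalRing.ResidueField (S.presheaf.stalk (f.base x)))
      (f.fiberToSpecResidueField (f x)) (f.asFiber x)).trans (and_congr (H06EGA12.geomHasRk_fibre_iff f x 1) Iff.rfl)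
  simp only [h]
  exact (H06EGA12.isLocallyConstructible_compl (H06EGA12.isLocallyConstructible_rkBad f 1)).inter
    (S3422.result f 2)

end Groth.Agent.S3455
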