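import Groth.Statements.S1677
import Groth.Agent.S8660
import Groth.Agent.S8656
import Groth.Agent.S8894
import Groth.Agent.S8905

set_option autoImplicit false
universe u
open CategoryTheory CategoryTheory.Limits AlgebraicGeometry TopologicalSpace
open SDiv

namespace Groth.Agent.S1677

/-- Let X ⟶ S be smooth, Y ⟶ S flat, locally of finite presentation with complete-intersection fibre
local rings (syntomic), and i : Y ⟶ X a closed immersion over S. Then i is a regular closed
immersion. -/
theorem result {X Y S : Scheme.{u}} (p : X ⟶ S) [Smooth p] (i : Y ⟶ X)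
    [IsClosedImmersion i] (hY : CInt.IsCIMorphism (i ≫ p)) : Mor2.IsRegularClosedImmersion i := by
  haveI := hY.1
  haveI := hY.2.1
  have h1 : RegImm.IsRegularImmersion RegImm.Kind.koszul i :=
    Groth.Agent.S8656.result (i ≫ p) ((Groth.Agent.S8660.result (i ≫ p)).2 hY) p i rfl
  have h2 : RegImm.IsRegularImmersion RegImm.Kind.quasi i :=
    (Groth.Agent.S8905.result i).2.2 ((Groth.Agent.S8905.result i).2.1 h1)
  obtain ⟨h3, -⟩ := Groth.Agent.S8894.result p i ⟨h2, hY.1⟩
  refine ⟨inferInstance, fun z => ?_⟩
  obtain ⟨U, hU, -, rs, hrs, hker⟩ := h3.2 z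
  exact ⟨U.1, U.2, hU, rs, hrs, (Scheme.Hom.ker_apply i U).trans hker⟩

end Groth.Agent.S1677
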