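import Groth.Statements.S18161
import Mathlib.AlgebraicGeometry.ZariskisMainTheorem
import Mathlib.AlgebraicGeometry.Morphisms.QuasiFinite
import Mathlib.AlgebraicGeometry.ValuativeCriterion
import Mathlib.RingTheory.Valuation.LocalSubring
import Mathlib.RingTheory.Etale.Field
import Mathlib.RingTheory.Unramified.LocalStructure
import Mathlib.LinearAlgebra.FreeModule.Finite.Matrix
import Mathlib.FieldTheory.IsAlgClosed.AlgebraicClosure

set_option autoImplicit false
universe u
open BSB

namespace Groth.Agent.S18161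

set_option linter.style.haveILetI false
open AlgebraicGeometry CategoryTheory Limits
open scoped TensorProduct

/-- Two maps from a local scheme to an unramified target agree once they agree at the closed point. -/
theorem eq_of_closedPoint {T S Z : Scheme.{u}} (f : T ⟶ S) [Etale f] {R : Type u} [CommRing R]
    [IsLocalRing R] (a b : Spec (.of R) ⟶ T) (w : a ≫ f = b ≫ f) (p : Z ⟶ Spec (.of R)) (z : Z)
    (hz : p z = IsLocalRing.closedPoint R) (h : p ≫ a = p ≫ b) : a = b := by
  let j := pullback.snd (pullback.diagonal f) (pullback.lift a b w)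
  have hl : (p ≫ a) ≫ pullback.diagonal f = p ≫ pullback.lift a b w := by
    refine pullback.hom_ext ?_ ?_
    · simp only [Category.assoc, pullback.diagonal_fst, Category.comp_id, pullback.lift_fst]
    · simp only [Category.assoc, pullback.diagonal_snd, Category.comp_id, pullback.lift_snd]
      exact h
  let l : Z ⟶ pullback (pullback.diagonal f) (pullback.lift a b w) := pullback.lift (p ≫ a) p hl
  have hmem : (IsLocalRing.closedPoint R : Spec (.of R)) ∈ j.opensRange := by
    refine ⟨l z, ?_⟩
    rw [← Scheme.Hom.comp_apply, pullback.lift_snd]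
    exact hz
  haveI : IsIso j := isIso_of_isOpenImmersion_of_opensRange_eq_top j
    (eq_top_iff.mpr fun x _ => (IsLocalRing.specializes_closedPoint x).mem_open j.opensRange.2 hmem)
  have hj : ∀ (c : pullback f f ⟶ T) (_ : pullback.diagonal f ≫ c = 𝟙 T),
      j ≫ pullback.lift a b w ≫ c = pullback.fst _ _ := fun c hc => by
    rw [← pullback.condition_assoc, hc, Category.comp_id]
  have h1 := hj (pullback.fst f f) (pullback.diagonal_fst f)
  have h2 := hj (pullback.snd f f) (pullback.diagonal_snd f)
  rw [pullback.lift_fst] at h1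
  rw [pullback.lift_snd] at h2
  exact (cancel_epi j).mp (h1.trans h2.symm)

theorem lqf {T S : Scheme.{u}} (f : T ⟶ S) [Etale f] : LocallyQuasiFinite f where
  quasiFinite_appLE {U} hU {V} hV e := by
    have h : (f.appLE U V e).hom.Etale :=
      HasRingHomProperty.appLE (P := @Etale) f inferInstance ⟨U, hU⟩ ⟨V, hV⟩ e
    algebraize [(f.appLE U V e).hom]
    exact (inferInstance : Algebra.QuasiFinite Γ(S, U) Γ(T, V))

theorem etale_card (K : Type u) [Field K] (A : Type u) [CommRing A] [Algebra K A] [Algebra.Etale K A]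
    (Ω : Type u) [Field Ω] [Algebra K Ω] [IsAlgClosed Ω] :
    Finite (A →ₐ[K] Ω) ∧ Nat.card (A →ₐ[K] Ω) = Module.finrank K A := by
  haveI : Module.Finite K A := Algebra.FormallyUnramified.finite_of_free K A
  obtain ⟨I, _, Ai, _, _, e, hAi⟩ :=
    (Algebra.Etale.iff_exists_algEquiv_prod (K := Ω) (A := Ω ⊗[K] A)).mp inferInstance
  have e' : (Ω ⊗[K] A) ≃ₐ[Ω] (I → Ω) := e.trans (AlgEquiv.piCongrRight fun i =>
    haveI := (hAi i).1
    (AlgEquiv.ofBijective (Algebra.ofId Ω (Ai i))
      IsAlgClosed.algebraMap_bijective_of_isIntegral).symm)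
  haveI := Fintype.ofFinite I
  haveI : Finite (Ω ⊗[K] A →ₐ[Ω] Ω) := inferInstance
  haveI : Finite (A →ₐ[K] Ω) := Finite.of_equiv _ (AlgHom.liftEquiv K Ω A Ω).symm
  refine ⟨inferInstance, ?_⟩
  rw [Nat.card_congr (AlgHom.liftEquiv K Ω A Ω),
    ← Module.finrank_baseChange (R := Ω) (S := K) (M' := A)]
  refine le_antisymm (card_algHom_le_finrank Ω (Ω ⊗[K] A) Ω) ?_
  rw [e'.toLinearEquiv.finrank_eq, Module.finrank_pi, ← Nat.card_eq_fintype_card]
  refine Nat.card_le_card_of_injective
    (fun i => (Pi.evalAlgHom Ω (fun _ : I => Ω) i).comp e'.toAlgHom) fun i j h => ?_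
  classical
  by_contra hne
  obtain ⟨t, ht⟩ := e'.surjective (Pi.single i 1)
  have := AlgHom.congr_fun h t
  simp [ht, Pi.single_eq_of_ne (Ne.symm hne)] at this

theorem card_lifts {T S : Scheme.{u}} (f : T ⟶ S) [Etale f] [QuasiCompact f] (d : ℕ)
    (hd : ∀ s : S, Module.finrank (S.residueField s) Γ(f.fiber s, ⊤) = d)
    (Ω : Type u) [Field Ω] [IsAlgClosed Ω] (g : Spec (.of Ω) ⟶ S) :
    Finite {l : Spec (.of Ω) ⟶ T // l ≫ f = g} ∧
      Nat.card {l : Spec (.of Ω) ⟶ T // l ≫ f = g} = d := by
  obtain ⟨⟨s, φ⟩, rfl⟩ := (Scheme.SpecToEquivOfField Ω S).symm.surjective g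
  haveI : Etale (f.fiberToSpecResidueField s) :=
    MorphismProperty.pullback_snd _ _ inferInstance
  haveI := lqf f
  haveI : IsAffine (f.fiber s) := isAffine_of_isAffineHom (f.fiberToSpecResidueField s)
  letI : Algebra (S.residueField s) Ω := φ.hom.toAlgebra
  haveI : Algebra.Etale (S.residueField s) Γ(f.fiber s, ⊤) := by
    rw [← RingHom.etale_algebraMap]
    have h := (HasRingHomProperty.iff_of_isAffine (P := @Etale)).mp
      (inferInstance : Etale (f.fiberToSpecResidueField s))
    exact (RingHom.Etale.respectsIso).2 _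
      (Scheme.ΓSpecIso (S.residueField s)).symm.commRingCatIsoToRingEquiv h
  obtain ⟨hfin, hcard⟩ := etale_card (S.residueField s) Γ(f.fiber s, ⊤) Ω
  have hmap : ∀ ψ : Γ(f.fiber s, ⊤) ⟶ .of Ω,
      Spec.map ψ ≫ (f.fiber s).isoSpec.inv ≫ f.fiberToSpecResidueField s =
        Spec.map ((Scheme.ΓSpecIso (S.residueField s)).inv ≫
          (f.fiberToSpecResidueField s).appTop ≫ ψ) := fun ψ => by
    rw [← Scheme.isoSpec_inv_naturality, Scheme.isoSpec_Spec_inv]
    simp only [Spec.map_comp, Category.assoc]
  let mk : {l : Spec (.of Ω) ⟶ T // l ≫ f = Spec.map φ ≫ S.fromSpecResidueField s} →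
      (Spec (.of Ω) ⟶ f.fiber s) := fun l => pullback.lift l.1 (Spec.map φ) l.2
  have mk_snd : ∀ l, mk l ≫ f.fiberToSpecResidueField s = Spec.map φ := fun l => pullback.lift_snd _ _ _
  have mk_fst : ∀ l, mk l ≫ f.fiberι s = l.1 := fun l => pullback.lift_fst _ _ _
  let e : {l : Spec (.of Ω) ⟶ T // l ≫ f = Spec.map φ ≫ S.fromSpecResidueField s} ≃
      (Γ(f.fiber s, ⊤) →ₐ[S.residueField s] Ω) :=
  { toFun := fun l =>
      let ψ := Spec.preimage (mk l ≫ (f.fiber s).isoSpec.hom)
      { toRingHom := ψ.hom
        commutes' := fun r => by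
          have h := hmap ψ
          rw [Spec.map_preimage] at h
          rw [Category.assoc, Iso.hom_inv_id_assoc, mk_snd] at h
          exact (congrArg (fun k => k.hom r) (Spec.map_injective h)).symm }
    invFun := fun χ =>
      ⟨Spec.map (CommRingCat.ofHom χ.toRingHom) ≫ (f.fiber s).isoSpec.inv ≫ f.fiberι s, by
        rw [Category.assoc, Category.assoc, Scheme.Hom.fiber_fac, reassoc_of% hmap]
        refine congrArg (fun k => Spec.map k ≫ S.fromSpecResidueField s) ?_
        ext r
        exact χ.commutes r⟩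
    left_inv := fun l => Subtype.ext (by
      show Spec.map (Spec.preimage _) ≫ _ = l.1
      rw [Spec.map_preimage, Category.assoc, Iso.hom_inv_id_assoc, mk_fst])
    right_inv := fun χ => by
      refine AlgHom.ext fun x => ?_
      show (Spec.preimage _).hom x = (CommRingCat.ofHom χ.toRingHom).hom x
      refine congrArg (fun k => k.hom x) (Spec.map_injective (?_ :
        Spec.map (Spec.preimage _) = Spec.map (CommRingCat.ofHom χ.toRingHom)))
      rw [Spec.map_preimage, ← Iso.eq_comp_inv]
      refine pullback.hom_ext ?_ ?_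
      · exact (pullback.lift_fst _ _ _).trans (Category.assoc _ _ _).symm
      · refine (pullback.lift_snd _ _ _).trans (Eq.symm ?_)
        refine (Category.assoc _ _ _).trans ?_
        refine (hmap _).trans (congrArg Spec.map ?_)
        ext r
        exact χ.commutes r }
  exact ⟨Finite.of_equiv _ e.symm, (Nat.card_congr e).trans (hcard.trans (hd s))⟩

/-- Lifts over a valuation ring with algebraically closed fraction field are determined generically. -/
theorem lifts_injective {T S : Scheme.{u}} (f : T ⟶ S) [Etale f] [QuasiCompact f] [UniversallyClosed f]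
    (d : ℕ) (hd : ∀ s : S, Module.finrank (S.residueField s) Γ(f.fiber s, ⊤) = d)
    {L : Type u} [Field L] [IsAlgClosed L] (V : ValuationSubring L) (a b : Spec (.of V) ⟶ T)
    (w : a ≫ f = b ≫ f)
    (h : Spec.map (CommRingCat.ofHom (algebraMap V L)) ≫ a =
      Spec.map (CommRingCat.ofHom (algebraMap V L)) ≫ b) : a = b := by
  let k := IsLocalRing.ResidueField V
  let Ω := AlgebraicClosure k
  let p : Spec (.of Ω) ⟶ Spec (.of V) :=
    Spec.map (CommRingCat.ofHom ((algebraMap k Ω).comp (IsLocalRing.residue V)))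
  let q : Spec (.of L) ⟶ Spec (.of V) := Spec.map (CommRingCat.ofHom (algebraMap V L))
  let g := a ≫ f
  obtain ⟨hf0, hc0⟩ := card_lifts f d hd Ω (p ≫ g)
  obtain ⟨hf1, hc1⟩ := card_lifts f d hd L (q ≫ g)
  let r0 : {l : Spec (.of V) ⟶ T // l ≫ f = g} → {l : Spec (.of Ω) ⟶ T // l ≫ f = p ≫ g} :=
    fun l => ⟨p ≫ l.1, by rw [Category.assoc, l.2]⟩
  let r1 : {l : Spec (.of V) ⟶ T // l ≫ f = g} → {l : Spec (.of L) ⟶ T // l ≫ f = q ≫ g} :=
    fun l => ⟨q ≫ l.1, by rw [Category.assoc, l.2]⟩
  have hr0 : Function.Injective r0 := fun l m hlm => Subtype.ext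
    (eq_of_closedPoint f l.1 m.1 (l.2.trans m.2.symm) p default (by
      apply PrimeSpectrum.ext
      refine ((IsLocalRing.maximalIdeal.isMaximal V).eq_of_le (Ideal.IsPrime.ne_top inferInstance)
        fun x hx => ?_).symm
      show algebraMap k Ω (IsLocalRing.residue V x) ∈ (default : Spec (CommRingCat.of Ω)).asIdeal
      rw [(IsLocalRing.residue_eq_zero_iff x).mpr hx, map_zero]
      exact zero_mem _)
      (congrArg Subtype.val hlm))
  haveI := Finite.of_injective r0 hr0
  have hr1 : Function.Surjective r1 := by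
    have hE : ValuativeCriterion.Existence f := by
      have : UniversallyClosed f := inferInstance
      rw [UniversallyClosed.eq_valuativeCriterion] at this
      exact this.1
    intro l
    obtain ⟨⟨m, h1, h2⟩⟩ :=
      (hE { R := V, K := L, i₁ := l.1, i₂ := g, commSq := ⟨l.2⟩ }).exists_lift
    exact ⟨⟨m, h2⟩, Subtype.ext h1⟩
  have hle : Nat.card {l : Spec (.of V) ⟶ T // l ≫ f = g} ≤
      Nat.card {l : Spec (.of L) ⟶ T // l ≫ f = q ≫ g} := by
    rw [hc1, ← hc0]
    exact Nat.card_le_card_of_injective r0 hr0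
  exact congrArg Subtype.val
    ((hr1.bijective_of_nat_card_le hle).1 (a₁ := ⟨a, rfl⟩) (a₂ := ⟨b, w.symm⟩) (Subtype.ext h))

open AlgebraicGeometry CategoryTheory in
/-- Let f : T ⟶ S be an étale, quasi-compact, quasi-separated and universally closed morphism of
schemes, and suppose that for some natural number d the global functions of every scheme-theoretic
fibre of f form a d-dimensional vector space over the residue field of the corresponding point of S.
Then f is finite. (Separatedness of f is not assumed.) -/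
theorem result {T S : Scheme.{u}} (f : T ⟶ S)
    [Etale f] [QuasiCompact f] [QuasiSeparated f] [UniversallyClosed f] (d : ℕ)
    (hd : ∀ s : S, Module.finrank (S.residueField s) Γ(f.fiber s, ⊤) = d) :
    IsFinite f := by
  haveI := lqf f
  suffices IsSeparated f by
    haveI : IsProper f := ⟨⟩
    exact IsFinite.of_isProper_of_locallyQuasiFinite f
  refine IsSeparated.of_valuativeCriterion f fun sq => ⟨?_⟩
  rintro ⟨a, ha₁, ha₂⟩ ⟨b, hb₁, hb₂⟩
  let L := AlgebraicClosure sq.K
  let ι : sq.R →+* L := (algebraMap sq.K L).comp (algebraMap sq.R sq.K)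
  obtain ⟨V, hV⟩ := LocalSubring.exists_le_valuationSubring (LocalSubring.range ι)
  obtain ⟨hle, hloc⟩ := hV
  let j : sq.R →+* V := (Subring.inclusion hle).comp ι.rangeRestrict
  haveI : IsLocalHom j :=
    haveI : IsLocalHom ι.rangeRestrict := Function.Surjective.isLocalHom _ ι.rangeRestrict_surjective
    @RingHom.isLocalHom_comp _ _ _ _ _ _ _ _ hloc this
  let π : Spec (.of V) ⟶ Spec (.of sq.R) := Spec.map (CommRingCat.ofHom j)
  have hπ : Spec.map (CommRingCat.ofHom (algebraMap V L)) ≫ π =
      Spec.map (CommRingCat.ofHom (algebraMap sq.K L)) ≫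
        Spec.map (CommRingCat.ofHom (algebraMap sq.R sq.K)) := by
    simp only [π, ← Spec.map_comp]
    rfl
  have hab : π ≫ a = π ≫ b :=
    lifts_injective f d hd V _ _ (by rw [Category.assoc, Category.assoc, ha₂, hb₂])
      (by rw [reassoc_of% hπ, reassoc_of% hπ, ha₁, hb₁])
  have : a = b :=
    eq_of_closedPoint f a b (ha₂.trans hb₂.symm) π (IsLocalRing.closedPoint V)
      (IsLocalRing.comap_closedPoint j) hab
  subst this
  rfl

end Groth.Agent.S18161
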