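import Groth.Statements.S2137
import Groth.Agent.H4DR.TorAmp.Derived
import Groth.Agent.H4DR.TorAmp.NilpotentPC
import Groth.Agent.H4DR.PCoh.Modules

set_option autoImplicit false
universe u
open CategoryTheory
attribute [local instance] HasDerivedCategory.standard
open CAlg

namespace Groth.Agent.S2137

/-- Let `A → B` be a ring map and `K` an `m`-pseudo-coherent object of `D(A)`. Then `K ⊗^L_A B` is
`m`-pseudo-coherent in `D(B)`. (Stated assuming the total left derived functor of base change exists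
on `D(A)`, a fact not available as a library result here.) -/
theorem result {A B : Type u} [CommRing A] [CommRing B] (φ : A →+* B) [DRing.HasLBaseChange φ]
    (K : Dual.D A) (m : ℤ) (hK : DRing.IsPseudoCoherent A m K) :
    DRing.IsPseudoCoherent B m ((DRing.LBaseChange φ).obj K) := by
  obtain ⟨E, α, hE, hα⟩ := Groth.Agent.H4DR.PCoh.pc_iff.1 hK
  obtain ⟨b, hmb, hv⟩ := Groth.Agent.H4DR.PCoh.exists_bound hK
  obtain ⟨P, hP, ⟨e⟩⟩ := Groth.Agent.H4DR.TorAmp.exists_projRep hv
  obtain ⟨a, c, hz, hF⟩ := hE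
  have hEp : Groth.Agent.H4DR.TorAmp.IsProjRep E c :=
    ⟨fun i hi => hz i (Or.inr hi), fun i => haveI := (hF i).2; inferInstance⟩
  haveI := hEp.isKProjective
  obtain ⟨f, hf⟩ := Groth.Agent.H16Derived.ProjLift.Q_map_surjective _ P (α ≫ e.inv)
  let T := DerivedCategory.Q.mapTriangle.obj (CochainComplex.mappingCone.triangle f)
  have hT : T ∈ Pretriangulated.distinguishedTriangles :=
    (DerivedCategory.mem_distTriang_iff _).2 ⟨_, _, f, ⟨Iso.refl _⟩⟩
  have hgood : Groth.Agent.H4DR.PCoh.Good m T.mor₁ := by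
    have h1 : T.mor₁ = α ≫ e.inv := hf
    rw [h1]
    exact hα.comp (Groth.Agent.H4DR.PCoh.Good.of_iso m e.inv)
  have hCv : ∀ i, m - 1 < i → Subsingleton (Dual.HD A T.obj₃ i) := fun i hi =>
    (Groth.Agent.H4DR.PCoh.good_iff_cone m T hT).1 hgood i (by omega)
  obtain ⟨Q, hQ, ⟨e'⟩⟩ := Groth.Agent.H4DR.TorAmp.exists_projRep hCv
  have hcone := Groth.Agent.H4DR.TorAmp.cone_isProjRep hEp hP f
  let F := (ModuleCat.extendScalars.{u, u, u} φ).mapHomologicalComplex (ComplexShape.up ℤ)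
  let T' := DerivedCategory.Q.mapTriangle.obj (CochainComplex.mappingCone.triangle (F.map f))
  have hT' : T' ∈ Pretriangulated.distinguishedTriangles :=
    (DerivedCategory.mem_distTriang_iff _).2 ⟨_, _, F.map f, ⟨Iso.refl _⟩⟩
  let eK : DRing.toD (F.obj P) ≅ (DRing.LBaseChange φ).obj K :=
    (Groth.Agent.H4DR.TorAmp.lbaseObj φ P
      (Groth.Agent.H4DR.TorAmp.isKFlat_of_flat hP.above hP.flat)).symm ≪≫
      (DRing.LBaseChange φ).mapIso e
  let eC : DRing.toD (F.obj Q) ≅ T'.obj₃ :=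
    (Groth.Agent.H4DR.TorAmp.lbaseObj φ Q
      (Groth.Agent.H4DR.TorAmp.isKFlat_of_flat hQ.above hQ.flat)).symm ≪≫
      (DRing.LBaseChange φ).mapIso e' ≪≫
      Groth.Agent.H4DR.TorAmp.lbaseObj φ _
        (Groth.Agent.H4DR.TorAmp.isKFlat_of_flat hcone.above hcone.flat) ≪≫
      DerivedCategory.Q.mapIso (CochainComplex.mappingCone.mapHomologicalComplexIso f
          (ModuleCat.extendScalars.{u, u, u} φ))
  refine Groth.Agent.H4DR.PCoh.pc_of_iso eK (Groth.Agent.H4DR.PCoh.pc_obj₂ T' hT' ?_ ?_)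
  · refine Groth.Agent.H4DR.PCoh.pc_toD_of_isFFCx ⟨a, c, fun i hi =>
      (ModuleCat.extendScalars.{u, u, u} φ).map_isZero (hz i hi), fun i => ?_⟩ _
    letI := φ.toAlgebra
    haveI := (hF i).1
    haveI := (hF i).2
    exact ⟨inferInstanceAs (Module.Finite B (TensorProduct A B (E.X i))),
      inferInstanceAs (Module.Free B (TensorProduct A B (E.X i)))⟩
  · refine Groth.Agent.H4DR.PCoh.pc_of_iso eC (Groth.Agent.H4DR.PCoh.pc_of_vanish fun i hi => ?_)
    exact (Groth.Agent.H4DR.TorAmp.subsingleton_HD_toD_iff _ i).2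
      ((HomologicalComplex.exactAt_iff _ _).2 (ShortComplex.exact_of_isZero_X₂ _
        ((ModuleCat.extendScalars.{u, u, u} φ).map_isZero (hQ.above i (by omega)))))

end Groth.Agent.S2137
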