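import Groth.Statements.S0114
import Groth.Agent.H13Flat.SmoothDescent

set_option autoImplicit false
open CategoryTheory CategoryTheory.Limits AlgebraicGeometry Opposite
universe u
open EtBase

namespace Groth.Agent.S0114

/-- Local finite presentation descends along an fppf cover of the source: if f is surjective, flat and
locally of finite presentation and f ≫ q is locally of finite presentation, then so is q. -/
theorem result {X Y S : Scheme.{u}} (f : X ⟶ Y) (q : Y ⟶ S) [Surjective f] [Flat f]
    [LocallyOfFinitePresentation f] [LocallyOfFinitePresentation (f ≫ q)] :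
    LocallyOfFinitePresentation q := by
  exact Groth.Agent.H13Flat.of_fppf_covering_simple @LocallyOfFinitePresentation
    (Q := RingHom.FinitePresentation)
    (fun {A B C} _ _ _ _ _ _ _ _ _ h => by
      beta_reduce at h ⊢
      rw [RingHom.finitePresentation_algebraMap] at h ⊢
      exact Groth.Agent.H13Flat.finitePresentation_of_faithfullyFlat (B := C)) q fun y => by
    obtain ⟨x, hx⟩ := f.surjective y
    exact ⟨X, f, ‹_›, ‹_›, ⟨x, hx⟩, ‹_›⟩

end Groth.Agent.S0114
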