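import Groth.Statements.S2164
import Groth.Agent.H11Tor.Avramov

set_option autoImplicit false
set_option linter.unusedSectionVars false
set_option linter.style.haveILetI false
universe u
open LCI

namespace Groth.Agent.S2164

section aux

open IsLocalRing

variable {A B : Type u} [CommRing A] [CommRing B] [IsNoetherianRing A] [IsNoetherianRing B] [IsLocalRing A]
  [IsLocalRing B] [Algebra A B] [IsLocalHom (algebraMap A B)]

/-- The closed fibre of the completed map is the completion of the closed fibre. -/
theorem fibre_iff [IsLocalRing (B ⧸ (maximalIdeal A).map (algebraMap A B))]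
    (ψ : AdicCompletion (maximalIdeal A) A →+* AdicCompletion (maximalIdeal B) B)
    (hψ : ψ.comp (algebraMap A (AdicCompletion (maximalIdeal A) A)) =
      (algebraMap B (AdicCompletion (maximalIdeal B) B)).comp (algebraMap A B)) :
    ∃ _ : IsLocalRing (AdicCompletion (maximalIdeal B) B ⧸ (maximalIdeal (AdicCompletion (maximalIdeal A) A)).map ψ),
      Pi1.IsCompleteIntersection (B ⧸ (maximalIdeal A).map (algebraMap A B)) ↔
        Pi1.IsCompleteIntersection
          (AdicCompletion (maximalIdeal B) B ⧸ (maximalIdeal (AdicCompletion (maximalIdeal A) A)).map ψ) := by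
  haveI := H05EGA4.isNoetherianRing_adicCompletion B (maximalIdeal B)
  let Bh := AdicCompletion (maximalIdeal B) B
  let mB := (maximalIdeal A).map (algebraMap A B)
  have hmA : (maximalIdeal (AdicCompletion (maximalIdeal A) A)).map ψ = mB.map (algebraMap B Bh) := by
    rw [AdicCompletion.maximalIdeal_eq_map, Ideal.map_map, hψ, ← Ideal.map_map]
  rw [hmA]
  haveI : Nontrivial (Bh ⧸ mB.map (algebraMap B Bh)) := Ideal.Quotient.nontrivial_iff.mpr
    (ne_top_of_le_ne_top (maximalIdeal.isMaximal Bh).ne_top
      ((Ideal.map_mono (map_maximalIdeal_le (algebraMap A B))).trans (map_maximalIdeal_le _)))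
  haveI : IsLocalRing (Bh ⧸ mB.map (algebraMap B Bh)) := .of_surjective' _ Ideal.Quotient.mk_surjective
  haveI : IsLocalHom (Ideal.Quotient.mk (mB.map (algebraMap B Bh))) := .of_surjective _ Ideal.Quotient.mk_surjective
  let φ : B ⧸ mB →+* Bh ⧸ mB.map (algebraMap B Bh) :=
    Ideal.quotientMap _ (algebraMap B Bh) Ideal.le_comap_map
  haveI : IsLocalHom (algebraMap B Bh) :=
    ((local_hom_TFAE (algebraMap B Bh)).out 0 2).mpr (by rw [AdicCompletion.maximalIdeal_eq_map])
  haveI : IsLocalHom φ := ⟨fun z hz => by
    obtain ⟨b, rfl⟩ := Ideal.Quotient.mk_surjective z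
    rw [show φ (Ideal.Quotient.mk mB b) = Ideal.Quotient.mk _ (algebraMap B Bh b) from rfl] at hz
    exact (isUnit_of_map_unit (algebraMap B Bh) b (isUnit_of_map_unit (Ideal.Quotient.mk _) _ hz)).map _⟩
  refine ⟨inferInstance, H13CI.isCI_iff_of_completion_iso φ (H13CI.flat_quotient_map mB) ?_ ?_⟩
  · rw [← map_maximalIdeal_of_surjective _ (Ideal.Quotient.mk_surjective (I := mB)),
      ← map_maximalIdeal_of_surjective _ (Ideal.Quotient.mk_surjective (I := mB.map (algebraMap B Bh))),
      AdicCompletion.maximalIdeal_eq_map]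
    refine le_of_eq ((Ideal.map_map _ _).trans (Eq.trans ?_ (Ideal.map_map (Ideal.Quotient.mk mB) φ).symm))
    rfl
  · intro y
    obtain ⟨y, rfl⟩ := residue_surjective y
    obtain ⟨z, rfl⟩ := Ideal.Quotient.mk_surjective y
    obtain ⟨r, hr⟩ := (AdicCompletion.residueField_map_bijective B).2 (residue Bh z)
    obtain ⟨b, rfl⟩ := residue_surjective r
    refine ⟨residue _ (Ideal.Quotient.mk mB b), ?_⟩
    rw [ResidueField.map_residue] at hr ⊢
    exact congrArg (ResidueField.map (Ideal.Quotient.mk (mB.map (algebraMap B Bh)))) hr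

end aux

/-- For a flat local map A -> B between Noetherian local rings, B is a complete intersection (completion
isomorphic to a regular local ring modulo a regular sequence) exactly when A and the closed fibre
B/m_A B both are. The instance binder asking the fibre ring to be local is automatic. -/
theorem result {A B : Type u} [CommRing A] [CommRing B] [IsNoetherianRing A]
    [IsNoetherianRing B] [IsLocalRing A] [IsLocalRing B] [Algebra A B]
    [IsLocalHom (algebraMap A B)] [Module.Flat A B]
    [IsLocalRing (B ⧸ Ideal.map (algebraMap A B) (IsLocalRing.maximalIdeal A))] :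
    Pi1.IsCompleteIntersection B ↔
      (Pi1.IsCompleteIntersection A ∧
        Pi1.IsCompleteIntersection (B ⧸ Ideal.map (algebraMap A B) (IsLocalRing.maximalIdeal A))) := by
  classical
  obtain ⟨ψ, hψ⟩ := H13CI.exists_completion_map (algebraMap A B)
  haveI := H02CA.isLocalHom_completion (algebraMap A B) ψ hψ
  haveI := H05EGA4.isNoetherianRing_adicCompletion A (IsLocalRing.maximalIdeal A)
  haveI := H05EGA4.isNoetherianRing_adicCompletion B (IsLocalRing.maximalIdeal B)
  have hψflat : ψ.Flat := (H02CA.flat_completion_iff (algebraMap A B) ψ hψ).mpr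
    (RingHom.flat_algebraMap_iff.mpr inferInstance)
  letI : Algebra (AdicCompletion (IsLocalRing.maximalIdeal A) A) (AdicCompletion (IsLocalRing.maximalIdeal B) B) :=
    ψ.toAlgebra
  haveI : IsLocalHom (algebraMap (AdicCompletion (IsLocalRing.maximalIdeal A) A)
      (AdicCompletion (IsLocalRing.maximalIdeal B) B)) := ‹IsLocalHom ψ›
  haveI : Module.Flat (AdicCompletion (IsLocalRing.maximalIdeal A) A)
      (AdicCompletion (IsLocalRing.maximalIdeal B) B) := hψflat
  obtain ⟨hloc, hF⟩ := fibre_iff ψ hψ
  haveI := hloc
  rw [H13CI.isCI_completion_iff B, H13CI.isCI_completion_iff A, hF]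
  exact H11Tor.avramov_complete

end Groth.Agent.S2164
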