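-- statement Lim.GrothFrozen.S7395 (Groth/Statements/S7395.lean; the theorem Lim.exists_isClosedImmersion_into_separated_finitePresentation);
import Groth.Statements.S7395
import Groth.Agent.H7Lim.Approx.Consequences

set_option autoImplicit false
universe u
open CategoryTheory AlgebraicGeometry
open Lim

namespace Groth.Agent.S7395
set_option backward.isDefEq.respectTransparency false

/-- Let `f : X → S` be separated and of finite type with `S` quasi-compact and quasi-separated. Then
there are a separated morphism `f' : X' → S` of finite presentation and a closed immersion `X → X'`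
over `S`. -/
theorem result {X S : Scheme.{u}} (f : X ⟶ S) [IsSeparated f]
    [LocallyOfFiniteType f] [QuasiCompact f] [CompactSpace S] [QuasiSeparatedSpace S] :
    ∃ (X' : Scheme.{u}) (f' : X' ⟶ S) (j : X ⟶ X'), IsSeparated f' ∧ LocallyOfFinitePresentation f' ∧
      QuasiCompact f' ∧ IsClosedImmersion j ∧ j ≫ f' = f := by
  haveI : CompactSpace X := QuasiCompact.compactSpace_of_compactSpace f
  haveI : QuasiSeparatedSpace X := quasiSeparatedSpace_of_quasiSeparated f
  obtain ⟨X', f', j, h1, h2, -, -, -, h4, h5, h6⟩ := Groth.Agent.H7Lim.Approx.exists_isClosedImmersion_fp f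
  exact ⟨X', f', j, h6 ‹_› ‹_›, h1, h2, h4, h5⟩

end Groth.Agent.S7395
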