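import Groth.Statements.S17596
import Groth.Agent.H9Hens.Hfp
import Mathlib.RingTheory.ZariskisMainTheorem
-- import your own Groth.Agent.* helpers here

set_option autoImplicit false
universe u
open Hensel

namespace Groth.Agent.S17596

set_option linter.style.haveILetI false

theorem quasiFiniteAt_of_finite {A R : Type u} [CommRing A] [CommRing R] [Algebra A R]
    [Algebra.FiniteType A R] {J : Ideal A} [Module.Finite A (R ⧸ J.map (algebraMap A R))] (q : Ideal R)
    [q.IsPrime] (hq : J.map (algebraMap A R) ≤ q) : Algebra.QuasiFiniteAt A q := by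
  let K := J.map (algebraMap A R)
  let x : PrimeSpectrum R := ⟨q, inferInstance⟩
  refine Algebra.QuasiFiniteAt.of_isOpen_singleton_fiber x ?_
  let p := x.comap (algebraMap A R)
  let F : Set (PrimeSpectrum R) := PrimeSpectrum.comap (algebraMap A R) ⁻¹' {p}
  have hK : ∀ y : F, K ≤ y.1.asIdeal := fun y => Ideal.map_le_iff_le_comap.mpr (by
    have h1 : y.1.asIdeal.comap (algebraMap A R) = q.comap (algebraMap A R) :=
      congrArg PrimeSpectrum.asIdeal y.2
    rw [h1]
    exact Ideal.map_le_iff_le_comap.mp hq)
  have hpr : ∀ y : F, (y.1.asIdeal.map (Ideal.Quotient.mk K)).IsPrime := fun y =>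
    Ideal.map_isPrime_of_surjective Ideal.Quotient.mk_surjective (by simpa [Ideal.mk_ker] using hK y)
  have hcm : ∀ y : F, (y.1.asIdeal.map (Ideal.Quotient.mk K)).comap (Ideal.Quotient.mk K) = y.1.asIdeal :=
    fun y => Ideal.comap_map_mk (hK y)
  have hunder : ∀ y : F, (y.1.asIdeal.map (Ideal.Quotient.mk K)).under A = p.asIdeal := fun y => by
    rw [Ideal.under_def, IsScalarTower.algebraMap_eq A R (R ⧸ K), ← Ideal.comap_comap,
      Ideal.Quotient.algebraMap_eq, hcm]
    exact congrArg PrimeSpectrum.asIdeal y.2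
  haveI : Finite F := by
    haveI := (Algebra.QuasiFinite.finite_primesOver (R := A) (S := R ⧸ K) p.asIdeal).to_subtype
    refine Finite.of_injective (fun y : F => (⟨y.1.asIdeal.map (Ideal.Quotient.mk K), hpr y, ⟨(hunder y).symm⟩⟩ :
      p.asIdeal.primesOver (R ⧸ K))) fun y z h => ?_
    have := congrArg (Ideal.comap (Ideal.Quotient.mk K)) (congrArg Subtype.val h)
    rw [hcm, hcm] at this
    exact Subtype.ext (PrimeSpectrum.ext this)
  have hclosed : ∀ y : F, IsClosed ({y} : Set F) := fun y => by
    refine isClosed_induced_iff.mpr ⟨PrimeSpectrum.zeroLocus y.1.asIdeal, PrimeSpectrum.isClosed_zeroLocus _, ?_⟩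
    ext z
    refine ⟨fun hz => ?_, fun hz => by rw [Set.mem_singleton_iff.mp hz]; exact fun a ha => ha⟩
    haveI := hpr y
    haveI := hpr z
    have h1 := Algebra.QuasiFinite.eq_of_le_of_under_eq (R := A) (y.1.asIdeal.map (Ideal.Quotient.mk K))
      (z.1.asIdeal.map (Ideal.Quotient.mk K)) (Ideal.map_mono hz) ((hunder y).trans (hunder z).symm)
    have := congrArg (Ideal.comap (Ideal.Quotient.mk K)) h1
    rw [hcm, hcm] at this
    exact Subtype.ext (PrimeSpectrum.ext this.symm)
  haveI : T1Space F := ⟨hclosed⟩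
  exact isOpen_discrete _

/-- Let (A, I) be a Henselian pair and let B be a Henselization of the pair (R, IR) for a finitely
presented A-algebra R (that is, A → B is a Henselian finitely presented map of Henselian pairs). If
the induced map A/I → B/IB is module-finite, then B is module-finite and finitely presented over A. -/
theorem result (A : Type u) [CommRing A] (I : Ideal A)
    [HenselianRing A I] (R : Type u) [CommRing R] [Algebra A R] [Algebra.FinitePresentation A R]
    (B : Type u) [CommRing B] [Algebra R B] [Algebra A B] [IsScalarTower A R B]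
    (hB : Hens2.IsPairHenselization R (I.map (algebraMap A R)) B)
    (hfin : (Ideal.quotientMap (I.map (algebraMap A B)) (algebraMap A B) Ideal.le_comap_map).Finite) :
    Module.Finite A B ∧ Algebra.FinitePresentation A B := by
  classical
  let qB := Ideal.quotientMap (I.map (algebraMap A B)) (algebraMap A B) Ideal.le_comap_map
  haveI hfinB : Module.Finite A (B ⧸ I.map (algebraMap A B)) := by
    rw [← RingHom.finite_algebraMap,
      show algebraMap A (B ⧸ I.map (algebraMap A B)) = qB.comp (Ideal.Quotient.mk I) from RingHom.ext fun a => rfl]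
    exact hfin.comp (RingHom.Finite.of_surjective _ Ideal.Quotient.mk_surjective)
  have hbij := H9Hens.pairHenselization_quotient_pow_bijective hB 1
  rw [pow_one] at hbij
  haveI hfinR : Module.Finite A (R ⧸ I.map (algebraMap A R)) := by
    let g : R →ₐ[A] B ⧸ I.map (algebraMap A B) :=
      (Ideal.Quotient.mkₐ A _).comp (IsScalarTower.toAlgHom A R B)
    have hle : ∀ x ∈ I.map (algebraMap A R), g x = 0 := fun x hx => by
      show Ideal.Quotient.mk _ (algebraMap R B x) = 0
      rw [Ideal.Quotient.eq_zero_iff_mem, ← H9Hens.map_map_tower (I := I) R B]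
      exact Ideal.mem_map_of_mem _ hx
    have key : Function.Bijective (Ideal.Quotient.liftₐ (I.map (algebraMap A R)) g hle) := by
      have e := H9Hens.map_map_tower (I := I) R B
      refine ⟨(injective_iff_map_eq_zero _).mpr fun y hy => hbij.1 ?_, fun y => ?_⟩
      · obtain ⟨y, rfl⟩ := Ideal.Quotient.mk_surjective y
        rw [map_zero, Ideal.quotientMap_mk, Ideal.Quotient.eq_zero_iff_mem, e]
        exact Ideal.Quotient.eq_zero_iff_mem.mp hy
      · obtain ⟨y, rfl⟩ := Ideal.Quotient.mk_surjective y
        obtain ⟨r, hr⟩ := hbij.2 (Ideal.Quotient.mk _ y)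
        obtain ⟨r, rfl⟩ := Ideal.Quotient.mk_surjective r
        rw [Ideal.quotientMap_mk, Ideal.Quotient.eq, e] at hr
        exact ⟨Ideal.Quotient.mk _ r, Ideal.Quotient.eq.mpr hr⟩
    exact Module.Finite.equiv (AlgEquiv.ofBijective _ key).symm.toLinearEquiv
  have hsup : I.map (algebraMap A R) ⊔ Ideal.span {1 - 1} = I.map (algebraMap A R) := by
    rw [sub_self, Ideal.span_singleton_zero, sup_bot_eq]
  obtain ⟨e, he, he1, hfe⟩ := H9Hens.exists_finitePart (A := A) (I := I) (S := R) 1
    (by rw [mul_one, sub_self]; exact zero_mem _) (by rw [hsup]; exact hfinR)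
    (fun q _ hq => quasiFiniteAt_of_finite q (hsup.ge.trans hq))
  have hJ : (Ideal.span {1 - e}).map (algebraMap R B) = ⊥ := by
    have h1 : algebraMap R B (1 - e) = 0 := by
      have hid : IsIdempotentElem (algebraMap R B (1 - e)) := he.one_sub.map _
      have hmem : algebraMap R B (1 - e) ∈ Ideal.jacobson ⊥ := hB.1.jac (Ideal.mem_map_of_mem _ (by
        rw [← neg_sub]; exact neg_mem he1))
      exact H9Hens.idem_eq_of_sub_mem le_rfl hid IsIdempotentElem.zero (by simpa using hmem)
    rw [Ideal.map_span, Set.image_singleton, h1, Ideal.span_singleton_zero]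
  let χ : (R ⧸ Ideal.span {1 - e}) →ₐ[A] B :=
    Ideal.Quotient.liftₐ _ (IsScalarTower.toAlgHom A R B) fun x hx => by
      show algebraMap R B x = 0
      rw [← Ideal.mem_bot, ← hJ]
      exact Ideal.mem_map_of_mem _ hx
  letI : Algebra (R ⧸ Ideal.span {1 - e}) B := χ.toRingHom.toAlgebra
  haveI : IsScalarTower A (R ⧸ Ideal.span {1 - e}) B := IsScalarTower.of_algebraMap_eq fun a => (χ.commutes a).symm
  have hB' : Hens2.IsPairHenselization (R ⧸ Ideal.span {1 - e})
      (I.map (algebraMap A (R ⧸ Ideal.span {1 - e}))) B :=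
    H9Hens.relHens_quotient hB (Ideal.Quotient.mkₐ A _) Ideal.Quotient.mk_surjective (AlgHom.id A B)
      Function.surjective_id (fun r => rfl) fun x hx => by
        rw [show x = 0 from hx]; exact zero_mem _
  haveI : Algebra.IsIntegral A (R ⧸ Ideal.span {1 - e}) := Algebra.IsIntegral.of_finite A _
  obtain ⟨ε, -⟩ := H9Hens.relHens_equiv (H9Hens.relHens_self (I := I) (R ⧸ Ideal.span {1 - e})) hB'
  haveI : Algebra.FinitePresentation A (R ⧸ Ideal.span {1 - e}) :=
    Algebra.FinitePresentation.quotient (Submodule.fg_span_singleton _)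
  exact ⟨Module.Finite.equiv ε.toLinearEquiv, Algebra.FinitePresentation.equiv ε⟩

end Groth.Agent.S17596
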