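import Groth.Statements.S17597
import Groth.Agent.S17596
-- import your own Groth.Agent.* helpers here

set_option autoImplicit false
universe u
open Hensel

namespace Groth.Agent.S17597

/-- Let (A, I) be a Henselian pair and let B be a Henselization of the pair (R, IR) for a finitely
presented A-algebra R (so A → B is Henselian finitely presented). If the induced map A/I → B/IB is
surjective, then A → B is surjective. -/
theorem result (A : Type u) [CommRing A] (I : Ideal A)
    [HenselianRing A I] (R : Type u) [CommRing R] [Algebra A R] [Algebra.FinitePresentation A R]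
    (B : Type u) [CommRing B] [Algebra R B] [Algebra A B] [IsScalarTower A R B]
    (hB : Hens2.IsPairHenselization R (I.map (algebraMap A R)) B)
    (hsurj : Function.Surjective
      (Ideal.quotientMap (I.map (algebraMap A B)) (algebraMap A B) Ideal.le_comap_map)) :
    Function.Surjective (algebraMap A B) := by
  have hfin : (Ideal.quotientMap (I.map (algebraMap A B)) (algebraMap A B) Ideal.le_comap_map).Finite :=
    RingHom.Finite.of_surjective _ hsurj
  obtain ⟨hfinB, -⟩ := S17596.result A I R B hB hfin
  haveI := hfinB
  have htop : (⊤ : Submodule A B) ≤ LinearMap.range (Algebra.linearMap A B) ⊔ I • (⊤ : Submodule A B) := by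
    intro b _
    obtain ⟨a, ha⟩ := hsurj (Ideal.Quotient.mk _ b)
    obtain ⟨a, rfl⟩ := Ideal.Quotient.mk_surjective a
    rw [Ideal.quotientMap_mk, Ideal.Quotient.eq] at ha
    rw [← add_sub_cancel (algebraMap A B a) b]
    refine Submodule.add_mem_sup ⟨a, rfl⟩ ?_
    rw [Ideal.smul_top_eq_map, Submodule.restrictScalars_mem, ← neg_sub]
    exact neg_mem ha
  have h := Submodule.le_of_le_smul_of_le_jacobson_bot (R := A) Module.Finite.fg_top (HenselianRing.jac (I := I)) htop
  exact fun b => h (Submodule.mem_top : b ∈ ⊤)

end Groth.Agent.S17597
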