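import Groth.Statements.S17609
import Groth.Agent.H9Hens.Hfp
-- import your own Groth.Agent.* helpers here

set_option autoImplicit false
universe u
open Hensel

namespace Groth.Agent.S17609

set_option linter.style.haveILetI false

open TensorProduct

/-- Let (A, I) be a Henselian pair and let B, C be Henselizations of the pairs (R, IR), (S, IS) for
finitely presented A-algebras R and S, with their induced A-algebra structures (so A → B and A → C
are Henselian finitely presented). Then every A-algebra map B → C (encoded as a B-algebra structure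
on C compatible with that of A) is Henselian finitely presented: there are a finitely presented
B-algebra T and a T-algebra structure on C compatible with that of B for which C is a Henselization
of the pair (T, IBT). -/
theorem result (A : Type u) [CommRing A] (I : Ideal A) [HenselianRing A I]
    (R : Type u) [CommRing R] [Algebra A R] [Algebra.FinitePresentation A R]
    (B : Type u) [CommRing B] [Algebra R B] [Algebra A B] [IsScalarTower A R B]
    (hB : Hens2.IsPairHenselization R (I.map (algebraMap A R)) B)
    (S : Type u) [CommRing S] [Algebra A S] [Algebra.FinitePresentation A S]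
    (C : Type u) [CommRing C] [Algebra S C] [Algebra A C] [IsScalarTower A S C]
    (hC : Hens2.IsPairHenselization S (I.map (algebraMap A S)) C)
    [Algebra B C] [IsScalarTower A B C] :
    ∃ (T : Type u) (_ : CommRing T) (_ : Algebra B T) (_ : Algebra T C) (_ : IsScalarTower B T C),
      Algebra.FinitePresentation B T ∧
      Hens2.IsPairHenselization T ((I.map (algebraMap A B)).map (algebraMap B T)) C := by
  classical
  obtain ⟨t, ht⟩ := Algebra.FiniteType.out (R := A) (A := R)
  obtain ⟨S', _, _, _, _, _, _, _, hS', hCS', hy⟩ :=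
    H9Hens.relHens_exists_nbhd hC (fun r : t => algebraMap B C (algebraMap R B r))
  haveI : Algebra.FinitePresentation A S' := Algebra.FinitePresentation.trans A S S'
  choose c hc using hy
  let gen : t → B ⊗[A] S' := fun r => algebraMap R B r ⊗ₜ 1 - 1 ⊗ₜ c r
  let J : Ideal (B ⊗[A] S') := Ideal.span (Set.range gen)
  let χ : B ⊗[A] S' →ₐ[B] C :=
    Algebra.TensorProduct.lift (Algebra.ofId B C) (IsScalarTower.toAlgHom A S' C) fun _ _ => .all _ _
  have hχ : ∀ y ∈ J, χ y = 0 := by
    suffices J ≤ RingHom.ker χ.toRingHom from fun y hy => this hy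
    rw [Ideal.span_le]
    rintro _ ⟨r, rfl⟩
    show χ (_ - _) = 0
    simp [χ, hc]
  let χ' : ((B ⊗[A] S') ⧸ J) →ₐ[B] C := Ideal.Quotient.liftₐ J χ hχ
  letI : Algebra ((B ⊗[A] S') ⧸ J) C := χ'.toRingHom.toAlgebra
  haveI : IsScalarTower B ((B ⊗[A] S') ⧸ J) C := IsScalarTower.of_algebraMap_eq fun a => (χ'.commutes a).symm
  haveI : IsScalarTower A ((B ⊗[A] S') ⧸ J) C := IsScalarTower.of_algebraMap_eq fun a => by
    exact (IsScalarTower.algebraMap_apply A B C a).trans ((IsScalarTower.algebraMap_apply B ((B ⊗[A] S') ⧸ J) C _).trans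
      (congrArg _ (IsScalarTower.algebraMap_apply A B ((B ⊗[A] S') ⧸ J) a).symm))
  refine ⟨(B ⊗[A] S') ⧸ J, inferInstance, inferInstance, inferInstance, inferInstance,
    Algebra.FinitePresentation.quotient (Submodule.fg_span (Set.finite_range gen)), ?_⟩
  rw [H9Hens.map_map_tower (I := I) B ((B ⊗[A] S') ⧸ J)]
  have hS : HenselianRing C (I.map (algebraMap A C)) := H9Hens.relHens_henselian hC
  refine H9Hens.relHens_mk hS (fun D _ _ _ φ => ?_) fun D _ _ _ u v huv => ?_
  · let φ' : B ⊗[A] S' →ₐ[A] D := φ.comp (Ideal.Quotient.mkₐ A J)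
    obtain ⟨w, hw⟩ := H9Hens.relHens_exists hCS' (φ'.comp Algebra.TensorProduct.includeRight)
    have hwB : w.comp (IsScalarTower.toAlgHom A B C) = φ'.comp Algebra.TensorProduct.includeLeft := by
      refine H9Hens.relHens_ext hB fun r => ?_
      suffices (w.comp (IsScalarTower.toAlgHom A B C)).comp (IsScalarTower.toAlgHom A R B) =
          (φ'.comp Algebra.TensorProduct.includeLeft).comp (IsScalarTower.toAlgHom A R B) from
        DFunLike.congr_fun this r
      refine AlgHom.ext_of_adjoin_eq_top ht fun x hx => ?_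
      show w (algebraMap B C (algebraMap R B x)) = φ' (algebraMap R B x ⊗ₜ 1)
      have h2 : φ' (gen ⟨x, hx⟩) = 0 := by
        show φ (Ideal.Quotient.mk J _) = 0
        rw [show Ideal.Quotient.mk J (gen ⟨x, hx⟩) = 0 from
          Ideal.Quotient.eq_zero_iff_mem.mpr (Ideal.subset_span ⟨⟨x, hx⟩, rfl⟩), map_zero]
      rw [map_sub, sub_eq_zero] at h2
      rw [h2, ← hc ⟨x, hx⟩, hw]
      rfl
    refine ⟨w, fun y => ?_⟩
    obtain ⟨y, rfl⟩ := Ideal.Quotient.mk_surjective y
    show w (χ y) = φ' y
    induction y with
    | zero => simp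
    | tmul b s =>
      have h1 : φ' (b ⊗ₜ s) = φ' (b ⊗ₜ 1) * φ' ((1 : B) ⊗ₜ s) := by
        rw [← map_mul, Algebra.TensorProduct.tmul_mul_tmul, mul_one, one_mul]
      rw [h1, show χ (b ⊗ₜ s) = algebraMap B C b * algebraMap S' C s by simp [χ], map_mul, hw]
      congr 1
      exact DFunLike.congr_fun hwB b
    | add a b ha hb => simp only [map_add, ha, hb]
  · refine H9Hens.relHens_ext hCS' fun s => ?_
    have := huv (Ideal.Quotient.mk J ((1 : B) ⊗ₜ s))
    change u (χ (1 ⊗ₜ s)) = v (χ (1 ⊗ₜ s)) at this
    simpa [χ] using this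

end Groth.Agent.S17609
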