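import Groth.Statements.S6829
import Mathlib.RingTheory.TensorProduct.MvPolynomial
import Mathlib.LinearAlgebra.TensorProduct.RightExactness
import Mathlib.RingTheory.Ideal.Maps
-- import your own Groth.Agent.* helpers here

set_option autoImplicit false
universe u
open Smoothing

namespace Groth.Agent.S6829

open scoped TensorProduct
open MvPolynomial

variable {R A R' : Type u} [CommRing R] [CommRing A] [Algebra R A] [CommRing R'] [Algebra R R']

/-- The base change of a presentation homomorphism. -/
noncomputable def baseChangeHom (P : Smoothing.MarkedPresentation R A) :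
    MvPolynomial (Fin P.n) R' →ₐ[R'] R' ⊗[R] A :=
  aeval fun i => (1 : R') ⊗ₜ[R] P.hom (X i)

theorem baseChangeHom_map (P : Smoothing.MarkedPresentation R A) (x : MvPolynomial (Fin P.n) R) :
    baseChangeHom P (map (algebraMap R R') x) = (1 : R') ⊗ₜ[R] P.hom x := by
  induction x using MvPolynomial.induction_on with
  | C r =>
    rw [map_C, baseChangeHom, aeval_C, ← MvPolynomial.algebraMap_eq, AlgHom.commutes,
      Algebra.TensorProduct.algebraMap_apply, Algebra.algebraMap_eq_smul_one r,
      Algebra.algebraMap_eq_smul_one r, Algebra.algebraMap_self, RingHom.id_apply, TensorProduct.smul_tmul]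
  | add x y hx hy => rw [map_add, map_add, hx, hy, map_add, TensorProduct.tmul_add]
  | mul_X x i hx =>
    rw [map_mul, map_mul, hx, map_X, baseChangeHom, aeval_X, Algebra.TensorProduct.tmul_mul_tmul, one_mul,
      map_mul]

theorem jacobianMinor_map {n m c : ℕ} (f : Fin m → MvPolynomial (Fin n) R) (rows : Fin c → Fin m)
    (cols : Fin c → Fin n) : Smoothing.jacobianMinor (fun j => map (algebraMap R R') (f j)) rows cols =
      map (algebraMap R R') (Smoothing.jacobianMinor f rows cols) := by
  rw [Smoothing.jacobianMinor, Smoothing.jacobianMinor, RingHom.map_det]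
  congr 1
  ext1 j k
  simp [pderiv_map]

/-- The base change of a marked presentation. -/
noncomputable def baseChange (P : Smoothing.MarkedPresentation R A) :
    Smoothing.MarkedPresentation R' (R' ⊗[R] A) where
  n := P.n
  m := P.m
  c := P.c
  hcn := P.hcn
  hcm := P.hcm
  rel j := map (algebraMap R R') (P.rel j)
  hom := baseChangeHom P
  surj z := by
    induction z using TensorProduct.induction_on with
    | zero => exact ⟨0, map_zero _⟩
    | tmul r a =>
      obtain ⟨x, rfl⟩ := P.surj a
      exact ⟨r • map (algebraMap R R') x, by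
        rw [map_smul, baseChangeHom_map, TensorProduct.smul_tmul', smul_eq_mul, mul_one]⟩
    | add a b ha hb =>
      obtain ⟨x, rfl⟩ := ha
      obtain ⟨y, rfl⟩ := hb
      exact ⟨x + y, map_add _ _ _⟩
  ker_eq := by
    let e := MvPolynomial.algebraTensorAlgEquiv (σ := Fin P.n) R R'
    have he : ∀ z, baseChangeHom P (e z) = Algebra.TensorProduct.map (AlgHom.id R' R') P.hom z := fun z => by
      induction z using TensorProduct.induction_on with
      | zero => simp only [map_zero]
      | tmul r x =>
        rw [Algebra.TensorProduct.map_tmul, AlgHom.id_apply, MvPolynomial.algebraTensorAlgEquiv_tmul, map_smul, baseChangeHom_map, TensorProduct.smul_tmul', smul_eq_mul,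
          mul_one]
      | add a b ha hb => simp only [map_add, ha, hb]
    refine le_antisymm (fun x hx => ?_) ?_
    · obtain ⟨z, rfl⟩ := e.surjective x
      have hz : z ∈ RingHom.ker (Algebra.TensorProduct.map (AlgHom.id R R') P.hom) := by
        change baseChangeHom P (e z) = 0 at hx
        rw [he] at hx
        exact hx
      rw [Algebra.TensorProduct.lTensor_ker P.hom P.surj, show RingHom.ker P.hom = Ideal.span (Set.range P.rel) from
        P.ker_eq, Ideal.map_span, ← Set.range_comp] at hz
      have := Ideal.mem_map_of_mem e hz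
      rw [Ideal.map_span, ← Set.range_comp] at this
      refine Ideal.span_mono (le_of_eq (congrArg Set.range (funext fun j => ?_))) this
      simp [e]
    · rw [Ideal.span_le]
      rintro _ ⟨j, rfl⟩
      show baseChangeHom P (map (algebraMap R R') (P.rel j)) = 0
      rw [baseChangeHom_map, show P.hom (P.rel j) = 0 from by
        show P.rel j ∈ RingHom.ker P.hom.toRingHom
        rw [P.ker_eq]; exact Ideal.subset_span ⟨j, rfl⟩, TensorProduct.tmul_zero]

theorem hom_minor (P : Smoothing.MarkedPresentation R A) (cols : Fin P.c → Fin P.n) :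
    baseChangeHom P (R' := R') (Smoothing.jacobianMinor (fun j => map (algebraMap R R') (P.rel j))
      (Fin.castLE P.hcm) cols) =
      (1 : R') ⊗ₜ[R] P.hom (Smoothing.jacobianMinor P.rel (Fin.castLE P.hcm) cols) :=
  (congrArg (baseChangeHom P) (jacobianMinor_map ..)).trans (baseChangeHom_map ..)

theorem killsTail_baseChange (P : Smoothing.MarkedPresentation R A) {a : A} (hk : Smoothing.KillsTail P a) :
    Smoothing.KillsTail (baseChange P (R' := R')) ((1 : R') ⊗ₜ[R] a) := by
  intro (x : MvPolynomial (Fin P.n) R') hx (j : Fin P.m) hj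
  change baseChangeHom P x = _ at hx
  change P.c ≤ (j : ℕ) at hj
  obtain ⟨a₁, rfl⟩ := P.surj a
  let φ := map (σ := Fin P.n) (algebraMap R R')
  have h1 : φ (a₁ * P.rel j) ∈ Ideal.span ((φ ∘ P.rel) '' {j' : Fin P.m | (j' : ℕ) < P.c}) ⊔
      Ideal.span (Set.range (φ ∘ P.rel)) ^ 2 := by
    have := Ideal.mem_map_of_mem φ (hk a₁ rfl j hj)
    rwa [Ideal.map_sup, Ideal.map_pow, Ideal.map_span, Ideal.map_span, ← Set.image_comp, ← Set.range_comp] at this
  have h2 : x - φ a₁ ∈ Ideal.span (Set.range (φ ∘ P.rel)) := by
    rw [show Ideal.span (Set.range (φ ∘ P.rel)) = RingHom.ker (baseChangeHom P (R' := R')).toRingHom from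
      (baseChange P (R' := R')).ker_eq.symm]
    show baseChangeHom P (x - φ a₁) = 0
    rw [map_sub, baseChangeHom_map]
    exact sub_eq_zero.mpr hx
  show x * φ (P.rel j) ∈ Ideal.span ((φ ∘ P.rel) '' {j' : Fin P.m | (j' : ℕ) < P.c}) ⊔
      Ideal.span (Set.range (φ ∘ P.rel)) ^ 2
  rw [show x * φ (P.rel j) = φ (a₁ * P.rel j) + (x - φ a₁) * φ (P.rel j) by rw [map_mul]; ring]
  exact add_mem h1 (Ideal.mem_sup_right (pow_two (Ideal.span (Set.range (φ ∘ P.rel))) ▸
    Ideal.mul_mem_mul h2 (Ideal.subset_span ⟨j, rfl⟩)))

open TensorProduct in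
/-- Let A be a finitely presented R-algebra, R → R' a ring map and a ∈ A. If a is elementary standard,
resp. strictly standard, in A over R, then a ⊗ 1 is elementary standard, resp. strictly standard, in
A ⊗_R R' over R' (written here as 1 ⊗ a in R' ⊗_R A). -/
theorem result {R A R' : Type u} [CommRing R] [CommRing A] [Algebra R A]
    [Algebra.FinitePresentation R A] [CommRing R'] [Algebra R R'] (a : A) :
    (Smoothing.IsElementaryStandard R A a →
        Smoothing.IsElementaryStandard R' (R' ⊗[R] A) ((1 : R') ⊗ₜ[R] a)) ∧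
      (Smoothing.IsStrictlyStandard R A a →
        Smoothing.IsStrictlyStandard R' (R' ⊗[R] A) ((1 : R') ⊗ₜ[R] a)) := by
  constructor
  · rintro ⟨P, ⟨a', ha'⟩, hk⟩
    refine ⟨baseChange P (R' := R'), ⟨(1 : R') ⊗ₜ[R] a', ?_⟩, killsTail_baseChange P hk⟩
    refine Eq.trans ?_ (congrArg _ (hom_minor P _).symm)
    rw [Algebra.TensorProduct.tmul_mul_tmul, one_mul]
    exact congrArg _ ha'
  · rintro ⟨P, ha, hk⟩
    refine ⟨baseChange P (R' := R'), ?_, killsTail_baseChange P hk⟩
    have h1 := Ideal.mem_map_of_mem (Algebra.TensorProduct.includeRight : A →ₐ[R] R' ⊗[R] A) ha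
    rw [Ideal.map_span, ← Set.range_comp] at h1
    refine Ideal.span_mono (le_of_eq (congrArg Set.range (funext fun cols => ?_))) h1
    exact (hom_minor P cols).symm

end Groth.Agent.S6829
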