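import Groth.Statements.S2026
import Groth.Agent.H9Smooth.Standard
-- import your own Groth.Agent.* helpers here

set_option autoImplicit false
universe u
open Smoothing

namespace Groth.Agent.S2026

/-- For a finitely presented `R`-algebra `A`, the singular ideal (functions vanishing on the non-smooth
locus) coincides with the radical of the ideal spanned by all strictly standard elements, and
equally with the radical of the ideal spanned by all elementary standard elements. -/
theorem result {R A : Type u} [CommRing R] [CommRing A]
    [Algebra R A] [Algebra.FinitePresentation R A] :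
    Smoothing.singularIdeal R A = (Ideal.span {a : A | Smoothing.IsStrictlyStandard R A a}).radical ∧
      Smoothing.singularIdeal R A =
        (Ideal.span {a : A | Smoothing.IsElementaryStandard R A a}).radical := by
  have h1 : (Ideal.span {a : A | Smoothing.IsElementaryStandard R A a}).radical ≤
      (Ideal.span {a : A | Smoothing.IsStrictlyStandard R A a}).radical :=
    Ideal.radical_mono (Ideal.span_mono fun a ha => H9Smooth.isStrictlyStandard_of_isElementaryStandard ha)
  have hrad : (Smoothing.singularIdeal R A).IsRadical := PrimeSpectrum.isRadical_vanishingIdeal _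
  have h2 : (Ideal.span {a : A | Smoothing.IsStrictlyStandard R A a}).radical ≤
      Smoothing.singularIdeal R A :=
    hrad.radical_le_iff.mpr (Ideal.span_le.mpr fun a ha =>
      H9Smooth.mem_singularIdeal (H9Smooth.basicOpen_subset_smoothLocus_of_isStrictlyStandard ha))
  have h3 : Smoothing.singularIdeal R A ≤
      (Ideal.span {a : A | Smoothing.IsElementaryStandard R A a}).radical := by
    intro x hx
    rw [Ideal.radical_eq_sInf, Ideal.mem_sInf]
    intro p hp
    obtain ⟨hle, hpr⟩ := hp
    haveI := hpr
    rw [Smoothing.singularIdeal, PrimeSpectrum.mem_vanishingIdeal] at hx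
    refine hx ⟨p, hpr⟩ fun hsm => ?_
    haveI : Algebra.IsSmoothAt R p := hsm
    obtain ⟨a, ha, haq⟩ := H9Smooth.exists_isElementaryStandard_notMem (R := R) p
    exact haq (hle (Ideal.subset_span ha))
  exact ⟨le_antisymm (h3.trans h1) h2, le_antisymm h3 (h1.trans h2)⟩

end Groth.Agent.S2026
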