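import Groth.Statements.S6822
import Groth.Agent.H9Popescu.Reduce
-- import your own Groth.Agent.* helpers here

set_option autoImplicit false
universe u
open Smoothing

namespace Groth.Agent.S6822

/-- Let R be Noetherian, A a finitely presented R-algebra, φ : A → Λ an R-algebra map and 𝔮 ⊆ Λ a prime.
Let r ≥ 1 and π₁, …, π_r ∈ R map into 𝔮, and assume: for each i the annihilators of π_i and of π_i²
agree in R/(π₁⁸, …, π_{i−1}⁸) and in Λ/(π₁⁸, …, π_{i−1}⁸)Λ, and each π_i maps to a strictly standard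
element of A over R. Write K = (π₁⁸, …, π_r⁸). If the reduced problem R/K → A/KA → Λ/KΛ ⊇ 𝔮/KΛ can
be resolved (for the map A/KA → Λ/KΛ induced by φ), then R → A → Λ ⊇ 𝔮 can be resolved. -/
theorem result {R A Λ : Type u} [CommRing R] [IsNoetherianRing R]
    [CommRing A] [Algebra R A] [Algebra.FinitePresentation R A] [CommRing Λ] [Algebra R Λ]
    (φ : A →ₐ[R] Λ) (𝔮 : Ideal Λ) [𝔮.IsPrime] {r : ℕ} (hr : 0 < r) (π : Fin r → R)
    (hπ𝔮 : ∀ i, algebraMap R Λ (π i) ∈ 𝔮)
    (hR : ∀ i : Fin r, ∀ x : R ⧸ Ideal.span (Set.range fun j : {j : Fin r // (j : ℕ) < (i : ℕ)} => π j ^ 8),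
      Ideal.Quotient.mk _ (π i) ^ 2 * x = 0 → Ideal.Quotient.mk _ (π i) * x = 0)
    (hΛ : ∀ i : Fin r, ∀ x : Λ ⧸ Ideal.span (Set.range fun j : {j : Fin r // (j : ℕ) < (i : ℕ)} =>
        algebraMap R Λ (π j) ^ 8),
      Ideal.Quotient.mk _ (algebraMap R Λ (π i)) ^ 2 * x = 0 → Ideal.Quotient.mk _ (algebraMap R Λ (π i)) * x = 0)
    (hstd : ∀ i, Smoothing.IsStrictlyStandard R A (algebraMap R A (π i)))
    (K : Ideal R) (hK : K = Ideal.span (Set.range fun i => π i ^ 8))
    (φK : (A ⧸ K.map (algebraMap R A)) →ₐ[R ⧸ K] (Λ ⧸ K.map (algebraMap R Λ)))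
    (hφK : ∀ a : A, φK (Ideal.Quotient.mk _ a) = Ideal.Quotient.mk _ (φ a))
    (hres : Smoothing.Resolvable (R ⧸ K) φK (𝔮.map (Ideal.Quotient.mk (K.map (algebraMap R Λ))))) :
    Smoothing.Resolvable R φ 𝔮 := by
  classical
  let I : ℕ → Ideal R := fun i => Ideal.span (Set.range fun j : {j : Fin r // (j : ℕ) < i} => π j ^ 8)
  have hImap : ∀ i, (I i).map (algebraMap R Λ) =
      Ideal.span (Set.range fun j : {j : Fin r // (j : ℕ) < i} => algebraMap R Λ (π j) ^ 8) := fun i => by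
    rw [Ideal.map_span, ← Set.range_comp]
    exact congrArg _ (congrArg Set.range (funext fun j => map_pow _ _ _))
  have hIr : I r = K := by
    rw [hK]
    show Ideal.span (Set.range fun j : {j : Fin r // (j : ℕ) < r} => π j ^ 8) = _
    refine congrArg Ideal.span (Set.ext fun x => ⟨?_, ?_⟩)
    · rintro ⟨j, rfl⟩; exact ⟨j, rfl⟩
    · rintro ⟨j, rfl⟩; exact ⟨⟨j, j.2⟩, rfl⟩
  have hstep : ∀ i : Fin r, I ((i : ℕ) + 1) = I i ⊔ Ideal.span {π i ^ 8} := fun i => by
    show Ideal.span (Set.range fun j : {j : Fin r // (j : ℕ) < (i : ℕ) + 1} => π j ^ 8) = _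
    rw [← Ideal.span_union]
    refine congrArg Ideal.span (Set.ext fun x => ⟨?_, ?_⟩)
    · rintro ⟨⟨j, hj⟩, rfl⟩
      rcases (Nat.lt_succ_iff_lt_or_eq.mp hj) with h | h
      · exact Or.inl ⟨⟨j, h⟩, rfl⟩
      · refine Or.inr ?_
        obtain rfl : j = i := Fin.ext h
        rfl
    · rintro (⟨⟨j, hj⟩, rfl⟩ | rfl)
      · exact ⟨⟨j, hj.trans (Nat.lt_succ_self _)⟩, rfl⟩
      · exact ⟨⟨i, Nat.lt_succ_self _⟩, rfl⟩
  have htop : H9Popescu.ResolvableMod φ 𝔮 (I r) := by
    rw [hIr]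
    obtain ⟨B, _, _, hB, g, h, hgh, hle, hnle⟩ := hres
    let mkA := Ideal.Quotient.mk (K.map (algebraMap R A))
    refine ⟨B, inferInstance, inferInstance, hB, g.toRingHom.comp mkA, h.toRingHom, fun s => ?_, fun s => ?_,
      fun a => ?_, ?_, fun hc => hnle ?_⟩
    · show g (algebraMap (R ⧸ K) (A ⧸ K.map (algebraMap R A)) (Ideal.Quotient.mk K s)) = _
      exact g.commutes _
    · exact h.commutes _
    · show h (g (mkA a)) = _
      rw [← AlgHom.comp_apply, hgh]
      exact hφK a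
    · refine le_trans ?_ (Ideal.comap_mono hle)
      refine ((Ideal.radical_isRadical _).comap _).radical_le_iff.mpr ?_
      rw [Ideal.map_le_iff_le_comap]
      intro a ha
      rw [Ideal.mem_comap, Ideal.mem_comap, ← hφK]
      exact Ideal.le_radical (Ideal.mem_map_of_mem _ (H9Popescu.map_singularIdeal_le K (Ideal.mem_map_of_mem _ ha)))
    · intro x hx
      obtain ⟨l, rfl⟩ := Ideal.Quotient.mk_surjective x
      exact Ideal.mem_map_of_mem _ (hc hx)
  have hall : ∀ k, k ≤ r → H9Popescu.ResolvableMod φ 𝔮 (I (r - k)) := by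
    intro k
    induction k with
    | zero => exact fun _ => htop
    | succ k ih =>
      intro hk
      let i : Fin r := ⟨r - (k + 1), by omega⟩
      refine H9Popescu.resolvableMod_step φ 𝔮 (π i) (hstd i) (I i) (I ((i : ℕ) + 1)) (hstep i)
        (fun s hs => ?_) (fun l hl => ?_) ?_
      · have h1 := hR i (Ideal.Quotient.mk _ s) (by
          rw [← map_pow, ← map_mul]; exact Ideal.Quotient.eq_zero_iff_mem.mpr hs)
        rw [← map_mul] at h1
        exact Ideal.Quotient.eq_zero_iff_mem.mp h1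
      · rw [hImap] at hl ⊢
        have h1 := hΛ i (Ideal.Quotient.mk _ l) (by
          rw [← map_pow, ← map_mul]; exact Ideal.Quotient.eq_zero_iff_mem.mpr hl)
        rw [← map_mul] at h1
        exact Ideal.Quotient.eq_zero_iff_mem.mp h1
      · rw [show (i : ℕ) + 1 = r - k by show r - (k + 1) + 1 = r - k; omega]
        exact ih (by omega)
  have h0 := hall r le_rfl
  rw [Nat.sub_self, show I 0 = ⊥ from Ideal.span_eq_bot.mpr (by rintro x ⟨⟨j, hj⟩, rfl⟩; omega)] at h0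
  obtain ⟨B, _, _, hB, γ, h, hγr, hhr, hhγ, hle, hnle⟩ := h0
  letI : Algebra R B := ((algebraMap (R ⧸ (⊥ : Ideal R)) B).comp (Ideal.Quotient.mk ⊥)).toAlgebra
  haveI : IsScalarTower R (R ⧸ (⊥ : Ideal R)) B := IsScalarTower.of_algebraMap_eq' rfl
  have hb : Function.Bijective (algebraMap R (R ⧸ (⊥ : Ideal R))) :=
    ⟨(injective_iff_map_eq_zero (Ideal.Quotient.mk (⊥ : Ideal R))).mpr fun x hx =>
      (Ideal.mem_bot).mp (Ideal.Quotient.eq_zero_iff_mem.mp hx), Ideal.Quotient.mk_surjective⟩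
  haveI : Algebra.FinitePresentation R (R ⧸ (⊥ : Ideal R)) :=
    Algebra.FinitePresentation.equiv (AlgEquiv.ofBijective (Algebra.ofId R _) hb)
  let e : Λ ⧸ (⊥ : Ideal R).map (algebraMap R Λ) →+* Λ := Ideal.Quotient.lift _ (RingHom.id Λ) fun x hx => by
    rw [Ideal.map_bot, Ideal.mem_bot] at hx; exact hx
  have hJ : ((Smoothing.singularIdeal (R ⧸ (⊥ : Ideal R)) B).map h).radical.comap (Ideal.Quotient.mk _) ≤
      ((Smoothing.singularIdeal R B).map (e.comp h)).radical := by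
    intro x hx
    obtain ⟨n, hn⟩ := Ideal.mem_comap.mp hx
    refine ⟨n, ?_⟩
    rw [← H9Popescu.singularIdeal_eq_of_bijective hb] at hn
    have h1 := Ideal.mem_map_of_mem e hn
    rw [Ideal.map_map, map_pow e] at h1
    exact h1
  refine ⟨B, inferInstance, inferInstance, Algebra.FinitePresentation.trans R (R ⧸ (⊥ : Ideal R)) B,
    { γ with commutes' := fun s => hγr s },
    { e.comp h with commutes' := fun s => ?_ }, AlgHom.ext fun a => ?_, hle.trans hJ, fun hc => hnle (hJ.trans hc)⟩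
  · show e (h (algebraMap (R ⧸ (⊥ : Ideal R)) B (Ideal.Quotient.mk ⊥ s))) = _
    rw [hhr]
    rfl
  · show e (h (γ a)) = _
    rw [hhγ]
    rfl

end Groth.Agent.S6822
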