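import Groth.Statements.S7132
import Mathlib.RingTheory.Localization.Module
import Mathlib.RingTheory.DiscreteValuationRing.Basic
import Mathlib.LinearAlgebra.Dimension.StrongRankCondition
-- import your own Groth.Agent.* helpers here

set_option autoImplicit false
universe u
open EtAlg

namespace Groth.Agent.S7132

/-- For an injective local homomorphism A → B of discrete valuation rings whose fraction fields K ⊆ L
form a finite extension, the residue field of B is finite over that of A, and the ramification index
e times the residue degree f is at most [L : K]. -/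
theorem result (A B K L : Type u) [CommRing A] [IsDomain A]
    [IsDiscreteValuationRing A] [CommRing B] [IsDomain B] [IsDiscreteValuationRing B] [Algebra A B]
    (hinj : Function.Injective (algebraMap A B)) [IsLocalHom (algebraMap A B)]
    [Field K] [Field L] [Algebra A K] [IsFractionRing A K] [Algebra B L] [IsFractionRing B L]
    [Algebra K L] [Algebra A L] [IsScalarTower A K L] [IsScalarTower A B L] [FiniteDimensional K L] :
    Module.Finite (IsLocalRing.ResidueField A) (IsLocalRing.ResidueField B) ∧
      Ideal.ramificationIdx' (IsLocalRing.maximalIdeal A) (IsLocalRing.maximalIdeal B) *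
          Module.finrank (IsLocalRing.ResidueField A) (IsLocalRing.ResidueField B) ≤
        Module.finrank K L := by
  classical
  obtain ⟨π, hπ⟩ := IsDiscreteValuationRing.exists_irreducible A
  obtain ⟨ϖ, hϖ⟩ := IsDiscreteValuationRing.exists_irreducible B
  have hπ0 : algebraMap A B π ≠ 0 := fun h => hπ.ne_zero (hinj (h.trans (map_zero _).symm))
  obtain ⟨e, v, hev⟩ := IsDiscreteValuationRing.eq_unit_mul_pow_irreducible hπ0 hϖ
  have he : 1 ≤ e := by
    rcases Nat.eq_zero_or_pos e with rfl | h
    · exfalso
      rw [pow_zero, mul_one] at hev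
      exact hπ.not_isUnit (isUnit_of_map_unit (algebraMap A B) π ⟨v, hev.symm⟩)
    · exact h
  have hmap : (IsLocalRing.maximalIdeal A).map (algebraMap A B) = Ideal.span {ϖ ^ e} := by
    rw [hπ.maximalIdeal_eq, Ideal.map_span, Set.image_singleton, hev]
    exact Ideal.span_singleton_mul_left_unit v.isUnit _
  have hP : ∀ n : ℕ, IsLocalRing.maximalIdeal B ^ n = Ideal.span {ϖ ^ n} := fun n => by
    rw [hϖ.maximalIdeal_eq, Ideal.span_singleton_pow]
  have hidx : Ideal.ramificationIdx' (IsLocalRing.maximalIdeal A) (IsLocalRing.maximalIdeal B) = e := by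
    refine Ideal.ramificationIdx'_spec ?_ ?_
    · rw [hmap, hP]
    · rw [hmap, hP, Ideal.span_singleton_le_span_singleton]
      intro h
      exact absurd ((pow_dvd_pow_iff hϖ.ne_zero hϖ.not_isUnit).mp h) (by omega)
  have key : ∀ s : Finset (IsLocalRing.ResidueField B),
      LinearIndependent (IsLocalRing.ResidueField A) (fun x : s => (x : IsLocalRing.ResidueField B)) →
      e * s.card ≤ Module.finrank K L := by
    intro s hs
    choose r hr using fun x : s => IsLocalRing.residue_surjective (x : IsLocalRing.ResidueField B)
    let g : Fin e × s → L := fun p => algebraMap B L (r p.2 * ϖ ^ (p.1 : ℕ))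
    have hstep : ∀ c : Fin e × s → A, ∑ p, algebraMap A B (c p) * (r p.2 * ϖ ^ (p.1 : ℕ)) = 0 →
        ∀ p, c p ∈ IsLocalRing.maximalIdeal A := by
      intro c hc
      suffices h : ∀ n : ℕ, ∀ p : Fin e × s, (p.1 : ℕ) = n → c p ∈ IsLocalRing.maximalIdeal A from
        fun p => h p.1 p rfl
      intro n
      induction n using Nat.strong_induction_on with
      | _ n ih =>
        intro p₀ hp₀
        have hn : n < e := hp₀ ▸ p₀.1.2
        have h1 : ∀ p : Fin e × s, (p.1 : ℕ) ≠ n → algebraMap A B (c p) * (r p.2 * ϖ ^ (p.1 : ℕ)) ∈ Ideal.span {ϖ ^ (n + 1)} := by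
          intro p hp
          rw [Ideal.mem_span_singleton]
          rcases lt_or_gt_of_ne hp with h | h
          · have := Ideal.mem_map_of_mem (algebraMap A B) (ih _ h p rfl)
            rw [hmap, Ideal.mem_span_singleton] at this
            exact Dvd.dvd.mul_right ((pow_dvd_pow ϖ (by omega)).trans this) _
          · exact Dvd.dvd.mul_left (Dvd.dvd.mul_left (pow_dvd_pow ϖ (by omega)) _) _
        have h2 : ϖ ^ n * ∑ x : s, algebraMap A B (c (p₀.1, x)) * r x ∈ Ideal.span {ϖ ^ (n + 1)} := by
          rw [Fintype.sum_prod_type, ← Finset.add_sum_erase _ _ (Finset.mem_univ p₀.1), ← eq_neg_iff_add_eq_zero] at hc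
          have : ϖ ^ n * ∑ x : s, algebraMap A B (c (p₀.1, x)) * r x =
              ∑ x : s, algebraMap A B (c (p₀.1, x)) * (r x * ϖ ^ (p₀.1 : ℕ)) := by
            rw [Finset.mul_sum, hp₀]
            exact Finset.sum_congr rfl fun x _ => by ring
          rw [this, hc]
          refine neg_mem (Ideal.sum_mem _ fun i hi => Ideal.sum_mem _ fun x _ => h1 (i, x) ?_)
          intro h
          exact Finset.ne_of_mem_erase hi (Fin.ext (h.trans hp₀.symm))
        rw [Ideal.mem_span_singleton, pow_succ, mul_dvd_mul_iff_left (pow_ne_zero _ hϖ.ne_zero)] at h2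
        have h3 : IsLocalRing.residue B (∑ x : s, algebraMap A B (c (p₀.1, x)) * r x) = 0 := by
          rw [IsLocalRing.residue_eq_zero_iff, hϖ.maximalIdeal_eq, Ideal.mem_span_singleton]
          exact h2
        rw [map_sum] at h3
        have h4 := Fintype.linearIndependent_iff.mp hs (fun x => IsLocalRing.residue A (c (p₀.1, x))) (by
          rw [← h3]
          refine Finset.sum_congr rfl fun x _ => ?_
          rw [Algebra.smul_def, map_mul, hr]
          rfl) p₀.2
        exact (IsLocalRing.residue_eq_zero_iff _).mp h4
    have hall : ∀ n : ℕ, ∀ c : Fin e × s → A, ∑ p, algebraMap A B (c p) * (r p.2 * ϖ ^ (p.1 : ℕ)) = 0 →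
        ∀ p, π ^ n ∣ c p := by
      intro n
      induction n with
      | zero => intro c _ p; simp
      | succ n ih =>
        intro c hc p
        have hdiv : ∀ q, π ∣ c q := fun q => Ideal.mem_span_singleton.mp (hπ.maximalIdeal_eq ▸ hstep c hc q)
        choose d hd using hdiv
        have hd0 : ∑ q, algebraMap A B (d q) * (r q.2 * ϖ ^ (q.1 : ℕ)) = 0 := by
          refine (mul_eq_zero.mp ?_).resolve_left hπ0
          rw [← hc, Finset.mul_sum]
          exact Finset.sum_congr rfl fun q _ => by rw [hd q, map_mul]; ring
        rw [hd p, pow_succ']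
        exact mul_dvd_mul_left π (ih d hd0 p)
    have hgA : LinearIndependent A g := by
      rw [Fintype.linearIndependent_iff]
      intro c hc p
      have hc' : ∑ q, algebraMap A B (c q) * (r q.2 * ϖ ^ (q.1 : ℕ)) = 0 := by
        refine IsFractionRing.injective B L ?_
        rw [map_zero, map_sum, ← hc]
        refine Finset.sum_congr rfl fun q _ => ?_
        rw [map_mul, Algebra.smul_def, IsScalarTower.algebraMap_apply A B L]
      by_contra h0
      obtain ⟨m, w, hw⟩ := IsDiscreteValuationRing.eq_unit_mul_pow_irreducible h0 hπ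
      have := hall (m + 1) c hc' p
      rw [hw, Units.dvd_mul_left, pow_dvd_pow_iff hπ.ne_zero hπ.not_isUnit] at this
      omega
    have hgK : LinearIndependent K g := (LinearIndependent.iff_fractionRing A K).mp hgA
    simpa using hgK.fintype_card_le_finrank
  have hfin : Module.Finite (IsLocalRing.ResidueField A) (IsLocalRing.ResidueField B) := by
    have hr : Module.rank (IsLocalRing.ResidueField A) (IsLocalRing.ResidueField B) ≤ (Module.finrank K L : ℕ) :=
      rank_le fun s hs => le_trans (Nat.le_mul_of_pos_left _ he) (key s hs)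
    exact Module.rank_lt_aleph0_iff.mp (hr.trans_lt Cardinal.natCast_lt_aleph0)
  refine ⟨hfin, ?_⟩
  rw [hidx]
  let b := Module.finBasis (IsLocalRing.ResidueField A) (IsLocalRing.ResidueField B)
  have := key (Finset.univ.map ⟨b, b.injective⟩) (by
    have hli := b.linearIndependent.linearIndepOn_id
    rw [show Set.range b = (↑(Finset.univ.map ⟨b, b.injective⟩) : Set _) by simp] at hli
    exact hli)
  rwa [Finset.card_map, Finset.card_univ, Fintype.card_fin] at this

end Groth.Agent.S7132
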