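import Groth.Statements.S7131
import Groth.Agent.H8Props.PseudoCoh.TorDim
import Groth.Agent.H9Hens.FlatEpi
-- import your own Groth.Agent.* helpers here

set_option autoImplicit false
universe u
open EtAlg

namespace Groth.Agent.S7131

open H8Props.PseudoCoh in
theorem aux (A B : Type u) [CommRing A] [CommRing B] [Algebra A B] [Algebra.WeaklyEtale A B] :
    ∀ (d : ℕ) (N : Type u) [AddCommGroup N] [Module B N] [Module A N] [IsScalarTower A B N],
      DRing.HasTorDimLE A d N → DRing.HasTorDimLE B d N
  | 0, N, _, _, _, _, h => by
    haveI := hasTorDimLE_zero_iff.mp h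
    haveI := H9Hens.flat_of_restrictScalars_of_flat_lmul' A B (Algebra.WeaklyEtale.flat_lmul' A B) N
    exact hasTorDimLE_zero_iff.mpr inferInstance
  | d + 1, N, _, _, _, _, h => by
    let f := Finsupp.linearCombination B (id : N → N)
    haveI : Module.Flat A (N →₀ B) := Module.Flat.trans A B _
    have h1 := (hasTorDimLE_succ_iff (f.restrictScalars A) (exists_free_surjective N)).mp h
    exact (hasTorDimLE_succ_iff f (exists_free_surjective N)).mpr
      (aux A B d (LinearMap.ker f) (hasTorDimLE_of_equiv (LinearEquiv.refl A (LinearMap.ker (f.restrictScalars A))) h1))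

/-- Suppose A → B is weakly étale and every A-module has tor dimension at most d. Then every B-module
has tor dimension at most d over B (weak dimension at most d ascends along weakly étale maps). -/
theorem result (A B : Type u) [CommRing A] [CommRing B] [Algebra A B]
    [Algebra.WeaklyEtale A B] (d : ℕ)
    (hA : ∀ (M : Type u) [AddCommGroup M] [Module A M], DRing.HasTorDimLE A d M)
    (N : Type u) [AddCommGroup N] [Module B N] : DRing.HasTorDimLE B d N := by
  letI : Module A N := Module.compHom N (algebraMap A B)
  haveI : IsScalarTower A B N := IsScalarTower.of_algebraMap_smul fun _ _ => rfl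
  exact aux A B d N (hA N)

end Groth.Agent.S7131
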