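import Groth.Statements.S2126
import Groth.Agent.H11Ample.QuasiAffine
-- import your own Groth.Agent.* helpers here

set_option autoImplicit false
universe u
open CategoryTheory AlgebraicGeometry
open Mor

namespace Groth.Agent.S2126

/-- Let `X` be a quasi-compact scheme and `L` an invertible `O_X`-module. Then `L` is ample if and only
if the opens `X_s`, for `s` a global section of some positive tensor power of `L`, form a basis for
the topology of `X`. -/
theorem result {X : Scheme.{u}} [CompactSpace X] (L : X.Modules) (hL : PicF.IsInvertible L) :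
    CohB1.IsAmple L ↔
      TopologicalSpace.Opens.IsBasis
        {U : X.Opens | ∃ (n : ℕ) (s : Coh.structureModule X ⟶ CohB1.tensorPow L (n + 1)), U = CohB1.genLocus _ s} := by
  open TopologicalSpace Groth.Agent.H11Ample Groth.Agent.H11Tilde in
  refine ⟨fun hA => ?_, fun hB => ?_⟩
  · haveI := Groth.Agent.H11Ample.quasiSeparatedSpace_of_isAmple hA
    refine TopologicalSpace.Opens.isBasis_iff_nbhd.mpr fun {U x} hx => ?_
    obtain ⟨k, s, hk, hxs, hsU, -⟩ := Groth.Agent.H11Ample.exists_affine_gen_le hA hx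
    obtain ⟨n, rfl⟩ := Nat.exists_eq_add_of_le' (Nat.one_le_iff_ne_zero.2 hk.ne')
    exact ⟨_, ⟨n, Groth.Agent.H11Tilde.homOfGlobal _ s, rfl⟩, hxs, hsU⟩
  · rw [Groth.Agent.H11Ample.isAmple_iff]
    refine ⟨hL, inferInstance, fun x => ?_⟩
    obtain ⟨V, e, hxV, he⟩ := Groth.Agent.H11Ample.exists_gen hL x
    obtain ⟨U, hU, hxU, hUV⟩ := exists_isAffineOpen_mem_and_subset (U := V) hxV
    obtain ⟨_, ⟨n, s, rfl⟩, hxs, hsU⟩ := TopologicalSpace.Opens.isBasis_iff_nbhd.mp hB hxU
    rw [Groth.Agent.H11Ample.genLocus_eq_gen] at hxs hsU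
    refine ⟨n + 1, _, n.succ_pos, hxs, ?_⟩
    have h := Groth.Agent.H11Ample.isAffineOpen_gen_inf hU
      (Groth.Agent.H11Ample.isGen_spow (he.res hUV) (n + 1)) (SecTwist.val s ⊤)
    rwa [inf_eq_left.mpr hsU] at h

end Groth.Agent.S2126
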