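import Groth.Statements.S1820
import Groth.Agent.H25DTen.RelRep
import Groth.Agent.H25DTen.BcPerfect
import Groth.Agent.H26Dual2.PolyTower
import Groth.Agent.H26Dual2.RightAdj
import Groth.Agent.H4DR.TorAmp.LTensorCx
import Groth.Agent.H4DR.PCoh.Modules
import Groth.Agent.H8Props.PseudoCoh.PerfectMap
import Groth.Agent.S12898

set_option autoImplicit false
universe u
open CategoryTheory
attribute [local instance] HasDerivedCategory.standard
open Dual2

namespace Groth.Agent.S1820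

open CategoryTheory.Limits MonoidalCategory Groth.Agent.H26Dual2

lemma isPerfect_restrict_unit {R A : Type u} [CommRing R] [CommRing A] [IsNoetherianRing R] [Algebra R A]
    [Module.Flat R A] (n : ℕ) (ψ : MvPolynomial (Fin n) R →ₐ[R] A) (hψ : Function.Surjective ψ) :
    DRing.IsPerfect (MvPolynomial (Fin n) R)
      ((DRing.restrictD ψ.toRingHom).obj (DTen.unit A)) := by
  letI := ψ.toRingHom.toAlgebra
  haveI : Module.Finite (MvPolynomial (Fin n) R) A :=
    Module.Finite.of_surjective (Algebra.linearMap (MvPolynomial (Fin n) R) A) hψ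
  have h : DRing.IsPerfectModule (MvPolynomial (Fin n) R) A :=
    H8Props.PseudoCoh.isPerfectModule_iff.2
      ⟨fun k => H8Props.PseudoCoh.fpk_of_noetherian k A, _,
        H8Props.PseudoCoh.tdr_presentation (H8Props.PseudoCoh.hasTorDimLE_of_flat 0 A) n ψ⟩
  obtain ⟨E, a, b, h1, h2, ⟨e⟩⟩ := h
  exact ⟨E, a, b, h1, h2, ⟨e ≪≫ H25DTen.restrictUnitIso⟩⟩

/-- `- ⊗^L E` agrees with the derived tensor product, and the latter commutes with shifts. -/
lemma ltensorCx_shift_iso {A : Type u} [CommRing A] [DTen.HasLTen A] (X W' : Dual.D A) (m : ℤ) (W : DRing.Cx A)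
    [DRing.HasLTensorCx A W] (e : DRing.toD W ≅ W'⟦m⟧) :
    Nonempty ((DRing.LTensorCx A W).obj X ≅ ((DTen.LTen₂ A).obj (W', X))⟦m⟧) := by
  haveI : DTen.HasLTen₃ A := H25DTen.hasLTen₃
  haveI : DTen.IsSymMonoidal A := H25DTen.isSymMonoidal
  obtain ⟨X₀, ⟨eX⟩⟩ := (Localization.essSurj DerivedCategory.Q (DTen.qis A)).mem_essImage X
  obtain ⟨W₀, ⟨eW⟩⟩ := (Localization.essSurj DerivedCategory.Q (DTen.qis A)).mem_essImage W'
  have hP := H25DTen.isKFlat_res X₀
  have hP' := H25DTen.isKFlat_flip_res X₀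
  haveI := H25DTen.quasiIso_resψ X₀
  haveI := H25DTen.isIso_Q_map ((H25DTen.resψ A).app X₀) inferInstance
  let P := (H25DTen.res A).obj X₀
  let eP : DRing.toD P ≅ X := asIso (DerivedCategory.Q.map ((H25DTen.resψ A).app X₀)) ≪≫ eX
  haveI := H25DTen.isIso_ε P W (Or.inl hP)
  haveI := H25DTen.isIso_ε P W₀ (Or.inl hP)
  haveI := H25DTen.isIso_ε P (W₀⟦m⟧) (Or.inl hP)
  let eW' : DRing.toD W ≅ DRing.toD (W₀⟦m⟧) :=
    e ≪≫ (shiftFunctor (Dual.D A) m).mapIso eW.symm ≪≫
      (((DerivedCategory.Q (C := ModuleCat.{u} A)).commShiftIso m).app W₀).symm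
  exact ⟨(DRing.LTensorCx A W).mapIso eP.symm ≪≫ H4DR.TorAmp.ltensorCxObj W P hP ≪≫
    (asIso ((DTen.ε A).app (P, W))).symm ≪≫ (DTen.LTen₂ A).mapIso ((Iso.refl _).prod eW') ≪≫
    asIso ((DTen.ε A).app (P, W₀⟦m⟧)) ≪≫
    DerivedCategory.Q.mapIso (CochainComplex.mapBifunctorShift₂Iso P W₀ (H25DTen.TT A) m) ≪≫
    ((DerivedCategory.Q (C := ModuleCat.{u} A)).commShiftIso m).app _ ≪≫
    (shiftFunctor (Dual.D A) m).mapIso ((asIso ((DTen.ε A).app (P, W₀))).symm ≪≫
      (DTen.LTen₂ A).mapIso (eP.prod eW) ≪≫ DTen.braiding W' X)⟩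

/-- For φ flat of finite type (a perfect ring map). Let R → A be a ring map between Noetherian rings
which is flat and of finite type, where φ^!(K) is formed from a presentation ψ : R[x_1, …, x_n] → A
as RHom_P(A, K ⊗^L_R P)[n], assuming the derived base change to P exists and taking for RHom_P(A, −)
a right adjoint of restriction of scalars along ψ; let W be a complex of A-modules representing
ω_{A/R} = φ^!(R). Assuming the derived base change D(R) → D(A) and the derived tensor product −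
⊗^L_A W exist, for every K in D(R) there is an isomorphism φ^!(K) ≅ (K ⊗^L_R A) ⊗^L_A W. -/
theorem result (R A : Type u) [CommRing R] [CommRing A] [IsNoetherianRing R] [IsNoetherianRing A] [Algebra R A] [Module.Flat R A] (n : ℕ) (ψ : MvPolynomial (Fin n) R →ₐ[R] A) (hψ : Function.Surjective ψ) [DRing.HasLBaseChange (algebraMap R (MvPolynomial (Fin n) R))] (Rψ : Dual.D (MvPolynomial (Fin n) R) ⥤ Dual.D A) (adj : DRing.restrictD ψ.toRingHom ⊣ Rψ) (W : DRing.Cx A) (hW : Nonempty (DRing.toD W ≅ Dual2.shriekVia n Rψ (Dual.inD R R))) [DRing.HasLBaseChange (algebraMap R A)] [DRing.HasLTensorCx A W] (K : Dual.D R) : Nonempty (Dual2.shriekVia n Rψ K ≅ (DRing.LTensorCx A W).obj ((DRing.LBaseChange (algebraMap R A)).obj K)) := by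
  haveI : DTen.HasLTen A := H25DTen.hasLTen
  haveI : DTen.HasLTen (MvPolynomial (Fin n) R) := H25DTen.hasLTen
  haveI : DTen.HasLTen R := H25DTen.hasLTen
  haveI : DTen.HasLBase ψ.toRingHom := H25DTen.hasLBase _
  haveI : DTen.HasResTen ψ.toRingHom := H25DTen.hasResTen _
  haveI : DTen.ResLegIso ψ.toRingHom := H25DTen.resLegIso _
  haveI : DTen.HasLTen₃ (MvPolynomial (Fin n) R) := H25DTen.hasLTen₃
  haveI : DTen.HasLTen₃ A := H25DTen.hasLTen₃
  haveI : DTen.IsSymMonoidal (MvPolynomial (Fin n) R) := H25DTen.isSymMonoidal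
  haveI : DTen.IsSymMonoidal A := H25DTen.isSymMonoidal
  haveI : DTen.HasRHom (MvPolynomial (Fin n) R) := H25DTen.hasRHom
  haveI : DTen.HasRHom A := H25DTen.hasRHom
  haveI : DTen.HasRHomRel ψ.toRingHom := ⟨isLeftAdjoint_TD _⟩
  let π := algebraMap R (MvPolynomial (Fin n) R)
  haveI : DTen.HasLBase π := H25DTen.hasLBase _
  haveI : DTen.HasResTen π := H25DTen.hasResTen _
  haveI : DTen.ResLegIso π := H25DTen.resLegIso _
  obtain ⟨adjL⟩ := Groth.Agent.S12898.result π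
  obtain ⟨adjA⟩ := Groth.Agent.S12898.result (algebraMap R A)
  obtain ⟨eW⟩ := hW
  have hc : ψ.toRingHom.comp π = algebraMap R A := ψ.comp_algebraMap
  let β : DRing.LBaseChange π ⋙ DTen.LBase ψ.toRingHom ≅ DRing.LBaseChange (algebraMap R A) :=
    ((adjL.comp (DTen.baseAdj ψ.toRingHom)).ofNatIsoRight
      ((tdComp π ψ.toRingHom).symm ≪≫ eqToIso (by rw [hc]))).leftAdjointUniq adjA
  let α : Rψ ≅ DTen.RHomRel ψ.toRingHom := adj.rightAdjointUniq (DTen.relAdj ψ.toRingHom)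
  let uR : Dual.inD R R ≅ DTen.unit R := H4DR.PCoh.inDIso (ModuleCat.of R R)
  let uP : (DRing.LBaseChange π).obj (Dual.inD R R) ≅ DTen.unit (MvPolynomial (Fin n) R) :=
    (DRing.LBaseChange π).mapIso uR ≪≫ (adjL.leftAdjointUniq (DTen.baseAdj π)).app _ ≪≫
      H25DTen.baseUnitIso π
  let eW' : DRing.toD W ≅ (H25DTen.relDual ψ.toRingHom)⟦(n : ℤ)⟧ :=
    eW ≪≫ (shiftFunctor (Dual.D A) (n : ℤ)).mapIso (α.app _ ≪≫ (DTen.RHomRel ψ.toRingHom).mapIso uP)
  haveI := H25DTen.isIso_relNat ψ.toRingHom (isPerfect_restrict_unit n ψ hψ)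
    ((DRing.LBaseChange π).obj K)
  obtain ⟨t⟩ := ltensorCx_shift_iso ((DRing.LBaseChange (algebraMap R A)).obj K) _ (n : ℤ) W eW'
  exact ⟨(shiftFunctor (Dual.D A) (n : ℤ)).mapIso (α.app _ ≪≫
    (asIso ((H25DTen.relNat ψ.toRingHom).app ((DRing.LBaseChange π).obj K))).symm ≪≫
    (H25DTen.TL (H25DTen.relDual ψ.toRingHom)).mapIso (β.app K)) ≪≫ t.symm⟩

end Groth.Agent.S1820
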