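import Groth.Statements.S8406
import Groth.Agent.H21Aff.Part
import Groth.Agent.S3901

set_option autoImplicit false
universe u
open CategoryTheory MonoidalCategory CartesianMonoidalCategory MonObj GrpObj AlgebraicGeometry
open SGA3x

set_option linter.style.haveILetI false
set_option backward.isDefEq.respectTransparency false
set_option synthInstance.maxHeartbeats 400000
set_option maxHeartbeats 1000000

namespace Groth.Agent.S8406

/-- Let G be a smooth connected algebraic group (not necessarily affine) over an algebraically closed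
field k. Then any two maximal tori of G are conjugate by an element of G(k). -/
theorem result (k : Type u) [Field k] [IsAlgClosed k]
    (G : Over (Spec (CommRingCat.of k))) [GrpObj G] [Smooth G.hom] [QuasiCompact G.hom] [ConnectedSpace ↥G.left]
    (T₁ T₂ : Over (Spec (CommRingCat.of k))) [GrpObj T₁] [GrpObj T₂] (i₁ : T₁ ⟶ G) (i₂ : T₂ ⟶ G)
    (h₁ : Red.IsMaximalTorus i₁) (h₂ : Red.IsMaximalTorus i₂) :
    ∃ g : 𝟙_ (Over (Spec (CommRingCat.of k))) ⟶ G, SGA3x.ConjBy i₁ i₂ g := by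
  obtain ⟨hm₁, hmono₁, hT₁, hmax₁⟩ := H20Conj.isMaxTorus_of_isMaximalTorus h₁
  obtain ⟨hm₂, hmono₂, hT₂, hmax₂⟩ := H20Conj.isMaxTorus_of_isMaximalTorus h₂
  haveI := hm₁; haveI := hmono₁; haveI := hm₂; haveI := hmono₂
  obtain ⟨L, gL, l, hl, hlc, hlm, -, hLa, hLs, hLc, hfac⟩ := H21Aff.exists_affinePart G
  haveI := hl; haveI := hlm; haveI := hLa; haveI := hLs; haveI := hLc
  obtain ⟨a₁, s₁, c₁⟩ := H21Aff.torus_props T₁ hT₁
  obtain ⟨a₂, s₂, c₂⟩ := H21Aff.torus_props T₂ hT₂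
  obtain ⟨v₁, hv₁, hvm₁⟩ := hfac T₁ i₁ a₁ s₁ c₁
  obtain ⟨v₂, hv₂, hvm₂⟩ := hfac T₂ i₂ a₂ s₂ c₂
  obtain ⟨g, φ, hφ⟩ := S3901.result k L T₁ T₂ v₁ v₂
    (H21Aff.isMaxTorus_of_comp v₁ l hvm₁ (hv₁.symm ▸ ⟨hm₁, hmono₁, hT₁, hmax₁⟩))
    (H21Aff.isMaxTorus_of_comp v₂ l hvm₂ (hv₂.symm ▸ ⟨hm₂, hmono₂, hT₂, hmax₂⟩))
  refine ⟨g ≫ l, φ, ?_⟩
  rw [← hv₁, ← hv₂, ← Category.assoc φ.hom, hφ]
  simp only [AGF.conjBy, MonObj.mul_comp, GrpObj.inv_comp, Category.assoc]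

end Groth.Agent.S8406
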