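import Groth.Agent.H12Pic.Cube.RelSlices

/-!
# A line bundle trivial on a fibre and stable under small extensions is trivial nearby

No integrality of the fibres is needed: the module of sections is cyclic near the point.
-/

set_option autoImplicit false
set_option linter.style.haveILetI false
set_option linter.unusedSectionVars false

noncomputable section

universe u

open CategoryTheory CategoryTheory.Limits AlgebraicGeometry TopologicalSpace Opposite

namespace Groth.Agent.LeadTrivNhd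

open Groth.Agent.H12Pic Groth.Agent.H12Pic.Cube Groth.Agent.H11Tilde Groth.Agent.LeadBC.GenBC

variable {X S : Scheme.{u}} (f : X ⟶ S) [IsProper f] [Flat f] [LocallyOfFinitePresentation f]

/-- Triviality on the fibre and stability under small extensions give triviality near the point. -/
theorem exists_triv_nhd (hK : ∀ t : S, IsIso (f.fiberToSpecResidueField t).appTop) {L : X.Modules}
    (hL : PicF.IsInvertible L) {s : S} (hs : Triv (f.fiberι s) L)
    (hstep : ∀ (R : Type u) [CommRing R] [IsLocalRing R] (u : Spec (CommRingCat.of R) ⟶ S) (ε : R),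
      ε ∈ IsLocalRing.maximalIdeal R → (∀ a : R, ε * a = 0 ↔ a ∈ IsLocalRing.maximalIdeal R) →
      Triv (pullback.fst f (Spec.map (CommRingCat.ofHom (Ideal.Quotient.mk (Ideal.span {ε}))) ≫ u)) L →
      Triv (pullback.fst f u) L) :
    ∃ U : S.Opens, s ∈ U ∧ Triv (f ⁻¹ᵁ U).ι L := by
  haveI : L.IsQuasicoherent := H28Mero.isQCoh_of_isInvertible hL
  have hlf := H28Pinch.isFinLocFree_of_isInvertible hL
  obtain ⟨V, hV, hsV, -⟩ := exists_isAffineOpen_mem_and_subset (U := (⊤ : S.Opens)) (x := s) trivial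
  obtain ⟨Q, hQ⟩ : ∃ Q, IsChartHom f L hV Q :=
    exists_chartHom f L (H8Props.FinLocFree.isFP_of_isFinLocFree L hlf)
      (H10Coh.SheafHom.isFlatOver_of_isFinLocFree f L hlf) hV
  haveI := hQ.1
  have hleK : (⊤ : (Spec (S.residueField s)).Opens) ≤ S.fromSpecResidueField s ⁻¹ᵁ V := fun x _ => by
    show S.fromSpecResidueField s x ∈ V
    rw [Scheme.fromSpecResidueField_apply]
    exact hsV
  obtain ⟨q, a, hsa, hq⟩ := exists_cyclic_point f hQ hleK (hK s) hs.some
  obtain ⟨J, hJ, hJI, haJ⟩ := exists_fg_annihilator q a hq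
  let I := Module.annihilator Γ(S, V) Q
  -- over a local scheme whose closed point lies over `s`
  have hloc : ∀ {T : Scheme.{u}} (g : T ⟶ S) (c : T) (_ : ∀ x, x ⤳ c) (_ : g c = s)
      (_ : IsAffineOpen (⊤ : T.Opens)) (hle : (⊤ : T.Opens) ≤ g ⁻¹ᵁ V),
      Triv (pullback.fst f g) L ↔ I ≤ RingHom.ker (g.appLE V ⊤ hle).hom := fun {T} g c hc hgc hT hle => by
    haveI : IsProper (pullback.snd f g) := MorphismProperty.pullback_snd _ _ inferInstance
    haveI : Flat (pullback.snd f g) := MorphismProperty.pullback_snd _ _ inferInstance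
    haveI : LocallyOfFinitePresentation (pullback.snd f g) := MorphismProperty.pullback_snd _ _ inferInstance
    have h := IsPullback.of_hasPullback f g
    refine ⟨fun ht => ?_, fun hI => ?_⟩
    · have hbij : ∀ W : T.Opens, Function.Bijective ((pullback.snd f g).app W) := fun W =>
        haveI := isIso_app_of_fibres (pullback.snd f g) (isIso_appTop_fibre_baseChange f h hK) W
        ConcreteCategory.bijective_of_isIso ((pullback.snd f g).app W)
      exact annihilator_le_ker f hQ h hbij hle (ht.genOn _ ⊤)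
    · subst hgc
      obtain ⟨U, m, hcU, hm⟩ := exists_gen_of_annihilator f hQ hL hK h hT hle hI (t := c) trivial hs.some
      have hU : U = ⊤ := top_le_iff.1 fun x _ => (hc x).mem_open U.isOpen hcU
      subst hU
      exact IsGen.triv rfl hm
  -- the stalk
  let C := S.presheaf.stalk s
  let ρ : Γ(S, V) ⟶ C := S.presheaf.germ V s hsV
  let IC : Ideal C := Ideal.map ρ.hom I
  have hua : IsUnit (ρ a) := (S.mem_basicOpen a s hsV).1 hsa
  have hICJ : IC = Ideal.map ρ.hom J := by
    refine le_antisymm (Ideal.map_le_iff_le_comap.2 fun c hc => ?_) (Ideal.map_mono hJI)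
    have h1 := Ideal.mem_map_of_mem ρ.hom (haJ c hc)
    rw [map_mul, map_pow] at h1
    exact (Ideal.unit_mul_mem_iff_mem _ (hua.pow 2)).1 h1
  let uC : Spec C ⟶ S := S.fromSpecStalk s
  have hleC : (⊤ : (Spec C).Opens) ≤ uC ⁻¹ᵁ V := fun x _ =>
    (IsLocalRing.specializes_closedPoint x).mem_open (uC ⁻¹ᵁ V).isOpen (show uC _ ∈ V from
      (Scheme.fromSpecStalk_closedPoint (X := S) (x := s)).symm ▸ hsV)
  have happC : ∀ c, uC.appLE V ⊤ hleC c = (Scheme.ΓSpecIso C).inv (ρ c) := fun c => by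
    have h : uC.appLE V ⊤ hleC = ρ ≫ (Scheme.ΓSpecIso C).inv := by
      rw [Scheme.Hom.appLE, Scheme.fromSpecStalk_app hsV, Category.assoc, Category.assoc, ← Functor.map_comp,
        Subsingleton.elim (_ ≫ _) (𝟙 _), CategoryTheory.Functor.map_id]
      erw [Category.comp_id]
    exact ConcreteCategory.congr_hom h c
  have hICm : IC ≤ IsLocalRing.maximalIdeal C := by
    refine Ideal.map_le_iff_le_comap.2 fun c hc => ?_
    rw [Ideal.mem_comap]
    by_contra hne
    have h0 := RingHom.mem_ker.1 ((hloc (S.fromSpecResidueField s) (IsLocalRing.closedPoint _)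
      IsLocalRing.specializes_closedPoint (Scheme.fromSpecResidueField_apply _ _) (isAffineOpen_top _) hleK).1 hs hc)
    have h1 := appLE_comp_spec (V := V) (S.residue s) uC hleC hleK c (ρ c) (happC c)
    have hu := ((IsLocalRing.notMem_maximalIdeal.1 hne).map (S.residue s).hom).map
      (Scheme.ΓSpecIso (S.residueField s)).inv.hom
    exact hu.ne_zero (h1.symm.trans h0)
  have hIC : IC = ⊥ := eq_bot_of_no_small_ext IC (hICJ ▸ hJ.map _) hICm fun J' g hJ'I hg hgJ' hdec hmul => by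
    let R := C ⧸ J'
    haveI : Nontrivial R := Ideal.Quotient.nontrivial_iff.2
      (ne_top_of_le_ne_top (IsLocalRing.maximalIdeal.isMaximal C).ne_top (hJ'I.trans hICm))
    haveI : IsLocalRing R := IsLocalRing.of_surjective' (Ideal.Quotient.mk J') Ideal.Quotient.mk_surjective
    let φ : C ⟶ CommRingCat.of R := CommRingCat.ofHom (Ideal.Quotient.mk J')
    let ε : R := Ideal.Quotient.mk J' g
    haveI hlocal : IsLocalHom (Ideal.Quotient.mk J') := IsLocalHom.of_surjective _ Ideal.Quotient.mk_surjective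
    have hmax : ∀ r : C, r ∈ IsLocalRing.maximalIdeal C ↔ Ideal.Quotient.mk J' r ∈ IsLocalRing.maximalIdeal R := by
      intro r
      rw [IsLocalRing.mem_maximalIdeal, IsLocalRing.mem_maximalIdeal, mem_nonunits_iff, mem_nonunits_iff]
      exact (not_congr (isUnit_map_iff (Ideal.Quotient.mk J') r)).symm
    have hεm : ε ∈ IsLocalRing.maximalIdeal R := (hmax g).1 (hICm hg)
    have hann : ∀ r : R, ε * r = 0 ↔ r ∈ IsLocalRing.maximalIdeal R := fun r => by
      obtain ⟨r, rfl⟩ := Ideal.Quotient.mk_surjective r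
      rw [← map_mul, Ideal.Quotient.eq_zero_iff_mem, ← hmax r]
      constructor
      · intro h
        by_contra hne
        exact hgJ' ((Ideal.unit_mul_mem_iff_mem _ (IsLocalRing.notMem_maximalIdeal.1 hne)).1 (mul_comm g r ▸ h))
      · intro h
        rw [mul_comm]
        exact hmul r h
    let u : Spec (CommRingCat.of R) ⟶ S := Spec.map φ ≫ uC
    let q : CommRingCat.of R ⟶ CommRingCat.of (R ⧸ Ideal.span {ε}) := CommRingCat.ofHom (Ideal.Quotient.mk _)
    haveI : Nontrivial (R ⧸ Ideal.span {ε}) := Ideal.Quotient.nontrivial_iff.2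
      (ne_top_of_le_ne_top (IsLocalRing.maximalIdeal.isMaximal R).ne_top
        ((Ideal.span_singleton_le_iff_mem _).2 hεm))
    haveI : IsLocalRing (CommRingCat.of (R ⧸ Ideal.span {ε})) :=
      IsLocalRing.of_surjective' (Ideal.Quotient.mk (Ideal.span {ε})) Ideal.Quotient.mk_surjective
    have hleR : (⊤ : (Spec (CommRingCat.of R)).Opens) ≤ u ⁻¹ᵁ V :=
      fun x _ => hleC (Set.mem_univ (Spec.map φ x))
    have hleq : (⊤ : (Spec (CommRingCat.of (R ⧸ Ideal.span {ε}))).Opens) ≤ (Spec.map q ≫ u) ⁻¹ᵁ V :=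
      fun x _ => hleR (Set.mem_univ (Spec.map q x))
    haveI : IsLocalHom φ.hom := hlocal
    haveI : IsLocalHom q.hom := IsLocalHom.of_surjective _ Ideal.Quotient.mk_surjective
    have hcR : u (IsLocalRing.closedPoint R) = s :=
      (congrArg uC (IsLocalRing.comap_closedPoint φ.hom)).trans Scheme.fromSpecStalk_closedPoint
    have hcq : (Spec.map q ≫ u) (IsLocalRing.closedPoint _) = s :=
      (congrArg u (IsLocalRing.comap_closedPoint q.hom)).trans hcR
    have happR : ∀ c, u.appLE V ⊤ hleR c = (Scheme.ΓSpecIso _).inv (φ (ρ c)) := fun c =>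
      appLE_comp_spec φ uC hleC hleR c _ (happC c)
    have hq0 : I ≤ RingHom.ker ((Spec.map q ≫ u).appLE V ⊤ hleq).hom := fun c hc => RingHom.mem_ker.2 (by
      refine (appLE_comp_spec q u hleR hleq c _ (happR c)).trans ?_
      obtain ⟨r, hr⟩ := hdec _ (Ideal.mem_map_of_mem ρ.hom hc)
      have h1 : q (φ (ρ c)) = 0 := by
        refine Ideal.Quotient.eq_zero_iff_mem.2 (Ideal.mem_span_singleton.2 ⟨Ideal.Quotient.mk J' r, ?_⟩)
        rw [← map_mul, mul_comm]
        exact Ideal.Quotient.eq.2 hr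
      rw [h1, map_zero])
    have hR := (hloc u _ IsLocalRing.specializes_closedPoint hcR (isAffineOpen_top _) hleR).1
      (hstep R u ε hεm hann
        ((hloc (Spec.map q ≫ u) _ IsLocalRing.specializes_closedPoint hcq (isAffineOpen_top _) hleq).2 hq0))
    refine Ideal.map_le_iff_le_comap.2 fun c hc => ?_
    have h0 := RingHom.mem_ker.1 (hR hc)
    rw [happR, map_eq_zero_iff _ (ConcreteCategory.bijective_of_isIso _).1] at h0
    exact Ideal.mem_comap.2 ((Ideal.Quotient.eq_zero_iff_mem (I := J')).1 h0)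
  -- spreading out
  obtain ⟨G, hG⟩ := hJ
  have hzero : ∀ c ∈ G, ∃ (W : S.Opens) (hWV : W ≤ V), s ∈ W ∧ S.presheaf.map (homOfLE hWV).op c = 0 := fun c hc => by
    have h0 : S.presheaf.germ V s hsV c = S.presheaf.germ V s hsV 0 := by
      rw [map_zero]
      exact (Submodule.mem_bot C).1 (hIC ▸ hICJ.ge (Ideal.mem_map_of_mem ρ.hom
        (hG ▸ Ideal.subset_span (Finset.mem_coe.2 hc))))
    obtain ⟨W, hsW, iU, iV, hW⟩ := S.presheaf.germ_eq s hsV hsV c 0 h0
    refine ⟨W, iU.le, hsW, ?_⟩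
    rw [map_zero] at hW
    exact hW
  choose W₀ hW₀V hsW₀ hW₀ using hzero
  obtain ⟨W, hW, hsW, hWle⟩ := exists_isAffineOpen_mem_and_subset
    (U := S.basicOpen a ⊓ G.attach.inf fun c => W₀ c.1 c.2) (x := s)
    ⟨hsa, Finset.inf_induction (p := fun U : S.Opens => s ∈ U) trivial (fun U hU U' hU' => ⟨hU, hU'⟩)
      fun c _ => hsW₀ c.1 c.2⟩
  have hWV : W ≤ V := (hWle.trans inf_le_left).trans (S.basicOpen_le a)
  let res := S.presheaf.map (homOfLE hWV).op
  have hu : IsUnit (res a) := by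
    refine S.toRingedSpace.isUnit_of_isUnit_germ W _ fun x hx => ?_
    rw [TopCat.Presheaf.germ_res_apply S.presheaf (homOfLE hWV) x hx a]
    exact (S.mem_basicOpen a x (hWV hx)).1 ((hWle.trans inf_le_left) hx)
  have hJ0 : J ≤ RingHom.ker res.hom := by
    rw [← hG]
    refine Ideal.span_le.2 fun c hc => RingHom.mem_ker.2 ?_
    have hle : W ≤ W₀ c hc :=
      (hWle.trans inf_le_right).trans (Finset.inf_le (f := fun c : G => W₀ c.1 c.2) (Finset.mem_attach G ⟨c, hc⟩))
    show S.presheaf.map _ c = 0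
    rw [show (homOfLE hWV).op = (homOfLE (hW₀V c hc)).op ≫ (homOfLE hle).op from rfl, Functor.map_comp,
      CommRingCat.comp_apply, hW₀ c hc, map_zero]
  have hres : I ≤ RingHom.ker res.hom := fun c hc => RingHom.mem_ker.2 (by
    have h0 := RingHom.mem_ker.1 (hJ0 (haJ c hc))
    rw [map_mul, map_pow] at h0
    exact ((hu.pow 2).mul_right_eq_zero).1 h0)
  let U₀ := f ⁻¹ᵁ W
  have hsq : IsPullback U₀.ι (f ∣_ W) f W.ι := (isPullback_morphismRestrict f W).flip
  have hle : (⊤ : W.toScheme.Opens) ≤ W.ι ⁻¹ᵁ V := fun x _ => hWV x.2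
  haveI : IsAffine W.toScheme := hW
  have hk : I ≤ RingHom.ker (W.ι.appLE V ⊤ hle).hom := fun c hc => by
    have h2 : (⊤ : W.toScheme.Opens) ≤ W.ι ⁻¹ᵁ W := fun x _ => x.2
    rw [RingHom.mem_ker, ← Scheme.Hom.map_appLE W.ι h2 (homOfLE hWV).op, CommRingCat.hom_comp, RingHom.comp_apply,
      RingHom.mem_ker.1 (hres hc), map_zero]
  obtain ⟨U, m, hsU, hm⟩ := exists_gen_of_annihilator f hQ hL hK hsq (isAffineOpen_top _) hle hk
    (t := (⟨s, hsW⟩ : W.toScheme)) trivial hs.some
  refine ⟨W.ι ''ᵁ U, ⟨⟨s, hsW⟩, hsU, rfl⟩, ?_⟩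
  obtain ⟨ψ⟩ := H11Tilde.nonempty_iso_structureModule ((Scheme.Modules.pullback U₀.ι).obj L) ((f ∣_ W) ⁻¹ᵁ U) m
    fun V' hV' => hm.bijective hV'
  have t : Triv (((f ∣_ W) ⁻¹ᵁ U).ι ≫ U₀.ι) L :=
    ⟨((Scheme.Modules.pullbackComp _ _).app L).symm ≪≫
      ((Scheme.Modules.restrictFunctorIsoPullback _).app _).symm ≪≫ ψ⟩
  have hrange : Set.range (f ⁻¹ᵁ (W.ι ''ᵁ U)).ι ⊆ Set.range (((f ∣_ W) ⁻¹ᵁ U).ι ≫ U₀.ι) := by
    rintro _ ⟨⟨x, hx⟩, rfl⟩
    obtain ⟨w, hw, hwx⟩ := hx
    have hxU₀ : x ∈ U₀ := by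
      show f x ∈ W
      rw [← hwx]
      exact w.2
    refine ⟨⟨⟨x, hxU₀⟩, ?_⟩, rfl⟩
    show (f ∣_ W) ⟨x, hxU₀⟩ ∈ U
    rw [show (f ∣_ W) ⟨x, hxU₀⟩ = w from Subtype.ext
      ((congrArg (fun g : U₀.toScheme ⟶ S => g ⟨x, hxU₀⟩) (morphismRestrict_ι f W)).trans hwx.symm)]
    exact hw
  exact t.comp' (IsOpenImmersion.lift _ _ hrange) (IsOpenImmersion.lift_fac _ _ hrange)

end Groth.Agent.LeadTrivNhd
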