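import Groth.Statements.S0019
import Groth.Agent.H10Coh.FinType2
import Groth.Agent.H10Coh.BaseChange
-- import your own Groth.Agent.* helpers here

set_option autoImplicit false
universe u
open Coherent

namespace Groth.Agent.S0019

open AlgebraicGeometry in
/-- If f : X → Y is a finite morphism of schemes with Y locally Noetherian and F is a coherent
O_X-module, then the direct image f_*F is a coherent O_Y-module. -/
theorem result {X Y : Scheme.{u}} (f : X ⟶ Y) [IsFinite f] [IsLocallyNoetherian Y]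
    (M : X.Modules) (hM : Coh.IsCoh M) : Coh.IsCoh ((Coh.push f).obj M) := by
  haveI : M.IsQuasicoherent := hM.1
  refine (H10Coh.isCoh_iff_finite_sections _).2
    ⟨H10Coh.isQuasicoherent_pushforward_of_isAffineHom f M, fun U hU => ?_⟩
  have hV : IsAffineOpen (f ⁻¹ᵁ U) := hU.preimage f
  have h1 := ((H10Coh.isCoh_iff_finite_sections M).1 hM).2 _ hV
  have h2 : RingHom.Finite (f.app U).hom := IsFinite.finite_app f U hU
  letI := (f.app U).hom.toAlgebra
  haveI : Module.Finite Γ(Y, U) Γ(X, f ⁻¹ᵁ U) := h2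
  letI : Module Γ(Y, U) Γ(M, f ⁻¹ᵁ U) := Module.compHom _ (f.app U).hom
  haveI : IsScalarTower Γ(Y, U) Γ(X, f ⁻¹ᵁ U) Γ(M, f ⁻¹ᵁ U) :=
    ⟨fun a b m => mul_smul ((f.app U).hom a) b m⟩
  haveI : Module.Finite Γ(Y, U) Γ(M, f ⁻¹ᵁ U) := Module.Finite.trans Γ(X, f ⁻¹ᵁ U) _
  exact H10Coh.finite_of_semilinear (N := Γ((Coh.push f).obj M, U)) (RingHom.id _)
    (AddMonoidHom.id Γ(M, f ⁻¹ᵁ U)) (fun a m => rfl) fun n => ⟨n, rfl⟩

end Groth.Agent.S0019
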