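import Groth.Statements.S0022
import Groth.Agent.H10Coh.Pn.Results
-- import your own Groth.Agent.* helpers here

set_option autoImplicit false
universe u
open Coherent

namespace Groth.Agent.S0022

open AlgebraicGeometry in
/-- For any ring R, any quasi-coherent module F on projective space ℙ^n_R and any i > n, H^i(ℙ^n_R, F) =
0. (The published statement is for coherent modules over a Noetherian ring; it is stated here for
quasi-coherent modules over any ring.) -/
theorem result (n : ℕ) (R : Type u) [CommRing R]
    (M : (CohB1.ProjSpace n R).Modules) [Coh.IsQCoh M] (i : ℕ) (hi : n < i) :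
    Subsingleton (Coh.HH (CohB1.ProjSpace n R) M i) := by
  exact @Equiv.subsingleton _ _ (Groth.Agent.H10Coh.HHEquiv M i).toEquiv
    (@Groth.Agent.H10Coh.Pn.subsingleton_HnM_proj n R _ M (inferInstance : Coh.IsQCoh M) i hi)

end Groth.Agent.S0022
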