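import Groth.Statements.S0039
import Groth.Agent.H10Coh.AlgebraizeSupp
import Groth.Agent.H10Coh.AmpleClosedFibre
-- import your own Groth.Agent.* helpers here

set_option autoImplicit false
set_option linter.style.haveILetI false
universe u
open CategoryTheory AlgebraicGeometry
open Coherent

namespace Groth.Agent.S0039

open AlgebraicGeometry CategoryTheory CategoryTheory.Limits in
/-- Let A be Noetherian and complete for an ideal I, X proper over A and Y separated of finite type over
A. Write X_n, Y_n for the base changes to A/I^(n+1). Then every system of morphisms g_n : X_n → Y_n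
over A/I^(n+1), compatible with the transition maps, is induced by a morphism X → Y over A. (The
published statement also asserts uniqueness, but only existence is stated here.) -/
theorem result (A : Type u) [CommRing A] [IsNoetherianRing A]
    (I : Ideal A) [IsAdicComplete I A] {X Y : Scheme.{u}} (f : X ⟶ Spec (CommRingCat.of A))
    (h : Y ⟶ Spec (CommRingCat.of A)) [IsProper f] [IsSeparated h] [LocallyOfFiniteType h]
    [QuasiCompact h] (g : (n : ℕ) → (CohB1.thick f I n ⟶ CohB1.thick h I n))
    (hg₁ : ∀ n, g n ≫ CohB1.thickToBase h I n = CohB1.thickToBase f I n)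
    (hg₂ : ∀ n, CohB1.thickTrans f I n ≫ g (n + 1) = g n ≫ CohB1.thickTrans h I n) :
    ∃ φ : X ⟶ Y, φ ≫ h = f ∧ ∀ n, CohB1.thickι f I n ≫ φ = g n ≫ CohB1.thickι h I n := by
  letI : X.Over (Spec (CommRingCat.of A)) := ⟨f⟩
  have hcartX : ∀ k, IsPullback (CohB1.thickTrans f I k) (CohB1.thickToBase f I k) (CohB1.thickToBase f I (k + 1))
      (CohB1.specQuotTrans I k) := fun k => Groth.Agent.H10Coh.ClosedFibre.isPullback_thickTrans (X := X) I k
  have hι : ∀ k, CohB1.thickTrans f I k ≫ CohB1.thickι f I (k + 1) = CohB1.thickι f I k := fun k =>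
    Groth.Agent.H10Coh.ClosedFibre.thickTrans_ι (X := X) I k
  let P := Limits.pullback f h
  letI : P.Over (Spec (CommRingCat.of A)) := ⟨Limits.pullback.fst f h ≫ f⟩
  haveI : IsSeparated (P ↘ Spec (CommRingCat.of A)) := inferInstanceAs (IsSeparated (Limits.pullback.fst f h ≫ f))
  haveI : LocallyOfFiniteType (P ↘ Spec (CommRingCat.of A)) := inferInstanceAs (LocallyOfFiniteType (Limits.pullback.fst f h ≫ f))
  haveI : QuasiCompact (P ↘ Spec (CommRingCat.of A)) := inferInstanceAs (QuasiCompact (Limits.pullback.fst f h ≫ f))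
  have hcl : ∀ k, IsClosedImmersion (CohB1.thickι f I k) := fun k =>
    MorphismProperty.of_isPullback (IsPullback.of_hasPullback f (CohB1.specQuot I k)).flip
      (IsClosedImmersion.spec_of_surjective _ Ideal.Quotient.mk_surjective)
  have hb : ∀ k, CohB1.thickι f I k ≫ f = (g k ≫ CohB1.thickι h I k) ≫ h := fun k => by
    refine Limits.pullback.condition.trans ?_
    show CohB1.thickToBase f I k ≫ CohB1.specQuot I k = _
    rw [← hg₁ k, Category.assoc, Category.assoc]
    exact congrArg (g k ≫ ·) Limits.pullback.condition.symm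
  let j : ∀ k, CohB1.thick f I k ⟶ P := fun k =>
    Limits.pullback.lift (CohB1.thickι f I k) (g k ≫ CohB1.thickι h I k) (hb k)
  haveI hj : ∀ k, IsClosedImmersion (j k) := fun k => by
    haveI : IsClosedImmersion (j k ≫ Limits.pullback.fst f h) := by
      rw [Limits.pullback.lift_fst]; exact hcl k
    exact IsClosedImmersion.of_comp (j k) (Limits.pullback.fst f h)
  letI : Y.Over (Spec (CommRingCat.of A)) := ⟨h⟩
  have hι' : ∀ k, CohB1.thickTrans h I k ≫ CohB1.thickι h I (k + 1) = CohB1.thickι h I k := fun k =>
    Groth.Agent.H10Coh.ClosedFibre.thickTrans_ι (X := Y) I k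
  obtain ⟨W, c, e, hc, hcp, hec, hei, hpb⟩ :=
    Groth.Agent.H10Coh.AlgSupp.exists_closedSub (J := I) (P := P) (Xs := fun k => CohB1.thick f I k)
      (p := CohB1.thickToBase f I) (i := CohB1.thickTrans f I) hcartX
      (inferInstanceAs (IsProper (Limits.pullback.snd f (CohB1.specQuot I 0)))) j hj
      (fun k => by
        refine Limits.pullback.hom_ext ?_ ?_
        · simp only [j, Category.assoc, Limits.pullback.lift_fst]; exact hι k
        · simp only [j, Category.assoc, Limits.pullback.lift_snd]
          rw [← Category.assoc, hg₂ k, Category.assoc, hι' k])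
      (fun k => by
        show j k ≫ Limits.pullback.fst f h ≫ f = _
        rw [Limits.pullback.lift_fst_assoc]
        exact Limits.pullback.condition)
  let π : W ⟶ X := c ≫ Limits.pullback.fst f h
  haveI := hc
  have hπf : π ≫ f = c ≫ (P ↘ Spec (CommRingCat.of A)) := Category.assoc _ _ _
  haveI : IsProper (π ≫ f) := hπf ▸ hcp
  haveI : IsProper π := IsProper.of_comp π f
  have heπ : ∀ k, e k ≫ π = CohB1.thickι f I k := fun k => by
    rw [← Category.assoc, hec, Limits.pullback.lift_fst]
  haveI : IsIso π := Groth.Agent.H10Coh.AlgSupp.isIso_of_levels f π e fun k => by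
    refine (IsPullback.of_right (h₁₂ := CohB1.thickToBase f I k) (h₂₂ := f) ?_ ?_
      (IsPullback.of_hasPullback f (CohB1.specQuot I k)).flip).flip
    · rw [Category.id_comp]
      exact (show IsPullback (e k) (CohB1.thickToBase f I k) (π ≫ f) (CohB1.specQuot I k) from hπf ▸ hpb k).flip
    · rw [Category.id_comp]; exact (heπ k).symm
  refine ⟨inv π ≫ c ≫ Limits.pullback.snd f h, ?_, fun n => ?_⟩
  · rw [Category.assoc, Category.assoc, ← Limits.pullback.condition, ← Category.assoc c, IsIso.inv_hom_id_assoc]
  · rw [← heπ n, Category.assoc, IsIso.hom_inv_id_assoc, ← Category.assoc, hec, Limits.pullback.lift_snd]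

end Groth.Agent.S0039
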