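import Groth.Statements.S0040
import Groth.Agent.H10Coh.AlgebraizeSupp
import Groth.Agent.H10Coh.AmpleClosedFibre
-- import your own Groth.Agent.* helpers here

set_option autoImplicit false
universe u
open Coherent

namespace Groth.Agent.S0040

open AlgebraicGeometry CategoryTheory CategoryTheory.Limits in
/-- Let A be a Noetherian ring complete with respect to an ideal I, X a scheme separated and of finite
type over Spec A, and X_n = X ×_{Spec A} Spec(A/I^(n+1)) for n ≥ 0. Suppose given closed immersions
Z_n → X_n together with morphisms Z_n → Z_(n+1) forming cartesian squares with the transition maps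
X_n → X_(n+1), and suppose Z_0 is proper over Spec(A/I). Then there is a closed subscheme W → X,
proper over Spec A, with compatible morphisms Z_n → W making each Z_n the pullback W ×_X X_n. (The
published statement assumes only that Z_0 → X_0 is a closed immersion; here it is assumed for every
n.) -/
theorem result (A : Type u) [CommRing A] [IsNoetherianRing A]
    (I : Ideal A) [IsAdicComplete I A] {X : Scheme.{u}} (f : X ⟶ Spec (CommRingCat.of A))
    [IsSeparated f] [LocallyOfFiniteType f] [QuasiCompact f]
    (Z : ℕ → Scheme.{u}) (z : (n : ℕ) → (Z n ⟶ CohB1.thick f I n)) (t : (n : ℕ) → (Z n ⟶ Z (n + 1)))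
    (hz : ∀ n, IsClosedImmersion (z n))
    (ht : ∀ n, IsPullback (t n) (z n) (z (n + 1)) (CohB1.thickTrans f I n))
    (hp : IsProper (z 0 ≫ CohB1.thickToBase f I 0)) :
    ∃ (W : Scheme.{u}) (i : W ⟶ X) (w : (n : ℕ) → (Z n ⟶ W)), IsClosedImmersion i ∧
      IsProper (i ≫ f) ∧ (∀ n, w n = t n ≫ w (n + 1)) ∧ ∀ n, IsPullback (w n) (z n) i (CohB1.thickι f I n) := by
  letI : X.Over (Spec (CommRingCat.of A)) := ⟨f⟩
  have hcartX : ∀ k, IsPullback (CohB1.thickTrans f I k) (CohB1.thickToBase f I k) (CohB1.thickToBase f I (k + 1))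
      (CohB1.specQuotTrans I k) := fun k => Groth.Agent.H10Coh.ClosedFibre.isPullback_thickTrans (X := X) I k
  have hι : ∀ k, CohB1.thickTrans f I k ≫ CohB1.thickι f I (k + 1) = CohB1.thickι f I k := fun k =>
    Groth.Agent.H10Coh.ClosedFibre.thickTrans_ι (X := X) I k
  haveI : IsSeparated (X ↘ Spec (CommRingCat.of A)) := inferInstanceAs (IsSeparated f)
  haveI : LocallyOfFiniteType (X ↘ Spec (CommRingCat.of A)) := inferInstanceAs (LocallyOfFiniteType f)
  haveI : QuasiCompact (X ↘ Spec (CommRingCat.of A)) := inferInstanceAs (QuasiCompact f)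
  have hcl : ∀ k, IsClosedImmersion (CohB1.thickι f I k) := fun k =>
    MorphismProperty.of_isPullback (IsPullback.of_hasPullback f (CohB1.specQuot I k)).flip
      (IsClosedImmersion.spec_of_surjective _ Ideal.Quotient.mk_surjective)
  obtain ⟨W, c, e, hc, hcp, hec, hei, hpb⟩ :=
    Groth.Agent.H10Coh.AlgSupp.exists_closedSub (J := I) (Xs := Z) (p := fun k => z k ≫ CohB1.thickToBase f I k) (i := t)
      (fun k => (ht k).paste_vert (hcartX k)) hp (fun k => z k ≫ CohB1.thickι f I k)
      (fun k => by haveI := hz k; haveI := hcl k; infer_instance)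
      (fun k => by rw [← Category.assoc, (ht k).w, Category.assoc, hι k])
      (fun k => by rw [Category.assoc, Category.assoc]; exact congrArg (z k ≫ ·) Limits.pullback.condition)
  exact ⟨W, c, e, hc, hcp, hei, fun k =>
    (IsPullback.of_right (hpb k).flip (hec k).symm (IsPullback.of_hasPullback f (CohB1.specQuot I k)).flip).flip⟩

end Groth.Agent.S0040
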