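import Groth.Statements.S0045
import Groth.Agent.LeadDev.Filt

set_option autoImplicit false
universe u
open Coherent

namespace Groth.Agent.S0045

open AlgebraicGeometry CategoryTheory in
/-- On a Noetherian scheme, any increasing sequence of quasi-coherent submodules of a coherent module is
eventually constant. -/
theorem result (X : Scheme.{u}) [IsNoetherian X] (M : X.Modules)
    (hM : Coh.IsCoh M) (F : ℕ →o Subobject M) (hF : ∀ n, Coh.IsQCoh ((F n : Subobject M) : X.Modules)) :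
    ∃ n : ℕ, ∀ m : ℕ, n ≤ m → F m = F n := by
  haveI := hM.1
  have hc : ∀ n, Coh.IsCoh ((F n : Subobject M) : X.Modules) := fun n =>
    H10Coh.isCoh_of_mono (F n).arrow (hF n) hM
  obtain ⟨N, f, ⟨n, e, hf⟩, hmax⟩ := LeadDev.exists_maximal_sub M hM
    (fun N f => ∃ n, ∃ e : N ≅ ((F n : Subobject M) : X.Modules), e.hom ≫ (F n).arrow = f)
    (fun N f ⟨n, e, h⟩ => ⟨h ▸ inferInstance, H10Coh.isCoh_of_iso e.symm (hc n)⟩)
    ⟨_, (F 0).arrow, 0, Iso.refl _, Category.id_comp _⟩
  refine ⟨n, fun m hnm => ?_⟩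
  haveI := hmax _ (F m).arrow (e.hom ≫ Subobject.ofLE _ _ (F.mono hnm)) ⟨m, Iso.refl _, Category.id_comp _⟩
    (by rw [Category.assoc, Subobject.ofLE_arrow, hf])
  haveI : Epi (Subobject.ofLE _ _ (F.mono hnm)) := epi_of_epi e.hom _
  haveI := isIso_of_mono_of_epi (Subobject.ofLE _ _ (F.mono hnm))
  exact (Subobject.eq_of_comm (asIso (Subobject.ofLE _ _ (F.mono hnm))) (Subobject.ofLE_arrow _)).symm

end Groth.Agent.S0045
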