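import Groth.Statements.S0048
import Groth.Agent.LeadProper.Supp
import Groth.Agent.H10Coh.AffinePush

set_option autoImplicit false
universe u
open Coherent

namespace Groth.Agent.S0048

open AlgebraicGeometry CategoryTheory in
/-- Let U ⊆ X be open and T ⊆ U a subset closed in X. If F is a coherent (quasi-coherent of finite type,
i.e. `Coh.IsCoh`) module on U with support contained in T, then its direct image along U ↪ X is
again coherent in the same sense. (The published statement is for coherent modules in the usual
sense; here both hypothesis and conclusion use the notion `Coh.IsCoh`.) -/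
theorem result (X : Scheme.{u}) (U : X.Opens) (T : Set X)
    (hT : IsClosed T) (hTU : T ⊆ (U : Set X)) (F : (↑U : Scheme.{u}).Modules) (hF : Coh.IsCoh F)
    (hs : ∀ x : ↥U, x ∈ CohB1.support F → (x : X) ∈ T) : Coh.IsCoh ((Coh.push U.ι).obj F) := by
  obtain ⟨hq, hft⟩ := hF
  let I := Fitt.sheafIdeal F 0
  have hk : ClSub.KilledByIdeal I.subschemeι.ker F := by
    rw [Scheme.IdealSheafData.ker_subschemeι]; exact LeadProper.killedByIdeal_fitt F hq hft
  haveI := LeadProper.isIso_unit_of_killedByIdeal F hq I.subschemeι hk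
  let G := (Scheme.Modules.pullback I.subschemeι).obj F
  have hG : Coh.IsCoh G := ⟨H29Fitt.isQCoh_pullback _ F hq, H29Fitt.isFT_pullback _ F hq hft⟩
  let j := I.subschemeι ≫ U.ι
  have hr : Set.range j = (fun y : U => (y : X)) '' CohB1.support F := by
    have e : Set.range I.subschemeι = CohB1.support F := by
      rw [Scheme.IdealSheafData.range_subschemeι, LeadProper.support_eq_fitt F hq hft]
    ext x
    constructor
    · rintro ⟨z, rfl⟩
      exact ⟨I.subschemeι z, e ▸ ⟨z, rfl⟩, rfl⟩
    · rintro ⟨y, hy, rfl⟩
      obtain ⟨z, rfl⟩ := e.symm ▸ hy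
      exact ⟨z, rfl⟩
  haveI : IsClosedImmersion j := IsClosedImmersion.of_isPreimmersion j (by
    rw [hr]
    obtain ⟨C, hC, hCe⟩ := isClosed_induced_iff.1 (LeadProper.isClosed_support F hq hft)
    have : (fun y : U => (y : X)) '' CohB1.support F = C ∩ T := by
      ext x
      constructor
      · rintro ⟨y, hy, rfl⟩
        rw [← hCe] at hy; exact ⟨hy, hs y (by rw [← hCe]; exact hy)⟩
      · rintro ⟨hxC, hxT⟩
        exact ⟨⟨x, hTU hxT⟩, by rw [← hCe]; exact hxC, rfl⟩
    rw [this]; exact hC.inter hT)
  exact H10Coh.isCoh_of_iso (((Scheme.Modules.pushforwardComp I.subschemeι U.ι).app G).symm ≪≫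
    (Scheme.Modules.pushforward U.ι).mapIso
      (asIso ((Scheme.Modules.pullbackPushforwardAdjunction I.subschemeι).unit.app F)).symm)
    (H10Coh.isCoh_push_of_isFinite j G hG)

end Groth.Agent.S0048
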