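import Groth.Statements.S0049
import Groth.Agent.LeadDev.Basic

set_option autoImplicit false
universe u
open CategoryTheory CategoryTheory.Limits AlgebraicGeometry Opposite TopologicalSpace
open Coherent

namespace Groth.Agent.S0049

open AlgebraicGeometry CategoryTheory in
/-- On a Noetherian scheme, if the support of a coherent module F is the union of closed sets Z and Z',
there is a short exact sequence 0 → G' → F → G → 0 of coherent modules with G' supported in Z' and G
supported in Z. -/
theorem result (X : Scheme.{u}) [IsNoetherian X] (M : X.Modules) (hM : Coh.IsCoh M)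
    (Z Z' : Set X) (hZ : IsClosed Z) (hZ' : IsClosed Z') (h : CohB1.support M = Z ∪ Z') :
    ∃ S : ShortComplex X.Modules, S.ShortExact ∧ Nonempty (S.X₂ ≅ M) ∧ Coh.IsCoh S.X₁ ∧ Coh.IsCoh S.X₃ ∧
      CohB1.support S.X₁ ⊆ Z' ∧ CohB1.support S.X₃ ⊆ Z := by
  let U : X.Opens := ⟨Z'ᶜ, hZ'.isOpen_compl⟩
  let adj := Scheme.Modules.restrictAdjunction U.ι
  let P := Scheme.Modules.pushforward U.ι
  let R := Scheme.Modules.restrictFunctor U.ι
  let η : M ⟶ P.obj (R.obj M) := adj.unit.app M
  haveI : (R.obj M).IsQuasicoherent := LeadDev.isQCoh_restrict U.ι M hM.1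
  have hPq : (P.obj (R.obj M)).IsQuasicoherent := LeadDev.isQCoh_push_open U.ι _ this
  have hK : Coh.IsCoh (kernel η) := H10Coh.isCoh_kernel η hM hPq
  let π := cokernel.π (kernel.ι η)
  refine ⟨ShortComplex.mk (kernel.ι η) π (cokernel.condition _),
    ShortComplex.ShortExact.mk' (ShortComplex.exact_cokernel _) inferInstance inferInstance, ⟨Iso.refl _⟩, hK,
    H10Coh.isCoh_cokernel (kernel.ι η) hK.1 hM, ?_, ?_⟩
  · intro x hx
    by_contra hxZ
    refine LeadDev.notMem_support_of_isZero_restrict U.ι ?_ (show x ∈ Set.range U.ι by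
      rw [Scheme.Opens.range_ι]; exact hxZ) hx
    haveI : IsIso (R.map η) := by
      haveI : IsIso (R.map η ≫ adj.counit.app (R.obj M)) := by
        erw [adj.left_triangle_components]; infer_instance
      exact IsIso.of_isIso_comp_right _ (adj.counit.app (R.obj M))
    refine (IsZero.iff_id_eq_zero _).2 ?_
    have h0 : R.map (kernel.ι η) = 0 := by
      rw [← cancel_mono (R.map η), ← R.map_comp, kernel.condition, R.map_zero, zero_comp]
    haveI : Mono (R.map (kernel.ι η)) := inferInstance
    rw [← cancel_mono (R.map (kernel.ι η))]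
    exact (Category.id_comp _).trans (h0.trans zero_comp.symm)
  · intro x hx
    by_contra hxZ
    refine hx (subsingleton_of_forall_eq 0 fun a => ?_)
    obtain ⟨W, hxW, t, rfl⟩ := TopCat.Presheaf.exists_germ_eq _ a
    let V : X.Opens := W ⊓ ⟨Zᶜ, hZ.isOpen_compl⟩
    have hVW : V ≤ W := inf_le_left
    rw [← TopCat.Presheaf.germ_res_apply _ (homOfLE hVW) x ⟨hxW, hxZ⟩]
    suffices h0 : (cokernel (kernel.ι η)).presheaf.map (homOfLE hVW).op t = 0 by erw [h0, map_zero]
    refine H10Coh.injective_app_of_mono' (Abelian.factorThruCoimage η) V (Eq.trans ?_ (map_zero _).symm)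
    have h2 : ∀ s : Γ(M, U.ι ''ᵁ (U.ι ⁻¹ᵁ V)), s = 0 := fun s => by
      refine TopCat.Presheaf.section_ext (⟨M.presheaf, M.isSheaf⟩ : TopCat.Sheaf Ab.{u} X) _ _ _ fun y hy => ?_
      show M.presheaf.germ _ y hy s = M.presheaf.germ _ y hy 0
      rw [map_zero]
      have hyU : y ∈ U := U.ι_image_le _ hy
      have hyV : y ∈ V := U.ι.image_preimage_le V hy
      haveI : Subsingleton (M.presheaf.stalk y) := by
        by_contra hns
        have : y ∈ Z ∪ Z' := h ▸ hns
        rcases this with h1 | h1
        · exact hyV.2 h1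
        · exact hyU h1
      exact Subsingleton.elim _ _
    exact h2 _

end Groth.Agent.S0049
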