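import Groth.Statements.S0056
import Groth.Agent.LeadGE.AmpleLift

set_option autoImplicit false
set_option linter.style.haveILetI false
universe u
open Coherent

namespace Groth.Agent.S0056

open AlgebraicGeometry CategoryTheory CategoryTheory.Limits in
/-- Grothendieck's algebraization Theorem, with a slightly weaker conclusion. Let A be a Noetherian ring
complete for an ideal I, and S_n = Spec(A/I^(n+1)). Given schemes X_n over S_n with transition maps
X_n → X_(n+1) making each X_n the base change of X_(n+1) to S_n, with X_0 → S_0 proper, and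
invertible modules L_n on X_n with L_n ≅ (pullback of L_(n+1)) and L_0 ample, there exist a proper Y
→ Spec A, an ample invertible module M on Y and maps X_n → Y, compatible with the transition maps,
identifying X_n with Y ×_A S_n, under which L_n is isomorphic to the pullback of M. (The published
statement also makes these isomorphisms compatible with the given ones L_n ≅ (pullback of L_(n+1));
that compatibility is not asserted here.) -/
theorem result (A : Type u) [CommRing A]
    [IsNoetherianRing A] (I : Ideal A) [IsAdicComplete I A]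
    (Xs : ℕ → Scheme.{u}) (p : (n : ℕ) → (Xs n ⟶ Spec (CommRingCat.of (A ⧸ I ^ (n + 1)))))
    (i : (n : ℕ) → (Xs n ⟶ Xs (n + 1)))
    (hcart : ∀ n, IsPullback (i n) (p n) (p (n + 1)) (CohB1.specQuotTrans I n)) (hp : IsProper (p 0))
    (L : (n : ℕ) → (Xs n).Modules) (hL : ∀ n, PicF.IsInvertible (L n))
    (φ : ∀ n, Nonempty ((Scheme.Modules.pullback (i n)).obj (L (n + 1)) ≅ L n)) (ha : CohB1.IsAmple (L 0)) :
    ∃ (Y : Scheme.{u}) (g : Y ⟶ Spec (CommRingCat.of A)) (M : Y.Modules) (e : (n : ℕ) → (Xs n ⟶ Y)),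
      IsProper g ∧ PicF.IsInvertible M ∧ CohB1.IsAmple M ∧
      (∀ n, IsPullback (e n) (p n) g (CohB1.specQuot I n)) ∧ (∀ n, e n = i n ≫ e (n + 1)) ∧
      ∀ n, Nonempty ((Scheme.Modules.pullback (e n)).obj M ≅ L n) := by
  let φ' : ∀ n, (Scheme.Modules.pullback (i n)).obj (L (n + 1)) ≅ L n := fun n => (φ n).some
  obtain ⟨N, h, hcl, hi, hb⟩ := LeadGE.exists_embedding hcart hp hL φ' ha
  obtain ⟨LP, hLP⟩ := LeadGE.exists_ample_projSpaceOver N A
  letI : (CohB1.ProjSpaceOver N (Spec (CommRingCat.of A))).Over (Spec (CommRingCat.of A)) :=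
    ⟨CohB1.ProjSpaceOver.toBase N _⟩
  haveI : IsProper ((CohB1.ProjSpaceOver N (Spec (CommRingCat.of A))) ↘ Spec (CommRingCat.of A)) :=
    H27Weil.isProper_toBase N _
  obtain ⟨Y, c, e, hc, -, he, hpb⟩ := LeadGE.exists_closedSub hcart hp hLP h hcl hi hb
  haveI := hc
  letI : Y.Over (Spec (CommRingCat.of A)) :=
    ⟨c ≫ (CohB1.ProjSpaceOver N (Spec (CommRingCat.of A)) ↘ Spec (CommRingCat.of A))⟩
  haveI : IsProper (Y ↘ Spec (CommRingCat.of A)) := inferInstanceAs (IsProper (c ≫ _))
  haveI : IsLocallyNoetherian Y := LocallyOfFiniteType.isLocallyNoetherian (Y ↘ Spec (CommRingCat.of A))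
  haveI : CompactSpace Y := QuasiCompact.compactSpace_of_compactSpace (Y ↘ Spec (CommRingCat.of A))
  have hLY := H8Props.Ample.isAmple_pullback_of_isEmbedding c c.isClosedEmbedding.isEmbedding hLP
  haveI := LeadGE.isClosedImmersion_e e hpb
  have hLc : ∀ n, Coh.IsCoh (L n) := fun n =>
    haveI := LeadUV.isNoetherian_level I p i hcart hp n
    H10Coh.isCoh_of_iso (H10Coh.Tw.leftUnitIso (L n))
      (H11Ample.isCoh_tensor (H10Coh.isCoh_structureModule' (Xs n)) (hL n))
  obtain ⟨M, hM, ⟨ψ⟩⟩ := LeadGE.exists_algebraization hLY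
    (H24FSch.isCohFormal_pushSys I i e (fun n => (he n).symm) (LeadGE.ker_e e hpb) L hLc φ')
  obtain ⟨α, -⟩ := H24FSch.exists_isIso_of_completion_iso I i e (fun n => (he n).symm)
    (LeadGE.ker_e e hpb) L hLc φ' ψ
  have hMi : PicF.IsInvertible M := LeadGE.isInvertible_algebraization hcart e he hpb hM fun n =>
    H11Ample.isInvertible_of_gen fun x => by
      obtain ⟨V, g, hx, hg⟩ := H11Ample.exists_gen (hL n) x
      exact ⟨V, _, hx, H11Tilde.IsGen.map_iso (α n).symm hg⟩
  exact ⟨Y, Y ↘ Spec (CommRingCat.of A), M, e, inferInstance, hMi,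
    LeadGE.isAmple_algebraization hcart hp e he hpb hL φ' ha hMi α, hpb, he, fun n => ⟨α n⟩⟩

end Groth.Agent.S0056
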