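import Groth.Statements.S0060
import Groth.Agent.H24Formal.HomComplete
import Groth.Agent.LeadFF.ProperSupp
-- import your own Groth.Agent.* helpers here

set_option autoImplicit false
universe u
open Coherent

namespace Groth.Agent.S0060

open AlgebraicGeometry CategoryTheory Opposite in
/-- Let A be Noetherian and complete for I and X proper over Spec A. For coherent O_X-modules M, N,
every morphism of inverse systems (M/I^nM) → (N/I^nN) is induced by a unique morphism M → N; that
is, the completion functor is fully faithful on coherent modules. -/
theorem result (A : Type u) [CommRing A] [IsNoetherianRing A]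
    (I : Ideal A) [IsAdicComplete I A] (X : Scheme.{u}) [X.Over (Spec (CommRingCat.of A))]
    [IsProper (X ↘ Spec (CommRingCat.of A))] (M N : X.Modules) (hM : Coh.IsCoh M) (hN : Coh.IsCoh N)
    (τ : Formal.completion I M ⟶ Formal.completion I N) :
    ∃! φ : M ⟶ N, ∀ n : ℕ, Formal.modPowπ I (n + 1) M ≫ τ.app (op n) = φ ≫ Formal.modPowπ I (n + 1) N := by
  let f := X ↘ Spec (CommRingCat.of A)
  haveI : IsLocallyNoetherian X := LocallyOfFiniteType.isLocallyNoetherian f
  exact Groth.Agent.H24Formal.HomC.existsUnique_hom I hM hN
    (Groth.Agent.LeadProper.isProperOver_mono ((Groth.Agent.LeadProper.isProperOver_iff f (𝟙 X) Set.range_id).2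
      (by rw [Category.id_comp]; infer_instance))
      ((Groth.Agent.LeadProper.isClosed_support M hM.1 hM.2).inter (Groth.Agent.LeadProper.isClosed_support N hN.1 hN.2))
      (Set.subset_univ _)) τ

end Groth.Agent.S0060
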