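import Groth.Statements.S0062
import Groth.Agent.H10Coh.AmpleClosedFibre
import Groth.Agent.S11319
import Groth.Agent.LeadBC.StalkRpush
import Groth.Agent.H10Coh.Pn.Results
import Groth.Agent.H17.ConsModModels
-- import your own Groth.Agent.* helpers here

set_option autoImplicit false
set_option linter.style.haveILetI false
universe u
open CategoryTheory CategoryTheory.Limits AlgebraicGeometry
open Coherent

namespace Groth.Agent.S0062

open AlgebraicGeometry CategoryTheory in
/-- Let f : X → Y be proper with Y Noetherian, L invertible on X, F coherent on X, and y a point such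
that the pullback of L to the fibre X_y is ample. Then there is d₀ such that for all d ≥ d₀ and p >
0 the stalk at y of R^p f_*(F ⊗ L^{⊗d}) vanishes. (The surjectivity assertion on global sections of
the fibre is not stated.) -/
theorem result {X Y : Scheme.{u}} (f : X ⟶ Y) [IsProper f]
    [IsNoetherian Y] (L : X.Modules) (hL : PicF.IsInvertible L) (M : X.Modules) (hM : Coh.IsCoh M) (y : Y)
    (hy : CohB1.IsAmple ((Scheme.Modules.pullback (f.fiberι y)).obj L)) :
    ∃ d₀ : ℕ, ∀ d : ℕ, d₀ ≤ d → ∀ p : ℕ, 0 < p →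
      Limits.IsZero (TopCat.Presheaf.stalk
        ((Coh.RpushAb f p).obj (Coh.toAb (CohB1.tensorMod M (CohB1.tensorPow L d)))).obj y) := by
  haveI := Groth.Agent.H10Coh.enoughInjMod X
  haveI : IsLocallyNoetherian X := LocallyOfFiniteType.isLocallyNoetherian f
  let O := Y.presheaf.stalk y
  let X₁ := Limits.pullback f (Y.fromSpecStalk y)
  letI : X₁.Over (Spec (CommRingCat.of O)) := ⟨Limits.pullback.snd f (Y.fromSpecStalk y)⟩
  let g : X₁ ⟶ X := Limits.pullback.fst f (Y.fromSpecStalk y)
  have hsq : IsPullback g (X₁ ↘ Spec (CommRingCat.of O)) f (Y.fromSpecStalk y) := IsPullback.of_hasPullback _ _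
  haveI : IsProper (X₁ ↘ Spec (CommRingCat.of O)) := MorphismProperty.of_isPullback hsq (inferInstance : IsProper f)
  haveI : IsNoetherianRing O := inferInstance
  obtain ⟨d₀, hd₀⟩ := Groth.Agent.H10Coh.ClosedFibre.exists_vanishing (IsLocalRing.maximalIdeal O)
    (IsLocalRing.maximalIdeal_le_jacobson _) (Groth.Agent.H11Ample.isInvertible_pullback g hL)
    (Groth.Agent.H10Coh.ClosedFibre.isAmple_thickι_of_fibre f y g hsq hy)
    (Groth.Agent.H17.ConsProp.isCoh_pullback g hM)
  refine ⟨d₀, fun d hd p hp => ?_⟩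
  let N := CohB1.tensorMod M (CohB1.tensorPow L d)
  have hN : Coh.IsCoh N := Groth.Agent.H11Ample.isCoh_tensor hM (Groth.Agent.H11Ample.isInvertible_tensorPow hL d)
  haveI := hN.1
  obtain ⟨e⟩ := Groth.Agent.LeadBC.exists_stalkEquiv f N y p X₁ g hsq
  obtain ⟨w⟩ := Groth.Agent.H11Ample.exists_iso_pullback_tensorPow g hL d
  let v : (Scheme.Modules.pullback g).obj N ≅ CohB1.tensorMod ((Scheme.Modules.pullback g).obj M)
      (CohB1.tensorPow ((Scheme.Modules.pullback g).obj L) d) :=
    (Groth.Agent.H16Derived.KFlat.Stalk.pullTensorLIso g (CohB1.tensorPow L d)).app M ≪≫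
      PicGrp.tensorModIso (Iso.refl _) w
  haveI : Subsingleton (Coh.HH X₁ ((Scheme.Modules.pullback g).obj N) p) :=
    Groth.Agent.H10Coh.subsingleton_HH_of_iso v.symm p (hd₀ d hd p hp)
  haveI : Subsingleton (((Coh.Rpush f p).obj N).presheaf.stalk y) := e.toEquiv.symm.subsingleton
  obtain ⟨i⟩ := Groth.Agent.S11319.result f N p
  haveI : Subsingleton (((TopCat.Presheaf.stalkFunctor Ab.{u} y).obj
      ((sheafToPresheaf _ _).obj (Coh.toAb ((Coh.Rpush f p).obj N))))) :=
    inferInstanceAs (Subsingleton (((Coh.Rpush f p).obj N).presheaf.stalk y))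
  exact (AddCommGrpCat.isZero_of_subsingleton _).of_iso ((TopCat.Presheaf.stalkFunctor Ab.{u} y).mapIso
    ((sheafToPresheaf _ _).mapIso i)).symm

end Groth.Agent.S0062
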