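import Groth.Statements.S0064
import Mathlib.AlgebraicGeometry.Morphisms.QuasiFinite
import Mathlib.AlgebraicGeometry.Morphisms.FormallyUnramified
import Mathlib.AlgebraicGeometry.Morphisms.Separated
import Mathlib.AlgebraicGeometry.ResidueField
import Mathlib.AlgebraicGeometry.Noetherian
import Mathlib.RingTheory.Unramified.LocalStructure
import Mathlib.FieldTheory.PrimitiveElement

set_option autoImplicit false
open CategoryTheory CategoryTheory.Limits AlgebraicGeometry Opposite
universe u
open EtBase

namespace Groth.Agent.S0064

/-- Let S be a Noetherian scheme, X → S a quasi-compact, separated, unramified morphism (formally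
unramified and locally of finite type), and Y a Noetherian scheme with a morphism Y → S. Then there
are only finitely many S-morphisms Y → X. The published statement does not assume X → S separated;
it is stated here in the separated case. -/
theorem result {X S Y : Scheme.{u}} [IsNoetherian S] [IsNoetherian Y]
    (π : X ⟶ S) [FormallyUnramified π] [LocallyOfFiniteType π] [QuasiCompact π] [IsSeparated π]
    (h : Y ⟶ S) : Set.Finite {f : Y ⟶ X | f ≫ π = h} := by
  have hlqf : LocallyQuasiFinite π := by
    rw [HasRingHomProperty.iff_appLE (P := @LocallyQuasiFinite)]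
    intro W O e
    have h1 := HasRingHomProperty.appLE @FormallyUnramified π ‹_› W O e
    have h2 := HasRingHomProperty.appLE @LocallyOfFiniteType π ‹_› W O e
    algebraize [(π.appLE W.1 O.1 e).hom]
    exact (inferInstance : Algebra.QuasiFinite Γ(S, W.1) Γ(X, O.1))
  -- finitely many lifts of a field-valued point
  have hpt : ∀ (K : Type u) [Field K] (v : Spec (CommRingCat.of K) ⟶ S),
      Set.Finite {t : Spec (CommRingCat.of K) ⟶ X | t ≫ π = v} := by
    intro K _ v
    let s := v (IsLocalRing.closedPoint K)
    haveI : Finite {x : X // π x = s} := (π.finite_preimage_singleton s).to_subtype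
    refine Set.finite_coe_iff.1 (@Finite.of_injective _ (Σ x : {x : X // π x = s},
      {i : X.residueField x.1 ⟶ CommRingCat.of K // π.residueFieldMap x.1 ≫ i =
        (S.residueFieldCongr x.2).hom ≫
          S.descResidueField (Scheme.stalkClosedPointTo v)})
      ?_ (fun t => ?_) ?_)
    · refine @Finite.instSigma _ _ _ fun x => ?_
      let := (π.residueFieldMap x.1).hom.toAlgebra
      let j := ((S.residueFieldCongr x.2).hom ≫
          S.descResidueField (Scheme.stalkClosedPointTo v))
      let := j.hom.toAlgebra
      haveI : Module.Finite (S.residueField (π x.1)) (X.residueField x.1) := by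
        algebraize [(π.stalkMap x.1).hom]
        have : IsLocalHom (algebraMap (S.presheaf.stalk (π x.1)) (X.presheaf.stalk x.1)) :=
          inferInstanceAs <| IsLocalHom (π.stalkMap x.1).hom
        have : Algebra.EssFiniteType (S.presheaf.stalk (π x.1)) (X.presheaf.stalk x.1) := by
          rw [← RingHom.essFiniteType_algebraMap, RingHom.algebraMap_toAlgebra]
          exact LocallyOfFiniteType.stalkMap π x.1
        have : Algebra.FormallyUnramified (S.presheaf.stalk (π x.1)) (X.presheaf.stalk x.1) := by
          rw [← RingHom.formallyUnramified_algebraMap, RingHom.algebraMap_toAlgebra]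
          exact FormallyUnramified.stalkMap π x.1
        suffices hfin : Module.Finite (IsLocalRing.ResidueField (S.presheaf.stalk (π x.1)))
            (IsLocalRing.ResidueField (X.presheaf.stalk x.1)) by
          have hm : ((π.residueFieldMap x.1).hom.toAlgebra :
              Algebra (S.residueField (π x.1)) (X.residueField x.1)) =
              ((inferInstance : Algebra (IsLocalRing.ResidueField (S.presheaf.stalk (π x.1)))
                (IsLocalRing.ResidueField (X.presheaf.stalk x.1)))) :=
            Algebra.algebra_ext _ _ fun z => by
              obtain ⟨z, rfl⟩ := IsLocalRing.residue_surjective z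
              rfl
          show @Module.Finite _ _ _ _ (((π.residueFieldMap x.1).hom.toAlgebra :
              Algebra (S.residueField (π x.1)) (X.residueField x.1))).toModule
          rw [hm]
          exact hfin
        infer_instance
      haveI : Algebra.IsSeparable (S.residueField (π x.1)) (X.residueField x.1) := inferInstance
      refine Finite.of_injective (fun i => (⟨i.1.hom, fun c => RingHom.congr_fun (congrArg
        CommRingCat.Hom.hom i.2) c⟩ : X.residueField x.1 →ₐ[S.residueField (π x.1)] K)) ?_
      intro i i' he
      exact Subtype.ext (CommRingCat.hom_ext (congrArg AlgHom.toRingHom he))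
    · refine ⟨⟨t.1 (IsLocalRing.closedPoint K), congrArg (fun g : _ ⟶ S => g (IsLocalRing.closedPoint K)) t.2⟩,
        X.descResidueField (Scheme.stalkClosedPointTo t.1), ?_⟩
      have e := congrArg (Scheme.SpecToEquivOfField K S) t.2
      obtain ⟨e1, e2⟩ := Scheme.SpecToEquivOfField_eq_iff.1 e
      rw [Scheme.SpecToEquivOfField_apply_snd, Scheme.SpecToEquivOfField_apply_snd] at e2
      exact (Scheme.descResidueField_stalkClosedPointTo_comp π t.1).symm.trans e2
    · intro t₁ t₂ he
      apply Subtype.ext
      apply (Scheme.SpecToEquivOfField K X).injective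
      exact congrArg (fun p : Σ x : {x : X // π x = s}, {i : X.residueField x.1 ⟶ CommRingCat.of K // _} =>
        (⟨p.1.1, p.2.1⟩ : Σ x, X.residueField x ⟶ CommRingCat.of K)) he
  -- maps are determined at the generic points
  haveI : Finite (genericPoints Y) :=
    (genericPoints.finite TopologicalSpace.NoetherianSpace.finite_irreducibleComponents).to_subtype
  haveI : ∀ η : genericPoints Y, Finite {t : Spec (Y.residueField η.1) ⟶ X //
      t ≫ π = Y.fromSpecResidueField η.1 ≫ h} := fun η => (hpt (Y.residueField η.1) (Y.fromSpecResidueField η.1 ≫ h)).to_subtype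
  refine Set.finite_coe_iff.1 (Finite.of_injective (β := ∀ η : genericPoints Y, {t : Spec (Y.residueField η.1) ⟶ X //
      t ≫ π = Y.fromSpecResidueField η.1 ≫ h})
    (fun f η => ⟨Y.fromSpecResidueField η.1 ≫ f.1, (Category.assoc _ _ _).trans (congrArg (Y.fromSpecResidueField η.1 ≫ ·) f.2)⟩) ?_)
  rintro ⟨f, hf⟩ ⟨g, hg⟩ he
  apply Subtype.ext
  show f = g
  have hfg : f ≫ π = g ≫ π := hf.trans hg.symm
  let m : Y ⟶ pullback π π := pullback.lift f g hfg
  let j := pullback.fst m (pullback.diagonal π)
  have hj : j ≫ f = j ≫ g := by
    have h0 := pullback.condition (f := m) (g := pullback.diagonal π)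
    have h1 := congrArg (· ≫ pullback.fst π π) h0
    have h2 := congrArg (· ≫ pullback.snd π π) h0
    simp only [Category.assoc, pullback.diagonal_fst, pullback.diagonal_snd, m, pullback.lift_fst,
      pullback.lift_snd] at h1 h2
    exact h1.trans h2.symm
  have hgen : genericPoints Y ⊆ Set.range j.base := by
    intro η hη
    have ht : Y.fromSpecResidueField η ≫ f = Y.fromSpecResidueField η ≫ g :=
      congrArg Subtype.val (congrFun he ⟨η, hη⟩)
    let s : Spec (Y.residueField η) ⟶ pullback m (pullback.diagonal π) :=
      pullback.lift (Y.fromSpecResidueField η) (Y.fromSpecResidueField η ≫ f) (by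
        refine pullback.hom_ext ?_ ?_
        · simp only [Category.assoc, pullback.diagonal_fst, Category.comp_id, m]
          exact congrArg (Y.fromSpecResidueField η ≫ ·) (pullback.lift_fst f g hfg)
        · simp only [Category.assoc, pullback.diagonal_snd, Category.comp_id, m]
          exact (congrArg (Y.fromSpecResidueField η ≫ ·) (pullback.lift_snd f g hfg)).trans ht.symm)
    refine ⟨s (IsLocalRing.closedPoint _), ?_⟩
    show (s ≫ j) (IsLocalRing.closedPoint _) = η
    exact (congrArg (fun g : Spec (Y.residueField η) ⟶ Y => g (IsLocalRing.closedPoint _))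
      (show s ≫ j = Y.fromSpecResidueField η from pullback.lift_fst _ _ _)).trans
      (Y.fromSpecResidueField_apply η _)
  haveI : Surjective j := ⟨fun y => by
    obtain ⟨η, hη, hy⟩ : ∃ η ∈ genericPoints Y, η ⤳ y := by
      refine ⟨genericPoints.ofComponent ⟨irreducibleComponent y,
        irreducibleComponent_mem_irreducibleComponents y⟩ |>.1, Subtype.prop _, ?_⟩
      exact (genericPoints.isGenericPoint_ofComponent _).specializes mem_irreducibleComponent
    exact hy.mem_closed j.isClosedEmbedding.isClosed_range (hgen hη)⟩
  haveI : IsIso j := by
    rw [isIso_iff_isOpenImmersion_and_epi_base]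
    exact ⟨inferInstance, (TopCat.epi_iff_surjective _).2 j.surjective⟩
  exact (cancel_epi j).1 hj

end Groth.Agent.S0064
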