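import Groth.Statements.S0068
import Groth.Agent.H18Et.PushClosed

set_option autoImplicit false
open CategoryTheory CategoryTheory.Limits AlgebraicGeometry Opposite
universe u
open EtBase

open scoped Groth.Agent.H18Et

namespace Groth.Agent.S0068

/-- Part (2), second half — an abelian étale sheaf is a pushforward from a closed subscheme exactly when
its sections vanish over every étale scheme mapping into the open complement. -/
theorem result {Z X : Scheme.{u}} (i : Z ⟶ X) [IsClosedImmersion i] [EtCoh.BCCont i]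
    (F : EtCoh.Ab X) :
    (EtCoh.push i).essImage F ↔
      ∀ U : X.Etale, Disjoint (Set.range U.hom.base) (Set.range i.base) → IsZero (F.obj.obj (op U)) := by
  have hcl := i.isClosedEmbedding.isClosed_range
  rw [Groth.Agent.H18Et.push_essImage_iff
    (Groth.Agent.H18Et.liftsEtaleUniv_of_isClosedImmersion i) hcl]
  constructor
  · intro h U hU
    refine AddCommGrpCat.isZero_iff_subsingleton.2 (subsingleton_of_forall_eq 0 fun s => ?_)
    refine Groth.Agent.H18Et.sect_ext (F := F) (U := U) s 0 fun Ω _ _ ξ z =>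
      ((Groth.Agent.H18Et.germ_eq_zero_iff F z s).2 fun hz => ?_).trans (map_zero _).symm
    refine Set.disjoint_left.1 hU ⟨Groth.Agent.H18Et.ptOf z, rfl⟩ (h ?_)
    rw [Groth.Agent.H18Et.supp_eq_iUnion]
    exact Set.mem_iUnion.2 ⟨U, Set.mem_iUnion.2 ⟨s, _, hz, rfl⟩⟩
  · intro h x hx
    by_contra hxr
    rw [Groth.Agent.H18Et.supp_eq_iUnion] at hx
    obtain ⟨U, hx⟩ := Set.mem_iUnion.1 hx
    obtain ⟨s, u, hu, rfl⟩ := Set.mem_iUnion.1 hx
    have : Etale U.hom := U.prop
    let O : U.left.Opens := U.hom ⁻¹ᵁ ⟨(Set.range i.base)ᶜ, hcl.isOpen_compl⟩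
    let V : X.Etale := MorphismProperty.Over.mk ⊤ (O.ι ≫ U.hom) (inferInstanceAs (Etale (O.ι ≫ U.hom)))
    let g : V ⟶ U := MorphismProperty.Over.homMk O.ι rfl trivial
    have h0 := AddCommGrpCat.isZero_iff_subsingleton.1 (h V (Set.disjoint_left.2 (by
      rintro _ ⟨v, rfl⟩; exact v.2)))
    exact hu V g ⟨⟨u, hxr⟩, rfl⟩ (h0.elim _ _)

end Groth.Agent.S0068
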