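import Groth.Statements.S0071
import Groth.Agent.H18Et.Vanishing

set_option autoImplicit false
open CategoryTheory CategoryTheory.Limits AlgebraicGeometry Opposite
universe u
open EtBase

open scoped Groth.Agent.H18Et

namespace Groth.Agent.S0071

/-- Part (2) — higher direct images of an abelian étale sheaf along a finite morphism vanish in positive
degrees. -/
theorem result {X Y : Scheme.{u}} (f : X ⟶ Y) [IsFinite f] [EtCoh.BCCont f]
    (F : EtCoh.Ab X) (q : ℕ) (hq : 1 ≤ q) : IsZero ((EtCoh.Rpush f q).obj F) := by
  have hep : (EtCoh.push f).PreservesEpimorphisms := ⟨fun {A B} φ _ => by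
    have : CategoryTheory.Sheaf.IsLocallySurjective φ :=
      (CategoryTheory.Sheaf.isLocallySurjective_iff_epi' AddCommGrpCat.{u + 1} φ).2 inferInstance
    have := Groth.Agent.H18Et.isLocallySurjective_push f
      (Groth.Agent.H18Et.propB_of_isIntegralHom f) φ
    exact CategoryTheory.Sheaf.epi_of_isLocallySurjective _⟩
  have : (EtCoh.push f).IsRightAdjoint := ⟨_, ⟨EtCoh.pullPushAdj f⟩⟩
  have : PreservesFiniteColimits (EtCoh.push f) := by
    refine ((EtCoh.push f).preservesFiniteColimits_tfae.out 0 3 rfl rfl).1 fun S hS => ?_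
    have := hS.epi_g
    have := hS.mono_f
    exact ⟨hS.exact.map_of_mono_of_preservesKernel (EtCoh.push f) inferInstance inferInstance,
      inferInstance⟩
  exact Groth.Agent.H18Et.isZero_rightDerived (EtCoh.push f) F hq

end Groth.Agent.S0071
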