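import Groth.Statements.S0072
import Groth.Agent.H18Et.FibreSections
import Mathlib.CategoryTheory.Limits.Shapes.ConcreteCategory

set_option autoImplicit false
open CategoryTheory CategoryTheory.Limits AlgebraicGeometry Opposite
universe u
open EtBase

open scoped Groth.Agent.H18Et

namespace Groth.Agent.S0072

/-- Let f : X → Y be a finite morphism of schemes, F an abelian sheaf on X_ét, and η : Spec Ω → Y a
geometric point with Ω algebraically closed. Then the stalk (f_*F)_η is isomorphic to the direct sum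
of the stalks F_ξ over the geometric points ξ : Spec Ω → X lying over η (those with f ∘ ξ = η). Only
the existence of an isomorphism is asserted; the published statement gives a canonical
identification. -/
theorem result {X Y : Scheme.{u}} (f : X ⟶ Y) [IsFinite f] [EtCoh.BCCont f]
    (F : EtCoh.Ab X) {Ω : Type u} [Field Ω] [IsAlgClosed Ω] (η : Spec (CommRingCat.of Ω) ⟶ Y) :
    Nonempty ((EtCoh.stalk η).obj ((EtCoh.push f).obj F) ≅
      ∐ fun ξ : {ξ : Spec (CommRingCat.of Ω) ⟶ X // ξ ≫ f = η} => (EtCoh.stalk ξ.1).obj F) := by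
  let κ : ∀ ξ : H18Et.Pts f η, (EtCoh.stalk η).obj ((EtCoh.push f).obj F) ⟶ (EtCoh.stalk ξ.1).obj F :=
    fun ξ => (H18Et.pushEval ξ).app F
  have : Finite (H18Et.Pts f η) := H18Et.finite_pts f η
  let G : H18Et.Pts f η → AddCommGrpCat.{u + 1} := fun ξ => (EtCoh.stalk ξ.1).obj F
  have hcomp : ∀ ξ a, Pi.π G ξ (Pi.lift κ a) = κ ξ a := fun ξ a =>
    ConcreteCategory.congr_hom (Pi.lift_π κ ξ) a
  have hiso : IsIso (Pi.lift κ) := by
    rw [ConcreteCategory.isIso_iff_bijective]
    refine ⟨fun a b h => H18Et.pushEval_jointly_injective F a b fun ξ =>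
      (hcomp ξ a).symm.trans ((congrArg (Pi.π G ξ) h).trans (hcomp ξ b)), fun e => ?_⟩
    obtain ⟨a, ha⟩ := H18Et.exists_pushEval_eq_of_finite F fun ξ => Pi.π G ξ e
    refine ⟨a, Limits.Concrete.limit_ext (Discrete.functor G) _ _ ?_⟩
    rintro ⟨ξ⟩
    exact (hcomp ξ a).trans (ha ξ)
  exact ⟨asIso (Pi.lift κ) ≪≫ (biproduct.isoProduct G).symm ≪≫ biproduct.isoCoproduct G⟩

end Groth.Agent.S0072
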