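import Groth.Statements.S0077
import Mathlib.RingTheory.Noetherian.Basic
import Mathlib.Algebra.Polynomial.Derivative
import Mathlib.Algebra.CharP.Algebra

set_option autoImplicit false
universe u
open EtBase

namespace Groth.Agent.S0077

/-- First half — on a finite-dimensional vector space over an algebraically closed field of
characteristic p, any additive p-semilinear map F has F − id surjective. -/
theorem result {k V : Type u} [Field k] [IsAlgClosed k] (p : ℕ) [Fact p.Prime] [CharP k p]
    [AddCommGroup V] [Module k V] [FiniteDimensional k V] (F : V →+ V)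
    (hF : ∀ (c : k) (v : V), F (c • v) = c ^ p • F v) :
    Function.Surjective fun v => F v - v := by
  classical
  intro w
  let T : ℕ → V := fun i => (F^[i]) w
  let W : ℕ →o Submodule k V :=
    ⟨fun n => Submodule.span k (T '' Set.Iio n), fun a b hab =>
      Submodule.span_mono (Set.image_mono (Set.Iio_subset_Iio hab))⟩
  obtain ⟨n, hn⟩ := monotone_stabilizes_iff_noetherian.2 (inferInstance : IsNoetherian k V) W
  have hTn : T n ∈ Submodule.span k (Set.range fun i : Fin n => T i) := by
    have h1 : T n ∈ W n := by
      rw [hn (n + 1) n.le_succ]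
      exact Submodule.subset_span ⟨n, Nat.lt_succ_self n, rfl⟩
    refine Submodule.span_mono ?_ h1
    rintro _ ⟨i, hi, rfl⟩
    exact ⟨⟨i, hi⟩, rfl⟩
  obtain ⟨a', ha'⟩ := (Submodule.mem_span_range_iff_exists_fun k).1 hTn
  cases n with
  | zero =>
    refine ⟨0, ?_⟩
    have hw0 : w = 0 := by simpa [T] using ha'.symm
    simp [hw0]
  | succ m =>
    let a : ℕ → k := fun i => if hi : i < m + 1 then a' ⟨i, hi⟩ else 0
    have ha : ∑ i ∈ Finset.range (m + 1), a i • T i = T (m + 1) := by
      rw [← Fin.sum_univ_eq_sum_range (fun i => a i • T i), ← ha']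
      exact Finset.sum_congr rfl fun i _ => by simp [a, Nat.lt_succ_iff.1 i.2]
    have hp : p.Prime := Fact.out
    let q : ℕ → Polynomial k := fun i => Nat.rec (Polynomial.C (a 0) * Polynomial.X ^ p - 1)
      (fun i r => r ^ p + Polynomial.C (a (i + 1)) * Polynomial.X ^ p) i
    have hder : ∀ i, (q i).derivative = 0 := by
      intro i
      induction i with
      | zero => simp [q, Polynomial.derivative_X_pow]
      | succ i _ => simp [q, Polynomial.derivative_X_pow, Polynomial.derivative_pow]
    have hdeg : (q m - Polynomial.X).degree ≠ 0 := by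
      intro h0
      have := Polynomial.eq_C_of_degree_eq_zero h0
      have h2 := congrArg Polynomial.derivative this
      rw [Polynomial.derivative_sub, hder, Polynomial.derivative_C, Polynomial.derivative_X] at h2
      simp at h2
    obtain ⟨y, hy⟩ := IsAlgClosed.exists_root _ hdeg
    let x : ℕ → k := fun i => (q i).eval y
    have hxm : x m = y := by simpa [x, sub_eq_zero] using hy
    have hx0 : x 0 = a 0 * y ^ p - 1 := by simp [x, q]
    have hxs : ∀ i, x (i + 1) = x i ^ p + a (i + 1) * y ^ p := fun i => by simp [x, q]
    refine ⟨∑ i ∈ Finset.range (m + 1), x i • T i, ?_⟩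
    show F (∑ i ∈ Finset.range (m + 1), x i • T i) - (∑ i ∈ Finset.range (m + 1), x i • T i) = w
    have hFT : ∀ i, F (T i) = T (i + 1) := fun i => (Function.iterate_succ_apply' F i w).symm
    rw [map_sum]
    simp only [hF, hFT]
    rw [Finset.sum_range_succ (fun i => x i ^ p • T (i + 1)), hxm, ← ha, Finset.smul_sum,
      Finset.sum_range_succ' (fun i => y ^ p • a i • T i),
      Finset.sum_range_succ' (fun i => x i • T i)]
    simp only [hx0, hxs, add_smul, sub_smul, one_smul, Finset.sum_add_distrib, smul_smul]
    simp only [mul_comm (a _) (y ^ p)]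
    have hT0 : T 0 = w := rfl
    rw [hT0]
    abel

end Groth.Agent.S0077
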