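import Groth.Statements.S0078
import Mathlib.LinearAlgebra.Dimension.Finite
import Mathlib.LinearAlgebra.Dimension.StrongRankCondition
import Mathlib.FieldTheory.Finite.Basic
import Mathlib.LinearAlgebra.Finsupp.LinearCombination
import Mathlib.Algebra.Algebra.ZMod

set_option autoImplicit false
universe u
open EtBase

namespace Groth.Agent.S0078

/-- Second half — for such an F the fixed vectors F v = v form a finite set of size at most p ^ dim V
(an F_p-space of dimension at most dim V). -/
theorem result {k V : Type u} [Field k] [IsAlgClosed k] (p : ℕ) [Fact p.Prime] [CharP k p]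
    [AddCommGroup V] [Module k V] [FiniteDimensional k V] (F : V →+ V)
    (hF : ∀ (c : k) (v : V), F (c • v) = c ^ p • F v) :
    Set.Finite {v : V | F v = v} ∧ Nat.card {v : V | F v = v} ≤ p ^ Module.finrank k V := by
  classical
  obtain ⟨b, hbW, hspan, hli⟩ := exists_linearIndependent k {v : V | F v = v}
  haveI : Finite b := hli.finite
  haveI := Fintype.ofFinite b
  letI : Algebra (ZMod p) k := ZMod.algebra k p
  let Φ : (b → ZMod p) → V := fun c => ∑ i, algebraMap (ZMod p) k (c i) • (i : V)
  have hmem : ∀ v : V, F v = v → ∃ c, Φ c = v := by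
    intro v hv
    have : v ∈ Submodule.span k (Set.range ((↑) : b → V)) := by
      rw [Subtype.range_coe, hspan]; exact Submodule.subset_span hv
    obtain ⟨c, hc⟩ := (Submodule.mem_span_range_iff_exists_fun k).1 this
    have hc' : ∑ i, c i ^ p • (i : V) = v := by
      calc ∑ i, c i ^ p • (i : V) = ∑ i, F (c i • (i : V)) :=
            Finset.sum_congr rfl fun i _ => by rw [hF, show F (i : V) = i from hbW i.2]
        _ = F (∑ i, c i • (i : V)) := (map_sum F _ _).symm
        _ = v := by rw [hc, hv]
    have heq : ∀ i, c i ^ p = c i := fun i =>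
      Fintype.linearIndependent_iff.1 hli (fun j => c j ^ p - c j)
        (by simp only [sub_smul, Finset.sum_sub_distrib, hc', hc, sub_self]) i |> sub_eq_zero.1
    have hz : ∀ i, ∃ z : ZMod p, algebraMap (ZMod p) k z = c i := fun i => by
      have hmem : c i ∈ (⊥ : Subfield k) := (Subfield.mem_bot_iff_pow_eq_self (F := k) (p := p)).2 (heq i)
      exact (bot_le : (⊥ : Subfield k) ≤ (algebraMap (ZMod p) k).fieldRange) hmem
    choose z hz using hz
    exact ⟨z, by simp only [Φ, hz]; exact hc⟩
  have hsub : {v : V | F v = v} ⊆ Set.range Φ := fun v hv => hmem v hv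
  refine ⟨(Set.finite_range Φ).subset hsub, ?_⟩
  calc Nat.card {v : V | F v = v} ≤ Nat.card (Set.range Φ) := Nat.card_mono (Set.finite_range Φ) hsub
    _ ≤ Nat.card (b → ZMod p) := Finite.card_range_le Φ
    _ = p ^ Fintype.card b := by simp [Nat.card_eq_fintype_card, Fintype.card_fun]
    _ ≤ p ^ Module.finrank k V :=
        Nat.pow_le_pow_right (Fact.out : p.Prime).pos hli.fintype_card_le_finrank

end Groth.Agent.S0078
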