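import Groth.Statements.S0089
import Groth.Agent.H9Hens.EtaleSepGeneric
import Mathlib
-- import your own Groth.Agent.* helpers here

set_option autoImplicit false
open CategoryTheory CategoryTheory.Limits AlgebraicGeometry Opposite
universe u
open EtBase

namespace Groth.Agent.S0089

open TopologicalSpace
open Groth.Agent.H9Hens.EtaleSepGeneric

variable {U X : Scheme.{u}} [IsIntegral X] [IsSepClosed X.functionField] (g : U ⟶ X) [AlgebraicGeometry.Etale g]

theorem finite_generic_inter (W : U.Opens) (hW : IsAffineOpen W) :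
    {a : U | a ∈ W ∧ g a = genericPoint X}.Finite := by
  let h : (W : Scheme.{u}) ⟶ X := W.ι ≫ g
  haveI : IsAffine (W : Scheme.{u}) := hW
  haveI : QuasiCompact (X.fromSpecResidueField (genericPoint X)) := inferInstance
  have hr : Set.range (pullback.fst h (X.fromSpecResidueField (genericPoint X))).base =
      h.base ⁻¹' {genericPoint X} := by
    rw [Scheme.Pullback.range_fst, Scheme.range_fromSpecResidueField]
  haveI : LocallyQuasiFinite h :=
    ((Groth.Agent.H06Unram.etale_iff_smooth_and_locallyQuasiFinite h).1 inferInstance).2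
  have hF : (h.base ⁻¹' {genericPoint X}).Finite := by
    refine IsCompact.finite ?_ (h.isDiscrete_preimage_singleton _)
    rw [← hr]
    exact isCompact_range (pullback.fst h (X.fromSpecResidueField (genericPoint X))).continuous
  refine (hF.image W.ι.base).subset ?_
  rintro a ⟨haW, ha⟩
  exact ⟨⟨a, haW⟩, ha, rfl⟩

include g in
theorem locallyFinite_components :
    LocallyFinite (fun Z : ↥(irreducibleComponents ↥U) => (Z : Set ↥U)) := by
  classical
  intro x
  obtain ⟨_, ⟨W, hW, rfl⟩, hxW, -⟩ :=
    U.isBasis_affineOpens.exists_subset_of_mem_open (Set.mem_univ x) isOpen_univ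
  refine ⟨(W : Set U), W.2.mem_nhds hxW, ?_⟩
  refine Set.Finite.of_finite_image (f := fun Z : ↥(irreducibleComponents ↥U) => ((genericPoints.ofComponent Z : genericPoints U) : U))
    ((finite_generic_inter g W hW).subset ?_) ?_
  · rintro _ ⟨Z, ⟨y, hyZ, hyW⟩, rfl⟩
    have hgp := genericPoints.isGenericPoint_ofComponent Z
    exact ⟨(hgp.specializes hyZ).mem_open W.2 hyW, (mem_genericPoints_iff g _).1 (genericPoints.ofComponent Z).2⟩
  · intro Z _ Z' _ h
    exact Subtype.ext ((genericPoints.isGenericPoint_ofComponent Z).def.symm.trans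
      ((congrArg (fun a : U => closure ({a} : Set U)) h).trans (genericPoints.isGenericPoint_ofComponent Z').def))

/-- Part (1) — over an integral normal scheme whose function field is separably closed, any separated
étale scheme is a disjoint union of open subschemes of the base. -/
theorem result {U X : Scheme.{u}} [IsIntegral X] (hN : ∀ x : X, IsIntegrallyClosed (X.presheaf.stalk x))
    [IsSepClosed X.functionField] (g : U ⟶ X) [AlgebraicGeometry.Etale g] [IsSeparated g] :
    ∃ (ι : Type u) (V : ι → X.Opens) (e : (∐ fun i => (V i : Scheme.{u})) ≅ U),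
      ∀ i, Sigma.ι (fun i => (V i : Scheme.{u})) i ≫ e.hom ≫ g = (V i).ι := by
  classical
  have hX : Pi1.IsNormalScheme X := fun x => ⟨inferInstance, hN x⟩
  have hY := H18Et.EtaleNormalScheme.isNormalScheme_of_etale g hX
  have hop := fun a : genericPoints U =>
    H17.NormalNormalization.isOpen_component hY (locallyFinite_components g) a.2
  let W : genericPoints U → U.Opens := fun a => ⟨closure {(a : U)}, hop a⟩
  haveI : ∀ a, IrreducibleSpace (W a : Scheme.{u}) := fun a =>
    Subtype.irreducibleSpace (isIrreducible_singleton.closure : IsIrreducible (closure {(a : U)}))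
  haveI : ∀ a, IsOpenImmersion ((W a).ι ≫ g) := fun a =>
    Groth.Agent.H9Hens.EtaleSepGeneric.isOpenImmersion_of_irreducible _
  obtain ⟨hc⟩ := nonempty_isColimit_cofanMk_of (σ := genericPoints U) (fun a => (W a).ι)
    (by
      rw [eq_top_iff]
      intro x _
      obtain ⟨a, ha, hax⟩ := H17.exists_genericPoint_specializes x
      rw [TopologicalSpace.Opens.mem_iSup]
      exact ⟨⟨a, ha⟩, by rw [Scheme.Opens.opensRange_ι]; exact hax.mem_closure⟩)
    (by
      intro a b hab
      rw [Function.onFun, Scheme.Opens.opensRange_ι, Scheme.Opens.opensRange_ι, disjoint_iff, eq_bot_iff]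
      rintro x ⟨hx1, hx2⟩
      exact (hab (Subtype.ext (H17.NormalNormalization.generic_unique hY a.2 b.2
        (specializes_iff_mem_closure.2 hx1) (specializes_iff_mem_closure.2 hx2)))).elim)
  refine ⟨genericPoints U, fun a => ((W a).ι ≫ g).opensRange,
    Sigma.mapIso (fun a => (((W a).ι ≫ g).isoOpensRange).symm) ≪≫
      (coproductIsCoproduct _).coconePointUniqueUpToIso hc, fun a => ?_⟩
  simp only [Iso.trans_hom, Category.assoc]
  have h1 : Sigma.ι (fun a => (W a : Scheme.{u})) a ≫
      ((coproductIsCoproduct fun a => (W a : Scheme.{u})).coconePointUniqueUpToIso hc).hom = (W a).ι :=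
    (coproductIsCoproduct fun a => (W a : Scheme.{u})).comp_coconePointUniqueUpToIso_hom hc ⟨a⟩
  rw [show (Sigma.mapIso fun a => (Scheme.Hom.isoOpensRange ((W a).ι ≫ g)).symm).hom =
    Limits.Sigma.map fun a => (Scheme.Hom.isoOpensRange ((W a).ι ≫ g)).symm.hom from rfl]
  rw [Sigma.ι_map_assoc, reassoc_of% h1, Iso.symm_hom, Scheme.Hom.isoOpensRange_inv_comp]

end Groth.Agent.S0089
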