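import Groth.Statements.S0096
import Groth.Agent.H9Hens.EtaleSplitDecomp

set_option autoImplicit false
open CategoryTheory CategoryTheory.Limits AlgebraicGeometry Opposite
universe u
open EtBase

namespace Groth.Agent.S0096

/-- A finite unramified morphism becomes, after base change to a suitable étale neighbourhood of any
point of the base, a finite disjoint union of closed immersions. -/
theorem result {X S : Scheme.{u}} (f : X ⟶ S) [IsFinite f] [FormallyUnramified f] (s : S) :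
    ∃ (U : Scheme.{u}) (g : U ⟶ S) (_ : AlgebraicGeometry.Etale g) (u : U) (_ : g.base u = s)
      (n : ℕ) (V : Fin n → Scheme.{u}) (c : ∀ j, V j ⟶ U) (_ : ∀ j, IsClosedImmersion (c j))
      (e : (∐ V) ≅ pullback f g), ∀ j, Sigma.ι V j ≫ e.hom ≫ pullback.snd f g = c j := by
  have hfin : (f.base ⁻¹' {s}).Finite := f.finite_preimage_singleton s
  classical
  have := hfin.to_subtype
  obtain ⟨n₀, ⟨e₀⟩⟩ := Finite.exists_equiv_fin (f.base ⁻¹' {s})
  let x : Fin n₀ → X := fun k => (e₀.symm k).1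
  obtain ⟨U, g, u, hg, hu, hfin', hV⟩ := H9Hens.exists_charts f s x (fun k => (e₀.symm k).2)
    (fun k => ⟨⊤, trivial, inferInstance, MorphismProperty.comp_mem (W := @FormallyUnramified) _ _ inferInstance inferInstance⟩)
  obtain ⟨U', hu', K, hK, W, V, h1, h2, h3, h4, h5⟩ :=
    H9Hens.exists_decomposition f g u x hfin' @IsClosedImmersion
      (fun a h => h) hV
  let P := pullback.snd f (U'.ι ≫ g)
  have hWcl : IsClosed (W : Set ↑(pullback f (U'.ι ≫ g))) := by
    have : (W : Set ↑(pullback f (U'.ι ≫ g))) = (↑(⨆ k, V k) : Set _)ᶜ := by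
      refine Set.Subset.antisymm (fun w hw hw' => ?_) (fun w hw => ?_)
      · obtain ⟨k, hk⟩ := TopologicalSpace.Opens.mem_iSup.mp hw'
        exact Set.disjoint_left.mp (TopologicalSpace.Opens.coe_disjoint.mpr (h2 k)) hw hk
      · exact (h1.ge (show w ∈ ⊤ from trivial) : w ∈ W ⊔ ⨆ k, V k).resolve_right hw
    rw [this]
    exact (⨆ k, V k).2.isClosed_compl
  let U'' : U'.toScheme.Opens := ⟨(P.base '' W)ᶜ, (P.isClosedMap _ hWcl).isOpen_compl⟩
  have huU'' : (⟨u, hu'⟩ : U'.toScheme) ∈ U'' := by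
    rintro ⟨w, hw, hwu⟩
    have hw' : pullback.fst f (U'.ι ≫ g) w ∈ f.base ⁻¹' {s} := by
      have := congrArg (fun F : pullback f (U'.ι ≫ g) ⟶ S => F w) (pullback.condition (f := f) (g := U'.ι ≫ g))
      simp only [Scheme.Hom.comp_apply] at this
      exact this.trans ((congrArg (fun z => g (U'.ι z)) hwu).trans hu)
    exact h5 w (e₀ ⟨_, hw'⟩) hw hwu (by simp [x])
  obtain ⟨j, hj, hjfst, hjo, hjP⟩ := H9Hens.exists_shrink f (U'.ι ≫ g) U''
  obtain ⟨n, ⟨eK⟩⟩ := Finite.exists_equiv_fin K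
  let V' : Fin n → (pullback f (U''.ι ≫ U'.ι ≫ g)).Opens := fun k => j ⁻¹ᵁ V (eK.symm k)
  have hiso : ∀ k, IsClosedImmersion ((V' k).ι ≫ pullback.snd f (U''.ι ≫ U'.ι ≫ g)) := fun k =>
    hjP _ @IsClosedImmersion (h4 (eK.symm k)).1
  have hcov : ⨆ k, (V' k).ι.opensRange = ⊤ := by
    refine top_le_iff.mp fun w _ => ?_
    rcases (h1.ge (show j w ∈ ⊤ from trivial) : j w ∈ W ⊔ ⨆ k, V k) with h | h
    · refine absurd (?_ : U''.ι (pullback.snd f (U''.ι ≫ U'.ι ≫ g) w) ∈ P.base '' W)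
        (pullback.snd f (U''.ι ≫ U'.ι ≫ g) w).2
      exact ⟨j w, h, by rw [← Scheme.Hom.comp_apply, hj.w, Scheme.Hom.comp_apply]⟩
    · obtain ⟨k, hk⟩ := TopologicalSpace.Opens.mem_iSup.mp h
      refine TopologicalSpace.Opens.mem_iSup.mpr ⟨eK k, ?_⟩
      rw [Scheme.Opens.opensRange_ι]
      simpa [V'] using hk
  have hdisj : Pairwise (Function.onFun Disjoint fun k => (V' k).ι.opensRange) := fun k k' hne => by
    simp only [Function.onFun, Scheme.Opens.opensRange_ι]
    rw [TopologicalSpace.Opens.coe_disjoint.symm]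
    exact (TopologicalSpace.Opens.coe_disjoint.mpr (h3 _ _ (fun h => hne (eK.symm.injective h)))).preimage _
  obtain ⟨hc⟩ := nonempty_isColimit_cofanMk_of (fun k => (V' k).ι) hcov hdisj
  let e := (colimit.isColimit (Discrete.functor fun k => (V' k).toScheme)).coconePointUniqueUpToIso hc
  refine ⟨U''.toScheme, U''.ι ≫ U'.ι ≫ g, inferInstance, ⟨_, huU''⟩, hu, n, fun k => (V' k).toScheme,
    fun k => (V' k).ι ≫ pullback.snd f (U''.ι ≫ U'.ι ≫ g), hiso, e, fun k => ?_⟩
  exact (Category.assoc _ _ _).symm.trans (congrArg (· ≫ pullback.snd f (U''.ι ≫ U'.ι ≫ g))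
    (IsColimit.comp_coconePointUniqueUpToIso_hom _ hc ⟨k⟩))

end Groth.Agent.S0096
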