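import Groth.Statements.S0105
import Groth.Agent.H18Et.LC.Wrap
import Mathlib.AlgebraicGeometry.Morphisms.UniversallyOpen

set_option autoImplicit false
open CategoryTheory CategoryTheory.Limits AlgebraicGeometry Opposite
universe u
open EtBase

namespace Groth.Agent.S0105

/-- On a connected scheme X, a finite locally constant abelian sheaf F on the small étale site is, étale
locally, constant with one and the same finite group everywhere: there are a finite abelian group M
and an étale covering (U_i) of X such that the restriction of F to every U_i is isomorphic to the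
constant sheaf with value M. (The published statement covers arbitrary locally constant sheaves of
modules; stated here for finite locally constant abelian sheaves.) -/
theorem result {X : Scheme.{u}} [ConnectedSpace X] (F : EtCoh.Ab X) (h : EtCoh.IsFiniteLocallyConstant F) :
    ∃ (M : Type) (_ : AddCommGroup M) (_ : Finite M) (ι : Type u) (U : ι → X.Etale), EtCoh.Covers U ∧
      ∀ i, Nonempty (EtCoh.restr F (U i) ≅
        (constantSheaf (X.smallEtaleTopology.over (U i)) AddCommGrpCat.{u + 1}).obj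
          (AddCommGrpCat.of (ULift.{u + 1} M))) := by
  open scoped Groth.Agent.H18Et in
  obtain ⟨ι, U, hU, hi⟩ := (Groth.Agent.H18Et.LC.isFiniteLocallyConstant_iff F).1 h
  open scoped Groth.Agent.H18Et in
  choose N hN c hc using hi
  have key : ∀ i j, ∀ (u : (U i).left) (v : (U j).left), (U i).hom.base u = (U j).hom.base v →
      Nonempty (N i ≅ N j) := by
    open scoped Groth.Agent.H18Et in
    intro i j u v e
    obtain ⟨x, -⟩ := Groth.Agent.H18Et.exists_fiber_over u
      (Groth.Agent.H18Et.geomPt ((U i).hom.base u)) (Groth.Agent.H18Et.geomPt_base _)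
    obtain ⟨y, -⟩ := Groth.Agent.H18Et.exists_fiber_over v
      (Groth.Agent.H18Et.geomPt ((U i).hom.base u)) ((Groth.Agent.H18Et.geomPt_base _).trans e)
    have h1 := (hc i).isIso _ x
    have h2 := (hc j).isIso _ y
    exact ⟨asIso (c i ≫ Groth.Agent.H18Et.germ _ F (U i) x) ≪≫ (asIso (c j ≫ Groth.Agent.H18Et.germ _ F (U j) y)).symm⟩
  obtain ⟨x₀⟩ := (inferInstance : Nonempty X)
  obtain ⟨i₀, y₀, hy₀⟩ := hU x₀
  let S : Set X := ⋃ i ∈ {i | Nonempty (N i ≅ N i₀)}, Set.range (U i).hom.base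
  have hop : ∀ i, IsOpen (Set.range (U i).hom.base) := fun i =>
    haveI : Etale (U i).hom := (U i).prop
    (U i).hom.isOpenMap.isOpen_range
  have hS : IsClopen S := by
    refine ⟨isOpen_compl_iff.1 ?_, isOpen_biUnion fun i _ => hop i⟩
    refine isOpen_iff_forall_mem_open.2 fun x hx => ?_
    obtain ⟨j, v, hv⟩ := hU x
    refine ⟨_, ?_, hop j, ⟨v, hv⟩⟩
    rintro z ⟨w, rfl⟩ hz
    simp only [S, Set.mem_iUnion, Set.mem_range, exists_prop, Set.mem_setOf_eq] at hz
    obtain ⟨i, ⟨ei⟩, u, hu⟩ := hz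
    obtain ⟨eji⟩ := key i j u w hu
    exact hx (Set.mem_biUnion (x := j) (⟨eji.symm ≪≫ ei⟩ : Nonempty (N j ≅ N i₀)) ⟨v, hv⟩)
  have hne : S.Nonempty := ⟨x₀, Set.mem_biUnion (x := i₀) (⟨Iso.refl _⟩ : Nonempty (N i₀ ≅ N i₀)) ⟨y₀, hy₀⟩⟩
  have hS' : S = Set.univ := hS.eq_univ hne
  obtain ⟨M, i₁, i₂, ⟨e⟩⟩ := Groth.Agent.H18Et.LC.exists_small_iso (N i₀)
  refine ⟨M, i₁, i₂, {i // Nonempty (N i ≅ N i₀)}, fun i => U i.1, fun x => ?_, fun i => ?_⟩
  · have hx : x ∈ S := hS' ▸ Set.mem_univ x
    simp only [S, Set.mem_iUnion, Set.mem_range, exists_prop, Set.mem_setOf_eq] at hx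
    obtain ⟨i, hi', u, hu⟩ := hx
    exact ⟨⟨i, hi'⟩, u, hu⟩
  · obtain ⟨e'⟩ := i.2
    open scoped Groth.Agent.H18Et in
    exact Groth.Agent.H18Et.LC.nonempty_iso_of_isConstOn ((hc i.1).precomp (e ≪≫ e'.symm).hom)

end Groth.Agent.S0105
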