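import Groth.Statements.S0116
import Groth.Agent.H06Desc.Noetherian

set_option autoImplicit false
open CategoryTheory CategoryTheory.Limits AlgebraicGeometry Opposite
universe u
open EtBase

namespace Groth.Agent.S0116

/-- If f : X → Y is surjective, flat and locally of finite presentation and X is locally Noetherian,
then Y is locally Noetherian. (This is the descent half of the statement that, for such f, X is
locally Noetherian if and only if Y is; the ascent half is the fact that a scheme locally of finite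
type over a locally Noetherian scheme is locally Noetherian, and is not stated here.) -/
theorem result {X Y : Scheme.{u}} (f : X ⟶ Y) [Surjective f] [Flat f] [LocallyOfFinitePresentation f]
    [IsLocallyNoetherian X] : IsLocallyNoetherian Y := by
  classical
  refine ⟨fun U => ?_⟩
  haveI : IsAffine U.1.toScheme := U.2
  have hcov : ∀ y ∈ (U.1 : Set Y), ∃ W : X.Opens, IsAffineOpen W ∧ W ≤ f ⁻¹ᵁ U.1 ∧ y ∈ f.base '' (W : Set X) := by
    intro y hy
    obtain ⟨x, rfl⟩ := f.surjective y
    obtain ⟨_, ⟨W, hW, rfl⟩, hx, hle⟩ :=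
      X.isBasis_affineOpens.exists_subset_of_mem_open (show x ∈ (f ⁻¹ᵁ U.1 : Set X) from hy) (f ⁻¹ᵁ U.1).2
    exact ⟨W, hW, hle, x, hx, rfl⟩
  choose W hW hWU hyW using hcov
  obtain ⟨t, ht⟩ := U.2.isCompact.elim_finite_subcover (fun y : (U.1 : Set Y) => f.base '' (W y.1 y.2 : Set X))
    (fun y => f.isOpenMap _ (W y.1 y.2).2) (fun y hy => Set.mem_iUnion.2 ⟨⟨y, hy⟩, hyW y hy⟩)
  let V : X.Opens := ⨆ y ∈ t, W y.1 y.2
  have hVU : V ≤ f ⁻¹ᵁ U.1 := iSup₂_le fun y _ => hWU y.1 y.2
  have hVc : IsCompact (V : Set X) := by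
    simp only [V, TopologicalSpace.Opens.coe_iSup]
    exact t.isCompact_biUnion fun y _ => (hW y.1 y.2).isCompact
  haveI : CompactSpace V.toScheme := isCompact_iff_compactSpace.mp hVc
  haveI : IsLocallyNoetherian V.toScheme := isLocallyNoetherian_of_isOpenImmersion V.ι
  let g := f.resLE U.1 V hVU
  haveI : Flat g := inferInstance
  haveI : Surjective g := ⟨fun y => by
    obtain ⟨z, hz, x, hx, hxy⟩ := Set.mem_iUnion₂.1 (ht y.2)
    have hxV : x ∈ V := by
      simp only [V, TopologicalSpace.Opens.mem_iSup]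
      exact ⟨z, hz, hx⟩
    refine ⟨⟨x, hxV⟩, Subtype.ext ?_⟩
    rw [Scheme.Hom.coe_resLE_apply]
    exact hxy⟩
  haveI := Groth.Agent.H06Desc.isNoetherianRing_of_flat_surjective g
  exact isNoetherianRing_of_ringEquiv Γ(U.1.toScheme, ⊤) U.1.topIso.commRingCatIsoToRingEquiv

end Groth.Agent.S0116
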