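import Groth.Statements.S0124
import Groth.Agent.S0134
import Groth.Agent.H18Et.Coh.Colimit
import Groth.Agent.H18Et.Cons.Compact

set_option autoImplicit false
universe u
open CategoryTheory CategoryTheory.Limits AlgebraicGeometry Opposite
open EtPBC

namespace Groth.Agent.S0124

/-- Part (1): if X is quasi-compact and quasi-separated and F is a torsion abelian sheaf on X_et, then
H^n(X_et, F) is a torsion abelian group for every n. -/
theorem result (X : Scheme.{u}) [CompactSpace X] [QuasiSeparatedSpace X]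
    (F : EtCoh.Ab X) (hF : EtCoh.IsTorsion F) (n : ℕ) :
    IsAddTorsion (EtCoh.H X F n) := by
  obtain ⟨J, _, _, D, c, hc, hD, ⟨e⟩⟩ := Groth.Agent.S0134.result X F hF
  haveI := Groth.Agent.H18Et.CohColim.preservesColimitsOfShape_HF (X := X) (J := J) n
  haveI : (EtCoh.HF X n).Additive := ⟨fun {A B f g} => AddCommGrpCat.hom_ext
    (AddMonoidHom.ext fun z => by
      change Sheaf.H.map (f + g) n z = Sheaf.H.map f n z + Sheaf.H.map g n z
      rw [Sheaf.H.map_apply, Sheaf.H.map_apply, Sheaf.H.map_apply, Abelian.Ext.mk₀_add, Abelian.Ext.comp_add])⟩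
  intro x
  obtain ⟨j, y, hy⟩ := Concrete.isColimit_exists_rep _
    (isColimitOfPreserves (EtCoh.HF X n) hc) ((EtCoh.HF X n).map e.inv x)
  obtain ⟨m, hm0, hm⟩ := Groth.Agent.H18Et.Cons.exists_killedBy (D.obj j) (hD j)
  have hid : m • 𝟙 (D.obj j) = 0 := ObjectProperty.hom_ext _ (NatTrans.ext (funext fun W => by
    obtain ⟨W⟩ := W
    ext s
    exact hm W s))
  have h1 := congrArg (EtCoh.HF X n).map hid
  rw [Functor.map_nsmul, Functor.map_zero, CategoryTheory.Functor.map_id] at h1
  have hy0 : m • (show (EtCoh.HF X n).obj (D.obj j) from y) = 0 := ConcreteCategory.congr_hom h1 y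
  let y' : (EtCoh.HF X n).obj (D.obj j) := y
  let x' : (EtCoh.HF X n).obj F := x
  refine isOfFinAddOrder_iff_nsmul_eq_zero.2 ⟨m, Nat.pos_of_ne_zero hm0.out, ?_⟩
  change m • x' = 0
  have hx : x' = (EtCoh.HF X n).map (c.ι.app j ≫ e.hom) y' := by
    rw [Functor.map_comp, ConcreteCategory.comp_apply]
    refine Eq.trans ?_ (congrArg ((EtCoh.HF X n).map e.hom) hy).symm
    exact (ConcreteCategory.congr_hom ((EtCoh.HF X n).mapIso e).inv_hom_id x').symm
  rw [hx, ← map_nsmul]
  exact (congrArg _ hy0).trans (map_zero _)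

end Groth.Agent.S0124
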