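import Groth.Statements.S0145
import Groth.Agent.H18Et.Cons.TorsionSupp

set_option autoImplicit false
universe u
open CategoryTheory CategoryTheory.Limits AlgebraicGeometry Opposite
open EtPBC

namespace Groth.Agent.S0145

/-- (1): X Noetherian, E a subset of X stable under specialization, F a torsion abelian sheaf on X_et
supported inside E. Then F is a filtered colimit of constructible abelian sheaves each supported
inside some closed subset contained in E. -/
theorem result (X : Scheme.{u}) [IsNoetherian X]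
    (E : Set X) (hE : StableUnderSpecialization E)
    (F : EtCoh.Ab X) (hF : EtCoh.IsTorsion F) (hsupp : EtPBC.supp F ⊆ E) :
    ∃ (J : Type (u + 1)) (_ : SmallCategory J) (_ : IsFiltered J) (D : J ⥤ EtCoh.Ab X)
      (c : Cocone D) (_ : IsColimit c), Nonempty (c.pt ≅ F) ∧
      ∀ j, EtPBC.IsConstructible (D.obj j) ∧
        ∃ Z : Set X, IsClosed Z ∧ Z ⊆ E ∧ EtPBC.supp (D.obj j) ⊆ Z := by
  let Q : EtCoh.Ab X → Prop := fun C => ∃ Z : Set X, IsClosed Z ∧ Z ⊆ E ∧ EtPBC.supp C ⊆ Z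
  have hQ0 : ∀ C, IsZero C → Q C := fun C hC => ⟨∅, isClosed_empty, Set.empty_subset _, fun x hx => by
    obtain ⟨Ω, _, _, ξ, -, h⟩ := hx
    exact (h ((EtCoh.stalk ξ).map_isZero hC)).elim⟩
  have hQ2 : ∀ A B, EtPBC.IsConstructible A → EtPBC.IsConstructible B → Q A → Q B → Q (A ⊞ B) :=
    fun A B _ _ ⟨Z, hZ, hZE, hA⟩ ⟨Z', hZ', hZE', hB⟩ => ⟨Z ∪ Z', hZ.union hZ', Set.union_subset hZE hZE',
      (Groth.Agent.H18Et.Cons.supp_biprod_subset A B).trans (Set.union_subset_union hA hB)⟩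
  have hQe : ∀ {A B : EtCoh.Ab X} (g : A ⟶ B) [Epi g], EtPBC.IsConstructible A → Q A → Q B :=
    fun g _ _ ⟨Z, hZ, hZE, hA⟩ => ⟨Z, hZ, hZE, (Groth.Agent.H18Et.Cons.supp_subset_of_epi g).trans hA⟩
  haveI := Groth.Agent.H18Et.Cons.isFiltered_idxCat (F := F) (Q := Q) hQ0 hQ2 hQe
  obtain ⟨hc⟩ := Groth.Agent.H18Et.Cons.nonempty_isColimit_idxCocone (F := F) (Q := Q) hQ0 hQ2 hQe
    (fun f hC => by
      have hC' := Groth.Agent.H18Et.Cons.isConstructible_quotient (cokernel.π (kernel.ι f)) hC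
      refine ⟨_, cokernel.π (kernel.ι f), Abelian.factorThruCoimage f, hC',
        ⟨closure (EtPBC.supp (cokernel (kernel.ι f))), isClosed_closure, fun y hy => ?_, subset_closure⟩,
        Abelian.coimage.fac f⟩
      obtain ⟨x, hx, hxy⟩ := Groth.Agent.H18Et.Cons.exists_specializes_of_mem_closure
        (Groth.Agent.H18Et.Cons.isLocallyConstructible_supp _ hC').isConstructible hy
      exact hE hxy (hsupp (Groth.Agent.H18Et.Cons.supp_subset_of_mono (Abelian.factorThruCoimage f) hx))) hF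
  exact ⟨_, inferInstance, inferInstance, _, _, hc, ⟨Iso.refl _⟩,
    fun j => ⟨Groth.Agent.H18Et.Cons.Idx.isConstructible j, Groth.Agent.H18Et.Cons.Idx.prop j⟩⟩

end Groth.Agent.S0145
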