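import Groth.Statements.S0149
import Groth.Agent.H1Lim.PushSys

set_option autoImplicit false
universe u
open CategoryTheory CategoryTheory.Limits AlgebraicGeometry Opposite
open EtPBC

namespace Groth.Agent.S0149

/-- If X = lim X_i is a cofiltered limit of quasi-compact quasi-separated schemes with affine transition
morphisms and cd(X_i) <= d for all i, then cd(X) <= d. -/
theorem result {I : Type u} [SmallCategory I] [IsCofiltered I] (D : I ⥤ Scheme.{u})
    [∀ {i j : I} (a : i ⟶ j), IsAffineHom (D.map a)]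
    [∀ i, CompactSpace (D.obj i)] [∀ i, QuasiSeparatedSpace (D.obj i)]
    (c : Cone D) (hc : IsLimit c) (d : ℕ) (h : ∀ i, EtCoh.CohDimLE (D.obj i) d) :
    EtCoh.CohDimLE c.pt d := by
  haveI : ∀ ⦃a b : I⦄ (f : a ⟶ b), IsAffineHom (D.map f) := fun a b f => inferInstance
  haveI : ∀ (p r : I) (f : p ⟶ r), IsAffineHom (D.map f) := fun p r f => inferInstance
  intro G hG q hq
  haveI := H1Lim.isIso_evalLim c G hc
  have hsub : Subsingleton (Sheaf.H ((H1Lim.limSheaf c).obj (H1Lim.pushSys c G)) q) := by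
    refine subsingleton_of_forall_eq 0 fun x => ?_
    obtain ⟨k, y, rfl⟩ := (H1Lim.surj_inj c hc q (H1Lim.pushSys c G)).1 x
    haveI := isAffineHom_π_app D c hc k
    have ht : EtCoh.IsTorsion ((H1Lim.res D k).obj (H1Lim.pushSys c G)) :=
      H18Et.Coh.isTorsion_of_iso (H1Lim.pushRes c G k).symm (H1Lim.isTorsion_push (c.π.app k) G hG)
    haveI := h k _ ht q hq
    rw [Subsingleton.elim y 0, map_zero]
  refine subsingleton_of_forall_eq 0 fun x => ?_
  let e := asIso (H1Lim.evalLim c G)
  have hx : Sheaf.H.map e.hom q (Sheaf.H.map e.inv q x) = x := by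
    rw [← H1Lim.H_map_comp₀, e.inv_hom_id, Sheaf.H.map_apply, Abelian.Ext.comp_mk₀_id]
  rw [← hx, Subsingleton.elim (Sheaf.H.map e.inv q x) 0, map_zero]

end Groth.Agent.S0149
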