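import Groth.Statements.S0152
import Groth.Agent.H28Top.Spectral

set_option autoImplicit false
universe u
open EtPBC

namespace Groth.Agent.S0152

/-- Let X be a spectral space and Z a closed subset such that Z meets the closure of every point of X in
a connected (nonempty) set. If Z is the disjoint union of two closed subsets Z_1, Z_2 then X is the
disjoint union of closed subsets X_1, X_2 with Z_i = Z ∩ X_i. -/
theorem result (X : Type u) [TopologicalSpace X] [SpectralSpace X]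
    (Z : Set X) (hZ : IsClosed Z)
    (hconn : ∀ x : X, IsConnected (Z ∩ closure {x}))
    (Z₁ Z₂ : Set X) (h₁ : IsClosed Z₁) (h₂ : IsClosed Z₂) (hdisj : Disjoint Z₁ Z₂) (hunion : Z₁ ∪ Z₂ = Z) :
    ∃ X₁ X₂ : Set X, IsClosed X₁ ∧ IsClosed X₂ ∧ Disjoint X₁ X₂ ∧ X₁ ∪ X₂ = Set.univ ∧
      Z₁ = Z ∩ X₁ ∧ Z₂ = Z ∩ X₂ := by
  have key : ∀ {A B : Set X}, IsClosed A → IsClosed B → Disjoint A B → A ∪ B = Z →
      IsClosed {x : X | ∃ z ∈ A, x ⤳ z} ∧ Disjoint {x : X | ∃ z ∈ A, x ⤳ z} {x : X | ∃ z ∈ B, x ⤳ z} := by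
    intro A B hA hB hAB hU
    have hone : ∀ (x : X) (z : X), z ∈ A → x ⤳ z → Z ∩ closure {x} ⊆ A := by
      intro x z hz hxz
      by_contra hsub
      obtain ⟨w, hw, hwA⟩ := Set.not_subset.1 hsub
      have hwB : w ∈ B := (hU.symm ▸ hw.1 : w ∈ A ∪ B).resolve_left hwA
      obtain ⟨v, -, hv⟩ := isPreconnected_closed_iff.1 (hconn x).isPreconnected A B hA hB
        (fun v hv => hU.symm ▸ hv.1) ⟨z, ⟨hU ▸ Or.inl hz, specializes_iff_mem_closure.1 hxz⟩, hz⟩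
        ⟨w, hw, hwB⟩
      exact Set.disjoint_iff.1 hAB hv
    refine ⟨Groth.Agent.H28Top.isClosed_of_isClosed_constr
      (Groth.Agent.H28Top.isClosed_constr_generalization hA.isCompact) ?_, ?_⟩
    · rintro x y hxy ⟨z, hz, hxz⟩
      obtain ⟨w, hwZ, hyw⟩ := (hconn y).nonempty
      exact ⟨w, hone x z hz hxz ⟨hwZ, specializes_iff_mem_closure.1
        (hxy.trans (specializes_iff_mem_closure.2 hyw))⟩, specializes_iff_mem_closure.2 hyw⟩
    · rw [Set.disjoint_iff]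
      rintro x ⟨⟨z, hz, hxz⟩, ⟨w, hw, hxw⟩⟩
      have hwZ : w ∈ Z := by rw [← hU]; exact Or.inr hw
      exact ((Set.disjoint_iff.1 hAB ⟨hone x z hz hxz (show w ∈ Z ∩ closure {x} from ⟨hwZ, specializes_iff_mem_closure.1 hxw⟩), hw⟩ : w ∈ (∅ : Set X))).elim
  obtain ⟨hc1, hd⟩ := key h₁ h₂ hdisj hunion
  obtain ⟨hc2, -⟩ := key h₂ h₁ hdisj.symm ((Set.union_comm _ _).trans hunion)
  refine ⟨_, _, hc1, hc2, hd, ?_, ?_, ?_⟩
  · refine Set.eq_univ_of_forall fun x => ?_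
    obtain ⟨z, hzZ, hxz⟩ := (hconn x).nonempty
    rcases (hunion.symm ▸ hzZ : z ∈ Z₁ ∪ Z₂) with h | h
    · exact Or.inl ⟨z, h, specializes_iff_mem_closure.2 hxz⟩
    · exact Or.inr ⟨z, h, specializes_iff_mem_closure.2 hxz⟩
  · refine subset_antisymm (fun z hz => ⟨hunion ▸ Or.inl hz, z, hz, specializes_rfl⟩) ?_
    rintro x ⟨hxZ, z, hz, hxz⟩
    rcases (hunion.symm ▸ hxZ : x ∈ Z₁ ∪ Z₂) with h | h
    · exact h
    · exact absurd (hxz.mem_closed h₂ h) (fun hz2 => Set.disjoint_iff.1 hdisj ⟨hz, hz2⟩)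
  · refine subset_antisymm (fun z hz => ⟨hunion ▸ Or.inr hz, z, hz, specializes_rfl⟩) ?_
    rintro x ⟨hxZ, z, hz, hxz⟩
    rcases (hunion.symm ▸ hxZ : x ∈ Z₁ ∪ Z₂) with h | h
    · exact absurd (hxz.mem_closed h₁ h) (fun hz1 => Set.disjoint_iff.1 hdisj ⟨hz1, hz⟩)
    · exact h

end Groth.Agent.S0152
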