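import Groth.Agent.H1DFun.PBCTorsion
import Groth.Agent.H1DFun.EfaceClosed
-- import your own Groth.Agent.* helpers here

set_option autoImplicit false
universe u
open CategoryTheory CategoryTheory.Limits AlgebraicGeometry Opposite
open EtPBC

namespace Groth.Agent.S0158

attribute [local instance] Groth.Agent.H18Et.pull_preservesFiniteLimits

/-- For a proper morphism f : X → Y the following are equivalent: (1) cohomology commutes with base
change for f, i.e. for every cartesian square with g : Y' → Y, g' : X' → X, f' : X' → Y' and every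
torsion abelian sheaf F on X_ét there are isomorphisms g^* R^q f_* F ≅ R^q f'_* g'^* F; (2) for
every prime ℓ, every sheaf I of ℤ/ℓ-modules on X_ét which is injective among sheaves of ℤ/ℓ-modules,
and every cartesian square as above, R^q f'_*(g'^* I) = 0 for q > 0. Injectivity among sheaves of
ℤ/ℓ-modules is spelled out as the extension property against monomorphisms of sheaves killed by ℓ.
Condition (1) is used in its abstract-isomorphism form; the published proof shows that (2) yields
the canonical base change isomorphisms. -/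
theorem result {X Y : Scheme.{u}} (f : X ⟶ Y) [IsProper f] [EtCoh.BCCont f] :
    EtPBC.CohCommutesWithBC f ↔
      ∀ (ℓ : ℕ), ℓ.Prime → ∀ (I : EtCoh.Ab X), EtCoh.KilledBy ℓ I →
        (∀ (G : EtCoh.Ab X), EtCoh.KilledBy ℓ G → ∀ (a : G ⟶ I) {G' : EtCoh.Ab X} (m : G ⟶ G'),
            EtCoh.KilledBy ℓ G' → Mono m → ∃ b : G' ⟶ I, m ≫ b = a) →
        ∀ ⦃X' Y' : Scheme.{u}⦄ (f' : X' ⟶ Y') (g' : X' ⟶ X) (g : Y' ⟶ Y)
          [EtCoh.BCCont f'] [EtCoh.BCCont g'], IsPullback g' f' f g →
          ∀ q : ℕ, 0 < q → IsZero ((EtCoh.Rpush f' q).obj ((EtCoh.pull g').obj I)) := by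
  constructor
  · intro H ℓ hℓ I hI hinj X' Y' f' g' g _ _ sq q hq
    obtain ⟨q, rfl⟩ := Nat.exists_eq_succ_of_ne_zero hq.ne'
    obtain ⟨G, ι, hι, hG, hz⟩ := H1DFun.exists_efface hI
    obtain ⟨r, hr⟩ := hinj I hI (𝟙 I) ι hG hι
    have hz' : IsZero ((EtCoh.Rpush f (q + 1)).obj I) := by
      rw [IsZero.iff_id_eq_zero, ← CategoryTheory.Functor.map_id, ← hr, Functor.map_comp,
        (hz Y f q).eq_zero_of_tgt ((EtCoh.Rpush f (q + 1)).map ι), zero_comp]
    have hT : EtCoh.IsTorsion I :=
      H1DFun.isTorsion_of_nsmul_id hℓ.pos ((H1DFun.killedBy_iff_nsmul_id ℓ I).1 hI)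
    obtain ⟨i⟩ := H f' g' g sq I hT (q + 1)
    exact (Functor.map_isZero _ hz').of_iso i.symm
  · intro H X' Y' f' g' g _ _ _ sq F hF q
    haveI := H1DFun.isIso_bcQ_of_acyclic g f f' g' (fun ℓ hℓ I hI hinj q hq => H ℓ hℓ I hI hinj f' g' g sq q hq)
      sq q F hF
    exact ⟨asIso (EtBC.bcQ f g f' g' sq.w q F)⟩

end Groth.Agent.S0158
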