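import Groth.Statements.S0169
import Groth.Agent.H18Et.Cons.FiniteStrata

set_option autoImplicit false
universe u
open CategoryTheory CategoryTheory.Limits AlgebraicGeometry Opposite
open EtPBC

namespace Groth.Agent.S0169

/-- For j : U -> X an etale morphism of quasi-compact quasi-separated schemes there are finitely many
immersions T_i -> X with pairwise disjoint constructible images covering X such that U x_X T_i ->
T_i is finite (etale) for each i. -/
theorem result {U X : Scheme.{u}} [CompactSpace U] [QuasiSeparatedSpace U]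
    [CompactSpace X] [QuasiSeparatedSpace X] (j : U ⟶ X) [Etale j] :
    ∃ (n : ℕ) (T : Fin n → Scheme.{u}) (g : ∀ i, T i ⟶ X),
      (∀ i, IsImmersion (g i)) ∧ (∀ i, Topology.IsConstructible (Set.range (g i))) ∧
      Pairwise (fun i i' => Disjoint (Set.range (g i)) (Set.range (g i'))) ∧
      (⋃ i, Set.range (g i)) = Set.univ ∧ ∀ i, IsFinite (pullback.snd j (g i)) := by
  obtain ⟨ι, _, T, g, hg, hc, hd, hu, hq⟩ :=
    Groth.Agent.H18Et.Cons.Covered.exists_partition
      (fun {T T'} p g => Groth.Agent.H18Et.Cons.finBC_precomp j p g)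
      (Groth.Agent.H18Et.Cons.covered_finBC j)
  obtain ⟨n, ⟨e⟩⟩ := Finite.exists_equiv_fin ι
  refine ⟨n, fun k => T (e.symm k), fun k => g (e.symm k), fun k => hg _, fun k => hc _,
    fun k l hkl => hd (e.symm.injective.ne hkl),
    (e.symm.surjective.iUnion_comp fun i => Set.range (g i)).trans hu, fun k => ?_⟩
  have h := hq (e.symm k)
  rw [Category.comp_id] at h
  exact h

end Groth.Agent.S0169
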