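import Groth.Statements.S0170
import Groth.Agent.H06Decomp.Ring

set_option autoImplicit false
universe u
open CategoryTheory CategoryTheory.Limits AlgebraicGeometry Opposite
open EtPBC

namespace Groth.Agent.S0170

open scoped TensorProduct
open PrimeSpectrum

/-- For f : Y -> X quasi-finite and of finite presentation with X and Y affine, one can find an affine
X' mapping onto X such that the base change Y' = X' x_X Y contains a closed subscheme Z' with the
same underlying space (a thickening) for which the composite Z' -> Y' -> X' is finite etale. -/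
theorem result {Y X : Scheme.{u}} [IsAffine X] [IsAffine Y] (f : Y ⟶ X)
    [LocallyQuasiFinite f] [LocallyOfFinitePresentation f] :
    ∃ (X' : Scheme.{u}) (_ : IsAffine X') (a : X' ⟶ X) (_ : Surjective a) (Z' : Scheme.{u})
      (c : Z' ⟶ pullback a f) (_ : IsClosedImmersion c) (_ : Surjective c),
      IsFinite (c ≫ pullback.fst a f) ∧ Etale (c ≫ pullback.fst a f) := by
  -- reduce to a ring map
  let A := Γ(X, ⊤)
  let B := Γ(Y, ⊤)
  letI : Algebra A B := f.appTop.hom.toAlgebra
  haveI : Algebra.QuasiFinite A B :=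
    ((HasRingHomProperty.iff_of_isAffine (P := @LocallyQuasiFinite)).mp ‹_› : f.appTop.hom.QuasiFinite)
  haveI : Algebra.FinitePresentation A B :=
    ((HasRingHomProperty.iff_of_isAffine (P := @LocallyOfFinitePresentation)).mp ‹_› :
      f.appTop.hom.FinitePresentation)
  obtain ⟨A', _, _, C, _, _, θ, hsurj, hθ, hker, hfin, het⟩ :=
    H06Decomp.exists_split (A := A) (B := B)
  let X' := Spec (CommRingCat.of A')
  let a : X' ⟶ X := Spec.map (CommRingCat.ofHom (algebraMap A A')) ≫ X.isoSpec.inv
  haveI : Surjective (Spec.map (CommRingCat.ofHom (algebraMap A A'))) := ⟨hsurj⟩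
  haveI : Surjective a := inferInstance
  let g : Spec (CommRingCat.of B) ⟶ X := Y.isoSpec.inv ≫ f
  have hg : g = Spec.map (CommRingCat.ofHom (algebraMap A B)) ≫ X.isoSpec.inv := by
    simp only [g, RingHom.algebraMap_toAlgebra]
    rw [← Scheme.isoSpec_inv_naturality f]
    rfl
  let ψ : Spec (CommRingCat.of (A' ⊗[A] B)) ≅ pullback a f :=
    (pullbackSpecIso A A' B).symm ≪≫
      asIso (pullback.map (Spec.map (CommRingCat.ofHom (algebraMap A A')))
        (Spec.map (CommRingCat.ofHom (algebraMap A B))) a f (𝟙 _) Y.isoSpec.inv X.isoSpec.inv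
        (by simp [a]) (by rw [← hg]))
  let c₀ : Spec (CommRingCat.of C) ⟶ Spec (CommRingCat.of (A' ⊗[A] B)) :=
    Spec.map (CommRingCat.ofHom θ.toRingHom)
  haveI : IsClosedImmersion c₀ := IsClosedImmersion.spec_of_surjective _ hθ
  haveI : Surjective c₀ := ⟨fun Q => by
    have hQ : Q ∈ Set.range (PrimeSpectrum.comap θ.toRingHom) := by
      rw [range_comap_of_surjective _ _ hθ]
      exact hker Q.asIdeal Q.2
    exact hQ⟩
  have hfst : (c₀ ≫ ψ.hom) ≫ pullback.fst a f = Spec.map (CommRingCat.ofHom (algebraMap A' C)) := by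
    simp only [ψ, c₀, Iso.trans_hom, Iso.symm_hom, asIso_hom, Category.assoc, pullback.lift_fst,
      Category.comp_id, pullbackSpecIso_inv_fst, ← Spec.map_comp, ← CommRingCat.ofHom_comp]
    congr 2
    exact θ.comp_algebraMap
  refine ⟨X', inferInstance, a, inferInstance, Spec (CommRingCat.of C), c₀ ≫ ψ.hom, inferInstance,
    inferInstance, ?_, ?_⟩
  · rw [hfst, IsFinite.SpecMap_iff]
    exact RingHom.finite_algebraMap.mpr hfin
  · rw [hfst, HasRingHomProperty.Spec_iff (P := @Etale)]
    exact RingHom.etale_algebraMap.mpr het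

end Groth.Agent.S0170
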