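import Groth.Statements.S0173
import Groth.Agent.H18Et.Cons.TorsionSupp

set_option autoImplicit false
universe u
open CategoryTheory CategoryTheory.Limits AlgebraicGeometry Opposite
open EtPBC

namespace Groth.Agent.S0173

/-- (1), for X irreducible: X quasi-compact, quasi-separated and irreducible with generic point η, F a
torsion abelian sheaf on X_et whose stalk over η vanishes. Then F is a filtered colimit of
constructible abelian sheaves each supported in a closed subset not containing η. (The source allows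
η to be the generic point of any irreducible component.) -/
theorem result (X : Scheme.{u}) [CompactSpace X] [QuasiSeparatedSpace X]
    [IrreducibleSpace X] (F : EtCoh.Ab X) (hF : EtCoh.IsTorsion F) (hη : genericPoint X ∉ EtPBC.supp F) :
    ∃ (J : Type (u + 1)) (_ : SmallCategory J) (_ : IsFiltered J) (D : J ⥤ EtCoh.Ab X)
      (c : Cocone D) (_ : IsColimit c), Nonempty (c.pt ≅ F) ∧
      ∀ j, EtPBC.IsConstructible (D.obj j) ∧
        ∃ Z : Set X, IsClosed Z ∧ genericPoint X ∉ Z ∧ EtPBC.supp (D.obj j) ⊆ Z := by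
  let Q : EtCoh.Ab X → Prop := fun C => ∃ Z : Set X, IsClosed Z ∧ genericPoint X ∉ Z ∧ EtPBC.supp C ⊆ Z
  have hQ0 : ∀ C, IsZero C → Q C := fun C hC => ⟨∅, isClosed_empty, Set.notMem_empty _, fun x hx => by
    obtain ⟨Ω, _, _, ξ, -, h⟩ := hx
    exact (h ((EtCoh.stalk ξ).map_isZero hC)).elim⟩
  have hQ2 : ∀ A B, EtPBC.IsConstructible A → EtPBC.IsConstructible B → Q A → Q B → Q (A ⊞ B) :=
    fun A B _ _ ⟨Z, hZ, hZη, hA⟩ ⟨Z', hZ', hZη', hB⟩ => ⟨Z ∪ Z', hZ.union hZ', fun h => h.elim hZη hZη',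
      (Groth.Agent.H18Et.Cons.supp_biprod_subset A B).trans (Set.union_subset_union hA hB)⟩
  have hQe : ∀ {A B : EtCoh.Ab X} (g : A ⟶ B) [Epi g], EtPBC.IsConstructible A → Q A → Q B :=
    fun g _ _ ⟨Z, hZ, hZη, hA⟩ => ⟨Z, hZ, hZη, (Groth.Agent.H18Et.Cons.supp_subset_of_epi g).trans hA⟩
  haveI := Groth.Agent.H18Et.Cons.isFiltered_idxCat (F := F) (Q := Q) hQ0 hQ2 hQe
  obtain ⟨hc⟩ := Groth.Agent.H18Et.Cons.nonempty_isColimit_idxCocone (F := F) (Q := Q) hQ0 hQ2 hQe
    (fun f hC => by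
      obtain ⟨C', g, q, hC', hη', hgq⟩ := Groth.Agent.H18Et.Cons.exists_factor_notMem_supp hC f hη
      refine ⟨C', g, q, hC', ⟨closure (EtPBC.supp C'), isClosed_closure, fun h => ?_, subset_closure⟩, hgq⟩
      obtain ⟨x, hx, hxy⟩ := Groth.Agent.H18Et.Cons.exists_specializes_of_mem_closure_qcqs
        (Groth.Agent.H18Et.Cons.isLocallyConstructible_supp _ hC').isConstructible h
      exact hη' (((genericPoint_specializes x).antisymm hxy).eq ▸ hx)) hF
  exact ⟨_, inferInstance, inferInstance, _, _, hc, ⟨Iso.refl _⟩,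
    fun j => ⟨Groth.Agent.H18Et.Cons.Idx.isConstructible j, Groth.Agent.H18Et.Cons.Idx.prop j⟩⟩

end Groth.Agent.S0173
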