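import Groth.Statements.S0175
import Groth.Agent.H18Et.PushClosed
import Groth.Agent.H18Et.PushImmersion
import Groth.Agent.H18Et.StalkSets

set_option autoImplicit false
universe u
open CategoryTheory CategoryTheory.Limits AlgebraicGeometry Opposite
open EtPBC

namespace Groth.Agent.S0175

/-- Let i : Z → X be a closed immersion of schemes with open complement j : U → X, and I an injective
abelian sheaf on X_ét. Then the subsheaf H_Z(I) of sections supported on Z (the kernel of I → j_*
j^* I), viewed on Z_ét via i^*, is an injective abelian sheaf on Z_ét. -/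
theorem result {Z X U : Scheme.{u}} (i : Z ⟶ X) [IsClosedImmersion i]
    (j : U ⟶ X) [IsOpenImmersion j] (hZU : Set.range j = (Set.range i)ᶜ)
    [EtCoh.BCCont i] [EtCoh.BCCont j] (I : EtCoh.Ab X) [Injective I] :
    Injective ((EtCoh.pull i).obj (kernel ((EtCoh.pullPushAdj j).unit.app I))) := by
  have hcl : IsClosed (Set.range i.base) := i.isClosedEmbedding.isClosed_range
  have hl : Groth.Agent.H18Et.LiftsEtaleUniv i := Groth.Agent.H18Et.liftsEtaleUniv_of_isClosedImmersion i
  haveI := fun G => Groth.Agent.H18Et.isIso_counit_of_liftsEtaleUniv hl G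
  haveI : IsIso (EtCoh.pullPushAdj i).counit := NatIso.isIso_of_isIso_app _
  haveI hR := (EtCoh.pullPushAdj i).fullyFaithfulROfIsIsoCounit
  set u := (EtCoh.pullPushAdj j).unit.app I with hu
  have hnot : ∀ {Ω : Type u} [Field Ω] [IsSepClosed Ω] (ξ : Spec (CommRingCat.of Ω) ⟶ U),
      (ξ ≫ j).base default ∉ Set.range i.base := fun ξ hm => by
    have : (ξ ≫ j).base default ∈ Set.range j := ⟨ξ default, (Scheme.Hom.comp_apply _ _ _).symm⟩
    rw [hZU] at this
    exact this hm
  have hzero : ∀ G : EtCoh.Ab Z, IsZero ((EtCoh.pull j).obj ((EtCoh.push i).obj G)) := fun G =>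
    (Groth.Agent.H18Et.isZero_iff_stalk _).2 fun Ω _ _ ξ =>
      (AddCommGrpCat.isZero_iff_subsingleton.2
        (Groth.Agent.H18Et.subsingleton_stalk_push i hcl G (ξ ≫ j) (hnot ξ))).of_iso
        ((Groth.Agent.H18Et.stalkPullIso j ξ).app ((EtCoh.push i).obj G))
  have hK : IsIso ((EtCoh.pullPushAdj i).unit.app (kernel u)) := by
    have hs : EtPBC.supp (kernel u) ⊆ Set.range i.base := by
      rintro x ⟨Ω, _, _, ξ, hξ, hne⟩
      by_contra hx
      refine hne ?_
      have hxj : x ∈ Set.range j := by rw [hZU]; exact hx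
      have hr : Set.range ξ ⊆ Set.range j := by
        rw [hξ]; exact Set.singleton_subset_iff.2 hxj
      rw [← IsOpenImmersion.lift_fac j ξ hr]
      haveI : IsIso ((EtCoh.stalk (IsOpenImmersion.lift j ξ hr ≫ j)).map u) :=
        (ConcreteCategory.isIso_iff_bijective _).2
          (Groth.Agent.H18Et.bijective_stalk_unit (Groth.Agent.H18Et.liftsEtaleUniv_of_isOpenImmersion j) I _)
      haveI := Groth.Agent.H18Et.stalk_additive (IsOpenImmersion.lift j ξ hr ≫ j)
      have h0 : (EtCoh.stalk (IsOpenImmersion.lift j ξ hr ≫ j)).map (kernel.ι u) = 0 := by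
        rw [← cancel_mono ((EtCoh.stalk (IsOpenImmersion.lift j ξ hr ≫ j)).map u), ← Functor.map_comp,
          kernel.condition, Functor.map_zero, zero_comp]
      haveI : Mono ((EtCoh.stalk (IsOpenImmersion.lift j ξ hr ≫ j)).map (kernel.ι u)) :=
        (Groth.Agent.H18Et.mono_iff_stalk _).1 inferInstance _ _
      exact IsZero.of_mono_eq_zero _ h0
    obtain ⟨G, ⟨e⟩⟩ := (Groth.Agent.H18Et.push_essImage_iff hl hcl _).2 hs
    haveI := hR.full
    haveI := hR.faithful
    exact (EtCoh.pullPushAdj i).isIso_unit_app_of_iso e.symm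
  refine ⟨fun {A B} g m _ => ?_⟩
  haveI : PreservesLimitsOfSize.{0, 0} (EtCoh.push i) := (EtCoh.pullPushAdj i).rightAdjoint_preservesLimits
  haveI : Mono ((EtCoh.push i).map m) := Functor.map_mono _ _
  let h : (EtCoh.push i).obj B ⟶ I := Injective.factorThru
    ((EtCoh.push i).map g ≫ inv ((EtCoh.pullPushAdj i).unit.app (kernel u)) ≫ kernel.ι u) ((EtCoh.push i).map m)
  have hh : h ≫ u = 0 := ((EtCoh.pullPushAdj j).homEquiv _ _).symm.injective ((hzero B).eq_of_src _ _)
  refine ⟨inv ((EtCoh.pullPushAdj i).counit.app B) ≫ (EtCoh.pull i).map (kernel.lift u h hh), hR.map_injective ?_⟩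
  have key : (EtCoh.push i).map m ≫ kernel.lift u h hh =
      (EtCoh.push i).map g ≫ inv ((EtCoh.pullPushAdj i).unit.app (kernel u)) := by
    rw [← cancel_mono (kernel.ι u), Category.assoc, kernel.lift_ι, Category.assoc]
    exact Injective.comp_factorThru _ _
  have nat : kernel.lift u h hh ≫ (EtCoh.pullPushAdj i).unit.app (kernel u) =
      (EtCoh.pullPushAdj i).unit.app ((EtCoh.push i).obj B) ≫
        (EtCoh.push i).map ((EtCoh.pull i).map (kernel.lift u h hh)) :=
    (EtCoh.pullPushAdj i).unit.naturality (kernel.lift u h hh)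
  have hinv : (EtCoh.push i).map (inv ((EtCoh.pullPushAdj i).counit.app B)) =
      (EtCoh.pullPushAdj i).unit.app ((EtCoh.push i).obj B) := by
    rw [Functor.map_inv]
    exact IsIso.inv_eq_of_inv_hom_id ((EtCoh.pullPushAdj i).right_triangle_components B)
  rw [Functor.map_comp, Functor.map_comp, hinv, ← nat, ← Category.assoc, key, Category.assoc, IsIso.inv_hom_id,
    Category.comp_id]

end Groth.Agent.S0175
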