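import Groth.Statements.S0179
import Groth.Agent.H18Et.SpectralProfinite
import Mathlib.Order.Disjointed

set_option autoImplicit false
universe u
open EtPBC

namespace Groth.Agent.S0179

/-- For a spectral space X with set of closed points X_0, the following are equivalent: (1) any open
cover of X admits a refinement by finitely many pairwise disjoint open-and-closed pieces; (2) the
map from X_0 to the space of connected components pi_0(X) is a bijection. -/
theorem result (X : Type u) [TopologicalSpace X] [SpectralSpace X] :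
    (∀ (ι : Type u) (U : ι → Set X), (∀ i, IsOpen (U i)) → (⋃ i, U i) = Set.univ →
      ∃ (n : ℕ) (V : Fin n → Set X), (∀ k, IsClopen (V k)) ∧
        Pairwise (fun k l => Disjoint (V k) (V l)) ∧ (⋃ k, V k) = Set.univ ∧ ∀ k, ∃ i, V k ⊆ U i) ↔
    Function.Bijective (fun x : {x : X // IsClosed ({x} : Set X)} => _root_.ConnectedComponents.mk x.1) := by
  classical
  constructor
  · intro href
    refine ⟨?_, Groth.Agent.H18Et.surjective_closedPoints_mk⟩
    intro a b hab
    by_contra hne
    obtain ⟨n, V, hV, hdisj, hcov, hsub⟩ := href (ULift Bool)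
      (fun i => if i.down then {a.1}ᶜ else {b.1}ᶜ)
      (fun i => by split_ifs <;> [exact a.2.isOpen_compl; exact b.2.isOpen_compl])
      (Set.eq_univ_of_forall fun x => Set.mem_iUnion.2 (by
        by_cases hx : x = a.1
        · exact ⟨⟨false⟩, by simpa using fun h => hne (Subtype.ext (hx.symm.trans h))⟩
        · exact ⟨⟨true⟩, by simpa using hx⟩))
    obtain ⟨k, hk⟩ := Set.mem_iUnion.1 (hcov.symm ▸ Set.mem_univ a.1 : a.1 ∈ ⋃ k, V k)
    have hbk : b.1 ∈ V k := (hV k).connectedComponent_subset hk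
      (ConnectedComponents.coe_eq_coe'.1 hab.symm)
    obtain ⟨i, hi⟩ := hsub k
    have h1 := hi hk
    have h2 := hi hbk
    rcases i with ⟨_ | _⟩
    · exact (h2 : b.1 ∈ ({b.1}ᶜ : Set X)) rfl
    · exact (h1 : a.1 ∈ ({a.1}ᶜ : Set X)) rfl
  · intro hbij ι U hU hcov
    have hcomp : ∀ x : X, ∃ (W : Set X) (i : ι), IsClopen W ∧ x ∈ W ∧ W ⊆ U i := by
      intro x
      obtain ⟨z, hz, hxz⟩ := Groth.Agent.H18Et.exists_closedPoint x
      obtain ⟨i, hi⟩ := Set.mem_iUnion.1 (hcov.symm ▸ Set.mem_univ z : z ∈ ⋃ i, U i)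
      have hsub : connectedComponent x ⊆ U i := by
        intro y hy
        obtain ⟨w, hw, hyw⟩ := Groth.Agent.H18Et.exists_closedPoint y
        have e1 : ConnectedComponents.mk w = ConnectedComponents.mk z := by
          rw [ConnectedComponents.coe_eq_coe, ← connectedComponent_eq
            (Groth.Agent.H18Et.mem_connectedComponent_of_specializes hxz),
            ← connectedComponent_eq (Groth.Agent.H18Et.mem_connectedComponent_of_specializes hyw),
            ← connectedComponent_eq hy]
        have e2 : w = z := congrArg Subtype.val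
          (hbij.1 (a₁ := ⟨w, hw⟩) (a₂ := ⟨z, hz⟩) e1)
        exact hyw.mem_open (hU i) (e2 ▸ hi)
      rw [Groth.Agent.H28Top.connectedComponent_eq_sInter_isClopen] at hsub
      have hK : (U i)ᶜ ∩ ⋂ Z : {Z : Set X // IsClopen Z ∧ x ∈ Z}, (Z : Set X) = ∅ := by
        rw [Set.eq_empty_iff_forall_notMem]
        rintro y ⟨hy, hyZ⟩
        exact hy (hsub fun Z hZ => Set.mem_iInter.1 hyZ ⟨Z, hZ⟩)
      obtain ⟨t, ht⟩ := (hU i).isClosed_compl.isCompact.elim_finite_subfamily_closed
        (fun Z : {Z : Set X // IsClopen Z ∧ x ∈ Z} => (Z : Set X)) (fun Z => Z.2.1.1) hK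
      refine ⟨⋂ Z ∈ t, (Z : Set X), i, isClopen_biInter_finset fun Z _ => Z.2.1,
        Set.mem_iInter₂.2 fun Z _ => Z.2.2, fun y hy => ?_⟩
      by_contra hyU
      exact Set.eq_empty_iff_forall_notMem.1 ht y ⟨hyU, hy⟩
    choose W ix hW hxW hWU using hcomp
    obtain ⟨t, ht⟩ := isCompact_univ.elim_finite_subcover W (fun x => (hW x).2)
      (fun x _ => Set.mem_iUnion.2 ⟨x, hxW x⟩)
    let f : Fin t.card → Set X := fun k => W (t.equivFin.symm k)
    refine ⟨t.card, disjointed f, fun k => ?_, disjoint_disjointed f, ?_, fun k =>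
      ⟨ix (t.equivFin.symm k), (disjointed_subset f k).trans (hWU _)⟩⟩
    · refine disjointedRec (p := IsClopen) (fun {s i} hs => hs.diff (hW _)) (hW _)
    · rw [iUnion_disjointed, Set.eq_univ_iff_forall]
      intro x
      obtain ⟨y, hy, hxy⟩ := Set.mem_iUnion₂.1 (ht (Set.mem_univ x))
      exact Set.mem_iUnion.2 ⟨t.equivFin ⟨y, hy⟩, by simpa [f] using hxy⟩

end Groth.Agent.S0179
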