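import Groth.Statements.S0180
import Groth.Agent.H18Et.SpectralProfinite

set_option autoImplicit false
universe u
open EtPBC

open Topology

namespace Groth.Agent.S0180

/-- Final assertion: if X is spectral, the set X_0 of closed points is closed, and every point of X
specializes to exactly one closed point, then X_0 -> pi_0(X) is bijective (so X satisfies the
equivalent conditions of the lemma; such X are called w-local). -/
theorem result (X : Type u) [TopologicalSpace X]
    [SpectralSpace X] (h0 : IsClosed {x : X | IsClosed ({x} : Set X)})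
    (huniq : ∀ x : X, ∃! z : X, IsClosed ({z} : Set X) ∧ x ⤳ z) :
    Function.Bijective (fun x : {x : X // IsClosed ({x} : Set X)} => _root_.ConnectedComponents.mk x.1) := by
  classical
  refine ⟨?_, Groth.Agent.H18Et.surjective_closedPoints_mk⟩
  intro a b hab
  by_contra hne
  let Xc : Set X := {x : X | IsClosed ({x} : Set X)}
  haveI : SpectralSpace Xc := Groth.Agent.H28Top.spectralSpace_of_isClosed_constr
    (Groth.Agent.H28Top.isClosed_constr_of_isClosed h0)
  haveI : T1Space Xc := ⟨fun z => by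
    rw [h0.isClosedEmbedding_subtypeVal.isClosed_iff_image_isClosed, Set.image_singleton]
    exact z.2⟩
  haveI := Groth.Agent.H18Et.totallySeparated_of_t1 (X := Xc)
  obtain ⟨C, hC, haC, hbC⟩ := exists_isClopen_of_totally_separated
    (show (⟨a.1, a.2⟩ : Xc) ≠ ⟨b.1, b.2⟩ from fun h => hne (Subtype.ext (congrArg Subtype.val h :)))
  let T : Set X := Subtype.val '' C
  have hpart : ∀ D : Set Xc, IsClopen D →
      IsClosed[constructibleTopology X] {x : X | ∃ z ∈ Subtype.val '' D, x ⤳ z} := fun D hD => by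
    have hc : IsCompact (Subtype.val '' D : Set X) :=
      (h0.isClosedMap_subtype_val D hD.1).isCompact
    exact Groth.Agent.H28Top.isClosed_constr_generalization hc
  let P : Set X := {x : X | ∃ z ∈ Subtype.val '' C, x ⤳ z}
  let Q : Set X := {x : X | ∃ z ∈ Subtype.val '' Cᶜ, x ⤳ z}
  have hPQ : Pᶜ = Q := by
    ext x
    obtain ⟨r, ⟨hr1, hr2⟩, hr3⟩ := huniq x
    constructor
    · intro hx
      exact ⟨r, ⟨⟨r, hr1⟩, fun hrC => hx ⟨r, ⟨_, hrC, rfl⟩, hr2⟩, rfl⟩, hr2⟩
    · rintro ⟨z, ⟨z', hz', rfl⟩, hxz⟩ ⟨w, ⟨w', hw', rfl⟩, hxw⟩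
      exact hz' (by
        have e : (z' : X) = w' := (hr3 _ ⟨z'.2, hxz⟩).trans (hr3 _ ⟨w'.2, hxw⟩).symm
        rwa [Subtype.ext e])
  have hspec : ∀ D : Set Xc, StableUnderSpecialization {x : X | ∃ z ∈ Subtype.val '' D, x ⤳ z} := by
    rintro D x y hxy ⟨z, hz, hxz⟩
    obtain ⟨ry, ⟨hy1, hy2⟩, -⟩ := huniq y
    obtain ⟨r, -, hr3⟩ := huniq x
    obtain ⟨z', hz', rfl⟩ := hz
    have : ry = z' := (hr3 _ ⟨hy1, hxy.trans hy2⟩).trans (hr3 _ ⟨z'.2, hxz⟩).symm
    exact ⟨z', ⟨z', hz', rfl⟩, this ▸ hy2⟩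
  have hP : IsClopen P := by
    refine ⟨Groth.Agent.H28Top.isClosed_of_isClosed_constr (hpart C hC) (hspec C), ?_⟩
    have hQ : IsClosed Q :=
      Groth.Agent.H28Top.isClosed_of_isClosed_constr (hpart Cᶜ hC.compl) (hspec Cᶜ)
    rw [← hPQ] at hQ
    exact isClosed_compl_iff.1 hQ
  have haP : a.1 ∈ P := ⟨a.1, ⟨_, haC, rfl⟩, specializes_rfl⟩
  have hbP : b.1 ∈ P := hP.connectedComponent_subset haP
    (ConnectedComponents.coe_eq_coe'.1 hab.symm)
  have hbQ : b.1 ∈ Q := ⟨b.1, ⟨_, hbC, rfl⟩, specializes_rfl⟩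
  rw [← hPQ] at hbQ
  exact hbQ hbP

end Groth.Agent.S0180
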