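import Groth.Statements.S0181
import Groth.Agent.H18Et.Cons.Compact

set_option autoImplicit false
universe u
open CategoryTheory CategoryTheory.Limits AlgebraicGeometry Opposite
open EtPBC

namespace Groth.Agent.S0181

/-- (2): on a quasi-compact quasi-separated X, if F = colim F_j is a filtered colimit of constructible
abelian sheaves and F is itself constructible, then the ind-object (F_j) is essentially constant
with value F: there are i and s : F -> F_i splitting F_i -> F such that for every j the transition
F_j -> F_k, for some k beyond i and j, equals F_j -> F -> F_i -> F_k. -/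
theorem result (X : Scheme.{u}) [CompactSpace X] [QuasiSeparatedSpace X]
    {J : Type u} [SmallCategory J] [IsFiltered J] (D : J ⥤ EtCoh.Ab X)
    (c : Cocone D) (hc : IsColimit c)
    (hD : ∀ j, EtPBC.IsConstructible (D.obj j)) (hF : EtPBC.IsConstructible c.pt) :
    ∃ (i : J) (s : c.pt ⟶ D.obj i), s ≫ c.ι.app i = 𝟙 c.pt ∧
      ∀ j : J, ∃ (k : J) (a : i ⟶ k) (b : j ⟶ k), D.map b = c.ι.app j ≫ s ≫ D.map a := by
  haveI := preservesFilteredColimitsOfSize_shrink.{u, u + 1, u, u + 1} (CategoryTheory.forget AddCommGrpCat.{u + 1})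
  obtain ⟨i, s, hs⟩ := (Groth.Agent.H18Et.Cons.homBij_of_isConstructible hc c.pt hF).1 (𝟙 _)
  refine ⟨i, s, hs, fun j => ?_⟩
  let m := IsFiltered.max i j
  let a : i ⟶ m := IsFiltered.leftToMax i j
  let b : j ⟶ m := IsFiltered.rightToMax i j
  obtain ⟨k, f, hf⟩ := (Groth.Agent.H18Et.Cons.homBij_of_isConstructible hc (D.obj j) (hD j)).2.eq_stage
    (D.map b) (c.ι.app j ≫ s ≫ D.map a) (by
      rw [c.w, Category.assoc, Category.assoc, c.w, hs]
      exact (Category.comp_id _).symm)
  refine ⟨k, a ≫ f, b ≫ f, ?_⟩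
  rw [D.map_comp, D.map_comp, hf]
  simp only [Category.assoc]

end Groth.Agent.S0181
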