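import Groth.Statements.S0182
import Groth.Agent.H18Et.Cons.DescentQC
import Groth.Agent.H18Et.Cons.Serre

set_option autoImplicit false
universe u
open CategoryTheory CategoryTheory.Limits AlgebraicGeometry Opposite
open EtPBC

namespace Groth.Agent.S0182

/-- (1), surjectivity case, for abelian sheaves: X quasi-compact and quasi-separated, F -> G a map of
constructible abelian sheaves on X_et; the set of points x of X such that F -> G is surjective on
stalks at (every) geometric point over x is constructible. The source states this for constructible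
sheaves of sets; an abelian constructible sheaf is one, with the same stalks. -/
theorem result (X : Scheme.{u}) [CompactSpace X] [QuasiSeparatedSpace X]
    {F G : EtCoh.Ab X} (φ : F ⟶ G) (hF : EtPBC.IsConstructible F) (hG : EtPBC.IsConstructible G) :
    Topology.IsConstructible {x : X | ∀ (Ω : Type u) [Field Ω] [IsSepClosed Ω]
      (ξ : Spec (CommRingCat.of Ω) ⟶ X), Set.range ξ = {x} →
        Function.Surjective ((EtCoh.stalk ξ).map φ)} := by
  convert! Groth.Agent.H18Et.Cons.isConstructible_surjective_locus φ
    (Groth.Agent.H18Et.Cons.isConstructible_kernel_cokernel φ hF hG).2 using 1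
  open scoped Groth.Agent.H18Et in
  ext x
  open scoped Groth.Agent.H18Et in
  have key : ∀ (Ω : Type u) [Field Ω] [IsSepClosed Ω] (ξ : Spec (CommRingCat.of Ω) ⟶ X),
      Function.Surjective ((EtCoh.stalk ξ).map φ) ↔ IsZero ((EtCoh.stalk ξ).obj (cokernel φ)) := by
    intro Ω _ _ ξ
    rw [← AddCommGrpCat.epi_iff_surjective]
    refine ⟨fun h => ?_, fun h => ?_⟩
    · exact (isZero_cokernel_of_epi _).of_iso (PreservesCokernel.iso (EtCoh.stalk ξ) φ)
    · exact Preadditive.epi_of_isZero_cokernel _ (h.of_iso (PreservesCokernel.iso (EtCoh.stalk ξ) φ).symm)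
  simp only [Set.mem_setOf_eq, Set.mem_compl_iff, EtPBC.supp, not_exists, not_and, not_not]
  exact forall_congr' fun Ω => forall_congr' fun _ => forall_congr' fun _ => forall₂_congr fun ξ _ => key Ω ξ

end Groth.Agent.S0182
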