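import Groth.Statements.S0195
import Groth.Agent.H29CSA.Brauer

set_option autoImplicit false
universe u v w
open scoped TensorProduct
open Curves

namespace Groth.Agent.S0195

/-- A finite extension k' of k splits a finite central simple algebra A exactly when some algebra
similar to A contains k' with dim equal to [k':k]^2. Uses Mathlib's bundled CSA and Brauer
equivalence. -/
theorem result (k : Type u) [Field k] (A : CSA.{u, u} k)
    (k' : Type u) [Field k'] [Algebra k k'] [FiniteDimensional k k'] :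
    Curves.Splits k A k' ↔ ∃ (B : CSA.{u, u} k) (_ : k' →ₐ[k] B), IsBrauerEquivalent A B ∧
      Module.finrank k B = Module.finrank k k' ^ 2 := by
  constructor
  · intro h
    obtain ⟨r, hr, D, _, _, hc, hf, ⟨e⟩⟩ := H29CSA.exists_divisionRing_matrix (k := k) A
    haveI := hc
    haveI := hf
    have hD : Curves.Splits k D k' := H29CSA.splits_of_matrix D k' hr.ne (H29CSA.splits_congr e h)
    obtain ⟨m, hm, ⟨ι⟩, hd⟩ := H29CSA.exists_algHom_matrix_of_splits D k' hD
    haveI : NeZero m := ⟨hm⟩
    refine ⟨{ toAlgCat := AlgCat.of k (Matrix (Fin m) (Fin m) D) }, ι, ?_, hd⟩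
    refine ⟨m, r, hm, hr.ne, ⟨?_⟩⟩
    exact (e.mapMatrix (m := Fin m)).trans ((Matrix.compAlgEquiv _ _ _ _).trans
      ((Matrix.reindexAlgEquiv k D (Equiv.prodComm (Fin m) (Fin r))).trans
        (Matrix.compAlgEquiv _ _ _ _).symm))
  · rintro ⟨B, ι, ⟨n, m, hn, hm, ⟨e⟩⟩, hd⟩
    exact H29CSA.splits_of_algHom k' A B hn hm e ι hd

end Groth.Agent.S0195
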