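import Groth.Statements.S0197
import Groth.Agent.H29CSA.Split
import Mathlib.LinearAlgebra.Matrix.ToLin
import Mathlib.LinearAlgebra.Dimension.Constructions

set_option autoImplicit false
universe u v w
open scoped TensorProduct
open Curves

namespace Groth.Agent.S0197

/-- If a finite central skew field D has dimension d^2, the degree of any finite splitting field of D is
divisible by d. -/
theorem result (k : Type u) [Field k]
    (D : Type u) [DivisionRing D] [Algebra k D] [Algebra.IsCentral k D] [FiniteDimensional k D]
    (d : ℕ) (hd : Module.finrank k D = d ^ 2)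
    (k' : Type u) [Field k'] [Algebra k k'] [FiniteDimensional k k'] (hs : Curves.Splits k D k') :
    d ∣ Module.finrank k k' := by
  classical
  obtain ⟨n, hn, ⟨e⟩⟩ := hs
  haveI : NeZero n := ⟨hn⟩
  have hn2 : n ^ 2 = d ^ 2 := (H29CSA.finrank_eq_sq_of_splits D k' e).symm.trans hd
  have hnd : n = d := Nat.pow_left_injective two_ne_zero hn2
  subst hnd
  -- column vectors form a module over `D`
  let rs : Module.End k' (Fin n → k') →ₐ[k] Module.End k (Fin n → k') :=
    { toFun := fun f => f.restrictScalars k
      map_one' := rfl
      map_mul' := fun _ _ => rfl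
      map_zero' := rfl
      map_add' := fun _ _ => rfl
      commutes' := fun c => LinearMap.ext fun v => rfl }
  let act : D →ₐ[k] Module.End k (Fin n → k') :=
    (rs.comp
      ((Matrix.toLinAlgEquiv' (R := k') (n := Fin n)).toAlgHom.restrictScalars k)).comp
      ((e.toAlgHom.restrictScalars k).comp Algebra.TensorProduct.includeRight)
  letI : Module D (Fin n → k') := Module.compHom _ act.toRingHom
  haveI : IsScalarTower k D (Fin n → k') :=
    ⟨fun c x v => LinearMap.congr_fun (act.toLinearMap.map_smul c x) v⟩
  haveI : Module.Finite D (Fin n → k') := Module.Finite.of_restrictScalars_finite k D _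
  have h := Module.finrank_mul_finrank k D (Fin n → k')
  have h2 : Module.finrank k (Fin n → k') = n * Module.finrank k k' := by
    rw [Module.finrank_pi_fintype, Finset.sum_const, Finset.card_univ, Fintype.card_fin, smul_eq_mul]
  rw [hd, h2, pow_two, mul_assoc] at h
  exact ⟨Module.finrank D (Fin n → k'), (Nat.eq_of_mul_eq_mul_left (Nat.pos_of_ne_zero hn) h).symm⟩

end Groth.Agent.S0197
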