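import Groth.Statements.S0207
import Groth.Agent.H9Et.GaZariski
import Groth.Agent.H9Et.ArtinSchreier
import Groth.Agent.S0469

set_option autoImplicit false
universe u
open CategoryTheory CategoryTheory.Limits AlgebraicGeometry
open Curves

namespace Groth.Agent.S0207

/-- On a quasi-compact quasi-separated scheme of dimension d on which the prime p is zero, étale
cohomology with Z/p coefficients vanishes from degree d+2 on. -/
theorem result (p : ℕ) [Fact p.Prime] (S : Scheme.{u}) [CompactSpace S] [QuasiSeparatedSpace S]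
    (hp : (p : Γ(S, ⊤)) = 0) (d : ℕ) (hd : topologicalKrullDim S = d) (q : ℕ) (hq : 2 + d ≤ q) :
    Subsingleton (EtCoh.H S (EtCoh.const S (ZMod p)) q) := by
  haveI : Nontrivial Γ(S, ⊤) := by
    by_contra hc
    rw [not_nontrivial_iff_subsingleton] at hc
    haveI : IsEmpty S := ⟨fun x => not_subsingleton_iff_nontrivial.2 (S.evaluation ⊤ x trivial).hom.domain_nontrivial hc⟩
    haveI : IsEmpty (TopologicalSpace.IrreducibleCloseds S) :=
      ⟨fun Z => Z.isIrreducible.nonempty.elim fun x _ => isEmptyElim (α := S) x⟩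
    rw [topologicalKrullDim, Order.krullDim_eq_bot] at hd
    exact WithBot.bot_ne_coe hd
  haveI : CharP Γ(S, ⊤) p := (CharP.charP_iff_prime_eq_zero (Fact.out : p.Prime)).2 hp
  obtain ⟨r, rfl⟩ : ∃ r, q = r + 2 := ⟨q - 2, by omega⟩
  have hO : ∀ i, d < i → Subsingleton (EtCoh.H S (EtCoh.Ga S) i) := fun i hi => by
    obtain ⟨e⟩ := Groth.Agent.H9Et.nonempty_H_Ga_equiv (S := S) i
    haveI : SpectralSpace (S.toPresheafedSpace.carrier) := ({} : SpectralSpace S)
    haveI : Subsingleton (Coh.HH S (Coh.structureModule S) i) :=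
      Groth.Agent.S0469.result d hd.le (Coh.toAb (Coh.structureModule S)) i hi
    exact e.injective.subsingleton
  refine subsingleton_of_forall_eq 0 fun x => ?_
  obtain ⟨y, rfl⟩ := Abelian.Ext.covariant_sequence_exact₁ _ (Groth.Agent.H9Et.AS.shortExact_seq S p) x
    ((hO (r + 2) (by omega)).elim _ _) (show r + 1 + 1 = r + 2 by omega)
  rw [(hO (r + 1) (by omega)).elim y 0]
  simp

end Groth.Agent.S0207
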