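import Groth.Statements.S0208
import Groth.Agent.H05EGA4.EtCl.BrauerNorm

set_option autoImplicit false
universe u
open CategoryTheory CategoryTheory.Limits AlgebraicGeometry
open Curves

namespace Groth.Agent.S0208

/-- Let K be a field such that every finite extension K' of K has trivial Brauer group: every
finite-dimensional central division algebra over K' is K' itself. Then for every torsion abelian
sheaf F on the small étale site of Spec K and every q ≥ 2, H^q(Spec K_ét, F) = 0. (This is the
étale-site form of the corresponding vanishing of Galois cohomology of K.) -/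
theorem result (K : Type u) [Field K]
    (hBr : ∀ (K' : Type u) [Field K'] [Algebra K K'] [FiniteDimensional K K']
      (D : Type u) [DivisionRing D] [Algebra K' D] [Algebra.IsCentral K' D] [FiniteDimensional K' D],
      Module.finrank K' D = 1)
    (F : EtCoh.Ab (Spec (CommRingCat.of K))) (hF : EtCoh.IsTorsion F) (q : ℕ) (hq : 2 ≤ q) :
    Subsingleton (EtCoh.H (Spec (CommRingCat.of K)) F q) := by
  refine subsingleton_of_forall_eq 0 fun ξ => ?_
  refine AddMonoid.addOrderOf_eq_one_iff.1 (Nat.eq_one_iff_not_exists_prime_dvd.2 fun p hp hpx => ?_)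
  haveI : Fact p.Prime := ⟨hp⟩
  have hfin := (H9GalCoh.Killing.isOfFinAddOrder _ q (by omega) ξ).addOrderOf_pos
  have hN := H05EGA4.EtCl.BrauerNorm.normSurj K hBr p
  have hm : ∃ m : ℕ, p ^ m • ((addOrderOf ξ / p) • ξ) = 0 :=
    ⟨1, by rw [pow_one, smul_smul, Nat.mul_div_cancel' hpx, addOrderOf_nsmul_eq_zero]⟩
  have h1 : (addOrderOf ξ / p) • ξ = 0 := by
    by_cases h0 : (p : K) = 0
    · haveI : CharP K p := CharP.charP_iff_prime_eq_zero hp |>.2 h0
      exact S7733.result K p F hF q hq _ hm
    · exact S7732.cd_of_normSurj K p h0 hN F hF q (by omega) _ hm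
  exact Nat.not_dvd_of_pos_of_lt (Nat.div_pos (Nat.le_of_dvd hfin hpx) hp.pos) (Nat.div_lt_self hfin hp.one_lt)
    (addOrderOf_dvd_of_nsmul_eq_zero h1)

end Groth.Agent.S0208
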