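import Groth.Statements.S0215
import Groth.Agent.H29Curve.UnitsModConstScheme

set_option autoImplicit false
universe u
open CategoryTheory CategoryTheory.Limits AlgebraicGeometry TopologicalSpace
open Curves

namespace Groth.Agent.S0215

open Groth.Agent.H29Curve



/-- For a connected reduced scheme locally of finite type over a field k with finitely many irreducible
components, in which every global function integral over k is a constant, the group of invertible
global functions modulo nonzero constants is finitely generated. -/
theorem result (k : Type u) [Field k] (X : Scheme.{u}) (f : X ⟶ Spec (CommRingCat.of k))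
    [LocallyOfFiniteType f] [IsReduced X] [ConnectedSpace X] (hirr : (irreducibleComponents (X : Type u)).Finite)
    (hint : ∀ x : Γ(X, ⊤), (f.appTop.hom.comp (Scheme.ΓSpecIso (CommRingCat.of k)).inv.hom).IsIntegralElem x →
      x ∈ Set.range (f.appTop.hom.comp (Scheme.ΓSpecIso (CommRingCat.of k)).inv.hom)) :
    Group.FG ((Γ(X, ⊤))ˣ ⧸ (Units.map ((f.appTop.hom.comp (Scheme.ΓSpecIso (CommRingCat.of k)).inv.hom : k →+* Γ(X, ⊤)) : k →* Γ(X, ⊤))).range) := by
  obtain ⟨J, _, φ, hφ⟩ := exists_units_addHom_scheme k f hirr
  set c := (f.appTop.hom.comp (Scheme.ΓSpecIso (CommRingCat.of k)).inv.hom) with hc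
  let φ' : (Γ(X, ⊤))ˣ →* Multiplicative (J → ℤ) := AddMonoidHom.toMultiplicativeRight φ
  have hker : φ'.ker = (Units.map (c : k →* Γ(X, ⊤))).range := by
    ext a
    constructor
    · intro ha
      obtain ⟨y, hy⟩ := hint a ((hφ a).mp ha)
      have hy0 : y ≠ 0 := by
        rintro rfl
        rw [map_zero] at hy
        have : Nontrivial Γ(X, ⊤) := by
          obtain ⟨x⟩ := (inferInstance : Nonempty X)
          exact (X.presheaf.germ ⊤ x trivial).hom.domain_nontrivial
        exact a.ne_zero hy.symm
      exact ⟨Units.mk0 y hy0, Units.ext hy⟩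
    · rintro ⟨y, rfl⟩
      exact (hφ _).mpr (RingHom.isIntegralElem_map (f := c))
  rw [← hker]
  have hfg : AddGroup.FG φ.range := by
    exact Module.Finite.iff_addGroup_fg.mp
      (inferInstance : Module.Finite ℤ (AddSubgroup.toIntSubmodule φ.range))
  have : Group.FG φ'.range := by
    have hsub : φ'.range = AddSubgroup.toSubgroup' φ.range := by
      ext x; rfl
    rw [hsub]
    exact (Group.fg_iff_subgroup_fg _).mpr
      ((AddSubgroup.fg_iff_mul_fg _).mp ((AddGroup.fg_iff_addSubgroup_fg _).mp hfg))
  exact Group.fg_of_surjective (f := (QuotientGroup.quotientKerEquivRange φ').symm.toMonoidHom)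
    (MulEquiv.surjective _)

end Groth.Agent.S0215
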