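import Groth.Statements.S0216
import Mathlib

set_option autoImplicit false
universe u
open CategoryTheory CategoryTheory.Limits AlgebraicGeometry TopologicalSpace
open Curves

namespace Groth.Agent.S0216

open Polynomial in
/-- Given `g ≠ 0` over a field, some integer polynomial has nonzero nonunit image coprime to `g`. -/
theorem exists_coprime_int (k : Type u) [Field k] (g : k[X]) (hg : g ≠ 0) :
    ∃ q : ℤ[X], q.map (Int.castRingHom k) ≠ 0 ∧ ¬ IsUnit (q.map (Int.castRingHom k)) ∧
      IsCoprime (q.map (Int.castRingHom k)) g := by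
  classical
  let Ω := AlgebraicClosure k
  let alg : Ω → Prop := fun r => ∃ Q : ℤ[X], Q.map (Int.castRingHom k) ≠ 0 ∧ aeval r Q = 0
  let Qr : Ω → ℤ[X] := fun r => if h : alg r then h.choose else 1
  let R := (g.map (algebraMap k Ω)).roots.toFinset
  let Q : ℤ[X] := ∏ r ∈ R, Qr r
  have hQ : Q.map (Int.castRingHom k) ≠ 0 := by
    rw [Polynomial.map_prod]
    refine Finset.prod_ne_zero_iff.mpr fun r _ => ?_
    by_cases h : alg r
    · simp only [Qr, dif_pos h]; exact h.choose_spec.1
    · simp [Qr, h]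
  have hdeg : 0 < ((X * Q + 1).map (Int.castRingHom k)).natDegree := by
    rw [Polynomial.map_add, Polynomial.map_mul, Polynomial.map_one, map_X, ← C_1,
      natDegree_add_C, natDegree_X_mul hQ]
    omega
  refine ⟨X * Q + 1, fun h => by simp [h] at hdeg, fun h => ?_, ?_⟩
  · rw [natDegree_eq_zero_of_isUnit h] at hdeg; omega
  rw [isCoprime_iff_aeval_ne_zero_of_isAlgClosed k Ω]
  intro r
  by_cases hr : aeval r g = 0
  · left
    have hrR : r ∈ R := by
      simp only [R, Multiset.mem_toFinset, mem_roots', ne_eq, IsRoot.def, eval_map_algebraMap]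
      exact ⟨(Polynomial.map_ne_zero_iff (algebraMap k Ω).injective).mpr hg, hr⟩
    have hev : ∀ P : ℤ[X], aeval r (P.map (Int.castRingHom k)) = aeval r P := fun P => by
      rw [← algebraMap_int_eq, aeval_map_algebraMap]
    rw [hev]
    intro h0
    by_cases h : alg r
    · have : aeval r Q = 0 := by
        rw [map_prod]
        refine Finset.prod_eq_zero hrR ?_
        simp only [Qr, dif_pos h]; exact h.choose_spec.2
      simp [this] at h0
    · exact h ⟨X * Q + 1, fun hz => by simp [hz] at hdeg, h0⟩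
  · exact Or.inr hr

open Polynomial in
/-- Local criterion for integrality. -/
theorem isIntegral_of_isUnit_aeval (k B : Type u) [Field k] [CommRing B] [IsReduced B] [Algebra k B]
    [Algebra.FiniteType k B] (x : B)
    (h : ∀ q : ℤ[X], q.map (Int.castRingHom k) ≠ 0 → IsUnit (aeval x q)) : IsIntegral k x := by
  classical
  haveI : IsNoetherianRing B := Algebra.FiniteType.isNoetherianRing k B
  have hloc : ∀ P ∈ minimalPrimes B, ∃ p : k[X], p ≠ 0 ∧ aeval x p ∈ P := by
    intro P hP
    by_contra hc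
    push Not at hc
    haveI : P.IsPrime := hP.1.1
    letI : Algebra k[X] (B ⧸ P) := (aeval (Ideal.Quotient.mk P x)).toRingHom.toAlgebra
    have halg : ∀ p : k[X], algebraMap k[X] (B ⧸ P) p = Ideal.Quotient.mk P (aeval x p) := fun p =>
      aeval_algHom_apply (Ideal.Quotient.mkₐ k P) x p
    have hinj : Function.Injective (algebraMap k[X] (B ⧸ P)) := by
      rw [injective_iff_map_eq_zero]
      intro p hp
      rw [halg, Ideal.Quotient.eq_zero_iff_mem] at hp
      by_contra hp0
      exact hc p hp0 hp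
    haveI : IsScalarTower k k[X] (B ⧸ P) := .of_algebraMap_eq fun r => by
      rw [halg, ← C_eq_algebraMap, aeval_C]; rfl
    haveI : Algebra.FiniteType k[X] (B ⧸ P) := Algebra.FiniteType.of_restrictScalars_finiteType k _ _
    haveI : Algebra.FinitePresentation k[X] (B ⧸ P) := Algebra.FinitePresentation.of_finiteType.mp inferInstance
    haveI : Module.IsTorsionFree k[X] (B ⧸ P) := Module.isTorsionFree_iff_algebraMap_injective.mpr hinj
    have hopen := PrimeSpectrum.isOpenMap_comap_of_hasGoingDown_of_finitePresentation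
      (R := k[X]) (S := B ⧸ P) Set.univ isOpen_univ
    rw [Set.image_univ] at hopen
    have h0 : (⟨⊥, Ideal.isPrime_bot⟩ : PrimeSpectrum k[X]) ∈
        Set.range (PrimeSpectrum.comap (algebraMap k[X] (B ⧸ P))) :=
      ⟨⟨⊥, Ideal.isPrime_bot⟩, PrimeSpectrum.ext (Ideal.comap_bot_of_injective _ hinj)⟩
    obtain ⟨_, ⟨_, ⟨g, rfl⟩, rfl⟩, hg0, hgsub⟩ :=
      PrimeSpectrum.isBasis_basic_opens.exists_subset_of_mem_open h0 hopen
    have hg : g ≠ 0 := fun hz => hg0 (by simp [hz])
    obtain ⟨q, hq0, hqu, hco⟩ := exists_coprime_int k g hg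
    obtain ⟨π, hπ, hπq⟩ := WfDvdMonoid.exists_irreducible_factor hqu hq0
    haveI : (Ideal.span {π}).IsPrime := (Ideal.span_singleton_prime hπ.ne_zero).mpr hπ.prime
    have hπg : g ∉ Ideal.span {π} := fun hmem =>
      hπ.not_isUnit ((hco.of_isCoprime_of_dvd_left hπq).isUnit_of_dvd' dvd_rfl (Ideal.mem_span_singleton.mp hmem))
    obtain ⟨Q, hQ⟩ := hgsub (show (⟨Ideal.span {π}, inferInstance⟩ : PrimeSpectrum k[X]) ∈ _ from hπg)
    have hqQ : algebraMap k[X] (B ⧸ P) (q.map (Int.castRingHom k)) ∈ Q.asIdeal := by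
      have hmem : q.map (Int.castRingHom k) ∈ Ideal.span {π} := Ideal.mem_span_singleton.mpr hπq
      rw [← show _ = Ideal.span {π} from congrArg PrimeSpectrum.asIdeal hQ] at hmem
      exact hmem
    rw [halg, ← algebraMap_int_eq, aeval_map_algebraMap] at hqQ
    exact Q.2.ne_top (Ideal.eq_top_of_isUnit_mem _ hqQ ((h q hq0).map _))
  choose p hp0 hpP using hloc
  have hfin : (minimalPrimes B).Finite := minimalPrimes.finite_of_isNoetherianRing B
  let T : k[X] := ∏ P : hfin.toFinset, p P.1 (hfin.mem_toFinset.mp P.2)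
  have hT : T ≠ 0 := Finset.prod_ne_zero_iff.mpr fun P _ => hp0 _ _
  have hTx : aeval x T = 0 := by
    rw [← Ideal.mem_bot, ← nilradical_eq_zero B |>.trans Submodule.zero_eq_bot, nilradical,
      ← Ideal.sInf_minimalPrimes, Ideal.mem_sInf]
    intro P hP
    rw [map_prod]
    exact Ideal.prod_mem (I := P) (Finset.mem_univ (⟨P, hfin.mem_toFinset.mpr hP⟩ : hfin.toFinset)) (hpP P hP)
  exact IsAlgebraic.isIntegral ⟨T, hT, hTx⟩

open Polynomial in
/-- On a connected reduced scheme a locally integral function is integral, with irreducible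
equation. -/
theorem exists_irreducible (X : Scheme.{u}) [IsReduced X] [ConnectedSpace X] (k : Type u) [Field k]
    (φ : k →+* Γ(X, ⊤)) (x : Γ(X, ⊤))
    (h : ∀ y : X, ∃ (U : X.Opens) (_ : y ∈ U) (p : k[X]), p ≠ 0 ∧
      X.presheaf.map (homOfLE (le_top : U ≤ ⊤)).op (eval₂ φ x p) = 0) :
    ∃ π : k[X], Irreducible π ∧ eval₂ φ x π = 0 := by
  classical
  obtain ⟨y₀⟩ := (inferInstance : Nonempty X)
  have hbot : ∀ (U : X.Opens) (p : k[X]), X.presheaf.map (homOfLE (le_top : U ≤ ⊤)).op (eval₂ φ x p) = 0 →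
      ∀ z ∈ U, z ∉ X.basicOpen (eval₂ φ x p) := fun U p hp z hz hzb => by
    have h1 := X.basicOpen_res (eval₂ φ x p) (homOfLE (le_top : U ≤ ⊤)).op
    rw [hp] at h1
    have : z ∈ X.basicOpen (0 : Γ(X, U)) := h1 ▸ ⟨hz, hzb⟩
    simp at this
  have hmem : ∀ (a b : k[X]) (z : X), z ∈ X.basicOpen (eval₂ φ x (a * b)) ↔
      z ∈ X.basicOpen (eval₂ φ x a) ∧ z ∈ X.basicOpen (eval₂ φ x b) := fun a b z => by
    rw [eval₂_mul, Scheme.basicOpen_mul]; rfl
  let γ : Γ(X, ⊤) →+* _ := (X.presheaf.germ ⊤ y₀ trivial).hom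
  let ev : k[X] →+* _ := ((IsLocalRing.residue _).comp γ).comp (eval₂RingHom φ x)
  have hev : ∀ p : k[X], ev p = 0 ↔ y₀ ∉ X.basicOpen (eval₂ φ x p) := fun p => by
    rw [Scheme.mem_basicOpen X (eval₂ φ x p) y₀ trivial]
    exact IsLocalRing.residue_eq_zero_iff _
  obtain ⟨U, hU, p, hp0, hp⟩ := h y₀
  haveI : (RingHom.ker ev).IsPrime := RingHom.ker_isPrime _
  have hker : RingHom.ker ev ≠ ⊥ := fun hb => hp0 <| by
    have : p ∈ RingHom.ker ev := (hev p).mpr (hbot U p hp y₀ hU)
    rwa [hb, Ideal.mem_bot] at this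
  let π := Submodule.IsPrincipal.generator (RingHom.ker ev)
  have hπ : Irreducible π := (Submodule.IsPrincipal.prime_generator_of_isPrime _ hker).irreducible
  have hπ0 : y₀ ∉ X.basicOpen (eval₂ φ x π) := (hev π).mp (RingHom.mem_ker.mp (Submodule.IsPrincipal.generator_mem (RingHom.ker ev)))
  set V := X.basicOpen (eval₂ φ x π)
  have hclosed : IsClosed (V : Set X) := by
    rw [← isOpen_compl_iff, isOpen_iff_forall_mem_open]
    intro z hz
    obtain ⟨W, hW, p, hp0, hp⟩ := h z
    obtain ⟨n, r, hr, rfl⟩ := WfDvdMonoid.max_power_factor hp0 hπ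
    refine ⟨(W : Set X) ∩ X.basicOpen (eval₂ φ x r), fun w hw hwV => ?_,
      W.2.inter (X.basicOpen _).2, hW, ?_⟩
    · refine hbot W _ hp w hw.1 ((hmem _ _ w).mpr ⟨?_, hw.2⟩)
      rw [eval₂_pow]
      rcases Nat.eq_zero_or_pos n with rfl | hn
      · rw [pow_zero, X.basicOpen_of_isUnit isUnit_one]; trivial
      · rwa [X.basicOpen_pow _ hn]
    · obtain ⟨a, b, hab⟩ := (hπ.coprime_iff_not_dvd).mpr hr
      by_contra hzr
      have h1 : z ∈ X.basicOpen (eval₂ φ x (a * π + b * r)) := by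
        rw [hab, eval₂_one, X.basicOpen_of_isUnit isUnit_one]; trivial
      rw [eval₂_add] at h1
      rcases X.basicOpen_add_le _ _ h1 with h2 | h2
      · exact hz ((hmem _ _ z).mp h2).2
      · exact hzr ((hmem _ _ z).mp h2).2
  have hV : V = ⊥ := by
    rcases isClopen_iff.mp ⟨hclosed, V.2⟩ with h1 | h1
    · exact Opens.ext h1
    · exact absurd (h1 ▸ Set.mem_univ y₀ : y₀ ∈ (V : Set X)) hπ0
  exact ⟨π, hπ, (AlgebraicGeometry.basicOpen_eq_bot_iff _).mp hV⟩

open Polynomial in
theorem one_dir (X : Scheme.{u}) [IsReduced X] [ConnectedSpace X]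
    (k₁ k₂ : Type u) [Field k₁] [Field k₂]
    (a : X ⟶ Spec (CommRingCat.of k₁)) [LocallyOfFiniteType a]
    (ψ : k₂ →+* Γ(X, ⊤)) (x : Γ(X, ⊤)) (hx : ψ.IsIntegralElem x) :
    (show k₁ →+* Γ(X, ⊤) from Coh.toGlobal a).IsIntegralElem x := by
  classical
  letI : Algebra k₂ Γ(X, ⊤) := ψ.toAlgebra
  have hxi : IsIntegral k₂ x := hx
  have hzu : ∀ y : Γ(X, ⊤), IsIntegral k₂ y → y = 0 ∨ IsUnit y := by
    intro y ⟨p, hpm, hp⟩
    obtain ⟨π, hπ, hπy⟩ := exists_irreducible X k₂ ψ y fun _ =>
      ⟨⊤, trivial, p, hpm.ne_zero, by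
        exact (congrArg _ hp).trans (map_zero _)⟩
    by_cases hX : (Polynomial.X : k₂[X]) ∣ π
    · left
      obtain ⟨c, rfl⟩ := hX
      have hc : IsUnit c := (hπ.isUnit_or_isUnit rfl).resolve_left not_isUnit_X
      rw [eval₂_mul, eval₂_X] at hπy
      exact (hc.map (eval₂RingHom ψ y)).mul_left_eq_zero.mp hπy
    · right
      obtain ⟨u, v, huv⟩ := (hπ.coprime_iff_not_dvd).mpr fun hdvd =>
        hX (hπ.associated_of_dvd irreducible_X hdvd).symm.dvd
      have := congrArg (eval₂ ψ y) huv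
      rw [eval₂_add, eval₂_mul, hπy, mul_zero, zero_add, eval₂_mul, eval₂_X, eval₂_one] at this
      exact IsUnit.of_mul_eq_one_right _ this
  let φ : k₁ →+* Γ(X, ⊤) := Coh.toGlobal a
  by_cases halg : ∃ q : ℤ[X], q.map (Int.castRingHom k₁) ≠ 0 ∧ Polynomial.aeval x q = 0
  · obtain ⟨q, hq0, hq⟩ := halg
    letI : Algebra k₁ Γ(X, ⊤) := φ.toAlgebra
    have : IsAlgebraic k₁ x := ⟨_, hq0, by rw [← algebraMap_int_eq, aeval_map_algebraMap]; exact hq⟩
    exact this.isIntegral
  push Not at halg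
  obtain ⟨π, hπ, hπx⟩ := exists_irreducible X k₁ φ x fun z => by
    obtain ⟨U, hU, hzU, -⟩ := exists_isAffineOpen_mem_and_subset (Opens.mem_top z)
    refine ⟨U, hzU, ?_⟩
    let res := (X.presheaf.map (homOfLE (le_top : U ≤ ⊤)).op).hom
    letI : Algebra k₁ Γ(X, U) := (res.comp φ).toAlgebra
    haveI : Algebra.FiniteType k₁ Γ(X, U) := by
      have h1 := a.finiteType_appLE (isAffineOpen_top (Spec (CommRingCat.of k₁))) hU le_top
      have h2 := h1.comp (RingHom.FiniteType.of_surjective (Scheme.ΓSpecIso (CommRingCat.of k₁)).inv.hom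
        (ConcreteCategory.bijective_of_isIso (Scheme.ΓSpecIso (CommRingCat.of k₁)).inv).2)
      exact h2
    haveI : _root_.IsReduced Γ(X, U) := inferInstance
    have hint : IsIntegral k₁ (res x) := isIntegral_of_isUnit_aeval k₁ _ (res x) fun q hq => by
      have hu := (hzu (aeval x q) (adjoin_le_integralClosure hxi (by
        have : aeval x q = aeval x (q.map (Int.castRingHom k₂)) := by
          rw [← algebraMap_int_eq, aeval_map_algebraMap]
        rw [this]
        exact aeval_mem_adjoin_singleton _ _))).resolve_left (halg q hq)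
      have := hu.map res
      exact (aeval_algHom_apply res.toIntAlgHom x q).symm ▸ this
    obtain ⟨p, hpm, hp⟩ := hint
    exact ⟨p, hpm.ne_zero, by rw [← hp]; exact (hom_eval₂ p φ res x).trans rfl⟩
  letI : Algebra k₁ Γ(X, ⊤) := φ.toAlgebra
  exact IsAlgebraic.isIntegral ⟨π, hπ.ne_zero, hπx⟩


/-- If a connected reduced scheme is locally of finite type over two fields k₁ and k₂, then a global
function is integral over k₁ exactly when it is integral over k₂ (the integral closures of the two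
base fields in the global functions coincide). -/
theorem result (X : Scheme.{u}) [IsReduced X] [ConnectedSpace X]
    (k₁ k₂ : Type u) [Field k₁] [Field k₂]
    (a : X ⟶ Spec (CommRingCat.of k₁)) (b : X ⟶ Spec (CommRingCat.of k₂))
    [LocallyOfFiniteType a] [LocallyOfFiniteType b] (x : Coh.Γtop X) :
    (Coh.toGlobal a).IsIntegralElem x ↔ (Coh.toGlobal b).IsIntegralElem x := by
  exact ⟨one_dir X k₂ k₁ b (Coh.toGlobal a) x, one_dir X k₁ k₂ a (Coh.toGlobal b) x⟩

end Groth.Agent.S0216
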