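import Groth.Statements.S0218
import Mathlib

set_option autoImplicit false
universe u
open Curves

namespace Groth.Agent.S0218

/-- Over an algebraically closed field k, a commutative k-algebra with exactly two k-subalgebras is
isomorphic to k × k or to the dual numbers over k. -/
theorem result (k : Type u) [Field k] [IsAlgClosed k] (A : Type u) [CommRing A] [Algebra k A]
    (h : Nat.card (Subalgebra k A) = 2) :
    Nonempty (A ≃ₐ[k] (k × k)) ∨ Nonempty (A ≃ₐ[k] DualNumber k) := by
  obtain ⟨S₁, S₂, hne, hS⟩ := Nat.card_eq_two_iff.mp h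
  have hall : ∀ S : Subalgebra k A, S = ⊥ ∨ S = ⊤ := by
    have hbt : (⊥ : Subalgebra k A) ≠ ⊤ := fun he => hne
      (le_antisymm (le_trans le_top (he ▸ bot_le)) (le_trans le_top (he ▸ bot_le)))
    intro S
    have hm : ∀ T : Subalgebra k A, T = S₁ ∨ T = S₂ := fun T => by
      have := hS.ge (Set.mem_univ T); simpa using this
    rcases hm S with rfl | rfl <;> rcases hm ⊥ with h1 | h1 <;> rcases hm ⊤ with h2 | h2 <;>
      first
      | (exact absurd (h1.trans h2.symm) hbt)
      | (exact Or.inl h1.symm)
      | (exact Or.inr h2.symm)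
  have hbt : (⊥ : Subalgebra k A) ≠ ⊤ := fun he => hne
      (le_antisymm (le_trans le_top (he ▸ bot_le)) (le_trans le_top (he ▸ bot_le)))
  obtain ⟨x, hx⟩ : ∃ x : A, x ∉ (⊥ : Subalgebra k A) := by
    by_contra hc
    push Not at hc
    exact hbt (eq_top_iff.mpr fun a _ => hc a)
  haveI : Nontrivial A := nontrivial_of_ne x 0 fun h0 => hx (h0 ▸ zero_mem _)
  have hgen : Algebra.adjoin k {x} = ⊤ := (hall _).resolve_left fun hb =>
    hx (hb ▸ Algebra.self_mem_adjoin_singleton k x)
  have hint : IsIntegral k x := by
    rw [← isAlgebraic_iff_isIntegral]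
    by_contra htr
    have hinj : Function.Injective (Polynomial.aeval (R := k) x) := transcendental_iff_injective.mp htr
    rcases hall (Algebra.adjoin k {x ^ 2}) with hb | ht
    · obtain ⟨c, hc⟩ := Algebra.mem_bot.mp (hb ▸ Algebra.self_mem_adjoin_singleton k (x ^ 2))
      exact Polynomial.X_pow_sub_C_ne_zero (n := 2) two_pos c (hinj (by simp [hc]))
    · have : x ∈ Algebra.adjoin k {x ^ 2} := ht ▸ trivial
      rw [Algebra.adjoin_singleton_eq_range_aeval] at this
      obtain ⟨q, hq⟩ := this
      have h2 : q.comp (Polynomial.X ^ 2) = Polynomial.X := hinj (by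
        rw [Polynomial.aeval_comp, map_pow, Polynomial.aeval_X]; exact hq)
      have := congrArg Polynomial.natDegree h2
      rw [Polynomial.natDegree_comp, Polynomial.natDegree_X_pow, Polynomial.natDegree_X] at this
      omega
  set m := minpoly k x
  have hm0 : m ≠ 0 := minpoly.ne_zero hint
  have hdeg : 0 < m.natDegree := minpoly.natDegree_pos hint
  obtain ⟨a, ha⟩ := IsAlgClosed.exists_root m (fun h0 => by
    have := Polynomial.natDegree_eq_of_degree_eq_some (n := 0) h0; omega)
  obtain ⟨r, hr⟩ := Polynomial.dvd_iff_isRoot.mpr ha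
  have hr0 : r ≠ 0 := right_ne_zero_of_mul (hr ▸ hm0)
  have hrd : m.natDegree = r.natDegree + 1 := by
    rw [hr, Polynomial.natDegree_mul (Polynomial.X_sub_C_ne_zero a) hr0, Polynomial.natDegree_X_sub_C]
    omega
  set y := Polynomial.aeval x r
  have hxy : x * y = algebraMap k A a * y := by
    have := minpoly.aeval k x
    rw [show minpoly k x = _ from hr, map_mul, map_sub, Polynomial.aeval_X, Polynomial.aeval_C, sub_mul] at this
    exact sub_eq_zero.mp this
  have hmul : ∀ p : Polynomial k, Polynomial.aeval x p * y = algebraMap k A (p.eval a) * y := by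
    intro p
    obtain ⟨q, hq⟩ := Polynomial.X_sub_C_dvd_sub_C_eval (a := a) (p := p)
    have h3 := congrArg (Polynomial.aeval x) hq
    rw [map_sub, map_mul, map_sub, Polynomial.aeval_X, Polynomial.aeval_C, Polynomial.aeval_C] at h3
    rw [← sub_eq_zero, ← sub_mul, h3, mul_comm (x - _) _, mul_assoc, sub_mul, hxy, sub_self, mul_zero]
  have hy : y ∉ (⊥ : Subalgebra k A) := by
    intro hy
    obtain ⟨c, hc⟩ := Algebra.mem_bot.mp hy
    have hne0 : r - Polynomial.C c ≠ 0 := by
      intro h0
      have : r = Polynomial.C c := sub_eq_zero.mp h0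
      rw [this, Polynomial.natDegree_C] at hrd
      have hd : m.natDegree = 1 := hrd
      apply hx
      have h1 := minpoly.aeval k x
      rw [show minpoly k x = _ from hr, this, map_mul, map_sub, Polynomial.aeval_X, Polynomial.aeval_C,
        Polynomial.aeval_C] at h1
      have hc0 : c ≠ 0 := fun h => hr0 (by rw [this, h, map_zero])
      refine Algebra.mem_bot.mpr ⟨a, ?_⟩
      exact (sub_eq_zero.mp (((IsUnit.mk0 c hc0).map (algebraMap k A)).mul_left_eq_zero.mp h1)).symm
    have h1 : Polynomial.aeval x (r - Polynomial.C c) = 0 := by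
      rw [map_sub, Polynomial.aeval_C, hc, sub_self]
    have h2 := Polynomial.natDegree_le_natDegree (minpoly.degree_le_of_ne_zero k x hne0 h1)
    rw [Polynomial.natDegree_sub_C] at h2
    change m.natDegree ≤ _ at h2
    omega
  set c := r.eval a
  have hyy : y * y = c • y := by rw [Algebra.smul_def]; exact hmul r
  have hspan : ∀ z : A, ∃ p q : k, z = algebraMap k A p + q • y := by
    let B : Subalgebra k A :=
      { carrier := {z | ∃ p q : k, z = algebraMap k A p + q • y}
        mul_mem' := by
          rintro _ _ ⟨p, q, rfl⟩ ⟨p', q', rfl⟩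
          refine ⟨p * p', p * q' + q * p' + q * q' * c, ?_⟩
          simp only [Algebra.smul_def, map_add, map_mul]
          rw [Algebra.smul_def] at hyy
          linear_combination (algebraMap k A q * algebraMap k A q') * hyy
        add_mem' := by
          rintro _ _ ⟨p, q, rfl⟩ ⟨p', q', rfl⟩
          exact ⟨p + p', q + q', by rw [map_add, add_smul]; abel⟩
        algebraMap_mem' := fun p => ⟨p, 0, by simp⟩ }
    have : B = ⊤ := (hall B).resolve_left fun hb => hy (hb ▸ (⟨0, 1, by simp⟩ : y ∈ B))
    exact fun z => (this ▸ trivial : z ∈ B)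
  have hind : ∀ p q : k, algebraMap k A p + q • y = 0 → p = 0 ∧ q = 0 := by
    intro p q hpq
    rcases eq_or_ne q 0 with rfl | hq
    · rw [zero_smul, add_zero] at hpq
      exact ⟨(algebraMap k A).injective (hpq.trans (map_zero _).symm), rfl⟩
    · refine absurd (Algebra.mem_bot.mpr ⟨-p / q, ?_⟩) hy
      have : q • y = algebraMap k A (-p) := by
        rw [map_neg]; exact eq_neg_of_add_eq_zero_right hpq
      calc algebraMap k A (-p / q) = q⁻¹ • algebraMap k A (-p) := by
            rw [Algebra.smul_def, ← map_mul, div_eq_inv_mul]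
        _ = y := by rw [← this, smul_smul, inv_mul_cancel₀ hq, one_smul]
  rcases eq_or_ne c 0 with hc | hc
  · right
    let φ : DualNumber k →ₐ[k] A :=
      DualNumber.lift ⟨(Algebra.ofId k A, y), by rw [hyy, hc, zero_smul], fun _ => Commute.all _ _⟩
    refine ⟨(AlgEquiv.ofBijective φ ⟨(injective_iff_map_eq_zero φ).mpr fun z hz => ?_, fun z => ?_⟩).symm⟩
    · change algebraMap k A z.fst + algebraMap k A z.snd * y = 0 at hz
      rw [← Algebra.smul_def] at hz
      obtain ⟨h1, h2⟩ := hind _ _ hz
      exact TrivSqZeroExt.ext h1 h2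
    · obtain ⟨p, q, rfl⟩ := hspan z
      refine ⟨TrivSqZeroExt.inl p + TrivSqZeroExt.inr q, ?_⟩
      change algebraMap k A _ + algebraMap k A _ * y = _
      simp [Algebra.smul_def, TrivSqZeroExt.algebraMap_eq_inl]
  · left
    set e := c⁻¹ • y
    have he : e * e = e := by
      simp only [e, smul_mul_smul_comm, hyy, smul_smul]; congr 1; field_simp
    let φ : (k × k) →ₐ[k] A :=
      { toFun := fun z => algebraMap k A z.2 + (z.1 - z.2) • e
        map_one' := by simp
        map_zero' := by simp
        map_add' := fun z w => by simp [add_sub_add_comm, add_smul]; abel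
        commutes' := fun r => by simp
        map_mul' := fun z w => by
          simp only [Prod.fst_mul, Prod.snd_mul, Algebra.smul_def, map_sub, map_mul]
          linear_combination (-(algebraMap k A z.1 - algebraMap k A z.2) * (algebraMap k A w.1 - algebraMap k A w.2)) * he }
    refine ⟨(AlgEquiv.ofBijective φ ⟨(injective_iff_map_eq_zero φ).mpr fun z hz => ?_, fun z => ?_⟩).symm⟩
    · change algebraMap k A z.2 + (z.1 - z.2) • e = 0 at hz
      rw [smul_smul] at hz
      obtain ⟨h1, h2⟩ := hind _ _ hz
      refine Prod.ext ?_ h1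
      rcases mul_eq_zero.mp h2 with h3 | h3
      · rw [sub_eq_zero.mp h3, h1]; rfl
      · exact absurd h3 (inv_ne_zero hc)
    · obtain ⟨p, q, rfl⟩ := hspan z
      refine ⟨(p + q * c, p), ?_⟩
      change algebraMap k A p + (p + q * c - p) • c⁻¹ • y = _
      rw [smul_smul, add_sub_cancel_left, mul_assoc, mul_inv_cancel₀ hc, mul_one]

end Groth.Agent.S0218
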