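import Groth.Statements.S0219
import Groth.Agent.H29Curve.Morphism
import Mathlib

set_option autoImplicit false
universe u
open CategoryTheory CategoryTheory.Limits AlgebraicGeometry TopologicalSpace
open Curves

namespace Groth.Agent.S0219

open CategoryTheory CategoryTheory.Limits AlgebraicGeometry TopologicalSpace

lemma finite_inter_component {k : Type u} [Field k] {X Y : Scheme.{u}} (p : X ⟶ Spec (CommRingCat.of k))
    [LocallyOfFiniteType p] [QuasiCompact p] (f : X ⟶ Y) [IsProper f] (hdim : topologicalKrullDim X ≤ 1) {Z : Set X} (hZc : IsClosed Z)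
    (hZ : IsIrreducible Z) (h : topologicalKrullDim Z = 1 → (f '' Z).Nontrivial) (y : Y) :
    (Z ∩ f ⁻¹' {y}).Finite := by
  haveI : NoetherianSpace X := H29Curve.noetherianSpace_of_finiteType p
  haveI : NoetherianSpace Z := Topology.IsEmbedding.subtypeVal.isInducing.noetherianSpace
  haveI : IrreducibleSpace Z := isIrreducible_iff_irreducibleSpace.mp hZ
  haveI : QuasiSober Z := Topology.IsClosedEmbedding.quasiSober (f := Subtype.val) hZc.isClosedEmbedding_subtypeVal
  have hdZ : topologicalKrullDim Z ≤ 1 :=
    (Topology.IsInducing.topologicalKrullDim_le Topology.IsInducing.subtypeVal).trans hdim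
  have hcl : ∀ z : Z, IsClosed ({z} : Set Z) → IsClosed ({(z : X)} : Set X) := fun z hz => by
    have := hZc.isClosedEmbedding_subtypeVal.isClosedMap _ hz
    rwa [Set.image_singleton] at this
  let g : Z → Y := fun z => f z
  have hg : Continuous g := f.base.hom.continuous.comp continuous_subtype_val
  have hsub : f '' Z ⊆ closure {g (genericPoint Z)} := by
    rintro _ ⟨x, hx, rfl⟩
    exact specializes_iff_mem_closure.1
      (((genericPoint_spec Z).specializes (y := (⟨x, hx⟩ : Z)) trivial).map hg)
  suffices (g ⁻¹' {y}).Finite by
    refine (this.image Subtype.val).subset ?_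
    rintro x ⟨hxZ, hx⟩
    exact ⟨⟨x, hxZ⟩, hx, rfl⟩
  by_cases h1 : topologicalKrullDim Z = 1
  · have hnc := h h1
    by_cases hy : y = g (genericPoint Z)
    · subst hy
      refine (Set.finite_singleton (genericPoint Z)).subset fun z hz => ?_
      rcases H29Curve.isClosed_singleton_or_eq_genericPoint hdZ z with hc | hc
      · exfalso
        have h2 := f.isClosedMap _ (hcl z hc)
        rw [Set.image_singleton] at h2
        rw [show f (z : X) = g (genericPoint Z) from hz] at h2
        exact (hnc.mono (hsub.trans h2.closure_eq.le)).not_subsingleton Set.subsingleton_singleton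
      · exact hc
    · rcases (g ⁻¹' {y}).eq_empty_or_nonempty with he | ⟨z, hz⟩
      · rw [he]; exact Set.finite_empty
      refine (H29Curve.finite_of_isClosed_of_genericPoint_notMem hdZ (Z := g ⁻¹' closure {y})
        (isClosed_closure.preimage hg) fun hη => ?_).subset (Set.preimage_mono subset_closure)
      rcases H29Curve.isClosed_singleton_or_eq_genericPoint hdZ z with hc | hc
      · have h2 := f.isClosedMap _ (hcl z hc)
        rw [Set.image_singleton] at h2
        rw [show f (z : X) = y from hz] at h2
        rw [Set.mem_preimage, h2.closure_eq] at hη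
        exact hy hη.symm
      · exact hy ((show g z = y from hz).symm.trans (congrArg g hc))
  · refine (Set.finite_singleton (genericPoint Z)).subset fun z _ => ?_
    let a : IrreducibleCloseds Z := ⟨closure {z}, isIrreducible_singleton.closure, isClosed_closure⟩
    let b : IrreducibleCloseds Z := ⟨Set.univ, IrreducibleSpace.isIrreducible_univ Z, isClosed_univ⟩
    by_contra hne
    have hab : a < b := by
      refine lt_of_le_of_ne (show a ≤ b from Set.subset_univ _) fun e => hne ?_
      have e' : closure ({z} : Set Z) = Set.univ := congrArg (fun w : IrreducibleCloseds Z => (w : Set Z)) e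
      exact (show IsGenericPoint z Set.univ from e').eq (genericPoint_spec Z)
    have h2 := Order.LTSeries.length_le_krullDim (RelSeries.singleton _ a |>.snoc b (by simpa using hab))
    exact h1 (le_antisymm hdZ (by simpa [topologicalKrullDim] using h2))



/-- A morphism over a field from a proper scheme of dimension at most one to a separated scheme, which
does not contract any one-dimensional irreducible component to a point, is finite. -/
theorem result (k : Type u) [Field k] (X Y : Scheme.{u}) (p : X ⟶ Spec (CommRingCat.of k)) (q : Y ⟶ Spec (CommRingCat.of k))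
    [IsProper p] [IsSeparated q] (f : X ⟶ Y) (hf : f ≫ q = p) (hdim : topologicalKrullDim X ≤ 1)
    (h : ∀ Z ∈ irreducibleComponents (X : Type u), topologicalKrullDim Z = 1 → (f.base '' Z).Nontrivial) :
    IsFinite f := by
  haveI : IsProper (f ≫ q) := by rw [hf]; infer_instance
  haveI : IsProper f := IsProper.of_comp f q
  haveI hq' : LocallyQuasiFinite f := by
    refine .of_finite_preimage_singleton f fun y => ?_
    haveI : TopologicalSpace.NoetherianSpace X := Groth.Agent.H29Curve.noetherianSpace_of_finiteType p
    have hfin := TopologicalSpace.NoetherianSpace.finite_irreducibleComponents (α := X)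
    refine ((hfin.biUnion fun Z hZ => ?_ : (⋃ Z ∈ irreducibleComponents X, Z ∩ f ⁻¹' {y}).Finite)).subset ?_
    · exact finite_inter_component p f hdim (isClosed_of_mem_irreducibleComponents Z hZ) hZ.prop (h Z hZ) y
    · intro x hx
      exact Set.mem_biUnion (irreducibleComponent_mem_irreducibleComponents x) ⟨mem_irreducibleComponent, hx⟩
  exact IsFinite.of_isProper_of_locallyQuasiFinite f

end Groth.Agent.S0219
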