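import Groth.Statements.S0224
import Groth.Agent.H29Jac.Jacobian
import Groth.Agent.H05EGA4.EtH90.Pic
import Groth.Agent.H18Et.MuConst
import Groth.Agent.S0108
import Groth.Agent.H28Vert.PicVert
import Groth.Agent.LeadBC.GeomConn
import Groth.Prelude.Def_SixF3

set_option autoImplicit false
universe u
open CategoryTheory CategoryTheory.Limits AlgebraicGeometry
open Curves

namespace Groth.Agent.S0224

/-- Let X be a smooth proper curve of genus g over an algebraically closed field k, the genus being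
dim_k H¹(X, O_X), and let n ≥ 1 be an integer invertible in k. Then the first étale cohomology group
of X with coefficients in the constant sheaf ℤ/n is (noncanonically) isomorphic to (ℤ/n)^{2g}. (The
published statement assumes X projective; stated here for X proper.) -/
theorem result (k : Type u) [Field k] [IsAlgClosed k] (X : Scheme.{u}) [X.Over (Spec (CommRingCat.of k))]
    (hX : Curve.IsSmoothProperCurve k X (X ↘ Spec (CommRingCat.of k)))
    (g : ℕ) (hg : Module.finrank k (Coh.HH X (Coh.structureModule X) 1) = g)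
    (n : ℕ) (hn : 1 ≤ n) (hnk : (n : k) ≠ 0) :
    Nonempty (EtCoh.H X (EtCoh.const X (ZMod n)) 1 ≃+ (Fin (2 * g) → ZMod n)) := by
  obtain ⟨hp, hs, hint, hdim⟩ := id hX
  haveI := hp
  haveI := hs
  haveI := hint
  let f := X ↘ Spec (CommRingCat.of k)
  letI : PicGrp.Law X := Groth.Agent.H28Vert.picLaw X
  haveI hiso : IsIso f.appTop := Groth.Agent.LeadBC.GeomConn.isIso_appTop_of_algClosed f
  let φ : CommRingCat.of k ⟶ Γ(X, ⊤) := (Scheme.ΓSpecIso (CommRingCat.of k)).inv ≫ f.appTop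
  have hφ : Function.Bijective φ.hom := ConcreteCategory.bijective_of_isIso φ
  have hu : IsUnit (n : Γ(X, ⊤)) := by
    have h := (isUnit_iff_ne_zero.2 hnk).map φ.hom
    rwa [map_natCast] at h
  haveI : NeZero (n : k) := ⟨hnk⟩
  obtain ⟨ζ, hζ⟩ := HasEnoughRootsOfUnity.exists_primitiveRoot k n
  have hζ' : Polynomial.aeval (φ.hom ζ) (Polynomial.cyclotomic n ℤ) = 0 := by
    rw [show Polynomial.aeval (φ.hom ζ) (Polynomial.cyclotomic n ℤ) =
      φ.hom.toIntAlgHom (Polynomial.aeval ζ (Polynomial.cyclotomic n ℤ)) from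
      Polynomial.aeval_algHom_apply φ.hom.toIntAlgHom ζ _]
    have h := hζ.isRoot_cyclotomic (R := k) (by omega)
    rw [← Polynomial.map_cyclotomic n (Int.castRingHom k), Polynomial.IsRoot.def, Polynomial.eval_map] at h
    rw [show Polynomial.aeval ζ (Polynomial.cyclotomic n ℤ) = 0 from h, map_zero]
  obtain ⟨eμ⟩ := Groth.Agent.H18Et.MuConst.nonempty_iso hn hu (φ.hom ζ) hζ'
  haveI he : Epi (EtCoh.powMap X n) := Groth.Agent.S0108.result X n hu
  have hS := EtSix.kummerShortExact he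
  have hpw : ∀ (i : ℕ) (y : EtCoh.H X (EtCoh.Gm X) i),
      y.comp (Abelian.Ext.mk₀ (EtCoh.powMap X n)) (add_zero i) = n • y := fun i y => by
    rw [EtCoh.powMap, show Abelian.Ext.mk₀ (n • 𝟙 (EtCoh.Gm X)) = n • Abelian.Ext.mk₀ (𝟙 (EtCoh.Gm X)) from
        map_nsmul Abelian.Ext.addEquiv₀.symm _ _,
      ← Abelian.Ext.bilinearComp_apply_apply (h := add_zero i), map_nsmul, Abelian.Ext.bilinearComp_apply_apply,
      Abelian.Ext.comp_mk₀_id]
  -- global units are divisible
  have hdiv : ∀ y : EtCoh.H X (EtCoh.Gm X) 0, ∃ z, n • z = y := fun y => by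
    let E := Sheaf.H.equiv₀ (EtCoh.Gm X) (EtCore.topIsTerminal X)
    obtain ⟨v₀, hv⟩ := Groth.Agent.H18Et.MuConst.sec_surjective (E y)
    obtain ⟨v, rfl⟩ : ∃ v : Γ(X, ⊤)ˣ, (v : Γ((EtCoh.top X).left, ⊤)ˣ) = v₀ := ⟨v₀, rfl⟩
    obtain ⟨a, ha⟩ := hφ.2 (v : Γ(X, ⊤))
    obtain ⟨b, hb⟩ := IsAlgClosed.exists_pow_nat_eq a (n := n) (by omega)
    have hbu : IsUnit (φ.hom b) := by
      have h1 : φ.hom b ^ n = (v : Γ(X, ⊤)) := by rw [← map_pow, hb, ha]
      exact (isUnit_pow_iff (by omega)).1 (h1 ▸ v.isUnit)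
    refine ⟨E.symm (Groth.Agent.H18Et.MuConst.sec (U := EtCoh.top X) hbu.unit), E.injective ?_⟩
    rw [map_nsmul, AddEquiv.apply_symm_apply, Groth.Agent.H18Et.MuConst.nsmul_sec, ← hv]
    refine congrArg _ (Units.ext ?_)
    rw [Units.val_pow_eq_pow_val]
    show φ.hom b ^ n = (v : Γ(X, ⊤))
    rw [← map_pow, hb, ha]
  -- Kummer
  let u : EtCoh.H X (EtCoh.mu X n) 1 →+ EtCoh.H X (EtCoh.Gm X) 1 :=
    (Abelian.Ext.mk₀ (EtCoh.muι X n)).postcomp _ (add_zero 1)
  have hu_inj : Function.Injective u := by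
    rw [injective_iff_map_eq_zero]
    intro x hx
    obtain ⟨y, rfl⟩ := Abelian.Ext.covariant_sequence_exact₁ _ hS x hx (zero_add 1)
    obtain ⟨z, rfl⟩ := hdiv y
    refine (congrArg (fun w => Abelian.Ext.comp w hS.extClass (zero_add 1)) (hpw 0 z).symm).trans ?_
    refine (Abelian.Ext.comp_assoc z (Abelian.Ext.mk₀ (EtSix.kummerSC X n).g) hS.extClass
      (add_zero 0) (zero_add 1) (by omega)).trans ?_
    exact (congrArg (fun w => Abelian.Ext.comp z w (zero_add 1)) hS.comp_extClass).trans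
      (Abelian.Ext.comp_zero _ _ _ _ _)
  let N : EtCoh.H X (EtCoh.Gm X) 1 →+ EtCoh.H X (EtCoh.Gm X) 1 := nsmulAddMonoidHom n
  have hrange : u.range = N.ker := by
    ext y
    constructor
    · rintro ⟨x, rfl⟩
      show n • u x = 0
      rw [← hpw 1 (u x)]
      refine (Abelian.Ext.comp_assoc _ _ _ (add_zero 1) (add_zero 0) (by omega)).trans ?_
      rw [Abelian.Ext.mk₀_comp_mk₀, show EtCoh.muι X n ≫ EtCoh.powMap X n = 0 from kernel.condition _]
      simp
    · intro hy
      obtain ⟨x, hx⟩ := Abelian.Ext.covariant_sequence_exact₂ _ hS y ((hpw 1 y).trans hy)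
      exact ⟨x, hx⟩
  obtain ⟨eP⟩ := Groth.Agent.H05EGA4.EtH90.nonempty_addEquiv X
  -- counting
  have hcard : ∀ m, m ∣ n → Nat.card (Groth.Agent.H25AbCube.GroupTorsion.tors (PicLoc.PicSet X) m) = m ^ (2 * g) := by
    intro m hm
    have hmk : (m : k) ≠ 0 := fun h0 => hnk (by obtain ⟨c, rfl⟩ := hm; rw [Nat.cast_mul, h0, zero_mul])
    rw [← hg]
    refine Eq.trans ?_ (Groth.Agent.H29Jac.card_pic_torsion k hX hmk)
    refine Nat.card_congr
      { toFun := fun c => ⟨c.1.1, ?_⟩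
        invFun := fun c => ⟨⟨c.1, c.2.choose, c.2.choose_spec.1, c.2.choose_spec.2.1⟩, ?_⟩
        left_inv := fun c => rfl
        right_inv := fun c => rfl }
    · obtain ⟨L, hL, hLc⟩ := PicGrp.exists_eq_cls c.1
      refine ⟨L, (congrArg Subtype.val hLc).symm, hL, (PicGrp.cl_eq_cl_iff _ _).1 ?_⟩
      rw [← PicGrp.cls_pow_val hL m, ← hLc, Groth.Agent.H25AbCube.GroupTorsion.mem_tors.1 c.2, PicGrp.one_val]
    · obtain ⟨hc, hi, hM⟩ := c.2.choose_spec
      rw [Groth.Agent.H25AbCube.GroupTorsion.mem_tors,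
        show (⟨c.1, c.2.choose, hc, hi⟩ : PicLoc.PicSet X) = PicGrp.cls c.2.choose hi from Subtype.ext hc.symm]
      refine Subtype.ext ?_
      rw [PicGrp.cls_pow_val hi m, PicGrp.one_val]
      exact (PicGrp.cl_eq_cl_iff _ _).2 hM
  obtain ⟨eT⟩ := Groth.Agent.H25AbCube.GroupTorsion.nonempty_equiv (G := PicLoc.PicSet X) (2 * g)
    (by omega : 0 < n) hcard
  let e1 : EtCoh.H X (EtCoh.mu X n) 1 ≃+ N.ker :=
    (AddMonoidHom.ofInjective hu_inj).trans (AddEquiv.addSubgroupCongr hrange)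
  let e2 : N.ker ≃+ Additive (Groth.Agent.H25AbCube.GroupTorsion.tors (PicLoc.PicSet X) n) :=
    { toFun := fun y => Additive.ofMul ⟨Additive.toMul (eP.symm y.1), (by
        refine Groth.Agent.H25AbCube.GroupTorsion.mem_tors.2 ?_
        rw [← toMul_nsmul, ← map_nsmul, show n • y.1 = 0 from y.2, map_zero]
        rfl)⟩
      invFun := fun t => ⟨eP (Additive.ofMul (Additive.toMul t).1), (by
        show n • eP (Additive.ofMul (Additive.toMul t).1) = 0
        rw [← map_nsmul, ← ofMul_pow, Groth.Agent.H25AbCube.GroupTorsion.mem_tors.1 (Additive.toMul t).2]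
        exact map_zero eP)⟩
      left_inv := fun y => Subtype.ext (eP.apply_symm_apply y.1)
      right_inv := fun t => by
        refine congrArg Additive.ofMul (Subtype.ext ?_)
        exact congrArg Additive.toMul (eP.symm_apply_apply _)
      map_add' := fun a b => by
        refine congrArg Additive.ofMul (Subtype.ext ?_)
        exact congrArg Additive.toMul (map_add eP.symm a.1 b.1) }
  let e3 : EtCoh.H X (EtCoh.const X (ZMod n)) 1 ≃+ EtCoh.H X (EtCoh.mu X n) 1 :=
    ((EtCoh.HF X 1).mapIso eμ.symm).addCommGroupIsoToAddEquiv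
  exact ⟨e3.trans (e1.trans (e2.trans ((MulEquiv.toAdditive eT).trans
    (AddEquiv.additiveMultiplicative _))))⟩

end Groth.Agent.S0224
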