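import Groth.Statements.S0225
import Groth.Agent.H05EGA4.EtCl.Fin.Kummer

set_option autoImplicit false
universe u
open CategoryTheory CategoryTheory.Limits AlgebraicGeometry
open Curves

namespace Groth.Agent.S0225

/-- For a smooth proper curve X over an algebraically closed field k and an integer n ≥ 1 invertible in
k, the étale cohomology group H²(X, ℤ/n) of the constant sheaf ℤ/n is isomorphic to ℤ/n. (The
published statement is for smooth projective curves; smooth proper is assumed here.) -/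
theorem result (k : Type u) [Field k] [IsAlgClosed k] (X : Scheme.{u}) [X.Over (Spec (CommRingCat.of k))]
    (hX : Curve.IsSmoothProperCurve k X (X ↘ Spec (CommRingCat.of k)))
    (n : ℕ) (hn : 1 ≤ n) (hnk : (n : k) ≠ 0) :
    Nonempty (EtCoh.H X (EtCoh.const X (ZMod n)) 2 ≃+ ZMod n) := by
  open Groth.Agent.H05EGA4.EtCl.Fin in
  obtain ⟨hp, hs, hint, hdim⟩ := id hX
  haveI := hp; haveI := hs; haveI := hint
  let f := X ↘ Spec (CommRingCat.of k)
  haveI : AlgebraicGeometry.IsNoetherian X := Groth.Agent.H29RR.isNoetherian_of_proper (k := k) (X := X)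
  letI : PicGrp.Law X := Groth.Agent.H28Vert.picLaw X
  obtain ⟨eμ⟩ := mu_iso_const f hn hnk
  obtain ⟨δ, hδ, hδP⟩ := exists_degree hX
  haveI : JacobsonSpace X := LocallyOfFiniteType.jacobsonSpace f
  obtain ⟨P, -, hP⟩ := nonempty_inter_closedPoints (Set.univ_nonempty (α := X)) isClosed_univ.isLocallyClosed
  obtain ⟨e, he, -⟩ := hδP P hP
  obtain ⟨ψ⟩ := nonempty_H_two_mu_equiv (kummer_exact f hnk)
    (Groth.Agent.H05EGA4.EtCl.subsingleton_H_Gm_curve f hdim.le 0)
    ((Int.castAddHom (ZMod n)).comp δ)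
    (fun z => by
      obtain ⟨a, rfl⟩ := ZMod.intCast_surjective z
      exact ⟨a • e, by simp [map_zsmul, he]⟩)
    (fun c => by
      show ((δ c : ℤ) : ZMod n) = 0 ↔ _
      rw [ZMod.intCast_zmod_eq_zero_iff_dvd]
      constructor
      · rintro ⟨m, hm⟩
        obtain ⟨b, hb⟩ := hδ (c - ((n : ℤ) * m) • e) (by rw [map_sub, map_zsmul, he, hm]; simp) n (by omega)
        exact ⟨b + m • e, by rw [nsmul_add, hb, ← natCast_zsmul, smul_smul]; exact sub_add_cancel _ _⟩
      · rintro ⟨b, rfl⟩
        exact ⟨δ b, by rw [map_nsmul, nsmul_eq_mul]⟩)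
  exact ⟨(((EtCoh.HF X 2).mapIso eμ.symm).addCommGroupIsoToAddEquiv).trans ψ⟩

end Groth.Agent.S0225
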