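import Groth.Statements.S0226
import Groth.Agent.H05EGA4.Regular
import Mathlib

set_option autoImplicit false
universe u
open CategoryTheory
open Curves

namespace Groth.Agent.S0226

/-- In a regular local ring of dimension two, an ideal inside the maximal ideal with reduced quotient is
zero, the maximal ideal, or principal. -/
theorem result (A : Type u) [CommRing A] [IsRegularLocalRing A] (hdim : ringKrullDim A = 2)
    (I : Ideal A) (hI : I ≤ IsLocalRing.maximalIdeal A) [IsReduced (A ⧸ I)] :
    I = ⊥ ∨ I = IsLocalRing.maximalIdeal A ∨ ∃ f ∈ IsLocalRing.maximalIdeal A, f ≠ 0 ∧ I = Ideal.span {f} := by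
  classical
  rcases eq_or_ne I (IsLocalRing.maximalIdeal A) with hm | hm
  · exact Or.inr (Or.inl hm)
  rcases eq_or_ne I ⊥ with hbot | hbot
  · exact Or.inl hbot
  refine Or.inr (Or.inr ?_)
  have hrad : I.IsRadical := (Ideal.isRadical_iff_quotient_reduced I).mpr inferInstance
  have hfin : I.minimalPrimes.Finite := Ideal.finite_minimalPrimes_of_isNoetherianRing A I
  obtain ⟨x, hxm, hx⟩ : ∃ x ∈ IsLocalRing.maximalIdeal A, ∀ p ∈ I.minimalPrimes, x ∉ p := by
    by_contra hc
    push Not at hc
    have hsub : (IsLocalRing.maximalIdeal A : Set A) ⊆ ⋃ p ∈ (hfin.toFinset : Set (Ideal A)), p := fun x hx => by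
      obtain ⟨p, hp, hxp⟩ := hc x hx
      simp only [Set.mem_iUnion]
      exact ⟨p, hfin.mem_toFinset.mpr hp, hxp⟩
    obtain ⟨p, hp, hle⟩ := (Ideal.subset_union_prime (R := A) ⊥ ⊥ fun p hp _ _ => (hfin.mem_toFinset.mp hp).1.1).mp hsub
    have hpm : p = IsLocalRing.maximalIdeal A :=
      le_antisymm (IsLocalRing.le_maximalIdeal (hfin.mem_toFinset.mp hp).1.1.ne_top) hle
    apply hm
    refine le_antisymm hI ?_
    refine le_trans ?_ hrad
    rw [← Ideal.sInf_minimalPrimes]
    refine le_sInf fun q hq => ?_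
    have hqm : q ≤ p := hpm ▸ IsLocalRing.le_maximalIdeal hq.1.1.ne_top
    exact le_trans hle ((hfin.mem_toFinset.mp hp).2 hq.1 hqm)
  let Q := A ⧸ I
  have hinj : Function.Injective (x • LinearMap.id : Q →ₗ[A] Q) := by
    rw [injective_iff_map_eq_zero]
    intro q hq
    obtain ⟨a, rfl⟩ := Ideal.Quotient.mk_surjective q
    rw [Ideal.Quotient.eq_zero_iff_mem]
    have hxa : x * a ∈ I := Ideal.Quotient.eq_zero_iff_mem.1 hq
    refine hrad ?_
    rw [← Ideal.sInf_minimalPrimes, Ideal.mem_sInf]
    exact fun {p} hp => (hp.1.1.mem_or_mem (hp.1.2 hxa)).resolve_left (hx p hp)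
  obtain ⟨d, hd, hk⟩ := Groth.Agent.H05EGA4.exists_pd_residueField A
  rw [hdim] at hd
  obtain rfl : d = 2 := by exact_mod_cast hd.symm
  have hgl := Groth.Agent.H05EGA4.hasProjectiveDimensionLT_of_residueField 2 hk
  let S := ShortComplex.mk (ModuleCat.ofHom (x • LinearMap.id : Q →ₗ[A] Q))
      (ModuleCat.ofHom (LinearMap.range (x • LinearMap.id : Q →ₗ[A] Q)).mkQ)
      (ModuleCat.hom_ext (LinearMap.range_mkQ_comp _))
  have hS : S.ShortExact := ModuleCat.shortComplex_shortExact _
    (LinearMap.exact_map_mkQ_range _) hinj (Submodule.mkQ_surjective _)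
  haveI : HasProjectiveDimensionLT (ModuleCat.of A Q) 2 :=
    ModuleCat.hasProjectiveDimensionLT_of_forall_finite _ _ fun L _ => by
    by_contra hne
    have := not_subsingleton_iff_nontrivial.1 hne
    refine Submodule.top_ne_pointwise_smul_of_mem_jacobson_annihilator
      (M := Abelian.Ext (ModuleCat.of A Q) L 2) ((IsLocalRing.maximalIdeal_le_jacobson _) hxm) ?_
    rw [eq_comm, eq_top_iff]
    intro e _
    haveI := hgl S.X₃
    obtain ⟨y, hy⟩ := Abelian.Ext.contravariant_sequence_exact₁ hS L e (n₁ := 3) rfl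
      (Abelian.Ext.eq_zero_of_hasProjectiveDimensionLT _ 3 le_rfl)
    have hy' : (Abelian.Ext.mk₀ (ModuleCat.ofHom (x • LinearMap.id : Q →ₗ[A] Q))).comp y (zero_add 2) = e := hy
    rw [← hy', show ModuleCat.ofHom (x • LinearMap.id : Q →ₗ[A] Q) = x • 𝟙 (ModuleCat.of A Q) from rfl,
      Abelian.Ext.mk₀_smul, Abelian.Ext.smul_comp, Abelian.Ext.mk₀_id_comp]
    exact Submodule.smul_mem_pointwise_smul _ _ ⊤ trivial
  have hT : (ShortComplex.mk (ModuleCat.ofHom I.subtype) (ModuleCat.ofHom I.mkQ)
      (ModuleCat.hom_ext (by ext a; exact (Submodule.Quotient.mk_eq_zero I).2 a.2))).ShortExact :=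
    ModuleCat.shortComplex_shortExact _ (LinearMap.exact_subtype_mkQ _) Subtype.val_injective
      (Submodule.mkQ_surjective _)
  haveI : Projective (ModuleCat.of A A) := (IsProjective.iff_projective _).mp inferInstance
  haveI : HasProjectiveDimensionLT (ModuleCat.of A ↥I) 1 :=
    hT.hasProjectiveDimensionLT_X₁ 1 inferInstance inferInstance
  haveI : Module.Projective A ↥I := (IsProjective.iff_projective (↥I)).mpr
    ((projective_iff_hasProjectiveDimensionLT_one (X := ModuleCat.of A ↥I)).mpr inferInstance)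
  haveI : Module.Free A ↥I := Module.free_of_flat_of_isLocalRing
  let b := Module.Free.chooseBasis A ↥I
  haveI hsub : Subsingleton (Module.Free.ChooseBasisIndex A ↥I) := by
    refine ⟨fun i j => ?_⟩
    by_contra hij
    have h := congrArg b.repr (show (b j : A) • b i = (b i : A) • b j from Subtype.ext (mul_comm _ _))
    rw [map_smul, map_smul, b.repr_self, b.repr_self] at h
    have h2 := DFunLike.congr_fun h i
    simp [hij, Ne.symm hij] at h2
    exact b.ne_zero j h2
  obtain ⟨i⟩ : Nonempty (Module.Free.ChooseBasisIndex A ↥I) := by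
    by_contra hne
    rw [not_nonempty_iff] at hne
    haveI := hne
    haveI : Subsingleton ↥I := b.repr.injective.subsingleton
    exact hbot (Submodule.eq_bot_of_subsingleton)
  refine ⟨(b i : A), hI (b i).2, fun h0 => b.ne_zero i (Subtype.ext h0), le_antisymm (fun a ha => ?_) ?_⟩
  · have := b.sum_repr ⟨a, ha⟩
    rw [Fintype.sum_subsingleton _ i] at this
    have h2 := congrArg Subtype.val this
    exact Ideal.mem_span_singleton'.mpr ⟨_, h2⟩
  · rw [Ideal.span_le, Set.singleton_subset_iff]; exact (b i).2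

end Groth.Agent.S0226
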