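import Groth.Statements.S0230
import Groth.Agent.H05EGA4.EtCl.CurveGm

set_option autoImplicit false
universe u
open CategoryTheory CategoryTheory.Limits AlgebraicGeometry
open Curves

namespace Groth.Agent.S0230

/-- For a smooth curve X over an algebraically closed field with generic point η and j the canonical
morphism from Spec of the local ring at η (the function field) to X, the higher direct images R^q
j_* G_m vanish for q ≥ 1. -/
theorem result (k : Type u) [Field k] [IsAlgClosed k] (X : Scheme.{u}) (f : X ⟶ Spec (CommRingCat.of k))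
    [Smooth f] [IsSeparated f] [LocallyOfFiniteType f] [QuasiCompact f] [IsIntegral X]
    (hdim : topologicalKrullDim X = 1)
    [EtCoh.BCCont (X.fromSpecStalk (genericPoint X))] (q : ℕ) (hq : 1 ≤ q) :
    IsZero ((EtCoh.Rpush (X.fromSpecStalk (genericPoint X)) q).obj
      (EtCoh.Gm (Spec (X.presheaf.stalk (genericPoint X))))) := by
  haveI : IsLocallyNoetherian X := LocallyOfFiniteType.isLocallyNoetherian f
  haveI : CompactSpace X := QuasiCompact.compactSpace_of_compactSpace f
  haveI : AlgebraicGeometry.IsNoetherian X := {}
  haveI := H18Et.pull_preservesFiniteLimits (X.fromSpecStalk (genericPoint X))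
  obtain ⟨i, rfl⟩ : ∃ i, q = i + 1 := ⟨q - 1, by omega⟩
  have hmax : H05EGA4.EtCl.IsMaxPt (genericPoint X) := fun z hz =>
    hz.antisymm ((genericPoint_spec X).specializes (by trivial)) |>.eq
  refine H05EGA4.EtTors.isZero_Rpush_succ _ _ i fun P _ z => ?_
  haveI : CompactSpace ((EtCoh.bc (X.fromSpecStalk (genericPoint X))).obj P).left :=
    (H18Et.Coh.qcqs_bc (X.fromSpecStalk (genericPoint X)) P).1
  letI : Field (X.presheaf.stalk (genericPoint X)) :=
    (H05EGA4.EtCl.isField_stalk_of_isMaxPt (genericPoint X) hmax).toField
  exact H05EGA4.EtCl.ext_Gm_eq_zero_of_isCi (K := X.presheaf.stalk (genericPoint X))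
    (H05EGA4.EtCl.isCi_one_of_point f hdim.le (L := X.presheaf.stalk (genericPoint X))
      (X.fromSpecStalk (genericPoint X))) z

end Groth.Agent.S0230
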