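import Groth.Statements.S0235
import Groth.Agent.H11Ample.Tensor
import Groth.Agent.H29Ref.EvalStalk
import Groth.Agent.H29Ref.Generic
import Groth.Agent.H29Blow.PointsOfAffine
import Groth.Agent.H29Fitt.Sheaf
import Groth.Agent.H05EGA4.Topo

set_option autoImplicit false
universe u
open CategoryTheory CategoryTheory.Limits AlgebraicGeometry
open Curves

namespace Groth.Agent.S0235

/-- Prime avoidance for finitely many pairwise incomparable primes. -/
theorem exists_separating {A : Type u} [CommRing A] {ι : Type*} [Fintype ι] [DecidableEq ι] (P : ι → Ideal A)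
    (hP : ∀ i, (P i).IsPrime) (h : ∀ i j, P j ≤ P i → j = i) (i : ι) :
    ∃ e : A, e ∉ P i ∧ ∀ j, j ≠ i → e ∈ P j := by
  have : ∀ j, j ≠ i → ∃ a, a ∈ P j ∧ a ∉ P i := fun j hj =>
    SetLike.not_le_iff_exists.mp fun hle => hj (h i j hle)
  choose! a ha ha' using this
  refine ⟨∏ j ∈ Finset.univ.erase i, a j, fun hmem => ?_, fun j hj =>
    Ideal.mem_of_dvd _ (Finset.dvd_prod_of_mem a (Finset.mem_erase.mpr ⟨hj, Finset.mem_univ j⟩)) (ha j hj)⟩
  obtain ⟨j, hj, hja⟩ := (Ideal.IsPrime.prod_mem_iff (hp := hP i)).mp hmem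
  exact ha' j (Finset.mem_erase.mp hj).1 hja



/-- For a finite morphism π : X → Y and an invertible module L on X, every point y of Y has an open
neighbourhood V such that L is trivial on the preimage of V. -/
theorem result {X Y : Scheme.{u}} (π : X ⟶ Y) [IsFinite π]
    (L : X.Modules) (hL : PicF.IsInvertible L) (y : Y) :
    ∃ V : Y.Opens, y ∈ V ∧ Nonempty (L.restrict (π ⁻¹ᵁ V).ι ≅ Coh.structureModule (↑(π ⁻¹ᵁ V))) := by
  classical
  obtain ⟨A, hA, hyA, -⟩ := exists_isAffineOpen_mem_and_subset (X := Y) (x := y) (U := ⊤) trivial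
  let W := π ⁻¹ᵁ A
  have hW : IsAffineOpen W := hA.preimage π
  have hfin : (π ⁻¹' {y}).Finite := π.finite_preimage_singleton y
  haveI := hfin.fintype
  let q : (π ⁻¹' {y}) → W := fun i => ⟨i.1, show π i.1 ∈ A by rw [show π i.1 = y from i.2]; exact hyA⟩
  have hinc : ∀ i j, (hW.primeIdealOf (q j)).asIdeal ≤ (hW.primeIdealOf (q i)).asIdeal → j = i := fun i j hle => by
    refine Subtype.ext ?_
    have hsp := (H29Blow.primeIdealOf_le_iff hW (q j) (q i)).mp hle
    exact H05EGA4.eq_of_specializes_of_fibre π hsp ((show π j.1 = y from j.2).trans (show π i.1 = y from i.2).symm)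
  choose a ha ha' using exists_separating (fun i => (hW.primeIdealOf (q i)).asIdeal) (fun i => inferInstance) hinc
  have hLc := H11Ample.isCoh_of_isInvertible hL
  have hm : ∀ i, ∃ m : Γ(L, W), L.presheaf.germ W i.1 (q i).2 m ∉
      IsLocalRing.maximalIdeal (X.presheaf.stalk i.1) • (⊤ : Submodule (X.presheaf.stalk i.1) (L.presheaf.stalk i.1)) := by
    intro i
    by_contra hcon
    push Not at hcon
    obtain ⟨O, e, hxO, he⟩ := H11Ample.exists_gen hL i.1
    have htop : (⊤ : Submodule (X.presheaf.stalk i.1) (L.presheaf.stalk i.1)) ≤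
        IsLocalRing.maximalIdeal (X.presheaf.stalk i.1) • ⊤ := by
      intro v _
      letI := TopCat.Presheaf.algebra_section_stalk X.presheaf (q i)
      letI := Module.compHom (L.presheaf.stalk (q i).1) (algebraMap Γ(X, W) (X.presheaf.stalk (q i).1))
      haveI : IsScalarTower Γ(X, W) (X.presheaf.stalk (q i).1) (L.presheaf.stalk (q i).1) :=
        .of_algebraMap_smul fun _ _ => rfl
      haveI := hW.isLocalization_stalk (q i)
      haveI := H29Fitt.isLocalizedModule_germLin L hLc.1 hW (q i)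
      obtain ⟨⟨m, c⟩, hmc⟩ := IsLocalizedModule.surj (hW.primeIdealOf (q i)).asIdeal.primeCompl
        (H29Fitt.germLin L (q i)) v
      refine (Submodule.smul_mem_iff_of_isUnit _ (IsLocalization.map_units (X.presheaf.stalk (q i).1) c)).mp ?_
      rw [algebraMap_smul, ← Submonoid.smul_def, hmc]
      exact hcon m
    haveI := H29Ref.finite_stalk L hLc.2 i.1
    have hbot : (⊤ : Submodule (X.presheaf.stalk i.1) (L.presheaf.stalk i.1)) = ⊥ :=
      Submodule.eq_bot_of_le_smul_of_le_jacobson_bot _ _ Module.Finite.fg_top htop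
        (IsLocalRing.maximalIdeal_le_jacobson ⊥)
    have h0 : ∀ v : L.presheaf.stalk i.1, v = 0 := fun v => (Submodule.mem_bot _).mp (hbot ▸ Submodule.mem_top)
    exact one_ne_zero ((he i.1 hxO).1 ((h0 _).trans (h0 _).symm) : (1 : X.presheaf.stalk i.1) = 0)
  choose m hm using hm
  let g : Γ(L, W) := ∑ i, a i • m i
  have hgood : ∀ i, Function.Bijective fun r : X.presheaf.stalk i.1 => r • L.presheaf.germ W i.1 (q i).2 g := by
    intro i
    obtain ⟨O, e, hxO, he⟩ := H11Ample.exists_gen hL i.1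
    obtain ⟨c, hc⟩ := H11Ample.exists_coeff (he.res (inf_le_left : O ⊓ W ≤ O))
      (L.presheaf.map (homOfLE (inf_le_right : O ⊓ W ≤ W)).op g)
    have hxOW : i.1 ∈ O ⊓ W := ⟨hxO, (q i).2⟩
    have key := H11Ample.bijective_smul_iff (he.res (inf_le_left : O ⊓ W ≤ O)) c hxOW
    rw [← hc, TopCat.Presheaf.germ_res_apply] at key
    refine key.mpr ((X.mem_basicOpen c _ hxOW).mpr (by_contra fun hu => ?_))
    have hcm : X.presheaf.germ (O ⊓ W) i.1 hxOW c ∈ IsLocalRing.maximalIdeal (X.presheaf.stalk i.1) := hu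
    let N := IsLocalRing.maximalIdeal (X.presheaf.stalk i.1) • (⊤ : Submodule (X.presheaf.stalk i.1) (L.presheaf.stalk i.1))
    have hgN : L.presheaf.germ W i.1 (q i).2 g ∈ N := by
      rw [← TopCat.Presheaf.germ_res_apply L.presheaf (homOfLE (inf_le_right : O ⊓ W ≤ W)) i.1 hxOW g, hc,
        Mero.germ_smul]
      exact Submodule.smul_mem_smul hcm Submodule.mem_top
    have hg' : L.presheaf.germ W i.1 (q i).2 g =
        ∑ j, X.presheaf.germ W i.1 (q i).2 (a j) • L.presheaf.germ W i.1 (q i).2 (m j) := by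
      exact H29Ref.germ_sum L Finset.univ a m i.1 (q i).2
    rw [hg', ← Finset.add_sum_erase _ _ (Finset.mem_univ i)] at hgN
    have hrest : ∑ j ∈ Finset.univ.erase i, X.presheaf.germ W i.1 (q i).2 (a j) • L.presheaf.germ W i.1 (q i).2 (m j) ∈ N :=
      Submodule.sum_mem _ fun j hj => by
        refine Submodule.smul_mem_smul ?_ Submodule.mem_top
        intro hu
        exact (H29Blow.mem_primeIdealOf_iff hW (q i) (a j)).mp (ha' j i (Finset.mem_erase.mp hj).1.symm) hu
    rw [Submodule.add_mem_iff_left _ hrest] at hgN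
    refine hm i ((Submodule.smul_mem_iff_of_isUnit _ ?_).mp hgN)
    by_contra hu
    exact ha i ((H29Blow.mem_primeIdealOf_iff hW (q i) (a i)).mpr hu)
  let G : X.Opens := ⟨{x | ∃ hx : x ∈ W, Function.Bijective fun r : X.presheaf.stalk x => r • L.presheaf.germ W x hx g}, by
    refine isOpen_iff_forall_mem_open.mpr fun x ⟨hx, hb⟩ => ?_
    obtain ⟨O, e, hxO, he⟩ := H11Ample.exists_gen hL x
    obtain ⟨c, hc⟩ := H11Ample.exists_coeff (he.res (inf_le_left : O ⊓ W ≤ O))
      (L.presheaf.map (homOfLE (inf_le_right : O ⊓ W ≤ W)).op g)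
    refine ⟨X.basicOpen c, fun z hz => ?_, (X.basicOpen c).2, ?_⟩
    · have hzOW : z ∈ O ⊓ W := X.basicOpen_le c hz
      have key := H11Ample.bijective_smul_iff (he.res (inf_le_left : O ⊓ W ≤ O)) c hzOW
      rw [← hc, TopCat.Presheaf.germ_res_apply] at key
      exact ⟨hzOW.2, key.mpr hz⟩
    · have key := H11Ample.bijective_smul_iff (he.res (inf_le_left : O ⊓ W ≤ O)) c (⟨hxO, hx⟩ : x ∈ O ⊓ W)
      rw [← hc, TopCat.Presheaf.germ_res_apply] at key
      exact key.mp hb⟩
  let V : Y.Opens := ⟨(π '' ((G : Set X)ᶜ))ᶜ, (π.isClosedMap _ G.2.isClosed_compl).isOpen_compl⟩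
  have hle : π ⁻¹ᵁ V ≤ G := fun x hx => not_not.mp fun hn => hx ⟨x, hn, rfl⟩
  refine ⟨V, ?_, ?_⟩
  · rintro ⟨x, hx, hxy⟩
    exact hx ⟨(q ⟨x, hxy⟩).2, hgood ⟨x, hxy⟩⟩
  have hVW : π ⁻¹ᵁ V ≤ W := fun x hx => (hle hx).choose
  have hgen : H11Tilde.IsGen L (L.presheaf.map (homOfLE hVW).op g) := fun x hx => by
    rw [TopCat.Presheaf.germ_res_apply]
    exact (hle hx).choose_spec
  exact H11Tilde.nonempty_iso_structureModule L _ _ fun U hU => hgen.bijective hU

end Groth.Agent.S0235
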