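import Groth.Statements.S0245
import Groth.Agent.H18Et.FEtNormal

set_option autoImplicit false
universe u
open Pi1

namespace Groth.Agent.S0245

open AlgebraicGeometry CategoryTheory CategoryTheory.Limits in
/-- For a normal integral scheme X, restricting finite étale covers of X along the canonical morphism
from the spectrum of the local ring at the generic point (the spectrum of the function field) is a
full and faithful functor. -/
theorem result {X : Scheme.{u}} [IsIntegral X] (hX : Pi1.IsNormalScheme X) :
    (FEt.restrict (X.fromSpecStalk (genericPoint X))).Full ∧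
    (FEt.restrict (X.fromSpecStalk (genericPoint X))).Faithful := by
  have hη : genericPoint X ∈ Set.range (X.fromSpecStalk (genericPoint X)) :=
    ⟨IsLocalRing.closedPoint _, Scheme.fromSpecStalk_closedPoint⟩
  exact ⟨Groth.Agent.H18Et.FEtRestrict.full _ (Groth.Agent.H18Et.FEtNormal.meetsClopens _ hη)
      (Groth.Agent.H18Et.FEtNormal.clopensDescend hX _ hη),
    Groth.Agent.H18Et.FEtRestrict.faithful _ (Groth.Agent.H18Et.FEtNormal.meetsClopens _ hη)⟩

end Groth.Agent.S0245
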