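import Groth.Statements.S0248
import Groth.Agent.H18Pur.Core
import Groth.Agent.H18Pur.NormalSat

set_option autoImplicit false
universe u
open Pi1

namespace Groth.Agent.S0248

open AlgebraicGeometry CategoryTheory CategoryTheory.Limits in
/-- Let A be a regular local ring of dimension at least 2 and B a finite A-algebra which is an
integrally closed domain, with A → B injective. If B is étale over A at every prime of B not lying
over the maximal ideal of A, then B is étale over A. This is the case of the published statement in
which B is a domain and A → B is injective. -/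
theorem result (A B : Type u) [CommRing A] [IsRegularLocalRing A]
    (hA : (2 : WithBot ℕ∞) ≤ ringKrullDim A) [CommRing B] [IsDomain B] [IsIntegrallyClosed B]
    [Algebra A B] [Module.Finite A B] (hinj : Function.Injective (algebraMap A B))
    (h : ∀ (q : Ideal B) (_ : q.IsPrime), q.comap (algebraMap A B) ≠ IsLocalRing.maximalIdeal A →
      Algebra.IsEtaleAt A q) : Algebra.Etale A B := by
  haveI : IsDomain A := Groth.Agent.H4Depth.isDomain_of_isRegularLocalRing A
  haveI : IsIntegrallyClosed A := Groth.Agent.H05EGA4.isIntegrallyClosed_of_isRegularLocalRing A
  haveI : IsNoetherianRing B := IsNoetherianRing.of_finite A B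
  haveI : Algebra.FinitePresentation A B := Algebra.FinitePresentation.of_finiteType.mp inferInstance
  obtain ⟨n, x, hn, -⟩ := Groth.Agent.H4Depth.exists_regular_system_of_parameters A
  have hn2 : 2 ≤ n := by
    rw [hn] at hA
    exact_mod_cast hA
  have hh : 1 < (IsLocalRing.maximalIdeal A).height := by
    refine WithBot.coe_lt_coe.mp ?_
    rw [IsLocalRing.maximalIdeal_height_eq_ringKrullDim, hn]
    exact_mod_cast hn2
  exact Groth.Agent.H18Pur.etale_of_sat n A hn hn2 B (Groth.Agent.H18Pur.sat_of_isIntegrallyClosed A B hh hinj)
    (Groth.Agent.H18Pur.etOff_of_primes h)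

end Groth.Agent.S0248
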