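import Groth.Statements.S0249
import Mathlib.RingTheory.Ideal.KrullsHeightTheorem

set_option autoImplicit false
universe u
open Pi1

namespace Groth.Agent.S0249

open AlgebraicGeometry CategoryTheory CategoryTheory.Limits in
/-- Let A be a Noetherian local ring of dimension at least 1 and f an element of its maximal ideal. Then
some prime ideal of height exactly 1 contains f. -/
theorem result (A : Type u) [CommRing A] [IsNoetherianRing A] [IsLocalRing A]
    (h : (1 : WithBot ℕ∞) ≤ ringKrullDim A) (f : A) (hf : f ∈ IsLocalRing.maximalIdeal A) :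
    ∃ p : Ideal A, p.IsPrime ∧ f ∈ p ∧ p.height = 1 := by
  classical
  have hm : (1 : ℕ∞) ≤ (IsLocalRing.maximalIdeal A).height := by
    rw [← IsLocalRing.maximalIdeal_height_eq_ringKrullDim] at h
    exact_mod_cast h
  obtain ⟨P, ⟨hP, hfP, h1⟩, hmin⟩ := WellFounded.has_min
    (InvImage.wf (fun Q : Ideal A => Q.height) wellFounded_lt)
    {Q : Ideal A | Q.IsPrime ∧ f ∈ Q ∧ 1 ≤ Q.height}
    ⟨IsLocalRing.maximalIdeal A, inferInstance, hf, hm⟩
  refine ⟨P, hP, hfP, le_antisymm ?_ h1⟩
  by_contra hlt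
  push Not at hlt
  haveI := hP
  have hex : ∃ r : Ideal A, r.IsPrime ∧ r < P ∧ 1 ≤ r.height := by
    by_contra hno
    push Not at hno
    refine (not_le.2 hlt) ((Ideal.height_le_iff (p := P) (n := 1)).2 fun r hr hrP => ?_)
    exact_mod_cast (hno r hr hrP)
  obtain ⟨r, hr, hrP, hr1⟩ := hex
  obtain ⟨q, hq, hqr⟩ : ∃ q : Ideal A, q.IsPrime ∧ q < r := by
    by_contra hno
    push Not at hno
    have : r ∈ minimalPrimes A := by
      refine ⟨⟨hr, bot_le⟩, fun q hq hqr => ?_⟩
      rcases hqr.eq_or_lt with rfl | hlt'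
      · exact le_rfl
      · exact absurd hlt' (hno q hq.1)
    rw [← Ideal.height_eq_zero_iff, ] at this
    simp [this] at hr1
  have hfr : f ∉ r := fun hmem => hmin r ⟨hr, hmem, hr1⟩ (Ideal.height_strict_mono_of_isPrime hrP)
  obtain ⟨P', hP', hP'P⟩ := Ideal.exists_minimalPrimes_le (I := q ⊔ Ideal.span {f}) (J := P)
    (sup_le (hqr.le.trans hrP.le) (by simpa [Ideal.span_le] using hfP))
  haveI := hP'.isPrime
  haveI := hq
  have hfP' : f ∈ P' := hP'.le (Ideal.mem_sup_right (Ideal.mem_span_singleton_self f))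
  have hqP' : q < P' := (le_sup_left.trans hP'.le).lt_of_ne fun he => hfr (hqr.le (he ▸ hfP'))
  have hP'1 : 1 ≤ P'.height := by
    refine le_trans ?_ (Order.add_one_le_of_lt (Ideal.height_strict_mono_of_isPrime hqP'))
    exact le_add_self
  rcases hP'P.eq_or_lt with rfl | hlt'
  · have hle := Ideal.map_height_le_one_of_mem_minimalPrimes hP'
    have hsurj := Ideal.Quotient.mk_surjective (I := q)
    haveI hr' : (r.map (Ideal.Quotient.mk q)).IsPrime :=
      Ideal.map_isPrime_of_surjective hsurj (by rw [Ideal.mk_ker]; exact hqr.le)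
    haveI hP'' : (P'.map (Ideal.Quotient.mk q)).IsPrime :=
      Ideal.map_isPrime_of_surjective hsurj (by rw [Ideal.mk_ker]; exact hqP'.le)
    have c1 : (r.map (Ideal.Quotient.mk q)).comap (Ideal.Quotient.mk q) = r := by
      rw [Ideal.comap_map_of_surjective _ hsurj, ← RingHom.ker_eq_comap_bot, Ideal.mk_ker]
      exact sup_eq_left.2 hqr.le
    have c2 : (P'.map (Ideal.Quotient.mk q)).comap (Ideal.Quotient.mk q) = P' := by
      rw [Ideal.comap_map_of_surjective _ hsurj, ← RingHom.ker_eq_comap_bot, Ideal.mk_ker]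
      exact sup_eq_left.2 hqP'.le
    have l1 : (⊥ : Ideal (A ⧸ q)) < r.map (Ideal.Quotient.mk q) := by
      refine bot_lt_iff_ne_bot.2 fun he => hqr.ne ?_
      rw [← c1, he, ← RingHom.ker_eq_comap_bot, Ideal.mk_ker]
    have l2 : r.map (Ideal.Quotient.mk q) < P'.map (Ideal.Quotient.mk q) := by
      refine (Ideal.map_mono hrP.le).lt_of_ne fun he => hrP.ne ?_
      rw [← c1, he, c2]
    have h0 := Ideal.height_strict_mono_of_isPrime l1
    have h2 := Ideal.height_strict_mono_of_isPrime l2
    have : (r.map (Ideal.Quotient.mk q)).height < 1 := lt_of_lt_of_le h2 hle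
    rw [ENat.lt_one_iff_eq_zero] at this
    exact not_lt_bot (this ▸ h0)
  · exact hmin P' ⟨hP'.isPrime, hfP', hP'1⟩ (Ideal.height_strict_mono_of_isPrime hlt')

end Groth.Agent.S0249
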