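import Groth.Statements.S0252
import Groth.Agent.H18Et.FEtRestrict
import Groth.Agent.H28Top.Components

set_option autoImplicit false
universe u
open Pi1

namespace Groth.Agent.S0252

open AlgebraicGeometry CategoryTheory CategoryTheory.Limits in
/-- Let f be a morphism between quasi-compact quasi-separated schemes such that base change of finite
etale covers along f is an equivalence. Then the induced map on connected components is a
homeomorphism. -/
theorem result {X Y : Scheme.{u}} [CompactSpace X] [QuasiSeparatedSpace X] [CompactSpace Y] [QuasiSeparatedSpace Y]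
    (f : X ⟶ Y) (h : (FEt.restrict f).IsEquivalence) :
    IsHomeomorph f.continuous.connectedComponentsMap := by
  let oneX : FEt.Cat X := MorphismProperty.Over.mk ⊤ (𝟙 X) (FEt.prop.id_mem X)
  let oneY : FEt.Cat Y := MorphismProperty.Over.mk ⊤ (𝟙 Y) (FEt.prop.id_mem Y)
  haveI := h
  -- clopens of `X` descend
  have hsurj : ∀ W' : Set X, IsClopen W' → ∃ V : Set Y, IsClopen V ∧ f ⁻¹' V = W' := fun W' hW' => by
    let T := Groth.Agent.H18Et.FEtRestrict.clopenObj oneX W' hW'
    let P := (FEt.restrict f).objPreimage T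
    let e : (FEt.restrict f).obj P ≅ T := (FEt.restrict f).objObjPreimageIso T
    haveI : IsFinite P.hom := P.prop.1
    haveI : Etale P.hom := P.prop.2
    refine ⟨Set.range P.hom, ⟨P.hom.isClosedMap.isClosed_range, P.hom.isOpenMap.isOpen_range⟩, ?_⟩
    rw [← Scheme.Pullback.range_snd P.hom f]
    have he : e.hom.left ≫ T.hom = pullback.snd P.hom f := Over.w e.hom.hom
    rw [← he]
    haveI : IsIso e.hom.left :=
      (MorphismProperty.Over.forget FEt.prop ⊤ X ⋙ Over.forget X).map_isIso e.hom
    refine (e.hom.left.surjective.range_comp T.hom).trans ?_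
    change Set.range (Scheme.Opens.ι (X := X) ⟨W', hW'.2⟩ ≫ 𝟙 X : _ ⟶ X) = W'
    rw [Category.comp_id]
    exact Scheme.Opens.range_ι (X := X) ⟨W', hW'.2⟩
  -- nonempty clopens of `Y` meet the image
  have hmeet : ∀ V : Set Y, IsClopen V → V.Nonempty → ∃ x, f x ∈ V := fun V hV hne => by
    by_contra hx
    push Not at hx
    let P := Groth.Agent.H18Et.FEtRestrict.clopenObj oneY V hV
    let P₀ := Groth.Agent.H18Et.FEtRestrict.clopenObj oneY ∅ isClopen_empty
    have hem : ∀ (Q : FEt.Cat Y) (V : Set Y), Set.range Q.hom ⊆ V → (∀ x, f x ∉ V) →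
        IsEmpty ↥((FEt.restrict f).obj Q).left := fun Q V hQ hV' => ⟨fun q => hV' (pullback.snd Q.hom f q) (by
      have := congrArg (fun g => g.base q) (pullback.condition (f := Q.hom) (g := f))
      exact hQ ⟨_, this⟩)⟩
    have hr : ∀ (V : Set Y) (hV : IsClopen V),
        Set.range (Groth.Agent.H18Et.FEtRestrict.clopenObj oneY V hV).hom = V := fun V hV => by
      change Set.range (Scheme.Opens.ι (X := Y) ⟨V, hV.2⟩ ≫ 𝟙 Y : _ ⟶ Y) = V
      rw [Category.comp_id]
      exact Scheme.Opens.range_ι (X := Y) ⟨V, hV.2⟩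
    haveI := hem P V (hr V hV).le hx
    haveI := hem P₀ ∅ (hr ∅ isClopen_empty).le (fun _ => id)
    let e : (FEt.restrict f).obj P ≅ (FEt.restrict f).obj P₀ :=
      MorphismProperty.Over.isoMk (isInitialOfIsEmpty.uniqueUpToIso isInitialOfIsEmpty)
        (isInitialOfIsEmpty.hom_ext _ _)
    let e' : P ≅ P₀ := (FEt.restrict f).preimageIso e
    obtain ⟨y, hy⟩ := hne
    obtain ⟨p, hp⟩ := (hr V hV).ge hy
    exact ((hr ∅ isClopen_empty).le ⟨e'.hom.left p, rfl⟩ : _ ∈ (∅ : Set Y))
  have sep : ∀ {Z : Scheme.{u}} [CompactSpace Z] [QuasiSeparatedSpace Z] (a b : Z),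
      (a : _root_.ConnectedComponents Z) ≠ b → ∃ W : Set Z, IsClopen W ∧ a ∈ W ∧ b ∉ W := fun {Z} _ _ a b hab => by
    have : b ∉ connectedComponent a := fun hb => hab
      (_root_.ConnectedComponents.coe_eq_coe.2 (connectedComponent_eq hb))
    rw [Groth.Agent.H28Top.connectedComponent_eq_sInter_isClopen] at this
    simp only [Set.mem_sInter, not_forall] at this
    obtain ⟨W, ⟨hW, haW⟩, hbW⟩ := this
    exact ⟨W, hW, haW, hbW⟩
  haveI : T2Space (_root_.ConnectedComponents Y) := ⟨fun a b hab => by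
    obtain ⟨a, rfl⟩ := _root_.ConnectedComponents.surjective_coe a
    obtain ⟨b, rfl⟩ := _root_.ConnectedComponents.surjective_coe b
    obtain ⟨W, hW, ha, hb⟩ := sep a b hab
    have hsat : (_root_.ConnectedComponents.mk ⁻¹' (_root_.ConnectedComponents.mk '' W) : Set Y) = W := by
      rw [connectedComponents_preimage_image, hW.biUnion_connectedComponent_eq]
    have hc : IsClopen ((↑) '' W : Set (_root_.ConnectedComponents Y)) :=
      ⟨_root_.ConnectedComponents.isQuotientMap_coe.isClosed_preimage.1 (hsat.symm ▸ hW.1),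
        _root_.ConnectedComponents.isQuotientMap_coe.isOpen_preimage.1 (hsat.symm ▸ hW.2)⟩
    refine ⟨_, _, hc.2, hc.compl.2, ⟨a, ha, rfl⟩, fun hb' => hb ?_, disjoint_compl_right⟩
    rw [← hsat]
    exact hb'⟩
  refine isHomeomorph_iff_continuous_bijective.2 ⟨f.continuous.connectedComponentsMap_continuous, ?_, ?_⟩
  · intro a b hab
    obtain ⟨a, rfl⟩ := _root_.ConnectedComponents.surjective_coe a
    obtain ⟨b, rfl⟩ := _root_.ConnectedComponents.surjective_coe b
    by_contra hne
    obtain ⟨W, hW, ha, hb⟩ := sep a b hne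
    obtain ⟨V, hV, rfl⟩ := hsurj W hW
    have hc : connectedComponent (f a) = connectedComponent (f b) := _root_.ConnectedComponents.coe_eq_coe.1 hab
    exact hb (hV.connectedComponent_subset ha (hc.symm ▸ mem_connectedComponent))
  · intro b
    obtain ⟨y, rfl⟩ := _root_.ConnectedComponents.surjective_coe b
    let ι := {V : Set Y // IsClopen V ∧ y ∈ V}
    have hne : ((Set.univ : Set X) ∩ ⋂ i : ι, f ⁻¹' i.1).Nonempty := by
      refine isCompact_univ.inter_iInter_nonempty _ (fun i => i.2.1.1.preimage f.continuous) fun t => ?_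
      obtain ⟨x, hx⟩ := hmeet (⋂ i ∈ t, (i : ι).1) (isClopen_biInter_finset fun i _ => i.2.1)
        ⟨y, Set.mem_iInter₂.2 fun i _ => i.2.2⟩
      exact ⟨x, trivial, Set.mem_iInter₂.2 fun i hi => Set.mem_iInter₂.1 hx i hi⟩
    obtain ⟨x, -, hx⟩ := hne
    refine ⟨x, _root_.ConnectedComponents.coe_eq_coe.2 (connectedComponent_eq ?_).symm⟩
    rw [Groth.Agent.H28Top.connectedComponent_eq_sInter_isClopen]
    exact fun V hV => Set.mem_iInter.1 hx ⟨V, hV⟩

end Groth.Agent.S0252
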