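import Groth.Statements.S0253
import Groth.Agent.H18Gal.NormalSepClosed

set_option autoImplicit false
universe u
open Pi1

namespace Groth.Agent.S0253

open AlgebraicGeometry CategoryTheory CategoryTheory.Limits in
/-- Let A be an integrally closed domain whose fraction field is separably closed. Then the residue
field at any nonzero prime ideal of A is algebraically closed. -/
theorem result (A : Type u) [CommRing A] [IsDomain A] [IsIntegrallyClosed A] [IsSepClosed (FractionRing A)]
    (p : Ideal A) [p.IsPrime] (hp : p ≠ ⊥) : IsAlgClosed p.ResidueField := by
  haveI : IsDomain (Localization.AtPrime p) :=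
    IsLocalization.isDomain_localization (Ideal.primeCompl_le_nonZeroDivisors p)
  haveI : IsIntegrallyClosed (Localization.AtPrime p) :=
    isIntegrallyClosed_of_isLocalization (Localization.AtPrime p) p.primeCompl
      (Ideal.primeCompl_le_nonZeroDivisors p)
  haveI : IsFractionRing (Localization.AtPrime p) (FractionRing A) :=
    IsFractionRing.isFractionRing_of_isDomain_of_isLocalization p.primeCompl _ _
  refine H18Gal.NormalSepClosed.isAlgClosed_residueField (A := Localization.AtPrime p) (FractionRing A) ?_
  intro h
  apply hp
  rw [← Localization.AtPrime.map_eq_maximalIdeal,
    Ideal.map_eq_bot_iff_of_injective (IsLocalization.injective _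
      (Ideal.primeCompl_le_nonZeroDivisors p))] at h
  exact h

end Groth.Agent.S0253
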