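import Groth.Statements.S0256
import Groth.Agent.H18Pur.Ram.Main
import Groth.Agent.H18Pur.StalkPrime
import Groth.Agent.H9Hens.StalkUnramified

set_option autoImplicit false
universe u
open Pi1

namespace Groth.Agent.S0256

open AlgebraicGeometry CategoryTheory CategoryTheory.Limits in
/-- Let f be locally of finite type between locally Noetherian schemes, x a point whose local ring is a
normal domain of dimension at least 1 and whose image has a regular local ring. If f is etale at
every point of dimension one specializing to x, then f is etale on an open neighbourhood of x. -/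
theorem result {X Y : Scheme.{u}} (f : X ⟶ Y) [LocallyOfFiniteType f] [IsLocallyNoetherian X]
    [IsLocallyNoetherian Y] (x : X)
    (hx : IsDomain (X.presheaf.stalk x) ∧ IsIntegrallyClosed (X.presheaf.stalk x))
    (hdim1 : (1 : WithBot ℕ∞) ≤ ringKrullDim (X.presheaf.stalk x))
    (hy : IsRegularLocalRing (Y.presheaf.stalk (f.base x)))
    (het : ∀ x' : X, x' ⤳ x → ringKrullDim (X.presheaf.stalk x') = 1 →
      ∃ U : X.Opens, x' ∈ U ∧ Etale (U.ι ≫ f)) :
    ∃ U : X.Opens, x ∈ U ∧ Etale (U.ι ≫ f) := by
  classical
  rw [Groth.Agent.H9Hens.etale_nhd_iff]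
  obtain ⟨_, _⟩ := hx
  have hlft : (f.stalkMap x).hom.EssFiniteType := LocallyOfFiniteType.stalkMap f x
  algebraize [(f.stalkMap x).hom]
  haveI : IsLocalHom (algebraMap (Y.presheaf.stalk (f x)) (X.presheaf.stalk x)) :=
    inferInstanceAs <| IsLocalHom (f.stalkMap x).hom
  haveI : IsRegularLocalRing (Y.presheaf.stalk (f x)) := hy
  haveI : IsNoetherianRing (X.presheaf.stalk x) :=
    Algebra.EssFiniteType.isNoetherianRing (Y.presheaf.stalk (f x)) _
  obtain ⟨d, hd⟩ := Groth.Agent.H22Alg.exists_nat_ringKrullDim' (X.presheaf.stalk x)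
  have hd1 : 1 ≤ d := by
    rw [hd] at hdim1
    exact_mod_cast hdim1
  obtain ⟨hflat, hur⟩ := Groth.Agent.H18Pur.Ram.etale_of_height_one d
    (A := Y.presheaf.stalk (f x)) (B := X.presheaf.stalk x) hd hd1 (fun Q _ hQ => by
      obtain ⟨ζ, h, hζQ⟩ := Groth.Agent.S5090.exists_generization_comap_eq Q
      have hdimζ : ringKrullDim (X.presheaf.stalk ζ) = 1 := by
        rw [← Groth.Agent.S5090.height_comap_stalkSpecializes h]
        simp only [hζQ, hQ]
        rfl
      obtain ⟨h2, h1⟩ := (Groth.Agent.H9Hens.etale_nhd_iff f ζ).mp (het ζ h hdimζ)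
      obtain ⟨e, he⟩ := Groth.Agent.H18Pur.exists_localization_equiv_of_specializes h Q hζQ
      obtain ⟨e', he'⟩ := Groth.Agent.H18Pur.exists_localization_equiv_of_specializes
        (f.base.hom.map_specializes h) _ rfl
      have hsp : (Y.presheaf.stalkSpecializes (f.base.hom.map_specializes h)).hom =
          e'.symm.toRingHom.comp (algebraMap _ _) := by
        rw [← he', ← RingHom.comp_assoc]
        simp
      have hnat : (X.presheaf.stalkSpecializes h).hom.comp (f.stalkMap x).hom =
          (f.stalkMap ζ).hom.comp (Y.presheaf.stalkSpecializes (f.base.hom.map_specializes h)).hom :=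
        congrArg CommRingCat.Hom.hom (f.stalkSpecializes_stalkMap ζ x h).symm
      have key : algebraMap (Y.presheaf.stalk (f x)) (Localization.AtPrime Q) =
          e.toRingHom.comp ((f.stalkMap ζ).hom.comp (e'.symm.toRingHom.comp (algebraMap _ _))) := by
        rw [IsScalarTower.algebraMap_eq (Y.presheaf.stalk (f x)) (X.presheaf.stalk x) (Localization.AtPrime Q),
          ← he, RingHom.comp_assoc, ← hsp, ← hnat]
        rfl
      let P := Ideal.comap (Y.presheaf.stalkSpecializes (f.base.hom.map_specializes h)).hom
        (IsLocalRing.maximalIdeal (Y.presheaf.stalk (f.base ζ)))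
      constructor
      · rw [← RingHom.flat_algebraMap_iff, key]
        refine RingHom.Flat.respectsIso.1 _ e (RingHom.Flat.comp ?_ h2)
        refine RingHom.Flat.respectsIso.1 _ e'.symm ?_
        exact RingHom.flat_algebraMap_iff.mpr (IsLocalization.flat _ P.primeCompl)
      · rw [← RingHom.formallyUnramified_algebraMap, key]
        refine RingHom.FormallyUnramified.respectsIso.1 _ e
          (RingHom.FormallyUnramified.stableUnderComposition _ _ ?_ h1)
        refine RingHom.FormallyUnramified.respectsIso.1 _ e'.symm ?_
        exact RingHom.formallyUnramified_algebraMap.mpr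
          (Algebra.FormallyUnramified.of_isLocalization P.primeCompl))
  exact ⟨hflat, hur⟩

end Groth.Agent.S0256
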