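import Groth.Statements.S0257
import Groth.Agent.H18Pur.Ram.FlatQF
import Groth.Agent.H18Pur.StalkPrime
import Groth.Agent.H9Hens.StalkUnramified

set_option autoImplicit false
universe u
open Pi1

namespace Groth.Agent.S0257

open AlgebraicGeometry CategoryTheory CategoryTheory.Limits in
/-- Let f be flat and locally of finite type between locally Noetherian schemes, x a point of X which is
not a generic point of an irreducible component (its local ring has dimension at least 1), with f
quasi-finite at x and unramified at all points of dimension one specializing to x. Then f is etale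
on an open neighbourhood of x. -/
theorem result {X Y : Scheme.{u}} (f : X ⟶ Y) [LocallyOfFiniteType f] [Flat f] [IsLocallyNoetherian X]
    [IsLocallyNoetherian Y] (x : X) (hq : f.QuasiFiniteAt x)
    (hdim1 : (1 : WithBot ℕ∞) ≤ ringKrullDim (X.presheaf.stalk x))
    (hunr : ∀ x' : X, x' ⤳ x → ringKrullDim (X.presheaf.stalk x') = 1 →
      (f.stalkMap x').hom.FormallyUnramified) :
    ∃ U : X.Opens, x ∈ U ∧ Etale (U.ι ≫ f) := by
  classical
  rw [Groth.Agent.H9Hens.etale_nhd_iff]
  have hlft : (f.stalkMap x).hom.EssFiniteType := LocallyOfFiniteType.stalkMap f x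
  have hflat : (f.stalkMap x).hom.Flat := Flat.stalkMap f x
  algebraize [(f.stalkMap x).hom]
  haveI : IsLocalHom (algebraMap (Y.presheaf.stalk (f x)) (X.presheaf.stalk x)) :=
    inferInstanceAs <| IsLocalHom (f.stalkMap x).hom
  haveI : Algebra.QuasiFinite (Y.presheaf.stalk (f x)) (X.presheaf.stalk x) := hq
  obtain ⟨d, hd⟩ := Groth.Agent.H22Alg.exists_nat_ringKrullDim' (X.presheaf.stalk x)
  have hd1 : 1 ≤ d := by
    rw [hd] at hdim1
    exact_mod_cast hdim1
  have hur := Groth.Agent.H18Pur.Ram.unramified_of_flat_quasiFinite d
    (A := Y.presheaf.stalk (f x)) (B := X.presheaf.stalk x) hd hd1 (fun Q _ hQ => by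
      obtain ⟨ζ, h, hζQ⟩ := Groth.Agent.S5090.exists_generization_comap_eq Q
      have hdimζ : ringKrullDim (X.presheaf.stalk ζ) = 1 := by
        rw [← Groth.Agent.S5090.height_comap_stalkSpecializes h]
        simp only [hζQ, hQ]
        rfl
      have h1 := hunr ζ h hdimζ
      obtain ⟨e, he⟩ := Groth.Agent.H18Pur.exists_localization_equiv_of_specializes h Q hζQ
      rw [← RingHom.formallyUnramified_algebraMap, IsScalarTower.algebraMap_eq (Y.presheaf.stalk (f x))
        (X.presheaf.stalk x) (Localization.AtPrime Q), ← he, RingHom.comp_assoc]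
      refine RingHom.FormallyUnramified.respectsIso.1 _ e ?_
      have hnat : (X.presheaf.stalkSpecializes h).hom.comp (f.stalkMap x).hom =
          (f.stalkMap ζ).hom.comp (Y.presheaf.stalkSpecializes (f.base.hom.map_specializes h)).hom :=
        congrArg CommRingCat.Hom.hom (f.stalkSpecializes_stalkMap ζ x h).symm
      rw [show algebraMap (Y.presheaf.stalk (f x)) (X.presheaf.stalk x) = (f.stalkMap x).hom from rfl, hnat]
      refine RingHom.FormallyUnramified.stableUnderComposition _ _ ?_ h1
      obtain ⟨e', he'⟩ := Groth.Agent.H18Pur.exists_localization_equiv_of_specializes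
        (f.base.hom.map_specializes h) _ rfl
      have : (Y.presheaf.stalkSpecializes (f.base.hom.map_specializes h)).hom =
          e'.symm.toRingHom.comp (algebraMap _ _) := by
        rw [← he', ← RingHom.comp_assoc]
        simp
      rw [this]
      refine RingHom.FormallyUnramified.respectsIso.1 _ e'.symm ?_
      exact RingHom.formallyUnramified_algebraMap.mpr
        (Algebra.FormallyUnramified.of_isLocalization
          (Ideal.comap (Y.presheaf.stalkSpecializes (f.base.hom.map_specializes h)).hom
            (IsLocalRing.maximalIdeal (Y.presheaf.stalk (f.base ζ)))).primeCompl))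
  exact ⟨hflat, hur⟩

end Groth.Agent.S0257
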