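import Groth.Statements.S0258
import Groth.Agent.H18Et.FEtDepth

set_option autoImplicit false
universe u
open Pi1

namespace Groth.Agent.S0258

noncomputable section

open AlgebraicGeometry CategoryTheory CategoryTheory.Limits in
/-- For a Noetherian local ring A of depth at least 2, the functor restricting finite étale covers of
Spec A to the punctured spectrum is fully faithful (full and faithful). The published statement
assumes instead that the punctured spectrum of the strict henselization of A is connected; depth at
least 2 is a sufficient condition for this, and the result is stated here under that hypothesis. -/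
theorem result (A : Type u) [CommRing A] [IsNoetherianRing A] [IsLocalRing A] (hA : (2 : ℕ∞) ≤ LocCoh.depth A A) :
    (FEt.restrict (FEt.puncturedSpec A).ι).Full ∧ (FEt.restrict (FEt.puncturedSpec A).ι).Faithful := by
  haveI : IsNoetherianRing (CommRingCat.of A) := ‹IsNoetherianRing A›
  let U := FEt.puncturedSpec A
  have hne : ∃ p : PrimeSpectrum A, p ≠ IsLocalRing.closedPoint A := by
    obtain ⟨a, ha, hreg, -⟩ := Groth.Agent.H4Depth.exists_regular_two hA
    by_contra! hc
    have hnil : IsNilpotent a := by
      rw [nilpotent_iff_mem_prime]
      intro P hP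
      have e := congrArg PrimeSpectrum.asIdeal (hc ⟨P, hP⟩)
      rw [show P = IsLocalRing.maximalIdeal A from e]
      exact ha
    obtain ⟨n, hn⟩ := hnil
    exact one_ne_zero ((hreg.pow n) (show a ^ n • (1 : A) = a ^ n • (0 : A) by simp [hn]))
  refine Groth.Agent.H18Et.FEtDepth.full_faithful U ?_ ?_
  · intro V hV hne'
    obtain ⟨v, hv⟩ := hne'
    have hall : (V : Set (PrimeSpectrum A)) = Set.univ := by
      have hc : IsLocalRing.closedPoint A ∈ V := (IsLocalRing.specializes_closedPoint v).mem_closed hV.1 hv
      exact Set.eq_univ_of_forall fun p => (IsLocalRing.specializes_closedPoint p).mem_open hV.2 hc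
    obtain ⟨p, hp⟩ := hne
    rw [Scheme.Opens.range_ι]
    exact ⟨p, hall ▸ Set.mem_univ p, hp⟩
  · intro x hx
    have hx' : x = IsLocalRing.closedPoint A := not_not.1 hx
    subst hx'
    let c : PrimeSpectrum A := IsLocalRing.closedPoint A
    letI : Algebra A ((Spec (CommRingCat.of A)).presheaf.stalk c) :=
      inferInstanceAs (Algebra A ((Spec.structureSheaf A).presheaf.stalk c))
    haveI : IsLocalization.AtPrime ((Spec (CommRingCat.of A)).presheaf.stalk c) c.asIdeal :=
      inferInstanceAs (IsLocalization.AtPrime ((Spec.structureSheaf A).presheaf.stalk c) c.asIdeal)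
    let e : A ≃+* (Spec (CommRingCat.of A)).presheaf.stalk c :=
      (IsLocalization.atUnits A c.asIdeal.primeCompl (fun a ha => by
        exact not_not.1 fun h => ha ((IsLocalRing.mem_maximalIdeal a).2 h))).toRingEquiv
    rw [← Groth.Agent.H05EGA4.depth_eq_of_ringEquiv e]
    exact hA

end

end Groth.Agent.S0258
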