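import Groth.Statements.S0260
import Groth.Agent.H18Pur.Formal.Faithful
import Groth.Agent.H18Pur.Formal.Depth

set_option autoImplicit false
universe u
open Pi1

namespace Groth.Agent.S0260

open AlgebraicGeometry CategoryTheory CategoryTheory.Limits in
/-- Let A be a henselian Noetherian local ring of depth at least 3 and f an element of the maximal
ideal. Then restricting finite etale covers from the punctured spectrum of A to the punctured
spectrum of A/fA is fully faithful. -/
theorem result (A : Type u) [CommRing A] [IsNoetherianRing A] [HenselianLocalRing A] (hA : (3 : ℕ∞) ≤ LocCoh.depth A A)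
    (f : A) (hf : f ∈ IsLocalRing.maximalIdeal A) :
    (FEt.restrict (pullback.fst (FEt.puncturedSpec A).ι
      (Spec.map (CommRingCat.ofHom (Ideal.Quotient.mk (Ideal.span {f})))))).Full ∧
    (FEt.restrict (pullback.fst (FEt.puncturedSpec A).ι
      (Spec.map (CommRingCat.ofHom (Ideal.Quotient.mk (Ideal.span {f})))))).Faithful := by
  have h2 : (2 : ℕ∞) ≤ LocCoh.depth A A := le_trans (by decide) hA
  obtain ⟨x, y, hx, hy⟩ := Groth.Agent.H18Pur.Formal.exists_sat_of_three_le_depth hA
  obtain ⟨T, hT⟩ := (IsNoetherian.noetherian (IsLocalRing.maximalIdeal A) : (IsLocalRing.maximalIdeal A).FG)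
  obtain ⟨hs, hi⟩ := Groth.Agent.H18Pur.Formal.pro_of_depth_three hT f hx hy
  have hJ : Ideal.span {f} ≤ IsLocalRing.maximalIdeal A := (Ideal.span_singleton_le_iff_mem _).2 hf
  have hm := Groth.Agent.H18Pur.Formal.meetsClopens_punctured h2 _ hJ T hT hi
  exact ⟨Groth.Agent.H18Et.FEtRestrict.full _ hm
    (Groth.Agent.H18Pur.Formal.clopensDescend_punctured h2 _ hJ T hT hx hs hi),
    Groth.Agent.H18Et.FEtRestrict.faithful _ hm⟩

end Groth.Agent.S0260
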