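import Groth.Statements.S0263
import Groth.Agent.S0291
import Groth.Agent.H18Et.FEtDepth

set_option autoImplicit false
universe u
open Pi1

namespace Groth.Agent.S0263

open AlgebraicGeometry CategoryTheory CategoryTheory.Limits in
/-- Let A be a Noetherian local ring of depth at least 2 and V a finite étale cover of the punctured
spectrum of A which is isomorphic to the restriction of some finite étale cover of Spec A. Then the
ring of global sections Γ(V, O_V) is finite and étale over A, via the ring map A → Γ(V, O_V) induced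
by the composite V → Spec A. (Only this implication of the published statement is asserted here; its
converse is not.) -/
theorem result (A : Type u) [CommRing A] [IsNoetherianRing A] [IsLocalRing A] (hA : (2 : ℕ∞) ≤ LocCoh.depth A A)
    (V : FEt.Cat (FEt.puncturedSpec A : Scheme.{u}))
    (hV : ∃ Y : FEt.Cat (Spec (CommRingCat.of A)),
      Nonempty ((FEt.restrict (FEt.puncturedSpec A).ι).obj Y ≅ V)) :
    ((Scheme.ΓSpecIso (CommRingCat.of A)).inv ≫ (V.hom ≫ (FEt.puncturedSpec A).ι).appTop).hom.Finite ∧
    ((Scheme.ΓSpecIso (CommRingCat.of A)).inv ≫ (V.hom ≫ (FEt.puncturedSpec A).ι).appTop).hom.Etale := by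
  obtain ⟨Y, ⟨e⟩⟩ := hV
  haveI : IsNoetherianRing (CommRingCat.of A) := ‹IsNoetherianRing A›
  let π : Y.left ⟶ Spec (CommRingCat.of A) := Y.hom
  haveI : IsFinite π := Groth.Agent.H18Et.FEtGalois.isFinite_hom Y
  haveI : Etale π := Groth.Agent.H18Et.FEtGalois.etale_hom Y
  haveI : IsAffine Y.left := isAffine_of_isAffineHom π
  let B := Γ(Y.left, ⊤)
  let φ := (Scheme.ΓSpecIso (CommRingCat.of A)).inv ≫ π.appTop
  letI : Algebra A B := φ.hom.toAlgebra
  have hφfin : φ.hom.Finite := RingHom.Finite.comp (π.finite_app _ (isAffineOpen_top _))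
    (RingHom.Finite.of_surjective _ (Scheme.ΓSpecIso (CommRingCat.of A)).symm.commRingCatIsoToRingEquiv.surjective)
  have hφet : φ.hom.Etale := RingHom.Etale.respectsIso.2 π.appTop.hom
    (Scheme.ΓSpecIso (CommRingCat.of A)).symm.commRingCatIsoToRingEquiv (HasRingHomProperty.appTop @Etale π ‹_›)
  haveI : Module.Finite A B := hφfin
  haveI : Algebra.Etale A B := RingHom.etale_algebraMap.mp hφet
  haveI : IsNoetherianRing B := IsNoetherianRing.of_finite A B
  -- depth at the maximal ideals
  have hd : ∀ (m : Ideal B) (_ : m.IsMaximal),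
      (2 : ℕ∞) ≤ LocCoh.depth (Localization.AtPrime m) (Localization.AtPrime m) := by
    intro m hm
    have hc : m.comap (algebraMap A B) = IsLocalRing.maximalIdeal A :=
      IsLocalRing.eq_maximalIdeal (Ideal.isMaximal_comap_of_isIntegral_of_isMaximal _)
    haveI : m.LiesOver (IsLocalRing.maximalIdeal A) := ⟨hc.symm⟩
    haveI : IsLocalHom (algebraMap A (Localization.AtPrime m)) := by
      refine ((IsLocalRing.local_hom_TFAE _).out 0 4).2 ?_
      rw [IsScalarTower.algebraMap_eq A B, ← Ideal.comap_comap,
        show (IsLocalRing.maximalIdeal (Localization.AtPrime m)).comap (algebraMap B (Localization.AtPrime m)) = m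
          from IsLocalization.AtPrime.comap_maximalIdeal _ m, hc]
    haveI : Module.Flat B (Localization.AtPrime m) := IsLocalization.flat _ m.primeCompl
    haveI : Module.Flat A (Localization.AtPrime m) := Module.Flat.trans A B _
    haveI := Groth.Agent.H8Props.FlatDepth.isLocalRing_fibre A (Localization.AtPrime m)
    rw [Groth.Agent.H8Props.FlatDepth.depth_eq_add A (Localization.AtPrime m)]
    exact hA.trans le_self_add
  have hiso := Groth.Agent.S0291.result A B hd
  let q : Y.left ⟶ Spec (CommRingCat.of A) := Y.left.isoSpec.hom ≫ Spec.map (CommRingCat.ofHom (algebraMap A B))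
  have hq : q = π := by
    show Y.left.isoSpec.hom ≫ Spec.map φ = π
    rw [Spec.map_comp, ← Category.assoc, Scheme.isoSpec_hom_naturality π, Category.assoc,
      ← Scheme.isoSpec_Spec_inv]
    simp
  let U := FEt.puncturedSpec A
  let U' := Spec.map (CommRingCat.ofHom (algebraMap A B)) ⁻¹ᵁ U
  let eL : V.left ⟶ pullback π U.ι := e.inv.left
  let g : V.left ⟶ Y.left := eL ≫ pullback.fst π U.ι
  have hg : g ≫ π = V.hom ≫ U.ι := by
    have h2 : eL ≫ pullback.snd π U.ι = V.hom := MorphismProperty.Over.w e.inv
    simp only [g, Category.assoc, pullback.condition]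
    rw [← Category.assoc, h2]
  haveI : IsIso eL :=
    inferInstanceAs (IsIso ((MorphismProperty.Over.forget _ ⊤ _ ⋙ Over.forget _).map e.inv))
  let j : V.left ⟶ Spec (CommRingCat.of B) := g ≫ Y.left.isoSpec.hom
  have hrange : Set.range j = Set.range U'.ι := by
    rw [Scheme.Opens.range_ι]
    ext z
    constructor
    · rintro ⟨v, rfl⟩
      show Spec.map (CommRingCat.ofHom (algebraMap A B)) (Y.left.isoSpec.hom (g v)) ∈ U
      have e1 := congrArg (fun r : V.left ⟶ Spec (CommRingCat.of A) => r v) ((congrArg (g ≫ ·) hq).trans hg)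
      exact e1 ▸ (V.hom v).2
    · intro hz
      obtain ⟨y, rfl⟩ := Y.left.isoSpec.hom.surjective z
      have hy : π y ∈ Set.range U.ι := by
        rw [Scheme.Opens.range_ι, ← hq]
        exact hz
      obtain ⟨u, hu⟩ := hy
      obtain ⟨w, hw, -⟩ := Scheme.Pullback.exists_preimage_pullback (f := π) (g := U.ι) y u hu.symm
      obtain ⟨v, rfl⟩ := eL.surjective w
      exact ⟨v, congrArg Y.left.isoSpec.hom hw⟩
  haveI : IsOpenImmersion j := inferInstance
  let i := IsOpenImmersion.isoOfRangeEq j U'.ι hrange
  have hi : i.hom ≫ U'.ι = j := IsOpenImmersion.isoOfRangeEq_hom_fac _ _ _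
  haveI hUtop : IsIso U'.ι.appTop := by
    have key : ∀ W : (Spec (CommRingCat.of B)).Opens, W = U' →
        IsIso ((Spec (CommRingCat.of B)).presheaf.map (homOfLE (le_top : W ≤ ⊤)).op) := by
      rintro W rfl
      exact hiso
    rw [Scheme.Opens.ι_appTop]
    exact key _ U'.ι_image_top
  haveI : IsIso g.appTop := by
    have : IsIso j.appTop := by
      rw [← hi, Scheme.Hom.comp_appTop]
      haveI : IsIso i.hom.appTop :=
        inferInstanceAs (IsIso (Scheme.Γ.map i.hom.op))
      exact IsIso.comp_isIso' hUtop this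
    have e2 : g = j ≫ Y.left.isoSpec.inv := by simp [j]
    rw [e2, Scheme.Hom.comp_appTop]
    haveI h9 : IsIso Y.left.isoSpec.inv.appTop := inferInstanceAs (IsIso (Scheme.Γ.map Y.left.isoSpec.inv.op))
    exact IsIso.comp_isIso' h9 this
  rw [← hg, Scheme.Hom.comp_appTop, ← Category.assoc]
  exact ⟨RingHom.Finite.comp (RingHom.Finite.of_surjective _ (asIso g.appTop).commRingCatIsoToRingEquiv.surjective) hφfin,
    RingHom.Etale.respectsIso.1 φ.hom (asIso g.appTop).commRingCatIsoToRingEquiv hφet⟩

end Groth.Agent.S0263
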