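import Groth.Statements.S0267
import Groth.Agent.H18Et.GalExact

set_option autoImplicit false
universe u v
open Pi1

namespace Groth.Agent.S0267

open CategoryTheory CategoryTheory.Limits in
/-- For an exact functor H between Galois categories, H is fully faithful exactly when it carries
connected objects to connected objects (both are equivalent to surjectivity of the induced map on
fundamental groups). -/
theorem result {C : Type u} [Category.{v} C]
    [GaloisCategory C] {D : Type u} [Category.{v} D] [GaloisCategory D]
    (H : C ⥤ D) [PreservesFiniteLimits H] [PreservesFiniteColimits H] :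
    (H.Full ∧ H.Faithful) ↔
      ∀ X : C, PreGaloisCategory.IsConnected X → PreGaloisCategory.IsConnected (H.obj X) := by
  obtain ⟨F', ⟨hF'⟩⟩ := CategoryTheory.GaloisCategory.hasFiberFunctor (C := D)
  have := Groth.Agent.H18Et.GalExact.exists_fiberFunctor_comp H F'
  exact Groth.Agent.H18Et.GalExact.fullyFaithful_iff H F'

end Groth.Agent.S0267
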