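import Groth.Statements.S0270
import Groth.Agent.H18Et.FEtSepLevel

set_option autoImplicit false
set_option backward.isDefEq.respectTransparency false
universe u
open Pi1

namespace Groth.Agent.S0270

open CategoryTheory CategoryTheory.Limits in
set_option backward.isDefEq.respectTransparency false in
set_option backward.defeqAttrib.useBackward true in
theorem isIso_sigmaDesc_fst' {C : Type*} [Category C] [HasPullbacks C] [FinitaryPreExtensive C]
    {α : Type*} [Finite α] [HasCoproductsOfShape α C]
    {X : C} {Z : α → C} (π : (a : α) → Z a ⟶ X) {Y : C} (f : Y ⟶ X) (hπ : IsIso (Sigma.desc π)) :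
    IsIso (Sigma.desc ((fun _ ↦ pullback.fst _ _) : (a : α) → pullback f (π a) ⟶ _)) := by
  let c := (Cofan.mk _ ((fun _ ↦ pullback.fst _ _) : (a : α) → pullback f (π a) ⟶ _))
  apply c.nonempty_isColimit_iff_isIso_sigmaDesc.mp
  have hau : IsUniversalColimit (Cofan.mk X π) := FinitaryPreExtensive.isUniversal_finiteCoproducts
    ((Cofan.nonempty_isColimit_iff_isIso_sigmaDesc _).mpr hπ).some
  refine hau.nonempty_isColimit_of_pullbackCone_left _ (𝟙 _) _ _ (fun i ↦ ?_)
    (PullbackCone.mk (𝟙 _) f (by simp)) (IsPullback.id_horiz f).isLimit _ (Iso.refl _)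
    (by simp) (by simp [c]) (by simp [pullback.condition, c])
  exact pullback.isLimit _ _

open AlgebraicGeometry CategoryTheory CategoryTheory.Limits in
/-- (Exactness of the homotopy sequence of etale fundamental groups at pi_1(X), in functor form.) Let X
be quasi-compact and quasi-separated over a field k with X_{kbar} connected, kbar an algebraic
closure of k. If a finite etale cover U of X becomes completely split (a disjoint union of copies of
X_{kbar}) after base change to kbar, then there are a finite etale k-scheme V and an X-morphism from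
V x_k X to U which is surjective. -/
theorem result (k : Type u) [Field k] {X : Scheme.{u}} (f : X ⟶ Spec (CommRingCat.of k)) [CompactSpace X]
    [QuasiSeparatedSpace X]
    [ConnectedSpace ↥(pullback f (Spec.map (CommRingCat.ofHom (algebraMap k (AlgebraicClosure k)))))]
    (U : FEt.Cat X) (hU : Pi1.IsSplit ((FEt.restrict (pullback.fst f (Spec.map (CommRingCat.ofHom (algebraMap k (AlgebraicClosure k)))))).obj U)) :
    ∃ (V : FEt.Cat (Spec (CommRingCat.of k))) (e : (FEt.restrict f).obj V ⟶ U), Surjective e.left := by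
  obtain ⟨ι, hι, E, hE⟩ := hU
  let d := pullback.fst f (Spec.map (CommRingCat.ofHom (algebraMap k (AlgebraicClosure k))))
  haveI : IsFinite U.hom := U.prop.1
  haveI : Etale U.hom := U.prop.2
  let σ : ι → (pullback f (Spec.map (CommRingCat.ofHom (algebraMap k (AlgebraicClosure k)))) ⟶ U.left) :=
    fun i => (Sigma.ι (fun _ : ι => pullback f (Spec.map (CommRingCat.ofHom (algebraMap k (AlgebraicClosure k))))) i ≫ E.inv) ≫
      pullback.fst U.hom d
  have hσ : ∀ i, σ i ≫ U.hom = d := fun i => by
    simp only [σ, Category.assoc]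
    erw [pullback.condition]
    have h := congrArg (· ≫ d) (hE i)
    simp only [Category.assoc, Category.id_comp] at h
    refine Eq.trans ?_ h
    rfl
  have hfam : ∀ i, ∃ (L : IntermediateField k (AlgebraicClosure k)) (_ : FiniteDimensional k L)
      (τ : pullback f (H18Et.FEtSepLevel.sepMap k L) ⟶ U.left)
      (c : pullback f (Spec.map (CommRingCat.ofHom (algebraMap k (AlgebraicClosure k)))) ⟶
        pullback f (H18Et.FEtSepLevel.sepMap k L)),
      τ ≫ U.hom = pullback.fst f _ ∧ c ≫ τ = σ i := by
    intro i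
    obtain ⟨L, hL, τ, c, hτ, hc1, -, hcτ⟩ := H18Et.FEtFieldLimit.exists_finite_hom f U.hom (σ i) (hσ i)
    let t := H18Et.FEtSepLevel.toSep (L := L) f
    let p := pullback.fst f (H18Et.FEtSepLevel.sepMap k L)
    have htp : t ≫ p = pullback.fst f (Spec.map (CommRingCat.ofHom (algebraMap k L))) :=
      H18Et.FEtSepLevel.toSep_fst f
    obtain ⟨s, hs, hts⟩ := H18Et.TopInv.exists_section (pullback.snd U.hom p) t
      (pullback.lift τ t (by rw [hτ, htp])) (pullback.lift_snd _ _ _)
    refine ⟨L, hL, s ≫ pullback.fst U.hom p, c ≫ t, ?_, ?_⟩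
    · rw [Category.assoc, pullback.condition, reassoc_of% hs]
    · rw [Category.assoc, reassoc_of% hts, pullback.lift_fst, hcτ]
  choose L hL τ c hτ hcτ using hfam
  haveI : ∀ i, FiniteDimensional k (L i) := hL
  let Z : ι → Scheme.{u} := fun i => Spec (CommRingCat.of (separableClosure k (L i)))
  let g : ∀ i, Z i ⟶ Spec (CommRingCat.of k) := fun i => H18Et.FEtSepLevel.sepMap k (L i)
  let π := Sigma.desc g
  haveI : Etale π := IsZariskiLocalAtSource.sigmaDesc (P := @Etale) fun i => H18Et.FEtSepLevel.etale_sepMap k (L i)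
  haveI : IsFinite π := by
    have h : π = sigmaSpec (fun i => CommRingCat.of (separableClosure k (L i))) ≫
        Spec.map (CommRingCat.ofHom (algebraMap k (Π i, separableClosure k (L i)))) := by
      refine Sigma.hom_ext _ _ fun j => ?_
      rw [Sigma.ι_desc, ι_sigmaSpec_assoc, ← Spec.map_comp]
      rfl
    rw [h, MorphismProperty.cancel_left_of_respectsIso (P := @IsFinite), IsFinite.SpecMap_iff]
    exact RingHom.finite_algebraMap.mpr inferInstance
  let V : FEt.Cat (Spec (CommRingCat.of k)) := MorphismProperty.Over.mk ⊤ π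
    ⟨inferInstanceAs (IsFinite π), inferInstanceAs (Etale π)⟩
  let Y := pullback π f
  let pr : Y ⟶ ∐ Z := pullback.fst π f
  haveI hiso : IsIso (Sigma.desc fun i => pullback.fst pr (Sigma.ι Z i)) := by
    apply isIso_sigmaDesc_fst'
    have : Sigma.desc (fun i => Sigma.ι Z i) = 𝟙 _ := Sigma.hom_ext _ _ fun j => by simp
    rw [this]; infer_instance
  let q : ∀ i, pullback pr (Sigma.ι Z i) ⟶ pullback f (g i) := fun i =>
    pullback.lift (pullback.fst pr _ ≫ pullback.snd π f) (pullback.snd pr _) (by
      rw [Category.assoc, ← pullback.condition, ← Category.assoc]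
      show (pullback.fst pr _ ≫ pr) ≫ π = _
      rw [pullback.condition, Category.assoc, Sigma.ι_desc])
  let a := Sigma.desc fun i => pullback.fst pr (Sigma.ι Z i)
  let m : Y ⟶ U.left := inv a ≫ Sigma.desc fun i => q i ≫ τ i
  have hm : ∀ i, pullback.fst pr (Sigma.ι Z i) ≫ m = q i ≫ τ i := fun i => by
    have : pullback.fst pr (Sigma.ι Z i) = Sigma.ι (fun i => pullback pr (Sigma.ι Z i)) i ≫ a :=
      (Sigma.ι_desc (fun i => pullback.fst pr (Sigma.ι Z i)) i).symm
    rw [this]
    simp [m]
  have hmh : m ≫ U.hom = pullback.snd π f := by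
    rw [← cancel_epi a]
    refine Sigma.hom_ext _ _ fun i => ?_
    rw [Sigma.ι_desc_assoc, Sigma.ι_desc_assoc, reassoc_of% (hm i), hτ i]
    simp [q]
    exact pullback.lift_fst _ _ _
  refine ⟨V, MorphismProperty.Over.homMk m hmh, ?_⟩
  show Surjective m
  refine ⟨fun u => ?_⟩
  haveI : Surjective (Spec.map (CommRingCat.ofHom (algebraMap k (AlgebraicClosure k)))) :=
    ⟨fun x => ⟨(⟨⊥, Ideal.isPrime_bot⟩ : PrimeSpectrum (AlgebraicClosure k)),
      @Subsingleton.elim _ (inferInstanceAs (Subsingleton (PrimeSpectrum k))) _ x⟩⟩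
  haveI : Surjective d := MorphismProperty.pullback_fst (P := @Surjective) _ _ inferInstance
  haveI : Surjective (pullback.fst U.hom d) := MorphismProperty.pullback_fst (P := @Surjective) _ _ inferInstance
  obtain ⟨z, hz⟩ := (pullback.fst U.hom d).surjective u
  obtain ⟨⟨i, x⟩, hx⟩ := (sigmaMk _).surjective (E.hom z)
  have h1 : σ i x = u := by
    simp only [σ, Scheme.Hom.comp_apply]
    rw [sigmaMk_mk] at hx
    rw [hx, ← hz]
    congr 1
    exact Scheme.hom_inv_apply E z
  let y := c i x
  have hy : τ i y = u := by rw [← h1, ← hcτ i]; rfl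
  let r : pullback f (g i) ⟶ pullback pr (Sigma.ι Z i) :=
    pullback.lift (pullback.lift (pullback.snd f (g i) ≫ Sigma.ι Z i) (pullback.fst f (g i)) (by
      rw [Category.assoc, Sigma.ι_desc, pullback.condition])) (pullback.snd f (g i)) (by simp [pr])
  have hr : r ≫ q i = 𝟙 _ := by apply pullback.hom_ext <;> simp [r, q]
  refine ⟨(r ≫ pullback.fst pr (Sigma.ι Z i)) y, ?_⟩
  rw [← Scheme.Hom.comp_apply, Category.assoc, hm i, reassoc_of% hr]
  exact hy

end Groth.Agent.S0270
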