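import Groth.Statements.S0275
import Groth.Agent.H18Et.UnivInjDescent

set_option autoImplicit false
universe u
open scoped TensorProduct
open Pi1

namespace Groth.Agent.S0275

/-- Let R -> S be universally injective and M an R-module such that S ⊗_R M is finitely generated over
S. Then M is finitely generated over R. -/
theorem result (R S : Type u) [CommRing R] [CommRing S] [Algebra R S]
    (h : Pi1.UnivInjective R S) (M : Type u) [AddCommGroup M] [Module R M]
    [Module.Finite S (S ⊗[R] M)] : Module.Finite R M := by
  classical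
  obtain ⟨s, hs⟩ := Groth.Agent.H18Et.exists_finset_fg_le (R := R) (S := S) M ⊤ Module.Finite.fg_top
  have hsurj : Function.Surjective ((Submodule.span R (s : Set M)).subtype.lTensor S) := by
    intro x
    have hle : Submodule.span S ((fun m : M => (1 : S) ⊗ₜ[R] m) '' s) ≤
        LinearMap.range ((Submodule.span R (s : Set M)).subtype.baseChange S) := by
      rw [Submodule.span_le]
      rintro _ ⟨m, hm, rfl⟩
      exact ⟨(1 : S) ⊗ₜ ⟨m, Submodule.subset_span hm⟩, by simp⟩
    obtain ⟨y, hy⟩ := hle (hs (show x ∈ (⊤ : Submodule S (S ⊗[R] M)) from trivial))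
    exact ⟨y, by rwa [← LinearMap.baseChange_eq_ltensor]⟩
  have := Groth.Agent.H18Et.surjective_of_lTensor_surjective h _ hsurj
  exact ⟨⟨s, Submodule.eq_top_iff'.2 fun m => by obtain ⟨y, rfl⟩ := this m; exact y.2⟩⟩

end Groth.Agent.S0275
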