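import Groth.Statements.S0276
import Groth.Agent.H18Et.UnivInjDescent
import Groth.Agent.S0275
import Mathlib.Algebra.Module.FinitePresentation

set_option autoImplicit false
universe u
open scoped TensorProduct
open Pi1

namespace Groth.Agent.S0276

/-- Let R -> S be universally injective and M an R-module such that S ⊗_R M is finitely presented over
S. Then M is finitely presented over R. -/
theorem result (R S : Type u) [CommRing R] [CommRing S] [Algebra R S]
    (h : Pi1.UnivInjective R S) (M : Type u) [AddCommGroup M] [Module R M]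
    [Module.FinitePresentation S (S ⊗[R] M)] : Module.FinitePresentation R M := by
  classical
  haveI : Module.Finite R M := Groth.Agent.S0275.result R S h M
  obtain ⟨n, p, hp⟩ := Module.Finite.exists_fin' R M
  refine Module.finitePresentation_of_surjective p hp ?_
  have hsurjS : Function.Surjective (p.baseChange S) := by
    rw [LinearMap.baseChange_eq_ltensor]
    exact LinearMap.lTensor_surjective S hp
  have hker : LinearMap.ker (p.baseChange S) =
      Submodule.span S ((fun m : Fin n → R => (1 : S) ⊗ₜ[R] m) '' (LinearMap.ker p : Set (Fin n → R))) := by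
    refine le_antisymm (fun z hz => ?_) (Submodule.span_le.2 ?_)
    · have hex := lTensor_exact S (LinearMap.exact_subtype_ker_map p) hp
      obtain ⟨y, rfl⟩ := (hex z).1 (by rwa [← LinearMap.baseChange_eq_ltensor])
      clear hz
      induction y with
      | zero => simp
      | add a b ha hb => rw [map_add]; exact add_mem ha hb
      | tmul a k =>
        rw [LinearMap.lTensor_tmul]
        have : a ⊗ₜ[R] ((k : Fin n → R)) = a • ((1 : S) ⊗ₜ[R] (k : Fin n → R)) := by
          rw [TensorProduct.smul_tmul', smul_eq_mul, mul_one]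
        exact this ▸ Submodule.smul_mem _ _ (Submodule.subset_span ⟨k, k.2, rfl⟩)
    · rintro _ ⟨m, hm, rfl⟩
      simp [LinearMap.mem_ker.1 hm]
  have hfg := Module.FinitePresentation.fg_ker (p.baseChange S) hsurjS
  rw [hker] at hfg
  obtain ⟨s', hs', hspan⟩ := (Submodule.fg_span_iff_fg_span_finset_subset _).1 hfg
  obtain ⟨s, hs, hs''⟩ : ∃ s : Finset (Fin n → R), (s : Set (Fin n → R)) ⊆ LinearMap.ker p ∧
      (s' : Set (S ⊗[R] (Fin n → R))) ⊆ (fun m : Fin n → R => (1 : S) ⊗ₜ[R] m) '' s := by
    obtain ⟨s, hs, he⟩ := Finset.subset_set_image_iff.1 hs'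
    exact ⟨s, hs, by rw [← he, Finset.coe_image]⟩
  refine ⟨s, le_antisymm (Submodule.span_le.2 hs) fun x hx => ?_⟩
  refine (Submodule.Quotient.mk_eq_zero _).1 (Groth.Agent.H18Et.mk_one_injective_of_univInjective h
    ((Fin n → R) ⧸ Submodule.span R (s : Set (Fin n → R))) ?_)
  have hmem : (1 : S) ⊗ₜ[R] x ∈ LinearMap.ker ((Submodule.span R (s : Set (Fin n → R))).mkQ.baseChange S) := by
    have : (1 : S) ⊗ₜ[R] x ∈ Submodule.span S (s' : Set (S ⊗[R] (Fin n → R))) := by
      rw [← hspan]
      exact Submodule.subset_span ⟨x, hx, rfl⟩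
    refine Submodule.span_le.2 (fun z hz => ?_) this
    obtain ⟨m, hm, rfl⟩ := hs'' hz
    have : Submodule.Quotient.mk (p := Submodule.span R (s : Set (Fin n → R))) m = 0 :=
      (Submodule.Quotient.mk_eq_zero _).2 (Submodule.subset_span hm)
    simp [this]
  simpa using hmem

end Groth.Agent.S0276
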