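import Groth.Statements.S0280
import Mathlib

set_option autoImplicit false
universe u
open Pi1

namespace Groth.Agent.S0280

open MvPolynomial

theorem isIntegral_of_range {k A C : Type*} [CommRing k] [CommRing A] [CommRing C] [Algebra k A] [Algebra k C]
    (φ : A →ₐ[k] C) {y : C} (h : IsIntegral φ.range y) : letI := φ.toRingHom.toAlgebra; IsIntegral A y := by
  letI := φ.toRingHom.toAlgebra
  letI : Algebra A φ.range := φ.rangeRestrict.toRingHom.toAlgebra
  haveI : IsScalarTower A φ.range C := IsScalarTower.of_algebraMap_eq fun _ => rfl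
  haveI : Algebra.IsIntegral A φ.range :=
    ⟨fun x => by obtain ⟨a, rfl⟩ := φ.rangeRestrict_surjective x; exact isIntegral_algebraMap⟩
  exact isIntegral_trans y h

theorem finite_etale_of_subsingleton (k : Type u) [Field k] (n : ℕ) (C : Type u) [CommRing C]
    [Algebra k C] [Subsingleton C] :
    ∃ φ : MvPolynomial (Fin n) k →ₐ[k] C, φ.toRingHom.Finite ∧ φ.toRingHom.Etale := by
  let φ : MvPolynomial (Fin n) k →ₐ[k] C := aeval fun _ => 0
  letI := φ.toRingHom.toAlgebra
  refine ⟨φ, ?_, ?_⟩
  · show Module.Finite _ _
    exact ⟨⟨∅, Subsingleton.elim _ _⟩⟩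
  · show Algebra.Etale _ _
    haveI : Algebra.FinitePresentation (MvPolynomial (Fin n) k) C :=
      Algebra.FinitePresentation.of_surjective (f := Algebra.ofId _ C) (Function.surjective_to_subsingleton _)
        ⟨{1}, by
          rw [Finset.coe_singleton, Ideal.span_singleton_one, eq_comm, eq_top_iff]
          intro x _
          exact Subsingleton.elim _ _⟩
    refine ⟨?_, inferInstance⟩
    rw [Algebra.FormallyEtale.iff_comp_bijective]
    intro T _ _ I hI
    refine ⟨fun a b _ => AlgHom.ext fun x => by rw [Subsingleton.elim x 0, map_zero, map_zero], fun g => ?_⟩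
    have h1 : (1 : T ⧸ I) = 0 := by
      rw [← map_one g, Subsingleton.elim (1 : C) 0, map_zero]
    rw [← map_one (Ideal.Quotient.mk I), Ideal.Quotient.eq_zero_iff_mem] at h1
    have h2 : (1 : T) = 0 := by
      have := Ideal.mul_mem_mul h1 h1
      rwa [← pow_two I, hI, Ideal.mem_bot, mul_one] at this
    haveI : Subsingleton T := subsingleton_of_zero_eq_one h2.symm
    exact ⟨⟨⟨⟨⟨fun _ => 0, Subsingleton.elim _ _⟩, fun _ _ => Subsingleton.elim _ _⟩, Subsingleton.elim _ _,
      fun _ _ => Subsingleton.elim _ _⟩, fun _ => Subsingleton.elim _ _⟩, AlgHom.ext fun x => by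
        rw [Subsingleton.elim x 0, map_zero, map_zero]⟩

/-- `n + 1` elements of an algebra etale over a polynomial ring in `n` variables satisfy a relation. -/
theorem exists_relation (k : Type u) [Field k] (n : ℕ) (C : Type u) [CommRing C] [Nontrivial C]
    [Algebra (MvPolynomial (Fin n) k) C] [Algebra k C] [IsScalarTower k (MvPolynomial (Fin n) k) C]
    [Algebra.Etale (MvPolynomial (Fin n) k) C] (z : Fin (n + 1) → C) :
    ∃ F : MvPolynomial (Fin (n + 1)) k, F ≠ 0 ∧ aeval z F = 0 := by
  by_contra hno
  push Not at hno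
  have hinj : Function.Injective (aeval (R := k) z) :=
    (injective_iff_map_eq_zero _).mpr fun F hF => by_contra fun h => hno F h hF
  obtain ⟨q, hq, hqc⟩ := Ideal.exists_comap_eq_of_mem_minimalPrimes_of_injective
    (f := (aeval (R := k) z).toRingHom) hinj ⊥ (by rw [IsDomain.minimalPrimes_eq_singleton_bot]; rfl)
  let P := MvPolynomial (Fin n) k
  let p := q.under P
  haveI : Algebra.EssFiniteType P C := inferInstance
  letI := Localization.AtPrime.algebraOfLiesOver p q
  haveI : Algebra.IsUnramifiedAt P q :=
    Algebra.FormallyUnramified.comp P C (Localization.AtPrime q)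
  haveI : Module.Finite p.ResidueField q.ResidueField := inferInstance
  haveI : Algebra.IsAlgebraic p.ResidueField q.ResidueField := inferInstance
  let w : Fin n → q.ResidueField := fun i => algebraMap C q.ResidueField (algebraMap P C (X i))
  let S := Algebra.adjoin k (Set.range w)
  let F := IntermediateField.adjoin k (Set.range w)
  have hP : ∀ a : P, algebraMap C q.ResidueField (algebraMap P C a) ∈ S := by
    intro a
    induction a using MvPolynomial.induction_on with
    | C r =>
      rw [show algebraMap P C (MvPolynomial.C r) = algebraMap k C r from (IsScalarTower.algebraMap_apply k P C r).symm,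
        ← IsScalarTower.algebraMap_apply k C q.ResidueField]
      exact S.algebraMap_mem r
    | add a b ha hb => rw [map_add, map_add]; exact S.add_mem ha hb
    | mul_X a i ha => rw [map_mul, map_mul]; exact S.mul_mem ha (Algebra.subset_adjoin ⟨i, rfl⟩)
  have hF : ∀ x : p.ResidueField, algebraMap p.ResidueField q.ResidueField x ∈ F := by
    intro x
    obtain ⟨a, b, -, rfl⟩ := IsFractionRing.div_surjective (P ⧸ p) x
    obtain ⟨a, rfl⟩ := Ideal.Quotient.mk_surjective a
    obtain ⟨b, rfl⟩ := Ideal.Quotient.mk_surjective b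
    have : ∀ a : P, algebraMap p.ResidueField q.ResidueField (algebraMap (P ⧸ p) p.ResidueField (Ideal.Quotient.mk p a)) =
        algebraMap C q.ResidueField (algebraMap P C a) := fun a => by
      rw [show algebraMap (P ⧸ p) p.ResidueField (Ideal.Quotient.mk p a) = algebraMap P p.ResidueField a from
        (IsScalarTower.algebraMap_apply P (P ⧸ p) p.ResidueField a).symm,
        ← IsScalarTower.algebraMap_apply P p.ResidueField q.ResidueField,
        IsScalarTower.algebraMap_apply P C q.ResidueField]
    rw [map_div₀, this, this]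
    exact F.div_mem (IntermediateField.algebra_adjoin_le_adjoin _ _ (hP a))
      (IntermediateField.algebra_adjoin_le_adjoin _ _ (hP b))
  letI : Algebra p.ResidueField F := ((algebraMap p.ResidueField q.ResidueField).codRestrict F.toSubalgebra hF).toAlgebra
  haveI : IsScalarTower p.ResidueField F q.ResidueField := IsScalarTower.of_algebraMap_eq fun _ => rfl
  haveI : Algebra.IsAlgebraic F q.ResidueField := Algebra.IsAlgebraic.tower_top (K := p.ResidueField) F
  haveI : Algebra.IsAlgebraic S q.ResidueField := by
    open IntermediateField.algebraAdjoinAdjoin in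
    exact (IsFractionRing.comap_isAlgebraic_iff (A := S) (K := F) (C := q.ResidueField)).mpr inferInstance
  have hind : AlgebraicIndependent k fun i => algebraMap C q.ResidueField (z i) := by
    refine (injective_iff_map_eq_zero (aeval (R := k) fun i => algebraMap C q.ResidueField (z i))).mpr fun G hG => ?_
    rw [show (fun i => algebraMap C q.ResidueField (z i)) = fun i => IsScalarTower.toAlgHom k C q.ResidueField (z i) from rfl,
      ← comp_aeval_apply (B := q.ResidueField) z (IsScalarTower.toAlgHom k C q.ResidueField)] at hG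
    have : aeval z G ∈ q := Ideal.algebraMap_residueField_eq_zero.mp hG
    exact (hqc.le this : G ∈ (⊥ : Ideal _))
  have h1 := hind.lift_cardinalMk_le_trdeg.trans (Cardinal.lift_le.mpr (Algebra.IsAlgebraic.trdeg_le_cardinalMk k (Set.range w)))
  have h2 : Cardinal.mk (Set.range w) ≤ (n : Cardinal) := by
    refine le_trans (Cardinal.mk_range_le_lift (f := w) |> fun h => ?_) le_rfl
    simpa using h
  simp only [Cardinal.mk_fintype, Fintype.card_fin, Cardinal.lift_natCast] at h1
  have h3 := h1.trans (Cardinal.lift_le.mpr h2)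
  simp only [Cardinal.lift_natCast, Nat.cast_le] at h3
  omega

/-- Weighted leading form makes the relation monic in the last variable. -/
theorem exists_monic_substitution (k : Type u) [Field k] (p n : ℕ) (hp : 0 < p)
    (F : MvPolynomial (Fin (n + 1)) k) (hF : F ≠ 0) :
    ∃ e : Fin n → ℕ, ∃ G : Polynomial (MvPolynomial (Fin n) k), G.Monic ∧
      ∀ {C : Type u} [CommRing C] [Algebra k C] (v : Fin n → C) (y : C),
        aeval (Fin.cases y v) F = 0 →
          Polynomial.eval₂ (aeval (R := k) fun i => v i - y ^ (p * e i)).toRingHom y G = 0 := by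
  classical
  let N := F.totalDegree + 1
  let e : Fin n → ℕ := fun i => N * N ^ (i : ℕ) + N * N ^ (i : ℕ) * 0
  let wt : (Fin (n + 1) →₀ ℕ) → ℕ := fun a => a 0 + ∑ i : Fin n, p * e i * a i.succ
  have hlt : ∀ a ∈ F.support, ∀ j, a j < N := fun a ha j =>
    Nat.lt_succ_of_le ((monomial_le_degreeOf j ha).trans (degreeOf_le_totalDegree F j))
  have hwt : Set.InjOn wt F.support := by
    intro a ha b hb h
    simp only [wt, e, mul_zero, add_zero] at h
    have hh : ∀ c : Fin (n + 1) →₀ ℕ, c 0 + ∑ i : Fin n, p * (N * N ^ (i : ℕ)) * c i.succ =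
        c 0 + N * (p * ∑ i : Fin n, N ^ (i : ℕ) * c i.succ) := fun c => by
      rw [Finset.mul_sum, Finset.mul_sum]
      congr 1
      exact Finset.sum_congr rfl fun i _ => by ring
    rw [hh, hh] at h
    have h0 : a 0 = b 0 := by
      have := congrArg (· % N) h
      simpa [Nat.add_mul_mod_self_left, Nat.mod_eq_of_lt (hlt a ha 0), Nat.mod_eq_of_lt (hlt b hb 0)] using this
    have h' : ∑ i : Fin n, N ^ (i : ℕ) * a i.succ = ∑ i : Fin n, N ^ (i : ℕ) * b i.succ := by
      rw [h0] at h
      exact Nat.eq_of_mul_eq_mul_left hp (Nat.eq_of_mul_eq_mul_left (Nat.succ_pos _) (Nat.add_left_cancel h))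
    have := injective_digits N (fun i => ⟨hlt a ha i.succ, hlt b hb i.succ⟩) h'
    ext j
    refine Fin.cases h0 (fun i => ?_) j
    exact this i
  let sub : Fin (n + 1) → Polynomial (MvPolynomial (Fin n) k) :=
    Fin.cases Polynomial.X fun i => Polynomial.C (MvPolynomial.X i) + Polynomial.X ^ (p * e i)
  let G₀ := aeval sub F
  have hmon : ∀ a : Fin (n + 1) →₀ ℕ, (∏ j, sub j ^ a j).Monic ∧ (∏ j, sub j ^ a j).natDegree = wt a := by
    intro a
    have hj : ∀ i : Fin n, (sub i.succ).Monic ∧ (sub i.succ).natDegree = p * e i := fun i => by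
      have : 0 < p * e i := Nat.mul_pos hp (by positivity)
      refine ⟨?_, ?_⟩
      · simp only [sub, Fin.cases_succ, add_comm (Polynomial.C _)]
        exact Polynomial.monic_X_pow_add_C _ this.ne'
      · simp only [sub, Fin.cases_succ, add_comm (Polynomial.C _)]
        exact Polynomial.natDegree_X_pow_add_C
    have hall : ∀ j, (sub j ^ a j).Monic := fun j => by
      refine Fin.cases ?_ (fun i => (hj i).1.pow _) j
      exact Polynomial.monic_X.pow _
    refine ⟨Polynomial.monic_prod_of_monic _ _ fun j _ => hall j, ?_⟩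
    rw [Polynomial.natDegree_prod_of_monic _ _ fun j _ => hall j, Fin.sum_univ_succ]
    simp only [wt]
    congr 1
    · simp [sub]
    · exact Finset.sum_congr rfl fun i _ => by rw [(hj i).1.natDegree_pow, (hj i).2, mul_comm]
  obtain ⟨a₀, ha₀, hmax⟩ := Finset.exists_max_image F.support wt (support_nonempty.mpr hF)
  have hG₀ : G₀ = ∑ a ∈ F.support, Polynomial.C (MvPolynomial.C (coeff a F)) * ∏ j, sub j ^ a j := by
    show aeval sub F = _
    conv_lhs => rw [F.as_sum, map_sum]
    refine Finset.sum_congr rfl fun a _ => ?_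
    rw [aeval_monomial, Finsupp.prod_fintype _ _ fun i => pow_zero _]
    rfl
  have hdeg : ∀ a : Fin (n + 1) →₀ ℕ, ∀ r : MvPolynomial (Fin n) k,
      (Polynomial.C r * ∏ j, sub j ^ a j).natDegree ≤ wt a := fun a r =>
    (Polynomial.natDegree_C_mul_le _ _).trans (hmon a).2.le
  have hcoeff : G₀.coeff (wt a₀) = MvPolynomial.C (coeff a₀ F) := by
    rw [hG₀, Polynomial.finset_sum_coeff, Finset.sum_eq_single a₀]
    · rw [Polynomial.coeff_C_mul, ← (hmon a₀).2, (hmon a₀).1.coeff_natDegree, mul_one]
    · intro a ha hne
      refine Polynomial.coeff_eq_zero_of_natDegree_lt ((hdeg a _).trans_lt ?_)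
      exact lt_of_le_of_ne (hmax a ha) fun h => hne (hwt ha ha₀ h)
    · exact fun h => absurd ha₀ h
  have hle : G₀.natDegree ≤ wt a₀ := by
    rw [hG₀]
    exact Polynomial.natDegree_sum_le_of_forall_le _ _ fun a ha => (hdeg a _).trans (hmax a ha)
  refine ⟨e, Polynomial.C (MvPolynomial.C (coeff a₀ F)⁻¹) * G₀, ?_, ?_⟩
  · refine Polynomial.monic_of_natDegree_le_of_coeff_eq_one (wt a₀)
      ((Polynomial.natDegree_C_mul_le _ _).trans hle) ?_
    rw [Polynomial.coeff_C_mul, hcoeff, ← MvPolynomial.C_mul,
      inv_mul_cancel₀ (mem_support_iff.mp ha₀), MvPolynomial.C_1]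
  · intro C _ _ v y hy
    rw [Polynomial.eval₂_mul]
    refine mul_eq_zero_of_right _ ?_
    let E : Polynomial (MvPolynomial (Fin n) k) →ₐ[k] C :=
      { (Polynomial.eval₂RingHom (aeval (R := k) fun i => v i - y ^ (p * e i)).toRingHom y) with
        commutes' := fun r => by simp [Polynomial.algebraMap_apply, MvPolynomial.algebraMap_eq] }
    show E G₀ = 0
    rw [← hy]
    show E (aeval sub F) = _
    rw [comp_aeval_apply]
    congr 2
    refine _root_.funext fun j => ?_
    refine Fin.cases ?_ (fun i => ?_) j
    · simp [E, sub]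
    · simp [E, sub]
where
  injective_digits {n : ℕ} (N : ℕ) {a b : Fin n → ℕ} (h : ∀ i, a i < N ∧ b i < N)
      (he : ∑ i : Fin n, N ^ (i : ℕ) * a i = ∑ i : Fin n, N ^ (i : ℕ) * b i) : ∀ i, a i = b i := by
    induction n with
    | zero => exact fun i => i.elim0
    | succ n ih =>
      have hs : ∀ c : Fin (n + 1) → ℕ, ∑ i : Fin (n + 1), N ^ (i : ℕ) * c i =
          c 0 + N * ∑ i : Fin n, N ^ (i : ℕ) * c i.succ := fun c => by
        rw [Fin.sum_univ_succ, Finset.mul_sum]
        simp [pow_succ', mul_assoc]
      rw [hs, hs] at he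
      have h0 : a 0 = b 0 := by
        have := congrArg (· % N) he
        simpa [Nat.add_mul_mod_self_left, Nat.mod_eq_of_lt (h 0).1, Nat.mod_eq_of_lt (h 0).2] using this
      rw [h0] at he
      have := ih (a := fun i => a i.succ) (b := fun i => b i.succ) (fun i => h i.succ)
        (Nat.eq_of_mul_eq_mul_left (lt_of_le_of_lt (Nat.zero_le _) (h 0).1) (Nat.add_left_cancel he))
      exact fun i => Fin.cases h0 this i

/-- Adding `p`-th powers to `u` makes finitely many elements integral. -/
theorem exists_normalization (k : Type u) [Field k] (p : ℕ) [Fact p.Prime] {n : ℕ} {C : Type u} [CommRing C]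
    [Algebra k C] [CharP C p] (u : Fin n → C)
    (hrel : ∀ z : Fin (n + 1) → C, ∃ F : MvPolynomial (Fin (n + 1)) k, F ≠ 0 ∧ aeval z F = 0) (s : Finset C) :
    ∃ c : Fin n → C, ∀ y ∈ s, IsIntegral (Algebra.adjoin k (Set.range fun i => u i + c i ^ p)) y := by
  classical
  induction s using Finset.induction with
  | empty => exact ⟨0, fun y hy => absurd hy (Finset.notMem_empty y)⟩
  | @insert y s _ ih =>
    obtain ⟨c, hc⟩ := ih
    let v : Fin n → C := fun i => u i + c i ^ p
    obtain ⟨F, hF, hF0⟩ := hrel (Fin.cases y v)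
    obtain ⟨e, G, hG, hGy⟩ := exists_monic_substitution k p n (Fact.out : p.Prime).pos F hF
    refine ⟨fun i => c i - y ^ e i, ?_⟩
    have heq : (fun i => u i + (c i - y ^ e i) ^ p) = fun i => v i - y ^ (p * e i) := by
      refine _root_.funext fun i => ?_
      simp only [v]
      rw [sub_pow_char, ← pow_mul, mul_comm (e i)]
      ring
    rw [heq]
    let v' : Fin n → C := fun i => v i - y ^ (p * e i)
    let B := Algebra.adjoin k (Set.range v')
    have hr : ∀ g : MvPolynomial (Fin n) k, aeval v' g ∈ B := fun g => by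
      show aeval v' g ∈ Algebra.adjoin k (Set.range v')
      rw [Algebra.adjoin_range_eq_range_aeval]; exact ⟨g, rfl⟩
    have hy : IsIntegral B y := by
      refine ⟨G.map ((aeval (R := k) v').codRestrict B hr).toRingHom, hG.map _, ?_⟩
      rw [Polynomial.eval₂_map]
      exact hGy v y hF0
    intro z hz
    rcases Finset.mem_insert.mp hz with rfl | hz
    · exact hy
    · let D : Subalgebra B C := integralClosure B C
      have hle : Algebra.adjoin k (Set.range v) ≤ D.restrictScalars k := by
        rw [Algebra.adjoin_le_iff]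
        rintro _ ⟨i, rfl⟩
        have : v i = v' i + y ^ (p * e i) := by simp [v']
        rw [this]
        exact IsIntegral.add (isIntegral_algebraMap (x := (⟨v' i, Algebra.subset_adjoin ⟨i, rfl⟩⟩ : B)))
          (hy.pow _)
      letI : Algebra (Algebra.adjoin k (Set.range v)) D :=
        ((Subalgebra.val _).toRingHom.codRestrict D fun x => hle x.2).toAlgebra
      haveI : IsScalarTower (Algebra.adjoin k (Set.range v)) D C := IsScalarTower.of_algebraMap_eq fun _ => rfl
      exact isIntegral_trans (A := D) z ((hc z hz).tower_top)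

/-- Perturbing the coordinates by `p`-th powers preserves being etale. -/
theorem etale_of_perturb (k : Type u) [Field k] (p : ℕ)
    [Fact p.Prime] [CharP k p] (n : ℕ) (C : Type u) [CommRing C]
    [Algebra (MvPolynomial (Fin n) k) C] [Algebra k C] [IsScalarTower k (MvPolynomial (Fin n) k) C]
    [Algebra.Etale (MvPolynomial (Fin n) k) C] (c : Fin n → C) (φ : MvPolynomial (Fin n) k →ₐ[k] C)
    (hφ : ∀ i, φ (X i) = algebraMap (MvPolynomial (Fin n) k) C (X i) + c i ^ p) : φ.toRingHom.Etale := by
  let P := MvPolynomial (Fin n) k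
  let ι : P →ₐ[k] C := IsScalarTower.toAlgHom k P C
  haveI : Algebra.FinitePresentation k C := Algebra.FinitePresentation.trans k P C
  have hlift : ∀ (T : Type u) [CommRing T] (I : Ideal T), I ^ 2 = ⊥ → ∀ (σ : P →+* T),
      (∀ f g : C →+* T, (∀ a, f (ι a) = σ a) → (∀ a, g (ι a) = σ a) → (∀ x, f x - g x ∈ I) → f = g) ∧
      ∀ g : C →+* T ⧸ I, (∀ a, g (ι a) = Ideal.Quotient.mk I (σ a)) →
        ∃ f : C →+* T, (∀ a, f (ι a) = σ a) ∧ ∀ x, Ideal.Quotient.mk I (f x) = g x := by
    intro T _ I hI σ
    letI := σ.toAlgebra
    refine ⟨fun f g hf hg h => ?_, fun g hg => ?_⟩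
    · have := (Algebra.FormallyEtale.comp_bijective P C I hI).1
        (a₁ := { f with commutes' := hf }) (a₂ := { g with commutes' := hg })
        (AlgHom.ext fun x => Ideal.Quotient.eq.mpr (h x))
      exact RingHom.ext fun x => DFunLike.congr_fun this x
    · obtain ⟨f, hf⟩ := (Algebra.FormallyEtale.comp_bijective P C I hI).2 { g with commutes' := hg }
      exact ⟨f.toRingHom, f.commutes, fun x => DFunLike.congr_fun hf x⟩
  letI instNew : Algebra P C := φ.toRingHom.toAlgebra
  haveI : IsScalarTower k P C := IsScalarTower.of_algebraMap_eq fun r => (φ.commutes r).symm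
  show Algebra.Etale P C
  refine ⟨?_, Algebra.FinitePresentation.of_restrict_scalars_finitePresentation k P C⟩
  rw [Algebra.FormallyEtale.iff_comp_bijective]
  intro T _ instPT I hI
  have hpT : (p : T) = 0 := by
    rw [← map_natCast ((algebraMap P T).comp MvPolynomial.C), CharP.cast_eq_zero k p, map_zero]
  have hp2 : ∀ x x' : T, x - x' ∈ I → x ^ p = x' ^ p := by
    intro x x' h
    rcases subsingleton_or_nontrivial T with hT | hT
    · exact Subsingleton.elim _ _
    haveI : CharP T p := (CharP.charP_iff_prime_eq_zero Fact.out).mpr hpT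
    have h2 : (x - x') ^ p = 0 := by
      obtain ⟨m, hm⟩ := Nat.exists_eq_add_of_le' (Fact.out : p.Prime).two_le
      have := Ideal.mul_mem_mul h h
      rw [← pow_two I, hI, Ideal.mem_bot] at this
      rw [hm, pow_add, pow_two, this, mul_zero]
    rwa [sub_pow_char, sub_eq_zero] at h2
  letI algkT : Algebra k T := ((algebraMap P T).comp MvPolynomial.C).toAlgebra
  -- structure maps as `k`-algebra maps
  have key : ∀ (f : C →+* T), (∀ r, f (algebraMap k C r) = algebraMap k T r) →
      (∀ i, f (ι (X i)) + (f (c i)) ^ p = algebraMap P T (X i)) → ∀ a : P, f (φ a) = algebraMap P T a := by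
    intro f hk hX a
    induction a using MvPolynomial.induction_on with
    | C r => rw [show φ (MvPolynomial.C r) = algebraMap k C r from φ.commutes r, hk]; rfl
    | add a b ha hb => rw [map_add, map_add, ha, hb, map_add]
    | mul_X a i ha =>
      rw [map_mul, map_mul, map_mul, ha]
      congr 1
      rw [hφ, map_add, map_pow]
      exact hX i
  have keyι : ∀ (f : C →+* T) (s : Fin n → T), (∀ r, f (algebraMap k C r) = algebraMap k T r) →
      (∀ i, f (ι (X i)) = s i) → ∀ a : P, f (ι a) = aeval s a := by
    intro f s hk hX a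
    induction a using MvPolynomial.induction_on with
    | C r => rw [show ι (MvPolynomial.C r) = algebraMap k C r from ι.commutes r, hk, aeval_C]
    | add a b ha hb => rw [map_add, map_add, ha, hb, map_add]
    | mul_X a i ha => rw [map_mul, map_mul, map_mul, ha, hX, aeval_X]
  have hkφ : ∀ (f : C →ₐ[P] T) (r : k), f (algebraMap k C r) = algebraMap k T r := fun f r => by
    rw [← φ.commutes r]; exact f.commutes _
  constructor
  · intro f g hfg
    have hd : ∀ a, f a - g a ∈ I := fun a => Ideal.Quotient.eq.mp (DFunLike.congr_fun hfg a)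
    let s : Fin n → T := fun i => f (ι (X i))
    have hg : ∀ i, g (ι (X i)) = s i := fun i => by
      have h1 : ∀ q : C →ₐ[P] T, q (ι (X i)) = algebraMap P T (X i) - (q (c i)) ^ p := fun q => by
        rw [← q.commutes (X i)]
        show _ = q (φ (X i)) - _
        rw [hφ, map_add, map_pow, add_sub_cancel_right]
        rfl
      rw [show s i = f (ι (X i)) from rfl, h1, h1, hp2 _ _ (hd (c i))]
    have h := (hlift T I hI (aeval (R := k) s).toRingHom).1 f.toRingHom g.toRingHom
      (keyι f.toRingHom s (hkφ f) fun _ => rfl) (keyι g.toRingHom s (hkφ g) hg) hd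
    exact AlgHom.ext fun a => RingHom.congr_fun h a
  · intro g
    have hkg : ∀ r, g (algebraMap k C r) = Ideal.Quotient.mk I (algebraMap k T r) := fun r => by
      rw [← φ.commutes r]; exact g.commutes _
    choose l hl using fun i => Ideal.Quotient.mk_surjective (g (c i))
    let s : Fin n → T := fun i => algebraMap P T (X i) - l i ^ p
    have hgs : ∀ i, g (ι (X i)) = Ideal.Quotient.mk I (s i) := fun i => by
      have h1 : g (φ (X i)) = Ideal.Quotient.mk I (algebraMap P T (X i)) := g.commutes (X i)
      rw [hφ, map_add, map_pow] at h1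
      simp only [s, map_sub, map_pow, hl, ← h1, add_sub_cancel_right]
      rfl
    have hgι : ∀ a : P, g (ι a) = Ideal.Quotient.mk I (aeval s a) := by
      intro a
      induction a using MvPolynomial.induction_on with
      | C r => rw [show ι (MvPolynomial.C r) = algebraMap k C r from ι.commutes r, hkg, aeval_C]
      | add a b ha hb => rw [map_add, map_add, ha, hb, map_add, map_add]
      | mul_X a i ha => rw [map_mul, map_mul, ha, hgs, map_mul, map_mul, aeval_X]
    obtain ⟨f, hf⟩ := (hlift T I hI (aeval (R := k) s).toRingHom).2 g.toRingHom hgι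
    have hkf : ∀ r, f (algebraMap k C r) = algebraMap k T r := fun r => by
      rw [← ι.commutes r, show algebraMap k P r = MvPolynomial.C r from rfl, hf.1]
      exact aeval_C s r
    refine ⟨{ f with commutes' := key f hkf fun i => ?_ }, AlgHom.ext fun x => hf.2 x⟩
    rw [hf.1, show (aeval (R := k) s).toRingHom (X i) = s i from aeval_X s i, hp2 (f (c i)) (l i) (Ideal.Quotient.eq.mp ((hf.2 _).trans (hl i).symm))]
    simp [s]

/-- Let k be a field of characteristic p > 0 and C a k-algebra which is etale over the polynomial ring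
in n variables. Then there is a (possibly different) k-algebra map from that polynomial ring to C
which is finite etale. -/
theorem result (k : Type u) [Field k] (p : ℕ)
    [Fact p.Prime] [CharP k p] (n : ℕ) (C : Type u) [CommRing C]
    [Algebra (MvPolynomial (Fin n) k) C] [Algebra k C] [IsScalarTower k (MvPolynomial (Fin n) k) C]
    [Algebra.Etale (MvPolynomial (Fin n) k) C] :
    ∃ φ : MvPolynomial (Fin n) k →ₐ[k] C, φ.toRingHom.Finite ∧ φ.toRingHom.Etale := by
  rcases subsingleton_or_nontrivial C with hC | hC
  · exact finite_etale_of_subsingleton k n C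
  haveI : CharP C p := charP_of_injective_algebraMap (algebraMap k C).injective p
  let u : Fin n → C := fun i => algebraMap (MvPolynomial (Fin n) k) C (MvPolynomial.X i)
  haveI : Algebra.FiniteType (MvPolynomial (Fin n) k) C := inferInstance
  haveI : Algebra.FiniteType k C := Algebra.FiniteType.trans (S := MvPolynomial (Fin n) k) inferInstance inferInstance
  obtain ⟨s, hs⟩ := Algebra.FiniteType.out (R := k) (A := C)
  obtain ⟨c, hc⟩ := exists_normalization k p u (exists_relation k n C) s
  let φ : MvPolynomial (Fin n) k →ₐ[k] C := MvPolynomial.aeval fun i => u i + c i ^ p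
  refine ⟨φ, ?_, ?_⟩
  · apply RingHom.IsIntegral.to_finite
    · intro z
      have hrange : φ.range = Algebra.adjoin k (Set.range fun i => u i + c i ^ p) :=
        (Algebra.adjoin_range_eq_range_aeval k _).symm
      have hz : z ∈ Algebra.adjoin k (s : Set C) := hs ▸ Algebra.mem_top
      letI := φ.toRingHom.toAlgebra
      show IsIntegral (MvPolynomial (Fin n) k) z
      have hint : ∀ y ∈ s, IsIntegral (MvPolynomial (Fin n) k) y := fun y hy => by
        have h := hc y hy
        rw [← hrange] at h
        exact isIntegral_of_range φ h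
      refine Algebra.adjoin_induction (p := fun y _ => IsIntegral (MvPolynomial (Fin n) k) y) (fun y hy => hint y hy) (fun r => ?_) (fun _ _ _ _ => IsIntegral.add)
        (fun _ _ _ _ => IsIntegral.mul) hz
      have : algebraMap k C r = φ.toRingHom (algebraMap k _ r) := (φ.commutes r).symm
      rw [this]
      exact isIntegral_algebraMap
    · exact RingHom.FiniteType.of_comp_finiteType (f := algebraMap k (MvPolynomial (Fin n) k))
        (by rw [show φ.toRingHom.comp (algebraMap k (MvPolynomial (Fin n) k)) = algebraMap k C from φ.comp_algebraMap]; exact (RingHom.finiteType_algebraMap).mpr inferInstance)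
  · exact etale_of_perturb k p n C c φ fun i => MvPolynomial.aeval_X _ i

end Groth.Agent.S0280
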