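import Groth.Statements.S0286
import Groth.Agent.H18Et.TopInvLocal
import Groth.Agent.H18Et.TopInvFEt

set_option autoImplicit false
universe u
open Pi1

namespace Groth.Agent.S0286

open AlgebraicGeometry CategoryTheory CategoryTheory.Limits in
/-- For a scheme X over a field k of characteristic p (p a prime), pulling back finite étale covers
along the projection X ×_{Spec k} Spec(k^perf) → X, where k^perf is the perfect closure of k, is an
equivalence of categories. -/
theorem result (k : Type u) [Field k] (p : ℕ) [Fact p.Prime] [CharP k p] {X : Scheme.{u}}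
    (f : X ⟶ Spec (CommRingCat.of k)) :
    (FEt.restrict (pullback.fst f
      (Spec.map (CommRingCat.ofHom (PerfectClosure.of k p))))).IsEquivalence := by
  let φ := PerfectClosure.of k p
  let i : Spec (CommRingCat.of (PerfectClosure k p)) ⟶ Spec (CommRingCat.of k) :=
    Spec.map (CommRingCat.ofHom φ)
  have hpow : ∀ x : PerfectClosure k p, ∃ (n : ℕ) (a : k), φ a = x ^ p ^ n := fun x =>
    PerfectClosure.induction_on x fun ⟨n, a⟩ => ⟨n, a, by
      rw [← iterate_frobenius, PerfectClosure.iterate_frobenius_mk]⟩
  haveI : IsIntegralHom i := by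
    refine IsIntegralHom.SpecMap_iff.mpr fun x => ?_
    obtain ⟨n, a, ha⟩ := hpow x
    exact ⟨Polynomial.X ^ p ^ n - Polynomial.C a,
      Polynomial.monic_X_pow_sub_C a (pow_ne_zero _ (Fact.out : p.Prime).ne_zero), by
        simp only [Polynomial.eval₂_sub, Polynomial.eval₂_X_pow, Polynomial.eval₂_C, CommRingCat.hom_ofHom]
        exact sub_eq_zero.mpr ha.symm⟩
  haveI : Surjective i := ⟨fun y => ⟨⟨⊥, Ideal.isPrime_bot⟩, Subsingleton.elim _ _⟩⟩
  haveI : UniversallyInjective i := by
    refine (List.TFAE.out (tfae_universallyInjective i) 0 1 rfl rfl).mpr fun K _ g₁ g₂ e => ?_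
    obtain ⟨ψ₁, rfl⟩ := Spec.map_surjective g₁
    obtain ⟨ψ₂, rfl⟩ := Spec.map_surjective g₂
    have e' : CommRingCat.ofHom φ ≫ ψ₁ = CommRingCat.ofHom φ ≫ ψ₂ :=
      Spec.map_injective (by rw [Spec.map_comp, Spec.map_comp]; exact e)
    haveI : CharP K p := charP_of_injective_ringHom (ψ₁.hom.comp φ).injective p
    refine congrArg Spec.map (CommRingCat.hom_ext (RingHom.ext fun x => ?_))
    obtain ⟨n, a, ha⟩ := hpow x
    refine (iterateFrobenius K p n).injective ?_
    simp only [iterateFrobenius_def, ← map_pow, ← ha]
    exact congrArg (fun h => h.hom a) e'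
  haveI : IsIntegralHom (pullback.fst f i) := inferInstance
  haveI : UniversallyInjective (pullback.fst f i) := MorphismProperty.of_isPullback
    (P := @UniversallyInjective) (IsPullback.of_hasPullback f i).flip ‹_›
  haveI : Surjective (pullback.fst f i) := MorphismProperty.of_isPullback
    (P := @Surjective) (IsPullback.of_hasPullback f i).flip ‹_›
  exact Groth.Agent.H18Et.TopInv.fet_restrict_isEquivalence (pullback.fst f i)
    (Groth.Agent.H18Et.TopInvLocal.bc_isEquivalence (pullback.fst f i))

end Groth.Agent.S0286
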