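import Groth.Statements.S0287
import Groth.Agent.H18Et.FEtExtend
import Groth.Agent.H18Et.FEtGlueAffine
import Groth.Agent.H18Et.FEtNormalOutside
import Groth.Agent.S0247
import Groth.Agent.H05EGA4.Regular

set_option autoImplicit false
set_option backward.isDefEq.respectTransparency false
set_option backward.defeqAttrib.useBackward true
universe u
open Pi1
open Groth.Agent.H18Et

namespace Groth.Agent.S0287

open AlgebraicGeometry CategoryTheory CategoryTheory.Limits in
/-- Let X be locally Noetherian, U a dense open, Y a finite etale cover of U such that the local rings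
of X at points outside U are regular and, at each such point of dimension one, the restriction of Y
to the punctured local scheme extends over the local scheme (Y is unramified over X in codimension
1). Then Y extends to a finite etale cover of X. -/
theorem result {X : Scheme.{u}} [IsLocallyNoetherian X] (U : X.Opens) (hU : Dense (U : Set X))
    (Y : FEt.Cat (U : Scheme.{u}))
    (hreg : ∀ x : X, x ∉ U → IsRegularLocalRing (X.presheaf.stalk x))
    (hunr : ∀ ξ : X, ξ ∉ U → ringKrullDim (X.presheaf.stalk ξ) = 1 →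
      ∃ Yξ : FEt.Cat (Spec (X.presheaf.stalk ξ)),
        Nonempty ((FEt.restrict (pullback.snd U.ι (X.fromSpecStalk ξ))).obj Yξ ≅
          (FEt.restrict (pullback.fst U.ι (X.fromSpecStalk ξ))).obj Y)) :
    ∃ Y' : FEt.Cat X, Nonempty ((FEt.restrict U.ι).obj Y' ≅ Y) := by
  have hnor : ∀ (x : X), x ∉ U → IsDomain (X.presheaf.stalk x) ∧ IsIntegrallyClosed (X.presheaf.stalk x) := fun x hx => by
    haveI := hreg x hx
    exact ⟨Groth.Agent.H4Depth.isDomain_of_isRegularLocalRing _,
      Groth.Agent.H05EGA4.isIntegrallyClosed_of_isRegularLocalRing _⟩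
  refine Groth.Agent.H18Et.FEtGlueAffine.exists_extension (X := X) (Y := Y) (fun D hD => ?_) fun D hD => ?_
  · -- uniqueness
    have hrange : Set.range (X.homOfLE (inf_le_right : U ⊓ D ≤ D)) = D.ι ⁻¹' (U : Set X) := by
      ext z
      constructor
      · rintro ⟨w, rfl⟩
        show ((X.homOfLE _) w).1 ∈ U
        rw [X.homOfLE_apply]
        exact w.2.1
      · intro hz
        exact ⟨⟨z.1, hz, z.2⟩, Subtype.ext (X.homOfLE_apply _ _)⟩
    refine Groth.Agent.H18Et.FEtNormalOutside.full_faithful _ ?_ fun z hz => ?_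
    · rw [hrange]
      exact hU.preimage D.ι.isOpenEmbedding.isOpenMap
    · obtain ⟨h1, h2⟩ := hnor z.1 fun h => hz (hrange.ge h)
      haveI : IsDomain (X.presheaf.stalk (D.ι z)) := h1
      haveI : IsIntegrallyClosed (X.presheaf.stalk (D.ι z)) := h2
      exact ⟨(asIso (D.ι.stalkMap z)).symm.commRingCatIsoToRingEquiv.toMulEquiv.isDomain,
        IsIntegrallyClosed.of_equiv (asIso (D.ι.stalkMap z)).commRingCatIsoToRingEquiv⟩
  -- existence over an affine open
  haveI : IsAffine (D : Scheme.{u}) := hD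
  haveI : CompactSpace ↥(D : Scheme.{u}) := isCompact_iff_compactSpace.mp hD.isCompact
  haveI : IsNoetherian (D : Scheme.{u}) := {}
  let O : (D : Scheme.{u}).Opens := D.ι ⁻¹ᵁ U
  let a : (O : Scheme.{u}) ⟶ (U : Scheme.{u}) := D.ι ∣_ U
  have ha : a ≫ U.ι = O.ι ≫ D.ι := morphismRestrict_ι _ _
  obtain ⟨Z, ⟨eZ⟩⟩ := Groth.Agent.H18Et.FEtExtend.exists_extension O ((FEt.restrict a).obj Y)
    fun V hOV Z hZ x hx hmax => by
    obtain ⟨eOV⟩ := hZ
    have hxU : x.1 ∉ U := fun h => hx (hOV h)
    let σ : (X.presheaf.stalk x.1) ≅ (D : Scheme.{u}).presheaf.stalk x := asIso (D.ι.stalkMap x)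
    haveI := hreg x.1 hxU
    haveI : IsRegularLocalRing ((D : Scheme.{u}).presheaf.stalk x) :=
      IsRegularLocalRing.of_ringEquiv σ.commRingCatIsoToRingEquiv
    let R := (D : Scheme.{u}).presheaf.stalk x
    rcases le_or_gt (2 : WithBot ℕ∞) (ringKrullDim R) with h2 | h2
    · exact Groth.Agent.H18Et.FEtExtend.exists_local_of_purity V Z hx hmax (Groth.Agent.S0247.result R h2)
    -- dimension at most one
    haveI : IsDomain R := Groth.Agent.H4Depth.isDomain_of_isRegularLocalRing R
    let s := (D : Scheme.{u}).fromSpecStalk x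
    let bot : Spec R := (⟨⊥, Ideal.isPrime_bot⟩ : PrimeSpectrum R)
    let top : Spec R := IsLocalRing.closedPoint R
    have htop : s top ∉ O := by
      rw [Scheme.fromSpecStalk_closedPoint]
      exact hxU
    have hbot : s bot ∈ O := by
      obtain ⟨W₀, hxW₀, -, hint⟩ := Groth.Agent.H17.exists_isIntegral_nhd x (Or.inl inferInstance)
      haveI := hint
      have hd : Dense ((O : (D : Scheme.{u}).Opens) : Set (D : Scheme.{u})) := hU.preimage D.ι.isOpenEmbedding.isOpenMap
      obtain ⟨w, hwW, hwO⟩ := hd.inter_open_nonempty _ W₀.2 ⟨x, hxW₀⟩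
      let η := W₀.ι (genericPoint W₀.toScheme)
      have hη : ∀ y ∈ W₀, η ⤳ y := fun y hy =>
        (((genericPoint_spec W₀.toScheme).specializes (y := ⟨y, hy⟩) trivial).map W₀.ι.continuous : η ⤳ W₀.ι ⟨y, hy⟩)
      obtain ⟨p, hp⟩ : η ∈ Set.range s := by
        rw [(D : Scheme.{u}).range_fromSpecStalk]
        exact hη x hxW₀
      refine (((PrimeSpectrum.le_iff_specializes bot p).mp bot_le).map s.continuous).mem_open O.2 ?_
      rw [hp]
      exact (hη w hwW).mem_open O.2 hwO
    have hbt : bot ≠ top := fun h => htop (h ▸ hbot)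
    have hdim : ringKrullDim R = 1 := by
      obtain ⟨d, hd⟩ := Groth.Agent.H22Alg.exists_nat_ringKrullDim' R
      rw [hd] at h2 ⊢
      have : d < 2 := by exact_mod_cast h2
      rcases (show d = 0 ∨ d = 1 by omega) with rfl | rfl
      · exfalso
        apply hbt
        haveI : Ring.KrullDimLE 0 R := Ring.krullDimLE_iff.mpr (by rw [hd])
        exact PrimeSpectrum.ext (Ideal.IsMaximal.eq_of_le (Ideal.IsPrime.isMaximal' Ideal.isPrime_bot)
          (IsLocalRing.maximalIdeal.isMaximal R).ne_top bot_le)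
      · rfl
    have htwo : ∀ p : Spec R, p = bot ∨ p = top := fun p => by
      by_contra h
      push Not at h
      haveI : p.asIdeal.IsPrime := p.2
      haveI : (⊥ : Ideal R).IsPrime := Ideal.isPrime_bot
      have h1 : (⊥ : Ideal R) < p.asIdeal := bot_lt_iff_ne_bot.mpr fun e => h.1 (PrimeSpectrum.ext e)
      have h3 : p.asIdeal < IsLocalRing.maximalIdeal R := lt_of_le_of_ne
        (IsLocalRing.le_maximalIdeal p.2.ne_top) fun e => h.2 (PrimeSpectrum.ext e)
      have h4 := Ideal.height_strict_mono_of_isPrime h1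
      have h5 := Ideal.height_strict_mono_of_isPrime h3
      have h6 : (IsLocalRing.maximalIdeal R).height = 1 :=
        WithBot.coe_injective ((IsLocalRing.maximalIdeal_height_eq_ringKrullDim).trans hdim)
      rw [h6] at h5
      rw [ENat.lt_one_iff_eq_zero.mp h5] at h4
      exact not_lt_zero h4
    have hsx : Spec.map σ.hom ≫ X.fromSpecStalk x.1 = s ≫ D.ι :=
      Scheme.SpecMap_stalkMap_fromSpecStalk D.ι
    let θ : pullback O.ι s ⟶ pullback U.ι (X.fromSpecStalk x.1) :=
      pullback.lift (pullback.fst _ _ ≫ a) (pullback.snd _ _ ≫ Spec.map σ.hom) (by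
        rw [Category.assoc, ha, pullback.condition_assoc, Category.assoc, hsx])
    obtain ⟨Yξ, ⟨eξ⟩⟩ := hunr x.1 hxU ((ringKrullDim_eq_of_ringEquiv σ.commRingCatIsoToRingEquiv).trans hdim)
    let Zx := (FEt.restrict (Spec.map σ.hom)).obj Yξ
    let e₁ : (FEt.restrict (pullback.snd O.ι s)).obj Zx ≅
        (FEt.restrict (pullback.fst O.ι s)).obj ((FEt.restrict a).obj Y) :=
      FEtLimit.restrictCompIso _ _ (θ ≫ pullback.snd _ _) (pullback.lift_snd _ _ _).symm Yξ ≪≫
        (FEtLimit.restrictCompIso θ _ _ rfl Yξ).symm ≪≫ (FEt.restrict θ).mapIso eξ ≪≫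
        FEtLimit.restrictCompIso θ _ _ (pullback.lift_fst _ _ _) Y ≪≫ (FEtLimit.restrictCompIso _ _ _ rfl Y).symm
    have hpts : ∀ p : Spec R, s p ∈ V → s p ∈ O := fun p hp => by
      rcases htwo p with rfl | rfl
      · exact hbot
      · exact absurd hp (by
          show s (IsLocalRing.closedPoint R) ∉ V
          rw [Scheme.fromSpecStalk_closedPoint]
          exact hx)
    let τ : pullback V.ι s ⟶ (O : Scheme.{u}) := IsOpenImmersion.lift O.ι (pullback.fst V.ι s ≫ V.ι) (by
      rw [Scheme.Opens.range_ι]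
      rintro _ ⟨z, rfl⟩
      rw [pullback.condition]
      exact hpts _ (show s (pullback.snd V.ι s z) ∈ V by
        rw [← Scheme.Hom.comp_apply, ← pullback.condition]
        exact (pullback.fst V.ι s z).2))
    have hτ : τ ≫ O.ι = pullback.fst V.ι s ≫ V.ι := IsOpenImmersion.lift_fac _ _ _
    let μ : pullback V.ι s ⟶ pullback O.ι s :=
      pullback.lift τ (pullback.snd V.ι s) (by rw [hτ, pullback.condition])
    have hμ : μ ≫ pullback.fst O.ι s ≫ (D : Scheme.{u}).homOfLE hOV = pullback.fst V.ι s := by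
      rw [← cancel_mono V.ι, Category.assoc, Category.assoc, Scheme.homOfLE_ι, ← Category.assoc μ,
        pullback.lift_fst, hτ]
    refine ⟨Zx, ⟨(FEtLimit.restrictCompIso μ _ _ (pullback.lift_snd _ _ _) Zx).symm ≪≫
      (FEt.restrict μ).mapIso (e₁ ≪≫ (FEt.restrict _).mapIso eOV.symm ≪≫ FEtLimit.restrictCompIso _ _ _ rfl Z) ≪≫
      FEtLimit.restrictCompIso μ _ _ hμ Z⟩⟩
  -- from `O` to `U ⊓ D`
  let b : (U ⊓ D : X.Opens).toScheme ⟶ (O : Scheme.{u}) :=
    IsOpenImmersion.lift O.ι (X.homOfLE (inf_le_right : U ⊓ D ≤ D)) (by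
      rw [Scheme.Opens.range_ι]
      rintro _ ⟨w, rfl⟩
      show ((X.homOfLE _) w).1 ∈ U
      rw [X.homOfLE_apply]
      exact w.2.1)
  have hb : b ≫ O.ι = X.homOfLE (inf_le_right : U ⊓ D ≤ D) := IsOpenImmersion.lift_fac _ _ _
  have hba : b ≫ a = X.homOfLE (inf_le_left : U ⊓ D ≤ U) := by
    rw [← cancel_mono U.ι, Category.assoc, ha, reassoc_of% hb, X.homOfLE_ι, X.homOfLE_ι]
  exact ⟨Z, ⟨(FEtLimit.restrictCompIso b _ _ hb Z).symm ≪≫ (FEt.restrict b).mapIso eZ ≪≫
    FEtLimit.restrictCompIso b _ _ hba Y⟩⟩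

end Groth.Agent.S0287
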