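import Groth.Statements.S0331
import Groth.Agent.H4LC.LocallyFree
import Groth.Agent.H4DR.HT.Compare

set_option autoImplicit false
universe u v
open LocCoh

namespace Groth.Agent.S0331

/-- Over a Noetherian ring, if H^i_I(R) is finitely generated for i ≤ n, then so is H^i_I(M) for i ≤ n
for every finite module M that becomes finite projective after inverting any single element of I. -/
theorem result (R : Type u) [CommRing R] [IsNoetherianRing R] (I : Ideal R) (n : ℕ) (hR : ∀ i : ℕ, i ≤ n → Module.Finite R (LocCoh.H I i R)) (M : Type u) [AddCommGroup M] [Module R M] [Module.Finite R M] (hM : ∀ f ∈ I, Module.Projective (Localization.Away f) (LocalizedModule (Submonoid.powers f) M)) (i : ℕ) (hi : i ≤ n) : Module.Finite R (LocCoh.H I i M) := by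
  have hT := H4DR.HT.finite_iff_kill_module (PrimeSpectrum.zeroLocus (I : Set R)) R n
  obtain ⟨J, hJ, hk⟩ := hT.1 fun j hj => haveI := hR j hj; Module.Finite.equiv (H4DR.HT.lcEquivT I R j)
  obtain ⟨l, hl⟩ := H4DR.HT.exists_pow_le I hJ
  choose k hkk using fun j : ℕ => H4LC.exists_pow_kill I j M hM
  let c := (Finset.range (n + 1)).sup k
  haveI := (H4DR.HT.finite_iff_kill_module (PrimeSpectrum.zeroLocus (I : Set R)) M n).2
    ⟨I ^ (l + c), H4DR.HT.zeroLocus_pow I (l + c), fun j hj a ha y => by
      rw [pow_add] at ha
      refine Submodule.mul_induction_on ha (fun u hu v hv => ?_) fun u v hu hv => by rw [add_smul, hu, hv, add_zero]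
      refine (H4DR.HT.lcEquivT I M j).symm.injective ?_
      rw [map_smul, map_zero]
      refine hkk j u (fun x => (H4DR.HT.lcEquivT I R j).injective ?_) v
        (Ideal.pow_le_pow_right (Finset.le_sup (f := k) (Finset.mem_range.2 (by omega))) hv) _
      rw [map_smul, map_zero]
      exact hk j hj u (hl hu) _⟩ i hi
  exact Module.Finite.equiv (H4DR.HT.lcEquivT I M i).symm

end Groth.Agent.S0331
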