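import Groth.Statements.S0335
import Groth.Agent.H4Depth.Connected

set_option autoImplicit false
universe u v
open LocCoh

namespace Groth.Agent.S0335

/-- For the ring itself; Hartshorne's connectedness: if a Noetherian local ring has depth at least 2
then its punctured spectrum is connected. -/
theorem result (R : Type u) [CommRing R] [IsLocalRing R] [IsNoetherianRing R] (h : 2 ≤ LocCoh.depth R R) : IsConnected {x : PrimeSpectrum R | x.asIdeal ≠ IsLocalRing.maximalIdeal R} := by
  have hset : {x : PrimeSpectrum R | x.asIdeal ≠ IsLocalRing.maximalIdeal R} =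
      (PrimeSpectrum.zeroLocus (IsLocalRing.maximalIdeal R : Set R))ᶜ := Set.ext fun x => by
    simp only [Set.mem_setOf_eq, Set.mem_compl_iff, PrimeSpectrum.mem_zeroLocus, SetLike.coe_subset_coe]
    exact ⟨fun hx hle => hx (le_antisymm (IsLocalRing.le_maximalIdeal x.2.ne_top) hle), fun hx he => hx he.ge⟩
  refine ⟨?_, hset ▸ Groth.Agent.H4Depth.isPreconnected_compl_zeroLocus _
    Groth.Agent.H4Depth.idempotent_trivial_of_isLocalRing h⟩
  obtain ⟨x, hx, hreg, -⟩ := Groth.Agent.H4Depth.exists_regular_two (I := IsLocalRing.maximalIdeal R) h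
  obtain ⟨q, hq, -⟩ := Ideal.exists_minimalPrimes_le (bot_le : (⊥ : Ideal R) ≤ IsLocalRing.maximalIdeal R)
  refine ⟨⟨q, hq.1.1⟩, fun he => ?_⟩
  obtain ⟨k, hk⟩ : ∃ k, x ^ k = 0 := by
    have : x ∈ nilradical R := by
      rw [nilradical_eq_sInf]
      refine Ideal.mem_sInf.2 fun {p} hp => ?_
      exact (hq.2 ⟨hp, bot_le⟩ ((IsLocalRing.le_maximalIdeal hp.ne_top).trans he.ge)) (show x ∈ (⟨q, hq.1.1⟩ : PrimeSpectrum R).asIdeal by rw [he]; exact hx)
    exact this
  exact one_ne_zero ((hreg.pow k) (show x ^ k • (1 : R) = x ^ k • (0 : R) by simp [hk]))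

end Groth.Agent.S0335
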