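import Groth.Statements.S0336
import Groth.Agent.H4Frob.Kunz

set_option autoImplicit false
universe u v
open LocCoh

namespace Groth.Agent.S0336

/-- A Noetherian ring of prime characteristic p is regular exactly when its Frobenius endomorphism is
flat. -/
theorem result (p : ℕ) [Fact p.Prime] (R : Type u) [CommRing R] [IsNoetherianRing R] [CharP R p] : IsRegularRing R ↔ (frobenius R p).Flat := by
  have hp : p.Prime := Fact.out
  have hcomap : ∀ (P : Ideal R) [P.IsPrime], P = Ideal.comap (frobenius R p) P := fun P hP => by
    ext a
    rw [Ideal.mem_comap, frobenius_def]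
    exact ⟨fun h => Ideal.pow_mem_of_mem _ h _ hp.pos, fun h => hP.mem_of_pow_mem p h⟩
  have hchar : ∀ (P : Ideal R) [P.IsPrime], CharP (Localization.AtPrime P) p := fun P _ => by
    refine (CharP.charP_iff_prime_eq_zero hp).2 ?_
    rw [← map_natCast (algebraMap R (Localization.AtPrime P)), CharP.cast_eq_zero, map_zero]
  have hloc : ∀ (P : Ideal R) [P.IsPrime], haveI := hchar P
      Localization.localRingHom P P (frobenius R p) (hcomap P) = frobenius (Localization.AtPrime P) p := fun P _ => by
    haveI := hchar P
    refine IsLocalization.ringHom_ext P.primeCompl (RingHom.ext fun a => ?_)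
    rw [RingHom.comp_apply, RingHom.comp_apply, Localization.localRingHom_to_map, frobenius_def, frobenius_def,
      map_pow]
  refine ⟨fun hR => RingHom.Flat.ofLocalizationPrime _ fun P hP => ?_, fun hflat => (isRegularRing_iff).2 fun P hP => ?_⟩
  · haveI := hchar P
    have key : ∀ (Q : Ideal R) [Q.IsPrime] (h : Q = Ideal.comap (frobenius R p) P), Q = P →
        (Localization.localRingHom Q P (frobenius R p) h).Flat := by
      intro Q _ h e
      subst e
      rw [hloc]
      exact H4Frob.frobenius_flat_of_regularLocal p _
    exact key _ rfl (hcomap P).symm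
  · haveI := hchar P
    have := hflat.localRingHom P P (hcomap P)
    rw [hloc] at this
    refine H4Frob.isRegularLocalRing_of_flat_endo _ this (Ideal.map_le_iff_le_comap.2 fun a ha => ?_)
    rw [Ideal.mem_comap, frobenius_def]
    exact Ideal.pow_le_pow_right hp.two_le (Ideal.pow_mem_pow ha p)

end Groth.Agent.S0336
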