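import Groth.Statements.S0337
import Groth.Agent.H4Frob.FreeOfIso

set_option autoImplicit false
universe u v
open CategoryTheory
open LocCoh

namespace Groth.Agent.S0337

/-- Over a Noetherian local ring of prime characteristic p, a finite module isomorphic to its own base
change along Frobenius is free. -/
theorem result (p : ℕ) [Fact p.Prime] (R : Type u) [CommRing R] [IsLocalRing R] [IsNoetherianRing R] [CharP R p] (M : Type u) [AddCommGroup M] [Module R M] [Module.Finite R M] (h : Nonempty ((ModuleCat.extendScalars (frobenius R p)).obj (ModuleCat.of R M) ≅ ModuleCat.of R M)) : Module.Free R M := by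
  refine H4Frob.free_of_extendScalars_iso (frobenius R p) (fun r hr => ?_) M h
  obtain ⟨q, hq⟩ := Nat.exists_eq_add_of_le' (Fact.out : p.Prime).two_le
  rw [frobenius_def, show r ^ p = r ^ (q + 1) * r by rw [← pow_succ, hq]]
  exact Ideal.mul_mem_mul (Ideal.pow_mem_of_mem _ hr _ q.succ_pos) (Ideal.mem_span_singleton_self r)

end Groth.Agent.S0337
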