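import Groth.Statements.S0347
import Groth.Agent.H19Grp.Basic

set_option autoImplicit false
universe u v
open CategoryTheory MonoidalCategory CartesianMonoidalCategory MonObj GrpObj AlgebraicGeometry
open GrpSch

namespace Groth.Agent.S0347

/-- The multiplication map of a group scheme over a field is an open map of topological spaces. -/
theorem result (K : Type u) [Field K] (G : Over (Spec (CommRingCat.of K))) [GrpObj G] : IsOpenMap (μ[G].left : (G ⊗ G).left ⟶ G.left) := by
  have : UniversallyOpen μ[G].left :=
    Groth.Agent.H19Grp.mul_left_of G @UniversallyOpen inferInstance
  exact μ[G].left.isOpenMap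

end Groth.Agent.S0347
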