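import Groth.Statements.S0350
import Groth.Agent.H19Grp.Components
import Groth.Agent.H19Grp.GrpToGrpd

set_option autoImplicit false
universe u v
open CategoryTheory MonoidalCategory CartesianMonoidalCategory MonObj GrpObj AlgebraicGeometry
open GrpSch

namespace Groth.Agent.S0350

/-- Let G be a group scheme over a field K. Then for every point x of G the local ring O_{G,x} has at
most one (hence exactly one) minimal prime, and there is exactly one irreducible component of G
passing through the identity point. The published statement also asserts that this component is
geometrically irreducible, which is not asserted here. -/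
theorem result (K : Type u) [Field K] (G : Over (Spec (CommRingCat.of K))) [GrpObj G] : (∀ x : G.left, (minimalPrimes (G.left.presheaf.stalk x)).Subsingleton) ∧ ∃! Z : Set G.left, Z ∈ irreducibleComponents (G.left : Type u) ∧ η[G].left (IsLocalRing.closedPoint K) ∈ Z := by
  exact ⟨fun r => Groth.Agent.H19Grp.minimalPrimes_stalk_subsingleton
      (Groth.Agent.H19Grp.dirGen (Groth.Agent.H19Grp.grpToGrpd G) (Iso.refl _) r),
    Groth.Agent.H19Grp.existsUnique_component (Groth.Agent.H19Grp.grpToGrpd G) (Iso.refl _)⟩

end Groth.Agent.S0350
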