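import Groth.Statements.S0358
import Groth.Agent.H4Depth.BaseDepth
import Groth.Agent.H4Depth.CM
import Groth.Agent.H4Depth.IdealDepth
import Mathlib.RingTheory.TensorProduct.Quotient

set_option autoImplicit false
universe u v
open LocCoh

namespace Groth.Agent.S0358

/-- For a flat local homomorphism R → S of Noetherian local rings whose closed fibre S/m_R S is
Cohen–Macaulay, and a proper ideal I of S, the I-depth of S is at least dim(S/m_R S) − dim(S/(m_R S
+ I)); stated additively. -/
theorem result (R : Type u) [CommRing R] [IsLocalRing R] [IsNoetherianRing R] (S : Type u) [CommRing S] [IsLocalRing S] [IsNoetherianRing S] [Algebra R S] [IsLocalHom (algebraMap R S)] [Module.Flat R S] (hCM : LocCoh.IsCohenMacaulayLocalRing (S ⧸ (IsLocalRing.maximalIdeal R).map (algebraMap R S))) (I : Ideal S) (hI : I ≠ ⊤) : ringKrullDim (S ⧸ (IsLocalRing.maximalIdeal R).map (algebraMap R S)) ≤ ringKrullDim (S ⧸ ((IsLocalRing.maximalIdeal R).map (algebraMap R S) ⊔ I)) + ((LocCoh.idealDepth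 I S : ℕ∞) : WithBot ℕ∞) := by
  set J₀ := (IsLocalRing.maximalIdeal R).map (algebraMap R S) with hJ₀
  let π := Ideal.Quotient.mk J₀
  have hJI : J₀ ⊔ I ≤ IsLocalRing.maximalIdeal S :=
    sup_le (((IsLocalRing.local_hom_TFAE (algebraMap R S)).out 0 2).mp ‹_›) (IsLocalRing.le_maximalIdeal hI)
  haveI := hCM
  have hI' : I.map π ≠ ⊤ := ne_top_of_le_ne_top (IsLocalRing.maximalIdeal.isMaximal _).ne_top
    ((Ideal.map_mono (IsLocalRing.le_maximalIdeal hI)).trans
      (IsLocalRing.map_maximalIdeal_of_surjective π Ideal.Quotient.mk_surjective).le)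
  have hne : I • (⊤ : Submodule S (S ⧸ J₀)) ≠ ⊤ := fun h => by
    have h1 : Ideal.Quotient.mk J₀ 1 ∈ I • (⊤ : Submodule S (S ⧸ J₀)) := by rw [h]; exact Submodule.mem_top
    rw [Ideal.smul_top_eq_map, Submodule.restrictScalars_mem] at h1
    exact hI' ((Ideal.eq_top_iff_one _).2 h1)
  have h1 := Groth.Agent.H4Depth.IsCM.supportDim_eq_add_idealDepth (M := S ⧸ J₀) hI' hCM.supportDim_eq_depth
  rw [Module.supportDim_self_eq_ringKrullDim,
    Module.supportDim_eq_of_equiv (Submodule.quotEquivOfEq ((I.map π) • (⊤ : Submodule (S ⧸ J₀) (S ⧸ J₀))) (I.map π) (Ideal.mul_top _)),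
    Module.supportDim_quotient_eq_ringKrullDim, ringKrullDim_eq_of_ringEquiv (DoubleQuot.quotQuotEquivQuotSup J₀ I),
    show LocCoh.idealDepth (I.map π) (S ⧸ J₀) = LocCoh.idealDepth I (S ⧸ J₀) from
      Groth.Agent.H8Props.FlatDepth.idealDepth_map_of_surjective Ideal.Quotient.mk_surjective I] at h1
  have h3 : LocCoh.idealDepth I (S ⧸ J₀) ≤ LocCoh.idealDepth I S := by
    refine ENat.forall_natCast_le_iff_le.mp fun n hn => ?_
    obtain ⟨xs, hlen, hmem, hreg⟩ := Groth.Agent.H4Depth.exists_isWeaklyRegular_of_le_idealDepth hne hn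
    have h4 := ((Algebra.TensorProduct.quotIdealMapEquivTensorQuot S (IsLocalRing.maximalIdeal R)).toLinearEquiv.isWeaklyRegular_congr xs).1 hreg
    have h5 := Groth.Agent.H4Depth.isWeaklyRegular_tensor R xs S h4
    rw [← hlen]
    exact Groth.Agent.H4Depth.length_le_idealDepth (((TensorProduct.AlgebraTensorModule.rid R S S).isWeaklyRegular_congr xs).1 h5) hmem
  rw [h1]
  exact add_le_add le_rfl (WithBot.coe_le_coe.2 h3)

end Groth.Agent.S0358
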