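import Groth.Statements.S0359
import Groth.Agent.H4Depth.Spread
import Groth.Agent.H4Depth.LocDepth

set_option autoImplicit false
universe u v
open LocCoh

namespace Groth.Agent.S0359

/-- For a finite module M over a Noetherian ring and a prime p with depth(M_p) = e finite, there is a
basic open neighbourhood of p in V(p) on which the depth of the localizations of M is at least e,
and it exceeds e at all but finitely many of those primes. -/
theorem result (R : Type u) [CommRing R] [IsNoetherianRing R] (M : Type u) [AddCommGroup M] [Module R M] [Module.Finite R M] (p : Ideal R) [p.IsPrime] (e : ℕ) (he : LocCoh.depth (Localization.AtPrime p) (LocalizedModule p.primeCompl M) = e) : ∃ f : R, f ∉ p ∧ (∀ (q : Ideal R) [q.IsPrime], p ≤ q → f ∉ q → (e : ℕ∞) ≤ LocCoh.depth (Localization.AtPrime q) (LocalizedModule q.primeCompl M)) ∧ {q : PrimeSpectrum R | p ≤ q.asIdeal ∧ f ∉ q.asIdeal ∧ LocCoh.depth (Localization.AtPrime q.asIdeal) (LocalizedModule q.asIdeal.primeCompl M) = e}.Finite := by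
  classical
  let mx := fun (q : Ideal R) (_ : q.IsPrime) => IsLocalRing.maximalIdeal (Localization.AtPrime q)
  have hne : IsLocalRing.maximalIdeal (Localization.AtPrime p) •
      (⊤ : Submodule (Localization.AtPrime p) (LocalizedModule p.primeCompl M)) ≠ ⊤ := fun h => by
    rw [LocCoh.depth, Groth.Agent.H4Depth.idealDepth_eq_top h] at he
    exact ENat.top_ne_natCast e he
  obtain ⟨xs, hlen, hmem, hreg⟩ := Groth.Agent.H4Depth.exists_isWeaklyRegular_of_le_idealDepth hne he.ge
  rw [← Localization.AtPrime.map_eq_maximalIdeal] at hmem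
  obtain ⟨ys, hlen', hys, hregy⟩ := Groth.Agent.H4Depth.exists_lift_regular p p xs hmem hreg
  obtain ⟨f, hf, hnhd⟩ := Groth.Agent.H4Depth.exists_isWeaklyRegular_nhd p ys hregy
  have hq' : ∀ (q : Ideal R) [q.IsPrime], p ≤ q → f ∉ q →
      RingTheory.Sequence.IsWeaklyRegular (LocalizedModule q.primeCompl M) (ys.map (algebraMap R (Localization.AtPrime q))) ∧
      ∀ r ∈ ys.map (algebraMap R (Localization.AtPrime q)), r ∈ IsLocalRing.maximalIdeal (Localization.AtPrime q) :=
    fun q hq hpq hfq => ⟨(RingTheory.Sequence.isWeaklyRegular_map_algebraMap_iff (Localization.AtPrime q) _ ys).2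
      (hnhd ⟨q, hq⟩ hfq), fun r hr => by
        obtain ⟨y, hy, rfl⟩ := List.mem_map.1 hr
        exact (IsLocalization.AtPrime.to_map_mem_maximal_iff _ q _).2 (hpq (hys y hy))⟩
  refine ⟨f, hf, fun q _ hpq hfq => le_of_eq_of_le (by simp [hlen', hlen])
    (Groth.Agent.H4Depth.length_le_idealDepth (hq' q hpq hfq).1 (hq' q hpq hfq).2), ?_⟩
  refine Set.Finite.subset (Set.Finite.preimage (Function.Injective.injOn fun a b h => PrimeSpectrum.ext h)
    (associatedPrimes.finite R (M ⧸ Ideal.ofList ys • (⊤ : Submodule R M)))) ?_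
  rintro q ⟨hpq, hfq, hdq⟩
  obtain ⟨hreg', hmem'⟩ := hq' q.asIdeal hpq hfq
  set L := Localization.AtPrime q.asIdeal
  set N := LocalizedModule q.asIdeal.primeCompl M
  set yL := ys.map (algebraMap R L) with hyL
  haveI : Module.Finite L N :=
    Module.Finite.of_isLocalizedModule q.asIdeal.primeCompl (LocalizedModule.mkLinearMap q.asIdeal.primeCompl M)
  have hneq : IsLocalRing.maximalIdeal L • (⊤ : Submodule L N) ≠ ⊤ := fun h => by
    rw [LocCoh.depth, Groth.Agent.H4Depth.idealDepth_eq_top h] at hdq
    exact ENat.top_ne_natCast e hdq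
  obtain ⟨P, hP, hle⟩ := Groth.Agent.H4Depth.exists_associatedPrime_ge_of_no_regular
    (M := N ⧸ Ideal.ofList yL • (⊤ : Submodule L N)) (I := IsLocalRing.maximalIdeal L) fun x hx hx' => by
    have h2 := Groth.Agent.H4Depth.length_le_idealDepth (M := N) (I := IsLocalRing.maximalIdeal L) (rs := yL ++ [x]) (by
      rw [RingTheory.Sequence.isWeaklyRegular_append_iff]
      exact ⟨hreg', (RingTheory.Sequence.isWeaklyRegular_cons_iff _ x []).mpr ⟨hx', RingTheory.Sequence.IsWeaklyRegular.nil L _⟩⟩)
      (fun r hr => (List.mem_append.1 hr).elim (hmem' r) fun h => by rw [List.mem_singleton] at h; exact h ▸ hx)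
    rw [← LocCoh.depth, hdq, List.length_append, List.length_map, hlen', hlen, List.length_singleton, Nat.cast_le] at h2
    omega
  have hPm : IsLocalRing.maximalIdeal L = P :=
    (IsLocalRing.maximalIdeal.isMaximal L).eq_of_le hP.isPrime.ne_top hle
  obtain ⟨-, z, hz⟩ := isAssociatedPrime_iff.mp hP
  obtain ⟨z, rfl⟩ := Submodule.Quotient.mk_surjective _ z
  have hzmem : ∀ a : L, a ∈ IsLocalRing.maximalIdeal L ↔ a • z ∈ Ideal.ofList yL • (⊤ : Submodule L N) := fun a => by
    rw [hPm, hz, Submodule.mem_colon_singleton, Submodule.mem_bot, ← Submodule.Quotient.mk_smul,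
      Submodule.Quotient.mk_eq_zero]
  have hres : ∀ w : N, w ∈ Ideal.ofList ys • (⊤ : Submodule R N) ↔ w ∈ Ideal.ofList yL • (⊤ : Submodule L N) := fun w => by
    rw [← Submodule.restrictScalars_mem R (Ideal.ofList yL • (⊤ : Submodule L N)), hyL, ← Ideal.map_ofList,
      Ideal.smul_restrictScalars, Submodule.restrictScalars_top]
  induction z using LocalizedModule.induction_on with
  | _ t s =>
    let mk := LocalizedModule.mkLinearMap q.asIdeal.primeCompl M
    have hst : ∀ a : R, (s : R) • a • LocalizedModule.mk t s = mk (a • t) := fun a => by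
      rw [smul_comm, LocalizedModule.smul'_mk, show ((s : R) • t) = s • t from rfl, LocalizedModule.mk_cancel,
        ← LocalizedModule.mkLinearMap_apply (S := q.asIdeal.primeCompl), ← map_smul]
    have hkill : ∀ a : R, ∃ c ∈ q.asIdeal.primeCompl, a ∈ q.asIdeal → c • a • t ∈ Ideal.ofList ys • (⊤ : Submodule R M) := fun a => by
      by_cases ha : a ∈ q.asIdeal
      · have h1 := (hzmem (algebraMap R L a)).1 ((IsLocalization.AtPrime.to_map_mem_maximal_iff L q.asIdeal a).2 ha)
        rw [algebraMap_smul, ← hres] at h1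
        have h2 := Submodule.smul_mem _ (s : R) h1
        rw [hst] at h2
        obtain ⟨c, hc, hct⟩ := Groth.Agent.H4Depth.exists_smul_mem_of_map_mem_smul_top q.asIdeal.primeCompl mk _ h2
        exact ⟨c, hc, fun _ => hct⟩
      · exact ⟨1, one_mem _, fun h => absurd h ha⟩
    choose c hc hct using hkill
    obtain ⟨G, hG⟩ := IsNoetherian.noetherian q.asIdeal
    have hcq : (∏ g ∈ G, c g) ∈ q.asIdeal.primeCompl := prod_mem fun g _ => hc g
    refine isAssociatedPrime_iff.mpr ⟨inferInstance, Submodule.Quotient.mk ((∏ g ∈ G, c g) • t),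
      le_antisymm (fun a ha => ?_) (fun a ha => ?_)⟩
    · rw [Submodule.mem_colon_singleton, Submodule.mem_bot, ← Submodule.Quotient.mk_smul, Submodule.Quotient.mk_eq_zero]
      have hle' : q.asIdeal ≤ Submodule.comap (LinearMap.toSpanSingleton R M ((∏ g ∈ G, c g) • t))
          (Ideal.ofList ys • (⊤ : Submodule R M)) := by
        rw [← hG, Submodule.span_le]
        intro g hg
        show g • (∏ g ∈ G, c g) • t ∈ Ideal.ofList ys • (⊤ : Submodule R M)
        rw [← Finset.prod_erase_mul G c hg, mul_smul, smul_comm, smul_comm g]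
        exact Submodule.smul_mem _ _ (hct g (hG ▸ Submodule.subset_span hg))
      exact hle' ha
    · rw [Submodule.mem_colon_singleton, Submodule.mem_bot, ← Submodule.Quotient.mk_smul, Submodule.Quotient.mk_eq_zero] at ha
      by_contra haq
      have hu : IsUnit (algebraMap R L (a * (∏ g ∈ G, c g))) :=
        IsLocalization.map_units L (⟨_, q.asIdeal.primeCompl.mul_mem haq hcq⟩ : q.asIdeal.primeCompl)
      have h1 := Submodule.mem_map_of_mem (f := mk) ha
      rw [Submodule.map_smul''] at h1
      replace h1 := Submodule.smul_mono le_rfl le_top h1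
      rw [smul_smul, map_smul, hres, ← algebraMap_smul L (a * ∏ g ∈ G, c g)] at h1
      have h2 : mk t ∈ Ideal.ofList yL • (⊤ : Submodule L N) := by
        obtain ⟨b, hb⟩ := hu.exists_left_inv
        have := Submodule.smul_mem _ b h1
        rwa [smul_smul, hb, one_smul] at this
      have h3 : LocalizedModule.mk t s ∈ Ideal.ofList yL • (⊤ : Submodule L N) := by
        have hs1 := hst 1
        rw [one_smul, one_smul, ← algebraMap_smul L (s : R)] at hs1
        obtain ⟨b, hb⟩ := (IsLocalization.map_units L s).exists_left_inv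
        have := Submodule.smul_mem _ b h2
        rwa [← hs1, smul_smul, hb, one_smul] at this
      exact (IsLocalRing.maximalIdeal.isMaximal L).ne_top ((Ideal.eq_top_iff_one _).2 ((hzmem 1).2 (by rwa [one_smul])))

end Groth.Agent.S0359
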