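import Groth.Statements.S17775
import Groth.Agent.H02CA.KoszTop
import Groth.Agent.H4Goren.Hull
import Groth.Agent.H4LC.NonvanishingHeight
import Groth.Agent.H4Inj.Essential
import Groth.Agent.S5173
import Mathlib.RingTheory.Localization.Away.Basic

set_option autoImplicit false
universe u
open BigOperators
open Goren

namespace Groth.Agent.S17775

open CategoryTheory Groth.Agent.H02CA IsLocalization

variable {R : Type u} [CommRing R] {d : ℕ} (x : Fin d → R)

/-- The span of the smaller fractions. -/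
noncomputable abbrev Num : Submodule R (Localization.Away (∏ i, x i)) :=
  Submodule.span R {y : Localization.Away (∏ i, x i) | ∃ (i : Fin d) (n : ℕ),
    y = algebraMap R (Localization.Away (∏ i, x i)) (x i ^ n) * IsLocalization.Away.invSelf (∏ i, x i) ^ n}

/-- `a / t^n`. -/
noncomputable def fr (n : ℕ) : R →ₗ[R] Localization.Away (∏ i, x i) :=
  LinearMap.toSpanSingleton R _ (IsLocalization.Away.invSelf (∏ i, x i) ^ n)

theorem fr_apply (n : ℕ) (a : R) :
    fr x n a = algebraMap R _ a * IsLocalization.Away.invSelf (∏ i, x i) ^ n :=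
  Algebra.smul_def a _

theorem fr_shift (n k : ℕ) (a : R) : fr x (n + k) ((∏ i, x i) ^ k * a) = fr x n a := by
  rw [fr_apply, fr_apply, map_mul, map_pow, pow_add]
  calc _ = algebraMap R (Localization.Away (∏ i, x i)) a * IsLocalization.Away.invSelf (∏ i, x i) ^ n *
        (algebraMap R (Localization.Away (∏ i, x i)) (∏ i, x i) *
          IsLocalization.Away.invSelf (∏ i, x i)) ^ k := by ring
    _ = _ := by rw [IsLocalization.Away.mul_invSelf, one_pow, mul_one]

theorem pow_mul_mem {n : ℕ} (k : ℕ) {a : R} (ha : a ∈ Ideal.span (Set.range fun i => x i ^ n)) :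
    (∏ i, x i) ^ k * a ∈ Ideal.span (Set.range fun i => x i ^ (n + k)) := by
  induction ha using Submodule.span_induction with
  | mem y hy =>
    obtain ⟨i, rfl⟩ := hy
    obtain ⟨c, hc⟩ := pow_dvd_pow_of_dvd (Finset.dvd_prod_of_mem x (Finset.mem_univ i)) k
    rw [hc, show x i ^ k * c * x i ^ n = c * x i ^ (n + k) by ring]
    exact Ideal.mul_mem_left _ c (Ideal.subset_span ⟨i, rfl⟩)
  | zero => rw [mul_zero]; exact zero_mem _
  | add a b _ _ ha hb => rw [mul_add]; exact add_mem ha hb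
  | smul s a _ ha => rw [smul_eq_mul, mul_left_comm]; exact Ideal.mul_mem_left _ s ha

theorem fr_mem {n : ℕ} {a : R} (ha : a ∈ Ideal.span (Set.range fun i => x i ^ n)) : fr x n a ∈ Num x := by
  have hle : Ideal.span (Set.range fun i => x i ^ n) ≤ (Num x).comap (fr x n) :=
    Submodule.span_le.mpr <| by
      rintro _ ⟨i, rfl⟩
      exact Submodule.subset_span ⟨i, n, fr_apply x n _⟩
  exact hle ha

theorem exists_of_mem {y : Localization.Away (∏ i, x i)} (hy : y ∈ Num x) :
    ∃ (m : ℕ) (c : R), c ∈ Ideal.span (Set.range fun i => x i ^ m) ∧ y = fr x m c := by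
  induction hy using Submodule.span_induction with
  | mem y hy =>
    obtain ⟨i, n, rfl⟩ := hy
    exact ⟨n, _, Ideal.subset_span ⟨i, rfl⟩, (fr_apply x n _).symm⟩
  | zero => exact ⟨0, 0, zero_mem _, (map_zero _).symm⟩
  | add a b _ _ ha hb =>
    obtain ⟨m, c, hc, rfl⟩ := ha
    obtain ⟨n, e, he, rfl⟩ := hb
    refine ⟨m + n, (∏ i, x i) ^ n * c + (∏ i, x i) ^ m * e, add_mem (pow_mul_mem x n hc) ?_, ?_⟩
    · rw [add_comm m n]; exact pow_mul_mem x m he
    · rw [map_add, fr_shift]
      congr 1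
      rw [add_comm m n, fr_shift]
  | smul s a _ ha =>
    obtain ⟨m, c, hc, rfl⟩ := ha
    exact ⟨m, s * c, Ideal.mul_mem_left _ s hc, (map_smul _ _ _).symm⟩

theorem exists_pow_mul_mem {n : ℕ} {a : R} (h : fr x n a ∈ Num x) :
    ∃ k, (∏ i, x i) ^ k * a ∈ Ideal.span (Set.range fun i => x i ^ (n + k)) := by
  obtain ⟨m, c, hc, he⟩ := exists_of_mem x h
  rw [← fr_shift x n m a, ← fr_shift x m n c, add_comm m n, fr_apply, fr_apply] at he
  obtain ⟨⟨_, j, rfl⟩, hj⟩ := IsLocalization.exists_of_eq (M := Submonoid.powers (∏ i, x i))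
    ((IsUnit.mul_left_inj (IsUnit.pow _ (IsUnit.of_mul_eq_one_right _
      (IsLocalization.Away.mul_invSelf (∏ i, x i))))).mp he)
  simp only at hj
  refine ⟨j + m, ?_⟩
  have h2 := pow_mul_mem x (j + n) hc
  rw [show m + (j + n) = n + (j + m) by ring] at h2
  convert! h2 using 1
  rw [pow_add, pow_add, mul_assoc, hj, mul_assoc]

theorem ofList_map_pow (n : ℕ) :
    Ideal.ofList ((List.ofFn x).map (· ^ n)) = Ideal.span (Set.range fun i => x i ^ n) := by
  refine congrArg Ideal.span (Set.ext fun a => ?_)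
  simp only [List.map_ofFn, Set.mem_setOf_eq, List.mem_ofFn, Set.mem_range, Function.comp_apply]

theorem mem_iff (n : ℕ) (a : R) :
    a ∈ Ideal.ofList ((List.ofFn x).map (· ^ n)) • (⊤ : Submodule R (ModuleCat.of R R)) ↔
      a ∈ Ideal.span (Set.range fun i => x i ^ n) := by
  change a ∈ Ideal.ofList _ * (⊤ : Ideal R) ↔ _
  rw [Ideal.mul_top, ofList_map_pow]

theorem nonempty_equiv {G : ℕ → Type u} [∀ n, AddCommGroup (G n)] [∀ n, Module R (G n)]
    (tr : ∀ n m, n ≤ m → (G n →ₗ[R] G m)) [DirectedSystem G (fun n m h => tr n m h)]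
    (ψ : ∀ n, R →ₗ[R] G n) (hψ : ∀ n, Function.Surjective (ψ n))
    (hψ0 : ∀ n a, ψ n a = 0 ↔ a ∈ Ideal.span (Set.range fun i => x i ^ n))
    (htr : ∀ n m (h : n ≤ m) a, tr n m h (ψ n a) = ψ m ((∏ i, x i) ^ (m - n) * a)) :
    Nonempty (Module.DirectLimit G tr ≃ₗ[R] (Localization.Away (∏ i, x i) ⧸ Num x)) := by
  let φ : ∀ n, G n →ₗ[R] (Localization.Away (∏ i, x i) ⧸ Num x) := fun n =>
    (LinearMap.ker (ψ n)).liftQ ((Num x).mkQ ∘ₗ fr x n)
      (fun a ha => (Submodule.Quotient.mk_eq_zero _).mpr (fr_mem x ((hψ0 n a).mp ha))) ∘ₗ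
    ((ψ n).quotKerEquivOfSurjective (hψ n)).symm.toLinearMap
  have hφ : ∀ n a, φ n (ψ n a) = (Num x).mkQ (fr x n a) := fun n a => by
    simp only [φ, LinearMap.comp_apply, LinearEquiv.coe_coe]
    rw [show ψ n a = (ψ n).quotKerEquivOfSurjective (hψ n) (Submodule.Quotient.mk a) from rfl,
      LinearEquiv.symm_apply_apply]
    rfl
  let L := Module.DirectLimit.lift R ℕ G tr φ fun n m h g => by
    obtain ⟨a, rfl⟩ := hψ n g
    rw [htr, hφ, hφ]
    congr 1
    have := fr_shift x n (m - n) a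
    rwa [Nat.add_sub_cancel' h] at this
  refine ⟨LinearEquiv.ofBijective L ⟨(injective_iff_map_eq_zero L).mpr fun z hz => ?_, fun q => ?_⟩⟩
  · obtain ⟨n, g, rfl⟩ := Module.DirectLimit.exists_of z
    obtain ⟨a, rfl⟩ := hψ n g
    rw [Module.DirectLimit.lift_of, hφ, Submodule.mkQ_apply, Submodule.Quotient.mk_eq_zero] at hz
    obtain ⟨k, hk⟩ := exists_pow_mul_mem x hz
    rw [← Module.DirectLimit.of_f (hij := Nat.le_add_right n k), htr, Nat.add_sub_cancel_left,
      (hψ0 _ _).mpr hk, map_zero]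
  · obtain ⟨y, rfl⟩ := Submodule.Quotient.mk_surjective _ q
    obtain ⟨a, ⟨_, n, rfl⟩, rfl⟩ := IsLocalization.exists_mk'_eq (Submonoid.powers (∏ i, x i)) y
    refine ⟨Module.DirectLimit.of R ℕ G tr n (ψ n a), ?_⟩
    rw [Module.DirectLimit.lift_of, hφ]
    show Submodule.Quotient.mk _ = _
    congr 1
    rw [IsLocalization.eq_mk'_iff_mul_eq, fr_apply]
    simp only [map_pow]
    rw [mul_assoc, ← mul_pow, mul_comm (IsLocalization.Away.invSelf _) (algebraMap _ _ _),
      IsLocalization.Away.mul_invSelf, one_pow, mul_one]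

theorem nonempty_lim_equiv (i : ℤ) (hi : i = 0) :
    Nonempty ((Module.DirectLimit
      (fun n : ℕ => ((CohIII.koszulCx (ModuleCat.of R R) ((List.ofFn x).map (· ^ n))).homology i : Type u))
      (fun n m h => (HomologicalComplex.homologyMap
        (CohIII.koszulTrans (ModuleCat.of R R) n m h (List.ofFn x)) i).hom)) ≃ₗ[R]
      (Localization.Away (∏ i, x i) ⧸ Num x)) := by
  subst hi
  haveI := KTop.directedSystem (ModuleCat.of R R) (List.ofFn x) 0
  refine nonempty_equiv x _ (fun n => KTop.topCls (ModuleCat.of R R) ((List.ofFn x).map (· ^ n)))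
    (fun n => KTop.topCls_surjective _ _) (fun n a => ?_) (fun n m h a => ?_)
  · rw [KTop.topCls_eq_zero_iff]
    exact mem_iff x n a
  · refine (KTop.map_topCls (ModuleCat.of R R) (List.ofFn x) n m h a).trans ?_
    rw [List.prod_ofFn]
    rfl


/-- Let R be a Gorenstein local ring of Krull dimension d with maximal ideal m and residue field k, and
let x_1, …, x_d be a system of parameters of R, i.e. d elements generating an ideal whose radical is
m. Put t = x_1 ⋯ x_d. Then the R-module R_t ⧸ Σ_i R_{x_1⋯x̂_i⋯x_d}, realised as the quotient of the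
localization R_t by the R-submodule spanned by the fractions x_i^n / t^n (i = 1, …, d, n ≥ 0), is an
injective hull of k: some R-linear map from k into it is an injective hull. -/
theorem result (R : Type u) [CommRing R] [LocCoh.IsGorensteinLocalRing R] (d : ℕ) (hd : ringKrullDim R = d) (x : Fin d → R) (hx : (Ideal.span (Set.range x)).radical = IsLocalRing.maximalIdeal R) : ∃ f : IsLocalRing.ResidueField R →ₗ[R] (Localization.Away (∏ i, x i) ⧸ Submodule.span R {y : Localization.Away (∏ i, x i) | ∃ (i : Fin d) (n : ℕ), y = algebraMap R (Localization.Away (∏ i, x i)) (x i ^ n) * IsLocalization.Away.invSelf (∏ i, x i) ^ n}), InjHull.IsInjectiveHull f := by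
  obtain ⟨g, hg⟩ := Groth.Agent.H4Goren.exists_isInjectiveHull_H_top R d hd
  obtain ⟨e₁⟩ := Groth.Agent.H4LC.nonempty_H_equiv_of_radical_eq (R := R)
    (I := IsLocalRing.maximalIdeal R) (J := Ideal.span {a | a ∈ List.ofFn x})
    (by
      rw [(IsLocalRing.maximalIdeal.isMaximal R).isPrime.radical, ← hx]
      congr 2
      ext a
      simp [List.mem_ofFn]) R d
  obtain ⟨e₂⟩ := S5173.result R (List.ofFn x) R d
  obtain ⟨e₃⟩ := nonempty_lim_equiv x ((d : ℤ) - (List.ofFn x).length) (by simp)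
  let e : LocCoh.H (IsLocalRing.maximalIdeal R) d R ≃ₗ[R] _ := (e₁.trans e₂).trans e₃
  exact ⟨e.toLinearMap ∘ₗ g, Groth.Agent.H4Inj.IsInjectiveHull.comp_equiv hg e⟩

end Groth.Agent.S17775
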