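import Groth.Statements.S0363
import Groth.Agent.H02CA.TopCechTor
import Groth.Agent.S17775
import Groth.Agent.S0341
import Groth.Agent.S5760
import Groth.Agent.H4Inj.Essential
import Mathlib.RingTheory.KrullDimension.Module
import Mathlib.RingTheory.KrullDimension.Zero

set_option autoImplicit false
universe u v
open CategoryTheory
open Goren

namespace Groth.Agent.S0363

theorem exists_sop (A : Type u) [CommRing A] [LocCoh.IsGorensteinLocalRing A] (d : ℕ)
    (hd : ringKrullDim A = d) :
    ∃ x : Fin d → A, RingTheory.Sequence.IsWeaklyRegular A (List.ofFn x) ∧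
      (∀ i, x i ∈ IsLocalRing.maximalIdeal A) ∧
      (Ideal.span (Set.range x)).radical = IsLocalRing.maximalIdeal A := by
  have hcm := S0341.result A
  have hM : LocCoh.IsCohenMacaulayModule A A := hcm.supportDim_eq_depth
  let m : PrimeSpectrum A := ⟨IsLocalRing.maximalIdeal A, inferInstance⟩
  have hz : Module.supportDim A (A ⧸ (IsLocalRing.maximalIdeal A • (⊤ : Submodule A A))) = 0 := by
    rw [smul_eq_mul, Ideal.mul_top, Module.supportDim_quotient_eq_ringKrullDim]
    exact ringKrullDim_eq_zero_of_isField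
      ((Ideal.Quotient.maximal_ideal_iff_isField_quotient _).mp (IsLocalRing.maximalIdeal.isMaximal A))
  obtain ⟨⟨xs, hl, hxm, hreg⟩, hall⟩ := S5760.result A A hM m
    (by rw [Module.mem_support_iff]; exact inferInstance) d (by
      rw [hz, zero_add, Module.supportDim_self_eq_ringKrullDim, hd])
  have hdim := (hall xs hl hxm hreg).1
  rw [hz, smul_eq_mul, Ideal.mul_top, Module.supportDim_quotient_eq_ringKrullDim] at hdim
  subst hl
  refine ⟨xs.get, by rwa [List.ofFn_get], fun i => hxm _ (List.get_mem xs i), ?_⟩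
  have hI : Ideal.span (Set.range xs.get) = Ideal.ofList xs := by
    rw [Ideal.ofList, Set.range_list_get]
  have hle : Ideal.ofList xs ≤ IsLocalRing.maximalIdeal A := Ideal.span_le.mpr fun a ha => hxm a ha
  rw [hI, Ideal.radical_eq_sInf]
  refine le_antisymm (sInf_le ⟨hle, inferInstance⟩) (le_sInf ?_)
  rintro p ⟨hp, hpp⟩
  haveI : Ring.KrullDimLE 0 (A ⧸ Ideal.ofList xs) := Ring.krullDimLE_iff.mpr hdim.le
  haveI : (p.map (Ideal.Quotient.mk (Ideal.ofList xs))).IsPrime :=
    Ideal.map_isPrime_of_surjective Ideal.Quotient.mk_surjective (by rw [Ideal.mk_ker]; exact hp)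
  have hmax : (p.map (Ideal.Quotient.mk (Ideal.ofList xs))).IsMaximal := Ideal.IsPrime.isMaximal' ‹_›
  have h := Ideal.comap_isMaximal_of_surjective (Ideal.Quotient.mk (Ideal.ofList xs))
    Ideal.Quotient.mk_surjective (K := p.map (Ideal.Quotient.mk (Ideal.ofList xs)))
  rw [Ideal.comap_map_of_surjective _ Ideal.Quotient.mk_surjective, ← RingHom.ker_eq_comap_bot,
    Ideal.mk_ker, sup_eq_left.mpr hp] at h
  exact (IsLocalRing.eq_maximalIdeal h).ge


/-- Over a Gorenstein local ring of dimension d with E an injective hull of the residue field κ,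
Tor_i(E, κ) vanishes for i ≠ d and Tor_d(E, κ) is isomorphic to κ. -/
theorem result (A : Type u) [CommRing A] [LocCoh.IsGorensteinLocalRing A] (d : ℕ) (hd : ringKrullDim A = d) (E : Type u) [AddCommGroup E] [Module A E] (f : IsLocalRing.ResidueField A →ₗ[A] E) (hf : InjHull.IsInjectiveHull f) : (∀ i : ℕ, i ≠ d → Limits.IsZero (((Tor (ModuleCat.{u} A) i).obj (ModuleCat.of A E)).obj (ModuleCat.of A (IsLocalRing.ResidueField A)))) ∧ Nonempty ((((Tor (ModuleCat.{u} A) d).obj (ModuleCat.of A E)).obj (ModuleCat.of A (IsLocalRing.ResidueField A))) ≅ ModuleCat.of A (IsLocalRing.ResidueField A)) := by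
  obtain ⟨x, hreg, hxm, hrad⟩ := exists_sop A d hd
  obtain ⟨g, hg⟩ := S17775.result A d hd x hrad
  obtain ⟨e, -⟩ := Groth.Agent.H4Inj.hull_unique hf hg
  let κ := ModuleCat.of A (IsLocalRing.ResidueField A)
  obtain ⟨h1, ⟨h2⟩⟩ := Groth.Agent.H02CA.TopCechTor.tor_topCech κ d x hreg
    (fun i v => by
      obtain ⟨r, rfl⟩ := IsLocalRing.residue_surjective (R := A) v
      show IsLocalRing.residue A (x i) * IsLocalRing.residue A r = 0
      rw [(IsLocalRing.residue_eq_zero_iff _).mpr (hxm i), zero_mul])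
  exact ⟨fun i hi => (h1 i hi).of_iso (((Tor (ModuleCat.{u} A) i).mapIso e.toModuleIso).app κ),
    ⟨((Tor (ModuleCat.{u} A) d).mapIso e.toModuleIso).app κ ≪≫ h2⟩⟩

end Groth.Agent.S0363
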