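import Groth.Statements.S0368
import Groth.Agent.H4DR.Dualizing.Top

set_option autoImplicit false
universe u v
open CategoryTheory
attribute [local instance] HasDerivedCategory.standard
open Dual

namespace Groth.Agent.S0368

/-- (1)⇔(3): for a Noetherian local ring with normalized dualizing complex ω, a nonzero finite module M
with support of dimension d is Cohen–Macaulay exactly when Hom(M, ω[−i]) vanishes in D(A) for every
i ≠ d. -/
theorem result (A : Type u) [CommRing A] [IsLocalRing A] [IsNoetherianRing A] (ω : Dual.D A) (hω : Dual.IsDualizing A ω) (hn : Dual.IsNormalized A ω) (M : Type u) [AddCommGroup M] [Module A M] [Module.Finite A M] [Nontrivial M] (d : ℕ) (hd : Module.supportDim A M = d) : LocCoh.IsCohenMacaulayModule A M ↔ ∀ i : ℤ, i ≠ d → Subsingleton (Dual.inD A M ⟶ ω⟦(-i)⟧) := by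
  have hz : ∀ i : ℤ, i ≠ d → (∀ δ : ℕ, δ < d → Subsingleton (Dual.inD A M ⟶ ω⟦(-(δ : ℤ))⟧)) →
      Subsingleton (Dual.inD A M ⟶ ω⟦(-i)⟧) := fun i hi h => by
    rcases lt_or_ge i 0 with h0 | h0
    · exact H4DR.Dualizing.subsingleton_ex_pos hω hn M (by omega)
    lift i to ℕ using h0
    rcases lt_or_ge i d with h1 | h1
    · exact h i h1
    refine not_nontrivial_iff_subsingleton.1 fun hne => ?_
    obtain ⟨h2, -⟩ := (H4DR.Dualizing.dimBound hω hn M (-(i : ℤ))).2 hne
    rw [hd, Nat.cast_le] at h2
    omega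
  unfold LocCoh.IsCohenMacaulayModule
  rw [hd]
  constructor
  · intro h i hi
    have h' : LocCoh.depth A M = d := (WithBot.coe_inj.1 (h.trans rfl)).symm
    exact hz i hi (H4DR.Dualizing.depth_spec hω hn d M h').1
  · intro h
    rw [(H4DR.Dualizing.depth_eq_iff hω hn M d).2 ⟨fun δ hδ => h δ (by omega),
      H4DR.Dualizing.nontrivial_ex_top hω hn M d hd⟩]
    rfl

end Groth.Agent.S0368
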