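import Groth.Statements.S0369
import Groth.Agent.H4DR.Dualizing.TopModule
import Groth.Agent.H4DR.Ext.Point

set_option autoImplicit false
universe u v
open CategoryTheory
attribute [local instance] HasDerivedCategory.standard
open Dual

namespace Groth.Agent.S0369

/-- For a Noetherian local ring of dimension d with normalized dualizing complex ω, the module ω_A =
H^{−d}(ω) has support equal to the union of those irreducible components of Spec A whose dimension
is d, and satisfies Serre's condition (S_2). -/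
theorem result (A : Type u) [CommRing A] [IsLocalRing A] [IsNoetherianRing A] (ω : Dual.D A) (hω : Dual.IsDualizing A ω) (hn : Dual.IsNormalized A ω) (d : ℕ) (hd : ringKrullDim A = d) : Module.support A (Dual.HD A ω (-(d : ℤ))) = {p : PrimeSpectrum A | ∃ q ∈ minimalPrimes A, q ≤ p.asIdeal ∧ ringKrullDim (A ⧸ q) = d} ∧ LocCoh.HasSk 2 A (Dual.HD A ω (-(d : ℤ))) := by
  let s : Dual.HD A ω (-(d : ℤ)) ≃ₗ[A] Groth.Agent.H4DR.Ext.Ex (Dual.inD A A) ω (-(d : ℤ)) :=
    (Groth.Agent.H4DR.Ext.evalEquiv ω (-(d : ℤ))).symm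
  have hM : Module.supportDim A A = d := (Module.supportDim_self_eq_ringKrullDim (R := A)).trans hd
  refine ⟨Set.ext fun p => ?_, Groth.Agent.H4DR.Dualizing.hasSk_two_top hω hn A hM s⟩
  rw [s.support_eq, Groth.Agent.H4DR.Dualizing.mem_support_top_iff hω hn A hM]
  refine ⟨fun ⟨q, hq, hqp, hqd⟩ => ⟨q.asIdeal, ?_, hqp, hqd⟩, fun ⟨q, hq, hqp, hqd⟩ =>
    ⟨⟨q, hq.1.1⟩, ?_, hqp, hqd⟩⟩
  · refine ⟨⟨q.2, bot_le⟩, fun r hr hrq => ?_⟩
    by_contra hne
    have h1 := Groth.Agent.H4DR.Dualizing.succ_le_ringKrullDim_quotient (q := ⟨r, hr.1⟩) (P := q)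
      (lt_of_le_not_ge (show r ≤ q.asIdeal from hrq) hne) (n := d) (le_of_eq hqd.symm)
    have h2 := h1.trans (ringKrullDim_quotient_le r)
    rw [hd] at h2
    have := Nat.cast_le.1 h2
    omega
  · rw [Module.support_eq_zeroLocus, Module.annihilator_eq_bot.2 inferInstance]
    intro x hx
    rw [(Submodule.mem_bot A).1 hx]
    exact q.zero_mem

end Groth.Agent.S0369
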