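import Groth.Statements.S0370
import Groth.Agent.H4DR.Dualizing.Loci

set_option autoImplicit false
universe u v
open CategoryTheory
attribute [local instance] HasDerivedCategory.standard
open Dual

namespace Groth.Agent.S0370

/-- A Noetherian ring admitting a finite module which, placed in degree 0, is a dualizing complex, is
Cohen–Macaulay. -/
theorem result (A : Type u) [CommRing A] [IsNoetherianRing A] (W : Type u) [AddCommGroup W] [Module A W] [Module.Finite A W] (h : Dual.IsDualizing A (Dual.inD A W)) : LocCoh.IsCohenMacaulayRing A := by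
  refine { isCohenMacaulayLocalRing_localization := fun p _ => ?_ }
  refine (H4DR.Dualizing.cmLocalRing_iff ⟨p, ‹_›⟩).2 ((H4DR.Dualizing.cm_or_zero_iff h A ⟨p, ‹_›⟩).2 ?_)
  have hz : ∀ i : ℤ, (⟨p, ‹_›⟩ : PrimeSpectrum A) ∈ H4DR.Dualizing.supEx (Dual.inD A W) A i → i = 0 := fun i hi => by
    by_contra hne
    haveI : Subsingleton (Dual.HD A (Dual.inD A W) i) := H4DR.PCoh.subsingleton_HD_inD (ModuleCat.of A W) i hne
    exact not_subsingleton_iff_nontrivial.2 ((Module.nonempty_support_iff (R := A)).1 ⟨_, hi⟩)
      (H4DR.Ext.evalEquiv (Dual.inD A W) i).injective.subsingleton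
  exact fun i j hi hj => (hz i hi).trans (hz j hj).symm

end Groth.Agent.S0370
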