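import Groth.Statements.S0372
import Groth.Agent.H4DR.Dualizing.Loci

set_option autoImplicit false
universe u v
open CategoryTheory
attribute [local instance] HasDerivedCategory.standard
open Dual

namespace Groth.Agent.S0372

/-- If a Noetherian ring has a dualizing complex then the set of primes at which the localization is
Cohen–Macaulay is open and dense in the prime spectrum. -/
theorem result (A : Type u) [CommRing A] [IsNoetherianRing A] (ω : Dual.D A) (hω : Dual.IsDualizing A ω) : IsOpen {p : PrimeSpectrum A | LocCoh.IsCohenMacaulayLocalRing (Localization.AtPrime p.asIdeal)} ∧ Dense {p : PrimeSpectrum A | LocCoh.IsCohenMacaulayLocalRing (Localization.AtPrime p.asIdeal)} := by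
  have h : {p : PrimeSpectrum A | LocCoh.IsCohenMacaulayLocalRing (Localization.AtPrime p.asIdeal)} =
      {p : PrimeSpectrum A | Subsingleton (LocalizedModule p.asIdeal.primeCompl A) ∨
        LocCoh.IsCohenMacaulayModule (Localization.AtPrime p.asIdeal) (LocalizedModule p.asIdeal.primeCompl A)} :=
    Set.ext fun p => H4DR.Dualizing.cmLocalRing_iff p
  rw [h]
  refine ⟨H4DR.Dualizing.isOpen_cm_or_zero hω A, fun p => closure_mono (fun q hq => Or.inr hq.1)
    (H4DR.Dualizing.support_subset_closure_cm hω A ?_)⟩
  rw [Module.mem_support_iff_of_finite, Module.annihilator_eq_bot.2 inferInstance]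
  exact bot_le

end Groth.Agent.S0372
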