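import Groth.Statements.S0380
import Groth.Agent.H4LC.FlatBaseChange

set_option autoImplicit false
universe u v
open LocCoh

namespace Groth.Agent.S0380

/-- Local cohomology with support in I vanishes above degree d on all modules exactly when, for every
prime p, local cohomology over A_p with support in I A_p vanishes above degree d on all A_p-modules. -/
theorem result (R : Type u) [CommRing R] [IsNoetherianRing R] (I : Ideal R) (d : ℕ) : LocCoh.CdLE R I d ↔ ∀ (p : Ideal R) [p.IsPrime], LocCoh.CdLE (Localization.AtPrime p) (I.map (algebraMap R (Localization.AtPrime p))) d := by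
  refine ⟨fun h p _ M _ _ i hi => ?_, fun h M _ _ i hi => ?_⟩
  · have : IsNoetherianRing (Localization.AtPrime p) :=
      IsLocalization.isNoetherianRing p.primeCompl _ inferInstance
    letI : Module R M := Module.compHom M (algebraMap R (Localization.AtPrime p))
    haveI : IsScalarTower R (Localization.AtPrime p) M :=
      IsScalarTower.of_algebraMap_smul fun _ _ => rfl
    exact (Groth.Agent.H4LC.subsingleton_H_map_iff (Localization.AtPrime p) I M i).2 (h M i hi)
  · refine subsingleton_of_forall_eq 0 fun z => ?_
    refine Module.eq_zero_of_localization_maximal _ (fun (P : Ideal R) (_ : P.IsMaximal) =>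
      LocalizedModule.mkLinearMap P.primeCompl (LocCoh.H I i M)) z fun P hP => ?_
    obtain ⟨e⟩ := Groth.Agent.H4LC.nonempty_localization_H I M P.primeCompl i
    have := e.toEquiv.subsingleton_congr.2 (h P _ i hi)
    exact Subsingleton.elim _ _

end Groth.Agent.S0380
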