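import Groth.Statements.S0382
import Groth.Agent.H19Grp.UnramifiedEndo
import Groth.Agent.H06Unram.EtaleLift

set_option autoImplicit false
universe u v
open CategoryTheory MonoidalCategory CartesianMonoidalCategory MonObj GrpObj AlgebraicGeometry
open GrpSch

namespace Groth.Agent.S0382

/-- On an abelian variety of positive dimension over a field K (a proper, geometrically integral group
scheme over K), multiplication by an integer d is étale exactly when d is nonzero in K.
Multiplication by d is written as the d-th power of the identity morphism in the group Hom(A, A),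
whose multiplication is pointwise, induced by the group structure of A. -/
theorem result (K : Type u) [Field K] (A : Over (Spec (CommRingCat.of K))) [GrpObj A] [IsProper A.hom] [GeometricallyIntegral A.hom] (hA : 0 < topologicalKrullDim A.left) (d : ℤ) : Etale ((𝟙 A ^ d).left) ↔ ((d : K) ≠ 0) := by
  haveI := isCommMonObj_of_isProper_of_geometricallyIntegral A
  haveI : Smooth A.hom := by
    haveI : GrpObj (Over.mk A.hom) := inferInstanceAs (GrpObj A)
    exact smooth_of_grpObj A.hom
  refine ⟨fun hEt hd => ?_, fun hd => Groth.Agent.H19Grp.etale_zpow_field A d hd⟩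
  have htriv : ∀ x : Groth.Agent.H19Grp.TangentPow.sqz K K ⟶ A,
      Groth.Agent.H19Grp.TangentPow.red K K ≫ x = 1 → x = 1 := by
    intro x hx
    have h1 : x ≫ (𝟙 A ^ d) = (1 : Groth.Agent.H19Grp.TangentPow.sqz K K ⟶ A) ≫ (𝟙 A ^ d) := by
      rw [GrpObj.comp_zpow, GrpObj.comp_zpow, Category.comp_id, Category.comp_id, one_zpow,
        ← Groth.Agent.H19Grp.TangentPow.scale_intCast hx, hd,
        Groth.Agent.H19Grp.TangentPow.scale_zero hx]
    have h2 : Groth.Agent.H19Grp.TangentPow.red K K ≫ x =
        Groth.Agent.H19Grp.TangentPow.red K K ≫ (1 : Groth.Agent.H19Grp.TangentPow.sqz K K ⟶ A) := by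
      rw [hx, MonObj.comp_one]
    haveI : Surjective (Groth.Agent.H19Grp.TangentPow.red K K).left := by
      refine ⟨fun y => ⟨IsLocalRing.closedPoint K, ?_⟩⟩
      refine PrimeSpectrum.ext (Ideal.ext fun (a : TrivSqZeroExt K K) => ?_)
      show TrivSqZeroExt.fst a ∈ IsLocalRing.maximalIdeal K ↔ a ∈ y.asIdeal
      rw [IsLocalRing.maximalIdeal_eq_bot, Ideal.mem_bot]
      refine ⟨fun ha => y.isPrime.mem_of_pow_mem 2 ?_, fun ha => by_contra fun h0 => ?_⟩
      · have h00 : a ^ 2 = 0 := by
          refine TrivSqZeroExt.ext ?_ ?_ <;> simp [pow_two, ha]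
        exact h00 ▸ Ideal.zero_mem _
      · exact y.isPrime.ne_top (Ideal.eq_top_of_isUnit_mem _ ha
          (TrivSqZeroExt.isUnit_iff_isUnit_fst.mpr (isUnit_iff_ne_zero.mpr h0)))
    haveI : LocallyOfFiniteType ((𝟙 A ^ d : A ⟶ A).left) := inferInstance
    exact Over.OverMorphism.ext (Groth.Agent.H06Unram.hom_ext_of_surjective (𝟙 A ^ d : A ⟶ A).left
      (Groth.Agent.H19Grp.TangentPow.red K K).left x.left _
      (congrArg (·.left) h1) (congrArg (·.left) h2))
  have hF : IsField (A.left.presheaf.stalk ((η[A]).left (IsLocalRing.closedPoint K))) := by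
    refine Groth.Agent.H19Grp.isField_stalk_of_tangent_trivial A.hom (η[A]).left (Over.w η[A])
      fun x hx1 hx2 => ?_
    let xg : Groth.Agent.H19Grp.TangentPow.sqz K K ⟶ A := Over.homMk x hx1
    have hr : Groth.Agent.H19Grp.TangentPow.red K K ≫ xg = 1 := by
      refine Over.OverMorphism.ext ?_
      rw [Groth.Agent.H19Grp.one_left]
      exact hx2.trans (Category.id_comp _).symm
    exact (congrArg (·.left) (htriv xg hr)).trans (Groth.Agent.H19Grp.one_left _)
  haveI : LocallyOfFiniteType (Groth.Agent.H19Grp.grpToGrpd A).s :=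
    inferInstanceAs (LocallyOfFiniteType A.hom)
  haveI : LocallyOfFiniteType (Groth.Agent.H19Grp.grpToGrpd A).t :=
    inferInstanceAs (LocallyOfFiniteType A.hom)
  have h0 : topologicalKrullDim A.left = 0 := by
    refine (Groth.Agent.H19Grp.ringKrullDim_stalk_ePt (Groth.Agent.H19Grp.grpToGrpd A)
      (Iso.refl _)).symm.trans ?_
    exact ringKrullDim_eq_zero_of_isField hF
  rw [h0] at hA
  exact lt_irrefl _ hA

end Groth.Agent.S0382
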