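-- statement FlatMor.GrothFrozen.S0392 (Groth/Statements/S0392.lean; the theorem FlatMor.fibre_criterion_flatness_local);
import Groth.Statements.S0392
import Groth.Agent.H7Flat.FibreCriterion

set_option autoImplicit false
universe u
open FlatMor

namespace Groth.Agent.S0392

open TensorProduct in
/-- Fibrewise criterion of flatness, Noetherian local form: for local homomorphisms R → S → S' of
Noetherian local rings and a nonzero finite S'-module M that is flat over R and whose reduction
modulo the maximal ideal of R is flat over the corresponding fibre ring of S, the ring S is flat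
over R and M is flat over S. -/
theorem result {R S S' M : Type u} [CommRing R] [CommRing S] [CommRing S'] [IsLocalRing R] [IsLocalRing S] [IsLocalRing S']
    [IsNoetherianRing R] [IsNoetherianRing S] [IsNoetherianRing S'] [Algebra R S] [Algebra S S'] [Algebra R S'] [IsScalarTower R S S']
    [IsLocalHom (algebraMap R S)] [IsLocalHom (algebraMap S S')]
    [AddCommGroup M] [Module S' M] [Module S M] [Module R M] [IsScalarTower S S' M] [IsScalarTower R S M]
    [Module.Finite S' M] [Nontrivial M] [Module.Flat R M]
    (h : Module.Flat (S ⧸ ((IsLocalRing.maximalIdeal R).map (algebraMap R S))) ((S ⧸ ((IsLocalRing.maximalIdeal R).map (algebraMap R S))) ⊗[S] M)) :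
    Module.Flat R S ∧ Module.Flat S M := by
  have : Module.Flat S M := Groth.Agent.H7Flat.flat_of_injective_of_flat_quotient (S := S')
    ((IsLocalRing.maximalIdeal R).map (algebraMap R S))
    (ne_top_of_le_ne_top (IsLocalRing.maximalIdeal.isMaximal S).ne_top
      (Ideal.map_le_iff_le_comap.mpr fun r hr ↦
        Ideal.mem_comap.mpr <| (IsLocalRing.mem_maximalIdeal _).mpr fun hu ↦
          (IsLocalRing.mem_maximalIdeal _).mp hr (isUnit_of_map_unit (algebraMap R S) r hu)))
    (Groth.Agent.H7Flat.lTensor_map_injective _)
  have : Module.FaithfullyFlat S M := Groth.Agent.H7Flat.faithfullyFlat_of_flat (S' := S')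
  exact ⟨Groth.Agent.H7Flat.flat_of_faithfullyFlat (M := M), ‹_›⟩

end Groth.Agent.S0392
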