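-- statement FlatMor.GrothFrozen.S0394 (Groth/Statements/S0394.lean; the theorem FlatMor.free_and_flat_of_free_fibre);
import Groth.Statements.S0394
import Groth.Agent.H7Flat.InjectiveModMax
import Mathlib.RingTheory.Nakayama

set_option autoImplicit false
universe u
open FlatMor

namespace Groth.Agent.S0394

open TensorProduct in
/-- For a local homomorphism R → S of Noetherian local rings and a nonzero finite S-module M flat over R
whose fibre M/mM is free over S/mS (m the maximal ideal of R), M is free over S and S is flat over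
R. -/
theorem result {R S M : Type u} [CommRing R] [CommRing S] [IsLocalRing R] [IsLocalRing S] [IsNoetherianRing R] [IsNoetherianRing S] [Algebra R S] [IsLocalHom (algebraMap R S)]
    [AddCommGroup M] [Module R M] [Module S M] [IsScalarTower R S M] [Module.Finite S M] [Nontrivial M] [Module.Flat R M]
    (h : Module.Free (S ⧸ ((IsLocalRing.maximalIdeal R).map (algebraMap R S))) ((S ⧸ ((IsLocalRing.maximalIdeal R).map (algebraMap R S))) ⊗[S] M)) :
    Module.Free S M ∧ Module.Flat R S := by
  classical
  set m := IsLocalRing.maximalIdeal R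
  set Q := S ⧸ m.map (algebraMap R S)
  have hne : m.map (algebraMap R S) ≤ IsLocalRing.maximalIdeal S :=
    Ideal.map_le_iff_le_comap.mpr fun r hr ↦
      Ideal.mem_comap.mpr <| (IsLocalRing.mem_maximalIdeal _).mpr fun hu ↦
        (IsLocalRing.mem_maximalIdeal _).mp hr (isUnit_of_map_unit (algebraMap R S) r hu)
  have : Nontrivial Q := Ideal.Quotient.nontrivial_iff.mpr
    (ne_top_of_le_ne_top (IsLocalRing.maximalIdeal.isMaximal S).ne_top hne)
  let ι := Module.Free.ChooseBasisIndex Q (Q ⊗[S] M)
  let b : Module.Basis ι Q (Q ⊗[S] M) := Module.Free.chooseBasis Q (Q ⊗[S] M)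
  choose c hc using fun i ↦ TensorProduct.mk_surjective S M Q Ideal.Quotient.mk_surjective (b i)
  let φ : (ι → S) →ₗ[S] M := Fintype.linearCombination S c
  have hφ (x : ι → S) : (1 : Q) ⊗ₜ[S] φ x = ∑ i, Ideal.Quotient.mk (m.map (algebraMap R S)) (x i) • b i := by
    simp only [φ, Fintype.linearCombination_apply, TensorProduct.tmul_sum]
    exact Finset.sum_congr rfl fun i _ ↦ by
      rw [← hc i, ← TensorProduct.smul_tmul]
      simp [TensorProduct.smul_tmul', Algebra.smul_def]
      rfl
  have hsm (N : Type u) [AddCommGroup N] [Module R N] [Module S N] [IsScalarTower R S N] (x : N) :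
      x ∈ m • (⊤ : Submodule R N) ↔ x ∈ m.map (algebraMap R S) • (⊤ : Submodule S N) := by
    rw [← Submodule.restrictScalars_top R S N, ← Ideal.smul_restrictScalars,
      Submodule.restrictScalars_mem]
  have hzero (y : M) : (1 : Q) ⊗ₜ[S] y = 0 ↔ y ∈ m.map (algebraMap R S) • (⊤ : Submodule S M) := by
    rw [← LinearEquiv.map_eq_zero_iff (TensorProduct.quotTensorEquivQuotSMul M _)]
    change TensorProduct.quotTensorEquivQuotSMul M _ ((Ideal.Quotient.mk _ 1) ⊗ₜ[S] y) = 0 ↔ _
    rw [TensorProduct.quotTensorEquivQuotSMul_mk_tmul, Submodule.Quotient.mk_eq_zero, one_smul]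
  have hsurj : Function.Surjective φ := by
    rw [← LinearMap.range_eq_top]
    refine top_le_iff.mp (Submodule.le_of_le_smul_of_le_jacobson_bot (Module.Finite.fg_top)
      (hne.trans (IsLocalRing.maximalIdeal_le_jacobson _)) fun y _ ↦ ?_)
    choose r hr using fun i ↦ Ideal.Quotient.mk_surjective (b.repr ((1 : Q) ⊗ₜ[S] y) i)
    have hyr : (1 : Q) ⊗ₜ[S] φ r = (1 : Q) ⊗ₜ[S] y := by
      rw [hφ]; simp_rw [hr]; exact b.sum_repr _
    refine Submodule.mem_sup.mpr ⟨φ r, ⟨r, rfl⟩, y - φ r, ?_, add_sub_cancel _ _⟩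
    rw [← hzero, TensorProduct.tmul_sub, hyr, sub_self]
  obtain ⟨hinj, -⟩ := Groth.Agent.H7Flat.injective_and_flat_quotient (S := S) (φ.restrictScalars R)
    (Groth.Agent.H7Flat.lTensor_residueField_injective _ fun x hx ↦ by
      rw [hsm, ← hzero] at hx
      rw [LinearMap.restrictScalars_apply, hφ] at hx
      rw [hsm, pi_eq_sum_univ x]
      refine Submodule.sum_mem _ fun i _ ↦ Submodule.smul_mem_smul ?_ trivial
      exact Ideal.Quotient.eq_zero_iff_mem.mp (Fintype.linearIndependent_iff.mp b.linearIndependent _ hx i))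
  let e := LinearEquiv.ofBijective φ ⟨hinj, hsurj⟩
  refine ⟨Module.Free.of_equiv e, ?_⟩
  obtain ⟨i⟩ : Nonempty ι := by
    by_contra hι
    rw [not_nonempty_iff] at hι
    have : Subsingleton M := e.symm.injective.subsingleton
    exact not_subsingleton M this
  exact Module.Flat.of_retract (M := M) ((e.toLinearMap ∘ₗ LinearMap.single S (fun _ ↦ S) i).restrictScalars R)
    ((LinearMap.proj i ∘ₗ e.symm.toLinearMap).restrictScalars R) (by ext; simp)

end Groth.Agent.S0394
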