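-- statement FlatMor.GrothFrozen.S0395 (Groth/Statements/S0395.lean; the theorem FlatMor.quotient_flat_of_nonzerodivisor_in_fibre);
import Groth.Statements.S0395
import Groth.Agent.H7Flat.InjectiveModMax

set_option autoImplicit false
universe u
open FlatMor

namespace Groth.Agent.S0395

open TensorProduct nonZeroDivisors in
/-- For a flat local homomorphism R → S of Noetherian local rings and an element f of S that is regular
on the fibre ring S/mS, the quotient of S by f is again R-flat and f is regular on S. -/
theorem result {R S : Type u} [CommRing R] [CommRing S] [IsLocalRing R] [IsLocalRing S] [IsNoetherianRing R] [IsNoetherianRing S] [Algebra R S] [IsLocalHom (algebraMap R S)] [Module.Flat R S]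
    (f : S) (hf : Ideal.Quotient.mk ((IsLocalRing.maximalIdeal R).map (algebraMap R S)) f ∈ nonZeroDivisors (S ⧸ ((IsLocalRing.maximalIdeal R).map (algebraMap R S)))) :
    Module.Flat R (S ⧸ Ideal.span {f}) ∧ f ∈ nonZeroDivisors S := by
  let u : S →ₗ[R] S := LinearMap.mulLeft R f
  set m := IsLocalRing.maximalIdeal R
  have hm (x : S) : x ∈ m • (⊤ : Submodule R S) ↔ x ∈ m.map (algebraMap R S) := by
    rw [Ideal.smul_top_eq_map]; rfl
  have hu : Function.Injective (u.lTensor (IsLocalRing.ResidueField R)) :=
    Groth.Agent.H7Flat.lTensor_residueField_injective u fun x hx ↦ by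
      rw [hm, ← Ideal.Quotient.eq_zero_iff_mem] at hx ⊢
      simp only [u, LinearMap.mulLeft_apply, map_mul] at hx
      exact (mul_left_mem_nonZeroDivisors_eq_zero_iff hf).mp hx
  obtain ⟨hinj, hflat⟩ := Groth.Agent.H7Flat.injective_and_flat_quotient (S := S) u hu
  refine ⟨?_, ?_⟩
  · have e : LinearMap.range u = (Ideal.span {f}).restrictScalars R := by
      ext x
      simp [u, Ideal.mem_span_singleton, dvd_iff_exists_eq_mul_right, eq_comm]
    exact Module.Flat.of_linearEquiv ((Submodule.Quotient.restrictScalarsEquiv R
      (Ideal.span {f})).symm ≪≫ₗ Submodule.quotEquivOfEq _ _ e.symm)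
  · rw [mem_nonZeroDivisors_iff_right]
    intro x hx
    exact hinj (a₁ := x) (a₂ := 0) (by simpa [u, mul_comm] using hx)

end Groth.Agent.S0395
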