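-- statement FlatMor.GrothFrozen.S0397 (Groth/Statements/S0397.lean; the theorem FlatMor.free_of_flat_of_nilpotent_maximal_ideal);
import Groth.Statements.S0397
import Groth.Agent.H3CAlg.ArtinFlat

set_option autoImplicit false
universe u
open FlatMor

namespace Groth.Agent.S0397

/-- Over a local ring whose maximal ideal is nilpotent, every flat module (not necessarily finitely
generated) is free. -/
theorem result {R M : Type u} [CommRing R] [IsLocalRing R] (hR : IsNilpotent (IsLocalRing.maximalIdeal R))
    [AddCommGroup M] [Module R M] [Module.Flat R M] : Module.Free R M := by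
  classical
  set k := IsLocalRing.ResidueField R
  have hmk : Function.Surjective (algebraMap R k) := Ideal.Quotient.mk_surjective
  let b := Module.Basis.ofVectorSpace k (TensorProduct R k M)
  choose c hc using fun i => TensorProduct.mk_surjective R M k hmk (b i)
  let φ := Finsupp.linearCombination R c
  let bF := Algebra.TensorProduct.basis k (Finsupp.basisSingleOne (R := R)
    (ι := Module.Basis.ofVectorSpaceIndex k (TensorProduct R k M)))
  have heq : φ.baseChange k = (bF.equiv b (Equiv.refl _)).toLinearMap := by
    refine bF.ext fun i => ?_
    rw [LinearEquiv.coe_coe, Module.Basis.equiv_apply, Equiv.refl_apply, ← hc i]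
    simp [bF, φ]
  have hb : Function.Bijective (φ.baseChange k) := by
    rw [heq]; exact (bF.equiv b (Equiv.refl _)).bijective
  have hs := Groth.Agent.H3CAlg.surjective_of_lTensor_quot (IsLocalRing.maximalIdeal R) hR φ hb.2
  have hi := Groth.Agent.H3CAlg.injective_of_surjective_of_lTensor_quot
    (IsLocalRing.maximalIdeal R) hR φ hs hb.1
  exact Module.Free.of_equiv (LinearEquiv.ofBijective φ ⟨hi, hs⟩)

end Groth.Agent.S0397
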