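-- statement FlatMor.GrothFrozen.S0398 (Groth/Statements/S0398.lean; the theorem FlatMor.flat_of_baseChange_flat_of_injective_artinian);
import Groth.Statements.S0398
import Groth.Agent.H7Flat.InjectiveModMax
import Groth.Agent.H3CAlg.ArtinFlat
import Mathlib.RingTheory.Flat.Stability
import Mathlib.RingTheory.Localization.BaseChange
import Mathlib.RingTheory.Localization.AtPrime.Basic
import Mathlib.RingTheory.LocalRing.Basic

set_option autoImplicit false
universe u
open FlatMor

namespace Groth.Agent.S0398

open TensorProduct

/-- The local case. -/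
lemma free_of_flat_baseChange {R S M : Type u} [CommRing R] [CommRing S] [IsArtinianRing R]
    [IsLocalRing R] [Algebra R S] (hinj : Function.Injective (algebraMap R S)) [AddCommGroup M]
    [Module R M] [Module.Flat S (S ⊗[R] M)] : Module.Free R M := by
  classical
  set k := IsLocalRing.ResidueField R
  have hR : IsNilpotent (IsLocalRing.maximalIdeal R) := Groth.Agent.H3CAlg.isNilpotent_maximalIdeal
  have hmk : Function.Surjective (algebraMap R k) := Ideal.Quotient.mk_surjective
  let b := Module.Basis.ofVectorSpace k (k ⊗[R] M)
  choose c hc using fun i => TensorProduct.mk_surjective R M k hmk (b i)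
  let φ := Finsupp.linearCombination R c
  let bF := Algebra.TensorProduct.basis k (Finsupp.basisSingleOne (R := R)
    (ι := Module.Basis.ofVectorSpaceIndex k (k ⊗[R] M)))
  have heq : φ.baseChange k = (bF.equiv b (Equiv.refl _)).toLinearMap := by
    refine bF.ext fun i => ?_
    rw [LinearEquiv.coe_coe, Module.Basis.equiv_apply, Equiv.refl_apply, ← hc i]
    simp [bF, φ]
  have hb : Function.Bijective (φ.baseChange k) := by
    rw [heq]; exact (bF.equiv b (Equiv.refl _)).bijective
  have hs := Groth.Agent.H3CAlg.surjective_of_lTensor_quot (IsLocalRing.maximalIdeal R) hR φ hb.2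
  let J := (IsLocalRing.maximalIdeal R).map (algebraMap R S)
  have hJ : IsNilpotent J := by
    obtain ⟨n, hn⟩ := hR
    exact ⟨n, by rw [← Ideal.map_pow, hn]; simp⟩
  have htor : Module.IsTorsionBySet R (S ⧸ J) (IsLocalRing.maximalIdeal R : Set R) := by
    intro q r
    obtain ⟨s, rfl⟩ := Ideal.Quotient.mk_surjective q
    rw [Algebra.smul_def, IsScalarTower.algebraMap_apply R S (S ⧸ J), Ideal.Quotient.algebraMap_eq,
      ← map_mul]
    exact Ideal.Quotient.eq_zero_iff_mem.mpr (Ideal.mul_mem_right _ _ (Ideal.mem_map_of_mem _ r.2))
  let _ : Module k (S ⧸ J) := htor.module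
  have : IsScalarTower R k (S ⧸ J) := htor.isScalarTower (S := R)
  have hQ : Function.Injective (φ.lTensor (S ⧸ J)) :=
    (LinearMap.lTensor_inj_iff_rTensor_inj (S ⧸ J) φ).mpr
      (Groth.Agent.H7Flat.rTensor_injective_of_lTensor_injective φ hb.1 (S ⧸ J))
  have hbc : Function.Injective (φ.baseChange S) := by
    refine Groth.Agent.H3CAlg.injective_of_surjective_of_lTensor_quot J hJ (φ.baseChange S)
      (LinearMap.lTensor_surjective S hs) ?_
    let e (A : Type u) [AddCommGroup A] [Module R A] :=
      AlgebraTensorModule.cancelBaseChange R S S (S ⧸ J) A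
    have key : ∀ z, e M ((φ.baseChange S).lTensor (S ⧸ J) z) = φ.lTensor (S ⧸ J) (e _ z) := by
      intro z
      induction z with
      | zero => simp
      | tmul a z =>
        induction z with
        | zero => simp
        | tmul s x => simp [e]
        | add a b ha hb => simp only [tmul_add, map_add, ha, hb]
      | add a b ha hb => simp only [map_add, ha, hb]
    intro x y hxy
    have := congrArg (e M) hxy
    rw [key, key] at this
    exact (e _).injective (hQ this)
  refine Module.Free.of_equiv (LinearEquiv.ofBijective φ ⟨?_, hs⟩)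
  intro x y hxy
  have h1 : Function.Injective fun x : (Module.Basis.ofVectorSpaceIndex k (k ⊗[R] M) →₀ R) ↦
      (1 : S) ⊗ₜ[R] x := by
    intro x y h
    have := Module.Flat.rTensor_preserves_injective_linearMap
      (M := Module.Basis.ofVectorSpaceIndex k (k ⊗[R] M) →₀ R) (Algebra.linearMap R S) hinj
      (a₁ := (1 : R) ⊗ₜ x) (a₂ := (1 : R) ⊗ₜ y) (by simpa using h)
    simpa using congrArg (TensorProduct.lid R _) this
  exact h1 (hbc (by simp [hxy]))

open TensorProduct in
/-- For an injective ring map R → S with R Artinian and an R-module M, if S ⊗ M is flat over S then M is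
flat over R. -/
theorem result {R S M : Type u} [CommRing R] [CommRing S] [IsArtinianRing R] [Algebra R S] (hinj : Function.Injective (algebraMap R S))
    [AddCommGroup M] [Module R M] [Module.Flat S (S ⊗[R] M)] : Module.Flat R M := by
  refine Module.flat_of_localized_maximal M fun P _ ↦ ?_
  let R' := Localization.AtPrime P
  let N := Algebra.algebraMapSubmonoid S P.primeCompl
  let S' := Localization N
  let _ : Algebra R' S' := localizationAlgebra P.primeCompl S
  have : IsScalarTower R R' S' := IsScalarTower.of_algebraMap_eq' (by
    rw [localizationAlgebraMap_def, IsLocalization.map_comp, IsScalarTower.algebraMap_eq R S S'])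
  have hinj' : Function.Injective (algebraMap R' S') :=
    localizationAlgebra_injective (M := P.primeCompl) R' S' hinj
  have : Module.Flat S' (S' ⊗[R'] (R' ⊗[R] M)) :=
    Module.Flat.of_linearEquiv (R := S')
      (AlgebraTensorModule.cancelBaseChange R R' S' S' M ≪≫ₗ
        (AlgebraTensorModule.cancelBaseChange R S S' S' M).symm)
  have := free_of_flat_baseChange (M := R' ⊗[R] M) hinj'
  have : Module.Flat R (R' ⊗[R] M) := (Module.flat_iff_of_isLocalization R' P.primeCompl _).mp inferInstance
  exact Module.Flat.of_linearEquiv (IsLocalizedModule.linearEquiv P.primeCompl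
    (LocalizedModule.mkLinearMap P.primeCompl M) (TensorProduct.mk R R' M 1))

end Groth.Agent.S0398
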