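-- statement FlatMor.GrothFrozen.S0399 (Groth/Statements/S0399.lean; the theorem FlatMor.flat_of_flat_away_and_flat_quotient);
import Groth.Statements.S0399
import Groth.Agent.H7Flat.FibreCriterion
import Mathlib.RingTheory.Flat.Localization
import Mathlib.RingTheory.Localization.Away.Basic
import Mathlib.LinearAlgebra.DirectSum.Finsupp

set_option autoImplicit false
universe u
open FlatMor

namespace Groth.Agent.S0399

open TensorProduct in
/-- For a ring A, a module M and an element f that is a nonzerodivisor on A and on M, if M_f is flat
over A_f and M/fM is flat over A/fA then M is flat over A (the source's companion statement for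
faithful flatness is not stated). -/
theorem result {A M : Type u} [CommRing A] [AddCommGroup M] [Module A M] (f : A) (hA : f ∈ nonZeroDivisors A) (hM : IsSMulRegular M f)
    [Module.Flat (Localization.Away f) (LocalizedModule (Submonoid.powers f) M)]
    [Module.Flat (A ⧸ Ideal.span {f}) ((A ⧸ Ideal.span {f}) ⊗[A] M)] : Module.Flat A M := by
  classical
  let J := Ideal.span {f}
  have hreg : ∀ (I : Ideal A) (x : M ⊗[A] I), f • x = 0 → x = 0 := by
    intro I x hx
    let π : (I →₀ A) →ₗ[A] I := Finsupp.linearCombination A id
    have hπ : Function.Surjective π := Finsupp.linearCombination_id_surjective A I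
    let K := LinearMap.ker π
    have hexπ : Function.Exact K.subtype π := π.exact_subtype_ker_map
    have hexπ' := @lTensor_exact A K (I →₀ A) I _ _ _ _ _ _ _ K.subtype π M _ _ hexπ hπ
    let q : K →ₗ[A] (I →₀ A) ⧸ (J • ⊤ : Submodule A (I →₀ A)) := (J • ⊤ : Submodule A _).mkQ ∘ₗ K.subtype
    have hex : Function.Exact (LinearMap.lsmul A K f) q.rangeRestrict := by
      intro z
      refine ⟨fun hz ↦ ?_, ?_⟩
      · have hz' := (Submodule.Quotient.mk_eq_zero _).mp (congrArg Subtype.val hz)
        rw [Submodule.ideal_span_singleton_smul, Submodule.mem_smul_pointwise_iff_exists] at hz'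
        obtain ⟨w, -, hw⟩ := hz'
        have hfw : f • π w = 0 := by rw [← map_smul]; exact (congrArg π hw).trans z.2
        have hw0 : π w = 0 := Subtype.ext
          ((mem_nonZeroDivisors_iff_right.mp hA) _ (by
            rw [mul_comm]; exact congrArg Subtype.val hfw))
        exact ⟨⟨w, hw0⟩, Subtype.ext hw⟩
      · rintro ⟨w, rfl⟩
        exact Subtype.ext ((Submodule.Quotient.mk_eq_zero _).mpr
          (Submodule.smul_mem_smul (Ideal.mem_span_singleton_self f) Submodule.mem_top))
    have hex' := @lTensor_exact A K K (LinearMap.range q) _ _ _ _ _ _ _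
      (LinearMap.lsmul A K f) q.rangeRestrict M _ _ hex q.surjective_rangeRestrict
    obtain ⟨y, rfl⟩ := LinearMap.lTensor_surjective M hπ x
    obtain ⟨z, hz⟩ := (hexπ' (f • y)).mp (by rw [map_smul]; exact hx)
    have : Module.Flat (A ⧸ J) ((A ⧸ J) ⊗[A] M) := ‹_›
    obtain ⟨z', rfl⟩ := (hex' z).mp
      (Groth.Agent.H7Flat.lTensor_subtype_injective_of_flat_quotient (M := M)
        (Q := (I →₀ A) ⧸ (J • ⊤ : Submodule A (I →₀ A))) J (LinearMap.range q) (by
      rw [map_zero, ← LinearMap.lTensor_comp_apply,
        show (LinearMap.range q).subtype ∘ₗ q.rangeRestrict =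
          (J • ⊤ : Submodule A (I →₀ A)).mkQ ∘ₗ K.subtype from rfl,
        LinearMap.lTensor_comp_apply, hz]
      have key : ∀ u : M ⊗[A] (I →₀ A),
          (J • ⊤ : Submodule A (I →₀ A)).mkQ.lTensor M (f • u) = 0 := by
        intro u
        induction u with
        | zero => simp
        | tmul m w =>
          rw [← TensorProduct.tmul_smul, LinearMap.lTensor_tmul, Submodule.mkQ_apply,
            (Submodule.Quotient.mk_eq_zero _).mpr
              (Submodule.smul_mem_smul (Ideal.mem_span_singleton_self f) Submodule.mem_top),
            TensorProduct.tmul_zero]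
        | add a b ha hb => rw [smul_add, map_add, ha, hb, add_zero]
      exact key y))
    have hreg' : Function.Injective fun u : M ⊗[A] (I →₀ A) ↦ f • u := by
      intro u v huv
      apply (TensorProduct.finsuppScalarRight A A M I).injective
      ext i
      refine hM ?_
      have := congrArg (fun t ↦ TensorProduct.finsuppScalarRight A A M I t i) huv
      simpa using this
    have hy : y = K.subtype.lTensor M z' := hreg' (by
      simp only [← hz]
      have key : ∀ u : M ⊗[A] K, K.subtype.lTensor M ((LinearMap.lsmul A K f).lTensor M u) =
          f • K.subtype.lTensor M u := by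
        intro u
        induction u with
        | zero => simp
        | tmul m w => simp [TensorProduct.tmul_smul]
        | add a b ha hb => simp only [map_add, smul_add, ha, hb]
      exact key z')
    rw [hy, ← LinearMap.lTensor_comp_apply, show π ∘ₗ K.subtype = 0 from LinearMap.ext fun w ↦ w.2,
      LinearMap.lTensor_zero, LinearMap.zero_apply]
  rw [Module.Flat.iff_lTensor_injective']
  intro I
  rw [injective_iff_map_eq_zero]
  intro x hx
  let g := LocalizedModule.mkLinearMap (Submonoid.powers f) M
  have : Module.Flat A (LocalizedModule (Submonoid.powers f) M) :=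
    (Module.flat_iff_of_isLocalization (Localization.Away f) (Submonoid.powers f) _).mp ‹_›
  have hgx : AlgebraTensorModule.rTensor A I g x = 0 := by
    refine Module.Flat.lTensor_preserves_injective_linearMap (M := LocalizedModule (Submonoid.powers f) M)
      I.subtype Subtype.val_injective ?_
    rw [map_zero]
    change I.subtype.lTensor _ (g.rTensor I x) = 0
    rw [← LinearMap.comp_apply, LinearMap.lTensor_comp_rTensor, ← LinearMap.rTensor_comp_lTensor,
      LinearMap.comp_apply, hx, map_zero]
  obtain ⟨⟨_, n, rfl⟩, hn⟩ :=
    (IsLocalizedModule.eq_zero_iff (Submonoid.powers f) (AlgebraTensorModule.rTensor A I g)).mp hgx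
  replace hn : f ^ n • x = 0 := hn
  clear hx hgx
  induction n generalizing x with
  | zero => simpa using hn
  | succ n ih => exact hreg I x (ih (f • x) (by rwa [smul_smul, ← pow_succ]))

end Groth.Agent.S0399
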