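-- statement FlatMor.GrothFrozen.S0401 (Groth/Statements/S0401.lean; the theorem FlatMor.dim_le_dim_base_of_quasiFiniteAt);
import Groth.Statements.S0401
import Mathlib.RingTheory.QuasiFinite.Basic
import Mathlib.RingTheory.KrullDimension.Basic

set_option autoImplicit false
universe u
open FlatMor

namespace Groth.Agent.S0401

/-- For a finite type ring map R → S quasi-finite at a prime q lying over p, the dimension of S_q is at
most the dimension of R_p. -/
theorem result {R S : Type u} [CommRing R] [CommRing S] [Algebra R S] [Algebra.FiniteType R S] (q : Ideal S) [q.IsPrime] [Algebra.QuasiFiniteAt R q] :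
    ringKrullDim (Localization.AtPrime q) ≤ ringKrullDim (Localization.AtPrime (q.under R)) := by
  let p := q.under R
  refine Order.krullDim_le_of_strictMono
    (PrimeSpectrum.comap (Localization.localRingHom p q (algebraMap R S) rfl)) fun P Q hPQ => ?_
  refine lt_of_le_of_ne (Ideal.comap_mono hPQ.le) fun h => ?_
  have hle : P.asIdeal.under S ≤ Q.asIdeal.under S := Ideal.comap_mono hPQ.le
  have hQq : Q.asIdeal.under S ≤ q :=
    (Ideal.comap_mono (IsLocalRing.le_maximalIdeal Q.2.ne_top)).trans (le_of_eq Localization.AtPrime.under_maximalIdeal)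
  haveI := Algebra.QuasiFiniteAt.of_le (R := R) hQq
  have e : ∀ T : PrimeSpectrum (Localization.AtPrime q), (T.asIdeal.under S).under R =
      (PrimeSpectrum.comap (Localization.localRingHom p q (algebraMap R S) rfl) T).asIdeal.under R := fun T => by
    refine Ideal.ext fun r => ?_
    show algebraMap S (Localization.AtPrime q) (algebraMap R S r) ∈ T.asIdeal ↔
      Localization.localRingHom p q (algebraMap R S) rfl (algebraMap R (Localization.AtPrime p) r) ∈ T.asIdeal
    rw [Localization.localRingHom_to_map]
  have h2 : P.asIdeal.under S = Q.asIdeal.under S :=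
    Algebra.QuasiFiniteAt.eq_of_le_of_under_eq (R := R) hle (by rw [e, e, h])
  refine hPQ.ne (PrimeSpectrum.ext ?_)
  rw [← IsLocalization.map_under q.primeCompl (Localization.AtPrime q) P.asIdeal,
    ← IsLocalization.map_under q.primeCompl (Localization.AtPrime q) Q.asIdeal]
  exact congrArg _ h2

end Groth.Agent.S0401
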