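-- statement FlatMor.GrothFrozen.S0407 (Groth/Statements/S0407.lean; the theorem FlatMor.universally_injective_of_injective_mod_maximal);
import Groth.Statements.S0407
import Groth.Agent.H7Flat.ModMax

set_option autoImplicit false
universe u
open FlatMor

namespace Groth.Agent.S0407

open TensorProduct in
/-- For a local homomorphism A → B essentially of finite type, a flat A-module M, a finite B-module N
and an A-linear map u from N to M that is injective modulo the maximal ideal of A: u is universally
injective over A, N is finitely presented over B and N is flat over A (no Noetherian hypothesis). -/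
theorem result {A B M N : Type u} [CommRing A] [CommRing B] [IsLocalRing A] [IsLocalRing B] [Algebra A B] [IsLocalHom (algebraMap A B)] [Algebra.EssFiniteType A B]
    [AddCommGroup M] [Module A M] [Module.Flat A M]
    [AddCommGroup N] [Module A N] [Module B N] [IsScalarTower A B N] [Module.Finite B N]
    (u : N →ₗ[A] M) (h : Function.Injective (LinearMap.lTensor (IsLocalRing.ResidueField A) u)) :
    (∀ (Q : Type u) [AddCommGroup Q] [Module A Q], Function.Injective (LinearMap.rTensor Q u)) ∧
      Module.FinitePresentation B N ∧ Module.Flat A N := by
  refine H7Flat.ModMax.main (B := B) u fun x hx => ?_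
  have h1 : u.lTensor (A ⧸ IsLocalRing.maximalIdeal A) ((1 : A ⧸ IsLocalRing.maximalIdeal A) ⊗ₜ x) = 0 := by
    rw [LinearMap.lTensor_tmul, ← TensorProduct.quotTensorEquivQuotSMul_symm_mk, LinearEquiv.map_eq_zero_iff,
      Submodule.Quotient.mk_eq_zero]
    exact hx
  have h' : Function.Injective (u.lTensor (A ⧸ IsLocalRing.maximalIdeal A)) := h
  have h2 := h' (h1.trans (map_zero _).symm)
  rwa [← TensorProduct.quotTensorEquivQuotSMul_symm_mk, LinearEquiv.map_eq_zero_iff,
    Submodule.Quotient.mk_eq_zero] at h2

end Groth.Agent.S0407
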