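import Groth.Statements.S0413
import Groth.Agent.H8Props.SliceTools.Scheme
import Groth.Agent.H8Props.FibreStalk
import Groth.Agent.H19Grp.RegularSmooth
import Groth.Agent.H9Hens.StalkUnramified
import Groth.Agent.H7Flat.EtaleSlice

set_option backward.isDefEq.respectTransparency false

set_option autoImplicit false
universe u
open FlatMor

namespace Groth.Agent.S0413

open AlgebraicGeometry CategoryTheory Limits in
/-- For a smooth morphism and a point that is closed in its fibre with separable residue field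
extension, there is a locally closed subscheme through the point which is étale over the base and
meets the fibre only in that point. -/
theorem result {X S : Scheme.{u}} (f : X ⟶ S) [Smooth f] (x : X)
    (hcl : IsClosed ({f.asFiber x} : Set ↑(f.fiber (f x))))
    (hsep : @Algebra.IsSeparable (S.residueField (f x)) (X.residueField x) _ _ (f.residueFieldMap x).hom.toAlgebra) :
    ∃ (Z : Scheme.{u}) (i : Z ⟶ X) (z : Z), IsImmersion i ∧ Etale (i ≫ f) ∧ i z = x ∧
      ∀ z' : ↑Z, f (i z') = f x → z' = z := by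
  let I := Ideal.map (f.stalkMap x).hom (IsLocalRing.maximalIdeal (S.presheaf.stalk (f x)))
  let e := Groth.Agent.H8Props.FibreStalk.asFiberStalkEquiv f x
  haveI : Smooth (f.fiberToSpecResidueField (f x)) :=
    MorphismProperty.pullback_snd (P := @Smooth) _ _ inferInstance
  haveI : IsRegularLocalRing ((f.fiber (f x)).presheaf.stalk (f.asFiber x)) :=
    Groth.Agent.H19Grp.isRegularLocalRing_stalk_of_smooth (k := S.residueField (f x)) (f.fiberToSpecResidueField (f x)) _
  haveI : IsRegularLocalRing (X.presheaf.stalk x ⧸ I) := IsRegularLocalRing.of_ringEquiv e.symm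
  obtain ⟨d, ys, hd, hys⟩ := Groth.Agent.H4Depth.exists_regular_system_of_parameters (X.presheaf.stalk x ⧸ I)
  choose lift hlift using fun j => Ideal.Quotient.mk_surjective (ys j)
  let hs := List.ofFn lift
  have hhs : hs.map (Ideal.Quotient.mk I) = List.ofFn ys := by
    show (List.ofFn lift).map _ = _
    rw [List.map_ofFn]
    congr 1
    funext j
    exact hlift j
  have hflatx : (f.stalkMap x).hom.Flat := Flat.stalkMap f x
  obtain ⟨U, hU, hxU, hs', hgerm, hrange, hflat, hfp, -⟩ := Groth.Agent.H8Props.SliceTools.main f x hflatx hs (by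
    rw [show hs.map (Ideal.Quotient.mk (Ideal.map (f.stalkMap x).hom
      (IsLocalRing.maximalIdeal (S.presheaf.stalk (f x))))) = List.ofFn ys from hhs]
    exact Groth.Agent.H4Depth.isRegular_ofFn_of_span_eq d hd ys hys)
  let sp := Spec.map (CommRingCat.ofHom (Ideal.Quotient.mk (Ideal.ofList hs')))
  haveI : IsClosedImmersion sp := IsClosedImmersion.spec_of_surjective _ Ideal.Quotient.mk_surjective
  haveI := hU.isOpenImmersion_fromSpec
  let i := sp ≫ hU.fromSpec
  obtain ⟨z, hz⟩ := hrange
  have hz : i z = x := hz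
  subst hz
  let g := i ≫ f
  have hg : g = sp ≫ hU.fromSpec ≫ f := by simp [g, i]
  haveI : Flat g := hg ▸ hflat
  haveI : LocallyOfFinitePresentation g := hg ▸ hfp
  -- the sections cutting out the slice die in its local rings
  have hzero : ∀ j, i.stalkMap z (lift j) = 0 := by
    intro j
    have hj : lift j ∈ hs := List.mem_ofFn.2 ⟨j, rfl⟩
    rw [← hgerm, List.mem_map] at hj
    obtain ⟨a, ha, e'⟩ := hj
    rw [← e', Scheme.Hom.germ_stalkMap_apply,
      Groth.Agent.H7Flat.EtaleSlice.app_eq_zero hU (CommRingCat.ofHom (Ideal.Quotient.mk (Ideal.ofList hs'))) a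
        (Ideal.Quotient.eq_zero_iff_mem.2 (Ideal.subset_span (s := {r | r ∈ hs'}) ha)), map_zero]
  have hmax := Groth.Agent.H7Flat.EtaleSlice.map_maximalIdeal_eq (f.stalkMap (i z)).hom (i.stalkMap z).hom
    (i.stalkMap_surjective z) lift ys hlift (fun a ha => by
      rw [hys]
      intro hu
      haveI : IsLocalHom (Ideal.Quotient.mk I) := .of_surjective _ Ideal.Quotient.mk_surjective
      exact ha (isUnit_of_map_unit (Ideal.Quotient.mk I) a hu)) hzero
  have hunr : (g.stalkMap z).hom.FormallyUnramified :=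
    Groth.Agent.H7Flat.EtaleSlice.stalk_formallyUnramified i f z hcl hsep hmax
  obtain ⟨W, hzW, hW⟩ := (Groth.Agent.H9Hens.unramified_nhd_iff g z).2 hunr
  haveI := hW
  haveI : Etale (W.ι ≫ g) := Etale.of_formallyUnramified_of_flat _
  have hqf : g.QuasiFiniteAt z := Groth.Agent.H7Flat.EtaleSlice.quasiFiniteAt_of_etale g W z hzW
  have hiso : IsOpen (Subtype.val ⁻¹' {z} : Set ↥(g ⁻¹' {g z})) := by
    have h := (Scheme.Hom.quasiFiniteAt_iff_isOpen_singleton_asFiber.1 hqf).preimage
      (g.fiberHomeo (g z)).symm.continuous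
    convert h using 1
    ext a
    simp only [Set.mem_preimage, Set.mem_singleton_iff, Scheme.Hom.asFiber,
      (g.fiberHomeo (g z)).symm.injective.eq_iff, Subtype.ext_iff]
  obtain ⟨O, hO, hOeq⟩ := isOpen_induced_iff.1 hiso
  let W' : (Spec (CommRingCat.of (Γ(X, U) ⧸ Ideal.ofList hs'))).Opens := W ⊓ ⟨O, hO⟩
  have hzO : z ∈ O := (Set.ext_iff.1 hOeq ⟨z, rfl⟩).2 rfl
  haveI : Etale (W'.ι ≫ g) := by
    rw [← Scheme.homOfLE_ι _ (inf_le_left : W' ≤ W), Category.assoc]
    infer_instance
  refine ⟨W'.toScheme, W'.ι ≫ i, ⟨z, hzW, hzO⟩, inferInstance, ?_, rfl, fun z' hz' => ?_⟩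
  · rw [Category.assoc]
    infer_instance
  · refine W'.ι.isEmbedding.injective ?_
    exact (Set.ext_iff.1 hOeq ⟨W'.ι z', hz'⟩).1 z'.2.2

end Groth.Agent.S0413
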