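-- statement FlatMor.GrothFrozen.S0415 (Groth/Statements/S0415.lean; the theorem FlatMor.isUnivHomeo_iff_integral_univInjective_surjective);
import Groth.Statements.S0415
import Groth.Agent.H7Flat.UnivHomeo

set_option autoImplicit false
universe u
open FlatMor

namespace Groth.Agent.S0415

open AlgebraicGeometry CategoryTheory Limits in
/-- A morphism of schemes is a universal homeomorphism if and only if it is integral, universally
injective and surjective. -/
theorem result {X Y : Scheme.{u}} (f : X ⟶ Y) :
    FlatMor.IsUnivHomeo f ↔ IsIntegralHom f ∧ UniversallyInjective f ∧ Surjective f := by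
  exact Groth.Agent.H7Flat.isUnivHomeo_iff f

end Groth.Agent.S0415
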