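import Groth.Statements.S0417
import Mathlib.RingTheory.Nakayama
import Mathlib.AlgebraicGeometry.Morphisms.Immersion
import Mathlib.AlgebraicGeometry.Morphisms.Integral

set_option autoImplicit false
set_option backward.isDefEq.respectTransparency false
set_option linter.style.haveILetI false
universe u
open FlatMor
open AlgebraicGeometry CategoryTheory Limits

namespace Groth.Agent.S0417

open scoped TensorProduct in
theorem aux_algebra {A B : Type u} [CommRing A] [CommRing B] [Algebra A B] [Algebra.FiniteType A B]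
    (I : Ideal A) (hI : I ≤ nilradical A)
    (h : Function.Surjective (Algebra.TensorProduct.includeRight : A ⧸ I →ₐ[A] B ⊗[A] (A ⧸ I))) :
    Function.Surjective (algebraMap A B) := by
  let K := I.map (algebraMap A B)
  let χ : B ⊗[A] (A ⧸ I) →ₐ[A] B ⧸ K :=
    Algebra.TensorProduct.lift (Ideal.Quotient.mkₐ A K)
      (Ideal.Quotient.liftₐ I (Algebra.ofId A (B ⧸ K)) fun a ha => by
        show algebraMap A (B ⧸ K) a = 0
        rw [IsScalarTower.algebraMap_apply A B (B ⧸ K)]
        exact Ideal.Quotient.eq_zero_iff_mem.2 (Ideal.mem_map_of_mem _ ha)) fun _ _ => Commute.all _ _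
  have hmod : ∀ b : B, ∃ a : A, b - algebraMap A B a ∈ K := by
    intro b
    obtain ⟨q, hq⟩ := h (b ⊗ₜ 1)
    obtain ⟨a, rfl⟩ := Ideal.Quotient.mk_surjective q
    refine ⟨a, Ideal.Quotient.eq.1 ?_⟩
    have := congrArg χ hq
    simp [χ] at this
    exact this.symm
  have hK : K ≤ nilradical B := Ideal.map_le_iff_le_comap.2 fun a ha =>
    mem_nilradical.2 ((mem_nilradical.1 (hI ha)).map _)
  haveI : Algebra.IsIntegral A B := ⟨fun b => by
    obtain ⟨a, ha⟩ := hmod b
    obtain ⟨n, hn⟩ := mem_nilradical.1 (hK ha)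
    exact ⟨(Polynomial.X - Polynomial.C a) ^ n, (Polynomial.monic_X_sub_C a).pow n, by simpa using hn⟩⟩
  haveI : Module.Finite A B := Algebra.IsIntegral.finite
  let N := LinearMap.range (Algebra.linearMap A B)
  have hN : (⊤ : Submodule A B) ≤ N := by
    refine Submodule.le_of_le_smul_of_le_jacobson_bot Module.Finite.fg_top
      (hI.trans Ideal.radical_le_jacobson) fun b _ => ?_
    obtain ⟨a, ha⟩ := hmod b
    rw [show b = algebraMap A B a + (b - algebraMap A B a) by ring]
    refine Submodule.add_mem_sup ⟨a, rfl⟩ ?_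
    rw [Ideal.smul_top_eq_map]
    exact ha
  intro b
  exact hN (Submodule.mem_top : b ∈ ⊤)

open scoped TensorProduct in
theorem aux_spec {A B : CommRingCat.{u}} (ψ : A ⟶ B) (hψ : ψ.hom.FiniteType) (I : Ideal A) (hI : I ≤ nilradical A)
    (h : IsClosedImmersion (pullback.snd (Spec.map ψ) (Spec.map (CommRingCat.ofHom (Ideal.Quotient.mk I))))) :
    Function.Surjective ψ.hom := by
  algebraize [ψ.hom]
  haveI : IsClosedImmersion (pullback.snd (Spec.map (CommRingCat.ofHom (algebraMap A B)))
      (Spec.map (CommRingCat.ofHom (algebraMap A (A ⧸ I))))) := h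
  haveI : IsClosedImmersion ((pullbackSpecIso A B (A ⧸ I)).inv ≫ pullback.snd _ _) := inferInstance
  rw [pullbackSpecIso_inv_snd] at this
  refine aux_algebra I hI ?_
  have hs : Function.Surjective ((Spec.map (CommRingCat.ofHom (R := A ⧸ I) (S := B ⊗[A] (A ⧸ I))
      (Algebra.TensorProduct.includeRight : A ⧸ I →ₐ[A] B ⊗[A] (A ⧸ I)).toRingHom)).appTop) :=
    ((HasAffineProperty.iff_of_isAffine (P := @IsClosedImmersion)).1 this).2
  have hn := Scheme.ΓSpecIso_naturality (CommRingCat.ofHom (R := A ⧸ I) (S := B ⊗[A] (A ⧸ I))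
      (Algebra.TensorProduct.includeRight : A ⧸ I →ₐ[A] B ⊗[A] (A ⧸ I)).toRingHom)
  intro z
  obtain ⟨w, hw⟩ := hs ((Scheme.ΓSpecIso _).inv z)
  refine ⟨(Scheme.ΓSpecIso _).hom w, ?_⟩
  have := congr($hn w)
  exact this.symm.trans ((congrArg (Scheme.ΓSpecIso (CommRingCat.of (B ⊗[A] (A ⧸ I)))).hom hw).trans
    congr($((Scheme.ΓSpecIso (CommRingCat.of (B ⊗[A] (A ⧸ I)))).inv_hom_id) z))

open AlgebraicGeometry CategoryTheory Limits in
/-- Let i : S' → S be a closed immersion that is bijective on points and f : X → S a morphism of finite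
type (locally of finite type and quasi-compact) whose base change X ×_S S' → S' is a closed
immersion. Then f is a closed immersion. The published statement alternatively allows S' → S of
finite presentation in place of the finite-type hypothesis on f; only the first alternative is
stated. -/
theorem result {X S S' : Scheme.{u}} (f : X ⟶ S) (i : S' ⟶ S) [IsClosedImmersion i] (hi : Function.Bijective i)
    [LocallyOfFiniteType f] [QuasiCompact f] [IsClosedImmersion (pullback.snd f i)] : IsClosedImmersion f := by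
  haveI : Surjective i := ⟨hi.2⟩
  have hfs : Function.Bijective (pullback.fst f i) :=
    ⟨(pullback.fst f i).isClosedEmbedding.injective, (pullback.fst f i).surjective⟩
  have hf : Topology.IsClosedEmbedding f := by
    have h : Topology.IsClosedEmbedding (f ∘ pullback.fst f i) := by
      rw [← TopCat.coe_comp, ← Scheme.Hom.comp_base, pullback.condition, Scheme.Hom.comp_base, TopCat.coe_comp]
      exact i.isClosedEmbedding.comp (pullback.snd f i).isClosedEmbedding
    let e := Equiv.toHomeomorphOfContinuousClosed (Equiv.ofBijective _ hfs) (pullback.fst f i).continuous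
      (pullback.fst f i).isClosedEmbedding.isClosedMap
    have h2 : (f : X → S) = (f ∘ pullback.fst f i) ∘ e.symm := by
      ext x
      exact congrArg f (e.apply_symm_apply x).symm
    rw [h2]
    exact h.comp e.symm.isClosedEmbedding
  haveI : IsAffineHom f := isAffineHom_of_isInducing f hf.isInducing hf.isClosed_range
  rw [IsZariskiLocalAtTarget.iff_of_iSup_eq_top (P := @IsClosedImmersion) _ (iSup_affineOpens_eq_top S)]
  intro U
  haveI : IsAffine U.1.toScheme := U.2
  have hA : IsAffineOpen (f ⁻¹ᵁ U.1) := U.2.preimage f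
  haveI : IsAffine (f ⁻¹ᵁ U.1).toScheme := hA
  let ψ := f.app U.1
  have hcomm : Spec.map ψ ≫ U.2.fromSpec = hA.fromSpec ≫ f := by
    simp only [ψ, Scheme.Hom.app_eq_appLE]
    exact IsAffineOpen.SpecMap_appLE_fromSpec f U.2 hA le_rfl
  have hrange : Set.range (Spec.map ψ) = U.2.fromSpec ⁻¹' Set.range f := by
    ext p
    constructor
    · rintro ⟨q, rfl⟩
      exact ⟨hA.fromSpec q, congr($hcomm q).symm⟩
    · rintro ⟨x, hx⟩
      obtain ⟨q, rfl⟩ : x ∈ Set.range hA.fromSpec := by
        rw [hA.range_fromSpec]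
        show f x ∈ U.1
        rw [hx]
        exact U.2.range_fromSpec.le ⟨p, rfl⟩
      exact ⟨q, U.2.fromSpec.isOpenEmbedding.injective ((congr($hcomm q)).trans hx)⟩
  obtain ⟨I, e, he⟩ := IsClosedImmersion.Spec_iff.1
    (inferInstance : IsClosedImmersion (pullback.snd i U.2.fromSpec))
  let m := Spec.map (CommRingCat.ofHom (Ideal.Quotient.mk I))
  have hm : m = e.inv ≫ pullback.snd i U.2.fromSpec := by rw [he, Iso.inv_hom_id_assoc]
  haveI : Surjective m := by rw [hm]; infer_instance
  have hI : I ≤ nilradical Γ(S, U.1) := by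
    intro a ha
    rw [nilradical_eq_sInf, Submodule.mem_sInf]
    intro p hp
    obtain ⟨q, hq⟩ := m.surjective ⟨p, hp⟩
    have : p = q.asIdeal.comap (Ideal.Quotient.mk I) := (congrArg PrimeSpectrum.asIdeal hq).symm
    rw [this, Ideal.mem_comap, Ideal.Quotient.eq_zero_iff_mem.2 ha]
    exact zero_mem _
  let t : pullback (Spec.map ψ) m ⟶ pullback f i :=
    pullback.lift (pullback.fst _ _ ≫ hA.fromSpec) (pullback.snd _ _ ≫ e.inv ≫ pullback.fst i U.2.fromSpec) (by
      rw [Category.assoc, ← hcomm, pullback.condition_assoc, hm]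
      simp only [Category.assoc, pullback.condition])
  haveI : IsClosedImmersion m := by rw [hm]; infer_instance
  haveI : IsImmersion (t ≫ pullback.fst f i) := by simp only [t, pullback.lift_fst]; infer_instance
  haveI : IsImmersion t := IsImmersion.of_comp t (pullback.fst f i)
  haveI : IsImmersion (pullback.snd (Spec.map ψ) m ≫ e.inv ≫ pullback.fst i U.2.fromSpec) := by
    rw [← pullback.lift_snd (f := f) (g := i) (pullback.fst (Spec.map ψ) m ≫ hA.fromSpec)
      (pullback.snd _ _ ≫ e.inv ≫ pullback.fst i U.2.fromSpec) (by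
      rw [Category.assoc, ← hcomm, pullback.condition_assoc, hm]
      simp only [Category.assoc, pullback.condition])]
    show IsImmersion (t ≫ pullback.snd f i)
    infer_instance
  haveI : IsImmersion (pullback.snd (Spec.map ψ) m) := IsImmersion.of_comp _ (e.inv ≫ pullback.fst i U.2.fromSpec)
  have hcl : IsClosed (Set.range (pullback.snd (Spec.map ψ) m)) := by
    have h : Set.range (pullback.snd (Spec.map ψ) m) = m ⁻¹' Set.range (Spec.map ψ) := by
      ext q
      constructor
      · rintro ⟨z, rfl⟩
        exact ⟨pullback.fst (Spec.map ψ) m z, congr($(pullback.condition (f := Spec.map ψ) (g := m)) z)⟩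
      · rintro ⟨y, hy⟩
        obtain ⟨z, -, hz⟩ := Scheme.Pullback.exists_preimage_pullback y q hy
        exact ⟨z, hz⟩
    rw [h, hrange]
    exact (hf.isClosed_range.preimage U.2.fromSpec.continuous).preimage m.continuous
  have hs := aux_spec ψ (by
    show (f.app U.1).hom.FiniteType
    rw [Scheme.Hom.app_eq_appLE]
    exact f.finiteType_appLE U.2 hA le_rfl) I hI (IsClosedImmersion.of_isPreimmersion _ hcl)
  refine (HasAffineProperty.iff_of_isAffine (P := @IsClosedImmersion)).2 ⟨inferInstance, ?_⟩
  rw [morphismRestrict_appTop]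
  have key : ∀ E, E = U.1 → Function.Surjective (f.app E) := by rintro E rfl; exact hs
  intro y
  obtain ⟨z, hz⟩ := ((ConcreteCategory.isIso_iff_bijective
    (X.presheaf.map (eqToHom (image_morphismRestrict_preimage f U.1 ⊤)).op)).1 inferInstance).2 y
  obtain ⟨w, hw⟩ := key _ (by rw [Scheme.Hom.image_top_eq_opensRange, Scheme.Opens.opensRange_ι]) z
  refine ⟨w, ?_⟩
  rw [← hz, ← hw]
  rfl

end Groth.Agent.S0417
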