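import Groth.Statements.S0418
import Groth.Agent.H7Flat.PPowerUnivHomeo
-- import your own Groth.Agent.* helpers here

set_option autoImplicit false
universe u
open FlatMor

namespace Groth.Agent.S0418

open AlgebraicGeometry in
/-- For a prime number p and a ring map A → B that becomes an isomorphism after inverting p, Spec B →
Spec A is a universal homeomorphism if and only if the kernel consists of nilpotents and every
element of B has some p-power multiple and p-power power in the image. -/
theorem result {A B : Type u} [CommRing A] [CommRing B] (φ : A →+* B) (p : ℕ) (hp : p.Prime)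
    (h : Function.Bijective (Localization.awayMap φ (p : A))) :
    FlatMor.IsUnivHomeo (Spec.map (CommRingCat.ofHom φ)) ↔
      (∀ a ∈ RingHom.ker φ, IsNilpotent a) ∧ ∀ b : B, ∃ n : ℕ, (p ^ n : B) * b ∈ φ.range ∧ b ^ (p ^ n) ∈ φ.range := by
  let := φ.toAlgebra
  refine H7Flat.PPower.isUnivHomeo_iff_of_torsion (A := A) (B := B) hp fun b => ?_
  obtain ⟨x, hx⟩ := h.2 (algebraMap B (Localization.Away (φ (p : A))) b)
  obtain ⟨⟨a, s, k, hs⟩, rfl⟩ := IsLocalization.mk'_surjective (Submonoid.powers (p : A)) x
  subst hs
  simp only [Localization.awayMap, IsLocalization.Away.map, IsLocalization.map_mk',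
    IsLocalization.mk'_eq_iff_eq_mul, ← map_mul] at hx
  obtain ⟨⟨_, l, rfl⟩, hl⟩ := (IsLocalization.eq_iff_exists (Submonoid.powers (φ (p : A))) _).1 hx
  simp only [map_natCast, map_pow] at hl
  refine ⟨l + k, (p : A) ^ l * a, ?_⟩
  show φ _ = _
  rw [map_mul, map_pow, map_natCast, hl, pow_add]
  ring

end Groth.Agent.S0418
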