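-- statement FlatMor.GrothFrozen.S0422 (Groth/Statements/S0422.lean; the theorem FlatMor.fibre_criterion_flatness_locally_nilpotent_fp);
import Groth.Statements.S0422
import Groth.Agent.H7Flat.NilFibreFlat

set_option autoImplicit false
universe u
open FlatMor

namespace Groth.Agent.S0422

open TensorProduct in
/-- Fibrewise criterion of flatness modulo a locally nilpotent ideal: let R → S be of finite type, S' an
S-algebra which is of finite presentation over R, I an ideal of R all of whose elements are
nilpotent, and M a finitely presented S'-module which is flat over R and such that M/IM is flat over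
S/IS. Then M is flat over S. (The published statement also asserts flatness over R of suitable
localizations of S; that part is not stated here.) -/
theorem result {R S S' M : Type u} [CommRing R] [CommRing S] [CommRing S'] [Algebra R S] [Algebra S S'] [Algebra R S'] [IsScalarTower R S S']
    [Algebra.FiniteType R S] [Algebra.FinitePresentation R S'] (I : Ideal R) (hI : ∀ a ∈ I, IsNilpotent a)
    [AddCommGroup M] [Module S' M] [Module S M] [Module R M] [IsScalarTower S S' M] [IsScalarTower R S M]
    [Module.FinitePresentation S' M] [Module.Flat R M]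
    (h : Module.Flat (S ⧸ I.map (algebraMap R S)) ((S ⧸ I.map (algebraMap R S)) ⊗[S] M)) : Module.Flat S M := by
  haveI : IsScalarTower R S' M := .of_algebraMap_smul fun r x => by
    rw [IsScalarTower.algebraMap_apply R S S', algebraMap_smul, algebraMap_smul]
  refine Module.flat_of_isLocalized_maximal (R := S) (S := S') M
    (fun P _ => LocalizedModule P.primeCompl M) (fun P _ => LocalizedModule.mkLinearMap P.primeCompl M)
    fun Q' _ => ?_
  let p := Q'.comap (algebraMap R S')
  haveI : p.IsPrime := Ideal.comap_isPrime _ _
  have hIp : I ≤ p := fun a ha => by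
    obtain ⟨k, hk⟩ := hI a ha
    exact Ideal.IsPrime.mem_of_pow_mem inferInstance k (hk ▸ p.zero_mem)
  obtain ⟨n, π, hπ⟩ := Algebra.FiniteType.iff_quotient_mvPolynomial''.mp
    (inferInstance : Algebra.FiniteType R S)
  obtain ⟨K', hK', hfg, hK⟩ := Groth.Agent.H7Flat.NilFibreFlat.exists_fg_fibre p (RingHom.ker π.toRingHom)
  let A := MvPolynomial (Fin n) R ⧸ K'
  haveI : Algebra.FinitePresentation R A := Algebra.FinitePresentation.quotient hfg
  let ψ : A →ₐ[R] S := Ideal.Quotient.liftₐ K' π fun x hx => hK' hx
  letI : Algebra A S := ψ.toRingHom.toAlgebra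
  haveI : IsScalarTower R A S := IsScalarTower.of_algebraMap_eq fun r => (ψ.commutes r).symm
  letI : Algebra A S' := ((algebraMap S S').comp (algebraMap A S)).toAlgebra
  haveI : IsScalarTower A S S' := IsScalarTower.of_algebraMap_eq' rfl
  refine Groth.Agent.H7Flat.NilFibreFlat.flat_localized (A := A) (fun s => ?_) Q' p rfl (fun x hx => ?_) ?_
  · obtain ⟨x, rfl⟩ := hπ s
    exact ⟨Ideal.Quotient.mk K' x, rfl⟩
  · obtain ⟨x, rfl⟩ := Ideal.Quotient.mk_surjective x
    obtain ⟨c, hc, h'⟩ := hK x hx
    refine ⟨c, hc, ?_⟩
    have h2 := Ideal.mem_map_of_mem (Ideal.Quotient.mk K') h'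
    rwa [Ideal.map_sup, Ideal.map_quotient_self, bot_sup_eq, map_mul, Ideal.map_map] at h2
  · haveI := h
    refine Groth.Agent.H7Flat.ModMax.flat_baseChange_of_ker_le (R₀ := S ⧸ I.map (algebraMap R S))
      Ideal.Quotient.mk_surjective ?_
    rw [Ideal.Quotient.algebraMap_eq, Ideal.Quotient.algebraMap_eq, Ideal.mk_ker, Ideal.mk_ker]
    exact Ideal.map_mono hIp

end Groth.Agent.S0422
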