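-- statement FlatMor.GrothFrozen.S0425 (Groth/Statements/S0425.lean; the theorem FlatMor.isIso_of_weaklyEtale_of_isUnivHomeo);
import Groth.Statements.S0425
import Groth.Agent.H7Flat.UnivHomeo
import Mathlib.AlgebraicGeometry.Morphisms.FlatMono

set_option autoImplicit false
universe u
open FlatMor

namespace Groth.Agent.S0425

open AlgebraicGeometry CategoryTheory Limits in
/-- A weakly étale universal homeomorphism is an isomorphism. -/
theorem result {X Y : Scheme.{u}} (f : X ⟶ Y) [WeaklyEtale f] (h : FlatMor.IsUnivHomeo f) : IsIso f := by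
  obtain ⟨h1, h2, h3⟩ := (Groth.Agent.H7Flat.isUnivHomeo_iff f).1 h
  haveI := h1; haveI := h3
  haveI : Surjective (pullback.diagonal f) := (UniversallyInjective.iff_diagonal f).1 h2
  haveI : Flat (pullback.diagonal f) := ‹WeaklyEtale f›.flat_diagonal
  haveI : IsIso (pullback.diagonal f) := Flat.isIso_of_surjective_of_mono _
  haveI : Mono f := (pullback.isIso_diagonal_iff f).1 inferInstance
  exact Flat.isIso_of_surjective_of_mono f

end Groth.Agent.S0425
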