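-- statement FlatMor.GrothFrozen.S0429 (Groth/Statements/S0429.lean; the theorem FlatMor.locallyOfFinitePresentation_of_flat_over_integral);
import Groth.Statements.S0429
import Groth.Agent.S0406

set_option autoImplicit false
universe u
open FlatMor

namespace Groth.Agent.S0429

open AlgebraicGeometry CategoryTheory Limits in
/-- A flat morphism locally of finite type to an integral scheme is locally of finite presentation. -/
theorem result {X S : Scheme.{u}} (f : X ⟶ S) [IsIntegral S] [Flat f] [LocallyOfFiniteType f] : LocallyOfFinitePresentation f := by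
  rw [HasRingHomProperty.eq_affineLocally (P := @LocallyOfFinitePresentation), affineLocally_iff_forall_isAffineOpen]
  intro U hU V hV e
  have h1 : (f.appLE U V e).hom.Flat := HasRingHomProperty.appLE (P := @Flat) f inferInstance ⟨U, hU⟩ ⟨V, hV⟩ e
  have h2 : (f.appLE U V e).hom.FiniteType :=
    HasRingHomProperty.appLE (P := @LocallyOfFiniteType) f inferInstance ⟨U, hU⟩ ⟨V, hV⟩ e
  by_cases hne : Nonempty U
  · have : IsDomain Γ(S, U) := IsIntegral.component_integral U
    let := (f.appLE U V e).hom.toAlgebra
    have : Module.Flat Γ(S, U) Γ(X, V) := h1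
    have : Algebra.FiniteType Γ(S, U) Γ(X, V) := h2
    exact S0406.result (R := Γ(S, U)) (S := Γ(X, V))
  · have : Subsingleton Γ(S, U) := by
      have hU0 : U = ⊥ := (not_nonempty_iff.mp hne |> fun h => TopologicalSpace.Opens.ext (Set.eq_empty_of_forall_notMem fun x hx => h.elim ⟨x, hx⟩))
      subst hU0
      exact CommRingCat.subsingleton_of_isTerminal S.sheaf.isTerminalOfEmpty
    have : IsNoetherianRing Γ(S, U) := inferInstance
    exact RingHom.FinitePresentation.of_finiteType.mp h2

end Groth.Agent.S0429
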