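-- statement FlatMor.GrothFrozen.S0431 (Groth/Statements/S0431.lean; the theorem FlatMor.pushout_along_thickening_of_affine_morphism);
import Groth.Statements.S0431
import Groth.Agent.H7Flat.PushoutCartesian
import Groth.Agent.H7Lim.Thickening

set_option autoImplicit false
universe u
open FlatMor

namespace Groth.Agent.S0431

open AlgebraicGeometry CategoryTheory Limits in
/-- For a thickening X → X' (a surjective closed immersion) and an affine morphism X → Y, the pushout Y'
of X' and Y along X exists in schemes, Y → Y' is again a thickening and X is the fibre product of Y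
and X' over Y' (the source's description of the structure sheaf of the pushout as a fibre product of
sheaves is not restated). -/
theorem result {X X' Y : Scheme.{u}} (t : X ⟶ X') [IsClosedImmersion t] (ht : Function.Surjective t) (f : X ⟶ Y) [IsAffineHom f] :
    ∃ (Y' : Scheme.{u}) (f' : X' ⟶ Y') (b : Y ⟶ Y'), IsPushout t f f' b ∧ IsPullback t f f' b ∧
      IsClosedImmersion b ∧ Function.Surjective b := by
  have hcov : ∀ y : Y, ∃ π : Groth.Agent.H7Flat.AP t f, y ∈ π.V := fun y => by
    obtain ⟨V, hV, hyV, -⟩ := exists_isAffineOpen_mem_and_subset (Set.mem_univ y) (U := (⊤ : Y.Opens))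
    obtain ⟨O, hO, hOV⟩ := t.isClosedEmbedding.isInducing.isOpen_iff.1 (f ⁻¹ᵁ V).2
    let U : X'.Opens := ⟨O, hO⟩
    have hpre : t ⁻¹ᵁ U = f ⁻¹ᵁ V := TopologicalSpace.Opens.ext hOV
    have hW : IsAffineOpen (t ⁻¹ᵁ U) := hpre ▸ hV.preimage f
    haveI : IsAffine (t ⁻¹ᵁ U).toScheme := hW
    haveI : IsClosedImmersion (t ∣_ U) := IsZariskiLocalAtTarget.restrict (P := @IsClosedImmersion) inferInstance U
    have hsurj : Function.Surjective (t ∣_ U) := by
      intro x
      obtain ⟨w, hw⟩ := ht x.1
      refine ⟨⟨w, show t w ∈ U by rw [hw]; exact x.2⟩, Subtype.ext ?_⟩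
      rw [morphismRestrict_base]
      exact hw
    have hU : IsAffineOpen U := Groth.Agent.H7Lim.isAffine_of_surjective_closedImmersion (t ∣_ U) hsurj
    exact ⟨⟨U, V, hU, hV, hpre⟩, hyV⟩
  exact ⟨_, _, _, Groth.Agent.H7Flat.glued_isPushout hcov, Groth.Agent.H7Flat.glued_isPullback hcov,
    Groth.Agent.H7Flat.inY_isClosedImmersion hcov, Groth.Agent.H7Flat.inY_surjective hcov ht⟩

end Groth.Agent.S0431
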