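-- statement FlatMor.GrothFrozen.S0433 (Groth/Statements/S0433.lean; the theorem FlatMor.isPushout_Spec_of_ring_fibre_product);
import Groth.Statements.S0433
import Groth.Agent.H7Flat.PushoutAffine
import Mathlib.Algebra.Category.Ring.Limits
import Mathlib.CategoryTheory.Limits.Types.Pullbacks

set_option autoImplicit false
universe u
open FlatMor

namespace Groth.Agent.S0433

open AlgebraicGeometry CategoryTheory Limits in
/-- For a surjective ring map A' → A and any ring map B → A, the spectra of A, A', B and of the fibre
product ring B ×_A A' form a pushout square of schemes. -/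
theorem result {A A' B : Type u} [CommRing A] [CommRing A'] [CommRing B] (p : A' →+* A) (hp : Function.Surjective p) (q : B →+* A) :
    IsPushout (Spec.map (CommRingCat.ofHom p)) (Spec.map (CommRingCat.ofHom q))
      (Spec.map (pullback.snd (CommRingCat.ofHom q) (CommRingCat.ofHom p)))
      (Spec.map (pullback.fst (CommRingCat.ofHom q) (CommRingCat.ofHom p))) := by
  let c := pullback.fst (CommRingCat.ofHom q) (CommRingCat.ofHom p)
  let d := pullback.snd (CommRingCat.ofHom q) (CommRingCat.ofHom p)
  have hpb := (IsPullback.of_hasPullback (CommRingCat.ofHom q) (CommRingCat.ofHom p)).map (forget CommRingCat.{u})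
  rw [CategoryTheory.Limits.Types.isPullback_iff] at hpb
  obtain ⟨h1, h2, h3⟩ := hpb
  have hsq : Groth.Agent.H7Flat.RingSq d.hom c.hom p q :=
    ⟨fun z => (ConcreteCategory.congr_hom (pullback.condition (f := CommRingCat.ofHom q) (g := CommRingCat.ofHom p)) z).symm,
      hp, fun z z' ha hb => h2 z z' ⟨hb, ha⟩, fun x y hxy => by
        obtain ⟨z, hz1, hz2⟩ := h3 y x hxy.symm
        exact ⟨z, hz2, hz1⟩⟩
  exact hsq.isPushout

end Groth.Agent.S0433
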