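import Groth.Statements.S0438
import Groth.Agent.H7Val.ReducedFibre
-- import your own Groth.Agent.* helpers here

set_option autoImplicit false
universe u
open FlatMor

namespace Groth.Agent.S0438

open AlgebraicGeometry CategoryTheory Limits in
/-- For a proper flat morphism to the spectrum of a valuation ring whose special fibre is reduced, the
total space and every fibre are reduced. -/
theorem result {R : Type u} [CommRing R] [IsDomain R] [ValuationRing R] {X : Scheme.{u}}
    (f : X ⟶ Spec (CommRingCat.of R)) [IsProper f] [Flat f]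
    (hred : IsReduced (f.fiber (IsLocalRing.closedPoint R))) :
    IsReduced X ∧ ∀ s : ↑(Spec (CommRingCat.of R)), IsReduced (f.fiber s) := by
  obtain ⟨φ₀, hφ₀⟩ := Spec.map_surjective
    ((Spec (CommRingCat.of R)).fromSpecResidueField (IsLocalRing.closedPoint R))
  have hker : ∀ (s : ↑(Spec (CommRingCat.of R))) (φ : CommRingCat.of R ⟶
      (Spec (CommRingCat.of R)).residueField s),
      Spec.map φ = (Spec (CommRingCat.of R)).fromSpecResidueField s →
      RingHom.ker φ.hom = s.asIdeal := by
    intro s φ hφ
    have hp : PrimeSpectrum.comap φ.hom ⊥ = s := by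
      have : (Spec.map φ).base (⊥ : PrimeSpectrum ((Spec (CommRingCat.of R)).residueField s)) = s := by
        rw [hφ]; exact Scheme.fromSpecResidueField_apply _ _
      exact this
    rw [RingHom.ker_eq_comap_bot]
    exact congr(PrimeSpectrum.asIdeal $hp)
  have hk₀ : RingHom.ker φ₀.hom = IsLocalRing.maximalIdeal R := hker _ φ₀ hφ₀
  have h₀ : IsReduced (pullback f (Spec.map φ₀)) := by rw [hφ₀]; exact hred
  refine ⟨H7Val.isReduced_of_closedFibre f φ₀ hk₀ h₀, fun s ↦ ?_⟩
  obtain ⟨φ, hφ⟩ := Spec.map_surjective ((Spec (CommRingCat.of R)).fromSpecResidueField s)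
  have hk := hker s φ hφ
  let A' := R ⧸ s.asIdeal
  have hle : s.asIdeal ≤ IsLocalRing.maximalIdeal R := IsLocalRing.le_maximalIdeal s.2.ne_top
  let π : CommRingCat.of R ⟶ CommRingCat.of A' := CommRingCat.ofHom (Ideal.Quotient.mk s.asIdeal)
  let ψ₀ : CommRingCat.of A' ⟶ (Spec (CommRingCat.of R)).residueField (IsLocalRing.closedPoint R) :=
    CommRingCat.ofHom (Ideal.Quotient.lift s.asIdeal φ₀.hom
      fun a ha ↦ RingHom.mem_ker.mp (hk₀.symm ▸ hle ha))
  let ψ : CommRingCat.of A' ⟶ (Spec (CommRingCat.of R)).residueField s :=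
    CommRingCat.ofHom (Ideal.Quotient.lift s.asIdeal φ.hom
      fun a ha ↦ RingHom.mem_ker.mp (hk.symm ▸ ha))
  have e₀ : π ≫ ψ₀ = φ₀ := by ext a; rfl
  have e : π ≫ ψ = φ := by ext a; rfl
  have : ValuationRing A' :=
    Function.Surjective.valuationRing (Ideal.Quotient.mk s.asIdeal) Ideal.Quotient.mk_surjective
  have hkψ₀ : RingHom.ker ψ₀.hom = IsLocalRing.maximalIdeal A' := by
    refine IsLocalRing.eq_maximalIdeal ?_
    have : (RingHom.ker ψ₀.hom).comap (Ideal.Quotient.mk s.asIdeal) = IsLocalRing.maximalIdeal R := by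
      rw [← hk₀, RingHom.comap_ker]
      exact congr(RingHom.ker ($e₀).hom)
    rw [← Ideal.map_comap_of_surjective _ Ideal.Quotient.mk_surjective (RingHom.ker ψ₀.hom), this]
    refine (Ideal.map_eq_top_or_isMaximal_of_surjective _ Ideal.Quotient.mk_surjective
      inferInstance).resolve_left fun h ↦ ?_
    have h1 : (1 : A') ∈ RingHom.ker ψ₀.hom :=
      Ideal.map_comap_le (by rw [this, h]; trivial)
    exact one_ne_zero ((map_one ψ₀.hom).symm.trans (RingHom.mem_ker.mp h1))
  let X' := pullback f (Spec.map π)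
  let f' : X' ⟶ Spec (CommRingCat.of A') := pullback.snd f (Spec.map π)
  have : IsProper f' := MorphismProperty.pullback_snd _ _ ‹IsProper f›
  have : Flat f' := MorphismProperty.pullback_snd _ _ ‹Flat f›
  have h₁ : IsReduced (pullback f' (Spec.map ψ₀)) := by
    have : IsReduced (pullback f (Spec.map ψ₀ ≫ Spec.map π)) := by
      rw [← Spec.map_comp, e₀]; exact h₀
    exact isReduced_of_isOpenImmersion (pullbackLeftPullbackSndIso f (Spec.map π) (Spec.map ψ₀)).hom
  have : IsReduced X' := H7Val.isReduced_of_closedFibre f' ψ₀ hkψ₀ h₁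
  have : IsPreimmersion (Spec.map ψ) := by
    have : IsPreimmersion (Spec.map ψ ≫ Spec.map π) := by
      rw [← Spec.map_comp, e, hφ]; infer_instance
    have : IsClosedImmersion (Spec.map π) :=
      IsClosedImmersion.spec_of_surjective π Ideal.Quotient.mk_surjective
    exact IsPreimmersion.of_comp _ (Spec.map π)
  have : Flat (Spec.map ψ) := by
    rw [HasRingHomProperty.Spec_iff (P := @Flat)]
    have hinj : Function.Injective ψ.hom := RingHom.lift_injective_of_ker_le_ideal _ _ hk.le
    algebraize [ψ.hom]
    have : FaithfulSMul A' ((Spec (CommRingCat.of R)).residueField s) :=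
      (faithfulSMul_iff_algebraMap_injective _ _).mpr hinj
    have : Module.IsTorsionFree A' ((Spec (CommRingCat.of R)).residueField s) := inferInstance
    exact Module.Flat.flat_iff_torsion_eq_bot_of_isBezout.mpr
      (Submodule.isTorsionFree_iff_torsion_eq_bot.mp ‹Module.IsTorsionFree A' _›)
  have := H7Val.isReduced_of_flat_preimmersion (pullback.fst f' (Spec.map ψ))
  change IsReduced (pullback f ((Spec (CommRingCat.of R)).fromSpecResidueField s))
  rw [← hφ, ← e, Spec.map_comp]
  exact isReduced_of_isOpenImmersion (pullbackLeftPullbackSndIso f (Spec.map π) (Spec.map ψ)).inv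

end Groth.Agent.S0438
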