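-- statement FlatMor.GrothFrozen.S0440 (Groth/Statements/S0440.lean; the theorem FlatMor.isAffine_of_thickening_of_affine);
import Groth.Statements.S0440
import Groth.Agent.H7Lim.Thickening

set_option autoImplicit false
universe u
open FlatMor

namespace Groth.Agent.S0440

open AlgebraicGeometry CategoryTheory Limits in
/-- If a scheme receives a closed immersion from an affine scheme which is a bijection on points, then
it is itself affine. -/
theorem result {X X' : Scheme.{u}} (t : X ⟶ X') [IsClosedImmersion t] (ht : Function.Surjective t) [IsAffine X] : IsAffine X' := by
  exact Groth.Agent.H7Lim.isAffine_of_surjective_closedImmersion t ht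

end Groth.Agent.S0440
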