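-- statement FlatMor.GrothFrozen.S0444 (Groth/Statements/S0444.lean; the theorem FlatMor.dim_special_fibre_eq_dim_generic_fibre_over_valuation_ring);
import Groth.Statements.S0444
import Groth.Agent.H7Flat.ValFibre
import Mathlib.RingTheory.Flat.TorsionFree

set_option autoImplicit false
universe u
open FlatMor AlgebraicGeometry CategoryTheory Topology
set_option backward.isDefEq.respectTransparency false
set_option linter.style.haveILetI false

namespace Groth.Agent.S0444

open TensorProduct in
/-- Let R be a valuation ring with residue field κ and fraction field K, and S a domain of finite type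
over R with R → S injective. If the special fibre κ ⊗_R S is nonzero, then its Krull dimension
equals the Krull dimension of the generic fibre K ⊗_R S. (The published statement also asserts that
the special fibre is equidimensional; that is not stated here.) -/
theorem result {R S : Type u} [CommRing R] [IsDomain R] [ValuationRing R] [CommRing S] [IsDomain S] [Algebra R S]
    (hinj : Function.Injective (algebraMap R S)) [Algebra.FiniteType R S]
    [Nontrivial (IsLocalRing.ResidueField R ⊗[R] S)] :
    ringKrullDim (IsLocalRing.ResidueField R ⊗[R] S) = ringKrullDim (FractionRing R ⊗[R] S) := by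
  letI : Module.Flat R S := by
    rw [Module.Flat.flat_iff_torsion_eq_bot_of_isBezout, ← Submodule.isTorsionFree_iff_torsion_eq_bot]
    haveI : FaithfulSMul R S := (faithfulSMul_iff_algebraMap_injective _ _).2 hinj
    infer_instance
  let f := Spec.map (CommRingCat.ofHom (algebraMap R S))
  haveI : LocallyOfFiniteType f := (HasRingHomProperty.Spec_iff (P := @LocallyOfFiniteType)).mpr
    (RingHom.finiteType_algebraMap.mpr inferInstance)
  haveI : Flat f := (HasRingHomProperty.Spec_iff (P := @Flat)).mpr (RingHom.flat_algebraMap_iff.mpr inferInstance)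
  have key : ∀ (K : Type u) [Field K] [Algebra R K], ringKrullDim (K ⊗[R] S) = topologicalKrullDim
      ↥(f.fiber (Spec.map (CommRingCat.ofHom (algebraMap R K)) (IsLocalRing.closedPoint K))) := by
    intro K _ _
    have hsq := (isPullback_SpecMap_of_isPushout _ _ _ _ (CommRingCat.isPushout_tensorProduct R K S)).flip
    rw [← Groth.Agent.H8Props.FieldDim.dim_fiber_baseChange f hsq,
      ← PrimeSpectrum.topologicalKrullDim_eq_ringKrullDim]
    refine (IsHomeomorph.topologicalKrullDim_eq _ ((isHomeomorph_iff_isEmbedding_surjective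
      (f := ((Spec.map (CommRingCat.ofHom (algebraMap K (K ⊗[R] S)))).fiberι (IsLocalRing.closedPoint K)))).2 ⟨Scheme.Hom.isEmbedding _, fun z => ?_⟩)).symm
    haveI : Subsingleton (Spec (CommRingCat.of K)) := inferInstanceAs (Subsingleton (PrimeSpectrum K))
    exact (Scheme.Hom.range_fiberι _ _).ge (Subsingleton.elim _ _)
  rw [key, key]
  have e1 : Spec.map (CommRingCat.ofHom (algebraMap R (IsLocalRing.ResidueField R))) (IsLocalRing.closedPoint _) =
      IsLocalRing.closedPoint R := by
    refine PrimeSpectrum.ext ?_
    show Ideal.comap (IsLocalRing.residue R) (IsLocalRing.maximalIdeal _) = IsLocalRing.maximalIdeal R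
    rw [IsLocalRing.maximalIdeal_eq_bot, ← RingHom.ker_eq_comap_bot, IsLocalRing.ker_residue]
  have e2 : Spec.map (CommRingCat.ofHom (algebraMap R (FractionRing R))) (IsLocalRing.closedPoint _) =
      genericPoint (Spec (CommRingCat.of R)) := by
    rw [genericPoint_eq_bot_of_affine]
    refine PrimeSpectrum.ext ?_
    show Ideal.comap (algebraMap R (FractionRing R)) (IsLocalRing.maximalIdeal _) = ⊥
    rw [IsLocalRing.maximalIdeal_eq_bot, ← RingHom.ker_eq_comap_bot]
    exact (RingHom.injective_iff_ker_eq_bot _).1 (IsFractionRing.injective R _)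
  haveI : Nonempty ↥(f.fiber (IsLocalRing.closedPoint R)) := by
    have h1 : ringKrullDim (IsLocalRing.ResidueField R ⊗[R] S) ≠ ⊥ :=
      ne_of_gt (lt_of_lt_of_le (WithBot.bot_lt_coe 0) ringKrullDim_nonneg_of_nontrivial)
    rw [key, e1] at h1
    refine not_isEmpty_iff.1 fun hemp => h1 ?_
    exact le_bot_iff.1 (Groth.Agent.H28Top.dim_le_of_chains fun c => (IsEmpty.false c.head.isIrreducible.nonempty.choose).elim)
  rw [e1, e2]
  refine le_antisymm (Groth.Agent.H7Flat.dim_closed_le_dim_generic f) ?_
  let η : Spec (CommRingCat.of S) := genericPoint (Spec (CommRingCat.of S))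
  have hfη : f η = genericPoint (Spec (CommRingCat.of R)) := by
    rw [genericPoint_eq_bot_of_affine, show η = (⊥ : PrimeSpectrum S) from genericPoint_eq_bot_of_affine _]
    refine PrimeSpectrum.ext ?_
    show Ideal.comap (algebraMap R S) ⊥ = ⊥
    exact (RingHom.injective_iff_ker_eq_bot _).1 hinj
  obtain ⟨u⟩ := ‹Nonempty ↥(f.fiber (IsLocalRing.closedPoint R))›
  have hu : f (f.fiberι _ u) = IsLocalRing.closedPoint R := (f.range_fiberι _).subset (Set.mem_range_self u)
  have h2 : topologicalKrullDim ↥(f.fiber (f η)) ≤ FlatMor.fibreDimAt f η := by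
    rw [Groth.Agent.H8Props.FieldDim.dim_eq_iSup_cdim]
    refine iSup_le fun v => ?_
    have hspec : f.asFiber η ⤳ v := by
      rw [← (f.fiberι (f η)).isEmbedding.isInducing.specializes_iff, Scheme.Hom.fiberι_asFiber]
      exact (genericPoint_spec _).specializes trivial
    haveI := Groth.Agent.H8Props.FieldDim.locallyOfFiniteType_fiberToSpec f (f η)
    show _ ≤ FlatMor.localDim (f.fiber (f η)) (f.asFiber η)
    rw [Groth.Agent.H8Props.FieldDim.localDim_eq_stalk_add_cdim (k := (Spec (CommRingCat.of R)).residueField (f η))
      (f.fiberToSpecResidueField (f η))]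
    refine le_trans ?_ (le_add_of_nonneg_left ringKrullDim_nonneg_of_nontrivial)
    exact Groth.Agent.H8Props.FieldDim.dim_mono (specializes_iff_closure_subset.1 hspec)
  rw [← hfη]
  refine h2.trans ((Groth.Agent.H8Props.FieldDim.fibreDimAt_le_of_specializes f
    ((genericPoint_spec _).specializes trivial : η ⤳ f.fiberι _ u)).trans ?_)
  exact (Groth.Agent.H7Flat.dim_fiber_le_iff f _ _).1 le_rfl _ hu

end Groth.Agent.S0444
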