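-- statement FlatMor.GrothFrozen.S0447 (Groth/Statements/S0447.lean; the theorem FlatMor.projective_of_flat_fp_geometrically_integral_fibres);
import Groth.Statements.S0447
import Groth.Agent.H7Flat.PureProjective
import Groth.Agent.S1223
import Mathlib

set_option autoImplicit false
universe u
open FlatMor

namespace Groth.Agent.S0447

open AlgebraicGeometry CategoryTheory Limits in
/-- For a flat morphism of finite presentation between affine schemes whose fibres are geometrically
integral, the coordinate ring of the source is a projective module over that of the target. -/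
theorem result {X S : Scheme.{u}} (f : X ⟶ S) [IsAffine X] [IsAffine S] [Flat f] [LocallyOfFinitePresentation f] [GeometricallyIntegral f] :
    @Module.Projective Γ(S, ⊤) _ Γ(X, ⊤) _ (f.appTop).hom.toAlgebra.toModule := by
  let := (f.appTop).hom.toAlgebra
  have hA : Algebra.FinitePresentation Γ(S, ⊤) Γ(X, ⊤) :=
    (HasRingHomProperty.iff_of_isAffine (P := @LocallyOfFinitePresentation) (f := f)).mp inferInstance
  have hF : Module.Flat Γ(S, ⊤) Γ(X, ⊤) :=
    (HasRingHomProperty.iff_of_isAffine (P := @Flat) (f := f)).mp inferInstance
  have hG : FlatCA.GeomIntegralFibres Γ(S, ⊤) Γ(X, ⊤) := by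
    show GeometricallyIntegral (Spec.map f.appTop)
    have h := (MorphismProperty.cancel_left_of_respectsIso @GeometricallyIntegral X.isoSpec.inv f).mpr ‹_›
    rw [← MorphismProperty.cancel_right_of_respectsIso @GeometricallyIntegral _ S.isoSpec.hom,
      Category.assoc, ← Scheme.isoSpec_hom_naturality, Iso.inv_hom_id_assoc] at h
    exact h
  exact Groth.Agent.H7Flat.PureProjective.projective_of_univPure (S := Γ(X, ⊤)) Γ(X, ⊤)
    (Groth.Agent.S1223.result hG)

end Groth.Agent.S0447
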