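-- statement FlatMor.GrothFrozen.S0448 (Groth/Statements/S0448.lean; the theorem FlatMor.universally_injective_of_projective_into_flat);
import Groth.Statements.S0448
import Groth.Agent.H1CAlg.LocalFree
import Groth.Agent.H1CAlg.UnivInj
import Mathlib.RingTheory.LocalRing.Module
import Mathlib.RingTheory.Flat.EquationalCriterion

set_option autoImplicit false
universe u
open FlatMor

namespace Groth.Agent.S0448

open TensorProduct in
/-- Over a local ring, a linear map from a projective module to a flat module which is injective modulo
the maximal ideal is universally injective (injective after tensoring with any module). -/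
theorem result {R M N : Type u} [CommRing R] [IsLocalRing R] [AddCommGroup M] [Module R M] [Module.Projective R M]
    [AddCommGroup N] [Module R N] [Module.Flat R N] (u : M →ₗ[R] N)
    (h : Function.Injective (LinearMap.lTensor (IsLocalRing.ResidueField R) u)) :
    ∀ (Q : Type u) [AddCommGroup Q] [Module R Q], Function.Injective (LinearMap.rTensor Q u) := by
  classical
  haveI : Module.Free R M := Groth.Agent.H1CAlg.free_of_projective_isLocalRing M
  refine Groth.Agent.H1CAlg.universallyInjective_of_equational fun n m x y c hxy => ?_
  let b := Module.Free.chooseBasis R M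
  let s : Finset (Module.Free.ChooseBasisIndex R M) := Finset.univ.biUnion fun i => (b.repr (x i)).support
  let G : Type u := (↥s : Type u) → R
  let ι : G →ₗ[R] M := Fintype.linearCombination R (fun j : s => b j.1)
  let p : M →ₗ[R] G := LinearMap.pi fun j : s => b.coord j.1
  have hpι : p ∘ₗ ι = LinearMap.id := by
    refine LinearMap.ext fun g => funext fun k => ?_
    show b.coord k.1 (Fintype.linearCombination R (fun j : s => b j.1) g) = g k
    rw [Fintype.linearCombination_apply, map_sum, Finset.sum_eq_single k]
    · simp
    · intro j _ hj
      simp [Finsupp.single_apply, Subtype.coe_injective.ne hj]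
    · simp
  have hx : ∀ i, ι (p (x i)) = x i := by
    intro i
    have hsub : (b.repr (x i)).support ⊆ s := fun k hk => Finset.mem_biUnion.2 ⟨i, Finset.mem_univ _, hk⟩
    show Fintype.linearCombination R (fun j : s => b j.1) (fun j : s => b.repr (x i) j.1) = x i
    rw [Fintype.linearCombination_apply]
    rw [Finset.sum_coe_sort s (fun k => b.repr (x i) k • b k)]
    conv_rhs => rw [← b.linearCombination_repr (x i), Finsupp.linearCombination_apply,
      Finsupp.sum_of_support_subset _ hsub _ (fun k _ => zero_smul R (b k))]
  -- the relations
  let v : G × (Fin m → R) →ₗ[R] N := (u ∘ₗ ι).coprod (Fintype.linearCombination R y)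
  let f : (Fin n → R) →ₗ[R] G × (Fin m → R) :=
    Fintype.linearCombination R fun i => (p (x i), -c i)
  have hvf : v ∘ₗ f = 0 := by
    refine (Pi.basisFun R (Fin n)).ext fun i => ?_
    simp [v, f, hx, hxy, Fintype.linearCombination_apply, Finset.sum_neg_distrib, Pi.single_apply, ite_smul]
  obtain ⟨k, a, Y, hva, haf⟩ := Module.Flat.exists_factorization_of_comp_eq_zero_of_free hvf
  have hinj : Function.Injective ((a ∘ₗ LinearMap.inl R G (Fin m → R)).lTensor (IsLocalRing.ResidueField R)) := by
    refine Function.Injective.of_comp (f := Y.lTensor (IsLocalRing.ResidueField R)) ?_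
    rw [← LinearMap.coe_comp, ← LinearMap.lTensor_comp, ← LinearMap.comp_assoc, ← hva,
      LinearMap.coprod_inl, LinearMap.lTensor_comp, LinearMap.coe_comp]
    refine h.comp (Function.HasLeftInverse.injective ⟨p.lTensor _, fun z => ?_⟩)
    rw [← LinearMap.comp_apply, ← LinearMap.lTensor_comp, hpι, LinearMap.lTensor_id, LinearMap.id_apply]
  obtain ⟨ρ, hρ⟩ := (IsLocalRing.split_injective_iff_lTensor_residueField_injective _).2 hinj
  refine ⟨fun j => ι (ρ (a (0, Pi.single j 1))), fun i => ?_⟩
  have h1 : a (p (x i), 0) = a (0, c i) := by
    have := LinearMap.congr_fun haf (Pi.single i 1)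
    simp only [f, LinearMap.comp_apply, Fintype.linearCombination_apply_single, one_smul,
      LinearMap.zero_apply] at this
    have hsplit : (p (x i), -c i) = ((p (x i), 0) : G × (Fin m → R)) - (0, c i) := by simp
    rwa [hsplit, map_sub, sub_eq_zero] at this
  have h2 : ρ (a (p (x i), 0)) = p (x i) := LinearMap.congr_fun hρ (p (x i))
  have h3 : ((0, c i) : G × (Fin m → R)) = ∑ j, c i j • (0, Pi.single j 1) := by
    ext <;> simp [Prod.fst_sum, Prod.snd_sum, Finset.sum_apply, Pi.single_apply]
  conv_lhs => rw [← hx i, ← h2, h1, h3]
  simp only [map_sum, ← map_smul]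

end Groth.Agent.S0448
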