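-- statement FlatMor.GrothFrozen.S0450 (Groth/Statements/S0450.lean; the theorem FlatMor.finite_of_flat_proper_finite_over_dense_open);
import Groth.Statements.S0450
import Groth.Agent.S1240
import Groth.Agent.H7Flat.FibreDimConstructible
import Mathlib.AlgebraicGeometry.ZariskisMainTheorem

set_option autoImplicit false
universe u
open FlatMor
set_option backward.isDefEq.respectTransparency false
set_option linter.style.haveILetI false

namespace Groth.Agent.S0450

open AlgebraicGeometry CategoryTheory Limits in
/-- A flat proper morphism locally of finite presentation that is finite over a dense open subset of the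
target is finite (the source alternatively allows the open to be retrocompact instead of assuming
finite presentation; only this alternative is stated). -/
theorem result {X S : Scheme.{u}} (f : X ⟶ S) [Flat f] [IsProper f] [LocallyOfFinitePresentation f] (U : S.Opens)
    (hU : Dense (U : Set ↑S)) [IsFinite (f ∣_ U)] : IsFinite f := by
  classical
  have hle : ∀ x : X, f.base x ∈ U → FlatMor.fibreDimAt f x ≤ ((0 : ℕ) : WithBot ℕ∞) := by
    intro x hx
    have h0 := Groth.Agent.H8Props.FieldDim.fibreDimAt_eq_zero_of_lqf (f ∣_ U) ⟨x, hx⟩
    rw [← Groth.Agent.H8Props.FieldDim.fibreDimAt_comp_openImmersion (f ∣_ U) U.ι, morphismRestrict_ι,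
      Groth.Agent.H8Props.FieldDim.fibreDimAt_openImmersion_comp] at h0
    exact h0.le
  have hall := Groth.Agent.S1240.result f U hU 0 (by exact_mod_cast hle) (Or.inl inferInstance)
  haveI : LocallyQuasiFinite f := by
    refine LocallyQuasiFinite.of_finite_preimage_singleton f fun s => ?_
    haveI := Groth.Agent.H8Props.FieldDim.locallyOfFiniteType_fiberToSpec f s
    haveI : IsLocallyNoetherian (f.fiber s) := LocallyOfFiniteType.isLocallyNoetherian (f.fiberToSpecResidueField s)
    haveI : CompactSpace (f.fiber s) := inferInstance
    haveI : IsNoetherian (f.fiber s) := ⟨⟩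
    have hd : topologicalKrullDim (f.fiber s) ≤ 0 :=
      (Groth.Agent.H7Flat.dim_fiber_le_iff f s 0).2 fun x _ => by exact_mod_cast hall x
    haveI : Finite (f.fiber s) := (Groth.Agent.H28Top.finite_discrete_of_dim_le_zero hd).1
    rw [← f.range_fiberι s]
    exact Set.finite_range _
  exact IsFinite.of_isProper_of_locallyQuasiFinite f

end Groth.Agent.S0450
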