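-- statement FlatMor.GrothFrozen.S0451 (Groth/Statements/S0451.lean; the theorem FlatMor.locallyOfFinitePresentation_of_flat_of_lfp_over_dense_open);
import Groth.Statements.S0451
import Groth.Agent.H7Flat.DenseFP

set_option autoImplicit false
universe u
open FlatMor

namespace Groth.Agent.S0451

open AlgebraicGeometry CategoryTheory Limits in
/-- A flat morphism locally of finite type which is locally of finite presentation over a quasi-compact
scheme-theoretically dense open of the target is locally of finite presentation. -/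
theorem result {X S : Scheme.{u}} (f : X ⟶ S) [LocallyOfFiniteType f] [Flat f] (U : S.Opens)
    [QuasiCompact U.ι] [IsSchemeTheoreticallyDominant U.ι] [LocallyOfFinitePresentation (f ∣_ U)] : LocallyOfFinitePresentation f := by
  classical
  refine ⟨fun {V} hV {W} hW e => ?_⟩
  have hfin : (f.appLE V W e).hom.FiniteType := f.finiteType_appLE hV hW e
  have hflat : (f.appLE V W e).hom.Flat := f.flat_appLE hV hW e
  have hcpt : IsCompact ((U ⊓ V : S.Opens) : Set S) := by
    have h := (U.ι.isCompact_preimage hV.isCompact).image U.ι.continuous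
    convert h using 1
    rw [← Scheme.Hom.coe_image, Scheme.Hom.image_preimage_eq_opensRange_inf, Scheme.Opens.opensRange_ι]
  have hcov : ((U ⊓ V : S.Opens) : Set S) ⊆
      ⋃ r : {r : Γ(S, V) // S.basicOpen r ≤ U ⊓ V}, (S.basicOpen r.1 : Set S) := by
    intro x hx
    obtain ⟨r, hr, hxr⟩ := hV.exists_basicOpen_le (V := U ⊓ V) ⟨x, hx⟩ hx.2
    exact Set.mem_iUnion.mpr ⟨⟨r, hr⟩, hxr⟩
  obtain ⟨t, ht⟩ := hcpt.elim_finite_subcover
    (fun r : {r : Γ(S, V) // S.basicOpen r ≤ U ⊓ V} => (S.basicOpen r.1 : Set S))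
    (fun r => (S.basicOpen r.1).isOpen) hcov
  letI := (f.appLE V W e).hom.toAlgebra
  haveI : Algebra.FiniteType Γ(S, V) Γ(X, W) := hfin
  haveI : Module.Flat Γ(S, V) Γ(X, W) := hflat
  refine Groth.Agent.H7Flat.DenseFP.algebra_fp (A := Γ(S, V)) (B := Γ(X, W))
    (fun i => (t.equivFin.symm i).1.1) ?_ ?_
  · rw [injective_iff_map_eq_zero]
    intro a ha
    refine (injective_iff_map_eq_zero (U.ι.app V).hom).mp (U.ι.app_injective V) a ?_
    rw [Scheme.Opens.ι_app]
    have hzero : S.presheaf.map (homOfLE (inf_le_right : U ⊓ V ≤ V)).op a = 0 := by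
      refine S.IsSheaf.section_ext fun x hx => ?_
      obtain ⟨r, hrt, hxr⟩ := Set.mem_iUnion₂.mp (ht hx)
      refine ⟨S.basicOpen r.1, r.2, hxr, ?_⟩
      obtain ⟨j, rfl⟩ : ∃ j, (t.equivFin.symm j).1 = r := ⟨t.equivFin ⟨r, hrt⟩, by simp⟩
      have hr : algebraMap Γ(S, V) (Localization.Away (t.equivFin.symm j).1.1) a = 0 :=
        congrFun ha j
      haveI := hV.isLocalization_basicOpen (t.equivFin.symm j).1.1
      have := congrArg (IsLocalization.algEquiv (Submonoid.powers (t.equivFin.symm j).1.1) (Localization.Away (t.equivFin.symm j).1.1)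
        Γ(S, S.basicOpen (t.equivFin.symm j).1.1)) hr
      rw [AlgEquiv.commutes, map_zero] at this
      rw [map_zero, ← ConcreteCategory.comp_apply, ← Functor.map_comp]
      exact this
    refine (injective_iff_map_eq_zero (S.presheaf.map (eqToHom
      (show U ⊓ V = U.ι ''ᵁ (U.ι ⁻¹ᵁ V) by
        rw [Scheme.Hom.image_preimage_eq_opensRange_inf, Scheme.Opens.opensRange_ι])).op).hom).mp
      (ConcreteCategory.bijective_of_isIso _).injective _ ?_
    show (S.presheaf.map _ ≫ S.presheaf.map _) a = 0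
    rw [← Functor.map_comp]
    exact hzero
  · intro i
    obtain ⟨r, hr⟩ := (t.equivFin.symm i).1
    let D := S.basicOpen r
    have hD : IsAffineOpen D := hV.basicOpen r
    let φ := (f.appLE V W e).hom
    have hW' : IsAffineOpen (X.basicOpen (φ r)) := hW.basicOpen _
    have hle : X.basicOpen (φ r) ≤ f ⁻¹ᵁ D := by
      show X.basicOpen (f.appLE V W e r) ≤ f ⁻¹ᵁ D
      rw [Scheme.Hom.appLE, ConcreteCategory.comp_apply, Scheme.basicOpen_res, ← Scheme.preimage_basicOpen]
      exact inf_le_right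
    have hDU : D ≤ U := hr.trans inf_le_left
    have hWU : X.basicOpen (φ r) ≤ f ⁻¹ᵁ U := hle.trans fun _ h => hDU h
    have e1 : U.ι ''ᵁ (U.ι ⁻¹ᵁ D) = D := by
      rw [Scheme.Hom.image_preimage_eq_opensRange_inf, Scheme.Opens.opensRange_ι]
      exact inf_eq_right.mpr hDU
    have e2 : (f ⁻¹ᵁ U).ι ''ᵁ ((f ⁻¹ᵁ U).ι ⁻¹ᵁ X.basicOpen (φ r)) = X.basicOpen (φ r) := by
      rw [Scheme.Hom.image_preimage_eq_opensRange_inf, Scheme.Opens.opensRange_ι]
      exact inf_eq_right.mpr hWU
    have haff1 : IsAffineOpen (U.ι ⁻¹ᵁ D) := by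
      rw [← U.ι.isAffineOpen_iff_of_isOpenImmersion, e1]; exact hD
    have haff2 : IsAffineOpen ((f ⁻¹ᵁ U).ι ⁻¹ᵁ X.basicOpen (φ r)) := by
      rw [← (f ⁻¹ᵁ U).ι.isAffineOpen_iff_of_isOpenImmersion, e2]; exact hW'
    have hfp := (f ∣_ U).finitePresentation_appLE haff1 haff2 (fun x hx => by
      show (f ∣_ U) x ∈ U.ι ⁻¹ᵁ D
      rw [Scheme.Hom.mem_preimage, ← Scheme.Hom.comp_apply, morphismRestrict_ι, Scheme.Hom.comp_apply]
      exact hle hx)
    rw [morphismRestrict_appLE] at hfp
    have hfp' : (f.appLE D (X.basicOpen (φ r)) hle).hom.FinitePresentation :=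
      ((f.appLE_congr _ e1 e2 (fun φ => φ.hom.FinitePresentation)).mp hfp)
    haveI := hV.isLocalization_basicOpen r
    haveI := hW.isLocalization_basicOpen (φ r)
    haveI : Algebra.FinitePresentation Γ(S, V) Γ(S, D) := IsLocalization.Away.finitePresentation r
    letI : Algebra Γ(S, V) Γ(X, X.basicOpen (φ r)) :=
      ((algebraMap Γ(X, W) Γ(X, X.basicOpen (φ r))).comp φ).toAlgebra
    haveI : IsScalarTower Γ(S, V) Γ(X, W) Γ(X, X.basicOpen (φ r)) :=
      IsScalarTower.of_algebraMap_eq' rfl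
    have h1 : Algebra.FinitePresentation Γ(S, V) Γ(X, X.basicOpen (φ r)) := by
      rw [← RingHom.finitePresentation_algebraMap]
      have h2 := hfp'.comp (RingHom.finitePresentation_algebraMap.mpr
        (inferInstance : Algebra.FinitePresentation Γ(S, V) Γ(S, D)))
      convert h2 using 1
      show (f.appLE V W e ≫ X.presheaf.map _).hom = (S.presheaf.map _ ≫ f.appLE _ _ _).hom
      rw [Scheme.Hom.appLE_map, Scheme.Hom.map_appLE]
    exact Algebra.FinitePresentation.equiv
      ((IsLocalization.algEquiv (Submonoid.powers (φ r)) Γ(X, X.basicOpen (φ r))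
        (Localization.Away (φ r))).restrictScalars Γ(S, V))

end Groth.Agent.S0451
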