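import Groth.Statements.S0456
import Groth.Agent.H15Site.ClosedPushAb
import Groth.Agent.H15Site.FlasquePush

open TopologicalSpace CategoryTheory.Abelian Groth.Agent.H10Coh Groth.Agent.H15Site

set_option linter.style.haveILetI false
open CategoryTheory CategoryTheory.Limits Opposite Simplicial

set_option autoImplicit false
universe u
open CategoryTheory
open CohTop

namespace Groth.Agent.S0456

open CategoryTheory.Limits in
/-- For a continuous map f and a flasque abelian sheaf F on the source, R^(q+1) f_* F = 0. -/
theorem result {X Y : TopCat.{u}} (f : X ⟶ Y) (F : CohTop.Ab X)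
    [TopCat.Sheaf.IsFlasque F] (q : ℕ) : IsZero ((CohTop.Rpush f (q + 1)).obj F) := by
  exact FlasquePush.isZero_Rpush_flasque f q F ((flasque_iff F).2 inferInstance)

end Groth.Agent.S0456
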