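import Groth.Statements.S0457
import Groth.Agent.H15Site.LerayDeg
import Mathlib.Topology.Separation.Profinite
import Mathlib.CategoryTheory.Sites.LocallyBijective

open TopologicalSpace Groth.Agent.H15Site Groth.Agent.H15Site.CechTop Groth.Agent.H10Coh
attribute [local instance 10000] Groth.Agent.H10Coh.hasSheafifyAb Groth.Agent.H10Coh.hasWeakSheafifyAb Groth.Agent.H10Coh.hasExtAb Groth.Agent.H10Coh.enoughInjAb

set_option linter.style.haveILetI false
open CategoryTheory CategoryTheory.Limits Opposite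

set_option autoImplicit false
universe u
open CategoryTheory
open CohTop

namespace Groth.Agent.S0457

section
theorem exists_ne_bot {X : TopCat.{u}} [IrreducibleSpace X] {U V : Opens X} (hU : U ≠ ⊥) (hV : V ≠ ⊥) :
    U ⊓ V ≠ ⊥ := by
  obtain ⟨x, hx⟩ := Set.nonempty_iff_ne_empty.2 fun h => hU (Opens.ext h)
  obtain ⟨y, hy⟩ := Set.nonempty_iff_ne_empty.2 fun h => hV (Opens.ext h)
  obtain ⟨z, hz⟩ := nonempty_preirreducible_inter U.isOpen V.isOpen ⟨x, hx⟩ ⟨y, hy⟩
  exact fun h => by rw [← SetLike.mem_coe.symm] at *; exact (h ▸ (show z ∈ U ⊓ V from hz) : z ∈ (⊥ : Opens X))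

variable (X : TopCat.{u}) (A : Type u) [AddCommGroup A]

/-- Constants on nonempty opens. -/
noncomputable def Q : (Opens X)ᵒᵖ ⥤ AddCommGrpCat.{u} where
  obj U := AddCommGrpCat.of (PLift (U.unop ≠ ⊥) → A)
  map {U V} k := AddCommGrpCat.ofHom
    { toFun := fun s h => s ⟨fun e => h.down (le_bot_iff.1 (e ▸ k.unop.le))⟩
      map_zero' := rfl
      map_add' := fun _ _ => rfl }
  map_id _ := rfl
  map_comp _ _ := rfl

theorem isSheaf_Q [IrreducibleSpace X] : TopCat.Presheaf.IsSheaf (Q X A) := by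
  rw [TopCat.Presheaf.isSheaf_iff_isSheafUniqueGluing]
  intro ι U sf hsf
  classical
  have hex : iSup U ≠ ⊥ → ∃ i, U i ≠ ⊥ := fun h => by
    by_contra h'
    exact h (iSup_eq_bot.2 fun i => not_not.1 fun hi => h' ⟨i, hi⟩)
  refine ⟨fun h => sf (hex h.down).choose ⟨(hex h.down).choose_spec⟩, fun i => funext fun h => ?_,
    fun t ht => funext fun h => ?_⟩
  · have h₀ : iSup U ≠ ⊥ := fun e => h.down (le_bot_iff.1 (e ▸ le_iSup U i))
    have := congrFun (hsf (hex h₀).choose i) ⟨exists_ne_bot (hex h₀).choose_spec h.down⟩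
    exact this
  · exact congrFun (ht (hex h.down).choose) ⟨(hex h.down).choose_spec⟩

theorem flasque_const [IrreducibleSpace X] : Flasque (CohTop.const X A) := by
  let QS : CohTop.Ab X := ⟨Q X A, isSheaf_Q X A⟩
  let φ : (Functor.const (Opens X)ᵒᵖ).obj (AddCommGrpCat.of A) ⟶ Q X A :=
    { app := fun U => AddCommGrpCat.ofHom { toFun := fun a _ => a, map_zero' := rfl, map_add' := fun _ _ => rfl }
      naturality := fun _ _ _ => rfl }
  have hi : Presheaf.IsLocallyInjective (Opens.grothendieckTopology X) φ := by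
    refine ⟨fun {U} x y h z hz => ?_⟩
    have hU : U.unop ≠ ⊥ := fun e => by rw [e] at hz; exact hz
    have : x = y := congrFun h ⟨hU⟩
    exact ⟨U.unop, 𝟙 _, congrArg _ this, hz⟩
  have hs : Presheaf.IsLocallySurjective (Opens.grothendieckTopology X) φ := by
    refine ⟨fun {U} s z hz => ?_⟩
    have hU : U ≠ ⊥ := fun e => by rw [e] at hz; exact hz
    exact ⟨U, 𝟙 _, ⟨s ⟨hU⟩, funext fun _ => rfl⟩, hz⟩
  have hW : (Opens.grothendieckTopology X).W φ :=
    (GrothendieckTopology.W_iff_isLocallyBijective _ _).2 ⟨hi, hs⟩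
  rw [GrothendieckTopology.W_iff] at hW
  let e : CohTop.const X A ≅ QS :=
    @asIso _ _ _ _ _ hW ≪≫ (asIso (sheafificationAdjunction (Opens.grothendieckTopology X) AddCommGrpCat.{u}).counit).app QS
  intro U V h s
  obtain ⟨t, ht⟩ : ∃ t : (Q X A).obj (op U), (Q X A).map (homOfLE h).op t = e.hom.hom.app (op V) s := by
    classical
    refine ⟨fun _ => if hV : V ≠ ⊥ then (e.hom.hom.app (op V) s : PLift (V ≠ ⊥) → A) ⟨hV⟩ else 0, funext fun hV => ?_⟩
    exact dif_pos hV.down
  refine ⟨e.inv.hom.app (op U) t, ?_⟩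
  refine (ConcreteCategory.congr_hom (e.inv.hom.naturality (homOfLE h).op) t).symm.trans ?_
  refine (congrArg (e.inv.hom.app (op V)) ht).trans ?_
  exact ConcreteCategory.congr_hom (congrArg (fun φ => φ.hom.app (op V)) e.hom_inv_id) s
end

/-- If X is an irreducible topological space and A an abelian group, then H^(p+1)(X, A) = 0 for the
constant sheaf with value A. -/
theorem result {X : TopCat.{u}} [IrreducibleSpace X]
    (A : Type u) [AddCommGroup A] (p : ℕ) : Subsingleton (CohTop.H (CohTop.const X A) (p + 1)) := by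
  have := subsingleton_of_flasque (flasque_const X A) p ⊤
  exact (topEquiv _ (p + 1)).toEquiv.subsingleton

end Groth.Agent.S0457
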