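import Groth.Statements.S0460
import Groth.Agent.H10Coh.SheafH

open TopologicalSpace CategoryTheory.Abelian Groth.Agent.H10Coh

set_option linter.style.haveILetI false
open CategoryTheory CategoryTheory.Limits Opposite Simplicial

set_option autoImplicit false
universe u
open CategoryTheory
open CohTop

namespace Groth.Agent.S0460

open TopologicalSpace in
/-- Given an abelian sheaf F, an open U and a class ξ in H^(n+1)(U, F), there is an open covering of U
on each member of which ξ restricts to zero. -/
theorem result {X : TopCat.{u}} (F : CohTop.Ab X) (U : Opens X) (n : ℕ)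
    (ξ : CohTop.HU F (n + 1) U) :
    ∃ (ι : Type u) (V : ι → Opens X) (hV : ∀ i, V i ≤ U), iSup V = U ∧
      ∀ i, CohTop.res F (n + 1) (hV i) ξ = 0 := by
  have key : ∀ p : U, ∃ (V : Opens X) (h : V ≤ U), p.1 ∈ V ∧ resH F (n + 1) h ξ = 0 :=
    fun p => exists_resH_eq_zero ξ p.2
  choose V hVU hpV hV using key
  refine ⟨U, V, hVU, ?_, fun i => ?_⟩
  · exact le_antisymm (iSup_le hVU) fun p hp => Opens.mem_iSup.2 ⟨⟨p, hp⟩, hpV ⟨p, hp⟩⟩
  · exact hV i

end Groth.Agent.S0460
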