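import Groth.Statements.S0463
import Groth.Agent.H15Site.LerayDeg

open TopologicalSpace Groth.Agent.H15Site Groth.Agent.H10Coh

set_option linter.style.haveILetI false
open CategoryTheory CategoryTheory.Limits Opposite

set_option autoImplicit false
universe u
open CategoryTheory
open CohTop

namespace Groth.Agent.S0463

open TopologicalSpace in
/-- For an abelian sheaf F on X and an open U, H^n(U, F) (derived functors of sections over U) is
isomorphic to H^n(U, F|_U) computed on the space U. -/
theorem result {X : TopCat.{u}} (F : CohTop.Ab X) (U : Opens X) (n : ℕ) :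
    Nonempty (CohTop.HU F n U ≃+ CohTop.H (CohTop.restr F U) n) := by
  let j : TopCat.of U ⟶ X := TopCat.ofHom ⟨(Subtype.val : U → X), continuous_subtype_val⟩
  have hj : Topology.IsOpenEmbedding j := U.isOpenEmbedding
  have e : im hj ⊤ = U := by
    ext x
    exact ⟨fun ⟨y, _, hy⟩ => hy ▸ y.2, fun hx => ⟨⟨x, hx⟩, trivial, rfl⟩⟩
  have E := restrEquiv hj F n ⊤
  rw [e] at E
  exact ⟨E.trans (topEquiv _ n).symm⟩

end Groth.Agent.S0463
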