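import Groth.Statements.S0466
import Groth.Agent.H15Site.CechLeray

open TopologicalSpace Groth.Agent.H15Site Groth.Agent.H15Site.CechTop

set_option linter.style.haveILetI false
open CategoryTheory CategoryTheory.Limits Opposite

set_option autoImplicit false
universe u
open CategoryTheory
open CohTop

namespace Groth.Agent.S0466

open TopologicalSpace Opposite in
/-- Consider a short exact sequence of abelian sheaves with kernel F, middle term G and quotient H, and
an open U. If every open covering of U admits a refinement on which the first Cech cohomology of F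
vanishes, then sections of G over U map onto sections of H over U. -/
theorem result {X : TopCat.{u}}
    (S : CategoryTheory.ShortComplex (CohTop.Ab X)) (hS : S.ShortExact) (U : Opens X)
    (h : ∀ (ι : Type u) (V : ι → Opens X), iSup V = U →
      ∃ (κ : Type u) (W : κ → Opens X) (r : κ → ι), iSup W = U ∧ (∀ k, W k ≤ V (r k)) ∧
        CategoryTheory.Limits.IsZero (CohTop.cechH S.X₁.obj W 1)) :
    Function.Surjective (S.g.hom.app (op U)) := by
  intro s
  have := (TopCat.Presheaf.isLocallySurjective_iff _).1
    ((TopCat.Sheaf.isLocallySurjective_iff_epi _).2 hS.epi_g) U s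
  choose V hVU hV' hxV using fun x : U => this x.1 x.2
  obtain ⟨κ, W, r, hW, hr, hH⟩ := h U V (le_antisymm (iSup_le hVU)
    fun x hx => Opens.mem_iSup.2 ⟨⟨x, hx⟩, hxV ⟨x, hx⟩⟩)
  refine CechLeray.exists_lift_section W hS (fun k => (le_iSup W k).trans hW.le) hW.ge hH s fun k => ?_
  obtain ⟨t, ht⟩ := hV' (r k)
  refine ⟨res S.X₂.obj (hr k) t, ?_⟩
  rw [← res_map]
  exact (congrArg (res S.X₃.obj (hr k)) ht).trans (res_res S.X₃.obj (hVU (r k)) (hr k) s)

end Groth.Agent.S0466
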