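import Groth.Statements.S0479
import Groth.Agent.H16Derived.KInjRes.SmallGen

set_option autoImplicit false
universe v u
open CategoryTheory
open CohDer

namespace Groth.Agent.S0479

open CategoryTheory CategoryTheory.Limits

open CategoryTheory.Limits CategoryTheory.Pretriangulated.Opposite in
/-- For A Grothendieck abelian, every cohomological functor from D(A)^op to abelian groups that turns
coproducts into products is of the form Hom(-, X) for some object X of D(A). -/
theorem result {A : Type u} [Category.{v} A] [Abelian A]
    [IsGrothendieckAbelian.{v} A] [HasDerivedCategory.{v} A]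
    (H : (DerivedCategory A)ᵒᵖ ⥤ AddCommGrpCat.{v}) [H.IsHomological]
    [∀ (ι : Type v), PreservesLimitsOfShape (Discrete ι) H] :
    (H ⋙ forget AddCommGrpCat.{v}).IsRepresentable := by
  have : HasCoproducts.{v} (DerivedCategory A) :=
    Groth.Agent.H16Derived.KInjRes.hasCoproducts_derivedCategory
  have : HasColimitsOfShape (Discrete ℕ) (DerivedCategory A) :=
    Groth.Agent.H16Derived.Brown.hasColimitsOfShape_nat
  obtain ⟨ι, E, hE⟩ := Groth.Agent.H16Derived.KInjRes.exists_gen (A := A)
  exact Groth.Agent.H16Derived.Brown.isRepresentable H hE

end Groth.Agent.S0479
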