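import Groth.Statements.S0481
import Groth.Agent.H16Derived.KInjRes.Products

set_option autoImplicit false
universe v u
open CategoryTheory
open CohDer

namespace Groth.Agent.S0481

open CategoryTheory CategoryTheory.Limits

open CategoryTheory.Limits in
/-- Let u : A ⥤ B be right adjoint to an exact additive functor w : B ⥤ A between abelian categories.
Then u applied termwise sends K-injective complexes to K-injective complexes. -/
theorem result {A : Type u} [Category.{v} A] [Abelian A]
    {B : Type u} [Category.{v} B] [Abelian B] (u : A ⥤ B) (w : B ⥤ A) (adj : w ⊣ u)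
    [u.Additive] [w.Additive] [PreservesFiniteLimits w] [PreservesFiniteColimits w]
    (I : CochainComplex A ℤ) (h : I.IsKInjective) :
    CochainComplex.IsKInjective ((u.mapHomologicalComplex (ComplexShape.up ℤ)).obj I) := by
  refine ⟨fun {K} f hK => ?_⟩
  let W := (w.mapHomologicalComplex (ComplexShape.up ℤ)).obj K
  let g : W ⟶ I :=
    { f := fun n => (adj.homEquiv _ _).symm (f.f n)
      comm' := fun i j _ => (adj.homEquiv_naturality_right_symm _ _).symm.trans
        ((congrArg _ (f.comm i j)).trans (adj.homEquiv_naturality_left_symm _ _)) }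
  obtain ⟨hh⟩ := h.nonempty_homotopy_zero g (fun n => (hK n).map w)
  refine ⟨{ hom := fun a b => adj.homEquiv _ _ (hh.hom a b), zero := fun a b hab => ?_, comm := fun a => ?_ }⟩
  · show adj.homEquiv _ _ (hh.hom a b) = 0
    rw [hh.zero a b hab, Adjunction.homEquiv_unit]
    erw [Functor.map_zero, comp_zero]
  · rw [dNext_eq _ (show (ComplexShape.up ℤ).Rel a (a + 1) from rfl),
      prevD_eq _ (show (ComplexShape.up ℤ).Rel (a - 1) a by simp)]
    have hc := hh.comm a
    rw [dNext_eq _ (show (ComplexShape.up ℤ).Rel a (a + 1) from rfl),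
      prevD_eq _ (show (ComplexShape.up ℤ).Rel (a - 1) a by simp)] at hc
    have := congrArg (adj.homEquiv _ _) hc
    simp [g, W, Adjunction.homEquiv_unit] at this ⊢
    refine this.trans ?_
    have key : ∀ (x : w.obj (K.X (a + 1)) ⟶ I.X a) (y : w.obj (K.X a) ⟶ I.X (a - 1)),
        adj.unit.app (K.X a) ≫ u.map (w.map (K.d a (a + 1)) ≫ x + y ≫ I.d (a - 1) a) =
          (K.d a (a + 1) ≫ adj.homEquiv _ _ x : K.X a ⟶ u.obj (I.X a)) +
            adj.homEquiv _ _ y ≫ u.map (I.d (a - 1) a) := fun x y => by
      simp [Adjunction.homEquiv_unit]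
    exact key _ _

end Groth.Agent.S0481
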