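import Groth.Statements.S0482
import Groth.Agent.H15Site.CohPush
import Groth.Agent.H15Site.OverInj
import Groth.Agent.H15Site.CohTerminal

set_option autoImplicit false
universe u
open CategoryTheory
open CohSite

attribute [local instance 10000] Groth.Agent.H15Site.SiteInst.hasSheafifySite Groth.Agent.H15Site.SiteInst.hasWeakSheafifySite
  Groth.Agent.H15Site.SiteInst.hasExtSite Groth.Agent.H15Site.SiteInst.enoughInjSite
open CategoryTheory.Limits

namespace Groth.Agent.S0482

/-- For a sheaf of abelian groups F on a small site and an object U, H^n(U, F) (Ext out of the free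
abelian sheaf on U) is isomorphic to the cohomology of the restriction of F to the site of objects
over U (existence of a group isomorphism). -/
theorem result {C : Type u} [SmallCategory C] (J : GrothendieckTopology C)
    (F : Sheaf J AddCommGrpCat.{u}) (U : C) (n : ℕ) :
    Nonempty (CohSite.HU F n U ≃+ Sheaf.H.{u} (F.over U) n) := by
  obtain ⟨e⟩ := H15Site.CohPush.nonempty_HU_push_addEquiv (J := J.over U) (K := J) (Over.forget U)
    (Over.mk (𝟙 U)) (fun I _ m => by
      haveI := H15Site.OverInj.injective_over U I
      exact subsingleton_of_forall_eq 0 fun x => Abelian.Ext.eq_zero_of_injective x) F n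
  obtain ⟨e₁⟩ := H15Site.CohTerminal.nonempty_H_addEquiv (J.over U) Over.mkIdTerminal
    ((CohSite.push J (J.over U) (Over.forget U)).obj F) n
  exact ⟨e.symm.trans e₁.symm⟩

end Groth.Agent.S0482
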