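import Groth.Statements.S0488
import Groth.Agent.H15Site.OverShriek
import Mathlib.Topology.Sheaves.Over

set_option autoImplicit false
universe u
open CohTop

set_option linter.style.haveILetI false
set_option backward.isDefEq.respectTransparency false
open CategoryTheory CategoryTheory.Limits
attribute [local instance 10000] Groth.Agent.H15Site.SiteInst.hasSheafifySite Groth.Agent.H15Site.SiteInst.hasWeakSheafifySite


namespace Groth.Agent.S0488

open TopologicalSpace in
/-- For an open U of X, restriction to U sends K-injective complexes of abelian sheaves on X to
K-injective complexes on U. -/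
theorem result {X : TopCat.{u}} (U : Opens X) (I : CochainComplex (CohTop.Ab X) ℤ)
    (h : I.IsKInjective) :
    CochainComplex.IsKInjective (((CohTop.restrFunctor U).mapHomologicalComplex (ComplexShape.up ℤ)).obj I) := by
  let E := U.sheafEquivOver (A := AddCommGrpCat.{u})
  let R := (Over.forget U).sheafPushforwardContinuous AddCommGrpCat.{u} ((Opens.grothendieckTopology X).over U) (Opens.grothendieckTopology X)
  haveI : R.Additive := ⟨fun {_ _ _ _} => rfl⟩
  haveI : E.functor.Additive := Functor.additive_of_preserves_binary_products _
  haveI : E.inverse.Additive := Functor.additive_of_preserves_binary_products _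
  haveI := Groth.Agent.H15Site.OverShriek.isKInjective_restrict U (Opens.grothendieckTopology X) I h
  let adj : E.inverse ⊣ E.functor := E.symm.toAdjunction
  haveI := Groth.Agent.H16Derived.ExactAdj.isKInjective_map adj
    ((R.mapHomologicalComplex (ComplexShape.up ℤ)).obj I)
  exact CochainComplex.isKInjective_of_iso (L₁ := ((E.functor.mapHomologicalComplex (ComplexShape.up ℤ)).obj
    ((R.mapHomologicalComplex (ComplexShape.up ℤ)).obj I)))
    (HomologicalComplex.Hom.isoOfComponents (fun _ => Iso.refl _)
      (fun _ _ _ => (Category.id_comp _).trans (Category.comp_id _).symm))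

end Groth.Agent.S0488
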