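import Groth.Statements.S0489
import Mathlib.Algebra.Homology.HomotopyCategory.KInjective
import Mathlib.Algebra.Homology.HomologicalComplexLimits
import Mathlib.CategoryTheory.Functor.OfSequence

set_option autoImplicit false
universe v u
open CategoryTheory
open CohDer

namespace Groth.Agent.S0489

open CochainComplex CochainComplex.HomComplex
set_option linter.style.haveILetI false
open CategoryTheory.Limits Opposite in
theorem aux {A : Type u} [Category.{v} A] [Abelian A] [HasLimitsOfShape ℕᵒᵖ A]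
    (I : ℕᵒᵖ ⥤ CochainComplex A ℤ) (h1 : ∀ n : ℕ, (I.obj (op n)).IsKInjective)
    (h2 : ∀ (n : ℕ) (m : ℤ), IsSplitEpi ((I.map (homOfLE (Nat.le_succ n)).op).f m))
    {K : CochainComplex A ℤ} (f : K ⟶ limit I) (hK : K.Acyclic) : Nonempty (Homotopy f 0) := by
  let p : ∀ n : ℕ, I.obj (op (n + 1)) ⟶ I.obj (op n) := fun n => I.map (homOfLE (Nat.le_succ n)).op
  let fn : ∀ n : ℕ, K ⟶ I.obj (op n) := fun n => f ≫ limit.π I (op n)
  have hfn : ∀ n, fn (n + 1) ≫ p n = fn n := fun n => by
    simp only [fn, p, Category.assoc, limit.w]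
  let H := fun n : ℕ => { z : Cochain K (I.obj (op n)) (-1) // δ (-1) 0 z = Cochain.ofHom (fn n) }
  have h0 : Nonempty (H 0) := by
    haveI := h1 0
    obtain ⟨ho⟩ := CochainComplex.IsKInjective.nonempty_homotopy_zero (fn 0) hK
    refine ⟨⟨(Cochain.equivHomotopy _ _ ho).1, ?_⟩⟩
    simpa using ((Cochain.equivHomotopy _ _ ho).2).symm
  have step : ∀ n (z : H n), ∃ z' : H (n + 1),
      z'.1.comp (Cochain.ofHom (p n)) (add_zero _) = z.1 := by
    intro n z
    haveI := h1 n
    haveI := h1 (n + 1)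
    obtain ⟨ho⟩ := CochainComplex.IsKInjective.nonempty_homotopy_zero (fn (n + 1)) hK
    obtain ⟨w, hw⟩ : ∃ w, δ (-1) 0 w = Cochain.ofHom (fn (n + 1)) :=
      ⟨(Cochain.equivHomotopy _ _ ho).1, by simpa using ((Cochain.equivHomotopy _ _ ho).2).symm⟩
    have hc : δ (-1) 0 (w.comp (Cochain.ofHom (p n)) (add_zero _) - z.1) = 0 := by
      rw [δ_sub, δ_comp_ofHom, hw, z.2, ← Cochain.ofHom_comp, hfn, sub_self]
    obtain ⟨g, hg⟩ := CochainComplex.IsKInjective.eq_δ_of_cocycle
      (Cocycle.mk _ 0 (neg_add_cancel 1) hc) hK (-2) (by norm_num)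
    let g' : Cochain K (I.obj (op (n + 1))) (-2) := Cochain.mk fun a b hab =>
      g.v a b hab ≫ (h2 n b).exists_splitEpi.some.section_
    have hg' : g'.comp (Cochain.ofHom (p n)) (add_zero _) = g := by
      ext a b hab
      rw [Cochain.comp_zero_cochain_v, Cochain.ofHom_v, Cochain.mk_v, Category.assoc]
      exact (congrArg (g.v a b hab ≫ ·) (h2 n b).exists_splitEpi.some.id).trans (Category.comp_id _)
    refine ⟨⟨w - δ (-2) (-1) g', by rw [δ_sub, δ_δ, sub_zero, hw]⟩, ?_⟩
    show Cochain.comp (w - δ (-2) (-1) g') (Cochain.ofHom (p n)) _ = z.1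
    rw [Cochain.sub_comp, ← δ_comp_ofHom, hg', hg]
    exact sub_sub_cancel _ _
  choose next hnext using step
  let h : ∀ n, H n := fun n => Nat.rec (motive := H) h0.some (fun k hk => next k hk) n
  have hcomp : ∀ n, (h (n + 1)).1.comp (Cochain.ofHom (p n)) (add_zero _) = (h n).1 := fun n => hnext n _
  let ev := fun b : ℤ => HomologicalComplex.eval A (ComplexShape.up ℤ) b
  let hl : ∀ b, IsLimit ((ev b).mapCone (limit.cone I)) := fun b =>
    isLimitOfPreserves (ev b) (limit.isLimit I)
  let cne : ∀ a b : ℤ, a + (-1) = b → Cone (I ⋙ ev b) := fun a b hab =>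
    { pt := K.X a
      π := NatTrans.ofOpSequence (F := (Functor.const ℕᵒᵖ).obj (K.X a)) (G := I ⋙ ev b)
        (fun n => (h n).1.v a b hab) (fun n => by
          show 𝟙 _ ≫ _ = _
          rw [Category.id_comp]
          show _ = (h (n + 1)).1.v a b hab ≫ (p n).f b
          rw [← hcomp n, Cochain.comp_zero_cochain_v, Cochain.ofHom_v]) }
  let z : Cochain K (limit I) (-1) := Cochain.mk fun a b hab => (hl b).lift (cne a b hab)
  refine ⟨(Cochain.equivHomotopy f 0).symm ⟨z, ?_⟩⟩
  have hzn : ∀ n, z.comp (Cochain.ofHom (limit.π I (op n))) (add_zero _) = (h n).1 := fun n => by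
    ext a b hab
    rw [Cochain.comp_zero_cochain_v, Cochain.ofHom_v, Cochain.mk_v]
    exact (hl b).fac (cne a b hab) (op n)
  rw [Cochain.ofHom_zero, add_zero]
  ext i
  refine (hl i).hom_ext fun ⟨n⟩ => ?_
  have e := congrArg (fun c => c.v i i (add_zero i)) (δ_comp_ofHom z (limit.π I (op n)) 0)
  simp only [Cochain.comp_zero_cochain_v, Cochain.ofHom_v, hzn, (h n).2] at e
  rw [Cochain.ofHom_v]
  exact e

open CategoryTheory.Limits Opposite in
/-- Let … → I_3 → I_2 → I_1 be an inverse system of K-injective cochain complexes in an abelian category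
with sequential limits, such that each transition map is a split epimorphism in each degree. Then
the (termwise) limit complex is K-injective. -/
theorem result {A : Type u} [Category.{v} A] [Abelian A] [HasLimitsOfShape ℕᵒᵖ A]
    (I : ℕᵒᵖ ⥤ CochainComplex A ℤ) (h1 : ∀ n : ℕ, (I.obj (op n)).IsKInjective)
    (h2 : ∀ (n : ℕ) (m : ℤ), IsSplitEpi ((I.map (homOfLE (Nat.le_succ n)).op).f m)) :
    (limit I).IsKInjective := by
  exact ⟨fun f hK => aux I h1 h2 f hK⟩

end Groth.Agent.S0489
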