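import Groth.Statements.S0490
import Mathlib.CategoryTheory.Triangulated.Orthogonal
import Mathlib.CategoryTheory.Triangulated.Yoneda
import Mathlib.CategoryTheory.Adjunction.PartialAdjoint

set_option autoImplicit false
universe v u
open CategoryTheory
open CohDer

namespace Groth.Agent.S0490

open CategoryTheory CategoryTheory.Limits CategoryTheory.Pretriangulated
open scoped ZeroObject

open CategoryTheory.Pretriangulated in
/-- Let A be a full triangulated subcategory of a pretriangulated category D (an object property
containing zero, stable under shifts and closed under extensions). The inclusion A → D is a left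
adjoint (i.e. has a right adjoint) if and only if every object X of D fits in a distinguished
triangle A → X → B → A[1] with A in the subcategory and B right orthogonal to it. (The source's
further conclusions about saturation are not asserted.) -/
theorem result {D : Type u} [Category.{v} D] [Preadditive D] [Limits.HasZeroObject D] [HasShift D ℤ]
    [∀ n : ℤ, (shiftFunctor D n).Additive] [Pretriangulated D]
    (P : ObjectProperty D) [P.IsTriangulated] :
    P.ι.IsLeftAdjoint ↔ ∀ X : D, ∃ (A B : D) (f : A ⟶ X) (g : X ⟶ B) (h : B ⟶ (shiftFunctor D (1 : ℤ)).obj A),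
      Triangle.mk f g h ∈ distinguishedTriangles ∧ P A ∧ P.rightOrthogonal B := by
  constructor
  · intro hL X
    let adj := Adjunction.ofIsLeftAdjoint P.ι
    obtain ⟨A, hA, f, hf, hf'⟩ : ∃ (A : D) (_ : P A) (f : A ⟶ X),
        (∀ (a : D) (_ : P a) (u : a ⟶ X), ∃ v : a ⟶ A, v ≫ f = u) ∧
        (∀ (a : D) (_ : P a) (v : a ⟶ A), v ≫ f = 0 → v = 0) := by
      refine ⟨(P.ι.rightAdjoint.obj X).obj, (P.ι.rightAdjoint.obj X).property, adj.counit.app X,
        fun a ha u => ⟨(adj.homEquiv ⟨a, ha⟩ X u).hom, ?_⟩, fun a ha v hv => ?_⟩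
      · have := (adj.homEquiv ⟨a, ha⟩ X).symm_apply_apply u
        rw [Adjunction.homEquiv_counit] at this
        exact this
      · let v' : (⟨a, ha⟩ : P.FullSubcategory) ⟶ P.ι.rightAdjoint.obj X := ObjectProperty.homMk v
        have h1 : (adj.homEquiv _ X).symm v' =
            (adj.homEquiv (⟨a, ha⟩ : P.FullSubcategory) X).symm (ObjectProperty.homMk 0) := by
          rw [Adjunction.homEquiv_counit, Adjunction.homEquiv_counit]
          exact hv.trans zero_comp.symm
        exact congrArg (fun x : (⟨a, ha⟩ : P.FullSubcategory) ⟶ P.ι.rightAdjoint.obj X => x.hom)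
          ((adj.homEquiv _ X).symm.injective h1) |>.trans rfl
    obtain ⟨B, g, h, hT⟩ := distinguished_cocone_triangle f
    refine ⟨A, B, f, g, h, hT, hA, fun {a} u ha => ?_⟩
    have hz : u ≫ h = 0 := by
      -- move to the unshifted level
      let e := shiftEquiv D (1 : ℤ)
      let c := e.counitIso.app a
      obtain ⟨v, hv⟩ := (shiftFunctor D (1 : ℤ)).map_surjective (c.hom ≫ u ≫ h)
      have h0 : v ≫ f = 0 := by
        apply (shiftFunctor D (1 : ℤ)).map_injective
        rw [Functor.map_comp, hv, Functor.map_zero]
        simp only [Category.assoc]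
        rw [show h ≫ (shiftFunctor D (1 : ℤ)).map f = 0 from comp_distTriang_mor_zero₃₁ _ hT]
        simp
      rw [hf' (e.inverse.obj a) (P.le_shift (-1 : ℤ) _ ha) v h0, Functor.map_zero] at hv
      rw [← cancel_epi c.hom, comp_zero]
      exact hv.symm
    obtain ⟨w, hw⟩ : ∃ w : a ⟶ X, u = w ≫ g := Triangle.coyoneda_exact₃ _ hT u hz
    obtain ⟨v, hv⟩ := hf a ha w
    rw [hw, ← hv, Category.assoc, show f ≫ g = 0 from comp_distTriang_mor_zero₁₂ _ hT, comp_zero]
  · intro h
    apply Functor.isLeftAdjoint_of_rightAdjointObjIsDefined_eq_top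
    ext X
    simp only [Pi.top_apply, Prop.top_eq_true, iff_true]
    rw [Functor.rightAdjointObjIsDefined_iff]
    obtain ⟨A, B, f, g, k, hT, hA, hB⟩ := h X
    have hbij : ∀ Y : P.FullSubcategory,
        Function.Bijective (fun φ : Y ⟶ (⟨A, hA⟩ : P.FullSubcategory) => φ.hom ≫ f) := by
      intro Y
      constructor
      · intro a b hab
        apply ObjectProperty.hom_ext
        rw [← sub_eq_zero]
        set d := a.hom - b.hom
        have hd : d ≫ f = 0 := by rw [Preadditive.sub_comp]; exact sub_eq_zero.2 hab
        have hT' := inv_rot_of_distTriang _ hT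
        obtain ⟨w, hw⟩ := Triangle.coyoneda_exact₂ _ hT' d hd
        have hw0 : w = 0 := (P.rightOrthogonal.le_shift (-1 : ℤ) B hB) w Y.property
        rw [hw, hw0, zero_comp]
        rfl
      · intro u
        obtain ⟨v, hv⟩ : ∃ v : Y.obj ⟶ A, u = v ≫ f :=
          Triangle.coyoneda_exact₂ _ hT u (hB _ Y.property)
        exact ⟨ObjectProperty.homMk v, hv.symm⟩
    exact ⟨⟨_, ⟨{ homEquiv := fun {Y} => Equiv.ofBijective _ (hbij Y)
                  homEquiv_comp := fun a b => by
                    exact Category.assoc _ _ _ }⟩⟩⟩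

end Groth.Agent.S0490
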