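import Groth.Statements.S0492
import Groth.Agent.H15Site.ConstSplit
import Groth.Agent.H15Site.HUBasic
import Mathlib.CategoryTheory.Sites.CoverLifting
import Mathlib.CategoryTheory.Adjunction.Triple
import Mathlib.CategoryTheory.Sites.Pullback
import Mathlib.CategoryTheory.Limits.Types.Limits

open Groth.Agent.H15Site

set_option linter.style.haveILetI false
open CategoryTheory CategoryTheory.Limits Opposite

set_option autoImplicit false
universe u
open CategoryTheory
open CohSite

namespace Groth.Agent.S0492

open CategoryTheory.Limits in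
open CategoryTheory.Limits Opposite in
/-- Part (4), for sheaves of abelian groups: let B be a set of weakly contractible objects of a small
site such that every object admits a covering family by members of B. Then products in the category
of abelian sheaves are exact (Grothendieck's AB4*). -/
theorem result {C : Type u} [SmallCategory C] (J : GrothendieckTopology C)
    (B : Set C) (hB : ∀ U ∈ B, CohSite.IsWeaklyContractible J U)
    (hcov : ∀ V : C, ∃ (ι : Type u) (U : ι → C) (f : ∀ i, U i ⟶ V), (∀ i, U i ∈ B) ∧ Sieve.ofArrows U f ∈ J V) :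
    AB4Star (Sheaf J AddCommGrpCat.{u}) := by
  refine ⟨fun α => ?_⟩
  haveI : (lim : (Discrete α ⥤ Sheaf J AddCommGrpCat.{u}) ⥤ Sheaf J AddCommGrpCat.{u}).Additive :=
    Functor.additive_of_preserves_binary_products _
  refine ⟨HUBasic.preservesFiniteColimits_of_epi _ fun F G φ hφ => ?_⟩
  refine (Sheaf.isLocallySurjective_iff_epi' _ _).1 ⟨fun {V} s => ?_⟩
  obtain ⟨ι, U, f, hU, hf⟩ := hcov V
  refine J.superset_covering ?_ hf
  intro W a ha
  obtain ⟨i, b, rfl⟩ := (Sieve.mem_ofArrows_iff _ _ _).1 ha
  refine (Presheaf.imageSieve _ s).downward_closed ?_ b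
  let Ev : Sheaf J AddCommGrpCat.{u} ⥤ AddCommGrpCat.{u} :=
    sheafToPresheaf J _ ⋙ (evaluation Cᵒᵖ AddCommGrpCat.{u}).obj (op (U i))
  let Ev' : Sheaf J AddCommGrpCat.{u} ⥤ Type u := Ev ⋙ CategoryTheory.forget AddCommGrpCat.{u}
  have hφj : ∀ j, Function.Surjective (Ev.map (φ.app j)).hom := fun j => by
    haveI : Epi (φ.app j) := inferInstance
    exact HUBasic.surjective_app_of_weaklyContractible (φ.app j) (hB _ (hU i))
  let eF := Types.isLimitEquivSections (isLimitOfPreserves Ev' (limit.isLimit F))
  let eG := Types.isLimitEquivSections (isLimitOfPreserves Ev' (limit.isLimit G))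
  let s' : Ev'.obj (limit G) := (limit G).obj.map (f i).op s
  choose t ht using fun j => hφj j ((eG s').1 j)
  have hnat : ∀ {j j' : Discrete α} (k : j ⟶ j'), (F ⋙ Ev').map k (t j) = t j' := fun {j j'} k => by
    obtain rfl : j = j' := Discrete.ext (Discrete.eq_of_hom k)
    obtain rfl : k = 𝟙 j := Subsingleton.elim _ _
    exact ConcreteCategory.congr_hom ((F ⋙ Ev').map_id j) (t j)
  refine ⟨eF.symm ⟨t, hnat⟩, eG.injective (Subtype.ext (funext fun j => ?_))⟩
  refine Eq.trans ?_ (ht j)
  refine (ConcreteCategory.congr_hom (congrArg Ev'.map (limMap_π φ j)) (eF.symm ⟨t, hnat⟩) |> fun h => (Eq.trans ?_ h)).trans ?_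
  · exact (ConcreteCategory.congr_hom (Ev'.map_comp (limMap φ) (limit.π G j)) _).symm
  · refine (ConcreteCategory.congr_hom (Ev'.map_comp (limit.π F j) (φ.app j)) _).trans ?_
    exact congrArg (Ev'.map (φ.app j)) (congrArg (fun z => z.1 j) (eF.apply_symm_apply ⟨t, hnat⟩))

end Groth.Agent.S0492
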