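import Groth.Statements.S0496
import Groth.Agent.H9Hens.Annihilator
import Groth.Agent.H9Hens.Local
-- import your own Groth.Agent.* helpers here

set_option autoImplicit false
universe u
open Hensel

namespace Groth.Agent.S0496

/-- If every factorization of the reduction of a monic polynomial into two coprime factors over the
residue field lifts to a factorization over the local ring, then the local ring is henselian. -/
theorem result (R : Type u) [CommRing R] [IsLocalRing R]
    (h : ∀ f : Polynomial R, f.Monic →
      ∀ g₀ h₀ : Polynomial (IsLocalRing.ResidueField R), IsCoprime g₀ h₀ →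
      Polynomial.map (IsLocalRing.residue R) f = g₀ * h₀ →
      ∃ g h : Polynomial R, f = g * h ∧ Polynomial.map (IsLocalRing.residue R) g = g₀ ∧
        Polynomial.map (IsLocalRing.residue R) h = h₀) :
    HenselianLocalRing R := by
  have := Groth.Agent.H9Hens.henselianRing_of_idem_lift
    (Groth.Agent.H9Hens.maximalIdeal_le_jac R) fun B _ _ _ b hb => by
      obtain ⟨G, N, hN, hG, hG0, hGmap⟩ := Groth.Agent.H9Hens.exists_monic_annihilator b hb
      have hGmap' : Polynomial.map (IsLocalRing.residue R) G =
          Polynomial.X ^ N * (Polynomial.X - 1) ^ N := hGmap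
      obtain ⟨u₀, v₀, huv⟩ := (IsCoprime.pow (⟨1, -1, by ring⟩) :
        IsCoprime ((Polynomial.X : Polynomial (IsLocalRing.ResidueField R)) ^ N)
          ((Polynomial.X - 1) ^ N))
      obtain ⟨g, g', hgg, hgmap, hg'map⟩ := h G hG _ _ ⟨u₀, v₀, huv⟩ hGmap'
      obtain ⟨u, rfl⟩ := Polynomial.map_surjective _ IsLocalRing.residue_surjective u₀
      obtain ⟨v, rfl⟩ := Polynomial.map_surjective _ IsLocalRing.residue_surjective v₀
      set L := (IsLocalRing.maximalIdeal R).map (algebraMap R B)
      set π := Ideal.Quotient.mk L
      let κ : IsLocalRing.ResidueField R →+* B ⧸ L :=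
        Ideal.quotientMap L (algebraMap R B) Ideal.le_comap_map
      have hev : ∀ r : Polynomial R, π (Polynomial.aeval b r) =
          Polynomial.eval₂ κ (π b) (r.map (IsLocalRing.residue R)) := fun r => by
        rw [Polynomial.aeval_def, Polynomial.hom_eval₂, Polynomial.eval₂_map]
        rfl
      have hidem : π b * π b = π b := by rw [← map_mul]; exact Ideal.Quotient.eq.mpr hb
      have hgπ : π (Polynomial.aeval b g) = π b := by
        rw [hev, hgmap, Polynomial.eval₂_X_pow, ← Nat.succ_pred_eq_of_pos hN]
        exact IsIdempotentElem.pow_succ_eq _ hidem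
      have hg'π : π b * π (Polynomial.aeval b g') = 0 := by
        rw [hev, hg'map, Polynomial.eval₂_pow, Polynomial.eval₂_sub, Polynomial.eval₂_X,
          Polynomial.eval₂_one, ← Nat.succ_pred_eq_of_pos hN, pow_succ]
        linear_combination (π b - 1) ^ N.pred * hidem
      have hone : π (Polynomial.aeval b u * Polynomial.aeval b g +
          Polynomial.aeval b v * Polynomial.aeval b g') = 1 := by
        rw [← map_mul, ← map_mul, ← map_add, hev, Polynomial.map_add, Polynomial.map_mul,
          Polynomial.map_mul, hgmap, hg'map, huv, Polynomial.eval₂_one]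
      obtain ⟨w, hw⟩ := isUnit_iff_exists_inv.mp (Groth.Agent.H9Hens.isUnit_of_isUnit_mk
        (Groth.Agent.H9Hens.map_le_jacobson_of_isIntegral
          (Groth.Agent.H9Hens.maximalIdeal_le_jac R)) (hone ▸ isUnit_one))
      have hGb : Polynomial.aeval b g * Polynomial.aeval b g' = 0 := by
        rw [← map_mul, ← hgg, hG0]
      refine ⟨Polynomial.aeval b u * Polynomial.aeval b g * w, ?_, ?_⟩
      · rw [IsIdempotentElem]
        linear_combination (Polynomial.aeval b u * Polynomial.aeval b g * w) * hw -
          (Polynomial.aeval b u * Polynomial.aeval b v * w * w) * hGb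
      · rw [← Ideal.Quotient.eq]
        have h1 := congrArg π hw
        rw [map_mul, hone, one_mul, map_one] at h1
        show π _ = π b
        rw [map_mul, h1, mul_one, map_mul, hgπ]
        have h2 := congrArg (fun x => π b * x) hone
        simp only [map_add, map_mul, hgπ, mul_one] at h2
        linear_combination h2 - π (Polynomial.aeval b v) * hg'π -
          π (Polynomial.aeval b u) * hidem
  exact Groth.Agent.H9Hens.henselianLocalRing_of_henselianRing

end Groth.Agent.S0496
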