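import Groth.Statements.S0497
import Groth.Agent.H9Hens.Newton
import Mathlib.Algebra.DualNumber
import Mathlib.LinearAlgebra.Matrix.NonsingularInverse
-- import your own Groth.Agent.* helpers here

set_option autoImplicit false
universe u
open Hensel

namespace Groth.Agent.S0497

open Polynomial IsLocalRing in
theorem snd_dual {R k : Type u} [CommRing R] [CommRing k] (φ : R →+* k) {d : ℕ} (a : Fin d → R)
    (j : Fin d) (p : MvPolynomial (Fin d) R) :
    let θ : MvPolynomial (Fin d) R →+* DualNumber k :=
      MvPolynomial.eval₂Hom ((TrivSqZeroExt.inlHom k k).comp φ)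
        fun l => TrivSqZeroExt.inl (φ (a l)) + TrivSqZeroExt.inr (if l = j then 1 else 0)
    (θ p).fst = φ (MvPolynomial.eval a p) ∧
      (θ p).snd = φ (MvPolynomial.eval a (MvPolynomial.pderiv j p)) := by
  intro θ
  induction p using MvPolynomial.induction_on with
  | C r => simp [θ]
  | add p q hp hq => simp [hp, hq]
  | mul_X p l hp =>
    have hX : θ (MvPolynomial.X l) =
        TrivSqZeroExt.inl (φ (a l)) + TrivSqZeroExt.inr (if l = j then 1 else 0) :=
      MvPolynomial.eval₂Hom_X' _ _ l
    constructor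
    · rw [map_mul θ, TrivSqZeroExt.fst_mul, hp.1, hX]
      simp only [TrivSqZeroExt.fst_add, TrivSqZeroExt.fst_inl, TrivSqZeroExt.fst_inr, add_zero,
        map_mul, MvPolynomial.eval_X]
    · rw [map_mul θ, TrivSqZeroExt.snd_mul, hp.1, hp.2, hX]
      simp only [TrivSqZeroExt.fst_add, TrivSqZeroExt.fst_inl, TrivSqZeroExt.fst_inr, add_zero,
        TrivSqZeroExt.snd_add, TrivSqZeroExt.snd_inl, TrivSqZeroExt.snd_inr, zero_add, smul_eq_mul,
        MvPolynomial.pderiv_mul, map_add, map_mul, MvPolynomial.eval_X, MulOpposite.smul_eq_mul_unop,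
        MulOpposite.unop_op]
      rcases eq_or_ne l j with rfl | h
      · simp; ring
      · simp [MvPolynomial.pderiv_X_of_ne h, h]

/-- Over a henselian local ring, any factorization of the reduction of a polynomial (not necessarily
monic) into a monic factor and a factor coprime to it lifts to a factorization over the ring in
which the lift of the monic factor is again monic (so it has the same degree as its reduction). -/
theorem result (R : Type u) [CommRing R] [HenselianLocalRing R]
    (f : Polynomial R) (g₀ h₀ : Polynomial (IsLocalRing.ResidueField R)) (hg : g₀.Monic)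
    (hc : IsCoprime g₀ h₀) (hf : Polynomial.map (IsLocalRing.residue R) f = g₀ * h₀) :
    ∃ g h : Polynomial R, f = g * h ∧ g.Monic ∧ Polynomial.map (IsLocalRing.residue R) g = g₀ ∧
      Polynomial.map (IsLocalRing.residue R) h = h₀ := by
  classical
  open Polynomial in
  let k := IsLocalRing.ResidueField R
  let d := g₀.natDegree
  rcases eq_or_ne g₀ 1 with rfl | hg1
  · exact ⟨1, f, (one_mul f).symm, monic_one, Polynomial.map_one _, by rw [hf, one_mul]⟩
  choose a₀ ha₀ using fun i : Fin d => IsLocalRing.residue_surjective (g₀.coeff i)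
  let univG : MvPolynomial (Fin d) R →+* MvPolynomial (Fin d) R := RingHom.id _
  let G : (MvPolynomial (Fin d) R)[X] :=
    X ^ d + ∑ i : Fin d, C (MvPolynomial.X i) * X ^ (i : ℕ)
  have hdegsum : ∀ {S : Type u} [CommRing S] (c : Fin d → S),
      (∑ i : Fin d, C (c i) * X ^ (i : ℕ)).degree < (d : WithBot ℕ) := fun c => degree_sum_fin_lt c
  have hG : G.Monic := monic_X_pow_add (hdegsum _)
  let P : Fin d → MvPolynomial (Fin d) R := fun i => ((f.map MvPolynomial.C) %ₘ G).coeff i
  have hGmap : ∀ {S : Type u} [CommRing S] (θ : MvPolynomial (Fin d) R →+* S),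
      G.map θ = X ^ d + ∑ i : Fin d, C (θ (MvPolynomial.X i)) * X ^ (i : ℕ) := fun θ => by
    simp [G, Polynomial.map_sum]
  have hg₀sum : g₀ = X ^ d + ∑ i : Fin d, C (IsLocalRing.residue R (a₀ i)) * X ^ (i : ℕ) := by
    conv_lhs => rw [hg.as_sum, ← Fin.sum_univ_eq_sum_range (fun i => C (g₀.coeff i) * X ^ i)]
    simp only [ha₀, d]
  have hev : ∀ p : R[X], (p.map MvPolynomial.C).map
      ((IsLocalRing.residue R).comp (MvPolynomial.eval a₀)) = p.map (IsLocalRing.residue R) := by
    intro p
    rw [Polynomial.map_map]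
    congr 1
    ext r; simp
  have hG0 : G.map ((IsLocalRing.residue R).comp (MvPolynomial.eval a₀)) = g₀ := by
    rw [hGmap]; simp [← hg₀sum]
  have h₀mem : ∀ i, MvPolynomial.eval a₀ (P i) ∈ IsLocalRing.maximalIdeal R := fun i => by
    rw [← IsLocalRing.residue_eq_zero_iff]
    show ((IsLocalRing.residue R).comp (MvPolynomial.eval a₀)) (P i) = 0
    rw [← coeff_map, map_modByMonic _ hG, hev, hG0, hf,
      (modByMonic_eq_zero_iff_dvd hg).mpr (dvd_mul_right _ _), coeff_zero]
  have hJmat : ∀ i j : Fin d,
      IsLocalRing.residue R (MvPolynomial.eval a₀ (MvPolynomial.pderiv j (P i))) =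
        -((X ^ (j : ℕ) * h₀) %ₘ g₀).coeff i := by
    intro i j
    let θ : MvPolynomial (Fin d) R →+* DualNumber k :=
      MvPolynomial.eval₂Hom ((TrivSqZeroExt.inlHom k k).comp (IsLocalRing.residue R))
        fun l => TrivSqZeroExt.inl (IsLocalRing.residue R (a₀ l)) +
          TrivSqZeroExt.inr (if l = j then 1 else 0)
    let ι : k →+* DualNumber k := TrivSqZeroExt.inlHom k k
    let ε : DualNumber k := DualNumber.eps
    set r := (X ^ (j : ℕ) * h₀) %ₘ g₀ with hr
    set s := (X ^ (j : ℕ) * h₀) /ₘ g₀ with hs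
    have hrs : r + g₀ * s = X ^ (j : ℕ) * h₀ := modByMonic_add_div _ g₀
    have hGθ : G.map θ = g₀.map ι + C ε * X ^ (j : ℕ) := by
      have hθX : ∀ l, θ (MvPolynomial.X l) =
          ι (IsLocalRing.residue R (a₀ l)) + (if l = j then ε else 0) := fun l => by
        show MvPolynomial.eval₂ _ _ (MvPolynomial.X l) = _
        rw [MvPolynomial.eval₂_X]
        split_ifs <;> simp [ι, ε]
      have hιg : g₀.map ι =
          X ^ d + ∑ i : Fin d, C (ι (IsLocalRing.residue R (a₀ i))) * X ^ (i : ℕ) := by
        refine (congrArg (Polynomial.map ι) hg₀sum).trans ?_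
        simp only [Polynomial.map_add, Polynomial.map_pow, map_X, Polynomial.map_sum,
          Polynomial.map_mul, map_C]
      rw [hGmap, hιg, add_assoc]
      congr 1
      simp only [hθX, C_add, add_mul, Finset.sum_add_distrib]
      congr 1
      rw [Finset.sum_eq_single j (fun l _ hl => by rw [if_neg hl, C_0, zero_mul]) (by simp),
        if_pos rfl]
    have hfθ : (f.map MvPolynomial.C).map θ = (g₀ * h₀).map ι := by
      rw [← hf, Polynomial.map_map, Polynomial.map_map]
      congr 1
      ext x <;> simp [θ, ι]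
    have hε : (C ε : (DualNumber k)[X]) * C ε = 0 := by
      rw [← C_mul, DualNumber.eps_mul_eps, C_0]
    have hGm : (G.map θ).Monic := hG.map θ
    have hmod : (f.map MvPolynomial.C).map θ %ₘ G.map θ = -(C ε * r.map ι) := by
      have hdec : -(C ε * r.map ι) + G.map θ * (h₀.map ι - C ε * s.map ι) =
          (f.map MvPolynomial.C).map θ := by
        have h1 : r.map ι + g₀.map ι * s.map ι = X ^ (j : ℕ) * h₀.map ι := by
          rw [← Polynomial.map_mul, ← Polynomial.map_add, hrs, Polynomial.map_mul,
            Polynomial.map_pow, map_X]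
        rw [hGθ, hfθ, Polynomial.map_mul]
        linear_combination (-(C ε)) * h1 - X ^ (j : ℕ) * s.map ι * hε
      refine (div_modByMonic_unique _ _ hGm ⟨hdec, ?_⟩).2
      rw [degree_neg]
      refine lt_of_le_of_lt ((degree_mul_le _ _).trans
        (add_le_add degree_C_le degree_map_le)) ?_
      rw [zero_add, hG.degree_map θ]
      refine lt_of_lt_of_le (degree_modByMonic_lt _ hg) ?_
      rw [← hG0, hG.degree_map]
    have h2 := (snd_dual (IsLocalRing.residue R) a₀ j (P i)).2
    rw [← h2]
    show (θ (P i)).snd = _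
    rw [← coeff_map, map_modByMonic _ hG, hmod, coeff_neg, coeff_C_mul, coeff_map]
    simp [ε, ι, DualNumber.eps]
  have hJ : IsUnit (Ideal.Quotient.mk (IsLocalRing.maximalIdeal R)
      (Matrix.of fun i j => MvPolynomial.eval a₀ (MvPolynomial.pderiv j (P i))).det) := by
    show IsUnit (IsLocalRing.residue R _)
    rw [RingHom.map_det]
    set M : Matrix (Fin d) (Fin d) k := (IsLocalRing.residue R).mapMatrix
      (Matrix.of fun i j => MvPolynomial.eval a₀ (MvPolynomial.pderiv j (P i))) with hM
    rw [← Matrix.isUnit_iff_isUnit_det, ← Matrix.mulVec_injective_iff_isUnit,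
      ← Matrix.coe_mulVecLin, injective_iff_map_eq_zero]
    intro v hv
    let p : k[X] := ∑ j : Fin d, C (v j) * X ^ (j : ℕ)
    have hp : (p * h₀) %ₘ g₀ = 0 := by
      ext n
      rcases lt_or_ge n d with hn | hn
      · have h3 := congrFun hv ⟨n, hn⟩
        simp only [Matrix.mulVecLin_apply, Matrix.mulVec, dotProduct, hM, RingHom.mapMatrix_apply,
          Matrix.map_apply, Matrix.of_apply, hJmat, Pi.zero_apply] at h3
        have h5 : ∑ x : Fin d, (X ^ (x : ℕ) * h₀ %ₘ g₀).coeff n * v x = 0 := by
          rw [← neg_eq_zero, ← Finset.sum_neg_distrib, ← h3]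
          exact Finset.sum_congr rfl fun x _ => (neg_mul _ _).symm
        rw [coeff_zero, ← h5, Finset.sum_mul, ← modByMonicHom_apply, map_sum, finsetSum_coeff]
        refine Finset.sum_congr rfl fun j _ => ?_
        rw [mul_assoc, ← smul_eq_C_mul, modByMonicHom_apply, smul_modByMonic, coeff_smul,
          smul_eq_mul, mul_comm]
      · rw [coeff_zero]
        refine coeff_eq_zero_of_degree_lt ((degree_modByMonic_lt _ hg).trans_le ?_)
        rw [degree_eq_natDegree hg.ne_zero]
        exact_mod_cast hn
    have hdvd : g₀ ∣ p := hc.dvd_of_dvd_mul_right ((modByMonic_eq_zero_iff_dvd hg).mp hp)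
    have hp0 : p = 0 := eq_zero_of_dvd_of_degree_lt hdvd (by
      rw [degree_eq_natDegree hg.ne_zero]; exact hdegsum v)
    funext j
    have h4 := congrArg (fun q => coeff q j) hp0
    simpa [p, finsetSum_coeff, coeff_C_mul, coeff_X_pow, Fin.val_inj] using h4
  obtain ⟨a, ha, haa⟩ := H9Hens.exists_zero_of_jacobian (I := IsLocalRing.maximalIdeal R) P a₀ h₀mem hJ
  let g : R[X] := X ^ d + ∑ i : Fin d, C (a i) * X ^ (i : ℕ)
  have hgm : g.Monic := monic_X_pow_add (hdegsum a)
  have hgG : G.map (MvPolynomial.eval a) = g := by rw [hGmap]; simp [g]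
  have hmod0 : f %ₘ g = 0 := by
    have hfa : (f.map MvPolynomial.C).map (MvPolynomial.eval a) = f := by
      rw [Polynomial.map_map, show (MvPolynomial.eval a).comp MvPolynomial.C = RingHom.id R from
        RingHom.ext fun r => by simp, Polynomial.map_id]
    rw [← hgG, ← hfa, ← map_modByMonic _ hG]
    ext n
    rw [coeff_map, coeff_zero]
    rcases lt_or_ge n d with hn | hn
    · exact ha ⟨n, hn⟩
    · have : (f.map MvPolynomial.C %ₘ G).coeff n = 0 := by
        refine coeff_eq_zero_of_degree_lt ((degree_modByMonic_lt _ hG).trans_le ?_)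
        rw [← hG.degree_map (MvPolynomial.eval a), hgG, degree_add_eq_left_of_degree_lt
          (by rw [degree_X_pow]; exact hdegsum a), degree_X_pow]
        exact_mod_cast hn
      rw [this, map_zero]
  have hgh : f = g * (f /ₘ g) := by
    conv_lhs => rw [← modByMonic_add_div f g, hmod0, zero_add]
  have hgmap : g.map (IsLocalRing.residue R) = g₀ := by
    rw [hg₀sum]
    simp only [g, Polynomial.map_add, Polynomial.map_pow, map_X, Polynomial.map_sum,
      Polynomial.map_mul, map_C]
    congr 1
    refine Finset.sum_congr rfl fun i _ => ?_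
    rw [show IsLocalRing.residue R (a i) = IsLocalRing.residue R (a₀ i) from
      Ideal.Quotient.eq.mpr (haa i)]
  refine ⟨g, f /ₘ g, hgh, hgm, hgmap, ?_⟩
  refine mul_left_cancel₀ hg.ne_zero ?_
  rw [← hf]
  conv_rhs => rw [hgh, Polynomial.map_mul, hgmap]

end Groth.Agent.S0497
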