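import Groth.Statements.S0498
import Groth.Agent.H9Hens.Newton
-- import your own Groth.Agent.* helpers here

set_option autoImplicit false
universe u
open Hensel

namespace Groth.Agent.S0498

/-- Over a henselian local ring, a simple root in the residue field of the reduction of an arbitrary
polynomial (monic or not) lifts to a root in the ring. -/
theorem result (R : Type u) [CommRing R] [HenselianLocalRing R]
    (f : Polynomial R) (a₀ : IsLocalRing.ResidueField R)
    (h₁ : Polynomial.eval₂ (IsLocalRing.residue R) a₀ f = 0)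
    (h₂ : Polynomial.eval₂ (IsLocalRing.residue R) a₀ (Polynomial.derivative f) ≠ 0) :
    ∃ a : R, Polynomial.IsRoot f a ∧ IsLocalRing.residue R a = a₀ := by
  obtain ⟨c, rfl⟩ := IsLocalRing.residue_surjective a₀
  let P : Fin 1 → MvPolynomial (Fin 1) R := fun _ => Polynomial.aeval (MvPolynomial.X 0) f
  have hev : ∀ (g : Polynomial R) (x : Fin 1 → R), MvPolynomial.eval x
      (Polynomial.aeval (MvPolynomial.X (0 : Fin 1)) g) = g.eval (x 0) := fun g x => by
    have h := (Polynomial.aeval_algHom_apply (MvPolynomial.aeval x : MvPolynomial (Fin 1) R →ₐ[R] R)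
      (MvPolynomial.X (0 : Fin 1)) g).symm
    rw [MvPolynomial.aeval_X, Polynomial.coe_aeval_eq_eval] at h
    simpa [MvPolynomial.coe_aeval_eq_eval] using h
  have hd : MvPolynomial.pderiv (0 : Fin 1) (P 0) =
      Polynomial.aeval (MvPolynomial.X 0) f.derivative := by
    rw [Derivation.map_aeval, MvPolynomial.pderiv_X_self, smul_eq_mul, mul_one]
  have h1' : Polynomial.eval c f ∈ IsLocalRing.maximalIdeal R := by
    rw [← IsLocalRing.residue_eq_zero_iff, ← Polynomial.eval₂_at_apply]; exact h₁
  have h2' : IsUnit (Polynomial.eval c f.derivative) := by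
    rw [Polynomial.eval₂_at_apply] at h₂
    exact (IsLocalRing.residue_ne_zero_iff_isUnit _).mp h₂
  obtain ⟨a, ha, hac⟩ := Groth.Agent.H9Hens.exists_zero_of_jacobian
    (I := IsLocalRing.maximalIdeal R) P (fun _ => c) (fun _ => by rw [hev]; exact h1') (by
      rw [Matrix.det_fin_one, Matrix.of_apply, hd, hev]
      exact h2'.map _)
  refine ⟨a 0, ?_, ?_⟩
  · have := ha 0
    rwa [hev] at this
  · rw [← sub_eq_zero, ← map_sub, IsLocalRing.residue_eq_zero_iff]
    exact hac 0

end Groth.Agent.S0498
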