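import Groth.Statements.S0500
import Groth.Agent.H9Hens.Local
-- import your own Groth.Agent.* helpers here

set_option autoImplicit false
universe u
open Hensel

namespace Groth.Agent.S0500

/-- If every algebra over a local ring that is finitely generated as a module is ring-isomorphic to a
finite product of local rings, then the local ring is henselian. -/
theorem result (R : Type u) [CommRing R] [IsLocalRing R]
    (h : ∀ (S : Type u) [CommRing S] [Algebra R S], Module.Finite R S →
      ∃ (ι : Type u) (_ : Fintype ι) (A : ι → Type u) (_ : ∀ i, CommRing (A i)),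
        (∀ i, IsLocalRing (A i)) ∧ Nonempty (S ≃+* (∀ i, A i))) :
    HenselianLocalRing R := by
  have := Groth.Agent.H9Hens.henselianRing_of_idem_lift
    (Groth.Agent.H9Hens.maximalIdeal_le_jac R) fun B _ _ hB b hb => by
      obtain ⟨ι, _, A, _, hA, ⟨e⟩⟩ := h B hB
      have := hA
      exact Groth.Agent.H9Hens.exists_idem_lift_of_ringEquiv_pi e
        (Groth.Agent.H9Hens.map_le_jacobson_of_isIntegral
          (Groth.Agent.H9Hens.maximalIdeal_le_jac R)) b hb
  exact Groth.Agent.H9Hens.henselianLocalRing_of_henselianRing

end Groth.Agent.S0500
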