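import Groth.Statements.S0502
import Groth.Agent.H9Hens.Local
import Mathlib.RingTheory.Etale.StandardEtale
-- import your own Groth.Agent.* helpers here

set_option autoImplicit false
universe u
open Hensel

namespace Groth.Agent.S0502

/-- A local ring `R` is henselian as soon as every étale `R`-algebra having a prime over the maximal
ideal with trivial residue field extension admits an `R`-algebra retraction to `R`. -/
theorem result (R : Type u) [CommRing R] [IsLocalRing R]
    (h : ∀ (S : Type u) [CommRing S] [Algebra R S] [Algebra.Etale R S] (q : Ideal S) [q.IsPrime],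
      q.LiesOver (IsLocalRing.maximalIdeal R) → Function.Surjective (algebraMap R q.ResidueField) →
      Nonempty (S →ₐ[R] R)) :
    HenselianLocalRing R := by
  classical
  constructor
  intro f hf a₀ h₁ h₂
  set k := IsLocalRing.ResidueField R
  set a := IsLocalRing.residue R a₀
  have hroot : (f.map (IsLocalRing.residue R)).IsRoot a := by
    rw [Polynomial.IsRoot, Polynomial.eval_map_apply]
    exact (IsLocalRing.residue_eq_zero_iff _).mpr h₁
  obtain ⟨h₀, hh₀⟩ := Polynomial.dvd_iff_isRoot.mpr hroot
  obtain ⟨c, rfl⟩ := Polynomial.map_surjective _ IsLocalRing.residue_surjective h₀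
  let P : StandardEtalePair R := ⟨f, hf, f.derivative * c, c, 0, 1, by ring⟩
  have hd : IsUnit (Polynomial.eval a (f.map (IsLocalRing.residue R)).derivative) := by
    rw [Polynomial.derivative_map, Polynomial.eval_map_apply]
    exact h₂.map _
  have hd' : Polynomial.eval a (f.map (IsLocalRing.residue R)).derivative =
      Polynomial.eval a (c.map (IsLocalRing.residue R)) := by simp [hh₀]
  have hP : P.HasMap a := by
    refine ⟨?_, ?_⟩
    · show Polynomial.aeval (algebraMap R k a₀) f = 0
      rw [Polynomial.aeval_algebraMap_apply, Polynomial.coe_aeval_eq_eval,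
        IsLocalRing.ResidueField.algebraMap_eq]
      exact (IsLocalRing.residue_eq_zero_iff _).mpr h₁
    · show IsUnit (Polynomial.aeval (algebraMap R k a₀) (f.derivative * c))
      rw [Polynomial.aeval_algebraMap_apply, Polynomial.coe_aeval_eq_eval,
        IsLocalRing.ResidueField.algebraMap_eq, Polynomial.eval_mul, map_mul]
      refine IsUnit.mul (h₂.map _) ?_
      rw [← Polynomial.eval_map_apply]
      exact hd' ▸ hd
  let q : Ideal P.Ring := RingHom.ker (P.lift a hP)
  have hsurj : Function.Surjective (P.lift a hP) := fun y => by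
    obtain ⟨r, rfl⟩ := IsLocalRing.residue_surjective y
    exact ⟨algebraMap R P.Ring r, (P.lift a hP).commutes r⟩
  have hqmax : q.IsMaximal := RingHom.ker_isMaximal_of_surjective _ hsurj
  have hlies : q.LiesOver (IsLocalRing.maximalIdeal R) := ⟨by
    ext r
    show r ∈ _ ↔ algebraMap R P.Ring r ∈ q
    rw [RingHom.mem_ker, (P.lift a hP).commutes, IsLocalRing.ResidueField.algebraMap_eq,
      IsLocalRing.residue_eq_zero_iff]⟩
  obtain ⟨τ⟩ := h P.Ring q hlies (by
    intro y
    obtain ⟨x, rfl⟩ := Ideal.algebraMap_residueField_surjective q y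
    obtain ⟨r, hr⟩ := IsLocalRing.residue_surjective (P.lift a hP x)
    refine ⟨r, ?_⟩
    rw [IsScalarTower.algebraMap_apply R P.Ring q.ResidueField, ← sub_eq_zero, ← map_sub,
      Ideal.algebraMap_residueField_eq_zero, RingHom.mem_ker, map_sub, (P.lift a hP).commutes,
      sub_eq_zero]
    exact hr)
  have hτ := P.hasMap_X.map τ
  refine ⟨τ P.X, by simpa [Polynomial.coe_aeval_eq_eval] using hτ.1, ?_⟩
  set b := τ P.X
  have h3 : IsUnit (Polynomial.eval b (f.derivative * c)) := by
    have := hτ.2
    rw [Polynomial.coe_aeval_eq_eval] at this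
    exact this
  rw [Polynomial.eval_mul, IsUnit.mul_iff] at h3
  have h4 : Polynomial.eval b f = 0 := by simpa [Polynomial.coe_aeval_eq_eval] using hτ.1
  rw [← IsLocalRing.residue_eq_zero_iff, map_sub, sub_eq_zero]
  have h5 := congrArg (Polynomial.eval (IsLocalRing.residue R b)) hh₀
  rw [Polynomial.eval_map_apply, h4, map_zero, Polynomial.eval_mul, Polynomial.eval_sub,
    Polynomial.eval_X, Polynomial.eval_C, Polynomial.eval_map_apply] at h5
  rcases mul_eq_zero.mp h5.symm with h6 | h6
  · exact sub_eq_zero.mp h6
  · exact absurd h6 (h3.2.map (IsLocalRing.residue R)).ne_zero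

end Groth.Agent.S0502
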