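import Groth.Statements.S0503
import Groth.Agent.H9Hens.Split
-- import your own Groth.Agent.* helpers here

set_option autoImplicit false
universe u
open Hensel

namespace Groth.Agent.S0503

/-- A finite-type quasi-finite algebra `S` over a henselian local ring `R` contains an idempotent `e`
such that `S/(1-e)` is finitely generated as an `R`-module and the maximal ideal of `R` generates
the unit ideal of `S/(e)`; in other words `S` is a product of a module-finite algebra and an algebra
whose fibre over the closed point is empty. -/
theorem result (R : Type u) [CommRing R] [HenselianLocalRing R]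
    (S : Type u) [CommRing S] [Algebra R S] [Algebra.FiniteType R S] [Algebra.QuasiFinite R S] :
    ∃ e : S, IsIdempotentElem e ∧ Module.Finite R (S ⧸ Ideal.span ({1 - e} : Set S)) ∧
      Ideal.map (algebraMap R (S ⧸ Ideal.span ({e} : Set S))) (IsLocalRing.maximalIdeal R) = ⊤ := by
  obtain ⟨e, he, hC, hq⟩ := Groth.Agent.H9Hens.exists_idem_split (R := R) S
  refine ⟨e, he, hC, ?_⟩
  by_contra hne
  obtain ⟨q, hqmax, hle⟩ := Ideal.exists_le_maximal _ hne
  have : q.IsPrime := hqmax.isPrime
  have hlies := Groth.Agent.H9Hens.liesOver_of_map_le q hle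
  refine hq (q.comap (Ideal.Quotient.mk (Ideal.span {e}))) ⟨?_⟩ inferInstance ?_
  · rw [Ideal.under, Ideal.comap_comap, ← Ideal.Quotient.algebraMap_eq,
      ← IsScalarTower.algebraMap_eq]
    exact hlies.over
  · rw [Ideal.mem_comap, Ideal.Quotient.eq_zero_iff_mem.mpr (Ideal.mem_span_singleton_self e)]
    exact zero_mem _

end Groth.Agent.S0503
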