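import Groth.Statements.S0504
import Groth.Agent.H9Hens.Split
-- import your own Groth.Agent.* helpers here

set_option autoImplicit false
universe u
open Hensel

namespace Groth.Agent.S0504

/-- A finite-type algebra `S` over a henselian local ring `R` contains an idempotent `e` such that
`S/(1-e)` is finitely generated as an `R`-module and `R → S/(e)` is quasi-finite at no prime lying
over the maximal ideal of `R`. -/
theorem result (R : Type u) [CommRing R] [HenselianLocalRing R]
    (S : Type u) [CommRing S] [Algebra R S] [Algebra.FiniteType R S] :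
    ∃ e : S, IsIdempotentElem e ∧ Module.Finite R (S ⧸ Ideal.span ({1 - e} : Set S)) ∧
      ∀ (q : Ideal (S ⧸ Ideal.span ({e} : Set S))) [q.IsPrime],
        q.LiesOver (IsLocalRing.maximalIdeal R) → ¬ Algebra.QuasiFiniteAt R q := by
  obtain ⟨e, he, hC, hq⟩ := Groth.Agent.H9Hens.exists_idem_split (R := R) S
  refine ⟨e, he, hC, fun q _ hlies hqf => ?_⟩
  have : Algebra.QuasiFiniteAt R q := hqf
  have hqf' := Groth.Agent.H9Hens.quasiFiniteAt_of_summand (R := R) he q
  refine hq (q.comap (Ideal.Quotient.mk (Ideal.span {e}))) ⟨?_⟩ hqf' ?_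
  · rw [Ideal.under, Ideal.comap_comap, ← Ideal.Quotient.algebraMap_eq,
      ← IsScalarTower.algebraMap_eq]
    exact hlies.over
  · rw [Ideal.mem_comap, Ideal.Quotient.eq_zero_iff_mem.mpr (Ideal.mem_span_singleton_self e)]
    exact zero_mem _

end Groth.Agent.S0504
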