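import Groth.Statements.S0515
import Groth.Agent.H9Hens.LocalHens
import Groth.Agent.H9Hens.PtNormal
-- import your own Groth.Agent.* helpers here

set_option autoImplicit false
universe u
open Hensel

namespace Groth.Agent.S0515

/-- A local ring is an integrally closed domain exactly when its henselization is. -/
theorem result (R : Type u) [CommRing R] [IsLocalRing R] (S : Type u) [CommRing S] [IsLocalRing S]
    [Algebra R S] [IsLocalHom (algebraMap R S)] [Hensel.IsHenselization R S] :
    (IsDomain R ∧ IsIntegrallyClosed R) ↔ (IsDomain S ∧ IsIntegrallyClosed S) := by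
  obtain ⟨π, hπ⟩ := H9Hens.exists_isPtColim_of_isHenselization (R := R) S
  have := hπ.faithfullyFlat H9Hens.ker_algebraMap_residueField
  refine ⟨fun ⟨_, _⟩ => ⟨hπ.isDomain, hπ.isIntegrallyClosed⟩, fun ⟨_, _⟩ => ?_⟩
  exact H9Hens.isIntegrallyClosed_of_faithfullyFlat R S

end Groth.Agent.S0515
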