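import Groth.Statements.S0516
import Groth.Agent.H9Hens.Split
import Mathlib.RingTheory.Unramified.LocalRing
-- import your own Groth.Agent.* helpers here

set_option autoImplicit false
universe u
open Hensel

namespace Groth.Agent.S0516

/-- An unramified algebra `S` (formally unramified of finite type) over a strictly henselian local ring
`R` is isomorphic over `R` to a product of finitely many quotient rings of `R` and an `R`-algebra in
which the maximal ideal of `R` generates the unit ideal. -/
theorem result (R : Type u) [CommRing R]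
    [HenselianLocalRing R] [IsSepClosed (IsLocalRing.ResidueField R)] (S : Type u) [CommRing S] [Algebra R S]
    [Algebra.Unramified R S] :
    ∃ (ι : Type u) (_ : Fintype ι) (A : ι → Type u) (_ : ∀ i, CommRing (A i))
      (_ : ∀ i, Algebra R (A i)) (B : Type u) (_ : CommRing B) (_ : Algebra R B),
      (∀ i, Function.Surjective (algebraMap R (A i))) ∧
      Ideal.map (algebraMap R B) (IsLocalRing.maximalIdeal R) = ⊤ ∧
      Nonempty (S ≃ₐ[R] ((∀ i, A i) × B)) := by
  obtain ⟨e, he, hC, hq⟩ := Groth.Agent.H9Hens.exists_idem_split (R := R) S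
  classical
  let C := S ⧸ Ideal.span {1 - e}
  let B := S ⧸ Ideal.span {e}
  have hB : (IsLocalRing.maximalIdeal R).map (algebraMap R B) = ⊤ := by
    by_contra hne
    obtain ⟨q, hqmax, hle⟩ := Ideal.exists_le_maximal _ hne
    have : q.IsPrime := hqmax.isPrime
    have hlies := Groth.Agent.H9Hens.liesOver_of_map_le q hle
    refine hq (q.comap (Ideal.Quotient.mk (Ideal.span {e}))) ⟨?_⟩ inferInstance ?_
    · rw [Ideal.under, Ideal.comap_comap, ← Ideal.Quotient.algebraMap_eq,
        ← IsScalarTower.algebraMap_eq]
      exact hlies.over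
    · rw [Ideal.mem_comap, Ideal.Quotient.eq_zero_iff_mem.mpr (Ideal.mem_span_singleton_self e)]
      exact zero_mem _
  have := Groth.Agent.H9Hens.finite_maximalSpectrum (R := R) C
  have hbij := Groth.Agent.H9Hens.toPiLocalization_bijective_of_idem_lift (R := R) (B := C)
    fun b hb => Groth.Agent.H9Hens.exists_idem_lift b hb
  have : Algebra.FormallyUnramified R C := inferInstance
  have hsurj : ∀ n : MaximalSpectrum C,
      Function.Surjective (algebraMap R (Localization.AtPrime n.asIdeal)) := by
    intro n
    set A := Localization.AtPrime n.asIdeal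
    have hsurjC : Function.Surjective (algebraMap C A) := fun y => by
      obtain ⟨x, hx⟩ := hbij.2 (Pi.single n y)
      exact ⟨x, (congr_fun hx n).trans (Pi.single_eq_same _ _)⟩
    have : Module.Finite R A :=
      Module.Finite.of_surjective (IsScalarTower.toAlgHom R C A).toLinearMap hsurjC
    have : IsLocalHom (algebraMap R A) := ⟨fun r hr => by
      rw [IsScalarTower.algebraMap_apply R C A,
        IsLocalization.AtPrime.isUnit_to_map_iff _ n.asIdeal] at hr
      by_contra hu
      have hr' : r ∈ IsLocalRing.maximalIdeal R := hu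
      have hle : (IsLocalRing.maximalIdeal R).map (algebraMap R C) ≤ n.asIdeal :=
        (Groth.Agent.H9Hens.map_le_jacobson_of_isIntegral
          (Groth.Agent.H9Hens.maximalIdeal_le_jac R)).trans (sInf_le ⟨bot_le, n.isMaximal⟩)
      exact hr (hle (Ideal.mem_map_of_mem _ hr'))⟩
    have : Algebra.FormallyUnramified C A := .of_isLocalization n.asIdeal.primeCompl
    have : Algebra.FormallyUnramified R A := .comp R C A
    have hsep : Function.Surjective
        (algebraMap (IsLocalRing.ResidueField R) (IsLocalRing.ResidueField A)) :=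
      IsSepClosed.algebraMap_surjective _ _
    have htop : (⊤ : Submodule R A) ≤ LinearMap.range (Algebra.linearMap R A) ⊔
        IsLocalRing.maximalIdeal R • (⊤ : Submodule R A) := by
      intro x _
      obtain ⟨ρ, hρ⟩ := hsep (IsLocalRing.residue A x)
      obtain ⟨r, rfl⟩ := IsLocalRing.residue_surjective ρ
      rw [Ideal.smul_top_eq_map, Algebra.FormallyUnramified.map_maximalIdeal]
      refine Submodule.mem_sup.mpr ⟨algebraMap R A r, ⟨r, rfl⟩, x - algebraMap R A r, ?_, by abel⟩
      rw [Submodule.restrictScalars_mem, ← IsLocalRing.residue_eq_zero_iff, map_sub, ← hρ]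
      exact sub_self _
    intro x
    exact LinearMap.mem_range.mp (Submodule.le_of_le_smul_of_le_jacobson_bot Module.Finite.fg_top
      (Groth.Agent.H9Hens.maximalIdeal_le_jac R) htop Submodule.mem_top :
        x ∈ LinearMap.range (Algebra.linearMap R A))
  refine ⟨MaximalSpectrum C, Fintype.ofFinite _, fun n => Localization.AtPrime n.asIdeal,
    fun n => inferInstance, fun n => inferInstance, B, inferInstance, inferInstance, hsurj, hB, ?_⟩
  let e₁ : S ≃ₐ[R] C × B := AlgEquiv.prodQuotientOfIsIdempotentElem R he.one_sub he (by simp)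
    (by rw [sub_mul, one_mul, he.eq, sub_self])
  exact ⟨e₁.trans (AlgEquiv.prodCongr
    (AlgEquiv.ofBijective ((MaximalSpectrum.toPiLocalization C).restrictScalars R) hbij) .refl)⟩

end Groth.Agent.S0516
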