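import Groth.Statements.S0517
import Groth.Agent.H9Hens.PairOps
import Mathlib.RingTheory.Etale.Field
import Mathlib.RingTheory.LocalRing.ResidueField.Basic
import Mathlib.RingTheory.TensorProduct.Quotient
import Groth.Agent.H9Hens.Local
-- import your own Groth.Agent.* helpers here

set_option autoImplicit false
universe u
open Hensel

namespace Groth.Agent.S0517

open scoped TensorProduct


/-- Given strictly henselian local rings `R` and `S`, a local ring map `φ` between them, and a square
system of `n` polynomial equations in `n` unknowns over `R` whose quotient algebra is étale over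
`R`, applying `φ` coordinatewise matches the solutions of the system in `Rⁿ` bijectively with the
solutions of the transported system in `Sⁿ`. -/
theorem result (R : Type u) [CommRing R]
    [HenselianLocalRing R] [IsSepClosed (IsLocalRing.ResidueField R)] (S : Type u) [CommRing S]
    [HenselianLocalRing S] [IsSepClosed (IsLocalRing.ResidueField S)] (φ : R →+* S) [IsLocalHom φ] (n : ℕ)
    (P : Fin n → MvPolynomial (Fin n) R)
    [Algebra.Etale R (MvPolynomial (Fin n) R ⧸ Ideal.span (Set.range P))] :
    Set.BijOn (fun r : Fin n → R => φ ∘ r)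
      {r : Fin n → R | ∀ i, MvPolynomial.eval r (P i) = 0}
      {s : Fin n → S | ∀ i, MvPolynomial.eval s (MvPolynomial.map φ (P i)) = 0} := by
  classical
  let : Algebra R S := φ.toAlgebra
  set E := MvPolynomial (Fin n) R ⧸ Ideal.span (Set.range P)
  set k := IsLocalRing.ResidueField R
  have hevS : ∀ (p : MvPolynomial (Fin n) R) (s : Fin n → S),
      MvPolynomial.aeval s p = MvPolynomial.eval s (MvPolynomial.map φ p) := fun p s => by
    rw [MvPolynomial.eval_map]; rfl
  have hevT : ∀ {T : Type u} [CommRing T] [Algebra R T] (f : E →ₐ[R] T)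
      (p : MvPolynomial (Fin n) R),
      MvPolynomial.aeval (fun j => f (Ideal.Quotient.mk _ (MvPolynomial.X j))) p =
        f (Ideal.Quotient.mk _ p) := fun f p => by
    have h : MvPolynomial.aeval (fun j => f (Ideal.Quotient.mk _ (MvPolynomial.X j))) =
        f.comp (Ideal.Quotient.mkₐ R _) := by
      ext j
      rw [MvPolynomial.aeval_X]
      rfl
    exact AlgHom.congr_fun h p
  have hmk : ∀ (T : Type u) [CommRing T] [Algebra R T] (x : Fin n → T),
      (∀ i, MvPolynomial.aeval x (P i) = 0) →
      ∃ f : E →ₐ[R] T, ∀ j, f (Ideal.Quotient.mk _ (MvPolynomial.X j)) = x j := fun T _ _ x hx =>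
    ⟨Ideal.Quotient.liftₐ _ (MvPolynomial.aeval x) fun p hp => by
      have hle : Ideal.span (Set.range P) ≤
          RingHom.ker (MvPolynomial.aeval x : MvPolynomial (Fin n) R →ₐ[R] T) := by
        rw [Ideal.span_le]; rintro _ ⟨i, rfl⟩; exact hx i
      exact hle hp, fun j => MvPolynomial.aeval_X _ _⟩
  have hext : ∀ {T : Type u} [CommRing T] [Algebra R T] (f g : E →ₐ[R] T),
      (∀ j, f (Ideal.Quotient.mk _ (MvPolynomial.X j)) = g (Ideal.Quotient.mk _ (MvPolynomial.X j)))
      → f = g := fun f g h => by
    refine AlgHom.ext fun x => ?_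
    obtain ⟨p, rfl⟩ := Ideal.Quotient.mk_surjective x
    rw [← hevT f, ← hevT g]
    exact congrArg (MvPolynomial.aeval · p) (funext h)
  refine ⟨fun r hr i => ?_, fun r hr r' hr' h => ?_, fun s hs => ?_⟩
  · show MvPolynomial.eval (φ ∘ r) (MvPolynomial.map φ (P i)) = 0
    rw [← hevS]
    show MvPolynomial.aeval (algebraMap R S ∘ r) (P i) = 0
    rw [MvPolynomial.aeval_algebraMap_apply]
    simp [MvPolynomial.coe_aeval_eq_eval, hr i]
  · obtain ⟨f, hf⟩ := hmk R r (fun i => by simpa [MvPolynomial.coe_aeval_eq_eval] using hr i)
    obtain ⟨g, hg⟩ := hmk R r' (fun i => by simpa [MvPolynomial.coe_aeval_eq_eval] using hr' i)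
    have hres : (IsScalarTower.toAlgHom R R k).comp f = (IsScalarTower.toAlgHom R R k).comp g :=
      hext _ _ fun j => by
        show IsLocalRing.residue R (f _) = IsLocalRing.residue R (g _)
        rw [hf, hg]
        have hj : φ (r j) = φ (r' j) := congr_fun h j
        rw [← sub_eq_zero, ← map_sub, IsLocalRing.residue_eq_zero_iff]
        by_contra hu
        rw [IsLocalRing.mem_maximalIdeal, mem_nonunits_iff, not_not] at hu
        have := hu.map φ
        rw [map_sub, hj, sub_self, isUnit_zero_iff] at this
        exact zero_ne_one this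
    have hfg : f = g := Groth.Agent.H9Hens.algHom_eq_of_sub_mem
      (Groth.Agent.H9Hens.maximalIdeal_le_jac R) fun x => by
        rw [← IsLocalRing.residue_eq_zero_iff, map_sub, sub_eq_zero]
        exact AlgHom.congr_fun hres x
    funext j
    rw [← hf j, ← hg j, hfg]
  · obtain ⟨g, hg⟩ := hmk S s (fun i => (hevS (P i) s).trans (hs i))
    -- the closed fibre is split
    let φk : k →+* IsLocalRing.ResidueField S := IsLocalRing.ResidueField.map φ
    let : Algebra k (IsLocalRing.ResidueField S) := φk.toAlgebra
    have : IsScalarTower R k (IsLocalRing.ResidueField S) := IsScalarTower.of_algebraMap_eq fun r => rfl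
    obtain ⟨ι, hι, F, hFfield, hFalg, e, hF⟩ :=
      (Algebra.Etale.iff_exists_algEquiv_prod k (k ⊗[R] E)).mp inferInstance
    have := Fintype.ofFinite ι
    let gb : k ⊗[R] E →ₐ[k] IsLocalRing.ResidueField S :=
      Algebra.TensorProduct.lift (Algebra.ofId k _)
        ((IsScalarTower.toAlgHom R S (IsLocalRing.ResidueField S)).comp g)
        fun _ _ => Commute.all _ _
    have hrange : ∀ j, ∃ c : R,
        IsLocalRing.residue S (φ c) = IsLocalRing.residue S (s j) := by
      intro j
      set x : k ⊗[R] E := 1 ⊗ₜ Ideal.Quotient.mk _ (MvPolynomial.X j)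
      have hval : ∀ i, ∃ c : k, algebraMap k (F i) c = e x i := fun i => by
        have := (hF i).2
        exact IsSepClosed.algebraMap_surjective k (F i) (e x i)
      choose c hc using hval
      have hprod : (∏ i, (Polynomial.X - Polynomial.C (c i))).aeval x = 0 := by
        refine e.injective ?_
        rw [map_zero, show e (Polynomial.aeval x (∏ i, (Polynomial.X - Polynomial.C (c i)))) =
          Polynomial.aeval (e x) (∏ i, (Polynomial.X - Polynomial.C (c i))) from
          (Polynomial.aeval_algHom_apply e x _).symm, map_prod]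
        funext i
        rw [Finset.prod_apply, Pi.zero_apply]
        refine Finset.prod_eq_zero (Finset.mem_univ i) ?_
        simp [hc i]
      have := congrArg gb hprod
      rw [← Polynomial.aeval_algHom_apply, map_zero, map_prod, Finset.prod_eq_zero_iff] at this
      obtain ⟨i, -, hi⟩ := this
      rw [map_sub, Polynomial.aeval_X, Polynomial.aeval_C, sub_eq_zero] at hi
      obtain ⟨a, ha⟩ := IsLocalRing.residue_surjective (c i)
      refine ⟨a, ?_⟩
      have hx : gb x = IsLocalRing.residue S (s j) := by
        simp [gb, x, hg]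
      rw [← hx, hi, ← ha]
      rfl
    choose c hc using hrange
    have hsol : ∀ i, MvPolynomial.aeval (fun j => IsLocalRing.residue R (c j)) (P i) = 0 := by
      intro i
      refine φk.injective ?_
      rw [map_zero]
      have h1 : (IsScalarTower.toAlgHom R k (IsLocalRing.ResidueField S))
          (MvPolynomial.aeval (fun j => IsLocalRing.residue R (c j)) (P i)) =
          MvPolynomial.aeval (fun j => IsLocalRing.residue S (s j)) (P i) := by
        rw [← AlgHom.comp_apply, MvPolynomial.comp_aeval]
        congr 2
        funext j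
        exact hc j
      refine h1.trans ?_
      show MvPolynomial.aeval (algebraMap S (IsLocalRing.ResidueField S) ∘ s) (P i) = 0
      rw [MvPolynomial.aeval_algebraMap_apply, hevS, hs i, map_zero]
    obtain ⟨σ, hσ⟩ := hmk k _ hsol
    obtain ⟨τ, hτ, -⟩ := Groth.Agent.H9Hens.existsUnique_algHom_lift_rel (A := R)
      (I := IsLocalRing.maximalIdeal R) σ
    refine ⟨fun j => τ (Ideal.Quotient.mk _ (MvPolynomial.X j)), fun i => ?_, ?_⟩
    · have := hevT τ (P i)
      rw [Ideal.Quotient.eq_zero_iff_mem.mpr
        (Ideal.subset_span (Set.mem_range_self i) : P i ∈ Ideal.span (Set.range P)), map_zero] at this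
      simpa [MvPolynomial.coe_aeval_eq_eval] using this
    · have hfg : (IsScalarTower.toAlgHom R R S).comp τ = g :=
        Groth.Agent.H9Hens.algHom_eq_of_sub_mem (Groth.Agent.H9Hens.maximalIdeal_le_jac S)
          fun x => by
          rw [← IsLocalRing.residue_eq_zero_iff, map_sub, sub_eq_zero]
          have h : (IsScalarTower.toAlgHom R S (IsLocalRing.ResidueField S)).comp
              ((IsScalarTower.toAlgHom R R S).comp τ) =
              (IsScalarTower.toAlgHom R S (IsLocalRing.ResidueField S)).comp g := hext _ _ fun j => by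
            show IsLocalRing.residue S (φ (τ _)) = IsLocalRing.residue S (g _)
            rw [hg, ← hc j]
            have h2 := AlgHom.congr_fun hτ (Ideal.Quotient.mk _ (MvPolynomial.X j))
            exact congrArg φk (h2.trans (hσ j))
          exact AlgHom.congr_fun h x
      funext j
      show φ (τ _) = s j
      rw [← hg j, ← hfg]
      rfl

end Groth.Agent.S0517
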