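import Groth.Statements.S0533
import Groth.Agent.H9Hens.Pair
import Groth.Agent.H9Hens.PairOps
import Mathlib.RingTheory.TensorProduct.Quotient
-- import your own Groth.Agent.* helpers here

set_option autoImplicit false
universe u
open Hensel

namespace Groth.Agent.S0533

open scoped TensorProduct

/-- If `A` is Henselian at `I`, base change to `A/I` gives a bijection between `A`-algebra maps of two
finite étale `A`-algebras and `A/I`-algebra maps of their reductions. -/
theorem result (A : Type u) [CommRing A] (I : Ideal A) [HenselianRing A I]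
    (B₁ B₂ : Type u) [CommRing B₁] [CommRing B₂] [Algebra A B₁] [Algebra A B₂]
    [Module.Finite A B₁] [Algebra.Etale A B₁] [Module.Finite A B₂] [Algebra.Etale A B₂] :
    Function.Bijective (fun φ : B₁ →ₐ[A] B₂ =>
      Algebra.TensorProduct.map (AlgHom.id (A ⧸ I) (A ⧸ I)) φ) := by
  have : HenselianRing B₂ (I.map (algebraMap A B₂)) := H9Hens.henselianRing_of_isIntegral B₂
  let q := Algebra.TensorProduct.quotIdealMapEquivQuotTensor B₂ I
  refine ⟨fun φ φ' h => ?_, fun Ψ => ?_⟩
  · let σ : B₁ →ₐ[A] B₂ ⧸ I.map (algebraMap A B₂) := (Ideal.Quotient.mkₐ A _).comp φ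
    refine (H9Hens.existsUnique_algHom_lift_rel σ).unique rfl (AlgHom.ext fun b => ?_)
    refine q.injective ?_
    have := DFunLike.congr_fun h ((1 : A ⧸ I) ⊗ₜ[A] b)
    simp only [Algebra.TensorProduct.map_tmul, AlgHom.id_apply] at this
    show q (Ideal.Quotient.mk _ (φ' b)) = q (Ideal.Quotient.mk _ (φ b))
    rw [Algebra.TensorProduct.quotIdealMapEquivQuotTensor_mk,
      Algebra.TensorProduct.quotIdealMapEquivQuotTensor_mk, this]
  · let σ : B₁ →ₐ[A] B₂ ⧸ I.map (algebraMap A B₂) :=
      (q.symm.toAlgHom.restrictScalars A).comp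
        ((Ψ.restrictScalars A).comp Algebra.TensorProduct.includeRight)
    obtain ⟨τ, hτ, -⟩ := H9Hens.existsUnique_algHom_lift_rel σ
    refine ⟨τ, Algebra.TensorProduct.ext (Subsingleton.elim _ _) (AlgHom.ext fun b => ?_)⟩
    have h1 : q (Ideal.Quotient.mk _ (τ b)) = q (σ b) := congrArg q (DFunLike.congr_fun hτ b)
    rw [Algebra.TensorProduct.quotIdealMapEquivQuotTensor_mk] at h1
    show Algebra.TensorProduct.map _ τ ((1 : A ⧸ I) ⊗ₜ[A] b) = Ψ ((1 : A ⧸ I) ⊗ₜ[A] b)
    rw [Algebra.TensorProduct.map_tmul, AlgHom.id_apply, h1]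
    exact q.apply_symm_apply _

end Groth.Agent.S0533
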