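import Groth.Statements.S0521
import Groth.Agent.H9Hens.Pair
-- import your own Groth.Agent.* helpers here

set_option autoImplicit false
universe u
open Hensel

namespace Groth.Agent.S0521

/-- `A` is Henselian at `I` exactly when, for every `A`-algebra `B` finitely generated as an `A`-module,
reduction modulo `IB` is a bijection from the idempotents of `B` to the idempotents of `B/IB`. -/
theorem result (A : Type u) [CommRing A] (I : Ideal A) :
    HenselianRing A I ↔ ∀ (B : Type u) [CommRing B] [Algebra A B], Module.Finite A B →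
      Set.BijOn (Ideal.Quotient.mk (Ideal.map (algebraMap A B) I))
        {e : B | IsIdempotentElem e} {e | IsIdempotentElem e} := by
  constructor
  · intro _ B _ _ hB
    refine ⟨fun e he => IsIdempotentElem.map he _, fun e he e' he' hee => ?_, fun ē hē => ?_⟩
    · exact Groth.Agent.H9Hens.idem_eq_of_sub_mem
        (Groth.Agent.H9Hens.map_le_jacobson_of_isIntegral (HenselianRing.jac (I := I))) he he'
        (Ideal.Quotient.eq.mp hee)
    · obtain ⟨b, rfl⟩ := Ideal.Quotient.mk_surjective ē
      obtain ⟨e, he, heb⟩ := Groth.Agent.H9Hens.exists_idem_lift (I := I) b (by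
        rw [← Ideal.Quotient.eq, map_mul]; exact hē)
      exact ⟨e, he, Ideal.Quotient.eq.mpr heb⟩
  · intro H
    have hI : I ≤ Ideal.jacobson ⊥ := by
      intro x hx
      rw [Ideal.mem_jacobson_bot]
      intro y
      by_contra hu
      have hne : Ideal.span {x * y + 1} ≠ ⊤ := fun h => hu (Ideal.span_singleton_eq_top.mp h)
      have : Nontrivial (A ⧸ Ideal.span {x * y + 1}) := Ideal.Quotient.nontrivial_iff.mpr hne
      have hinj := (H (A ⧸ Ideal.span {x * y + 1}) inferInstance).2.1
      have h0 : Ideal.map (algebraMap A (A ⧸ Ideal.span {x * y + 1})) I = ⊤ := by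
        rw [Ideal.eq_top_iff_one]
        have h1 : Ideal.Quotient.mk (Ideal.span {x * y + 1}) (-(x * y)) = 1 := by
          rw [← map_one (Ideal.Quotient.mk (Ideal.span {x * y + 1})), Ideal.Quotient.eq,
            Ideal.mem_span_singleton']
          exact ⟨-1, by ring⟩
        rw [← h1]
        exact Ideal.mem_map_of_mem _ (neg_mem (I.mul_mem_right y hx))
      exact zero_ne_one (hinj IsIdempotentElem.zero IsIdempotentElem.one
        (Ideal.Quotient.eq.mpr (h0 ▸ Submodule.mem_top)))
    refine Groth.Agent.H9Hens.henselianRing_of_idem_lift hI fun B _ _ hB b hb => ?_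
    obtain ⟨e, he, heb⟩ := (H B hB).2.2 (show IsIdempotentElem (Ideal.Quotient.mk _ b) by
      rw [IsIdempotentElem, ← map_mul]; exact Ideal.Quotient.eq.mpr hb)
    exact ⟨e, he, Ideal.Quotient.eq.mp heb⟩

end Groth.Agent.S0521
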