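import Groth.Statements.S0524
import Groth.Agent.H9Hens.PairOps
-- import your own Groth.Agent.* helpers here

set_option autoImplicit false
universe u
open Hensel

namespace Groth.Agent.S0524

/-- (1) iff (5) with the uniqueness complement: `A` is Henselian at `I` exactly when `I` lies in the
Jacobson radical and, for every `n ≥ 1` and every polynomial `p` of degree at most `n` with all
coefficients in `I`, the polynomial `Tⁿ(T-1) + p` has exactly one root congruent to `1` modulo `I`. -/
theorem result (A : Type u) [CommRing A] (I : Ideal A) :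
    HenselianRing A I ↔ (I ≤ Ideal.jacobson ⊥ ∧
      ∀ (n : ℕ), 0 < n → ∀ p : Polynomial A, p.natDegree ≤ n → (∀ i, p.coeff i ∈ I) →
        ∃! α : A, α - 1 ∈ I ∧
          Polynomial.IsRoot (Polynomial.X ^ n * (Polynomial.X - 1) + p) α) := by
  constructor
  · intro _
    refine ⟨HenselianRing.jac, fun n hn p hp hpI => ?_⟩
    obtain ⟨α, hα, hroot⟩ := Groth.Agent.H9Hens.gabber_root n hn p hp hpI
    refine ⟨α, ⟨hα, hroot⟩, fun β hβ => ?_⟩
    have hβα : β - α ∈ I := by simpa using sub_mem hβ.1 hα
    refine Groth.Agent.H9Hens.root_unique (HenselianRing.jac (I := I)) hβ.2 hroot hβα ?_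
    have hpmap : p.map (Ideal.Quotient.mk I) = 0 := by
      ext i
      simpa [Polynomial.coeff_map, Ideal.Quotient.eq_zero_iff_mem] using hpI i
    rw [← Polynomial.eval_map_apply, ← Polynomial.derivative_map, (Ideal.Quotient.eq.mpr hβ.1 :
      Ideal.Quotient.mk I β = Ideal.Quotient.mk I 1)]
    simp [hpmap]
  · rintro ⟨hI, H⟩
    exact Groth.Agent.H9Hens.henselianRing_of_gabber hI fun n hn p hp hpI =>
      (H n hn p hp hpI).exists

end Groth.Agent.S0524
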