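import Groth.Statements.S0525
import Groth.Agent.H9Hens.PairOps
-- import your own Groth.Agent.* helpers here

set_option autoImplicit false
universe u
open Hensel

namespace Groth.Agent.S0525

/-- If two ideals of a ring have the same radical (the same closed set), the ring is Henselian at one
exactly when it is Henselian at the other. -/
theorem result (A : Type u) [CommRing A] (I J : Ideal A)
    (h : I.radical = J.radical) : HenselianRing A I ↔ HenselianRing A J := by
  constructor
  · intro _
    have : HenselianRing A I.radical := Groth.Agent.H9Hens.henselianRing_radical
    exact Groth.Agent.H9Hens.henselianRing_of_le (J := I.radical) (h ▸ Ideal.le_radical)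
  · intro _
    have : HenselianRing A J.radical := Groth.Agent.H9Hens.henselianRing_radical
    exact Groth.Agent.H9Hens.henselianRing_of_le (J := J.radical) (h.symm ▸ Ideal.le_radical)

end Groth.Agent.S0525
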