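import Groth.Statements.S0529
import Groth.Agent.H9Hens.Pair
import Mathlib.Algebra.Group.Pi.Units
-- import your own Groth.Agent.* helpers here

set_option autoImplicit false
universe u
open Hensel

namespace Groth.Agent.S0529

/-- A product of rings, with the product ideal, is Henselian exactly when every factor is Henselian at
its ideal. -/
theorem result (J : Type u) (A : J → Type u) [∀ j, CommRing (A j)]
    (I : ∀ j, Ideal (A j)) :
    HenselianRing (∀ j, A j) (⨅ j, Ideal.comap (Pi.evalRingHom A j) (I j)) ↔
      ∀ j, HenselianRing (A j) (I j) := by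
  set P : Ideal (∀ j, A j) := ⨅ j, Ideal.comap (Pi.evalRingHom A j) (I j) with hP
  have hmem : ∀ x : ∀ j, A j, x ∈ P ↔ ∀ j, x j ∈ I j := fun x => by
    simp [hP, Submodule.mem_iInf]
  constructor
  · intro _ j
    classical
    let : Algebra (∀ j, A j) (A j) := (Pi.evalRingHom A j).toAlgebra
    have hsurj : Function.Surjective (algebraMap (∀ j, A j) (A j)) := fun a =>
      ⟨Pi.single j a, Pi.single_eq_same j a⟩
    have : Algebra.IsIntegral (∀ j, A j) (A j) := Algebra.isIntegral_def.mpr fun a => by obtain ⟨x, rfl⟩ := hsurj a; exact isIntegral_algebraMap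
    have hmap : P.map (algebraMap (∀ j, A j) (A j)) = I j := by
      refine le_antisymm (Ideal.map_le_iff_le_comap.mpr fun x hx => (hmem x).mp hx j) fun a ha => ?_
      have : Pi.single j a ∈ P := (hmem _).mpr fun i => by
        rcases eq_or_ne i j with rfl | hij
        · rwa [Pi.single_eq_same]
        · rw [Pi.single_eq_of_ne hij]; exact zero_mem _
      have h1 := Ideal.mem_map_of_mem (algebraMap (∀ j, A j) (A j)) this
      have h2 : algebraMap (∀ j, A j) (A j) (Pi.single j a) = a := Pi.single_eq_same j a
      rwa [h2] at h1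
    exact hmap ▸ Groth.Agent.H9Hens.henselianRing_of_isIntegral (A j)
  · intro H
    refine ⟨fun x hx => ?_, fun f hf a₀ h₁ h₂ => ?_⟩
    · rw [Ideal.mem_jacobson_bot]
      intro y
      rw [Pi.isUnit_iff]
      intro j
      exact Ideal.mem_jacobson_bot.mp ((H j).jac ((hmem x).mp hx j)) (y j)
    · have hev : ∀ (g : Polynomial (∀ j, A j)) (a : ∀ j, A j) (j : J),
          (g.map (Pi.evalRingHom A j)).eval (a j) = g.eval a j := fun g a j =>
        Polynomial.eval_map_apply (Pi.evalRingHom A j) a
      obtain ⟨u, hu⟩ := isUnit_iff_exists_inv.mp h₂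
      obtain ⟨u, rfl⟩ := Ideal.Quotient.mk_surjective u
      rw [← map_mul, ← map_one (Ideal.Quotient.mk P), Ideal.Quotient.eq] at hu
      choose a ha using fun j => (H j).is_henselian (f.map (Pi.evalRingHom A j)) (hf.map _) (a₀ j)
        (by rw [hev]; exact (hmem _).mp h₁ j)
        (by
          rw [Polynomial.derivative_map, hev]
          refine isUnit_iff_exists_inv.mpr ⟨Ideal.Quotient.mk _ (u j), ?_⟩
          rw [← map_mul, ← map_one (Ideal.Quotient.mk (I j)), Ideal.Quotient.eq]
          exact (hmem _).mp hu j)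
      refine ⟨a, funext fun j => ?_, (hmem _).mpr fun j => (ha j).2⟩
      rw [← hev]
      exact (ha j).1

end Groth.Agent.S0529
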