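import Groth.Statements.S0530
import Groth.Agent.H9Hens.Pair
-- import your own Groth.Agent.* helpers here

set_option autoImplicit false
universe u
open Hensel

namespace Groth.Agent.S0530

/-- If `A` is Henselian at `I` and `p` is a prime ideal of `A`, then the spectrum of `A/(p + I)` is
connected. -/
theorem result (A : Type u) [CommRing A] (I : Ideal A) [HenselianRing A I]
    (p : Ideal A) [p.IsPrime] : ConnectedSpace (PrimeSpectrum (A ⧸ p ⊔ I)) := by
  set B := A ⧸ p
  have : HenselianRing B (I.map (algebraMap A B)) :=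
    Groth.Agent.H9Hens.henselianRing_of_isIntegral B
  set Q := A ⧸ p ⊔ I
  let π : B →+* Q := Ideal.Quotient.factor (le_sup_left : p ≤ p ⊔ I)
  have hπ : Function.Surjective π := Ideal.Quotient.factor_surjective _
  have hker : RingHom.ker π ≤ I.map (algebraMap A B) := by
    intro x hx
    obtain ⟨a, rfl⟩ := Ideal.Quotient.mk_surjective x
    obtain ⟨y, hy, z, hz, rfl⟩ := Submodule.mem_sup.mp (Ideal.Quotient.eq_zero_iff_mem.mp hx)
    rw [map_add, Ideal.Quotient.eq_zero_iff_mem.mpr hy, zero_add]
    exact Ideal.mem_map_of_mem _ hz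
  have hjac : I.map (algebraMap A B) ≤ Ideal.jacobson ⊥ := HenselianRing.jac
  have : Nontrivial Q := by
    refine nontrivial_of_ne 0 1 fun h => ?_
    have h1 : (1 : B) ∈ RingHom.ker π := by rw [RingHom.mem_ker, map_one, h]
    have h2 := Groth.Agent.H9Hens.isUnit_of_sub_one_mem hjac (x := (0 : B))
      (by simpa using neg_mem (hker h1))
    exact zero_ne_one (isUnit_zero_iff.mp h2)
  rw [connectedSpace_iff_clopen]
  refine ⟨inferInstance, fun s hs => ?_⟩
  obtain ⟨e, f, hef, hef', rfl⟩ := PrimeSpectrum.isClopen_iff_mul_add.mp hs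
  have he : IsIdempotentElem e := (IsIdempotentElem.of_mul_add hef hef').1
  obtain ⟨b, rfl⟩ := hπ e
  obtain ⟨e', he', heb⟩ := Groth.Agent.H9Hens.exists_idem_lift (A := B)
    (I := I.map (algebraMap A B)) (B := B) b (by
      rw [Algebra.algebraMap_self, Ideal.map_id]
      exact hker (by rw [RingHom.mem_ker, map_sub, map_mul, he.eq, sub_self]))
  have hπeq : π b = π e' := by
    rw [Algebra.algebraMap_self, Ideal.map_id] at heb
    have : I.map (algebraMap A B) ≤ RingHom.ker π := Ideal.map_le_iff_le_comap.mpr fun a ha =>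
      RingHom.mem_ker.mpr (Ideal.Quotient.eq_zero_iff_mem.mpr (Ideal.mem_sup_right ha))
    exact (sub_eq_zero.mp ((map_sub π _ _).symm.trans (RingHom.mem_ker.mp (this heb)))).symm
  rcases IsIdempotentElem.iff_eq_zero_or_one.mp he' with rfl | rfl
  · exact Or.inl (by simp [hπeq])
  · exact Or.inr (by simp [hπeq])

end Groth.Agent.S0530
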