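import Groth.Statements.S0531
import Groth.Agent.H9Hens.PairOps
-- import your own Groth.Agent.* helpers here

set_option autoImplicit false
universe u
open Hensel

namespace Groth.Agent.S0531

/-- Every ring has a largest ideal at which it is Henselian. -/
theorem result (A : Type u) [CommRing A] :
    ∃ I : Ideal A, HenselianRing A I ∧ ∀ J : Ideal A, HenselianRing A J → J ≤ I := by
  let s : Set (Ideal A) := {J | HenselianRing A J}
  have hbot : (⊥ : Ideal A) ∈ s :=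
    Groth.Agent.H9Hens.henselianRing_of_isNilpotent fun x hx => by
      simp [Ideal.mem_bot.mp hx]
  have hdir : DirectedOn (· ≤ ·) s := by
    intro I hI J hJ
    have : HenselianRing A I := hI
    have : HenselianRing A J := hJ
    refine ⟨I ⊔ J, ?_, le_sup_left, le_sup_right⟩
    have : HenselianRing (A ⧸ I) ((I ⊔ J).map (Ideal.Quotient.mk I)) := by
      rw [Ideal.map_sup, Ideal.map_quotient_self, bot_sup_eq]
      exact Groth.Agent.H9Hens.henselianRing_quotient I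
    exact Groth.Agent.H9Hens.henselianRing_of_quotient (I := I) le_sup_left
  have hmem : ∀ {x : A}, x ∈ sSup s → ∃ J ∈ s, x ∈ J := fun {x} hx =>
    (Submodule.mem_sSup_of_directed ⟨⊥, hbot⟩ hdir).mp hx
  refine ⟨sSup s, ⟨fun x hx => ?_, fun f hf a₀ h₁ h₂ => ?_⟩, fun J hJ => le_sSup hJ⟩
  · obtain ⟨J, hJ, hxJ⟩ := hmem hx
    exact hJ.jac hxJ
  · obtain ⟨J₁, hJ₁, hx₁⟩ := hmem h₁
    obtain ⟨u, hu⟩ := isUnit_iff_exists_inv.mp h₂
    obtain ⟨u, rfl⟩ := Ideal.Quotient.mk_surjective u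
    rw [← map_mul, ← map_one (Ideal.Quotient.mk (sSup s)), Ideal.Quotient.eq] at hu
    obtain ⟨J₂, hJ₂, hx₂⟩ := hmem hu
    obtain ⟨J, hJ, h1J, h2J⟩ := hdir J₁ hJ₁ J₂ hJ₂
    obtain ⟨a, ha, haJ⟩ := hJ.is_henselian f hf a₀ (h1J hx₁) (isUnit_iff_exists_inv.mpr
      ⟨Ideal.Quotient.mk J u, by
        rw [← map_mul, ← map_one (Ideal.Quotient.mk J), Ideal.Quotient.eq]; exact h2J hx₂⟩)
    exact ⟨a, ha, le_sSup hJ haJ⟩

end Groth.Agent.S0531
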