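import Groth.Statements.S0535
import Mathlib.LinearAlgebra.TensorProduct.Quotient
import Mathlib.RingTheory.Nakayama
import Mathlib.RingTheory.FiniteType
-- import your own Groth.Agent.* helpers here

set_option autoImplicit false
universe u
open Hensel

namespace Groth.Agent.S0535

open scoped TensorProduct

theorem exists_lift {R : Type u} [CommRing R] (I : Ideal R) {P Q : Type u} [AddCommGroup P]
    [Module R P] [AddCommGroup Q] [Module R Q] [Module.Projective R P]
    (e : (R ⧸ I) ⊗[R] P →ₗ[R ⧸ I] (R ⧸ I) ⊗[R] Q) :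
    ∃ f : P →ₗ[R] Q, ∀ m, (1 : R ⧸ I) ⊗ₜ[R] f m = e (1 ⊗ₜ m) := by
  obtain ⟨f, hf⟩ := Module.projective_lifting_property (TensorProduct.mk R (R ⧸ I) Q 1)
    ((e.restrictScalars R).comp (TensorProduct.mk R (R ⧸ I) P 1))
    (TensorProduct.mk_surjective R Q (R ⧸ I) Ideal.Quotient.mk_surjective)
  exact ⟨f, fun m => DFunLike.congr_fun hf m⟩

theorem bijective_of_reduction {R : Type u} [CommRing R] {I : Ideal R}
    (hI : I ≤ Ideal.jacobson ⊥) {P : Type u} [AddCommGroup P]
    [Module R P] [Module.Finite R P] (h : P →ₗ[R] P)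
    (hh : ∀ m, (1 : R ⧸ I) ⊗ₜ[R] h m = 1 ⊗ₜ m) : Function.Bijective h := by
  have hsurj : Function.Surjective h := by
    rw [← LinearMap.range_eq_top, eq_top_iff]
    refine Submodule.le_of_le_smul_of_le_jacobson_bot Module.Finite.fg_top hI fun m _ => ?_
    have h0 := congrArg (TensorProduct.quotTensorEquivQuotSMul P I) (hh m)
    rw [TensorProduct.quotTensorEquivQuotSMul_mk_one_tmul,
      TensorProduct.quotTensorEquivQuotSMul_mk_one_tmul, eq_comm, Submodule.Quotient.eq] at h0
    exact Submodule.mem_sup.mpr ⟨h m, ⟨m, rfl⟩, m - h m, h0, by abel⟩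
  exact ⟨OrzechProperty.injective_of_surjective_endomorphism h hsurj, hsurj⟩

/-- If `R` is Henselian at `I` and two finitely generated projective `R`-modules become isomorphic after
base change to `R/I`, then they are isomorphic. -/
theorem result (R : Type u) [CommRing R] (I : Ideal R)
    [HenselianRing R I] (P₁ P₂ : Type u) [AddCommGroup P₁] [Module R P₁] [AddCommGroup P₂]
    [Module R P₂] [Module.Finite R P₁] [Module.Projective R P₁] [Module.Finite R P₂]
    [Module.Projective R P₂]
    (e : TensorProduct R (R ⧸ I) P₁ ≃ₗ[R ⧸ I] TensorProduct R (R ⧸ I) P₂) :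
    Nonempty (P₁ ≃ₗ[R] P₂) := by
  obtain ⟨f, hf⟩ := exists_lift I e.toLinearMap
  obtain ⟨g, hg⟩ := exists_lift I e.symm.toLinearMap
  have h1 : Function.Bijective (g ∘ₗ f) := bijective_of_reduction (HenselianRing.jac (I := I)) _
    fun m => by rw [LinearMap.comp_apply, hg, hf]; exact e.symm_apply_apply _
  have h2 : Function.Bijective (f ∘ₗ g) := bijective_of_reduction (HenselianRing.jac (I := I)) _
    fun m => by rw [LinearMap.comp_apply, hf, hg]; exact e.apply_symm_apply _
  exact ⟨LinearEquiv.ofBijective f ⟨Function.Injective.of_comp (f := g) h1.1,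
    Function.Surjective.of_comp (g := g) h2.2⟩⟩

end Groth.Agent.S0535
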