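import Groth.Statements.S0545
import Mathlib.RingTheory.AdicCompletion.Noetherian
import Mathlib.RingTheory.Filtration
import Mathlib.RingTheory.Jacobson.Ideal

set_option autoImplicit false
universe u
open CAlg

namespace Groth.Agent.S0545

theorem mem_smul_top {A : Type u} [CommRing A] (I : Ideal A) (x : A) :
    x ∈ I • (⊤ : Submodule A A) ↔ x ∈ I := by
  rw [smul_eq_mul, Ideal.mul_top]

/-- For a Noetherian ring `A` with two ideals `I` and `J`, completeness of `A` along `I` together with
completeness of the quotient `A/I` along the image of `J` forces completeness of `A` along `J`. -/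
theorem result (A : Type u) [CommRing A] [IsNoetherianRing A]
    (I J : Ideal A) [IsAdicComplete I A]
    [IsAdicComplete (Ideal.map (Ideal.Quotient.mk I) J) (A ⧸ I)] : IsAdicComplete J A := by
  classical
  -- `I` and `J` lie in the Jacobson radical
  have hIj : I ≤ Ideal.jacobson (⊥ : Ideal A) := IsAdicComplete.le_jacobson_bot I
  have hJj : J ≤ Ideal.jacobson (⊥ : Ideal A) := by
    have h := IsAdicComplete.le_jacobson_bot (J.map (Ideal.Quotient.mk I))
    intro x hx
    rw [Ideal.mem_jacobson_bot]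
    intro y
    have h1 := Ideal.mem_jacobson_bot.mp (h (Ideal.mem_map_of_mem _ hx)) (Ideal.Quotient.mk I y)
    rw [← map_mul, ← map_one (Ideal.Quotient.mk I), ← map_add] at h1
    obtain ⟨z, hz⟩ := isUnit_iff_exists_inv.mp h1
    obtain ⟨z, rfl⟩ := Ideal.Quotient.mk_surjective z
    rw [← map_mul, ← sub_eq_zero, ← map_one (Ideal.Quotient.mk I), ← map_sub, Ideal.Quotient.eq_zero_iff_mem] at hz
    have h2 := Ideal.mem_jacobson_bot.mp (hIj hz) 1
    rw [mul_one, sub_add_cancel] at h2
    exact isUnit_of_mul_isUnit_left h2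
  haveI : IsHausdorff J A := IsHausdorff.of_le_jacobson (I := J) (M := A) hJj
  refine { prec' := fun a ha => ?_ }
  have haJ : ∀ {m k}, m ≤ k → a m - a k ∈ J ^ m := fun h => by
    have := SModEq.sub_mem.mp (ha h); rwa [mem_smul_top] at this
  -- successive approximation modulo powers of `I`
  have step : ∀ (n : ℕ) (L : A), (∀ k, L - a k ∈ J ^ k ⊔ I ^ n) →
      ∃ L' : A, L' - L ∈ I ^ n ∧ ∀ k, L' - a k ∈ J ^ k ⊔ I ^ (n + 1) := by
    intro n L hL
    choose u hu v hv huv using fun k => Submodule.mem_sup.mp (hL k)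
    obtain ⟨c, hc⟩ := Ideal.exists_pow_inf_eq_pow_smul (M := A) J (I ^ n)
    have hvdiff : ∀ {m k}, m ≤ k → v m - v k ∈ J ^ m := by
      intro m k h
      have h' : v m - v k = -(a m - a k) - (u m - u k) := by
        linear_combination huv m - huv k
      rw [h']
      exact (J ^ m).sub_mem (neg_mem (haJ h)) ((J ^ m).sub_mem (hu m) (Ideal.pow_le_pow_right h (hu k)))
    have hAR : ∀ m, v (m + c + 1) - v (m + c) ∈ J ^ m * I ^ n := by
      intro m
      have h1 : v (m + c + 1) - v (m + c) ∈ J ^ (m + c) • (⊤ : Submodule A A) ⊓ I ^ n := by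
        refine ⟨?_, (I ^ n).sub_mem (hv _) (hv _)⟩
        show _ ∈ J ^ (m + c) • (⊤ : Submodule A A)
        rw [mem_smul_top, ← neg_sub]
        exact neg_mem (hvdiff (Nat.le_succ _))
      rw [hc (m + c) (Nat.le_add_left c m), Nat.add_sub_cancel] at h1
      exact Submodule.smul_mono le_rfl inf_le_right h1
    obtain ⟨s, g, hg⟩ := Submodule.fg_iff_exists_fin_generating_family.mp (IsNoetherian.noetherian (I ^ n) : (I ^ n).FG)
    have hcoef : ∀ m, ∃ e : Fin s → A, (∀ i, e i ∈ J ^ m) ∧ ∑ i, e i * g i = v (m + c + 1) - v (m + c) := by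
      intro m
      have h1 : v (m + c + 1) - v (m + c) ∈ (J ^ m) • Submodule.span A (Set.range g) := by
        rw [hg]; exact hAR m
      obtain ⟨e, he, he'⟩ := (Submodule.mem_ideal_smul_span_iff_exists_sum (J ^ m) g _).mp h1
      exact ⟨fun i => e i, he, by rw [← he', Finsupp.sum_fintype _ _ (by simp)]; simp⟩
    choose e he hesum using hcoef
    let S : ℕ → Fin s → A := fun m i => ∑ k ∈ Finset.range m, e k i
    have hS : ∀ m, v (m + c) = v c + ∑ i, S m i * g i := by
      intro m
      induction m with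
      | zero => simp [S]
      | succ m ih =>
        have : ∑ i, S (m + 1) i * g i = (∑ i, S m i * g i) + ∑ i, e m i * g i := by
          simp [S, Finset.sum_range_succ, add_mul, Finset.sum_add_distrib]
        rw [this, hesum, add_right_comm m 1 c]
        linear_combination ih
    have hlim : ∀ i, ∃ σ : A, ∀ m, σ - S m i ∈ J ^ m ⊔ I := by
      intro i
      obtain ⟨σ, hσ⟩ := IsPrecomplete.prec (I := J.map (Ideal.Quotient.mk I)) (M := A ⧸ I) inferInstance
        (f := fun m => Ideal.Quotient.mk I (S m i)) (fun {m k} h => by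
          rw [SModEq.sub_mem, mem_smul_top, ← map_sub, ← Ideal.map_pow]
          refine Ideal.mem_map_of_mem _ ?_
          rw [← neg_sub, neg_mem_iff, ← Finset.sum_Ico_eq_sub (fun k => e k i) h]
          exact Ideal.sum_mem _ fun j hj => Ideal.pow_le_pow_right (Finset.mem_Ico.mp hj).1 (he j i))
      obtain ⟨σ, rfl⟩ := Ideal.Quotient.mk_surjective σ
      refine ⟨σ, fun m => ?_⟩
      have h1 := hσ m
      rw [SModEq.sub_mem, mem_smul_top, ← map_sub, ← Ideal.map_pow] at h1
      rw [← Ideal.mem_quotient_iff_mem_sup, ← neg_sub, map_neg, neg_mem_iff]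
      exact h1
    choose σ hσ using hlim
    let w := v c + ∑ i, σ i * g i
    have hgI : ∀ i, g i ∈ I ^ n := fun i => hg ▸ Submodule.subset_span ⟨i, rfl⟩
    have hw : ∀ m, w - v (m + c) ∈ J ^ m ⊔ I ^ (n + 1) := by
      intro m
      have : w - v (m + c) = ∑ i, (σ i - S m i) * g i := by
        rw [hS]; simp only [w, sub_mul, Finset.sum_sub_distrib]; ring
      rw [this]
      refine Ideal.sum_mem _ fun i _ => ?_
      have h1 : (σ i - S m i) * g i ∈ (J ^ m ⊔ I) * I ^ n := Ideal.mul_mem_mul (hσ i m) (hgI i)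
      rw [Ideal.sup_mul, ← pow_succ'] at h1
      exact (show J ^ m * I ^ n ⊔ I ^ (n + 1) ≤ J ^ m ⊔ I ^ (n + 1) from sup_le_sup_right Ideal.mul_le_left _) h1
    refine ⟨L - w, ?_, fun k => ?_⟩
    · rw [sub_sub_cancel_left]
      exact neg_mem ((I ^ n).add_mem (hv c) (Ideal.sum_mem _ fun i _ => (I ^ n).mul_mem_left _ (hgI i)))
    · have h1 : L - w - a k = u k - ((w - v (k + c)) + (v (k + c) - v k)) := by
        linear_combination -huv k
      rw [h1]
      refine Submodule.sub_mem _ (Submodule.mem_sup_left (hu k)) (Submodule.add_mem _ (hw k) (Submodule.mem_sup_left ?_))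
      rw [← neg_sub]
      exact neg_mem (hvdiff (Nat.le_add_right k c))
  let L : ∀ n, {L : A // ∀ k, L - a k ∈ J ^ k ⊔ I ^ n} := fun n =>
    Nat.rec ⟨0, fun k => by simp⟩ (fun n Ln => ⟨(step n Ln.1 Ln.2).choose, (step n Ln.1 Ln.2).choose_spec.2⟩) n
  have hLstep : ∀ n, (L (n + 1)).1 - (L n).1 ∈ I ^ n := fun n => (step n (L n).1 (L n).2).choose_spec.1
  have hLcauchy : ∀ {m n}, m ≤ n → (L m).1 - (L n).1 ∈ I ^ m := by
    intro m n h
    induction h with
    | refl => simp
    | @step n h ih =>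
      have : (L m).1 - (L (n + 1)).1 = ((L m).1 - (L n).1) - ((L (n + 1)).1 - (L n).1) := by ring
      rw [Nat.succ_eq_add_one, this]
      exact (I ^ m).sub_mem ih (Ideal.pow_le_pow_right h (hLstep n))
  obtain ⟨x, hx⟩ := IsPrecomplete.prec (I := I) (M := A) inferInstance (f := fun n => (L n).1)
    (fun {m n} h => by rw [SModEq.sub_mem, mem_smul_top]; exact hLcauchy h)
  refine ⟨x, fun k => ?_⟩
  rw [SModEq.sub_mem, mem_smul_top]
  have hmem : ∀ n, x - a k ∈ J ^ k ⊔ I ^ n := fun n => by
    have h1 := hx n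
    rw [SModEq.sub_mem, mem_smul_top] at h1
    have : x - a k = ((L n).1 - a k) - ((L n).1 - x) := by ring
    rw [this]
    exact Submodule.sub_mem _ ((L n).2 k) (Submodule.mem_sup_right h1)
  haveI : IsHausdorff I (A ⧸ J ^ k) := IsHausdorff.of_le_jacobson (I := I) (M := A ⧸ J ^ k) hIj
  have h0 : Ideal.Quotient.mk (J ^ k) (x - a k) = 0 := IsHausdorff.haus' (I := I) _ fun n => by
    obtain ⟨p, hp, q, hq, hpq⟩ := Submodule.mem_sup.mp (hmem n)
    rw [SModEq.zero, ← hpq, map_add, Ideal.Quotient.eq_zero_iff_mem.mpr hp, zero_add]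
    have : Ideal.Quotient.mk (J ^ k) q = q • (1 : A ⧸ J ^ k) := by
      rw [Algebra.smul_def, mul_one, Ideal.Quotient.algebraMap_eq]
    rw [this]
    exact Submodule.smul_mem_smul hq trivial
  rw [← neg_sub, neg_mem_iff]
  exact Ideal.Quotient.eq_zero_iff_mem.mp h0

end Groth.Agent.S0545
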