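import Groth.Statements.S0546
import Mathlib.RingTheory.Finiteness.Ideal

set_option autoImplicit false
universe u
open CAlg

namespace Groth.Agent.S0546

theorem span_smul_mem {A : Type u} [CommRing A] {M : Type u} [AddCommGroup M] [Module A M]
    (s : Finset A) (N : Submodule A M) {x : M} (hx : x ∈ Ideal.span (s : Set A) • N) :
    ∃ z : A → M, (∀ a, z a ∈ N) ∧ ∑ a ∈ s, a • z a = x := by
  classical
  refine Submodule.smul_induction_on hx (fun a ha n hn => ?_) ?_
  · obtain ⟨c, hc⟩ := Submodule.mem_span_finset'.mp ha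
    refine ⟨fun b => (if h : b ∈ s then c ⟨b, h⟩ else 0) • n, fun b => N.smul_mem _ hn, ?_⟩
    rw [← hc, Finset.sum_smul, ← Finset.sum_attach]
    refine Finset.sum_congr rfl fun b _ => ?_
    simp only [dif_pos b.2, smul_smul, smul_eq_mul, mul_comm]
  · rintro x y ⟨z, hz, rfl⟩ ⟨w, hw, rfl⟩
    exact ⟨z + w, fun a => N.add_mem (hz a) (hw a), by simp [smul_add, Finset.sum_add_distrib]⟩

/-- If `I ≤ J` are ideals with `I` finitely generated and `M` is `J`-adically complete, then `M` is
`I`-adically complete. -/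
theorem result (A : Type u) [CommRing A] (I J : Ideal A) (hIJ : I ≤ J)
    (hI : I.FG) (M : Type u) [AddCommGroup M] [Module A M] [IsAdicComplete J M] :
    IsAdicComplete I M := by
  have hmono : ∀ n, (I ^ n • ⊤ : Submodule A M) ≤ J ^ n • ⊤ := fun n =>
    Submodule.smul_mono_left (Ideal.pow_right_mono hIJ n)
  refine { haus' := fun x hx => IsHausdorff.haus' (I := J) x fun n => (hx n).mono (hmono n), prec' := ?_ }
  intro f hf
  obtain ⟨L, hL⟩ := IsPrecomplete.prec' (I := J) (M := M) f (fun {m n} h => (hf h).mono (hmono m))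
  refine ⟨L, fun n => ?_⟩
  obtain ⟨s, hs⟩ := hI.pow (n := n)
  have step : ∀ i, ∃ z : A → M, (∀ a, z a ∈ (I ^ i • ⊤ : Submodule A M)) ∧
      ∑ a ∈ s, a • z a = f (n + i + 1) - f (n + i) := by
    intro i
    apply span_smul_mem
    rw [show (Ideal.span (s : Set A)) = I ^ n from hs, ← Submodule.mul_smul, ← pow_add]
    exact SModEq.sub_mem.mp (hf (Nat.le_succ (n + i))).symm
  choose z hz hzs using step
  let w : A → ℕ → M := fun a m => ∑ i ∈ Finset.range m, z i a
  have hw : ∀ a {m k}, m ≤ k → w a m ≡ w a k [SMOD (J ^ m • ⊤ : Submodule A M)] := by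
    intro a m k hmk
    refine (SModEq.sub_mem.mpr ?_).symm
    show w a k - w a m ∈ _
    simp only [w]
    rw [Finset.sum_range_sub_sum_range hmk]
    refine Submodule.sum_mem _ fun i hi => ?_
    simp only [Finset.mem_filter] at hi
    exact (Submodule.smul_mono_left (Ideal.pow_le_pow_right hi.2)) (hmono i (hz i a))
  choose Z hZ using fun a => IsPrecomplete.prec' (I := J) (M := M) (w a) (fun {m k} h => hw a h)
  have key : L - f n = ∑ a ∈ s, a • Z a := by
    rw [← sub_eq_zero]
    apply IsHausdorff.haus' (I := J)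
    intro m
    rw [SModEq.zero]
    have e1 : ∑ a ∈ s, a • w a m = f (n + m) - f n := by
      simp only [w, Finset.smul_sum]
      rw [Finset.sum_comm]
      simp only [hzs]
      exact Finset.sum_range_sub (fun i => f (n + i)) m
    have e2 : L - f n - ∑ a ∈ s, a • Z a =
        (∑ a ∈ s, a • (w a m - Z a)) - (f (n + m) - L) := by
      simp only [smul_sub, Finset.sum_sub_distrib, e1]
      abel
    rw [e2]
    refine Submodule.sub_mem _ (Submodule.sum_mem _ fun a ha => Submodule.smul_mem _ _ (SModEq.sub_mem.mp (hZ a m))) ?_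
    exact Submodule.smul_mono_left (Ideal.pow_le_pow_right (Nat.le_add_left m n)) (SModEq.sub_mem.mp (hL (n+m)))
  refine (SModEq.sub_mem.mpr ?_).symm
  rw [key]
  refine Submodule.sum_mem _ fun a ha => Submodule.smul_mem_smul ?_ Submodule.mem_top
  rw [← hs]; exact Submodule.subset_span ha

end Groth.Agent.S0546
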