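import Groth.Statements.S0551
import Groth.Agent.H1TorFlip.Acyclic
import Groth.Agent.H1CAlg.LimFlatMod
import Groth.Agent.S0542
import Mathlib

set_option autoImplicit false
universe u
open CAlg

namespace Groth.Agent.S0551

open scoped TensorProduct

/-- Let `R` be a ring, `I` a finitely generated ideal with `R/I` Noetherian, and `M` an `R`-module such
that `M/IM` is flat over `R/I` and the multiplication map `I ⊗ M → M` is injective (the vanishing of
the first Tor of `M` against `R/I`). Then the `I`-adic completion of `M` is flat over the `I`-adic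
completion of `R`. (The published statement also records that the completed ring is Noetherian; that
is stated separately.) -/
theorem result (R : Type u) [CommRing R] (I : Ideal R) (hI : I.FG)
    [IsNoetherianRing (R ⧸ I)] (M : Type u) [AddCommGroup M] [Module R M]
    [Module.Flat (R ⧸ I) (M ⧸ (I • ⊤ : Submodule R M))]
    (hT : Function.Injective (TensorProduct.lift ((LinearMap.lsmul R M).comp (Submodule.subtype I)))) :
    Module.Flat (AdicCompletion I R) (AdicCompletion I M) := by
  classical
  let MM : ModuleCat.{u} R := ModuleCat.of R M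
  -- base change to a quotient, linearly over the quotient
  let eq : ∀ K : Ideal R, ((R ⧸ K) ⊗[R] M) ≃ₗ[R ⧸ K] (M ⧸ K • (⊤ : Submodule R M)) := fun K =>
    (TensorProduct.quotTensorEquivQuotSMul M K).extendScalarsOfSurjective Ideal.Quotient.mk_surjective
  haveI h1flat : Module.Flat (R ⧸ I) ((R ⧸ I) ⊗[R] MM) := Module.Flat.of_linearEquiv (eq I)
  have hB : H1TorFlip.Ex MM 0 (R ⧸ I) := by
    refine @H1TorFlip.ex_right_zero R _ MM I R (R ⧸ I) _ _ _ _ _ _ I.subtype (Submodule.mkQ I)
      Subtype.val_injective (Submodule.mkQ_surjective I) (LinearMap.exact_subtype_mkQ I)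
      (H1TorFlip.ex_of_flat MM R 0) ?_
    have e : (TensorProduct.lid R MM).toLinearMap.comp (LinearMap.rTensor MM I.subtype) =
        TensorProduct.lift ((LinearMap.lsmul R M).comp (Submodule.subtype I)) :=
      TensorProduct.ext' fun a x => by simp [MM]
    intro a b hab
    refine hT ?_
    rw [← e, LinearMap.comp_apply, LinearMap.comp_apply, hab]
  have hk : ∀ k : ℕ, ∀ (N : Type u) [AddCommGroup N] [Module R N],
      (∀ a ∈ I ^ k, ∀ x : N, a • x = 0) → H1TorFlip.Ex MM 0 N := by
    have hI1 : ∀ (N : Type u) [AddCommGroup N] [Module R N], (∀ a ∈ I, ∀ x : N, a • x = 0) → H1TorFlip.Ex MM 0 N := by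
      intro N _ _ hN
      letI : Module (R ⧸ I) N := Module.IsTorsionBySet.module (R := R) (M := N) (fun x a => hN a.1 a.2 x)
      haveI : IsScalarTower R (R ⧸ I) N := Module.IsTorsionBySet.isScalarTower (R := R) (M := N) (fun x a => hN a.1 a.2 x)
      exact H1TorFlip.ex_of_algebra MM (R ⧸ I) (m := 1) (fun n hn => by
        obtain rfl : n = 0 := by omega
        exact hB) 0 (by omega) N
    intro k
    induction k with
    | zero =>
      intro N _ _ hN
      refine hI1 N fun a _ x => ?_
      rw [show x = 0 by simpa using hN 1 (by simp) x, smul_zero]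
    | succ k ih =>
      intro N _ _ hN
      let N' : Submodule R N := (I ^ k) • ⊤
      refine @H1TorFlip.ex_mid R _ MM N' N (N ⧸ N') _ _ _ _ _ _ N'.subtype N'.mkQ Subtype.val_injective (Submodule.mkQ_surjective N')
        (LinearMap.exact_subtype_mkQ N') 0 (hI1 N' fun a ha x => ?_) (ih (N ⧸ N') fun a ha x => ?_)
      · refine Subtype.ext ?_
        show a • (x : N) = 0
        refine Submodule.smul_induction_on x.2 (fun b hb y _ => ?_) fun y z hy hz => by rw [smul_add, hy, hz, add_zero]
        rw [smul_smul]
        exact hN _ (by rw [pow_succ']; exact Ideal.mul_mem_mul ha hb) y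
      · obtain ⟨y, rfl⟩ := Submodule.Quotient.mk_surjective N' x
        rw [← Submodule.Quotient.mk_smul, Submodule.Quotient.mk_eq_zero]
        exact Submodule.smul_mem_smul ha trivial
  haveI hflat : ∀ n, Module.Flat (R ⧸ I ^ n) (M ⧸ (I ^ n) • (⊤ : Submodule R M)) := fun n => by
    let B := R ⧸ I ^ n
    suffices Module.Flat B (B ⊗[R] M) from Module.Flat.of_linearEquiv (eq (I ^ n)).symm
    refine Module.Flat.iff_rTensor_injective'.2 fun K => ?_
    let c1 := TensorProduct.AlgebraTensorModule.cancelBaseChange R B B K M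
    let c2 := TensorProduct.AlgebraTensorModule.cancelBaseChange R B B B M
    let ι₁ : K →ₗ[R] B := (Submodule.subtype K).restrictScalars R
    let π₁ : B →ₗ[R] B ⧸ K := (Submodule.mkQ K).restrictScalars R
    have hinj : Function.Injective (ι₁.rTensor MM) :=
      @H1TorFlip.injective_of_ex_zero R _ MM K B (B ⧸ K) _ _ _ _ _ _ ι₁ π₁ Subtype.val_injective
        (Submodule.mkQ_surjective K) (LinearMap.exact_subtype_mkQ K) (hk n _ fun a ha x => by
          rw [← algebraMap_smul B a x, Ideal.Quotient.algebraMap_eq, Ideal.Quotient.eq_zero_iff_mem.2 ha, zero_smul])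
    have hc : ∀ w, ι₁.rTensor MM (c1 w) = c2 ((Submodule.subtype K).rTensor (B ⊗[R] M) w) := fun w => by
      induction w with
      | zero => simp
      | tmul q bm =>
        induction bm with
        | zero => simp
        | tmul b m => simp [c1, c2, ι₁, MM]
        | add u v hu hv => simp only [TensorProduct.tmul_add, map_add, hu, hv]
      | add u v hu hv => simp only [map_add, hu, hv]
    intro a b hab
    exact c1.injective (hinj (by rw [hc, hc, hab]))
  haveI := S0542.result R I hI
  refine H1CAlg.flat_of_flat_tower (AdicCompletion I R) (I.map (algebraMap R (AdicCompletion I R)))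
    (fun n => R ⧸ I ^ n) (fun n => (AdicCompletion.evalₐ I n).toRingHom) (fun n z => ?_) (fun n => ?_)
    (fun n => M ⧸ (I ^ n) • (⊤ : Submodule R M))
    (fun {n m} h => (AdicCompletion.transitionMap I M h).toAddMonoidHom)
    (fun {n m} h y => ?_) (fun {n m} h a y => ?_) (fun {n m k} h h' y => ?_)
    (AdicCompletion I M) (fun n => (AdicCompletion.eval I M n).toAddMonoidHom)
    (fun n a x => ?_) (fun {n m} h x => x.2 h) (fun x hx => AdicCompletion.ext fun n => hx n) (fun y hy => ?_)
  · obtain ⟨r, rfl⟩ := Ideal.Quotient.mk_surjective z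
    exact ⟨algebraMap R _ r, (AdicCompletion.evalₐ I n).commutes r⟩
  · ext r
    have h1 : r ∈ RingHom.ker (AdicCompletion.evalₐ I n).toRingHom ↔ AdicCompletion.eval I R n r = 0 := by
      have hIn : I ^ n ≤ I ^ n • (⊤ : Ideal R) := le_of_eq (Ideal.mul_top (I ^ n)).symm
      rw [← AdicCompletion.factor_evalₐ_eq_eval I r hIn, RingHom.mem_ker]
      constructor
      · intro h
        show Ideal.Quotient.factor hIn (AdicCompletion.evalₐ I n r) = 0
        rw [show AdicCompletion.evalₐ I n r = 0 from h, map_zero]
      · intro h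
        obtain ⟨a, ha⟩ := Ideal.Quotient.mk_surjective (AdicCompletion.evalₐ I n r)
        rw [← ha, Ideal.Quotient.factor_mk, Ideal.Quotient.eq_zero_iff_mem] at h
        show AdicCompletion.evalₐ I n r = 0
        rw [← ha, Ideal.Quotient.eq_zero_iff_mem]
        simpa using h
    rw [h1, ← LinearMap.mem_ker, ← AdicCompletion.pow_smul_top_eq_ker_eval hI, Ideal.smul_top_eq_map,
      Submodule.restrictScalars_mem, Ideal.map_pow]
  · obtain ⟨x, rfl⟩ := Submodule.Quotient.mk_surjective _ y
    exact ⟨Submodule.Quotient.mk x, rfl⟩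
  · obtain ⟨x, rfl⟩ := Submodule.Quotient.mk_surjective _ y
    induction a using AdicCompletion.induction_on with
    | h s =>
      show AdicCompletion.transitionMap I M h (AdicCompletion.evalₐ I m (AdicCompletion.mk I R s) • Submodule.Quotient.mk x) =
        AdicCompletion.evalₐ I n (AdicCompletion.mk I R s) • AdicCompletion.transitionMap I M h (Submodule.Quotient.mk x)
      rw [AdicCompletion.evalₐ_mk, AdicCompletion.evalₐ_mk]
      show (Submodule.Quotient.mk (s.1 m • x) : M ⧸ I ^ n • (⊤ : Submodule R M)) = Submodule.Quotient.mk (s.1 n • x)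
      rw [Submodule.Quotient.eq, ← sub_smul]
      have hs := SModEq.sub_mem.1 (s.2 h)
      rw [smul_eq_mul, Ideal.mul_top] at hs
      rw [← neg_sub, neg_smul]
      exact neg_mem (Submodule.smul_mem_smul hs trivial)
  · obtain ⟨x, rfl⟩ := Submodule.Quotient.mk_surjective _ y
    rfl
  · show (a • x).val n = _
    rw [AdicCompletion.smul_eval]
    exact AdicCompletion.val_smul_eq_evalₐ_smul I n a _
  · refine ⟨⟨y, fun {m n} hmn => ?_⟩, fun n => rfl⟩
    induction hmn with
    | refl => obtain ⟨x, hx⟩ := Submodule.Quotient.mk_surjective _ (y m); rw [← hx]; rfl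
    | @step n hmn ih =>
      rw [← ih, ← show AdicCompletion.transitionMap I M n.le_succ (y (n + 1)) = y n from hy n]
      obtain ⟨x, hx⟩ := Submodule.Quotient.mk_surjective _ (y (n + 1))
      rw [← hx]; rfl

end Groth.Agent.S0551
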