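import Groth.Statements.S0552
import Groth.Agent.H8Props.CatenaryBridge
-- import your own Groth.Agent.* helpers here

set_option autoImplicit false
universe u
open CAlg

namespace Groth.Agent.S0552

/-- A ring is catenary exactly when its localization at every maximal ideal is catenary. -/
theorem result (R : Type u) [CommRing R] :
    CAlg.IsCatenary R ↔ ∀ (m : Ideal R) [m.IsMaximal], CAlg.IsCatenary (Localization.AtPrime m) := by
  open Groth.Agent in
  constructor
  · intro h m _
    exact H8Props.CatenaryBridge.isCatenary_atPrime h m _
  · intro h
    refine H02CA.catenary_of_cover fun p q hpq => ?_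
    obtain ⟨m, hm, hqm⟩ := q.asIdeal.exists_le_maximal q.2.ne_top
    haveI := hm
    refine ⟨Localization.AtPrime m, _, H8Props.CatenaryBridge.locEmbedding m (Localization.AtPrime m),
      H8Props.CatenaryBridge.convex_locEmbedding _ _, (H8Props.CatenaryBridge.mem_range_locEmbedding _ _).mpr ?_,
      (H8Props.CatenaryBridge.mem_range_locEmbedding _ _).mpr ?_, h m⟩
    · exact le_trans hpq hqm
    · exact hqm

end Groth.Agent.S0552
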