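import Groth.Statements.S0553
import Groth.Agent.H05EGA4.FormalCatenary
import Mathlib.RingTheory.MvPolynomial.Localization
-- import your own Groth.Agent.* helpers here

set_option autoImplicit false
universe u
open CAlg

namespace Groth.Agent.S0553

/-- Spectrum of a localization as an order-convex piece of the spectrum. -/
noncomputable def embedding {A : Type u} [CommRing A] (S : Submonoid A) (B : Type u) [CommRing B] [Algebra A B]
    [IsLocalization S B] : PrimeSpectrum B ↪o PrimeSpectrum A :=
  OrderEmbedding.ofMapLEIff (PrimeSpectrum.comap (algebraMap A B)) fun a b => by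
    show a.asIdeal.comap (algebraMap A B) ≤ b.asIdeal.comap (algebraMap A B) ↔ _
    constructor
    · intro h
      show a.asIdeal ≤ b.asIdeal
      rw [← IsLocalization.map_comap S B a.asIdeal, ← IsLocalization.map_comap S B b.asIdeal]
      exact Ideal.map_mono h
    · exact fun h => Ideal.comap_mono h

theorem mem_range_embedding {A : Type u} [CommRing A] (S : Submonoid A) (B : Type u) [CommRing B] [Algebra A B]
    [IsLocalization S B] {p : PrimeSpectrum A} :
    p ∈ Set.range (embedding S B) ↔ ∀ s ∈ S, s ∉ p.asIdeal := by
  show p ∈ Set.range (PrimeSpectrum.comap (algebraMap A B)) ↔ _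
  rw [PrimeSpectrum.localization_comap_range B S, Set.mem_setOf_eq, Set.disjoint_left]
  exact Iff.rfl

theorem convex_embedding {A : Type u} [CommRing A] (S : Submonoid A) (B : Type u) [CommRing B] [Algebra A B]
    [IsLocalization S B] : Groth.Agent.H02CA.Convex (embedding S B) := by
  intro a b c hac hcb
  rw [mem_range_embedding]
  intro s hs hsc
  exact (mem_range_embedding S B).mp ⟨b, rfl⟩ s hs (hcb hsc)

theorem catenary_localization {A : Type u} [CommRing A] (S : Submonoid A) (B : Type u) [CommRing B] [Algebra A B]
    [IsLocalization S B] (h : CAlg.IsCatenary A) : CAlg.IsCatenary B :=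
  Groth.Agent.H02CA.catenary_transfer (embedding S B) (convex_embedding S B) h


/-- A Noetherian ring is universally catenary exactly when its localization at every maximal ideal is
universally catenary. -/
theorem result (R : Type u) [CommRing R]
    [IsNoetherianRing R] :
    CAlg.IsUniversallyCatenary R ↔
      ∀ (m : Ideal R) [m.IsMaximal], CAlg.IsUniversallyCatenary (Localization.AtPrime m) := by
  constructor
  · intro h m _
    haveI : IsNoetherianRing (Localization.AtPrime m) := IsLocalization.isNoetherianRing m.primeCompl _ inferInstance
    refine Groth.Agent.H05EGA4.isUniversallyCatenary_of_forall_mvPolynomial fun n => ?_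
    letI := MvPolynomial.algebraMvPolynomial (σ := Fin n) (R := R) (S := Localization.AtPrime m)
    exact catenary_localization (m.primeCompl.map (MvPolynomial.C (σ := Fin n))) _ (h.2 _ inferInstance)
  · intro h
    refine Groth.Agent.H05EGA4.isUniversallyCatenary_of_forall_mvPolynomial fun n => ?_
    refine Groth.Agent.H02CA.catenary_of_cover fun p q hpq => ?_
    let C : R →+* MvPolynomial (Fin n) R := MvPolynomial.C
    obtain ⟨m, hm, hqm⟩ := (q.asIdeal.comap C).exists_le_maximal (q.2.comap C).ne_top
    haveI := hm
    letI := MvPolynomial.algebraMvPolynomial (σ := Fin n) (R := R) (S := Localization.AtPrime m)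
    have hmem : ∀ P : PrimeSpectrum (MvPolynomial (Fin n) R), P ≤ q →
        P ∈ Set.range (embedding (m.primeCompl.map C) (MvPolynomial (Fin n) (Localization.AtPrime m))) := by
      intro P hP
      rw [mem_range_embedding]
      rintro _ ⟨r, hr, rfl⟩ hr'
      exact hr (hqm (hP hr'))
    exact ⟨MvPolynomial (Fin n) (Localization.AtPrime m), _, embedding (m.primeCompl.map C) _, convex_embedding _ _,
      hmem p hpq, hmem q le_rfl, (h m).2 _ inferInstance⟩

end Groth.Agent.S0553
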