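import Groth.Statements.S0557
import Groth.Agent.H22Alg.KrullAkizuki
-- import your own Groth.Agent.* helpers here

set_option autoImplicit false
universe u
open CAlg

namespace Groth.Agent.S0557

/-- Length is bounded by the lengths of the finitely generated submodules. -/
theorem length_le_of_fg {R Q : Type u} [Ring R] [AddCommGroup Q] [Module R Q] {b : ℕ∞}
    (h : ∀ P : Submodule R Q, P.FG → Module.length R P ≤ b) : Module.length R Q ≤ b := by
  by_contra hlt
  rw [not_le] at hlt
  obtain ⟨n, rfl⟩ := ENat.ne_top_iff_exists.mp hlt.ne_top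
  have hle1 : ((n + 1 : ℕ) : ℕ∞) ≤ Module.length R Q := by
    rw [Nat.cast_add, Nat.cast_one]; exact Order.add_one_le_of_lt hlt
  have hle2 : ((n + 1 : ℕ) : WithBot ℕ∞) ≤ Order.krullDim (Submodule R Q) := by
    rw [← Module.coe_length]; exact WithBot.coe_le_coe.mpr hle1
  obtain ⟨c, hc⟩ := Order.le_krullDim_iff.mp hle2
  have hstep : ∀ i : Fin c.length, ∃ z : Q, z ∈ c i.succ ∧ z ∉ c i.castSucc := fun i =>
    SetLike.exists_of_lt (show c i.castSucc < c i.succ from c.step i)
  choose z hz1 hz2 using hstep
  let P := Submodule.span R (Set.range z)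
  have hmem : ∀ i, z i ∈ P := fun i => Submodule.subset_span ⟨i, rfl⟩
  let c' : LTSeries (Submodule R P) :=
    { length := c.length
      toFun := fun i => (c i).comap P.subtype
      step := fun i => by
        show (c i.castSucc).comap _ < (c i.succ).comap _
        refine lt_of_le_of_ne (Submodule.comap_mono (c.step i).le) fun e => hz2 i ?_
        have : (⟨_, hmem i⟩ : P) ∈ (c i.succ).comap P.subtype := hz1 i
        rw [← e] at this
        exact this }
  have h1 := Order.LTSeries.length_le_krullDim c'
  rw [show c'.length = n + 1 from hc, ← Module.coe_length] at h1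
  have h2 : ((n + 1 : ℕ) : ℕ∞) ≤ n := (WithBot.coe_le_coe.mp h1).trans (h P (Submodule.fg_span (Set.finite_range z)))
  rw [Nat.cast_le] at h2
  omega

open scoped Pointwise in
theorem span_smul_top {R N : Type u} [CommRing R] [AddCommGroup N] [Module R N] (x : R) :
    Ideal.span ({x} : Set R) • (⊤ : Submodule R N) = LinearMap.range (LinearMap.lsmul R N x) := by
  ext n
  rw [Submodule.ideal_span_singleton_smul, Submodule.mem_smul_pointwise_iff_exists]
  exact ⟨fun ⟨m, _, h⟩ => ⟨m, h⟩, fun ⟨m, h⟩ => ⟨m, trivial, h⟩⟩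

variable {R : Type u} [CommRing R] [IsDomain R] [IsNoetherianRing R] [Ring.KrullDimLE 1 R]
  {K : Type u} [Field K] [Algebra R K] [IsFractionRing R K]

/-- The bound for submodules of `K`. -/
theorem bound_one (M : Submodule R K) {x : R} (hx : x ≠ 0) :
    Module.length R (M ⧸ Ideal.span ({x} : Set R) • (⊤ : Submodule R M)) ≤ Ring.ord R x := by
  refine length_le_of_fg fun P hP => ?_
  obtain ⟨k, g, rfl⟩ := Submodule.fg_iff_exists_fin_generating_family.mp hP
  choose f hf using fun i => Submodule.Quotient.mk_surjective _ (g i)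
  let N : Submodule R K := Submodule.span R (Set.range fun i => (f i : K))
  have hN : N ≤ M := Submodule.span_le.mpr (by rintro _ ⟨i, rfl⟩; exact (f i).2)
  let q : N →ₗ[R] M ⧸ Ideal.span ({x} : Set R) • (⊤ : Submodule R M) := Submodule.mkQ _ ∘ₗ Submodule.inclusion hN
  have hle : LinearMap.range (LinearMap.lsmul R N x) ≤ LinearMap.ker q := by
    rintro _ ⟨n, rfl⟩
    rw [LinearMap.mem_ker, LinearMap.lsmul_apply, map_smul]
    exact (Submodule.Quotient.mk_smul _ x _).symm.trans ((Submodule.Quotient.mk_eq_zero _).mpr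
      (Submodule.smul_mem_smul (Ideal.mem_span_singleton_self x) trivial))
  have hrange : Submodule.span R (Set.range g) ≤ LinearMap.range ((LinearMap.range (LinearMap.lsmul R N x)).liftQ q hle) := by
    rw [Submodule.range_liftQ, Submodule.span_le]
    rintro _ ⟨i, rfl⟩
    exact ⟨⟨f i, Submodule.subset_span ⟨i, rfl⟩⟩, hf i⟩
  exact ((Module.length_le_of_injective _ (Submodule.inclusion_injective hrange)).trans
    (Module.length_le_of_surjective _ ((LinearMap.range (LinearMap.lsmul R N x)).liftQ q hle).surjective_rangeRestrict)).trans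
    (Groth.Agent.H22Alg.length_quot_smul_top_le_of_fg hx N (Submodule.fg_span (Set.finite_range _)))

theorem bound {x : R} (hx : x ≠ 0) : ∀ (r : ℕ) (M : Submodule R (Fin r → K)),
    Module.length R (M ⧸ Ideal.span ({x} : Set R) • (⊤ : Submodule R M)) ≤ r * Ring.ord R x
  | 0, M => by
    haveI : Subsingleton (M ⧸ Ideal.span ({x} : Set R) • (⊤ : Submodule R M)) := Quotient.instSubsingletonQuotient _
    simp [Module.length_eq_zero_iff.mpr this]
  | r + 1, M => by
    let p : (Fin (r + 1) → K) →ₗ[R] K := LinearMap.proj 0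
    let t : (Fin (r + 1) → K) →ₗ[R] (Fin r → K) := LinearMap.funLeft R K Fin.succ
    let M₁ : Submodule R K := M.map p
    let M₀ : Submodule R (Fin r → K) := (M ⊓ LinearMap.ker p).map t
    have ht : Function.Injective (t ∘ₗ (M ⊓ LinearMap.ker p).subtype) := fun a b h => Subtype.ext (funext fun i => by
      refine Fin.cases ?_ (fun j => congrFun h j) i
      exact (show a.1 0 = 0 from a.2.2).trans (show b.1 0 = 0 from b.2.2).symm)
    let e : ↥(M ⊓ LinearMap.ker p) ≃ₗ[R] M₀ :=
      LinearEquiv.ofBijective ((t.domRestrict _).codRestrict M₀ fun a => Submodule.mem_map_of_mem a.2)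
        ⟨fun a b h => ht (congrArg Subtype.val h), fun ⟨_, a, ha, rfl⟩ => ⟨⟨a, ha⟩, rfl⟩⟩
    let i : M₀ →ₗ[R] M := Submodule.inclusion inf_le_left ∘ₗ e.symm.toLinearMap
    let pr : M →ₗ[R] M₁ := (p.domRestrict M).codRestrict M₁ fun a => Submodule.mem_map_of_mem a.2
    have hpr : Function.Surjective pr := fun ⟨_, a, ha, rfl⟩ => ⟨⟨a, ha⟩, rfl⟩
    have hex : Function.Exact i pr := fun a => by
      refine ⟨fun h => ⟨e ⟨a.1, a.2, congrArg Subtype.val h⟩, ?_⟩, ?_⟩
      · show Submodule.inclusion inf_le_left (e.symm (e _)) = a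
        rw [e.symm_apply_apply]; rfl
      · rintro ⟨b, rfl⟩
        exact Subtype.ext (e.symm b).2.2
    let I := Ideal.span ({x} : Set R)
    let i' := Submodule.mapQ (I • (⊤ : Submodule R M₀)) (I • (⊤ : Submodule R M)) i
      (Submodule.map_le_iff_le_comap.mp (by rw [Submodule.map_smul'']; exact Submodule.smul_mono le_rfl le_top))
    let pr' := Submodule.mapQ (I • (⊤ : Submodule R M)) (I • (⊤ : Submodule R M₁)) pr
      (Submodule.map_le_iff_le_comap.mp (by rw [Submodule.map_smul'']; exact Submodule.smul_mono le_rfl le_top))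
    have hex' : Function.Exact (LinearMap.range i').subtype pr' := fun a => by
      obtain ⟨a, rfl⟩ := Submodule.Quotient.mk_surjective _ a
      constructor
      · intro h
        have h1 : pr a ∈ (I • (⊤ : Submodule R M)).map pr := by
          rw [Submodule.map_smul'', Submodule.map_top, LinearMap.range_eq_top.mpr hpr]
          exact (Submodule.Quotient.mk_eq_zero _).mp h
        obtain ⟨b, hb, hb'⟩ := h1
        obtain ⟨c, hc⟩ := (hex (a - b)).mp (by rw [map_sub, hb', sub_self])
        refine ⟨⟨Submodule.Quotient.mk a, Submodule.Quotient.mk c, ?_⟩, rfl⟩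
        show Submodule.Quotient.mk (i c) = Submodule.Quotient.mk a
        rw [Submodule.Quotient.eq, hc, sub_sub_cancel_left]
        exact neg_mem hb
      · rintro ⟨⟨y, c, rfl⟩, hy⟩
        obtain ⟨c, rfl⟩ := Submodule.Quotient.mk_surjective _ c
        rw [← hy]
        show Submodule.Quotient.mk (pr (i c)) = 0
        rw [hex.apply_apply_eq_zero]; rfl
    have hsurj : Function.Surjective pr' := fun a => by
      obtain ⟨a, rfl⟩ := Submodule.Quotient.mk_surjective _ a
      obtain ⟨b, rfl⟩ := hpr a
      exact ⟨Submodule.Quotient.mk b, rfl⟩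
    rw [Module.length_eq_add_of_exact _ pr' (Submodule.injective_subtype _) hsurj hex', Nat.cast_succ, add_mul, one_mul]
    exact add_le_add ((Module.length_le_of_surjective _ i'.surjective_rangeRestrict).trans (bound hx r M₀))
      (bound_one M₁ hx)

/-- Let `R` be a Noetherian local domain of dimension one with fraction field `K`, `M` an `R`-submodule
of `K^r`, and `x` a nonzero element of `R`. Then `R/xR` has finite length and the length of `M/xM`
is at most `r` times the length of `R/xR`. -/
theorem result (R : Type u) [CommRing R] [IsDomain R]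
    [IsNoetherianRing R] [IsLocalRing R] (hdim : ringKrullDim R = 1) (K : Type u) [Field K]
    [Algebra R K] [IsFractionRing R K] (r : ℕ) (M : Submodule R (Fin r → K)) (x : R) (hx : x ≠ 0) :
    Module.length R (R ⧸ Ideal.span ({x} : Set R)) ≠ ⊤ ∧
      Module.length R (M ⧸ (Ideal.span ({x} : Set R) • (⊤ : Submodule R M))) ≤
        r * Module.length R (R ⧸ Ideal.span ({x} : Set R)) := by
  haveI : Ring.KrullDimLE 1 R := Ring.krullDimLE_iff.mpr (le_of_eq hdim)
  exact ⟨Ring.ord_ne_top (mem_nonZeroDivisors_of_ne_zero hx), bound hx r M⟩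

end Groth.Agent.S0557
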