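import Groth.Statements.S0561
import Groth.Agent.H02CA.RegularKer
import Groth.Agent.H4Depth.Regular
import Mathlib.RingTheory.Ideal.Cotangent
import Mathlib.RingTheory.Nakayama
-- import your own Groth.Agent.* helpers here

set_option autoImplicit false
universe u
open CAlg

namespace Groth.Agent.S0561

/-- Let `R` be a regular local ring of dimension `d` and `I` an ideal with `R/I` a regular local ring.
Then there are elements `x₁, …, x_d` generating the maximal ideal such that `I` is generated by `x₁,
…, x_c` for some `c ≤ d`. -/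
theorem result (R : Type u) [CommRing R]
    [IsRegularLocalRing R] (d : ℕ) (hd : ringKrullDim R = d) (I : Ideal R)
    [IsRegularLocalRing (R ⧸ I)] :
    ∃ (x : Fin d → R) (c : ℕ) (hc : c ≤ d), Ideal.span (Set.range x) = IsLocalRing.maximalIdeal R ∧
      I = Ideal.span (Set.range (fun i : Fin c => x (Fin.castLE hc i))) := by
  classical
  let m := IsLocalRing.maximalIdeal R
  let κ := IsLocalRing.ResidueField R
  let V := IsLocalRing.CotangentSpace R
  have hIne : I ≠ ⊤ := Ideal.Quotient.nontrivial_iff.mp inferInstance
  have hIm : I ≤ m := IsLocalRing.le_maximalIdeal hIne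
  have hjac : m ≤ Ideal.jacobson ⊥ := IsLocalRing.maximalIdeal_le_jacobson _
  have hres : Function.Surjective (IsLocalRing.residue R) := IsLocalRing.residue_surjective
  let tc : m →ₗ[R] V := m.toCotangent
  let W : Submodule κ V :=
    { carrier := {v | ∃ x : m, (x : R) ∈ I ∧ tc x = v}
      add_mem' := by
        rintro _ _ ⟨x, hx, rfl⟩ ⟨y, hy, rfl⟩
        exact ⟨x + y, I.add_mem hx hy, map_add _ _ _⟩
      zero_mem' := ⟨0, I.zero_mem, map_zero _⟩
      smul_mem' := by
        rintro a _ ⟨x, hx, rfl⟩
        obtain ⟨r, rfl⟩ := hres a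
        exact ⟨r • x, I.mul_mem_left r hx, map_smul _ _ _⟩ }
  obtain ⟨W', hW'⟩ := Submodule.exists_isCompl W
  let c := Module.finrank κ W
  let e := Module.finrank κ W'
  have hd' : c + e = d := by
    rw [Submodule.finrank_add_eq_of_isCompl hW']
    have h1 := (IsRegularLocalRing.iff_finrank_cotangentSpace R).mp inferInstance
    rw [hd] at h1
    exact_mod_cast h1
  subst hd'
  let b := Module.finBasis κ W
  let b' := Module.finBasis κ W'
  choose y hyI hyb using fun i => (b i).2
  choose z hzb using fun i => m.toCotangent_surjective (b' i : V)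
  let xm : Fin (c + e) → m := Fin.append y z
  refine ⟨fun i => (xm i : R), c, Nat.le_add_right c e, ?_, ?_⟩
  · have hspan : Submodule.span R (Set.range xm) = ⊤ := by
      rw [← IsLocalRing.CotangentSpace.span_image_eq_top_iff, ← Set.range_comp, eq_top_iff,
        ← hW'.sup_eq_top, sup_le_iff]
      constructor
      · intro v hv
        have h2 := congrArg Subtype.val (b.sum_repr ⟨v, hv⟩)
        rw [AddSubmonoidClass.coe_finset_sum] at h2
        rw [show v = _ from h2.symm]
        refine Submodule.sum_mem _ fun i _ => ?_
        refine Submodule.smul_mem _ _ (Submodule.subset_span ⟨Fin.castAdd e i, ?_⟩)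
        simp only [Function.comp_apply, xm, Fin.append_left]
        exact hyb i
      · intro v hv
        have h2 := congrArg Subtype.val (b'.sum_repr ⟨v, hv⟩)
        rw [AddSubmonoidClass.coe_finset_sum] at h2
        rw [show v = _ from h2.symm]
        refine Submodule.sum_mem _ fun i _ => ?_
        refine Submodule.smul_mem _ _ (Submodule.subset_span ⟨Fin.natAdd c i, ?_⟩)
        simp only [Function.comp_apply, xm, Fin.append_right]
        exact hzb i
    have := congrArg (Submodule.map m.subtype) hspan
    rw [Submodule.map_span, ← Set.range_comp, Submodule.map_subtype_top] at this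
    exact this
  · have hcast : ∀ i : Fin c, xm (Fin.castLE (Nat.le_add_right c e) i) = y i := fun i => by
      rw [show Fin.castLE (Nat.le_add_right c e) i = Fin.castAdd e i from rfl]
      exact Fin.append_left y z i
    simp only [hcast]
    refine le_antisymm ?_ (Ideal.span_le.mpr ?_)
    · refine Submodule.le_of_le_smul_of_le_jacobson_bot (IsNoetherian.noetherian I) hjac fun x hx => ?_
      obtain ⟨a, ha⟩ : ∃ a : Fin c → R, m.toCotangent ⟨x, hIm hx⟩ = ∑ i, a i • m.toCotangent (y i) := by
        have hmem : tc ⟨x, hIm hx⟩ ∈ W := ⟨⟨x, hIm hx⟩, hx, rfl⟩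
        choose r hr using fun i => hres (b.repr ⟨_, hmem⟩ i)
        refine ⟨r, ?_⟩
        have h2 := congrArg Subtype.val (b.sum_repr ⟨_, hmem⟩)
        rw [AddSubmonoidClass.coe_finset_sum] at h2
        refine h2.symm.trans (Finset.sum_congr rfl fun i _ => ?_)
        rw [Submodule.coe_smul, ← hr i, ← hyb i]
        rfl
      simp only [← map_smul, ← map_sum] at ha
      rw [Ideal.toCotangent_eq] at ha
      have hsum : ((∑ i, a i • y i : m) : R) ∈ Ideal.span (Set.range fun i => (y i : R)) := by
        rw [AddSubmonoidClass.coe_finset_sum]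
        exact Submodule.sum_mem _ fun i _ => Ideal.mul_mem_left _ _ (Ideal.subset_span ⟨i, rfl⟩)
      have hsI : ((∑ i, a i • y i : m) : R) ∈ I := by
        rw [AddSubmonoidClass.coe_finset_sum]
        exact Submodule.sum_mem _ fun i _ => Ideal.mul_mem_left _ _ (hyI i)
      have hdiff := Groth.Agent.H02CA.inf_sq_le_mul_of_isRegularLocalRing I ⟨I.sub_mem hx hsI, ha⟩
      rw [mul_comm, ← smul_eq_mul] at hdiff
      have := add_mem (Submodule.mem_sup_left (T := IsLocalRing.maximalIdeal R • I) hsum) (Submodule.mem_sup_right hdiff)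
      simpa using this
    · rintro _ ⟨i, rfl⟩
      exact hyI i

end Groth.Agent.S0561
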