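import Groth.Statements.S0572
import Groth.Agent.H1CAlg.N1Local
-- import your own Groth.Agent.* helpers here

set_option autoImplicit false
universe u
open CAlg

namespace Groth.Agent.S0572

/-- Let `R` be a Noetherian domain such that `R_f` is integrally closed for some nonzero `f`. Then the
set of primes `p` with `R_p` integrally closed is open in `Spec R`. -/
theorem result (R : Type u) [CommRing R] [IsDomain R] [IsNoetherianRing R] (f : R)
    (hf : f ≠ 0) (hn : IsIntegrallyClosed (Localization.Away f)) :
    IsOpen {p : PrimeSpectrum R | IsIntegrallyClosed (Localization.AtPrime p.asIdeal)} := by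
  have hgen := fun (Q : Ideal R) [Q.IsPrime] (hQ : f ∉ Q) =>
    Groth.Agent.H1CAlg.isIntegrallyClosed_atPrime_of_away hf hn Q hQ
  let bad := {Q ∈ associatedPrimes R (R ⧸ Ideal.span {f}) | ¬ ∀ [Q.IsPrime], IsIntegrallyClosed (Localization.AtPrime Q)}
  have hfin : bad.Finite := (associatedPrimes.finite R (R ⧸ Ideal.span {f})).subset fun Q hQ => hQ.1
  have heq : {p : PrimeSpectrum R | IsIntegrallyClosed (Localization.AtPrime p.asIdeal)} =
      (⋃ Q ∈ bad, PrimeSpectrum.zeroLocus (Q : Set R))ᶜ := by
    ext p
    simp only [Set.mem_setOf_eq, Set.mem_compl_iff, Set.mem_iUnion, PrimeSpectrum.mem_zeroLocus,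
      SetLike.coe_subset_coe, not_exists]
    constructor
    · intro hp Q hQ hQp
      refine hQ.2 fun {_} => ?_
      exact Groth.Agent.H05EGA4.isIntegrallyClosed_atPrime_of_le hQp hp
    · intro h
      refine Groth.Agent.H05EGA4.isIntegrallyClosed_atPrime_of_ass hf hgen p.asIdeal fun Q hQ hQp _ => ?_
      by_contra hbad
      exact h Q ⟨hQ, fun hall => hbad hall⟩ hQp
  rw [heq]
  exact (hfin.isClosed_biUnion fun Q _ => PrimeSpectrum.isClosed_zeroLocus _).isOpen_compl

end Groth.Agent.S0572
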