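import Groth.Statements.S0574
import Groth.Agent.H02CA.N2
import Mathlib.RingTheory.DedekindDomain.IntegralClosure
import Mathlib.Algebra.CharP.Algebra
import Mathlib.FieldTheory.Perfect
-- import your own Groth.Agent.* helpers here

set_option autoImplicit false
universe u
open CAlg

namespace Groth.Agent.S0574

/-- For Noetherian domains of characteristic zero the conditions N-1 and N-2 coincide. -/
theorem result (R : Type u) [CommRing R] [IsDomain R] [IsNoetherianRing R]
    [CharZero R] : CAlg.IsN1 R ↔ CAlg.IsN2 R := by
  constructor
  · intro h L _ _ _ _ hfin
    haveI : Module.Finite R (integralClosure R (FractionRing R)) := h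
    haveI : FiniteDimensional (FractionRing R) L := hfin
    let K := FractionRing R
    let R' := integralClosure R K
    haveI : IsIntegrallyClosed R' := integralClosure.isIntegrallyClosedOfFiniteExtension K
    haveI : IsFractionRing R' K := integralClosure.isFractionRing_of_finite_extension K K
    haveI : IsNoetherianRing R' := IsNoetherianRing.of_finite R R'
    haveI : CharZero K := charZero_of_injective_ringHom (IsFractionRing.injective R K)
    haveI : IsScalarTower R' K L := inferInstance
    haveI : IsScalarTower R R' L := IsScalarTower.of_algebraMap_eq fun r => by
      show algebraMap R L r = algebraMap K L (algebraMap R K r)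
      rw [← IsScalarTower.algebraMap_apply]
    haveI : Module.Finite R' (integralClosure R' L) := IsIntegralClosure.finite R' K L (integralClosure R' L)
    haveI : Module.Finite R (integralClosure R' L) := Module.Finite.trans R' _
    let N : Submodule R L := (Subalgebra.toSubmodule (integralClosure R' L)).restrictScalars R
    have hN : N.FG := Module.Finite.iff_fg.mp (inferInstanceAs (Module.Finite R (integralClosure R' L)))
    haveI : IsNoetherian R N := isNoetherian_of_fg_of_noetherian N hN
    have hle : Subalgebra.toSubmodule (integralClosure R L) ≤ N := fun z (hz : IsIntegral R z) => (hz.tower_top : IsIntegral R' z)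
    exact Module.Finite.of_injective (Submodule.inclusion hle) (Submodule.inclusion_injective hle)
  · intro h
    exact h (FractionRing R) (Module.Finite.self _)

end Groth.Agent.S0574
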