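import Groth.Statements.S0577
import Groth.Agent.H1CAlg.NagataUnramified
import Groth.Agent.H4Depth.CM
import Mathlib.FieldTheory.IsAlgClosed.AlgebraicClosure
import Mathlib.RingTheory.IntegralClosure.IsIntegralClosure.Basic
import Mathlib.Algebra.CharP.Lemmas

set_option autoImplicit false
universe u
open CAlg

namespace Groth.Agent.S0577

/-- Let `A` be a Noetherian local domain of prime characteristic `p` which is a Nagata ring. If `a ∈ A`
has a `p`-th root in the completion of `A`, then it has a `p`-th root in `A`. -/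
theorem result (A : Type u) [CommRing A] [IsDomain A]
    [IsLocalRing A] (hA : CAlg.IsNagata A) (p : ℕ) [Fact p.Prime] [CharP A p] (a : A)
    (h : ∃ α : AdicCompletion (IsLocalRing.maximalIdeal A) A,
      α ^ p = algebraMap A (AdicCompletion (IsLocalRing.maximalIdeal A) A) a) :
    ∃ b : A, b ^ p = a := by

  classical
  haveI := hA.1
  set m := IsLocalRing.maximalIdeal A
  have hp : p.Prime := Fact.out
  let Ω := AlgebraicClosure (FractionRing A)
  letI : Algebra A Ω := ((algebraMap (FractionRing A) Ω).comp (algebraMap A (FractionRing A))).toAlgebra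
  have hinjΩ : Function.Injective (algebraMap A Ω) :=
    (algebraMap (FractionRing A) Ω).injective.comp (IsFractionRing.injective A (FractionRing A))
  haveI : CharP Ω p := charP_of_injective_algebraMap hinjΩ p
  obtain ⟨β, hβ⟩ := IsAlgClosed.exists_pow_nat_eq (algebraMap A Ω a) hp.pos
  let S := Algebra.adjoin A ({β} : Set Ω)
  have hβi : IsIntegral A β := ⟨Polynomial.X ^ p - Polynomial.C a, Polynomial.monic_X_pow_sub_C a hp.ne_zero, by simp [hβ]⟩
  haveI : Module.Finite A S := Module.Finite.iff_fg.mpr hβi.fg_adjoin_singleton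
  have hinj : Function.Injective (algebraMap A S) := fun x y h => hinjΩ (congrArg Subtype.val h)
  let b : S := ⟨β, Algebra.self_mem_adjoin_singleton A β⟩
  have hb : b ^ p = algebraMap A S a := Subtype.ext (by simp [b, hβ])
  -- `p`-th powers of `S` lie in `A`
  have hpow : ∀ x : S, ∃ c : A, x ^ p = algebraMap A S c := by
    rintro ⟨x, hx⟩
    suffices h : ∃ c : A, x ^ p = algebraMap A Ω c by
      obtain ⟨c, hc⟩ := h; exact ⟨c, Subtype.ext (by simpa using hc)⟩
    induction hx using Algebra.adjoin_induction with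
    | mem z hz => obtain rfl := Set.mem_singleton_iff.mp hz; exact ⟨a, hβ⟩
    | algebraMap r => exact ⟨r ^ p, (map_pow _ _ _).symm⟩
    | add y z _ _ hy hz =>
      obtain ⟨c, hc⟩ := hy; obtain ⟨d, hd⟩ := hz
      exact ⟨c + d, by rw [add_pow_char (p := p), hc, hd, map_add]⟩
    | mul y z _ _ hy hz =>
      obtain ⟨c, hc⟩ := hy; obtain ⟨d, hd⟩ := hz
      exact ⟨c * d, by rw [mul_pow, hc, hd, map_mul]⟩
  haveI : IsLocalRing S := IsLocalRing.of_nonunits_add fun x y hx hy => by
    have key : ∀ z : S, z ∈ nonunits S → ∀ c, z ^ p = algebraMap A S c → c ∈ m := by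
      intro z hz c hc hcu
      exact hz ((isUnit_pow_iff hp.ne_zero).mp (hc ▸ hcu.map (algebraMap A S)))
    have key' : ∀ z : S, ∀ c, z ^ p = algebraMap A S c → c ∈ m → z ∈ nonunits S := by
      intro z c hc hcm hzu
      obtain ⟨d, hd⟩ := hpow ↑(hzu.unit⁻¹)
      have h1 : algebraMap A S (d * c) = 1 := by
        rw [map_mul, ← hd, ← hc, ← mul_pow, IsUnit.val_inv_mul, one_pow]
      exact hcm (IsUnit.of_mul_eq_one d (by rw [mul_comm]; exact hinj (h1.trans (map_one _).symm)))
    obtain ⟨c, hc⟩ := hpow x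
    obtain ⟨d, hd⟩ := hpow y
    haveI : CharP S p := charP_of_injective_algebraMap hinj p
    exact key' (x + y) (c + d) (by rw [add_pow_char (p := p), hc, hd, map_add])
      (m.add_mem (key x hx c hc) (key y hy d hd))
  have hSN : CAlg.IsNagata S := H1CAlg.isNagata_of_finite (R := A) hA
  haveI := hSN.1
  obtain ⟨t, ht⟩ : ∃ t : ℕ, ringKrullDim S = (t : WithBot ℕ∞) := by
    rw [← Module.supportDim_self_eq_ringKrullDim]
    exact H4Depth.exists_nat_supportDim_eq
  haveI hred := H1CAlg.isReduced_adicCompletion_of_isNagata (t + 1) S hSN (by rw [ht]; exact_mod_cast Nat.lt_succ_self t)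
  set n := IsLocalRing.maximalIdeal S
  have hmn : m.map (algebraMap A S) ≤ n := IsLocalRing.le_maximalIdeal fun htop => by
    have h1 : ((⊤ : Ideal S)).comap (algebraMap A S) = ⊤ := Ideal.comap_top
    obtain ⟨Q, hQ, hQm⟩ := Ideal.exists_ideal_over_prime_of_isIntegral m (⊥ : Ideal S) (by
      rw [← RingHom.ker_eq_comap_bot, (RingHom.injective_iff_ker_eq_bot _).mp hinj]; exact bot_le)
    have : m.map (algebraMap A S) ≤ Q := Ideal.map_le_iff_le_comap.mpr hQm.2.ge
    exact hQm.1.ne_top (top_le_iff.mp (htop ▸ this))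
  -- approximations of the root
  obtain ⟨α, hα⟩ := h
  obtain ⟨s, rfl⟩ := AdicCompletion.mk_surjective m A α
  have hs : ∀ N, s.1 N ^ p - a ∈ m ^ N := by
    intro N
    have h1 := congrArg (AdicCompletion.evalₐ m N) hα
    rw [map_pow, AdicCompletion.evalₐ_mk, AlgHom.commutes, ← map_pow] at h1
    exact Ideal.Quotient.eq.mp h1
  have hsub : ∀ i j, i ≤ j → s.1 i - s.1 j ∈ m ^ i := fun i j hij => by
    have := s.2 hij
    rwa [SModEq.sub_mem, smul_eq_mul, Ideal.mul_top] at this
  have hin : ∀ i x, x ∈ m ^ i → algebraMap A S x ∈ n ^ i := fun i x hx =>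
    Ideal.pow_right_mono hmn i (Ideal.map_pow (algebraMap A S) m i ▸ Ideal.mem_map_of_mem _ hx)
  let u : AdicCompletion.AdicCauchySequence n S := AdicCompletion.AdicCauchySequence.mk n S
    (fun i => b - algebraMap A S (s.1 i)) (fun i => by
      rw [SModEq.sub_mem, smul_eq_mul, Ideal.mul_top]
      have := hin i _ (neg_mem (hsub i (i + 1) (Nat.le_succ i)))
      rw [map_neg, map_sub] at this
      convert this using 1
      ring)
  haveI : CharP S p := charP_of_injective_algebraMap hinj p
  have hu : IsNilpotent (AdicCompletion.mk n S u) := by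
    refine ⟨p, AdicCompletion.ext_evalₐ fun i => ?_⟩
    rw [map_pow, AdicCompletion.evalₐ_mk, map_zero, ← map_pow, Ideal.Quotient.eq_zero_iff_mem]
    show (b - algebraMap A S (s.1 i)) ^ p ∈ n ^ i
    rw [sub_pow_char (p := p), hb, ← map_pow, ← map_sub]
    have := hin i _ (neg_mem (hs i))
    rwa [neg_sub] at this
  have hdeep : ∀ i, b - algebraMap A S (s.1 i) ∈ n ^ i := by
    intro i
    have h1 := congrArg (AdicCompletion.evalₐ n i) hu.eq_zero
    rw [AdicCompletion.evalₐ_mk, map_zero, Ideal.Quotient.eq_zero_iff_mem] at h1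
    exact h1
  -- `n ^ c ⊆ mS`
  obtain ⟨c, hc⟩ : ∃ c, n ^ c ≤ m.map (algebraMap A S) := by
    refine Ideal.exists_pow_le_of_le_radical_of_fg (fun x hx => ?_) (IsNoetherian.noetherian _)
    obtain ⟨d, hd⟩ := hpow x
    refine ⟨p, ?_⟩
    rw [hd]
    refine Ideal.mem_map_of_mem _ ?_
    by_contra hdm
    exact hx ((isUnit_pow_iff hp.ne_zero).mp (hd ▸ (IsLocalRing.notMem_maximalIdeal.mp hdm).map (algebraMap A S)))
  -- Krull intersection in `S / A`
  let W : Submodule A S := LinearMap.range (Algebra.linearMap A S)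
  have hall : ∀ k, W.mkQ b ∈ m ^ k • (⊤ : Submodule A (S ⧸ W)) := by
    intro k
    have h1 : b - algebraMap A S (s.1 (c * k)) ∈ (m ^ k).map (algebraMap A S) := by
      rw [Ideal.map_pow]
      exact Ideal.pow_right_mono hc k ((pow_mul n c k) ▸ hdeep (c * k))
    have h2 : b - algebraMap A S (s.1 (c * k)) ∈ m ^ k • (⊤ : Submodule A S) := by
      rw [Ideal.smul_top_eq_map]; exact h1
    have h3 := Submodule.mem_map_of_mem (f := W.mkQ) h2
    rw [Submodule.map_smul'', Submodule.map_top, Submodule.range_mkQ, map_sub,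
      show W.mkQ (algebraMap A S (s.1 (c * k))) = 0 from (Submodule.Quotient.mk_eq_zero W).mpr ⟨_, rfl⟩, sub_zero] at h3
    exact h3
  have hbot := Ideal.iInf_pow_smul_eq_bot_of_isLocalRing (M := S ⧸ W) m (IsLocalRing.maximalIdeal.isMaximal A).ne_top
  have hmem : W.mkQ b ∈ (⊥ : Submodule A (S ⧸ W)) := by
    rw [← hbot, Submodule.mem_iInf]
    exact hall
  obtain ⟨d, hd⟩ := (Submodule.Quotient.mk_eq_zero W).mp ((Submodule.mem_bot A).mp hmem)
  refine ⟨d, hinj ?_⟩
  rw [map_pow, show algebraMap A S d = b from hd, hb]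

end Groth.Agent.S0577
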