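import Groth.Statements.S0588
import Groth.Agent.H1CAlg.PiTensor

set_option autoImplicit false
universe u
open CAlg

namespace Groth.Agent.S0588

open Groth.Agent.H1CAlg

/-- A module `M` is finitely presented exactly when for every family of modules `(Qᵢ)` the natural map
from `M ⊗ ∏ Qᵢ` to `∏ (M ⊗ Qᵢ)` is bijective. -/
theorem result (R : Type u) [CommRing R] (M : Type u)
    [AddCommGroup M] [Module R M] :
    Module.FinitePresentation R M ↔ ∀ (ι : Type u) (Q : ι → Type u) [∀ i, AddCommGroup (Q i)]
      [∀ i, Module R (Q i)], Function.Bijective (TensorProduct.piRightHom R R M Q) := by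
  refine ⟨fun _ ι Q _ _ => piRightHom_bijective_of_finitePresentation Q, fun h => ?_⟩
  exact finitePresentation_of_piRightHom_bijective fun ι => h ι (fun _ => R)

end Groth.Agent.S0588
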