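import Groth.Statements.S0589
import Groth.Agent.H1CAlg.HenselML

set_option autoImplicit false
universe u
open scoped Classical
open CAlg

namespace Groth.Agent.S0589

/-- Over a henselian local ring, a countably generated Mittag-Leffler module is an internal direct sum
of finitely presented submodules. -/
theorem result (R : Type u) [CommRing R]
    [HenselianLocalRing R] (M : Type u) [AddCommGroup M] [Module R M] (hc : CAlg.IsCountablyGenerated R M)
    (hML : CAlg.IsMittagLeffler R M) :
    ∃ (ι : Type u) (N : ι → Submodule R M), DirectSum.IsInternal N ∧
      ∀ i, Module.FinitePresentation R (N i) := by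
  obtain ⟨ι, hdec, N, hN, hfp⟩ := Groth.Agent.H1CAlg.HenselML.exists_isInternal hc hML
  exact ⟨ι, N, by convert hN, hfp⟩

end Groth.Agent.S0589
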