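-- statement Lim.GrothFrozen.S0592 (Groth/Statements/S0592.lean; the theorem Lim.exists_isSeparated_of_isLimit);
import Groth.Statements.S0592
import Groth.Agent.H7Lim.StructureMap

set_option autoImplicit false
universe u
open CategoryTheory AlgebraicGeometry
open Lim

namespace Groth.Agent.S0592
open CategoryTheory.Limits

/-- Let `S` be the limit of a cofiltered system of quasi-compact quasi-separated schemes with affine
transition morphisms. If `S` is separated, then there is an index `i₀` such that every stage mapping
to `i₀` is separated. -/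
theorem result {I : Type u} [SmallCategory I] [IsCofiltered I]
    (D : I ⥤ Scheme.{u}) (c : Limits.Cone D) (hc : Limits.IsLimit c)
    [∀ (i j : I) (f : i ⟶ j), IsAffineHom (D.map f)] [∀ i, CompactSpace (D.obj i)]
    [∀ i, QuasiSeparatedSpace (D.obj i)]
    [IsSeparated (Limits.IsTerminal.from specULiftZIsTerminal c.pt)] :
    ∃ i₀ : I, ∀ (i : I) (_ : i ⟶ i₀),
      IsSeparated (Limits.IsTerminal.from specULiftZIsTerminal (D.obj i)) := by
  have : c.pt.IsSeparated := ⟨by
    rw [show terminal.from c.pt = specULiftZIsTerminal.from c.pt ≫ terminal.from _ from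
      terminalIsTerminal.hom_ext _ _]
    infer_instance⟩
  obtain ⟨i₀, h⟩ := Groth.Agent.H7Lim.exists_isSeparated_obj hc
  exact ⟨i₀, fun i φ ↦ have := h i φ; inferInstance⟩

end Groth.Agent.S0592
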