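import Groth.Statements.S0610
import Groth.Agent.H27CurveZeta.Weil

set_option autoImplicit false
universe u
open AlgebraicGeometry CategoryTheory
open Zeta

namespace Groth.Agent.S0610

/-- Weil conjectures for curves, in elementary form (rationality of the zeta function with numerator of
degree 2g, the functional equation and the Riemann hypothesis, packaged as a point-count formula):
let k be a finite field with q elements and C a smooth, proper, geometrically irreducible curve over
k of genus g, the genus being pinned down by #H¹(C, O_C) = q^g (equivalent to dim_k H¹(C, O_C) = g).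
Then there are complex numbers α_1, …, α_{2g}, each an algebraic integer with |α_i|² = q, and a
permutation σ of the indices with α_{σ(i)} · α_i = q for all i, such that for every finite extension
k' of k the number of k'-points of C equals q^{[k':k]} + 1 − Σ_i α_i^{[k':k]}. -/
theorem result {k : Type u} [Field k] [Finite k] {C : Scheme.{u}}
    (f : C ⟶ Spec (CommRingCat.of k)) (hC : Curve.IsSmoothProperCurve k C f)
    [GeometricallyIrreducible f] (g : ℕ)
    (hg : Nat.card (Coh.HH C (Coh.structureModule C) 1) = Nat.card k ^ g) :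
    ∃ α : Fin (2 * g) → ℂ, (∀ i, IsIntegral ℤ (α i)) ∧ (∀ i, ‖α i‖ ^ 2 = Nat.card k) ∧
      (∃ σ : Equiv.Perm (Fin (2 * g)), ∀ i, α (σ i) * α i = Nat.card k) ∧
      ∀ (k' : Type u) [Field k'] [Algebra k k'] [Finite k'],
        (SgaExt.pointCount f k' : ℂ) =
          (Nat.card k : ℂ) ^ Module.finrank k k' + 1 - ∑ i, α i ^ Module.finrank k k' := by
  letI : C.Over (Spec (CommRingCat.of k)) := ⟨f⟩
  haveI : GeometricallyIrreducible (C ↘ Spec (CommRingCat.of k)) := ‹GeometricallyIrreducible f›
  haveI : IsProper f := hC.1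
  haveI : IsProper (C ↘ Spec (CommRingCat.of k)) := hC.1
  haveI : Smooth (C ↘ Spec (CommRingCat.of k)) := hC.2.1
  haveI : IsIntegral C := hC.2.2.1
  obtain rfl : Curv2.genus k C = g := H27HW.genus_eq_of_natCard f g hg
  obtain ⟨α, hint, ⟨σ, hσ⟩, hN⟩ := H27CurveZeta.exists_inverseRoots (k := k) (C := C) hC.2.2.2
  have hcount : ∀ (k' : Type u) [Field k'] [Algebra k k'] [Finite k'],
      (SgaExt.pointCount f k' : ℂ) =
        (Nat.card k : ℂ) ^ Module.finrank k k' + 1 - ∑ i, α i ^ Module.finrank k k' := by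
    intro k' _ _ _
    rw [H27Zeta.pointCount_eq_nPts f k']
    exact hN _ Module.finrank_pos
  refine ⟨α, hint, fun i => ?_, ⟨σ, hσ⟩, hcount⟩
  refine S15524.result (Nat.card k) Nat.card_pos α σ hσ 1 one_pos (2 * (Curv2.genus k C : ℝ)) (fun N hN1 => ?_) i
  obtain ⟨k', _, _, _, hn⟩ := H27Zeta.exists_extension k N (by omega)
  have hsum := hcount k'
  rw [hn] at hsum
  have hhw := H27HW.hasseWeil_sq f hC k'
  rw [hn] at hhw
  rw [one_mul, show ∑ i, α i ^ N = (((Nat.card k : ℤ) ^ N + 1 - (SgaExt.pointCount f k' : ℤ) : ℤ) : ℂ) by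
    push_cast; rw [hsum]; ring, Complex.norm_intCast, Nat.cast_one, one_mul]
  have hq : (0 : ℝ) ≤ Nat.card k := Nat.cast_nonneg _
  refine abs_le_of_sq_le_sq ?_ (mul_nonneg (by positivity) (Real.rpow_nonneg hq _))
  rw [mul_pow, ← Real.rpow_natCast ((Nat.card k : ℝ) ^ ((N : ℝ) / 2)) 2, ← Real.rpow_mul hq,
    show (N : ℝ) / 2 * ((2 : ℕ) : ℝ) = (N : ℝ) by push_cast; ring, Real.rpow_natCast]
  have hR : (((((SgaExt.pointCount f k' : ℤ) - (Nat.card k : ℤ) ^ N - 1) ^ 2 : ℤ)) : ℝ) ≤
      ((4 * (Curv2.genus k C : ℤ) ^ 2 * (Nat.card k : ℤ) ^ N : ℤ) : ℝ) := Int.cast_le.2 hhw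
  push_cast at hR ⊢
  linear_combination hR

end Groth.Agent.S0610
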