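import Groth.Statements.S0611
import Groth.Agent.H4Depth.Generators

set_option autoImplicit false
universe u
open RRAlg

namespace Groth.Agent.S0611

/-- In a Noetherian local ring, any minimal generating set of an ideal generated by a regular sequence
is again a regular sequence: if a₁, …, aₙ is a regular sequence and b₁, …, bₙ are n elements
generating the same ideal, then b₁, …, bₙ is a regular sequence. (A regular sequence of length n
generating an ideal I is a minimal generating set of I, so "minimal" amounts to "of length n".) -/
theorem result {A : Type u} [CommRing A] [IsLocalRing A] [IsNoetherianRing A]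
    {n : ℕ} (a b : Fin n → A) (ha : RingTheory.Sequence.IsRegular A (List.ofFn a))
    (hab : Ideal.span (Set.range a) = Ideal.span (Set.range b)) :
    RingTheory.Sequence.IsRegular A (List.ofFn b) := by
  have hspan : ∀ c : Fin n → A, Ideal.ofList (List.ofFn c) = Ideal.span (Set.range c) := fun c => by
    rw [Ideal.ofList]
    congr 1
    ext z
    simp [List.mem_ofFn]
  have heq : Ideal.ofList (List.ofFn a) = Ideal.ofList (List.ofFn b) := by rw [hspan, hspan, hab]
  have hne := ha.top_ne_smul
  refine ⟨Groth.Agent.H4Depth.isWeaklyRegular_of_le_idealDepth _ (fun x hx => ?_) A ?_, heq ▸ hne⟩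
  · refine (IsLocalRing.le_maximalIdeal ?_) (Ideal.subset_span hx : x ∈ Ideal.ofList (List.ofFn b))
    change Ideal.ofList (List.ofFn b) ≠ ⊤
    rw [← heq]
    intro h
    exact hne (by simp [h])
  · rw [← heq]
    have h := Groth.Agent.H4Depth.length_le_idealDepth (I := Ideal.ofList (List.ofFn a))
      ha.toIsWeaklyRegular (fun r hr => Ideal.subset_span hr)
    simp only [List.length_ofFn] at h ⊢
    exact h

end Groth.Agent.S0611
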