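import Groth.Statements.S0614
import Groth.Agent.H11Val.Dominating
import Mathlib.AlgebraicGeometry.EllipticCurve.Reduction
import Mathlib.AlgebraicGeometry.EllipticCurve.IsomOfJ
import Mathlib.FieldTheory.IsAlgClosed.AlgebraicClosure
import Mathlib.Tactic

set_option autoImplicit false
universe u
open Neron

namespace Groth.Agent.S0614

open Polynomial WeierstrassCurve in
/-- A model with unit discriminant over the algebraic integers with prescribed integral `j`. -/
theorem exists_model {R S : Type u} [CommRing R] [CommRing S] [IsDomain S] [Algebra R S]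
    (hroot : ∀ p : R[X], p.Monic → p.degree ≠ 0 → ∃ x : S, aeval x p = 0)
    (h23 : IsUnit (2 : R) ∨ IsUnit (3 : R)) (r : R) :
    ∃ E : WeierstrassCurve S, IsUnit E.Δ ∧ E.c₄ ^ 3 = algebraMap R S r * E.Δ := by
  haveI : Nontrivial R := (algebraMap R S).domain_nontrivial
  rcases h23 with h2 | h3
  · obtain ⟨v, hv⟩ := (h2.pow 8).exists_left_inv
    have hv' : v * 256 = (1 : R) := by rw [← hv]; norm_num
    let p : R[X] := (X ^ 2 - X + 1) ^ 3 - C (v * r) * (X ^ 2 * (X - 1) ^ 2)
    have hp : p.Monic ∧ p.natDegree = 6 := by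
      have h1 : ((X ^ 2 - X + 1) ^ 3 : R[X]).Monic ∧ ((X ^ 2 - X + 1) ^ 3 : R[X]).natDegree = 6 := by
        have : (X ^ 2 - X + 1 : R[X]).Monic := by monicity!
        refine ⟨this.pow 3, ?_⟩
        rw [this.natDegree_pow, show (X ^ 2 - X + 1 : R[X]).natDegree = 2 by compute_degree!]
      have h2 : (C (v * r) * (X ^ 2 * (X - 1) ^ 2) : R[X]).degree < ((X ^ 2 - X + 1) ^ 3 : R[X]).degree := by
        rw [degree_eq_natDegree h1.1.ne_zero, h1.2]
        refine lt_of_le_of_lt (b := ((4 : ℕ) : WithBot ℕ)) ?_ (WithBot.coe_lt_coe.2 (by norm_num))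
        compute_degree
        all_goals norm_num
      exact ⟨h1.1.sub_of_left h2, by rw [natDegree_eq_of_degree_eq (degree_sub_eq_left_of_degree_lt h2), h1.2]⟩
    obtain ⟨l, hl⟩ := hroot p hp.1 (by
      rw [degree_eq_natDegree hp.1.ne_zero, hp.2]; exact fun h => absurd (WithBot.coe_eq_coe.1 h) (by norm_num))
    simp only [p, map_sub, map_add, map_mul, map_pow, map_one, aeval_X, aeval_C] at hl
    have hv'' : algebraMap R S v * 256 = 1 := by
      have := congrArg (algebraMap R S) hv'
      rwa [map_mul, map_one, map_ofNat] at this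
    have e : 256 * (l ^ 2 - l + 1) ^ 3 = algebraMap R S r * (l ^ 2 * (l - 1) ^ 2) := by
      linear_combination 256 * hl + algebraMap R S r * l ^ 2 * (l - 1) ^ 2 * hv''
    refine ⟨⟨0, -(1 + l), 0, l, 0⟩, ?_, ?_⟩
    · have hd : (⟨0, -(1 + l), 0, l, 0⟩ : WeierstrassCurve S).Δ = 16 * l ^ 2 * (l - 1) ^ 2 := by
        simp only [WeierstrassCurve.Δ, b₂, b₄, b₆, b₈]; ring
      have h256 : IsUnit (256 : S) := ⟨⟨256, algebraMap R S v, by rw [mul_comm]; exact hv'', hv''⟩, rfl⟩
      rw [hd]
      refine isUnit_of_dvd_unit ?_ (h256.pow 5)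
      have e1 : l ∣ (256 : S) := ⟨algebraMap R S r * l * (l - 1) ^ 2 - 256 * (l ^ 5 - 3 * l ^ 4 + 6 * l ^ 3 - 7 * l ^ 2 + 6 * l - 3),
        by linear_combination e⟩
      have e2 : l - 1 ∣ (256 : S) := ⟨algebraMap R S r * l ^ 2 * (l - 1) - 256 * (l ^ 5 - 2 * l ^ 4 + 4 * l ^ 3 - 3 * l ^ 2 + 3 * l),
        by linear_combination e⟩
      obtain ⟨a, ha⟩ := e1
      obtain ⟨b, hb⟩ := e2
      refine ⟨16 * a ^ 2 * b ^ 2, ?_⟩
      calc (256 : S) ^ 5 = 16 * 16 * 256 ^ 2 * 256 ^ 2 := by norm_num
        _ = 16 * 16 * (l * a) ^ 2 * ((l - 1) * b) ^ 2 := by rw [← ha, ← hb]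
        _ = _ := by ring
    · simp only [WeierstrassCurve.c₄, WeierstrassCurve.Δ, b₂, b₄, b₆, b₈]
      linear_combination 16 * e
  · let p : R[X] := X ^ 3 * (X ^ 3 - 24) ^ 3 - C r * (X ^ 3 - 27)
    have hp : p.Monic ∧ p.natDegree = 12 := by
      have h1 : (X ^ 3 * (X ^ 3 - 24) ^ 3 : R[X]).Monic ∧ (X ^ 3 * (X ^ 3 - 24) ^ 3 : R[X]).natDegree = 12 := by
        have : (X ^ 3 - 24 : R[X]).Monic := by monicity!
        refine ⟨(monic_X_pow 3).mul (this.pow 3), ?_⟩
        rw [(monic_X_pow 3).natDegree_mul (this.pow 3), this.natDegree_pow, natDegree_X_pow,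
          show (X ^ 3 - 24 : R[X]).natDegree = 3 by compute_degree!]
      have h2 : (C r * (X ^ 3 - 27) : R[X]).degree < (X ^ 3 * (X ^ 3 - 24) ^ 3 : R[X]).degree := by
        rw [degree_eq_natDegree h1.1.ne_zero, h1.2]
        refine lt_of_le_of_lt (b := ((3 : ℕ) : WithBot ℕ)) ?_ (WithBot.coe_lt_coe.2 (by norm_num))
        compute_degree
        all_goals norm_num
      exact ⟨h1.1.sub_of_left h2, by rw [natDegree_eq_of_degree_eq (degree_sub_eq_left_of_degree_lt h2), h1.2]⟩
    obtain ⟨a, ha⟩ := hroot p hp.1 (by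
      rw [degree_eq_natDegree hp.1.ne_zero, hp.2]; exact fun h => absurd (WithBot.coe_eq_coe.1 h) (by norm_num))
    simp only [p, map_sub, map_mul, map_pow, map_ofNat, aeval_X, aeval_C] at ha
    refine ⟨⟨a, 0, 1, 0, 0⟩, ?_, ?_⟩
    · have hd : (⟨a, 0, 1, 0, 0⟩ : WeierstrassCurve S).Δ = a ^ 3 - 27 := by
        simp only [WeierstrassCurve.Δ, b₂, b₄, b₆, b₈]; ring
      have h729 : IsUnit ((3 : S) ^ 6) := by
        have h := h3.map (algebraMap R S)
        rw [map_ofNat] at h
        exact h.pow 6
      rw [hd]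
      refine isUnit_of_dvd_unit ⟨algebraMap R S r - ((a ^ 3 - 27) ^ 3 + 36 * (a ^ 3 - 27) ^ 2 + 270 * (a ^ 3 - 27) + 756), ?_⟩ h729
      linear_combination ha
    · simp only [WeierstrassCurve.c₄, WeierstrassCurve.Δ, b₂, b₄, b₆, b₈]
      linear_combination ha

/-- (c) (the base Dedekind scheme taken local): an elliptic curve E over the fraction field K of a
discrete valuation ring R has integral j-invariant if and only if it has potential good reduction
(stated here with a finite extension: there are a finite extension L of K and a discrete valuation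
ring R_L of L dominating R over which a minimal Weierstrass equation of E_L has good reduction). -/
theorem result {R : Type u} [CommRing R] [IsDomain R]
    [IsDiscreteValuationRing R] {K : Type u} [Field K] [Algebra R K] [IsFractionRing R K]
    (W : WeierstrassCurve K) [W.IsElliptic] :
    (∃ r : R, algebraMap R K r = W.j) ↔
      ∃ (L : Type u) (_ : Field L) (_ : Algebra K L) (_ : FiniteDimensional K L) (RL : Type u)
        (_ : CommRing RL) (_ : IsDomain RL) (_ : IsDiscreteValuationRing RL) (_ : Algebra RL L)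
        (_ : IsFractionRing RL L) (φ : R →+* RL), IsLocalHom φ ∧
        (∀ r : R, algebraMap K L (algebraMap R K r) = algebraMap RL L (φ r)) ∧
        ((W.baseChange L).minimal RL).HasGoodReduction RL := by
  have hjW : ∀ (L : Type u) (_ : Field L) (_ : Algebra K L),
      haveI : (W.baseChange L).IsElliptic := inferInstanceAs (W.map _).IsElliptic
      (W.baseChange L).j = algebraMap K L W.j := fun L _ _ =>
    W.map_j (algebraMap K L)
  constructor
  · rintro ⟨r, hr⟩
    have h23 : IsUnit (2 : R) ∨ IsUnit (3 : R) := by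
      by_contra hc
      push Not at hc
      have h2 : (2 : R) ∈ IsLocalRing.maximalIdeal R := hc.1
      have h3 : (3 : R) ∈ IsLocalRing.maximalIdeal R := hc.2
      refine (IsLocalRing.maximalIdeal.isMaximal R).ne_top ((Ideal.eq_top_iff_one _).2 ?_)
      have h := Ideal.sub_mem _ h3 h2
      rwa [show (3 : R) - 2 = 1 by norm_num] at h
    let Kb := AlgebraicClosure K
    haveI : IsScalarTower R K Kb := inferInstance
    have hroot : ∀ p : Polynomial R, p.Monic → p.degree ≠ 0 → ∃ x : integralClosure R Kb, Polynomial.aeval x p = 0 := by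
      intro p hp hd
      obtain ⟨x, hx⟩ := IsAlgClosed.exists_root (p.map (algebraMap R Kb)) (by rwa [hp.degree_map])
      rw [Polynomial.IsRoot.def, Polynomial.eval_map, ← Polynomial.aeval_def] at hx
      have hi : IsIntegral R x := ⟨p, hp, by rwa [← Polynomial.aeval_def]⟩
      refine ⟨⟨x, hi⟩, Subtype.val_injective ?_⟩
      rw [← Subalgebra.aeval_coe]
      exact hx
    obtain ⟨E, hΔ, hc⟩ := exists_model hroot h23 r
    haveI : E.IsElliptic := ⟨hΔ⟩
    let ι : integralClosure R Kb →+* Kb := (integralClosure R Kb).val.toRingHom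
    haveI : (W.baseChange Kb).IsElliptic := inferInstanceAs (W.map _).IsElliptic
    have hj : (E.map ι).j = (W.baseChange Kb).j := by
      rw [hjW Kb _ _, WeierstrassCurve.map_j, ← hr, ← IsScalarTower.algebraMap_apply]
      have : E.j = algebraMap R _ r := by
        rw [WeierstrassCurve.j, hc, ← WeierstrassCurve.coe_Δ', mul_comm, Units.mul_inv_cancel_right]
      rw [this]
      rfl
    haveI : (E.map ι).IsElliptic := inferInstance
    obtain ⟨C, hC⟩ := (W.baseChange Kb).exists_variableChange_of_j_eq (E.map ι) hj.symm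
    let T : Set Kb := {ι E.a₁, ι E.a₂, ι E.a₃, ι E.a₄, ι E.a₆, ι (hΔ.unit⁻¹ : (integralClosure R Kb)ˣ), (C.u : Kb), C.r, C.s, C.t}
    have hTi : ∀ x ∈ T, IsIntegral K x := fun x _ => Algebra.IsIntegral.isIntegral x
    haveI : Finite T := (Set.toFinite T).to_subtype
    let L := IntermediateField.adjoin K T
    haveI : FiniteDimensional K L := IntermediateField.finiteDimensional_adjoin hTi
    haveI : IsScalarTower R K L := IsScalarTower.of_algebraMap_eq fun x => Subtype.ext rfl
    haveI : IsScalarTower R L Kb := IsScalarTower.of_algebraMap_eq fun x => IsScalarTower.algebraMap_apply R K Kb x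
    obtain ⟨V, hV, hcen⟩ := Groth.Agent.H11Val.exists_dvr_center_finite (B := R) K L
      (IsLocalRing.maximalIdeal R) (IsDiscreteValuationRing.not_a_field R)
    haveI := hV
    let φ : R →+* V := (algebraMap R L).codRestrict V.toSubring fun a => (hcen a).1
    have hφ : IsLocalHom φ := ⟨fun a ha => by
      by_contra hu
      have h1 := (hcen a).2.1 hu
      have h2 := (V.valuation_lt_one_iff ⟨algebraMap R L a, (hcen a).1⟩).2 h1
      exact h2 ha⟩
    have hmemV : ∀ (x : integralClosure R Kb) (h : ι x ∈ L), (⟨ι x, h⟩ : L) ∈ V := by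
      intro x h
      letI : Algebra R V := φ.toAlgebra
      haveI : IsScalarTower R V L := IsScalarTower.of_algebraMap_eq fun _ => rfl
      have hi : IsIntegral R (⟨ι x, h⟩ : L) := by
        have := x.2
        exact (isIntegral_algHom_iff (IsScalarTower.toAlgHom R L Kb) Subtype.val_injective).1 this
      obtain ⟨y, hy⟩ := IsIntegrallyClosed.algebraMap_eq_of_integral (R := V) hi.tower_top
      rw [← hy]
      exact y.2
    have hT : ∀ x ∈ T, x ∈ L := fun x hx => IntermediateField.subset_adjoin K T hx
    let mk : ∀ (x : integralClosure R Kb), ι x ∈ T → V := fun x hx => ⟨⟨ι x, hT _ hx⟩, hmemV x _⟩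
    let EV : WeierstrassCurve V := ⟨mk E.a₁ (by simp [T]), mk E.a₂ (by simp [T]), mk E.a₃ (by simp [T]),
      mk E.a₄ (by simp [T]), mk E.a₆ (by simp [T])⟩
    let j₁ : V →+* Kb := (L.val.toRingHom).comp V.subtype
    have hj₁ : Function.Injective j₁ := Subtype.val_injective.comp Subtype.val_injective
    have hEV : EV.map j₁ = E.map ι := rfl
    have hEVΔ : IsUnit EV.Δ := by
      refine IsUnit.of_mul_eq_one (mk (hΔ.unit⁻¹ : (integralClosure R Kb)ˣ) (by simp [T])) (hj₁ ?_)
      rw [map_mul, ← EV.map_Δ j₁, hEV, E.map_Δ ι, map_one]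
      exact (map_mul ι _ _).symm.trans ((congrArg ι hΔ.mul_val_inv).trans (map_one ι))
    let CL : WeierstrassCurve.VariableChange L :=
      ⟨Units.mk0 ⟨C.u, hT _ (by simp [T])⟩ (fun h => C.u.ne_zero (congrArg Subtype.val h)),
        ⟨C.r, hT _ (by simp [T])⟩, ⟨C.s, hT _ (by simp [T])⟩, ⟨C.t, hT _ (by simp [T])⟩⟩
    have hCL : CL.map L.val.toRingHom = C := by
      ext <;> rfl
    have key : CL • (W.baseChange L) = EV.baseChange L := by
      refine WeierstrassCurve.map_injective (f := L.val.toRingHom) Subtype.val_injective ?_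
      show (CL • W.baseChange L).map L.val.toRingHom = (EV.baseChange L).map L.val.toRingHom
      rw [← WeierstrassCurve.map_variableChange, hCL]
      exact hC.trans hEV.symm
    refine ⟨L, inferInstance, inferInstance, inferInstance, V, inferInstance, inferInstance, inferInstance,
      inferInstance, inferInstance, φ, hφ, fun a => rfl, ?_⟩
    haveI hint : WeierstrassCurve.IsIntegral V (CL • W.baseChange L) := ⟨⟨EV, key⟩⟩
    have h1 : IsDedekindDomain.HeightOneSpectrum.valuation L (IsDiscreteValuationRing.maximalIdeal V)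
        (CL • W.baseChange L).Δ = 1 := by
      rw [key]
      show IsDedekindDomain.HeightOneSpectrum.valuation L _ (EV.map (algebraMap V L)).Δ = 1
      rw [WeierstrassCurve.map_Δ, IsDedekindDomain.HeightOneSpectrum.valuation_of_algebraMap,
        IsDedekindDomain.HeightOneSpectrum.intValuation_eq_one_iff]
      exact fun h => h hEVΔ
    refine { toIsMinimal := inferInstance, goodReduction := le_antisymm ?_ ?_ }
    · rw [← WeierstrassCurve.valuation_Δ_aux_eq_of_isIntegral]
      exact (WeierstrassCurve.valuation_Δ_aux V ((W.baseChange L).minimal V)).2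
    · have hm := (inferInstance : WeierstrassCurve.IsMinimal V ((W.baseChange L).minimal V)).val_Δ_maximal.2
      let D := ((W.baseChange L).exists_isMinimal V).choose
      have e : (CL * D⁻¹) • ((W.baseChange L).minimal V) = CL • W.baseChange L := by
        show (CL * D⁻¹) • (D • W.baseChange L) = _
        rw [← mul_smul, inv_mul_cancel_right]
      have h2 := hm (j := CL * D⁻¹) (by
        show WeierstrassCurve.IsIntegral V ((CL * D⁻¹) • _)
        rw [e]; exact hint)
      simp only [one_smul, e] at h2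
      have h3 : (WeierstrassCurve.valuation_Δ_aux V (CL • W.baseChange L) : WithZero (Multiplicative ℤ)) ≤
          WeierstrassCurve.valuation_Δ_aux V ((W.baseChange L).minimal V) := Subtype.coe_le_coe.2 (h2 (by
        rw [← Subtype.coe_le_coe, WeierstrassCurve.valuation_Δ_aux_eq_of_isIntegral (R := V) (CL • W.baseChange L), h1]
        exact (WeierstrassCurve.valuation_Δ_aux V ((W.baseChange L).minimal V)).2))
      rwa [WeierstrassCurve.valuation_Δ_aux_eq_of_isIntegral, WeierstrassCurve.valuation_Δ_aux_eq_of_isIntegral, h1] at h3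
  · rintro ⟨L, _, _, _, RL, _, _, _, _, _, φ, hφ, hcomm, hgood⟩
    let W' := (W.baseChange L).minimal RL
    haveI := hgood
    let I := W'.integralModel RL
    have hIΔ : IsUnit I.Δ := by
      have h := hgood.goodReduction
      rw [← WeierstrassCurve.integralModel_Δ_eq RL W',
        IsDedekindDomain.HeightOneSpectrum.valuation_of_algebraMap,
        IsDedekindDomain.HeightOneSpectrum.intValuation_eq_one_iff] at h
      exact of_not_not h
    haveI : I.IsElliptic := ⟨hIΔ⟩
    haveI : (W.baseChange L).IsElliptic := inferInstanceAs (W.map _).IsElliptic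
    have hjI : algebraMap RL L I.j = algebraMap K L W.j := by
      rw [← hjW L _ _, ← WeierstrassCurve.map_j]
      have : I.map (algebraMap RL L) = ((W.baseChange L).exists_isMinimal RL).choose • W.baseChange L :=
        WeierstrassCurve.baseChange_integralModel_eq RL W'
      simp only [this, WeierstrassCurve.variableChange_j]
    rcases ValuationRing.isInteger_or_isInteger R (K := K) W.j with h | ⟨b, hb⟩
    · exact h
    · by_cases hu : IsUnit b
      · obtain ⟨u, rfl⟩ := hu
        refine ⟨(u⁻¹ : Rˣ), ?_⟩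
        rw [map_units_inv, hb, inv_inv]
      · rcases eq_or_ne W.j 0 with h0 | h0
        · exact ⟨0, by rw [h0, map_zero]⟩
        · refine absurd ?_ hu
          refine hφ.map_nonunit b (IsUnit.of_mul_eq_one I.j (IsFractionRing.injective RL L ?_))
          rw [map_mul, map_one, hjI, ← hcomm, hb, ← map_mul, inv_mul_cancel₀ h0, map_one]


end Groth.Agent.S0614
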