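import Groth.Statements.S0619
import Groth.Agent.H27HW.Extension

set_option autoImplicit false
universe u
open AlgebraicGeometry CategoryTheory
open Zeta

namespace Groth.Agent.S0619

/-- For a geometrically connected smooth proper curve of genus g over a finite field k with q elements
and a finite extension k' of degree n, |#C(k') − (qⁿ + 1)| ≤ 2g·q^(n/2). -/
theorem result {k : Type u} [Field k] [Finite k] {C : Scheme.{u}}
    (f : C ⟶ Spec (CommRingCat.of k)) (hC : Curve.IsSmoothProperCurve k C f)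
    [GeometricallyIrreducible f] (g : ℕ)
    (hg : Nat.card (Coh.HH C (Coh.structureModule C) 1) = Nat.card k ^ g)
    (k' : Type u) [Field k'] [Algebra k k'] [Finite k'] :
    |(SgaExt.pointCount f k' : ℝ) - ((Nat.card k : ℝ) ^ Module.finrank k k' + 1)| ≤
      2 * g * (Nat.card k : ℝ) ^ ((Module.finrank k k' : ℝ) / 2) := by
  letI : C.Over (Spec (CommRingCat.of k)) := ⟨f⟩
  haveI := hC.1
  have h := H27HW.hasseWeil_sq f hC k'
  rw [H27HW.genus_eq_of_natCard f g hg] at h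
  set n := Module.finrank k k'
  set q : ℝ := (Nat.card k : ℝ) with hq
  have hq0 : 0 ≤ q := Nat.cast_nonneg _
  have hpow : (q ^ ((n : ℝ) / 2)) ^ 2 = q ^ n := by
    rw [← Real.rpow_natCast (q ^ ((n : ℝ) / 2)) 2, ← Real.rpow_mul hq0, ← Real.rpow_natCast q n]
    norm_num
  have h' : ((SgaExt.pointCount f k' : ℝ) - (q ^ n + 1)) ^ 2 ≤ (2 * g * q ^ ((n : ℝ) / 2)) ^ 2 := by
    rw [mul_pow, hpow, hq]
    calc ((SgaExt.pointCount f k' : ℝ) - ((Nat.card k : ℝ) ^ n + 1)) ^ 2
        = ((((SgaExt.pointCount f k' : ℤ) - (Nat.card k : ℤ) ^ n - 1) ^ 2 : ℤ) : ℝ) := by push_cast; ring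
      _ ≤ ((4 * (g : ℤ) ^ 2 * (Nat.card k : ℤ) ^ n : ℤ) : ℝ) := by exact_mod_cast h
      _ = (2 * (g : ℝ)) ^ 2 * (Nat.card k : ℝ) ^ n := by push_cast; ring
  exact abs_le_of_sq_le_sq h' (mul_nonneg (mul_nonneg zero_le_two (Nat.cast_nonneg _)) (Real.rpow_nonneg hq0 _))

end Groth.Agent.S0619
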