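import Groth.Statements.S0623
import Groth.Agent.H18Et.EtaleRestrict
import Groth.Agent.H18Et.StalkSets

set_option autoImplicit false
open CategoryTheory CategoryTheory.Limits AlgebraicGeometry Opposite
universe u
open EtCore

namespace Groth.Agent.S0623

/-- For a morphism f : X -> Y and an injective abelian sheaf I on the small etale site of X, the
pushforward f_* I is acyclic: its etale cohomology over any scheme V etale over Y (computed after
pulling back to V) vanishes in positive degrees, and for any g : Y -> Z the higher direct images R^q
g_* (f_* I) vanish for q > 0. Part (1) on Cech cohomology is not included. -/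
theorem result {X Y Z : Scheme.{u}} (f : X ⟶ Y) (g : Y ⟶ Z) (I : EtCoh.Ab X)
    [Injective I] (q : ℕ) (hq : 1 ≤ q) :
    (∀ V : Y.Etale, Subsingleton (EtCoh.H V.left ((EtCoh.pull V.hom).obj ((EtCoh.push f).obj I)) q)) ∧
    IsZero ((EtCoh.Rpush g q).obj ((EtCoh.push f).obj I)) := by
  haveI := H18Et.pull_preservesFiniteLimits f
  haveI : (EtCoh.pull f).PreservesMonomorphisms := inferInstance
  haveI : Injective ((EtCoh.push f).obj I) := (EtCoh.pullPushAdj f).map_injective I inferInstance
  obtain ⟨m, rfl⟩ := Nat.exists_eq_add_of_le hq
  refine ⟨fun V => ?_, ?_⟩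
  · haveI : AlgebraicGeometry.Etale V.hom := V.prop
    haveI := H18Et.EtaleRestrict.injective_pull V.hom ((EtCoh.push f).obj I)
    rw [add_comm]
    exact subsingleton_of_forall_eq 0 fun x => Abelian.Ext.eq_zero_of_injective x
  · rw [add_comm]
    exact (EtCoh.push g).isZero_rightDerived_obj_injective_succ m _

end Groth.Agent.S0623
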