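import Groth.Statements.S0624
import Groth.Agent.S0089
import Groth.Agent.H9Hens.EtaleQuotLift
import Mathlib
-- import your own Groth.Agent.* helpers here

set_option autoImplicit false
open CategoryTheory CategoryTheory.Limits AlgebraicGeometry Opposite
universe u
open EtCore

namespace Groth.Agent.S0624

open TopologicalSpace TensorProduct

theorem exists_lift {V Z X : Scheme.{u}} [IsAffine X] [IsAffine Z] [IsAffine V]
    (i : Z ⟶ X) [IsClosedImmersion i] (φ : V ⟶ Z) [AlgebraicGeometry.Etale φ] :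
    ∃ (V' : Scheme.{u}) (g : V' ⟶ X) (a : V ⟶ V'), IsAffine V' ∧ AlgebraicGeometry.Etale g ∧
      IsPullback a φ g i := by
  have hs : Function.Surjective i.appTop.hom :=
    i.app_surjective ⊤ (isAffineOpen_top X)
  letI : Algebra Γ(X, ⊤) Γ(Z, ⊤) := i.appTop.hom.toAlgebra
  let I := RingHom.ker i.appTop.hom
  let e : (↑Γ(X, ⊤) ⧸ I) ≃+* ↑Γ(Z, ⊤) := RingHom.quotientKerEquivOfSurjective hs
  letI : Algebra (↑Γ(X, ⊤) ⧸ I) ↑Γ(V, ⊤) := (φ.appTop.hom.comp e.toRingHom).toAlgebra
  haveI : Algebra.Etale (↑Γ(X, ⊤) ⧸ I) ↑Γ(V, ⊤) := by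
    have h : φ.appTop.hom.Etale := (HasRingHomProperty.iff_of_isAffine (P := @AlgebraicGeometry.Etale)).mp inferInstance
    exact RingHom.etale_algebraMap.mp (RingHom.Etale.respectsIso.2 _ e h)
  obtain ⟨S, _, _, hS, ⟨eC⟩⟩ := Groth.Agent.H9Hens.exists_etale_lift_quotient _ I ↑Γ(V, ⊤)
  let f : Γ(X, ⊤) ⟶ CommRingCat.of S := CommRingCat.ofHom (algebraMap _ S)
  let inr : CommRingCat.of S ⟶ Γ(V, ⊤) :=
    CommRingCat.ofHom (eC.toRingEquiv.toRingHom.comp Algebra.TensorProduct.includeRight.toRingHom)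
  have hpo : IsPushout i.appTop f φ.appTop inr :=
    (CommRingCat.isPushout_tensorProduct Γ(X, ⊤) (↑Γ(X, ⊤) ⧸ I) S).of_iso (Iso.refl _)
      e.toCommRingCatIso (Iso.refl _) eC.toRingEquiv.toCommRingCatIso
      (by ext r; rfl) (by ext r; rfl)
      (by refine CommRingCat.hom_ext (Ideal.Quotient.ringHom_ext (RingHom.ext fun r => ?_)); exact eC.commutes _)
      (by ext r; rfl)
  haveI : AlgebraicGeometry.Etale (Spec.map f) :=
    (HasRingHomProperty.Spec_iff (P := @AlgebraicGeometry.Etale)).2 (RingHom.etale_algebraMap.mpr hS)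
  refine ⟨Spec (CommRingCat.of S), Spec.map f ≫ X.isoSpec.inv, V.isoSpec.hom ≫ Spec.map inr,
    inferInstance, inferInstance, ?_⟩
  refine (isPullback_SpecMap_of_isPushout _ _ _ _ hpo).flip.of_iso V.isoSpec.symm (Iso.refl _)
    Z.isoSpec.symm X.isoSpec.symm ?_ ?_ ?_ ?_
  · simp
  · simp only [Iso.symm_hom]; exact Scheme.isoSpec_inv_naturality φ
  · simp
  · simp only [Iso.symm_hom]; exact Scheme.isoSpec_inv_naturality i

/-- Let X be an affine, integral and normal scheme with separably closed function field, Z -> X a closed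
immersion and V -> Z etale with V affine. Then V splits, over Z, as the disjoint union of finitely
many open subschemes of Z. -/
theorem result {V Z X : Scheme.{u}} [IsAffine X] [IsIntegral X]
    (hN : ∀ x : X, IsIntegrallyClosed (X.presheaf.stalk x)) [IsSepClosed X.functionField]
    (i : Z ⟶ X) [IsClosedImmersion i] (φ : V ⟶ Z) [AlgebraicGeometry.Etale φ] [IsAffine V] :
    ∃ (ι : Type u) (_ : Finite ι) (W : ι → Z.Opens) (e : (∐ fun k => (W k : Scheme.{u})) ≅ V),
      ∀ k, Sigma.ι (fun k => (W k : Scheme.{u})) k ≫ e.hom ≫ φ = (W k).ι := by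
  classical
  haveI : IsAffine Z := isAffine_of_isAffineHom i
  obtain ⟨V', g, a, hV', hg, hsq⟩ := exists_lift i φ
  obtain ⟨κ, U, e, he⟩ := Groth.Agent.S0089.result hN g
  let j := fun k => Sigma.ι (fun k => (U k : Scheme.{u})) k ≫ e.hom
  have hjg : ∀ k, j k ≫ g = (U k).ι := fun k => by rw [Category.assoc]; exact he k
  have hcov : ∀ y : V', ∃ k, y ∈ (j k).opensRange := fun y => by
    obtain ⟨k, x, hx⟩ := (Scheme.IsLocallyDirected.openCover (Discrete.functor fun k => (U k : Scheme.{u}))).exists_eq (e.inv y)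
    refine ⟨k.as, x, ?_⟩
    show (Sigma.ι (fun k => (U k : Scheme.{u})) k.as ≫ e.hom) x = y
    rw [Scheme.Hom.comp_apply]
    exact (congrArg e.hom hx).trans ((Scheme.Hom.comp_apply e.inv e.hom y).symm.trans (by rw [e.inv_hom_id]; rfl))
  have hdisj : ∀ k l, k ≠ l → Disjoint (j k).opensRange (j l).opensRange := fun k l hkl => by
    rw [disjoint_iff, eq_bot_iff]
    rintro y ⟨⟨x, hx⟩, ⟨z, hz⟩⟩
    have h := disjoint_iff.mp (disjoint_opensRange_sigmaι (fun k => (U k : Scheme.{u})) k l hkl)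
    have hmem : e.inv y ∈ (Sigma.ι (fun k => (U k : Scheme.{u})) k).opensRange ⊓
        (Sigma.ι (fun k => (U k : Scheme.{u})) l).opensRange := by
      refine ⟨⟨x, ?_⟩, ⟨z, ?_⟩⟩
      · rw [← hx, ← Scheme.Hom.comp_apply, Category.assoc, e.hom_inv_id, Category.comp_id]
      · rw [← hz, ← Scheme.Hom.comp_apply, Category.assoc, e.hom_inv_id, Category.comp_id]
    rw [h] at hmem
    exact hmem.elim
  obtain ⟨t, ht⟩ := (isCompact_univ (X := V')).elim_finite_subcover (fun k => ((j k).opensRange : Set V'))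
    (fun k => (j k).opensRange.2) (fun y _ => Set.mem_iUnion.2 (hcov y))
  let P : ↥t → Scheme.{u} := fun k => pullback a (j k.1)
  let f := fun k : ↥t => pullback.fst a (j k.1)
  have hrange : ∀ k, Set.range (f k).base = a.base ⁻¹' ((j k.1).opensRange : Set V') := fun k => by
    rw [Scheme.Pullback.range_fst]; rfl
  haveI : ∀ k, IsOpenImmersion (f k ≫ φ) := fun k => by
    haveI : IsOpenImmersion (j k.1 ≫ g) := (hjg k.1).symm ▸ inferInstance
    exact MorphismProperty.of_isPullback ((IsPullback.of_hasPullback a (j k.1)).flip.paste_vert hsq)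
      (inferInstance : IsOpenImmersion (j k.1 ≫ g))
  obtain ⟨hc⟩ := nonempty_isColimit_cofanMk_of (σ := ↥t) f
    (by
      rw [eq_top_iff]
      intro x _
      obtain ⟨k, hkt, hk⟩ := Set.mem_iUnion₂.1 (ht (Set.mem_univ (a x)))
      rw [TopologicalSpace.Opens.mem_iSup]
      exact ⟨⟨k, hkt⟩, ((hrange ⟨k, hkt⟩).symm.subset hk : x ∈ Set.range (f ⟨k, hkt⟩).base)⟩)
    (by
      intro k l hkl
      rw [Function.onFun, disjoint_iff, eq_bot_iff]
      intro x hx
      have h1 : a x ∈ (j k.1).opensRange := (hrange k).subset hx.1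
      have h2 : a x ∈ (j l.1).opensRange := (hrange l).subset hx.2
      have h := disjoint_iff.mp (hdisj k.1 l.1 fun h => hkl (Subtype.ext h))
      exact ((h.le ⟨h1, h2⟩ : a x ∈ (⊥ : V'.Opens))).elim)
  refine ⟨↥t, inferInstance, fun k => (f k ≫ φ).opensRange,
    Sigma.mapIso (fun k => ((f k ≫ φ).isoOpensRange).symm) ≪≫
      (coproductIsCoproduct _).coconePointUniqueUpToIso hc, fun k => ?_⟩
  simp only [Iso.trans_hom, Category.assoc]
  have h1 : Sigma.ι P k ≫ ((coproductIsCoproduct P).coconePointUniqueUpToIso hc).hom = f k :=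
    (coproductIsCoproduct P).comp_coconePointUniqueUpToIso_hom hc ⟨k⟩
  rw [show (Sigma.mapIso fun k => ((f k ≫ φ).isoOpensRange).symm).hom =
    Limits.Sigma.map fun k => ((f k ≫ φ).isoOpensRange).symm.hom from rfl]
  rw [Sigma.ι_map_assoc, reassoc_of% h1, Iso.symm_hom, Scheme.Hom.isoOpensRange_inv_comp]

end Groth.Agent.S0624
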