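import Groth.Statements.S0625
import Groth.Agent.S0624
import Mathlib
-- import your own Groth.Agent.* helpers here

set_option autoImplicit false
open CategoryTheory CategoryTheory.Limits AlgebraicGeometry Opposite
universe u
open EtCore

namespace Groth.Agent.S0625

/-- Let X be an affine integral normal scheme whose function field is separably closed and Z -> X a
closed immersion. Every surjective finite etale morphism V -> Z has a section. -/
theorem result {V Z X : Scheme.{u}} [IsAffine X] [IsIntegral X]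
    (hN : ∀ x : X, IsIntegrallyClosed (X.presheaf.stalk x)) [IsSepClosed X.functionField]
    (i : Z ⟶ X) [IsClosedImmersion i] (φ : V ⟶ Z) [AlgebraicGeometry.Etale φ] [IsFinite φ] [Surjective φ] :
    ∃ s : Z ⟶ V, s ≫ φ = 𝟙 Z := by
  classical
  haveI : IsAffine Z := isAffine_of_isAffineHom i
  haveI : IsAffine V := isAffine_of_isAffineHom φ
  obtain ⟨κ, _, W, e, he⟩ := Groth.Agent.S0624.result hN i φ
  let s := fun k => Sigma.ι (fun k => (W k : Scheme.{u})) k ≫ e.hom
  have hs : ∀ k, s k ≫ φ = (W k).ι := fun k => by rw [Category.assoc]; exact he k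
  have hcov : ∀ y : V, ∃ k, y ∈ (s k).opensRange := fun y => by
    obtain ⟨k, x, hx⟩ := (Scheme.IsLocallyDirected.openCover (Discrete.functor fun k => (W k : Scheme.{u}))).exists_eq (e.inv y)
    refine ⟨k.as, x, ?_⟩
    show (Sigma.ι (fun k => (W k : Scheme.{u})) k.as ≫ e.hom) x = y
    rw [Scheme.Hom.comp_apply]
    exact (congrArg e.hom hx).trans ((Scheme.Hom.comp_apply e.inv e.hom y).symm.trans (by rw [e.inv_hom_id]; rfl))
  have hWimg : ∀ k, (W k : Set Z) = φ.base '' ((s k).opensRange : Set V) := fun k => by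
    rw [← Scheme.Opens.range_ι (W k), ← hs k, Scheme.Hom.comp_base, TopCat.coe_comp, Set.range_comp]
    rfl
  have hWclosed : ∀ k, IsClosed (W k : Set Z) := fun k => by
    rw [hWimg k]
    refine φ.isClosedMap _ ?_
    rw [← isOpen_compl_iff]
    have : ((s k).opensRange : Set V)ᶜ = ⋃ (l : κ) (_ : l ≠ k), ((s l).opensRange : Set V) := by
      ext y
      simp only [Set.mem_compl_iff, Set.mem_iUnion]
      constructor
      · intro hy
        obtain ⟨l, hl⟩ := hcov y
        exact ⟨l, fun h => hy (h ▸ hl), hl⟩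
      · rintro ⟨l, hlk, z, hz⟩ ⟨x, hx⟩
        have h1 : e.inv y ∈ (Sigma.ι (fun k => (W k : Scheme.{u})) l).opensRange ⊓
            (Sigma.ι (fun k => (W k : Scheme.{u})) k).opensRange := by
          refine ⟨⟨z, ?_⟩, ⟨x, ?_⟩⟩
          · rw [← hz, ← Scheme.Hom.comp_apply, Category.assoc, e.hom_inv_id, Category.comp_id]
          · rw [← hx, ← Scheme.Hom.comp_apply, Category.assoc, e.hom_inv_id, Category.comp_id]
        rw [disjoint_iff.mp (disjoint_opensRange_sigmaι (fun k => (W k : Scheme.{u})) l k hlk)] at h1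
        exact h1.elim
    rw [this]
    exact isOpen_biUnion fun l _ => (s l).opensRange.2
  haveI := Fintype.ofFinite κ
  letI : LinearOrder κ := LinearOrder.lift' (Fintype.equivFin κ) (Equiv.injective _)
  let D : κ → Z.Opens := fun k => W k ⊓
    ⟨(⋃ (l : κ) (_ : l < k), (W l : Set Z))ᶜ, (Set.Finite.isClosed_biUnion (Set.toFinite _) fun l _ => hWclosed l).isOpen_compl⟩
  obtain ⟨hc⟩ := nonempty_isColimit_cofanMk_of (σ := κ) (fun k => (D k).ι)
    (by
      rw [eq_top_iff]
      intro z _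
      obtain ⟨v, hv⟩ := φ.surjective z
      obtain ⟨k, hk⟩ := hcov v
      have hne : (Finset.univ.filter fun k => z ∈ W k).Nonempty := by
        refine ⟨k, Finset.mem_filter.mpr ⟨Finset.mem_univ _, ?_⟩⟩
        show z ∈ (W k : Set Z)
        rw [hWimg k]
        exact ⟨v, hk, hv⟩
      rw [TopologicalSpace.Opens.mem_iSup]
      refine ⟨(Finset.univ.filter fun k => z ∈ W k).min' hne, ?_⟩
      rw [Scheme.Opens.opensRange_ι]
      refine ⟨(Finset.mem_filter.mp (Finset.min'_mem _ hne)).2, ?_⟩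
      simp only [TopologicalSpace.Opens.carrier_eq_coe, TopologicalSpace.Opens.coe_mk, Set.mem_compl_iff, Set.mem_iUnion]
      rintro ⟨l, hl, hzl⟩
      exact (Finset.min'_le _ l (Finset.mem_filter.mpr ⟨Finset.mem_univ _, hzl⟩)).not_gt hl)
    (by
      intro k l hkl
      rw [Function.onFun, Scheme.Opens.opensRange_ι, Scheme.Opens.opensRange_ι, disjoint_iff, eq_bot_iff]
      rintro x ⟨⟨hk1, hk2⟩, hl1, hl2⟩
      rcases lt_or_gt_of_ne hkl with h | h
      · exact (hl2 (Set.mem_iUnion₂.mpr ⟨k, h, hk1⟩)).elim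
      · exact (hk2 (Set.mem_iUnion₂.mpr ⟨l, h, hl1⟩)).elim)
  refine ⟨hc.desc (Cofan.mk V fun k => Z.homOfLE (inf_le_left : D k ≤ W k) ≫ s k), ?_⟩
  refine Cofan.IsColimit.hom_ext hc _ _ fun k => ?_
  simp only [cofan_mk_inj]
  have h1 : (D k).ι ≫ hc.desc (Cofan.mk V fun k => Z.homOfLE (inf_le_left : D k ≤ W k) ≫ s k) =
      Z.homOfLE (inf_le_left : D k ≤ W k) ≫ s k := hc.fac _ ⟨k⟩
  rw [reassoc_of% h1, hs, Scheme.homOfLE_ι]
  exact (Category.comp_id _).symm

end Groth.Agent.S0625
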