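import Groth.Statements.S0632
import Groth.Agent.H18Et.ClosedLift

set_option autoImplicit false
open CategoryTheory CategoryTheory.Limits AlgebraicGeometry Opposite
universe u
open EtCore

namespace Groth.Agent.S0632

/-- Let X -> Y be a closed immersion and U_i -> X (i in ι) a jointly surjective family of etale
morphisms. Then one can find a jointly surjective family of etale Y-schemes V_j each of which either
has empty preimage over X or, after base change to X, maps into one of the U_i over X. -/
theorem result {X Y : Scheme.{u}} (f : X ⟶ Y) [IsClosedImmersion f]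
    {ι : Type u} (U : ι → X.Etale) (hU : EtCoh.Covers U) :
    ∃ (κ : Type u) (V : κ → Y.Etale), EtCoh.Covers V ∧
      ∀ j, IsEmpty ↥(pullback (V j).hom f) ∨
        ∃ (i : ι) (h : pullback (V j).hom f ⟶ (U i).left), h ≫ (U i).hom = pullback.snd (V j).hom f := by
  classical
  choose V q U' j a hVa hq hj hx hpb using
    fun p : Σ k : ι, ((U k).left : Type u) =>
      @Groth.Agent.H18Et.exists_etale_lift_closed _ _ _ f _ (U p.1).hom (U p.1).prop p.2
  let W : Y.Opens := ⟨(Set.range f.base)ᶜ, f.isClosedEmbedding.isClosed_range.isOpen_compl⟩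
  let Vs : (Σ k : ι, ((U k).left : Type u)) ⊕ PUnit.{u + 1} → Y.Etale :=
    Sum.elim (fun p => MorphismProperty.Over.mk ⊤ (q p) (hq p))
      (fun _ => MorphismProperty.Over.mk ⊤ W.ι inferInstance)
  refine ⟨_, Vs, fun y => ?_, ?_⟩
  · by_cases hy : y ∈ Set.range f.base
    · obtain ⟨z, rfl⟩ := hy
      obtain ⟨k, u, rfl⟩ := hU z
      obtain ⟨u', hu'⟩ := hx ⟨k, u⟩
      refine ⟨.inl ⟨k, u⟩, (a ⟨k, u⟩).base u', ?_⟩
      exact (Scheme.Hom.comp_apply _ _ _).symm.trans
        ((congrArg (fun g => g.base u') (hpb ⟨k, u⟩).w).trans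
          (congrArg (fun w => f.base ((U k).hom.base w)) hu'))
    · exact ⟨.inr ⟨⟩, ⟨y, hy⟩, rfl⟩
  · rintro (p | _)
    · exact .inr ⟨p.1, (hpb p).isoPullback.inv ≫ j p,
        (Category.assoc _ _ _).trans ((hpb p).isoPullback_inv_snd)⟩
    · refine .inl ⟨fun z => ?_⟩
      have h1 := congrArg (fun g => g.base z) (pullback.condition (f := W.ι) (g := f))
      exact ((pullback.fst W.ι f).base z).2 ⟨(pullback.snd W.ι f).base z, h1.symm⟩

end Groth.Agent.S0632
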