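import Groth.Statements.S0633
import Groth.Agent.H18Et.ClosedLift

set_option autoImplicit false
open CategoryTheory CategoryTheory.Limits AlgebraicGeometry Opposite
universe u
open EtCore

namespace Groth.Agent.S0633

/-- Let X -> Y be a closed immersion and U -> X etale. Then there exist etale morphisms V_i -> Y and
X-morphisms V_i x_Y X -> U which are open immersions whose images cover U. -/
theorem result {X Y : Scheme.{u}} (f : X ⟶ Y) [IsClosedImmersion f]
    (U : X.Etale) :
    ∃ (κ : Type u) (V : κ → Y.Etale) (h : ∀ j, pullback (V j).hom f ⟶ U.left),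
      (∀ j, h j ≫ U.hom = pullback.snd (V j).hom f) ∧ (∀ j, IsOpenImmersion (h j)) ∧
      ∀ x : U.left, ∃ (j : κ) (y : ↥(pullback (V j).hom f)), (h j).base y = x := by
  have : Etale U.hom := U.prop
  choose V q U' j a hVa hq hj hx hpb using
    fun x : U.left => Groth.Agent.H18Et.exists_etale_lift_closed f U.hom x
  refine ⟨U.left, fun x => MorphismProperty.Over.mk ⊤ (q x) (hq x),
    fun x => (hpb x).isoPullback.inv ≫ j x, fun x => ?_, fun x => ?_, fun x => ?_⟩
  · exact (Category.assoc _ _ _).trans ((hpb x).isoPullback_inv_snd)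
  · have := hj x
    exact inferInstanceAs (IsOpenImmersion ((hpb x).isoPullback.inv ≫ j x))
  · obtain ⟨u', hu'⟩ := hx x
    refine ⟨x, (hpb x).isoPullback.hom.base u', ?_⟩
    exact ((Scheme.Hom.comp_apply _ _ _).symm.trans
      (congrArg (fun g : U' x ⟶ U.left => g.base u')
        (Iso.hom_inv_id_assoc (hpb x).isoPullback (j x)))).trans hu'

end Groth.Agent.S0633
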