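import Groth.Statements.S0634
import Groth.Agent.H18Et.UnitZero

set_option autoImplicit false
open CategoryTheory CategoryTheory.Limits AlgebraicGeometry Opposite
universe u
open EtCore

namespace Groth.Agent.S0634

/-- For an abelian sheaf F on the small etale site of S and two global sections s, t there is an open W
of S such that a morphism f : T -> S has image inside W if and only if the pullbacks of s and t
along f (images under the adjunction unit, as sections of the pullback sheaf over T) coincide. -/
theorem result {S : Scheme.{u}} (F : EtCoh.Ab S) (s t : EtCoh.sect F (EtCoh.top S)) :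
    ∃ W : S.Opens, ∀ (T : Scheme.{u}) (f : T ⟶ S),
      Set.range f.base ⊆ (W : Set S) ↔
        ((EtCoh.pullPushAdj f).unit.app F).hom.app (op (EtCoh.top S)) s =
          ((EtCoh.pullPushAdj f).unit.app F).hom.app (op (EtCoh.top S)) t := by
  refine ⟨⟨(EtShriek.sectSupp F (EtCoh.top S) (s - t))ᶜ,
    (Groth.Agent.H18Et.isClosed_sectSupp F _ _).isOpen_compl⟩, fun T f => ?_⟩
  rw [← sub_eq_zero (a := ((EtCoh.pullPushAdj f).unit.app F).hom.app (op (EtCoh.top S)) s),
    ← map_sub, Groth.Agent.H18Et.unit_app_eq_zero_iff]
  have h : Set.range (pullback.fst (EtCoh.top S).hom f).base = Set.range f.base := by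
    have e : pullback.fst (𝟙 S) f = pullback.snd (𝟙 S) f ≫ f := by
      simpa using pullback.condition (f := 𝟙 S) (g := f)
    change Set.range (pullback.fst (𝟙 S) f).base = _
    rw [e, Scheme.Hom.comp_base, TopCat.coe_comp]
    exact Function.Surjective.range_comp (pullback.snd (𝟙 S) f).surjective _
  rw [h]
  rfl

end Groth.Agent.S0634
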