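import Groth.Statements.S0643
import Mathlib.RingTheory.AdjoinRoot
import Mathlib.Data.Nat.Choose.Sum
import Mathlib.Algebra.Polynomial.Monic
import Mathlib.Tactic.Ring

set_option autoImplicit false
universe u
open EtCore

namespace Groth.Agent.S0643

open Polynomial in
/-- Let A be a ring, assumed nonzero here (the published statement does not say so; over the zero ring
no polynomial has positive degree in Lean's sense), and a, b elements generating the unit ideal such
that some positive power of a is congruent to 1 modulo b. Then there is a monic polynomial P of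
positive degree over A such that in B = A[y]/(P) the element a - b y is a unit. -/
theorem result (A : Type u) [CommRing A] [Nontrivial A] (a b : A) (hab : IsCoprime a b)
    (hroot : ∃ n : ℕ, 0 < n ∧ a ^ n - 1 ∈ Ideal.span ({b} : Set A)) :
    ∃ P : A[X], P.Monic ∧ 0 < P.natDegree ∧
      IsUnit (algebraMap A (AdjoinRoot P) a - algebraMap A (AdjoinRoot P) b * AdjoinRoot.root P) := by
  obtain ⟨n, hn, hmem⟩ := hroot
  obtain ⟨w, hw⟩ := Ideal.mem_span_singleton'.1 hmem
  obtain ⟨x, z, hxz⟩ := hab
  let c : ℕ → A := fun i => -w * x ^ i * z ^ (n - 1 - i) * ((n - 1).choose i : A)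
  have hsum : a ^ n + ∑ i ∈ Finset.range n, c i * a ^ i * b ^ (n - i) = 1 := by
    have h1 : ∑ i ∈ Finset.range n, c i * a ^ i * b ^ (n - i) = -(w * b) := by
      have h2 : (x * a + z * b) ^ (n - 1) = 1 := by rw [hxz, one_pow]
      rw [add_pow, Nat.sub_add_cancel hn] at h2
      calc ∑ i ∈ Finset.range n, c i * a ^ i * b ^ (n - i)
          = ∑ i ∈ Finset.range n, (-(w * b)) *
              ((x * a) ^ i * (z * b) ^ (n - 1 - i) * ((n - 1).choose i : A)) := by
            refine Finset.sum_congr rfl fun i hi => ?_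
            have hi' := Finset.mem_range.1 hi
            rw [show n - i = (n - 1 - i) + 1 by omega]
            simp only [c]
            ring
        _ = _ := by rw [← Finset.mul_sum, h2, mul_one]
    rw [h1, hw]
    ring
  let Q : A[X] := ∑ i ∈ Finset.range n, C (c i) * X ^ i
  have hQ : Q.degree < (n : ℕ) := by
    refine (Polynomial.degree_sum_le _ _).trans_lt ((Finset.sup_lt_iff (WithBot.bot_lt_coe n)).2 ?_)
    exact fun i hi => (Polynomial.degree_C_mul_X_pow_le i (c i)).trans_lt
      (WithBot.coe_lt_coe.2 (Finset.mem_range.1 hi))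
  have hdeg : (X ^ n + Q).natDegree = n := Polynomial.natDegree_eq_of_degree_eq_some (by
    rw [Polynomial.degree_add_eq_left_of_degree_lt] <;> rw [Polynomial.degree_X_pow]
    exact hQ)
  refine ⟨X ^ n + Q, Polynomial.monic_X_pow_add hQ, hdeg.symm ▸ hn, ?_⟩
  set f := algebraMap A (AdjoinRoot (X ^ n + Q))
  set y := AdjoinRoot.root (X ^ n + Q)
  have hy : y ^ n + ∑ i ∈ Finset.range n, f (c i) * y ^ i = 0 := by
    have h := AdjoinRoot.eval₂_root (X ^ n + Q)
    simpa [f, y, Q, Polynomial.eval₂_finset_sum, AdjoinRoot.algebraMap_eq] using h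
  refine isUnit_of_dvd_one ?_
  have h0 : (f b * y) ^ n + ∑ i ∈ Finset.range n, f (c i) * (f b * y) ^ i * f b ^ (n - i) = 0 := by
    calc (f b * y) ^ n + ∑ i ∈ Finset.range n, f (c i) * (f b * y) ^ i * f b ^ (n - i)
        = f b ^ n * (y ^ n + ∑ i ∈ Finset.range n, f (c i) * y ^ i) := by
          rw [mul_add, mul_pow, Finset.mul_sum]
          congr 1
          refine Finset.sum_congr rfl fun i hi => ?_
          have hi' := Finset.mem_range.1 hi
          calc f (c i) * (f b * y) ^ i * f b ^ (n - i)
              = f b ^ (i + (n - i)) * (f (c i) * y ^ i) := by ring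
            _ = _ := by rw [Nat.add_sub_cancel' hi'.le]
      _ = 0 := by rw [hy, mul_zero]
  have h1 : f a ^ n + ∑ i ∈ Finset.range n, f (c i) * f a ^ i * f b ^ (n - i) = 1 := by
    simpa only [map_add, map_pow, map_sum, map_mul, map_one] using congrArg f hsum
  have key : f a - f b * y ∣
      (f a ^ n + ∑ i ∈ Finset.range n, f (c i) * f a ^ i * f b ^ (n - i)) -
      ((f b * y) ^ n + ∑ i ∈ Finset.range n, f (c i) * (f b * y) ^ i * f b ^ (n - i)) := by
    rw [add_sub_add_comm, ← Finset.sum_sub_distrib]
    refine dvd_add (sub_dvd_pow_sub_pow _ _ n) (Finset.dvd_sum fun i _ => ?_)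
    rw [← sub_mul, ← mul_sub]
    exact ((sub_dvd_pow_sub_pow _ _ i).mul_left _).mul_right _
  rwa [h0, sub_zero, h1] at key

end Groth.Agent.S0643
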