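import Groth.Statements.S0644
import Groth.Agent.H18Et.Subterminal

set_option autoImplicit false
open CategoryTheory CategoryTheory.Limits AlgebraicGeometry Opposite
universe u
open EtCore

namespace Groth.Agent.S0644

/-- Let F be a sheaf of sets on the small etale site of S which is a subsheaf of the final sheaf, i.e.
every set of sections has at most one element. Then there is exactly one open W of S such that F is
isomorphic to the sheaf represented by W (viewed as a scheme etale over S). -/
theorem result (S : Scheme.{u}) (F : Sheaf S.smallEtaleTopology (Type u))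
    (hF : ∀ U : S.Etale, Subsingleton (F.obj.obj (op U))) :
    ∃! W : S.Opens, Nonempty (F.obj ≅ yoneda.obj (Scheme.Etale.mk W.ι)) := by
  obtain ⟨W, hW⟩ := Groth.Agent.H18Et.Subterminal.exists_open F hF
  have hW' : ∀ Z : S.Etale, Nonempty (F.obj.obj (op Z)) ↔
      Nonempty (Z ⟶ Groth.Agent.H18Et.Subterminal.ofOpen W) :=
    fun Z => (hW Z).trans (Groth.Agent.H18Et.Subterminal.nonempty_hom_iff W Z).symm
  refine ⟨W, Groth.Agent.H18Et.Subterminal.nonempty_iso (fun Z => hF Z.unop)
    (fun Z => inferInstanceAs (Subsingleton (Z.unop ⟶ Groth.Agent.H18Et.Subterminal.ofOpen W))) (fun Z => hW' Z.unop), ?_⟩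
  rintro W₂ ⟨e⟩
  exact (Groth.Agent.H18Et.Subterminal.eq_of_iso hW' W₂ fun Z => (e.app (op Z)).toEquiv.nonempty_congr).symm

end Groth.Agent.S0644
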