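import Groth.Statements.S0645
import Groth.Agent.H1DFun.HenselianBC
-- import your own Groth.Agent.* helpers here

set_option autoImplicit false
open CategoryTheory CategoryTheory.Limits AlgebraicGeometry Opposite
universe u
open EtCore

namespace Groth.Agent.S0645

/-- Let A be a henselian local ring, X the projective line over A, X_0 its closed fibre (base change to
the residue field) and ℓ a prime. Let I be an abelian sheaf on the small etale site of X killed by ℓ
which is injective in the full subcategory of sheaves killed by ℓ (an injective sheaf of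
Z/ℓ-modules). Then the pullback of I to X_0 has vanishing etale cohomology in positive degrees. -/
theorem result (A : Type u) [CommRing A] [HenselianLocalRing A]
    (ℓ : ℕ) [Fact ℓ.Prime] (I : EtCoh.Ab (CohB1.ProjSpace 1 A)) (hI : EtCoh.KilledBy ℓ I)
    (hinj : Injective (ObjectProperty.FullSubcategory.mk (P := fun F : EtCoh.Ab (CohB1.ProjSpace 1 A) => EtCoh.KilledBy ℓ F) I hI))
    (q : ℕ) (hq : 1 ≤ q) :
    Subsingleton (EtCoh.H (pullback (CohB1.ProjSpace.toSpec 1 A) (Spec.map (CommRingCat.ofHom (IsLocalRing.residue A))))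
      ((EtCoh.pull (pullback.fst (CohB1.ProjSpace.toSpec 1 A)
        (Spec.map (CommRingCat.ofHom (IsLocalRing.residue A))))).obj I) q) := by
  obtain ⟨q, rfl⟩ : ∃ i, q = i + 1 := ⟨q - 1, by omega⟩
  have hℓ : ℓ ≠ 0 := (Fact.out : ℓ.Prime).ne_zero
  let X := CohB1.ProjSpace 1 A
  haveI := hinj
  have hL : Groth.Agent.H1DFun.LInj ℓ I := fun G hG a {G'} m hG' hm => by
    let P : ObjectProperty (EtCoh.Ab X) := fun F => EtCoh.KilledBy ℓ F
    let G₁ : P.FullSubcategory := ⟨G, hG⟩
    let G₂ : P.FullSubcategory := ⟨G', hG'⟩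
    let I₀ : P.FullSubcategory := ⟨I, hI⟩
    let m' : G₁ ⟶ G₂ := ObjectProperty.homMk m
    haveI : Mono m' := P.ι.mono_of_mono_map (show Mono m from hm)
    let a' : G₁ ⟶ I₀ := ObjectProperty.homMk a
    exact ⟨(Injective.factorThru a' m').hom, congrArg InducedCategory.Hom.hom (Injective.comp_factorThru a' m')⟩
  let J := Injective.under I
  let ι : I ⟶ kernel (ℓ • 𝟙 J) := kernel.lift _ (Injective.ι I) (Groth.Agent.H1DFun.comp_eq_zero_of_killedBy hI _)
  obtain ⟨r, hr⟩ := hL I hI (𝟙 I) ι (Groth.Agent.H1DFun.killedBy_kernel _ _) (mono_of_mono_fac (kernel.lift_ι _ _ _))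
  haveI : IsProper (CohB1.ProjSpace.toSpec 1 A) := Groth.Agent.H27Weil.isProper_toSpec 1 A
  haveI : CompactSpace X := Groth.Agent.H11Ample.compactSpace_projSpace 1 A
  haveI : QuasiSeparatedSpace X := Groth.Agent.H11Ample.quasiSeparatedSpace_projSpace 1 A
  haveI := Groth.Agent.H1DFun.subsingleton_H_kernel_nsmul J ℓ hℓ q
  have hI0 : Subsingleton (Sheaf.H I (q + 1)) := subsingleton_of_forall_eq 0 fun x => by
    rw [← Sheaf.H.map_id_apply x, ← hr, Sheaf.H.map_comp_apply, Subsingleton.elim (Sheaf.H.map ι (q + 1) x) 0,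
      map_zero]
  exact (Groth.Agent.H1DFun.bijective_hpull_closedFibre A (CohB1.ProjSpace.toSpec 1 A) I
    (Groth.Agent.H1DFun.isTorsion_of_nsmul_id (Fact.out : ℓ.Prime).pos
      ((Groth.Agent.H1DFun.killedBy_iff_nsmul_id ℓ I).1 hI)) (q + 1)).2.subsingleton

end Groth.Agent.S0645
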