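import Groth.Statements.S0648
import Groth.Agent.H18Et.EtaleRestrict
import Mathlib.Algebra.Homology.ShortComplex.ExactFunctor

set_option autoImplicit false
open CategoryTheory CategoryTheory.Limits AlgebraicGeometry Opposite
universe u
open EtCore

namespace Groth.Agent.S0648

/-- For an etale morphism j : U -> X the extension by zero functor j_! on abelian sheaves preserves
finite limits (it is a left adjoint, so it is then exact). (Continuity of the composition functor of
etale sites, which always holds, is carried as an instance hypothesis.) -/
theorem result {U X : Scheme.{u}} (j : U ⟶ X) [AlgebraicGeometry.Etale j] [EtShriek.JCont j] :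
    PreservesFiniteLimits (EtShriek.extZero j) := by
  have hm : (EtShriek.extZero j).PreservesMonomorphisms :=
    Groth.Agent.H18Et.EtaleRestrict.sheafPullback_preservesMonomorphisms j
  haveI := (EtShriek.extZeroAdj j).leftAdjoint_preservesColimits
  haveI : (EtShriek.restrAlong j).Additive := { map_add := by intros; rfl }
  haveI : (EtShriek.extZero j).Additive := (EtShriek.extZeroAdj j).left_adjoint_additive
  have hc : ∀ (S : ShortComplex (EtCoh.Ab U)), S.ShortExact →
      (S.map (EtShriek.extZero j)).Exact ∧ Epi ((EtShriek.extZero j).map S.g) :=
    (EtShriek.extZero j).preservesFiniteColimits_iff_forall_exact_map_and_epi.1 inferInstance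
  have htfae : (∀ (S : ShortComplex (EtCoh.Ab U)), S.ShortExact →
      (S.map (EtShriek.extZero j)).Exact ∧ Mono ((EtShriek.extZero j).map S.f)) ↔
        PreservesFiniteLimits (EtShriek.extZero j) :=
    (EtShriek.extZero j).preservesFiniteLimits_tfae.out 0 3 rfl rfl
  exact htfae.1 fun S hS => ⟨(hc S hS).1, by haveI := hS.mono_f; exact Functor.map_mono _ S.f⟩

end Groth.Agent.S0648
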