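import Groth.Statements.S0650
import Groth.Agent.H15Site.Shriek.EtaleIso
import Mathlib
-- import your own Groth.Agent.* helpers here

set_option autoImplicit false
set_option linter.style.haveILetI false
set_option backward.isDefEq.respectTransparency false
set_option backward.isDefEq.respectTransparency.types false
open CategoryTheory CategoryTheory.Limits AlgebraicGeometry Opposite
universe u
open EtCore

namespace Groth.Agent.S0650

/-- For a separated étale morphism j : U → X there is a natural transformation from extension by zero
j_! to direct image j_*, on abelian sheaves, whose component at every abelian sheaf on the small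
étale site of U is a monomorphism. (Only the existence of such a natural injective comparison map is
stated; the published statement constructs a specific one.) (Continuity of the composition functor
of étale sites, which always holds, is carried as an instance hypothesis.) -/
theorem result {U X : Scheme.{u}} (j : U ⟶ X) [AlgebraicGeometry.Etale j]
    [IsSeparated j] [EtShriek.JCont j] :
    ∃ τ : EtShriek.extZero j ⟶ EtCoh.push j, ∀ F : EtCoh.Ab U, Mono (τ.app F) := by
  let J := X.smallEtaleTopology
  let adj := sheafificationAdjunction J AddCommGrpCat.{u + 1}
  let c : EtShriek.lowerShriek j ⟶ EtCoh.push j :=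
    { app := fun F => EtShriek.lowerShriekToPush j F
      naturality := fun F G α => by
        show (presheafToSheaf J AddCommGrpCat.{u + 1}).map _ ≫ _ = _ ≫ _
        erw [← adj.homEquiv_naturality_left_symm, ← adj.homEquiv_naturality_right_symm]
        refine congrArg _ ?_
        ext V s
        rfl }
  refine ⟨(Groth.Agent.H15Site.Shriek.extZeroIso j).hom ≫ c, fun F => ?_⟩
  haveI : ∀ V, Mono ((EtShriek.lowerShriekPreι j F).app V) := fun V => by
    rw [AddCommGrpCat.mono_iff_injective]
    exact Subtype.val_injective
  haveI : Mono (EtShriek.lowerShriekPreι j F) := NatTrans.mono_of_mono_app _
  haveI : Mono (EtShriek.lowerShriekToPush j F) := by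
    show Mono ((adj.homEquiv _ _).symm _)
    rw [Adjunction.homEquiv_counit]
    haveI : Mono ((presheafToSheaf J AddCommGrpCat.{u + 1}).map (EtShriek.lowerShriekPreι j F)) := inferInstance
    haveI : IsIso adj.counit := inferInstance
    infer_instance
  haveI : Mono (c.app F) := ‹_›
  rw [NatTrans.comp_app]
  infer_instance

end Groth.Agent.S0650
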