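import Groth.Statements.S0658
import Groth.Agent.H06Unram.SmoothQF
import Mathlib.AlgebraicGeometry.Morphisms.Etale
import Mathlib.AlgebraicGeometry.Morphisms.QuasiFinite
import Mathlib.AlgebraicGeometry.Limits
import Mathlib.RingTheory.Etale.Field
import Mathlib.RingTheory.Unramified.Field

set_option autoImplicit false
open CategoryTheory CategoryTheory.Limits AlgebraicGeometry Opposite
universe u
open EtCore

namespace Groth.Agent.S0658

/-- Let k be a field and φ : U → Spec k a morphism of schemes. Then φ is étale if and only if U is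
isomorphic over k to a disjoint union ∐ Spec K_i with each K_i a finite separable field extension of
k. -/
theorem result (k : Type u) [Field k] (U : Scheme.{u}) (φ : U ⟶ Spec (CommRingCat.of k)) :
    AlgebraicGeometry.Etale φ ↔
      ∃ (ι : Type u) (K : ι → Type u) (_ : ∀ i, Field (K i)) (_ : ∀ i, Algebra k (K i))
        (_ : ∀ i, FiniteDimensional k (K i)) (_ : ∀ i, Algebra.IsSeparable k (K i))
        (e : (∐ fun i => Spec (CommRingCat.of (K i))) ≅ U),
        ∀ i, Sigma.ι (fun i => Spec (CommRingCat.of (K i))) i ≫ e.hom ≫ φ =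
          Spec.map (CommRingCat.ofHom (algebraMap k (K i))) := by
  constructor
  · intro _
    haveI : Subsingleton (Spec (CommRingCat.of k)) := inferInstanceAs (Subsingleton (PrimeSpectrum k))
    haveI : LocallyQuasiFinite φ :=
      ((Groth.Agent.H06Unram.etale_iff_smooth_and_locallyQuasiFinite φ).mp inferInstance).2
    haveI : DiscreteTopology U := by
      obtain ⟨y⟩ : Nonempty (Spec (CommRingCat.of k)) := inferInstance
      have h := φ.isDiscrete_preimage_singleton y
      rw [show φ ⁻¹' {y} = Set.univ from Set.eq_univ_of_forall fun x => Subsingleton.elim _ _] at h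
      exact isDiscrete_univ_iff.mp h
    let W : U → U.Opens := fun x => ⟨{x}, isOpen_discrete _⟩
    haveI : ∀ x, Subsingleton (W x : Scheme.{u}) := fun x =>
      ⟨fun a b => Subtype.ext ((Set.mem_singleton_iff.1 a.2).trans (Set.mem_singleton_iff.1 b.2).symm)⟩
    haveI : ∀ x, IsAffine (W x : Scheme.{u}) := fun x => inferInstance
    let χ : ∀ x, CommRingCat.of k ⟶ Γ((W x : Scheme.{u}), ⊤) := fun x =>
      (Scheme.ΓSpecIso (CommRingCat.of k)).inv ≫ ((W x).ι ≫ φ).appTop
    letI A : ∀ x, Algebra k Γ((W x : Scheme.{u}), ⊤) := fun x => (χ x).hom.toAlgebra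
    have het : ∀ x, Algebra.Etale k Γ((W x : Scheme.{u}), ⊤) := fun x => by
      rw [← RingHom.etale_algebraMap]
      exact RingHom.Etale.respectsIso.2 ((W x).ι ≫ φ).appTop.hom
        (Scheme.ΓSpecIso (CommRingCat.of k)).commRingCatIsoToRingEquiv.symm
        (HasRingHomProperty.appTop @Etale ((W x).ι ≫ φ) inferInstance)
    have hfld : ∀ x, IsField Γ((W x : Scheme.{u}), ⊤) := fun x => by
      haveI := het x
      haveI : Module.Finite k Γ((W x : Scheme.{u}), ⊤) := Algebra.FormallyUnramified.finite_of_free _ _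
      haveI : IsReduced Γ((W x : Scheme.{u}), ⊤) := Algebra.FormallyUnramified.isReduced_of_field k _
      haveI : IsArtinianRing Γ((W x : Scheme.{u}), ⊤) := IsArtinianRing.of_finite k _
      haveI : Nonempty (W x : Scheme.{u}) := ⟨⟨x, rfl⟩⟩
      have he : (W x : Scheme.{u}) ≃ PrimeSpectrum Γ((W x : Scheme.{u}), ⊤) :=
        (Scheme.homeoOfIso (W x : Scheme.{u}).isoSpec).toEquiv
      haveI : Subsingleton (PrimeSpectrum Γ((W x : Scheme.{u}), ⊤)) := he.symm.subsingleton
      haveI : Nonempty (PrimeSpectrum Γ((W x : Scheme.{u}), ⊤)) := he.symm.nonempty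
      haveI : IsLocalRing Γ((W x : Scheme.{u}), ⊤) := by
        obtain ⟨p⟩ : Nonempty (PrimeSpectrum Γ((W x : Scheme.{u}), ⊤)) := inferInstance
        haveI : Nontrivial Γ((W x : Scheme.{u}), ⊤) :=
          ⟨0, 1, fun h => p.2.ne_top ((Ideal.eq_top_iff_one _).2 (h ▸ zero_mem _))⟩
        obtain ⟨m, hm⟩ := Ideal.exists_maximal Γ((W x : Scheme.{u}), ⊤)
        exact IsLocalRing.of_unique_max_ideal ⟨m, hm, fun m' hm' => congrArg PrimeSpectrum.asIdeal
          (Subsingleton.elim (⟨m', hm'.isPrime⟩ : PrimeSpectrum _) ⟨m, hm.isPrime⟩)⟩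
      exact IsArtinianRing.isField_of_isReduced_of_isLocalRing _
    refine ⟨U, fun x => Γ((W x : Scheme.{u}), ⊤), fun x => (hfld x).toField, A,
      fun x => ?_, fun x => ?_, ?_⟩
    · haveI := het x
      exact Algebra.FormallyUnramified.finite_of_free _ _
    · haveI := het x
      letI := (hfld x).toField
      exact Algebra.FormallyUnramified.isSeparable k _
    let g : ∀ x : U, Spec (CommRingCat.of Γ((W x : Scheme.{u}), ⊤)) ⟶ U := fun x =>
      (W x : Scheme.{u}).isoSpec.inv ≫ (W x).ι
    have hr : ∀ x, (g x).opensRange = W x := fun x => by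
      ext1
      change Set.range ((W x : Scheme.{u}).isoSpec.inv ≫ (W x).ι) = (W x : Set U)
      rw [Scheme.Hom.comp_base, TopCat.coe_comp, Set.range_comp,
        Set.range_eq_univ.2 (W x : Scheme.{u}).isoSpec.inv.surjective, Set.image_univ,
        Scheme.Opens.range_ι]
    obtain ⟨hc⟩ := nonempty_isColimit_cofanMk_of g
      (top_le_iff.1 fun y _ => TopologicalSpace.Opens.mem_iSup.2 ⟨y, by rw [hr]; rfl⟩)
      (fun x y hxy => by
        rw [Function.onFun, hr, hr, disjoint_iff]
        ext z
        refine ⟨fun h => absurd (h.1.symm.trans h.2) hxy, fun h => h.elim⟩)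
    refine ⟨(colimit.isColimit _).coconePointUniqueUpToIso hc, fun x => ?_⟩
    rw [← Category.assoc]
    erw [IsColimit.comp_coconePointUniqueUpToIso_hom (colimit.isColimit _) hc ⟨x⟩]
    change ((W x : Scheme.{u}).isoSpec.inv ≫ (W x).ι) ≫ φ = Spec.map (χ x)
    rw [Category.assoc, Iso.inv_comp_eq]
    simp only [χ, Spec.map_comp, Scheme.isoSpec_hom]
    rw [← Category.assoc, ← Scheme.toSpecΓ_naturality, Category.assoc, toSpecΓ_SpecMap_ΓSpecIso_inv]
    exact (Category.comp_id _).symm
  · rintro ⟨ι, K, _, _, _, _, e, he⟩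
    suffices Etale (e.hom ≫ φ) by
      rwa [MorphismProperty.cancel_left_of_respectsIso @Etale] at this
    refine IsZariskiLocalAtSource.of_openCover (P := @Etale)
      (sigmaOpenCover fun i => Spec (CommRingCat.of (K i))) fun i => ?_
    change Etale (Sigma.ι (fun i => Spec (CommRingCat.of (K i))) i ≫ e.hom ≫ φ)
    rw [he i, HasRingHomProperty.Spec_iff (P := @Etale), CommRingCat.hom_ofHom,
      RingHom.etale_algebraMap]
    haveI : Algebra.FormallyEtale k (K i) := Algebra.FormallyEtale.of_isSeparable _ _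
    exact { formallyEtale := inferInstance, finitePresentation := Algebra.FinitePresentation.of_finiteType.mp inferInstance }

end Groth.Agent.S0658
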