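import Groth.Statements.S0660
import Groth.Agent.H18Et.PropAB
-- import your own Groth.Agent.* helpers here

set_option autoImplicit false
set_option linter.style.haveILetI false
set_option backward.isDefEq.respectTransparency false
set_option backward.isDefEq.respectTransparency.types false
open CategoryTheory CategoryTheory.Limits AlgebraicGeometry Opposite
universe u
open EtCore

namespace Groth.Agent.S0660

/-- Let i : Z -> X be a closed immersion, U and U' schemes etale over X, and h a Z-morphism from U x_X Z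
to U' x_X Z. Then there are an etale X-scheme W and X-morphisms a : W -> U, b : W -> U' such that
the base change of a to Z is an isomorphism and h is the base change of b composed with the inverse
of the base change of a. -/
theorem result {Z X : Scheme.{u}} (i : Z ⟶ X) [IsClosedImmersion i] (U U' : X.Etale)
    (h : (EtCoh.bc i).obj U ⟶ (EtCoh.bc i).obj U') :
    ∃ (W : X.Etale) (a : W ⟶ U) (b : W ⟶ U'), IsIso ((EtCoh.bc i).map a) ∧ (EtCoh.bc i).map a ≫ h = (EtCoh.bc i).map b := by
  classical
  haveI : Etale U.hom := U.prop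
  haveI : Etale U'.hom := U'.prop
  let P : X.Etale := Scheme.Etale.mk (pullback.fst U.hom U'.hom ≫ U.hom)
  let π₁ : P ⟶ U := MorphismProperty.Over.homMk (pullback.fst U.hom U'.hom) rfl
  let π₂ : P ⟶ U' := MorphismProperty.Over.homMk (pullback.snd U.hom U'.hom) pullback.condition.symm
  have hh : h.left ≫ pullback.snd U'.hom i = pullback.snd U.hom i := Over.w h.hom
  let s : (EtCoh.bc i).obj U ⟶ (EtCoh.bc i).obj P :=
    MorphismProperty.Over.homMk (pullback.lift (pullback.lift (pullback.fst U.hom i) (h.left ≫ pullback.fst U'.hom i)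
      (by rw [Category.assoc, pullback.condition (f := U'.hom), reassoc_of% hh]; exact pullback.condition))
      (pullback.snd U.hom i) (by
        show _ ≫ pullback.fst U.hom U'.hom ≫ U.hom = _
        rw [pullback.lift_fst_assoc]
        exact pullback.condition)) (pullback.lift_snd _ _ _)
  have hπl : ∀ {A B : X.Etale} (t : A ⟶ B), ((EtCoh.bc i).map t).left ≫ pullback.fst B.hom i =
      pullback.fst A.hom i ≫ t.left := fun t => pullback.lift_fst _ _ _
  have hπr : ∀ {A B : X.Etale} (t : A ⟶ B), ((EtCoh.bc i).map t).left ≫ pullback.snd B.hom i =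
      pullback.snd A.hom i := fun t => pullback.lift_snd _ _ _
  have hs₁ : s ≫ (EtCoh.bc i).map π₁ = 𝟙 _ := MorphismProperty.Over.Hom.ext (by
    show s.left ≫ ((EtCoh.bc i).map π₁).left = 𝟙 _
    refine pullback.hom_ext ?_ ?_
    · rw [Category.assoc, hπl]; simp [s, π₁]
    · rw [Category.assoc, hπr]; simp [s])
  have hs₂ : s ≫ (EtCoh.bc i).map π₂ = h := MorphismProperty.Over.Hom.ext (by
    show s.left ≫ ((EtCoh.bc i).map π₂).left = h.left
    refine pullback.hom_ext ?_ ?_
    · rw [Category.assoc, hπl]; simp [s, π₂]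
    · rw [Category.assoc, hπr, hh]; simp [s])
  haveI : Mono s.left := by
    have : IsSplitMono s.left := ⟨⟨((EtCoh.bc i).map π₁).left, congrArg (fun t => t.left) hs₁⟩⟩
    infer_instance
  haveI : Etale s.left := inferInstance
  haveI : IsOpenImmersion s.left := IsOpenImmersion.of_flat_of_mono _
  let cl : pullback P.hom i ⟶ P.left := pullback.fst P.hom i
  have hC : IsClosed (cl.base '' ((Set.range s.left.base)ᶜ : Set ↥(pullback P.hom i))) :=
    cl.isClosedEmbedding.isClosedMap _ s.left.isOpenEmbedding.isOpen_range.isClosed_compl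
  let O : P.left.Opens := ⟨_, hC.isOpen_compl⟩
  let W : X.Etale := Scheme.Etale.mk (O.ι ≫ P.hom)
  let o : W ⟶ P := MorphismProperty.Over.homMk O.ι rfl
  let oB := (EtCoh.bc i).map o
  haveI : Mono oB.left := ⟨fun {T} g₁ g₂ e => pullback.hom_ext
    ((cancel_mono O.ι).1 (by
      have e1 := congrArg (· ≫ pullback.fst P.hom i) e
      simp only [Category.assoc] at e1
      erw [hπl o] at e1
      simpa [o] using e1)) (by
      have e1 := congrArg (· ≫ pullback.snd P.hom i) e
      simp only [Category.assoc] at e1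
      erw [hπr o] at e1
      exact e1)⟩
  haveI : Mono oB := ⟨fun g₁ g₂ e => MorphismProperty.Over.Hom.ext
    ((cancel_mono oB.left).1 (congrArg (fun t => t.left) e))⟩
  have hr : Set.range (s.left ≫ cl).base ⊆ Set.range O.ι.base := by
    rintro _ ⟨x, rfl⟩
    rw [Scheme.Opens.range_ι]
    rintro ⟨y, hy, e⟩
    exact hy ⟨x, (cl.isClosedEmbedding.injective (e.trans (Scheme.Hom.comp_apply _ _ _))).symm⟩
  let l₀ := IsOpenImmersion.lift O.ι (s.left ≫ cl) hr
  let s' : (EtCoh.bc i).obj U ⟶ (EtCoh.bc i).obj W :=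
    MorphismProperty.Over.homMk (pullback.lift l₀ (pullback.snd U.hom i) (by
      show l₀ ≫ O.ι ≫ P.hom = _
      rw [IsOpenImmersion.lift_fac_assoc, Category.assoc, pullback.condition]
      exact (Category.assoc _ _ _).symm.trans (congrArg (· ≫ i) (Over.w s.hom)))) (pullback.lift_snd _ _ _)
  have hs' : s' ≫ oB = s := MorphismProperty.Over.Hom.ext (by
    show s'.left ≫ oB.left = s.left
    refine pullback.hom_ext ?_ ?_
    · rw [Category.assoc, hπl o]
      show pullback.lift l₀ _ _ ≫ pullback.fst W.hom i ≫ O.ι = _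
      rw [pullback.lift_fst_assoc, IsOpenImmersion.lift_fac]
    · rw [Category.assoc, hπr o]
      exact (pullback.lift_snd _ _ _).trans (Over.w s.hom).symm)
  have hro : Set.range oB.left.base ⊆ Set.range s.left.base := by
    rintro _ ⟨x, rfl⟩
    by_contra hx
    have e : oB.left ≫ cl = pullback.fst W.hom i ≫ O.ι := hπl o
    exact ((pullback.fst W.hom i).base x).2 ⟨oB.left.base x, hx,
      (Scheme.Hom.comp_apply _ _ _).symm.trans ((congrArg (fun t => t.base x) e).trans (Scheme.Hom.comp_apply _ _ _))⟩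
  have hback : oB ≫ (EtCoh.bc i).map π₁ ≫ s = oB := MorphismProperty.Over.Hom.ext (by
    show oB.left ≫ ((EtCoh.bc i).map π₁).left ≫ s.left = oB.left
    rw [← IsOpenImmersion.lift_fac s.left oB.left hro, Category.assoc,
      reassoc_of% (show s.left ≫ ((EtCoh.bc i).map π₁).left = 𝟙 _ from congrArg (fun t => t.left) hs₁)])
  have h1 : s' ≫ (EtCoh.bc i).map (o ≫ π₁) = 𝟙 _ := by rw [Functor.map_comp, reassoc_of% hs', hs₁]
  have h2 : (EtCoh.bc i).map (o ≫ π₁) ≫ s' = 𝟙 _ := by
    rw [← cancel_mono oB, Category.assoc, hs', Functor.map_comp, Category.assoc, hback, Category.id_comp]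
  haveI hiso : IsIso ((EtCoh.bc i).map (o ≫ π₁)) := ⟨s', h2, h1⟩
  haveI : IsIso s' := ⟨(EtCoh.bc i).map (o ≫ π₁), h1, h2⟩
  refine ⟨W, o ≫ π₁, o ≫ π₂, hiso, ?_⟩
  rw [← cancel_epi s', reassoc_of% h1, Functor.map_comp (EtCoh.bc i) o π₂, reassoc_of% hs', hs₂]

end Groth.Agent.S0660
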