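import Groth.Statements.S0662
import Groth.Agent.H05EGA4.EtCl.Fin.Count
import Groth.Agent.H05EGA4.EtCl.Fin.Divisor
import Groth.Agent.H29Jac.Jacobian

set_option autoImplicit false
open CategoryTheory CategoryTheory.Limits AlgebraicGeometry Opposite
universe u
open EtCore

namespace Groth.Agent.S0662

open Groth.Agent.H05EGA4.EtCl

attribute [local instance] Groth.Agent.H28Vert.picLaw

theorem genericPoint_mem {k : Type u} [Field k] {X : Scheme.{u}} (f : X ⟶ Spec (CommRingCat.of k))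
    [LocallyOfFiniteType f] [IsIntegral X] (hdim : topologicalKrullDim X = 1) (U : X.Opens)
    (hUc : ((U : Set X)ᶜ).Finite) : genericPoint X ∈ U := by
  by_contra h
  have huniv : (U : Set X)ᶜ = Set.univ := Set.eq_univ_of_univ_subset (by
    rw [← genericPoint_spec X |>.def]
    exact U.2.isClosed_compl.closure_subset_iff.2 (Set.singleton_subset_iff.2 h))
  haveI : Finite X := Set.finite_univ_iff.1 (huniv ▸ hUc)
  haveI : JacobsonSpace X := LocallyOfFiniteType.jacobsonSpace f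
  haveI : DiscreteTopology X := JacobsonSpace.discreteTopology (Set.toFinite _)
  have h0 := topologicalKrullDim_zero_of_discreteTopology X
  rw [hdim] at h0
  exact (not_le.2 zero_lt_one) h0

/-- Let k be an algebraically closed field, Xb a smooth proper curve over k of genus g (the k-dimension
of H^1 of the structure sheaf), U the open complement of r ≥ 1 closed points of Xb (an affine smooth
curve with its smooth proper compactification) and n ≥ 1 invertible in k. Then H^1 of U with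
coefficients in the sheaf of n-th roots of unity is (noncanonically) isomorphic to (Z/n)^(2g + r -
1). -/
theorem result (k : Type u) [Field k] [IsAlgClosed k] (Xb : Scheme.{u})
    [Xb.Over (Spec (CommRingCat.of k))] (hXb : Curve.IsSmoothProperCurve k Xb (Xb ↘ Spec (CommRingCat.of k)))
    (g : ℕ) (hg : Module.finrank k (Coh.HH Xb (Coh.structureModule Xb) 1) = g)
    (U : Xb.Opens) (r : ℕ) (hr : 1 ≤ r) (hUc : ((U : Set Xb)ᶜ).Finite) (hUr : Nat.card ↥((U : Set Xb)ᶜ) = r)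
    (n : ℕ) (hn : 1 ≤ n) (hnk : (n : k) ≠ 0) :
    Nonempty (EtCoh.H (↑U : Scheme.{u}) (EtCoh.mu ↑U n) 1 ≃+ (Fin (2 * g + r - 1) → ZMod n)) := by
  obtain ⟨hp, hs, hint, hdim⟩ := id hXb
  haveI := hp; haveI := hs; haveI := hint
  let f := Xb ↘ Spec (CommRingCat.of k)
  haveI : IsLocallyNoetherian Xb := LocallyOfFiniteType.isLocallyNoetherian f
  haveI : CompactSpace Xb := QuasiCompact.compactSpace_of_compactSpace f
  haveI : AlgebraicGeometry.IsNoetherian Xb := {}
  have hη := genericPoint_mem f hdim U hUc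
  haveI : Nonempty (U : Scheme.{u}) := ⟨⟨_, hη⟩⟩
  haveI : IsIntegral (U : Scheme.{u}) := isIntegral_of_isOpenImmersion U.ι
  haveI : Fintype ↥((U : Set Xb)ᶜ) := hUc.fintype
  haveI : Nonempty ↥((U : Set Xb)ᶜ) := (Nat.card_pos_iff.1 (by omega : 0 < Nat.card ↥((U : Set Xb)ᶜ))).1
  obtain ⟨δ, ψ, φ, hδ, hδψ, hr', hψ, hφ, hA⟩ := Fin.exists_divisor_sequence hXb U hη
  let h := U.ι ≫ f
  have hmk : ∀ m, m ∣ n → 1 ≤ m ∧ (m : k) ≠ 0 := fun m hm =>
    ⟨Nat.pos_of_dvd_of_pos hm hn, fun h0 => hnk (by obtain ⟨c, rfl⟩ := hm; rw [Nat.cast_mul, h0, zero_mul])⟩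
  have e : ∀ m, m ∣ n → ∀ i, Nat.card (EtCoh.H (U : Scheme.{u}) (EtCoh.const ↑U (ZMod m)) i) =
      Nat.card (EtCoh.H (U : Scheme.{u}) (EtCoh.mu ↑U m) i) := fun m hm i => by
    obtain ⟨eμ⟩ := Fin.mu_iso_const h (hmk m hm).1 (hmk m hm).2
    exact Nat.card_congr ((Sheaf.functorH _ i).mapIso eμ.symm).addCommGroupIsoToAddEquiv.toEquiv
  -- transport of units
  let eU : Additive Γ((U : Scheme.{u}), ⊤)ˣ ≃+ Additive Γ(Xb, U)ˣ :=
    MulEquiv.toAdditive (Units.mapEquiv U.topIso.commRingCatIsoToRingEquiv.toMulEquiv)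
  have hP : ∀ m, m ∣ n →
      Nat.card (nsmulAddMonoidHom m : Additive (PicLoc.PicSet Xb) →+ _).ker = m ^ (2 * g) := fun m hm => by
    rw [← hg]
    refine Eq.trans ?_ (Groth.Agent.H29Jac.card_pic_torsion k hXb (hmk m hm).2)
    refine Nat.card_congr
      { toFun := fun c => ⟨(Additive.toMul c.1).1, ?_⟩
        invFun := fun c => ⟨Additive.ofMul ⟨c.1, c.2.choose, c.2.choose_spec.1, c.2.choose_spec.2.1⟩, ?_⟩
        left_inv := fun c => rfl
        right_inv := fun c => rfl }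
    · obtain ⟨L, hL, hLc⟩ := PicGrp.exists_eq_cls (Additive.toMul c.1)
      refine ⟨L, (congrArg Subtype.val hLc).symm, hL, (PicGrp.cl_eq_cl_iff _ _).1 ?_⟩
      rw [← PicGrp.cls_pow_val hL m, ← hLc, ← toMul_nsmul, show m • c.1 = 0 from c.2, toMul_zero, PicGrp.one_val]
    · obtain ⟨hc, hi, hM⟩ := c.2.choose_spec
      refine AddMonoidHom.mem_ker.2 ?_
      rw [nsmulAddMonoidHom_apply]
      rw [show (⟨c.1, c.2.choose, hc, hi⟩ : PicLoc.PicSet Xb) = PicGrp.cls c.2.choose hi from Subtype.ext hc.symm,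
        ← ofMul_pow, ← ofMul_one]
      refine congrArg Additive.ofMul (Subtype.ext ?_)
      rw [PicGrp.cls_pow_val hi m, PicGrp.one_val]
      exact (PicGrp.cl_eq_cl_iff _ _).2 hM
  have h0 : ∀ m, m ∣ n → Nat.card (EtCoh.H (U : Scheme.{u}) (EtCoh.const ↑U (ZMod m)) 0) = m := fun m hm => by
    obtain ⟨e0⟩ := Fin.nonempty_H_zero_mu h (hmk m hm).1 (hmk m hm).2
    rw [e m hm, Nat.card_congr e0.toEquiv]
    haveI : NeZero m := ⟨Nat.one_le_iff_ne_zero.1 (hmk m hm).1⟩
    haveI : NeZero (m : k) := ⟨(hmk m hm).2⟩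
    obtain ⟨ζ, hζ⟩ := HasEnoughRootsOfUnity.exists_primitiveRoot k m
    exact hζ.card_rootsOfUnity
  have h1 : ∀ m, m ∣ n →
      Nat.card (EtCoh.H (U : Scheme.{u}) (EtCoh.const ↑U (ZMod m)) 1) = m ^ (2 * g + r - 1) := fun m hm => by
    haveI : NeZero m := ⟨Nat.one_le_iff_ne_zero.1 (hmk m hm).1⟩
    rw [e m hm, Fin.card_H_one_mu (Fin.kummer_exact h (hmk m hm).2)]
    rw [Fin.card_units_mul_torsion δ ψ (Fin.resPic U) (φ.comp eU.toAddMonoidHom) hδ hδψ hr' hψ
      (by rw [AddMonoidHom.range_comp, AddMonoidHom.range_eq_top.2 (show Function.Surjective eU.toAddMonoidHom from eU.surjective)]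
          exact φ.range_eq_map.symm.trans hφ)
      (fun a ha i hi => by
        obtain ⟨b, hb⟩ := hA (eU a) ha i hi
        exact ⟨eU.symm b, by rw [← map_nsmul, hb, AddEquiv.symm_apply_apply]⟩) m,
      hP m hm, ← Nat.card_eq_fintype_card, hUr, ← pow_add]
    congr 1
    omega
  obtain ⟨e1⟩ := Fin.nonempty_H_one_const_free (Y := (U : Scheme.{u})) n (2 * g + r - 1) hn h0 h1
  obtain ⟨eμ⟩ := Fin.mu_iso_const h hn hnk
  exact ⟨((Sheaf.functorH _ 1).mapIso eμ).addCommGroupIsoToAddEquiv.trans e1⟩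

end Groth.Agent.S0662
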