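import Groth.Statements.S0663
import Groth.Agent.H05EGA4.EtCl.Fin.Kummer
import Groth.Agent.H05EGA4.EtCl.Fin.Main

set_option autoImplicit false
open CategoryTheory CategoryTheory.Limits AlgebraicGeometry Opposite
universe u
open EtCore

namespace Groth.Agent.S0663

/-- Let k be an algebraically closed field, Xb a smooth proper curve over k, U the open complement of r
≥ 1 closed points of Xb and n ≥ 1 invertible in k. Then the global sections of the sheaf of n-th
roots of unity on U form a group isomorphic to the n-th roots of unity of k, and H^q(U, μ_n)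
vanishes for q ≥ 2. -/
theorem result (k : Type u) [Field k] [IsAlgClosed k] (Xb : Scheme.{u})
    [Xb.Over (Spec (CommRingCat.of k))] (hXb : Curve.IsSmoothProperCurve k Xb (Xb ↘ Spec (CommRingCat.of k)))
    (U : Xb.Opens) (r : ℕ) (hr : 1 ≤ r) (hUc : ((U : Set Xb)ᶜ).Finite) (hUr : Nat.card ↥((U : Set Xb)ᶜ) = r)
    (n : ℕ) (hn : 1 ≤ n) (hnk : (n : k) ≠ 0) :
    Nonempty (EtCoh.H (↑U : Scheme.{u}) (EtCoh.mu ↑U n) 0 ≃+ Additive ↥(rootsOfUnity n k)) ∧
    ∀ q : ℕ, 2 ≤ q → Subsingleton (EtCoh.H (↑U : Scheme.{u}) (EtCoh.mu ↑U n) q) := by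
  open Groth.Agent.H05EGA4.EtCl.Fin in
  obtain ⟨hp, hs, hint, hdim⟩ := id hXb
  haveI := hp; haveI := hs; haveI := hint
  let f := Xb ↘ Spec (CommRingCat.of k)
  haveI : AlgebraicGeometry.IsNoetherian Xb := Groth.Agent.H29RR.isNoetherian_of_proper (k := k) (X := Xb)
  haveI hFin : Finite ↥((U : Set Xb)ᶜ) := hUc.to_subtype
  obtain ⟨⟨P, hPU⟩⟩ : Nonempty ↥((U : Set Xb)ᶜ) := (Nat.card_pos_iff.1 (by omega)).1
  haveI : JacobsonSpace Xb := LocallyOfFiniteType.jacobsonSpace f
  have hU : genericPoint Xb ∈ U := by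
    by_contra hne
    have hall : (Set.univ : Set Xb) ⊆ (U : Set Xb)ᶜ := fun x _ hx =>
      hne (((genericPoint_spec Xb).specializes trivial).mem_open U.2 hx)
    haveI : Finite Xb := Set.finite_univ_iff.1 (hUc.subset hall)
    have h0 := topologicalKrullDim_zero_of_discreteTopology Xb
    rw [hdim] at h0
    exact absurd h0 (by norm_num)
  have hPc : IsClosed ({P} : Set Xb) :=
    Groth.Agent.H05EGA4.EtCl.isClosed_of_dim_le_one hdim.le fun hm => hPU (by
      rw [← hm (genericPoint Xb) ((genericPoint_spec Xb).specializes trivial)]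
      exact hU)
  let g : (U : Scheme.{u}) ⟶ Spec (CommRingCat.of k) := U.ι ≫ f
  haveI : Nonempty (U : Scheme.{u}) := ⟨⟨_, hU⟩⟩
  haveI : IsIntegral (U : Scheme.{u}) := isIntegral_of_isOpenImmersion U.ι
  haveI : AlgebraicGeometry.IsNoetherian (U : Scheme.{u}) := Groth.Agent.H05EGA4.EtCl.Fin.isNoetherian_over_field g
  haveI : LocallyOfFiniteType g := inferInstance
  have hdimU : topologicalKrullDim (U : Scheme.{u}) ≤ 1 :=
    (U.ι.isEmbedding.isInducing.topologicalKrullDim_le).trans hdim.le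
  refine ⟨nonempty_H_zero_mu g hn hnk, fun q hq => ?_⟩
  letI : PicGrp.Law Xb := Groth.Agent.H28Vert.picLaw Xb
  letI : PicGrp.Law (U : Scheme.{u}) := Groth.Agent.H28Vert.picLaw _
  have hS := kummer_exact g hnk
  rcases (show q = 2 ∨ 3 ≤ q by omega) with rfl | hq3
  · have hnorm : Pi1.IsNormalScheme Xb := Groth.Agent.H28Neron.isNormalScheme_of_smooth f
      (Groth.Agent.H06Norm.isNormalScheme_Spec_isField _ (Field.toIsField k))
    have hsurj : Function.Surjective (PicGrp.pullHom U.ι (Groth.Agent.H28Vert.pullMul U.ι)) := fun c => by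
      obtain ⟨a, ha⟩ := resPic_surjective hnorm hdim.le U hU (Additive.ofMul c)
      exact ⟨Additive.toMul a, congrArg Additive.toMul ha⟩
    obtain ⟨ψ⟩ := nonempty_H_two_mu_equiv hS
      (Groth.Agent.H05EGA4.EtCl.subsingleton_H_Gm_curve g hdimU 0)
      (0 : Additive (PicLoc.PicSet (U : Scheme.{u})) →+ PUnit.{1})
      (fun z => ⟨0, Subsingleton.elim _ _⟩)
      (fun c => ⟨fun _ => exists_nsmul_eq_pic_open hXb U P hPc hPU hsurj n (by omega) c, fun _ => rfl⟩)
    exact ψ.injective.subsingleton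
  · refine Groth.Agent.S0203.result k (U : Scheme.{u}) g hdimU (EtCoh.mu _ n) (fun V s x => ?_) q (by omega)
    refine ⟨V, 𝟙 V, ⟨x, rfl⟩, isOfFinAddOrder_iff_nsmul_eq_zero.2 ⟨n, by omega, ?_⟩⟩
    exact Groth.Agent.H18Et.MuConst.muι_injective n V
      (by rw [map_nsmul, Groth.Agent.H18Et.MuConst.nsmul_muι, map_zero])

end Groth.Agent.S0663
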