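import Groth.Statements.S0664
import Groth.Agent.H11SetBC.Products

set_option autoImplicit false
open CategoryTheory CategoryTheory.Limits AlgebraicGeometry Opposite
universe u
open EtCore

namespace Groth.Agent.S0664

/-- Let f : X -> S be a flat morphism that is locally of finite presentation and whose fibres are
geometrically reduced. Then the pullback functor f^{-1} on abelian sheaves on the small etale sites
preserves products indexed by any type in the universe of the schemes. (The source states this for
sheaves of sets; products and pullbacks of abelian sheaves are computed on underlying sheaves of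
sets.) -/
theorem result {X S : Scheme.{u}} (f : X ⟶ S) [Flat f]
    [LocallyOfFinitePresentation f] [GeometricallyReduced f] (ι : Type u) :
    PreservesLimitsOfShape (Discrete ι) (EtCoh.pull f) := by
  refine H11SetBC.Products.preservesLimitsOfShape_pull f (fun U u => ?_) ι
  haveI : Etale U.hom := U.prop
  haveI : GeometricallyReduced (U.hom ≫ f) := H11SetBC.Products.geometricallyReduced_etale_comp f U.hom
  obtain ⟨X', S', a, b, c, ha, hu, hc, w, -, -, hb, -, hg, -⟩ := S1361.result (U.hom ≫ f) u
  haveI : Etale (a ≫ U.hom) := inferInstance
  let U' : X.Etale := Scheme.Etale.mk (a ≫ U.hom)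
  refine ⟨U', MorphismProperty.Over.homMk a rfl trivial, Scheme.Etale.mk c, b, hu, ?_, hb, hg⟩
  show b ≫ c = (a ≫ U.hom) ≫ f
  rw [Category.assoc]
  exact w.symm

end Groth.Agent.S0664
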