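import Groth.Statements.S0686
import Groth.Agent.H15Site.Shriek.EtaleIso
import Groth.Agent.H15Site.Shriek.Comp

set_option autoImplicit false
set_option linter.style.haveILetI false
set_option linter.overlappingInstances false
set_option backward.isDefEq.respectTransparency false
set_option backward.isDefEq.respectTransparency.types false
open CategoryTheory CategoryTheory.Limits AlgebraicGeometry Opposite
universe u
open EtShriek

namespace Groth.Agent.S0686

/-- Let j : X -> Xbar be an open immersion and fbar : Xbar -> Y proper, f = fbar o j. Then f_! is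
isomorphic to fbar_* o j_! as functors on abelian etale sheaves. (The source's isomorphism is
canonical; here existence.) -/
theorem result {X Xb Y : Scheme.{u}} (j : X ⟶ Xb) [IsOpenImmersion j]
    (fb : Xb ⟶ Y) [IsProper fb] (f : X ⟶ Y) (hf : f = j ≫ fb) [EtShriek.JCont j] :
    Nonempty (EtShriek.lowerShriek f ≅ EtShriek.extZero j ⋙ EtCoh.push fb) := by
  subst hf
  exact ⟨(Groth.Agent.H15Site.Shriek.lowerShriekCompIso j fb).symm ≪≫
    Functor.isoWhiskerRight (Groth.Agent.H15Site.Shriek.extZeroIso j).symm _ ≪≫
    Functor.isoWhiskerLeft _ (Groth.Agent.H15Site.Shriek.shriekPushIso fb)⟩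

end Groth.Agent.S0686
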