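import Groth.Statements.S0688
import Groth.Agent.H15Site.Shriek.StalkH0c
-- import your own Groth.Agent.* helpers here

set_option autoImplicit false
set_option backward.isDefEq.respectTransparency false
set_option backward.isDefEq.respectTransparency.types false
open CategoryTheory CategoryTheory.Limits AlgebraicGeometry Opposite
universe u
open EtShriek

namespace Groth.Agent.S0688

/-- Let f : X → Y be separated and locally of finite type, F an abelian sheaf on X_ét and ȳ : Spec k → Y
a geometric point (k algebraically closed), with fibre X_ȳ = X ×_Y Spec k. Then the stalk (f_! F)_ȳ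
of the direct image with proper support is isomorphic to H⁰_c(X_ȳ, F|X_ȳ), the group of sections
with proper support over the geometric fibre. (Only the existence of an isomorphism of groups is
asserted; the published isomorphism is a specific canonical one.) -/
theorem result {X Y : Scheme.{u}} (f : X ⟶ Y) [IsSeparated f] [LocallyOfFiniteType f]
    (F : EtCoh.Ab X) {Ω : Type u} [Field Ω] [IsAlgClosed Ω] (η : Spec (CommRingCat.of Ω) ⟶ Y)
    [EtCoh.BCCont (pullback.fst f η)] :
    Nonempty ((EtCoh.stalk η).obj ((EtShriek.lowerShriek f).obj F) ≅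
      AddCommGrpCat.of (EtShriek.H0c (pullback.snd f η) ((EtCoh.pull (pullback.fst f η)).obj F))) := by
  have hc : IsPullback (pullback.fst f η) (pullback.snd f η) f η := IsPullback.of_hasPullback f η
  let S := Spec (CommRingCat.of Ω)
  let f' := pullback.snd f η
  let F' := (EtCoh.pull (pullback.fst f η)).obj F
  haveI := Groth.Agent.H15Site.Shriek.bc_main f η f' (pullback.fst f η) hc F
  let G := (Groth.Agent.H15Site.Shriek.shriek f').obj F'
  let z : (Scheme.pointSmallEtale (𝟙 S)).fiber.obj (EtCoh.top S) := Over.homMk (𝟙 S) (Category.id_comp _)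
  haveI : IsIso (Groth.Agent.H18Et.germ (𝟙 S) G (EtCoh.top S) z) :=
    (ConcreteCategory.isIso_iff_bijective _).2 (Groth.Agent.H15Site.Shriek.bijective_germ_top G z)
  obtain ⟨ψ⟩ := Groth.Agent.H15Site.Shriek.nonempty_shriekTop_equiv f' F'
  have e₀ : (EtCoh.stalk (𝟙 S ≫ η)).obj ((Groth.Agent.H15Site.Shriek.shriek f).obj F) ≅
      (EtCoh.stalk η).obj ((Groth.Agent.H15Site.Shriek.shriek f).obj F) := eqToIso (by rw [Category.id_comp])
  exact ⟨(EtCoh.stalk η).mapIso ((Groth.Agent.H15Site.Shriek.shriekIso f).app F) ≪≫ e₀.symm ≪≫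
    ((Groth.Agent.H18Et.stalkPullIso η (𝟙 S)).app _).symm ≪≫
    (EtCoh.stalk (𝟙 S)).mapIso (asIso ((Groth.Agent.H15Site.Shriek.bcHom hc).app F)) ≪≫
    (asIso (Groth.Agent.H18Et.germ (𝟙 S) G (EtCoh.top S) z)).symm ≪≫ ψ.toAddCommGrpIso⟩

end Groth.Agent.S0688
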