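import Groth.Statements.S0689
import Groth.Agent.H15Site.Shriek.Coprod
import Groth.Agent.H15Site.Shriek.Exact
import Mathlib.CategoryTheory.Adjunction.AdjointFunctorTheorems
import Mathlib.CategoryTheory.Limits.Constructions.LimitsOfProductsAndEqualizers

set_option autoImplicit false
set_option linter.style.haveILetI false
set_option linter.overlappingInstances false
set_option backward.isDefEq.respectTransparency false
set_option backward.isDefEq.respectTransparency.types false
open CategoryTheory CategoryTheory.Limits AlgebraicGeometry Opposite
universe u
open EtShriek

namespace Groth.Agent.S0689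

/-- Suppose f : X → Y is a separated morphism of schemes that is locally of finite type and locally
quasi-finite. Then the functor f_! of direct image with proper support on abelian étale sheaves (for
separated f, a subsheaf of the ordinary direct image) admits a right adjoint; that is, f_! is a left
adjoint. -/
theorem result {X Y : Scheme.{u}} (f : X ⟶ Y) [IsSeparated f]
    [LocallyOfFiniteType f] [LocallyQuasiFinite f] :
    (EtShriek.lowerShriek f).IsLeftAdjoint := by
  obtain ⟨-, h2⟩ := Groth.Agent.H15Site.Shriek.preservesFiniteLimits_and_colimits f
  haveI := h2
  haveI : ∀ J : Type (u + 1), PreservesColimitsOfShape (Discrete J) (Groth.Agent.H15Site.Shriek.shriek f) :=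
    fun J => Groth.Agent.H15Site.Shriek.preservesCoproducts f J
  haveI : PreservesColimitsOfSize.{u + 1, u + 1} (Groth.Agent.H15Site.Shriek.shriek f) :=
    preservesColimits_of_preservesCoequalizers_and_coproducts _
  haveI : (Groth.Agent.H15Site.Shriek.shriek f).IsLeftAdjoint :=
    isLeftAdjoint_of_preservesColimits_of_isSeparating (isSeparator_separator (EtCoh.Ab X)) _
  exact Functor.isLeftAdjoint_of_iso (Groth.Agent.H15Site.Shriek.shriekIso f).symm

end Groth.Agent.S0689
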