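import Groth.Statements.S0693
import Groth.Agent.H1CAlg.IndEtale
import Mathlib.RingTheory.Jacobson.Ring
import Mathlib.FieldTheory.IsAlgClosed.AlgebraicClosure
import Mathlib.RingTheory.Flat.FaithfullyFlat.Algebra

set_option autoImplicit false
open CategoryTheory CategoryTheory.Limits AlgebraicGeometry Opposite Topology
universe u
open ProEtW

namespace Groth.Agent.S0693

/-- Every ring A admits a faithfully flat ind-etale extension C over which all faithfully flat etale
algebras have retractions. -/
theorem result (A : Type u) [CommRing A] :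
    ∃ (C : Type u) (_ : CommRing C) (_ : Algebra A C),
      Module.FaithfullyFlat A C ∧ EtPBC.IsIndEtale A C ∧ ProEtW.HasEtaleRetractions C := by
  classical
  let K : PrimeSpectrum A → Type u := fun p => AlgebraicClosure p.asIdeal.ResidueField
  let k : Type u := (p : PrimeSpectrum A) → K p
  obtain ⟨H, _, _, π, hH⟩ := H9Hens.exists_isPtColim (A := A) (k := k)
  let pr : ∀ p, H →ₐ[A] K p := fun p => (Pi.evalAlgHom A K p).comp π
  have hker : ∀ p : PrimeSpectrum A, RingHom.ker (algebraMap A (K p)) = p.asIdeal := fun p => by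
    rw [IsScalarTower.algebraMap_eq A p.asIdeal.ResidueField (K p), RingHom.ker_comp_of_injective _
      (algebraMap p.asIdeal.ResidueField (K p)).injective]
    exact Ideal.ker_algebraMap_residueField _
  haveI : Module.Flat A H := hH.flat
  haveI : Module.FaithfullyFlat A H := by
    refine Module.FaithfullyFlat.of_comap_surjective fun p =>
      ⟨⟨RingHom.ker (pr p), RingHom.ker_isPrime _⟩, PrimeSpectrum.ext ?_⟩
    refine (Ideal.ext fun a => ?_).trans (hker p)
    show pr p (algebraMap A H a) = 0 ↔ _
    rw [AlgHom.commutes, RingHom.mem_ker]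
  refine ⟨H, inferInstance, inferInstance, inferInstance, hH.isIndEtale, fun D _ _ hff het => ?_⟩
  -- a point of `D` over every chosen geometric point
  have hpt : ∀ p, ∃ ρ : D →+* K p, ρ.comp (algebraMap H D) = (pr p).toRingHom := fun p => by
    letI : Algebra H (K p) := (pr p).toRingHom.toAlgebra
    let Dp := TensorProduct H (K p) D
    haveI : Nontrivial Dp := by
      haveI := hff
      infer_instance
    obtain ⟨m, hm⟩ := Ideal.exists_maximal Dp
    letI := Ideal.Quotient.field m
    haveI : Algebra.FiniteType (K p) (Dp ⧸ m) := Algebra.FiniteType.of_surjective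
      (Ideal.Quotient.mkₐ (K p) m) Ideal.Quotient.mk_surjective
    haveI : Module.Finite (K p) (Dp ⧸ m) := finite_of_finite_type_of_isJacobsonRing (K p) (Dp ⧸ m)
    let e := RingEquiv.ofBijective (algebraMap (K p) (Dp ⧸ m))
      IsAlgClosed.algebraMap_bijective_of_isIntegral
    refine ⟨e.symm.toRingHom.comp ((Ideal.Quotient.mk m).comp
      (Algebra.TensorProduct.includeRight : D →ₐ[H] Dp).toRingHom), RingHom.ext fun x => ?_⟩
    show e.symm (Ideal.Quotient.mk m (Algebra.TensorProduct.includeRight (algebraMap H D x))) = pr p x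
    rw [AlgHom.commutes, IsScalarTower.algebraMap_apply H (K p) Dp]
    exact e.symm_apply_apply _
  choose ρ hρ using hpt
  obtain ⟨T, E₀, _, _, hT, _, ⟨e⟩⟩ :=
    Algebra.Etale.exists_subalgebra_fg (R := ℤ) (A := H) (B := D)
  obtain ⟨E₁, _, _, _, g, φ, hφ⟩ :=
    H1CAlg.IndEtale.exists_etale_lift hH.isIndEtale T hT
  letI : Algebra T E₁ := g.toAlgebra
  letI : Algebra E₁ H := φ.toRingHom.toAlgebra
  haveI : IsScalarTower T E₁ H := IsScalarTower.of_algebraMap_eq fun t => (hφ t).symm
  haveI : SMulCommClass T A E₁ := ⟨fun a b x => by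
    simp only [Algebra.smul_def]; ring⟩
  haveI : SMulCommClass A T E₁ := SMulCommClass.symm _ _ _
  haveI : Algebra.Etale A (TensorProduct T E₁ E₀) :=
    Algebra.Etale.comp A E₁ (TensorProduct T E₁ E₀)
  -- the descended algebra maps to `D`
  letI : Algebra E₁ D := ((algebraMap H D).comp (algebraMap E₁ H)).toAlgebra
  haveI : IsScalarTower T E₁ D := IsScalarTower.of_algebraMap_eq fun t => by
    show algebraMap T D t = algebraMap H D (algebraMap E₁ H (algebraMap T E₁ t))
    rw [← IsScalarTower.algebraMap_apply T E₁ H]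
    rfl
  let ψ : TensorProduct T E₁ E₀ →ₐ[E₁] D :=
    Algebra.TensorProduct.lift (Algebra.ofId E₁ D)
      ((e.symm.toAlgHom.restrictScalars T).comp Algebra.TensorProduct.includeRight)
      fun _ _ => Commute.all _ _
  have hψ : ∀ y : E₁, ψ (algebraMap E₁ _ y) = algebraMap H D (φ y) := fun y => ψ.commutes y
  let σ : TensorProduct T E₁ E₀ →ₐ[A] k :=
    { toRingHom := (RingHom.pi fun p => ρ p).comp ψ.toRingHom
      commutes' := fun a => funext fun p => by
        show ρ p (ψ (algebraMap E₁ _ (algebraMap A E₁ a))) = _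
        rw [hψ, φ.commutes, ← RingHom.comp_apply, hρ]
        exact (pr p).commutes a }
  obtain ⟨τ, hτ⟩ := hH.exists_map (TensorProduct T E₁ E₀) σ
  have hτφ : τ.comp (IsScalarTower.toAlgHom A E₁ (TensorProduct T E₁ E₀)) = φ := hH.hom_ext (by
    rw [← AlgHom.comp_assoc, hτ]
    refine AlgHom.ext fun y => funext fun p => ?_
    show ρ p (ψ (algebraMap E₁ _ y)) = pr p (φ y)
    rw [hψ, ← RingHom.comp_apply, hρ]
    rfl)
  let τ₀ : E₀ →ₐ[T] H :=
    { toRingHom := τ.toRingHom.comp
        (Algebra.TensorProduct.includeRight : E₀ →ₐ[T] TensorProduct T E₁ E₀).toRingHom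
      commutes' := fun t => by
        show τ (Algebra.TensorProduct.includeRight (algebraMap T E₀ t)) = _
        rw [AlgHom.commutes, IsScalarTower.algebraMap_apply T E₁ (TensorProduct T E₁ E₀)]
        exact (DFunLike.congr_fun hτφ _).trans (hφ t) }
  exact ⟨(Algebra.TensorProduct.lift (Algebra.ofId H H) τ₀ fun _ _ => Commute.all _ _).comp
    e.toAlgHom⟩

end Groth.Agent.S0693
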