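import Groth.Statements.S0695
import Groth.Agent.H1CAlg.Envelope
import Groth.Agent.H1CAlg.ZarLocal

set_option autoImplicit false
open CategoryTheory CategoryTheory.Limits AlgebraicGeometry Opposite Topology
universe u
open ProEtW

namespace Groth.Agent.S0695

/-- For every ring A there is a faithfully flat ind-Zariski A-algebra A_w with w-local spectrum such
that for every A-algebra B whose spectrum is w-local there is exactly one A-algebra map A_w -> B for
which Spec B -> Spec A_w is w-local. -/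
theorem result (A : Type u) [CommRing A] :
    ∃ (Aw : Type u) (_ : CommRing Aw) (_ : Algebra A Aw),
      Module.FaithfullyFlat A Aw ∧ EtPBC.IsIndZariski A Aw ∧ ProEtW.IsWLocal (PrimeSpectrum Aw) ∧
      ∀ (B : Type u) [CommRing B] [Algebra A B], ProEtW.IsWLocal (PrimeSpectrum B) →
        ∃! φ : Aw →ₐ[A] B, ProEtW.IsWLocalMap (PrimeSpectrum.comap φ.toRingHom) := by
  classical
  obtain ⟨H, _, _, π, hH⟩ := H1CAlg.Zar.exists_isZarColim (A := A) (k := H1CAlg.Env.env A)
  have hSH := H1CAlg.Env.split hH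
  refine ⟨H, inferInstance, inferInstance, H1CAlg.Env.faithfullyFlat hH, hH.isIndZariski,
    hSH.isWLocal, fun B _ _ hBw => ?_⟩
  let J : Ideal B := PrimeSpectrum.vanishingIdeal (ProEtW.closedPoints (PrimeSpectrum B))
  have hS : H1CAlg.WLoc.Split B J := H1CAlg.WLoc.split_of_isWLocal hBw
  have hrad : J.radical ≤ J := fun x hx => by
    rw [show J = _ from rfl, PrimeSpectrum.mem_vanishingIdeal]
    intro y hy
    exact y.isPrime.radical_le_iff.2 (fun z hz => (PrimeSpectrum.mem_vanishingIdeal _ _).1 hz y hy) hx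
  have hinter : ∀ x : B, (∀ n : Ideal B, n.IsMaximal → x ∈ n) → x ∈ J := fun x hx => by
    rw [show J = _ from rfl, PrimeSpectrum.mem_vanishingIdeal]
    exact fun y hy => hx y.asIdeal ((PrimeSpectrum.isClosed_singleton_iff_isMaximal y).1 hy)
  -- the product of the residue fields at closed points
  let N := {n : Ideal B // n.IsMaximal}
  let K : N → Type u := fun n => B ⧸ n.1
  letI : ∀ n : N, Field (K n) := fun n => haveI := n.2; Ideal.Quotient.field n.1
  let evN : ∀ n : N, (B ⧸ J) →ₐ[A] K n := fun n =>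
    Ideal.Quotient.factorₐ A (hS.le_of_isMaximal n.2)
  let toProd : (B ⧸ J) →ₐ[A] (∀ n, K n) := Pi.algHom A K evN
  have hinj : Function.Injective toProd := by
    refine (injective_iff_map_eq_zero _).2 fun x hx => ?_
    obtain ⟨b, rfl⟩ := Ideal.Quotient.mk_surjective x
    refine Ideal.Quotient.eq_zero_iff_mem.2 (hinter b fun n hn => ?_)
    have := congrFun hx ⟨n, hn⟩
    exact Ideal.Quotient.eq_zero_iff_mem.1 this
  let pN : N → PrimeSpectrum A := fun n => ⟨n.1.comap (algebraMap A B), haveI := n.2.isPrime; Ideal.comap_isPrime _ _⟩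
  haveI : ∀ n : N, (pN n).asIdeal.IsPrime := fun n => (pN n).isPrime
  let τ : ∀ n : N, (H1CAlg.Env.Res A (pN n)) →ₐ[A] K n := fun n =>
    Ideal.ResidueField.liftₐ (pN n).asIdeal (Algebra.ofId A (K n))
      (fun a ha => show Ideal.Quotient.mk n.1 (algebraMap A B a) = 0 from
        Ideal.Quotient.eq_zero_iff_mem.2 ha)
      (fun a ha => show IsUnit (Ideal.Quotient.mk n.1 (algebraMap A B a)) from
        isUnit_iff_ne_zero.2 fun h0 => ha (show algebraMap A B a ∈ n.1 from Ideal.Quotient.eq_zero_iff_mem.1 h0))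
  let Φ : H1CAlg.Env.Big A →ₐ[A] (∀ n, K n) :=
    Pi.algHom A K fun n => (τ n).comp (Pi.evalAlgHom A (H1CAlg.Env.Res A) (pN n))
  have hΦ : H1CAlg.Env.env A ≤ toProd.range.comap Φ := by
    refine H1CAlg.Env.env_le ?_
    rintro x ⟨b, hb⟩
    obtain ⟨b, rfl⟩ := Ideal.Quotient.mk_surjective b
    obtain ⟨e, y, he, hby, hb1⟩ := hS.split b
    refine ⟨Ideal.Quotient.mk J (y * e), funext fun n => ?_⟩
    haveI := n.2.isPrime
    have hJn := hS.le_of_isMaximal n.2
    have hbn : Ideal.Quotient.mk n.1 b = τ n (x (pN n)) := congrFun hb n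
    show Ideal.Quotient.mk n.1 (y * e) = τ n ((x (pN n))⁻¹)
    rw [map_inv₀, ← hbn]
    rcases H1CAlg.WLoc.mem_or_mem_of_isIdempotentElem he n.1 with h1 | h1
    · have h2 : Ideal.Quotient.mk n.1 b = 0 := Ideal.Quotient.eq_zero_iff_mem.2
        ((n.2.isPrime.mem_or_mem (hJn (hrad hb1))).resolve_right
          fun h => H1CAlg.WLoc.notMem_of_one_sub_mem n.1 h h1)
      rw [h2, map_mul, Ideal.Quotient.eq_zero_iff_mem.2 h1, mul_zero]
      exact inv_zero.symm
    · have h3 : Ideal.Quotient.mk n.1 e = 1 := by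
        rw [← map_one (Ideal.Quotient.mk n.1), eq_comm, Ideal.Quotient.eq]
        exact h1
      refine eq_inv_of_mul_eq_one_left ?_
      rw [← map_mul, show y * e * b = e * (b * y) by ring, map_mul, h3, one_mul, ← h3,
        Ideal.Quotient.eq]
      exact hJn hby
  let e₀ : (B ⧸ J) ≃ₐ[A] toProd.range := AlgEquiv.ofInjective toProd hinj
  let ρ : H1CAlg.Env.env A →ₐ[A] B ⧸ J :=
    e₀.symm.toAlgHom.comp ((Φ.comp (H1CAlg.Env.env A).val).codRestrict toProd.range fun x => hΦ x.2)
  have huρ : ∀ ρ' : H1CAlg.Env.env A →ₐ[A] B ⧸ J, ρ' = ρ := fun ρ' => AlgHom.ext fun x =>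
    hinj (funext fun n => DFunLike.congr_fun
      (H1CAlg.Env.hom_ext ((evN n).comp ρ') ((evN n).comp ρ)) x)
  obtain ⟨g, hg, hgu⟩ := hH.existsUnique_algHom hS ρ
  have hker : ∀ x ∈ RingHom.ker π, g x ∈ J := fun x hx => by
    rw [← Ideal.Quotient.eq_zero_iff_mem]
    refine (DFunLike.congr_fun hg x).trans ?_
    rw [AlgHom.comp_apply, RingHom.mem_ker.1 hx, map_zero]
  refine ⟨g, ⟨H1CAlg.Zar.isSpectralMap_comap _, fun y hy => ?_⟩, fun φ hφ => hgu φ ?_⟩
  · refine (PrimeSpectrum.isClosed_singleton_iff_isMaximal _).2 (hSH.isMaximal_of_le fun x hx => ?_)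
    exact hS.le_of_isMaximal ((PrimeSpectrum.isClosed_singleton_iff_isMaximal y).1 hy) (hker x hx)
  · have hφJ : ∀ x ∈ RingHom.ker π, φ x ∈ J := fun x hx => hinter _ fun n hn => by
      have h1 := (PrimeSpectrum.isClosed_singleton_iff_isMaximal _).1
        (hφ.2 ⟨n, hn.isPrime⟩ ((PrimeSpectrum.isClosed_singleton_iff_isMaximal _).2 hn))
      exact hSH.le_of_isMaximal h1 hx
    have hsurj := H1CAlg.Env.surjective hH
    let e₁ : (H ⧸ RingHom.ker π) ≃ₐ[A] H1CAlg.Env.env A :=
      Ideal.quotientKerAlgEquivOfSurjective hsurj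
    let φbar : (H ⧸ RingHom.ker π) →ₐ[A] B ⧸ J :=
      Ideal.Quotient.liftₐ _ ((Ideal.Quotient.mkₐ A J).comp φ)
        fun x hx => Ideal.Quotient.eq_zero_iff_mem.2 (hφJ x hx)
    rw [← huρ (φbar.comp e₁.symm.toAlgHom)]
    refine AlgHom.ext fun x => ?_
    show Ideal.Quotient.mk J (φ x) = φbar (e₁.symm (π x))
    rw [show e₁.symm (π x) = Ideal.Quotient.mk _ x from e₁.injective (by rw [e₁.apply_symm_apply]; rfl)]
    rfl

end Groth.Agent.S0695
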