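import Groth.Statements.S0696
import Groth.Agent.H1CAlg.ZarCover

set_option autoImplicit false
open CategoryTheory CategoryTheory.Limits AlgebraicGeometry Opposite Topology
universe u
open ProEtW

namespace Groth.Agent.S0696

/-- Every ring A admits a faithfully flat ind-Zariski extension B whose spectrum is w-local with
extremally disconnected space of connected components. -/
theorem result (A : Type u) [CommRing A] :
    ∃ (B : Type u) (_ : CommRing B) (_ : Algebra A B),
      Module.FaithfullyFlat A B ∧ EtPBC.IsIndZariski A B ∧ ProEtW.IsWLocal (PrimeSpectrum B) ∧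
        ExtremallyDisconnected (_root_.ConnectedComponents (PrimeSpectrum B)) := by
  let K : PrimeSpectrum A → Type u := fun p => p.asIdeal.ResidueField
  obtain ⟨H, _, _, π, hH⟩ := H1CAlg.Zar.exists_isZarColim (A := A) (k := ∀ p, K p)
  have hS := hH.split fun x => H1CAlg.Zar.exists_unit_idem_pi K (π x)
  haveI : Module.Flat A H := hH.flat
  exact ⟨H, inferInstance, inferInstance,
    H1CAlg.Zar.faithfullyFlat_of_image_closedPoints
      (H1CAlg.Zar.image_closedPoints_eq_univ π hS fun p =>
        ⟨p, Ideal.ker_algebraMap_residueField _⟩),
    hH.isIndZariski, hS.isWLocal,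
    H1CAlg.Zar.extremallyDisconnected_of_pi π hS fun _ he => hH.exists_idem_lift he⟩

end Groth.Agent.S0696
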