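import Groth.Statements.S0697
import Groth.Agent.H1CAlg.ZarCriterion
import Groth.Agent.H1CAlg.Components
import Mathlib.Topology.LocallyConstant.Algebra
import Mathlib.Topology.Separation.Profinite

set_option autoImplicit false
open CategoryTheory CategoryTheory.Limits AlgebraicGeometry Opposite Topology
universe u
open ProEtW

namespace Groth.Agent.S0697

open Groth.Agent.H1CAlg Topology

variable {A : Type u} [CommRing A] {T : Type u} [TopologicalSpace T]

theorem charFn_idem {W : Set T} (hW : IsClopen W) :
    IsIdempotentElem (LocallyConstant.charFn A hW) := LocallyConstant.ext fun t => by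
  show LocallyConstant.charFn A hW t * LocallyConstant.charFn A hW t = LocallyConstant.charFn A hW t
  by_cases ht : t ∈ W <;> simp [LocallyConstant.charFn, ht]

theorem charFn_apply_of_mem {W : Set T} (hW : IsClopen W) {t : T} (h : t ∈ W) :
    LocallyConstant.charFn A hW t = 1 := by
  simp [LocallyConstant.charFn, h]

theorem charFn_apply_of_notMem {W : Set T} (hW : IsClopen W) {t : T} (h : t ∉ W) :
    LocallyConstant.charFn A hW t = 0 := by
  simp [LocallyConstant.charFn, h]

variable (g : C(T, _root_.ConnectedComponents (PrimeSpectrum A)))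

/-- The clopen of `T` attached to an idempotent of `A`. -/
def pre (e : A) : Set T := g ⁻¹' (ConnectedComponents.mk '' (PrimeSpectrum.basicOpen e : Set (PrimeSpectrum A)))

theorem isClopen_pre {e : A} (he : IsIdempotentElem e) : IsClopen (pre g e) :=
  (Comp.isClopen_image_basicOpen he).preimage g.continuous

/-- The relations. -/
def rels : Ideal (LocallyConstant T A) :=
  Ideal.span {z | ∃ (e : A) (he : IsIdempotentElem e),
    z = LocallyConstant.const T e - LocallyConstant.charFn A (isClopen_pre g he)}

theorem rels_apply {z : LocallyConstant T A} (hz : z ∈ rels g) {x : PrimeSpectrum A} {t : T}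
    (h : ConnectedComponents.mk x = g t) : z t ∈ Comp.idemIdeal x := by
  refine Submodule.span_induction (p := fun z _ => z t ∈ Comp.idemIdeal x) ?_ ?_ ?_ ?_ hz
  · rintro _ ⟨e, he, rfl⟩
    show e - LocallyConstant.charFn A (isClopen_pre g he) t ∈ Comp.idemIdeal x
    by_cases hex : e ∈ x.asIdeal
    · rw [charFn_apply_of_notMem _ (show t ∉ pre g e from fun ht =>
        (Comp.mk_mem_image_basicOpen_iff he).1 (show ConnectedComponents.mk x ∈ ConnectedComponents.mk '' (PrimeSpectrum.basicOpen e : Set (PrimeSpectrum A)) by rw [h]; exact ht) hex), sub_zero]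
      exact Ideal.subset_span ⟨he, hex⟩
    · rw [charFn_apply_of_mem _ (show t ∈ pre g e by
        show g t ∈ ConnectedComponents.mk '' (PrimeSpectrum.basicOpen e : Set (PrimeSpectrum A))
        rw [← h]
        exact (Comp.mk_mem_image_basicOpen_iff he).2 hex), ← neg_sub 1 e]
      exact (Comp.idemIdeal x).neg_mem (Ideal.subset_span ⟨he.one_sub,
        (WLoc.mem_or_mem_of_isIdempotentElem he x.asIdeal).resolve_left hex⟩)
  · exact Ideal.zero_mem _
  · exact fun a b _ _ ha hb => Ideal.add_mem _ ha hb
  · exact fun a b _ hb => Ideal.mul_mem_left _ _ hb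

/-- The algebra realising `T`. -/
abbrev Ring' : Type u := LocallyConstant T A ⧸ rels g

theorem algebraMap_apply' (a : A) :
    algebraMap A (LocallyConstant T A) a = LocallyConstant.const T a :=
  LocallyConstant.ext fun _ => rfl

theorem exists_time [CompactSpace T] (q : PrimeSpectrum (Ring' g)) :
    ∃ t : T, ∀ (W : Set T) (hW : IsClopen W), t ∈ W →
      Ideal.Quotient.mk (rels g) (LocallyConstant.charFn A hW) ∉ q.asIdeal := by
  classical
  by_contra! hc
  choose W hW hmem hq using hc
  obtain ⟨s, hs⟩ := isCompact_univ.elim_finite_subcover W (fun t => (hW t).isOpen)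
    (fun t _ => Set.mem_iUnion.2 ⟨t, hmem t⟩)
  apply q.isPrime.ne_top
  rw [Ideal.eq_top_iff_one]
  have h1 : (∏ i ∈ s, (1 - LocallyConstant.charFn A (hW i))) = 0 := LocallyConstant.ext fun t => by
    obtain ⟨i, hi, hti⟩ := Set.mem_iUnion₂.1 (hs (Set.mem_univ t))
    show (LocallyConstant.evalRingHom t) (∏ i ∈ s, (1 - LocallyConstant.charFn A (hW i))) = 0
    rw [map_prod]
    refine Finset.prod_eq_zero hi ?_
    show 1 - LocallyConstant.charFn A (hW i) t = 0
    rw [charFn_apply_of_mem _ hti, sub_self]
  have h2 := congrArg ((Ideal.Quotient.mk q.asIdeal).comp (Ideal.Quotient.mk (rels g))) h1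
  rw [map_prod, map_zero, Finset.prod_eq_one] at h2
  · exact Ideal.Quotient.eq_zero_iff_mem.1 (show Ideal.Quotient.mk q.asIdeal 1 = 0 by rw [map_one]; exact h2)
  · intro i _
    rw [map_sub, map_one, RingHom.comp_apply, Ideal.Quotient.eq_zero_iff_mem.2 (hq i), sub_zero]

variable [CompactSpace T]

/-- The `T`-coordinate of a point. -/
noncomputable def time (q : PrimeSpectrum (Ring' g)) : T := (exists_time g q).choose

theorem mk_mem_iff (q : PrimeSpectrum (Ring' g)) (z : LocallyConstant T A) :
    Ideal.Quotient.mk (rels g) z ∈ q.asIdeal ↔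
      z (time g q) ∈ (PrimeSpectrum.comap (algebraMap A (Ring' g)) q).asIdeal := by
  let t := time g q
  have hW : IsClopen {s | z s = z t} := z.isLocallyConstant.isClopen_fiber (z t)
  have hnot := (exists_time g q).choose_spec _ hW (show t ∈ {s | z s = z t} from rfl)
  have h0 : LocallyConstant.charFn A hW * (z - LocallyConstant.const T (z t)) = 0 :=
    LocallyConstant.ext fun s => by
      show LocallyConstant.charFn A hW s * (z s - z t) = 0
      by_cases hs : z s = z t
      · rw [hs, sub_self, mul_zero]
      · rw [charFn_apply_of_notMem _ (show s ∉ {s | z s = z t} from hs), zero_mul]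
  have h1 : Ideal.Quotient.mk (rels g) (z - LocallyConstant.const T (z t)) ∈ q.asIdeal := by
    refine (q.isPrime.mem_or_mem ?_).resolve_left hnot
    rw [← map_mul, h0, map_zero]
    exact Ideal.zero_mem _
  have h2 : algebraMap A (Ring' g) (z t) = Ideal.Quotient.mk (rels g) (LocallyConstant.const T (z t)) := by
    rw [← algebraMap_apply']; rfl
  rw [map_sub, ← h2] at h1
  show _ ↔ algebraMap A (Ring' g) (z t) ∈ q.asIdeal
  exact ⟨fun h => by simpa using q.asIdeal.sub_mem h h1, fun h => by simpa using q.asIdeal.add_mem h1 h⟩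

theorem time_mem_iff (q : PrimeSpectrum (Ring' g)) {W : Set T} (hW : IsClopen W) :
    time g q ∈ W ↔ Ideal.Quotient.mk (rels g) (LocallyConstant.charFn A hW) ∉ q.asIdeal := by
  rw [mk_mem_iff]
  by_cases h : time g q ∈ W
  · simp only [h, true_iff, charFn_apply_of_mem hW h]
    exact fun h1 => (PrimeSpectrum.comap (algebraMap A (Ring' g)) q).isPrime.ne_top
      ((Ideal.eq_top_iff_one _).2 h1)
  · simp only [h, false_iff, not_not, charFn_apply_of_notMem hW h]
    exact Ideal.zero_mem _

theorem mk_comap (q : PrimeSpectrum (Ring' g)) :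
    ConnectedComponents.mk (PrimeSpectrum.comap (algebraMap A (Ring' g)) q) = g (time g q) := by
  obtain ⟨y, hy⟩ := ConnectedComponents.surjective_coe (g (time g q))
  rw [← hy, eq_comm, Comp.mk_eq_mk_iff]
  intro e he hey
  have ht : time g q ∉ pre g e := fun h => (Comp.mk_mem_image_basicOpen_iff he).1
    (show ConnectedComponents.mk y ∈ ConnectedComponents.mk '' (PrimeSpectrum.basicOpen e : Set (PrimeSpectrum A)) by rw [hy]; exact h) hey
  rw [time_mem_iff g q (isClopen_pre g he), not_not] at ht
  have h1 : Ideal.Quotient.mk (rels g) (LocallyConstant.const T e) =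
      Ideal.Quotient.mk (rels g) (LocallyConstant.charFn A (isClopen_pre g he)) :=
    Ideal.Quotient.eq.2 (Ideal.subset_span ⟨e, he, rfl⟩)
  rw [← h1, mk_mem_iff] at ht
  exact ht

theorem exists_point (x : PrimeSpectrum A) (t : T) (h : ConnectedComponents.mk x = g t)
    [T2Space T] [TotallyDisconnectedSpace T] :
    ∃ q : PrimeSpectrum (Ring' g),
      PrimeSpectrum.comap (algebraMap A (Ring' g)) q = x ∧ time g q = t := by
  let φ : Ring' g →+* A ⧸ x.asIdeal := Ideal.Quotient.lift (rels g)
    ((Ideal.Quotient.mk x.asIdeal).comp (LocallyConstant.evalRingHom t)) fun z hz =>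
      Ideal.Quotient.eq_zero_iff_mem.2
        (SetLike.coe_subset_coe.1 (Comp.mem_zeroLocus_idemIdeal x) (rels_apply g hz h))
  haveI := x.isPrime
  let q : PrimeSpectrum (Ring' g) := ⟨RingHom.ker φ, RingHom.ker_isPrime _⟩
  refine ⟨q, PrimeSpectrum.ext (Ideal.ext fun a => ?_), ?_⟩
  · show φ (algebraMap A (Ring' g) a) = 0 ↔ a ∈ x.asIdeal
    exact Ideal.Quotient.eq_zero_iff_mem
  · by_contra hne
    obtain ⟨W, hW, htW, hqW⟩ := exists_isClopen_of_totally_separated (Ne.symm hne)
    refine hqW ((time_mem_iff g q hW).2 fun hmem => ?_)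
    have h1 : Ideal.Quotient.mk x.asIdeal (LocallyConstant.charFn A hW t) = 0 := hmem
    rw [charFn_apply_of_mem hW htW, Ideal.Quotient.eq_zero_iff_mem] at h1
    exact x.isPrime.ne_top ((Ideal.eq_top_iff_one _).2 h1)

/-- Let A be a ring, X = Spec A, T a profinite space and g : T -> pi_0(X) continuous. Then there is an
ind-Zariski A-algebra B, with Y = Spec B, and a homeomorphism e : pi_0(Y) -> T over pi_0(X) such
that Y -> X x T, y |-> (image of y, e [y]) is a topological embedding with image the fibre product
of X and T over pi_0(X); that is, the square Y -> pi_0(Y) = T, Y -> X is cartesian in topological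
spaces. -/
theorem result (A : Type u) [CommRing A] (T : Type u)
    [TopologicalSpace T] [CompactSpace T] [T2Space T] [TotallyDisconnectedSpace T]
    (g : C(T, _root_.ConnectedComponents (PrimeSpectrum A))) :
    ∃ (B : Type u) (_ : CommRing B) (_ : Algebra A B) (e : _root_.ConnectedComponents (PrimeSpectrum B) ≃ₜ T),
      EtPBC.IsIndZariski A B ∧
      (∀ y : PrimeSpectrum B,
        g (e (_root_.ConnectedComponents.mk y)) = _root_.ConnectedComponents.mk (PrimeSpectrum.comap (algebraMap A B) y)) ∧
      Topology.IsEmbedding (fun y : PrimeSpectrum B =>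
        (PrimeSpectrum.comap (algebraMap A B) y, e (_root_.ConnectedComponents.mk y))) ∧
      Set.range (fun y : PrimeSpectrum B =>
        (PrimeSpectrum.comap (algebraMap A B) y, e (_root_.ConnectedComponents.mk y))) =
        {p : PrimeSpectrum A × T | _root_.ConnectedComponents.mk p.1 = g p.2} := by
  classical
  let B := Ring' g
  have hcont : Continuous (time g) := by
    rw [(isTopologicalBasis_isClopen (X := T)).continuous_iff]
    intro W hW
    rw [show time g ⁻¹' W = (PrimeSpectrum.basicOpen (Ideal.Quotient.mk (rels g)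
      (LocallyConstant.charFn A hW)) : Set (PrimeSpectrum B)) from Set.ext fun q => time_mem_iff g q hW]
    exact (PrimeSpectrum.basicOpen _).isOpen
  let e₀ : ConnectedComponents (PrimeSpectrum B) → T := hcont.connectedComponentsLift
  have he₀ : ∀ q, e₀ (ConnectedComponents.mk q) = time g q := fun q =>
    hcont.connectedComponentsLift_apply_coe q
  have hbij : Function.Bijective e₀ := by
    refine ⟨fun c d hcd => ?_, fun t => ?_⟩
    · obtain ⟨q, rfl⟩ := ConnectedComponents.surjective_coe c
      obtain ⟨q', rfl⟩ := ConnectedComponents.surjective_coe d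
      change e₀ (ConnectedComponents.mk q) = e₀ (ConnectedComponents.mk q') at hcd
      rw [he₀, he₀] at hcd
      refine Comp.mk_eq_mk_iff.2 fun ε hε hεq => ?_
      obtain ⟨z, rfl⟩ := Ideal.Quotient.mk_surjective ε
      rw [mk_mem_iff] at hεq ⊢
      rw [← hcd]
      let x := PrimeSpectrum.comap (algebraMap A B) q
      let x' := PrimeSpectrum.comap (algebraMap A B) q'
      have hx : ConnectedComponents.mk x = g (time g q) := mk_comap g q
      have hxx : ConnectedComponents.mk x = ConnectedComponents.mk x' := by
        rw [hx, mk_comap g q', hcd]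
      have h1 : z * z - z ∈ rels g := by
        rw [← Ideal.Quotient.eq, map_mul]
        exact hε.eq
      obtain ⟨f, hf, hfx, hfz⟩ := Comp.exists_idem_mul x (rels_apply g h1 hx)
      change (z (time g q) * z (time g q) - z (time g q)) * f = z (time g q) * z (time g q) - z (time g q) at hfz
      have ha : IsIdempotentElem (z (time g q) * (1 - f)) := by
        show z (time g q) * (1 - f) * (z (time g q) * (1 - f)) = z (time g q) * (1 - f)
        linear_combination z (time g q) * z (time g q) * hf.eq - hfz
      have h2 := Comp.mk_eq_mk_iff.1 hxx _ ha (x.asIdeal.mul_mem_right _ hεq)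
      have h3 := Comp.mk_eq_mk_iff.1 hxx f hf hfx
      have h4 := x'.asIdeal.add_mem h2 (x'.asIdeal.mul_mem_left (z (time g q)) h3)
      rwa [show z (time g q) * (1 - f) + z (time g q) * f = z (time g q) by ring] at h4
    · obtain ⟨x, hx⟩ := ConnectedComponents.surjective_coe (g t)
      obtain ⟨q, -, hq⟩ := exists_point g x t hx
      exact ⟨ConnectedComponents.mk q, (he₀ q).trans hq⟩
  let e : ConnectedComponents (PrimeSpectrum B) ≃ₜ T :=
    Continuous.homeoOfEquivCompactToT2 (f := Equiv.ofBijective e₀ hbij) hcont.connectedComponentsLift_continuous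
  have he : ∀ q, e (ConnectedComponents.mk q) = time g q := he₀
  refine ⟨B, inferInstance, inferInstance, e, ?_, fun y => ?_, ?_, ?_⟩
  · refine Zar.isIndZariski_of_identifiesLocalRings (fun q => ?_) fun b => ?_
    · let p := q.asIdeal.comap (algebraMap A B)
      refine ⟨(injective_iff_map_eq_zero _).2 fun w hw => ?_, fun w => ?_⟩
      · obtain ⟨a, s, rfl⟩ := IsLocalization.exists_mk'_eq p.primeCompl w
        rw [Localization.localRingHom_mk', IsLocalization.mk'_eq_zero_iff] at hw
        obtain ⟨⟨u, hu⟩, hua⟩ := hw
        obtain ⟨z, rfl⟩ := Ideal.Quotient.mk_surjective u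
        have h1 : z * algebraMap A (LocallyConstant T A) a ∈ rels g := by
          rw [← Ideal.Quotient.eq_zero_iff_mem, map_mul]
          exact hua
        obtain ⟨f, hf, hfx, hfz⟩ := Comp.exists_idem_mul _ (rels_apply g h1 (mk_comap g q))
        change z (time g q) * a * f = z (time g q) * a at hfz
        rw [IsLocalization.mk'_eq_zero_iff]
        refine ⟨⟨z (time g q) * (1 - f), fun hmem => ?_⟩, by
          show z (time g q) * (1 - f) * a = 0
          linear_combination -hfz⟩
        rcases (PrimeSpectrum.comap (algebraMap A B) q).isPrime.mem_or_mem hmem with h | h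
        · exact hu ((mk_mem_iff g q z).2 h)
        · exact WLoc.notMem_of_one_sub_mem (PrimeSpectrum.comap (algebraMap A B) q).asIdeal h hfx
      · obtain ⟨b, ⟨s, hs⟩, rfl⟩ := IsLocalization.exists_mk'_eq q.asIdeal.primeCompl w
        obtain ⟨z, rfl⟩ := Ideal.Quotient.mk_surjective b
        obtain ⟨z', rfl⟩ := Ideal.Quotient.mk_surjective s
        let c := z (time g q)
        let c' := z' (time g q)
        have hc' : c' ∉ p := fun h => hs ((mk_mem_iff g q z').2 h)
        refine ⟨IsLocalization.mk' _ c (⟨c', hc'⟩ : p.primeCompl), ?_⟩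
        rw [Localization.localRingHom_mk', IsLocalization.mk'_eq_iff_eq, IsLocalization.eq_iff_exists
          q.asIdeal.primeCompl]
        have hW : IsClopen ({s | z s = c} ∩ {s | z' s = c'}) :=
          (z.isLocallyConstant.isClopen_fiber c).inter (z'.isLocallyConstant.isClopen_fiber c')
        refine ⟨⟨Ideal.Quotient.mk (rels g) (LocallyConstant.charFn A hW),
          (time_mem_iff g q hW).1 ⟨rfl, rfl⟩⟩, ?_⟩
        show Ideal.Quotient.mk (rels g) (LocallyConstant.charFn A hW) *
            (Ideal.Quotient.mk (rels g) z' * Ideal.Quotient.mk (rels g) (algebraMap A (LocallyConstant T A) c)) =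
          Ideal.Quotient.mk (rels g) (LocallyConstant.charFn A hW) *
            (Ideal.Quotient.mk (rels g) (algebraMap A (LocallyConstant T A) c') * Ideal.Quotient.mk (rels g) z)
        rw [← map_mul, ← map_mul, ← map_mul, ← map_mul]
        congr 1
        ext s
        show LocallyConstant.charFn A hW s * (z' s * c) = LocallyConstant.charFn A hW s * (c' * z s)
        by_cases hsW : s ∈ ({s | z s = c} ∩ {s | z' s = c'})
        · rw [hsW.1, hsW.2]
        · rw [charFn_apply_of_notMem hW hsW, zero_mul, zero_mul]
    · obtain ⟨z, rfl⟩ := Ideal.Quotient.mk_surjective b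
      haveI : Finite (Set.range z) := z.range_finite.to_subtype
      haveI : Algebra.IsLocalIso A (Set.range z → A) :=
        Algebra.IsLocalIso.pi_of_finite A fun _ : Set.range z => A
      let zf : LocallyConstant T (Set.range z) :=
        ⟨Set.rangeFactorization z, fun U => by
          have := z.isLocallyConstant (Subtype.val '' U)
          rwa [show Set.rangeFactorization z ⁻¹' U = z ⁻¹' (Subtype.val '' U) from by
            ext s
            exact ⟨fun h => ⟨_, h, rfl⟩, fun ⟨v, hv, hvs⟩ => by
              show Set.rangeFactorization z s ∈ U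
              rwa [← show v = Set.rangeFactorization z s from Subtype.ext hvs]⟩]⟩
      let φ : (Set.range z → A) →ₐ[A] LocallyConstant T A :=
        { toFun := fun f => zf.map f
          map_one' := LocallyConstant.ext fun _ => rfl
          map_mul' := fun _ _ => LocallyConstant.ext fun _ => rfl
          map_zero' := LocallyConstant.ext fun _ => rfl
          map_add' := fun _ _ => LocallyConstant.ext fun _ => rfl
          commutes' := fun _ => LocallyConstant.ext fun _ => rfl }
      exact ⟨_, inferInstance, inferInstance, inferInstance,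
        (Ideal.Quotient.mkₐ A (rels g)).comp φ, fun v => v.1,
        congrArg (Ideal.Quotient.mk (rels g)) (LocallyConstant.ext fun _ => rfl)⟩
  · rw [he, mk_comap g y]
  · simp only [he]
    let Φ : PrimeSpectrum B → PrimeSpectrum A × T := fun y =>
      (PrimeSpectrum.comap (algebraMap A B) y, time g y)
    have hΦ : Continuous Φ := (PrimeSpectrum.continuous_comap _).prodMk hcont
    refine ⟨⟨le_antisymm hΦ.le_induced ?_⟩, fun y y' h => ?_⟩
    · conv_rhs => rw [PrimeSpectrum.isTopologicalBasis_basic_opens.eq_generateFrom]
      refine le_generateFrom ?_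
      rintro _ ⟨b, rfl⟩
      obtain ⟨z, rfl⟩ := Ideal.Quotient.mk_surjective b
      refine ⟨⋃ t : T, (PrimeSpectrum.basicOpen (z t) : Set (PrimeSpectrum A)) ×ˢ {s | z s = z t},
        isOpen_iUnion fun t => (PrimeSpectrum.basicOpen _).isOpen.prod
          (z.isLocallyConstant.isClopen_fiber (z t)).isOpen, ?_⟩
      ext y
      simp only [Set.mem_preimage, Set.mem_iUnion, Set.mem_prod]
      constructor
      · rintro ⟨t, h1, h2⟩ hmem
        refine h1 ?_
        rw [mk_mem_iff] at hmem
        rw [← show z (time g y) = z t from h2]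
        exact hmem
      · intro hy
        exact ⟨time g y, fun hmem => hy ((mk_mem_iff g y z).2 hmem), rfl⟩
    · simp only [Prod.mk.injEq] at h
      refine PrimeSpectrum.ext (Ideal.ext fun b => ?_)
      obtain ⟨z, rfl⟩ := Ideal.Quotient.mk_surjective b
      rw [mk_mem_iff, mk_mem_iff, h.1, h.2]
  · simp only [he]
    ext ⟨x, t⟩
    constructor
    · rintro ⟨y, hy⟩
      simp only [Prod.mk.injEq] at hy
      show ConnectedComponents.mk x = g t
      rw [← hy.1, ← hy.2]
      exact mk_comap g y
    · intro h
      obtain ⟨q, h1, h2⟩ := exists_point g x t h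
      exact ⟨q, Prod.ext h1 h2⟩

end Groth.Agent.S0697
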