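import Groth.Statements.S0698
import Groth.Agent.H1CAlg.ZarLocalization
import Groth.Agent.H1CAlg.Components

set_option autoImplicit false
open CategoryTheory CategoryTheory.Limits AlgebraicGeometry Opposite Topology
universe u
open ProEtW

namespace Groth.Agent.S0698

/-- Let A be a ring, X = Spec A and T a closed subset of pi_0(X). Then A has an ind-Zariski quotient
ring B (the map A -> B is surjective) whose spectrum maps homeomorphically onto the preimage of T in
X. -/
theorem result (A : Type u) [CommRing A]
    (T : Set (_root_.ConnectedComponents (PrimeSpectrum A))) (hT : IsClosed T) :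
    ∃ (B : Type u) (_ : CommRing B) (_ : Algebra A B),
      EtPBC.IsIndZariski A B ∧ Function.Surjective (algebraMap A B) ∧
      Topology.IsEmbedding (PrimeSpectrum.comap (algebraMap A B)) ∧
      Set.range (PrimeSpectrum.comap (algebraMap A B)) = _root_.ConnectedComponents.mk ⁻¹' T := by
  let S : Submonoid A :=
    { carrier := {e | IsIdempotentElem e ∧ ∀ y, ConnectedComponents.mk y ∈ T → e ∉ y.asIdeal}
      one_mem' := ⟨IsIdempotentElem.one, fun y _ h => y.isPrime.ne_top ((Ideal.eq_top_iff_one _).2 h)⟩
      mul_mem' := fun {a b} ha hb => ⟨ha.1.mul hb.1, fun y hy h =>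
        (y.isPrime.mem_or_mem h).elim (ha.2 y hy) (hb.2 y hy)⟩ }
  refine ⟨Localization S, inferInstance, inferInstance,
    H1CAlg.Zar.isIndZariski_of_isLocalization S, fun z => ?_,
    PrimeSpectrum.localization_comap_isEmbedding (Localization S) S, ?_⟩
  · obtain ⟨a, ⟨e, he⟩, rfl⟩ := IsLocalization.exists_mk'_eq S z
    refine ⟨a, ?_⟩
    rw [IsLocalization.eq_mk'_iff_mul_eq, ← map_mul, IsLocalization.eq_iff_exists S]
    exact ⟨⟨e, he⟩, by show e * (a * e) = e * a; linear_combination a * he.1.eq⟩
  · rw [PrimeSpectrum.localization_comap_range (Localization S) S]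
    ext x
    constructor
    · intro hx
      by_contra hxT
      obtain ⟨e, he, hex, heT⟩ := H1CAlg.Comp.exists_idem_of_notMem hT hxT
      exact Set.disjoint_left.1 hx (show e ∈ S from ⟨he, heT⟩) hex
    · exact fun hx => Set.disjoint_left.2 fun e he hex => he.2 x hx hex

end Groth.Agent.S0698
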