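import Groth.Statements.S0699
import Groth.Agent.H1CAlg.ZarLocal

set_option autoImplicit false
open CategoryTheory CategoryTheory.Limits AlgebraicGeometry Opposite Topology
universe u
open ProEtW

namespace Groth.Agent.S0699

/-- Let A -> B identify local rings, with Spec A and Spec B w-local, Spec B -> Spec A w-local, and
pi_0(Spec B) -> pi_0(Spec A) bijective. Then A -> B is bijective. -/
theorem result (A B : Type u) [CommRing A] [CommRing B]
    [Algebra A B] (h1 : EtPBC.IdentifiesLocalRings A B) (h2 : ProEtW.IsWLocal (PrimeSpectrum A))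
    (h3 : ProEtW.IsWLocal (PrimeSpectrum B))
    (h4 : ProEtW.IsWLocalMap (PrimeSpectrum.comap (algebraMap A B)))
    (h5 : Function.Bijective
      (PrimeSpectrum.continuous_comap (algebraMap A B)).connectedComponentsMap) :
    Function.Bijective (algebraMap A B) := by
  have hA := H1CAlg.WLoc.split_of_isWLocal h2
  have hB := H1CAlg.WLoc.split_of_isWLocal h3
  refine H1CAlg.Zar.bijective_of_identifiesLocalRings h1 fun m hm => ?_
  haveI := hm.isPrime
  -- closed points of `B` and `A`
  let f := PrimeSpectrum.comap (algebraMap A B)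
  have hclosed : ∀ n : Ideal B, n.IsMaximal → (n.comap (algebraMap A B)).IsMaximal := fun n hn => by
    haveI := hn.isPrime
    exact (PrimeSpectrum.isClosed_singleton_iff_isMaximal (f ⟨n, hn.isPrime⟩)).1
      (h4.2 ⟨n, hn.isPrime⟩ ((PrimeSpectrum.isClosed_singleton_iff_isMaximal _).2 hn))
  obtain ⟨c, hc⟩ := h5.2 (ConnectedComponents.mk ⟨m, hm.isPrime⟩)
  obtain ⟨⟨z, hz⟩, rfl⟩ := hB.bijective_mk.2 c
  have hzmax : z.asIdeal.IsMaximal := hB.isMaximal_of_le hz
  -- the closed point is determined by its component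
  have heq : ∀ (n : Ideal B) (hn : n.IsMaximal) (m' : Ideal A) (hm' : m'.IsMaximal),
      ConnectedComponents.mk (f ⟨n, hn.isPrime⟩) =
        (ConnectedComponents.mk ⟨m', hm'.isPrime⟩ : ConnectedComponents (PrimeSpectrum A)) →
      n.comap (algebraMap A B) = m' := by
    intro n hn m' hm' h
    have hn' := hclosed n hn
    have := @hA.bijective_mk.1 ⟨f ⟨n, hn.isPrime⟩, hA.le_of_isMaximal hn'⟩
      ⟨⟨m', hm'.isPrime⟩, hA.le_of_isMaximal hm'⟩ h
    exact congrArg (fun w => w.1.asIdeal) this
  refine ⟨z.asIdeal, z.isPrime, heq z.asIdeal hzmax m hm hc, fun q hq hqm => ?_⟩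
  haveI := hq
  obtain ⟨n', hn', hle⟩ := Ideal.exists_le_maximal q hq.ne_top
  have h6 : n'.comap (algebraMap A B) = m :=
    hA.eq_of_le_of_le (q := q.comap (algebraMap A B)) (hclosed n' hn') hm (Ideal.comap_mono hle) hqm
  have h7 : (ConnectedComponents.mk (⟨n', hn'.isPrime⟩ : PrimeSpectrum B)) = ConnectedComponents.mk z := by
    apply h5.1
    refine Eq.trans ?_ hc.symm
    show ConnectedComponents.mk (f ⟨n', hn'.isPrime⟩) = _
    exact congrArg ConnectedComponents.mk (PrimeSpectrum.ext h6)
  have h8 := @hB.bijective_mk.1 ⟨⟨n', hn'.isPrime⟩, hB.le_of_isMaximal hn'⟩ ⟨z, hz⟩ h7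
  rw [← show n' = z.asIdeal from congrArg (fun w => w.1.asIdeal) h8]
  exact hle

end Groth.Agent.S0699
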