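import Groth.Statements.S0702
import Groth.Agent.S0701
import Mathlib.RingTheory.IntegralClosure.Algebra.Basic
import Mathlib.RingTheory.Algebraic.Integral

set_option autoImplicit false
open CategoryTheory CategoryTheory.Limits AlgebraicGeometry Opposite Topology
universe u
open ProEtW

namespace Groth.Agent.S0702

/-- Let Spec A be profinite and A -> B induce algebraic extensions of residue fields at all primes. Then
Spec B is profinite. -/
theorem result (A B : Type u) [CommRing A] [CommRing B]
    [Algebra A B] [T2Space (PrimeSpectrum A)] [TotallyDisconnectedSpace (PrimeSpectrum A)]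
    (h : ProEtW.AlgebraicResidueExtensions A B) :
    ProEtW.IsProfinite (PrimeSpectrum B) := by
  refine Groth.Agent.S0701.result A B fun q q' hqq hle => ?_
  have hmax : (q.asIdeal.comap (algebraMap A B)).IsMaximal :=
    (PrimeSpectrum.isClosed_singleton_iff_isMaximal
      (PrimeSpectrum.comap (algebraMap A B) q)).1 isClosed_singleton
  letI := Ideal.Quotient.field (q.asIdeal.comap (algebraMap A B))
  haveI := h q.asIdeal
  haveI : Algebra.IsIntegral (A ⧸ q.asIdeal.comap (algebraMap A B)) (B ⧸ q.asIdeal) :=
    Algebra.IsAlgebraic.isIntegral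
  have hf : IsField (B ⧸ q.asIdeal) := isField_of_isIntegral_of_isField' (R := A ⧸ q.asIdeal.comap (algebraMap A B)) (S := B ⧸ q.asIdeal) (Field.toIsField _)
  have hqmax := Ideal.Quotient.maximal_of_isField _ hf
  exact PrimeSpectrum.ext (hqmax.eq_of_le q'.2.ne_top hle)

end Groth.Agent.S0702
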