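import Groth.Statements.S0704
import Groth.Agent.H1CAlg.SpectralPullback

set_option autoImplicit false
open Topology
universe u
open ProEtW

namespace Groth.Agent.S0704

/-- With X, T, g and the fibre product Y of X and T over pi_0(X) as in the first part, if X is moreover
w-local then Y is w-local, the projection Y -> X is w-local, and the closed points of Y are exactly
the points mapping to closed points of X. -/
theorem result (X T : Type u) [TopologicalSpace X]
    [TopologicalSpace T] [CompactSpace T] [T2Space T] [TotallyDisconnectedSpace T]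
    (hX : ProEtW.IsWLocal X) (g : C(T, _root_.ConnectedComponents X)) :
    ProEtW.IsWLocal {p : X × T // _root_.ConnectedComponents.mk p.1 = g p.2} ∧
      ProEtW.IsWLocalMap (fun y : {p : X × T // _root_.ConnectedComponents.mk p.1 = g p.2} => y.1.1) ∧
      ProEtW.closedPoints {p : X × T // _root_.ConnectedComponents.mk p.1 = g p.2} =
        (fun y : {p : X × T // _root_.ConnectedComponents.mk p.1 = g p.2} => y.1.1) ⁻¹' ProEtW.closedPoints X := by
  obtain ⟨hs, hclosed, huniq⟩ := hX
  haveI := hs
  have hPc := H1CAlg.SpecPull.isClosed_pull g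
  have hspec := H1CAlg.SpecPull.spectralSpace_pull g
  let P : Set (X × T) := H1CAlg.SpecPull.Pull g
  -- specialisation in the pullback
  have hsp : ∀ y z : P, y ⤳ z ↔ y.1.1 ⤳ z.1.1 ∧ y.1.2 = z.1.2 := fun y z => by
    rw [subtype_specializes_iff, specializes_prod, specializes_iff_eq (X := T)]
  have hcl : ∀ y : P, IsClosed ({y} : Set P) ↔ IsClosed ({y.1.1} : Set X) := fun y => by
    constructor
    · intro hy
      refine closure_subset_iff_isClosed.1 fun x hx => ?_
      have hxy : y.1.1 ⤳ x := specializes_iff_mem_closure.2 hx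
      have hx' : ConnectedComponents.mk x = g y.1.2 := by
        refine (ConnectedComponents.coe_eq_coe'.2 ?_).trans y.2
        exact hxy.mem_closed isClosed_connectedComponent mem_connectedComponent
      have h1 : y ⤳ (⟨(x, y.1.2), hx'⟩ : P) := (hsp _ _).2 ⟨hxy, rfl⟩
      have h2 := h1.mem_closed hy rfl
      exact congrArg (fun w : P => w.1.1) (Set.mem_singleton_iff.1 h2)
    · intro hy
      have h1 : IsClosed ({y.1.1} ×ˢ {y.1.2} : Set (X × T)) := hy.prod isClosed_singleton
      rw [Set.singleton_prod_singleton, Prod.mk.eta] at h1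
      have h2 := h1.preimage (continuous_subtype_val (p := fun p => p ∈ P))
      convert! h2 using 1
      ext z
      exact Subtype.ext_iff
  have hproj : Continuous (fun y : P => y.1.1) := continuous_fst.comp continuous_subtype_val
  refine ⟨⟨hspec, ?_, fun y => ?_⟩, ⟨⟨hproj, fun U hUo hUc => ?_⟩, fun y hy => (hcl y).1 hy⟩,
    Set.ext hcl⟩
  · have h1 := hclosed.preimage hproj
    convert! h1 using 1
    exact Set.ext hcl
  · obtain ⟨x, ⟨hxc, hxy⟩, hxu⟩ := huniq y.1.1
    have hx' : ConnectedComponents.mk x = g y.1.2 := by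
      refine (ConnectedComponents.coe_eq_coe'.2 ?_).trans y.2
      exact hxy.mem_closed isClosed_connectedComponent mem_connectedComponent
    refine ⟨⟨(x, y.1.2), hx'⟩, ⟨(hcl _).2 hxc, (hsp _ _).2 ⟨hxy, rfl⟩⟩, fun z hz => ?_⟩
    obtain ⟨hz1, hz2⟩ := (hsp _ _).1 hz.2
    exact Subtype.ext (Prod.ext (hxu z.1.1 ⟨(hcl z).1 hz.1, hz1⟩) hz2.symm)
  · have h1 : IsCompact (P ∩ U ×ˢ (Set.univ : Set T)) := (hUc.prod isCompact_univ).inter_left hPc
    rw [Subtype.isCompact_iff]
    convert! h1 using 1
    ext p
    constructor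
    · rintro ⟨z, hz, rfl⟩
      exact ⟨z.2, hz, trivial⟩
    · rintro ⟨hp, hpU, -⟩
      exact ⟨⟨p, hp⟩, hpU, rfl⟩

end Groth.Agent.S0704
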