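import Groth.Statements.S0705
import Groth.Agent.H1CAlg.ZarColimQuot

set_option autoImplicit false
open CategoryTheory CategoryTheory.Limits AlgebraicGeometry Opposite Topology
universe u
open ProEtW

namespace Groth.Agent.S0705

/-- Let I be an ideal of A such that V(I) is a profinite space. Then some ind-Zariski A-algebra B has
w-local spectrum whose closed points are exactly V(IB), with A/I -> B/IB bijective. -/
theorem result (A : Type u) [CommRing A] (I : Ideal A)
    (hI : ProEtW.IsProfinite (PrimeSpectrum.zeroLocus (R := A) I)) :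
    ∃ (B : Type u) (_ : CommRing B) (_ : Algebra A B),
      EtPBC.IsIndZariski A B ∧ ProEtW.IsWLocal (PrimeSpectrum B) ∧
      ProEtW.closedPoints (PrimeSpectrum B) = PrimeSpectrum.zeroLocus (I.map (algebraMap A B)) ∧
      Function.Bijective (Ideal.quotientMap (I.map (algebraMap A B)) (algebraMap A B)
        Ideal.le_comap_map) := by
  obtain ⟨H, _, _, π, hH⟩ := H1CAlg.Zar.exists_isZarColim (A := A) (k := A ⧸ I)
  -- all primes containing `I` are maximal
  have hmax : ∀ p : Ideal (A ⧸ I), p.IsPrime → p.IsMaximal := fun p hp => by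
    haveI := hp
    obtain ⟨hc, hT, -⟩ := hI
    let x : PrimeSpectrum.zeroLocus (R := A) I :=
      ⟨⟨p.comap (Ideal.Quotient.mk I), Ideal.comap_isPrime _ _⟩, fun a ha => by
        show Ideal.Quotient.mk I a ∈ p
        rw [Ideal.Quotient.eq_zero_iff_mem.2 ha]
        exact p.zero_mem⟩
    have hx : IsClosed ({x.1} : Set (PrimeSpectrum A)) := by
      have h1 := (PrimeSpectrum.isClosed_zeroLocus (R := A) I).isClosedMap_subtype_val _
        (isClosed_singleton (x := x))
      rwa [Set.image_singleton] at h1
    haveI : (p.comap (Ideal.Quotient.mk I)).IsMaximal :=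
      (PrimeSpectrum.isClosed_singleton_iff_isMaximal x.1).1 hx
    rw [← Ideal.map_comap_of_surjective _ Ideal.Quotient.mk_surjective p]
    refine Ideal.IsMaximal.map_of_surjective_of_ker_le Ideal.Quotient.mk_surjective ?_
    rw [Ideal.mk_ker]
    exact x.2
  have hS := hH.split fun x => H1CAlg.Zar.exists_unit_idem_of_isMaximal hmax (π x)
  have hk := hH.ker_quotient
  refine ⟨H, inferInstance, inferInstance, hH.isIndZariski, hS.isWLocal,
    by rw [← hk]; exact hS.closedPoints_eq, ?_, ?_⟩
  · refine Ideal.quotientMap_injective' fun a ha => ?_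
    rw [Ideal.mem_comap, ← hk, RingHom.mem_ker, π.commutes] at ha
    exact Ideal.Quotient.eq_zero_iff_mem.1 ha
  · intro y
    obtain ⟨h, rfl⟩ := Ideal.Quotient.mk_surjective y
    obtain ⟨a, ha⟩ := Ideal.Quotient.mk_surjective (π h)
    refine ⟨Ideal.Quotient.mk I a, ?_⟩
    rw [Ideal.quotientMap_mk, Ideal.Quotient.eq, ← hk, RingHom.mem_ker, map_sub, π.commutes,
      sub_eq_zero]
    exact ha

end Groth.Agent.S0705
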