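import Groth.Statements.S0706
import Mathlib.RingTheory.Spectrum.Prime.Topology

set_option autoImplicit false
open CategoryTheory CategoryTheory.Limits AlgebraicGeometry Opposite Topology
universe u
open ProEtW

namespace Groth.Agent.S0706

/-- Let f be an element and I an ideal of A, and Z the intersection of D(f) and V(I) in Spec A. There is
a multiplicative subset S of A for which the image of Spec(S^{-1}A) in Spec A consists precisely of
the points having a specialization in Z. -/
theorem result (A : Type u) [CommRing A] (f : A) (I : Ideal A) :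
    ∃ S : Submonoid A,
      Set.range (PrimeSpectrum.comap (algebraMap A (Localization S))) =
        {x | ∃ z : PrimeSpectrum A,
          z ∈ (PrimeSpectrum.basicOpen f : Set (PrimeSpectrum A)) ∩ PrimeSpectrum.zeroLocus I ∧ x ⤳ z} := by

  classical
  let Z : Set (PrimeSpectrum A) := {z | f ∉ z.asIdeal ∧ I ≤ z.asIdeal}
  let S : Submonoid A :=
    { carrier := {s | ∀ z ∈ Z, s ∉ z.asIdeal}
      one_mem' := fun z _ h => z.isPrime.ne_top ((Ideal.eq_top_iff_one _).mpr h)
      mul_mem' := fun ha hb z hz h => (z.isPrime.mem_or_mem h).elim (ha z hz) (hb z hz) }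
  refine ⟨S, ?_⟩
  rw [PrimeSpectrum.localization_comap_range (Localization S) S]
  ext x
  constructor
  · intro hx
    by_cases hf : f ∈ (x.asIdeal ⊔ I).radical
    · exfalso
      obtain ⟨k, hk⟩ := hf
      obtain ⟨a, ha, i, hi, hai⟩ := Submodule.mem_sup.mp hk
      refine Set.disjoint_left.mp hx (show a ∈ (S : Set A) from fun z hz haz => ?_) ha
      exact hz.1 (z.isPrime.mem_of_pow_mem k (hai ▸ add_mem haz (hz.2 hi)))
    · rw [Ideal.radical_eq_sInf, Submodule.mem_sInf] at hf
      push Not at hf
      obtain ⟨P, ⟨hxP, hP⟩, hfP⟩ := hf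
      exact ⟨⟨P, hP⟩, ⟨hfP, le_sup_right.trans hxP⟩,
        (PrimeSpectrum.le_iff_specializes x ⟨P, hP⟩).mp (le_sup_left.trans hxP)⟩
  · rintro ⟨z, ⟨hzf, hzI⟩, hxz⟩
    exact Set.disjoint_left.mpr fun s hs hsx => hs z ⟨hzf, hzI⟩ ((PrimeSpectrum.le_iff_specializes x z).mpr hxz hsx)

end Groth.Agent.S0706
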