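import Groth.Statements.S0707
import Groth.Agent.S0677
import Groth.Agent.H1CAlg.WLocal
import Groth.Agent.H12AlgSp.EtLocalRing

set_option autoImplicit false
open CategoryTheory CategoryTheory.Limits AlgebraicGeometry Opposite Topology
universe u
open ProEtW

namespace Groth.Agent.S0707

open PrimeSpectrum in
theorem extremallyDisconnected_of_isOpen {X : Type*} [TopologicalSpace X] [ExtremallyDisconnected X]
    (U : Set X) (hU : IsOpen U) : ExtremallyDisconnected U := by
  refine ⟨fun V hV => ?_⟩
  have h : closure V = Subtype.val ⁻¹' closure (Subtype.val '' V) := by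
    rw [Topology.IsInducing.subtypeVal.closure_eq_preimage_closure_image]
  rw [h]
  exact (ExtremallyDisconnected.open_closure _ (hU.isOpenEmbedding_subtypeVal.isOpenMap V hV)).preimage
    continuous_subtype_val

/-- Let A be w-contractible, E a finite set of elements of A with zero set Z in Spec A, and B a
localization of A at a multiplicative subset S such that the image of Spec B → Spec A is precisely
the set of points of Spec A specializing to some point of Z. Then B is w-contractible. -/
theorem result (A B : Type u) [CommRing A] [CommRing B]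
    [Algebra A B] (S : Submonoid A) [IsLocalization S B] (E : Finset A)
    (hB : Set.range (PrimeSpectrum.comap (algebraMap A B)) =
      {x | ∃ z : PrimeSpectrum A, z ∈ PrimeSpectrum.zeroLocus (R := A) E ∧ x ⤳ z})
    (hA : EtPBC.IsWContractible A) : EtPBC.IsWContractible B := by
  classical
  obtain ⟨hw, hED, hsh⟩ := (Groth.Agent.S0677.result A).1 hA
  let J : Ideal A := PrimeSpectrum.vanishingIdeal (ProEtW.closedPoints (PrimeSpectrum A))
  have hS : H1CAlg.WLoc.Split A J := H1CAlg.WLoc.split_of_isWLocal hw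
  have hemb := PrimeSpectrum.localization_comap_isEmbedding B S
  have hmem : ∀ x : PrimeSpectrum A, (∃ m : Ideal A, m.IsMaximal ∧ x.asIdeal ≤ m ∧ (E : Set A) ⊆ m) →
      x ∈ Set.range (PrimeSpectrum.comap (algebraMap A B)) := by
    rintro x ⟨m, hm, hle, hEm⟩
    rw [hB]
    exact ⟨⟨m, hm.isPrime⟩, hEm, (PrimeSpectrum.le_iff_specializes _ _).1 hle⟩
  have hEmax : ∀ n : Ideal B, n.IsMaximal →
      (n.comap (algebraMap A B)).IsMaximal ∧ (E : Set A) ⊆ n.comap (algebraMap A B) := fun n hn => by
    obtain ⟨z, hz, hxz⟩ : PrimeSpectrum.comap (algebraMap A B) ⟨n, hn.isPrime⟩ ∈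
        {x | ∃ z : PrimeSpectrum A, z ∈ PrimeSpectrum.zeroLocus (R := A) E ∧ x ⤳ z} := hB ▸ ⟨_, rfl⟩
    obtain ⟨m, hm, hzm⟩ := Ideal.exists_le_maximal z.asIdeal z.isPrime.ne_top
    have hxm : n.comap (algebraMap A B) ≤ m :=
      ((PrimeSpectrum.asIdeal_le_asIdeal _ z).2 ((PrimeSpectrum.le_iff_specializes _ _).2 hxz)).trans hzm
    obtain ⟨q, hq⟩ := hmem ⟨m, hm.isPrime⟩ ⟨m, hm, le_rfl, hz.trans hzm⟩
    have hqm : q.asIdeal.comap (algebraMap A B) = m := congrArg PrimeSpectrum.asIdeal hq
    have hnq : n ≤ q.asIdeal := by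
      rw [← IsLocalization.map_under S B n, ← IsLocalization.map_under S B q.asIdeal]
      exact Ideal.map_mono (hxm.trans hqm.ge)
    rw [hn.eq_of_le q.isPrime.ne_top hnq, hqm]
    exact ⟨hm, hz.trans hzm⟩
  have hcl : ProEtW.closedPoints (PrimeSpectrum B) =
      PrimeSpectrum.zeroLocus (J.map (algebraMap A B) : Set B) := by
    ext x
    rw [PrimeSpectrum.mem_zeroLocus, SetLike.coe_subset_coe, Ideal.map_le_iff_le_comap]
    show IsClosed ({x} : Set (PrimeSpectrum B)) ↔ _
    rw [PrimeSpectrum.isClosed_singleton_iff_isMaximal]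
    refine ⟨fun hx => hS.le_of_isMaximal (hEmax _ hx).1, fun hx => ?_⟩
    obtain ⟨n, hn, hle⟩ := Ideal.exists_le_maximal x.asIdeal x.isPrime.ne_top
    haveI := hS.isMaximal_of_le (q := x.asIdeal.comap (algebraMap A B)) hx
    have h1 := this.eq_of_le (Ideal.comap_ne_top _ hn.ne_top) (Ideal.comap_mono hle)
    suffices x.asIdeal = n by rwa [this]
    rw [← IsLocalization.map_under S B x.asIdeal, ← IsLocalization.map_under S B n]
    exact congrArg _ h1
  have hwB : ProEtW.IsWLocal (PrimeSpectrum B) := by
    refine ⟨inferInstance, ?_, fun q => ?_⟩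
    · rw [show {x : PrimeSpectrum B | IsClosed ({x} : Set (PrimeSpectrum B))} = _ from hcl]
      exact PrimeSpectrum.isClosed_zeroLocus _
    · obtain ⟨n, hn, hle⟩ := Ideal.exists_le_maximal q.asIdeal q.isPrime.ne_top
      refine ⟨⟨n, hn.isPrime⟩, ⟨(PrimeSpectrum.isClosed_singleton_iff_isMaximal _).2 hn,
        (PrimeSpectrum.le_iff_specializes q ⟨n, hn.isPrime⟩).1 hle⟩, fun y hy => PrimeSpectrum.ext ?_⟩
      have h1 := (PrimeSpectrum.isClosed_singleton_iff_isMaximal y).1 hy.1
      have h2 := (PrimeSpectrum.le_iff_specializes q y).2 hy.2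
      have he := hS.eq_of_le_of_le (q := q.asIdeal.comap (algebraMap A B)) (hEmax _ h1).1 (hEmax _ hn).1
        (Ideal.comap_mono h2) (Ideal.comap_mono hle)
      show y.asIdeal = n
      rw [← IsLocalization.map_under S B y.asIdeal, ← IsLocalization.map_under S B n]
      exact congrArg _ he
  refine (Groth.Agent.S0677.result B).2 ⟨hwB, ?_, fun n hn => ?_⟩
  · obtain ⟨φA, -⟩ := hS.exists_homeomorph
    haveI := hS.t2Space_connectedComponents
    haveI : T2Space (PrimeSpectrum.zeroLocus (J : Set A)) := φA.isEmbedding.t2Space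
    haveI : ExtremallyDisconnected (PrimeSpectrum.zeroLocus (J : Set A)) :=
      extremallyDisconnected_of_homeo φA.symm
    let W : Set (PrimeSpectrum.zeroLocus (J : Set A)) := {z | (E : Set A) ⊆ z.1.asIdeal}
    have hWopen : IsOpen W := by
      have h : W = ⋂ e ∈ (E : Set A), {z : PrimeSpectrum.zeroLocus (J : Set A) | e ∈ z.1.asIdeal} := by
        ext z; simp [W, Set.subset_def]
      rw [h]
      refine Set.Finite.isOpen_biInter E.finite_toSet fun e _ => ?_
      obtain ⟨ε, y, hε, hxy, hx1⟩ := hS.split e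
      have h2 : {z : PrimeSpectrum.zeroLocus (J : Set A) | e ∈ z.1.asIdeal} =
          Subtype.val ⁻¹' (PrimeSpectrum.basicOpen ε : Set (PrimeSpectrum A))ᶜ := by
        ext z
        show e ∈ z.1.asIdeal ↔ ¬ ε ∉ z.1.asIdeal
        rw [not_not]
        constructor
        · intro he
          have := z.1.asIdeal.sub_mem (z.1.asIdeal.mul_mem_right y he) (z.2 hxy)
          rwa [sub_sub_cancel] at this
        · intro he
          refine (z.1.isPrime.mem_or_mem (z.1.isPrime.radical_le_iff.2 z.2 hx1)).resolve_right fun h3 => ?_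
          exact H1CAlg.WLoc.notMem_of_one_sub_mem _ h3 he
      rw [h2]
      exact (H1CAlg.WLoc.isClopen_basicOpen_of_isIdempotentElem hε).compl.isOpen.preimage
        continuous_subtype_val
    haveI : ExtremallyDisconnected W := extremallyDisconnected_of_isOpen W hWopen
    have hSB := H1CAlg.WLoc.split_of_isWLocal hwB
    obtain ⟨φB, -⟩ := hSB.exists_homeomorph
    let J' : Ideal B := PrimeSpectrum.vanishingIdeal (ProEtW.closedPoints (PrimeSpectrum B))
    have hmaxB : ∀ x : PrimeSpectrum.zeroLocus (J' : Set B), x.1.asIdeal.IsMaximal := fun x =>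
      hSB.isMaximal_of_le x.2
    let f : PrimeSpectrum.zeroLocus (J' : Set B) → W := fun x =>
      ⟨⟨PrimeSpectrum.comap (algebraMap A B) x.1, hS.le_of_isMaximal (hEmax _ (hmaxB x)).1⟩,
        (hEmax _ (hmaxB x)).2⟩
    have hf : Continuous f :=
      (((PrimeSpectrum.continuous_comap _).comp continuous_subtype_val).subtype_mk _).subtype_mk _
    have hfb : Function.Bijective f := by
      refine ⟨fun x y hxy => Subtype.ext (hemb.injective (congrArg (fun w => w.1.1) hxy)), fun w => ?_⟩
      haveI := hS.isMaximal_of_le (q := w.1.1.asIdeal) w.1.2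
      obtain ⟨q, hq⟩ := hmem w.1.1 ⟨w.1.1.asIdeal, inferInstance, le_rfl, w.2⟩
      have hq' : q ∈ PrimeSpectrum.zeroLocus (J' : Set B) := by
        rw [← hSB.closedPoints_eq, hcl]
        exact Ideal.map_le_iff_le_comap.2 (w.1.2.trans (congrArg PrimeSpectrum.asIdeal hq).ge)
      exact ⟨⟨q, hq'⟩, Subtype.ext (Subtype.ext hq)⟩
    haveI : CompactSpace (PrimeSpectrum.zeroLocus (J' : Set B)) :=
      isCompact_iff_compactSpace.1 (PrimeSpectrum.isClosed_zeroLocus _).isCompact
    exact extremallyDisconnected_of_homeo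
      ((Continuous.homeoOfEquivCompactToT2 (f := Equiv.ofBijective f hfb) hf).symm.trans φB)
  · haveI := (hEmax n hn).1
    haveI : IsLocalization.AtPrime (Localization.AtPrime n) (n.comap (algebraMap A B)) :=
      IsLocalization.isLocalization_isLocalization_atPrime_isLocalization S (Localization.AtPrime n) n
    exact H12AlgSp.isStrictlyHenselianLocalRing_of_ringEquiv
      (IsLocalization.algEquiv (n.comap (algebraMap A B)).primeCompl
        (Localization.AtPrime (n.comap (algebraMap A B))) (Localization.AtPrime n)).toRingEquiv (hsh _)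

end Groth.Agent.S0707
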