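import Groth.Statements.S0708
import Groth.Agent.H1CAlg.EtaleRetractions
import Groth.Agent.H1CAlg.IndEtale
import Mathlib.RingTheory.Smooth.NoetherianDescent

set_option autoImplicit false
open CategoryTheory CategoryTheory.Limits AlgebraicGeometry Opposite Topology
universe u
open ProEtW

namespace Groth.Agent.S0708

open scoped TensorProduct

theorem exists_away_lift {A B : Type u} [CommRing A] [CommRing B] [Algebra A B] (S : Submonoid A)
    [IsLocalization S B] (P : Type u) [CommRing P] [Algebra A P] [Algebra.FinitePresentation A P]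
    (f : P →ₐ[A] B) :
    ∃ (s : A) (hs : s ∈ S) (g : P →ₐ[A] Localization.Away s),
      (IsLocalization.liftAlgHom (M := Submonoid.powers s) (f := Algebra.ofId A B)
        (fun y => by
          obtain ⟨_, n, rfl⟩ := y
          exact IsLocalization.map_units B (⟨s ^ n, S.pow_mem hs n⟩ : S))).comp g = f := by
  classical
  obtain ⟨n, π, hπ, T, hT⟩ := Algebra.FinitePresentation.out (R := A) (A := P)
  obtain ⟨⟨s₀, hs₀⟩, hint⟩ := IsLocalization.exist_integer_multiples_of_finset S
    (Finset.univ.image fun i : Fin n => f (π (MvPolynomial.X i)))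
  choose a ha using fun i : Fin n =>
    hint _ (Finset.mem_image.2 ⟨i, Finset.mem_univ i, rfl⟩)
  let L₀ := Localization.Away s₀
  let ι₀ : L₀ →ₐ[A] B := IsLocalization.liftAlgHom (M := Submonoid.powers s₀) (f := Algebra.ofId A B)
    (fun y => by
      obtain ⟨_, n, rfl⟩ := y
      exact IsLocalization.map_units B (⟨s₀ ^ n, S.pow_mem hs₀ n⟩ : S))
  let ev : MvPolynomial (Fin n) A →ₐ[A] L₀ := MvPolynomial.aeval fun i =>
    algebraMap A L₀ (a i) * IsLocalization.Away.invSelf s₀
  have hev : ι₀.comp ev = f.comp π := MvPolynomial.algHom_ext fun i => by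
    have h1 : IsUnit (algebraMap A B s₀) := IsLocalization.map_units B (⟨s₀, hs₀⟩ : S)
    refine h1.mul_left_cancel ?_
    rw [AlgHom.comp_apply, AlgHom.comp_apply, MvPolynomial.aeval_X, map_mul, ι₀.commutes,
      mul_left_comm, show algebraMap A B s₀ = ι₀ (algebraMap A L₀ s₀) from (ι₀.commutes s₀).symm,
      ← map_mul, IsLocalization.Away.mul_invSelf, map_one, mul_one, ι₀.commutes, ← Algebra.smul_def]
    exact ha i
  have hkill : ∀ r ∈ T, ∃ t ∈ S, algebraMap A L₀ t * ev r = 0 := fun r hr => by
    obtain ⟨⟨c, ⟨_, m, rfl⟩⟩, hc⟩ := IsLocalization.surj (Submonoid.powers s₀) (ev r)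
    have h1 := congrArg ι₀ hc
    have h2 : ι₀ (ev r) = 0 := by
      rw [← AlgHom.comp_apply, hev, AlgHom.comp_apply,
        show π r = 0 from hT.le (Ideal.subset_span hr), map_zero]
    rw [map_mul, h2, zero_mul, ι₀.commutes] at h1
    obtain ⟨⟨t, ht⟩, htc⟩ := IsLocalization.exists_of_eq (M := S) (S := B)
      (x := c) (y := 0) (by rw [map_zero]; exact h1.symm)
    refine ⟨t, ht, ((IsLocalization.map_units L₀ (⟨s₀ ^ m, m, rfl⟩ : Submonoid.powers s₀))).mul_left_eq_zero.1 ?_⟩
    rw [mul_assoc, hc, ← map_mul, show t * c = 0 by simpa using htc, map_zero]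
  choose t htS ht using hkill
  let s := s₀ * ∏ r ∈ T.attach, t r.1 r.2
  have hs : s ∈ S := S.mul_mem hs₀ (S.prod_mem fun r _ => htS r.1 r.2)
  let L := Localization.Away s
  have hu : ∀ y : Submonoid.powers s₀, IsUnit (algebraMap A L y) := fun y => by
    obtain ⟨_, m, rfl⟩ := y
    rw [map_pow]
    refine IsUnit.pow m (isUnit_of_dvd_unit ?_ (IsLocalization.Away.algebraMap_isUnit (S := L) s))
    exact map_dvd _ (dvd_mul_right _ _)
  let ψ : L₀ →ₐ[A] L := IsLocalization.liftAlgHom (f := Algebra.ofId A L) hu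
  have hvanish : ∀ x ∈ RingHom.ker π, ψ (ev x) = 0 := fun x hx => by
    have hle : Ideal.span (T : Set (MvPolynomial (Fin n) A)) ≤ RingHom.ker (ψ.comp ev).toRingHom := by
      refine Ideal.span_le.2 fun r hr => ?_
      show ψ (ev r) = 0
      have h1 := congrArg ψ (ht r hr)
      rw [map_mul, ψ.commutes, map_zero] at h1
      refine IsUnit.mul_right_eq_zero (isUnit_of_dvd_unit ?_
        (IsLocalization.Away.algebraMap_isUnit (S := L) s)) |>.1 h1
      exact map_dvd _ (Dvd.dvd.mul_left (Finset.dvd_prod_of_mem (fun r : {r // r ∈ T} => t r.1 r.2)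
        (Finset.mem_attach T ⟨r, hr⟩)) _)
    exact hle (hT.ge hx)
  let g : P →ₐ[A] L := (Ideal.Quotient.liftₐ _ (ψ.comp ev) hvanish).comp
    (Ideal.quotientKerAlgEquivOfSurjective hπ).symm.toAlgHom
  refine ⟨s, hs, g, AlgHom.ext fun p => ?_⟩
  obtain ⟨x, rfl⟩ := hπ p
  rw [← AlgHom.comp_apply f π, ← hev]
  have hx : (Ideal.quotientKerAlgEquivOfSurjective hπ).symm (π x) = Ideal.Quotient.mk _ x :=
    (Ideal.quotientKerAlgEquivOfSurjective hπ).injective (by rw [AlgEquiv.apply_symm_apply]; rfl)
  show _ = ι₀ (ev x)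
  rw [AlgHom.comp_apply, show g (π x) = ψ (ev x) from by
    show Ideal.Quotient.liftₐ _ (ψ.comp ev) hvanish ((Ideal.quotientKerAlgEquivOfSurjective hπ).symm (π x)) = _
    rw [hx]; rfl]
  exact DFunLike.congr_fun (IsLocalization.algHom_ext (Submonoid.powers s₀) (Subsingleton.elim _ _) :
    (IsLocalization.liftAlgHom (M := Submonoid.powers s) (f := Algebra.ofId A B) _).comp ψ = ι₀) (ev x)

/-- Let A be a ring all of whose faithfully flat etale algebras have retractions, I an ideal with zero
set Z, and B a localization of A at a multiplicative subset such that the image of Spec B → Spec A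
is precisely the set of points of Spec A specializing to some point of Z. Then every faithfully flat
etale B-algebra has a retraction. -/
theorem result (A B : Type u) [CommRing A] [CommRing B]
    [Algebra A B] (S : Submonoid A) [IsLocalization S B] (I : Ideal A)
    (hB : Set.range (PrimeSpectrum.comap (algebraMap A B)) =
      {x | ∃ z : PrimeSpectrum A, z ∈ PrimeSpectrum.zeroLocus (R := A) I ∧ x ⤳ z})
    (hA : ProEtW.HasEtaleRetractions A) : ProEtW.HasEtaleRetractions B := by
  intro D _ _ hff het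
  obtain ⟨T, E₀, _, _, hT, _, ⟨e⟩⟩ :=
    Algebra.Etale.exists_subalgebra_fg (R := ℤ) (A := B) (B := D)
  haveI : Algebra.FiniteType ℤ T := (Subalgebra.fg_iff_finiteType T).mp hT
  haveI : Algebra.FinitePresentation ℤ T := Algebra.FinitePresentation.of_finiteType.mp inferInstance
  obtain ⟨s, hs, g, hg⟩ := exists_away_lift S (A ⊗[ℤ] T)
    (Algebra.TensorProduct.lift (Algebra.ofId A B) T.val fun _ _ => Commute.all _ _)
  let L := Localization.Away s
  haveI : Algebra.Etale A L := Algebra.Etale.of_isLocalizationAway s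
  let k : L →ₐ[A] B := IsLocalization.liftAlgHom (M := Submonoid.powers s) (f := Algebra.ofId A B)
    (fun y => by
      obtain ⟨_, n, rfl⟩ := y
      exact IsLocalization.map_units B (⟨s ^ n, S.pow_mem hs n⟩ : S))
  letI : Algebra T L := (g.toRingHom.comp Algebra.TensorProduct.includeRight.toRingHom).toAlgebra
  letI : Algebra L B := k.toRingHom.toAlgebra
  have hk : ∀ t : T, k (g (1 ⊗ₜ t)) = (t : B) := fun t => by
    refine (DFunLike.congr_fun hg (1 ⊗ₜ t)).trans ?_
    simp
  haveI : IsScalarTower T L B := IsScalarTower.of_algebraMap_eq fun t => (hk t).symm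
  haveI : SMulCommClass T A L := ⟨fun a b x => by
    simp only [Algebra.smul_def]; ring⟩
  haveI : SMulCommClass A T L := SMulCommClass.symm _ _ _
  haveI : Algebra.Etale A (L ⊗[T] E₀) := Algebra.Etale.comp A L (L ⊗[T] E₀)
  letI : Algebra L D := ((algebraMap B D).comp (algebraMap L B)).toAlgebra
  haveI : IsScalarTower T L D := IsScalarTower.of_algebraMap_eq fun t => by
    show algebraMap T D t = algebraMap B D (algebraMap L B (algebraMap T L t))
    rw [← IsScalarTower.algebraMap_apply T L B]
    rfl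
  let ψ : L ⊗[T] E₀ →ₐ[L] D :=
    Algebra.TensorProduct.lift (Algebra.ofId L D)
      ((e.symm.toAlgHom.restrictScalars T).comp Algebra.TensorProduct.includeRight)
      fun _ _ => Commute.all _ _
  have hψ : ψ.toRingHom.comp (algebraMap A (L ⊗[T] E₀)) = (algebraMap B D).comp (algebraMap A B) :=
    RingHom.ext fun a => by
      show ψ (algebraMap L _ (algebraMap A L a)) = _
      rw [ψ.commutes]
      show algebraMap B D (k (algebraMap A L a)) = _
      rw [k.commutes]
      rfl
  obtain ⟨f⟩ := H1CAlg.EtaleRetr.exists_algHom_of_zeroLocus_subset hA I (L ⊗[T] E₀)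
    (fun z hz => by
      obtain ⟨q, rfl⟩ : z ∈ Set.range (PrimeSpectrum.comap (algebraMap A B)) := by
        rw [hB]; exact ⟨z, hz, specializes_rfl⟩
      haveI := hff
      obtain ⟨d, rfl⟩ := PrimeSpectrum.comap_surjective_of_faithfullyFlat (A := B) (B := D) q
      exact ⟨PrimeSpectrum.comap ψ.toRingHom d, by
        rw [← PrimeSpectrum.comap_comp_apply, hψ, PrimeSpectrum.comap_comp_apply]⟩)
    B (fun a ha => by
      by_contra hu
      obtain ⟨q, hq, hmem⟩ := exists_max_ideal_of_mem_nonunits (mem_nonunits_iff.2 hu)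
      obtain ⟨z, hz, hle⟩ : PrimeSpectrum.comap (algebraMap A B) ⟨q, hq.isPrime⟩ ∈
          {x | ∃ z : PrimeSpectrum A, z ∈ PrimeSpectrum.zeroLocus (R := A) I ∧ x ⤳ z} :=
        hB ▸ ⟨⟨q, hq.isPrime⟩, rfl⟩
      have h1 : a ∈ z.asIdeal := (PrimeSpectrum.le_iff_specializes _ _).2 hle hmem
      exact z.isPrime.ne_top ((Ideal.eq_top_iff_one _).2
        (by simpa using z.asIdeal.sub_mem h1 (hz ha))))
  have hfL : f.comp (IsScalarTower.toAlgHom A L (L ⊗[T] E₀)) = k :=
    IsLocalization.algHom_ext (Submonoid.powers s) (Subsingleton.elim _ _)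
  let f₀ : E₀ →ₐ[T] B :=
    { toRingHom := f.toRingHom.comp
        (Algebra.TensorProduct.includeRight : E₀ →ₐ[T] L ⊗[T] E₀).toRingHom
      commutes' := fun t => by
        show f (Algebra.TensorProduct.includeRight (algebraMap T E₀ t)) = _
        rw [AlgHom.commutes, IsScalarTower.algebraMap_apply T L (L ⊗[T] E₀)]
        exact (DFunLike.congr_fun hfL _).trans (hk t) }
  exact ⟨(Algebra.TensorProduct.lift (Algebra.ofId B B) f₀ fun _ _ => Commute.all _ _).comp
    e.toAlgHom⟩

end Groth.Agent.S0708
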