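import Groth.Statements.S0713
import Groth.Agent.H1WE.ProEtCover

set_option autoImplicit false
open CategoryTheory CategoryTheory.Limits AlgebraicGeometry Opposite
universe u
open ProEtS

namespace Groth.Agent.S0713

/-- Every object U of the small pro-étale site X_proét of a scheme X admits a covering {V → U} by a
single weakly contractible object V. -/
theorem result {X : Scheme.{u}} (U : X.ProEt) :
    ∃ (V : X.ProEt) (g : V ⟶ U),
      Sieve.generate (Presieve.singleton g) ∈ Scheme.ProEt.topology X U ∧ ProEtS.IsWC V := by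
  have key : ∀ x : U.left, ∃ V : U.left.Opens, IsAffineOpen V ∧ x ∈ V := fun x => by
    obtain ⟨V, hV, hxV, -⟩ := TopologicalSpace.Opens.isBasis_iff_nbhd.1 U.left.isBasis_affineOpens
      (TopologicalSpace.Opens.mem_top x)
    exact ⟨V, hV, hxV⟩
  choose O hO using key
  obtain ⟨P, g, h1, h2, -⟩ := H1WE.exists_wc_cover U O (fun x => (hO x).1) fun x => ⟨x, (hO x).2⟩
  exact ⟨P, g, h1, h2⟩

end Groth.Agent.S0713
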