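import Groth.Statements.S0715
import Groth.Agent.H26ProEt.WC

set_option autoImplicit false
open CategoryTheory CategoryTheory.Limits AlgebraicGeometry Opposite
universe u
open ProEtS

namespace Groth.Agent.S0715

/-- (1) iff (2), transposed from the big pro-etale site to the small pro-etale site X_proet: for an
object U of X_proet with affine underlying scheme, the ring of global functions of U is
w-contractible if and only if U is a weakly contractible object. -/
theorem result {X : Scheme.{u}} (U : X.ProEt) [IsAffine U.left] :
    EtPBC.IsWContractible ↥(Γ(U.left, ⊤)) ↔ ProEtS.IsWC U := by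
  constructor
  · intro h
    exact Groth.Agent.H26ProEt.isWC_of_refines (Groth.Agent.H26ProEt.refines_of_splits (Groth.Agent.H26ProEt.splits_iff.1 h))
  · intro h
    exact Groth.Agent.H26ProEt.splits_iff.2 (Groth.Agent.H26ProEt.splits_of_isWC h)

end Groth.Agent.S0715
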