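import Groth.Statements.S0721
import Groth.Agent.H1WE.PushExact
import Groth.Agent.H1WE.FiniteFP
import Mathlib.AlgebraicGeometry.Morphisms.Finite
import Mathlib.AlgebraicGeometry.Morphisms.FinitePresentation

set_option autoImplicit false
open CategoryTheory CategoryTheory.Limits AlgebraicGeometry Opposite
universe u
open ProEtS

namespace Groth.Agent.S0721

/-- For f : Z -> X finite and locally of finite presentation, f_{proet,*} on abelian sheaves is exact
(preserves finite limits and colimits; continuity of base change assumed as a binder). -/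
theorem result {Z X : Scheme.{u}} (f : Z ⟶ X) [IsFinite f]
    [LocallyOfFinitePresentation f] [ProEtS.PCont f] :
    PreservesFiniteLimits (ProEtS.pushP f) ∧ PreservesFiniteColimits (ProEtS.pushP f) := by
  refine H1WE.pushP_exact f fun V hV hwc => ?_
  haveI := hV
  haveI : IsAffine ((𝟭 Scheme).obj V.left) := hV
  let g := pullback.fst V.hom f
  haveI : IsFinite g := MorphismProperty.pullback_fst _ _ inferInstance
  haveI : LocallyOfFinitePresentation g := MorphismProperty.pullback_fst _ _ inferInstance
  haveI : IsAffine (pullback V.hom f) := isAffine_of_isAffineHom g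
  haveI hAff : IsAffine ((ProEtS.bcP f).obj V).left := inferInstanceAs (IsAffine (pullback V.hom f))
  refine H26ProEt.isWC_of_refines (H26ProEt.refines_of_splits (H26ProEt.splits_iff.1 ?_))
  show EtPBC.IsWContractible Γ(pullback V.hom f, ⊤)
  letI : Algebra Γ(V.left, ⊤) Γ(pullback V.hom f, ⊤) := g.appTop.hom.toAlgebra
  haveI : Module.Finite Γ(V.left, ⊤) Γ(pullback V.hom f, ⊤) :=
    (IsFinite.finite_app g ⊤ (isAffineOpen_top _) : g.appTop.hom.Finite)
  haveI : Algebra.FinitePresentation Γ(V.left, ⊤) Γ(pullback V.hom f, ⊤) :=
    (HasRingHomProperty.appTop (P := @LocallyOfFinitePresentation) g inferInstance : g.appTop.hom.FinitePresentation)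
  exact H1WE.isWContractible_of_finite hwc

end Groth.Agent.S0721
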