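import Groth.Statements.S0725
import Groth.Agent.H26ProEt.WC

set_option autoImplicit false
open CategoryTheory CategoryTheory.Limits AlgebraicGeometry Opposite
universe u
open ProEtS

namespace Groth.Agent.S0725

/-- If a set-valued presheaf F on X_proet turns finite disjoint unions into products (it preserves
finite products of the opposite category), then on every affine weakly contractible object W its
sections already agree with those of its sheafification: F(W) -> F^#(W) is bijective. -/
theorem result {X : Scheme.{u}} (F : X.ProEtᵒᵖ ⥤ Type (u + 1))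
    [PreservesFiniteProducts F] (W : X.ProEt) [IsAffine W.left] (hW : ProEtS.IsWC W) :
    Function.Bijective ((toSheafify (Scheme.ProEt.topology X) F).app (op W)) := by
  have href := Groth.Agent.H26ProEt.refines_of_splits (Groth.Agent.H26ProEt.splits_of_isWC hW)
  let K := Scheme.ProEt.topology X
  have key : ∀ (n : ℕ) (O : Fin n → W.left.Opens), Groth.Agent.H26ProEt.IsPartition O →
      ∀ t : ∀ k, F.obj (op (Groth.Agent.H26ProEt.pieceObj W (O k))),
        ∃! r, ∀ k, F.map (Groth.Agent.H26ProEt.pieceHom W (O k)).op r = t k := by
    intro n O hO t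
    let c : Cofan (fun k => Groth.Agent.H26ProEt.pieceObj W (O k)) :=
      Cofan.mk W fun k => Groth.Agent.H26ProEt.pieceHom W (O k)
    have hc : IsColimit c := mkCofanColimit c
      (fun s => (hO.existsUnique_glue s.inj).choose)
      (fun s k => (hO.existsUnique_glue s.inj).choose_spec.1 k)
      (fun s m hm => (hO.existsUnique_glue s.inj).choose_spec.2 m hm)
    have hl := (Limits.isLimitMapConeFanMkEquiv F _ _) (isLimitOfPreserves F (Cofan.IsColimit.op hc))
    let e := (Types.isLimitEquivSections hl).trans
      { toFun := fun s k => s.1 ⟨k⟩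
        invFun := fun t => ⟨fun k => t k.as, fun {i i'} a => by
          obtain rfl : i = i' := Discrete.ext (Discrete.eq_of_hom a)
          obtain rfl : a = 𝟙 i := Subsingleton.elim _ _
          simp⟩
        left_inv := fun s => Subtype.ext (funext fun ⟨k⟩ => rfl)
        right_inv := fun t => rfl }
    refine ⟨e.symm t, fun k => congrFun (e.apply_symm_apply t) k, fun r hr => ?_⟩
    exact e.injective ((funext hr).trans (e.apply_symm_apply t).symm)
  let η := toSheafify K F
  constructor
  · intro x y hxy
    obtain ⟨n, O, hO, hR⟩ := href _ (Presheaf.equalizerSieve_mem K η x y hxy)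
    exact (key n O hO fun k => F.map (Groth.Agent.H26ProEt.pieceHom W (O k)).op y).unique hR fun k => rfl
  · intro s
    obtain ⟨n, O, hO, hR⟩ := href _ (Presheaf.imageSieve_mem K η s)
    choose t ht using hR
    obtain ⟨r, hr, -⟩ := key n O hO t
    have hs := (isSheaf_iff_isSheaf_of_type K _).1 ((presheafToSheaf K (Type (u + 1))).obj F).2
    refine ⟨r, (hO.existsUnique_section hs fun k => _).unique (fun k => ?_) fun k => rfl⟩
    refine Eq.trans ?_ (ht k)
    rw [← hr k]
    exact (NatTrans.naturality_apply η (Groth.Agent.H26ProEt.pieceHom W (O k)).op r).symm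

end Groth.Agent.S0725
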