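import Groth.Statements.S0738
import Groth.Agent.H28Top.Spectral

set_option autoImplicit false
open Topology
universe u
open ProEtW

namespace Groth.Agent.S0738

/-- A closed subset of a w-local spectral space is w-local (with the subspace topology). -/
theorem result (X : Type u) [TopologicalSpace X] (hX : ProEtW.IsWLocal X)
    (Y : Set X) (hY : IsClosed Y) : ProEtW.IsWLocal ↥Y := by
  obtain ⟨hs, hcl, huniq⟩ := hX
  haveI := hs
  have hiff : ∀ y : Y, IsClosed ({y} : Set Y) ↔ IsClosed ({(y : X)} : Set X) := fun y => by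
    rw [hY.isClosedEmbedding_subtypeVal.isClosed_iff_image_isClosed, Set.image_singleton]
  refine ⟨Groth.Agent.H28Top.spectralSpace_of_isClosed_constr
    (Groth.Agent.H28Top.isClosed_constr_of_isClosed hY), ?_, fun y => ?_⟩
  · have : {y : Y | IsClosed ({y} : Set Y)} = Subtype.val ⁻¹' {x : X | IsClosed ({x} : Set X)} :=
      Set.ext hiff
    rw [this]
    exact hcl.preimage continuous_subtype_val
  · obtain ⟨z, ⟨hz1, hz2⟩, hz3⟩ := huniq y
    refine ⟨⟨z, hz2.mem_closed hY y.2⟩, ⟨(hiff _).2 hz1, (subtype_specializes_iff _ _).2 hz2⟩, ?_⟩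
    rintro w ⟨hw1, hw2⟩
    exact Subtype.ext (hz3 _ ⟨(hiff w).1 hw1, (subtype_specializes_iff _ _).1 hw2⟩)

end Groth.Agent.S0738
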