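import Groth.Statements.S0739
import Groth.Agent.H26ProEt.AffineSite
import Groth.Agent.H9WE.Field

set_option autoImplicit false
open CategoryTheory CategoryTheory.Limits AlgebraicGeometry Opposite
universe u
open ProEtS

namespace Groth.Agent.S0739

/-- Let U be an object of X_proet, R a covering sieve on U, and xi : Spec k -> U a geometric point (k
separably closed). Then there is a morphism V -> U in R and a geometric point of V with the same
field mapping to xi. -/
theorem result {X : Scheme.{u}} (U : X.ProEt) (R : Sieve U)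
    (hR : R ∈ Scheme.ProEt.topology X U) {k : Type u} [Field k] [IsSepClosed k]
    (ξ : Spec (CommRingCat.of k) ⟶ U.left) :
    ∃ (V : X.ProEt) (g : V ⟶ U) (ξ' : Spec (CommRingCat.of k) ⟶ V.left), R g ∧ ξ' ≫ g.left = ξ := by
  obtain ⟨S', hS', hle⟩ := Groth.Agent.H26ProEt.mem_topology_iff.1 hR
  obtain ⟨ι, W, g, rfl⟩ := S'.exists_eq_ofArrows
  simp only [Scheme.ProEt.precoverage, Precoverage.mem_comap_iff, Presieve.map_ofArrows] at hS'
  have hs := (Scheme.ofArrows_mem_precoverage_iff _).1 hS'.2
  obtain ⟨i, y, hy⟩ := hs.1 (ξ default)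
  haveI : WeaklyEtale (g i).left := by
    haveI : WeaklyEtale ((g i).left ≫ U.hom) := by rw [MorphismProperty.Over.w]; infer_instance
    exact WeaklyEtale.of_comp _ U.hom
  obtain ⟨z, -, -⟩ := Scheme.Pullback.exists_preimage_pullback (f := (g i).left) (g := ξ) y default hy
  obtain ⟨O, hO, hzO, -⟩ := TopologicalSpace.Opens.isBasis_iff_nbhd.1
    (pullback (g i).left ξ).isBasis_affineOpens (TopologicalSpace.Opens.mem_top z)
  let φ := Spec.preimage (hO.fromSpec ≫ pullback.snd (g i).left ξ)
  let B := Γ(pullback (g i).left ξ, O)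
  letI : Algebra k B := φ.hom.toAlgebra
  haveI : Nontrivial B := by
    obtain ⟨p, -⟩ : z ∈ Set.range hO.fromSpec := by rw [hO.range_fromSpec]; exact hzO
    exact not_subsingleton_iff_nontrivial.1 fun h => p.isPrime.ne_top (Subsingleton.elim _ _)
  haveI hw : WeaklyEtale (Spec.map (CommRingCat.ofHom (algebraMap k B))) := by
    show WeaklyEtale (Spec.map φ)
    rw [Spec.map_preimage]
    haveI : WeaklyEtale (pullback.snd (g i).left ξ) := MorphismProperty.pullback_snd _ _ inferInstance
    infer_instance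
  haveI : Algebra.WeaklyEtale k B := by
    refine { flat := ?_, flat_lmul' := ?_ }
    · exact (RingHom.flat_algebraMap_iff (R := k) (S := B)).1 (Flat.SpecMap_iff.1 hw.flat)
    · have h := hw.flat_diagonal
      rw [diagonal_SpecMap k B, MorphismProperty.cancel_right_of_respectsIso @Flat] at h
      exact Flat.SpecMap_iff.1 h
  obtain ⟨m, hm⟩ := Ideal.exists_maximal B
  letI : Field (B ⧸ m) := Ideal.Quotient.field m
  haveI : Algebra.IsSeparable k (B ⧸ m) := by
    refine ⟨fun x => ?_⟩
    obtain ⟨b, rfl⟩ := Ideal.Quotient.mk_surjective x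
    obtain ⟨P, hP, hP0⟩ := H9WE.IsSep.map (H9WE.isSep_of_weaklyEtale k b) (Ideal.Quotient.mkₐ k m)
    exact Polynomial.Separable.of_dvd hP (minpoly.dvd k _ hP0)
  let e := RingEquiv.ofBijective (algebraMap k (B ⧸ m))
    ⟨(algebraMap k (B ⧸ m)).injective, IsSepClosed.algebraMap_surjective k (B ⧸ m)⟩
  let ψ : B →+* k := e.symm.toRingHom.comp (Ideal.Quotient.mk m)
  have hψ : φ ≫ CommRingCat.ofHom ψ = 𝟙 _ := CommRingCat.hom_ext (RingHom.ext fun a => e.symm_apply_apply a)
  refine ⟨W i, g i, Spec.map (CommRingCat.ofHom ψ) ≫ hO.fromSpec ≫ pullback.fst (g i).left ξ, hle _ _ ⟨i⟩, ?_⟩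
  rw [Category.assoc, Category.assoc, pullback.condition, ← Category.assoc hO.fromSpec,
    ← Spec.map_preimage (hO.fromSpec ≫ pullback.snd (g i).left ξ), ← Category.assoc, ← Spec.map_comp, hψ, Spec.map_id, Category.id_comp]

end Groth.Agent.S0739
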