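import Groth.Statements.S0745
import Groth.Agent.H15Site.FppfEt.FinitePushR
import Groth.Agent.S3054

set_option autoImplicit false
set_option linter.style.haveILetI false
set_option backward.isDefEq.respectTransparency false
set_option backward.isDefEq.respectTransparency.types false
open CategoryTheory CategoryTheory.Limits AlgebraicGeometry Opposite
universe u
open EtFppf

namespace Groth.Agent.S0745

/-- For a finite morphism f : X -> Y and an abelian sheaf F on X_et, for every i the sheaves a_Y^{-1}
(R^i f_{small,*} F) and R^i f_{big,fppf,*} (a_X^{-1} F) are isomorphic (existence; continuity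
binders assumed). -/
theorem result {X Y : Scheme.{u}} (f : X ⟶ Y) [IsFinite f] [EtFppf.ACont X]
    [EtFppf.ACont Y] (F : EtCoh.Ab X) (i : ℕ) :
    Nonempty ((EtFppf.aPull Y).obj ((EtCoh.Rpush f i).obj F) ≅
      (EtFppf.RpushBig f i).obj ((EtFppf.aPull X).obj F)) := by
  haveI : IsIntegralHom f := inferInstance
  cases i with
  | zero =>
    haveI : PreservesFiniteLimits (EtCoh.push f) := inferInstance
    haveI : (EtFppf.pushBig f).IsRightAdjoint := ⟨_, ⟨(Over.mapPullbackAdj f).sheafPushforwardContinuous
        (EtFppf.J X) (EtFppf.J Y)⟩⟩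
    haveI : PreservesFiniteLimits (EtFppf.pushBig f) := inferInstance
    exact ⟨(EtFppf.aPull Y).mapIso ((EtCoh.push f).rightDerivedZeroIsoSelf.app F) ≪≫
      (H15Site.FppfEt.aPullIso Y).app _ ≪≫ H15Site.FppfEt.αFppf f F ≪≫
      (EtFppf.pushBig f).mapIso ((H15Site.FppfEt.aPullIso X).app F).symm ≪≫
      ((EtFppf.pushBig f).rightDerivedZeroIsoSelf.app _).symm⟩
  | succ q =>
    haveI : (EtFppf.aPull Y).IsLeftAdjoint := ⟨_, ⟨EtFppf.aAdj Y⟩⟩
    haveI := Functor.preservesZeroMorphisms_of_preserves_initial_object (F := EtFppf.aPull Y)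
    exact ⟨((EtFppf.aPull Y).map_isZero (S3054.result f F (q + 1) q.succ_pos)).iso
      ((H15Site.FppfEt.isZero_RpushBig_fppf f F q).of_iso
        ((EtFppf.RpushBig f (q + 1)).mapIso ((H15Site.FppfEt.aPullIso X).app F)))⟩

end Groth.Agent.S0745
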