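import Groth.Statements.S0748
import Groth.Agent.H15Site.FppfEt.Apps
import Groth.Agent.H15Site.IntDesc.PushH
set_option autoImplicit false
set_option linter.style.haveILetI false
set_option backward.isDefEq.respectTransparency false
set_option backward.isDefEq.respectTransparency.types false
open CategoryTheory CategoryTheory.Limits AlgebraicGeometry Opposite
universe u
open EtFppf

namespace Groth.Agent.S0748

/-- For an abelian sheaf F on X_et and every q, H^q(X_et, F) and H^q_fppf(X, a^{-1} F) are isomorphic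
(continuity binder assumed). -/
theorem result (X : Scheme.{u}) [EtFppf.ACont X] (F : EtCoh.Ab X) (q : ℕ) :
    Nonempty (EtCoh.H X F q ≃+ EtFppf.HF X ((EtFppf.aPull X).obj F) q) := by
  let T : Over X := Over.mk (𝟙 X)
  obtain ⟨e₁⟩ := H15Site.FppfEt.nonempty_HF_iso F q
  obtain ⟨e₂⟩ := H15Site.FppfEt.nonempty_homology_iso F T q
  let e₃ : AddCommGrpCat.of (EtCoh.H X ((EtCoh.pull (𝟙 X)).obj F) q) ≅ AddCommGrpCat.of (EtCoh.H X F q) :=
    (EtCoh.HF X q).mapIso ((H15Site.IntDesc.pullIdIso X).app F)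
  let e₄ : AddCommGrpCat.of (EtFppf.HF X (H15Site.FppfEt.QF F) q) ≅
      AddCommGrpCat.of (EtFppf.HF X ((EtFppf.aPull X).obj F) q) :=
    ((Abelian.extFunctorObj _ q).mapIso ((H15Site.FppfEt.aPullIso X).app F).symm)
  exact ⟨(e₃.symm ≪≫ e₂.symm ≪≫ e₁.symm ≪≫ e₄).addCommGroupIsoToAddEquiv⟩

end Groth.Agent.S0748
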