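import Groth.Statements.S0749
import Groth.Agent.H15Site.EtClosedPts.Main
-- import your own Groth.Agent.* helpers here

set_option backward.isDefEq.respectTransparency false
set_option backward.isDefEq.respectTransparency.types false
set_option linter.style.haveILetI false
open scoped ZeroObject

set_option autoImplicit false
open CategoryTheory CategoryTheory.Limits AlgebraicGeometry Opposite
open scoped TensorProduct
universe u
attribute [local instance] HasDerivedCategory.standard
open EtRest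

namespace Groth.Agent.S0749

open Groth.Agent.H18Et in
open scoped Groth.Agent.H18Et in
/-- A nonzero sheaf supported at closed points has a nonzero global section. -/
theorem exists_section_ne_zero {K : Type u} [Field K] [IsSepClosed K] {X : Scheme.{u}}
    (a : X ⟶ Spec (CommRingCat.of K)) [LocallyOfFiniteType a] [QuasiCompact a]
    (F : EtCoh.Ab X) (hF : H15Site.EtClosedPts.ClosedSupp F) (h0 : ¬ IsZero F) :
    ∃ s : F.obj.obj (op (EtCoh.top X)), s ≠ 0 := by
  classical
  by_contra hall
  push Not at hall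
  haveI : IsLocallyNoetherian X := LocallyOfFiniteType.isLocallyNoetherian a
  haveI : CompactSpace X := QuasiCompact.compactSpace_of_compactSpace a
  haveI : AlgebraicGeometry.IsNoetherian X := {}
  obtain ⟨e⟩ := H05EGA4.EtCl.nonempty_iso_coprod_closed F fun V s v hv => hF _ (by
    rw [H18Et.supp_eq_iUnion]
    exact Set.mem_iUnion₂.2 ⟨V, s, v, hv, rfl⟩)
  refine h0 (IsZero.of_iso ?_ e)
  rw [IsZero.iff_id_eq_zero]
  refine Sigma.hom_ext _ _ fun k => ?_
  let i := X.fromSpecResidueField k.down.1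
  let G := (EtCoh.pull i).obj F
  haveI : IsClosedImmersion i := isClosed_singleton_iff_isClosedImmersion.1 k.down.2
  haveI : IsSepClosed (X.residueField k.down.1) := by
    let φ : CommRingCat.of K ⟶ X.residueField k.down.1 := Spec.preimage (i ≫ a)
    have hφ : φ.hom.FiniteType := by
      have h : LocallyOfFiniteType (Spec.map φ) := by
        rw [Spec.map_preimage]; infer_instance
      exact (HasRingHomProperty.Spec_iff (P := @LocallyOfFiniteType)).1 h
    letI := φ.hom.toAlgebra
    haveI : Algebra.FiniteType K (X.residueField k.down.1) := hφ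
    haveI : Module.Finite K (X.residueField k.down.1) := finite_of_finite_type_of_isJacobsonRing K _
    haveI : Algebra.IsAlgebraic K (X.residueField k.down.1) := Algebra.IsAlgebraic.of_finite K _
    exact H9Hens.isSepClosed_of_isAlgebraic K
  haveI : IsSepClosed (IsLocalRing.ResidueField (X.residueField k.down.1)) :=
    H9Hens.isSepClosed_of_isAlgebraic (X.residueField k.down.1)
  -- global sections of the component vanish
  have hc : ∀ t : (H05EGA4.EtCl.compObj F k).obj.obj (op (EtCoh.top X)), t = 0 := fun t => by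
    let π := e.hom ≫ Sigma.π (fun k => H05EGA4.EtCl.compObj F k) k
    let ιk := Sigma.ι (fun k => H05EGA4.EtCl.compObj F k) k ≫ e.inv
    have hid : ιk ≫ π = 𝟙 _ := by simp [ιk, π]
    have h1 := ConcreteCategory.congr_hom (congrArg (fun φ => φ.hom.app (op (EtCoh.top X))) hid) t
    refine h1.symm.trans ?_
    show π.hom.app _ (ιk.hom.app _ t) = 0
    rw [hall (ιk.hom.app _ t), map_zero]
  have hG : IsZero G := by
    haveI : IsIso (0 : G ⟶ 0) := H18Et.isIso_of_stalk _ fun x => by
      refine ⟨_, inferInstance, ‹IsSepClosed (IsLocalRing.ResidueField (X.residueField k.down.1))›,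
        H18Et.closedGeomPt (X.residueField k.down.1), Subsingleton.elim _ _, ?_⟩
      have hsub : ∀ z : (EtCoh.stalk (H18Et.closedGeomPt (X.residueField k.down.1))).obj G, z = 0 := fun z => by
        obtain ⟨t, rfl⟩ := (H18Et.sections_bijective_stalk (X.residueField k.down.1) G).2 z
        obtain ⟨t', rfl⟩ := (ConcreteCategory.bijective_of_isIso
          (G.obj.map (EtCore.bcTopIso i).inv.op)).2 t
        rw [hc t', map_zero, map_zero]
      have hz : IsZero ((EtCoh.stalk (H18Et.closedGeomPt (X.residueField k.down.1))).obj (0 : EtCoh.Ab _)) :=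
        (EtCoh.stalk _).map_isZero (isZero_zero _)
      haveI := AddCommGrpCat.subsingleton_of_isZero hz
      exact ⟨fun z z' _ => (hsub z).trans (hsub z').symm, fun w => ⟨0, Subsingleton.elim _ _⟩⟩
    exact IsZero.of_iso (isZero_zero _) (asIso (0 : G ⟶ 0))
  haveI : (Dix.skyPush X k.down.1).IsRightAdjoint := ⟨_, ⟨EtCoh.pullPushAdj i⟩⟩
  exact ((Dix.skyPush X k.down.1).map_isZero hG).eq_of_src _ _

/-- Let K be a separably closed field, X of finite type over K and Q an object of D(X_et) whose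
cohomology sheaves have zero stalks at every geometric point lying over a non-closed point of X.
Then Q = 0 if and only if H^i(X, Q) = Hom(Z, Q[i]) vanishes for all integers i. -/
theorem result {K : Type u} [Field K] [IsSepClosed K]
    {X : Scheme.{u}} (a : X ⟶ Spec (CommRingCat.of K)) [LocallyOfFiniteType a] [QuasiCompact a]
    (Q : DCoh.DEt X)
    (hQ : ∀ (x : ↥X), ¬ IsClosed ({x} : Set ↥X) → ∀ (Ω : Type u) [Field Ω] [IsSepClosed Ω]
      (ξ : Spec (CommRingCat.of Ω) ⟶ X), Set.range ξ.base = {x} →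
        ∀ i : ℤ, IsZero ((EtCoh.stalk ξ).obj (DCoh.HDEt Q i))) :
    IsZero Q ↔ ∀ i : ℤ, Subsingleton
      ((DerivedCategory.singleFunctor (EtCoh.Ab X) 0).obj (EtCoh.const X ℤ) ⟶ (shiftFunctor (DCoh.DEt X) i).obj Q) := by
  refine ⟨fun h i => ⟨fun x y => ((shiftFunctor (DCoh.DEt X) i).map_isZero h).eq_of_tgt x y⟩, fun h => ?_⟩
  by_contra hQ0
  have hcl : ∀ i, H15Site.EtClosedPts.ClosedSupp (DCoh.HDEt Q i) := fun i x hx => by
    by_contra hc
    obtain ⟨Ω, _, _, ξ, hξ, hne⟩ := hx
    exact hne (hQ x hc Ω ξ hξ i)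
  obtain ⟨i, hi⟩ : ∃ i, ¬ IsZero (DCoh.HDEt Q i) := by
    by_contra hall
    push Not at hall
    refine hQ0 ?_
    haveI : IsIso (0 : Q ⟶ 0) := by
      rw [DerivedCategory.isIso_iff]
      intro n
      exact (hall n).isIso ((DerivedCategory.homologyFunctor _ n).map_isZero (isZero_zero _)) _
    exact IsZero.of_iso (isZero_zero _) (asIso (0 : Q ⟶ 0))
  let Q' := (shiftFunctor (DCoh.DEt X) i).obj Q
  let e : ∀ j, DCoh.HDEt Q' j ≅ DCoh.HDEt Q (i + j) := fun j =>
    ((DerivedCategory.homologyFunctor (EtCoh.Ab X) 0).shiftIso i j (i + j) rfl).app Q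
  have hcl' : ∀ j, H15Site.EtClosedPts.ClosedSupp (DCoh.HDEt Q' j) := fun j x hx => by
    obtain ⟨Ω, _, _, ξ, hξ, hne⟩ := hx
    exact hcl (i + j) x ⟨Ω, inferInstance, inferInstance, ξ, hξ,
      fun hz => hne (hz.of_iso ((EtCoh.stalk ξ).mapIso (e j)))⟩
  obtain ⟨s, hs⟩ := exists_section_ne_zero a _ (hcl' 0) (fun hz => hi (by
    have := hz.of_iso (e 0).symm
    rwa [add_zero] at this))
  obtain ⟨y, hy⟩ := H15Site.EtClosedPts.exists_top_ne_zero a Q' hcl' s hs
  let c := H18Et.FreeSheaf.free X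
  let j : X ⟶ X := 𝟙 X
  let ρ : H18Et.FreeSheaf.obj j ⟶ EtCoh.top X := (EtCore.topIsTerminal X).from _
  let eo : EtCoh.top X ≅ H18Et.FreeSheaf.obj j := MorphismProperty.Over.isoMk (Iso.refl _) (by
    show 𝟙 _ ≫ 𝟙 X ≫ 𝟙 X = 𝟙 X
    simp)
  haveI : IsIso (H18Et.FreeSheaf.aug j ρ) := by
    refine isIso_of_coyoneda_map_bijective _ fun F => ⟨fun x x' hxx => ?_, fun z => ?_⟩
    · have h1 : H18Et.FreeSheaf.aug j ρ ≫ x = H18Et.FreeSheaf.aug j ρ ≫ x' := hxx
      have h2 := congrArg (H18Et.FreeSheaf.homEquiv _ F) h1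
      rw [H18Et.FreeSheaf.homEquiv_aug_comp, H18Et.FreeSheaf.homEquiv_aug_comp] at h2
      haveI : IsIso ρ := by
        rw [show ρ = eo.inv from (EtCore.topIsTerminal X).hom_ext _ _]; infer_instance
      exact (Abelian.Ext.mk₀_bijective _ _).1
        ((Sheaf.H.equiv₀ F (EtCore.topIsTerminal X)).injective
          ((ConcreteCategory.bijective_of_isIso (F.obj.map ρ.op)).1 h2))
    · haveI : IsIso ρ := by
        rw [show ρ = eo.inv from (EtCore.topIsTerminal X).hom_ext _ _]; infer_instance
      obtain ⟨v, hv⟩ := (ConcreteCategory.bijective_of_isIso (F.obj.map ρ.op)).2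
        (H18Et.FreeSheaf.homEquiv _ F z)
      obtain ⟨x, hx⟩ := (Abelian.Ext.mk₀_bijective _ _).2 ((Sheaf.H.equiv₀ F (EtCore.topIsTerminal X)).symm v)
      refine ⟨x, (H18Et.FreeSheaf.homEquiv _ F).injective ?_⟩
      show H18Et.FreeSheaf.homEquiv _ F (H18Et.FreeSheaf.aug j ρ ≫ x) = _
      rw [H18Et.FreeSheaf.homEquiv_aug_comp, hx, AddEquiv.apply_symm_apply, hv]
  let g := c.map eo.hom ≫ H18Et.FreeSheaf.aug j ρ
  let w : (DerivedCategory.singleFunctor (EtCoh.Ab X) 0).obj (EtCoh.const X ℤ) ⟶ Q' :=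
    (DerivedCategory.singleFunctor (EtCoh.Ab X) 0).map (inv g) ≫ y ≫ (shiftFunctorZero _ ℤ).hom.app Q'
  have hw : w = 0 := @Subsingleton.elim _ (h i) _ _
  refine hy ?_
  rw [← cancel_mono ((shiftFunctorZero _ ℤ).hom.app Q'),
    ← cancel_epi ((DerivedCategory.singleFunctor (EtCoh.Ab X) 0).map (inv g)), zero_comp, comp_zero]
  exact hw

end Groth.Agent.S0749
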