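import Groth.Statements.S0754
import Groth.Agent.H26ProEt.Weakly
import Groth.Agent.H9Hens.StrictHens

set_option autoImplicit false
open CategoryTheory CategoryTheory.Limits AlgebraicGeometry Opposite
universe u
open ProEtS

namespace Groth.Agent.S0754

/-- For a point x of a scheme X and a strict henselization R of the local ring of X at x, the canonical
morphism Spec R -> X is weakly etale, so that Spec R is an object of the small pro-etale site of X. -/
theorem result (X : Scheme.{u}) (x : ↥X) (R : Type u) [CommRing R]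
    [IsLocalRing R] [Algebra (X.presheaf.stalk x) R] [IsLocalHom (algebraMap (X.presheaf.stalk x) R)]
    [Hensel.IsStrictHenselization (X.presheaf.stalk x) R] :
    WeaklyEtale (Hens2.specOf X x R) := by
  obtain ⟨k, _, _, _, _, _, π, hπ⟩ := Groth.Agent.H9Hens.exists_isPtColim_of_isStrictHenselization (R := X.presheaf.stalk x) R
  haveI := Groth.Agent.H26ProEt.weaklyEtale hπ
  obtain ⟨U, hU, hxU, -⟩ := TopologicalSpace.Opens.isBasis_iff_nbhd.1 X.isBasis_affineOpens
    (TopologicalSpace.Opens.mem_top x)
  letI := TopCat.Presheaf.algebra_section_stalk X.presheaf (⟨x, hxU⟩ : U)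
  haveI : IsLocalization.AtPrime (X.presheaf.stalk x) (hU.primeIdealOf ⟨x, hxU⟩).asIdeal :=
    hU.isLocalization_stalk ⟨x, hxU⟩
  haveI : Flat (Spec.map (X.presheaf.germ U x hxU)) :=
    Flat.SpecMap_iff.2 ((RingHom.flat_algebraMap_iff (R := Γ(X, U)) (S := X.presheaf.stalk x)).2
      (IsLocalization.flat _ (hU.primeIdealOf ⟨x, hxU⟩).asIdeal.primeCompl))
  haveI : Flat (X.fromSpecStalk x) := by
    rw [← hU.fromSpecStalk_eq_fromSpecStalk hxU]; unfold IsAffineOpen.fromSpecStalk; infer_instance
  haveI : Mono (X.fromSpecStalk x) := inferInstance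
  haveI : WeaklyEtale (X.fromSpecStalk x) := { flat_diagonal := inferInstance }
  haveI : WeaklyEtale (Spec.map (CommRingCat.ofHom (algebraMap (X.presheaf.stalk x) R))) := by
    refine { flat := ?_, flat_diagonal := ?_ }
    · exact Flat.SpecMap_iff.2 ((RingHom.flat_algebraMap_iff (R := X.presheaf.stalk x) (S := R)).2 Algebra.WeaklyEtale.flat)
    · rw [diagonal_SpecMap (X.presheaf.stalk x) R, MorphismProperty.cancel_right_of_respectsIso @Flat]
      exact Flat.SpecMap_iff.2 (Algebra.WeaklyEtale.flat_lmul' _ _)
  show WeaklyEtale (Hens2.specOf X x R)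
  unfold Hens2.specOf
  infer_instance

end Groth.Agent.S0754
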