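import Groth.Statements.S0755
import Groth.Agent.H1CAlg.IndEtale
import Groth.Agent.H9Hens.EtaleQuotLift

set_option autoImplicit false
open CategoryTheory CategoryTheory.Limits AlgebraicGeometry Opposite Topology
universe u
open ProEtW

open scoped TensorProduct

namespace Groth.Agent.S0755

/-- Let I be an ideal of a ring A. For every ind-etale (A/I)-algebra Cbar there is an ind-etale
A-algebra C with C/IC isomorphic to Cbar as (A/I)-algebras. -/
theorem result (A : Type u) [CommRing A] (I : Ideal A) (Cb : Type u)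
    [CommRing Cb] [Algebra (A ⧸ I) Cb] (h : EtPBC.IsIndEtale (A ⧸ I) Cb) :
    ∃ (C : Type u) (_ : CommRing C) (_ : Algebra A C),
      EtPBC.IsIndEtale A C ∧ Nonempty ((C ⧸ I.map (algebraMap A C)) ≃ₐ[A ⧸ I] Cb) := by
  letI : Algebra A Cb := ((algebraMap (A ⧸ I) Cb).comp (algebraMap A (A ⧸ I))).toAlgebra
  haveI : IsScalarTower A (A ⧸ I) Cb := IsScalarTower.of_algebraMap_eq fun _ => rfl
  obtain ⟨H, _, _, π, hH⟩ := H9Hens.exists_isPtColim (A := A) (k := Cb)
  -- every point of an etale `A`-algebra factors through a lift of an etale `A ⧸ I`-algebra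
  have lift : ∀ (E : Type u) [CommRing E] [Algebra A E] [Algebra.Etale A E] (σ : E →ₐ[A] Cb)
      (x : E), σ x = 0 → ∃ (E₃ : Type u) (_ : CommRing E₃) (_ : Algebra A E₃)
        (_ : Algebra.Etale A E₃) (σ₃ : E₃ →ₐ[A] Cb) (χ : E →ₐ[A] E₃),
        σ₃.comp χ = σ ∧ χ x ∈ I.map (algebraMap A E₃) := by
    intro E _ _ _ σ x hx
    let Eb := (A ⧸ I) ⊗[A] E
    let σb : Eb →ₐ[A ⧸ I] Cb :=
      Algebra.TensorProduct.lift (Algebra.ofId (A ⧸ I) Cb) σ fun _ _ => Commute.all _ _
    let J : Ideal Eb := Ideal.span {(1 : A ⧸ I) ⊗ₜ x}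
    haveI : Algebra.FinitePresentation (A ⧸ I) (Eb ⧸ J) :=
      Algebra.FinitePresentation.quotient (Submodule.fg_span_singleton _)
    let σq : (Eb ⧸ J) →ₐ[A ⧸ I] Cb := Ideal.Quotient.liftₐ J σb fun a ha => by
      obtain ⟨c, rfl⟩ := Ideal.mem_span_singleton'.1 ha
      have h0 : σb (1 ⊗ₜ x) = 0 := by
        show algebraMap (A ⧸ I) Cb 1 * σ x = 0
        rw [hx, mul_zero]
      rw [map_mul, h0, mul_zero]
    obtain ⟨D, _, _, _, g, k, hgk⟩ := H1CAlg.IndEtale.factors_of_isIndEtale h (Eb ⧸ J) σq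
    let gE : Eb →ₐ[A ⧸ I] D := g.comp (Ideal.Quotient.mkₐ (A ⧸ I) J)
    letI : Algebra Eb D := gE.toRingHom.toAlgebra
    haveI : IsScalarTower (A ⧸ I) Eb D :=
      IsScalarTower.of_algebraMap_eq fun a => (gE.commutes a).symm
    haveI : Algebra.Etale Eb D := Algebra.Etale.of_restrictScalars (A ⧸ I) Eb D
    -- `Eb` is the quotient of `E` by `I E`
    let eE : Eb ≃ₐ[A] E ⧸ I.map (algebraMap A E) :=
      ((Algebra.TensorProduct.comm A (A ⧸ I) E).trans
        ((Algebra.TensorProduct.quotIdealMapEquivTensorQuot E I).symm.restrictScalars A))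
    letI : Algebra (E ⧸ I.map (algebraMap A E)) D :=
      ((algebraMap Eb D).comp eE.symm.toRingEquiv.toRingHom).toAlgebra
    haveI : Algebra.Etale (E ⧸ I.map (algebraMap A E)) D := by
      rw [← RingHom.etale_algebraMap]
      exact RingHom.Etale.stableUnderComposition _ _
        (RingHom.Etale.of_bijective eE.symm.bijective)
        (RingHom.etale_algebraMap.mpr ‹Algebra.Etale Eb D›)
    obtain ⟨E₃, _, _, _, ⟨e₃⟩⟩ :=
      H9Hens.exists_etale_lift_quotient E (I.map (algebraMap A E)) D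
    letI : Algebra A E₃ := ((algebraMap E E₃).comp (algebraMap A E)).toAlgebra
    haveI : IsScalarTower A E E₃ := IsScalarTower.of_algebraMap_eq fun _ => rfl
    haveI : Algebra.Etale A E₃ := Algebra.Etale.comp A E E₃
    let p : E₃ →+* D := e₃.toRingEquiv.toRingHom.comp
      (Algebra.TensorProduct.includeRight :
        E₃ →ₐ[E] (E ⧸ I.map (algebraMap A E)) ⊗[E] E₃).toRingHom
    have hp : ∀ y : E, p (algebraMap E E₃ y) = gE (1 ⊗ₜ y) := fun y => by
      show e₃ (1 ⊗ₜ[E] algebraMap E E₃ y) = _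
      rw [← Algebra.TensorProduct.algebraMap_apply' y,
        IsScalarTower.algebraMap_apply E (E ⧸ I.map (algebraMap A E))
          ((E ⧸ I.map (algebraMap A E)) ⊗[E] E₃) y, e₃.commutes]
      show gE (eE.symm (Ideal.Quotient.mk _ y)) = _
      congr 1
    let σ₃ : E₃ →ₐ[A] Cb :=
      { toRingHom := k.toRingHom.comp p
        commutes' := fun a => by
          show k (p (algebraMap E E₃ (algebraMap A E a))) = _
          rw [hp, ← AlgHom.comp_apply, ← AlgHom.comp_assoc, hgk]
          show algebraMap (A ⧸ I) Cb 1 * σ (algebraMap A E a) = _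
          rw [map_one, one_mul, σ.commutes] }
    refine ⟨E₃, inferInstance, inferInstance, inferInstance, σ₃,
      IsScalarTower.toAlgHom A E E₃, AlgHom.ext fun y => ?_, ?_⟩
    · show k (p (algebraMap E E₃ y)) = σ y
      rw [hp, ← AlgHom.comp_apply, ← AlgHom.comp_assoc, hgk]
      show algebraMap (A ⧸ I) Cb 1 * σ y = _
      rw [map_one, one_mul]
    · have h0 : gE ((1 : A ⧸ I) ⊗ₜ x) = 0 := by
        show g (Ideal.Quotient.mkₐ (A ⧸ I) J _) = 0
        rw [Ideal.Quotient.mkₐ_eq_mk, Ideal.Quotient.eq_zero_iff_mem.2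
          (Ideal.mem_span_singleton_self _), map_zero]
      have h1 : (1 : E ⧸ I.map (algebraMap A E)) ⊗ₜ[E] algebraMap E E₃ x = 0 := by
        apply e₃.injective
        rw [map_zero, ← h0, ← hp]
        rfl
      have h2 : Algebra.TensorProduct.comm E (E ⧸ I.map (algebraMap A E)) E₃
          ((1 : E ⧸ I.map (algebraMap A E)) ⊗ₜ[E] algebraMap E E₃ x) = 0 := by
        rw [h1, map_zero]
      rw [Algebra.TensorProduct.comm_tmul] at h2
      have h3 : Algebra.TensorProduct.quotIdealMapEquivTensorQuot E₃ (I.map (algebraMap A E))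
          (Ideal.Quotient.mk _ (algebraMap E E₃ x)) = 0 := h2
      rw [IsScalarTower.algebraMap_eq A E E₃, ← Ideal.map_map]
      exact Ideal.Quotient.eq_zero_iff_mem.1 ((EquivLike.injective _) (h3.trans (map_zero _).symm))
  have hsurj : Function.Surjective π := fun b => by
    obtain ⟨D, _, _, _, g, k, hgk⟩ :=
      H1CAlg.IndEtale.factors_of_isIndEtale h (Polynomial (A ⧸ I)) (Polynomial.aeval b)
    obtain ⟨E, _, _, _, ⟨e⟩⟩ := H9Hens.exists_etale_lift_quotient A I D
    let σ : E →ₐ[A] Cb := ((k.comp e.toAlgHom).restrictScalars A).comp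
      Algebra.TensorProduct.includeRight
    obtain ⟨φ, hφ⟩ := hH.exists_map E σ
    have hs : Function.Surjective (Algebra.TensorProduct.includeRight :
        E →ₐ[A] (A ⧸ I) ⊗[A] E) :=
      Algebra.TensorProduct.includeRight_surjective _ Ideal.Quotient.mk_surjective
    obtain ⟨y, hy⟩ := hs (e.symm (g Polynomial.X))
    refine ⟨φ y, (DFunLike.congr_fun hφ y).trans ?_⟩
    show k (e (Algebra.TensorProduct.includeRight y)) = b
    rw [hy, e.apply_symm_apply, ← AlgHom.comp_apply, hgk, Polynomial.aeval_X]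
  have hker : RingHom.ker π = I.map (algebraMap A H) := by
    refine le_antisymm (fun x hx => ?_) (Ideal.map_le_iff_le_comap.2 fun a ha => ?_)
    · obtain ⟨E, _, _, _, φ, y, rfl⟩ := hH.exists_rep x
      obtain ⟨E₃, _, _, _, σ₃, χ, hχ, hmem⟩ := lift E (π.comp φ) y hx
      obtain ⟨φ₃, hφ₃⟩ := hH.exists_map E₃ σ₃
      have h1 : φ₃.comp χ = φ := hH.hom_ext (by rw [← AlgHom.comp_assoc, hφ₃, hχ])
      rw [← h1, AlgHom.comp_apply]
      have h2 := Ideal.mem_map_of_mem φ₃.toRingHom hmem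
      rwa [Ideal.map_map, show φ₃.toRingHom.comp (algebraMap A E₃) = algebraMap A H from
        φ₃.comp_algebraMap] at h2
    · rw [Ideal.mem_comap, RingHom.mem_ker, π.commutes, IsScalarTower.algebraMap_apply A (A ⧸ I),
        Ideal.Quotient.algebraMap_eq, Ideal.Quotient.eq_zero_iff_mem.2 ha, map_zero]
  refine ⟨H, inferInstance, inferInstance, hH.isIndEtale, ⟨AlgEquiv.ofRingEquiv
    (f := (Ideal.quotEquivOfEq hker.symm).trans
      (RingHom.quotientKerEquivOfSurjective hsurj)) fun a => ?_⟩⟩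
  obtain ⟨a, rfl⟩ := Ideal.Quotient.mk_surjective a
  exact π.commutes a

end Groth.Agent.S0755
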