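import Groth.Statements.S0756
import Groth.Agent.H15Site.FppfEt.Apps

set_option autoImplicit false
set_option linter.style.haveILetI false
set_option backward.isDefEq.respectTransparency false
set_option backward.isDefEq.respectTransparency.types false
open CategoryTheory CategoryTheory.Limits AlgebraicGeometry Opposite
universe u
open EtFppf

namespace Groth.Agent.S0756

/-- Description of the pullback to the big fppf site: for a sheaf F on S_et and an S-scheme f : T -> S,
the value of a^{-1} F at T is the group of global sections of f_small^{-1} F on T_et (existence of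
an isomorphism of groups; continuity binder assumed). -/
theorem result (S : Scheme.{u}) [EtFppf.ACont S] (F : EtCoh.Ab S)
    {T : Scheme.{u}} (f : T ⟶ S) :
    Nonempty (((EtFppf.aPull S).obj F).obj.obj (op (Over.mk f)) ≅
      ((EtCoh.pull f).obj F).obj.obj (op (EtCoh.top T))) := by
  let T' : Over S := Over.mk f
  haveI := H15Site.FppfEt.isIso_η F
  exact ⟨((sheafToPresheaf _ _).mapIso ((H15Site.FppfEt.aPullIso S).app F)).app (op T') ≪≫
    ((sheafToPresheaf _ _).mapIso (asIso (H15Site.FppfEt.η (H15Site.IntDesc.bigSh F)))).symm.app (op T') ≪≫
    (H15Site.IntDesc.bigSh F).obj.mapIso (H15Site.FppfEt.topIso T').op ≪≫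
    ((sheafToPresheaf _ _).mapIso (H13Desc.BigRes.resPiIso f F)).app (op (EtCoh.top T))⟩

end Groth.Agent.S0756
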