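import Groth.Statements.S0758
import Groth.Agent.H18EpsMod.TrivDescend

set_option autoImplicit false
open CategoryTheory CategoryTheory.Limits AlgebraicGeometry Opposite
open scoped TensorProduct
universe u
open EtModW

namespace Groth.Agent.S0758

/-- For a ring L (in the value universe) the functor eps^{-1} sends locally constant sheaves of
L-modules of finite presentation on X_et to such sheaves on X_proet, and every locally constant
sheaf of L-modules of finite presentation on X_proet is isomorphic to eps^{-1} of one on X_et (so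
eps^{-1}, which is fully faithful, is an equivalence between these categories; continuity of the
comparison functor assumed as a binder). -/
theorem result (X : Scheme.{u}) [ProEtS.EpsCont X]
    (Λ : Type (u + 1)) [CommRing Λ] :
    (∀ F : EtModW.Mod Λ X, EtModW.IsFPLocConst Λ F →
      EtModW.IsFPLocConstP Λ ((EtModW.epsPullMod Λ X).obj F)) ∧
    ∀ G : EtModW.ModP Λ X, EtModW.IsFPLocConstP Λ G →
      ∃ F : EtModW.Mod Λ X, EtModW.IsFPLocConst Λ F ∧ Nonempty ((EtModW.epsPullMod Λ X).obj F ≅ G) := by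
  classical
  have hcov : ∀ {ι : Type u} (U : ι → X.Etale), EtCoh.Covers U →
      EtModW.CoversP (fun i => (ProEtS.eps X).obj (U i)) := fun {ι} U hU => by
    refine H1EpsS.etTop_le _ (H1EpsS.ofArrows_mem _ (fun i => ?_) fun x => hU x)
    show Etale (U i).hom
    exact (U i).prop
  refine ⟨fun F hF => ?_, fun G hG => ?_⟩
  · obtain ⟨ι, U, hU, hM⟩ := hF
    refine ⟨ι, fun i => (ProEtS.eps X).obj (U i), hcov U hU, fun i => ?_⟩
    obtain ⟨M, hM₁, hM₂, hM₃, ⟨e⟩⟩ := hM i
    obtain ⟨ρ, hρ⟩ := H18EpsMod.exists_locBij_of_iso (H18EpsMod.neE_ax X) e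
    have hl := H18EpsMod.locBij_unit hρ
    have hi := H18EpsMod.LocBij.nonempty_over_iso.{u + 1, u + 1, u, u + 1} (H18EpsMod.neP_ax X) hl
    exact ⟨M, hM₁, hM₂, hM₃, hi⟩
  · obtain ⟨U, hU, hM⟩ := H18EpsMod.exists_etale_locBij G hG
    refine ⟨(H18EpsMod.pushMod Λ X).obj G, ⟨X, U, hU, fun x => ?_⟩, ?_⟩
    · obtain ⟨M, hM₁, hM₂, hM₃, ρ, hρ⟩ := hM x
      have hl := H18EpsMod.locBij_push G ρ hρ
      have hi := H18EpsMod.LocBij.nonempty_over_iso.{u + 1, u + 1, u, u + 1} (H18EpsMod.neE_ax X) hl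
      exact ⟨M, hM₁, hM₂, hM₃, hi⟩
    · let φ := (H18EpsMod.adjMod Λ X).counit.app G
      suffices hφ : IsIso φ by exact ⟨@asIso _ _ _ _ φ hφ⟩
      refine H18EpsMod.isIso_of_locBij (H18EpsMod.neP_ax X) φ fun V => ?_
      refine ⟨_, (Scheme.ProEt.topology X).pullback_stable
        (MorphismProperty.Over.homMk V.hom : V ⟶ ProEtS.topP X) (hcov U hU), fun U' a ha => ?_⟩
      obtain ⟨_, v, f, hf, -⟩ := ha
      obtain ⟨x⟩ := hf
      obtain ⟨M, hM₁, hM₂, hM₃, ρ, hρ⟩ := hM x
      let ε := EtModW.epsPullMod Λ X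
      let r : M →ₗ[Λ] (ε.obj ((H18EpsMod.pushMod Λ X).obj G)).obj.obj (op ((ProEtS.eps X).obj (U x))) :=
        H18EpsMod.unitSec ((H18EpsMod.pushMod Λ X).obj G) (U x) ∘ₗ ρ
      have hr : (φ.hom.app (op ((ProEtS.eps X).obj (U x)))).hom ∘ₗ r = ρ := by
        refine LinearMap.ext fun m => ?_
        exact congrArg (fun (f : (H18EpsMod.pushMod Λ X).obj G ⟶ (H18EpsMod.pushMod Λ X).obj G) =>
          f.hom.app (op (U x)) (ρ m)) ((H18EpsMod.adjMod Λ X).right_triangle_components G)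
      refine ⟨M, hM₁, hM₂, ((ε.obj _).obj.map v.op).hom ∘ₗ r,
        (H18EpsMod.locBij_unit (H18EpsMod.locBij_push G ρ hρ)).comp v, ?_⟩
      have he : (φ.hom.app (op U')).hom ∘ₗ ((ε.obj _).obj.map v.op).hom ∘ₗ r = (G.obj.map v.op).hom ∘ₗ ρ := by
        refine LinearMap.ext fun m => ?_
        show φ.hom.app _ ((ε.obj _).obj.map v.op (r m)) = G.obj.map v.op (ρ m)
        exact (NatTrans.naturality_apply φ.hom v.op (r m)).trans (congrArg _ (LinearMap.congr_fun hr m))
      exact he.symm ▸ hρ.comp v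

end Groth.Agent.S0758
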