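import Groth.Statements.S0782
import Groth.Agent.H18Et.TopInvariance

set_option autoImplicit false
open CategoryTheory CategoryTheory.Limits AlgebraicGeometry Opposite
universe u
open Desc

namespace Groth.Agent.S0782

set_option backward.isDefEq.respectTransparency false


/-- Let p : X ⟶ S be a morphism such that for every scheme U étale over S the projection X ×_S U ⟶ U is
a quotient map of topological spaces (submersive; U = S is allowed). Then for U₁, U₂ étale over S,
every morphism between their canonical descent data relative to p comes from an S-morphism U₁ ⟶ U₂: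
the canonical-descent-datum functor is full on schemes étale over S (injectivity of this assignment
is a companion statement). (Descent data are taken in functor-of-points form, equivalent by the
Yoneda lemma to the usual form of an isomorphism over X ×_S X satisfying the cocycle condition.) -/
theorem result {X S : Scheme.{u}} (p : X ⟶ S)
    (hp : ∀ U : Over S, Etale U.hom → Topology.IsQuotientMap (pullback.snd p U.hom).base) (U₁ U₂ : Over S)
    [Etale U₁.hom] [Etale U₂.hom] : Function.Surjective ((Desc.toDD p).map : (U₁ ⟶ U₂) → _) := by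
  intro α
  have hpsurj : Surjective p := by
    obtain ⟨hs⟩ : Surjective (pullback.snd p (Over.mk (𝟙 S)).hom) :=
      ⟨(hp (Over.mk (𝟙 S)) (inferInstanceAs (Etale (𝟙 S)))).surjective⟩
    refine ⟨fun y => ?_⟩
    obtain ⟨z, hz⟩ := hs y
    refine ⟨pullback.fst p (Over.mk (𝟙 S)).hom z, ?_⟩
    rw [← Scheme.Hom.comp_apply, pullback.condition, Scheme.Hom.comp_apply, hz]
    rfl
  let r := pullback.snd p U₁.hom
  let a : pullback p U₁.hom ⟶ U₂.left := α.hom.left ≫ pullback.snd p U₂.hom
  have hα : α.hom.left ≫ pullback.fst p U₂.hom = pullback.fst p U₁.hom := Over.w α.hom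
  have ha : a ≫ U₂.hom = r ≫ U₁.hom := by
    rw [Category.assoc, ← pullback.condition, ← Category.assoc, hα, pullback.condition]
  have hind : ∀ {T : Scheme.{u}} (v v' : T ⟶ pullback p U₁.hom), v ≫ r = v' ≫ r → v ≫ a = v' ≫ a := by
    intro T v v' e
    have h : (v ≫ pullback.fst p U₁.hom) ≫ p = (v' ≫ pullback.fst p U₁.hom) ≫ p := by
      rw [Category.assoc, Category.assoc, pullback.condition, ← Category.assoc, ← Category.assoc, e]
    let V : Desc.Lifts ((Desc.toDD p).obj U₁).obj (v ≫ pullback.fst p U₁.hom) := ⟨v, rfl⟩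
    let W : Desc.Lifts ((Desc.toDD p).obj U₂).obj (v ≫ pullback.fst p U₁.hom) :=
      ⟨v ≫ α.hom.left, (Category.assoc _ _ _).trans (congrArg (v ≫ ·) hα)⟩
    have hV : (((Desc.toDD p).obj U₁).φ _ _ h V).1 = v' :=
      pullback.hom_ext (pullback.lift_fst _ _ _) ((pullback.lift_snd _ _ _).trans e)
    have hc := α.comm _ _ h V W rfl
    rw [hV] at hc
    have hc' := congrArg (fun t => t ≫ pullback.snd p U₂.hom) hc
    refine Eq.trans ?_ (hc'.trans (Category.assoc _ _ _))
    exact ((pullback.lift_snd _ _ _).trans (Category.assoc _ _ _)).symm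
  let P : Over S := Over.mk (pullback.fst U₁.hom U₂.hom ≫ U₁.hom)
  haveI : Etale P.hom := inferInstanceAs (Etale (pullback.fst U₁.hom U₂.hom ≫ U₁.hom))
  let q := pullback.snd p P.hom
  let s : pullback p U₁.hom ⟶ pullback p P.hom :=
    pullback.lift (pullback.fst p U₁.hom) (pullback.lift r a ha.symm) (by
      show pullback.fst p U₁.hom ≫ p = pullback.lift r a ha.symm ≫ pullback.fst U₁.hom U₂.hom ≫ U₁.hom
      rw [pullback.lift_fst_assoc, pullback.condition])
  have hsq : s ≫ q = pullback.lift r a ha.symm := pullback.lift_snd _ _ _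
  haveI : IsOpenImmersion s := by
    let π : pullback p P.hom ⟶ pullback p U₁.hom :=
      pullback.lift (pullback.fst p P.hom) (q ≫ pullback.fst U₁.hom U₂.hom)
        (by rw [pullback.condition, Category.assoc]; rfl)
    have hsπ : s ≫ π = 𝟙 _ := by
      apply pullback.hom_ext
      · rw [Category.assoc, pullback.lift_fst, pullback.lift_fst, Category.id_comp]
      · rw [Category.assoc, pullback.lift_snd, ← Category.assoc, hsq, pullback.lift_fst, Category.id_comp]
    haveI : Etale π := by
      have sq : IsPullback π q r (pullback.fst U₁.hom U₂.hom) :=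
        IsPullback.of_right (by rw [pullback.lift_fst]; exact (IsPullback.of_hasPullback p P.hom))
          (pullback.lift_snd _ _ _) (IsPullback.of_hasPullback p U₁.hom)
      exact MorphismProperty.of_isPullback sq.flip inferInstance
    haveI : Etale (s ≫ π) := by rw [hsπ]; infer_instance
    haveI : Etale s := Etale.of_comp s π
    haveI : Mono (s ≫ π) := by rw [hsπ]; infer_instance
    haveI : Mono s := mono_of_mono s π
    exact IsOpenImmersion.of_flat_of_mono s
  have hsat : ∀ {T : Scheme.{u}} (z z' : T ⟶ pullback p P.hom) (v : T ⟶ pullback p U₁.hom),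
      z ≫ q = z' ≫ q → v ≫ s = z → ∃ v', v' ≫ s = z' := by
    intro T z z' v e ev
    let v' : T ⟶ pullback p U₁.hom := pullback.lift (z' ≫ pullback.fst p P.hom) (v ≫ r) (by
      rw [Category.assoc, pullback.condition, ← Category.assoc z', ← e, ← ev, Category.assoc v,
        Category.assoc v, hsq]
      simp [P, r])
    refine ⟨v', pullback.hom_ext (by rw [Category.assoc, pullback.lift_fst, pullback.lift_fst]) ?_⟩
    show (v' ≫ s) ≫ q = z' ≫ q
    rw [Category.assoc v' s q, hsq, ← e, ← ev, Category.assoc v s q, hsq]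
    apply pullback.hom_ext
    · rw [Category.assoc, pullback.lift_fst, Category.assoc, pullback.lift_fst]
      exact pullback.lift_snd _ _ _
    · rw [Category.assoc, pullback.lift_snd, Category.assoc, pullback.lift_snd]
      exact hind v' v (pullback.lift_snd _ _ _)
  have hpre : q.base ⁻¹' (q.base '' Set.range s) = Set.range s := by
    refine Set.Subset.antisymm (fun z' hz' => ?_) (Set.subset_preimage_image _ _)
    obtain ⟨z, hz, e⟩ := hz'
    obtain ⟨w, hw₁, hw₂⟩ := Scheme.Pullback.exists_preimage_pullback (f := q) (g := q) z z' e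
    let t := (pullback q q).fromSpecResidueField w
    have ht : ∀ y, t y = w := fun y => Scheme.fromSpecResidueField_apply _ y
    have hr : Set.range (t ≫ pullback.fst q q) ⊆ Set.range s := by
      rintro _ ⟨y, rfl⟩
      rw [Scheme.Hom.comp_apply, ht, hw₁]
      exact hz
    obtain ⟨v', hv'⟩ := hsat (t ≫ pullback.fst q q) (t ≫ pullback.snd q q)
      (IsOpenImmersion.lift s _ hr) (by rw [Category.assoc, Category.assoc, pullback.condition])
      (IsOpenImmersion.lift_fac s _ hr)
    refine ⟨v' (IsLocalRing.closedPoint _), ?_⟩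
    rw [← Scheme.Hom.comp_apply, hv', Scheme.Hom.comp_apply, ht, hw₂]
  have hWo : IsOpen (q.base '' Set.range s) := by
    rw [← (hp P inferInstance).isOpen_preimage]
    exact hpre.symm ▸ s.isOpenEmbedding.isOpen_range
  let W : P.left.Opens := ⟨_, hWo⟩
  let h : (W : Scheme.{u}) ⟶ U₁.left := W.ι ≫ pullback.fst U₁.hom U₂.hom
  haveI : Etale h := inferInstanceAs (Etale (W.ι ≫ pullback.fst U₁.hom U₂.hom))
  have hrange : Set.range (s ≫ q) ⊆ Set.range W.ι := by
    rintro _ ⟨y, rfl⟩
    rw [Scheme.Opens.range_ι]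
    exact ⟨s y, ⟨y, rfl⟩, rfl⟩
  let l := IsOpenImmersion.lift W.ι (s ≫ q) hrange
  have hl : l ≫ h = r := by
    show l ≫ W.ι ≫ _ = _
    rw [IsOpenImmersion.lift_fac_assoc, hsq, pullback.lift_fst]
  haveI : Surjective h := by
    refine ⟨fun u => ?_⟩
    haveI := hpsurj
    obtain ⟨x, hx⟩ := (pullback.snd p U₁.hom).surjective u
    exact ⟨l x, by rw [← Scheme.Hom.comp_apply, hl]; exact hx⟩
  haveI : UniversallyInjective h := by
    rw [UniversallyInjective.iff_diagonal]
    refine ⟨fun w => ?_⟩
    haveI := hpsurj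
    let K := (pullback h h).fromSpecResidueField w
    obtain ⟨x, hx⟩ := (pullback.snd p (K ≫ pullback.fst h h ≫ h ≫ U₁.hom)).surjective (IsLocalRing.closedPoint _)
    let T := pullback p (K ≫ pullback.fst h h ≫ h ≫ U₁.hom)
    let k := pullback.snd p (K ≫ pullback.fst h h ≫ h ≫ U₁.hom)
    let w₁ : T ⟶ (W : Scheme.{u}) := k ≫ K ≫ pullback.fst h h
    let w₂ : T ⟶ (W : Scheme.{u}) := k ≫ K ≫ pullback.snd h h
    have hw : w₁ ≫ h = w₂ ≫ h := by simp only [w₁, w₂, Category.assoc, pullback.condition]
    have key : ∀ (ω : T ⟶ (W : Scheme.{u})) (eω : pullback.fst p _ ≫ p = (ω ≫ W.ι) ≫ P.hom),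
        ∃ v, v ≫ s = pullback.lift (pullback.fst p (K ≫ pullback.fst h h ≫ h ≫ U₁.hom)) (ω ≫ W.ι) eω := by
      intro ω eω
      refine ⟨IsOpenImmersion.lift s _ ?_, IsOpenImmersion.lift_fac s _ ?_⟩ <;>
      · rintro _ ⟨y, rfl⟩
        rw [← hpre]
        show q _ ∈ (W : Set P.left)
        rw [← Scheme.Hom.comp_apply, pullback.lift_snd, Scheme.Hom.comp_apply]
        exact (ω y).2
    have e₁ : pullback.fst p (K ≫ pullback.fst h h ≫ h ≫ U₁.hom) ≫ p = (w₁ ≫ W.ι) ≫ P.hom := by
      rw [pullback.condition]; simp [w₁, k, h, P]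
    have e₂ : pullback.fst p (K ≫ pullback.fst h h ≫ h ≫ U₁.hom) ≫ p = (w₂ ≫ W.ι) ≫ P.hom := by
      rw [e₁]; simp only [P, Over.mk_hom, ← Category.assoc]
      exact congrArg (· ≫ U₁.hom) (by simpa [h] using hw)
    obtain ⟨v₁, hv₁⟩ := key w₁ e₁
    obtain ⟨v₂, hv₂⟩ := key w₂ e₂
    have hf : ∀ (v : T ⟶ pullback p U₁.hom) (ω : T ⟶ (W : Scheme.{u})) (eω : pullback.fst p _ ≫ p = (ω ≫ W.ι) ≫ P.hom),
        v ≫ s = pullback.lift (pullback.fst p (K ≫ pullback.fst h h ≫ h ≫ U₁.hom)) (ω ≫ W.ι) eω →
        v ≫ pullback.lift r a ha.symm = ω ≫ W.ι := fun v ω eω hv => by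
      rw [← hsq, ← Category.assoc, hv, pullback.lift_snd]
    have f₁ := hf v₁ w₁ e₁ hv₁
    have f₂ := hf v₂ w₂ e₂ hv₂
    have hr' : v₁ ≫ r = v₂ ≫ r := by
      have g₁ := congrArg (· ≫ pullback.fst U₁.hom U₂.hom) f₁
      have g₂ := congrArg (· ≫ pullback.fst U₁.hom U₂.hom) f₂
      simp only [Category.assoc, pullback.lift_fst] at g₁ g₂
      exact g₁.trans (hw.trans g₂.symm)
    have hww : w₁ = w₂ := by
      rw [← cancel_mono W.ι, ← f₁, ← f₂]
      apply pullback.hom_ext
      · simp [hr']
      · simp only [Category.assoc, pullback.lift_snd]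
        exact hind v₁ v₂ hr'
    refine ⟨w₁ x, ?_⟩
    have e : w₁ ≫ pullback.diagonal h = k ≫ K := by
      apply pullback.hom_ext
      · simp [w₁]
      · simp [hww, w₂]
    rw [← Scheme.Hom.comp_apply, e, Scheme.Hom.comp_apply, hx]
    exact Scheme.fromSpecResidueField_apply _ _
  haveI := Groth.Agent.H18Et.TopInv.isOpenImmersion_of_etale_of_universallyInjective h
  haveI : IsIso h := (isIso_iff_isOpenImmersion_and_surjective h).2 ⟨inferInstance, inferInstance⟩
  refine ⟨Over.homMk (inv h ≫ W.ι ≫ pullback.snd U₁.hom U₂.hom) ?_, ?_⟩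
  · show (inv h ≫ W.ι ≫ pullback.snd U₁.hom U₂.hom) ≫ U₂.hom = U₁.hom
    rw [Category.assoc, Category.assoc, ← pullback.condition, ← Category.assoc W.ι]
    exact (IsIso.inv_hom_id_assoc h U₁.hom)
  · apply SchDD.hom_ext
    ext1
    apply pullback.hom_ext
    · exact (pullback.lift_fst _ _ _).trans ((Category.comp_id _).trans hα.symm)
    · refine (pullback.lift_snd _ _ _).trans ?_
      show r ≫ inv h ≫ W.ι ≫ pullback.snd U₁.hom U₂.hom = a
      rw [← hl, Category.assoc, IsIso.hom_inv_id_assoc, IsOpenImmersion.lift_fac_assoc, hsq, pullback.lift_snd]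

end Groth.Agent.S0782
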