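import Groth.Statements.S0785
import Groth.Agent.H13Desc.EtaleLocal

set_option autoImplicit false
universe u
open Desc

namespace Groth.Agent.S0785

/-- Let A → B be a local homomorphism of Noetherian local rings which is etale in the sense that B is
the localization at a prime of an etale A-algebra. Then A and B have the same depth. -/
theorem result (A B : Type u) [CommRing A] [CommRing B] [IsLocalRing A] [IsLocalRing B]
    [IsNoetherianRing A] [IsNoetherianRing B] [Algebra A B] [IsLocalHom (algebraMap A B)]
    (E : Type u) [CommRing E] [Algebra A E] [Algebra.Etale A E] (P : Ideal E) [P.IsPrime]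
    [Algebra E B] [IsScalarTower A E B] [IsLocalization.AtPrime B P] :
    LocCoh.depth A A = LocCoh.depth B B := by
  obtain ⟨hflat, hm⟩ := H13Desc.flat_and_map_maximalIdeal A B E P
  haveI := Groth.Agent.H8Props.FlatDepth.isLocalRing_fibre A B
  rw [Groth.Agent.H8Props.FlatDepth.depth_eq_add A B,
    H13Desc.depth_of_field _ (H13Desc.isField_fibre A B hm), add_zero]

end Groth.Agent.S0785
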