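import Groth.Statements.S0796
import Groth.Agent.LeadProper.Supp
-- import your own Groth.Agent.* helpers here

set_option autoImplicit false
universe u
open Coherent

namespace Groth.Agent.S0796

open CategoryTheory AlgebraicGeometry in
/-- Part (2), through the usual criterion for Serre subcategories. Let S be locally Noetherian and f : X
→ S locally of finite type. For a short exact sequence 0 → F₁ → F₂ → F₃ → 0 of coherent O_X-modules,
the support of F₂ is proper over S if and only if the supports of F₁ and F₃ are. -/
theorem result {X S : Scheme.{u}} (f : X ⟶ S) [LocallyOfFiniteType f]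
    [IsLocallyNoetherian S] (E : ShortComplex X.Modules) (hE : E.ShortExact)
    (h₁ : Coh.IsCoh E.X₁) (h₂ : Coh.IsCoh E.X₂) (h₃ : Coh.IsCoh E.X₃) :
    ClSub.IsProperOver f (CohB1.support E.X₂) ↔
      ClSub.IsProperOver f (CohB1.support E.X₁) ∧ ClSub.IsProperOver f (CohB1.support E.X₃) := by
  haveI := hE.mono_f
  haveI := hE.epi_g
  constructor
  · intro h
    exact ⟨LeadProper.isProperOver_mono h (H10Coh.isClosed_support _ h₁.2) (LeadDev.support_subset_of_mono E.f),
      LeadProper.isProperOver_mono h (H10Coh.isClosed_support _ h₃.2) (LeadDev.support_subset_of_epi E.g)⟩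
  · rintro ⟨ha, hb⟩
    refine LeadProper.isProperOver_mono (LeadProper.isProperOver_iUnion f
      (fun k : Bool => bif k then CohB1.support E.X₁ else CohB1.support E.X₃) ?_)
      (H10Coh.isClosed_support _ h₂.2) ?_
    · rintro (_ | _)
      · exact hb
      · exact ha
    · intro x hx
      rcases LeadDev.support_subset_of_shortExact hE hx with h | h
      · exact Set.mem_iUnion.2 ⟨true, h⟩
      · exact Set.mem_iUnion.2 ⟨false, h⟩

end Groth.Agent.S0796
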