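import Groth.Statements.S0800
import Groth.Agent.H15Site.RpushColim
import Groth.Agent.H15Site.QcColim
import Groth.Agent.H10Coh.OpenEmb
-- import your own Groth.Agent.* helpers here

set_option autoImplicit false
set_option linter.style.haveILetI false
universe u
open CategoryTheory CategoryTheory.Limits AlgebraicGeometry Opposite TopologicalSpace
open Coherent

namespace Groth.Agent.S0800

section
open CategoryTheory.Abelian Groth.Agent.H10Coh

attribute [local instance 10000] hasSheafifyAb hasWeakSheafifyAb hasExtAb enoughInjAb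

/-- Cohomology on a compact quasi-separated open commutes with filtered colimits. -/
theorem preservesColimit_cohP (X : Scheme.{u}) (W : X.Opens) (hW : IsCompact (W : Set X))
    [QuasiSeparatedSpace (W : Scheme.{u})] (q : ℕ) {J : Type u} [SmallCategory J] [IsFiltered J]
    (D : J ⥤ CohTop.Ab X.toTopCat) :
    PreservesColimit D ((Sheaf.cohomologyPresheafFunctor (Opens.grothendieckTopology X) q).flip.obj (op W) :
      CohTop.Ab X.toTopCat ⥤ AddCommGrpCat.{u}) := by
  let j := W.ι.base
  have hj : Topology.IsOpenEmbedding j := W.ι.isOpenEmbedding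
  haveI : (CohTop.pull j).IsLeftAdjoint :=
    (TopCat.Sheaf.pullbackPushforwardAdjunction AddCommGrpCat.{u} j).isLeftAdjoint
  haveI : PreservesColimitsOfSize.{u, u} (Rf hj) :=
    preservesColimits_of_natIso (hj.sheafPullbackIso AddCommGrpCat.{u})
  haveI : PrespectralSpace (W : Scheme.{u}).toTopCat := inferInstanceAs (PrespectralSpace (W : Scheme.{u}))
  haveI : QuasiSeparatedSpace (W : Scheme.{u}).toTopCat := ‹QuasiSeparatedSpace (W : Scheme.{u})›
  haveI : CompactSpace (W : Scheme.{u}).toTopCat := isCompact_iff_compactSpace.1 hW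
  have hT : IsCompact ((⊤ : Opens (W : Scheme.{u}).toTopCat) : Set (W : Scheme.{u}).toTopCat) := isCompact_univ
  let G := (Sheaf.cohomologyPresheafFunctor (Opens.grothendieckTopology (W : Scheme.{u})) q).flip.obj
    (op (⊤ : Opens (W : Scheme.{u}).toTopCat))
  haveI : PreservesColimit (D ⋙ Rf hj) G :=
    Groth.Agent.H15Site.QcColim.preservesColimit_cohomology ⊤ hT q (D ⋙ Rf hj)
  let e : Rf hj ⋙ G ≅ (Sheaf.cohomologyPresheafFunctor (Opens.grothendieckTopology X) q).flip.obj
      (op (im hj ⊤)) :=
    NatIso.ofComponents (fun F => (restrEquiv hj F q ⊤).symm.toAddCommGrpIso) fun {F F'} φ => by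
      ext x
      obtain ⟨y, rfl⟩ := (restrEquiv hj F q ⊤).surjective x
      show (restrEquiv hj F' q ⊤).symm ((restrEquiv hj F q ⊤ y).comp (Ext.mk₀ ((Rf hj).map φ)) (add_zero q)) =
        ((restrEquiv hj F q ⊤).symm (restrEquiv hj F q ⊤ y)).comp (Ext.mk₀ φ) (add_zero q)
      rw [AddEquiv.symm_apply_apply, ← restrEquiv_map, AddEquiv.symm_apply_apply]
  have hW' : im hj ⊤ = W := W.ι_image_top
  haveI : PreservesColimit D ((Sheaf.cohomologyPresheafFunctor (Opens.grothendieckTopology X) q).flip.obj
      (op (im hj ⊤))) := preservesColimit_of_natIso D e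
  rw [← hW']
  infer_instance

end

open CategoryTheory CategoryTheory.Limits AlgebraicGeometry in
/-- Let f : X → S be quasi-compact and quasi-separated. Then for every p the higher direct image functor
R^p f_* on abelian sheaves (on the underlying spaces) preserves filtered colimits. -/
theorem result {X S : Scheme.{u}} (f : X ⟶ S) [QuasiCompact f]
    [QuasiSeparated f] (p : ℕ) (J : Type u) [SmallCategory J] [IsFiltered J] :
    PreservesColimitsOfShape J (Coh.RpushAb f p) := by
  refine ⟨fun {D} => Groth.Agent.H15Site.RpushColim.main (Opens.map f.base) D p fun V => ?_⟩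
  have key : ∀ s : (V : Set S), ∃ W : S.Opens, IsAffineOpen W ∧ W ≤ V ∧ s.1 ∈ W := fun s => by
    obtain ⟨W, hW, hsW, hWV⟩ := exists_isAffineOpen_mem_and_subset (U := V) (x := s.1) s.2
    exact ⟨W, hW, hWV, hsW⟩
  choose W hWa hWV hsW using key
  refine ⟨(V : Set S), W, fun s => homOfLE (hWV s), fun x hx => ?_, fun s => ?_⟩
  · exact ⟨W ⟨x, hx⟩, homOfLE (hWV _), Sieve.ofArrows_mk _ _ _, hsW ⟨x, hx⟩⟩
  · haveI : IsAffine (W s : Scheme.{u}) := hWa s
    haveI : QuasiSeparatedSpace (f ⁻¹ᵁ W s : Scheme.{u}) := quasiSeparatedSpace_of_quasiSeparated (f ∣_ W s)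
    exact preservesColimit_cohP X (f ⁻¹ᵁ W s)
      (QuasiCompact.isCompact_preimage (f := f) _ (W s).isOpen (hWa s).isCompact) p D

end Groth.Agent.S0800
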