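import Groth.Statements.S0805
-- import your own Groth.Agent.* helpers here
import Groth.Agent.H3CAlg.Sect0.Finish
import Groth.Agent.H3CAlg.Sect0.Extend

set_option autoImplicit false
universe u
open CategoryTheory
attribute [local instance] HasDerivedCategory.standard
open Formal2

namespace Groth.Agent.S0805

open AlgebraicGeometry in
/-- Let I ⊆ 𝔞 be ideals of a Noetherian ring A which is complete for the I-adic topology and admits a
dualizing complex, let d bound the cohomological dimension of I, let U = Spec A ∖ V(𝔞), and let M be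
a finite A-module. Assume the following dimension condition on the associated primes of M: for every
associated prime 𝔭 of M lying in U, not containing I, and such that V(𝔭) ∩ V(I) ⊄ V(𝔞), and for
every prime 𝔮 ⊇ 𝔭 containing 𝔞, one has dim (A/𝔭)_𝔮 > d + 1. Assume moreover that M_𝔭 has depth at
least 2 for every prime 𝔭 in U such that V(𝔭) ∩ V(I) ⊆ V(𝔞). Then, for the coherent module M~ on U
attached to M, the canonical map from the sections of M~ over U to the limit of the sections of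
(M/I^nM)~ over U is bijective. -/
theorem result (A : Type u) [CommRing A] [IsNoetherianRing A]
    (I 𝔞 : Ideal A) (hI : I ≤ 𝔞) [IsAdicComplete I A] (hω : ∃ ω : Dual.D A, Dual.IsDualizing A ω)
    (d : ℕ) (hd : LocCoh.CdLE A I d) (M : Type u) [AddCommGroup M] [Module A M] [Module.Finite A M]
    (h₂ : ∀ p ∈ associatedPrimes A M, ¬ 𝔞 ≤ p → ¬ I ≤ p →
      (∃ r : Ideal A, r.IsPrime ∧ p ≤ r ∧ I ≤ r ∧ ¬ 𝔞 ≤ r) →
        ∀ (q : Ideal A) [q.IsPrime], p ≤ q → 𝔞 ≤ q → ((d + 1 : ℕ) : WithBot ℕ∞) < Formal2.dimBetween A p q)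
    (h₃ : ∀ (p : Ideal A) [p.IsPrime], ¬ 𝔞 ≤ p →
      (∀ (r : Ideal A), r.IsPrime → p ≤ r → I ≤ r → 𝔞 ≤ r) →
        (2 : ℕ∞) ≤ LocCoh.depth (Localization.AtPrime p) (LocalizedModule p.primeCompl M)) :
    Formal2.FormalCohBijective A I M 0 (LocCoh.puncturedOpen A 𝔞) := by
  have hres : ∀ (V : (Spec (CommRingCat.of A)).Opens)
      (hV : Formal2.Admissible A I (LocCoh.puncturedOpen A 𝔞) V),
      Function.Bijective (Formal2.HVres A M 0 hV.1) := fun V hV =>
    H3CAlg.Sect0.res_bijective_of_depth M hV.1 fun p hpU hpV => h₃ p.asIdeal hpU fun r hr hpr hIr => by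
      by_contra hra
      exact hpV (((PrimeSpectrum.le_iff_specializes p ⟨r, hr⟩).1 hpr).mem_open V.2 (hV.2 ⟨r, hr⟩ hra hIr))
  obtain ⟨hinj, hsurj⟩ := H3CAlg.Sect0.colimBijective A I 𝔞 (H3CAlg.Sect0.surj_of_dim I 𝔞 hI hω d hd M h₂)
  refine ⟨fun x x' h => ?_, fun y hy => ?_⟩
  · obtain ⟨V', hV', h0⟩ := hinj _ ⟨le_rfl, fun p hp _ => hp⟩ (x - x') fun n => by rw [map_sub, h n, sub_self]
    exact (hres V' hV'.1).1 (sub_eq_zero.1 ((map_sub _ x x').symm.trans h0))
  · obtain ⟨V, hV, x, hx⟩ := hsurj y hy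
    obtain ⟨x', rfl⟩ := (hres V hV).2 x
    refine ⟨x', fun n => sub_eq_zero.1 (H3CAlg.Sect0.eq_zero_of_res_eq_zero I 𝔞 (n + 1) (fun a ha z => ?_) hV _ ?_)⟩
    · obtain ⟨v, rfl⟩ := Submodule.Quotient.mk_surjective _ z
      exact (Submodule.Quotient.mk_eq_zero _).2 (Submodule.smul_mem_smul ha Submodule.mem_top)
    · rw [map_sub, hx n, H24Formal2.HVres_HVmap, sub_self]

end Groth.Agent.S0805
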