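import Groth.Statements.S0806
-- import your own Groth.Agent.* helpers here
import Groth.Agent.H3CAlg.GlobAlg.Formal

set_option autoImplicit false
universe u
open CategoryTheory
attribute [local instance] HasDerivedCategory.standard
open Formal2

namespace Groth.Agent.S0806

open AlgebraicGeometry in
/-- For the coherent module on U attached to a finite A-module M, and with alternative (a) of its third
hypothesis (the variant (b) about dimension functions is not covered). Let I ⊆ 𝔞 be ideals of a
Noetherian ring A which is complete for the I-adic topology and admits a dualizing complex, d a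
bound for the cohomological dimension of I, s ≥ 0, U = Spec A ∖ V(𝔞). Assume: for every prime 𝔭 in U
outside V(I), either depth M_𝔭 > s, or depth M_𝔭 + dim (A/𝔭)_𝔮 > d + s + 1 for every prime 𝔮 ⊇ 𝔭 +
𝔞; and M satisfies (S_{s+1}) at the primes of U outside V(I). Then H^i(U, M~) → lim_n H^i(U,
(M/I^nM)~) is bijective for i < s, and in degree s the map from the colimit of H^s(V, M~) over the
opens V ⊆ U containing U ∩ V(I) to lim_n H^s(U, (M/I^nM)~) is bijective (elementwise formulations). -/
theorem result (A : Type u) [CommRing A] [IsNoetherianRing A]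
    (I 𝔞 : Ideal A) (hI : I ≤ 𝔞) [IsAdicComplete I A] (hω : ∃ ω : Dual.D A, Dual.IsDualizing A ω)
    (d : ℕ) (hd : LocCoh.CdLE A I d) (M : Type u) [AddCommGroup M] [Module A M] [Module.Finite A M]
    (s : ℕ)
    (h₂ : ∀ (p : Ideal A) [p.IsPrime], ¬ 𝔞 ≤ p → ¬ I ≤ p →
      (s : ℕ∞) < LocCoh.depth (Localization.AtPrime p) (LocalizedModule p.primeCompl M) ∨
        ∀ (q : Ideal A) [q.IsPrime], p ≤ q → 𝔞 ≤ q →
          ((d + s + 1 : ℕ) : WithBot ℕ∞) <
            ((LocCoh.depth (Localization.AtPrime p) (LocalizedModule p.primeCompl M) : ℕ∞) : WithBot ℕ∞) +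
              Formal2.dimBetween A p q)
    (h₃ : ∀ (p : Ideal A) [p.IsPrime], ¬ 𝔞 ≤ p → ¬ I ≤ p →
      min ((s + 1 : ℕ) : WithBot ℕ∞)
          (Module.supportDim (Localization.AtPrime p) (LocalizedModule p.primeCompl M)) ≤
        ((LocCoh.depth (Localization.AtPrime p) (LocalizedModule p.primeCompl M) : ℕ∞) : WithBot ℕ∞)) :
    (∀ i : ℕ, i < s → Formal2.FormalCohBijective A I M i (LocCoh.puncturedOpen A 𝔞)) ∧
      Formal2.FormalCohColimBijective A I M s (LocCoh.puncturedOpen A 𝔞) := by
  exact ⟨fun i hi => H3CAlg.GlobAlg.formal_lt I 𝔞 hI hω d hd M s h₂ i hi,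
    H3CAlg.GlobAlg.formal_colim I 𝔞 hI hω d hd M s h₂⟩

end Groth.Agent.S0806
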