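import Groth.Statements.S0813
import Groth.Agent.S11951
import Mathlib.RingTheory.AdicCompletion.LocalRing
import Mathlib.RingTheory.AdicCompletion.AsTensorProduct
import Mathlib.RingTheory.Flat.FaithfullyFlat.Algebra
import Groth.Agent.H23Para.DepthFun
import Groth.Agent.H23Para.Local

set_option autoImplicit false
universe u
open Formal2

namespace Groth.Agent.S0813

open CategoryTheory CategoryTheory.Limits AlgebraicGeometry

set_option backward.isDefEq.respectTransparency false

/-- Functions extend from the punctured spectrum. -/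
theorem bijective_app {A : Type u} [CommRing A] [IsNoetherianRing A] [IsLocalRing A]
    (hdepth : (2 : ℕ∞) ≤ LocCoh.depth A A) (V : (Spec (CommRingCat.of A)).Opens) :
    Function.Bijective ((FEt.puncturedSpec A).ι.app V) := by
  by_cases h : IsLocalRing.closedPoint A ∈ V
  · obtain rfl := H23Para.eq_top_of_closedPoint_mem h
    have h0 := H23Para.bijective_punctured_iff.2 hdepth
    let U := FEt.puncturedSpec A
    have e : U.ι.appTop ≫ U.topIso.hom =
        (Spec (CommRingCat.of A)).presheaf.map (homOfLE (le_top : U ≤ ⊤)).op := by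
      rw [Scheme.Opens.ι_appTop, Scheme.Opens.topIso_hom, ← Functor.map_comp]
      rfl
    haveI : IsIso ((Spec (CommRingCat.of A)).presheaf.map (homOfLE (le_top : U ≤ ⊤)).op) :=
      (ConcreteCategory.isIso_iff_bijective _).2 h0
    haveI : IsIso (U.ι.appTop ≫ U.topIso.hom) := e ▸ inferInstance
    haveI : IsIso U.ι.appTop := IsIso.of_isIso_comp_right U.ι.appTop U.topIso.hom
    exact ConcreteCategory.bijective_of_isIso U.ι.appTop
  · haveI := Scheme.Hom.isIso_app (FEt.puncturedSpec A).ι V
      (by rw [Scheme.Opens.opensRange_ι]; exact H23Para.le_punctured_of_closedPoint_notMem h)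
    exact ConcreteCategory.bijective_of_isIso _

/-- Trivial pullback is invariant under isomorphisms. -/
theorem picPullbackInjective_iso_comp {Y Z Z' : Scheme.{u}} {g : Z ⟶ Y} (hg : Formal2.PicPullbackInjective g)
    (e : Z' ≅ Z) : Formal2.PicPullbackInjective (e.hom ≫ g) := by
  intro L hL ⟨t⟩
  exact hg L hL ⟨(Scheme.Modules.pullbackCongr (by rw [Iso.inv_hom_id_assoc] : g = e.inv ≫ e.hom ≫ g)).app L ≪≫
    ((Scheme.Modules.pullbackComp e.inv (e.hom ≫ g)).app L).symm ≪≫
    (Scheme.Modules.pullback e.inv).mapIso t ≪≫ H16Derived.KFlat.Stalk.structurePullbackIso e.inv⟩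

open CategoryTheory AlgebraicGeometry in
/-- Let (A, 𝔪) be a Noetherian local ring of depth at least 2, A^ its 𝔪-adic completion, U the punctured
spectrum of A and U^ its preimage in Spec A^ (the punctured spectrum of A^). Then an invertible
O_U-module whose pullback to U^ is trivial is trivial. -/
theorem result (A : Type u) [CommRing A] [IsNoetherianRing A]
    [IsLocalRing A] (hdepth : (2 : ℕ∞) ≤ LocCoh.depth A A) :
    Formal2.PicPullbackInjective
      (Spec.map (CommRingCat.ofHom (algebraMap A (AdicCompletion (IsLocalRing.maximalIdeal A) A))) ∣_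
        FEt.puncturedSpec A) := by
  let g := Spec.map (CommRingCat.ofHom (algebraMap A (AdicCompletion (IsLocalRing.maximalIdeal A) A)))
  let U := FEt.puncturedSpec A
  haveI : IsLocallyNoetherian (Spec (CommRingCat.of A)) := inferInstance
  haveI : Module.FaithfullyFlat A (AdicCompletion (IsLocalRing.maximalIdeal A) A) :=
    Module.FaithfullyFlat.of_flat_of_isLocalHom
  haveI : Flat g := by
    rw [HasRingHomProperty.Spec_iff (P := @Flat)]
    exact RingHom.flat_algebraMap_iff.2 inferInstance
  haveI : Surjective g := ⟨PrimeSpectrum.comap_surjective_of_faithfullyFlat⟩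
  have hg : Formal2.PicPullbackInjective g := fun L hL _ => by
    obtain ⟨t⟩ := H23Para.nonempty_iso_structureModule hL (𝟙 (Spec (CommRingCat.of A)))
    exact ⟨(Scheme.Modules.restrictFunctorId.app L).symm ≪≫ t⟩
  have h := S11951.result U.ι (bijective_app hdepth) g hg
  show Formal2.PicPullbackInjective (g ∣_ U)
  rw [morphismRestrict, ← pullbackSymmetry_hom_comp_fst, ← Category.assoc]
  exact picPullbackInjective_iso_comp h ((pullbackRestrictIsoRestrict g U).symm ≪≫ pullbackSymmetry g U.ι)

end Groth.Agent.S0813
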