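import Groth.Statements.S0814
-- import your own Groth.Agent.* helpers here
import Groth.Agent.H3CAlg.Sect0.Finish

set_option autoImplicit false
universe u
open CategoryTheory
attribute [local instance] HasDerivedCategory.standard
open Formal2

namespace Groth.Agent.S0814

open AlgebraicGeometry H3CAlg H3CAlg.Sect0 in
/-- For every `n` the "characteristic section" of the part in `u`. -/
theorem exists_char {A : Type u} [CommRing A] [IsNoetherianRing A] (I 𝔞 : Ideal A) {N : Type u} [AddCommGroup N]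
    [Module A N] (k : ℕ) (hN : ∀ a ∈ I ^ k, ∀ z : N, a • z = 0) (e : N) (u v : (Spec (CommRingCat.of A)).Opens)
    (hcov : ∀ p : PrimeSpectrum A, ¬ 𝔞 ≤ p.asIdeal → I ≤ p.asIdeal → p ∈ u ∨ p ∈ v)
    (hdis : ∀ p : PrimeSpectrum A, ¬ 𝔞 ≤ p.asIdeal → p ∈ u → p ∈ v → ¬ I ≤ p.asIdeal) :
    ∃ y : H24Formal2.Sm A N (LocCoh.puncturedOpen A 𝔞),
      SmRes A N (inf_le_left : LocCoh.puncturedOpen A 𝔞 ⊓ u ≤ _) y = H24Formal2.toSm A N _ e ∧
      SmRes A N (inf_le_left : LocCoh.puncturedOpen A 𝔞 ⊓ v ≤ _) y = 0 ∧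
      ∀ y', SmRes A N (inf_le_left : LocCoh.puncturedOpen A 𝔞 ⊓ u ≤ _) y' = H24Formal2.toSm A N _ e →
        SmRes A N (inf_le_left : LocCoh.puncturedOpen A 𝔞 ⊓ v ≤ _) y' = 0 → y' = y := by
  haveI : IsNoetherianRing ↥(CommRingCat.of A) := ‹IsNoetherianRing A›
  let U := LocCoh.puncturedOpen A 𝔞
  have hzero : ∀ (O : (Spec (CommRingCat.of A)).Opens), O ≤ LocCoh.puncturedOpen A I → ∀ z : H24Formal2.Sm A N O, z = 0 := by
    intro O hO z
    obtain ⟨K, rfl⟩ := opens_eq_punctured A O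
    refine H4PSect.eq_zero_on_of_killed (R := CommRingCat.of A) I (ModuleCat.of A N) hO k z fun a ha => ?_
    obtain ⟨x, rfl⟩ := (σ A N _).surjective z
    refine (H24Formal2.SmMap_smul_id A K a _).symm.trans ((σ_map A (a • LinearMap.id : N →ₗ[A] N) _ x).symm.trans ?_)
    rw [show (a • LinearMap.id : N →ₗ[A] N) = 0 from LinearMap.ext (hN a ha), H24Formal2.HVmap_zero, map_zero]
  let D : Fin 3 → (Spec (CommRingCat.of A)).Opens := ![U ⊓ u, U ⊓ v, U ⊓ LocCoh.puncturedOpen A I]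
  let s : ∀ j, H24Formal2.Sm A N (D j) := Fin.cases (H24Formal2.toSm A N _ e) fun _ => 0
  have hDle : ∀ j, D j ≤ U := fun j => by fin_cases j <;> exact inf_le_left
  have hDcov : U ≤ iSup D := fun p hp => by
    by_cases hI : I ≤ p.asIdeal
    · rcases hcov p hp hI with h | h
      · exact TopologicalSpace.Opens.mem_iSup.2 ⟨0, hp, h⟩
      · exact TopologicalSpace.Opens.mem_iSup.2 ⟨1, hp, h⟩
    · exact TopologicalSpace.Opens.mem_iSup.2 ⟨2, hp, hI⟩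
  have hcomp : ∀ i j, SmRes A N (inf_le_left : D i ⊓ D j ≤ D i) (s i) = SmRes A N (inf_le_right : D i ⊓ D j ≤ D j) (s j) := by
    intro i j
    fin_cases i <;> fin_cases j <;>
      first
        | exact (map_zero _).trans (map_zero _).symm
        | rfl
        | exact sub_eq_zero.1 (hzero _ (fun p hp => by
            first
              | exact hdis p hp.1.1 hp.1.2 hp.2.2
              | exact hdis p hp.1.1 hp.2.2 hp.1.2
              | exact hp.1.2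
              | exact hp.2.2) _)
  obtain ⟨y, hy, huniq⟩ := TopCat.Sheaf.existsUnique_gluing'
    (modulesSpecToSheaf.obj (tilde (R := CommRingCat.of A) (ModuleCat.of A N))) D U
    (fun j => homOfLE (hDle j)) hDcov s hcomp
  refine ⟨y, hy 0, hy 1, fun y' h0 h1 => huniq y' fun j => ?_⟩
  fin_cases j
  · exact h0
  · exact h1
  · exact (hzero _ inf_le_right _).trans (hzero _ inf_le_right _).symm

theorem associated_mem_minimalPrimes {A : Type u} [CommRing A] [IsNoetherianRing A] {p : Ideal A}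
    (hp : p ∈ associatedPrimes A (A ⧸ nilradical A)) : p ∈ minimalPrimes A := by
  obtain ⟨hpp, x, hx⟩ := isAssociatedPrime_iff.1 (show IsAssociatedPrime p (A ⧸ nilradical A) from hp)
  obtain ⟨a, rfl⟩ := Submodule.Quotient.mk_surjective _ x
  have hmem : ∀ t, t ∈ p ↔ t * a ∈ nilradical A := fun t => by
    rw [hx, Submodule.mem_colon_singleton, Submodule.mem_bot, ← Submodule.Quotient.mk_smul,
      Submodule.Quotient.mk_eq_zero, smul_eq_mul]
  have ha : a ∉ nilradical A := fun ha => hpp.ne_top ((Ideal.eq_top_iff_one _).2 ((hmem 1).2 (by rwa [one_mul])))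
  rw [nilradical, Ideal.radical_eq_sInf, Submodule.mem_sInf] at ha
  push Not at ha
  obtain ⟨P, ⟨-, hPp⟩, haP⟩ := ha
  obtain ⟨Q, hQ, hQP⟩ := Ideal.exists_minimalPrimes_le (I := (⊥ : Ideal A)) (J := P) bot_le
  have hle : p ≤ Q := fun t ht => (hQ.1.1.mem_or_mem ((haveI := hQ.1.1; nilradical_le_prime Q) ((hmem t).1 ht))).resolve_right
    fun h => haP (hQP h)
  exact (le_antisymm hle (hQ.2 ⟨hpp, bot_le⟩ hle)).symm ▸ hQ


open AlgebraicGeometry in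
/-- Let I ⊆ 𝔞 be ideals of a Noetherian ring A which is complete for the I-adic topology and admits a
dualizing complex, and let d bound the cohomological dimension of I. Assume that for every minimal
prime 𝔭 of A not containing I and every prime 𝔮 ⊇ 𝔭 + 𝔞 the dimension of (A/𝔭)_𝔮 exceeds d + 1, and
that every nonempty open subset of Spec A containing V(I) ∖ V(𝔞) is connected. Then V(I) ∖ V(𝔞) is
empty or connected. -/
theorem result (A : Type u) [CommRing A] [IsNoetherianRing A]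
    (I 𝔞 : Ideal A) (hI : I ≤ 𝔞) [IsAdicComplete I A] (hω : ∃ ω : Dual.D A, Dual.IsDualizing A ω)
    (d : ℕ) (hd : LocCoh.CdLE A I d)
    (h₂ : ∀ p ∈ minimalPrimes A, ¬ I ≤ p →
      ∀ (q : Ideal A) [q.IsPrime], p ≤ q → 𝔞 ≤ q → ((d + 1 : ℕ) : WithBot ℕ∞) < Formal2.dimBetween A p q)
    (h₃ : ∀ V : Set (PrimeSpectrum A), IsOpen V → V.Nonempty →
      PrimeSpectrum.zeroLocus (I : Set A) \ PrimeSpectrum.zeroLocus (𝔞 : Set A) ⊆ V → _root_.IsConnected V) :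
    _root_.IsPreconnected (PrimeSpectrum.zeroLocus (I : Set A) \ PrimeSpectrum.zeroLocus (𝔞 : Set A)) := by
  classical
  haveI : IsNoetherianRing ↥(CommRingCat.of A) := ‹IsNoetherianRing A›
  rintro u' v' hu' hv' hZuv ⟨z₁, hz₁, hz₁u⟩ ⟨z₀, hz₀, hz₀v⟩
  by_contra hne
  let u : (AlgebraicGeometry.Spec (CommRingCat.of A)).Opens := ⟨u', hu'⟩
  let v : (AlgebraicGeometry.Spec (CommRingCat.of A)).Opens := ⟨v', hv'⟩
  have hdis : ∀ p : PrimeSpectrum A, ¬ 𝔞 ≤ p.asIdeal → p ∈ u → p ∈ v → ¬ I ≤ p.asIdeal :=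
    fun p hpa hpu hpv hpI => hne ⟨p, ⟨hpI, hpa⟩, hpu, hpv⟩
  have hcov : ∀ p : PrimeSpectrum A, ¬ 𝔞 ≤ p.asIdeal → I ≤ p.asIdeal → p ∈ u ∨ p ∈ v :=
    fun p hpa hpI => hZuv ⟨hpI, hpa⟩
  let M := A ⧸ nilradical A
  let one : M := Submodule.Quotient.mk 1
  have hkill : ∀ n, ∀ a ∈ I ^ (n + 1), ∀ z : quotPow A I M n, a • z = 0 := fun n a ha z => by
    obtain ⟨w, rfl⟩ := Submodule.Quotient.mk_surjective _ z
    exact (Submodule.Quotient.mk_eq_zero _).2 (Submodule.smul_mem_smul ha Submodule.mem_top)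
  choose y hy₁ hy₀ huniq using fun n => exists_char I 𝔞 (n + 1) (hkill n) (quotPowπ A I M n one) u v hcov hdis
  obtain ⟨V, hV, x, hx⟩ := H3CAlg.Sect0.surj_of_dim I 𝔞 hI hω d hd M
    (fun p hp _ hpI _ q _ hpq hq => h₂ p (associated_mem_minimalPrimes hp) hpI q hpq hq)
    (fun n => (H3CAlg.Sect0.σ A _ _).symm (y n)) fun n => by
      refine (H3CAlg.Sect0.σ A _ _).injective ?_
      rw [H3CAlg.Sect0.σ_map, AddEquiv.apply_symm_apply, AddEquiv.apply_symm_apply]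
      refine huniq n _ ?_ ?_
      · rw [H3CAlg.Sect0.SmMap_res, hy₁, H24Formal2.SmMap_toSm]
        rfl
      · rw [H3CAlg.Sect0.SmMap_res, hy₀, map_zero]
  let t := H3CAlg.Sect0.σ A M V x
  -- locally `t = 1` or `t = 0` near `V(I)`
  have hloc : ∀ (w : (AlgebraicGeometry.Spec (CommRingCat.of A)).Opens) (e : M),
      (∀ n, H3CAlg.Sect0.SmRes A (quotPow A I M n) (inf_le_left : LocCoh.puncturedOpen A 𝔞 ⊓ w ≤ _) (y n) =
        H24Formal2.toSm A _ _ (quotPowπ A I M n e)) →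
      ∀ p : PrimeSpectrum A, ¬ 𝔞 ≤ p.asIdeal → I ≤ p.asIdeal → p ∈ w →
        ∃ (O : (AlgebraicGeometry.Spec (CommRingCat.of A)).Opens) (hO : O ≤ V),
          p ∈ O ∧ H3CAlg.Sect0.SmRes A M hO t = H24Formal2.toSm A M O e := by
    intro w e hw p hpa hpI hpw
    obtain ⟨K, hK⟩ := H3CAlg.Sect0.opens_eq_punctured A (LocCoh.puncturedOpen A 𝔞 ⊓ w)
    let O₀ := V ⊓ (LocCoh.puncturedOpen A 𝔞 ⊓ w)
    obtain ⟨O, hadm, hres⟩ := H3CAlg.Sect0.inj_colim A I K O₀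
      ⟨hK ▸ inf_le_right, fun q hq hqI => by
        rw [hK] at hq
        exact ⟨hV.2 q hq.1 hqI, hq⟩⟩
      ((H3CAlg.Sect0.σ A M O₀).symm (H3CAlg.Sect0.SmRes A M (inf_le_left : O₀ ≤ V) t - H24Formal2.toSm A M O₀ e))
      fun n => (H3CAlg.Sect0.σ A _ O₀).injective (by
        rw [H3CAlg.Sect0.σ_map, AddEquiv.apply_symm_apply, map_zero, map_sub, ← H3CAlg.Sect0.SmMap_res,
          ← H3CAlg.Sect0.σ_map, ← hx n, H3CAlg.Sect0.σ_res, AddEquiv.apply_symm_apply, H24Formal2.SmMap_toSm,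
          ← H3CAlg.Sect0.SmRes_toSm A (inf_le_right : O₀ ≤ LocCoh.puncturedOpen A 𝔞 ⊓ w), ← hw n,
          sub_eq_zero]
        exact (H4PSect.res_res _ _ _ _).trans (H4PSect.res_res _ _ _ _).symm)
    refine ⟨O, hadm.2.trans inf_le_left, hadm.1.2 p (hK ▸ ⟨hpa, hpw⟩) hpI, ?_⟩
    have h := congrArg (H3CAlg.Sect0.σ A M O) hres
    rw [H3CAlg.Sect0.σ_res, AddEquiv.apply_symm_apply, map_zero, map_sub, H3CAlg.Sect0.SmRes_toSm, sub_eq_zero] at h
    exact (H4PSect.res_res _ _ _ _).symm.trans h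
  let W : M → Set (PrimeSpectrum A) := fun e => {p | ∃ (O : (AlgebraicGeometry.Spec (CommRingCat.of A)).Opens)
    (hO : O ≤ V), p ∈ O ∧ H3CAlg.Sect0.SmRes A M hO t = H24Formal2.toSm A M O e}
  have hWo : ∀ e, IsOpen (W e) := fun e => isOpen_iff_forall_mem_open.2 fun p ⟨O, hO, hp, he⟩ =>
    ⟨O.1, fun q hq => ⟨O, hO, hq, he⟩, O.2, hp⟩
  have hW₁ := fun p => hloc u one hy₁ p
  have hW₀ := fun p => hloc v 0 (fun n => by rw [hy₀, map_zero, map_zero]) p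
  have hWsep : ∀ p, p ∈ W one → p ∉ W 0 := by
    rintro p ⟨O₁, hO₁, hp₁, he₁⟩ ⟨O₀, hO₀, hp₀, he₀⟩
    obtain ⟨K, hK⟩ := H3CAlg.Sect0.opens_eq_punctured A (O₁ ⊓ O₀)
    have h : H24Formal2.toSm A M (O₁ ⊓ O₀) one = 0 := by
      rw [← H3CAlg.Sect0.SmRes_toSm A (inf_le_left : O₁ ⊓ O₀ ≤ O₁), ← he₁,
        show H3CAlg.Sect0.SmRes A M (inf_le_left : O₁ ⊓ O₀ ≤ O₁) (H3CAlg.Sect0.SmRes A M hO₁ t) =
          H3CAlg.Sect0.SmRes A M (inf_le_right : O₁ ⊓ O₀ ≤ O₀) (H3CAlg.Sect0.SmRes A M hO₀ t) from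
          (H4PSect.res_res _ _ _ _).trans (H4PSect.res_res _ _ _ _).symm, he₀, H3CAlg.Sect0.SmRes_toSm, map_zero]
    rw [← hK] at h
    obtain ⟨j, hj⟩ := (H24Formal2.ker_toSm A K one).1 h
    have hpK : p ∈ LocCoh.puncturedOpen A K := hK ▸ ⟨hp₁, hp₀⟩
    refine hpK (p.2.le_of_pow_le (n := j) fun r hr => (nilradical_le_prime p.asIdeal) ?_)
    have h1 := hj r hr
    rwa [← Submodule.Quotient.mk_smul, Submodule.Quotient.mk_eq_zero, smul_eq_mul, mul_one] at h1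
  have hcon := h₃ (W one ∪ W 0) ((hWo _).union (hWo _)) ⟨z₁, Or.inl (hW₁ z₁ hz₁.2 hz₁.1 hz₁u)⟩
    fun p hp => (hcov p hp.2 hp.1).imp (hW₁ p hp.2 hp.1) (hW₀ p hp.2 hp.1)
  obtain ⟨p, -, hp₁, hp₀⟩ := hcon.isPreconnected (W one) (W 0) (hWo _) (hWo _) subset_rfl
    ⟨z₁, Or.inl (hW₁ z₁ hz₁.2 hz₁.1 hz₁u), hW₁ z₁ hz₁.2 hz₁.1 hz₁u⟩
    ⟨z₀, Or.inr (hW₀ z₀ hz₀.2 hz₀.1 hz₀v), hW₀ z₀ hz₀.2 hz₀.1 hz₀v⟩
  exact hWsep p hp₁ hp₀

end Groth.Agent.S0814
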