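import Groth.Statements.S0815
import Groth.Agent.H3CAlg.ConeProd

set_option autoImplicit false
universe u
open Formal2

namespace Groth.Agent.S0815

open CategoryTheory AlgebraicGeometry in
/-- Let (A, 𝔪) be a complete Noetherian local ring, I a proper ideal, e a bound for the cohomological
dimension of I, and Z ⊆ V(I) a closed subset of Spec A. Assume that dim Z + e + 1 < dim A/𝔭 for
every minimal prime 𝔭 of A, and that dim Z + e < dim Z' for every closed subset Z' of Spec A whose
complement is not connected (the empty complement counts as not connected). Then V(I) ∖ Z is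
connected, in particular nonempty. -/
theorem result (A : Type u) [CommRing A] [IsNoetherianRing A] [IsLocalRing A]
    [IsAdicComplete (IsLocalRing.maximalIdeal A) A] (I : Ideal A) (hI : I ≠ ⊤) (e : ℕ) (he : LocCoh.CdLE A I e)
    (Z : Set (PrimeSpectrum A)) (hZ : IsClosed Z) (hZI : Z ⊆ PrimeSpectrum.zeroLocus (I : Set A))
    (hdim : ∀ p ∈ minimalPrimes A, topologicalKrullDim Z + ((e + 1 : ℕ) : WithBot ℕ∞) < ringKrullDim (A ⧸ p))
    (hc : ∀ Z' : Set (PrimeSpectrum A), IsClosed Z' → ¬ _root_.IsConnected Z'ᶜ →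
      topologicalKrullDim Z + ((e : ℕ) : WithBot ℕ∞) < topologicalKrullDim Z') :
    _root_.IsConnected (PrimeSpectrum.zeroLocus (I : Set A) \ Z) := by
  classical
  haveI : Nontrivial (A ⧸ I) := Ideal.Quotient.nontrivial_iff.2 hI
  haveI : IsLocalRing (A ⧸ I) := IsLocalRing.of_surjective' _ Ideal.Quotient.mk_surjective
  have hrange : Set.range (PrimeSpectrum.comap (Ideal.Quotient.mk I)) = PrimeSpectrum.zeroLocus (I : Set A) := by
    rw [range_comap_of_surjective _ _ Ideal.Quotient.mk_surjective, Ideal.mk_ker]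
  let emb := PrimeSpectrum.isClosedEmbedding_comap_of_surjective _ (Ideal.Quotient.mk I) Ideal.Quotient.mk_surjective
  let Z' : Set (PrimeSpectrum (A ⧸ I)) := PrimeSpectrum.comap (Ideal.Quotient.mk I) ⁻¹' Z
  by_contra hcon
  have hcomp : ¬ _root_.IsConnected Z'ᶜ := fun h => hcon (by
    have h' := h.image _ emb.continuous.continuousOn
    rwa [← Set.preimage_compl, Set.image_preimage_eq_inter_range, hrange, Set.inter_comm, ← Set.sdiff_eq] at h')
  have h1 : LocCoh.connDim (PrimeSpectrum (A ⧸ I)) ≤ topologicalKrullDim Z := by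
    refine (H4Conn.connDim_le (hZ.preimage emb.continuous) hcomp).trans (le_of_eq ?_)
    exact IsHomeomorph.topologicalKrullDim_eq _ (((emb.isEmbedding.homeomorphImage Z').trans (Homeomorph.setCongr
      (by rw [Set.image_preimage_eq_inter_range, hrange, Set.inter_eq_left.2 hZI]))).isHomeomorph)
  have h0 : (0 : WithBot ℕ∞) ≤ topologicalKrullDim Z := H4Conn.zero_le_connDim.trans h1
  obtain ⟨q, hq, -⟩ := Ideal.exists_minimalPrimes_le (I := (⊥ : Ideal A)) (J := IsLocalRing.maximalIdeal A) bot_le
  obtain ⟨m, hm⟩ := H4Conn.exists_nat_dim (R := A) hq.1.1.ne_top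
  obtain ⟨d, hd⟩ : ∃ d : ℕ, topologicalKrullDim Z = d := by
    have h2 := hdim q hq
    rw [hm] at h2
    generalize topologicalKrullDim Z = x at h0 h2
    induction x with
    | bot => simp at h0
    | coe a =>
      induction a with
      | top => exact absurd h2 (not_lt.mpr (le_trans le_top (le_add_of_nonneg_right (by positivity))))
      | coe d => exact ⟨d, rfl⟩
  have h2 := H4Conn.min_le_connDim_quotient I hI e he
  have h3 : ((d + e + 1 + 1 : ℕ) : WithBot ℕ∞) ≤
      min (LocCoh.connDim (PrimeSpectrum A) + 1) (LocCoh.subdim (PrimeSpectrum A)) := by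
    refine le_min ?_ (H4Conn.le_subdim fun p hp => ?_)
    · obtain ⟨W, hW, hWc, hWe⟩ := H4Conn.exists_connDim (PrimeSpectrum A)
      have h4 := hc W hW hWc
      rw [hd, ← hWe] at h4
      obtain ⟨n, hn⟩ : ∃ n : ℕ, LocCoh.connDim (PrimeSpectrum A) = n ∨ LocCoh.connDim (PrimeSpectrum A) = ⊤ := by
        generalize LocCoh.connDim (PrimeSpectrum A) = x at h4
        induction x with
        | bot => simp at h4
        | coe a =>
          induction a with
          | top => exact ⟨0, Or.inr rfl⟩
          | coe n => exact ⟨n, Or.inl rfl⟩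
      rcases hn with hn | hn
      · rw [hn] at h4 ⊢
        have h5 : d + e < n := by exact_mod_cast h4
        exact_mod_cast (show d + e + 1 + 1 ≤ n + 1 by omega)
      · rw [hn]; exact le_trans le_top (le_add_of_nonneg_right zero_le_one)
    · haveI := hp.1.1
      obtain ⟨l, hl⟩ := H4Conn.exists_nat_dim (R := A) hp.1.1.ne_top
      have h4 := hdim p hp
      rw [hd, hl] at h4
      rw [hl]
      have h5 : d + (e + 1) < l := by exact_mod_cast h4
      exact_mod_cast (show d + e + 1 + 1 ≤ l by omega)
  have h6 : ((d + e + 1 + 1 : ℕ) : WithBot ℕ∞) ≤ ((d + e + 1 : ℕ) : WithBot ℕ∞) := by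
    refine (h3.trans h2).trans ?_
    refine (add_le_add (add_le_add (h1.trans hd.le) le_rfl) le_rfl).trans (le_of_eq ?_)
    push_cast; rfl
  have : d + e + 1 + 1 ≤ d + e + 1 := by exact_mod_cast h6
  omega

end Groth.Agent.S0815
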