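import Groth.Statements.S0818
import Groth.Agent.LeadDev.Rules
-- import your own Groth.Agent.* helpers here

set_option autoImplicit false
universe u
open Coherent

namespace Groth.Agent.S0818

open CategoryTheory AlgebraicGeometry CategoryTheory.Limits in
/-- Let X be a nonempty Noetherian scheme and P an isomorphism-invariant property of O_X-modules such
that (1) in every short exact sequence of coherent O_X-modules, if two of the three terms satisfy P
then so does the third, and (2) for every integral scheme Z and closed immersion i : Z → X, with ξ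
the generic point of Z, there is a coherent O_X-module G satisfying P whose support is exactly i(Z)
and whose stalk at i(ξ) is isomorphic, as a module over the local ring O_{X,i(ξ)}, to the residue
field of that local ring. Then every coherent O_X-module satisfies P. (The published statement
leaves the nonemptiness of X implicit; it is needed to handle the zero module and is assumed
explicitly here.) -/
theorem result (X : Scheme.{u}) [IsNoetherian X] [Nonempty X]
    (P : X.Modules → Prop) (hP : ∀ M N : X.Modules, Nonempty (M ≅ N) → P M → P N)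
    (h₁ : ∀ S : ShortComplex X.Modules, S.ShortExact → Coh.IsCoh S.X₁ → Coh.IsCoh S.X₂ → Coh.IsCoh S.X₃ →
      (P S.X₁ → P S.X₂ → P S.X₃) ∧ (P S.X₁ → P S.X₃ → P S.X₂) ∧ (P S.X₂ → P S.X₃ → P S.X₁))
    (h₂ : ∀ (Z : Scheme.{u}) (i : Z ⟶ X) [IsClosedImmersion i] [IsIntegral Z],
      ∃ G : X.Modules, Coh.IsCoh G ∧ CohB1.support G = Set.range ⇑i ∧
        Nonempty (↑(G.presheaf.stalk (i (genericPoint Z))) ≃ₗ[X.presheaf.stalk (i (genericPoint Z))]
          IsLocalRing.ResidueField (X.presheaf.stalk (i (genericPoint Z)))) ∧ P G)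
    (M : X.Modules) (hM : Coh.IsCoh M) : P M := by
  have h0 : ∀ N : X.Modules, IsZero N → P N := fun N hN => by
    obtain ⟨x⟩ := ‹Nonempty X›
    obtain ⟨Z, i, hZ, -, hi, -⟩ :=
      Groth.Agent.H17.ConsProp.exists_integral_closed (closure {x}) isClosed_closure isIrreducible_singleton.closure
    haveI := hi
    haveI := hZ
    obtain ⟨G, hG, -, -, hPG⟩ := h₂ Z i
    exact LeadDev.zero_of_left hG (fun S hS a b c _ => (h₁ S hS a b c).2.2) hPG N hN
  refine LeadDev.devissage_induction Set.univ P hP h0 (fun S hS a b c => (h₁ S hS a b c).2.1) ?_ M hM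
    (Set.subset_univ _)
  intro Z i _ _ _ hsmall I ι _ hI
  obtain ⟨G, hG, hGs, ⟨e⟩, hPG⟩ := h₂ Z i
  obtain ⟨W, hW, hξW, -⟩ := exists_isAffineOpen_mem_and_subset (U := (⊤ : X.Opens)) (x := i (genericPoint Z)) trivial
  obtain ⟨r, hr, hcyc, hIc, hPr⟩ := LeadDev.key_step i rfl I ι hI P h0 hsmall
    (fun S hS a b c _ => (h₁ S hS a b c).2.1) hW hξW G hG (hGs ▸ ⟨_, rfl⟩)
    (LeadDev.killedAt_of_residue hW hξW hG.1 e)
    (LeadDev.exists_sub_of_left P _ hG hGs.le hPG hsmall (fun S hS a b c _ => (h₁ S hS a b c).2.2) hW hξW)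
  exact LeadDev.of_power_one hP (hcyc (LeadDev.cyclicAt_of_residue hW hξW hG.1 e)) hPr

end Groth.Agent.S0818
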