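import Groth.Statements.S0819
import Groth.Agent.LeadDev.Rules
-- import your own Groth.Agent.* helpers here

set_option autoImplicit false
universe u
open Coherent

namespace Groth.Agent.S0819

open CategoryTheory AlgebraicGeometry CategoryTheory.Limits in
/-- Let X be a Noetherian scheme, Z₀ ⊆ X an irreducible closed subset with generic point ξ, and P an
isomorphism-invariant property of O_X-modules such that: (1) in every short exact sequence of
coherent modules supported in Z₀, P for two of the terms implies P for the third; (2) P holds for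
i_* I whenever i : Z → X is an integral closed subscheme with i(Z) a proper subset of Z₀ and I ⊆ O_Z
is a quasi-coherent ideal sheaf; (3) there is a coherent G with support exactly Z₀, stalk at ξ
isomorphic to the residue field over the local ring, and P(G). Then P holds for every coherent
module whose support is contained in Z₀. -/
theorem result (X : Scheme.{u}) [IsNoetherian X]
    (Z₀ : Set X) (hZ₀ : IsClosed Z₀) (hirr : IsIrreducible Z₀) (ξ : X) (hξ : ξ ∈ Z₀ ∧ closure {ξ} = Z₀)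
    (P : X.Modules → Prop) (hP : ∀ M N : X.Modules, Nonempty (M ≅ N) → P M → P N)
    (h₁ : ∀ S : ShortComplex X.Modules, S.ShortExact → Coh.IsCoh S.X₁ → Coh.IsCoh S.X₂ → Coh.IsCoh S.X₃ →
      CohB1.support S.X₂ ⊆ Z₀ →
      (P S.X₁ → P S.X₂ → P S.X₃) ∧ (P S.X₁ → P S.X₃ → P S.X₂) ∧ (P S.X₂ → P S.X₃ → P S.X₁))
    (h₂ : ∀ (Z : Scheme.{u}) (i : Z ⟶ X), IsClosedImmersion i → IsIntegral Z →
      Set.range ⇑i ⊆ Z₀ → Set.range ⇑i ≠ Z₀ →
      ∀ (I : Z.Modules) (ι : I ⟶ Coh.structureModule Z), Mono ι → Coh.IsQCoh I →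
        P ((Coh.push i).obj I))
    (h₃ : ∃ G : X.Modules, Coh.IsCoh G ∧ CohB1.support G = Z₀ ∧
      Nonempty (↑(G.presheaf.stalk ξ) ≃ₗ[X.presheaf.stalk ξ] IsLocalRing.ResidueField (X.presheaf.stalk ξ)) ∧ P G)
    (M : X.Modules) (hM : Coh.IsCoh M) (hsupp : CohB1.support M ⊆ Z₀) : P M := by
  obtain ⟨G, hG, hGs, ⟨e⟩, hPG⟩ := h₃
  have h0 : ∀ N : X.Modules, IsZero N → P N := fun N hN =>
    LeadDev.zero_of_left hG (fun S hS a b c hs => (h₁ S hS a b c (hs.trans hGs.le)).2.2) hPG N hN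
  refine LeadDev.devissage_irreducible Z₀ ξ hξ P hP h0 (fun S hS a b c hs => (h₁ S hS a b c hs).2.1) h₂ ?_
    M hM hsupp
  intro hsmall Z i _ _ hiξ hr I ι _ hI
  obtain ⟨W, hW, hξW, -⟩ := exists_isAffineOpen_mem_and_subset (U := (⊤ : X.Opens)) (x := ξ) trivial
  obtain ⟨r, -, hcyc, hIc, hPr⟩ := LeadDev.key_step i hiξ I ι hI P h0
    (fun N hN hs => hsmall N hN (hs.trans hr.le))
    (fun S hS a b c hs => (h₁ S hS a b c (hs.trans hr.le)).2.1) hW hξW G hG (hGs ▸ hξ.1)
    (LeadDev.killedAt_of_residue hW hξW hG.1 e)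
    (LeadDev.exists_sub_of_left P _ hG hGs.le hPG hsmall (fun S hS a b c hs => (h₁ S hS a b c hs).2.2) hW hξW)
  exact LeadDev.of_power_one hP (hcyc (LeadDev.cyclicAt_of_residue hW hξW hG.1 e)) hPr

end Groth.Agent.S0819
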