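import Groth.Statements.S0823
import Groth.Agent.LeadFF.ProIso.Seq

set_option autoImplicit false
universe u
open Formal2

namespace Groth.Agent.S0823

open CategoryTheory AlgebraicGeometry in
/-- The short exact sequences in positive degrees (the degree-0 statement H^0(X, F)^ ≅ lim H^0(X,
F/I^nF) and the vanishing of the R^1 lim term for proper X are not restated). Let A be a Noetherian
ring, I an ideal, X a Noetherian scheme over Spec A and F a coherent O_X-module such that every
H^p(X, F) is a finite A-module. Then for every p there is a short exact sequence 0 → R^1 lim_n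
H^p(X, F/I^nF) → H^(p+1)(X, F)^ → lim_n H^(p+1)(X, F/I^nF) → 0 of abelian groups, where ^ is I-adic
completion; the second map is the one induced by the maps H^(p+1)(X, F) → H^(p+1)(X, F/I^(n+1)F),
and the first map is only asserted to exist. -/
theorem result (A : Type u) [CommRing A] [IsNoetherianRing A] (I : Ideal A)
    (X : Scheme.{u}) [X.Over (Spec (CommRingCat.of A))] [IsNoetherian X] (F : X.Modules) (hF : Coh.IsCoh F)
    (hfin : ∀ p : ℕ, Module.Finite A (Coh.HH X F p)) (p : ℕ) :
    ∃ (α : Formal2.limOne (fun n => Formal.HHmodPow I F p n) (fun n => Formal.HHmodPowTrans I F p n) →+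
        AdicCompletion I (Coh.HH X F (p + 1)))
      (β : AdicCompletion I (Coh.HH X F (p + 1)) →+ Formal.HHlim I F (p + 1)),
      Function.Injective α ∧ Function.Surjective β ∧ α.range = β.ker ∧
      ∀ (x : AdicCompletion I (Coh.HH X F (p + 1))) (n : ℕ) (h : Coh.HH X F (p + 1)),
        AdicCompletion.eval I (Coh.HH X F (p + 1)) (n + 1) x = Submodule.Quotient.mk h →
          (β x : ∀ n, Formal.HHmodPow I F (p + 1) n) n = Formal.toHHmodPow I F (p + 1) n h := by
  haveI : ∀ q, _root_.IsNoetherian A (Coh.HH X F q) := fun q => haveI := hfin q; inferInstance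
  obtain ⟨hI, hS⟩ := LeadFF.ProIso.PI_and_PS (A := A) F I hF this (IsNoetherian.noetherian I)
  haveI : Subsingleton (Formal2.limOne (fun n => Formal.HHmodPow I F p n) (fun n => Formal.HHmodPowTrans I F p n)) := by
    refine subsingleton_of_forall_eq 0 fun x => ?_
    obtain ⟨v, rfl⟩ := QuotientAddGroup.mk_surjective x
    exact (QuotientAddGroup.eq_zero_iff v).2 (LeadFF.ProIso.surjective_towerDiff I F p hS v)
  refine ⟨0, LeadFF.fromCompletion I F (p + 1), fun a b _ => Subsingleton.elim a b,
    LeadFF.ProIso.fromCompletion_surjective I F (p + 1) hS hI, ?_, fun x n h hx => ?_⟩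
  · rw [AddMonoidHom.range_eq_bot_iff.2 rfl]
    exact ((AddMonoidHom.ker_eq_bot_iff _).2 (LeadFF.ProIso.fromCompletion_injective I F (p + 1) hI)).symm
  · show LeadFF.level I F (p + 1) n (AdicCompletion.eval I _ (n + 1) x) = _
    rw [hx]
    rfl

end Groth.Agent.S0823
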