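import Groth.Statements.S0828
import Groth.Agent.H29Ref.Free
import Groth.Agent.H22Alg.ESZ
-- import your own Groth.Agent.* helpers here

set_option autoImplicit false
set_option linter.style.haveILetI false
universe u
open CategoryTheory AlgebraicGeometry
open Coherent

namespace Groth.Agent.S0828

section
open CategoryTheory AlgebraicGeometry TopologicalSpace H29Fitt

theorem annihilator_eq_bot {X : Scheme.{u}} [IsLocallyNoetherian X] {F : X.Modules} (hF : Coh.IsCoh F) (hs : CohB1.support F = Set.univ)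
    (x : X) [IsDomain (X.presheaf.stalk x)] :
    Module.annihilator (X.presheaf.stalk x) (F.presheaf.stalk x) = ⊥ := by
  obtain ⟨_, ⟨U, hU, rfl⟩, hxU, -⟩ :=
    X.isBasis_affineOpens.exists_subset_of_mem_open (Set.mem_univ x) isOpen_univ
  let P := (hU.primeIdealOf ⟨x, hxU⟩).asIdeal
  letI := TopCat.Presheaf.algebra_section_stalk X.presheaf (⟨x, hxU⟩ : U)
  letI := Module.compHom (F.presheaf.stalk x) (algebraMap Γ(X, U) (X.presheaf.stalk x))
  haveI : IsScalarTower Γ(X, U) (X.presheaf.stalk x) (F.presheaf.stalk x) :=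
    .of_algebraMap_smul fun _ _ => rfl
  haveI : IsLocalization P.primeCompl (X.presheaf.stalk x) := hU.isLocalization_stalk ⟨x, hxU⟩
  haveI : IsLocalizedModule P.primeCompl (germLin F (⟨x, hxU⟩ : U)) :=
    isLocalizedModule_germLin F hF.1 hU ⟨x, hxU⟩
  haveI := H8Props.FinLocFree.finitePresentation_sections F (H10Coh.isFP_of_isCoh F hF) hU
  refine (Submodule.eq_bot_iff _).2 fun r hr => ?_
  obtain ⟨⟨a, s⟩, hrs⟩ := IsLocalization.surj P.primeCompl r
  by_contra hr0
  have ha : algebraMap Γ(X, U) (X.presheaf.stalk x) a ≠ 0 := by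
    rw [← hrs]
    exact mul_ne_zero hr0 (IsLocalization.map_units _ s).ne_zero
  obtain ⟨S, hS⟩ := Module.Finite.fg_top (R := Γ(X, U)) (M := Γ(F, U))
  have hkill : ∀ m : Γ(F, U), ∃ t : P.primeCompl, t • (a • m) = 0 := fun m => by
    refine (IsLocalizedModule.eq_zero_iff P.primeCompl (germLin F (⟨x, hxU⟩ : U))).1 ?_
    rw [map_smul, ← algebraMap_smul (X.presheaf.stalk x) a, ← hrs, mul_comm, mul_smul,
      Module.mem_annihilator.1 hr, smul_zero]
  choose t ht using hkill
  let T : Γ(X, U) := ∏ m ∈ S, (t m : Γ(X, U))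
  have hT : T ∈ P.primeCompl := prod_mem fun m _ => (t m).2
  have hzero : ∀ m : Γ(F, U), (T * a) • m = 0 := by
    have h0 : (LinearMap.lsmul Γ(X, U) Γ(F, U) (T * a)) = 0 := LinearMap.ext_on hS fun m hm => by
      obtain ⟨c, hc⟩ := Finset.dvd_prod_of_mem (fun m => (t m : Γ(X, U))) hm
      show (T * a) • m = 0
      rw [show T = (t m : Γ(X, U)) * c from hc, mul_comm _ c, mul_assoc, mul_smul, mul_smul]
      exact (congrArg (c • ·) (ht m)).trans (smul_zero _)
    exact fun m => congr($h0 m)
  have hne : ¬ IsNilpotent (T * a) := fun hn => by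
    have h1 := IsNilpotent.eq_zero (hn.map (algebraMap Γ(X, U) (X.presheaf.stalk x)))
    rw [map_mul] at h1
    exact mul_ne_zero (IsLocalization.map_units (X.presheaf.stalk x) (⟨T, hT⟩ : P.primeCompl)).ne_zero ha h1
  obtain ⟨q, hq, hTq⟩ : ∃ q : Ideal Γ(X, U), q.IsPrime ∧ T * a ∉ q := by
    by_contra h
    push Not at h
    exact hne (nilpotent_iff_mem_prime.2 h)
  let y : X := hU.fromSpec ⟨q, hq⟩
  have hyU : y ∈ U := hU.range_fromSpec.le ⟨_, rfl⟩
  have hy : (hU.primeIdealOf ⟨y, hyU⟩).asIdeal = q :=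
    congrArg PrimeSpectrum.asIdeal (hU.fromSpec.isOpenEmbedding.injective (hU.fromSpec_primeIdealOf ⟨y, hyU⟩) :
      hU.primeIdealOf ⟨y, hyU⟩ = ⟨q, hq⟩)
  have hys : ¬ Subsingleton (F.presheaf.stalk y) := by
    have : y ∈ CohB1.support F := by rw [hs]; trivial
    exact this
  letI := TopCat.Presheaf.algebra_section_stalk X.presheaf (⟨y, hyU⟩ : U)
  letI := Module.compHom (F.presheaf.stalk y) (algebraMap Γ(X, U) (X.presheaf.stalk y))
  haveI : IsLocalizedModule (hU.primeIdealOf ⟨y, hyU⟩).asIdeal.primeCompl (germLin F (⟨y, hyU⟩ : U)) :=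
    isLocalizedModule_germLin F hF.1 hU ⟨y, hyU⟩
  refine hys ((IsLocalizedModule.subsingleton_iff (hU.primeIdealOf ⟨y, hyU⟩).asIdeal.primeCompl
    (germLin F (⟨y, hyU⟩ : U))).2 fun m => ⟨T * a, ?_, hzero m⟩)
  exact fun h => hTq (hy ▸ h)

theorem supportDim_eq {R : Type u} [CommRing R] {M : Type u} [AddCommGroup M] [Module R M] [Module.Finite R M]
    (h : Module.annihilator R M = ⊥) : Module.supportDim R M = ringKrullDim R := by
  rw [Module.supportDim_eq_ringKrullDim_quotient_annihilator, h]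
  exact ringKrullDim_eq_of_ringEquiv (RingEquiv.quotientBot R)
end

open CategoryTheory AlgebraicGeometry in
/-- Let X be a regular scheme (locally Noetherian with regular local rings) and F a coherent O_X-module.
Then F has support all of X and Cohen–Macaulay stalks if and only if F is finite locally free of
positive rank near every point. -/
theorem result (X : Scheme.{u}) [IsLocallyNoetherian X]
    (hreg : ∀ x : X, IsRegularLocalRing (X.presheaf.stalk x)) (F : X.Modules) (hF : Coh.IsCoh F) :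
    (CohB1.support F = Set.univ ∧
        ∀ x : X, LocCoh.IsCohenMacaulayModule (X.presheaf.stalk x) ↑(F.presheaf.stalk x)) ↔
      ∀ x : X, ∃ (U : X.Opens) (n : ℕ), x ∈ U ∧ 0 < n ∧
        Nonempty (F.restrict U.ι ≅ FlatMod.freeMod (↑U) n) := by
  constructor
  · rintro ⟨hs, hcm⟩ x
    haveI := hreg x
    haveI := H4Depth.isDomain_of_isRegularLocalRing (X.presheaf.stalk x)
    haveI := H29Ref.finite_stalk F hF.2 x
    haveI : Module.Free (X.presheaf.stalk x) (F.presheaf.stalk x) :=
      H29Ref.free_of_dim_le_depth _ ((supportDim_eq (annihilator_eq_bot hF hs x)).symm.trans (hcm x)).le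
    haveI : Nontrivial (F.presheaf.stalk x) := not_subsingleton_iff_nontrivial.1 (by
      have : x ∈ CohB1.support F := by rw [hs]; trivial
      exact this)
    obtain ⟨U, hxU, e⟩ := H8Props.FunDescent.isFreeOfRankNear_of_stalkFree_of_isFP F
      (H10Coh.isFP_of_isCoh F hF) (p := Module.finrank (X.presheaf.stalk x) (F.presheaf.stalk x)) (x := x)
      ⟨Module.finBasis _ _⟩
    exact ⟨U, _, hxU, Module.finrank_pos, e⟩
  · intro h
    have key : ∀ x : X, Nontrivial (F.presheaf.stalk x) ∧
        LocCoh.IsCohenMacaulayModule (X.presheaf.stalk x) (F.presheaf.stalk x) := fun x => by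
      haveI := hreg x
      obtain ⟨U, n, hxU, hn, e⟩ := h x
      obtain ⟨b⟩ := H8Props.FunDescent.stalkFree_of_isFreeOfRankNear F hF.1 ⟨U, hxU, e⟩
      haveI := Module.Free.of_basis b
      haveI := Module.Finite.of_basis b
      haveI : Nonempty (Fin n) := ⟨⟨0, hn⟩⟩
      haveI : Nontrivial (F.presheaf.stalk x) := ⟨b ⟨0, hn⟩, 0, b.ne_zero _⟩
      haveI := H4Depth.isDomain_of_isRegularLocalRing (X.presheaf.stalk x)
      refine ⟨inferInstance, le_antisymm ?_ (H4Depth.depth_le_supportDim)⟩
      have hann : Module.annihilator (X.presheaf.stalk x) (F.presheaf.stalk x) = ⊥ :=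
        (Submodule.eq_bot_iff _).2 fun r hr => by
          have h1 := Module.mem_annihilator.1 hr (b ⟨0, hn⟩)
          exact (smul_eq_zero.1 h1).resolve_right (b.ne_zero _)
      rw [supportDim_eq hann, ← H4Depth.depth_self_eq_ringKrullDim_of_regular]
      exact WithBot.coe_le_coe.2 ((H4Depth.idealDepth_le_idealDepth_pi _ n).trans
        (H4Depth.idealDepth_congr _ b.equivFun.symm).le)
    exact ⟨Set.eq_univ_of_forall fun x => not_subsingleton_iff_nontrivial.2 (key x).1, fun x => (key x).2⟩

end Groth.Agent.S0828
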