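import Groth.Statements.S0834
import Groth.Agent.H24GE.Kernels

set_option autoImplicit false
set_option linter.style.haveILetI false
universe u
open Formal2

attribute [-instance] CategoryTheory.catToReflQuiver
open Groth.Agent
namespace Groth.Agent.S0834

open CategoryTheory CategoryTheory.Limits AlgebraicGeometry in
/-- Let A be a ring, I ⊆ A an ideal and X a Noetherian scheme over Spec A. Then the full subcategory of
inverse systems of 𝒪_X-modules formed by the coherent formal modules for the ideal sheaf I·𝒪_X has
kernels. (This is the kernel half of the statement that this category is abelian; cokernels are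
componentwise, and abelianness itself is not asserted here.) -/
theorem result (A : Type u) [CommRing A] (I : Ideal A) (X : Scheme.{u})
    [X.Over (Spec (CommRingCat.of A))] [IsNoetherian X] : HasKernels (Formal2.CohFormalCat I X) := by
  obtain ⟨I₀, hfg, h⟩ := H24GE.exists_sameKill (X := X) I
  have e : (fun G : ℕᵒᵖ ⥤ X.Modules => Formal.IsCohFormal I G) = fun G => Formal.IsCohFormal I₀ G :=
    funext fun G => propext ⟨H24GE.isCohFormal_congr h, H24GE.isCohFormal_congr' h⟩
  show HasKernels (ObjectProperty.FullSubcategory fun G : ℕᵒᵖ ⥤ X.Modules => Formal.IsCohFormal I G)
  rw [e]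
  exact H24GE.hasKernels hfg

end Groth.Agent.S0834
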