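import Groth.Statements.S0838
import Groth.Agent.LeadTBC.Main
import Groth.Agent.H10Coh.QcqsPush
-- import your own Groth.Agent.* helpers here

set_option autoImplicit false
set_option linter.style.haveILetI false
universe u
open Coherent

namespace Groth.Agent.S0838

open CategoryTheory CategoryTheory.Limits AlgebraicGeometry in
/-- Consider a cartesian square X' = X ×_S S' with projections g' : X' → X and f' : X' → S', where f : X
→ S is quasi-compact and quasi-separated. Let F be a quasi-coherent O_X-module and G a
quasi-coherent O_{S'}-module which is flat over S. Then for every i the O_{S'}-modules G ⊗ g^* R^i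
f_* F and R^i f'_* (f'^* G ⊗ g'^* F) are isomorphic. (Carries the existence of injective resolutions
of O-modules as instance arguments; only the existence of an isomorphism is asserted.) -/
theorem result {X S X' S' : Scheme.{u}} (f : X ⟶ S)
    [QuasiCompact f] [QuasiSeparated f] (g : S' ⟶ S) (g' : X' ⟶ X) (f' : X' ⟶ S') (sq : IsPullback g' f' f g)
    [HasInjectiveResolutions X.Modules] [HasInjectiveResolutions X'.Modules]
    (F : X.Modules) (hF : Coh.IsQCoh F) (G : S'.Modules) (hG : Coh.IsQCoh G) (hGf : FlatMod.IsFlatOver g G) (i : ℕ) :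
    Nonempty (CohB1.tensorMod G ((Scheme.Modules.pullback g).obj ((Coh.Rpush f i).obj F)) ≅
      (Coh.Rpush f' i).obj (CohB1.tensorMod ((Scheme.Modules.pullback f').obj G) ((Scheme.Modules.pullback g').obj F))) := by
  haveI : QuasiCompact f' := MorphismProperty.of_isPullback (P := @QuasiCompact) sq inferInstance
  haveI : QuasiSeparated f' := MorphismProperty.of_isPullback (P := @QuasiSeparated) sq inferInstance
  let Q := (Scheme.Modules.pullback f').obj G
  let P := CohB1.tensorMod Q ((Scheme.Modules.pullback g').obj F)
  have hQ : FlatMod.IsFlatOver g' Q :=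
    Groth.Agent.H16Derived.BaseChange.isFlatOver_pullback sq.flip hGf
  haveI : ∀ k, Injective ((H10Coh.MRes.inj P).I k) := fun k => H10Coh.injective_mI P k
  let D := LeadTBC.gres hQ (H10Coh.MRes.inj F) (H10Coh.MRes.inj P) (𝟙 _)
  haveI : IsIso (D.α 0) := by
    show IsIso (𝟙 _)
    infer_instance
  cases i with
  | zero =>
    haveI : (Scheme.Modules.pushforward f).IsRightAdjoint :=
      (Scheme.Modules.pullbackPushforwardAdjunction f).isRightAdjoint
    haveI : (Scheme.Modules.pushforward f').IsRightAdjoint :=
      (Scheme.Modules.pullbackPushforwardAdjunction f').isRightAdjoint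
    haveI : PreservesFiniteLimits (Scheme.Modules.pushforward f) := inferInstance
    haveI : PreservesFiniteLimits (Scheme.Modules.pushforward f') := inferInstance
    have hiso := LeadTBC.isIso_ψZ_zero sq D hF hG hGf
    exact ⟨(LeadTBC.Φ g G).mapIso ((Scheme.Modules.pushforward f).rightDerivedZeroIsoSelf.app F) ≪≫
      @asIso _ _ _ _ (LeadTBC.ψZ sq (D.α 0)) hiso ≪≫
      ((Scheme.Modules.pushforward f').rightDerivedZeroIsoSelf.app P).symm⟩
  | succ n =>
    obtain ⟨e⟩ := LeadTBC.nonempty_iso_hdir sq D hF hG hGf n
    exact ⟨(LeadTBC.Φ g G).mapIso (H10Coh.nonempty_rpush_iso_hdir f F n).some ≪≫ e ≪≫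
      (H10Coh.nonempty_rpush_iso_hdir f' P n).some.symm⟩

end Groth.Agent.S0838
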