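import Groth.Statements.S0851
import Groth.Agent.H24GE.Congr

set_option autoImplicit false
set_option linter.style.haveILetI false
universe u
open Formal2

attribute [-instance] CategoryTheory.catToReflQuiver
open Groth.Agent
namespace Groth.Agent.S0851

open CategoryTheory CategoryTheory.Limits AlgebraicGeometry Opposite in
/-- Part (2), existence, for the ideal sheaf I·O_X of an ideal I of a base ring A (position n of a
system holds the quotient by I^(n+1)). Let X be a Noetherian scheme over Spec A, G a coherent
O_X-module and (F_n) a coherent formal module for I. Suppose α : (G/I^nG) → (F_n) is a map of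
systems such that one fixed power of I kills the kernel and the cokernel of every component. Then
there are a coherent O_X-module F, a map a : G → F with I-power-torsion kernel and cokernel, and an
isomorphism β : (F/I^nF) ≅ (F_n) under which α becomes the map induced by a. -/
theorem result (A : Type u) [CommRing A] (I : Ideal A) (X : Scheme.{u})
    [X.Over (Spec (CommRingCat.of A))] [IsNoetherian X] (G : X.Modules) (hG : Coh.IsCoh G)
    (F : ℕᵒᵖ ⥤ X.Modules) (hF : Formal.IsCohFormal I F) (α : Formal.completion I G ⟶ F)
    (hα : Formal2.KerCokerKilledByIPow I α) :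
    ∃ (F' : X.Modules) (a : G ⟶ F') (β : Formal.completion I F' ≅ F), Coh.IsCoh F' ∧
      Formal2.KerCokerKilledByIPowHom I a ∧
      ∀ n : ℕ, Formal.modPowπ I (n + 1) G ≫ α.app (op n) = a ≫ Formal.modPowπ I (n + 1) F' ≫ β.hom.app (op n) := by
  obtain ⟨I₀, hfg, h⟩ := H24GE.exists_sameKill (X := X) I
  obtain ⟨t, ht⟩ := hα
  let cG := H24GE.complCongr h G
  have hiso : ∀ n, IsIso (cG.inv.app (op n)) := fun n => inferInstance
  obtain ⟨F', a, β, hF', hk, hc, hβ⟩ := H24GE.right hfg hG (H24GE.isCohFormal_congr h hF) (cG.inv ≫ α) (c := t + 1)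
    (fun n => (h (t + 1) _).1 (H24Formal.killedBy_of_iso
      (@kernelIsIsoComp _ _ _ _ _ _ (cG.inv.app (op n)) (α.app (op n)) (hiso n) _).symm (ht n).1))
    (fun n => (h (t + 1) _).1 (H24Formal.killedBy_of_iso
      (show cokernel (cG.inv.app (op n) ≫ α.app (op n)) ≅ cokernel (α.app (op n)) from
      (haveI := hiso n; cokernelEpiComp (cG.inv.app (op n)) (α.app (op n)))).symm (ht n).2))
  refine ⟨F', a, H24GE.complCongr h F' ≪≫ β, hF', ⟨t + 1 + t, ?_, ?_⟩, fun n => ?_⟩
  · refine (h _ _).2 fun x hx => hk x (Ideal.pow_le_pow_right (by omega) hx)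
  · refine (h _ _).2 fun x hx => hc x (Ideal.pow_le_pow_right (by omega) hx)
  · have e : α = H24GE.complMap I a ≫ (H24GE.complCongr h F' ≪≫ β).hom := by
      rw [Iso.trans_hom, ← Category.assoc, H24GE.complMap_complCongr, Category.assoc, ← hβ, Iso.hom_inv_id_assoc]
    have e2 := congr_app e (op n)
    rw [NatTrans.comp_app] at e2
    rw [e2]
    exact (Category.assoc _ _ _).symm.trans
      ((congrArg (· ≫ _) (H24GE.π_complMap I a n)).trans (Category.assoc _ _ _))

end Groth.Agent.S0851
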