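import Groth.Statements.S0854
import Groth.Agent.H15Site.RestrHDU
import Groth.Agent.H15Site.RDSeq
import Groth.Agent.H02CA.RDPostcomp

set_option autoImplicit false
universe u
open CategoryTheory
open CohTop

set_option linter.style.haveILetI false
set_option backward.isDefEq.respectTransparency false
open CategoryTheory CategoryTheory.Limits TopologicalSpace Opposite
attribute [local instance 10000] Groth.Agent.H15Site.SiteInst.hasSheafifySite Groth.Agent.H15Site.SiteInst.hasWeakSheafifySite
  Groth.Agent.H15Site.SiteInst.enoughInjSite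


namespace Groth.Agent.S0854

open TopologicalSpace in
/-- For abelian sheaves, one degree at a time: for a continuous map f : X -> Y, an abelian sheaf F on X,
an open V of Y and g : f^{-1}(V) -> V the restriction of f, the restriction of R^p f_* F to V is
isomorphic to R^p g_* (F|_{f^{-1} V}). -/
theorem result {X Y : TopCat.{u}} (f : X ⟶ Y) (F : CohTop.Ab X)
    (V : Opens Y) (p : ℕ) :
    Nonempty (CohTop.restr ((CohTop.Rpush f p).obj F) V ≅
      (CohTop.Rpush (TopCat.ofHom ⟨(V : Set Y).restrictPreimage f, f.hom.continuous.restrictPreimage⟩ :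
          TopCat.of ((Opens.map f).obj V) ⟶ TopCat.of V) p).obj
        (CohTop.restr F ((Opens.map f).obj V))) := by
  let U : Opens X := (Opens.map f).obj V
  let g : TopCat.of U ⟶ TopCat.of V :=
    TopCat.ofHom ⟨(V : Set Y).restrictPreimage f, f.hom.continuous.restrictPreimage⟩
  have hex : ∀ {Z : TopCat.{u}} (W : Opens Z), PreservesFiniteLimits (CohTop.restrFunctor W) ∧
      PreservesFiniteColimits (CohTop.restrFunctor W) := fun {Z} W => by
    haveI : PreservesLimitsOfSize.{0, 0} (CohTop.restrFunctor W) :=
      (Groth.Agent.H15Site.RestrHDU.adj W).rightAdjoint_preservesLimits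
    haveI : PreservesLimitsOfSize.{0, 0} (W.sheafEquivOver (A := AddCommGrpCat.{u})).functor := inferInstance
    haveI : PreservesColimitsOfSize.{0, 0}
        ((Over.forget W).sheafPushforwardContinuous AddCommGrpCat.{u} ((Opens.grothendieckTopology Z).over W)
          (Opens.grothendieckTopology Z)) :=
      ((Over.forget W).sheafAdjunctionCocontinuous AddCommGrpCat.{u} ((Opens.grothendieckTopology Z).over W)
          (Opens.grothendieckTopology Z)).leftAdjoint_preservesColimits
    haveI : PreservesColimitsOfSize.{0, 0} (CohTop.restrFunctor W) :=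
      preservesColimits_of_natIso W.overPullbackSheafEquivOver
    exact ⟨PreservesLimitsOfSize.preservesFiniteLimits _, PreservesColimitsOfSize.preservesFiniteColimits _⟩
  haveI := (hex U).1
  haveI := (hex U).2
  haveI := (hex V).1
  haveI := (hex V).2
  have hinj : ∀ (I : CohTop.Ab X) [Injective I], Injective ((CohTop.restrFunctor U).obj I) := fun I _ =>
    Injective.injective_of_adjoint (Groth.Agent.H15Site.RestrHDU.adj U) I
  have hU : Topology.IsOpenEmbedding (CohCx.incl U) := U.isOpenEmbedding
  have hV : Topology.IsOpenEmbedding (CohCx.incl V) := V.isOpenEmbedding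
  haveI := hU.functor_isContinuous
  haveI := hV.functor_isContinuous
  let iV : Opens (TopCat.of V) ⥤ Opens Y := hV.isOpenMap.functor
  let iU : Opens (TopCat.of U) ⥤ Opens X := hU.isOpenMap.functor
  have heq : ∀ W : Opens (TopCat.of V), (iV ⋙ Opens.map f).obj W = (Opens.map g ⋙ iU).obj W := fun W => by
    apply Opens.ext
    ext x
    constructor
    · rintro ⟨v, hv, hvx⟩
      refine ⟨⟨x, show f x ∈ V from hvx ▸ v.2⟩, ?_, rfl⟩
      change g ⟨x, _⟩ ∈ W
      have : g ⟨x, show f x ∈ V from hvx ▸ v.2⟩ = v := Subtype.ext hvx.symm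
      rw [this]
      exact hv
    · rintro ⟨⟨z, hz⟩, hw, hzx⟩
      exact ⟨g ⟨z, hz⟩, hw, congrArg f hzx⟩
  have hgen : ∀ {A B : TopCat.{u}} (h : A ⟶ B),
      (Opens.map h).IsContinuous (Opens.grothendieckTopology B) (Opens.grothendieckTopology A) ∧
        (CohTop.push h).Additive := fun h => ⟨inferInstance, inferInstance⟩
  haveI hg : (Opens.map g).IsContinuous (Opens.grothendieckTopology (TopCat.of V)) (Opens.grothendieckTopology (TopCat.of U)) :=
    (hgen g).1
  haveI := Functor.isContinuous_comp (Opens.map g) iU (Opens.grothendieckTopology (TopCat.of V))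
    (Opens.grothendieckTopology (TopCat.of U)) (Opens.grothendieckTopology X)
  haveI : iV.IsContinuous (Opens.grothendieckTopology (TopCat.of V)) (Opens.grothendieckTopology Y) := hV.functor_isContinuous
  let e : CohTop.push f ⋙ CohTop.restrFunctor V ≅ CohTop.restrFunctor U ⋙ CohTop.push g :=
    Functor.sheafPushforwardContinuousComp' (F := iV) (G := Opens.map f)
        (NatIso.ofComponents (fun W => eqToIso (heq W)) (fun _ => Subsingleton.elim _ _) :
          iV ⋙ Opens.map f ≅ Opens.map g ⋙ iU) AddCommGrpCat.{u} (Opens.grothendieckTopology (TopCat.of V))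
        (Opens.grothendieckTopology Y) (Opens.grothendieckTopology X) ≪≫
      (Functor.sheafPushforwardContinuousComp (Opens.map g) iU AddCommGrpCat.{u} (Opens.grothendieckTopology (TopCat.of V))
        (Opens.grothendieckTopology (TopCat.of U)) (Opens.grothendieckTopology X)).symm
  haveI : (CohTop.push g).Additive := (hgen g).2
  exact ⟨((Groth.Agent.H02CA.RDPostcomp.postcompIso (CohTop.push f) (CohTop.restrFunctor V) p).app F).symm ≪≫
    ((⟨NatTrans.rightDerived e.hom p, NatTrans.rightDerived e.inv p, by rw [← NatTrans.rightDerived_comp, e.hom_inv_id, NatTrans.rightDerived_id], by rw [← NatTrans.rightDerived_comp, e.inv_hom_id, NatTrans.rightDerived_id]⟩ : (CohTop.push f ⋙ CohTop.restrFunctor V).rightDerived p ≅ (CohTop.restrFunctor U ⋙ CohTop.push g).rightDerived p).app F) ≪≫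
    (Groth.Agent.H15Site.RDSeq.precompIso (CohTop.restrFunctor U) (CohTop.push g) hinj p).app F⟩

end Groth.Agent.S0854
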