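import Groth.Statements.S0856
import Mathlib.Algebra.Category.ModuleCat.Presheaf.Generator
import Mathlib.Algebra.Category.ModuleCat.Presheaf.Sheafification
import Mathlib.CategoryTheory.Preadditive.Injective.Basic
import Groth.Agent.H15Site.SiteInst

open Groth.Agent.H15Site

set_option linter.style.haveILetI false
open CategoryTheory CategoryTheory.Limits Opposite

set_option autoImplicit false
universe u
open CategoryTheory
open CohSite

namespace Groth.Agent.S0856

section

attribute [local instance 10000] SiteInst.hasSheafifySite SiteInst.hasWeakSheafifySite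
end

open Opposite in
open Opposite CategoryTheory.Limits in
/-- Let (C, O) be a ringed site, a : U' -> U a monomorphism of C and I an injective sheaf of O-modules.
Then the restriction map I(U) -> I(U') is surjective. -/
theorem result {C : Type u} [SmallCategory C]
    {J : GrothendieckTopology C} (O : Sheaf J RingCat.{u}) (I : SheafOfModules.{u} O) [Injective I]
    {U U' : C} (a : U' ⟶ U) [Mono a] : Function.Surjective (I.val.map a.op) := by
  intro s
  let R : Cᵒᵖ ⥤ RingCat.{u} := O.obj
  let α : R ⟶ O.obj := 𝟙 _
  let I' : PresheafOfModules.{u} R := (PresheafOfModules.restrictScalars α).obj I.val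
  haveI : Injective I' :=
    Injective.injective_of_adjoint (PresheafOfModules.sheafificationAdjunction.{u} α) I
  let φ := (PresheafOfModules.free R).map (yoneda.map a)
  haveI : ∀ X, Mono (φ.app X) := fun X => by
    rw [ModuleCat.mono_iff_injective]
    exact Finsupp.mapDomain_injective (fun x y h => (cancel_mono a).1 h)
  haveI : Mono φ := PresheafOfModules.mono_of_injective fun {X} => (ModuleCat.mono_iff_injective _).1 inferInstance
  let t : (PresheafOfModules.free R).obj (yoneda.obj U) ⟶ I' :=
    Injective.factorThru ((PresheafOfModules.freeYonedaEquiv (M := I')).symm s) φ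
  refine ⟨PresheafOfModules.freeYonedaEquiv t, ?_⟩
  have h : φ ≫ t = (PresheafOfModules.freeYonedaEquiv (M := I')).symm s := Injective.comp_factorThru _ _
  refine Eq.trans ?_ ((congrArg PresheafOfModules.freeYonedaEquiv h).trans (Equiv.apply_symm_apply _ s))
  refine (PresheafOfModules.naturality_apply t a.op (ModuleCat.freeMk (R := R.obj (op U)) (𝟙 U))).symm.trans ?_
  refine congrArg (t.app (op U')) ?_
  refine Eq.trans (ModuleCat.freeDesc_apply _ _) (Eq.trans ?_ (ModuleCat.free_map_apply _ _).symm)
  refine congrArg ModuleCat.freeMk ?_
  change a ≫ 𝟙 U = 𝟙 U' ≫ a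
  simp

end Groth.Agent.S0856
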