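import Groth.Statements.S0869
import Groth.Agent.H15Site.RlimAcyclic
import Mathlib.CategoryTheory.Sites.Spaces

set_option autoImplicit false
universe u
open CategoryTheory
open CohTop

namespace Groth.Agent.S0869

open TopologicalSpace Opposite CategoryTheory.Limits in
/-- Let (K_n) be an inverse system in the derived category of abelian sheaves on X with a derived limit
L, and B a basis of opens such that for U in B and all q: H^p(U, H^q(K_n)) = 0 for p > 0, and the
inverse system of sections H^q(K_n)(U) has vanishing R^1 lim. Then H^q(L) is isomorphic to lim_n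
H^q(K_n) for every q. -/
theorem result {X : TopCat.{u}} [HasDerivedCategory.{u} (CohTop.Ab X)]
    (K : ℕ → DerivedCategory (CohTop.Ab X)) (t : ∀ n, K (n + 1) ⟶ K n) [HasProduct K]
    (L : DerivedCategory (CohTop.Ab X)) (hL : DCoh.IsRlim K t L)
    (B : Set (Opens X)) (hB : Opens.IsBasis B)
    (h1 : ∀ U ∈ B, ∀ (p : ℕ) (q : ℤ) (n : ℕ), Subsingleton (CohTop.HU (CohCx.HD (K n) q) (p + 1) U))
    (h2 : ∀ U ∈ B, ∀ (q : ℤ), CohCx.LimOneIsZero (fun n => (CohCx.HD (K n) q).obj.obj (op U))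
      (fun n => (((DerivedCategory.homologyFunctor (CohTop.Ab X) q).map (t n)).hom.app (op U)).hom))
    (q : ℤ) :
    Nonempty (CohCx.HD L q ≅ limit (CohCx.opSequence (fun n => CohCx.HD (K n) q)
      (fun n => (DerivedCategory.homologyFunctor (CohTop.Ab X) q).map (t n)))) := by
  obtain ⟨l, c, hl⟩ := hL
  have e : Pi.lift (fun n => l ≫ Pi.π K n) = l := Pi.hom_ext _ _ fun n => Pi.lift_π _ _
  refine Groth.Agent.H15Site.RlimAcyclic.main B (fun V => ?_) (fun n => l ≫ Pi.π K n) ⟨c, e.symm ▸ hl⟩ h1 h2 q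
  obtain ⟨S, hS, rfl⟩ := Opens.isBasis_iff_cover.1 hB V
  refine ⟨ULift.{u} S, fun s => s.down.1, fun s => homOfLE (le_sSup s.down.2), ?_, fun s => hS s.down.2⟩
  intro x hx
  obtain ⟨W, hW, hxW⟩ := Opens.mem_sSup.1 hx
  exact ⟨W, homOfLE (le_sSup hW), Sieve.ofArrows_mk _ _ (ULift.up ⟨W, hW⟩ : ULift.{u} S), hxW⟩

end Groth.Agent.S0869
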