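import Groth.Statements.S0874
import Groth.Agent.H15Site.RlimSect

set_option autoImplicit false
universe u
open CategoryTheory
open CohTop

namespace Groth.Agent.S0874

open TopologicalSpace CategoryTheory.Limits in
/-- Let (K_n) be an inverse system in D(Ab X), the derived category of sheaves of abelian groups on X,
with derived limit L (through maps a_n : L -> K_n), x a point and m an integer. Suppose there are an
index n(x) and a fundamental system of open neighbourhoods U of x such that (1) the inverse system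
H^{m-1}(U, K_n) has vanishing R^1 lim and (2) for every n >= n(x), the transition map from H^m(U,
K_n) to H^m(U, K_{n(x)}) is one-to-one. Then a_{n(x)} induces an injection of stalks at x, from
H^m(L) into H^m(K_{n(x)}). -/
theorem result {X : TopCat.{u}} [HasDerivedCategory.{u} (CohTop.Ab X)]
    (K : ℕ → DerivedCategory (CohTop.Ab X)) (t : ∀ n, K (n + 1) ⟶ K n) [HasProduct K]
    (L : DerivedCategory (CohTop.Ab X)) (a : ∀ n, L ⟶ K n) (hL : CohCx.IsRlimVia K t L a)
    (x : X) (m : ℤ) (nx : ℕ)
    (h : ∀ V : Opens X, x ∈ V → ∃ U : Opens X, x ∈ U ∧ U ≤ V ∧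
      CohCx.LimOneIsZero (fun n => CohCx.HDU (K n) (m - 1) U)
        (fun n => Preadditive.rightComp _ ((shiftFunctor _ (m - 1)).map (t n))) ∧
      ∀ k : ℕ, Function.Injective
        (Preadditive.rightComp _ ((shiftFunctor _ m).map (CohCx.transition K t nx k)) :
          CohCx.HDU (K (nx + k)) m U → CohCx.HDU (K nx) m U)) :
    Function.Injective ((TopCat.Presheaf.stalkFunctor AddCommGrpCat.{u} x).map
      ((DerivedCategory.homologyFunctor (CohTop.Ab X) m).map (a nx)).hom) := by
  rw [injective_iff_map_eq_zero]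
  intro s hs
  obtain ⟨U, hxU, σ, rfl⟩ := TopCat.Presheaf.exists_germ_eq _ s
  let G := ((DerivedCategory.homologyFunctor (CohTop.Ab X) m).obj (K nx)).obj
  rw [TopCat.Presheaf.stalkFunctor_map_germ_apply] at hs
  replace hs := hs.trans (map_zero (TopCat.Presheaf.germ G U x hxU).hom).symm
  obtain ⟨W, hxW, iU, iU', e⟩ := TopCat.Presheaf.germ_eq _ x hxU hxU _ _ hs
  let σW := (((DerivedCategory.homologyFunctor (CohTop.Ab X) m).obj L).obj.map iU.op).hom σ
  have hσW : (((DerivedCategory.homologyFunctor (CohTop.Ab X) m).map (a nx)).hom.app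
      (Opposite.op W)).hom σW = 0 :=
    (ConcreteCategory.congr_hom
      (((DerivedCategory.homologyFunctor (CohTop.Ab X) m).map (a nx)).hom.naturality iU.op) σ).trans
      (e.trans (map_zero _))
  obtain ⟨S, hS, hker⟩ := H15Site.RlimSect.section_eq_zero_of_comp m nx σW hσW
  obtain ⟨V, g, hg, hxV⟩ := hS x hxW
  obtain ⟨U', hxU', hU'V, h1, h2⟩ := h V hxV
  have h0 := hker (homOfLE hU'V ≫ g) (S.downward_closed hg _)
    (H15Site.RlimSect.detInj_of_limOne hL m nx U' h1 h2)
  refine (TopCat.Presheaf.germ_res_apply _ ((homOfLE hU'V ≫ g) ≫ iU) x hxU' σ).symm.trans ?_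
  rw [op_comp, Functor.map_comp]
  exact (congrArg _ h0).trans (map_zero _)

end Groth.Agent.S0874
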