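import Groth.Statements.S0876
import Groth.Agent.H15Site.SiteInst
import Mathlib.CategoryTheory.Sites.MayerVietorisSquare
import Mathlib.Algebra.Homology.DerivedCategory.SingleTriangle
import Mathlib.Algebra.Homology.ShortComplex.Ab

set_option autoImplicit false
universe u
open CategoryTheory
open CohSite

set_option linter.style.haveILetI false
set_option maxHeartbeats 1600000
set_option backward.isDefEq.respectTransparency false
open CategoryTheory CategoryTheory.Limits Opposite DerivedCategory CategoryTheory.Pretriangulated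
attribute [local instance 10000] Groth.Agent.H15Site.SiteInst.hasSheafifySite Groth.Agent.H15Site.SiteInst.hasWeakSheafifySite


namespace Groth.Agent.S0876

open CategoryTheory.Limits in
/-- As a long exact sequence of cohomology groups rather than a triangle of complexes: let S be a
Mayer-Vietoris square of a site, with corners X₁ (playing the role of the intersection), X₂, X₃ and
X₄ (the union). For every object K of the derived category of abelian sheaves there are connecting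
homomorphisms H^n(X₁, K) -> H^{n+1}(X₄, K) which together with the restriction maps (sum into
H^n(X₂, K) ⊕ H^n(X₃, K), difference out of it) form a long exact sequence ... -> H^n(X₄, K) ->
H^n(X₂, K) ⊕ H^n(X₃, K) -> H^n(X₁, K) -> H^{n+1}(X₄, K) -> .... Here H^n(U, K) is the group of maps
from the free abelian sheaf on U to K[n]. -/
theorem result {C : Type u} [SmallCategory C] {J : GrothendieckTopology C}
    [HasWeakSheafify J (Type u)] [HasDerivedCategory.{u} (Sheaf J AddCommGrpCat.{u})]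
    (S : J.MayerVietorisSquare) (K : DerivedCategory (Sheaf J AddCommGrpCat.{u})) :
    ∃ δ : ∀ n : ℤ, CohCx.HDU K n S.X₁ →+ CohCx.HDU K (n + 1) S.X₄,
      ∀ n : ℤ,
        (ComposableArrows.mk₂
          (AddCommGrpCat.ofHom ((CohCx.HDUres K n S.f₂₄).prod (CohCx.HDUres K n S.f₃₄)))
          (AddCommGrpCat.ofHom ((CohCx.HDUres K n S.f₁₂).coprod (-(CohCx.HDUres K n S.f₁₃))))).Exact ∧
        (ComposableArrows.mk₂
          (AddCommGrpCat.ofHom ((CohCx.HDUres K n S.f₁₂).coprod (-(CohCx.HDUres K n S.f₁₃))))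
          (AddCommGrpCat.ofHom (δ n))).Exact ∧
        (ComposableArrows.mk₂ (AddCommGrpCat.ofHom (δ n))
          (AddCommGrpCat.ofHom ((CohCx.HDUres K (n + 1) S.f₂₄).prod (CohCx.HDUres K (n + 1) S.f₃₄)))).Exact := by
  let A := Sheaf J AddCommGrpCat.{u}
  let s := singleFunctor A 0
  let P := fun U : C => CohCx.freeSheaf J U
  let i₂ := s.map (biprod.inl : P S.X₂ ⟶ P S.X₂ ⊞ P S.X₃)
  let i₃ := s.map (biprod.inr : P S.X₃ ⟶ P S.X₂ ⊞ P S.X₃)
  let p₂ := s.map (biprod.fst : P S.X₂ ⊞ P S.X₃ ⟶ P S.X₂)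
  let p₃ := s.map (biprod.snd : P S.X₂ ⊞ P S.X₃ ⟶ P S.X₃)
  have hid : p₂ ≫ i₂ + p₃ ≫ i₃ = 𝟙 _ := by
    simp only [p₂, p₃, i₂, i₃, ← s.map_comp, ← s.map_add]
    rw [biprod.total, s.map_id]
  let T := S.shortComplex_shortExact.singleTriangle
  have hT : T ∈ distTriang _ := S.shortComplex_shortExact.singleTriangle_distinguished
  have hf : ∀ {Z : DerivedCategory A} (x₂ : s.obj (P S.X₂) ⟶ Z) (x₃ : s.obj (P S.X₃) ⟶ Z),
      s.map S.shortComplex.f ≫ (p₂ ≫ x₂ + p₃ ≫ x₃) =
        s.map (CohCx.freeSheafMap J S.f₁₂) ≫ x₂ + -(s.map (CohCx.freeSheafMap J S.f₁₃) ≫ x₃) := by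
    intro Z x₂ x₃
    simp only [p₂, p₃, Preadditive.comp_add, ← s.map_comp_assoc, GrothendieckTopology.MayerVietorisSquare.shortComplex_f]
    erw [biprod.lift_fst, biprod.lift_snd]
    rw [s.map_neg, Preadditive.neg_comp]
  have hg : ∀ {Z : DerivedCategory A} (z : s.obj (P S.X₄) ⟶ Z),
      s.map S.shortComplex.g ≫ z =
        p₂ ≫ (s.map (CohCx.freeSheafMap J S.f₂₄) ≫ z) + p₃ ≫ (s.map (CohCx.freeSheafMap J S.f₃₄) ≫ z) := by
    intro Z z
    simp only [p₂, p₃, ← s.map_comp_assoc, ← Preadditive.add_comp, ← s.map_add]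
    refine congrArg (fun m => s.map m ≫ z) ?_
    exact biprod.desc_eq
  let sh := fun n : ℤ => ((shiftFunctorAdd' (DerivedCategory A) n (1 : ℤ) (n + 1) rfl).app K).symm
  let δ : ∀ n : ℤ, CohCx.HDU K n S.X₁ →+ CohCx.HDU K (n + 1) S.X₄ := fun n =>
    AddMonoidHom.mk' (fun y => T.mor₃ ≫ y⟦(1 : ℤ)⟧' ≫ (sh n).hom) fun y y' => by
      simp only [Functor.map_add, Preadditive.add_comp, Preadditive.comp_add]
  refine ⟨δ, fun n => ⟨?_, ?_, ?_⟩⟩
  · refine ComposableArrows.exact₂_mk _ ?_ ?_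
    · ext x
      change s.map (CohCx.freeSheafMap J S.f₁₂) ≫ (s.map (CohCx.freeSheafMap J S.f₂₄) ≫ x) +
        -(s.map (CohCx.freeSheafMap J S.f₁₃) ≫ (s.map (CohCx.freeSheafMap J S.f₃₄) ≫ x)) = 0
      rw [← hf, ← hg, ← Category.assoc, ← s.map_comp, S.shortComplex.zero, s.map_zero, zero_comp]
    · rw [ShortComplex.ab_exact_iff]
      intro (x : CohCx.HDU K n S.X₂ × CohCx.HDU K n S.X₃) hx
      obtain ⟨z, hz⟩ := T.yoneda_exact₂ hT (p₂ ≫ x.1 + p₃ ≫ x.2) ((hf x.1 x.2).trans hx)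
      refine ⟨z, ?_⟩
      have e : s.map S.shortComplex.g ≫ z = p₂ ≫ x.1 + p₃ ≫ x.2 := hz.symm
      rw [hg] at e
      have h₂ : i₂ ≫ p₂ = 𝟙 _ := by simp only [i₂, p₂, ← s.map_comp, biprod.inl_fst, s.map_id]
      have h₂' : i₂ ≫ p₃ = 0 := by simp only [i₂, p₃, ← s.map_comp, biprod.inl_snd, s.map_zero]
      have h₃ : i₃ ≫ p₃ = 𝟙 _ := by simp only [i₃, p₃, ← s.map_comp, biprod.inr_snd, s.map_id]
      have h₃' : i₃ ≫ p₂ = 0 := by simp only [i₃, p₂, ← s.map_comp, biprod.inr_fst, s.map_zero]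
      have e₂ := congrArg (fun m => i₂ ≫ m) e
      have e₃ := congrArg (fun m => i₃ ≫ m) e
      simp only [Preadditive.comp_add, reassoc_of% h₂, reassoc_of% h₂', reassoc_of% h₃, reassoc_of% h₃',
        zero_comp, add_zero, zero_add] at e₂ e₃
      exact Prod.ext e₂ e₃
  · refine ComposableArrows.exact₂_mk _ ?_ ?_
    · ext (x : CohCx.HDU K n S.X₂ × CohCx.HDU K n S.X₃)
      change T.mor₃ ≫ (s.map (CohCx.freeSheafMap J S.f₁₂) ≫ x.1 +
        -(s.map (CohCx.freeSheafMap J S.f₁₃) ≫ x.2))⟦(1 : ℤ)⟧' ≫ (sh n).hom = 0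
      rw [← hf, Functor.map_comp, Category.assoc, ← Category.assoc T.mor₃]
      erw [comp_distTriang_mor_zero₃₁ T hT, zero_comp]
    · rw [ShortComplex.ab_exact_iff]
      intro (y : CohCx.HDU K n S.X₁) (hy : T.mor₃ ≫ y⟦(1 : ℤ)⟧' ≫ (sh n).hom = 0)
      rw [← Category.assoc] at hy
      have hy' : T.mor₃ ≫ y⟦(1 : ℤ)⟧' = 0 := (cancel_mono (sh n).hom).1 (hy.trans zero_comp.symm)
      obtain ⟨w, hw⟩ := Triangle.yoneda_exact₂ _ (rot_of_distTriang _ (rot_of_distTriang _ hT)) _ hy'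
      obtain ⟨v, rfl⟩ := (shiftFunctor (DerivedCategory A) (1 : ℤ)).map_surjective w
      refine ⟨(i₂ ≫ (-v), i₃ ≫ (-v)), ?_⟩
      change s.map (CohCx.freeSheafMap J S.f₁₂) ≫ (i₂ ≫ (-v)) + -(s.map (CohCx.freeSheafMap J S.f₁₃) ≫ (i₃ ≫ (-v))) = y
      rw [← hf, ← Category.assoc p₂, ← Category.assoc p₃, ← Preadditive.add_comp, hid, Category.id_comp]
      apply (shiftFunctor (DerivedCategory A) (1 : ℤ)).map_injective
      rw [hw]
      simp only [Functor.map_comp, Functor.map_neg, Preadditive.comp_neg]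
      exact (Preadditive.neg_comp _ _).symm
  · refine ComposableArrows.exact₂_mk _ ?_ ?_
    · ext (y : CohCx.HDU K n S.X₁)
      refine Prod.ext ?_ ?_
      all_goals
        change s.map (CohCx.freeSheafMap J _) ≫ T.mor₃ ≫ _ = 0
      · have h0 := congrArg (fun m => i₂ ≫ m ≫ y⟦(1 : ℤ)⟧' ≫ (sh n).hom) (comp_distTriang_mor_zero₂₃ T hT)
        simp only [zero_comp, comp_zero, Category.assoc] at h0
        refine Eq.trans ?_ h0
        change _ = i₂ ≫ s.map S.shortComplex.g ≫ _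
        simp only [i₂, ← s.map_comp_assoc, GrothendieckTopology.MayerVietorisSquare.shortComplex_g]
        erw [biprod.inl_desc]
      · have h0 := congrArg (fun m => i₃ ≫ m ≫ y⟦(1 : ℤ)⟧' ≫ (sh n).hom) (comp_distTriang_mor_zero₂₃ T hT)
        simp only [zero_comp, comp_zero, Category.assoc] at h0
        refine Eq.trans ?_ h0
        change _ = i₃ ≫ s.map S.shortComplex.g ≫ _
        simp only [i₃, ← s.map_comp_assoc, GrothendieckTopology.MayerVietorisSquare.shortComplex_g]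
        erw [biprod.inr_desc]
    · rw [ShortComplex.ab_exact_iff]
      intro (z : CohCx.HDU K (n + 1) S.X₄) hz
      obtain ⟨w, hw⟩ := T.yoneda_exact₃ hT z (by
        refine (hg z).trans ?_
        have h1 : s.map (CohCx.freeSheafMap J S.f₂₄) ≫ z = 0 := congrArg Prod.fst hz
        have h2 : s.map (CohCx.freeSheafMap J S.f₃₄) ≫ z = 0 := congrArg Prod.snd hz
        rw [h1, h2, comp_zero, comp_zero, add_zero])
      obtain ⟨y, hy⟩ := (shiftFunctor (DerivedCategory A) (1 : ℤ)).map_surjective (w ≫ (sh n).inv)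
      refine ⟨y, ?_⟩
      change T.mor₃ ≫ y⟦(1 : ℤ)⟧' ≫ (sh n).hom = z
      rw [hy, Category.assoc, Iso.inv_hom_id, Category.comp_id]
      exact hw.symm

end Groth.Agent.S0876
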