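import Groth.Statements.S0884
import Groth.Agent.H15Site.PBC.SpecStalk

set_option autoImplicit false
attribute [local instance 10000] Groth.Agent.H15Site.SiteInst.hasSheafifySite Groth.Agent.H15Site.SiteInst.hasWeakSheafifySite
  Groth.Agent.H15Site.SiteInst.hasExtSite Groth.Agent.H15Site.SiteInst.enoughInjSite
universe u
open CategoryTheory
open CohTop

namespace Groth.Agent.S0884

open TopologicalSpace in
/-- Let f : X -> Y be a spectral map of spectral spaces, y a point of Y, E ⊆ Y the set of points
specializing to y, and F an abelian sheaf on X. Then the stalk (R^p f_* F)_y is isomorphic to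
H^p(f^{-1}(E), F|_{f^{-1}(E)}), the cohomology of the pullback of F to the subspace f^{-1}(E). -/
theorem result {X Y : TopCat.{u}} [SpectralSpace X] [SpectralSpace Y]
    (f : X ⟶ Y) (hf : IsSpectralMap f) (y : Y) (F : CohTop.Ab X) (p : ℕ) :
    Nonempty (CohTop.stalk ((CohTop.Rpush f p).obj F) y ≃+
      CohTop.H ((CohTop.pull (TopCat.ofHom ⟨Subtype.val, continuous_subtype_val⟩ :
          TopCat.of {x : X | y ∈ closure {f x}} ⟶ X)).obj F) p) := by
  have hr : Set.range (TopCat.ofHom ⟨Subtype.val, continuous_subtype_val⟩ :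
      TopCat.of {x : X | y ∈ closure {f x}} ⟶ X) = {x : X | f x ⤳ y} :=
    Subtype.range_coe.trans (Set.ext fun x => specializes_iff_mem_closure.symm)
  obtain ⟨e⟩ := H15Site.PBC.nonempty_stalk_Rpush_iso_gen f
    (TopCat.ofHom ⟨Subtype.val, continuous_subtype_val⟩ : TopCat.of {x : X | y ∈ closure {f x}} ⟶ X) y
    Topology.IsEmbedding.subtypeVal (hr ▸ H15Site.PBC.genIn_preimage f y hf) hf
    (fun x hx => hr.ge hx) (fun z => specializes_iff_mem_closure.2 z.2) F p
  exact ⟨e.addCommGroupIsoToAddEquiv⟩

end Groth.Agent.S0884
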