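import Groth.Statements.S0885
import Groth.Agent.H15Site.CechFlasque
import Groth.Agent.H10Coh.SheafH

open TopologicalSpace Groth.Agent.H15Site Groth.Agent.H15Site.CechTop

set_option linter.style.haveILetI false
open CategoryTheory CategoryTheory.Limits Opposite

set_option autoImplicit false
universe u
open CategoryTheory
open CohTop

namespace Groth.Agent.S0885

section
theorem homotopyEquiv_single₀ {V : Type*} [Category V] [Preadditive V] [HasZeroObject V]
    (K : CochainComplex V ℕ) (A : V) (ε : A ⟶ K.X 0) (hε : ε ≫ K.d 0 1 = 0) (π : K.X 0 ⟶ A)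
    (s : ∀ n, K.X (n + 1) ⟶ K.X n) (h₁ : ε ≫ π = 𝟙 A)
    (h₀ : K.d 0 1 ≫ s 0 + π ≫ ε = 𝟙 _)
    (h : ∀ n, s n ≫ K.d n (n + 1) + K.d (n + 1) (n + 2) ≫ s (n + 1) = 𝟙 _) :
    Nonempty (HomotopyEquiv ((CochainComplex.single₀ V).obj A) K) := by
  let f := (CochainComplex.fromSingle₀Equiv K A).symm ⟨ε, hε⟩
  let g : K ⟶ (CochainComplex.single₀ V).obj A := (CochainComplex.toSingle₀Equiv K A).symm π
  have hz : ∀ n, IsZero (((CochainComplex.single₀ V).obj A).X (n + 1)) := fun n =>
    HomologicalComplex.isZero_single_obj_X (ComplexShape.up ℕ) 0 _ (n + 1) (by simp)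
  have hfg : f ≫ g = 𝟙 _ := by
    refine HomologicalComplex.hom_ext _ _ fun n => ?_
    cases n with
    | succ n => exact (hz n).eq_of_src _ _
    | zero =>
      rw [HomologicalComplex.comp_f, HomologicalComplex.id_f]
      simp only [f, g, CochainComplex.fromSingle₀Equiv_symm_apply_f_zero,
        CochainComplex.toSingle₀Equiv_symm_apply_f_zero]
      exact h₁
  refine ⟨{ hom := f, inv := g, homotopyHomInvId := Homotopy.ofEq hfg, homotopyInvHomId := ?_ }⟩
  refine Homotopy.symm ?_
  refine { hom := fun p q => if h : q + 1 = p then eqToHom (by rw [h]) ≫ s q else 0,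
           zero := fun p q hpq => dif_neg fun h => hpq h, comm := ?_ }
  intro n
  cases n with
  | succ m =>
    rw [prevD_eq _ (show (ComplexShape.up ℕ).Rel m (m + 1) from rfl),
      dNext_eq _ (show (ComplexShape.up ℕ).Rel (m + 1) (m + 2) from rfl),
      dif_pos rfl, dif_pos rfl, eqToHom_refl, Category.id_comp, eqToHom_refl, Category.id_comp,
      HomologicalComplex.comp_f, (hz m).eq_of_tgt (g.f (m + 1)) 0, zero_comp, add_zero,
      HomologicalComplex.id_f]
    exact (h m).symm.trans (add_comm _ _)
  | zero =>
    rw [prevD_eq_zero _ _ (by simp), add_zero,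
      dNext_eq _ (show (ComplexShape.up ℕ).Rel 0 1 from rfl), dif_pos rfl, eqToHom_refl,
      Category.id_comp, HomologicalComplex.id_f, HomologicalComplex.comp_f]
    simp only [f, g, CochainComplex.fromSingle₀Equiv_symm_apply_f_zero,
      CochainComplex.toSingle₀Equiv_symm_apply_f_zero]
    exact h₀.symm
end

open TopologicalSpace Opposite CategoryTheory.Limits in
/-- Let F be a presheaf of abelian groups on a topological space X and (U_i)_{i ∈ ι} a family of open
subsets with union U such that U_i = U for some index i. Then the Čech complex of F with respect to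
the family (formed with all ordered tuples of indices) is homotopy equivalent to the complex
consisting of F(U) placed in degree 0. (The published statement phrases this as contractibility of
the extended Čech complex; stated here as a homotopy equivalence with F(U) in degree zero.) -/
theorem result {X : TopCat.{u}} (F : (Opens X)ᵒᵖ ⥤ AddCommGrpCat.{u})
    {ι : Type u} (U : ι → Opens X) (i : ι) (hi : U i = iSup U) :
    Nonempty (HomotopyEquiv ((CochainComplex.single₀ AddCommGrpCat.{u}).obj (F.obj (op (iSup U))))
      ((cechComplexFunctor U).obj F)) := by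
  have hb : IsConeAt U F i := fun n a =>
    Function.bijective_iff_has_inverse.2
      ⟨res F (le_cap_cons U i a le_rfl ((iInf_le _ 0).trans ((le_iSup U (a 0)).trans hi.ge))),
        fun x => by rw [res_res, res_self], fun x => by rw [res_res, res_self]⟩
  let a₀ : Fin 1 → ι := fun _ => i
  have hle : iSup U ≤ cap U a₀ := le_iInf fun _ => hi.ge
  refine homotopyEquiv_single₀ ((cechComplexFunctor U).obj F) _
    (aug (P := F) (fun j => le_iSup U j)) ?_ (proj U F a₀ ≫ F.map (homOfLE hle).op)
    (fun n => AddCommGrpCat.ofHom (htpy hb n)) ?_ ?_ ?_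
  · ext g
    change (d U F 0).hom ((aug (P := F) (fun j => le_iSup U j)).hom g) = 0
    exact d_aug _ g
  · ext x
    change res F hle ((proj U F a₀).hom ((aug (P := F) (fun j => le_iSup U j)).hom x)) = x
    rw [proj_aug, res_res, res_self]
  · have key : ∀ x : C U F 0, htpy hb 0 ((d U F 0).hom x) +
        (aug (P := F) (fun j => le_iSup U j)).hom (res F hle ((proj U F a₀).hom x)) = x := fun x => by
      refine hom_ext U F fun a => (hb 0 a).1 ?_
      rw [map_add, map_add, res_proj_htpy, proj_aug, res_res, res_res, proj_d, Fin.sum_univ_two,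
        Fin.val_zero, pow_zero, one_smul, Fin.val_one, pow_one, neg_smul, one_smul,
        res_proj_congr U F (cons_comp_succAbove_zero i a) x _ (cap_cons_le U i a),
        res_proj_congr U F (show (Fin.cons i a : Fin 2 → ι) ∘ (1 : Fin 2).succAbove = a₀ from
          funext fun k => by fin_cases k; simp [a₀]) x (W := cap U (Fin.cons i a : Fin 2 → ι)) _
          (le_iInf fun _ => cap_cons_le_self U i a)]
      abel
    ext x
    exact key x
  · intro n
    ext x
    exact d_htpy_add hb x

end Groth.Agent.S0885
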