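import Groth.Statements.S0893
import Groth.Agent.H16Derived.BB.Compact

set_option autoImplicit false
universe u
set_option linter.style.haveILetI false
open CategoryTheory
attribute [local instance] HasDerivedCategory.standard
open DCoh

namespace Groth.Agent.S0893

open AlgebraicGeometry CategoryTheory.Limits
open Groth.Agent.H16Derived Groth.Agent.H16Derived.QCohD

theorem bijective_of_support {X : Scheme.{u}} (K : DCoh.D X) {I : Type u} (M : I → DCoh.D X)
    [HasCoproduct fun i : ULift.{u + 1} I => M i.down]
    (h : haveI := hasCoproduct_D M; ∀ α : K ⟶ ∐ M, ∃ s, α ≫ FinSupp.idem M s = α) :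
    Function.Bijective (CohDer.homSumToHomCoprod K (fun i : ULift.{u + 1} I => M i.down)) := by
  classical
  haveI := hasCoproduct_D M
  let M' := fun i : ULift.{u + 1} I => M i.down
  let φ : (∐ M') ⟶ ∐ M := Sigma.desc fun i => Sigma.ι M i.down
  haveI : IsIso φ := ⟨Sigma.desc fun i => Sigma.ι M' ⟨i⟩,
    Sigma.hom_ext _ _ fun i => by simp [φ], Sigma.hom_ext _ _ fun i => by simp [φ]⟩
  have hf : ∀ α : K ⟶ ∐ M', ∃ s, α ≫ FinSupp.idem M' s = α := fun α => by
    obtain ⟨s, hs⟩ := h (α ≫ φ)
    refine ⟨s.map ⟨ULift.up, ULift.up_injective⟩, ?_⟩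
    have hn : FinSupp.idem M' (s.map ⟨ULift.up, ULift.up_injective⟩) ≫ φ = φ ≫ FinSupp.idem M s := by
      refine Sigma.hom_ext _ _ fun k => ?_
      rw [← Category.assoc, FinSupp.ι_idem, Sigma.ι_desc_assoc, FinSupp.ι_idem]
      obtain ⟨k⟩ := k
      by_cases hk : k ∈ s <;> simp [φ, hk]
    rw [← cancel_mono φ, Category.assoc, hn, ← Category.assoc, hs]
  have key : ∀ (b : DirectSum _ fun i => K ⟶ M' i) (i : ULift.{u + 1} I),
      CohDer.homSumToHomCoprod K M' b ≫ FinSupp.proj M' i = b i :=
    fun b i => FinSupp.sum_comp_proj M' b i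
  refine ⟨fun b b' hb => ?_, fun α => ?_⟩
  · refine DFinsupp.ext fun i => ?_
    rw [← key, hb, key]
  · obtain ⟨s, hs⟩ := hf α
    refine ⟨∑ i ∈ s, DirectSum.of (fun i => K ⟶ M' i) i (α ≫ FinSupp.proj M' i), ?_⟩
    rw [map_sum]
    conv_rhs => rw [← hs, FinSupp.idem, Preadditive.comp_sum]
    refine Finset.sum_congr rfl fun i _ => ?_
    exact (DirectSum.toAddMonoid_of _ _ _).trans (Category.assoc α (FinSupp.proj M' i) (Sigma.ι M' i))

open AlgebraicGeometry CategoryTheory.Limits in
/-- Schemes; a quasi-compact quasi-separated scheme satisfies the topological hypotheses of the source: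
for a perfect object K of D(O_X) on a quasi-compact quasi-separated scheme X: (a) For every family
(M_i) of objects of D(O_X) which are uniformly bounded below and whose direct sum exists, the
canonical map ⊕_i Hom(K, M_i) -> Hom(K, ⊕_i M_i) is bijective. (b) If moreover there is d with
H^i(X, F) = 0 for all i > d and all O_X-modules F, the same holds for every family whose direct sum
exists. (Index types are lifted one universe because morphism sets of this model of D(O_X) live one
universe up.) -/
theorem result {X : Scheme.{u}} [CompactSpace X] [QuasiSeparatedSpace X]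
    (K : DCoh.D X) (hK : DCoh.IsPerfect K) :
    (∀ (I : Type u) (M : I → DCoh.D X) [HasCoproduct fun i : ULift.{u + 1} I => M i.down] (a : ℤ),
      (∀ i, (M i).IsGE a) →
      Function.Bijective (CohDer.homSumToHomCoprod K (fun i : ULift.{u + 1} I => M i.down))) ∧
    ((∃ d : ℕ, ∀ (F : X.Modules) (i : ℕ), d < i → Subsingleton (Coh.HH X F i)) →
      ∀ (I : Type u) (M : I → DCoh.D X) [HasCoproduct fun i : ULift.{u + 1} I => M i.down],
      Function.Bijective (CohDer.homSumToHomCoprod K (fun i : ULift.{u + 1} I => M i.down))) := by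
  refine ⟨fun I M _ a hM => bijective_of_support K M ?_, fun ⟨d, hd⟩ I M _ => bijective_of_support K M ?_⟩
  · exact fun α => (haveI := hasCoproduct_D M; BB.exists_support_isGE hK a I M hM α)
  · exact fun α => (haveI := hasCoproduct_D M; BB.exists_support_of_cd hd hK I M (fun _ => trivial) α)

end Groth.Agent.S0893
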