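import Groth.Statements.S0894
import Groth.Agent.H15Site.SRCover

set_option autoImplicit false
universe u
open CategoryTheory
open Hyper

set_option linter.style.haveILetI false
open CategoryTheory CategoryTheory.Limits


namespace Groth.Agent.S0894

open Opposite in
/-- For a hypercovering K of an object X of a site with fibre products (a simplicial semi-representable
object over X; coskeleta are assumed to exist): (1) for each n the family K_n is a covering of X,
and (2) every face map d_i : K_{n+1} -> K_n is a covering morphism of semi-representable objects. -/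
theorem result {C : Type u} [SmallCategory C] [Limits.HasPullbacks C]
    (J : GrothendieckTopology C) (X : C) (K : SimplicialObject (Limits.FormalCoproduct.{u} (Over X)))
    [∀ (n : ℕ) (F : (SimplexCategory.Truncated n)ᵒᵖ ⥤ Limits.FormalCoproduct.{u} (Over X)),
      (SimplexCategory.Truncated.inclusion n).op.HasRightKanExtension F]
    (hK : Hyper.IsHypercovering J X K) :
    (∀ n : ℕ, Sieve.ofArrows (fun i => ((K.obj (op (SimplexCategory.mk n))).obj i).left)
      (fun i => ((K.obj (op (SimplexCategory.mk n))).obj i).hom) ∈ J X) ∧
    ∀ (n : ℕ) (i : Fin (n + 2)), Hyper.IsSRCovering (J.over X) (K.δ i) := by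
  refine ⟨fun n => ?_, fun n i => ?_⟩
  · refine J.superset_covering ?_ hK.1
    intro V a ha
    obtain ⟨W, b, c, hc, rfl⟩ := ha
    obtain ⟨k⟩ := hc
    let m := K.map (SimplexCategory.const (SimplexCategory.mk n) (SimplexCategory.mk 0) 0).op
    exact ⟨_, b ≫ (m.φ k).left, _, Presieve.ofArrows.mk (m.f k), by rw [Category.assoc, Over.w]⟩
  · have hsec : ∃ s, s ≫ K.δ i = 𝟙 _ := by
      cases i using Fin.lastCases with
      | last => exact ⟨K.σ (Fin.last n), K.δ_comp_σ_succ (i := Fin.last n)⟩
      | cast i => exact ⟨K.σ i, K.δ_comp_σ_self⟩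
    obtain ⟨s, hs⟩ := hsec
    exact Groth.Agent.H15Site.SRCover.isSRCovering_of_iso _ (K.δ i) s hs hs (by
      intro j
      refine (J.over X).superset_covering ?_ ((J.over X).top_mem _)
      intro V a _
      have := Groth.Agent.H15Site.SRCover.sieve_arrow (𝟙 (K.obj (Opposite.op (SimplexCategory.mk n)))) j rfl a
      simpa using this)

end Groth.Agent.S0894
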