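import Groth.Statements.S0898
import Groth.Agent.H15Site.SRCover

set_option autoImplicit false
universe u
open CategoryTheory
open Hyper

set_option linter.style.haveILetI false
open CategoryTheory CategoryTheory.Limits


namespace Groth.Agent.S0898

open CategoryTheory.Limits in
/-- Parts (1) and (2), about covering morphisms between semi-representable objects (formal coproducts)
of a site: (1) the composite of two covering morphisms is a covering, and (2) for a site with fibre
products, the base change of a covering K -> L along any L' -> L (which exists) is a covering L' x_L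
K -> L'. -/
theorem result {C : Type u} [SmallCategory C] (J : GrothendieckTopology C) :
    (∀ {K L M : FormalCoproduct.{u} C} (f : K ⟶ L) (g : L ⟶ M),
      Hyper.IsSRCovering J f → Hyper.IsSRCovering J g → Hyper.IsSRCovering J (f ≫ g)) ∧
    (∀ [HasPullbacks C] {K L L' : FormalCoproduct.{u} C} (f : K ⟶ L) (g : L' ⟶ L),
      Hyper.IsSRCovering J f → HasPullback g f ∧ ∀ [HasPullback g f], Hyper.IsSRCovering J (pullback.fst g f)) := by
  refine ⟨fun f g => Groth.Agent.H15Site.SRCover.comp f g, fun {_ K L L'} f g hf => ⟨inferInstance, fun {_} => ?_⟩⟩
  let hpb := FormalCoproduct.isPullback g f (Groth.Agent.H15Site.SRCover.pb f g) (fun _ => pullback.isLimit _ _)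
  exact Groth.Agent.H15Site.SRCover.isSRCovering_of_iso _ hpb.isoPullback.inv hpb.isoPullback.hom
    hpb.isoPullback.hom_inv_id hpb.isoPullback_hom_fst
    (Groth.Agent.H15Site.SRCover.fst_base_change f g hf)

end Groth.Agent.S0898
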