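import Groth.Statements.S0901
import Groth.Agent.H15Site.CechFlasque
import Groth.Agent.H10Coh.SheafH

open TopologicalSpace Groth.Agent.H15Site Groth.Agent.H15Site.CechTop

set_option linter.style.haveILetI false
open CategoryTheory CategoryTheory.Limits Opposite

set_option autoImplicit false
universe u
open CategoryTheory
open CohTop

namespace Groth.Agent.S0901

open TopologicalSpace Opposite CategoryTheory.Limits in
/-- Let F be an abelian sheaf on X and U_i a family of opens with union U. Assume that for every union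
U' of opens of the form U_{i_0} ∩ ... ∩ U_{i_p} the restriction map F(U) -> F(U') is surjective.
Then the Cech cohomology of F with respect to the family vanishes in all positive degrees. -/
theorem result {X : TopCat.{u}} (F : CohTop.Ab X)
    {ι : Type u} (U : ι → Opens X)
    (h : ∀ (κ : Type u) (a : κ → Σ p : ℕ, Fin (p + 1) → ι),
      Function.Surjective (F.obj.map (homOfLE
        (iSup_le fun k => (iInf_le _ ⟨0, Nat.succ_pos _⟩).trans (le_iSup U ((a k).2 ⟨0, Nat.succ_pos _⟩)) :
          (⨆ k, ⨅ j, U ((a k).2 j)) ≤ iSup U)).op)) (p : ℕ) :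
    IsZero (CohTop.cechH F.obj U (p + 1)) := by
  refine CechFlasque.isZero_cechH U F (fun n b J => ?_) p
  let a : J → Σ p : ℕ, Fin (p + 1) → ι := fun j => ⟨n + 1, Fin.cons j.1 b⟩
  intro y
  have h1 : cap U b ⊓ CechFlasque.sub U J ≤ ⨆ k, ⨅ l, U ((a k).2 l) := by
    rw [show cap U b ⊓ CechFlasque.sub U J = ⨆ j : J, cap U b ⊓ U j from inf_iSup_eq _ _]
    exact iSup_mono fun j => le_cap_cons U j.1 b inf_le_left inf_le_right
  have h2 : (⨆ k, ⨅ l, U ((a k).2 l)) ≤ cap U b ⊓ CechFlasque.sub U J :=
    iSup_le fun j => le_inf (cap_cons_le U j.1 b)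
      ((cap_cons_le_self U j.1 b).trans (le_iSup (fun l : J => U l) j))
  obtain ⟨z, hz⟩ := h J a (res F.obj h2 y)
  refine ⟨res F.obj ((iInf_le _ 0).trans (le_iSup U (b 0))) z, ?_⟩
  have h' := congrArg (res F.obj h1) hz
  replace h' : res F.obj h1 (res F.obj (iSup_le fun k => (iInf_le _ ⟨0, Nat.succ_pos _⟩).trans (le_iSup U ((a k).2 ⟨0, Nat.succ_pos _⟩))) z) = y :=
    h'.trans ((res_res F.obj h2 h1 y).trans (res_self F.obj _ y))
  exact (res_res F.obj _ _ z).trans (((res_res F.obj _ h1 z).symm).trans h')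

end Groth.Agent.S0901
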