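import Groth.Statements.S0904
import Groth.Agent.H15Site.ClosedPushAb
import Groth.Agent.H15Site.FlasquePush

open TopologicalSpace CategoryTheory.Abelian Groth.Agent.H10Coh Groth.Agent.H15Site

set_option linter.style.haveILetI false
open CategoryTheory CategoryTheory.Limits Opposite Simplicial

set_option autoImplicit false
universe u
open CategoryTheory
open CohTop

namespace Groth.Agent.S0904

/-- Abelian sheaves, for which every continuous map is flat: for a continuous map f : X -> Y and an
injective abelian sheaf I on X, the direct image f_* I is an injective abelian sheaf on Y. -/
theorem result {X Y : TopCat.{u}} (f : X ⟶ Y) (I : CohTop.Ab X) [Injective I] :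
    Injective ((CohTop.push f).obj I) := by
  exact ClosedPushAb.push_injective f I

end Groth.Agent.S0904
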