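import Groth.Statements.S0907
import Groth.Agent.H15Site.HyperBuild.Spec

set_option autoImplicit false
universe u
open CategoryTheory
open Hyper

set_option linter.style.haveILetI false
set_option backward.isDefEq.respectTransparency false
open Groth.Agent.H15Site

namespace Groth.Agent.S0907

open TopologicalSpace Opposite CategoryTheory.Limits in
/-- Phrased in the site of opens of X, with X the top open: let B be a basis for the topology of X. Then
there is a hypercovering K of X such that every open occurring in every K_n belongs to B. -/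
theorem result {X : TopCat.{u}} (B : Set (Opens X)) (hB : Opens.IsBasis B)
    [∀ (n : ℕ) (F : (SimplexCategory.Truncated n)ᵒᵖ ⥤ Limits.FormalCoproduct.{u} (Over (⊤ : Opens X))),
      (SimplexCategory.Truncated.inclusion n).op.HasRightKanExtension F] :
    ∃ K : SimplicialObject (FormalCoproduct.{u} (Over (⊤ : Opens X))),
      Hyper.IsHypercovering (Opens.grothendieckTopology X) ⊤ K ∧
      ∀ (n : ℕ) (i : (K.obj (op (SimplexCategory.mk n))).I),
        ((K.obj (op (SimplexCategory.mk n))).obj i).left ∈ B := by
  refine HyperBuild.exists_hypercovering_in fun U => ?_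
  refine ⟨⟨fun V => {v | ∃ (W : Opens X) (_ : W ∈ B) (a : V ⟶ W) (b : W ⟶ U), a ≫ b = v}, ?_⟩, ?_,
    fun V v hv => hv⟩
  · rintro V V' v ⟨W, hW, a, b, rfl⟩ w
    exact ⟨W, hW, w ≫ a, b, Category.assoc _ _ _⟩
  · intro x hx
    obtain ⟨W, hW, hxW, hWU⟩ := Opens.isBasis_iff_nbhd.1 hB hx
    exact ⟨W, homOfLE hWU, ⟨W, hW, 𝟙 W, homOfLE hWU, Category.id_comp _⟩, hxW⟩

end Groth.Agent.S0907
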