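import Groth.Statements.S0911
import Groth.Agent.H16Derived.KFlat.SheafTri
import Groth.Agent.H16Derived.KFlat.PullKFlat

set_option autoImplicit false
universe u
open CategoryTheory
attribute [local instance] HasDerivedCategory.standard
open DCoh

namespace Groth.Agent.S0911

open CategoryTheory CategoryTheory.Limits
open Groth.Agent.H16Derived Groth.Agent.H16Derived.KFlat
attribute [local instance] HasDerivedCategory.standard

open AlgebraicGeometry in
/-- For morphisms of schemes f : X → Y and g : Y → Z the composite of derived pullbacks Lf^* ∘ Lg^* is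
isomorphic to L(g ∘ f)^* as functors D(O_Z) → D(O_X). The derived pullbacks are total left derived
functors whose existence is assumed through instance arguments; the assertion is the existence of an
isomorphism of functors. The published statement is for ringed spaces; stated here for schemes. -/
theorem result {X Y Z : Scheme.{u}} (f : X ⟶ Y) (g : Y ⟶ Z)
    [DCoh.HasLpull f] [DCoh.HasLpull g] [DCoh.HasLpull (f ≫ g)] :
    Nonempty (DCoh.Lpull g ⋙ DCoh.Lpull f ≅ DCoh.Lpull (f ≫ g)) := by
  let gC := (Scheme.Modules.pullback g).mapHomologicalComplex (ComplexShape.up ℤ)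
  let fC := (Scheme.Modules.pullback f).mapHomologicalComplex (ComplexShape.up ℤ)
  let ρ : (Stalk.kflat Z).FullSubcategory ⥤ (Stalk.kflat Y).FullSubcategory :=
    (Stalk.kflat Y).lift ((Stalk.kflat Z).ι ⋙ gC) fun K => Stalk.isKFlat_pullback g K.property
  let ec : gC ⋙ fC ≅ (Scheme.Modules.pullback (f ≫ g)).mapHomologicalComplex (ComplexShape.up ℤ) :=
    NatIso.ofComponents (fun K => HomologicalComplex.Hom.isoOfComponents (fun _ => Iso.refl _)
      (fun i j _ => (Category.id_comp _).trans (Category.comp_id _).symm))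
      (fun {K L} φ => HomologicalComplex.hom_ext _ _ fun i =>
        (Category.comp_id _).trans (Category.id_comp _).symm) ≪≫
      NatIso.mapHomologicalComplex (Scheme.Modules.pullbackComp f g) (ComplexShape.up ℤ)
  haveI := LeftDerTri.isLocalization (Stalk.pullAdapted (f ≫ g))
  let e : ((Stalk.kflat Z).ι ⋙ DerivedCategory.Q) ⋙ DCoh.Lpull g ⋙ DCoh.Lpull f ≅
      ((Stalk.kflat Z).ι ⋙ DerivedCategory.Q) ⋙ DCoh.Lpull (f ≫ g) :=
    (Functor.associator _ _ _).symm ≪≫
    Functor.isoWhiskerRight (Stalk.lpullIso g) (DCoh.Lpull f) ≪≫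
    Functor.isoWhiskerLeft ρ (Stalk.lpullIso f) ≪≫
    Functor.isoWhiskerLeft (Stalk.kflat Z).ι (Functor.isoWhiskerRight ec DerivedCategory.Q) ≪≫
    (Stalk.lpullIso (f ≫ g)).symm
  exact ⟨Localization.liftNatIso ((Stalk.kflat Z).ι ⋙ DerivedCategory.Q) (LeftDerTri.qis _) _ _ _ _ e⟩

end Groth.Agent.S0911
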