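import Groth.Statements.S0916
import Groth.Agent.H16Derived.KFlat.FlatCriterion

set_option autoImplicit false
universe u
open CategoryTheory
attribute [local instance] HasDerivedCategory.standard
open DCoh

namespace Groth.Agent.S0916

open CategoryTheory CategoryTheory.Limits
open Groth.Agent.H16Derived.KFlat
attribute [local instance] HasDerivedCategory.standard

open AlgebraicGeometry CategoryTheory.Limits in
/-- Flatness of an O_X-module F (all stalks flat) is equivalent to the following Tor-vanishing: for
every O_X-module G the sheaf Tor_1(F, G), i.e. H^{-1} of F ⊗^L G, vanishes; the existence of the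
derived tensor product with every G is assumed (hypothesis hL). -/
theorem result {X : Scheme.{u}} (F : X.Modules) (hL : ∀ G : X.Modules, DCoh.HasLTensorMod G) :
    FlatMod.IsFlat F ↔ ∀ (G : X.Modules) [DCoh.HasLTensorMod G],
      IsZero (DCoh.HD ((DCoh.LTensorMod G).obj (DCoh.inD X F)) (-1)) := by
  let K : CochainComplex X.Modules ℤ := (HomologicalComplex.single X.Modules (ComplexShape.up ℤ) 0).obj F
  let eK : DCoh.toD X K ≅ DCoh.inD X F := ((DerivedCategory.singleFunctorIsoCompQ X.Modules 0).app F).symm
  constructor
  · intro hF G _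
    refine Stalk.hasTorAmplitudeIn_of_hasFlatAmplitudeIn (a := 0) (b := 0) ⟨K, ?_, ?_, ⟨eK⟩⟩ G (-1)
      (Or.inl (by omega))
    · intro i hi
      exact HomologicalComplex.isZero_single_obj_X (ComplexShape.up ℤ) 0 F i (by omega)
    · intro i
      by_cases hi : i = 0
      · subst hi
        let e := HomologicalComplex.singleObjXSelf (ComplexShape.up ℤ) 0 F
        exact Stalk.isFlat_of_retract e.hom e.inv e.hom_inv_id hF
      · exact Stalk.isFlat_of_isZero (HomologicalComplex.isZero_single_obj_X (ComplexShape.up ℤ) 0 F i hi)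
  · intro h
    have : K.IsStrictlyLE 0 := (CochainComplex.isStrictlyLE_iff K 0).2 fun i hi =>
      HomologicalComplex.isZero_single_obj_X (ComplexShape.up ℤ) 0 F i (by omega)
    obtain ⟨Q, α, hQ, hflat, hα⟩ := Stalk.exists_flat_resolution K 0
    haveI := hQ
    haveI : IsIso (DerivedCategory.Q.map α) :=
      Localization.inverts _ (HomologicalComplex.quasiIso X.Modules (ComplexShape.up ℤ)) α hα
    have hop := Stalk.isFlat_opcycles Q hflat 0 fun G => by
      haveI := hL G
      exact Stalk.isZero_homology_tensorC Q 0 hflat (asIso (DerivedCategory.Q.map α) ≪≫ eK) G (0 - 1)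
        (h G)
    haveI := hα
    let e : F ≅ Q.opcycles 0 :=
      (HomologicalComplex.singleObjHomologySelfIso (ComplexShape.up ℤ) 0 F).symm ≪≫
        (isoOfQuasiIsoAt α 0).symm ≪≫
        Q.isoHomologyι 0 1 (by simp) ((Q.isZero_of_isStrictlyLE 0 1 (by omega)).eq_of_tgt _ _)
    exact Stalk.isFlat_of_retract e.hom e.inv e.hom_inv_id hop

end Groth.Agent.S0916
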