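import Groth.Statements.S0919
import Mathlib.CategoryTheory.Abelian.GrothendieckCategory.Subobject
import Mathlib.CategoryTheory.Abelian.GrothendieckCategory.Basic
import Mathlib.CategoryTheory.Abelian.GrothendieckCategory.EnoughInjectives
import Mathlib.CategoryTheory.Adjunction.AdjointFunctorTheorems
import Mathlib.CategoryTheory.Abelian.Subobject
import Mathlib.CategoryTheory.Limits.Yoneda
import Mathlib.CategoryTheory.Limits.Opposites

set_option autoImplicit false
universe v u
open CategoryTheory
open CohDer

namespace Groth.Agent.S0919

open CategoryTheory.Limits in
/-- Let A be a Grothendieck abelian category and F a contravariant functor from A to sets (a functor on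
the opposite category). Then F is representable if and only if F turns all small colimits of A into
limits, i.e. preserves small limits as a functor on the opposite category. -/
theorem result {A : Type u} [Category.{v} A] [Abelian A]
    [IsGrothendieckAbelian.{v} A] (F : Aᵒᵖ ⥤ Type v) :
    F.IsRepresentable ↔ PreservesLimitsOfSize.{v, v} F := by
  constructor
  · intro h
    exact preservesLimits_of_natIso F.reprW
  · intro h
    haveI : HasColimits A := inferInstance
    haveI : HasLimits Aᵒᵖ := inferInstance
    obtain ⟨G, hG⟩ := (IsGrothendieckAbelian.hasSeparator (C := A))
    have hP : (ObjectProperty.singleton (Opposite.op G)).IsCoseparating :=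
      (isCoseparator_op_iff G).mpr hG
    haveI := isRightAdjoint_of_preservesLimits_of_isCoseparating hP F
    let adj := Adjunction.ofIsRightAdjoint F
    let Y := F.leftAdjoint.obj PUnit.{v + 1}
    refine Functor.RepresentableBy.isRepresentable (Y := Y.unop)
      { homEquiv := fun {X} => (opEquiv _ _).symm.trans ((adj.homEquiv _ (Opposite.op X)).trans
          { toFun := fun φ => φ PUnit.unit
            invFun := fun x => TypeCat.ofHom fun _ => x
            left_inv := fun φ => by ext ⟨⟩; rfl
            right_inv := fun x => rfl })
        homEquiv_comp := ?_ }
    intro X X' f g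
    show (adj.homEquiv _ _ (g.op ≫ f.op)) PUnit.unit = F.map f.op ((adj.homEquiv _ _ g.op) PUnit.unit)
    rw [Adjunction.homEquiv_naturality_right]
    rfl

end Groth.Agent.S0919
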