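import Groth.Statements.S0923
import Groth.Agent.H16Derived.KFlat.PerfFlat

set_option autoImplicit false
universe u
open CategoryTheory
attribute [local instance] HasDerivedCategory.standard
open DCoh

namespace Groth.Agent.S0923

open Groth.Agent.H16Derived.KFlat.Stalk AlgebraicGeometry

open AlgebraicGeometry CategoryTheory.Limits in
/-- On a scheme X, an object E of D(𝒪_X) is perfect if and only if every point has an open neighbourhood
V such that the restriction to V of any complex representing E is isomorphic in D(𝒪_V) to a bounded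
complex each of whose terms is isomorphic to a finite free 𝒪_V-module. (The published statement is
for ringed spaces whose stalks are local rings and lists further equivalent conditions; here X is a
scheme and only this equivalence is stated.) -/
theorem result {X : Scheme.{u}} (E : DCoh.D X) :
    DCoh.IsPerfect E ↔ ∀ x : X, ∃ V : X.Opens, x ∈ V ∧
      ∀ F : CochainComplex X.Modules ℤ, Nonempty (DCoh.toD X F ≅ E) →
        ∃ (P : CochainComplex (V : Scheme.{u}).Modules ℤ) (a b : ℤ), DCoh.VanishesOutside P a b ∧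
          (∀ i : ℤ, ∃ n : ℕ, Nonempty (P.X i ≅ FlatMod.freeMod (V : Scheme.{u}) n)) ∧
          Nonempty (DerivedCategory.Q.obj ((DCoh.restrictCx V).obj F) ≅ DerivedCategory.Q.obj P) := by
  constructor
  · intro h
    have h' := (isPerfect_iff E).1 h
    intro x
    obtain ⟨V, hx, S, hS, ⟨θ⟩⟩ := h' x
    obtain ⟨W, hxW, hfree⟩ := exists_freeNear hS ⟨x, hx⟩
    let j := W.ι ≫ V.ι
    refine ⟨j.opensRange, ⟨⟨⟨x, hx⟩, hxW⟩, rfl⟩, fun F hF => ?_⟩
    obtain ⟨eF⟩ := hF
    let k := j.isoOpensRange.inv
    let P := (((Scheme.Modules.restrictFunctor k).mapHomologicalComplex (ComplexShape.up ℤ)).obj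
      ((DCoh.restrictCx W).obj S))
    obtain ⟨⟨a, b, hab⟩, -⟩ := hS
    refine ⟨P, a, b, fun i hi => (Scheme.Modules.restrictFunctor k).map_isZero
        ((Scheme.Modules.restrictFunctor W.ι).map_isZero (hab i hi)), fun i => ?_, ⟨?_⟩⟩
    · exact IsFreeFin.of_iso (((Scheme.Modules.pullback k).mapIso
        ((Scheme.Modules.restrictFunctorIsoPullback W.ι).app (S.X i)).symm) ≪≫
        (Scheme.Modules.restrictFunctorIsoPullback k).symm.app _) ((hfree i).pullback k)
    · exact (rdQ j.opensRange.ι).symm.app F ≪≫ (rd j.opensRange.ι).mapIso eF ≪≫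
        rdComp k j j.opensRange.ι j.isoOpensRange_inv_comp E ≪≫
        (rd k).mapIso (rdComp W.ι V.ι j rfl E ≪≫ (rd W.ι).mapIso θ.symm ≪≫ (rdQ W.ι).app S) ≪≫
        (rdQ k).app _
  · intro h x
    obtain ⟨V, hx, hV⟩ := h x
    refine ⟨V, hx, fun F hF => ?_⟩
    obtain ⟨P, a, b, hab, hfree, hi⟩ := hV F hF
    refine ⟨P, ⟨⟨a, b, hab⟩, fun i => (isFinLocFree_iff _).2 fun y => ⟨⊤, trivial, ?_⟩⟩, hi⟩
    exact IsFreeFin.pullback _ (hfree i)

end Groth.Agent.S0923
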