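import Groth.Statements.S0925
import Groth.Agent.H15Site.ClosedPushAb
import Mathlib

open TopologicalSpace Groth.Agent.H15Site

set_option linter.style.haveILetI false
open CategoryTheory CategoryTheory.Limits Opposite

set_option autoImplicit false
universe u
open CategoryTheory
open CohTop

namespace Groth.Agent.S0925

section
open Groth.Agent.H15Site

theorem eq_zero_of_push {X : TopCat.{u}} (U : Opens X)
    (B : CohTop.Ab (TopCat.of ((U : Set X)ᶜ : Set X))) (M : CohTop.Ab (TopCat.of U))
    (φ : (CohTop.push (CohCx.inclCompl U)).obj B ⟶ (CohTop.push (CohCx.incl U)).obj M) : φ = 0 := by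
  refine CategoryTheory.Sheaf.hom_ext ?_
  ext V : 2
  obtain ⟨V⟩ := V
  have hbot : (Opens.map (CohCx.inclCompl U)).obj (V ⊓ U) = ⊥ :=
    le_bot_iff.1 fun z hz => absurd hz.2 z.2
  have := ClosedPushAb.subsingleton_sections_bot B hbot
  ext x
  have hiso : IsIso (((CohTop.push (CohCx.incl U)).obj M).obj.map (homOfLE (inf_le_left : V ⊓ U ≤ V)).op) := by
    have h1 : IsIso ((Opens.map (CohCx.incl U)).map (homOfLE (inf_le_left : V ⊓ U ≤ V))) :=
      ⟨homOfLE (fun z hz => ⟨hz, z.2⟩), Subsingleton.elim _ _, Subsingleton.elim _ _⟩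
    exact inferInstanceAs (IsIso (M.obj.map ((Opens.map (CohCx.incl U)).map (homOfLE (inf_le_left : V ⊓ U ≤ V))).op))
  have := (ConcreteCategory.isIso_iff_bijective _).1 hiso
  refine this.1 ?_
  refine ((ConcreteCategory.congr_hom (φ.hom.naturality (homOfLE (inf_le_left : V ⊓ U ≤ V)).op) x).symm.trans ?_)
  refine Eq.trans ?_ (map_zero (((CohTop.push (CohCx.incl U)).obj M).obj.map (homOfLE (inf_le_left : V ⊓ U ≤ V)).op).hom).symm
  refine Eq.trans ?_ (map_zero (φ.hom.app (op (V ⊓ U))).hom)
  exact congrArg (φ.hom.app (op (V ⊓ U))).hom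
    (Subsingleton.elim (α := B.obj.obj (op ((Opens.map (CohCx.inclCompl U)).obj (V ⊓ U)))) _ _)
end

open TopologicalSpace in
/-- For an open U of X with closed complement Z and an injective abelian sheaf I on X, the sheaf H_Z(I),
the sheaf on Z of sections of I supported in Z (pullback to Z of the kernel of I -> j_* j^{-1} I, j
: U -> X), is an injective abelian sheaf on Z. -/
theorem result {X : TopCat.{u}} (U : Opens X) (I : CohTop.Ab X) [Injective I] :
    Injective (CohCx.HZ U I) := by
  let i := CohCx.inclCompl U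
  have hi : Topology.IsClosedEmbedding i := U.isOpen.isClosed_compl.isClosedEmbedding_subtypeVal
  let u : I ⟶ (CohTop.push (CohCx.incl U)).obj ((CohTop.pull (CohCx.incl U)).obj I) :=
    (TopCat.Sheaf.pullbackPushforwardAdjunction AddCommGrpCat.{u} (CohCx.incl U)).unit.app I
  have hsupp : ∀ x : X, x ∉ Set.range i → IsZero (CohTop.stalk (kernel u) x) := by
    intro x hx
    have hxU : x ∈ U := by
      by_contra h
      exact hx ⟨⟨x, h⟩, rfl⟩
    refine @AddCommGrpCat.isZero_of_subsingleton _ ⟨fun a b => ?_⟩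
    suffices h : ∀ a : CohTop.stalk (kernel u) x, a = 0 from (h a).trans (h b).symm
    intro a
    obtain ⟨V, hxV, s, rfl⟩ := TopCat.Presheaf.exists_germ_eq (C := AddCommGrpCat.{u}) (kernel u).obj a
    let j := CohCx.incl U
    have hj : Topology.IsOpenEmbedding j := U.isOpenEmbedding
    have h0 : ∀ W : Opens X, W ≤ U → Function.Injective (u.hom.app (op W)).hom := by
      intro W hW
      let e := hj.sheafPullbackIso AddCommGrpCat.{u}
      let adj' := (TopCat.Sheaf.pullbackPushforwardAdjunction AddCommGrpCat.{u} j).ofNatIsoLeft e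
      let r : I ⟶ (CohTop.push j).obj ((hj.sheafPullback AddCommGrpCat.{u}).obj I) :=
        ⟨{ app := fun T => I.obj.map (homOfLE (show hj.isOpenMap.functor.obj ((Opens.map j).obj T.unop) ≤ T.unop by
              rintro _ ⟨z, hz, rfl⟩; exact hz)).op
           naturality := fun _ _ _ => (I.obj.map_comp _ _).symm.trans
            ((congrArg I.obj.map (Subsingleton.elim _ _)).trans (I.obj.map_comp _ _)) }⟩
      let ψ : (CohTop.push j).obj ((CohTop.pull j).obj I) ⟶
          (CohTop.push j).obj ((hj.sheafPullback AddCommGrpCat.{u}).obj I) := (CohTop.push j).map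
          (((TopCat.Sheaf.pullbackPushforwardAdjunction AddCommGrpCat.{u} j).homEquiv _ _).symm r)
      have hr : u ≫ ψ = r :=
        ((TopCat.Sheaf.pullbackPushforwardAdjunction AddCommGrpCat.{u} j).homEquiv_unit _ _ _).symm.trans
          (((TopCat.Sheaf.pullbackPushforwardAdjunction AddCommGrpCat.{u} j).homEquiv _ _).apply_symm_apply r)
      intro a b hab
      have h' := congrArg (fun φ : I ⟶ _ => (φ.hom.app (op W)).hom a) hr
      have h'' := congrArg (fun φ : I ⟶ _ => (φ.hom.app (op W)).hom b) hr
      have hrab : (r.hom.app (op W)).hom a = (r.hom.app (op W)).hom b :=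
        h'.symm.trans ((congrArg (ψ.hom.app (op W)).hom hab).trans h'')
      have hiso : IsIso (r.hom.app (op W)) := by
        have : IsIso (homOfLE (show hj.isOpenMap.functor.obj ((Opens.map j).obj W) ≤ W by
            rintro _ ⟨z, hz, rfl⟩; exact hz)) :=
          ⟨homOfLE (fun z hz => ⟨⟨z, hW hz⟩, hz, rfl⟩), Subsingleton.elim _ _, Subsingleton.elim _ _⟩
        exact inferInstanceAs (IsIso (I.obj.map (homOfLE (show hj.isOpenMap.functor.obj ((Opens.map j).obj W) ≤ W by
            rintro _ ⟨z, hz, rfl⟩; exact hz)).op))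
      exact ((ConcreteCategory.isIso_iff_bijective _).1 hiso).1 hrab
    have hinj : Function.Injective ((kernel.ι u).hom.app (op (V ⊓ U))).hom := by
      rw [← AddCommGrpCat.mono_iff_injective]
      have : Mono ((sheafToPresheaf _ _).map (kernel.ι u)) := inferInstance
      exact (NatTrans.mono_iff_mono_app _).1 this _
    let W := V ⊓ U
    have hs : (kernel u).obj.map (homOfLE (inf_le_left : W ≤ V)).op s = 0 := by
      refine hinj ((h0 W inf_le_right) ?_)
      rw [map_zero, map_zero]
      exact congrArg (fun φ : kernel u ⟶ _ => (φ.hom.app (op W)).hom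
        ((kernel u).obj.map (homOfLE (inf_le_left : W ≤ V)).op s)) (kernel.condition u)
    exact ((TopCat.Presheaf.germ_res_apply _ (homOfLE (inf_le_left : W ≤ V)) x ⟨hxV, hxU⟩ s).symm.trans
      (congrArg _ hs)).trans (map_zero (TopCat.Presheaf.germ (kernel u).obj W x ⟨hxV, hxU⟩).hom)
  obtain ⟨G, ⟨e⟩⟩ := (ClosedPushAb.essImage_push_iff i hi (kernel u)).2 hsupp
  obtain ⟨hF, hFa⟩ := Groth.Agent.H15Site.pushforward_full_faithful i AddCommGrpCat.{u} hi.isInducing
  have hinjG : Injective G := by
    refine ⟨fun {A B} h g hg => ?_⟩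
    have := ClosedPushAb.push_preservesFiniteLimits i
    have : Mono ((CohTop.push i).map g) := inferInstance
    obtain ⟨k, hk⟩ := Injective.factors ((CohTop.push i).map h ≫ e.hom ≫ kernel.ι u) ((CohTop.push i).map g)
    let l : (CohTop.push i).obj B ⟶ kernel u := kernel.lift u k (eq_zero_of_push U B _ _)
    obtain ⟨m, hm'⟩ : ∃ m : B ⟶ G, (CohTop.push i).map m = l ≫ e.inv := hF.map_surjective (l ≫ e.inv)
    refine ⟨m, hFa.map_injective ?_⟩
    change (CohTop.push i).map (g ≫ m) = (CohTop.push i).map h
    rw [Functor.map_comp, hm', ← cancel_mono e.hom, Category.assoc, Category.assoc, e.inv_hom_id,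
      Category.comp_id, ← cancel_mono (kernel.ι u), Category.assoc, kernel.lift_ι, hk, Category.assoc]
  obtain ⟨c⟩ := ClosedPushAb.push_comp_pull_iso i hi
  exact Injective.of_iso ((c.app G).symm ≪≫ (CohTop.pull i).mapIso e) hinjG

end Groth.Agent.S0925
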