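import Groth.Statements.S0926
import Groth.Agent.S0457

set_option backward.isDefEq.respectTransparency false
set_option backward.isDefEq.respectTransparency.types false

set_option autoImplicit false
universe u
open CategoryTheory
open CohTop

namespace Groth.Agent.S0926

open CategoryTheory.Limits Opposite TopologicalSpace
attribute [local instance 10000] Groth.Agent.H10Coh.hasSheafifyAb Groth.Agent.H10Coh.hasWeakSheafifyAb

variable (X : TopCat.{u}) [IrreducibleSpace X] (A : Type u) [AddCommGroup A]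

/-- The constant sheaf in coordinates. -/
theorem exists_coord : Nonempty (CohTop.const X A ≅ (⟨S0457.Q X A, S0457.isSheaf_Q X A⟩ : CohTop.Ab X)) := by
  let QS : CohTop.Ab X := ⟨S0457.Q X A, S0457.isSheaf_Q X A⟩
  let φ : (Functor.const (Opens X)ᵒᵖ).obj (AddCommGrpCat.of A) ⟶ S0457.Q X A :=
    { app := fun U => AddCommGrpCat.ofHom { toFun := fun a _ => a, map_zero' := rfl, map_add' := fun _ _ => rfl }
      naturality := fun _ _ _ => rfl }
  have hi : Presheaf.IsLocallyInjective (Opens.grothendieckTopology X) φ := by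
    refine ⟨fun {U} x y h z hz => ?_⟩
    have hU : U.unop ≠ ⊥ := fun e => by rw [e] at hz; exact hz
    have : x = y := congrFun h ⟨hU⟩
    exact ⟨U.unop, 𝟙 _, congrArg _ this, hz⟩
  have hs : Presheaf.IsLocallySurjective (Opens.grothendieckTopology X) φ := by
    refine ⟨fun {U} s z hz => ?_⟩
    have hU : U ≠ ⊥ := fun e => by rw [e] at hz; exact hz
    exact ⟨U, 𝟙 _, ⟨s ⟨hU⟩, funext fun _ => rfl⟩, hz⟩
  have hW : (Opens.grothendieckTopology X).W φ :=
    (GrothendieckTopology.W_iff_isLocallyBijective _ _).2 ⟨hi, hs⟩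
  rw [GrothendieckTopology.W_iff] at hW
  exact ⟨@asIso _ _ _ _ _ hW ≪≫
    (asIso (sheafificationAdjunction (Opens.grothendieckTopology X) AddCommGrpCat.{u}).counit).app QS⟩

variable {X} (H : CohTop.Ab X) (ι : H ⟶ CohTop.const X (ULift.{u} ℤ))

/-- Sections of the image: near `U` they are exactly the multiples of `d`. -/
theorem exists_open : ∃ (U : Opens X) (d : ℤ), U ≠ ⊥ ∧ ∀ W : Opens X, W ≤ U →
    (∀ s : H.obj.obj (op W), ∃ t : (CohTop.const X (ULift.{u} ℤ)).obj.obj (op W),
      (ι.hom.app (op W)).hom s = d • t) ∧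
    ∀ t : (CohTop.const X (ULift.{u} ℤ)).obj.obj (op W), ∃ s : H.obj.obj (op W),
      (ι.hom.app (op W)).hom s = d • t := by
  classical
  obtain ⟨e⟩ := exists_coord X (ULift.{u} ℤ)
  let c : ∀ W : Opens X, (CohTop.const X (ULift.{u} ℤ)).obj.obj (op W) →+ (PLift (W ≠ ⊥) → ULift.{u} ℤ) :=
    fun W => (e.hom.hom.app (op W)).hom
  have hc : ∀ W, Function.Bijective (c W) := fun W => by
    refine Function.bijective_iff_has_inverse.2 ⟨(e.inv.hom.app (op W)).hom, fun x => ?_, fun x => ?_⟩
    · exact ConcreteCategory.congr_hom (congrArg (fun φ => φ.hom.app (op W)) e.hom_inv_id) x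
    · exact ConcreteCategory.congr_hom (congrArg (fun φ => φ.hom.app (op W)) e.inv_hom_id) x
  let v : ∀ W : Opens X, H.obj.obj (op W) →+ (PLift (W ≠ ⊥) → ULift.{u} ℤ) :=
    fun W => (c W).comp (ι.hom.app (op W)).hom
  have hres : ∀ {V W : Opens X} (h : W ≤ V) (s : H.obj.obj (op V)) (hV : PLift (V ≠ ⊥)) (hW : PLift (W ≠ ⊥)),
      v W ((H.obj.map (homOfLE h).op).hom s) hW = v V s hV := fun {V W} h s hV hW =>
    congrFun ((congrArg (c W) (ConcreteCategory.congr_hom (ι.hom.naturality (homOfLE h).op) s)).trans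
      (ConcreteCategory.congr_hom (e.hom.hom.naturality (homOfLE h).op) _)) hW
  let P : ℕ → Prop := fun n => 0 < n ∧
    ∃ (W : Opens X) (hW : PLift (W ≠ ⊥)) (s : H.obj.obj (op W)), (v W s hW).down.natAbs = n
  by_cases hP : ∃ n, P n
  · obtain ⟨hpos, U, hU, s₀, hs₀⟩ := Nat.find_spec hP
    refine ⟨U, (v U s₀ hU).down, hU.down, fun W hW => ?_⟩
    let d := (v U s₀ hU).down
    have hdvd : ∀ (s : H.obj.obj (op W)) (h : PLift (W ≠ ⊥)), d ∣ (v W s h).down := fun s h => by
      by_contra hd
      let k : ℤ := (v W s h).down / d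
      let s' := s - k • (H.obj.map (homOfLE hW).op).hom s₀
      have hs' : (v W s' h).down = (v W s h).down % d := by
        simp only [s', map_sub, map_zsmul, Pi.sub_apply, Pi.smul_apply, hres hW s₀ hU h]
        rw [ULift.sub_down, ULift.smul_down, smul_eq_mul, Int.emod_def, mul_comm]
      have h0 : d ≠ 0 := fun e0 => by
        have : d.natAbs = 0 := Int.natAbs_eq_zero.2 e0
        omega
      have hlt : ((v W s h).down % d).natAbs < d.natAbs := by
        have h1 := Int.emod_nonneg (v W s h).down h0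
        have h2 := Int.emod_lt_abs (v W s h).down h0
        rw [Int.abs_eq_natAbs] at h2
        omega
      refine Nat.find_min hP (hs₀ ▸ hlt) ⟨?_, W, h, s', congrArg Int.natAbs hs'⟩
      exact Int.natAbs_pos.2 fun e0 => hd (Int.dvd_of_emod_eq_zero e0)
    refine ⟨fun s => ?_, fun t => ⟨(if h : W ≠ ⊥ then (c W t ⟨h⟩).down else 0) • (H.obj.map (homOfLE hW).op).hom s₀,
      (hc W).1 ?_⟩⟩
    · obtain ⟨t, ht⟩ := (hc W).2 fun h => ⟨(v W s h).down / d⟩
      refine ⟨t, (hc W).1 ?_⟩
      rw [map_zsmul, ht]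
      funext h
      exact ULift.ext _ _ (Int.mul_ediv_cancel' (hdvd s h)).symm
    · rw [map_zsmul, map_zsmul, map_zsmul]
      show _ • v W _ = _
      funext h
      rw [Pi.smul_apply, Pi.smul_apply, hres hW s₀ hU h, dif_pos h.down]
      exact ULift.ext _ _ (mul_comm _ _)
  · have hne : (⊤ : Opens X) ≠ ⊥ := fun e0 => by
      obtain ⟨x⟩ := (inferInstance : Nonempty X)
      exact (e0 ▸ (Opens.mem_top x) : x ∈ (⊥ : Opens X))
    refine ⟨⊤, 0, hne, fun W _ => ⟨fun s => ⟨0, (hc W).1 ?_⟩, fun t => ⟨0, by simp⟩⟩⟩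
    rw [smul_zero, map_zero]
    funext h
    refine ULift.ext _ _ (by_contra fun hn => hP ⟨_, ?_, W, h, s, rfl⟩)
    exact Int.natAbs_pos.2 hn

open TopologicalSpace CategoryTheory.Limits in
/-- Let X be an irreducible topological space and H an abelian subsheaf of the constant sheaf Z (given
by a monomorphism ι). Then there are a nonempty open U and an integer d such that over U the
subsheaf H coincides with the image of multiplication by d on the constant sheaf: the images of ι|_U
and of (d · id)|_U agree as subobjects of the constant sheaf on U. -/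
theorem result {X : TopCat.{u}} [IrreducibleSpace X]
    (H : CohTop.Ab X) (ι : H ⟶ CohTop.const X (ULift.{u} ℤ)) [Mono ι] :
    ∃ (U : Opens X) (d : ℤ), U ≠ ⊥ ∧
      imageSubobject ((CohTop.restrFunctor U).map ι) =
        imageSubobject ((CohTop.restrFunctor U).map (d • 𝟙 (CohTop.const X (ULift.{u} ℤ)))) := by
  obtain ⟨U, d, hU, hd⟩ := exists_open H ι
  refine ⟨U, d, hU, ?_⟩
  let f := (CohTop.restrFunctor U).map ι
  let g := (CohTop.restrFunctor U).map (d • 𝟙 (CohTop.const X (ULift.{u} ℤ)))
  have key : ∀ (W : Opens (TopCat.of U)) (t : _), (g.hom.app (op W)).hom t =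
      d • (show (CohTop.const X (ULift.{u} ℤ)).obj.obj (op (U.isOpenEmbedding.isOpenMap.functor.obj W)) from t) :=
    fun W t => rfl
  have hW : ∀ W : Opens (TopCat.of U), U.isOpenEmbedding.isOpenMap.functor.obj W ≤ U := fun W x hx => by
    obtain ⟨y, -, rfl⟩ := hx
    exact y.2
  have hfg : ∀ {a b : CohTop.Ab (TopCat.of U)} (p : a ⟶ (CohTop.restrFunctor U).obj (CohTop.const X (ULift.{u} ℤ)))
      (q : b ⟶ (CohTop.restrFunctor U).obj (CohTop.const X (ULift.{u} ℤ))),
      (∀ W s, ∃ t, (q.hom.app (op W)).hom t = (p.hom.app (op W)).hom s) → imageSubobject p ≤ imageSubobject q := by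
    intro a b p q h
    have hpq : p ≫ cokernel.π q = 0 := Sheaf.hom_ext (NatTrans.ext (funext fun W => AddCommGrpCat.hom_ext
      (AddMonoidHom.ext fun s => by
        obtain ⟨t, ht⟩ := h W.unop s
        refine (congrArg ((cokernel.π q).hom.app W).hom ht.symm).trans ?_
        exact ConcreteCategory.congr_hom (congrArg (fun φ => φ.hom.app W) (cokernel.condition q)) t)))
    have hq : (imageSubobject q).arrow ≫ cokernel.π q = 0 := by
      rw [← cancel_epi (factorThruImageSubobject q), imageSubobject_arrow_comp_assoc, cokernel.condition, comp_zero]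
    let S : ShortComplex (CohTop.Ab (TopCat.of U)) := ShortComplex.mk (imageSubobject q).arrow (cokernel.π q) hq
    have hS : S.Exact := by
      refine (ShortComplex.exact_iff_of_epi_of_isIso_of_mono
        ({ τ₁ := factorThruImageSubobject q, τ₂ := 𝟙 _, τ₃ := 𝟙 _ } :
          ShortComplex.mk q (cokernel.π q) (cokernel.condition q) ⟶ S)).1 (ShortComplex.exact_cokernel q)
    haveI : Mono S.f := inferInstanceAs (Mono (imageSubobject q).arrow)
    exact imageSubobject_le _ (hS.lift p hpq) (hS.lift_f p hpq)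
  refine le_antisymm (hfg f g fun W s => ?_) (hfg g f fun W t => ?_)
  · obtain ⟨t, ht⟩ := (hd _ (hW W)).1 s
    exact ⟨t, (key W t).trans ht.symm⟩
  · obtain ⟨s, hs⟩ := (hd _ (hW W)).2 t
    exact ⟨s, hs.trans (key W t).symm⟩

end Groth.Agent.S0926
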