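import Groth.Statements.S0928
import Mathlib.CategoryTheory.Generator.Presheaf
import Mathlib.CategoryTheory.Abelian.GrothendieckAxioms.FunctorCategory
import Mathlib.CategoryTheory.Abelian.GrothendieckCategory.EnoughInjectives
import Mathlib.Algebra.Category.Grp.AB
import Mathlib.CategoryTheory.Abelian.FunctorCategory

set_option autoImplicit false
universe u
open CategoryTheory
open CohDer

namespace Groth.Agent.S0928

open CategoryTheory CategoryTheory.Limits CategoryTheory.MorphismProperty
open scoped ZeroObject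

lemma functorial_injective {A : Type*} [Category.{u} A] [Abelian A] [IsGrothendieckAbelian.{u} A] :
    ∃ (J : A ⥤ A) (j : 𝟭 A ⟶ J), ∀ X : A, Injective (J.obj X) ∧ Mono (j.app X) := by
  let d := functorialFactorizationData (monomorphisms A) (monomorphisms A).rlp
  let F : A ⥤ Arrow A :=
    { obj := fun M => Arrow.mk (0 : M ⟶ 0)
      map := fun φ => Arrow.homMk φ (𝟙 _) (by simp) }
  refine ⟨F ⋙ d.Z, { app := fun M => d.i.app (Arrow.mk (0 : M ⟶ 0)),
                     naturality := fun M M' φ => d.i.naturality (F.map φ) }, fun X => ⟨?_, d.hi _⟩⟩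
  rw [injective_iff_rlp_monomorphisms_zero]
  have h : (monomorphisms A).rlp (d.p.app (Arrow.mk (0 : X ⟶ 0)) : (F ⋙ d.Z).obj X ⟶ (0 : A)) :=
    d.hp _
  rwa [(isZero_zero A).eq_of_tgt (d.p.app (Arrow.mk (0 : X ⟶ 0)) : (F ⋙ d.Z).obj X ⟶ (0 : A)) 0] at h

/-- On a small category C the category of presheaves of abelian groups has functorial injective
embeddings: there are an endofunctor J of the presheaf category and a natural transformation from
the identity to J with each component a monomorphism into an injective presheaf. -/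
theorem result {C : Type u} [SmallCategory C] :
    ∃ (J : (Cᵒᵖ ⥤ AddCommGrpCat.{u}) ⥤ (Cᵒᵖ ⥤ AddCommGrpCat.{u})) (j : 𝟭 _ ⟶ J),
      ∀ F : Cᵒᵖ ⥤ AddCommGrpCat.{u}, Injective (J.obj F) ∧ Mono (j.app F) := by
  have : HasSeparator AddCommGrpCat.{u} := inferInstance
  have : IsGrothendieckAbelian.{u} (Cᵒᵖ ⥤ AddCommGrpCat.{u}) :=
    { hasFilteredColimitsOfSize := ⟨fun J _ _ => inferInstance⟩
      ab5OfSize := ⟨fun J _ _ => inferInstance⟩ }
  exact functorial_injective

end Groth.Agent.S0928
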