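import Groth.Statements.S0929
import Groth.Agent.S0928
import Mathlib.CategoryTheory.Functor.ReflectsIso.Balanced
import Mathlib.Algebra.Category.ModuleCat.Presheaf.EpiMono
import Mathlib.Algebra.Category.ModuleCat.Presheaf.Generator
import Mathlib.Algebra.Category.ModuleCat.Presheaf.Abelian
import Mathlib.Algebra.Category.ModuleCat.Presheaf.Colimits
import Mathlib.Algebra.Category.ModuleCat.Presheaf.Limits
import Mathlib.Algebra.Category.Grp.AB
import Mathlib.CategoryTheory.Abelian.GrothendieckAxioms.FunctorCategory

set_option autoImplicit false
universe u
open CategoryTheory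
open CohDer

namespace Groth.Agent.S0929

open CategoryTheory CategoryTheory.Limits

/-- For a presheaf of rings O on a small category C, the category of presheaves of O-modules has
functorial injective embeddings (an endofunctor J with a natural transformation from the identity
whose components are monomorphisms into injective objects). -/
theorem result {C : Type u} [SmallCategory C]
    (O : Cᵒᵖ ⥤ RingCat.{u}) :
    ∃ (J : PresheafOfModules.{u} O ⥤ PresheafOfModules.{u} O) (j : 𝟭 _ ⟶ J),
      ∀ F : PresheafOfModules.{u} O, Injective (J.obj F) ∧ Mono (j.app F) := by
  have hsep : HasSeparator (PresheafOfModules.{u} O) :=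
    ⟨_, (PresheafOfModules.freeYoneda.isSeparating O).isSeparator_coproduct⟩
  have : IsGrothendieckAbelian.{u} (PresheafOfModules.{u} O) :=
    { hasSeparator := hsep
      ab5OfSize := ⟨fun K _ _ => by
        have : (PresheafOfModules.toPresheaf.{u} O).ReflectsIsomorphisms :=
          inferInstance
        have : ReflectsFiniteLimits (PresheafOfModules.toPresheaf.{u} O) :=
          ⟨fun _ _ _ => reflectsLimitsOfShape_of_reflectsIsomorphisms⟩
        exact HasExactColimitsOfShape.domain_of_functor K (PresheafOfModules.toPresheaf.{u} O)⟩ }
  exact Groth.Agent.S0928.functorial_injective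

end Groth.Agent.S0929
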