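import Groth.Statements.S0934
import Groth.Agent.H8Props.FunDescent.Stalk
import Groth.Agent.H11Tilde.TwistPow
import Groth.Agent.H11Tilde.ModLoc
-- import your own Groth.Agent.* helpers here

set_option autoImplicit false
universe u
open CategoryTheory
open Coh

namespace Groth.Agent.S0934


open CategoryTheory CategoryTheory.Limits AlgebraicGeometry Opposite TopologicalSpace

theorem unit_ext {Y : Scheme.{u}} {M : Y.Modules} (a b : Coh.structureModule Y ⟶ M)
    (h : a.app ⊤ (1 : Γ(Y, ⊤)) = b.app ⊤ (1 : Γ(Y, ⊤))) : a = b := by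
  have key : ∀ (c : Coh.structureModule Y ⟶ M) (V : Y.Opens) (r : Γ(Y, V)),
      c.app V r = r • M.presheaf.map (homOfLE (le_top : V ≤ ⊤)).op (c.app ⊤ (1 : Γ(Y, ⊤))) := by
    intro c V r
    have h2 : c.app V (Y.presheaf.map (homOfLE (le_top : V ≤ ⊤)).op (1 : Γ(Y, ⊤))) =
        M.presheaf.map (homOfLE (le_top : V ≤ ⊤)).op (c.app ⊤ (1 : Γ(Y, ⊤))) :=
      congr($(c.mapPresheaf.naturality (homOfLE (le_top : V ≤ ⊤)).op) (1 : Γ(Y, ⊤)))
    rw [← h2, map_one]
    refine Eq.trans ?_ (Scheme.Modules.Hom.app_smul c r (1 : Γ(Y, V)))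
    exact congrArg (c.app V) (mul_one r).symm
  refine Scheme.Modules.hom_ext _ _ fun V => ?_
  ext (r : Γ(Y, V))
  show a.app V r = b.app V r
  rw [key a, key b, h]

theorem exists_restrict_lift {V Y : Scheme.{u}} (j : V ⟶ Y) [IsOpenImmersion j] {F G : Y.Modules}
    (p : G ⟶ F) {n : ℕ} (a : FlatMod.freeMod Y n ⟶ F) (s : Fin n → Γ(G, j ''ᵁ ⊤))
    (hs : ∀ i, p.app (j ''ᵁ ⊤) (s i) = F.presheaf.map (homOfLE (le_top : j ''ᵁ ⊤ ≤ ⊤)).op
      ((Sigma.ι (fun _ : Fin n => Coh.structureModule Y) i ≫ a).app ⊤ (1 : Γ(Y, ⊤)))) :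
    ∃ ψ : (FlatMod.freeMod Y n).restrict j ⟶ G.restrict j,
      ψ ≫ (Scheme.Modules.restrictFunctor j).map p = (Scheme.Modules.restrictFunctor j).map a := by
  let adj := Scheme.Modules.restrictAdjunction j
  let g : FlatMod.freeMod Y n ⟶ (Scheme.Modules.pushforward j).obj (G.restrict j) :=
    Sigma.desc fun i => H11Tilde.homOfGlobal ((Scheme.Modules.pushforward j).obj (G.restrict j)) (s i)
  refine ⟨(adj.homEquiv _ _).symm g, ?_⟩
  apply (adj.homEquiv _ _).injective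
  rw [Adjunction.homEquiv_naturality_right, Equiv.apply_symm_apply]
  refine Sigma.hom_ext _ _ fun i => ?_
  rw [← Category.assoc]
  refine (congrArg (· ≫ (Scheme.Modules.pushforward j).map ((Scheme.Modules.restrictFunctor j).map p))
    (Sigma.ι_desc _ i)).trans ?_
  rw [Adjunction.homEquiv_unit]
  refine Eq.trans ?_ (congrArg (Sigma.ι (fun _ : Fin n => Coh.structureModule Y) i ≫ ·)
    (adj.unit.naturality a))
  dsimp only [Functor.id_map]
  rw [← Category.assoc]
  refine unit_ext _ _ ?_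
  have key : F.presheaf.map (homOfLE (j.image_preimage_le ⊤)).op
      ((Sigma.ι (fun _ : Fin n => Coh.structureModule Y) i ≫ a).app ⊤ (1 : Γ(Y, ⊤))) =
      p.app (j ''ᵁ ⊤) ((1 : Γ(Y, ⊤)) •
        ((Scheme.Modules.pushforward j).obj (G.restrict j)).presheaf.map
          (homOfLE (le_top : (⊤ : Y.Opens) ≤ ⊤)).op (s i)) := by
    rw [one_smul]
    have h1 : ((Scheme.Modules.pushforward j).obj (G.restrict j)).presheaf.map
        (homOfLE (le_top : (⊤ : Y.Opens) ≤ ⊤)).op (s i) = s i :=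
      H10Coh.mres_self _ _ (s i)
    rw [h1]
    exact (hs i).symm
  exact key.symm



open AlgebraicGeometry in
/-- Schemes; E finite locally free, which on a scheme is locally the same as a direct summand of a
finite free module: let p : G -> F be an epimorphism of O_X-modules and φ : E -> F a morphism with E
finite locally free. Then every point has an open neighbourhood V and a morphism ψ : E|_V -> G|_V
with ψ ≫ p|_V = φ|_V. -/
theorem result {X : Scheme.{u}} {E F G : X.Modules} (p : G ⟶ F) [Epi p] (φ : E ⟶ F)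
    (hE : FlatMod.IsFinLocFree E) (x : X) :
    ∃ (V : X.Opens) (ψ : E.restrict V.ι ⟶ G.restrict V.ι), x ∈ V ∧
      ψ ≫ (Scheme.Modules.restrictFunctor V.ι).map p = (Scheme.Modules.restrictFunctor V.ι).map φ := by

  obtain ⟨U, n, hxU, ⟨e⟩⟩ := hE x
  let p' := (Scheme.Modules.restrictFunctor U.ι).map p
  haveI : Epi p' := inferInstance
  let a : FlatMod.freeMod (↑U) n ⟶ F.restrict U.ι :=
    e.inv ≫ (Scheme.Modules.restrictFunctor U.ι).map φ
  let t : Fin n → Γ(F.restrict U.ι, ⊤) := fun i =>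
    (Limits.Sigma.ι (fun _ : Fin n => Coh.structureModule (↑U : Scheme.{u})) i ≫ a).app ⊤
      (1 : Γ((↑U : Scheme.{u}), ⊤))
  have hloc : ∀ i, ∃ (W : (↑U : Scheme.{u}).Opens) (_ : (⟨x, hxU⟩ : ↥U) ∈ W) (w : Γ(G.restrict U.ι, W)),
      p'.app W w = (F.restrict U.ι).presheaf.map (homOfLE (le_top : W ≤ ⊤)).op (t i) := by
    intro i
    obtain ⟨b, hb⟩ := (H8Props.FunDescent.epi_iff p').1 inferInstance ⟨x, hxU⟩
      ((F.restrict U.ι).presheaf.germ ⊤ (⟨x, hxU⟩ : ↥U) trivial (t i))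
    obtain ⟨W₀, hxW₀, b, rfl⟩ := (G.restrict U.ι).presheaf.exists_germ_eq b
    erw [H06Mod.stalkLin_germ] at hb
    obtain ⟨W, hxW, i₁, i₂, hij⟩ := (F.restrict U.ι).presheaf.germ_eq _ hxW₀ _ _ _ hb
    exact ⟨W, hxW, (G.restrict U.ι).presheaf.map i₁.op b,
      (H11Tilde.app_map_apply p' (leOfHom i₁) b).trans hij⟩
  choose W hxW w hw using hloc
  obtain ⟨W', hW', hxW'⟩ : ∃ W' : (↑U : Scheme.{u}).Opens, (∀ i, W' ≤ W i) ∧ (⟨x, hxU⟩ : ↥U) ∈ W' := by
    refine ⟨⟨⋂ i, (W i).carrier, isOpen_iInter_of_finite fun i => (W i).isOpen⟩, fun i y hy => ?_, ?_⟩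
    · exact Set.mem_iInter.1 hy i
    · exact Set.mem_iInter.2 hxW
  let V : X.Opens := U.ι ''ᵁ W'
  have hVU : V ≤ U := by
    rintro y ⟨z, -, rfl⟩
    exact z.2
  let j := X.homOfLE hVU
  have hj : ∀ i, j ''ᵁ ⊤ ≤ W i := by
    rintro i y ⟨z, -, rfl⟩
    obtain ⟨z', hz', hzz'⟩ := z.2
    have : z' = j z := Subtype.ext (hzz'.trans (X.homOfLE_apply' hVU z.1 z.2 ▸ rfl))
    exact hW' i (this ▸ hz')
  obtain ⟨ψ, hψ⟩ := exists_restrict_lift j p' a
    (fun i => (G.restrict U.ι).presheaf.map (homOfLE (hj i)).op (w i)) fun i => by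
      rw [H11Tilde.app_map_apply, hw i]
      exact H10Coh.mres_mres _ _ _ (t i)
  let r := Scheme.Modules.restrictFunctorCongr (X.homOfLE_ι hVU).symm ≪≫
    Scheme.Modules.restrictFunctorComp j U.ι
  refine ⟨V, r.hom.app E ≫ (Scheme.Modules.restrictFunctor j).map e.hom ≫ ψ ≫ r.inv.app G,
    ⟨⟨x, hxU⟩, hxW', rfl⟩, ?_⟩
  simp only [Category.assoc]
  rw [← r.inv.naturality p]
  dsimp only [Functor.comp_map]
  rw [reassoc_of% hψ, ← Category.assoc ((Scheme.Modules.restrictFunctor j).map e.hom),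
    ← Functor.map_comp, e.hom_inv_id_assoc]
  exact NatIso.naturality_2 r φ


end Groth.Agent.S0934
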