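import Groth.Statements.S0935
import Groth.Agent.H16Derived.KFlat.PushPull

set_option autoImplicit false
universe u
open CategoryTheory
attribute [local instance] HasDerivedCategory.standard
open DCoh

namespace Groth.Agent.S0935

open CategoryTheory.Limits Pretriangulated Groth.Agent.H16Derived.KFlat

open AlgebraicGeometry CategoryTheory.Limits in
/-- Let f : X → Y be a morphism of schemes and (K_n)_{n ≥ 0} an inverse system in D(O_X) with derived
limit L. Then Rf_*L is a derived limit of the system (Rf_*K_n). Here Rf_* is the total right derived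
functor of f_* under its existence binder, and the two countable products ∏ K_n and ∏ Rf_*K_n are
assumed to exist. (The published statement is for morphisms of ringed spaces; stated here for
schemes.) -/
theorem result {X Y : Scheme.{u}} (f : X ⟶ Y) [DCoh.HasRpush f]
    (K : ℕ → DCoh.D X) (t : ∀ n, K (n + 1) ⟶ K n) [HasProduct K] [HasProduct fun n => (DCoh.Rpush f).obj (K n)]
    (L : DCoh.D X) (hL : DCoh.IsRlim K t L) :
    DCoh.IsRlim (fun n => (DCoh.Rpush f).obj (K n)) (fun n => (DCoh.Rpush f).map (t n)) ((DCoh.Rpush f).obj L) := by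
  obtain ⟨a, c, hT⟩ := hL
  letI := Stalk.rpushCommShift f
  haveI := Stalk.rpush_isTriangulated f
  haveI := Stalk.rpush_isRightAdjoint f
  haveI : PreservesLimit (Discrete.functor K) (DCoh.Rpush f) :=
    (Adjunction.ofIsRightAdjoint (DCoh.Rpush f)).rightAdjoint_preservesLimits.preservesLimitsOfShape.preservesLimit
  let G := DCoh.Rpush f
  let e := PreservesProduct.iso G K
  refine ⟨G.map a ≫ e.hom, e.inv ≫ G.map c ≫ (G.commShiftIso (1 : ℤ)).hom.app L, ?_⟩
  refine isomorphic_distinguished _ (G.map_distinguished _ hT) _ ?_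
  refine Triangle.isoMk _ _ (Iso.refl _) e.symm e.symm ?_ ?_ ?_
  · show (G.map a ≫ e.hom) ≫ e.inv = 𝟙 _ ≫ G.map a
    rw [Category.assoc, e.hom_inv_id, Category.comp_id, Category.id_comp]
  · show Pi.lift _ ≫ e.inv = e.inv ≫ G.map (Pi.lift _)
    rw [Iso.comp_inv_eq, Category.assoc, Iso.eq_inv_comp]
    refine Pi.hom_ext _ _ fun n => ?_
    simp [e, G, ← Functor.map_comp, Functor.map_sub, piComparison_comp_π_assoc, Preadditive.comp_sub]
  · show (e.inv ≫ G.map c ≫ (G.commShiftIso (1 : ℤ)).hom.app L) ≫ (shiftFunctor _ (1 : ℤ)).map (𝟙 _) =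
      e.inv ≫ G.map c ≫ (G.commShiftIso (1 : ℤ)).hom.app L
    rw [CategoryTheory.Functor.map_id]
    exact Category.comp_id _

end Groth.Agent.S0935
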