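import Groth.Statements.S0938
import Groth.Agent.H22Alg.PB.Sect
import Groth.Agent.H29Fitt.FreeLocal
import Groth.Agent.H29Fitt.FP
import Mathlib.CategoryTheory.Idempotents.Basic
-- import your own Groth.Agent.* helpers here

set_option autoImplicit false
set_option linter.style.haveILetI false
set_option backward.isDefEq.respectTransparency false
universe u
open CategoryTheory
open Coh

namespace Groth.Agent.S0938

section
open AlgebraicGeometry CategoryTheory CategoryTheory.Limits TopologicalSpace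

variable {X : Scheme.{u}}

/-- Retracts of finite free modules. -/
abbrev PSrc : ObjectProperty X.Modules := fun M =>
  ∃ (n : ℕ) (i : M ⟶ FlatMod.freeMod X n) (r : FlatMod.freeMod X n ⟶ M), i ≫ r = 𝟙 M

/-- Finite projective modules. -/
abbrev PTgt : ObjectProperty (ModuleCat.{u} (Γ(X, ⊤))) := fun N =>
  Module.Finite (Γ(X, ⊤)) N ∧ Module.Projective (Γ(X, ⊤)) N

/-- The global sections of a finite free module. -/
noncomputable def lc (n : ℕ) : (Fin n → Γ(X, ⊤)) ≃ₗ[Γ(X, ⊤)] Γ(FlatMod.freeMod X n, ⊤) :=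
  LinearEquiv.ofBijective (Fintype.linearCombination Γ(X, ⊤) fun j => H29Fitt.gen X n j ⊤) <| by
    refine ⟨?_, fun z => ?_⟩
    · rw [← LinearMap.ker_eq_bot, LinearMap.ker_eq_bot']
      exact fun c hc => H29Fitt.gen_independent n ⊤ c hc
    · exact H29Fitt.exists_eq_sum_gen n ⊤ z

theorem lc_single (n : ℕ) (j : Fin n) [DecidableEq (Fin n)] : lc (X := X) n (Pi.single j 1) = H29Fitt.gen X n j ⊤ := by
  simp [lc]

theorem freeHom_gen_top {n : ℕ} (N : X.Modules) (s : Fin n → Γ(N, ⊤)) (j : Fin n) :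
    (H29Fitt.freeHom N s).app ⊤ (H29Fitt.gen X n j ⊤) = s j := by
  rw [H29Fitt.freeHom_gen]
  exact ConcreteCategory.congr_hom (N.presheaf.map_id _) (s j)

theorem freeHom_lc {n : ℕ} (N : X.Modules) (g : (Fin n → Γ(X, ⊤)) →ₗ[Γ(X, ⊤)] Γ(N, ⊤)) (v : Fin n → Γ(X, ⊤)) :
    (H29Fitt.freeHom N fun j => g (Pi.single j 1)).app ⊤ (lc n v) = g v := by
  classical
  have h : (H29Fitt.appLin (H29Fitt.freeHom N fun j => g (Pi.single j 1)) ⊤) ∘ₗ (lc n).toLinearMap = g := by
    refine LinearMap.pi_ext' fun j => LinearMap.ext_ring ?_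
    show (H29Fitt.freeHom N fun j => g (Pi.single j 1)).app ⊤ (lc n (Pi.single j 1)) = g (Pi.single j 1)
    rw [lc_single, freeHom_gen_top]
  exact LinearMap.congr_fun h v

theorem isProjective_sections {M : X.Modules} (hM : PSrc M) :
    PTgt (ModuleCat.of Γ(X, ⊤) Γ(M, ⊤)) := by
  obtain ⟨n, i, r, hir⟩ := hM
  have hl : ((H29Fitt.appLin r ⊤) ∘ₗ (lc n).toLinearMap) ∘ₗ ((lc n).symm.toLinearMap ∘ₗ H29Fitt.appLin i ⊤) =
      LinearMap.id := by
    refine LinearMap.ext fun m => ?_
    simp only [LinearMap.comp_apply, LinearEquiv.coe_coe, LinearEquiv.apply_symm_apply, LinearMap.id_apply]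
    exact congr(($hir).app ⊤ m)
  exact ⟨Module.Finite.of_surjective ((H29Fitt.appLin r ⊤) ∘ₗ (lc n).toLinearMap)
      (LinearMap.range_eq_top.1 (LinearMap.range_eq_top.2 fun m => ⟨_, LinearMap.congr_fun hl m⟩)),
    Module.Projective.of_split _ _ hl⟩

/-- Global sections. -/
noncomputable def secFun : (PSrc (X := X)).FullSubcategory ⥤ (PTgt (X := X)).FullSubcategory where
  obj M := ⟨ModuleCat.of Γ(X, ⊤) Γ(M.obj, ⊤), isProjective_sections M.property⟩
  map φ := ObjectProperty.homMk (ModuleCat.ofHom (H29Fitt.appLin φ.hom ⊤))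
  map_id _ := rfl
  map_comp _ _ := rfl

instance : (secFun (X := X)).Faithful where
  map_injective {M N φ ψ} h := by
    obtain ⟨n, i, r, hir⟩ := M.property
    haveI : IsSplitEpi r := IsSplitEpi.mk' ⟨i, hir⟩
    refine InducedCategory.hom_ext ((cancel_epi r).1 (H22Alg.PB.free_hom_ext fun j => ?_))
    exact congr(($h).hom (r.app ⊤ (H29Fitt.gen X n j ⊤)))

instance : (secFun (X := X)).Full where
  map_surjective {M N} g := by
    obtain ⟨n, i, r, hir⟩ := M.property
    let g' : (Fin n → Γ(X, ⊤)) →ₗ[Γ(X, ⊤)] Γ(N.obj, ⊤) :=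
      g.hom.hom ∘ₗ H29Fitt.appLin r ⊤ ∘ₗ (lc n).toLinearMap
    refine ⟨ObjectProperty.homMk (i ≫ H29Fitt.freeHom N.obj fun j => g' (Pi.single j 1)), ?_⟩
    refine InducedCategory.hom_ext (ModuleCat.hom_ext (LinearMap.ext fun m => ?_))
    show (H29Fitt.freeHom N.obj fun j => g' (Pi.single j 1)).app ⊤ (i.app ⊤ m) = g.hom m
    rw [← (lc n).apply_symm_apply (i.app ⊤ m), freeHom_lc]
    show g.hom (r.app ⊤ (lc n ((lc n).symm (i.app ⊤ m)))) = g.hom m
    rw [LinearEquiv.apply_symm_apply]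
    exact congrArg g.hom (congr(($hir).app ⊤ m))

instance : (secFun (X := X)).EssSurj where
  mem_essImage N := by
    classical
    obtain ⟨hf, hp⟩ := N.property
    obtain ⟨n, π, hπ⟩ := Module.Finite.exists_fin' Γ(X, ⊤) N.obj
    obtain ⟨s, hs⟩ := Module.projective_lifting_property π LinearMap.id hπ
    let F := FlatMod.freeMod X n
    let g : (Fin n → Γ(X, ⊤)) →ₗ[Γ(X, ⊤)] Γ(F, ⊤) := (lc n).toLinearMap ∘ₗ s ∘ₗ π
    let E : F ⟶ F := H29Fitt.freeHom F fun j => g (Pi.single j 1)
    have hE : ∀ v, E.app ⊤ (lc n v) = lc n (s (π v)) := fun v => freeHom_lc F g v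
    have hπs : ∀ a, π (s a) = a := fun a => LinearMap.congr_fun hs a
    have hEE : E ≫ E = E := by
      refine H22Alg.PB.free_hom_ext fun j => ?_
      rw [← lc_single n j]
      show E.app ⊤ (E.app ⊤ _) = E.app ⊤ _
      rw [hE, hE, hπs]
    obtain ⟨M, i, r, hir, hri⟩ := IsIdempotentComplete.idempotents_split F E hEE
    refine ⟨⟨M, n, i, r, hir⟩, ⟨(PTgt (X := X)).isoMk (LinearEquiv.toModuleIso ?_)⟩⟩
    refine LinearEquiv.ofLinear (π ∘ₗ (lc n).symm.toLinearMap ∘ₗ H29Fitt.appLin i ⊤)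
      (H29Fitt.appLin r ⊤ ∘ₗ (lc n).toLinearMap ∘ₗ s) (LinearMap.ext fun a => ?_) (LinearMap.ext fun m => ?_)
    · show π ((lc n).symm ((r ≫ i).app ⊤ (lc n (s a)))) = a
      rw [hri, hE, LinearEquiv.symm_apply_apply, hπs, hπs]
    · show r.app ⊤ (lc n (s (π ((lc n).symm (i.app ⊤ m))))) = m
      rw [← hE, LinearEquiv.apply_symm_apply]
      have h1 : i ≫ E ≫ r = 𝟙 M := by
        rw [← hri, Category.assoc, hir, Category.comp_id, hir]
      exact congr(($h1).app ⊤ m)

instance : (secFun (X := X)).IsEquivalence where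

end


open AlgebraicGeometry CategoryTheory.Limits in
/-- For a scheme X with R = Γ(X, O_X), the full subcategory of O_X-modules which are retracts of a
finite free O_X-module is equivalent to the full subcategory of R-modules which are finite and
projective (existence of an equivalence of categories). The published statement is for ringed
spaces; stated here for schemes. -/
theorem result {X : Scheme.{u}} :
    Nonempty ((ObjectProperty.FullSubcategory fun M : X.Modules =>
        ∃ (n : ℕ) (i : M ⟶ FlatMod.freeMod X n) (r : FlatMod.freeMod X n ⟶ M), i ≫ r = 𝟙 M) ≌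
      (ObjectProperty.FullSubcategory fun N : ModuleCat.{u} (Γ(X, ⊤)) =>
        Module.Finite (Γ(X, ⊤)) N ∧ Module.Projective (Γ(X, ⊤)) N)) := by
  exact ⟨(secFun (X := X)).asEquivalence⟩

end Groth.Agent.S0938
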