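import Groth.Statements.S0945
import Groth.Agent.H16Derived.Thomason.Glue

set_option autoImplicit false
universe u
open CategoryTheory
attribute [local instance] HasDerivedCategory.standard
open DCoh

namespace Groth.Agent.S0945

open AlgebraicGeometry CategoryTheory.Limits in
/-- Schemes; existence part only — the compatibility of the glued object with the given isomorphism on U
∩ V and the extension of morphisms are not asserted: let X = U ∪ V be a union of two opens, A an
object of D(O_U) and B an object of D(O_V) whose restrictions to U ∩ V are isomorphic. Then there is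
an object F of D(O_X) with F|_U ≅ A and F|_V ≅ B. Restrictions on derived categories are defs2's
restrictD along the open immersions, each under its exactness binder. -/
theorem result {X : Scheme.{u}} (U V : X.Opens) (hUV : U ⊔ V = ⊤)
    [PreservesFiniteLimits (Scheme.Modules.restrictFunctor U.ι)]
    [PreservesFiniteLimits (Scheme.Modules.restrictFunctor V.ι)]
    [PreservesFiniteLimits (Scheme.Modules.restrictFunctor (X.homOfLE (inf_le_left : U ⊓ V ≤ U)))]
    [PreservesFiniteLimits (Scheme.Modules.restrictFunctor (X.homOfLE (inf_le_right : U ⊓ V ≤ V)))]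
    (A : DCoh.D (U : Scheme.{u})) (B : DCoh.D (V : Scheme.{u}))
    (c : (DCoh.restrictD (X.homOfLE (inf_le_left : U ⊓ V ≤ U))).obj A ≅
      (DCoh.restrictD (X.homOfLE (inf_le_right : U ⊓ V ≤ V))).obj B) :
    ∃ F : DCoh.D X, Nonempty ((DCoh.restrictD U.ι).obj F ≅ A) ∧ Nonempty ((DCoh.restrictD V.ι).obj F ≅ B) := by
  exact H16Derived.Thomason.exists_glue U V A B c

end Groth.Agent.S0945
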