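import Groth.Statements.S0955
import Groth.Agent.H16Derived.KFlat.FlatCover
import Groth.Agent.H16Derived.KFlat.FlatIff

set_option autoImplicit false
universe u
open CategoryTheory
attribute [local instance] HasDerivedCategory.standard
open DCoh

namespace Groth.Agent.S0955

open CategoryTheory CategoryTheory.Limits
open Groth.Agent.H16Derived.KFlat

open AlgebraicGeometry in
/-- Every complex G of O_X-modules is the target of a degreewise epimorphic quasi-isomorphism K -> G
from a K-flat complex K all of whose terms are flat. -/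
theorem result {X : Scheme.{u}} (G : CochainComplex X.Modules ℤ) :
    ∃ (K : CochainComplex X.Modules ℤ) (q : K ⟶ G), DCoh.IsKFlat K ∧ (∀ n : ℤ, FlatMod.IsFlat (K.X n)) ∧
      QuasiIso q ∧ ∀ n : ℤ, Epi (q.f n) := by
  exact ⟨_, (Stalk.resψ (X := X)).app G, (isKFlat_iff_homology (DCoh.tensorBi (X := X)) _).1 (Stalk.isKFlat_res G),
    fun n => Stalk.isFlat_of_isFlatObj
      (Res.isFlatObj_P (fun M => Stalk.isFlatObj_of_isFlat (Stalk.isFlat_cover M)) G n),
    Stalk.quasiIso_resψ G, Stalk.epi_resψ G⟩

end Groth.Agent.S0955
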