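import Groth.Statements.S0957
import Groth.Agent.H16Derived.KFlat.SheafTensor

set_option autoImplicit false
universe u
open CategoryTheory
attribute [local instance] HasDerivedCategory.standard
open DCoh

namespace Groth.Agent.S0957

open CategoryTheory CategoryTheory.Limits
open Groth.Agent.H16Derived.KFlat

open AlgebraicGeometry in
/-- Let 0 -> K₁ -> K₂ -> K₃ -> 0 be a short exact sequence of complexes of O_X-modules such that every
term of K₃ is a flat O_X-module. If two of K₁, K₂, K₃ are K-flat then so is the third. -/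
theorem result {X : Scheme.{u}} (S : ShortComplex (CochainComplex X.Modules ℤ))
    (hS : S.ShortExact) (h3 : ∀ n : ℤ, FlatMod.IsFlat (S.X₃.X n)) :
    (DCoh.IsKFlat S.X₁ → DCoh.IsKFlat S.X₂ → DCoh.IsKFlat S.X₃) ∧
    (DCoh.IsKFlat S.X₁ → DCoh.IsKFlat S.X₃ → DCoh.IsKFlat S.X₂) ∧
    (DCoh.IsKFlat S.X₂ → DCoh.IsKFlat S.X₃ → DCoh.IsKFlat S.X₁) := by
  have hF : IsFSES (F := DCoh.tensorBi (X := X)) S := fun a q =>
    Stalk.shortExact_tensor_of_isFlat a (hS.map_of_exact (HomologicalComplex.eval X.Modules _ q)) (h3 q)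
  have e : ∀ K : CochainComplex X.Modules ℤ,
      IsKFlat (DCoh.tensorBi (X := X)) K ↔ DCoh.IsKFlat K := fun K => isKFlat_iff_homology (DCoh.tensorBi (X := X)) K
  refine ⟨fun h1 h2 => (e _).1 ?_, fun h1 h3 => (e _).1 ?_, fun h2 h3 => (e _).1 ?_⟩
  · exact hF.isKFlat₃ ((e _).2 h1) ((e _).2 h2)
  · exact hF.isKFlat₂ ((e _).2 h1) ((e _).2 h3)
  · exact hF.isKFlat₁ ((e _).2 h2) ((e _).2 h3)

end Groth.Agent.S0957
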