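import Groth.Statements.S0958
import Groth.Agent.H16Derived.KFlat.FlatCover
import Groth.Agent.H16Derived.KFlat.FlatIff
import Groth.Agent.H16Derived.KFlat.Cone

set_option autoImplicit false
universe u
open CategoryTheory
attribute [local instance] HasDerivedCategory.standard
open DCoh

namespace Groth.Agent.S0958

open CategoryTheory CategoryTheory.Limits
open Groth.Agent.H16Derived.KFlat

open AlgebraicGeometry in
/-- On a scheme X, let a : K → L be a morphism of complexes of O_X-modules with K K-flat. Then there are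
a K-flat complex N, a morphism b : K → N and a quasi-isomorphism c : N → L with a homotopic to b ≫
c; if moreover all terms of K are flat, N can be taken with flat terms as well. -/
theorem result {X : Scheme.{u}} {K L : CochainComplex X.Modules ℤ} (a : K ⟶ L) (hK : DCoh.IsKFlat K) :
    ∃ (N : CochainComplex X.Modules ℤ) (b : K ⟶ N) (c : N ⟶ L), DCoh.IsKFlat N ∧ QuasiIso c ∧
      Nonempty (Homotopy a (b ≫ c)) ∧ ((∀ n : ℤ, FlatMod.IsFlat (K.X n)) → ∀ n : ℤ, FlatMod.IsFlat (N.X n)) := by
  haveI := Stalk.quasiIso_resψ K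
  haveI := Stalk.quasiIso_resψ L
  obtain ⟨N, b, c, hN, hc, hbc, hf⟩ := exists_factor (F := DCoh.tensorBi (X := X)) a
    ((Stalk.resψ (X := X)).app K) ((Stalk.resψ (X := X)).app L) ((Stalk.res (X := X)).map a)
    ((Stalk.resψ (X := X)).naturality a) ((isKFlat_iff_homology (DCoh.tensorBi (X := X)) K).2 hK)
    (Stalk.isKFlat_res K) (Stalk.isKFlat_res L)
  have hP : ∀ (G : CochainComplex X.Modules ℤ) (q : ℤ),
      IsFlatObj (DCoh.tensorBi (X := X)) (((Stalk.res (X := X)).obj G).X q) :=
    Res.isFlatObj_P fun M => Stalk.isFlatObj_of_isFlat (Stalk.isFlat_cover M)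
  exact ⟨N, b, c, (isKFlat_iff_homology (DCoh.tensorBi (X := X)) N).1 hN, hc,
    ⟨Homotopy.ofEq hbc.symm⟩, fun hKf n => Stalk.isFlat_of_isFlatObj
      (hf (fun q => Stalk.isFlatObj_of_isFlat (hKf q)) (hP K) (hP L) n)⟩

end Groth.Agent.S0958
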