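import Groth.Statements.S0959
import Groth.Agent.H16Derived.KFlat.PullDerived

set_option autoImplicit false
universe u
open CategoryTheory
attribute [local instance] HasDerivedCategory.standard
open DCoh

namespace Groth.Agent.S0959

open AlgebraicGeometry in
/-- For a morphism f : X -> Y the functor f^* on complexes of O_Y-modules admits a total left derived
functor Lf^* : D(O_Y) -> D(O_X) (the derived functor is everywhere defined). In the prelude's terms:
the existence hypothesis DCoh.HasLpull f holds. -/
theorem result {X Y : Scheme.{u}} (f : X ⟶ Y) : DCoh.HasLpull f := by
  exact Groth.Agent.H16Derived.KFlat.Stalk.hasLpull f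

end Groth.Agent.S0959
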