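import Groth.Statements.S0961
import Groth.Agent.H16Derived.ProjFormula.Main

set_option autoImplicit false
universe u
open CategoryTheory
attribute [local instance] HasDerivedCategory.standard
open DCoh

namespace Groth.Agent.S0961

open AlgebraicGeometry in
/-- Schemes; K given by a K-flat complex P representing a perfect object, so that Lf^*K is f^*P: for f :
X -> Y, E in D(O_X) and such a P there is an isomorphism Rf_* E ⊗^L P ≅ Rf_*(E ⊗^L f^* P). The
derived functors are taken under their existence binders. -/
theorem result {X Y : Scheme.{u}} (f : X ⟶ Y) [DCoh.HasRpush f] (P : CochainComplex Y.Modules ℤ)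
    (hP : DCoh.IsKFlat P) (hperf : DCoh.IsPerfect (DerivedCategory.Q.obj P))
    [DCoh.HasLTensorCx P] [DCoh.HasLTensorCx (((Scheme.Modules.pullback f).mapHomologicalComplex (ComplexShape.up ℤ)).obj P)] (E : DCoh.D X) :
    Nonempty ((DCoh.LTensorCx P).obj ((DCoh.Rpush f).obj E) ≅
      (DCoh.Rpush f).obj ((DCoh.LTensorCx (((Scheme.Modules.pullback f).mapHomologicalComplex (ComplexShape.up ℤ)).obj P)).obj E)) := by
  exact H16Derived.ProjFormula.nonempty_projection_formula P hP hperf E

end Groth.Agent.S0961
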