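import Groth.Statements.S0963
import Groth.Agent.H16Derived.KFlat.TorAmp

set_option autoImplicit false
universe u
open CategoryTheory
attribute [local instance] HasDerivedCategory.standard
open DCoh

namespace Groth.Agent.S0963

open CategoryTheory CategoryTheory.Limits CategoryTheory.Pretriangulated
open Groth.Agent.H16Derived.KFlat
attribute [local instance] HasDerivedCategory.standard

open AlgebraicGeometry CategoryTheory.Pretriangulated in
/-- Schemes; hypotheses in the flat-representative form of tor-amplitude, conclusions in the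
derived-tensor form: for a distinguished triangle K -> L -> M -> K[1] in D(O_X) and integers a, b:
(1) tor-amplitude of K in [a+1, b+1] and of L in [a, b] give tor-amplitude of M in [a, b]; (2)
tor-amplitude of K and of M in [a, b] give the same for L; (3) tor-amplitude of L in [a+1, b+1] and
of M in [a, b] give tor-amplitude of K in [a+1, b+1]. -/
theorem result {X : Scheme.{u}} (T : Triangle (DCoh.D X)) (hT : T ∈ distinguishedTriangles)
    (a b : ℤ) :
    (DCoh.HasFlatAmplitudeIn (a + 1) (b + 1) T.obj₁ → DCoh.HasFlatAmplitudeIn a b T.obj₂ →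
      DCoh.HasTorAmplitudeIn a b T.obj₃) ∧
    (DCoh.HasFlatAmplitudeIn a b T.obj₁ → DCoh.HasFlatAmplitudeIn a b T.obj₃ → DCoh.HasTorAmplitudeIn a b T.obj₂) ∧
    (DCoh.HasFlatAmplitudeIn (a + 1) (b + 1) T.obj₂ → DCoh.HasFlatAmplitudeIn a b T.obj₃ →
      DCoh.HasTorAmplitudeIn (a + 1) (b + 1) T.obj₁) := by
  refine ⟨fun h₁ h₂ M _ i hi => ?_, fun h₁ h₃ M _ i hi => ?_, fun h₂ h₃ M _ i hi => ?_⟩
  all_goals
    letI := Stalk.ltensorModCommShift M
    haveI := Stalk.ltensorMod_isTriangulated M
  all_goals have hT' := (DCoh.LTensorMod M).map_distinguished T hT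
  · exact (DerivedCategory.HomologySequence.exact₃ _ hT' i (i + 1) rfl).isZero_X₂
      ((Stalk.hasTorAmplitudeIn_of_hasFlatAmplitudeIn h₂ M i hi).eq_of_src _ _)
      ((Stalk.hasTorAmplitudeIn_of_hasFlatAmplitudeIn h₁ M (i + 1) (by omega)).eq_of_tgt _ _)
  · exact (DerivedCategory.HomologySequence.exact₂ _ hT' i).isZero_X₂
      ((Stalk.hasTorAmplitudeIn_of_hasFlatAmplitudeIn h₁ M i hi).eq_of_src _ _)
      ((Stalk.hasTorAmplitudeIn_of_hasFlatAmplitudeIn h₃ M i hi).eq_of_tgt _ _)
  · exact (DerivedCategory.HomologySequence.exact₁ _ hT' (i - 1) i (by omega)).isZero_X₂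
      ((Stalk.hasTorAmplitudeIn_of_hasFlatAmplitudeIn h₃ M (i - 1) (by omega)).eq_of_src _ _)
      ((Stalk.hasTorAmplitudeIn_of_hasFlatAmplitudeIn h₂ M i hi).eq_of_tgt _ _)

end Groth.Agent.S0963
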