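import Groth.Statements.S0965
import Groth.Agent.H16Derived.Dual.Main

set_option autoImplicit false
universe u
open CategoryTheory
attribute [local instance] HasDerivedCategory.standard
open DCoh

namespace Groth.Agent.S0965

set_option linter.style.haveILetI false

open AlgebraicGeometry in
/-- Schemes; K given by a K-flat complex representing a perfect object, and the dual K^∨ represented by
a K-flat complex D: with K^∨ := RHom(K, O_X), (1) K^∨ is perfect, and (2) for every complex D which
is K-flat and represents K^∨, and every M in D(O_X), M ⊗^L D ≅ RHom(K, M). The derived tensor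
functors and RHom(K, -) are taken under their existence binders. (The biduality (K^∨)^∨ ≅ K and the
global-sections formula of the source are not asserted.) -/
theorem result {X : Scheme.{u}} (K : CochainComplex X.Modules ℤ) (hK : DCoh.IsKFlat K)
    (hKp : DCoh.IsPerfect (DerivedCategory.Q.obj K)) [DCoh.HasLTensorCx K] [DCoh.HasRSheafHom K] :
    DCoh.IsPerfect ((DCoh.RSheafHom K).obj ((DerivedCategory.singleFunctor X.Modules 0).obj (Coh.structureModule X))) ∧
    ∀ (D : CochainComplex X.Modules ℤ), DCoh.IsKFlat D →
      Nonempty (DerivedCategory.Q.obj D ≅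
        (DCoh.RSheafHom K).obj ((DerivedCategory.singleFunctor X.Modules 0).obj (Coh.structureModule X))) →
      ∀ [DCoh.HasLTensorCx D] (M : DCoh.D X),
        Nonempty ((DCoh.LTensorCx D).obj M ≅ (DCoh.RSheafHom K).obj M) := by
  refine ⟨H16Derived.KFlat.Stalk.isPerfect_of_iso (H16Derived.Dual.dualIso K).symm
    (H16Derived.Dual.isPerfect_ro hKp), ?_⟩
  intro D _ hD _ M
  obtain ⟨eD⟩ := hD
  exact ⟨((H16Derived.Dual.ltensorCxIsoT D).app M).symm ≪≫
    ((H16Derived.Dual.T X).obj M).mapIso (eD ≪≫ H16Derived.Dual.dualIso K) ≪≫
    H16Derived.Dual.θIso hKp M ≪≫ ((H16Derived.Dual.rsheafHomIso K).app M).symm⟩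

end Groth.Agent.S0965
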