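import Groth.Statements.S0967
import Groth.Agent.H16Derived.Dual.BiDual

set_option autoImplicit false
universe u
open CategoryTheory
attribute [local instance] HasDerivedCategory.standard
open DCoh

namespace Groth.Agent.S0967

set_option linter.style.haveILetI false

open AlgebraicGeometry in
/-- Schemes; K and L given by complexes with K K-flat and perfect, and RHom(K, L) represented by a
K-flat complex D: for every M in D(O_X) there is an isomorphism RHom(L, M) ⊗^L K ≅ RHom(D, M). The
derived tensor functors and internal RHom functors are taken under their existence binders. -/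
theorem result {X : Scheme.{u}} (K L : CochainComplex X.Modules ℤ) (hK : DCoh.IsKFlat K)
    (hKp : DCoh.IsPerfect (DerivedCategory.Q.obj K))
    [DCoh.HasLTensorCx K] [DCoh.HasRSheafHom K] [DCoh.HasLTensorCx L] [DCoh.HasRSheafHom L]
    (D : CochainComplex X.Modules ℤ) (hD : DCoh.IsKFlat D)
    (hDrep : Nonempty (DerivedCategory.Q.obj D ≅ (DCoh.RSheafHom K).obj (DerivedCategory.Q.obj L)))
    [DCoh.HasLTensorCx D] [DCoh.HasRSheafHom D] (M : DCoh.D X) :
    Nonempty ((DCoh.LTensorCx K).obj ((DCoh.RSheafHom L).obj M) ≅ (DCoh.RSheafHom D).obj M) := by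
  obtain ⟨e⟩ := hDrep
  exact ⟨((H16Derived.Dual.ltensorCxIsoT K).app _).symm ≪≫
    ((H16Derived.Dual.T X).mapIso ((H16Derived.Dual.rsheafHomIso L).app M)).app _ ≪≫
    H16Derived.Dual.evaluationIso hKp (DerivedCategory.Q.obj L) M ≪≫
    (H16Derived.Dual.RIso (e ≪≫ (H16Derived.Dual.rsheafHomIso K).app _)).symm.app M ≪≫
    ((H16Derived.Dual.rsheafHomIso D).app M).symm⟩

end Groth.Agent.S0967
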