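import Groth.Statements.S0971
import Groth.Agent.H16Derived.Resolution

set_option autoImplicit false
universe v u
open CategoryTheory
open CohDer

namespace Groth.Agent.S0971

/-- Let P be a class of objects in an abelian category containing a zero object and such that every
object is a quotient of an object in P. A cochain complex whose cohomology vanishes in degrees above
a receives a quasi-isomorphism from a complex with all terms in P which vanishes above degree a. -/
theorem result {A : Type u} [Category.{v} A] [Abelian A] (P : A → Prop)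
    (hP0 : ∃ Z : A, Limits.IsZero Z ∧ P Z) (hP : ∀ X : A, ∃ (Y : A) (π : Y ⟶ X), P Y ∧ Epi π)
    (K : CochainComplex A ℤ) (a : ℤ) (hK : ∀ n : ℤ, a < n → Limits.IsZero (K.homology n)) :
    ∃ (Q : CochainComplex A ℤ) (α : Q ⟶ K), Q.IsStrictlyLE a ∧ (∀ n, P (Q.X n)) ∧ QuasiIso α := by
  have hLE : K.IsLE a := (CochainComplex.isLE_iff _ _).2 fun i hi =>
    (HomologicalComplex.exactAt_iff_isZero_homology _ _).2 (hK i hi)
  have : QuasiIso (K.ιTruncLE a) := (CochainComplex.quasiIso_ιTruncLE_iff K a).2 hLE
  obtain ⟨Q, α, h₁, h₂, -, h₄⟩ :=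
    Groth.Agent.H16Derived.Resolution.exists_left_resolution P hP0 hP (K.truncLE a) a
  exact ⟨Q, α ≫ K.ιTruncLE a, h₁, h₂, inferInstance⟩

end Groth.Agent.S0971
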