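import Groth.Statements.S0973
import Groth.Agent.H16Derived.DTrunc
import Mathlib.CategoryTheory.Preadditive.AdditiveFunctor

set_option autoImplicit false
universe w v u
open CategoryTheory CategoryTheory.Limits
open CohDer

namespace Groth.Agent.S0973

open DerivedCategory DerivedCategory.TStructure CategoryTheory.Pretriangulated

lemma hom_eq_zero {A : Type u} [Category.{v} A] [Abelian A] [HasDerivedCategory.{w} A]
    (T : DerivedCategory A) :
    ∀ (n : ℕ) (W : DerivedCategory A) (a b : ℤ), W.IsGE a → W.IsLE b → b = a + n →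
      (∀ k, a ≤ k → k ≤ b →
        ∀ g : (singleFunctor A k).obj ((homologyFunctor A k).obj W) ⟶ T, g = 0) →
      ∀ f : W ⟶ T, f = 0 := by
  intro n
  induction n with
  | zero =>
    intro W a b _ _ hb h f
    obtain rfl : b = a := by simpa using hb
    obtain ⟨M, ⟨e⟩⟩ := W.exists_iso_singleFunctor_obj_of_isGE_of_isLE b
    let eM : (homologyFunctor A b).obj W ≅ M :=
      (homologyFunctor A b).mapIso e ≪≫ (singleFunctorCompHomologyFunctorIso A b).app M
    have := h b le_rfl le_rfl (((singleFunctor A b).mapIso eM ≪≫ e.symm).hom ≫ f)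
    rwa [← cancel_epi ((singleFunctor A b).mapIso eM ≪≫ e.symm).hom, comp_zero]
  | succ n ih =>
    intro W a b hW₁ hW₂ hb h f
    have : DerivedCategory.IsGE ((t.truncLT b).obj W) a :=
      Groth.Agent.H16Derived.DTrunc.isGE_truncLT W b a
    have : DerivedCategory.IsLE ((t.truncLT b).obj W) (b - 1) := inferInstanceAs (t.IsLE _ (b - 1))
    have h₁ : (t.truncLTι b).app W ≫ f = 0 := by
      refine ih _ a (b - 1) ‹_› ‹_› (by lia) (fun k hk hk' g => ?_) _
      have := Groth.Agent.H16Derived.DTrunc.isIso_homology_truncLTι W b k (by lia)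
      let e := (singleFunctor A k).mapIso (asIso ((homologyFunctor A k).map ((t.truncLTι b).app W)))
      rw [← cancel_epi e.inv, comp_zero]
      exact h k hk (by lia) _
    obtain ⟨g, hg⟩ := Triangle.yoneda_exact₂ _ (t.triangleLTGE_distinguished b W) f h₁
    have : DerivedCategory.IsGE ((t.truncGE b).obj W) b := inferInstanceAs (t.IsGE _ b)
    have : DerivedCategory.IsLE ((t.truncGE b).obj W) b :=
      Groth.Agent.H16Derived.DTrunc.isLE_truncGE W b b
    obtain ⟨M, ⟨e⟩⟩ :=
      DerivedCategory.exists_iso_singleFunctor_obj_of_isGE_of_isLE ((t.truncGE b).obj W) b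
    have := Groth.Agent.H16Derived.DTrunc.isIso_homology_truncGEπ W b b le_rfl
    let eM : (homologyFunctor A b).obj W ≅ M :=
      asIso ((homologyFunctor A b).map ((t.truncGEπ b).app W)) ≪≫
      (homologyFunctor A b).mapIso e ≪≫ (singleFunctorCompHomologyFunctorIso A b).app M
    have h₂ := h b (by lia) le_rfl (((singleFunctor A b).mapIso eM ≪≫ e.symm).hom ≫ g)
    have h₃ : g = 0 :=
      (cancel_epi ((singleFunctor A b).mapIso eM ≪≫ e.symm).hom).1 (h₂.trans comp_zero.symm)
    rw [hg]
    exact h₃.symm ▸ comp_zero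

/-- Let K be an object of the derived category of an abelian category with cohomology concentrated in
degrees a, …, b. Suppose that for all i > j and p ≥ 2 every morphism H^i(K) ⟶ H^j(K)[p] in the
derived category (an element of Ext^p) vanishes. Then K splits: it is isomorphic to ⨁_{a ≤ i ≤ b}
Hⁱ(K)[-i]. -/
theorem result {A : Type u} [Category.{v} A] [Abelian A] [HasDerivedCategory.{w} A]
    (K : DerivedCategory A) (a b : ℤ) [K.IsGE a] [K.IsLE b]
    (hExt : ∀ (i j : ℤ) (p : ℕ), j < i → 2 ≤ p →
      ∀ f : (DerivedCategory.singleFunctor A 0).obj ((DerivedCategory.homologyFunctor A i).obj K) ⟶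
        ((DerivedCategory.singleFunctor A 0).obj ((DerivedCategory.homologyFunctor A j).obj K))⟦(p : ℤ)⟧, f = 0)
    [HasBiproduct (fun i : Finset.Icc a b => (DerivedCategory.singleFunctor A (i : ℤ)).obj ((DerivedCategory.homologyFunctor A (i : ℤ)).obj K))] :
    Nonempty (K ≅ ⨁ (fun i : Finset.Icc a b => (DerivedCategory.singleFunctor A (i : ℤ)).obj ((DerivedCategory.homologyFunctor A (i : ℤ)).obj K))) := by
  open DerivedCategory DerivedCategory.TStructure CategoryTheory.Pretriangulated
    Groth.Agent.H16Derived in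
  classical
  -- vanishing
  have van : ∀ i k : ℤ, i < k →
      ∀ f : (singleFunctor A k).obj ((homologyFunctor A k).obj K) ⟶
        ((singleFunctor A i).obj ((homologyFunctor A i).obj K))⟦(1 : ℤ)⟧, f = 0 := by
    intro i k hik f
    let e₁ := ((singleFunctors A).shiftIso k 0 k (by simp)).app ((homologyFunctor A k).obj K)
    let e₀ := ((singleFunctors A).shiftIso (-i) i 0 (by simp)).app ((homologyFunctor A i).obj K)
    let p := (k - i + 1).toNat
    let e₂ : (((singleFunctor A i).obj ((homologyFunctor A i).obj K))⟦(1 : ℤ)⟧)⟦k⟧ ≅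
        ((singleFunctor A 0).obj ((homologyFunctor A i).obj K))⟦(p : ℤ)⟧ :=
      ((shiftFunctorAdd' (DerivedCategory A) 1 k (1 + k) rfl).app _).symm ≪≫
      (shiftFunctor _ (1 + k)).mapIso e₀.symm ≪≫
      ((shiftFunctorAdd' (DerivedCategory A) (-i) (1 + k) (p : ℤ) (by
        simp only [p]; rw [Int.toNat_of_nonneg (by lia)]; lia)).app _).symm
    have h := hExt k i p hik (by simp only [p]; lia) (e₁.inv ≫ f⟦k⟧' ≫ e₂.hom)
    apply (shiftFunctor (DerivedCategory A) k).map_injective
    rw [Functor.map_zero]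
    rw [← cancel_epi e₁.inv, ← cancel_mono e₂.hom, Category.assoc, h, comp_zero, zero_comp]
  -- projections
  have proj : ∀ i : ℤ, a ≤ i → i ≤ b →
      ∃ φ : K ⟶ (singleFunctor A i).obj ((homologyFunctor A i).obj K),
        IsIso ((homologyFunctor A i).map φ) := by
    intro i hi hi'
    let W := (t.truncGE i).obj K
    have hW₁ : DerivedCategory.IsGE W i := inferInstanceAs (t.IsGE _ i)
    have hW₂ : DerivedCategory.IsLE W b := DTrunc.isLE_truncGE K i b
    have : DerivedCategory.IsGE ((t.truncLT (i + 1)).obj W) i := DTrunc.isGE_truncLT W (i + 1) i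
    have : DerivedCategory.IsLE ((t.truncLT (i + 1)).obj W) i :=
      inferInstanceAs (t.IsLE ((t.truncLT (i + 1)).obj W) i)
    obtain ⟨M, ⟨e⟩⟩ :=
      DerivedCategory.exists_iso_singleFunctor_obj_of_isGE_of_isLE ((t.truncLT (i + 1)).obj W) i
    have h₁ := DTrunc.isIso_homology_truncGEπ K i i le_rfl
    have h₂ := DTrunc.isIso_homology_truncLTι W (i + 1) i (by lia)
    let eM : M ≅ (homologyFunctor A i).obj K :=
      ((singleFunctorCompHomologyFunctorIso A i).app M).symm ≪≫
      (homologyFunctor A i).mapIso e.symm ≪≫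
      asIso ((homologyFunctor A i).map ((t.truncLTι (i + 1)).app W)) ≪≫
      (asIso ((homologyFunctor A i).map ((t.truncGEπ i).app K))).symm
    let u := e ≪≫ (singleFunctor A i).mapIso eM
    have hT := t.triangleLTGE_distinguished (i + 1) W
    have hδ : (t.truncGEδLT (i + 1)).app W ≫ u.hom⟦(1 : ℤ)⟧' = 0 := by
      have : DerivedCategory.IsGE ((t.truncGE (i + 1)).obj W) (i + 1) :=
        inferInstanceAs (t.IsGE _ (i + 1))
      have : DerivedCategory.IsLE ((t.truncGE (i + 1)).obj W) b := DTrunc.isLE_truncGE W (i + 1) b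
      rcases lt_or_ge b (i + 1) with hb | hb
      · have : IsZero ((t.truncGE (i + 1)).obj W) := by
          rw [IsZero.iff_id_eq_zero]
          exact t.zero_of_isLE_of_isGE _ b (i + 1) hb inferInstance inferInstance
        exact this.eq_of_src _ _
      · refine hom_eq_zero _ (b - (i + 1)).toNat _ (i + 1) b ‹_› ‹_› (by lia) (fun k hk hk' g => ?_) _
        have h₃ := DTrunc.isIso_homology_truncGEπ W (i + 1) k hk
        have h₄ := DTrunc.isIso_homology_truncGEπ K i k (by lia)
        let e' := (singleFunctor A k).mapIso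
          (asIso ((homologyFunctor A k).map ((t.truncGEπ i).app K)) ≪≫
            asIso ((homologyFunctor A k).map ((t.truncGEπ (i + 1)).app W)))
        rw [← cancel_epi e'.hom, comp_zero]
        exact van i k (by lia) _
    have hδ' : (t.truncGEδLT (i + 1)).app W = 0 := by
      have := hδ
      rwa [← cancel_mono (u.hom⟦(1 : ℤ)⟧'), zero_comp]
    obtain ⟨r, hr⟩ : ∃ r : W ⟶ (t.truncLT (i + 1)).obj W,
        (t.truncLTι (i + 1)).app W ≫ r = 𝟙 _ := by
      have hT' := inv_rot_of_distTriang _ hT
      obtain ⟨r, hr⟩ := Triangle.yoneda_exact₂ _ hT' (𝟙 ((t.truncLT (i + 1)).obj W)) (by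
        show (-((t.truncGEδLT (i + 1)).app W)⟦(-1 : ℤ)⟧' ≫ _) ≫ 𝟙 _ = 0
        rw [hδ']; simp)
      exact ⟨r, hr.symm⟩
    refine ⟨(t.truncGEπ i).app K ≫ r ≫ u.hom, ?_⟩
    have hr' : IsIso ((homologyFunctor A i).map r) := by
      have h5 : (homologyFunctor A i).map ((t.truncLTι (i + 1)).app W) ≫
          (homologyFunctor A i).map r = 𝟙 _ := by
        rw [← Functor.map_comp, hr, CategoryTheory.Functor.map_id]
      exact IsIso.of_isIso_fac_left h5
    rw [Functor.map_comp, Functor.map_comp]
    infer_instance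
  choose φ hφ using proj
  let S : Finset.Icc a b → DerivedCategory A :=
    fun i => (singleFunctor A (i : ℤ)).obj ((homologyFunctor A (i : ℤ)).obj K)
  let Φ : K ⟶ ⨁ S := biproduct.lift (fun i => φ i (Finset.mem_Icc.1 i.2).1 (Finset.mem_Icc.1 i.2).2)
  have hz : ∀ (n : ℤ) (i : Finset.Icc a b), (i : ℤ) ≠ n →
      IsZero ((homologyFunctor A n).obj (S i)) := by
    intro n i hne
    rcases lt_or_gt_of_ne hne with h | h
    · exact DerivedCategory.isZero_of_isLE (S i) (i : ℤ) n h
    · exact DerivedCategory.isZero_of_isGE (S i) (i : ℤ) n h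
  have hsum : ∀ n : ℤ, 𝟙 ((homologyFunctor A n).obj (⨁ S)) = ∑ i, (homologyFunctor A n).map
      (biproduct.π S i) ≫ (homologyFunctor A n).map (biproduct.ι S i) := by
    intro n
    rw [← CategoryTheory.Functor.map_id, ← biproduct.total, Functor.map_sum]
    simp only [Functor.map_comp]
  have : IsIso Φ := by
    rw [DerivedCategory.isIso_iff]
    intro n
    by_cases hn : a ≤ n ∧ n ≤ b
    · let i : Finset.Icc a b := ⟨n, Finset.mem_Icc.2 hn⟩
      have : IsIso ((homologyFunctor A n).map (biproduct.π S i)) := by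
        refine ⟨(homologyFunctor A n).map (biproduct.ι S i), ?_, ?_⟩
        · rw [hsum n, Finset.sum_eq_single i]
          · intro j _ hj
            rw [(hz n j (fun h => hj (Subtype.ext h))).eq_of_tgt
              ((homologyFunctor A n).map (biproduct.π S j)) 0, zero_comp]
          · simp
        · rw [← Functor.map_comp, biproduct.ι_π_self, CategoryTheory.Functor.map_id]
      have h : IsIso ((homologyFunctor A n).map Φ ≫ (homologyFunctor A n).map (biproduct.π S i)) := by
        rw [← Functor.map_comp, biproduct.lift_π]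
        exact hφ n hn.1 hn.2
      exact IsIso.of_isIso_comp_right _ ((homologyFunctor A n).map (biproduct.π S i))
    · refine isIso_of_source_target_iso_zero _ (IsZero.isoZero ?_) (IsZero.isoZero ?_)
      · rcases not_and_or.1 hn with h | h
        · exact DerivedCategory.isZero_of_isGE K a n (by lia)
        · exact DerivedCategory.isZero_of_isLE K b n (by lia)
      · rw [IsZero.iff_id_eq_zero, hsum n]
        refine Finset.sum_eq_zero fun j _ => ?_
        have hj : (j : ℤ) ≠ n := fun h => hn (h ▸ Finset.mem_Icc.1 j.2)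
        rw [(hz n j hj).eq_of_tgt ((homologyFunctor A n).map (biproduct.π S j)) 0, zero_comp]
  exact ⟨asIso Φ⟩

end Groth.Agent.S0973
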