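import Groth.Statements.S0976
import Mathlib.CategoryTheory.Triangulated.Orthogonal
import Mathlib.CategoryTheory.Triangulated.Triangulated

set_option autoImplicit false
universe v u
open CategoryTheory
open CohDer

namespace Groth.Agent.S0976

open CategoryTheory CategoryTheory.Limits CategoryTheory.Pretriangulated

variable {D : Type u} [Category.{v} D] [Preadditive D] [Limits.HasZeroObject D] [HasShift D ℤ]
  [∀ n : ℤ, (shiftFunctor D n).Additive] [Pretriangulated D] [IsTriangulated D]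
  (P : ObjectProperty D) [P.IsTriangulated]

def Dec (X : D) : Prop :=
  ∃ (A B : D) (f : A ⟶ X) (g : X ⟶ B) (h : B ⟶ (shiftFunctor D (1 : ℤ)).obj A),
    Triangle.mk f g h ∈ distTriang D ∧ P A ∧ P.rightOrthogonal B

variable {P}

omit [IsTriangulated D] [P.IsTriangulated] in
lemma dec_of_triangle {T : Triangle D} (hT : T ∈ distTriang D) (h₁ : P.isoClosure T.obj₁)
    (h₃ : P.rightOrthogonal T.obj₃) : Dec P T.obj₂ := by
  obtain ⟨A, hA, ⟨e⟩⟩ := h₁
  refine ⟨A, T.obj₃, e.inv ≫ T.mor₁, T.mor₂, T.mor₃ ≫ (shiftFunctor D (1 : ℤ)).map e.hom, ?_, hA, h₃⟩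
  exact isomorphic_distinguished _ hT _ (Triangle.isoMk _ _ e.symm (Iso.refl _) (Iso.refl _)
    (Category.comp_id _) ((Category.comp_id _).trans (Category.id_comp _).symm)
    (((Category.assoc _ _ _).trans ((congrArg (T.mor₃ ≫ ·) 
      (((shiftFunctor D (1 : ℤ)).map_comp e.hom e.inv).symm.trans
        ((congrArg _ e.hom_inv_id).trans (CategoryTheory.Functor.map_id _ _)))).trans
      (Category.comp_id _))).trans (Category.id_comp _).symm))

lemma dec_ext_P {T : Triangle D} (hT : T ∈ distTriang D) (h₁ : Dec P T.obj₁)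
    (h₃ : P.isoClosure T.obj₃) : Dec P T.obj₂ := by
  obtain ⟨A₁, B₁, f, g, h, hT₁, hA₁, hB₁⟩ := h₁
  have h0 : T.invRotate.mor₁ ≫ g = 0 := by
    obtain ⟨A, hA, ⟨e⟩⟩ := h₃
    have hz := hB₁ (((shiftFunctor D (-1 : ℤ)).map e.inv) ≫ T.invRotate.mor₁ ≫ g) (P.le_shift (-1 : ℤ) _ hA)
    exact (cancel_epi ((shiftFunctor D (-1 : ℤ)).map e.inv)).1 (hz.trans comp_zero.symm)
  obtain ⟨g', hg'⟩ := Triangle.yoneda_exact₂ _ (inv_rot_of_distTriang _ hT) g h0
  have hg'' : T.mor₁ ≫ g' = g := hg'.symm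
  obtain ⟨C, p, δ, hC⟩ := distinguished_cocone_triangle g'
  have H := Triangulated.someOctahedron hg'' hT hC (rot_of_distTriang _ hT₁)
  have hC' : P.isoClosure C :=
    P.isoClosure.ext_of_isTriangulatedClosed₂ _ (rot_of_distTriang _ H.mem)
      (P.le_isoClosure _ (P.le_shift (1 : ℤ) _ hA₁))
      (P.isoClosure.le_shift (1 : ℤ) _ h₃)
  exact dec_of_triangle (T := (Triangle.mk g' p δ).invRotate) (inv_rot_of_distTriang _ hC)
    (P.isoClosure.le_shift (-1 : ℤ) _ hC') hB₁

lemma dec_ext_orth {T : Triangle D} (hT : T ∈ distTriang D) (h₁ : Dec P T.obj₁)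
    (h₃ : P.rightOrthogonal T.obj₃) : Dec P T.obj₂ := by
  obtain ⟨A₁, B₁, f, g, h, hT₁, hA₁, hB₁⟩ := h₁
  obtain ⟨C, p, δ, hC⟩ := distinguished_cocone_triangle (f ≫ T.mor₁)
  have H := Triangulated.someOctahedron rfl hT₁ hT hC
  exact dec_of_triangle (T := Triangle.mk (f ≫ T.mor₁) p δ) hC (P.le_isoClosure _ hA₁)
    (P.rightOrthogonal.ext_of_isTriangulatedClosed₂ _ H.mem hB₁ h₃)

omit [IsTriangulated D] in
lemma dec_shift (X : D) (n : ℤ) (hX : Dec P X) : Dec P ((shiftFunctor D n).obj X) := by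
  obtain ⟨A, B, f, g, h, hT, hA, hB⟩ := hX
  exact dec_of_triangle (Triangle.shift_distinguished _ hT n)
    (P.le_isoClosure _ (P.le_shift n _ hA)) (P.rightOrthogonal.le_shift n _ hB)

omit [IsTriangulated D] [P.IsTriangulated] in
lemma dec_iso {X Y : D} (e : X ≅ Y) (hX : Dec P X) : Dec P Y := by
  obtain ⟨A, B, f, g, h, hT, hA, hB⟩ := hX
  exact ⟨A, B, f ≫ e.hom, e.inv ≫ g, h, isomorphic_distinguished _ hT _
    (Triangle.isoMk _ _ (Iso.refl _) e.symm (Iso.refl _)
      (((Category.assoc _ _ _).trans ((congrArg (f ≫ ·) e.hom_inv_id).trans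
        (Category.comp_id _))).trans (Category.id_comp _).symm)
      (Category.comp_id _)
      (((congrArg (h ≫ ·) (CategoryTheory.Functor.map_id _ _)).trans (Category.comp_id _)).trans
        (Category.id_comp _).symm)), hA, hB⟩

lemma dec_ext {T : Triangle D} (hT : T ∈ distTriang D) (h₁ : Dec P T.obj₁) (h₃ : Dec P T.obj₃) :
    Dec P T.obj₂ := by
  obtain ⟨A₃, B₃, f, g, h, hT₃, hA₃, hB₃⟩ := h₃
  obtain ⟨C, p, δ, hC⟩ := distinguished_cocone_triangle (f ≫ T.mor₃)
  have hCdec : Dec P C := dec_ext_P (rot_of_distTriang _ hC) (dec_shift _ _ h₁)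
    (P.le_isoClosure _ (P.le_shift (1 : ℤ) _ hA₃))
  have H := Triangulated.someOctahedron rfl hT₃ (rot_of_distTriang _ (rot_of_distTriang _ hT)) hC
  have h2 := dec_ext_orth (rot_of_distTriang _ H.mem) hCdec
    (P.rightOrthogonal.le_shift (1 : ℤ) _ hB₃)
  exact dec_iso ((shiftFunctorCompIsoId D (1 : ℤ) (-1) (by norm_num)).app T.obj₂)
    (dec_shift _ (-1) h2)

open CategoryTheory.Pretriangulated in
/-- Let P be a triangulated subcategory of a triangulated category D (an object property containing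
zero, stable under shifts, closed under extensions). Consider the class of objects X sitting in a
distinguished triangle A → X → B → A[1] with P A and B right orthogonal to P. This class is again
stable under shifts and closed under extensions, i.e. satisfies two-out-of-three in distinguished
triangles. -/
theorem result {D : Type u} [Category.{v} D] [Preadditive D] [Limits.HasZeroObject D] [HasShift D ℤ]
    [∀ n : ℤ, (shiftFunctor D n).Additive] [Pretriangulated D] [IsTriangulated D]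
    (P : ObjectProperty D) [P.IsTriangulated] :
    ObjectProperty.IsTriangulated (fun X : D => ∃ (A B : D) (f : A ⟶ X) (g : X ⟶ B) (h : B ⟶ (shiftFunctor D (1 : ℤ)).obj A),
      Triangle.mk f g h ∈ distinguishedTriangles ∧ P A ∧ P.rightOrthogonal B) := by
  change ObjectProperty.IsTriangulated (Dec P)
  have : ObjectProperty.IsClosedUnderIsomorphisms (Dec P) := ⟨fun e h => dec_iso e h⟩
  have : ObjectProperty.IsStableUnderShift (Dec P) ℤ :=
    ⟨fun n => ⟨fun X hX => dec_shift X n hX⟩⟩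
  have : ObjectProperty.IsTriangulatedClosed₂ (Dec P) :=
    .mk' fun T hT h₁ h₃ => dec_ext hT h₁ h₃
  have : ObjectProperty.ContainsZero (Dec P) := by
    obtain ⟨Z, hZ, hPZ⟩ := P.exists_prop_of_containsZero
    exact ⟨Z, hZ, dec_of_triangle (contractible_distinguished Z) (P.le_isoClosure _ hPZ)
      (fun X f _ => (isZero_zero D).eq_of_tgt _ _)⟩
  exact {}

end Groth.Agent.S0976
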