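import Groth.Statements.S0978
import Groth.Agent.H16Derived.Hocolim
import Groth.Agent.S1076
import Mathlib.CategoryTheory.Triangulated.Orthogonal

set_option autoImplicit false
universe v u
open CategoryTheory
open CohDer

namespace Groth.Agent.S0978

open CategoryTheory CategoryTheory.Limits CategoryTheory.Pretriangulated

open CategoryTheory.Limits in
/-- Let D be a triangulated category with all small direct sums and E a compact object. Then E generates
D (an object admitting only zero maps from all shifts of E is zero) if and only if D is compactly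
generated and every compact object lies in the triangulated envelope of E (objects reachable from E
by shifts, finite sums, direct summands and extensions). -/
theorem result {D : Type u} [Category.{v} D] [Preadditive D] [Limits.HasZeroObject D] [HasShift D ℤ]
    [∀ n : ℤ, (shiftFunctor D n).Additive] [Pretriangulated D] [IsTriangulated D] [HasCoproducts.{v} D]
    [HasColimitsOfShape (Discrete ℕ) D]
    (E : D) (hE : CohDer.IsCompactObject E) :
    CohDer.Generates (fun _ : Unit => E) ↔
      (CohDer.IsCompactlyGenerated D ∧ ∀ X : D, CohDer.IsCompactObject X → ObjectProperty.triangEnvelope (fun Y : D => Y = E) X) := by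
  constructor
  · intro hg
    refine ⟨⟨PUnit.{v + 1}, fun _ => E, fun _ => hE, fun K h => hg K fun _ n φ => h ⟨⟩ n φ⟩, fun X hX => ?_⟩
    obtain ⟨K, f, i, hL, h0, hstep⟩ := Groth.Agent.H16Derived.Hocolim.exists_presentation
      (fun _ : PUnit.{v + 1} => E) (fun _ => hE) (fun K h => hg K fun _ n φ => h ⟨⟩ n φ) X
    obtain ⟨n, a, ha⟩ := Groth.Agent.H16Derived.Hocolim.exists_lift hL hX (𝟙 X)
    obtain ⟨s, E', g, h, hE', hgh⟩ := Groth.Agent.S1076.result (fun _ : PUnit.{v + 1} => E)
      (fun _ => hE) K f h0 hstep X hX n a
    have hle := ObjectProperty.monotone_triangEnvelope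
      (show (fun Y : D => ∃ i ∈ s, Y = (fun _ : PUnit.{v + 1} => E) i) ≤ (fun Y : D => Y = E) from
        fun Y ⟨_, _, hY⟩ => hY)
    exact ObjectProperty.prop_of_retract _
      (⟨g, h ≫ i n, by rw [← Category.assoc, hgh, ha]⟩ : Retract X E') (hle E' hE')
  · rintro ⟨⟨κ, G, hGc, hGg⟩, hcl⟩ K hK
    let S : ObjectProperty D := fun X => ∃ n : ℤ, X = (shiftFunctor D n).obj K
    let Q : ObjectProperty D := S.shiftClosure ℤ |>.leftOrthogonal
    have : Q.IsStableUnderRetracts := ⟨fun {X Y} r hY Z f hZ => by
      rw [← r.retract_assoc f, hY (r.r ≫ f) hZ, comp_zero]⟩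
    have hle : (fun Y : D => Y = E) ≤ Q := by
      intro X hX Z f hZ
      change X = E at hX
      subst hX
      rw [ObjectProperty.prop_shiftClosure_iff] at hZ
      obtain ⟨Y, a, e, n, rfl⟩ := hZ
      rw [← cancel_mono (e.hom ≫ (shiftFunctorAdd D n a).inv.app K), zero_comp]
      exact hK () _ _
    have htop : ObjectProperty.triangEnvelope (fun Y : D => Y = E) ≤ Q :=
      (ObjectProperty.triangEnvelope_le_iff _).2 hle
    refine hGg K fun i n φ => htop _ (hcl _ (hGc i)) φ ?_
    rw [ObjectProperty.prop_shiftClosure_iff]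
    exact ⟨(shiftFunctor D n).obj K, 0, ((shiftFunctorZero D ℤ).app _).symm, n, rfl⟩

end Groth.Agent.S0978
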