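import Groth.Statements.S0979
import Groth.Agent.LeadIdem.FibreIdem

set_option autoImplicit false
universe u
open CategoryTheory AlgebraicGeometry Opposite
open Perf

namespace Groth.Agent.S0979

/-- Let f : X ⟶ S be proper, let s be a point of S, and e an idempotent global section of the structure
sheaf of the scheme-theoretic fibre X_s. Then e lies in the image of the stalk (f_*O_X)_s: there are
an open neighbourhood V of s and a section t of O_X over f⁻¹(V) whose restriction to the fibre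
equals e. -/
theorem result {X S : Scheme.{u}} (f : X ⟶ S) [IsProper f] (s : S)
    (e : (f.fiber s).presheaf.obj (op ⊤)) (he : IsIdempotentElem e) :
    ∃ (V : S.Opens) (_ : s ∈ V) (t : X.presheaf.obj (op (f ⁻¹ᵁ V))),
      ((f.fiberι s).app (f ⁻¹ᵁ V)).hom t =
        ((f.fiber s).presheaf.map (homOfLE (le_top : (f.fiberι s) ⁻¹ᵁ (f ⁻¹ᵁ V) ≤ ⊤)).op).hom e := by
  obtain ⟨U, hU, hsU, -⟩ := exists_isAffineOpen_mem_and_subset (U := (⊤ : S.Opens)) (x := s) trivial
  obtain ⟨r, a, hle, hr, ha⟩ := LeadIdem.exists_lift_mul f s e he U hU hsU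
  have hVU : f ⁻¹ᵁ S.basicOpen r ≤ f ⁻¹ᵁ U := f.preimage_mono (S.basicOpen_le r)
  have hu : IsUnit (X.presheaf.map (homOfLE hVU).op (f.app U r)) := by
    have h := (S.toRingedSpace.isUnit_res_basicOpen r).map (f.app (S.basicOpen r)).hom
    erw [← ConcreteCategory.comp_apply, Scheme.Hom.naturality] at h
    exact h
  obtain ⟨w, hw⟩ := hu.exists_left_inv
  refine ⟨S.basicOpen r, hr, w * X.presheaf.map (homOfLE hVU).op a, ?_⟩
  let R := (f.fiber s).presheaf.map
    (homOfLE (le_top : f.fiberι s ⁻¹ᵁ (f ⁻¹ᵁ S.basicOpen r) ≤ ⊤)).op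
  have hres : ∀ y : Γ(X, f ⁻¹ᵁ U), (f.fiberι s).app (f ⁻¹ᵁ S.basicOpen r) (X.presheaf.map (homOfLE hVU).op y) =
      R ((f.fiberι s).appLE (f ⁻¹ᵁ U) ⊤ hle y) := fun y => by
    rw [← ConcreteCategory.comp_apply, ← ConcreteCategory.comp_apply]
    refine congrArg (fun g : Γ(X, f ⁻¹ᵁ U) ⟶ Γ(f.fiber s, f.fiberι s ⁻¹ᵁ (f ⁻¹ᵁ S.basicOpen r)) => g y) ?_
    rw [Scheme.Hom.appLE_map, Scheme.Hom.app_eq_appLE, Scheme.Hom.map_appLE]
  calc (f.fiberι s).app (f ⁻¹ᵁ S.basicOpen r) (w * X.presheaf.map (homOfLE hVU).op a)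
      = (f.fiberι s).app (f ⁻¹ᵁ S.basicOpen r) w * R ((f.fiberι s).appLE (f ⁻¹ᵁ U) ⊤ hle a) := by
        rw [map_mul, hres]
    _ = (f.fiberι s).app (f ⁻¹ᵁ S.basicOpen r) w *
          (R ((f.fiberι s).appLE (f ⁻¹ᵁ U) ⊤ hle (f.app U r)) * R e) := by
        rw [ha, map_mul]
    _ = R e := by
        rw [← mul_assoc, ← hres, ← map_mul, hw, map_one, one_mul]

end Groth.Agent.S0979
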