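import Groth.Statements.S0982
import Groth.Agent.H16Derived.DTrunc

set_option autoImplicit false
universe w v u
open CategoryTheory CategoryTheory.Limits
open CohDer

namespace Groth.Agent.S0982

open DerivedCategory.TStructure

/-- Let K : ℕ ⥤ CochainComplex A ℤ be a sequence of cochain maps K₀ → K₁ → K₂ → … in an abelian category
with Hⁱ(K₀) = 0 for i > 0 and such that for every j < n the map H⁻ʲ(Kⱼ) → H⁻ʲ(Kⱼ₊₁) is zero. Then in
the derived category the composite K₀ → Kₙ factors through the canonical truncation τ_{≤ -n}Kₙ → Kₙ. -/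
theorem result {A : Type u} [Category.{v} A] [Abelian A] [HasDerivedCategory.{w} A]
    (K : ℕ ⥤ CochainComplex A ℤ) (n : ℕ)
    (h0 : ∀ i : ℤ, 0 < i → IsZero ((K.obj 0).homology i))
    (hz : ∀ j : ℕ, j < n → HomologicalComplex.homologyMap (K.map (homOfLE (Nat.le_succ j))) (-(j : ℤ)) = 0) :
    ∃ φ : DerivedCategory.Q.obj (K.obj 0) ⟶ DerivedCategory.Q.obj ((K.obj n).truncLE (-(n : ℤ))),
      φ ≫ DerivedCategory.Q.map ((K.obj n).ιTruncLE (-(n : ℤ))) = DerivedCategory.Q.map (K.map (homOfLE (Nat.zero_le n))) := by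
  let L := K ⋙ DerivedCategory.Q
  have : (L.obj 0).IsLE 0 := (DerivedCategory.isLE_Q_obj_iff _ _).2
    ((CochainComplex.isLE_iff _ _).2 fun i hi =>
      (HomologicalComplex.exactAt_iff_isZero_homology _ _).2 (h0 i hi))
  obtain ⟨φ, hφ⟩ := Groth.Agent.H16Derived.DTrunc.exists_factor_of_chain L 0 n (fun j hj => by
    rw [← cancel_mono ((DerivedCategory.homologyFunctorFactors A _).hom.app _), zero_comp]
    exact (DerivedCategory.homologyFunctorFactors_hom_naturality
      (K.map (homOfLE (Nat.le_succ j))) _).trans (by rw [show (0 : ℤ) - j = -(j : ℤ) by lia, hz j hj]; exact comp_zero))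
    n le_rfl
  have : DerivedCategory.IsLE ((t.truncLT (0 + 1 - (n : ℤ))).obj (L.obj n)) (-(n : ℤ)) :=
    t.isLE_truncLT_obj _ _ _ (by lia)
  obtain ⟨ψ, hψ⟩ := Groth.Agent.H16Derived.DTrunc.exists_lift_Q_ιTruncLE (K.obj n) (-(n : ℤ))
    ((t.truncLTι (0 + 1 - (n : ℤ))).app (L.obj n))
  exact ⟨φ ≫ ψ, by rw [Category.assoc, hψ]; exact hφ⟩

end Groth.Agent.S0982
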