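import Groth.Statements.S0983
import Mathlib.CategoryTheory.Triangulated.Triangulated

set_option autoImplicit false
universe v u
open CategoryTheory
open CohDer

namespace Groth.Agent.S0983

open CategoryTheory.Pretriangulated in

open CategoryTheory.Pretriangulated in
/-- In a triangulated category, a commutative square f ≫ v = u ≫ f' (with f : X ⟶ Y, f' : X' ⟶ Y', u : X
⟶ X', v : Y ⟶ Y') extends to a diagram with three distinguished rows (X, Y, Z), (X', Y', Z'), (X'',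
Y'', Z'') and three distinguished columns (X, X', X''), (Y, Y', Y''), (Z, Z', Z''), in which all
squares commute except the one formed by the third morphisms of the last row and last column, which
anticommutes; the fourth row and column are the shifts of the first ones. -/
theorem result {D : Type u} [Category.{v} D] [Preadditive D] [Limits.HasZeroObject D] [HasShift D ℤ]
    [∀ n : ℤ, (shiftFunctor D n).Additive] [Pretriangulated D] [IsTriangulated D]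
    {X Y X' Y' : D} (f : X ⟶ Y) (f' : X' ⟶ Y') (u : X ⟶ X') (v : Y ⟶ Y') (comm : f ≫ v = u ≫ f') :
    ∃ (Z Z' X'' Y'' Z'' : D) (g : Y ⟶ Z) (h : Z ⟶ (shiftFunctor D (1 : ℤ)).obj X)
      (g' : Y' ⟶ Z') (h' : Z' ⟶ (shiftFunctor D (1 : ℤ)).obj X')
      (f'' : X'' ⟶ Y'') (g'' : Y'' ⟶ Z'') (h'' : Z'' ⟶ (shiftFunctor D (1 : ℤ)).obj X'')
      (u' : X' ⟶ X'') (u'' : X'' ⟶ (shiftFunctor D (1 : ℤ)).obj X)
      (v' : Y' ⟶ Y'') (v'' : Y'' ⟶ (shiftFunctor D (1 : ℤ)).obj Y)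
      (w : Z ⟶ Z') (w' : Z' ⟶ Z'') (w'' : Z'' ⟶ (shiftFunctor D (1 : ℤ)).obj Z),
      Triangle.mk f g h ∈ distinguishedTriangles ∧ Triangle.mk f' g' h' ∈ distinguishedTriangles ∧
      Triangle.mk f'' g'' h'' ∈ distinguishedTriangles ∧
      Triangle.mk u u' u'' ∈ distinguishedTriangles ∧ Triangle.mk v v' v'' ∈ distinguishedTriangles ∧
      Triangle.mk w w' w'' ∈ distinguishedTriangles ∧
      g ≫ w = v ≫ g' ∧ h ≫ (shiftFunctor D (1 : ℤ)).map u = w ≫ h' ∧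
      f' ≫ v' = u' ≫ f'' ∧ g' ≫ w' = v' ≫ g'' ∧ h' ≫ (shiftFunctor D (1 : ℤ)).map u' = w' ≫ h'' ∧
      f'' ≫ v'' = u'' ≫ (shiftFunctor D (1 : ℤ)).map f ∧ g'' ≫ w'' = v'' ≫ (shiftFunctor D (1 : ℤ)).map g ∧
      h'' ≫ (shiftFunctor D (1 : ℤ)).map u'' = -(w'' ≫ (shiftFunctor D (1 : ℤ)).map h) := by
  obtain ⟨Z, g, h, hf⟩ := distinguished_cocone_triangle f
  obtain ⟨Z', g', h', hf'⟩ := distinguished_cocone_triangle f'
  obtain ⟨Y'', v', v'', hv⟩ := distinguished_cocone_triangle v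
  obtain ⟨X'', u', u'', hu⟩ := distinguished_cocone_triangle u
  obtain ⟨A, q, r, hA⟩ := distinguished_cocone_triangle (f ≫ v)
  let o₁ := Triangulated.someOctahedron rfl hf hv hA
  let o₂ := Triangulated.someOctahedron comm.symm hu hf' hA
  obtain ⟨Z'', w', w'', hw⟩ := distinguished_cocone_triangle (o₁.m₁ ≫ o₂.m₃)
  have hR : Triangle.mk o₂.m₃ (h' ≫ u'⟦(1 : ℤ)⟧') (-(o₂.m₁⟦(1 : ℤ)⟧')) ∈ distinguishedTriangles :=
    rot_of_distTriang _ o₂.mem
  let o₃ := Triangulated.someOctahedron rfl o₁.mem hR hw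
  refine ⟨Z, Z', X'', Y'', Z'', g, h, g', h', o₂.m₁ ≫ o₁.m₃, o₃.m₁, o₃.m₃, u', u'', v', v'',
    o₁.m₁ ≫ o₂.m₃, w', w'', hf, hf', ?_, hu, hv, hw, ?_, ?_, ?_, ?_, ?_, ?_, ?_, ?_⟩
  · rw [rotate_distinguished_triangle]
    refine isomorphic_distinguished _ o₃.mem _ (Triangle.isoMk _ _ (Iso.refl _) (Iso.refl _) (Iso.refl _) ?_ ?_ ?_)
    · exact (Category.comp_id _).trans (Category.id_comp _).symm
    · exact (Category.comp_id _).trans (Category.id_comp _).symm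
    · show (-((o₂.m₁ ≫ o₁.m₃)⟦(1 : ℤ)⟧')) ≫ (𝟙 _)⟦(1 : ℤ)⟧' = 𝟙 _ ≫ (-(o₂.m₁⟦(1 : ℤ)⟧')) ≫ o₁.m₃⟦(1 : ℤ)⟧'
      simp
  · rw [← Category.assoc, o₁.comm₁, Category.assoc, o₂.comm₃]
  · rw [Category.assoc, ← o₂.comm₄, ← Category.assoc, o₁.comm₂]
  · rw [← Category.assoc, o₂.comm₁, Category.assoc, o₁.comm₃]
  · exact ((congrArg (· ≫ w') o₂.comm₃).symm.trans ((Category.assoc _ _ _).trans
      ((congrArg (q ≫ ·) o₃.comm₁.symm).trans ((Category.assoc _ _ _).symm.trans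
        (congrArg (· ≫ o₃.m₁) o₁.comm₃)))))
  · exact o₃.comm₃.symm
  · rw [Category.assoc, ← o₁.comm₄, ← Category.assoc, o₂.comm₂]
  · exact o₃.comm₂
  · have h4 := o₃.comm₄
    have := congrArg (· ≫ r⟦(1 : ℤ)⟧') h4
    simp only [Category.assoc, Preadditive.neg_comp,
      Preadditive.comp_neg, ← Functor.map_comp, o₁.comm₂, o₂.comm₂] at this
    rw [this, neg_neg]

end Groth.Agent.S0983
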