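import Groth.Statements.S0985
import Groth.Agent.H16Derived.Seq.OneSubShift
import Mathlib.Algebra.Homology.HomologicalComplexLimits
import Mathlib.Algebra.Homology.DerivedCategory.ShortExact

set_option autoImplicit false
universe w v u
open CategoryTheory CategoryTheory.Limits
open DerLim

namespace Groth.Agent.S0985

open Groth.Agent.H16Derived

set_option linter.style.haveILetI false

theorem hasColimitsOfShape_discrete_nat {A : Type u} [Category.{v} A] [Abelian A]
    [HasColimitsOfShape ℕ A] : HasColimitsOfShape (Discrete ℕ) A := by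
  suffices h : ∀ G : ℕ → A, HasCoproduct G from
    ⟨fun K => hasColimit_of_iso (Discrete.natIsoFunctor : K ≅ Discrete.functor (K.obj ∘ Discrete.mk))⟩
  intro G
  let inc : ∀ n, (∐ fun k : Fin n => G k) ⟶ ∐ fun k : Fin (n + 1) => G k := fun n =>
    Sigma.desc fun k => Sigma.ι (fun k : Fin (n + 1) => G k) k.castSucc
  let P := Functor.ofSequence inc
  let pt := colimit P
  let inj : ∀ j, G j ⟶ pt := fun j =>
    Sigma.ι (fun k : Fin (j + 1) => G k) ⟨j, j.lt_succ_self⟩ ≫ colimit.ι P (j + 1)
  have st : ∀ (j n : ℕ) (h : j < n), Sigma.ι (fun k : Fin n => G k) ⟨j, h⟩ ≫ colimit.ι P n = inj j := by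
    intro j n
    induction n with
    | zero => intro h; omega
    | succ n ih =>
      intro h
      rcases Nat.lt_succ_iff_lt_or_eq.1 h with h' | rfl
      · rw [← ih h']
        have hw := colimit.w P (homOfLE (Nat.le_succ n))
        simp only [P, Functor.ofSequence_map_homOfLE_succ] at hw
        rw [← hw]
        exact ((congrArg (· ≫ _) (show Sigma.ι (fun k : Fin n => G k) ⟨j, h'⟩ ≫ inc n =
          Sigma.ι (fun k : Fin (n + 1) => G k) ⟨j, h⟩ from Sigma.ι_desc _ _)).symm).trans
            (Category.assoc _ _ _)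
      · rfl
  let co : Cofan G → Cocone P := fun s =>
    { pt := s.pt
      ι := NatTrans.ofSequence (fun n => Sigma.desc fun k : Fin n => s.inj k) fun n => by
        simp only [P, Functor.ofSequence_map_homOfLE_succ]
        refine Sigma.hom_ext _ _ fun k => ?_
        show Sigma.ι (fun k : Fin n => G k) k ≫ inc n ≫ Sigma.desc (fun k : Fin (n + 1) => s.inj k) =
          Sigma.ι (fun k : Fin n => G k) k ≫ Sigma.desc (fun k : Fin n => s.inj k) ≫ 𝟙 _
        rw [Category.comp_id]
        refine Eq.trans ?_ (Sigma.ι_desc (fun k : Fin n => s.inj k) k).symm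
        refine ((Category.assoc _ _ _).symm.trans (congrArg (· ≫ _) (Sigma.ι_desc _ _))).trans ?_
        exact Sigma.ι_desc (fun k : Fin (n + 1) => s.inj k) k.castSucc }
  exact HasColimit.mk ⟨Cofan.mk pt inj, Cofan.IsColimit.mk _ (fun s => colimit.desc P (co s))
    (fun s j => by
      refine (Category.assoc _ _ _).trans ((congrArg (_ ≫ ·) (colimit.ι_desc (co s) (j + 1))).trans ?_)
      exact Sigma.ι_desc (fun k : Fin (j + 1) => s.inj k) ⟨j, j.lt_succ_self⟩)
    (fun s m hm => colimit.hom_ext fun n => by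
      refine Eq.trans ?_ (colimit.ι_desc (co s) n).symm
      refine Sigma.hom_ext (f := fun k : Fin n => G k) _ _ fun k => ?_
      refine Eq.trans ?_ (Sigma.ι_desc (fun k : Fin n => s.inj k) k).symm
      rw [← hm k]
      exact (Category.assoc _ _ _).symm.trans (congrArg (· ≫ m) (st k n k.2)))⟩

/-- Let A be an abelian category in which colimits of sequences ℕ ⥤ A exist and are exact, and let L : ℕ
⥤ CochainComplex A ℤ be a sequence of complexes. Then the image in the derived category of the
termwise colimit of L, with the canonical maps from the Lₙ, is a homotopy colimit of the images of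
the Lₙ — assuming the termwise direct sum of the Lₙ exists and is preserved by the localization
functor to D(A) (a known result, carried here as a hypothesis rather than proved), and that the
direct sum of the images exists in D(A). -/
theorem result {A : Type u} [Category.{v} A] [Abelian A] [HasDerivedCategory.{w} A]
    [HasColimitsOfShape ℕ A] [HasExactColimitsOfShape ℕ A]
    (L : ℕ ⥤ CochainComplex A ℤ) [HasCoproduct L.obj] [PreservesColimit (Discrete.functor L.obj) (DerivedCategory.Q (C := A))]
    [HasCoproduct (fun n => DerivedCategory.Q.obj (L.obj n))] :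
    DerLim.IsHocolim (fun n => DerivedCategory.Q.obj (L.obj n)) (fun n => DerivedCategory.Q.map (L.map (homOfLE (Nat.le_succ n))))
      (DerivedCategory.Q.obj (colimit L)) (fun n => DerivedCategory.Q.map (colimit.ι L n)) := by
  haveI := hasColimitsOfShape_discrete_nat (A := A)
  let F : CochainComplex A ℤ ⥤ DerivedCategory A := DerivedCategory.Q
  let st := fun n => L.map (homOfLE (Nat.le_succ n))
  have w : (𝟙 (∐ L.obj) - DerLim.shiftMap L.obj st) ≫ Sigma.desc (fun n => colimit.ι L n) = 0 := by
    refine Sigma.hom_ext _ _ fun n => ?_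
    simp [DerLim.shiftMap, st, colimit.w]
  let S := ShortComplex.mk _ _ w
  have hS : S.ShortExact := HomologicalComplex.shortExact_of_degreewise_shortExact _ fun q => by
    let ev := HomologicalComplex.eval A (ComplexShape.up ℤ) q
    let G := L ⋙ ev
    haveI : HasCoproduct G.obj := inferInstance
    obtain ⟨w', h'⟩ := Seq.shortExact_one_sub_shift G
    let e₁ : (∐ G.obj) ≅ ev.obj (∐ L.obj) := (PreservesCoproduct.iso ev L.obj).symm
    let e₃ : colimit G ≅ ev.obj (colimit L) := (preservesColimitIso ev L).symm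
    refine ShortComplex.shortExact_of_iso (S₁ := ShortComplex.mk _ _ w')
      (ShortComplex.isoMk e₁ e₁ e₃ ?_ ?_) h'
    · refine Sigma.hom_ext _ _ fun n => ?_
      have h₁ : ∀ j, Sigma.ι G.obj j ≫ e₁.hom = ev.map (Sigma.ι L.obj j) := fun j =>
        ι_comp_sigmaComparison ev L.obj j
      show Sigma.ι G.obj n ≫ e₁.hom ≫ ev.map (𝟙 (∐ L.obj) - DerLim.shiftMap L.obj st) =
        Sigma.ι G.obj n ≫ (𝟙 (∐ G.obj) - DerLim.shiftMap G.obj (Seq.step G)) ≫ e₁.hom
      rw [reassoc_of% (h₁ n), ← ev.map_comp]
      simp only [Preadditive.sub_comp, Category.id_comp, Preadditive.comp_sub, DerLim.shiftMap,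
        Sigma.ι_desc_assoc, Category.assoc, Category.comp_id, Sigma.ι_desc, ev.map_sub, ev.map_comp, h₁]
      rfl
    · refine Sigma.hom_ext _ _ fun n => ?_
      have h₁ : Sigma.ι G.obj n ≫ e₁.hom = ev.map (Sigma.ι L.obj n) :=
        ι_comp_sigmaComparison ev L.obj n
      show Sigma.ι G.obj n ≫ e₁.hom ≫ ev.map (Sigma.desc fun n => colimit.ι L n) =
        Sigma.ι G.obj n ≫ Sigma.desc (fun n => colimit.ι G n) ≫ e₃.hom
      rw [reassoc_of% h₁, ← ev.map_comp, Sigma.ι_desc, Sigma.ι_desc_assoc]
      exact (ι_preservesColimitIso_inv ev L n).symm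
  haveI : PreservesColimit (Discrete.functor L.obj) F := inferInstanceAs
    (PreservesColimit (Discrete.functor L.obj) (DerivedCategory.Q (C := A)))
  haveI : HasCoproduct fun n => F.obj (L.obj n) := inferInstanceAs
    (HasCoproduct fun n => DerivedCategory.Q.obj (L.obj n))
  let φ : (∐ fun n => F.obj (L.obj n)) ⟶ F.obj (∐ L.obj) := sigmaComparison F L.obj
  have hφi : IsIso φ := inferInstanceAs (IsIso (sigmaComparison F L.obj))
  refine ⟨DerivedCategory.triangleOfSESδ hS ≫ (inv φ)⟦(1 : ℤ)⟧', ?_⟩
  refine Pretriangulated.isomorphic_distinguished _ (DerivedCategory.triangleOfSES_distinguished hS) _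
    (Pretriangulated.Triangle.isoMk _ _ (@asIso _ _ _ _ φ hφi) (@asIso _ _ _ _ φ hφi) (Iso.refl _) ?_ ?_ ?_)
  · refine Sigma.hom_ext _ _ fun n => ?_
    show Sigma.ι (fun n => F.obj (L.obj n)) n ≫
      (𝟙 _ - DerLim.shiftMap (fun n => F.obj (L.obj n)) (fun n => F.map (st n))) ≫ φ =
      Sigma.ι (fun n => F.obj (L.obj n)) n ≫ φ ≫ F.map (𝟙 (∐ L.obj) - DerLim.shiftMap L.obj st)
    simp only [φ, Preadditive.sub_comp, Category.id_comp, Preadditive.comp_sub, DerLim.shiftMap,
      Sigma.ι_desc_assoc, Category.assoc, ι_comp_sigmaComparison, ι_comp_sigmaComparison_assoc,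
      S, st]
    simp only [← F.map_comp, Preadditive.comp_sub, Category.comp_id, Sigma.ι_desc, F.map_sub]
    refine congrArg (· - _) ?_
    exact (congrArg (_ ≫ ·) (Category.id_comp _)).trans (ι_comp_sigmaComparison F L.obj n)
  · refine Sigma.hom_ext _ _ fun n => ?_
    show Sigma.ι (fun n => F.obj (L.obj n)) n ≫ Sigma.desc (fun n => F.map (colimit.ι L n)) ≫ 𝟙 _ =
      Sigma.ι (fun n => F.obj (L.obj n)) n ≫ φ ≫ F.map (Sigma.desc fun n => colimit.ι L n)
    rw [Category.comp_id, Sigma.ι_desc, ι_comp_sigmaComparison_assoc, ← F.map_comp, Sigma.ι_desc]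
  · show (DerivedCategory.triangleOfSESδ hS ≫ (inv φ)⟦(1 : ℤ)⟧') ≫ (@asIso _ _ _ _ φ hφi).hom⟦(1 : ℤ)⟧' = 𝟙 _ ≫ _
    rw [Category.assoc, asIso_hom, ← Functor.map_comp, IsIso.inv_hom_id, CategoryTheory.Functor.map_id,
      Category.comp_id, Category.id_comp]
    rfl

end Groth.Agent.S0985
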