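import Groth.Statements.S0987
import Groth.Agent.H27KZero.Derived
import Mathlib

set_option autoImplicit false
universe w v u
open CategoryTheory CategoryTheory.Limits
open KZero

namespace Groth.Agent.S0987

/-- For an abelian category A there is an isomorphism between K₀(A) and K₀ of the bounded derived
category D^b(A) (objects of D(A) with bounded cohomology, with the distinguished triangles of D(A))
which sends the class of an object X to the class of X placed in degree 0. -/
theorem result (A : Type u) [Category.{v} A] [Abelian A] [HasDerivedCategory.{w} A] :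
    ∃ φ : KZero.K0 A ≃+ KZero.K0tr (fun X : DerivedCategory A => ∃ a b : ℤ, X.IsGE a ∧ X.IsLE b),
      ∀ X : A, φ (KZero.cl X) =
        KZero.clTr (fun X : DerivedCategory A => ∃ a b : ℤ, X.IsGE a ∧ X.IsLE b) ((DerivedCategory.singleFunctor A 0).obj X) := by
  have hW : WSerre.IsWeakSerre (⊤ : ObjectProperty A) := inferInstance
  obtain ⟨φ, hφ⟩ := Groth.Agent.H27KZero.exists_equiv (C := (⊤ : ObjectProperty A))
    (P := fun X : DerivedCategory A => ∃ a b : ℤ, X.IsGE a ∧ X.IsLE b) fun K =>
      ⟨fun ⟨a, b, ha, hb⟩ => ⟨fun _ => trivial, ⟨a, ha⟩, ⟨b, hb⟩⟩, fun ⟨_, ⟨a, ha⟩, ⟨b, hb⟩⟩ => ⟨a, b, ha, hb⟩⟩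
  let f : KZero.K0 A →+ KZero.K0sub (⊤ : ObjectProperty A) := QuotientAddGroup.lift _
    (FreeAbelianGroup.lift fun X => KZero.clSub (⊤ : ObjectProperty A) X) (by
      refine (AddSubgroup.closure_le _).mpr ?_
      rintro x ⟨S, hS, rfl⟩
      simp only [SetLike.mem_coe, AddMonoidHom.mem_ker, map_sub, FreeAbelianGroup.lift_apply_of]
      rw [sub_sub, sub_eq_zero]
      exact Groth.Agent.H27KZero.clSub_shortExact hS trivial trivial trivial)
  let g : KZero.K0sub (⊤ : ObjectProperty A) →+ KZero.K0 A := QuotientAddGroup.lift _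
    (FreeAbelianGroup.lift fun X : Subtype (⊤ : ObjectProperty A) => KZero.cl X.1) (by
      refine (AddSubgroup.closure_le _).mpr ?_
      rintro x ⟨S, h₁, h₂, h₃, hS, rfl⟩
      simp only [SetLike.mem_coe, AddMonoidHom.mem_ker, map_sub, FreeAbelianGroup.lift_apply_of, KZero.cl]
      rw [← QuotientAddGroup.mk_sub, ← QuotientAddGroup.mk_sub, QuotientAddGroup.eq_zero_iff]
      exact AddSubgroup.subset_closure ⟨S, hS, rfl⟩)
  have hgf : g.comp f = AddMonoidHom.id _ := by
    refine QuotientAddGroup.addMonoidHom_ext _ (FreeAbelianGroup.lift_ext _ _ fun X => ?_)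
    simp [f, g, KZero.cl, KZero.clSub]
  have hfg : f.comp g = AddMonoidHom.id _ := by
    refine QuotientAddGroup.addMonoidHom_ext _ (FreeAbelianGroup.lift_ext _ _ fun X => ?_)
    simp [f, g, KZero.cl, KZero.clSub]
  refine ⟨(AddMonoidHom.toAddEquiv f g hgf hfg).trans φ, fun X => ?_⟩
  rw [← hφ X trivial]
  simp [f, KZero.cl]

end Groth.Agent.S0987
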