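import Groth.Statements.S0988
import Groth.Agent.H10Inj.Embed
import Groth.Agent.H10Coh.ModRes

set_option autoImplicit false
universe u
open CategoryTheory AlgebraicGeometry Opposite
open Perf

namespace Groth.Agent.S0988

/-- Let X be a Noetherian scheme and J an injective object of the category QCoh(O_X) of quasi-coherent
O_X-modules (the full subcategory of all O_X-modules). Then J is flasque: for opens U ⊆ V of X the
restriction map J(V) → J(U) is surjective. -/
theorem result (X : Scheme.{u}) [IsNoetherian X]
    (J : ObjectProperty.FullSubcategory (fun M : X.Modules => Coh.IsQCoh M)) (hJ : Injective J)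
    (U V : X.Opens) (hUV : U ≤ V) :
    Function.Surjective (J.obj.val.map (homOfLE hUV).op).hom := by
  obtain ⟨E, g, hg, hEinj, hEqc⟩ := @H10Inj.exists_mono_injective X inferInstance J.obj J.property
  let P : ObjectProperty X.Modules := fun M => Coh.IsQCoh M
  let E' : P.FullSubcategory := ⟨E, hEqc⟩
  let g' : J ⟶ E' := P.homMk g
  haveI : Mono g' := P.ι.mono_of_mono_map hg
  haveI := hJ
  obtain ⟨r, hr⟩ := Injective.factors (𝟙 J) g'
  have hr0 : g ≫ r.hom = 𝟙 J.obj := congrArg (fun φ => P.ι.map φ) hr
  intro s
  obtain ⟨e, he⟩ := @H10Coh.flasque_sh_of_injective X E hEinj V U hUV (g.app U s)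
  refine ⟨r.hom.app V e, ?_⟩
  have h1 := congr($(r.hom.mapPresheaf.naturality (homOfLE hUV).op) e)
  refine h1.symm.trans ((congrArg (r.hom.app U) he).trans ?_)
  exact congr($(congrArg (fun φ => Scheme.Modules.Hom.app φ U) hr0) s)

end Groth.Agent.S0988
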