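import Groth.Statements.S0989
import Mathlib.Algebra.Homology.DerivedCategory.HomologySequence
import Mathlib.CategoryTheory.Triangulated.Subcategory

set_option autoImplicit false
universe w v u
open CategoryTheory CategoryTheory.Limits
open CohDer

namespace Groth.Agent.S0989

open CategoryTheory.Pretriangulated

/-- Let P be a weak Serre class in an abelian category A: P is closed under isomorphisms, holds for a
zero object, and whenever X₀ → X₁ → X₂ → X₃ → X₄ is exact with P holding for X₀, X₁, X₃, X₄ it holds
for X₂. Then the class of objects of the derived category all of whose cohomology objects satisfy P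
is a triangulated subcategory (contains zero, stable under shifts, closed under extensions) which is
moreover closed under retracts (saturated). -/
theorem result {A : Type u} [Category.{v} A] [Abelian A] [HasDerivedCategory.{w} A]
    (P : ObjectProperty A) [P.IsClosedUnderIsomorphisms] (h0 : ∃ Z : A, IsZero Z ∧ P Z)
    (hP : ∀ S : ComposableArrows A 4, S.Exact → P (S.obj 0) → P (S.obj 1) → P (S.obj 3) → P (S.obj 4) → P (S.obj 2)) :
    ObjectProperty.IsTriangulated (fun X : DerivedCategory A => ∀ n : ℤ, P ((DerivedCategory.homologyFunctor A n).obj X)) ∧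
    ObjectProperty.IsStableUnderRetracts (fun X : DerivedCategory A => ∀ n : ℤ, P ((DerivedCategory.homologyFunctor A n).obj X)) := by
  obtain ⟨Z, hZ, hPZ⟩ := h0
  let Q : ObjectProperty (DerivedCategory A) :=
    fun X => ∀ n : ℤ, P ((DerivedCategory.homologyFunctor A n).obj X)
  have pz : ∀ W : A, IsZero W → P W := fun W hW => P.prop_of_iso (hZ.iso hW) hPZ
  have : Q.IsClosedUnderIsomorphisms :=
    ⟨fun e h n => P.prop_of_iso ((DerivedCategory.homologyFunctor A n).mapIso e) (h n)⟩
  have : Q.ContainsZero :=
    ⟨⟨_, isZero_zero _, fun n => pz _ (Functor.map_isZero _ (isZero_zero _))⟩⟩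
  have : Q.IsStableUnderShift ℤ := ⟨fun k => ⟨fun X hX n =>
    P.prop_of_iso ((((DerivedCategory.homologyFunctor A 0).shiftIso k n (k + n) rfl)).app X).symm
      (hX (k + n))⟩⟩
  have : Q.IsTriangulatedClosed₂ := ObjectProperty.IsTriangulatedClosed₂.mk' (fun T hT h₁ h₃ n =>
    hP (ComposableArrows.mk₄ (DerivedCategory.HomologySequence.δ T (n - 1) n (by lia))
        ((DerivedCategory.homologyFunctor A n).map T.mor₁)
        ((DerivedCategory.homologyFunctor A n).map T.mor₂)
        (DerivedCategory.HomologySequence.δ T n (n + 1) rfl))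
      (ComposableArrows.exact_of_δ₀
        (DerivedCategory.HomologySequence.exact₁ T hT (n - 1) n (by lia)).exact_toComposableArrows
        (ComposableArrows.exact_of_δ₀
          (DerivedCategory.HomologySequence.exact₂ T hT n).exact_toComposableArrows
          (DerivedCategory.HomologySequence.exact₃ T hT n (n + 1) rfl).exact_toComposableArrows))
      (h₃ (n - 1)) (h₁ n) (h₃ n) (h₁ (n + 1)))
  refine ⟨({ } : Q.IsTriangulated), ⟨?_⟩⟩
  intro X Y r hY n
  let r' := r.map (DerivedCategory.homologyFunctor A n)
  let p : (DerivedCategory.homologyFunctor A n).obj Y ⟶ (DerivedCategory.homologyFunctor A n).obj Y :=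
    𝟙 _ - r'.r ≫ r'.i
  have hip : r'.i ≫ p = 0 := by simp [p]
  have hex : (ShortComplex.mk r'.i p hip).Exact := by
    apply ShortComplex.exact_of_f_is_kernel
    refine KernelFork.IsLimit.ofι' r'.i hip (fun {W} k hk => ⟨k ≫ r'.r, ?_⟩)
    simp only [p, Preadditive.comp_sub, Category.comp_id, sub_eq_zero] at hk
    rw [Category.assoc]; exact hk.symm
  have hex' : (ShortComplex.mk (0 : Z ⟶ (DerivedCategory.homologyFunctor A n).obj X) r'.i
      zero_comp).Exact := by
    rw [ShortComplex.exact_iff_mono _ rfl]
    exact inferInstanceAs (Mono r'.i)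
  have hex0 : (ShortComplex.mk (0 : Z ⟶ Z) (0 : Z ⟶ (DerivedCategory.homologyFunctor A n).obj X)
      zero_comp).Exact := ShortComplex.exact_of_isZero_X₂ _ hZ
  exact hP (ComposableArrows.mk₄ (0 : Z ⟶ Z) (0 : Z ⟶ (DerivedCategory.homologyFunctor A n).obj X)
      r'.i p)
    (ComposableArrows.exact_of_δ₀ hex0.exact_toComposableArrows
      (ComposableArrows.exact_of_δ₀ hex'.exact_toComposableArrows hex.exact_toComposableArrows))
    hPZ hPZ (hY n) (hY n)

end Groth.Agent.S0989
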