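import Groth.Statements.S0992
import Mathlib.Algebra.Homology.HomologicalComplexLimits
import Mathlib.Algebra.Homology.ShortComplex.Ab
import Mathlib.Algebra.Category.Grp.Limits
import Mathlib.CategoryTheory.Limits.Types.Limits
import Mathlib.Order.WellFounded
import Mathlib.Tactic.Abel

set_option autoImplicit false
universe w
open CategoryTheory CategoryTheory.Limits Opposite
open CohDer

namespace Groth.Agent.S0992

set_option linter.style.haveILetI false
set_option linter.unusedSectionVars false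

variable {I : Type w} [LinearOrder I] [WellFoundedLT I] (K : Iᵒᵖ ⥤ CochainComplex AddCommGrpCat.{w} ℤ)

/-- The transition map. -/
noncomputable def rs (n : ℤ) {γ β : I} (h : γ ≤ β) : (K.obj (op β)).X n →+ (K.obj (op γ)).X n :=
  ((K.map (homOfLE h).op).f n).hom

/-- The differential. -/
noncomputable def dd (β : I) (i j : ℤ) : (K.obj (op β)).X i →+ (K.obj (op β)).X j :=
  ((K.obj (op β)).d i j).hom

lemma rs_rs (n : ℤ) {α γ β : I} (h : α ≤ γ) (h' : γ ≤ β) (x : (K.obj (op β)).X n) :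
    rs K n h (rs K n h' x) = rs K n (h.trans h') x := by
  have e : K.map (homOfLE h').op ≫ K.map (homOfLE h).op = K.map (homOfLE (h.trans h')).op := by
    rw [← K.map_comp]; rfl
  exact ConcreteCategory.congr_hom (congrArg (fun t => HomologicalComplex.Hom.f t n) e) x

lemma rs_refl (n : ℤ) {β : I} (h : β ≤ β) (x : (K.obj (op β)).X n) : rs K n h x = x := by
  have e : K.map (homOfLE h).op = 𝟙 _ := by rw [← K.map_id]; rfl
  exact ConcreteCategory.congr_hom (congrArg (fun t => HomologicalComplex.Hom.f t n) e) x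

lemma rs_dd (i j : ℤ) {γ β : I} (h : γ ≤ β) (x : (K.obj (op β)).X i) :
    rs K j h (dd K β i j x) = dd K γ i j (rs K i h x) :=
  (ConcreteCategory.congr_hom ((K.map (homOfLE h).op).comm i j) x).symm

lemma dd_dd (β : I) (i j k : ℤ) (x : (K.obj (op β)).X i) : dd K β j k (dd K β i j x) = 0 :=
  ConcreteCategory.congr_hom ((K.obj (op β)).d_comp_d i j k) x

lemma exists_dd (hac : ∀ (β : I) (n : ℤ), (K.obj (op β)).ExactAt n) (β : I) (n : ℤ)
    (x : (K.obj (op β)).X n) (hx : dd K β n (n + 1) x = 0) : ∃ y, dd K β (n - 1) n y = x :=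
  (ShortComplex.ab_exact_iff _).1
    ((HomologicalComplex.exactAt_iff' _ (n - 1) n (n + 1) (by simp) (by simp)).1 (hac β n)) x hx

/-- Exactness of the limit over a subset. -/
def Ex (S : I → Prop) : Prop :=
  ∀ (n : ℤ) (x : ∀ γ, S γ → (K.obj (op γ)).X n),
    (∀ γ γ' (hγ : S γ) (hγ' : S γ') (h : γ ≤ γ'), rs K n h (x γ' hγ') = x γ hγ) →
    (∀ γ hγ, dd K γ n (n + 1) (x γ hγ) = 0) →
    ∃ y : ∀ γ, S γ → (K.obj (op γ)).X (n - 1),
      (∀ γ γ' (hγ : S γ) (hγ' : S γ') (h : γ ≤ γ'), rs K (n - 1) h (y γ' hγ') = y γ hγ) ∧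
      ∀ γ hγ, dd K γ (n - 1) n (y γ hγ) = x γ hγ

variable (hac : ∀ (β : I) (n : ℤ), (K.obj (op β)).ExactAt n)
  (hsurj : ∀ (β : I) (n : ℤ) (x : ∀ γ : {γ : I // γ < β}, (K.obj (op γ.1)).X n),
    (∀ (γ γ' : {γ : I // γ < β}) (h : γ.1 ≤ γ'.1), ((K.map (homOfLE h).op).f n).hom (x γ') = x γ) →
    ∃ y : (K.obj (op β)).X n, ∀ γ : {γ : I // γ < β}, ((K.map (homOfLE γ.2.le).op).f n).hom y = x γ)

include hac hsurj in
lemma step {β : I} (hβ : Ex K (fun γ => γ < β)) (n : ℤ) (x : ∀ γ, γ ≤ β → (K.obj (op γ)).X n)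
    (hx : ∀ γ (hγ : γ ≤ β), rs K n hγ (x β le_rfl) = x γ hγ) (hd : dd K β n (n + 1) (x β le_rfl) = 0)
    (p : ∀ γ, γ < β → (K.obj (op γ)).X (n - 1))
    (hp : ∀ γ γ' (hγ : γ < β) (hγ' : γ' < β) (h : γ ≤ γ'), rs K (n - 1) h (p γ' hγ') = p γ hγ)
    (hpd : ∀ γ (hγ : γ < β), dd K γ (n - 1) n (p γ hγ) = x γ hγ.le) :
    ∃ y, dd K β (n - 1) n y = x β le_rfl ∧ ∀ γ (hγ : γ < β), rs K (n - 1) hγ.le y = p γ hγ := by
  obtain ⟨z, hz⟩ := exists_dd K hac β n (x β le_rfl) hd
  obtain ⟨e, he, hed⟩ := hβ (n - 1) (fun γ hγ => p γ hγ - rs K (n - 1) hγ.le z)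
    (fun γ γ' hγ hγ' h => by rw [map_sub, hp γ γ' hγ hγ' h, rs_rs])
    (fun γ hγ => by
      rw [show n - 1 + 1 = n by omega, map_sub, hpd, ← rs_dd, hz, hx, sub_self])
  obtain ⟨e', he'⟩ := hsurj β (n - 1 - 1) (fun γ => e γ.1 γ.2) (fun γ γ' h => he γ.1 γ'.1 γ.2 γ'.2 h)
  refine ⟨z + dd K β (n - 1 - 1) (n - 1) e', ?_, fun γ hγ => ?_⟩
  · rw [map_add, dd_dd, add_zero, hz]
  · rw [map_add, rs_dd]
    rw [show rs K (n - 1 - 1) hγ.le e' = e γ hγ from he' ⟨γ, hγ⟩, hed, add_sub_cancel]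

include hac hsurj in
lemma ex_of_forall (S : I → Prop) (hS : ∀ γ β, γ ≤ β → S β → S γ)
    (h : ∀ β, S β → Ex K (fun γ => γ < β)) : Ex K S := by
  classical
  intro n x hx hd
  let G : ∀ β, (∀ γ, γ < β → S γ → (K.obj (op γ)).X (n - 1)) → S β → (K.obj (op β)).X (n - 1) :=
    fun β p hβ => if hc : ∃ y, dd K β (n - 1) n y = x β hβ ∧
        ∀ γ (hγ : γ < β), rs K (n - 1) hγ.le y = p γ hγ (hS γ β hγ.le hβ)
      then hc.choose else 0
  let y : ∀ β, S β → (K.obj (op β)).X (n - 1) := wellFounded_lt.fix G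
  have hy : ∀ β hβ, y β hβ = G β (fun γ _ => y γ) hβ := fun β hβ =>
    congrFun (wellFounded_lt.fix_eq G β) hβ
  have key : ∀ β (hβ : S β), dd K β (n - 1) n (y β hβ) = x β hβ ∧
      ∀ γ (hγ : γ < β), rs K (n - 1) hγ.le (y β hβ) = y γ (hS γ β hγ.le hβ) := fun β => by
    induction β using WellFoundedLT.induction with
    | ind β ih =>
      intro hβ
      have hc : ∃ z, dd K β (n - 1) n z = x β hβ ∧
          ∀ γ (hγ : γ < β), rs K (n - 1) hγ.le z = y γ (hS γ β hγ.le hβ) :=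
        step K hac hsurj (h β hβ) n (fun γ hγ => x γ (hS γ β hγ hβ))
          (fun γ hγ => hx γ β _ _ hγ) (hd β hβ) (fun γ hγ => y γ (hS γ β hγ.le hβ))
          (fun γ γ' hγ hγ' hle => by
            rcases hle.eq_or_lt with rfl | hlt
            · exact rs_refl K _ _ _
            · exact (ih γ' hγ' _).2 γ hlt)
          (fun γ hγ => (ih γ hγ _).1)
      rw [hy β hβ]
      simp only [G, dif_pos hc]
      exact hc.choose_spec
  refine ⟨y, fun γ γ' hγ hγ' hle => ?_, fun γ hγ => (key γ hγ).1⟩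
  rcases hle.eq_or_lt with rfl | hlt
  · exact rs_refl K _ _ _
  · exact (key γ' hγ').2 γ hlt

include hac hsurj in
lemma ex_lt (β : I) : Ex K (fun γ => γ < β) := by
  induction β using WellFoundedLT.induction with
  | ind β ih => ?_
  exact ex_of_forall K hac hsurj _ (fun γ δ h h' => h.trans_lt h') ih

/-- Let I be a well-ordered type and K : Iᵒᵖ ⥤ CochainComplex Ab an inverse system of acyclic complexes
of abelian groups such that for every β and every degree n, each family of elements of the Kⁿ_γ (γ <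
β) compatible under the transition maps lifts to an element of Kⁿ_β (i.e. Kⁿ_β → lim_{γ<β} Kⁿ_γ is
surjective). Then the limit complex lim K is acyclic. -/
theorem result {I : Type w} [LinearOrder I] [WellFoundedLT I]
    (K : Iᵒᵖ ⥤ CochainComplex AddCommGrpCat.{w} ℤ)
    (hac : ∀ (β : I) (n : ℤ), (K.obj (op β)).ExactAt n)
    (hsurj : ∀ (β : I) (n : ℤ) (x : ∀ γ : {γ : I // γ < β}, (K.obj (op γ.1)).X n),
      (∀ (γ γ' : {γ : I // γ < β}) (h : γ.1 ≤ γ'.1), ((K.map (homOfLE h).op).f n).hom (x γ') = x γ) →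
      ∃ y : (K.obj (op β)).X n, ∀ γ : {γ : I // γ < β}, ((K.map (homOfLE γ.2.le).op).f n).hom y = x γ)
    (n : ℤ) : (limit K).ExactAt n := by
  rw [HomologicalComplex.exactAt_iff' _ (n - 1) n (n + 1) (by simp) (by simp), ShortComplex.ab_exact_iff]
  intro x hx
  let π := fun (m : ℤ) (γ : I) => ((limit.π K (op γ)).f m).hom
  let F := fun m : ℤ => HomologicalComplex.eval AddCommGrpCat.{w} (ComplexShape.up ℤ) m ⋙
    CategoryTheory.forget AddCommGrpCat.{w}
  have hl : ∀ m, IsLimit ((F m).mapCone (limit.cone K)) := fun m =>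
    isLimitOfPreserves (F m) (limit.isLimit K)
  have hsec : ∀ (m : ℤ) (v : ∀ γ, (K.obj (op γ)).X m), (∀ γ γ' (h : γ ≤ γ'), rs K m h (v γ') = v γ) →
      ∃ z : (limit K).X m, ∀ γ, π m γ z = v γ := fun m v hv => by
    let sec : (K ⋙ F m).sections := ⟨fun j => v j.unop, fun {j j'} f => hv _ _ (leOfHom f.unop)⟩
    refine ⟨(Types.isLimitEquivSections (hl m)).symm sec, fun γ => ?_⟩
    exact Types.isLimitEquivSections_symm_apply (hl m) sec (op γ)
  have hext : ∀ (m : ℤ) (a b : (limit K).X m), (∀ γ, π m γ a = π m γ b) → a = b := fun m a b h =>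
    (Types.isLimitEquivSections (hl m)).injective (Subtype.ext (funext fun j => h j.unop))
  have hπd : ∀ i j γ (a : (limit K).X i),
      π j γ (((limit K).d i j).hom a) = dd K γ i j (π i γ a) := fun i j γ a =>
    (ConcreteCategory.congr_hom ((limit.π K (op γ)).comm i j) a).symm
  obtain ⟨y, hy, hyd⟩ := ex_of_forall K hac hsurj (fun _ => True) (fun _ _ _ _ => trivial)
    (fun β _ => ex_lt K hac hsurj β) n (fun γ _ => π n γ x)
    (fun γ γ' _ _ h => ConcreteCategory.congr_hom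
      (congrArg (fun t => HomologicalComplex.Hom.f t n) (limit.w K (homOfLE h).op)) x)
    (fun γ _ => (hπd n (n + 1) γ x).symm.trans ((congrArg _ hx).trans (map_zero _)))
  obtain ⟨z, hz⟩ := hsec (n - 1) (fun γ => y γ trivial) fun γ γ' h => hy γ γ' trivial trivial h
  exact ⟨z, hext n _ _ fun γ => (hπd (n - 1) n γ z).trans ((congrArg _ (hz γ)).trans (hyd γ trivial))⟩

end Groth.Agent.S0992
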