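import Groth.Statements.S0993
import Groth.Agent.H27KZero.SerreSeq

set_option autoImplicit false
universe v v' u u'
open CategoryTheory CategoryTheory.Limits
open KZero

namespace Groth.Agent.S0993

/-- Let P be a Serre class in an abelian category A and L : A ⥤ Q an exact localization at the morphisms
with kernel and cokernel in P (a model of the quotient A/P). There are homomorphisms ι : K₀(P) →
K₀(A) and λ : K₀(A) → K₀(Q) given on classes of objects by the inclusion and by L; λ is surjective
and its kernel is the image of ι (part (1)); and an element of K₀(P) lies in the kernel of ι exactly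
when it has the form [H⁰] - [H¹] for a 2-periodic complex … → M → M → M → … with maps φ, ψ (φψ = 0 =
ψφ) on an object M of A whose two cohomology objects H⁰ = Ker ψ / Im φ and H¹ = Ker φ / Im ψ satisfy
P (part (2)). -/
theorem result {A : Type u} [Category.{v} A] [Abelian A] (P : ObjectProperty A) [P.IsSerreClass]
    {Q : Type u'} [Category.{v'} Q] [Abelian Q]
    (L : A ⥤ Q) [L.IsLocalization P.isoModSerre] [L.Additive] [PreservesFiniteLimits L] [PreservesFiniteColimits L] :
    ∃ (ι : KZero.K0sub P →+ KZero.K0 A) (lam : KZero.K0 A →+ KZero.K0 Q),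
      (∀ X : A, P X → ι (KZero.clSub P X) = KZero.cl X) ∧
      (∀ X : A, lam (KZero.cl X) = KZero.cl (L.obj X)) ∧
      Function.Surjective lam ∧ lam.ker = ι.range ∧
      ∀ x : KZero.K0sub P, ι x = 0 ↔
        ∃ (M : A) (φ ψ : M ⟶ M) (h₁ : φ ≫ ψ = 0) (h₂ : ψ ≫ φ = 0),
          P (ShortComplex.mk φ ψ h₁).homology ∧ P (ShortComplex.mk ψ φ h₂).homology ∧
          x = KZero.clSub P (ShortComplex.mk φ ψ h₁).homology - KZero.clSub P (ShortComplex.mk ψ φ h₂).homology := by
  open Groth.Agent.H27KZero.SerreSeq in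
  obtain ⟨ι, hι⟩ := exists_liftSub (P := P) (KZero.cl : A → KZero.K0 A) fun S hS => cl_shortExact hS
  obtain ⟨lam, hlam⟩ := Groth.Agent.H27KZero.SerreSeq.exists_liftK0 (fun X : A => KZero.cl (L.obj X))
    fun S hS => Groth.Agent.H27KZero.SerreSeq.cl_shortExact (hS.map_of_exact L)
  obtain ⟨μ, hμ⟩ := Groth.Agent.H27KZero.SerreSeq.exists_quotient_map P L ι hι
  haveI := Localization.essSurj L P.isoModSerre
  refine ⟨ι, lam, hι, hlam, ?_, ?_, fun x => ⟨Groth.Agent.H27KZero.SerreSeq.exists_periodic_of_eq_zero P ι hι x, ?_⟩⟩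
  · rw [← AddMonoidHom.range_eq_top]
    refine Groth.Agent.H27KZero.SerreSeq.closure_eq_top _ fun Y => ⟨KZero.cl (L.objPreimage Y), ?_⟩
    rw [hlam]
    exact Groth.Agent.H27KZero.SerreSeq.cl_iso (L.objObjPreimageIso Y)
  · refine le_antisymm (fun y hy => ?_) ?_
    · have h : μ.comp lam = QuotientAddGroup.mk' ι.range := by
        refine AddMonoidHom.eq_of_eqOn_top fun z _ => ?_
        have htop := Groth.Agent.H27KZero.SerreSeq.closure_eq_top
          (AddMonoidHom.eqLocus (μ.comp lam) (QuotientAddGroup.mk' ι.range)) fun X => by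
            show μ (lam (KZero.cl X)) = _
            rw [hlam, hμ]
            rfl
        exact htop.ge (AddSubgroup.mem_top z)
      refine (QuotientAddGroup.eq_zero_iff _).1 ((congrArg (fun f : KZero.K0 A →+ _ => f y) h).symm.trans ?_)
      rw [AddMonoidHom.comp_apply, AddMonoidHom.mem_ker.1 hy, map_zero]
    · rintro _ ⟨x, rfl⟩
      obtain ⟨Y, Z, hY, hZ, rfl⟩ := Groth.Agent.H27KZero.SerreSeq.exists_sub x
      rw [AddMonoidHom.mem_ker, map_sub, map_sub, hι _ hY, hι _ hZ, hlam, hlam,
        Groth.Agent.H27KZero.SerreSeq.cl_zero ((ObjectProperty.SerreClassLocalization.isZero_obj_iff L P Y).2 hY),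
        Groth.Agent.H27KZero.SerreSeq.cl_zero ((ObjectProperty.SerreClassLocalization.isZero_obj_iff L P Z).2 hZ),
        sub_zero]
  · rintro ⟨M, φ, ψ, h₁, h₂, hP₁, hP₂, rfl⟩
    rw [map_sub, hι _ hP₁, hι _ hP₂]
    have e₁ := Groth.Agent.H27KZero.SerreSeq.cl_homology (ShortComplex.mk φ ψ h₁)
    have e₂ := Groth.Agent.H27KZero.SerreSeq.cl_homology (ShortComplex.mk ψ φ h₂)
    rw [← add_comm (KZero.cl (kernel ψ))] at e₂
    exact sub_eq_zero.2 (add_right_cancel (e₁.trans e₂.symm))

end Groth.Agent.S0993
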