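import Groth.Statements.S0996
import Groth.Agent.H16Derived.UnitPlus

set_option autoImplicit false
universe w w' v v' u u'
open CategoryTheory CategoryTheory.Limits
open CohDer

namespace Groth.Agent.S0996

/-- Leray's acyclicity lemma. Let F : C ⥤ D be a left exact additive functor between abelian categories,
with C having enough injectives. If K is a bounded below cochain complex in C all of whose terms are
right F-acyclic (RⁱF(Kᵐ) = 0 for i > 0), then the canonical map F(K) → RF(K) in the bounded below
derived category D⁺(D) is an isomorphism. -/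
theorem result {C : Type u} [Category.{v} C] [Abelian C] [HasDerivedCategory.{w} C] [EnoughInjectives C]
    {D : Type u'} [Category.{v'} D] [Abelian D] [HasDerivedCategory.{w'} D]
    (F : C ⥤ D) [F.Additive] [PreservesFiniteLimits F] (K : CochainComplex.Plus C)
    (hK : ∀ (m : ℤ) (i : ℕ), 0 < i → IsZero ((F.rightDerived i).obj (K.obj.X m))) :
    IsIso (F.rightDerivedFunctorPlusUnit.app ((HomotopyCategory.Plus.quotient C).obj K)) := by
  obtain ⟨a, ha⟩ := K.property
  have : K.obj.IsStrictlyGE a := ha
  obtain ⟨L, hL, i, hi⟩ := CochainComplex.Plus.exists_quasiIso_injective K a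
  rw [Groth.Agent.H16Derived.UnitPlus.isIso_unit_iff F K L i hi]
  have : QuasiIso i.hom := hi
  have : ((InjectiveObject.ι C).mapCochainComplexPlus.obj L).obj.IsStrictlyGE a := by
    change CochainComplex.IsStrictlyGE
      (((InjectiveObject.ι C).mapHomologicalComplex (.up ℤ)).obj L.obj) a
    rw [CochainComplex.isStrictlyGE_mapHomologicalComplex_obj_iff]
    exact hL
  exact Groth.Agent.H16Derived.AcyclicLES.quasiIso_map F i.hom a hK (fun j =>
    haveI : Injective (((InjectiveObject.ι C).mapCochainComplexPlus.obj L).obj.X j) :=
      (L.obj.X j).property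
    Groth.Agent.H16Derived.AcyclicLES.isAcyclic_of_injective F _)

end Groth.Agent.S0996
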