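import Groth.Statements.S10008
import Groth.Agent.H12AlgSp.QC
import Mathlib.AlgebraicGeometry.AffineTransitionLimit
import Groth.Agent.H12AlgSp.Points

set_option autoImplicit false
universe u
open CategoryTheory CategoryTheory.Limits AlgebraicGeometry
open AlgSp

namespace Groth.Agent.S10008

/-- Let `X` be the limit, in fppf sheaves over `S`, of a cofiltered system `(X_i)` of algebraic spaces
over `S` whose transition maps are affine. If every `X_i` is quasi-compact and has at least one
point, then `X` has a point. -/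
theorem result (S : Scheme.{u}) {I : Type u} [SmallCategory I] [IsCofiltered I]
    (D : I ⥤ AlgSp.Sp S) (hD : ∀ i, AlgSp.IsAlgSpace (D.obj i))
    (hDa : ∀ (i j : I) (φ : i ⟶ j), AlgSp.IsAffineMor (D.map φ))
    (c : Cone D) (hc : IsLimit c)
    (hqc : ∀ i, AlgSp.IsQuasiCompactSp (D.obj i)) (hne : ∀ i, Nonempty (AlgSp.Points (D.obj i))) :
    Nonempty (AlgSp.Points c.pt) := by
  obtain ⟨i₀⟩ := IsCofiltered.nonempty (C := I)
  have := Groth.Agent.H12AlgSp.compactSpace_points_of_isQuasiCompactSp (hqc i₀)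
  obtain ⟨U, p, hU, hp, hs⟩ := Groth.Agent.H12AlgSp.exists_affine_atlas (hD i₀)
  have hW : ∀ j : Over i₀, ∃ (W : Over S) (w : W ⟶ U) (a : (yon S).obj W ⟶ D.obj j.left),
      IsPullback a ((yon S).map w) (D.map j.hom) p ∧ IsAffine W.left := fun j => by
    obtain ⟨W, w, a, sq, hA⟩ := hDa _ _ j.hom hU p
    exact ⟨W, w, a, sq, hA⟩
  choose W w a sq hA using hW
  have hmap : ∀ (j j' : Over i₀) (φ : j ⟶ j'), (a j ≫ D.map φ.left) ≫ D.map j'.hom = (yon S).map (w j) ≫ p := by
    intro j j' φ
    rw [Category.assoc, ← D.map_comp, Over.w, (sq j).w]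
  let q : ∀ {j j' : Over i₀} (φ : j ⟶ j'), W j ⟶ W j' := fun {j j'} φ =>
    (yon S).preimage ((sq j').lift (a j ≫ D.map φ.left) ((yon S).map (w j)) (hmap j j' φ))
  have hq1 : ∀ {j j' : Over i₀} (φ : j ⟶ j'), (yon S).map (q φ) ≫ a j' = a j ≫ D.map φ.left := fun φ => by
    simp [q]
  have hq2 : ∀ {j j' : Over i₀} (φ : j ⟶ j'), q φ ≫ w j' = w j := fun φ => (yon S).map_injective (by simp [q])
  let F : Over i₀ ⥤ Over S :=
    { obj := W
      map := fun φ => q φ
      map_id := fun j => (yon S).map_injective ((sq j).hom_ext (by simp [hq1])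
        (by rw [← Functor.map_comp, ← Functor.map_comp, hq2, Category.id_comp]))
      map_comp := fun {j₁ j₂ j₃} φ ψ => (yon S).map_injective ((sq j₃).hom_ext
        (by rw [hq1, Functor.map_comp, Category.assoc, hq1, reassoc_of% hq1 φ, Over.comp_left, D.map_comp])
        (by rw [← Functor.map_comp, ← Functor.map_comp, hq2, Category.assoc, hq2, hq2])) }
  let G : Over i₀ ⥤ Scheme.{u} := F ⋙ Over.forget S
  have : ∀ j, IsAffine (G.obj j) := hA
  have : ∀ j, CompactSpace (G.obj j) := fun j => inferInstance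
  have : ∀ {j j' : Over i₀} (φ : j ⟶ j'), IsAffineHom (G.map φ) := fun φ => isAffineHom_of_isAffine _
  have : ∀ j, Nonempty (G.obj j) := fun j => by
    obtain ⟨x⟩ := hne j.left
    obtain ⟨y, -⟩ := Groth.Agent.H12AlgSp.surjective_ofPt_of_repWith le_rfl
      (Groth.Agent.H12AlgSp.repWith_of_isPullback (sq j).flip hs) x
    exact ⟨y⟩
  have eG : G ≅ (G.op ⋙ Scheme.Γ).rightOp ⋙ Scheme.Spec := NatIso.ofComponents
    (fun j => (G.obj j).isoSpec) (fun φ => (Scheme.isoSpec_hom_naturality (G.map φ)).symm)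
  have : HasLimit G := hasLimit_of_iso eG.symm
  obtain ⟨t⟩ := Scheme.nonempty_of_isLimit G _ (limit.isLimit G)
  let top : Over i₀ := Over.mk (𝟙 i₀)
  let T : Over S := Over.mk (limit.π G top ≫ (W top).hom)
  let π : ∀ j, T ⟶ F.obj j := fun j => Over.homMk (limit.π G j) (by
    have h1 : limit.π G j ≫ G.map (Over.homMk j.hom : j ⟶ top) = limit.π G top := limit.w G _
    change limit.π G j ≫ (W j).hom = limit.π G top ≫ (W top).hom
    rw [← h1, Category.assoc]
    exact congrArg (limit.π G j ≫ ·) (Over.w (q (Over.homMk j.hom : j ⟶ top))).symm)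
  let cn : Cone (Over.forget i₀ ⋙ D) :=
    { pt := (yon S).obj T
      π := { app := fun j => (yon S).map (π j) ≫ a j
             naturality := fun j j' φ => by
              change 𝟙 _ ≫ (yon S).map (π j') ≫ a j' = ((yon S).map (π j) ≫ a j) ≫ D.map φ.left
              rw [Category.id_comp, Category.assoc, ← hq1 φ, ← Functor.map_comp_assoc]
              exact congrArg (fun t => (yon S).map t ≫ a j') (Over.OverMorphism.ext (limit.w G φ).symm) } }
  exact ⟨AlgSp.Points.ofPt (hc.lift (Functor.Initial.extendCone.obj cn)) t⟩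

end Groth.Agent.S10008
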