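import Groth.Statements.S10011
import Groth.Agent.H12AlgSp.LimitClosedIso

set_option autoImplicit false
universe u
open CategoryTheory CategoryTheory.Limits AlgebraicGeometry
open AlgSp

namespace Groth.Agent.S10011

/-- Let `B` be an algebraic space over `S` and `X` the limit in fppf sheaves of a cofiltered system
`(X_i)` of quasi-compact algebraic spaces over `B`, each locally of finite type over `B`, whose
transition morphisms are closed immersions. If `X ⟶ B` is locally of finite presentation, then the
projection `X ⟶ X_i` is an isomorphism for all `i` mapping to some `i₀`. -/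
theorem result (S : Scheme.{u}) {I : Type u} [SmallCategory I] [IsCofiltered I]
    (B : AlgSp.Space S) (D : I ⥤ AlgSp.Sp S) (hD : ∀ i, AlgSp.IsAlgSpace (D.obj i))
    (t : D ⟶ (Functor.const I).obj B.obj)
    (hDc : ∀ (i j : I) (φ : i ⟶ j), AlgSp.RepWith @IsClosedImmersion (D.map φ))
    (c : Cone D) (hc : IsLimit c)
    (hqc : ∀ i, AlgSp.IsQuasiCompactSp (D.obj i)) (hft : ∀ i, AlgSp.LocP @LocallyOfFiniteType (t.app i)) (i₁ : I)
    (hX : AlgSp.LocP @LocallyOfFinitePresentation (c.π.app i₁ ≫ t.app i₁)) :
    ∃ i₀ : I, ∀ (i : I) (_ : i ⟶ i₀), IsIso (c.π.app i) := by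
  exact Groth.Agent.H12AlgSp.eventually_isIso_π hD hDc hc (hqc i₁) B.property (t.app i₁) (hft i₁) hX

end Groth.Agent.S10011
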