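import Groth.Statements.S10012
import Groth.Agent.H12AlgSp.LimitMono

set_option autoImplicit false
universe u
open CategoryTheory CategoryTheory.Limits AlgebraicGeometry
open AlgSp

namespace Groth.Agent.S10012

/-- Let `S` be a quasi-separated scheme, `B` an algebraic space over `S`, and `X` the limit, in fppf
sheaves, of a cofiltered system `(X_i)` of algebraic spaces over `B`, each quasi-separated over `S`,
whose transition maps are affine; let `y : Y ⟶ X` be a monomorphism from a quasi-compact algebraic
space `Y` whose structure map to `B` is locally of finite type. Then, for all `i` mapping to some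
`i₀`, the composite `Y ⟶ X ⟶ X_i` is a monomorphism. (The published statement allows any base scheme
and uses absolute quasi-separatedness; this row assumes the base quasi-separated, over which
quasi-separatedness relative to the base is the absolute notion.) -/
theorem result (S : Scheme.{u}) [QuasiSeparatedSpace S] {I : Type u} [SmallCategory I] [IsCofiltered I]
    (B : AlgSp.Space S) (D : I ⥤ AlgSp.Sp S) (hD : ∀ i, AlgSp.IsAlgSpace (D.obj i))
    (t : D ⟶ (Functor.const I).obj B.obj)
    (hDa : ∀ (i j : I) (φ : i ⟶ j), AlgSp.IsAffineMor (D.map φ))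
    (c : Cone D) (hc : IsLimit c)
    (hqs : ∀ i, AlgSp.IsQuasiSeparatedSp (D.obj i))
    (Y : AlgSp.Space S) (hYqc : AlgSp.IsQuasiCompactSp Y.obj) (y : Y.obj ⟶ c.pt) [Mono y] (i₁ : I)
    (hYB : AlgSp.LocP @LocallyOfFiniteType (y ≫ c.π.app i₁ ≫ t.app i₁)) :
    ∃ i₀ : I, ∀ (i : I) (_ : i ⟶ i₀), Mono (y ≫ c.π.app i) := by
  exact Groth.Agent.H12AlgSp.eventually_mono hD hDa hc i₁ (hqs i₁) Y.property hYqc y B.property (t.app i₁) hYB

end Groth.Agent.S10012
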