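import Groth.Statements.S10022
import Groth.Agent.H12AlgSp.LimitDescendIso

set_option autoImplicit false
set_option backward.isDefEq.respectTransparency false
universe u
open CategoryTheory CategoryTheory.Limits AlgebraicGeometry
open AlgSp

namespace Groth.Agent.S10022

/-- Let `S` be a quasi-separated scheme and `B` the limit, in fppf sheaves over `S`, of a cofiltered
system `(B_i)` of algebraic spaces over `S` whose transition maps are affine; fix an index `i₀` such
that `B_{i₀}` is quasi-compact and quasi-separated over `S`, and a morphism `f₀ : X₀ ⟶ Y₀` of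
algebraic spaces over `B_{i₀}` whose source and target are quasi-compact and quasi-separated over
`S`. Write `f_i` (for `i` mapping to `i₀`) and `f` for the base changes of `f₀` to `B_i` and to `B`,
given by pullback squares. If `f` is a monomorphism and `f₀` locally of finite type, then for some
`i` mapping to `i₀` every such base change `f_i` is a monomorphism. (The published statement allows
any base scheme and uses absolute quasi-separatedness; this row assumes the base quasi-separated,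
over which quasi-separatedness relative to the base is the absolute notion.) -/
theorem result (S : Scheme.{u}) [QuasiSeparatedSpace S] {I : Type u} [SmallCategory I] [IsCofiltered I]
    (D : I ⥤ AlgSp.Sp S) (hD : ∀ i, AlgSp.IsAlgSpace (D.obj i))
    (hDa : ∀ (i j : I) (φ : i ⟶ j), AlgSp.IsAffineMor (D.map φ))
    (c : Cone D) (hc : IsLimit c) (i₀ : I)
    (hBqc : AlgSp.IsQuasiCompactSp (D.obj i₀)) (hBqs : AlgSp.IsQuasiSeparatedSp (D.obj i₀))
    (X₀ Y₀ : AlgSp.Space S) (f₀ : X₀.obj ⟶ Y₀.obj) (b₀ : Y₀.obj ⟶ D.obj i₀)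
    (hXqc : AlgSp.IsQuasiCompactSp X₀.obj) (hXqs : AlgSp.IsQuasiSeparatedSp X₀.obj)
    (hYqc : AlgSp.IsQuasiCompactSp Y₀.obj) (hYqs : AlgSp.IsQuasiSeparatedSp Y₀.obj)
    (X Y : AlgSp.Sp S) (f : X ⟶ Y) (pY : Y ⟶ Y₀.obj) (qY : Y ⟶ c.pt)
    (hY : IsPullback pY qY b₀ (c.π.app i₀)) (pX : X ⟶ X₀.obj) (hX : IsPullback pX f f₀ pY)
    [Mono f] (hf₀ : AlgSp.LocP @LocallyOfFiniteType f₀) :
    ∃ (i : I) (φ : i ⟶ i₀), ∀ (Xi Yi : AlgSp.Sp S) (fi : Xi ⟶ Yi) (pYi : Yi ⟶ Y₀.obj) (qYi : Yi ⟶ D.obj i)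
      (_ : IsPullback pYi qYi b₀ (D.map φ)) (pXi : Xi ⟶ X₀.obj) (_ : IsPullback pXi fi f₀ pYi),
      Mono fi := by
  have hd : IsIso (pullback.diagonal f) := pullback.isIso_diagonal_iff f |>.2 ‹_›
  obtain ⟨i, φ, h⟩ := Groth.Agent.H12AlgSp.descend_diagonal (Groth.Agent.H12AlgSp.descendsToBase_affineType (P := MorphismProperty.isomorphisms Scheme.{u}) (fun _ _ k (_ : IsIso k) => inferInstanceAs (IsAffineHom k)) Groth.Agent.H12AlgSp.etLocal_lfp Groth.Agent.H12AlgSp.descendsAffine_isomorphisms) (fun f e he a b c h => Groth.Agent.H12AlgSp.locP_of_comp_iso Groth.Agent.H12AlgSp.etLocal_lfp f e he a b c h) hD hDa hc f₀ b₀ X₀.property Y₀.property hXqc hXqs hYqs (Groth.Agent.H12AlgSp.locP_lfp_diagonal X₀.property Y₀.property hf₀) hY hX (Groth.Agent.H12AlgSp.repWith_of_isIso (pullback.diagonal f))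
  exact ⟨i, φ, fun Xi Yi fi pYi qYi hYi pXi hXi =>
    (pullback.isIso_diagonal_iff fi).1 (Groth.Agent.H12AlgSp.isIso_of_repWith_isomorphisms (h Xi Yi fi pYi qYi hYi pXi hXi))⟩

end Groth.Agent.S10022
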