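import Groth.Statements.S10037
import Groth.Agent.H12AlgSp.Approx.Eventually

set_option autoImplicit false
set_option backward.isDefEq.respectTransparency.types false
universe u
open CategoryTheory CategoryTheory.Limits AlgebraicGeometry
open AlgSp

namespace Groth.Agent.S10037

/-- Let `f : X ⟶ Y` be a morphism locally of finite type of algebraic spaces over `S`, where `X` and `Y`
are both quasi-compact and quasi-separated over `S`. Then `f` factors as a closed immersion `X ⟶ X'`
followed by a morphism `X' ⟶ Y` of finite presentation. (The published statement allows any base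
scheme and uses absolute quasi-separatedness; this row assumes the base quasi-separated, over which
quasi-separatedness relative to the base is the absolute notion.) -/
theorem result (S : Scheme.{u}) [QuasiSeparatedSpace S]
    {X Y : AlgSp.Space S} (f : X ⟶ Y) (hft : AlgSp.LocP @LocallyOfFiniteType f.hom)
    (hXqc : AlgSp.IsQuasiCompactSp X.obj) (hXqs : AlgSp.IsQuasiSeparatedSp X.obj) (hYqc : AlgSp.IsQuasiCompactSp Y.obj) (hYqs : AlgSp.IsQuasiSeparatedSp Y.obj) :
    ∃ (X' : AlgSp.Space S) (i : X ⟶ X') (f' : X' ⟶ Y), i ≫ f' = f ∧
      AlgSp.RepWith @IsClosedImmersion i.hom ∧ AlgSp.IsFinitePresentationMor f'.hom := by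
  obtain ⟨X', i, t, h, hX', hi, ht⟩ := Groth.Agent.H12AlgSp.Approx.exists_closedImmersion_fp X.property Y.property hft
    hXqc hXqs hYqs
  exact ⟨⟨X', hX'⟩, InducedCategory.homMk i, InducedCategory.homMk t, InducedCategory.hom_ext h, hi, ht⟩

end Groth.Agent.S10037
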