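import Groth.Statements.S10040
import Groth.Agent.H12AlgSp.Approx.Pairs

set_option autoImplicit false
set_option backward.isDefEq.respectTransparency.types false
universe u
open CategoryTheory CategoryTheory.Limits AlgebraicGeometry
open AlgSp

namespace Groth.Agent.S10040

/-- Over a terminal base scheme `S` (the spectrum of the integers), let `f : X ⟶ Y` be a morphism
between algebraic spaces each of which is quasi-compact and quasi-separated. Then `f` is a directed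
limit of morphisms `f_i : X_i ⟶ Y_i`, where every `X_i` and every `Y_i` is of finite type and
quasi-separated over `S` and both systems have affine transition maps (limits in fppf sheaves,
indexed by one nonempty directed preorder, compatible with `f`). -/
theorem result (S : Scheme.{u}) (hS : IsTerminal S) {X Y : AlgSp.Space S} (f : X ⟶ Y)
    (hXqc : AlgSp.IsQuasiCompactSp X.obj) (hXqs : AlgSp.IsQuasiSeparatedSp X.obj)
    (hYqc : AlgSp.IsQuasiCompactSp Y.obj) (hYqs : AlgSp.IsQuasiSeparatedSp Y.obj) :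
    ∃ (I : Type u) (_ : Preorder I) (_ : IsDirected I (fun a b => a ≤ b)) (_ : Nonempty I)
      (DX DY : Iᵒᵖ ⥤ AlgSp.Sp S) (φ : DX ⟶ DY) (cX : Cone DX) (cY : Cone DY) (_ : IsLimit cX) (_ : IsLimit cY)
      (eX : cX.pt ≅ X.obj) (eY : cY.pt ≅ Y.obj),
      (∀ i, AlgSp.IsAlgSpace (DX.obj i) ∧ AlgSp.IsAlgSpace (DY.obj i)) ∧
      (∀ (i j : Iᵒᵖ) (g : i ⟶ j), AlgSp.IsAffineMor (DX.map g) ∧ AlgSp.IsAffineMor (DY.map g)) ∧
      (∀ i, AlgSp.IsQuasiSeparatedSp (DX.obj i) ∧ AlgSp.IsQuasiSeparatedSp (DY.obj i) ∧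
        (∀ q : DX.obj i ⟶ (AlgSp.yon S).obj (Over.mk (𝟙 S)), AlgSp.IsFiniteTypeMor q) ∧
        (∀ q : DY.obj i ⟶ (AlgSp.yon S).obj (Over.mk (𝟙 S)), AlgSp.IsFiniteTypeMor q)) ∧
      (∀ i, cX.π.app i ≫ φ.app i = eX.hom ≫ f.hom ≫ eY.inv ≫ cY.π.app i) := by
  haveI : IsAffine S := (Groth.Agent.H12AlgSp.Approx.isNoetherian_of_isTerminal hS).1
  obtain ⟨σ⟩ := Groth.Agent.H12AlgSp.Approx.exists_sys hS X.property hXqc hXqs
  obtain ⟨τ⟩ := Groth.Agent.H12AlgSp.Approx.exists_sys hS Y.property hYqc hYqs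
  obtain ⟨P⟩ := Groth.Agent.H12AlgSp.Approx.exists_sysHom σ τ f.hom
  have hft : ∀ {F : AlgSp.Sp S}, AlgSp.IsAlgSpace F → AlgSp.IsQuasiCompactSp F →
      AlgSp.LocP @LocallyOfFinitePresentation (Groth.Agent.H12AlgSp.Approx.strMap F) →
      ∀ q : F ⟶ (AlgSp.yon S).obj (Over.mk (𝟙 S)), AlgSp.IsFiniteTypeMor q := fun {F} hF hc hl q => by
    rw [Groth.Agent.H12AlgSp.Approx.strMap_ext q (Groth.Agent.H12AlgSp.Approx.strMap F)]
    refine ⟨fun U V a b k ha hb w => ?_, Groth.Agent.H12AlgSp.isQuasiCompactMor_of_qc_qs hF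
      (AlgSp.IsAlgSpace.yon_obj _) _ hc (Groth.Agent.H12AlgSp.isQuasiSeparatedSp_yon
        (inferInstanceAs (QuasiSeparatedSpace S)))⟩
    haveI := hl a b k ha hb w
    infer_instance
  exact ⟨P.J, inferInstance, inferInstance, inferInstance, P.DX, P.DY, P.φ, P.cX, P.cY, P.isLimit_cX, P.isLimit_cY,
    Iso.refl _, Iso.refl _, fun i => ⟨σ.alg _, τ.alg _⟩, fun i j g => ⟨σ.affine _ _ _, τ.affine _ _ _⟩,
    fun i => ⟨σ.qs _, τ.qs _, hft (σ.alg _) (σ.qc _) (σ.lfp _), hft (τ.alg _) (τ.qc _) (τ.lfp _)⟩,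
    fun i => by
      refine (P.comm i.unop).trans ?_
      simp only [Iso.refl_hom, Iso.refl_inv]
      exact (congrArg (f.hom ≫ ·) (Category.id_comp _).symm).trans (Category.id_comp _).symm⟩

end Groth.Agent.S10040
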