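import Groth.Statements.S10041
import Groth.Agent.H13Chow.ProperLimit
-- import your own Groth.Agent.* helpers here

set_option autoImplicit false
set_option backward.isDefEq.respectTransparency false
universe u
open CategoryTheory CategoryTheory.Limits AlgebraicGeometry
open AlgSp

namespace Groth.Agent.S10041

/-- Let `Y` be an algebraic space, quasi-compact and quasi-separated over the scheme `S`, and `f : X ⟶
Y` a proper morphism from another algebraic space. Then `X` is the limit of a directed system of
algebraic spaces `X_i`, each proper and of finite presentation over `Y`, in which the transition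
maps and the projections `X ⟶ X_i` are closed immersions (limit in fppf sheaves, indexed by a
nonempty directed preorder, compatible with `f`). (The published statement allows any base scheme
and uses absolute quasi-separatedness; this row assumes the base quasi-separated, over which
quasi-separatedness relative to the base is the absolute notion.) -/
theorem result (S : Scheme.{u}) [QuasiSeparatedSpace S]
    {X Y : AlgSp.Space S} (f : X ⟶ Y) (hf : AlgSp.IsProperMor f.hom) (hYqc : AlgSp.IsQuasiCompactSp Y.obj) (hYqs : AlgSp.IsQuasiSeparatedSp Y.obj) :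
    ∃ (I : Type u) (_ : Preorder I) (_ : IsDirected I (fun a b => a ≤ b)) (_ : Nonempty I) (D : Iᵒᵖ ⥤ AlgSp.Sp S)
      (t : D ⟶ (Functor.const Iᵒᵖ).obj Y.obj) (c : Cone D) (_ : IsLimit c) (e : c.pt ≅ X.obj),
      (∀ i, AlgSp.IsAlgSpace (D.obj i)) ∧ (∀ (i j : Iᵒᵖ) (φ : i ⟶ j), AlgSp.RepWith @IsClosedImmersion (D.map φ)) ∧
      (∀ i, AlgSp.RepWith @IsClosedImmersion (c.π.app i)) ∧
      (∀ i, AlgSp.IsProperMor (t.app i) ∧ AlgSp.IsFinitePresentationMor (t.app i)) ∧
      (∀ i, e.inv ≫ c.π.app i ≫ t.app i = f.hom) := by
  exact Groth.Agent.H13Chow.exists_limit_proper X.property Y.property f.hom hf hYqc hYqs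

end Groth.Agent.S10041
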