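import Groth.Statements.S10046
import Groth.Agent.H12AlgSp.Approx.AffineTarget
import Groth.Agent.H12AlgSp.GlueSheaf
import Groth.Agent.H12AlgSp.LimitScheme
import Groth.Agent.H12AlgSp.LimitQuotient
import Groth.Agent.H12AlgSp.OpenSub
import Groth.Agent.H12AlgSp.NormSp.Local

set_option autoImplicit false
set_option backward.isDefEq.respectTransparency.types false
universe u
open CategoryTheory CategoryTheory.Limits AlgebraicGeometry
open AlgSp Groth.Agent.H12AlgSp Groth.Agent.H13AlgSp

namespace Groth.Agent.S10046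

/-- Let `f : X ⟶ Y`, a morphism of algebraic spaces over `S`, be integral and induce a bijection on
points. Then `X` is representable by a scheme over `S` exactly when `Y` is. -/
theorem result (S : Scheme.{u}) {X Y : AlgSp.Space S} (f : X ⟶ Y)
    (hint : AlgSp.IsIntegralMor f.hom) (hbij : Function.Bijective (AlgSp.Points.map f.hom)) :
    X.obj.obj.IsRepresentable ↔ Y.obj.obj.IsRepresentable := by
  rw [isRepresentable_iff_exists_iso, isRepresentable_iff_exists_iso]
  have hr : RepWith @IsIntegralHom f.hom := isIntegralMor_iff.1 hint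
  constructor
  swap
  · rintro ⟨T, ⟨e⟩⟩
    obtain ⟨W, i, fst, sq⟩ := hr.1 e.hom
    haveI := sq.isIso_fst_of_isIso
    exact ⟨W, ⟨asIso fst⟩⟩
  rintro ⟨T, ⟨e⟩⟩
  have hclosed : IsClosedMap (Points.map f.hom) :=
    isClosedMap_map_of_repWith (fun _ _ k (_ : IsIntegralHom k) => inferInstance) hr
  have key : ∀ B : T.left.affineOpens, ∃ (Z : Over S) (j : (yon S).obj Z ⟶ Y.obj),
      RepWith @IsOpenImmersion j ∧
      Points.map f.hom '' Set.range (Points.map ((yon S).map (openIncl T B.1) ≫ e.hom)) ⊆ Set.range (Points.map j) := by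
    intro B
    have hB : RepWith @IsOpenImmersion ((yon S).map (openIncl T B.1) ≫ e.hom) :=
      MorphismProperty.RespectsIso.postcomp (RepWith @IsOpenImmersion) _ _
        ((repWith_yon_map_iff @IsOpenImmersion _).2 (inferInstanceAs (IsOpenImmersion B.1.ι)))
    have hO : IsOpen (Points.map f.hom '' Set.range (Points.map ((yon S).map (openIncl T B.1) ≫ e.hom))) := by
      have ho := (isOpenMap_map_of_repWith (fun _ _ k (_ : IsOpenImmersion k) => inferInstance) hB).isOpen_range
      rw [← compl_compl (Points.map f.hom '' _), ← Set.image_compl_eq hbij]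
      exact (hclosed _ ho.isClosed_compl).isOpen_compl
    obtain ⟨W, ι, hW, hι, hrg⟩ := exists_open_subspace Y.property hO
    have hfst : RepWith @IsOpenImmersion (pullback.fst f.hom ι) :=
      repWith_of_isPullback (IsPullback.of_hasPullback f.hom ι).flip hι
    obtain ⟨ε, hε⟩ := exists_iso_of_range_eq hB hfst (by
      rw [range_snd_of_isPullback (IsPullback.of_hasPullback f.hom ι).flip, hrg, hbij.1.preimage_image])
    have hint' : IsIntegralMor (ε.hom ≫ pullback.snd f.hom ι) :=
      isIntegralMor_iff.2 (MorphismProperty.RespectsIso.precomp (RepWith @IsIntegralHom) _ _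
        (repWith_of_isPullback (IsPullback.of_hasPullback f.hom ι) hr))
    obtain ⟨M, -, ⟨μ⟩⟩ := Approx.exists_affine_of_univClosed_surjective (T := openOver T B.1) B.2 hW
      (ε.hom ≫ pullback.snd f.hom ι) (fun y => by
        obtain ⟨p, hp⟩ := Approx.surjective_map_of_isPullback (IsPullback.of_hasPullback f.hom ι) hbij.2 y
        exact ⟨Points.map ε.inv p, by rw [← Points.map_comp, Iso.inv_hom_id_assoc, hp]⟩)
      (isIntegralMor_iff_affine_univClosed.1 hint').2
    refine ⟨M, μ.hom ≫ ι, MorphismProperty.RespectsIso.precomp (RepWith @IsOpenImmersion) _ _ hι, ?_⟩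
    rw [← hrg]
    rintro _ ⟨x, rfl⟩
    exact ⟨Points.map μ.inv x, by rw [← Points.map_comp, Iso.inv_hom_id_assoc]⟩
  choose Z j hj hsub using key
  obtain ⟨M, μ, hμ⟩ := exists_iso_of_openCover Z j hj (fun A y a => by
    obtain ⟨x, hx⟩ := hbij.2 (Points.ofPt y a)
    obtain ⟨v, hv⟩ := (Points.schemeEquiv T).surjective (Points.map e.inv x)
    obtain ⟨B, hB⟩ := TopologicalSpace.Opens.mem_iSup.1 ((iSup_affineOpens_eq_top T.left).ge (Set.mem_univ v))
    refine ⟨B, hx ▸ hsub B ⟨x, ⟨Points.ofScheme _ ⟨v, hB⟩, ?_⟩, rfl⟩⟩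
    rw [Points.map_comp]
    refine (congrArg (Points.map e.hom) (Points.map_yon_map_apply _ _)).trans ?_
    change Points.map e.hom (Points.schemeEquiv T v) = x
    rw [hv, ← Points.map_comp, Iso.inv_hom_id, Points.map_id])
  exact ⟨M, ⟨asIso μ⟩⟩

end Groth.Agent.S10046
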