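import Groth.Statements.S10049
import Groth.Agent.H12AlgSp.MinimalNonscheme
import Groth.Agent.H12AlgSp.QC

set_option autoImplicit false
universe u
open CategoryTheory CategoryTheory.Limits AlgebraicGeometry
open AlgSp

namespace Groth.Agent.S10049

/-- Let `X` be an algebraic space, quasi-compact and quasi-separated over the scheme `S`, which is not a
scheme. Then there is a closed subspace `Z ⊂ X` which is not a scheme such that every proper closed
subspace `Z' ⊊ Z` is a scheme. (The published statement allows any base scheme and uses absolute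
quasi-separatedness; this row assumes the base quasi-separated, over which quasi-separatedness
relative to the base is the absolute notion.) -/
theorem result (S : Scheme.{u}) [QuasiSeparatedSpace S]
    (X : AlgSp.Space S) (hXqc : AlgSp.IsQuasiCompactSp X.obj) (hXqs : AlgSp.IsQuasiSeparatedSp X.obj) (hX : ¬ X.obj.obj.IsRepresentable) :
    ∃ (Z : AlgSp.Space S) (i : Z ⟶ X), AlgSp.RepWith @IsClosedImmersion i.hom ∧ ¬ Z.obj.obj.IsRepresentable ∧
      ∀ (Z' : AlgSp.Space S) (i' : Z' ⟶ Z), AlgSp.RepWith @IsClosedImmersion i'.hom → ¬ IsIso i' → Z'.obj.obj.IsRepresentable := by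
  haveI := Groth.Agent.H12AlgSp.compactSpace_points_of_isQuasiCompactSp hXqc
  obtain ⟨U, p, hU, hp, hps⟩ := Groth.Agent.H12AlgSp.exists_affine_atlas X.property
  obtain ⟨Z, i, hZ, hi, hns, hmin⟩ :=
    Groth.Agent.H12AlgSp.exists_minimal_nonscheme X.property hp hps hXqc hXqs hX
  refine ⟨⟨Z, hZ⟩, ObjectProperty.homMk i, hi, hns, fun Z' i' hi' hne => hmin Z'.obj i'.hom Z'.property hi' ?_⟩
  intro h
  apply hne
  exact @isIso_of_reflects_iso _ _ _ _ _ _ i' (ObjectProperty.ι _) h _

end Groth.Agent.S10049
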