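import Groth.Statements.S10050
import Groth.Agent.H12AlgSp.TwoClosed.Minimal
import Groth.Agent.S10045

set_option autoImplicit false
universe u
open CategoryTheory CategoryTheory.Limits AlgebraicGeometry
open AlgSp Groth.Agent.H13AlgSp Groth.Agent.H12AlgSp

namespace Groth.Agent.S10050

/-- Let `X` be an algebraic space, quasi-compact and quasi-separated over the scheme `S`, which is not a
scheme although every proper closed subspace of `X` is one. Then `X` is reduced and irreducible.
(The published statement allows any base scheme and uses absolute quasi-separatedness; this row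
assumes the base quasi-separated, over which quasi-separatedness relative to the base is the
absolute notion.) -/
theorem result (S : Scheme.{u}) [QuasiSeparatedSpace S]
    (X : AlgSp.Space S) (hXqc : AlgSp.IsQuasiCompactSp X.obj) (hXqs : AlgSp.IsQuasiSeparatedSp X.obj) (hX : ¬ X.obj.obj.IsRepresentable)
    (hmin : ∀ (Z : AlgSp.Space S) (i : Z ⟶ X), AlgSp.RepWith @IsClosedImmersion i.hom → ¬ IsIso i → Z.obj.obj.IsRepresentable) :
    AlgSp.IsReducedSp X.obj ∧ IrreducibleSpace (AlgSp.Points X.obj) := by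
  have hsub : ∀ T : Set (Points X.obj), IsClosed T → T ≠ Set.univ → ∃ (W : Over S) (i : (yon S).obj W ⟶ X.obj),
      RepWith @IsClosedImmersion i ∧ Set.range (Points.map i) = T := by
    intro T hT hne
    obtain ⟨Z, i, hZ, hi⟩ := exists_isRedInduced X.property hT
    have hni : ¬ IsIso (ObjectProperty.homMk i : (⟨Z, hZ⟩ : AlgSp.Space S) ⟶ X) := fun h => by
      haveI : IsIso i := (ObjectProperty.ι _).map_isIso (ObjectProperty.homMk i : (⟨Z, hZ⟩ : AlgSp.Space S) ⟶ X)
      refine hne (hi.2.1 ▸ Set.range_eq_univ.2 fun x => ⟨Points.map (inv i) x, ?_⟩)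
      rw [← Points.map_comp, IsIso.inv_hom_id, Points.map_id]
    obtain ⟨W, ⟨e⟩⟩ := isRepresentable_iff_exists_iso.1 (hmin ⟨Z, hZ⟩ (ObjectProperty.homMk i) hi.1 hni)
    refine ⟨W, e.hom ≫ i, repWith_comp (repWith_of_isIso _) hi.1, ?_⟩
    refine (range_map_subset_of_factor (g := e.hom) rfl).trans_eq hi.2.1 |>.antisymm ?_
    exact hi.2.1.symm.le.trans (range_map_subset_of_factor (g := e.inv) (by rw [Iso.inv_hom_id_assoc]))
  obtain ⟨Z, i, hZ, hi⟩ := exists_isRedInduced X.property (isClosed_univ (X := Points X.obj))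
  haveI : IsIso i := by
    by_contra h
    refine hX (Groth.Agent.S10045.result S X ⟨Z, hZ⟩ (ObjectProperty.homMk i) hi
      (hmin ⟨Z, hZ⟩ (ObjectProperty.homMk i) hi.1 fun h' => h ?_))
    exact (ObjectProperty.ι _).map_isIso (ObjectProperty.homMk i : (⟨Z, hZ⟩ : AlgSp.Space S) ⟶ X)
  have hred : IsReducedSp X.obj := by
    obtain ⟨U, p, hp, hps, hU⟩ := hi.2.2
    exact ⟨U, p ≫ i, repWith_comp hp (repWith_of_isIso i), repWith_comp hps (repWith_of_isIso i), hU⟩
  haveI : Nonempty (Points X.obj) := by
    by_contra h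
    obtain ⟨X', j, hj, hX', -⟩ := exists_largest_open_subscheme X
    haveI := ThickFlat.isIso_of_openImmersion_surjective X.property hj (fun x => (h ⟨x⟩).elim)
    obtain ⟨T, ⟨e⟩⟩ := isRepresentable_iff_exists_iso.1 hX'
    exact hX (isRepresentable_iff_exists_iso.2 ⟨T, ⟨e ≪≫ asIso j.hom⟩⟩)
  haveI : PreirreducibleSpace (Points X.obj) := ⟨isPreirreducible_iff_isClosed_union_isClosed.2
    fun A B hA hB hAB => by
      by_contra hn
      simp only [not_or, Set.univ_subset_iff] at hn
      obtain ⟨TY, iY, hY, rY⟩ := hsub A hA hn.1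
      obtain ⟨TZ, iZ, hZ, rZ⟩ := hsub B hB hn.2
      exact hX (TwoClosed.isRepresentable_of_two_closed X hred hY hZ
        (by rw [rY, rZ]; exact Set.univ_subset_iff.1 hAB))⟩
  exact ⟨hred, { toNonempty := inferInstance }⟩

end Groth.Agent.S10050
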