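import Groth.Statements.S10054
import Groth.Agent.H12AlgSp.DvrSquare
import Groth.Agent.H12AlgSp.Proper
import Groth.Agent.H12AlgSp.QC
import Groth.Agent.H17.QcImage
import Groth.Agent.H13AlgSp.RelRep

set_option autoImplicit false
set_option backward.isDefEq.respectTransparency false
universe u
open CategoryTheory CategoryTheory.Limits AlgebraicGeometry
open AlgSp

namespace Groth.Agent.S10054

/-- Let `f : X ⟶ Y` be a morphism of finite type of algebraic spaces over `S` with `Y` locally
Noetherian, and `y ∈ |Y|` a point lying in the closure of `f`'s image on points. Then one can find a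
discrete valuation ring `A` with fraction field `K` and a commutative square `Spec K ⟶ X`, `Spec A ⟶
Y` (over `f` and `Spec K ⟶ Spec A`) sending the closed point of `Spec A` to `y`. (The refinement
that the `K`-point may be taken at a codimension-0 point with `K` a residue field of an etale chart
is not included.) -/
theorem result (S : Scheme.{u}) {X Y : AlgSp.Space S} (f : X ⟶ Y)
    (hft : AlgSp.IsFiniteTypeMor f.hom) (hY : AlgSp.IsLocNoethSp Y.obj) (y : AlgSp.Points Y.obj)
    (hy : y ∈ closure (Set.range (AlgSp.Points.map f.hom))) :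
    ∃ (A : Type u) (_ : CommRing A) (_ : IsDomain A) (_ : IsDiscreteValuationRing A)
      (a : Spec (CommRingCat.of A) ⟶ S)
      (α : (AlgSp.yon S).obj (Over.mk a) ⟶ Y.obj)
      (κ : (AlgSp.yon S).obj (Over.mk (Spec.map (CommRingCat.ofHom (algebraMap A (FractionRing A))) ≫ a)) ⟶ X.obj),
      κ ≫ f.hom = (AlgSp.yon S).map (Over.homMk (Spec.map (CommRingCat.ofHom (algebraMap A (FractionRing A))))) ≫ α ∧
      AlgSp.Points.map α (AlgSp.Points.schemeEquiv (Over.mk a) (IsLocalRing.closedPoint A)) = y := by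
  obtain ⟨V, b, hb, hbs, hVn⟩ := hY
  haveI : IsLocallyNoetherian V.left := hVn
  obtain ⟨v, rfl⟩ := Groth.Agent.H12AlgSp.surjective_ofPt_of_repWith le_rfl hbs y
  obtain ⟨E, hE, hvE, -⟩ := TopologicalSpace.Opens.isBasis_iff_nbhd.mp V.left.isBasis_affineOpens
    (show v ∈ (⊤ : V.left.Opens) from trivial)
  let V' := Groth.Agent.H13AlgSp.openOver V E
  haveI : IsAffine V'.left := hE
  haveI : IsLocallyNoetherian V'.left := inferInstanceAs (IsLocallyNoetherian (Scheme.Opens.toScheme E))
  let g : (AlgSp.yon S).obj V' ⟶ Y.obj := (AlgSp.yon S).map (Groth.Agent.H13AlgSp.openIncl V E) ≫ b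
  have hg : AlgSp.RepWith @Etale g :=
    Groth.Agent.H12AlgSp.repWith_comp ((AlgSp.repWith_yon_map_iff _ _).2 (inferInstanceAs (Etale (Scheme.Opens.ι E)))) hb
  let v' : V'.left := ⟨v, hvE⟩
  have hgv : AlgSp.Points.ofPt g v' = AlgSp.Points.ofPt b v := Groth.Agent.H12AlgSp.ofPt_map _ _ _
  have hQ := Groth.Agent.H12AlgSp.isAlgSpace_pullback Y.property.diag X.property (AlgSp.IsAlgSpace.yon_obj V') f.hom g
  have hQc := Groth.Agent.H12AlgSp.isQuasiCompactMor_pullback hft.2 V' g
  haveI := Groth.Agent.H12AlgSp.compactSpace_points_of_isQuasiCompactSp hQc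
  obtain ⟨U, a, hU, ha, has⟩ := Groth.Agent.H12AlgSp.exists_affine_atlas hQ
  obtain ⟨h, hh⟩ := (AlgSp.yon S).map_surjective (a ≫ pullback.snd f.hom g)
  have hl : LocallyOfFiniteType h.left := hft.1 (a ≫ pullback.fst f.hom g) g h
    (Groth.Agent.H12AlgSp.repWith_comp ha (Groth.Agent.H12AlgSp.repWith_of_isPullback (IsPullback.of_hasPullback f.hom g).flip hg)) hg
    (by rw [hh, Category.assoc, Category.assoc, pullback.condition])
  haveI : QuasiCompact h.left := inferInstance
  have himg : AlgSp.Points.ofPt g ⁻¹' Set.range (AlgSp.Points.map f.hom) ⊆ Set.range h.left := by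
    rintro w ⟨x, hx⟩
    obtain ⟨q, -, hq⟩ := Groth.Agent.H12AlgSp.exists_point_of_isPullback (IsPullback.of_hasPullback f.hom g) x
      (AlgSp.Points.ofScheme V' w) (hx.trans (AlgSp.Points.ofPt_eq_map_ofScheme _ _))
    obtain ⟨z, rfl⟩ := Groth.Agent.H12AlgSp.surjective_ofPt_of_repWith le_rfl has q
    refine ⟨z, (AlgSp.Points.schemeEquiv _).injective ?_⟩
    rw [AlgSp.Points.map_ofPt, ← hh, ← Category.comp_id ((AlgSp.yon S).map h), Groth.Agent.H12AlgSp.ofPt_map] at hq
    exact ((AlgSp.Points.ofPt_eq_map_ofScheme _ _).trans (AlgSp.Points.map_id _)).symm.trans hq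
  have hcl : v' ∈ closure (Set.range h.left) := by
    refine closure_mono himg ?_
    rw [← (Groth.Agent.H12AlgSp.isOpenMap_ofPt_of_repWith Groth.Agent.H12AlgSp.etale_le_universallyOpen hg).preimage_closure_eq_closure_preimage
      (AlgSp.Points.continuous_ofPt g)]
    rw [Set.mem_preimage, hgv]
    exact hy
  obtain ⟨u, hu⟩ := Groth.Agent.H17.exists_specializes_of_mem_closure_range h.left hcl
  obtain ⟨A, i1, i2, i3, k, l, hk, hl'⟩ := Groth.Agent.H12AlgSp.exists_dvr_square h.left u v' hu
  refine ⟨A, i1, i2, i3, k ≫ V'.hom, (AlgSp.yon S).map (Over.homMk k rfl) ≫ g,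
    (AlgSp.yon S).map (Over.homMk l (by change l ≫ U.hom = Spec.map _ ≫ k ≫ V'.hom; rw [← Over.w h]; exact (Category.assoc _ _ _).symm.trans ((congrArg (· ≫ V'.hom) hl').trans (Category.assoc _ _ _)))) ≫ a ≫ pullback.fst f.hom g, ?_, ?_⟩
  · have e : (a ≫ pullback.fst f.hom g) ≫ f.hom = (AlgSp.yon S).map h ≫ g := by
      rw [hh, Category.assoc, Category.assoc, pullback.condition]
    refine (Category.assoc _ _ _).trans ((congrArg (_ ≫ ·) e).trans ((Category.assoc _ _ _).symm.trans
      ((congrArg (· ≫ g) ((((AlgSp.yon S).map_comp _ _).symm).trans ((congrArg (AlgSp.yon S).map ?_).trans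
        ((AlgSp.yon S).map_comp _ _)))).trans (Category.assoc _ _ _))))
    exact Over.OverMorphism.ext hl'
  · refine ((AlgSp.Points.ofPt_eq_map_ofScheme _ _).symm.trans ?_ : _ = _)
    rw [Groth.Agent.H12AlgSp.ofPt_map, ← hgv]
    exact congrArg (AlgSp.Points.ofPt g) hk

end Groth.Agent.S10054
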