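import Groth.Statements.S10056
import Groth.Agent.H12AlgSp.ReducedLimit

set_option autoImplicit false
set_option backward.isDefEq.respectTransparency false
universe u
open CategoryTheory CategoryTheory.Limits AlgebraicGeometry
open AlgSp

namespace Groth.Agent.S10056

/-- Let `X` be the limit, in fppf sheaves over `S`, of a cofiltered system `(X_i)` of algebraic spaces
over `S` whose transition maps are affine. If each `X_i` is reduced, then `X` is reduced. (The
published statement does not restate that the transition morphisms are affine; the limit it refers
to is formed under that assumption, which this row states.) -/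
theorem result (S : Scheme.{u}) {I : Type u} [SmallCategory I] [IsCofiltered I]
    (D : I ⥤ AlgSp.Sp S) (hD : ∀ i, AlgSp.IsAlgSpace (D.obj i))
    (hDa : ∀ (i j : I) (φ : i ⟶ j), AlgSp.IsAffineMor (D.map φ))
    (c : Cone D) (hc : IsLimit c)
    (hred : ∀ i, AlgSp.IsReducedSp (D.obj i)) : AlgSp.IsReducedSp c.pt := by
  exact Groth.Agent.H12AlgSp.isReducedSp_limit hD hDa hc hred

end Groth.Agent.S10056
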