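import Groth.Statements.S10059
import Groth.Agent.H12AlgSp.LimitSeparatedMor

set_option autoImplicit false
set_option backward.isDefEq.respectTransparency false
universe u
open CategoryTheory CategoryTheory.Limits AlgebraicGeometry
open AlgSp

namespace Groth.Agent.S10059

/-- Let `S` be a quasi-separated scheme, `Y` an algebraic space over `S` which is quasi-separated over
`S`, and `X` the limit, in fppf sheaves, of a cofiltered system `(X_i)` of algebraic spaces over
`Y`, each quasi-compact and quasi-separated over `S`, whose transition maps are affine. If `X ⟶ Y`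
is separated, then `X_i ⟶ Y` is separated for all `i` mapping to some `i₀`. (The published statement
allows any base scheme and uses absolute quasi-separatedness; this row assumes the base
quasi-separated, over which quasi-separatedness relative to the base is the absolute notion.) -/
theorem result (S : Scheme.{u}) [QuasiSeparatedSpace S] {I : Type u} [SmallCategory I] [IsCofiltered I]
    (Y : AlgSp.Space S) (D : I ⥤ AlgSp.Sp S) (hD : ∀ i, AlgSp.IsAlgSpace (D.obj i))
    (t : D ⟶ (Functor.const I).obj Y.obj)
    (hDa : ∀ (i j : I) (φ : i ⟶ j), AlgSp.IsAffineMor (D.map φ))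
    (c : Cone D) (hc : IsLimit c) (g : c.pt ⟶ Y.obj) (hg : ∀ i, c.π.app i ≫ t.app i = g)
    (hqc : ∀ i, AlgSp.IsQuasiCompactSp (D.obj i)) (hqs : ∀ i, AlgSp.IsQuasiSeparatedSp (D.obj i))
    (hYqs : AlgSp.IsQuasiSeparatedSp Y.obj) (hX : AlgSp.IsSeparatedMor g) :
    ∃ i₀ : I, ∀ (i : I) (_ : i ⟶ i₀), AlgSp.IsSeparatedMor (t.app i) := by
  obtain ⟨i₁⟩ : Nonempty I := IsCofiltered.nonempty
  obtain ⟨l₀, h⟩ := Groth.Agent.H12AlgSp.eventually_isSeparatedMor hD hDa hc Y.property hYqs (t.app i₁) (hqc i₁)
    (hqs i₁) (by obtain rfl := hg i₁; exact hX)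
  refine ⟨l₀.left, fun i φ => ?_⟩
  have e := h i φ
  have w := t.naturality (φ ≫ l₀.hom)
  erw [w, Category.comp_id] at e
  exact e

end Groth.Agent.S10059
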