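import Groth.Statements.S10066
import Groth.Agent.H12AlgSp.SchemeCover.DenseEtale

set_option autoImplicit false
set_option backward.isDefEq.respectTransparency.types false
universe u
open CategoryTheory CategoryTheory.Limits AlgebraicGeometry
open AlgSp

namespace Groth.Agent.S10066

/-- Let `X` be an algebraic space, quasi-compact and quasi-separated over the scheme `S`, whose space of
points `|X|` has only finitely many irreducible components, and `V ⟶ X` a surjective etale morphism
from a scheme. Then there are a scheme `Y`, a finite surjective morphism `g : Y ⟶ X` of finite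
presentation which is finite etale over some quasi-compact dense open subspace `U ⊂ X`, and for
every point of `Y` an open neighbourhood whose map to `X` factors through `V`. (Part (1) of the
published statement, the existence of such `Y ⟶ X` and `U`, is the case where `V` is an etale atlas
of `X`.) (The published statement allows any base scheme and uses absolute quasi-separatedness; this
row assumes the base quasi-separated, over which quasi-separatedness relative to the base is the
absolute notion.) -/
theorem result (S : Scheme.{u}) [QuasiSeparatedSpace S]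
    (X : AlgSp.Space S) (hXqc : AlgSp.IsQuasiCompactSp X.obj) (hXqs : AlgSp.IsQuasiSeparatedSp X.obj)
    (hirr : (irreducibleComponents (AlgSp.Points X.obj)).Finite)
    (V : Over S) (p : (AlgSp.yon S).obj V ⟶ X.obj) (hpe : AlgSp.RepWith @Etale p) (hps : AlgSp.RepWith @Surjective p) :
    ∃ (Y : Over S) (g : (AlgSp.yon S).obj Y ⟶ X.obj) (U : AlgSp.Space S) (j : U ⟶ X),
      AlgSp.IsFiniteMor g ∧ AlgSp.IsSurjectiveMor g ∧ AlgSp.IsFinitePresentationMor g ∧
      AlgSp.RepWith @IsOpenImmersion j.hom ∧ AlgSp.IsQuasiCompactSp U.obj ∧ Dense (Set.range (AlgSp.Points.map j.hom)) ∧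
      (∀ (P : AlgSp.Sp S) (fst : P ⟶ (AlgSp.yon S).obj Y) (snd : P ⟶ U.obj), IsPullback fst snd g j.hom →
        AlgSp.IsFiniteMor snd ∧ AlgSp.IsEtaleMor snd) ∧
      ∀ y : ↥Y.left, ∃ (W : Y.left.Opens), y ∈ W ∧
        ∃ k : Over.mk (W.ι ≫ Y.hom) ⟶ V, (AlgSp.yon S).map k ≫ p = (AlgSp.yon S).map (Over.homMk W.ι) ≫ g := by
  obtain ⟨Y, g, U, j, hf, hs, hfp, hj, hUc, hd, hP, hF⟩ :=
    Groth.Agent.H12AlgSp.SchemeCover.exists_cover_etale X.property hXqc hXqs hirr p hpe hps
  exact ⟨Y, g, ⟨_, IsAlgSpace.yon_obj U⟩, ObjectProperty.homMk j, hf, hs, hfp, hj, hUc, hd, hP, hF⟩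

end Groth.Agent.S10066
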