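import Groth.Statements.S10071
import Groth.Agent.H12AlgSp.NoethValuative

set_option autoImplicit false
universe u
open CategoryTheory CategoryTheory.Limits AlgebraicGeometry
open AlgSp

namespace Groth.Agent.S10071

/-- Let `h : U ⟶ X`, `f : X ⟶ Y` be morphisms of algebraic spaces over `S` with `Y` locally Noetherian,
`f` and `h` of finite type, `f` quasi-separated and `|h|` with dense image. If every valuative test
square for `h ≫ f` over a discrete valuation ring admits exactly one dotted arrow `Spec A ⟶ X`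
(compatible with `Spec K ⟶ U ⟶ X` and with `Spec A ⟶ Y`), then `f` is proper. -/
theorem result (S : Scheme.{u}) {U X Y : AlgSp.Space S} (h : U ⟶ X) (f : X ⟶ Y) (hY : AlgSp.IsLocNoethSp Y.obj)
    (hft : AlgSp.IsFiniteTypeMor f.hom) (hfqs : AlgSp.IsQuasiSeparatedMor f.hom) (hh : AlgSp.IsFiniteTypeMor h.hom) (hdense : Dense (Set.range (AlgSp.Points.map h.hom)))
    (hval : ∀ sq : AlgSp.ValSq (h.hom ≫ f.hom), IsDiscreteValuationRing sq.A →
      ∃! l : (AlgSp.yon S).obj sq.ptA ⟶ X.obj, (AlgSp.yon S).map sq.j ≫ l = sq.top ≫ h.hom ∧ l ≫ f.hom = sq.bot) :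
    AlgSp.IsProperMor f.hom := by
  open Groth.Agent.H12AlgSp in
  exact isProperMor_of_dvr U.property X.property Y.property hY
    (isSeparatedMor_of_dvr U.property X.property Y.property hY hft.1 hfqs hh hdense
      fun sq hA l l' h₁ h₂ => (hval sq hA).unique h₁ h₂) hft hh hdense fun sq hA => (hval sq hA).exists

end Groth.Agent.S10071
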