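import Groth.Statements.S10072
import Groth.Agent.H12AlgSp.SepClosed.Main

set_option autoImplicit false
universe u
open CategoryTheory CategoryTheory.Limits AlgebraicGeometry
open AlgSp

namespace Groth.Agent.S10072

/-- Let `f : X ⟶ Y` be quasi-compact, `g : Z ⟶ Y` a morphism of algebraic spaces over `S`, `P = X ×_Y
Z`, `z ∈ |Z|` and `T ⊂ |P|` closed with `z` not in the image of `T`. Then there are an affine etale
neighbourhood `(V, v) ⟶ (Z, z)`, an affine scheme `Z'` with `b : Z' ⟶ Y` locally of finite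
presentation and `a : V ⟶ Z'` over `Y`, and for every fibre product `P' = X ×_Y Z'` a closed `T' ⊂
|P'|` whose image in `|Z'|` misses `a(v)` and which contains the image of the inverse image of `T`
in `|X ×_Y V|`. (The variant with `V` an open neighbourhood when `Z` is a scheme is not included.) -/
theorem result (S : Scheme.{u}) {X Y Z : AlgSp.Space S} (f : X ⟶ Y) (g : Z ⟶ Y)
    (hf : AlgSp.IsQuasiCompactMor f.hom)
    (P : AlgSp.Sp S) (p₁ : P ⟶ X.obj) (p₂ : P ⟶ Z.obj) (hP : IsPullback p₁ p₂ f.hom g.hom)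
    (z : AlgSp.Points Z.obj) (T : Set (AlgSp.Points P)) (hT : IsClosed T) (hz : z ∉ AlgSp.Points.map p₂ '' T) :
    ∃ (V : Over S) (_ : IsAffine V.left) (e : (AlgSp.yon S).obj V ⟶ Z.obj) (_ : AlgSp.RepWith @Etale e) (v : ↥V.left)
      (_ : AlgSp.Points.map e (AlgSp.Points.schemeEquiv V v) = z)
      (Z' : Over S) (_ : IsAffine Z'.left) (b : (AlgSp.yon S).obj Z' ⟶ Y.obj) (_ : AlgSp.LocP @LocallyOfFinitePresentation b)
      (a : V ⟶ Z') (_ : (AlgSp.yon S).map a ≫ b = e ≫ g.hom),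
      ∀ (P' : AlgSp.Sp S) (q₁ : P' ⟶ X.obj) (q₂ : P' ⟶ (AlgSp.yon S).obj Z'), IsPullback q₁ q₂ f.hom b →
        ∃ T' : Set (AlgSp.Points P'), IsClosed T' ∧
          AlgSp.Points.schemeEquiv Z' (a.left v) ∉ AlgSp.Points.map q₂ '' T' ∧
          ∀ (PV : AlgSp.Sp S) (r₁ : PV ⟶ X.obj) (r₂ : PV ⟶ (AlgSp.yon S).obj V), IsPullback r₁ r₂ f.hom (e ≫ g.hom) →
            ∀ (κ₁ : PV ⟶ P) (κ₂ : PV ⟶ P'), κ₁ ≫ p₁ = r₁ → κ₁ ≫ p₂ = r₂ ≫ e → κ₂ ≫ q₁ = r₁ → κ₂ ≫ q₂ = r₂ ≫ (AlgSp.yon S).map a →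
              ∀ w : AlgSp.Points PV, AlgSp.Points.map κ₁ w ∈ T → AlgSp.Points.map κ₂ w ∈ T' := by
  exact Groth.Agent.H12AlgSp.SepClosed.exists_separating_stage f g hf P p₁ p₂ hP z T hT hz

end Groth.Agent.S10072
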