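import Groth.Statements.S10077
import Groth.Agent.H12AlgSp.LimitPresSystems
import Groth.Agent.H12AlgSp.LimitDescendAffine

set_option autoImplicit false
set_option backward.isDefEq.respectTransparency false
universe u
open CategoryTheory CategoryTheory.Limits AlgebraicGeometry
open AlgSp

namespace Groth.Agent.S10077

/-- A morphism `f : X ⟶ Y` of algebraic spaces over `S` is locally of finite presentation if and only if
for every directed limit `T = lim T_i` of algebraic spaces over `S`, each quasi-compact and
quasi-separated over `S`, with affine transition maps, the square formed by `colim Mor(T_i, X) →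
Mor(T, X)`, `colim Mor(T_i, Y) → Mor(T, Y)` and composition with `f` is cartesian in sets. (The
published statement allows any base scheme and uses absolute quasi-separatedness; this row assumes
the base quasi-separated, over which quasi-separatedness relative to the base is the absolute
notion.) -/
theorem result (S : Scheme.{u}) [QuasiSeparatedSpace S]
    {X Y : AlgSp.Space S} (f : X ⟶ Y) :
    AlgSp.LocP @LocallyOfFinitePresentation f.hom ↔
      ∀ ⦃I : Type u⦄ [SmallCategory I] [IsCofiltered I] (D : I ⥤ AlgSp.Sp S),
        (∀ i, AlgSp.IsAlgSpace (D.obj i)) → (∀ (i j : I) (φ : i ⟶ j), AlgSp.IsAffineMor (D.map φ)) →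
        (∀ i, AlgSp.IsQuasiCompactSp (D.obj i)) → (∀ i, AlgSp.IsQuasiSeparatedSp (D.obj i)) →
        ∀ (c : Cone D) (_ : IsLimit c),
          IsPullback (colimMap (Functor.whiskerLeft D.op (yoneda.map f.hom)))
            (colimit.desc (D.op ⋙ yoneda.obj X.obj) ((yoneda.obj X.obj).mapCocone c.op))
            (colimit.desc (D.op ⋙ yoneda.obj Y.obj) ((yoneda.obj Y.obj).mapCocone c.op))
            ((yoneda.map f.hom).app (Opposite.op c.pt)) := by
  refine ⟨fun h I _ _ D hD hDa hqc hqs c hc => Groth.Agent.H12AlgSp.isPullback_colimit_of_relLP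
    (Groth.Agent.H12AlgSp.relLP_of_locP_lfp X.property Y.property h) hD hDa hc hqc hqs, fun h => ?_⟩
  refine Groth.Agent.H12AlgSp.locP_lfp_of_relSurjLP
    (Groth.Agent.H12AlgSp.relSurjLP_of_isPullback fun I _ _ D c hc hD => ?_)
  exact h (D ⋙ AlgSp.yon S) (fun i => AlgSp.IsAlgSpace.yon_obj _)
    (fun i j φ => Groth.Agent.H13AlgSp.isAffineMor_iff.2 ((AlgSp.repWith_yon_map_iff @IsAffineHom _).2
      (haveI := hD i; haveI := hD j; isAffineHom_of_isAffine _)))
    (fun i => Groth.Agent.H12AlgSp.isQuasiCompactSp_yon_iff.2 (haveI := hD i; inferInstanceAs (CompactSpace (D.obj i).left)))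
    (fun i => Groth.Agent.H12AlgSp.isQuasiSeparatedSp_yon (haveI := hD i; inferInstanceAs (QuasiSeparatedSpace (D.obj i).left)))
    _ (isLimitOfPreserves (AlgSp.yon S) hc)

end Groth.Agent.S10077
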