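import Groth.Statements.S10078
import Groth.Agent.H12AlgSp.FPColimit

set_option autoImplicit false
set_option backward.isDefEq.respectTransparency.types false
universe u
open CategoryTheory CategoryTheory.Limits AlgebraicGeometry Opposite
open AlgSp

namespace Groth.Agent.S10078

/-- Let `S` be a quasi-separated scheme and `X` an algebraic space over `S`, quasi-compact and
quasi-separated over `S`. Then every quasi-coherent `O_X`-module `M` on the small etale site of `X`
is a filtered colimit of `O_X`-modules of finite presentation: some diagram of finitely presented
modules indexed by a small filtered category has a colimit cocone with vertex `M`. (The published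
statement allows any base scheme and uses absolute quasi-separatedness; this row assumes the base
quasi-separated, over which quasi-separatedness relative to the base is the absolute notion.) -/
theorem result {S : Scheme.{u}} [QuasiSeparatedSpace ↥S]
    (X : AlgSp.Space S) (hqc : AlgSp.IsQuasiCompactSp X.obj) (hqs : AlgSp.IsQuasiSeparatedSp X.obj)
    (M : AlgSp.ModEt X.obj) [M.IsQuasicoherent] :
    ∃ (J : Type (u + 1)) (_ : SmallCategory J) (_ : IsFiltered J) (D : J ⥤ AlgSp.ModEt X.obj)
      (ι : D ⟶ (Functor.const J).obj M),
      (∀ j, (D.obj j).IsFinitePresentation) ∧ Nonempty (IsColimit (Cocone.mk M ι)) := by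
  exact Groth.Agent.H12AlgSp.FPColimit.exists_fp_colimit X.property hqc hqs M

end Groth.Agent.S10078
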