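import Groth.Statements.S10083
import Groth.Agent.H12AlgSp.BCMod.Annihilated

set_option autoImplicit false
universe u
open CategoryTheory CategoryTheory.Limits AlgebraicGeometry Opposite
open AlgSp

namespace Groth.Agent.S10083

/-- Let `X` be an algebraic space over a scheme `S`, `I` a quasi-coherent ideal sheaf on the small etale
site of `X` which is of finite type (on every affine object its ideal of sections is finitely
generated) and `F` a quasi-coherent `O_X`-module. Then the subsheaf of sections of `F` annihilated
by `I` is a quasi-coherent submodule: there is a monomorphism `F' ⟶ F` of `O_X`-modules with `F'`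
quasi-coherent whose image over every affine object `U` is the set of sections `s` of `F` over `U`
with `I(U) s = 0`. (The assertion on stalks at geometric points is not included.) -/
theorem result {S : Scheme.{u}} (X : AlgSp.Space S)
    (I : AlgSp.IdealEt X.obj) (hI : I.IsQCoh)
    (hft : ∀ (E : AlgSp.EtOver X.obj) (hE : IsAffine E.obj.left.left), (I.ideal E hE).FG)
    (F : AlgSp.ModEt X.obj) [F.IsQuasicoherent] :
    ∃ (F' : AlgSp.ModEt X.obj) (ι : F' ⟶ F), Mono ι ∧ F'.IsQuasicoherent ∧
      ∀ (E : AlgSp.EtOver X.obj) (hE : IsAffine E.obj.left.left),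
        Set.range (ι.val.app (op E)).hom =
          {s : AlgSp.sectModEt F E | ∀ a ∈ I.ideal E hE, (AlgSp.upΓ E a) • s = 0} := by
  exact Groth.Agent.H12AlgSp.BCMod.exists_annihilated ((Groth.Agent.H12AlgSp.BCMod.isQuasicoherent_iff_isBCEt F).1 inferInstance) I hI hft

end Groth.Agent.S10083
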