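import Groth.Statements.S10088
import Groth.Agent.H12AlgSp.Strata.Main

set_option autoImplicit false
set_option backward.isDefEq.respectTransparency.types false
universe u
open CategoryTheory CategoryTheory.Limits AlgebraicGeometry Opposite
open AlgSp

namespace Groth.Agent.S10088

/-- Let `S` be a quasi-separated scheme and `X` an algebraic space over `S`, quasi-compact and
quasi-separated over `S`. Then there are `t ≥ 0` and closed subspaces `Z_0, …, Z_t` of `X`, each of
finite presentation over `X`, with `|Z_0| ⊇ |Z_1| ⊇ ⋯ ⊇ |Z_t|`, `Z_0 ⟶ X` a thickening and `Z_t`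
empty, and for every `k < t` a scheme `Y_k` with a finite surjective morphism `Y_k ⟶ Z_k` of finite
presentation which is finite etale over the open subspace of `Z_k` with points `|Z_k| ∖ |Z_{k+1}|`.
(The inclusions among the `Z_k` are recorded on points.) (The published statement allows any base
scheme and uses absolute quasi-separatedness; this row assumes the base quasi-separated, over which
quasi-separatedness relative to the base is the absolute notion.) -/
theorem result (S : Scheme.{u}) [QuasiSeparatedSpace ↥S]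
    (X : AlgSp.Space S) (hXqc : AlgSp.IsQuasiCompactSp X.obj) (hXqs : AlgSp.IsQuasiSeparatedSp X.obj) :
    ∃ (t : ℕ) (Z : Fin (t + 1) → AlgSp.Space S) (z : ∀ k, Z k ⟶ X),
      (∀ k, AlgSp.RepWith @IsClosedImmersion (z k).hom ∧ AlgSp.IsFinitePresentationMor (z k).hom) ∧
      (∀ k l : Fin (t + 1), k ≤ l →
        Set.range (AlgSp.Points.map (z l).hom) ⊆ Set.range (AlgSp.Points.map (z k).hom)) ∧
      AlgSp.IsThickMor (z 0).hom ∧ IsEmpty (AlgSp.Points (Z (Fin.last t)).obj) ∧
      ∀ k : Fin t, ∃ (Y : Over S) (g : (AlgSp.yon S).obj Y ⟶ (Z k.castSucc).obj),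
        AlgSp.IsFiniteMor g ∧ AlgSp.IsSurjectiveMor g ∧ AlgSp.IsFinitePresentationMor g ∧
        ∀ (W : AlgSp.Space S) (j : W ⟶ Z k.castSucc), AlgSp.RepWith @IsOpenImmersion j.hom →
          Set.range (AlgSp.Points.map (j ≫ z k.castSucc).hom) =
            Set.range (AlgSp.Points.map (z k.castSucc).hom) \ Set.range (AlgSp.Points.map (z k.succ).hom) →
          ∀ (P : AlgSp.Sp S) (fst : P ⟶ (AlgSp.yon S).obj Y) (snd : P ⟶ W.obj), IsPullback fst snd g j.hom →
            AlgSp.IsFiniteMor snd ∧ AlgSp.IsEtaleMor snd := by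
  obtain ⟨t, Z, z, hprop, hmono, h0, hlast, hG⟩ :=
    Groth.Agent.H12AlgSp.Strata.exists_strata_qcqs X.property hXqc hXqs
  have hfp : ∀ k, AlgSp.IsFinitePresentationMor (z k) := fun k =>
    ⟨(hprop k).2.2,
      Groth.Agent.H12AlgSp.isQuasiCompactMor_of_repWith (hprop k).1 X.property
        (Groth.Agent.H12AlgSp.repWith_le
          (fun _ _ k (_ : IsClosedImmersion k) => inferInstanceAs (QuasiCompact k)) (hprop k).2.1),
      Groth.Agent.H12AlgSp.isQuasiSeparatedMor_of_isSeparatedMor
        (Groth.Agent.H12AlgSp.isSeparatedMor_of_repWith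
          (Groth.Agent.H12AlgSp.repWith_le
            (fun _ _ k (_ : IsClosedImmersion k) => inferInstanceAs (IsSeparated k)) (hprop k).2.1))⟩
  have hthick : AlgSp.IsThickMor (z 0) := by
    have hs := Groth.Agent.H12AlgSp.repWith_surjective_of_map (hprop 0).2.1.1
      (Set.range_eq_univ.1 h0)
    exact ⟨(hprop 0).2.1.1, fun a b m fst snd sq => ⟨(hprop 0).2.1.2 m fst snd sq, hs.2 m fst snd sq⟩⟩
  refine ⟨t, fun k => ⟨Z k, (hprop k).1⟩, fun k => ObjectProperty.homMk (z k),
    fun k => ⟨(hprop k).2.1, hfp k⟩, hmono, hthick, hlast, fun k => ?_⟩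
  obtain ⟨Y, g, hf, hs, hgfp, hP⟩ := hG k
  have hgfin : AlgSp.IsFiniteMor g := Groth.Agent.H13AlgSp.isFiniteMor_iff.2 hf
  refine ⟨Y, g, hgfin, hs, ⟨Groth.Agent.H12AlgSp.locP_of_repWith Groth.Agent.H12AlgSp.etLocal_lfp hgfp,
      Groth.Agent.H12AlgSp.isQuasiCompactMor_of_repWith (IsAlgSpace.yon_obj Y) (hprop _).1
        (Groth.Agent.H12AlgSp.repWith_le (fun _ _ k (_ : IsFinite k) => inferInstanceAs (QuasiCompact k)) hf),
      Groth.Agent.H12AlgSp.isQuasiSeparatedMor_of_isSeparatedMor
        (Groth.Agent.H12AlgSp.isSeparatedMor_of_repWith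
          (Groth.Agent.H12AlgSp.repWith_le (fun _ _ k (_ : IsFinite k) => inferInstanceAs (IsSeparated k)) hf))⟩,
    fun W j hj hr P fst snd sq => ?_⟩
  have := hP W.obj j.hom (by
    rintro _ ⟨x, rfl⟩ hmem
    have hx := hr.le ⟨x, rfl⟩
    apply hx.2
    change AlgSp.Points.map (j.hom ≫ z k.castSucc) x ∈ Set.range (AlgSp.Points.map (z k.succ))
    rw [AlgSp.Points.map_comp]
    exact hmem) P fst snd sq
  exact ⟨Groth.Agent.H13AlgSp.isFiniteMor_iff.2 this.1, Groth.Agent.H12AlgSp.NormSp.isEtaleMor_of_repWith this.2⟩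

end Groth.Agent.S10088
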