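import Groth.Statements.S10093
import Groth.Agent.H14AlgSt.Bootstrap

set_option autoImplicit false
set_option backward.isDefEq.respectTransparency false
set_option backward.isDefEq.respectTransparency.types false
universe u
open CategoryTheory CategoryTheory.Limits AlgebraicGeometry
open AlgSp

namespace Groth.Agent.S10093

/-- The composition of two maps of presheaves of sets on schemes over `S` which are representable by
algebraic spaces is representable by algebraic spaces. -/
theorem result (S : Scheme.{u}) (F G H : AlgSp.PSp S) (a : F ⟶ G) (b : G ⟶ H)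
    (ha : AlgSp.RepBySp a) (hb : AlgSp.RepBySp b) : AlgSp.RepBySp (a ≫ b) := by
  intro U ξ F' fst snd sq
  have sq1 := IsPullback.of_hasPullback b ξ
  obtain ⟨h1, hA⟩ := hb ξ _ _ sq1
  have sq2 := IsPullback.of_hasPullback a (pullback.fst b ξ)
  have hQ : AlgSp.IsAlgSpaceP (pullback a (pullback.fst b ξ)) := by
    refine Groth.Agent.H14AlgSt.isAlgSpaceP_of_repBySp (a := pullback.snd a (pullback.fst b ξ)) ?_
      ⟨h1, hA⟩
    intro V η F'' f' s' sq'
    exact ha (η ≫ pullback.fst b ξ) (f' ≫ pullback.fst a (pullback.fst b ξ)) s' (sq'.paste_horiz sq2)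
  exact hQ.of_iso (IsPullback.isoIsPullback _ _ (sq2.paste_vert sq1) sq)

end Groth.Agent.S10093
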