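import Groth.Statements.S10094
import Groth.Agent.H12AlgSp.RepBySpFormal

set_option autoImplicit false
universe u
open CategoryTheory CategoryTheory.Limits AlgebraicGeometry
open AlgSp

namespace Groth.Agent.S10094

/-- If `a₁ : F₁ ⟶ G₁` and `a₂ : F₂ ⟶ G₂` are maps of presheaves of sets on schemes over `S`
representable by algebraic spaces, then so is `a₁ × a₂ : F₁ × F₂ ⟶ G₁ × G₂`. -/
theorem result (S : Scheme.{u}) (F₁ G₁ F₂ G₂ : AlgSp.PSp S) (a₁ : F₁ ⟶ G₁) (a₂ : F₂ ⟶ G₂)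
    (h₁ : AlgSp.RepBySp a₁) (h₂ : AlgSp.RepBySp a₂) : AlgSp.RepBySp (prod.map a₁ a₂) := by
  exact Groth.Agent.H12AlgSp.repBySp_prod_map h₁ h₂

end Groth.Agent.S10094
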