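import Groth.Statements.S10095
import Groth.Agent.H12AlgSp.RepBySpFormal

set_option autoImplicit false
universe u
open CategoryTheory CategoryTheory.Limits AlgebraicGeometry
open AlgSp

namespace Groth.Agent.S10095

/-- Let `a : F ⟶ G` and `b : G ⟶ H` be maps of presheaves of sets on schemes over `S`. If both the
diagonal `G ⟶ G ×_H G` and the composite `a ≫ b` are representable by algebraic spaces, then so is
`a`. -/
theorem result (S : Scheme.{u}) (F G H : AlgSp.PSp S) (a : F ⟶ G) (b : G ⟶ H)
    (hΔ : AlgSp.RepBySp (pullback.diagonal b)) (hab : AlgSp.RepBySp (a ≫ b)) : AlgSp.RepBySp a := by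
  exact Groth.Agent.H12AlgSp.repBySp_of_comp a b hΔ hab

end Groth.Agent.S10095
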