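import Groth.Statements.S10098
import Groth.Agent.H12AlgSp.RepBySp2

set_option autoImplicit false
universe u
open CategoryTheory CategoryTheory.Limits AlgebraicGeometry
open AlgSp

namespace Groth.Agent.S10098

/-- Let `E = H ×_G F` be a cartesian square of fppf sheaves of sets over `S`, with `a : E ⟶ F`, `f : E ⟶
H`, `g : F ⟶ G`, `b : H ⟶ G`. Suppose that `a` and `g` are both representable by algebraic spaces,
that `g` is flat, surjective and locally of finite presentation, and that `a` is separated and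
locally quasi-finite. Under these assumptions `b` is representable by schemes, separated, and
locally quasi-finite. -/
theorem result (S : Scheme.{u}) (E F G H : AlgSp.Sp S)
    (a : E ⟶ F) (f : E ⟶ H) (g : F ⟶ G) (b : H ⟶ G) (sq : IsPullback a f g b)
    (hg : AlgSp.RepBySpWith (AlgSp.IsSurjectiveMor ⊓ AlgSp.LocP @Flat ⊓ AlgSp.LocP @LocallyOfFinitePresentation) g.hom)
    (ha : AlgSp.RepBySpWith
      (AlgSp.IsSeparatedMor ⊓ AlgSp.LocP (@LocallyQuasiFinite ⊓ @LocallyOfFiniteType)) a.hom) :
    AlgSp.RepWith @IsSeparated b ∧ AlgSp.RepWith (@LocallyQuasiFinite ⊓ @LocallyOfFiniteType) b := by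
  exact Groth.Agent.H12AlgSp.repWith_of_isPullback_along sq
    (fun _ ξ _ fst snd sq' =>
      let h := (AlgSp.repBySpWith_hom_iff _ _).1 hg ξ fst snd sq'
      ⟨h.1, h.2.1.1, h.2.1.2, h.2.2⟩)
    ((AlgSp.repBySpWith_hom_iff _ _).1 ha)

end Groth.Agent.S10098
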