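import Groth.Statements.S10099
import Groth.Agent.H12AlgSp.RepBySp2

set_option autoImplicit false
universe u
open CategoryTheory CategoryTheory.Limits AlgebraicGeometry
open AlgSp

namespace Groth.Agent.S10099

/-- Let `F` be an fppf sheaf of sets over `S` and `X ⟶ F` a map from an algebraic space that is
representable by algebraic spaces and is flat, surjective and locally of finite presentation. It
follows that the diagonal `F ⟶ F × F` is representable (by schemes). -/
theorem result (S : Scheme.{u}) (F : AlgSp.Sp S) (X : AlgSp.Space S)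
    (p : X.obj ⟶ F) (hp : AlgSp.RepBySpWith (AlgSp.IsSurjectiveMor ⊓ AlgSp.LocP @Flat ⊓ AlgSp.LocP @LocallyOfFinitePresentation) p.hom) :
    AlgSp.Representable (Limits.diag F) := by
  exact Groth.Agent.H12AlgSp.representable_diag_of_repBySp_fppf X.property p fun _ ξ _ fst snd sq =>
    let h := (AlgSp.repBySpWith_hom_iff _ _).1 hp ξ fst snd sq
    ⟨h.1, h.2.1.1, h.2.1.2, h.2.2⟩

end Groth.Agent.S10099
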