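import Groth.Statements.S10100
import Groth.Agent.H12AlgSp.RepBySp2

set_option autoImplicit false
universe u
open CategoryTheory CategoryTheory.Limits AlgebraicGeometry
open AlgSp

namespace Groth.Agent.S10100

/-- Let `F` be a presheaf of sets on schemes over `S`, `X` a scheme over `S` and `h_X ⟶ F` a map which
is representable by algebraic spaces and locally quasi-finite. Then `h_X ⟶ F` is representable by
schemes. -/
theorem result (S : Scheme.{u}) (F : AlgSp.PSp S) (X : Over S)
    (p : (AlgSp.pyon S).obj X ⟶ F)
    (hp : AlgSp.RepBySpWith (AlgSp.LocP (@LocallyQuasiFinite ⊓ @LocallyOfFiniteType)) p) :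
    (AlgSp.pyon S).relativelyRepresentable p := by
  exact Groth.Agent.H12AlgSp.relativelyRepresentable_of_lqf p hp

end Groth.Agent.S10100
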