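import Groth.Statements.S10105
import Groth.Agent.H12AlgSp.FppfFamily

set_option autoImplicit false
universe u
open CategoryTheory CategoryTheory.Limits AlgebraicGeometry
open AlgSp

namespace Groth.Agent.S10105

/-- Let `F` be an fppf sheaf of sets over `S` and `{S_i ⟶ S}` an fppf covering. If every `h_{S_i} × F`
is an algebraic space and the coproduct `∐ h_{S_i} × F` (in sheaves) is an algebraic space, then `F`
is an algebraic space: being an algebraic space is fppf local on the base. -/
theorem result (S : Scheme.{u}) (F : AlgSp.Sp S) {ι : Type u} (Si : ι → Over S)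
    (hfl : ∀ i, Flat (Si i).hom) (hfp : ∀ i, LocallyOfFinitePresentation (Si i).hom)
    (hsurj : ∀ x : ↥S, ∃ (i : ι) (y : ↥(Si i).left), (Si i).hom.base y = x)
    (halg : ∀ i, AlgSp.IsAlgSpace ((AlgSp.yon S).obj (Si i) ⨯ F))
    (c : Cofan (fun i => (AlgSp.yon S).obj (Si i) ⨯ F)) (hc : IsColimit c) (hcop : AlgSp.IsAlgSpace c.pt) :
    AlgSp.IsAlgSpace F := by
  exact Groth.Agent.H12AlgSp.isAlgSpace_of_base_cover Si hfl hfp hsurj halg

end Groth.Agent.S10105
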