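import Groth.Statements.S10106
import Groth.Agent.H12AlgSp.FppfBootstrap

set_option autoImplicit false
universe u
open CategoryTheory CategoryTheory.Limits AlgebraicGeometry
open AlgSp

namespace Groth.Agent.S10106

/-- Let `a : F ⟶ G` and `b : G ⟶ H` be maps of fppf sheaves of sets over `S` where `a` is flat,
surjective, locally of finite presentation and representable by algebraic spaces, and the composite
`a ≫ b` is representable by algebraic spaces. Then so is `b`. -/
theorem result (S : Scheme.{u}) (F G H : AlgSp.Sp S) (a : F ⟶ G) (b : G ⟶ H)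
    (ha : AlgSp.RepBySpWith (AlgSp.IsSurjectiveMor ⊓ AlgSp.LocP @Flat ⊓ AlgSp.LocP @LocallyOfFinitePresentation) a.hom) (hab : AlgSp.RepBySp (a ≫ b).hom) :
    AlgSp.RepBySp b.hom := by
  rw [AlgSp.repBySp_hom_iff] at hab ⊢
  intro T ξ P fst snd sq
  let sqa := IsPullback.of_hasPullback a fst
  have hX := hab ξ _ _ (sqa.paste_vert sq)
  refine Groth.Agent.H12AlgSp.isAlgSpace_of_repBySp_fppf hX (pullback.snd a fst) fun V x Q q₁ q₂ sqQ => ?_
  obtain ⟨h1, h2⟩ := (AlgSp.repBySpWith_hom_iff _ _).1 ha (x ≫ fst) _ _ (sqQ.paste_horiz sqa)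
  exact ⟨h1, h2.1.1, h2.1.2, h2.2⟩

end Groth.Agent.S10106
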