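import Groth.Statements.S10107
import Groth.Agent.H12AlgSp.FppfBootstrap

set_option autoImplicit false
universe u
open CategoryTheory CategoryTheory.Limits AlgebraicGeometry
open AlgSp

namespace Groth.Agent.S10107

/-- Let `F = U/R` be an algebraic space which is the fppf quotient of a groupoid in algebraic spaces
`(U, R, s, t, c)` over `S` with `s, t` flat and locally of finite presentation and `j = (t, s)` an
equivalence relation (equivalently, the composition being determined by it, of an equivalence
relation `s, t : R ⟶ U` of algebraic spaces with these properties). Then `U ⟶ F` is surjective, flat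
and locally of finite presentation. -/
theorem result (S : Scheme.{u}) (R U : AlgSp.Sp S)
    (hR : AlgSp.IsAlgSpace R) (hU : AlgSp.IsAlgSpace U) (s t : R ⟶ U) (hj : AlgSp.IsEqvRelSp s t)
    (hs : AlgSp.LocP @Flat s ∧ AlgSp.LocP @LocallyOfFinitePresentation s)
    (ht : AlgSp.LocP @Flat t ∧ AlgSp.LocP @LocallyOfFinitePresentation t)
    (hF : AlgSp.IsAlgSpace (AlgSp.quotSp s t)) :
    AlgSp.IsSurjectiveMor (AlgSp.quotSpπ s t) ∧ AlgSp.LocP @Flat (AlgSp.quotSpπ s t) ∧
      AlgSp.LocP @LocallyOfFinitePresentation (AlgSp.quotSpπ s t) := by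
  open Groth.Agent.H12AlgSp Groth.Agent.H13AlgSp in
  have key := quot_repBySp hR hU hj hs.1 hs.2
  obtain ⟨V, d, hd, hds⟩ := hF.atlas
  obtain ⟨-, hsur, hfl, hfp⟩ := key d _ _ (IsPullback.of_hasPullback (quotSpπ s t) d)
  refine ⟨?_, locP_of_target_cover etLocal_flat hU hF hd hds (IsPullback.of_hasPullback _ d) hfl,
    locP_of_target_cover etLocal_lfp hU hF hd hds (IsPullback.of_hasPullback _ d) hfp⟩
  intro y
  obtain ⟨v, rfl⟩ := surjective_map_of_repWith le_rfl hds y
  obtain ⟨w, rfl⟩ := hsur v
  exact ⟨Points.map (pullback.fst (quotSpπ s t) d) w, by rw [← Points.map_comp, pullback.condition, Points.map_comp]⟩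

end Groth.Agent.S10107
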