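import Groth.Statements.S1011
import Groth.Agent.H16Derived.QCohD.Perfect
import Mathlib.Data.Int.Interval

set_option autoImplicit false
universe u
open CategoryTheory CategoryTheory.Limits AlgebraicGeometry
attribute [local instance] HasDerivedCategory.standard
open Perf

namespace Groth.Agent.S1011

open Groth.Agent.H16Derived.QCohD

/-- Maps into objects without cohomology in a fixed range vanish. -/
def Amp {X : Scheme.{u}} (K : DCoh.D X) : Prop :=
  ∃ a b : ℤ, ∀ L : DCoh.D X, DCoh.IsQCohD L → (∀ i : ℤ, a ≤ i → i ≤ b → IsZero (DCoh.HD L i)) →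
    ∀ φ : K ⟶ L, φ = 0

open Pretriangulated in
theorem stable_amp (X : Scheme.{u}) : Stable (X := X) Amp where
  of_iso {K K'} e := by
    rintro ⟨a, b, h⟩
    exact ⟨a, b, fun L hL hz φ => by rw [← cancel_epi e.hom, comp_zero]; exact h L hL hz _⟩
  shift {K} := by
    rintro ⟨a, b, h⟩ n
    refine ⟨a - n, b - n, fun L hL hz φ => ?_⟩
    let H := DerivedCategory.homologyFunctor X.Modules
    let e : ∀ i, (H i).obj (L⟦-n⟧) ≅ (H (i - n)).obj L := fun i =>
      ((H 0).shiftIso (-n) i (i - n) (by omega)).app L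
    let ψ : K ⟶ L⟦-n⟧ := (shiftShiftNeg K n).inv ≫ φ⟦-n⟧'
    have hψ : ψ = 0 := h (L⟦-n⟧) (fun i => isQCoh_iso (e i).symm (hL _))
      (fun i h₁ h₂ => (hz (i - n) (by omega) (by omega)).of_iso (e i)) ψ
    have : φ⟦-n⟧' = 0 := by
      rw [← cancel_epi (shiftShiftNeg K n).inv, comp_zero]; exact hψ
    exact (shiftFunctor (DCoh.D X) (-n)).map_injective (this.trans (Functor.map_zero _ _ _).symm)
  ext₂ T hT := by
    rintro ⟨a, b, h₁⟩ ⟨a', b', h₃⟩
    refine ⟨min a a', max b b', fun L hL hz φ => ?_⟩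
    obtain ⟨γ, rfl⟩ := Triangle.yoneda_exact₂ T hT φ
      (h₁ L hL (fun i hi hi' => hz i (by omega) (by omega)) _)
    rw [h₃ L hL (fun i hi hi' => hz i (by omega) (by omega)) γ, comp_zero]
  of_isZero hZ := ⟨0, 0, fun _ _ _ φ => hZ.eq_of_src φ 0⟩

theorem amp_of_isPerfect {X : Scheme.{u}} [CompactSpace ↥X] [QuasiSeparatedSpace ↥X] {K : DCoh.D X}
    (hK : DCoh.IsPerfect K) : Amp K :=
  (stable_amp X).of_isPerfect (fun W hW => ⟨0, 0, fun L hL hz φ =>
    (bijective_θ_affine hL hW 0).1 ((hz 0 le_rfl le_rfl).eq_of_tgt _ _)⟩) hK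

/-- Let the scheme X be quasi-compact and quasi-separated and K a perfect object of D(O_X). (1) There
are integers a ≤ b such that every morphism K ⟶ L vanishes whenever L has quasi-coherent cohomology
sheaves which are zero in all degrees of the interval [a, b]. (2) If L ∈ D_QCoh(O_X) is bounded,
then the set of n for which there is a nonzero morphism K ⟶ L[n] is finite. -/
theorem result (X : Scheme.{u}) [CompactSpace ↥X] [QuasiSeparatedSpace ↥X]
    (K : DCoh.D X) (hK : DCoh.IsPerfect K) :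
    (∃ a b : ℤ, a ≤ b ∧ ∀ L : DCoh.D X, DCoh.IsQCohD L → (∀ i : ℤ, a ≤ i → i ≤ b → IsZero (DCoh.HD L i)) →
      ∀ φ : K ⟶ L, φ = 0) ∧
    ∀ (L : DCoh.D X) (a' b' : ℤ), DCoh.IsQCohD L → L.IsGE a' → L.IsLE b' →
      {n : ℤ | ∃ φ : K ⟶ L⟦n⟧, φ ≠ 0}.Finite := by
  obtain ⟨a, b, h⟩ := amp_of_isPerfect hK
  refine ⟨⟨a, max a b, le_max_left _ _, fun L hL hz φ =>
    h L hL (fun i h₁ h₂ => hz i h₁ (h₂.trans (le_max_right _ _))) φ⟩, ?_⟩
  intro L a' b' hL hGE hLE
  let H := DerivedCategory.homologyFunctor X.Modules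
  refine (Set.finite_Icc (a' - b) (b' - a)).subset ?_
  rintro n ⟨φ, hφ⟩
  by_contra hn
  let e : ∀ i, (H i).obj (L⟦n⟧) ≅ (H (i + n)).obj L := fun i =>
    ((H 0).shiftIso n i (i + n) (by omega)).app L
  refine hφ (h (L⟦n⟧) (fun i => isQCoh_iso (e i).symm (hL _)) (fun i h₁ h₂ => ?_) φ)
  simp only [Set.mem_Icc, not_and_or, not_le] at hn
  rcases hn with hn | hn
  · exact (haveI := hGE; DerivedCategory.isZero_of_isGE L a' (i + n) (by omega)).of_iso (e i)
  · exact (haveI := hLE; DerivedCategory.isZero_of_isLE L b' (i + n) (by omega)).of_iso (e i)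

end Groth.Agent.S1011
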