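import Groth.Statements.S10111
import Groth.Agent.H12AlgSp.SubfunctorGlue

set_option autoImplicit false
universe u v
open CategoryTheory CategoryTheory.Limits AlgebraicGeometry
open AlgSp

namespace Groth.Agent.S10111

/-- Let `F` be a presheaf of sets on schemes over `S` which is a Zariski sheaf, and `F_i ⊂ F` a family
of subfunctors which are fppf sheaves, whose inclusions are representable by algebraic spaces, and
such that `∐ F_i ⟶ F` becomes surjective after fppf sheafification (every section of `F` lies fppf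
locally in some `F_i`). Then `F` is an fppf sheaf. -/
theorem result (S : Scheme.{u}) (F : AlgSp.PSp S)
    (h1 : Presheaf.IsSheaf (QuotSh.J Scheme.zariskiPrecoverage S) F) {ι : Type v} (Fi : ι → AlgSp.PSp S)
    (m : ∀ i, Fi i ⟶ F) [∀ i, Mono (m i)] (ha : ∀ i, Presheaf.IsSheaf (AlgSp.J S) (Fi i))
    (hb : ∀ i, AlgSp.RepBySp (m i))
    (hc : ∀ (T : Over S) (x : F.obj (Opposite.op T)), ∃ R ∈ (AlgSp.J S) T,
      ∀ ⦃T' : Over S⦄ (f : T' ⟶ T), R.arrows f → ∃ i, F.map f.op x ∈ Set.range ((m i).app (Opposite.op T'))) :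
    Presheaf.IsSheaf (AlgSp.J S) F := by
  exact Groth.Agent.H12AlgSp.SubfunctorGlue.isSheaf_fppf m hb hc h1 ha

end Groth.Agent.S10111
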