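import Groth.Statements.S10114
import Groth.Agent.H12AlgSp.QuotSpFormal

set_option autoImplicit false
universe u
open CategoryTheory CategoryTheory.Limits AlgebraicGeometry
open AlgSp

namespace Groth.Agent.S10114

/-- Let `s, t : R ⟶ U` be a pre-equivalence relation of algebraic spaces, `g : U' ⟶ U` a morphism of
algebraic spaces and `s', t' : R' ⟶ U'` the restriction of the pre-relation along `g` (so `R' = (U'
× U') ×_{U × U} R`). Then the induced map of quotient sheaves `U'/R' ⟶ U/R` is injective, and it is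
an isomorphism when `g` is a surjection of sheaves. -/
theorem result (S : Scheme.{u}) (R U R' U' : AlgSp.Sp S)
    (hR : AlgSp.IsAlgSpace R) (hU : AlgSp.IsAlgSpace U) (hR' : AlgSp.IsAlgSpace R') (hU' : AlgSp.IsAlgSpace U')
    (s t : R ⟶ U) (hpre : AlgSp.IsPreEqvRelSp s t) (g : U' ⟶ U) (s' t' : R' ⟶ U') (r : R' ⟶ R)
    (hsq : IsPullback (prod.lift t' s') r (prod.map g g) (prod.lift t s))
    (ψ : AlgSp.quotSp s' t' ⟶ AlgSp.quotSp s t) (hψ : AlgSp.quotSpπ s' t' ≫ ψ = g ≫ AlgSp.quotSpπ s t) :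
    Mono ψ ∧ (Epi g → IsIso ψ) := by
  have hm : Mono ψ := Groth.Agent.H12AlgSp.mono_quot_restrict hpre g (fun a b q h₁ h₂ => by
    obtain ⟨q', k, -⟩ := hsq.exists_lift (prod.lift a b) q (by
      apply Limits.prod.hom_ext
      · simp only [Category.assoc, prod.map_fst, prod.lift_fst, prod.lift_fst_assoc, h₁]
      · simp only [Category.assoc, prod.map_snd, prod.lift_snd, prod.lift_snd_assoc, h₂])
    refine ⟨q', ?_, ?_⟩
    · have := k =≫ prod.fst; simpa only [Category.assoc, prod.lift_fst] using this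
    · have := k =≫ prod.snd; simpa only [Category.assoc, prod.lift_snd] using this) ψ hψ
  refine ⟨hm, fun hg => ?_⟩
  have : Epi (AlgSp.quotSpπ s t) := Groth.Agent.H12AlgSp.epi_quotSpπ
  have : Epi (g ≫ AlgSp.quotSpπ s t) := epi_comp _ _
  exact Groth.Agent.H12AlgSp.isIso_of_epi_fac (k := 𝟙 U') (π := AlgSp.quotSpπ s' t')
    (f := g ≫ AlgSp.quotSpπ s t) (by rw [Category.id_comp, hψ])

end Groth.Agent.S10114
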