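import Groth.Statements.S10115
import Groth.Agent.H12AlgSp.QuotSpFormal

set_option autoImplicit false
universe u
open CategoryTheory CategoryTheory.Limits AlgebraicGeometry
open AlgSp AlgSp.GroupoidSp

namespace Groth.Agent.S10115

/-- For a groupoid `(U, R, s, t, c)` in algebraic spaces over `B`, let `(U', R', s', t', c')` be its
restriction along a morphism `g : U' ⟶ U` over `B`. Then `U'/R' ⟶ U/R` is injective; if the
composite `h : U' ×_{g, U, t} R ⟶ R ⟶ U` of the projection with `s` is a surjection of fppf sheaves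
(for instance if `g` is), then it is bijective. -/
theorem result (S : Scheme.{u}) (B : AlgSp.Sp S) (hB : AlgSp.IsAlgSpace B)
    (G G' : AlgSp.GroupoidSp B) (hU : AlgSp.IsAlgSpace G.U) (hR : AlgSp.IsAlgSpace G.R)
    (hU' : AlgSp.IsAlgSpace G'.U) (hR' : AlgSp.IsAlgSpace G'.R) (φ : AlgSp.GroupoidSp.Hom G' G)
    (hφ : φ.IsRestriction) (ψ : G'.quot ⟶ G.quot) (hψ : G'.quotπ ≫ ψ = φ.fU ≫ G.quotπ) :
    Mono ψ ∧ (Epi (pullback.snd φ.fU G.t ≫ G.s) → IsIso ψ) := by
  have hm : Mono ψ := Groth.Agent.H12AlgSp.mono_quot_restrict (Groth.Agent.H12AlgSp.Gpd.isPreEqvRelSp G) φ.fU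
    (fun a b q h₁ h₂ => by
      have hab : a ≫ G'.pU = b ≫ G'.pU := by
        rw [← φ.fU_over, ← Category.assoc, ← Category.assoc, ← h₁, ← h₂, Category.assoc, Category.assoc,
          G.t_over, G.s_over]
      obtain ⟨q', -, k⟩ := hφ.exists_lift q (pullback.lift a b hab) (by
        apply pullback.hom_ext
        · simp only [AlgSp.GroupoidSp.Hom.prodMap, Category.assoc, AlgSp.GroupoidSp.j_fst, pullback.lift_fst,
            pullback.lift_fst_assoc, h₁]
        · simp only [AlgSp.GroupoidSp.Hom.prodMap, Category.assoc, AlgSp.GroupoidSp.j_snd, pullback.lift_snd,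
            pullback.lift_snd_assoc, h₂])
      refine ⟨q', ?_, ?_⟩
      · have := k =≫ pullback.fst _ _; simpa only [Category.assoc, AlgSp.GroupoidSp.j_fst, pullback.lift_fst] using this
      · have := k =≫ pullback.snd _ _; simpa only [Category.assoc, AlgSp.GroupoidSp.j_snd, pullback.lift_snd] using this)
    ψ hψ
  refine ⟨hm, fun he => ?_⟩
  let G' := G'
  have : Epi G.quotπ := Groth.Agent.H12AlgSp.epi_quotSpπ
  have : Epi ((pullback.snd φ.fU G.t ≫ G.s) ≫ G.quotπ) := epi_comp _ _
  exact Groth.Agent.H12AlgSp.isIso_of_epi_fac (k := pullback.fst φ.fU G.t) (π := G'.quotπ)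
    (f := (pullback.snd φ.fU G.t ≫ G.s) ≫ G.quotπ) (by
      rw [hψ, ← Category.assoc, pullback.condition, Category.assoc, Category.assoc]
      exact congrArg (pullback.snd φ.fU G.t ≫ ·) (AlgSp.quotSp_condition G.s G.t).symm)

end Groth.Agent.S10115
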