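import Groth.Statements.S10116
import Groth.Agent.H12AlgSp.GroupObj

set_option autoImplicit false
universe u
open CategoryTheory CategoryTheory.Limits AlgebraicGeometry MonoidalCategory MonObj
open AlgSp

namespace Groth.Agent.S10116

/-- Let `G` be a group algebraic space over an algebraic space `B` with unit `e : B ⟶ G`. Then `G ⟶ B`
is separated if and only if `e` is a closed immersion, quasi-separated if and only if `e` is
quasi-compact, and if `G ⟶ B` is locally separated then `e` is an immersion. (The published
statement makes the last part an equivalence as well; this row states only that a locally separated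
`G ⟶ B` has `e` an immersion.) -/
theorem result (S : Scheme.{u}) (B : AlgSp.Sp S) (hB : AlgSp.IsAlgSpace B)
    (G : Over B) [GrpObj G] (hG : AlgSp.IsAlgSpace G.left) :
    (AlgSp.IsSeparatedMor G.hom ↔ AlgSp.RepWith @IsClosedImmersion (η[G]).left) ∧
      (AlgSp.IsQuasiSeparatedMor G.hom ↔ AlgSp.IsQuasiCompactMor (η[G]).left) ∧
      (AlgSp.IsLocallySeparatedMor G.hom → AlgSp.RepWith @IsImmersion (η[G]).left) := by
  exact Groth.Agent.H12AlgSp.grpObj_separation G hB hG

end Groth.Agent.S10116
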