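import Groth.Statements.S10118
import Groth.Agent.H12AlgSp.GroupLoci

set_option autoImplicit false
universe u
open CategoryTheory CategoryTheory.Limits AlgebraicGeometry MonoidalCategory MonObj
open AlgSp AlgSp.GAction

namespace Groth.Agent.S10118

/-- Let `X` be a pseudo-torsor under a group algebraic space `G` over an algebraic space `B`, where both
`G` and `X` are locally of finite type over `B`. Whenever `G ⟶ B` is unramified, `X ⟶ B` is
unramified too; likewise, local quasi-finiteness passes from `G ⟶ B` to `X ⟶ B`. -/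
theorem result (S : Scheme.{u}) (B : AlgSp.Sp S) (hB : AlgSp.IsAlgSpace B)
    (G X : Over B) [GrpObj G] (hG : AlgSp.IsAlgSpace G.left) (hX : AlgSp.IsAlgSpace X.left)
    (a : AlgSp.GAction G X) (ha : a.IsPseudoTorsor)
    (hGt : AlgSp.LocP @LocallyOfFiniteType G.hom) (hXt : AlgSp.LocP @LocallyOfFiniteType X.hom) :
    (AlgSp.LocP (@LocallyOfFiniteType ⊓ @FormallyUnramified) G.hom →
        AlgSp.LocP (@LocallyOfFiniteType ⊓ @FormallyUnramified) X.hom) ∧
      (AlgSp.LocP (@LocallyQuasiFinite ⊓ @LocallyOfFiniteType) G.hom →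
        AlgSp.LocP (@LocallyQuasiFinite ⊓ @LocallyOfFiniteType) X.hom) := by
  have hU := Groth.Agent.H12AlgSp.etLocal_inf Groth.Agent.H12AlgSp.etLocal_lft.{u} Groth.Agent.H12AlgSp.etLocal_formallyUnramified.{u}
  have hQ := Groth.Agent.H12AlgSp.etLocal_inf Groth.Agent.H12AlgSp.etLocal_lqf.{u} Groth.Agent.H12AlgSp.etLocal_lft.{u}
  refine ⟨fun h => ?_, fun h => ?_⟩
  · exact (Groth.Agent.H12AlgSp.locP_iff_forall_nbhd hU hX hB X.hom).2 (Groth.Agent.H12AlgSp.locus_of_pseudoTorsor G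
      (L := fun _ _ f x => AlgSp.HasAtMor (Groth.Agent.H12AlgSp.nbhdProp (@LocallyOfFiniteType ⊓ @FormallyUnramified)) f x)
      (fun sq h1 h2 h3 h4 z => Groth.Agent.H12AlgSp.nbhd_unramified_baseChange sq h1 h2 h3 h4 z)
      hB hG hX hGt hXt a ha ((Groth.Agent.H12AlgSp.locP_iff_forall_nbhd hU hG hB G.hom).1 h))
  · exact (Groth.Agent.H12AlgSp.locP_iff_forall_nbhd hQ hX hB X.hom).2 (Groth.Agent.H12AlgSp.locus_of_pseudoTorsor G
      (L := fun _ _ f x => AlgSp.HasAtMor (Groth.Agent.H12AlgSp.nbhdProp (@LocallyQuasiFinite ⊓ @LocallyOfFiniteType)) f x)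
      (fun sq h1 h2 h3 h4 z => Groth.Agent.H12AlgSp.nbhd_lqf_baseChange sq h1 h2 h3 h4 z)
      hB hG hX hGt hXt a ha ((Groth.Agent.H12AlgSp.locP_iff_forall_nbhd hQ hG hB G.hom).1 h))

end Groth.Agent.S10118
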