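import Groth.Statements.S10121
import Groth.Agent.H12AlgSp.PointsRel

set_option autoImplicit false
universe u
open CategoryTheory CategoryTheory.Limits AlgebraicGeometry
open AlgSp

namespace Groth.Agent.S10121

/-- For a pre-equivalence relation `s, t : R ⟶ U` of algebraic spaces, the relation on points of `U`
given by `x ∼ y` when some point `r` of `R` has `t(r) = x` and `s(r) = y` is an equivalence relation
on `|U|`. -/
theorem result (S : Scheme.{u}) (R U : AlgSp.Sp S)
    (hR : AlgSp.IsAlgSpace R) (hU : AlgSp.IsAlgSpace U) (s t : R ⟶ U) (h : AlgSp.IsPreEqvRelSp s t) :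
    _root_.Equivalence (fun x y : AlgSp.Points U =>
      ∃ r : AlgSp.Points R, AlgSp.Points.map t r = x ∧ AlgSp.Points.map s r = y) := by
  exact Groth.Agent.H12AlgSp.points_rel_equivalence s t h

end Groth.Agent.S10121
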