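import Groth.Statements.S10122
import Groth.Agent.H12AlgSp.StabilizerSep
import Groth.Agent.H12AlgSp.Basic

set_option autoImplicit false
universe u
open CategoryTheory CategoryTheory.Limits AlgebraicGeometry
open AlgSp AlgSp.GroupoidSp

namespace Groth.Agent.S10122

/-- Let `(U, R, s, t, c)` be a groupoid in algebraic spaces over `B` with stabilizer `G ⟶ U` and unit
section `e : U ⟶ G`. Then (1) `j : R ⟶ U ×_B U` is separated iff `G ⟶ U` is separated iff `e` is a
closed immersion; (3) `j` is quasi-separated iff `G ⟶ U` is quasi-separated iff `e` is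
quasi-compact; (2) if `j` or `G ⟶ U` is locally separated then `e` is an immersion. The unit section
is written as any morphism `U ⟶ G` lifting the identity `e : U ⟶ R` of the groupoid. (The published
part (2) is a three-way equivalence; this row states only that `j` locally separated, or `G ⟶ U`
locally separated, implies that `e` is an immersion.) -/
theorem result (S : Scheme.{u}) (B : AlgSp.Sp S) (hB : AlgSp.IsAlgSpace B)
    (G : AlgSp.GroupoidSp B) (hU : AlgSp.IsAlgSpace G.U) (hR : AlgSp.IsAlgSpace G.R)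
    (eG : G.U ⟶ G.stabilizer) (heG : eG ≫ G.stabilizerι = G.e) :
    ((AlgSp.IsSeparatedMor G.j ↔ AlgSp.IsSeparatedMor G.stabilizerToU) ∧
        (AlgSp.IsSeparatedMor G.j ↔ AlgSp.RepWith @IsClosedImmersion eG)) ∧
      ((AlgSp.IsQuasiSeparatedMor G.j ↔ AlgSp.IsQuasiSeparatedMor G.stabilizerToU) ∧
        (AlgSp.IsQuasiSeparatedMor G.j ↔ AlgSp.IsQuasiCompactMor eG)) ∧
      ((AlgSp.IsLocallySeparatedMor G.j → AlgSp.RepWith @IsImmersion eG) ∧
        (AlgSp.IsLocallySeparatedMor G.stabilizerToU → AlgSp.RepWith @IsImmersion eG)) := by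
  have hUU : AlgSp.IsAlgSpace (pullback G.pU G.pU) := Groth.Agent.H12AlgSp.isAlgSpace_pullback hB.diag hU hU G.pU G.pU
  have hst : AlgSp.IsAlgSpace G.stabilizer := Groth.Agent.H12AlgSp.isAlgSpace_pullback hUU.diag hR hU G.j G.diag
  have hrep := Groth.Agent.H12AlgSp.Gpd.representable_unit heG hR
  have hC := Groth.Agent.H12AlgSp.Gpd.separation_iff (P := @IsClosedImmersion) heG
  have hQ := Groth.Agent.H12AlgSp.Gpd.separation_iff (P := @QuasiCompact) heG
  have hI := Groth.Agent.H12AlgSp.Gpd.separation_iff (P := @IsImmersion) heG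
  refine ⟨⟨hC.2.2, hC.1⟩, ⟨hQ.2.2, hQ.1.trans ?_⟩, ⟨hI.1.1, hI.2.1.1⟩⟩
  exact ⟨fun h => Groth.Agent.H12AlgSp.isQuasiCompactMor_of_repWith hU hst h,
    fun h => Groth.Agent.H12AlgSp.repWith_quasiCompact_of_mor hrep h⟩

end Groth.Agent.S10122
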