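import Groth.Statements.S10125
import Groth.Agent.H12AlgSp.FieldGroupoid

set_option autoImplicit false
universe u
open CategoryTheory CategoryTheory.Limits AlgebraicGeometry MonoidalCategory MonObj
open AlgSp

namespace Groth.Agent.S10125

/-- For a group algebraic space `G` over a field `k`, the multiplication `m` of `G`, a morphism `G ×_k G
⟶ G`, is both flat and universally open. (The published situation allows any base scheme `S` with
`k` a field over `S`; this row takes `S = Spec k`.) -/
theorem result (k : Type u) [Field k]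
    (G : Over ((AlgSp.yon (Spec (CommRingCat.of k))).obj (Over.mk (𝟙 _)))) [GrpObj G]
    (hG : AlgSp.IsAlgSpace G.left) :
    AlgSp.LocP @Flat (μ[G]).left ∧ AlgSp.IsUnivOpenMor (μ[G]).left := by
  have hk := Groth.Agent.H12AlgSp.flat_univOpen_to_field hG (Iso.refl _) G.hom
  have hB : AlgSp.IsAlgSpace ((AlgSp.yon (Spec (CommRingCat.of k))).obj (Over.mk (𝟙 _))) := AlgSp.IsAlgSpace.yon_obj _
  have sq := ((Groth.Agent.H12AlgSp.isPullback_mul G).map (Over.forget _)).flip
  exact ⟨Groth.Agent.H12AlgSp.locP_of_isPullback Groth.Agent.H12AlgSp.etLocal_flat sq hG hB hG hk.1,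
    Groth.Agent.H12AlgSp.univSp_of_isPullback sq hk.2⟩

end Groth.Agent.S10125
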