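import Groth.Statements.S10128
import Groth.Agent.H12AlgSp.DecentSeparated

set_option autoImplicit false
set_option backward.isDefEq.respectTransparency false
universe u
open CategoryTheory CategoryTheory.Limits AlgebraicGeometry
open AlgSp AlgSp.GroupoidSp

namespace Groth.Agent.S10128

/-- Let `(U, R, s, t, c)` be a groupoid in algebraic spaces over `B` whose object space is `U = Spec k`,
with `k` a field, and assume `R` is a decent algebraic space. Then `R` is separated over the base
scheme `S`. (The published statement concludes that `R` is separated in the absolute sense; this row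
concludes that `R` is separated over `S`, which the absolute notion implies.) -/
theorem result (S : Scheme.{u}) (B : AlgSp.Sp S) (hB : AlgSp.IsAlgSpace B)
    (G : AlgSp.GroupoidSp B) (hR : AlgSp.IsAlgSpace G.R) (k : Type u) [Field k]
    (σ : Spec (CommRingCat.of k) ⟶ S) (eU : G.U ≅ (AlgSp.yon S).obj (Over.mk σ)) (hd : AlgSp.IsDecent G.R) :
    AlgSp.IsSeparatedSp G.R := by
  have h := Groth.Agent.H12AlgSp.repWith_closedImmersion_section hR hd (eU.inv ≫ G.e) (G.s ≫ eU.hom)
    (by rw [Category.assoc, reassoc_of% G.e_s, Iso.inv_hom_id])
  have he : RepWith @IsClosedImmersion G.e := by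
    rw [← eU.hom_inv_id_assoc G.e]
    exact MorphismProperty.RespectsIso.precomp _ _ _ h
  have hs : IsSeparatedMor G.s := Groth.Agent.H12AlgSp.repWith_of_isPullback
    (Groth.Agent.H12AlgSp.isPullback_diagonal_s_e G) he
  have : IsSeparated σ := IsSeparated.of_comp σ (terminal.from S)
  have hsep : IsSeparatedMor eU.hom := by
    unfold AlgSp.IsSeparatedMor
    exact Groth.Agent.H12AlgSp.repWith_of_isIso _
  exact Groth.Agent.H12AlgSp.isSeparatedSp_of_mor G.s hs
    (Groth.Agent.H12AlgSp.isSeparatedSp_of_mor eU.hom hsep (Groth.Agent.H12AlgSp.isSeparatedSp_yon (A := Over.mk σ) this))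

end Groth.Agent.S10128
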