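import Groth.Statements.S10130
import Groth.Agent.H12AlgSp.InvariantOpens

set_option autoImplicit false
universe u
open CategoryTheory CategoryTheory.Limits AlgebraicGeometry
open AlgSp AlgSp.GroupoidSp

namespace Groth.Agent.S10130

/-- Let `(U, R, s, t, c)` be a groupoid in algebraic spaces over `B` with `s, t` open. For every open
subspace `W ⊂ U`, the open subspace `s(t⁻¹(W))` of `U` is `R`-invariant. -/
theorem result (S : Scheme.{u}) (B : AlgSp.Sp S) (hB : AlgSp.IsAlgSpace B)
    (G : AlgSp.GroupoidSp B) (hU : AlgSp.IsAlgSpace G.U) (hR : AlgSp.IsAlgSpace G.R)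
    (hs : AlgSp.IsOpenMor G.s) (ht : AlgSp.IsOpenMor G.t)
    (W W' : AlgSp.Sp S) (w : W ⟶ G.U) (w' : W' ⟶ G.U)
    (hw : AlgSp.RepWith @IsOpenImmersion w) (hw' : AlgSp.RepWith @IsOpenImmersion w')
    (himg : Set.range (AlgSp.Points.map w') =
      AlgSp.Points.map G.s '' (AlgSp.Points.map G.t ⁻¹' Set.range (AlgSp.Points.map w))) :
    G.IsInvariant w' := by
  refine Groth.Agent.H12AlgSp.Gpd.isInvariant_of_range w' hw' fun p => ?_
  rw [himg]
  exact Groth.Agent.H12AlgSp.Gpd.mem_orbit_iff _ p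

end Groth.Agent.S10130
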