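import Groth.Statements.S10131
import Groth.Agent.H12AlgSp.InvariantOpens
import Groth.Agent.H12AlgSp.PointsTop
import Groth.Agent.H12AlgSp.QC

set_option autoImplicit false
universe u
open CategoryTheory CategoryTheory.Limits AlgebraicGeometry
open AlgSp AlgSp.GroupoidSp

namespace Groth.Agent.S10131

/-- Let `(U, R, s, t, c)` be a groupoid in algebraic spaces over `B` with `s, t` open and quasi-compact.
Then `U` has an open covering by `R`-invariant quasi-compact open subspaces. -/
theorem result (S : Scheme.{u}) (B : AlgSp.Sp S) (hB : AlgSp.IsAlgSpace B)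
    (G : AlgSp.GroupoidSp B) (hU : AlgSp.IsAlgSpace G.U) (hR : AlgSp.IsAlgSpace G.R)
    (hs : AlgSp.IsOpenMor G.s ∧ AlgSp.IsQuasiCompactMor G.s) (ht : AlgSp.IsOpenMor G.t ∧ AlgSp.IsQuasiCompactMor G.t)
    (x : AlgSp.Points G.U) :
    ∃ (W : AlgSp.Sp S) (w : W ⟶ G.U), AlgSp.RepWith @IsOpenImmersion w ∧ G.IsInvariant w ∧
      AlgSp.IsQuasiCompactSp W ∧ x ∈ Set.range (AlgSp.Points.map w) := by
  obtain ⟨V, hV, hVc, hxV, -⟩ := Groth.Agent.H12AlgSp.exists_compact_open_nhd hU x isOpen_univ (Set.mem_univ x)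
  let A := Points.map G.s '' (Points.map G.t ⁻¹' V)
  have hA : IsOpen A := hs.1 _ (hV.preimage (Points.continuous_map _))
  have hAc : IsCompact A := (Groth.Agent.H12AlgSp.isCompact_preimage hU ht.2 hV hVc).image (Points.continuous_map _)
  obtain ⟨W, w, hW, hw, hr⟩ := Groth.Agent.H12AlgSp.exists_open_subspace hU hA
  refine ⟨W, w, hw, Groth.Agent.H12AlgSp.Gpd.isInvariant_of_range w hw fun p => ?_, ?_, ?_⟩
  · rw [hr]; exact Groth.Agent.H12AlgSp.Gpd.mem_orbit_iff _ p
  · have he := Groth.Agent.H12AlgSp.isEmbedding_of_immersion hU w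
      (⟨hw.1, fun {_ _} g fst snd sq => by
        have : IsOpenImmersion snd.left := hw.2 g fst snd sq
        exact inferInstanceAs (IsImmersion snd.left)⟩)
    rw [Groth.Agent.H12AlgSp.isQuasiCompactSp_iff hW, ← isCompact_univ_iff, he.1.isCompact_iff, Set.image_univ, hr]
    exact hAc
  · rw [hr]
    refine ⟨Points.map G.e x, ?_, ?_⟩
    · rw [Set.mem_preimage, ← Points.map_comp, G.e_t, Points.map_id]; exact hxV
    · rw [← Points.map_comp, G.e_s, Points.map_id]

end Groth.Agent.S10131
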