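import Groth.Statements.S10132
import Groth.Agent.H12AlgSp.FieldGroupoid

set_option autoImplicit false
universe u
open CategoryTheory CategoryTheory.Limits AlgebraicGeometry
open AlgSp AlgSp.GroupoidSp

namespace Groth.Agent.S10132

/-- Let `(U, R, s, t, c)` be a groupoid in algebraic spaces over `B` whose object space is `U = Spec k`,
let `k ⊂ k'` be a field extension and `(U', R', s', t', c')` the restriction along `Spec k' ⟶ Spec
k`. Then `s, t, s', t'`, `Spec k' ⟶ Spec k` and `R' ⟶ R` are surjective, flat and universally open,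
and `R' ⟶ R` is moreover affine. (The published statement lists every arrow of the restriction
diagram; this row omits the six arrows through `R ×_{s,U} U'` and `U' ×_{U,t} R`, each a base change
of `s`, `t` or `Spec k' ⟶ Spec k`.) -/
theorem result (S : Scheme.{u}) (B : AlgSp.Sp S) (hB : AlgSp.IsAlgSpace B)
    (G G' : AlgSp.GroupoidSp B) (hR : AlgSp.IsAlgSpace G.R) (hR' : AlgSp.IsAlgSpace G'.R)
    (k k' : Type u) [Field k] [Field k'] [Algebra k k'] (σ : Spec (CommRingCat.of k) ⟶ S)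
    (eU : G.U ≅ ((AlgSp.yon S).obj (Over.mk σ)))
    (eU' : G'.U ≅ ((AlgSp.yon S).obj (Over.mk (Spec.map (CommRingCat.ofHom (algebraMap k k')) ≫ σ))))
    (φ : AlgSp.GroupoidSp.Hom G' G) (hφ : φ.IsRestriction)
    (hfU : φ.fU = eU'.hom ≫ (AlgSp.yon S).map (Over.homMk (Spec.map (CommRingCat.ofHom (algebraMap k k'))) rfl :
      Over.mk (Spec.map (CommRingCat.ofHom (algebraMap k k')) ≫ σ) ⟶ Over.mk σ) ≫ eU.inv) :
    (∀ f ∈ [G.s, G.t], AlgSp.IsSurjectiveMor f ∧ AlgSp.LocP @Flat f ∧ AlgSp.IsUnivOpenMor f) ∧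
      (∀ f ∈ [G'.s, G'.t], AlgSp.IsSurjectiveMor f ∧ AlgSp.LocP @Flat f ∧ AlgSp.IsUnivOpenMor f) ∧
      (AlgSp.IsSurjectiveMor φ.fU ∧ AlgSp.LocP @Flat φ.fU ∧ AlgSp.IsUnivOpenMor φ.fU) ∧
      (AlgSp.IsSurjectiveMor φ.fR ∧ AlgSp.LocP @Flat φ.fR ∧ AlgSp.IsUnivOpenMor φ.fR ∧ AlgSp.IsAffineMor φ.fR) := by
  have hU : AlgSp.IsAlgSpace G.U := (AlgSp.IsAlgSpace.yon_obj _).of_iso eU.symm
  let g : Over.mk (Spec.map (CommRingCat.ofHom (algebraMap k k')) ≫ σ) ⟶ Over.mk σ :=
    Over.homMk (Spec.map (CommRingCat.ofHom (algebraMap k k'))) rfl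
  have hst : ∀ (H : AlgSp.GroupoidSp B) (_ : AlgSp.IsAlgSpace H.R) (K : Type u) [Field K] (τ : Spec (CommRingCat.of K) ⟶ S)
      (e : H.U ≅ (AlgSp.yon S).obj (Over.mk τ)), ∀ f ∈ [H.s, H.t],
      AlgSp.IsSurjectiveMor f ∧ AlgSp.LocP @Flat f ∧ AlgSp.IsUnivOpenMor f := by
    intro H hH K _ τ e f hf
    refine ⟨?_, Groth.Agent.H12AlgSp.flat_univOpen_to_field hH e f⟩
    simp only [List.mem_cons, List.not_mem_nil, or_false] at hf
    rcases hf with rfl | rfl
    · exact Groth.Agent.H12AlgSp.surjective_map_of_section H.e_s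
    · exact Groth.Agent.H12AlgSp.surjective_map_of_section H.e_t
  have hg : ∀ P : MorphismProperty Scheme.{u}, [P.IsStableUnderBaseChange] → P g.left → AlgSp.RepWith P φ.fU := by
    intro P _ hP
    rw [hfU]
    exact MorphismProperty.RespectsIso.precomp _ _ _ (MorphismProperty.RespectsIso.postcomp _ _ _
      ((AlgSp.repWith_yon_map_iff P g).2 hP))
  have hflat : Flat g.left := Groth.Agent.H12AlgSp.flat_to_field _
  have hsurj : Surjective g.left := ⟨fun z => ⟨(default : PrimeSpectrum k'), @Subsingleton.elim _ (inferInstanceAs (Subsingleton (PrimeSpectrum k))) _ _⟩⟩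
  have haff : IsAffineHom g.left := inferInstanceAs (IsAffineHom (Spec.map (CommRingCat.ofHom (algebraMap k k'))))
  have : DiscreteTopology ↥(Over.mk σ).left := inferInstanceAs (DiscreteTopology (PrimeSpectrum k))
  have hopen : UniversallyOpen g.left := Groth.Agent.H06Desc.universallyOpen_of_discreteTopology _
  have hR₂ : ∀ P : MorphismProperty Scheme.{u}, [P.IsStableUnderBaseChange] → [P.IsStableUnderComposition] →
      P g.left → AlgSp.RepWith P φ.fR := fun P _ _ hP =>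
    Groth.Agent.H12AlgSp.repWith_of_isPullback hφ.flip (Groth.Agent.H12AlgSp.repWith_hom_prodMap φ (hg P hP))
  refine ⟨hst G hR k σ eU, hst G' hR' k' _ eU', ⟨?_, ?_, ?_⟩, ?_, ?_, ?_, ?_⟩
  · exact Groth.Agent.H12AlgSp.surjective_map_of_repWith le_rfl (hg @Surjective hsurj)
  · exact Groth.Agent.H12AlgSp.locP_of_repWith Groth.Agent.H12AlgSp.etLocal_flat (hg @Flat hflat)
  · exact (Groth.Agent.H12AlgSp.repWith_universallyOpen_iff (hg @UniversallyOpen hopen).1).1 (hg @UniversallyOpen hopen)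
  · exact Groth.Agent.H12AlgSp.surjective_map_of_repWith le_rfl (hR₂ @Surjective hsurj)
  · exact Groth.Agent.H12AlgSp.locP_of_repWith Groth.Agent.H12AlgSp.etLocal_flat (hR₂ @Flat hflat)
  · exact (Groth.Agent.H12AlgSp.repWith_universallyOpen_iff (hR₂ @UniversallyOpen hopen).1).1 (hR₂ @UniversallyOpen hopen)
  · exact Groth.Agent.H13AlgSp.isAffineMor_iff.2 (hR₂ @IsAffineHom haff)

end Groth.Agent.S10132
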