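import Groth.Statements.S10135
import Groth.Agent.H12AlgSp.Homogeneous

set_option autoImplicit false
universe u
open CategoryTheory CategoryTheory.Limits AlgebraicGeometry
open AlgSp AlgSp.GroupoidSp

namespace Groth.Agent.S10135

/-- For a groupoid in algebraic spaces `(U, R, s, t, c)` over `B` with `U = Spec k` and `s, t` locally
of finite type, `dim_r(R) = dim(R)` for every point `r` of `R`. -/
theorem result (S : Scheme.{u}) (B : AlgSp.Sp S) (hB : AlgSp.IsAlgSpace B)
    (G : AlgSp.GroupoidSp B) (hR : AlgSp.IsAlgSpace G.R) (k : Type u) [Field k]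
    (σ : Spec (CommRingCat.of k) ⟶ S) (eU : G.U ≅ (AlgSp.yon S).obj (Over.mk σ))
    (hs : AlgSp.LocP @LocallyOfFiniteType G.s) (ht : AlgSp.LocP @LocallyOfFiniteType G.t) (r : AlgSp.Points G.R) :
    AlgSp.HasAt (fun V v => FlatMor.localDim ↥V v = AlgSp.dim G.R) G.R r := by
  have hU : AlgSp.IsAlgSpace G.U := (AlgSp.IsAlgSpace.yon_obj _).of_iso eU.symm
  refine Groth.Agent.H12AlgSp.hasAt_localDim_eq_dim hR eU hs (fun a b d hd => ?_) r
  refine Groth.Agent.H12AlgSp.fibreDim_eq_of_two_squares hR hU hs (IsPullback.of_hasPullback G.s G.t)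
    (Groth.Agent.H12AlgSp.Gpd.isPullback_c (G := G)) (fun a b => ?_) a b d hd
  have : Subsingleton (AlgSp.Points ((AlgSp.yon S).obj (Over.mk σ))) :=
    haveI : Subsingleton ↥(Over.mk σ).left := inferInstanceAs (Subsingleton (PrimeSpectrum k))
    (AlgSp.Points.schemeHomeo (Over.mk σ)).symm.injective.subsingleton
  obtain ⟨w, hw₁, hw₂⟩ := Groth.Agent.H12AlgSp.exists_point_of_isPullback (IsPullback.of_hasPullback G.t G.t) a b (by
    have := congrArg (AlgSp.Points.map eU.inv)
      (Subsingleton.elim (AlgSp.Points.map eU.hom (AlgSp.Points.map G.t a)) (AlgSp.Points.map eU.hom (AlgSp.Points.map G.t b)))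
    simpa only [← AlgSp.Points.map_comp, Category.assoc, Iso.hom_inv_id, Category.comp_id] using this)
  let γ := Groth.Agent.H12AlgSp.Gpd.mul G (pullback.fst G.t G.t ≫ G.i) (pullback.snd G.t G.t)
    ((Groth.Agent.H12AlgSp.Gpd.inv_s _).trans pullback.condition)
  let φ : pullback G.t G.t ⟶ pullback G.s G.t := pullback.lift (pullback.fst G.t G.t) γ
    ((Groth.Agent.H12AlgSp.Gpd.inv_t _).symm.trans (Groth.Agent.H12AlgSp.Gpd.mul_t _ _ _).symm)
  refine ⟨AlgSp.Points.map φ w, ?_, ?_⟩
  · rw [← AlgSp.Points.map_comp, pullback.lift_fst, hw₁]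
  · rw [← AlgSp.Points.map_comp, show φ ≫ G.c = pullback.snd G.t G.t from
      Groth.Agent.H12AlgSp.Gpd.mul_inv_cancel_left _ _ pullback.condition, hw₂]

end Groth.Agent.S10135
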