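import Groth.Statements.S10136
import Groth.Agent.H12AlgSp.Homogeneous

set_option autoImplicit false
universe u
open CategoryTheory CategoryTheory.Limits AlgebraicGeometry MonoidalCategory MonObj
open AlgSp

namespace Groth.Agent.S10136

/-- For a group algebraic space `G` locally of finite type over a field `k`, `dim_g(G) = dim(G)` for
every point `g` of `G`. (The published situation allows any base scheme `S` with `k` a field over
`S`; this row takes `S = Spec k`.) -/
theorem result (k : Type u) [Field k]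
    (G : Over ((AlgSp.yon (Spec (CommRingCat.of k))).obj (Over.mk (𝟙 _)))) [GrpObj G] (hG : AlgSp.IsAlgSpace G.left)
    (hlft : AlgSp.LocP @LocallyOfFiniteType G.hom) (g : AlgSp.Points G.left) :
    AlgSp.HasAt (fun V v => FlatMor.localDim ↥V v = AlgSp.dim G.left) G.left g := by
  have hB : AlgSp.IsAlgSpace ((AlgSp.yon (Spec (CommRingCat.of k))).obj (Over.mk (𝟙 _))) := AlgSp.IsAlgSpace.yon_obj _
  refine Groth.Agent.H12AlgSp.hasAt_localDim_eq_dim hG (Iso.refl _) hlft (fun a b d hd => ?_) g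
  refine Groth.Agent.H12AlgSp.fibreDim_eq_of_two_squares hG hB hlft (IsPullback.of_hasPullback G.hom G.hom)
    ((Groth.Agent.H12AlgSp.isPullback_mul G).map (Over.forget _)) (fun a b => ?_) a b d hd
  have : Subsingleton (AlgSp.Points ((AlgSp.yon (Spec (CommRingCat.of k))).obj (Over.mk (𝟙 _)))) :=
    haveI : Subsingleton ↥(Over.mk (𝟙 (Spec (CommRingCat.of k)))).left := inferInstanceAs (Subsingleton (PrimeSpectrum k))
    (AlgSp.Points.schemeHomeo (Over.mk (𝟙 (Spec (CommRingCat.of k))))).symm.injective.subsingleton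
  obtain ⟨w, hw₁, hw₂⟩ := Groth.Agent.H12AlgSp.exists_point_of_isPullback (IsPullback.of_hasPullback G.hom G.hom) a b (Subsingleton.elim _ _)
  let p₁ : G ⊗ G ⟶ G := CartesianMonoidalCategory.fst G G
  let p₂ : G ⊗ G ⟶ G := CartesianMonoidalCategory.snd G G
  let φ : G ⊗ G ⟶ G ⊗ G := CartesianMonoidalCategory.lift p₁ (p₁⁻¹ * p₂)
  have e1 : φ ≫ p₁ = p₁ := CartesianMonoidalCategory.lift_fst _ _
  have e2 : φ ≫ μ[G] = p₂ := by
    show CartesianMonoidalCategory.lift p₁ (p₁⁻¹ * p₂) ≫ μ[G] = p₂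
    rw [← Hom.mul_def, mul_inv_cancel_left]
  refine ⟨AlgSp.Points.map φ.left w, ?_, ?_⟩
  · erw [← AlgSp.Points.map_comp]
    rw [← hw₁]
    exact congrArg (fun q => AlgSp.Points.map q w) (congrArg (fun q : G ⊗ G ⟶ G => q.left) e1)
  · erw [← AlgSp.Points.map_comp]
    rw [← hw₂]
    exact congrArg (fun q => AlgSp.Points.map q w) (congrArg (fun q : G ⊗ G ⟶ G => q.left) e2)

end Groth.Agent.S10136
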