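import Groth.Statements.S10141
import Groth.Agent.H12AlgSp.QuotRestrict

set_option autoImplicit false
universe u
open CategoryTheory CategoryTheory.Limits AlgebraicGeometry
open AlgSp

namespace Groth.Agent.S10141

/-- Let `(U, R, s, t, c)` be a groupoid scheme over `S` and `g : U' ⟶ U` a morphism such that the
composite `h : U' ×_{g, U, t} R ⟶ R ⟶ U` of the projection with `s` has open image `W ⊂ U` and `h :
U' ×_{g, U, t} R ⟶ W` is a surjection of fppf sheaves. Then for the restriction `R' = R|_{U'}` the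
map of fppf quotient sheaves `U'/R' ⟶ U/R` is representable and an open immersion. -/
theorem result (S : Scheme.{u}) (G : Grpd.GroupoidScheme S)
    (U' : Scheme.{u}) (g : U' ⟶ G.U) (W : G.U.Opens)
    (hW : (W : Set ↥G.U) = Set.range ⇑(pullback.snd g G.t ≫ G.s))
    (hlift : pullback g G.t ⟶ ↑W) (hh : hlift ≫ W.ι = pullback.snd g G.t ≫ G.s)
    (hsurj : Sheaf.IsLocallySurjective ((AlgSp.yon S).map
      (Over.homMk hlift ((Category.assoc _ _ _).symm.trans (congrArg (· ≫ G.pU) hh)) :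
        Over.mk ((pullback.snd g G.t ≫ G.s) ≫ G.pU) ⟶ Over.mk (W.ι ≫ G.pU))))
    (R' : Over S) (s' t' : R' ⟶ Over.mk (g ≫ G.pU)) (r : R' ⟶ Over.mk G.pR)
    (hsq : IsPullback (prod.lift t' s') r
      (prod.map (Over.homMk g rfl : Over.mk (g ≫ G.pU) ⟶ Over.mk G.pU) (Over.homMk g rfl : Over.mk (g ≫ G.pU) ⟶ Over.mk G.pU))
      (prod.lift (Over.homMk G.t G.t_over : Over.mk G.pR ⟶ Over.mk G.pU) (Over.homMk G.s G.s_over : Over.mk G.pR ⟶ Over.mk G.pU)))
    (ψ : QuotSh.quot Scheme.fppfPrecoverage s' t' ⟶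
      QuotSh.quot Scheme.fppfPrecoverage (Over.homMk G.s G.s_over : Over.mk G.pR ⟶ Over.mk G.pU) (Over.homMk G.t G.t_over : Over.mk G.pR ⟶ Over.mk G.pU))
    (hψ : QuotSh.quotπ Scheme.fppfPrecoverage s' t' ≫ ψ =
      QuotSh.repMap Scheme.fppfPrecoverage (Over.homMk g rfl : Over.mk (g ≫ G.pU) ⟶ Over.mk G.pU) ≫ QuotSh.quotπ Scheme.fppfPrecoverage _ _) :
    AlgSp.RepWith @IsOpenImmersion ψ := by
  open Groth.Agent.H12AlgSp Groth.Agent.H13AlgSp in
  let U₀ : Over S := Over.mk G.pU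
  let R₀ : Over S := Over.mk G.pR
  let s₀ : R₀ ⟶ U₀ := Over.homMk G.s G.s_over
  let t₀ : R₀ ⟶ U₀ := Over.homMk G.t G.t_over
  let g₀ : Over.mk (g ≫ G.pU) ⟶ U₀ := Over.homMk g rfl
  refine repWith_open_quot_restrict hsq (isPreEqvRelSp_of_equivalence fun T => ?_) W ?_ ?_ ψ hψ
  · refine ⟨fun a => ?_, fun {a b} h => ?_, fun {a b d} h h' => ?_⟩
    · exact ⟨Over.homMk (a.left ≫ G.e) (by
        change (a.left ≫ G.e) ≫ G.pR = T.hom
        rw [← G.t_over, Category.assoc, ← Category.assoc G.e, G.e_t, Category.id_comp]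
        exact Over.w a), Over.OverMorphism.ext (by simp [G.e_t]), Over.OverMorphism.ext (by simp [G.e_s])⟩
    · obtain ⟨r, rfl, rfl⟩ := h
      exact ⟨Over.homMk (r.left ≫ G.i) (by
        change (r.left ≫ G.i) ≫ G.pR = T.hom
        refine (congrArg ((r.left ≫ G.i) ≫ ·) G.t_over).symm.trans ?_
        rw [Category.assoc, ← Category.assoc G.i, G.i_t, G.s_over]
        exact Over.w r), Over.OverMorphism.ext (by simp [G.i_t]), Over.OverMorphism.ext (by simp [G.i_s])⟩
    · obtain ⟨r, rfl, hb⟩ := h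
      obtain ⟨r', hb', rfl⟩ := h'
      have e : r.left ≫ G.s = r'.left ≫ G.t := congrArg (fun f : T ⟶ U₀ => f.left) (hb.trans hb'.symm)
      exact ⟨Over.homMk (pullback.lift r.left r'.left e ≫ G.c) (by
        change (pullback.lift r.left r'.left e ≫ G.c) ≫ G.pR = T.hom
        refine (congrArg ((pullback.lift r.left r'.left e ≫ G.c) ≫ ·) G.t_over).symm.trans ?_
        rw [← Category.assoc, G.comp_t, Category.assoc, G.t_over]
        exact Over.w r), Over.OverMorphism.ext (G.comp_t r.left r'.left e), Over.OverMorphism.ext (G.comp_s r.left r'.left e)⟩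
  · intro T b ρ e x
    have e' : b.left ≫ g = ρ.left ≫ G.t := congrArg (fun f : T ⟶ U₀ => f.left) e.symm
    change (ρ.left ≫ G.s) x ∈ (W : Set G.U)
    rw [hW]
    exact ⟨pullback.lift b.left ρ.left e' x, by
      rw [← Scheme.Hom.comp_apply, ← Category.assoc, pullback.lift_snd]⟩
  · intro T a ha
    let P₀ : Over S := Over.mk ((pullback.snd g G.t ≫ G.s) ≫ G.pU)
    let W₀ : Over S := Over.mk (W.ι ≫ G.pU)
    let hl : P₀ ⟶ W₀ := Over.homMk hlift ((Category.assoc _ _ _).symm.trans (congrArg (· ≫ G.pU) hh))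
    let a₀ : T ⟶ W₀ := Over.homMk (IsOpenImmersion.lift W.ι a.left (by
      rw [Scheme.Opens.range_ι]; rintro _ ⟨x, rfl⟩; exact ha x)) (by
      change IsOpenImmersion.lift W.ι a.left _ ≫ W.ι ≫ G.pU = T.hom
      rw [IsOpenImmersion.lift_fac_assoc]; exact Over.w a)
    obtain ⟨κ, C, c, h1, h2, h3, h4⟩ := exists_local_lifts hsurj ((yon S).map a₀)
    refine ⟨κ, C, c, ofArrows_mem_J c h1 h2 h3, fun i => ?_⟩
    obtain ⟨l', hl'⟩ := h4 i
    obtain ⟨l, rfl⟩ := (yon S).map_surjective l'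
    have k : l ≫ hl = c i ≫ a₀ := (yon S).map_injective (by rw [Functor.map_comp, Functor.map_comp]; exact hl')
    have el : l.left ≫ hlift = (c i).left ≫ a₀.left := congrArg (fun f : C i ⟶ W₀ => f.left) k
    refine ⟨Over.homMk (l.left ≫ pullback.fst g G.t) ?_, Over.homMk (l.left ≫ pullback.snd g G.t) ?_, ?_, ?_⟩
    · change (l.left ≫ pullback.fst g G.t) ≫ g ≫ G.pU = (C i).hom
      rw [← Over.w l, Category.assoc, pullback.condition_assoc, G.t_over, ← G.s_over]
      simp [P₀]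
    · change (l.left ≫ pullback.snd g G.t) ≫ G.pR = (C i).hom
      rw [← Over.w l, ← G.s_over]
      simp [P₀]
    · exact Over.OverMorphism.ext (by simp [pullback.condition])
    · refine Over.OverMorphism.ext ?_
      change (l.left ≫ pullback.snd g G.t) ≫ G.s = (c i).left ≫ a.left
      refine (Category.assoc _ _ _).trans ((congrArg (l.left ≫ ·) hh).symm.trans ?_)
      rw [← Category.assoc, el, Category.assoc]
      exact congrArg ((c i).left ≫ ·) (IsOpenImmersion.lift_fac _ _ _)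

end Groth.Agent.S10141
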