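import Groth.Statements.S10146
import Groth.Agent.H12AlgSp.FieldGroupoidPoint

set_option autoImplicit false
universe u
open CategoryTheory CategoryTheory.Limits AlgebraicGeometry
open AlgSp AlgSp.GroupoidSp

namespace Groth.Agent.S10146

/-- Let `(U, R, s, t, c)` be a groupoid in algebraic spaces over `B` whose object space is `U = Spec k`.
For every point `r` of `R` there are an algebraically closed field extension `k'` of `k` and, on the
restriction `(U', R', s', t', c')` along `Spec k' ⟶ Spec k`, a morphism `r' : Spec k' ⟶ R'` mapping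
to `r` in `R` such that `s' ∘ r'` and `t' ∘ r'` are automorphisms of `Spec k'`. -/
theorem result (S : Scheme.{u}) (B : AlgSp.Sp S) (hB : AlgSp.IsAlgSpace B)
    (G : AlgSp.GroupoidSp B) (hR : AlgSp.IsAlgSpace G.R) (k : Type u) [Field k]
    (σ : Spec (CommRingCat.of k) ⟶ S) (eU : G.U ≅ (AlgSp.yon S).obj (Over.mk σ)) (r : AlgSp.Points G.R) :
    ∃ (k' : Type u) (_ : Field k') (_ : Algebra k k'), IsAlgClosed k' ∧
      ∀ (G' : AlgSp.GroupoidSp B) (φ : AlgSp.GroupoidSp.Hom G' G), φ.IsRestriction → AlgSp.IsAlgSpace G'.R →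
        ∀ (eU' : G'.U ≅ (AlgSp.yon S).obj (Over.mk (Spec.map (CommRingCat.ofHom (algebraMap k k')) ≫ σ))),
          φ.fU = eU'.hom ≫ (AlgSp.yon S).map (Over.homMk (Spec.map (CommRingCat.ofHom (algebraMap k k'))) rfl :
            Over.mk (Spec.map (CommRingCat.ofHom (algebraMap k k')) ≫ σ) ⟶ Over.mk σ) ≫ eU.inv →
          ∃ r' : G'.U ⟶ G'.R, (∀ x : AlgSp.Points G'.U, AlgSp.Points.map (r' ≫ φ.fR) x = r) ∧
            IsIso (r' ≫ G'.s) ∧ IsIso (r' ≫ G'.t) := by
  obtain ⟨k', _, _, hk', h⟩ := Groth.Agent.H12AlgSp.exists_algClosed_restrict_point G σ eU r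
  exact ⟨k', inferInstance, inferInstance, hk', fun G' φ hφ _ eU' hU => h G' φ hφ eU' hU⟩

end Groth.Agent.S10146
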