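import Groth.Statements.S10147
import Groth.Agent.H24Lin.Taut

set_option autoImplicit false
set_option linter.style.haveILetI false
universe u v w
open LinTop

namespace Groth.Agent.S10147

/-- Let M be a topological module over a ring R whose additive group is a topological group, and let
(M_i) be a family of submodules of M forming a fundamental system of neighbourhoods of 0. For every
submodule N of M, the closure of N is the intersection over i of the submodules N + M_i. -/
theorem result
    {R : Type u} [Ring R] {M : Type v} [AddCommGroup M] [Module R M] [TopologicalSpace M]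
    [IsTopologicalAddGroup M] {ι : Type w} (B : ι → Submodule R M)
    (hB : (nhds (0 : M)).HasBasis (fun _ => True) (fun i => (B i : Set M)))
    (N : Submodule R M) :
    closure (N : Set M) = ⋂ i, ((N ⊔ B i : Submodule R M) : Set M) := by
  ext x
  rw [Set.mem_iInter, mem_closure_iff_nhds]
  have ht : Filter.Tendsto (fun y => x - y) (nhds x) (nhds 0) :=
    ((continuous_const (y := x)).sub continuous_id).tendsto' _ _ (sub_self x)
  constructor
  · intro h i
    obtain ⟨y, hy1, hy2⟩ := h _ (ht (hB.mem_of_mem trivial (i := i)))
    rw [← sub_add_cancel x y, add_comm]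
    exact Submodule.add_mem_sup hy2 hy1
  · intro h W hW
    have ht' : Filter.Tendsto (fun y => x - y) (nhds (0 : M)) (nhds x) :=
      ((continuous_const (y := x)).sub continuous_id).tendsto' _ _ (sub_zero x)
    obtain ⟨i, -, hi⟩ := hB.mem_iff.mp (ht' hW)
    obtain ⟨a, ha, b, hb, rfl⟩ := Submodule.mem_sup.mp (h i)
    exact ⟨a, by simpa using hi hb, ha⟩

end Groth.Agent.S10147
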