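import Groth.Statements.S10148
import Groth.Agent.H24Lin.AdicComplete
import Mathlib.RingTheory.Henselian

set_option autoImplicit false
set_option linter.style.haveILetI false
universe u
open LinTop

namespace Groth.Agent.S10148

/-- Let A be a weakly admissible topological ring (linearly topologized, Hausdorff and complete, having
a weak ideal of definition) and let I be a weak ideal of definition of A, that is, an open ideal
consisting of topologically nilpotent elements. Then (A, I) is a henselian pair. -/
theorem result
    (A : Type u) [CommRing A] [UniformSpace A] [IsUniformAddGroup A] [IsTopologicalRing A]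
    (hA : LinTop.IsWeaklyAdmissible A) (I : Ideal A) (hI : LinTop.IsWeakIdealOfDefinition A I) :
    HenselianRing A I := by
  haveI := hA.1.1
  haveI := hA.2.1
  haveI := hA.2.2
  have hjac := Groth.Agent.H24Lin.le_jacobson hI.2
  refine { jac := hjac, is_henselian := fun f hf a₀ ha hu => ?_ }
  have hsub : Ideal.span {f.eval a₀} ≤ I := (Ideal.span_singleton_le_iff_mem I).mpr ha
  haveI := Groth.Agent.H24Lin.isAdicComplete_of_fg (Ideal.span {f.eval a₀}) (Submodule.fg_span_singleton _)
    fun x hx => hI.2 x (hsub hx)
  have hu' : IsUnit (Ideal.Quotient.mk (Ideal.span {f.eval a₀}) (f.derivative.eval a₀)) := by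
    haveI : IsLocalHom (Ideal.Quotient.mk I) := isLocalHom_of_le_jacobson_bot I hjac
    exact (IsUnit.of_map (Ideal.Quotient.mk I) _ hu).map _
  obtain ⟨a, h1, h2⟩ := HenselianRing.is_henselian f hf a₀ (Ideal.mem_span_singleton_self _) hu'
  exact ⟨a, h1, hsub h2⟩

end Groth.Agent.S10148
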