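import Groth.Statements.S1015
import Groth.Agent.H16Derived.QCohD.RpushUnb
import Groth.Agent.H16Derived.MVPush.Support

set_option autoImplicit false
universe u
open CategoryTheory CategoryTheory.Limits AlgebraicGeometry
attribute [local instance] HasDerivedCategory.standard
open Perf

namespace Groth.Agent.S1015

open Groth.Agent.H16Derived

/-- Let U ⊆ X be an open subscheme whose inclusion is quasi-compact. Every object F of D(O_U) with
quasi-coherent cohomology sheaves is the restriction of such an object on X: there is a complex G of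
O_X-modules with quasi-coherent cohomology sheaves whose termwise restriction to U is isomorphic to
F in D(O_U). -/
theorem result (X : Scheme.{u}) (U : X.Opens) [QuasiCompact U.ι]
    (F : DCoh.D (U : Scheme.{u})) (hF : DCoh.IsQCohD F) :
    ∃ G : CochainComplex X.Modules ℤ, DCoh.IsQCohD (DCoh.toD X G) ∧
      Nonempty (DerivedCategory.Q.obj ((DCoh.restrictCx U).obj G) ≅ F) := by
  have := QCohD.hasRpush U.ι
  obtain ⟨e⟩ := MVPush.nonempty_restrictD_rpush U F
  let K := (DCoh.Rpush U.ι).obj F
  let G := DerivedCategory.Q.objPreimage K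
  let eG : DerivedCategory.Q.obj G ≅ K := DerivedCategory.Q.objObjPreimageIso K
  refine ⟨G, QCohD.isQCohD_iso eG.symm (QCohD.isQCohD_rpush U.ι hF), ⟨?_⟩⟩
  exact ((Scheme.Modules.restrictFunctor U.ι).mapDerivedCategoryFactors.app G).symm ≪≫
    (DCoh.restrictD U.ι).mapIso eG ≪≫ e

end Groth.Agent.S1015
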