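import Groth.Statements.S10150
import Groth.Agent.H24Lin.Taut

set_option autoImplicit false
set_option linter.style.haveILetI false
universe u v
open LinTop

namespace Groth.Agent.S10150

/-- Let φ : A → B be a continuous ring homomorphism between weakly pre-admissible linearly topologized
rings. Then φ is taut if and only if, for each weak ideal of definition I of A, the closure of the
ideal generated by φ(I) is again a weak ideal of definition, now of B, and every neighbourhood of 0
in B contains one of these closures. (The published statement takes A and B weakly admissible, that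
is, moreover Hausdorff and complete; completeness plays no role and this row omits it.) -/
theorem result
    (A : Type u) [CommRing A] [TopologicalSpace A] [IsTopologicalRing A] [IsLinearTopology A A]
    (B : Type v) [CommRing B] [TopologicalSpace B] [IsTopologicalRing B] [IsLinearTopology B B]
    (hA : LinTop.IsWeaklyPreadmissible A) (hB : LinTop.IsWeaklyPreadmissible B)
    (φ : A →+* B) (hφ : Continuous φ) :
    LinTop.IsTaut φ ↔
      ((∀ I : Ideal A, LinTop.IsWeakIdealOfDefinition A I →
          LinTop.IsWeakIdealOfDefinition B (I.map φ).closure) ∧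
        ∀ U ∈ nhds (0 : B), ∃ I : Ideal A, LinTop.IsWeakIdealOfDefinition A I ∧
          ((I.map φ).closure : Set B) ⊆ U) := by
  constructor
  · intro h
    refine ⟨fun I hI => ⟨h.2.1 I hI.1, fun g hg => Groth.Agent.H24Lin.isTopologicallyNilpotent_of_mem_closure_map φ hφ I hI.2 hg⟩,
      fun U hU => ?_⟩
    obtain ⟨I₀, hI₀⟩ := hA.2
    obtain ⟨J, hJ, hJU⟩ := h.2.2 U hU
    exact ⟨J ⊓ I₀, ⟨hJ.inter hI₀.1, fun f hf => hI₀.2 f hf.2⟩,
      Set.Subset.trans (Groth.Agent.H24Lin.closure_mono (Ideal.map_mono inf_le_left)) hJU⟩
  · rintro ⟨h1, -⟩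
    obtain ⟨I₀, hI₀⟩ := hA.2
    exact (Groth.Agent.H24Lin.isTaut_iff φ).mpr ⟨hφ, fun I hI => Groth.Agent.H24Lin.isOpen_of_le (Groth.Agent.H24Lin.closure_mono (Ideal.map_mono inf_le_left))
      (h1 (I ⊓ I₀) ⟨hI.inter hI₀.1, fun f hf => hI₀.2 f hf.2⟩).1⟩

end Groth.Agent.S10150
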