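import Groth.Statements.S10152
import Groth.Agent.H24Lin.Taut

set_option autoImplicit false
set_option linter.style.haveILetI false
universe u v
open LinTop

namespace Groth.Agent.S10152

/-- Let φ : A → B be a taut homomorphism of linearly topologized rings. If A has a countable fundamental
system of open ideals, then so does B (equivalently, the neighbourhood filters of 0 are countably
generated). -/
theorem result
    (A : Type u) [CommRing A] [TopologicalSpace A] [IsTopologicalRing A] [IsLinearTopology A A]
    (B : Type v) [CommRing B] [TopologicalSpace B] [IsTopologicalRing B] [IsLinearTopology B B]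
    (φ : A →+* B) (hφ : LinTop.IsTaut φ) (hA : (nhds (0 : A)).IsCountablyGenerated) :
    (nhds (0 : B)).IsCountablyGenerated := by
  obtain ⟨V, -, hV, hb⟩ := Groth.Agent.H24Lin.exists_antitone_basis hA
  have h : (nhds (0 : B)).HasBasis (fun _ : ℕ => True) (fun n => (((V n).map φ).closure : Set B)) := by
    refine ⟨fun U => ⟨fun hU => ?_, fun ⟨n, _, hn⟩ =>
      Filter.mem_of_superset (Groth.Agent.H24Lin.nhds_of_isOpen _ (hφ.2.1 _ (hV n))) hn⟩⟩
    obtain ⟨I, hI, hIU⟩ := hφ.2.2 U hU
    obtain ⟨n, -, hn⟩ := hb.mem_iff.mp (Groth.Agent.H24Lin.nhds_of_isOpen I hI)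
    exact ⟨n, trivial, Set.Subset.trans (Groth.Agent.H24Lin.closure_mono (Ideal.map_mono hn)) hIU⟩
  exact h.isCountablyGenerated

end Groth.Agent.S10152
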