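import Groth.Statements.S10154
import Groth.Agent.H24Lin.Taut

set_option autoImplicit false
set_option linter.style.haveILetI false
universe u v
open LinTop

namespace Groth.Agent.S10154

/-- Let φ : A → B be a taut homomorphism of linearly topologized rings. If A is pre-admissible, then B
is pre-admissible. -/
theorem result
    (A : Type u) [CommRing A] [TopologicalSpace A] [IsTopologicalRing A] [IsLinearTopology A A]
    (B : Type v) [CommRing B] [TopologicalSpace B] [IsTopologicalRing B] [IsLinearTopology B B]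
    (φ : A →+* B) (hφ : LinTop.IsTaut φ) (hA : LinTop.IsPreadmissible A) :
    LinTop.IsPreadmissible B := by
  obtain ⟨I, hI⟩ := hA.2
  refine ⟨‹_›, (I.map φ).closure, hφ.2.1 I hI.1, fun U hU => ?_⟩
  obtain ⟨J, hJ, hJU⟩ := hφ.2.2 U hU
  obtain ⟨n, hn, hnJ⟩ := hI.2 _ (Groth.Agent.H24Lin.nhds_of_isOpen J hJ)
  refine ⟨n, hn, Set.Subset.trans (le_trans (Groth.Agent.H24Lin.closure_pow_le _ n) (Groth.Agent.H24Lin.closure_mono ?_)) hJU⟩
  rw [← Ideal.map_pow]
  exact Ideal.map_mono hnJ

end Groth.Agent.S10154
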