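import Groth.Statements.S10155
import Groth.Agent.H24Lin.Open

set_option autoImplicit false
set_option linter.style.haveILetI false
universe u v
open LinTop

namespace Groth.Agent.S10155

/-- Let φ : A → B be a taut homomorphism of linearly topologized rings with dense image. Assume A is
Hausdorff and complete with a countable fundamental system of open ideals and B is Hausdorff. Then φ
is surjective and open, so that B is the quotient of A by the closed ideal ker φ with the quotient
topology, and B is complete. -/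
theorem result
    (A : Type u) [CommRing A] [UniformSpace A] [IsUniformAddGroup A] [IsTopologicalRing A]
    [IsLinearTopology A A] [T2Space A] [CompleteSpace A] (hA : (nhds (0 : A)).IsCountablyGenerated)
    (B : Type v) [CommRing B] [UniformSpace B] [IsUniformAddGroup B] [IsTopologicalRing B]
    [IsLinearTopology B B] [T2Space B]
    (φ : A →+* B) (hφ : LinTop.IsTaut φ) (hd : DenseRange φ) :
    Function.Surjective φ ∧ IsOpenQuotientMap φ ∧ CompleteSpace B := by
  obtain ⟨V, hanti, hVo, hb⟩ := Groth.Agent.H24Lin.exists_antitone_basis hA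
  have hopen : ∀ n, closure (φ '' (V n : Set A)) ∈ nhds (0 : B) := fun n => by
    rw [← Groth.Agent.H24Lin.map_le_closure_image hd]
    exact Groth.Agent.H24Lin.nhds_of_isOpen _ (hφ.2.1 _ (hVo n))
  obtain ⟨hs, ho, him⟩ := Groth.Agent.H24Lin.isOpenMap_and_surjective φ.toAddMonoidHom hφ.1 (fun n => (V n).toAddSubgroup)
    (fun a b h => hanti h) hb hopen hd
  refine ⟨hs, ⟨hs, hφ.1, ho⟩, ?_⟩
  have hbB : (nhds (0 : B)).HasBasis (fun _ : ℕ => True) (fun n => φ '' (V n : Set A)) := by
    refine ⟨fun U => ⟨fun hU => ?_, fun ⟨n, _, hn⟩ => Filter.mem_of_superset (him n) hn⟩⟩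
    obtain ⟨n, -, hn⟩ := hb.mem_iff.mp (hφ.1.tendsto' 0 0 (map_zero φ) hU)
    exact ⟨n, trivial, Set.image_subset_iff.mpr hn⟩
  haveI : (uniformity B).IsCountablyGenerated := by
    rw [uniformity_eq_comap_nhds_zero B]
    haveI := hbB.isCountablyGenerated
    exact Filter.comap.isCountablyGenerated _ _
  refine UniformSpace.complete_of_cauchySeq_tendsto fun u hu => ?_
  have hev : ∀ n, ∀ᶠ k in Filter.atTop, ∀ l ≥ k, u l - u k ∈ φ '' (V n : Set A) := by
    intro n
    have h := hu.tendsto_uniformity
    rw [uniformity_eq_comap_nhds_zero B, Filter.tendsto_comap_iff] at h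
    obtain ⟨⟨a, b⟩, hab⟩ := Filter.mem_atTop_sets.mp (Filter.mem_map.mp (h (him n)))
    exact Filter.eventually_atTop.mpr ⟨max a b, fun k hk l hl =>
      hab (k, l) ⟨(le_max_left a b).trans hk, ((le_max_right a b).trans hk).trans hl⟩⟩
  obtain ⟨N, hNmono, hN⟩ := Filter.extraction_forall_of_eventually' fun n => Filter.eventually_atTop.mp (hev n)
  have h1 : ∀ n, ∃ a ∈ V n, φ a = u (N (n + 1)) - u (N n) := fun n => hN n _ (hNmono.monotone n.le_succ)
  choose a ha hau using h1
  obtain ⟨a₀, ha₀⟩ := hs (u (N 0))
  let s : ℕ → A := fun n => a₀ + ∑ i ∈ Finset.range n, a i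
  have hsu : ∀ n, φ (s n) = u (N n) := fun n => by
    induction n with
    | zero => simpa [s] using ha₀
    | succ n ih =>
      rw [show s (n + 1) = s n + a n by simp only [s, Finset.sum_range_succ, add_assoc], map_add, ih, hau,
        add_sub_cancel]
  obtain ⟨x, hx, -⟩ := Groth.Agent.H24Lin.exists_tendsto_of_succ_sub_mem (fun n => (V n).toAddSubgroup) (fun a b h => hanti h)
    (fun U hU => (hb.mem_iff.mp hU).imp fun n h => h.2) s
    (fun n => by simp only [s, Finset.sum_range_succ, ← add_assoc, add_sub_cancel_left]; exact ha n)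
  refine ⟨φ x, tendsto_nhds_of_cauchySeq_of_subseq hu hNmono.tendsto_atTop ?_⟩
  exact ((hφ.1.tendsto x).comp hx).congr hsu

end Groth.Agent.S10155
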