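import Groth.Statements.S10156
import Groth.Agent.H24Lin.Taut

set_option autoImplicit false
set_option linter.style.haveILetI false
universe u v w
open LinTop

namespace Groth.Agent.S10156

/-- Given pre-adic rings A, B, C and continuous ring maps ψ : B → C and φ : A → B, adicness of the
composite A → C implies that ψ is adic. -/
theorem result
    (A : Type u) [CommRing A] [TopologicalSpace A] [IsTopologicalRing A] (hA : LinTop.IsPreadic A)
    (B : Type v) [CommRing B] [TopologicalSpace B] [IsTopologicalRing B] (hB : LinTop.IsPreadic B)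
    (C : Type w) [CommRing C] [TopologicalSpace C] [IsTopologicalRing C] (hC : LinTop.IsPreadic C)
    (φ : A →+* B) (ψ : B →+* C) (hφ : Continuous φ) (hψ : Continuous ψ)
    (h : LinTop.IsAdicHom (ψ.comp φ)) : LinTop.IsAdicHom ψ := by
  obtain ⟨I, hI, hC'⟩ := h
  obtain ⟨J₀, hJ₀⟩ := hB
  obtain ⟨hJo, hJb⟩ := isAdic_iff.mp hJ₀
  obtain ⟨hKo, hKb⟩ := isAdic_iff.mp hC'
  let J := J₀ ⊔ I.map φ
  have hJd : ∀ U ∈ nhds (0 : B), ∃ n : ℕ, 0 < n ∧ ((J ^ n : Ideal B) : Set B) ⊆ U := by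
    intro U hU
    obtain ⟨n, hn⟩ := hJb U hU
    obtain ⟨m, hm, hmn⟩ := hI.2 _ (((hJo n).preimage hφ).mem_nhds (by simp))
    refine ⟨n + 1 + m, by omega, Set.Subset.trans (SetLike.coe_subset_coe.mpr ?_) hn⟩
    refine Ideal.sup_pow_add_le_pow_sup_pow.trans (sup_le (Ideal.pow_le_pow_right n.le_succ) ?_)
    rw [← Ideal.map_pow, Ideal.map_le_iff_le_comap]
    exact hmn
  refine ⟨J, ⟨Groth.Agent.H24Lin.isOpen_of_le (I := J₀ ^ 1) ((pow_one J₀).le.trans le_sup_left) (hJo 1), hJd⟩,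
    isAdic_iff.mpr ⟨fun n => Groth.Agent.H24Lin.isOpen_of_le (Ideal.pow_right_mono ?_ n) (hKo n), fun s hs => ?_⟩⟩
  · rw [← Ideal.map_map]
    exact Ideal.map_mono le_sup_right
  · obtain ⟨n, hn⟩ := hKb s hs
    obtain ⟨m, -, hm⟩ := hJd _ (((hKo n).preimage hψ).mem_nhds (by simp))
    refine ⟨m, Set.Subset.trans (SetLike.coe_subset_coe.mpr ?_) hn⟩
    rw [← Ideal.map_pow, Ideal.map_le_iff_le_comap]
    exact hm

end Groth.Agent.S10156
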