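import Groth.Statements.S10157
import Groth.Agent.H24Lin.Taut

set_option autoImplicit false
set_option linter.style.haveILetI false
universe u v
open LinTop

namespace Groth.Agent.S10157

/-- A continuous adic homomorphism φ : A → B between pre-adic topological rings is taut. -/
theorem result
    (A : Type u) [CommRing A] [TopologicalSpace A] [IsTopologicalRing A] (hA : LinTop.IsPreadic A)
    (B : Type v) [CommRing B] [TopologicalSpace B] [IsTopologicalRing B] (hB : LinTop.IsPreadic B)
    (φ : A →+* B) (hφ : Continuous φ) (h : LinTop.IsAdicHom φ) : LinTop.IsTaut φ := by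
  obtain ⟨I, hI, hB'⟩ := h
  obtain ⟨hKo, hKb⟩ := isAdic_iff.mp hB'
  haveI : IsLinearTopology B B := IsLinearTopology.mk_of_hasBasis B hB'.hasBasis_nhds_zero
  refine (Groth.Agent.H24Lin.isTaut_iff φ).mpr ⟨hφ, fun U hU => ?_⟩
  obtain ⟨n, -, hn⟩ := hI.2 _ (Groth.Agent.H24Lin.nhds_of_isOpen U hU)
  exact Groth.Agent.H24Lin.isOpen_of_le ((Ideal.map_pow φ I n).ge.trans ((Ideal.map_mono hn).trans (Groth.Agent.H24Lin.le_closure _))) (hKo n)

end Groth.Agent.S10157
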