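import Groth.Statements.S10165
import Groth.Agent.H24Lin.Taut

set_option autoImplicit false
set_option linter.style.haveILetI false
universe u v
open LinTop

namespace Groth.Agent.S10165

/-- Let φ : A → B be a taut homomorphism of linearly topologized rings. If A is weakly pre-adic, then B
is weakly pre-adic. -/
theorem result
    (A : Type u) [CommRing A] [TopologicalSpace A] [IsTopologicalRing A] [IsLinearTopology A A]
    (B : Type v) [CommRing B] [TopologicalSpace B] [IsTopologicalRing B] [IsLinearTopology B B]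
    (φ : A →+* B) (hφ : LinTop.IsTaut φ) (hA : LinTop.IsWeaklyPreadic A) :
    LinTop.IsWeaklyPreadic B := by
  obtain ⟨I, hI, hb⟩ := hA.2
  refine ⟨‹_›, I.map φ, fun n => ?_, fun U hU => ?_⟩
  · rw [← Ideal.map_pow, ← Ideal.coe_closure, ← Groth.Agent.H24Lin.closure_map_closure φ hφ.1]
    exact hφ.2.1 (I ^ n).closure (hI n)
  · obtain ⟨J, hJ, hJU⟩ := hφ.2.2 U hU
    obtain ⟨n, hn⟩ := hb _ (Groth.Agent.H24Lin.nhds_of_isOpen J hJ)
    refine ⟨n, Set.Subset.trans ?_ hJU⟩
    rw [← Ideal.map_pow]
    exact Groth.Agent.H24Lin.closure_mono (Ideal.map_mono ((Groth.Agent.H24Lin.le_closure _).trans hn))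

end Groth.Agent.S10165
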