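import Groth.Statements.S10159
import Groth.Agent.H24Lin.Taut
import Groth.Agent.S10165
import Mathlib.Tactic.TFAE

set_option autoImplicit false
set_option linter.style.haveILetI false
universe u
open LinTop

namespace Groth.Agent.S10159

/-- For a ring A carrying a linear topology, the following four conditions are equivalent: (1) A is
weakly pre-adic; (2) there exist a pre-adic topological ring A' and a taut continuous ring
homomorphism A' → A (A' is taken in the universe of A, which suffices since A with an adic topology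
serves); (3) A has an ideal of definition, and for at least one ideal of definition I every closure
cl(I^n) with n ≥ 1 is open; (4) A has an ideal of definition, and for each of its ideals of
definition I every closure cl(I^n) with n ≥ 1 is open. -/
theorem result
    (A : Type u) [CommRing A] [TopologicalSpace A] [IsTopologicalRing A] [IsLinearTopology A A] :
    List.TFAE [LinTop.IsWeaklyPreadic A,
      ∃ (A' : Type u) (_ : CommRing A') (_ : TopologicalSpace A') (_ : IsTopologicalRing A')
        (φ : A' →+* A), LinTop.IsPreadic A' ∧ LinTop.IsTaut φ,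
      LinTop.IsPreadmissible A ∧ ∃ I : Ideal A, LinTop.IsIdealOfDefinition A I ∧
        ∀ n : ℕ, 0 < n → IsOpen (closure ((I ^ n : Ideal A) : Set A)),
      LinTop.IsPreadmissible A ∧ ∀ I : Ideal A, LinTop.IsIdealOfDefinition A I →
        ∀ n : ℕ, 0 < n → IsOpen (closure ((I ^ n : Ideal A) : Set A))] := by
  tfae_have 2 → 1 := by
    rintro ⟨A', _, _, _, φ, ⟨I, hI⟩, hφ⟩
    haveI : IsLinearTopology A' A' := IsLinearTopology.mk_of_hasBasis A' hI.hasBasis_nhds_zero
    obtain ⟨ho, hb⟩ := isAdic_iff.mp hI
    exact Groth.Agent.S10165.result A' A φ hφ ⟨‹_›, I,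
      fun n => Groth.Agent.H24Lin.isOpen_of_le (Groth.Agent.H24Lin.le_closure _) (ho n),
      fun U hU => Groth.Agent.H24Lin.pow_closure_subset hb U hU⟩
  tfae_have 1 → 2 := by
    rintro ⟨-, I, ho, hb⟩
    exact ⟨Groth.Agent.H24Lin.AdicCopy A I, inferInstance, inferInstance, inferInstance, Groth.Agent.H24Lin.AdicCopy.toRing A I,
      ⟨_, Groth.Agent.H24Lin.AdicCopy.isAdic A I⟩, Groth.Agent.H24Lin.AdicCopy.isTaut_toRing I ho hb⟩
  tfae_have 1 → 3 := by
    rintro ⟨h, I, ho, hb⟩
    have hdef : LinTop.IsIdealOfDefinition A I.closure :=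
      Groth.Agent.H24Lin.isIdealOfDefinition_closure (by simpa using ho 1) hb
    exact ⟨⟨h, _, hdef⟩, _, hdef, fun n _ =>
      Groth.Agent.H24Lin.isOpen_closure_pow ho (J := I.closure) (m := 1) ((pow_one I).le.trans (Groth.Agent.H24Lin.le_closure I)) n⟩
  tfae_have 3 → 4 := by
    rintro ⟨hp, I, hI, ho⟩
    refine ⟨hp, fun I' hI' n hn => ?_⟩
    obtain ⟨m, hm, hmI⟩ := hI.2 _ (Groth.Agent.H24Lin.nhds_of_isOpen I' hI'.1)
    refine Groth.Agent.H24Lin.isOpen_of_le (I := (I ^ (m * n)).closure) (J := (I' ^ n).closure) (Groth.Agent.H24Lin.closure_mono ?_)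
      (ho (m * n) (Nat.mul_pos hm hn))
    rw [pow_mul]
    exact Ideal.pow_right_mono hmI n
  tfae_have 4 → 1 := by
    rintro ⟨⟨h, I, hI⟩, h4⟩
    refine ⟨h, I, fun n => ?_, fun U hU => Groth.Agent.H24Lin.pow_closure_subset (fun U hU => (hI.2 U hU).imp fun _ h => h.2) U hU⟩
    rcases Nat.eq_zero_or_pos n with rfl | hn
    · rw [pow_zero, Ideal.one_eq_top, Submodule.top_coe, closure_univ]
      exact isOpen_univ
    · exact h4 I hI n hn
  tfae_finish

end Groth.Agent.S10159
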