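import Groth.Statements.S10160
import Groth.Agent.H24Lin.Taut

set_option autoImplicit false
set_option linter.style.haveILetI false
universe u
open LinTop

namespace Groth.Agent.S10160

/-- A weakly adic topological ring is admissible and has a countable fundamental system of open ideals. -/
theorem result
    (A : Type u) [CommRing A] [UniformSpace A] [IsUniformAddGroup A] [IsTopologicalRing A] (hA : LinTop.IsWeaklyAdic A) :
    LinTop.IsAdmissible A ∧ (nhds (0 : A)).IsCountablyGenerated := by
  obtain ⟨⟨h, I, ho, hb⟩, ht, hc⟩ := hA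
  haveI := h
  refine ⟨⟨⟨h, _, Groth.Agent.H24Lin.isIdealOfDefinition_closure (by simpa using ho 1) hb⟩, ht, hc⟩, ?_⟩
  have hbas : (nhds (0 : A)).HasBasis (fun _ : ℕ => True) (fun n => closure ((I ^ n : Ideal A) : Set A)) :=
    ⟨fun U => ⟨fun hU => (hb U hU).imp fun n hn => ⟨trivial, hn⟩, fun ⟨n, _, hn⟩ =>
      Filter.mem_of_superset ((ho n).mem_nhds (subset_closure (Ideal.zero_mem _))) hn⟩⟩
  exact hbas.isCountablyGenerated

end Groth.Agent.S10160
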