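import Groth.Statements.S10164
import Groth.Agent.H24Lin.Open
import Groth.Agent.S10159

set_option autoImplicit false
set_option linter.style.haveILetI false
universe u
open LinTop

namespace Groth.Agent.S10164

/-- Let A be weakly adic and I an ideal of definition of A with I/I₂ finitely generated, where I₂
denotes the closure of I^2 (here: I maps onto a finitely generated ideal of A/I₂). Then A is adic,
and some finitely generated ideal of A is an ideal of definition. -/
theorem result
    (A : Type u) [CommRing A] [UniformSpace A] [IsUniformAddGroup A] [IsTopologicalRing A] (hA : LinTop.IsWeaklyAdic A)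
    (I : Ideal A) (hI : LinTop.IsIdealOfDefinition A I)
    (hfg : (I.map (Ideal.Quotient.mk ((I ^ 2).closure))).FG) :
    LinTop.IsAdicRing A ∧ ∃ J : Ideal A, LinTop.IsIdealOfDefinition A J ∧ J.FG := by
  obtain ⟨hwp, ht, hcs⟩ := hA
  haveI := hwp.1
  haveI := ht
  haveI := hcs
  have h4 := (((Groth.Agent.S10159.result A).out 0 3 rfl rfl).mp hwp).2 I hI
  obtain ⟨l, y, hy⟩ := Submodule.fg_iff_exists_fin_generating_family.mp hfg
  have hy' : ∀ i, ∃ x ∈ I, Ideal.Quotient.mk ((I ^ 2).closure) x = y i := fun i =>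
    (Ideal.mem_map_iff_of_surjective _ Ideal.Quotient.mk_surjective).mp (hy ▸ Submodule.subset_span ⟨i, rfl⟩)
  choose g hgI hg using hy'
  let J : Ideal A := Ideal.span (Set.range g)
  have hJI : J ≤ I := Ideal.span_le.mpr (Set.range_subset_iff.mpr hgI)
  have h2 : I ≤ J ⊔ (I ^ 2).closure := by
    intro x hx
    have h : Ideal.Quotient.mk ((I ^ 2).closure) x ∈ J.map (Ideal.Quotient.mk ((I ^ 2).closure)) := by
      rw [Ideal.map_span, ← Set.range_comp, show (Ideal.Quotient.mk _) ∘ g = y from funext hg,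
        show Ideal.span (Set.range y) = _ from hy]
      exact Ideal.mem_map_of_mem _ hx
    obtain ⟨j, hj, e⟩ := (Ideal.mem_map_iff_of_surjective _ Ideal.Quotient.mk_surjective).mp h
    rw [← sub_add_cancel x j, add_comm]
    exact Submodule.add_mem_sup hj (Ideal.Quotient.eq.mp e.symm)
  have hk : ∀ k : ℕ, I ≤ J ⊔ (I ^ (k + 2)).closure := by
    intro k
    induction k with
    | zero => exact h2
    | succ k ih =>
      have hcl : IsClosed ((J ⊔ (I ^ (k + 3)).closure : Ideal A) : Set A) :=
        (J ⊔ (I ^ (k + 3)).closure : Ideal A).toAddSubgroup.isClosed_of_isOpen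
          (Groth.Agent.H24Lin.isOpen_of_le (J := J ⊔ (I ^ (k + 3)).closure) le_sup_right (h4 (k + 3) (by omega)))
      refine h2.trans (sup_le le_sup_left (Groth.Agent.H24Lin.closure_le_of_isClosed ?_ hcl))
      rw [pow_two]
      refine (Ideal.mul_mono_left ih).trans ?_
      rw [Submodule.sup_mul]
      refine sup_le_sup Ideal.mul_le_left ?_
      refine le_trans ?_ ((Groth.Agent.H24Lin.closure_mul_closure_le (I ^ (k + 2)) I).trans (le_of_eq (by rw [← pow_succ])))
      exact Ideal.mul_mono_right (Groth.Agent.H24Lin.le_closure I)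
  have hpow : ∀ U ∈ nhds (0 : A), ∃ n : ℕ, ((I ^ n).closure : Set A) ⊆ U :=
    Groth.Agent.H24Lin.pow_closure_subset fun U hU => (hI.2 U hU).imp fun n h => h.2
  have hIJ : ∀ n : ℕ, I ^ n ≤ (J ^ n).closure := by
    intro n x hx
    change x ∈ closure ((J ^ n : Ideal A) : Set A)
    rw [mem_closure_iff_nhds]
    intro W hW
    have ht : Filter.Tendsto (fun z => x - z) (nhds (0 : A)) (nhds x) :=
      ((continuous_const (y := x)).sub continuous_id).tendsto' _ _ (sub_zero x)
    obtain ⟨k, hkW⟩ := hpow _ (ht hW)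
    obtain ⟨j, hj, z, hz, rfl⟩ := Submodule.mem_sup.mp (Groth.Agent.H24Lin.sup_pow_le _ _ n (Ideal.pow_right_mono (hk k) n hx))
    have : z ∈ (I ^ k).closure := Groth.Agent.H24Lin.closure_mono (Ideal.pow_le_pow_right (by omega)) hz
    exact ⟨j, by simpa using hkW this, hj⟩
  have hopen : ∀ n : ℕ, IsOpen ((J ^ n).closure : Set A) := by
    intro n
    rcases Nat.eq_zero_or_pos n with rfl | hn
    · rw [pow_zero, Ideal.one_eq_top, Ideal.coe_closure, Submodule.top_coe, closure_univ]
      exact isOpen_univ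
    · exact Groth.Agent.H24Lin.isOpen_of_le ((Groth.Agent.H24Lin.closure_mono (hIJ n)).trans (Groth.Agent.H24Lin.closure_closure _).le) (h4 n hn)
  have hJ : IsAdic J := Groth.Agent.H24Lin.isAdic_of_fg_closure_pow J (Submodule.fg_span (Set.finite_range g)) hopen fun U hU =>
    (hI.2 U hU).imp fun n h => Set.Subset.trans (Ideal.pow_right_mono hJI n) h.2
  have hJ' := isAdic_iff.mp hJ
  refine ⟨⟨⟨J, hJ⟩, ‹_›, ‹_›⟩, J, ⟨by simpa using hJ'.1 1, fun U hU => ?_⟩, Submodule.fg_span (Set.finite_range g)⟩
  obtain ⟨n, hn⟩ := hJ'.2 U hU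
  exact ⟨n + 1, n.succ_pos, Set.Subset.trans (Ideal.pow_le_pow_right n.le_succ) hn⟩

end Groth.Agent.S10164
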