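import Groth.Statements.S10166
import Groth.Agent.H24Lin.Taut

set_option autoImplicit false
set_option linter.style.haveILetI false
universe u v
open LinTop

namespace Groth.Agent.S10166

/-- Let φ : A → B be a taut homomorphism of linearly topologized rings such that for every open ideal I
of A, with J the closure of φ(I)B, the induced map A/I → B/J is faithfully flat. If B has a
countable fundamental system of open ideals, then so does A. -/
theorem result
    (A : Type u) [CommRing A] [TopologicalSpace A] [IsTopologicalRing A] [IsLinearTopology A A]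
    (B : Type v) [CommRing B] [TopologicalSpace B] [IsTopologicalRing B] [IsLinearTopology B B]
    (φ : A →+* B) (hφ : LinTop.IsTautFFlat φ) (hB : (nhds (0 : B)).IsCountablyGenerated) :
    (nhds (0 : A)).IsCountablyGenerated := by
  obtain ⟨V, -, hV, hb⟩ := Groth.Agent.H24Lin.exists_antitone_basis hB
  have h : (nhds (0 : A)).HasBasis (fun _ : ℕ => True) (fun n => (((V n).comap φ : Ideal A) : Set A)) := by
    refine ⟨fun U => ⟨fun hU => ?_, fun ⟨n, _, hn⟩ =>
      Filter.mem_of_superset (Groth.Agent.H24Lin.nhds_of_isOpen _ (Groth.Agent.H24Lin.isOpen_comap φ hφ.1.1 _ (hV n))) hn⟩⟩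
    obtain ⟨W, hW, hWU⟩ := Groth.Agent.H24Lin.exists_preimage_subset hφ hU
    obtain ⟨n, -, hn⟩ := hb.mem_iff.mp (Groth.Agent.H24Lin.nhds_of_isOpen W hW)
    exact ⟨n, trivial, Set.Subset.trans (fun x hx => hn hx) hWU⟩
  exact h.isCountablyGenerated

end Groth.Agent.S10166
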