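import Groth.Statements.S10167
import Groth.Agent.H24Lin.Taut

set_option autoImplicit false
set_option linter.style.haveILetI false
universe u v
open LinTop

namespace Groth.Agent.S10167

/-- Let φ : A → B be a taut homomorphism of linearly topologized rings such that for every open ideal I
of A the induced ring map A/I → B/J, where J denotes the closure of φ(I)B, is faithfully flat. If B
has a weak ideal of definition (B is weakly pre-admissible), then so does A. -/
theorem result
    (A : Type u) [CommRing A] [TopologicalSpace A] [IsTopologicalRing A] [IsLinearTopology A A]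
    (B : Type v) [CommRing B] [TopologicalSpace B] [IsTopologicalRing B] [IsLinearTopology B B]
    (φ : A →+* B) (hφ : LinTop.IsTautFFlat φ) (hB : LinTop.IsWeaklyPreadmissible B) :
    LinTop.IsWeaklyPreadmissible A := by
  obtain ⟨K, hK⟩ := hB.2
  refine ⟨‹_›, K.comap φ, Groth.Agent.H24Lin.isOpen_comap φ hφ.1.1 K hK.1, fun f hf U hU => ?_⟩
  obtain ⟨W, hW, hWU⟩ := Groth.Agent.H24Lin.exists_preimage_subset hφ hU
  rw [Filter.mem_map]
  filter_upwards [(hK.2 _ hf).eventually_mem (Groth.Agent.H24Lin.nhds_of_isOpen W hW)] with n hn
  exact hWU (show φ (f ^ n) ∈ W by rw [map_pow]; exact hn)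

end Groth.Agent.S10167
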