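import Groth.Statements.S10168
import Groth.Agent.H24Lin.Taut

set_option autoImplicit false
set_option linter.style.haveILetI false
universe u v
open LinTop

namespace Groth.Agent.S10168

/-- Let φ : A → B be a taut homomorphism of linearly topologized rings such that for every open ideal I
of A, with J the closure of φ(I)B, the induced map A/I → B/J is faithfully flat. If B is
pre-admissible, then A is pre-admissible. -/
theorem result
    (A : Type u) [CommRing A] [TopologicalSpace A] [IsTopologicalRing A] [IsLinearTopology A A]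
    (B : Type v) [CommRing B] [TopologicalSpace B] [IsTopologicalRing B] [IsLinearTopology B B]
    (φ : A →+* B) (hφ : LinTop.IsTautFFlat φ) (hB : LinTop.IsPreadmissible B) :
    LinTop.IsPreadmissible A := by
  obtain ⟨K, hK⟩ := hB.2
  refine ⟨‹_›, K.comap φ, Groth.Agent.H24Lin.isOpen_comap φ hφ.1.1 K hK.1, fun U hU => ?_⟩
  obtain ⟨W, hW, hWU⟩ := Groth.Agent.H24Lin.exists_preimage_subset hφ hU
  obtain ⟨n, hn, hnW⟩ := hK.2 _ (Groth.Agent.H24Lin.nhds_of_isOpen W hW)
  exact ⟨n, hn, Set.Subset.trans ((Ideal.le_comap_pow φ n).trans (Ideal.comap_mono hnW)) hWU⟩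

end Groth.Agent.S10168
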