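import Groth.Statements.S10169
import Groth.Agent.H24Lin.Taut
import Groth.Agent.S10159

set_option autoImplicit false
set_option linter.style.haveILetI false
universe u v
open LinTop

namespace Groth.Agent.S10169

/-- Let φ : A → B be a taut homomorphism of linearly topologized rings such that for every open ideal I
of A the induced ring map A/I → B/J, where J denotes the closure of φ(I)B, is faithfully flat. Weak
pre-adicness then descends: when B is weakly pre-adic, A is as well. -/
theorem result
    (A : Type u) [CommRing A] [TopologicalSpace A] [IsTopologicalRing A] [IsLinearTopology A A]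
    (B : Type v) [CommRing B] [TopologicalSpace B] [IsTopologicalRing B] [IsLinearTopology B B]
    (φ : A →+* B) (hφ : LinTop.IsTautFFlat φ) (hB : LinTop.IsWeaklyPreadic B) :
    LinTop.IsWeaklyPreadic A := by
  obtain ⟨⟨_, K, hK⟩, h4⟩ := ((Groth.Agent.S10159.result B).out 0 3 rfl rfl).mp hB
  let I := K.comap φ
  have hIo : IsOpen (I : Set A) := Groth.Agent.H24Lin.isOpen_comap φ hφ.1.1 K hK.1
  have hJ : (I.map φ).closure ≤ K :=
    Groth.Agent.H24Lin.closure_le_of_isClosed Ideal.map_comap_le (K.toAddSubgroup.isClosed_of_isOpen hK.1)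
  have hJd : LinTop.IsIdealOfDefinition B (I.map φ).closure :=
    ⟨hφ.1.2.1 I hIo, fun U hU => (hK.2 U hU).imp fun n h =>
      ⟨h.1, Set.Subset.trans (Ideal.pow_right_mono hJ n) h.2⟩⟩
  refine ⟨‹_›, I, fun n => ?_, Groth.Agent.H24Lin.pow_closure_subset fun U hU => ?_⟩
  · rcases Nat.eq_zero_or_pos n with rfl | hn
    · rw [pow_zero, Ideal.one_eq_top, Submodule.top_coe, closure_univ]
      exact isOpen_univ
    · have h2 : IsOpen (((I.map φ).closure ^ n).closure : Set B) := h4 _ hJd n hn
      rw [Groth.Agent.H24Lin.closure_pow_map] at h2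
      exact Groth.Agent.H24Lin.isOpen_of_le (J := (I ^ n).closure) (Groth.Agent.H24Lin.comap_closure_map_le_closure hφ _)
        (Groth.Agent.H24Lin.isOpen_comap φ hφ.1.1 _ h2)
  · obtain ⟨W, hW, hWU⟩ := Groth.Agent.H24Lin.exists_preimage_subset hφ hU
    obtain ⟨n, -, hn⟩ := hK.2 _ (Groth.Agent.H24Lin.nhds_of_isOpen W hW)
    exact ⟨n, Set.Subset.trans ((Ideal.le_comap_pow φ n).trans (Ideal.comap_mono hn)) hWU⟩

end Groth.Agent.S10169
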