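import Groth.Statements.S10170
import Groth.Agent.H24Lin.Open
import Groth.Agent.S2275

set_option autoImplicit false
set_option linter.style.haveILetI false
universe u v
open LinTop

namespace Groth.Agent.S10170

/-- Let φ : A → B be a taut homomorphism of linearly topologized rings such that for every open ideal I
of A the induced ring map A/I → B/J, where J denotes the closure of φ(I)B, is faithfully flat.
Suppose A is Hausdorff and complete, and B is adic with some finitely generated ideal of definition.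
Then A is adic, and some finitely generated ideal of A is an ideal of definition. -/
theorem result
    (A : Type u) [CommRing A] [UniformSpace A] [IsUniformAddGroup A] [IsTopologicalRing A] [IsLinearTopology A A] [T2Space A] [CompleteSpace A]
    (B : Type v) [CommRing B] [UniformSpace B] [IsUniformAddGroup B] [IsTopologicalRing B] (hB : LinTop.IsAdicRing B)
    (hJ : ∃ J : Ideal B, LinTop.IsIdealOfDefinition B J ∧ J.FG)
    (φ : A →+* B) (hφ : LinTop.IsTautFFlat φ) :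
    LinTop.IsAdicRing A ∧ ∃ I : Ideal A, LinTop.IsIdealOfDefinition A I ∧ I.FG := by
  obtain ⟨⟨L, hL⟩, hBt, hBc⟩ := hB
  haveI : IsLinearTopology B B := IsLinearTopology.mk_of_hasBasis B hL.hasBasis_nhds_zero
  obtain ⟨J₀, hJ₀, hJfg⟩ := hJ
  have hJ₀' := Groth.Agent.S2275.result B ⟨L, hL⟩ J₀ hJ₀
  obtain ⟨hJo, hJb⟩ := isAdic_iff.mp hJ₀'
  let I := J₀.comap φ
  have hIo : IsOpen (I : Set A) := Groth.Agent.H24Lin.isOpen_comap φ hφ.1.1 _ hJ₀.1
  obtain ⟨m, -, hm⟩ := hJ₀.2 _ (Groth.Agent.H24Lin.nhds_of_isOpen (I.map φ).closure (hφ.1.2.1 I hIo))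
  have h1 : J₀ ^ m ≤ I.map φ ⊔ J₀ ^ (m + 1) := fun x hx => by
    have h := Groth.Agent.H24Lin.isOpen_of_le (I := J₀ ^ (m + 1)) (J := I.map φ ⊔ J₀ ^ (m + 1)) le_sup_right (hJo (m + 1))
    exact Groth.Agent.H24Lin.closure_le_of_isClosed le_sup_left
      ((I.map φ ⊔ J₀ ^ (m + 1)).toAddSubgroup.isClosed_of_isOpen h) (hm hx)
  have h2 : ∀ y ∈ I.map φ, ∃ I₀ : Ideal A, I₀.FG ∧ I₀ ≤ I ∧ y ∈ I₀.map φ := by
    intro y hy
    refine Submodule.span_induction (p := fun y _ => ∃ I₀ : Ideal A, I₀.FG ∧ I₀ ≤ I ∧ y ∈ I₀.map φ) ?_ ?_ ?_ ?_ hy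
    · rintro _ ⟨a, ha, rfl⟩
      exact ⟨Ideal.span {a}, Submodule.fg_span_singleton _, (Ideal.span_singleton_le_iff_mem I).mpr ha,
        Ideal.mem_map_of_mem φ (Ideal.mem_span_singleton_self a)⟩
    · exact ⟨⊥, Submodule.fg_bot, bot_le, Submodule.zero_mem _⟩
    · rintro a b _ _ ⟨P, hP, hP', ha⟩ ⟨Q, hQ, hQ', hb⟩
      exact ⟨P ⊔ Q, Submodule.FG.sup hP hQ, sup_le hP' hQ', Submodule.add_mem _
        (Ideal.map_mono le_sup_left ha) (Ideal.map_mono le_sup_right hb)⟩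
    · rintro r a _ ⟨P, hP, hP', ha⟩
      exact ⟨P, hP, hP', Submodule.smul_mem _ r ha⟩
  obtain ⟨l, g, hg⟩ := Submodule.fg_iff_exists_fin_generating_family.mp (Submodule.FG.pow hJfg m)
  have h3 : ∀ i, ∃ I₀ : Ideal A, I₀.FG ∧ I₀ ≤ I ∧ g i ∈ I₀.map φ ⊔ J₀ ^ (m + 1) := fun i => by
    have hgi : g i ∈ J₀ ^ m := by rw [← hg]; exact Submodule.subset_span ⟨i, rfl⟩
    obtain ⟨y, hy, z, hz, e⟩ := Submodule.mem_sup.mp (h1 hgi)
    obtain ⟨P, hP, hP', hy'⟩ := h2 y hy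
    exact ⟨P, hP, hP', e ▸ Submodule.add_mem_sup hy' hz⟩
  choose P hP hPI hPg using h3
  let I₀ : Ideal A := ⨆ i, P i
  have hI₀fg : I₀.FG := Submodule.fg_iSup P hP
  have hI₀I : I₀ ≤ I := iSup_le hPI
  have h5 : J₀ ^ m ≤ I₀.map φ ⊔ J₀ ^ (m + 1) := by
    rw [← hg, Submodule.span_le]
    rintro _ ⟨i, rfl⟩
    exact (sup_le_sup (Ideal.map_mono (f := φ) (le_iSup P i)) le_rfl : (P i).map φ ⊔ J₀ ^ (m + 1) ≤ _) (hPg i)
  have h6 : ∀ k : ℕ, J₀ ^ m ≤ I₀.map φ ⊔ J₀ ^ (m + k) := by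
    intro k
    induction k with
    | zero => exact le_sup_right
    | succ k ih =>
      refine h5.trans (sup_le le_sup_left ?_)
      rw [pow_succ]
      refine (Ideal.mul_mono_left ih).trans ?_
      rw [Submodule.sup_mul, ← pow_succ]
      exact sup_le (Ideal.mul_le_left.trans le_sup_left) (le_of_eq_of_le (by rw [add_assoc]) le_sup_right)
  have h7 : J₀ ^ m ≤ (I₀.map φ).closure := by
    intro x hx
    change x ∈ closure ((I₀.map φ : Ideal B) : Set B)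
    rw [mem_closure_iff_nhds]
    intro W hW
    have ht : Filter.Tendsto (fun z => x - z) (nhds (0 : B)) (nhds x) :=
      ((continuous_const (y := x)).sub continuous_id).tendsto' _ _ (sub_zero x)
    obtain ⟨k, hk⟩ := hJb _ (ht hW)
    obtain ⟨j, hj, z, hz, rfl⟩ := Submodule.mem_sup.mp (h6 k hx)
    have : z ∈ J₀ ^ k := Ideal.pow_le_pow_right (Nat.le_add_left k m) hz
    exact ⟨j, by simpa using hk this, hj⟩
  have hI₀o : ∀ n : ℕ, IsOpen ((I₀ ^ n).closure : Set A) := by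
    intro n
    refine Groth.Agent.H24Lin.isOpen_of_le (Groth.Agent.H24Lin.comap_closure_map_le_closure hφ _) (Groth.Agent.H24Lin.isOpen_comap φ hφ.1.1 _ ?_)
    rw [← Groth.Agent.H24Lin.closure_pow_map φ I₀ n]
    refine Groth.Agent.H24Lin.isOpen_of_le ?_ (hJo (m * n))
    rw [pow_mul]
    exact (Ideal.pow_right_mono h7 n).trans (Groth.Agent.H24Lin.le_closure _)
  have hI₀b : ∀ U ∈ nhds (0 : A), ∃ n : ℕ, 0 < n ∧ ((I₀ ^ n : Ideal A) : Set A) ⊆ U := by
    intro U hU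
    obtain ⟨W, hW, hWU⟩ := Groth.Agent.H24Lin.exists_preimage_subset hφ hU
    obtain ⟨n, hn, hnW⟩ := hJ₀.2 _ (Groth.Agent.H24Lin.nhds_of_isOpen W hW)
    refine ⟨n, hn, Set.Subset.trans ?_ hWU⟩
    exact (Ideal.pow_right_mono hI₀I n).trans ((Ideal.le_comap_pow φ n).trans (Ideal.comap_mono hnW))
  have hadic := Groth.Agent.H24Lin.isAdic_of_fg_closure_pow I₀ hI₀fg hI₀o fun U hU => (hI₀b U hU).imp fun n h => h.2
  exact ⟨⟨⟨I₀, hadic⟩, ‹_›, ‹_›⟩, I₀, ⟨by simpa using (isAdic_iff.mp hadic).1 1, hI₀b⟩, hI₀fg⟩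

end Groth.Agent.S10170
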