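import Groth.Statements.S10171
import Groth.Agent.H24Lin.Open

set_option autoImplicit false
set_option linter.style.haveILetI false
universe u v
open LinTop

namespace Groth.Agent.S10171

/-- Let M be a linearly topologized module over a ring R and N a submodule. Write M^ for the separated
completion of M and (M/N)^ for that of M/N (quotient topology, additive uniform structure). Then the
kernel of the induced map M^ → (M/N)^ is the closure of the image of N in M^; that closure is the
completion of N, so this is the exactness of 0 → N^ → M^ → (M/N)^ at M^. -/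
theorem result
    {R : Type u} [Ring R] {M : Type v} [AddCommGroup M] [Module R M] [UniformSpace M]
    [IsUniformAddGroup M] [IsLinearTopology R M] (N : Submodule R M) :
    (@UniformSpace.Completion.map M _ (M ⧸ N.toAddSubgroup)
        (IsTopologicalAddGroup.rightUniformSpace (M ⧸ N.toAddSubgroup))
        (QuotientAddGroup.mk' N.toAddSubgroup)) ⁻¹' {0} =
      closure (Set.range (fun n : N => ((n : M) : UniformSpace.Completion M))) := by
  letI := IsTopologicalAddGroup.rightUniformSpace (M ⧸ N.toAddSubgroup)
  haveI : IsUniformAddGroup (M ⧸ N.toAddSubgroup) := isUniformAddGroup_of_addCommGroup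
  have hf : Continuous (QuotientAddGroup.mk' N.toAddSubgroup) := continuous_quot_mk
  have hu : UniformContinuous (QuotientAddGroup.mk' N.toAddSubgroup) := uniformContinuous_addMonoidHom_of_continuous hf
  let F : UniformSpace.Completion M →+ UniformSpace.Completion (M ⧸ N.toAddSubgroup) :=
    (QuotientAddGroup.mk' N.toAddSubgroup).completion hf
  have hFc : Continuous F := UniformSpace.Completion.continuous_map
  have hFcoe : ∀ y : M, F (y : UniformSpace.Completion M) =
      ((QuotientAddGroup.mk' N.toAddSubgroup y : M ⧸ N.toAddSubgroup) :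
        UniformSpace.Completion (M ⧸ N.toAddSubgroup)) := fun y => UniformSpace.Completion.map_coe hu y
  ext x
  change F x = 0 ↔ _
  constructor
  · intro hx
    rw [mem_closure_iff_nhds]
    intro W hW
    have ht : Filter.Tendsto (fun z => x - z) (nhds (0 : UniformSpace.Completion M)) (nhds x) :=
      ((continuous_const (y := x)).sub continuous_id).tendsto' _ _ (sub_zero x)
    obtain ⟨U, hU, hUW⟩ := Groth.Agent.H24Lin.exists_closure_image_coe_subset
      (IsLinearTopology.hasBasis_open_submodule R (M := M)) (ht hW)
    have hx' : Filter.Tendsto (fun z => x - z) (nhds x) (nhds (0 : UniformSpace.Completion M)) :=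
      ((continuous_const (y := x)).sub continuous_id).tendsto' _ _ (sub_self x)
    obtain ⟨_, hy, y, rfl⟩ := mem_closure_iff_nhds.mp (UniformSpace.Completion.denseRange_coe x) _
      (hx' (Groth.Agent.H24Lin.closure_image_coe_mem_nhds (hU.mem_nhds U.zero_mem)))
    let U' : AddSubgroup (M ⧸ N.toAddSubgroup) := U.toAddSubgroup.map (QuotientAddGroup.mk' N.toAddSubgroup)
    have hU' : IsOpen (U' : Set (M ⧸ N.toAddSubgroup)) := QuotientAddGroup.isOpenMap_coe _ hU
    have h1 : F (x - y) ∈ closure (((↑) : (M ⧸ N.toAddSubgroup) → _) '' (U' : Set (M ⧸ N.toAddSubgroup))) :=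
      map_mem_closure hFc hy fun _ ⟨u, hu, e⟩ => ⟨_, ⟨u, hu, rfl⟩, by rw [← e]; exact (hFcoe u).symm⟩
    rw [map_sub, hx, zero_sub, hFcoe, ← UniformSpace.Completion.coe_neg] at h1
    obtain ⟨u, hu, e⟩ := Groth.Agent.H24Lin.mem_of_coe_mem_closure_image hU' h1
    have hn : y + u ∈ N := by
      have : QuotientAddGroup.mk' N.toAddSubgroup (y + u) = 0 := by rw [map_add, e, add_neg_cancel]
      exact (QuotientAddGroup.eq_zero_iff _).mp this
    refine ⟨((y + u : M) : UniformSpace.Completion M), ?_, ⟨⟨y + u, hn⟩, rfl⟩⟩
    have h2 : x - ((y + u : M) : UniformSpace.Completion M) ∈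
        closure (((↑) : M → UniformSpace.Completion M) '' (U : Set M)) := by
      rw [UniformSpace.Completion.coe_add, ← sub_sub, sub_eq_add_neg, ← UniformSpace.Completion.coe_neg]
      exact map_mem_closure₂ continuous_add hy
        (subset_closure (s := ((↑) : M → UniformSpace.Completion M) '' (U : Set M)) ⟨-u, U.neg_mem hu, rfl⟩)
        fun _ ⟨a, ha, ea⟩ _ ⟨b, hb, eb⟩ => ⟨a + b, U.add_mem ha hb, by
          rw [UniformSpace.Completion.coe_add, ea, eb]⟩
    simpa using hUW h2
  · intro hx
    refine (closure_minimal (t := F ⁻¹' {0}) ?_ (isClosed_singleton.preimage hFc)) hx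
    rintro _ ⟨n, rfl⟩
    change F _ = 0
    rw [hFcoe, QuotientAddGroup.mk'_apply, (QuotientAddGroup.eq_zero_iff _).mpr n.2,
      UniformSpace.Completion.coe_zero]

end Groth.Agent.S10171
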