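import Groth.Statements.S10172
import Groth.Agent.H24Lin.Open

set_option autoImplicit false
set_option linter.style.haveILetI false
universe u v
open LinTop

namespace Groth.Agent.S10172

/-- Let M be a linearly topologized module over a ring R having a countable fundamental system of
neighbourhoods of 0, and N a submodule. With M^ and (M/N)^ the separated completions of M and of M/N
(quotient topology, additive uniform structure), the induced map M^ → (M/N)^ is surjective and open
(so, its kernel being the completion of N, the sequence 0 → N^ → M^ → (M/N)^ → 0 is exact). -/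
theorem result
    {R : Type u} [Ring R] {M : Type v} [AddCommGroup M] [Module R M] [UniformSpace M]
    [IsUniformAddGroup M] [IsLinearTopology R M] (hc : (nhds (0 : M)).IsCountablyGenerated)
    (N : Submodule R M) :
    Function.Surjective (@UniformSpace.Completion.map M _ (M ⧸ N.toAddSubgroup)
        (IsTopologicalAddGroup.rightUniformSpace (M ⧸ N.toAddSubgroup))
        (QuotientAddGroup.mk' N.toAddSubgroup)) ∧
      IsOpenMap (@UniformSpace.Completion.map M _ (M ⧸ N.toAddSubgroup)
        (IsTopologicalAddGroup.rightUniformSpace (M ⧸ N.toAddSubgroup))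
        (QuotientAddGroup.mk' N.toAddSubgroup)) := by
  letI := IsTopologicalAddGroup.rightUniformSpace (M ⧸ N.toAddSubgroup)
  haveI : IsUniformAddGroup (M ⧸ N.toAddSubgroup) := isUniformAddGroup_of_addCommGroup
  have hf : Continuous (QuotientAddGroup.mk' N.toAddSubgroup) := continuous_quot_mk
  have hu : UniformContinuous (QuotientAddGroup.mk' N.toAddSubgroup) := uniformContinuous_addMonoidHom_of_continuous hf
  let F : UniformSpace.Completion M →+ UniformSpace.Completion (M ⧸ N.toAddSubgroup) :=
    (QuotientAddGroup.mk' N.toAddSubgroup).completion hf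
  have hFc : Continuous F := UniformSpace.Completion.continuous_map
  have hFcoe : ∀ y : M, F (y : UniformSpace.Completion M) =
      ((QuotientAddGroup.mk' N.toAddSubgroup y : M ⧸ N.toAddSubgroup) :
        UniformSpace.Completion (M ⧸ N.toAddSubgroup)) := fun y => UniformSpace.Completion.map_coe hu y
  obtain ⟨U, hanti, hUo, hb⟩ : ∃ U : ℕ → Submodule R M, Antitone U ∧ (∀ n, IsOpen (U n : Set M)) ∧
      (nhds (0 : M)).HasBasis (fun _ => True) (fun n => (U n : Set M)) := by
    haveI := hc
    obtain ⟨U, hU, hb⟩ := (IsLinearTopology.hasBasis_open_submodule R (M := M)).exists_antitone_subbasis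
    exact ⟨U, fun a b hab => hb.antitone hab, hU, hb.toHasBasis⟩
  let V : ℕ → AddSubgroup (UniformSpace.Completion M) := fun n =>
    ((U n).toAddSubgroup.map UniformSpace.Completion.toCompl).topologicalClosure
  have hVc : ∀ n, (V n : Set (UniformSpace.Completion M)) =
      closure (((↑) : M → UniformSpace.Completion M) '' (U n : Set M)) := fun n => rfl
  have hVb : (nhds (0 : UniformSpace.Completion M)).HasBasis (fun _ => True)
      (fun n => (V n : Set (UniformSpace.Completion M))) := by
    refine ⟨fun W => ⟨fun hW => ?_, fun ⟨n, _, hn⟩ =>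
      Filter.mem_of_superset (Groth.Agent.H24Lin.closure_image_coe_mem_nhds ((hUo n).mem_nhds (U n).zero_mem)) hn⟩⟩
    exact Groth.Agent.H24Lin.exists_closure_image_coe_subset hb hW
  obtain ⟨hs, ho, -⟩ := Groth.Agent.H24Lin.isOpenMap_and_surjective F hFc V
    (fun a b h => AddSubgroup.topologicalClosure_mono (AddSubgroup.map_mono (hanti h))) hVb
    (fun n => by
      have hU' : IsOpen (QuotientAddGroup.mk' N.toAddSubgroup '' (U n : Set M)) :=
        QuotientAddGroup.isOpenMap_coe _ (hUo n)
      refine Filter.mem_of_superset (Groth.Agent.H24Lin.closure_image_coe_mem_nhds (hU'.mem_nhds ⟨0, (U n).zero_mem, map_zero _⟩))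
        (closure_mono ?_)
      rintro _ ⟨_, ⟨u, hu, rfl⟩, rfl⟩
      exact ⟨_, subset_closure ⟨u, hu, rfl⟩, hFcoe u⟩)
    (by
      refine UniformSpace.Completion.denseRange_coe.mono ?_
      rintro _ ⟨z, rfl⟩
      obtain ⟨y, rfl⟩ := QuotientAddGroup.mk'_surjective _ z
      exact ⟨_, hFcoe y⟩)
  exact ⟨hs, ho⟩

end Groth.Agent.S10172
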