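import Groth.Statements.S10173
import Groth.Agent.H24Lin.Open

set_option autoImplicit false
set_option linter.style.haveILetI false
universe u v
open LinTop

namespace Groth.Agent.S10173

/-- Let R be a commutative ring, I a finitely generated ideal and M a topological R-module (additive
uniform structure, each scalar acting uniformly continuously) having an open submodule M' whose
topology is the I-adic one, i.e. the I^n M' are open in M and form a fundamental system of
neighbourhoods of 0. Then the separated completion M^ has an open submodule whose topology is I-adic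
in the same sense, and for every n ≥ 1 the map M → M^/I^n M^ is surjective with kernel I^n M,
identifying M^/I^n M^ with M/I^n M. -/
theorem result
    {R : Type u} [CommRing R] (I : Ideal R) (hI : I.FG)
    {M : Type v} [AddCommGroup M] [Module R M] [UniformSpace M] [IsUniformAddGroup M]
    [UniformContinuousConstSMul R M]
    (M' : Submodule R M) (hopen : ∀ n : ℕ, IsOpen ((I ^ n • M' : Submodule R M) : Set M))
    (hbasis : ∀ U ∈ nhds (0 : M), ∃ n : ℕ, ((I ^ n • M' : Submodule R M) : Set M) ⊆ U) :
    (∃ M'' : Submodule R (UniformSpace.Completion M),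
        (∀ n : ℕ, IsOpen ((I ^ n • M'' : Submodule R (UniformSpace.Completion M)) :
          Set (UniformSpace.Completion M))) ∧
        ∀ U ∈ nhds (0 : UniformSpace.Completion M), ∃ n : ℕ,
          ((I ^ n • M'' : Submodule R (UniformSpace.Completion M)) :
            Set (UniformSpace.Completion M)) ⊆ U) ∧
      ∀ n : ℕ, 0 < n →
        Function.Surjective ((QuotientAddGroup.mk' (I ^ n • ⊤ : Submodule R (UniformSpace.Completion M)).toAddSubgroup).comp
          (UniformSpace.Completion.toCompl : M →+ UniformSpace.Completion M)) ∧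
        ((QuotientAddGroup.mk' (I ^ n • ⊤ : Submodule R (UniformSpace.Completion M)).toAddSubgroup).comp
          (UniformSpace.Completion.toCompl : M →+ UniformSpace.Completion M)).ker = (I ^ n • ⊤ : Submodule R M).toAddSubgroup := by
  let ι : M →ₗ[R] UniformSpace.Completion M :=
    { toFun := fun m => (m : UniformSpace.Completion M)
      map_add' := fun a b => UniformSpace.Completion.coe_add a b
      map_smul' := fun r a => UniformSpace.Completion.coe_smul r a }
  let N := M'.map ι
  let M'' := N.topologicalClosure
  have hcl : ∀ n : ℕ, ((I ^ n • M'' : Submodule R _) : Set (UniformSpace.Completion M)) =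
      closure (((↑) : M → UniformSpace.Completion M) '' ((I ^ n • M' : Submodule R M) : Set M)) := by
    have hmap : ∀ n : ℕ, ((I ^ n • N : Submodule R _) : Set (UniformSpace.Completion M)) =
        ((↑) : M → UniformSpace.Completion M) '' ((I ^ n • M' : Submodule R M) : Set M) := fun n => by
      rw [← Submodule.map_smul'', Submodule.map_coe]
      rfl
    intro n
    refine subset_antisymm ?_ ?_
    · have : I ^ n • M'' ≤ (I ^ n • N).topologicalClosure := Submodule.smul_le.mpr fun r hr m hm =>
        map_mem_closure (f := fun z : UniformSpace.Completion M => r • z) (continuous_id.const_smul r) hm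
          fun z hz => Submodule.smul_mem_smul hr hz
      refine Set.Subset.trans this ?_
      rw [Submodule.topologicalClosure_coe, hmap]
    · rw [← hmap]
      refine Groth.Agent.H24Lin.closure_pow_smul_subset I hI N (fun m => ?_) (fun U hU => ?_) n
      · refine AddSubgroup.isOpen_of_mem_nhds (H := (I ^ m • N).toAddSubgroup.topologicalClosure) (g := 0) ?_
        change closure ((I ^ m • N : Submodule R _) : Set (UniformSpace.Completion M)) ∈ _
        rw [hmap]
        exact Groth.Agent.H24Lin.closure_image_coe_mem_nhds ((hopen m).mem_nhds (Submodule.zero_mem _))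
      · have hb : (nhds (0 : M)).HasBasis (fun _ : ℕ => True) (fun m => ((I ^ m • M' : Submodule R M) : Set M)) :=
          ⟨fun W => ⟨fun hW => (hbasis W hW).imp fun m hm => ⟨trivial, hm⟩, fun ⟨m, _, hm⟩ =>
            Filter.mem_of_superset ((hopen m).mem_nhds (Submodule.zero_mem _)) hm⟩⟩
        obtain ⟨m, -, hm⟩ := Groth.Agent.H24Lin.exists_closure_image_coe_subset hb hU
        exact ⟨m, Set.Subset.trans subset_closure (by rw [hmap]; exact hm)⟩
  have hopen' : ∀ n : ℕ, IsOpen ((I ^ n • M'' : Submodule R _) : Set (UniformSpace.Completion M)) := fun n => by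
    refine AddSubgroup.isOpen_of_mem_nhds (H := (I ^ n • M'').toAddSubgroup) (g := 0) ?_
    change ((I ^ n • M'' : Submodule R _) : Set (UniformSpace.Completion M)) ∈ _
    rw [hcl]
    exact Groth.Agent.H24Lin.closure_image_coe_mem_nhds ((hopen n).mem_nhds (Submodule.zero_mem _))
  refine ⟨⟨M'', hopen', fun U hU => ?_⟩, fun n _ => ?_⟩
  · have hb : (nhds (0 : M)).HasBasis (fun _ : ℕ => True) (fun m => ((I ^ m • M' : Submodule R M) : Set M)) :=
      ⟨fun W => ⟨fun hW => (hbasis W hW).imp fun m hm => ⟨trivial, hm⟩, fun ⟨m, _, hm⟩ =>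
        Filter.mem_of_superset ((hopen m).mem_nhds (Submodule.zero_mem _)) hm⟩⟩
    obtain ⟨m, -, hm⟩ := Groth.Agent.H24Lin.exists_closure_image_coe_subset hb hU
    exact ⟨m, by rw [hcl]; exact hm⟩
  have hdense : ∀ (k : ℕ) (x : UniformSpace.Completion M), ∃ a : M, x - ι a ∈ I ^ k • M'' := by
    intro k x
    have hx : Filter.Tendsto (fun z => x - z) (nhds x) (nhds (0 : UniformSpace.Completion M)) :=
      ((continuous_const (y := x)).sub continuous_id).tendsto' _ _ (sub_self x)
    obtain ⟨_, hy, y, rfl⟩ := mem_closure_iff_nhds.mp (UniformSpace.Completion.denseRange_coe x) _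
      (hx ((hopen' k).mem_nhds (Submodule.zero_mem _)))
    exact ⟨y, hy⟩
  refine ⟨fun q => ?_, ?_⟩
  · obtain ⟨x, rfl⟩ := QuotientAddGroup.mk'_surjective _ q
    obtain ⟨a, ha⟩ := hdense n x
    refine ⟨a, ?_⟩
    rw [AddMonoidHom.comp_apply, QuotientAddGroup.mk'_apply, QuotientAddGroup.mk'_apply, QuotientAddGroup.eq]
    rw [neg_add_eq_sub]
    exact Submodule.smul_mono le_rfl le_top ha
  · ext m
    rw [AddMonoidHom.mem_ker, AddMonoidHom.comp_apply, QuotientAddGroup.mk'_apply, QuotientAddGroup.eq_zero_iff]
    change ι m ∈ (I ^ n • ⊤ : Submodule R _) ↔ m ∈ (I ^ n • ⊤ : Submodule R M)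
    constructor
    · intro hm
      have htop : (⊤ : Submodule R (UniformSpace.Completion M)) ≤ LinearMap.range ι ⊔ M'' := by
        intro x _
        obtain ⟨a, ha⟩ := hdense 0 x
        rw [pow_zero, one_smul] at ha
        rw [← sub_add_cancel x (ι a), add_comm]
        exact Submodule.add_mem_sup (LinearMap.mem_range_self ι a) ha
      have h1 := Submodule.smul_mono (le_refl (I ^ n)) htop hm
      rw [Submodule.smul_sup, LinearMap.range_eq_map, ← Submodule.map_smul''] at h1
      obtain ⟨_, ⟨a, ha, rfl⟩, z, hz, e⟩ := Submodule.mem_sup.mp h1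
      have hz' : ι (m - a) ∈ I ^ n • M'' := by
        rw [map_sub, ← e, add_sub_cancel_left]
        exact hz
      rw [← SetLike.mem_coe, hcl] at hz'
      have h2 := Groth.Agent.H24Lin.mem_of_coe_mem_closure_image (U := (I ^ n • M' : Submodule R M).toAddSubgroup) (hopen n) hz'
      rw [← sub_add_cancel m a]
      exact Submodule.add_mem _ (Submodule.smul_mono le_rfl le_top h2) ha
    · intro hm
      have h1 := Submodule.mem_map_of_mem (f := ι) hm
      rw [Submodule.map_smul''] at h1
      exact Submodule.smul_mono le_rfl le_top h1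

end Groth.Agent.S10173
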