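import Groth.Statements.S10179
import Groth.Agent.H12AlgSp.PointsTop

set_option autoImplicit false
universe u
open CategoryTheory CategoryTheory.Limits AlgebraicGeometry Topology TopologicalSpace
open AlgSp AlgSp.Points

namespace Groth.Agent.S10179

/-- For an algebraic space X over a scheme S, every point x of |X| has a fundamental system of
quasi-compact open neighbourhoods: every open subset of |X| containing x contains a quasi-compact
open subset containing x. In particular |X| is locally quasi-compact. -/
theorem result {S : Scheme.{u}} (X : AlgSp.Space S) (x : AlgSp.Points X.obj)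
    (W : Set (AlgSp.Points X.obj)) (hW : IsOpen W) (hx : x ∈ W) :
    ∃ V : Set (AlgSp.Points X.obj), IsOpen V ∧ IsCompact V ∧ x ∈ V ∧ V ⊆ W := by
  exact Groth.Agent.H12AlgSp.exists_compact_open_nhd X.property x hW hx

end Groth.Agent.S10179
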