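import Groth.Statements.S1018
import Groth.Agent.H16Derived.QRep.FreeExtend

set_option autoImplicit false
universe u
open CategoryTheory CategoryTheory.Limits AlgebraicGeometry
attribute [local instance] HasDerivedCategory.standard
open Perf

namespace Groth.Agent.S1018

/-- Let X be an affine scheme, U a quasi-compact open subscheme and E a pseudo-coherent object of D(O_U)
(m-pseudo-coherent for all m). Then there is a bounded above complex G of finite free O_X-modules
whose termwise restriction to U is isomorphic to E in D(O_U). -/
theorem result (X : Scheme.{u}) [IsAffine X] (U : X.Opens) (hU : IsCompact (U : Set X))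
    (E : DCoh.D (U : Scheme.{u})) (hE : ∀ m : ℤ, DCoh.IsPseudoCoherentD m E) :
    ∃ (G : CochainComplex X.Modules ℤ) (b : ℤ), (∀ i : ℤ, b < i → IsZero (G.X i)) ∧
      (∀ i : ℤ, ∃ n : ℕ, Nonempty (G.X i ≅ FlatMod.freeMod X n)) ∧
      Nonempty (DerivedCategory.Q.obj ((DCoh.restrictCx U).obj G) ≅ E) := by
  exact H16Derived.QRep.exists_free_extension U hU E hE

end Groth.Agent.S1018
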