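import Groth.Statements.S10180
import Groth.Agent.H12AlgSp.QC

set_option autoImplicit false
universe u
open CategoryTheory CategoryTheory.Limits AlgebraicGeometry Topology TopologicalSpace
open AlgSp

namespace Groth.Agent.S10180

/-- An algebraic space X over a scheme S is quasi-compact if and only if there exist an affine scheme U
over S and a representable etale, representable surjective map h_U ⟶ X. -/
theorem result {S : Scheme.{u}} (X : AlgSp.Space S) :
    AlgSp.IsQuasiCompactSp X.obj ↔
      ∃ (U : Over S) (p : (AlgSp.yon S).obj U ⟶ X.obj),
        IsAffine U.left ∧ AlgSp.RepWith @Etale p ∧ AlgSp.RepWith @Surjective p := by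
  refine ⟨fun h => ?_, fun ⟨U, p, hU, hp, hps⟩ => ⟨U, p, hp, hps, inferInstance⟩⟩
  have := Groth.Agent.H12AlgSp.compactSpace_points_of_isQuasiCompactSp h
  exact Groth.Agent.H12AlgSp.exists_affine_atlas X.property

end Groth.Agent.S10180
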