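import Groth.Statements.S10201
import Groth.Agent.S10338
import Groth.Agent.S10339
import Groth.Agent.S10350
import Groth.Agent.H12AlgSp.QSPullback
import Groth.Agent.H12AlgSp.PointsTop

set_option autoImplicit false
universe u
open CategoryTheory CategoryTheory.Limits AlgebraicGeometry Topology TopologicalSpace
open AlgSp

namespace Groth.Agent.S10201

/-- Let S be a quasi-separated scheme and X a quasi-compact algebraic space over S whose diagonal over S
is quasi-compact. Then |X| is a spectral space. (The published statement assumes X quasi-separated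
in the absolute sense; over a quasi-separated base that is the same as quasi-separated over S, while
for S quasi-compact and not quasi-separated the space h_S is quasi-compact with quasi-compact
diagonal over S and |h_S| = |S| is not spectral.) -/
theorem result {S : Scheme.{u}} [QuasiSeparatedSpace ↥S]
    (X : AlgSp.Space S) (hqc : AlgSp.IsQuasiCompactSp X.obj) (hqs : AlgSp.IsQuasiSeparatedSp X.obj) :
    SpectralSpace (AlgSp.Points X.obj) := by
  have hd : AlgSp.IsDecent X.obj := Groth.Agent.S10350.result X hqs
  have := Groth.Agent.S10338.result X hd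
  have := Groth.Agent.S10339.result X hd
  have : CompactSpace (AlgSp.Points X.obj) := (Groth.Agent.H12AlgSp.isQuasiCompactSp_iff X.property).1 hqc
  have hb : TopologicalSpace.IsTopologicalBasis {A : Set (AlgSp.Points X.obj) | IsOpen A ∧ IsCompact A} := by
    refine TopologicalSpace.isTopologicalBasis_of_isOpen_of_nhds (fun A hA => hA.1) fun x A hx hA => ?_
    obtain ⟨V, h1, h2, h3, h4⟩ := Groth.Agent.H12AlgSp.exists_compact_open_nhd X.property x hA hx
    exact ⟨V, ⟨h1, h2⟩, h3, h4⟩
  have : PrespectralSpace (AlgSp.Points X.obj) := ⟨hb⟩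
  have : QuasiSeparatedSpace (AlgSp.Points X.obj) := by
    refine ⟨fun A A' hA hAc hA' hAc' => ?_⟩
    obtain ⟨U, a, hU, ha, rfl⟩ := Groth.Agent.H12AlgSp.exists_affine_chart X.property hA hAc
    obtain ⟨V, b, hV, hb', rfl⟩ := Groth.Agent.H12AlgSp.exists_affine_chart X.property hA' hAc'
    obtain ⟨W, t, k', sq⟩ := ha.1 b
    obtain ⟨k, rfl⟩ := (AlgSp.yon S).map_surjective k'
    have : QuasiCompact U.hom := quasiCompact_of_compactSpace _
    have : QuasiCompact (pullback.snd U.hom V.hom) := MorphismProperty.pullback_snd _ _ inferInstance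
    have : CompactSpace ↥(pullback U.hom V.hom) := QuasiCompact.compactSpace_of_compactSpace (pullback.snd U.hom V.hom)
    have := Groth.Agent.H12AlgSp.compactSpace_of_isPullback hqs sq
    rw [show Set.range (Points.ofPt a) ∩ Set.range (Points.ofPt b) = Set.range (Points.ofPt ((AlgSp.yon S).map k ≫ a)) from ?_]
    · exact isCompact_range (Points.continuous_ofPt _)
    ext z
    constructor
    · rintro ⟨⟨u, rfl⟩, ⟨v, hv⟩⟩
      obtain ⟨p, hp₁, hp₂⟩ := Groth.Agent.H12AlgSp.exists_point_of_isPullback sq (Points.ofScheme U u) (Points.ofScheme V v)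
        (by rw [← Points.ofPt_eq_map_ofScheme, ← Points.ofPt_eq_map_ofScheme, hv])
      obtain ⟨w, rfl⟩ := (Points.schemeHomeo W).surjective p
      refine ⟨w, ?_⟩
      rw [Points.ofPt_eq_map_ofScheme, Points.map_comp]
      exact (congrArg (Points.map a) hp₁).trans (Points.ofPt_eq_map_ofScheme a u).symm
    · rintro ⟨w, rfl⟩
      refine ⟨⟨k.left w, (Groth.Agent.H12AlgSp.ofPt_map k a w).symm⟩, ⟨t.left w, ?_⟩⟩
      rw [← Groth.Agent.H12AlgSp.ofPt_map, sq.w]
  constructor

end Groth.Agent.S10201
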