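import Groth.Statements.S10203
import Groth.Agent.H12AlgSp.PointsTop
import Groth.Agent.H12AlgSp.QC

set_option autoImplicit false
universe u
open CategoryTheory CategoryTheory.Limits AlgebraicGeometry Topology TopologicalSpace
open AlgSp

namespace Groth.Agent.S10203

/-- If X is a quasi-compact, locally Noetherian algebraic space over a scheme S, then |X| is a
Noetherian topological space. -/
theorem result {S : Scheme.{u}} (X : AlgSp.Space S)
    (hqc : AlgSp.IsQuasiCompactSp X.obj) (hX : AlgSp.IsLocNoethSp X.obj) :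
    NoetherianSpace (AlgSp.Points X.obj) := by
  have := Groth.Agent.H12AlgSp.compactSpace_points_of_isQuasiCompactSp hqc
  choose W hW hx hn using Groth.Agent.H12AlgSp.exists_noetherian_nhd hX
  obtain ⟨t, ht⟩ := isCompact_univ.elim_finite_subcover W hW fun x _ => Set.mem_iUnion.2 ⟨x, hx x⟩
  have : NoetherianSpace (⋃ x : t, W x.1) := NoetherianSpace.iUnion _ (hf := fun x => hn x.1)
  rw [← noetherian_univ_iff]
  have e : (⋃ x : t, W x.1) = Set.univ := Set.eq_univ_of_forall fun y => by
    obtain ⟨x, hxt, hy⟩ := Set.mem_iUnion₂.1 (ht (Set.mem_univ y))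
    exact Set.mem_iUnion.2 ⟨⟨x, hxt⟩, hy⟩
  rwa [e] at this

end Groth.Agent.S10203
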