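import Groth.Statements.S10204
import Groth.Agent.H12AlgSp.FiniteEtaleCover

set_option autoImplicit false
set_option backward.isDefEq.respectTransparency false
universe u
open CategoryTheory CategoryTheory.Limits AlgebraicGeometry Topology TopologicalSpace
open AlgSp

namespace Groth.Agent.S10204

/-- Let X be an algebraic space over a scheme S that admits a map h_U ⟶ X from a quasi-separated scheme
U which is representable finite, etale and surjective. Then X contains an open subspace X' ⟶ X that
is a scheme (its underlying sheaf is representable), whose points form a dense subset of |X| that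
includes every codimension 0 point of X (every point x of |X| such that some etale chart h_V ⟶ X and
some point v of V over x have a zero-dimensional local ring O_{V,v}). -/
theorem result {S : Scheme.{u}} (X : AlgSp.Space S) {U : Over S}
    (a : (AlgSp.yon S).obj U ⟶ X.obj) (hf : AlgSp.RepWith @IsFinite a) (he : AlgSp.RepWith @Etale a)
    (hs : AlgSp.RepWith @Surjective a) [QuasiSeparatedSpace ↥U.left] :
    ∃ (X' : AlgSp.Space S) (j : X' ⟶ X), AlgSp.RepWith @IsOpenImmersion j.hom ∧ X'.obj.obj.IsRepresentable ∧
      Dense (Set.range (AlgSp.Points.map j.hom)) ∧
      ∀ x : AlgSp.Points X.obj, AlgSp.HasAt (fun U u => ringKrullDim ↥(U.presheaf.stalk u) = 0) X.obj x →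
        x ∈ Set.range (AlgSp.Points.map j.hom) := by
  exact Groth.Agent.H12AlgSp.exists_dense_open_subscheme_finite_etale X a hf he hs

end Groth.Agent.S10204
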