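import Groth.Statements.S10205
import Groth.Agent.H12AlgSp.QSPullback

set_option autoImplicit false
universe u
open CategoryTheory CategoryTheory.Limits AlgebraicGeometry Topology TopologicalSpace
open AlgSp

namespace Groth.Agent.S10205

/-- Let X be an algebraic space over a scheme S, k a field with a structure morphism Spec k ⟶ S, and p :
h_{Spec k} ⟶ X a surjective etale map. If the diagonal of X over S is quasi-compact, then X ≅
h_{Spec k'} for a field k' over S, where p corresponds to a finite etale morphism Spec k ⟶ Spec k'
over S (that is, k is a finite separable extension of k'). (The published statement assumes X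
quasi-separated in the absolute sense; the argument only uses that Spec k ×_X Spec k is
quasi-compact, which already follows from quasi-compactness of the diagonal over S since Spec k ×_S
Spec k is affine.) -/
theorem result {S : Scheme.{u}} (X : AlgSp.Space S)
    (hX : AlgSp.IsQuasiSeparatedSp X.obj) (k : Type u) [Field k] (str : Spec (CommRingCat.of k) ⟶ S)
    (p : (AlgSp.yon S).obj (Over.mk str) ⟶ X.obj) (hp : AlgSp.RepWith @Etale p) (hs : AlgSp.RepWith @Surjective p) :
    ∃ (k' : Type u) (_ : Field k') (str' : Spec (CommRingCat.of k') ⟶ S)
      (e : (AlgSp.yon S).obj (Over.mk str') ≅ X.obj) (c : Over.mk str ⟶ Over.mk str'),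
      (AlgSp.yon S).map c ≫ e.hom = p ∧ IsFinite c.left ∧ Etale c.left := by
  exact Groth.Agent.H12AlgSp.exists_iso_spec_field X.property
    (Groth.Agent.H12AlgSp.isDecent_of_isQuasiSeparatedSp X.property hX) p hp hs

end Groth.Agent.S10205
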