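import Groth.Statements.S10213
import Groth.Agent.H12AlgSp.Charts

set_option autoImplicit false
universe u
open CategoryTheory CategoryTheory.Limits AlgebraicGeometry Topology TopologicalSpace
open AlgSp

namespace Groth.Agent.S10213

/-- For an algebraic space X over a scheme S there is a surjective etale map h_U ⟶ X where U is a
disjoint union of affine schemes, each of which maps into an affine open of S. -/
theorem result {S : Scheme.{u}} (X : AlgSp.Space S) :
    ∃ (ι : Type u) (V : ι → Scheme.{u}) (_ : ∀ i, IsAffine (V i)) (q : (∐ V) ⟶ S)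
      (p : (AlgSp.yon S).obj (Over.mk q) ⟶ X.obj),
      AlgSp.RepWith @Etale p ∧ AlgSp.RepWith @Surjective p ∧
        ∀ i, ∃ W : S.Opens, IsAffineOpen W ∧ ∀ v : ↥(V i), (Sigma.ι V i ≫ q) v ∈ W := by
  open Groth.Agent.H12AlgSp Groth.Agent.H13AlgSp in
  exact exists_sigma_affine X

end Groth.Agent.S10213
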