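import Groth.Statements.S10216
import Groth.Agent.H12AlgSp.GeomLift

set_option autoImplicit false
universe u
open CategoryTheory CategoryTheory.Limits AlgebraicGeometry Topology TopologicalSpace
open AlgSp

namespace Groth.Agent.S10216

/-- Let φ : U ⟶ X be an etale morphism of algebraic spaces over a scheme S, take a geometric point x̄ :
Spec k ⟶ X of X whose image in |X| is x, and let u ∈ |U| with φ(u) = x. Then there is a geometric
point ū : Spec k ⟶ U (with the same field k) lying over u and with φ ∘ ū = x̄. -/
theorem result {S : Scheme.{u}} {U X : AlgSp.Space S} (φ : U ⟶ X)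
    (hφ : AlgSp.IsEtaleMor φ.hom) (xbar : AlgSp.FieldPt X.obj) (hx : xbar.IsGeometric)
    (u : AlgSp.Points U.obj) (hu : AlgSp.Points.map φ.hom u = AlgSp.Points.mk xbar) :
    ∃ ubar : (AlgSp.yon S).obj xbar.pt ⟶ U.obj,
      ubar ≫ φ.hom = xbar.toHom ∧ AlgSp.Points.ofPt ubar (IsLocalRing.closedPoint xbar.K) = u := by
  exact Groth.Agent.H12AlgSp.exists_lift_geometric_point U.property hφ xbar hx u hu

end Groth.Agent.S10216
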