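import Groth.Statements.S1022
import Groth.Agent.H16Derived.QCohD.HomVanish
import Groth.Agent.H16Derived.QCohD.Tower

set_option autoImplicit false
universe u
open CategoryTheory CategoryTheory.Limits AlgebraicGeometry
attribute [local instance] HasDerivedCategory.standard
open Perf

namespace Groth.Agent.S1022

open CategoryTheory.Pretriangulated DerivedCategory DerivedCategory.TStructure
open Groth.Agent.H16Derived Groth.Agent.H16Derived.QCohD Groth.Agent.H16Derived.QCohD.HomVanish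

theorem eventually_zero {X : Scheme.{u}} [CompactSpace ↥X] [QuasiSeparatedSpace ↥X] {P : DCoh.D X}
    (hP : DCoh.IsPerfect P) {L : DCoh.D X} (hL : DCoh.IsQCohD L) (b : ℤ) [L.IsLE b] :
    ∃ N : ℤ, ∀ i : ℤ, N ≤ i → ∀ φ : P⟦-i⟧ ⟶ L, φ = 0 := by
  obtain ⟨c, hc⟩ := van_of_isPerfect hP
  refine ⟨b - c + 1, fun i hi φ => ?_⟩
  have hsh : t.IsLE (L⟦(- -i)⟧) (b - i) := t.isLE_shift L b (- -i) (b - i) (by omega)
  let e := (shiftEquiv (DCoh.D X) (-i)).toAdjunction.homEquiv P L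
  refine e.injective ?_
  exact (hc _ (isQCohD_shift hL (- -i)) (b - i) (by omega) hsh (e φ)).trans
    (hc _ (isQCohD_shift hL (- -i)) (b - i) (by omega) hsh (e 0)).symm

/-- Let the scheme X be quasi-compact and quasi-separated, P a perfect object of D(O_X), E ∈ D_QCoh(O_X)
and a ∈ ℤ. Then the morphisms P[-i] ⟶ E vanish for all large i if and only if the morphisms P[-i] ⟶
τ_{≥ a}E vanish for all large i. -/
theorem result (X : Scheme.{u}) [CompactSpace ↥X] [QuasiSeparatedSpace ↥X]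
    (P : DCoh.D X) (hP : DCoh.IsPerfect P) (E : DCoh.D X) (hE : DCoh.IsQCohD E) (a : ℤ) :
    (∃ N : ℤ, ∀ i : ℤ, N ≤ i → ∀ φ : P⟦-i⟧ ⟶ E, φ = 0) ↔
    (∃ N : ℤ, ∀ i : ℤ, N ≤ i → ∀ φ : P⟦-i⟧ ⟶ ((DerivedCategory.TStructure.t : CategoryTheory.Triangulated.TStructure (DCoh.D X)).truncGE a).obj E, φ = 0) := by
  have hL : DCoh.IsQCohD ((t.truncLT a).obj E) := homP_truncLT Coh.IsQCoh isQCoh_iso isQCoh_isZero hE a
  haveI : DerivedCategory.IsLE ((t.truncLT a).obj E) (a - 1) := inferInstanceAs (t.IsLE _ (a - 1))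
  haveI : DerivedCategory.IsLE (((t.truncLT a).obj E)⟦(1 : ℤ)⟧) (a - 2) :=
    t.isLE_shift _ (a - 1) (1 : ℤ) (a - 2) (by omega)
  obtain ⟨N₀, h₀⟩ := eventually_zero hP hL (a - 1)
  obtain ⟨N₁, h₁⟩ := eventually_zero hP (isQCohD_shift hL 1) (a - 2)
  have hT := t.triangleLTGE_distinguished a E
  constructor
  · rintro ⟨N, hN⟩
    refine ⟨max N N₁, fun i hi φ => ?_⟩
    obtain ⟨ψ, hψ⟩ := Triangle.coyoneda_exact₃ _ hT φ (h₁ i ((le_max_right _ _).trans hi) _)
    exact hψ.trans ((congrArg (· ≫ _) (hN i ((le_max_left _ _).trans hi) ψ)).trans zero_comp)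
  · rintro ⟨N, hN⟩
    refine ⟨max N N₀, fun i hi φ => ?_⟩
    obtain ⟨ψ, hψ⟩ := Triangle.coyoneda_exact₂ _ hT φ (hN i ((le_max_left _ _).trans hi) _)
    exact hψ.trans ((congrArg (· ≫ _) (h₀ i ((le_max_right _ _).trans hi) ψ)).trans zero_comp)

end Groth.Agent.S1022
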