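import Groth.Statements.S10221
import Groth.Agent.H12AlgSp.EtStalk

set_option autoImplicit false
universe u
open CategoryTheory CategoryTheory.Limits AlgebraicGeometry Topology TopologicalSpace
open AlgSp

namespace Groth.Agent.S10221
open scoped Groth.Agent.H18Et

/-- Let X be an algebraic space over a scheme S. A short complex of abelian sheaves on the small etale
site of X (maps f, g with g ∘ f = 0) is exact if and only if it is exact on stalks at all geometric
points x̄ of X: every element of the middle stalk killed by g_x̄ is in the image of f_x̄. -/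
theorem result {S : Scheme.{u}} (X : AlgSp.Space S) (C : ShortComplex (AlgSp.AbEt X.obj)) :
    C.Exact ↔ ∀ p : AlgSp.FieldPt X.obj, p.IsGeometric →
      ∀ y : ↥((AlgSp.stalkEtFunctor AddCommGrpCat.{u + 1} p).obj C.X₂),
        ((AlgSp.stalkEtFunctor AddCommGrpCat.{u + 1} p).map C.g) y = 0 →
          ∃ x : ↥((AlgSp.stalkEtFunctor AddCommGrpCat.{u + 1} p).obj C.X₁),
            ((AlgSp.stalkEtFunctor AddCommGrpCat.{u + 1} p).map C.f) x = y := by
  have hX := X.property
  constructor
  · intro hC p hp y hy
    obtain ⟨h1, h2⟩ := Groth.Agent.H12AlgSp.stalkEtFunctor_exact_ab hX hp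
    have : (AlgSp.stalkEtFunctor AddCommGrpCat.{u + 1} p).Additive := Functor.additive_of_preserves_binary_products _
    exact (ShortComplex.ab_exact_iff _).1 (hC.map (AlgSp.stalkEtFunctor AddCommGrpCat.{u + 1} p)) y hy
  · intro h
    rw [ShortComplex.exact_iff_isZero_homology]
    have hm : Mono (0 : C.homology ⟶ C.homology) := by
      refine Sheaf.mono_of_injective _ fun E => Groth.Agent.H12AlgSp.app_injective_of_stalk hX _ (fun p hp => ?_) E
      obtain ⟨h1, h2⟩ := Groth.Agent.H12AlgSp.stalkEtFunctor_exact_ab hX hp
      have : (AlgSp.stalkEtFunctor AddCommGrpCat.{u + 1} p).Additive := Functor.additive_of_preserves_binary_products _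
      have hz : IsZero ((AlgSp.stalkEtFunctor AddCommGrpCat.{u + 1} p).obj C.homology) :=
        ((ShortComplex.exact_iff_isZero_homology _).1 ((ShortComplex.ab_exact_iff _).2 (h p hp))).of_iso
          (C.mapHomologyIso (AlgSp.stalkEtFunctor AddCommGrpCat.{u + 1} p)).symm
      intro s t _
      exact @Subsingleton.elim _ (AddCommGrpCat.subsingleton_of_isZero hz) s t
    exact IsZero.of_mono_zero C.homology C.homology

end Groth.Agent.S10221
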