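import Groth.Statements.S10225
import Groth.Agent.H12AlgSp.EtLocalRingProps

set_option autoImplicit false
universe u
open CategoryTheory CategoryTheory.Limits AlgebraicGeometry Topology TopologicalSpace
open AlgSp

namespace Groth.Agent.S10225

/-- Let X be an algebraic space over a scheme S and x̄ a geometric point of X lying over x ∈ |X|. Then
the local ring of X at x is reduced (for some etale chart h_U ⟶ X and some point u of U over x, the
local ring of U at u is reduced) if and only if the etale local ring of X at x̄ is reduced; in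
particular the latter does not depend on the choice of x̄ over x. -/
theorem result {S : Scheme.{u}} (X : AlgSp.Space S) (p : AlgSp.FieldPt X.obj) (hp : p.IsGeometric) :
    AlgSp.HasAt (fun U u => _root_.IsReduced ↥(U.presheaf.stalk u)) X.obj (AlgSp.Points.mk p) ↔
      _root_.IsReduced ↥(AlgSp.OEtStalk p) := by
  have hX := X.property
  have := Groth.Agent.H12AlgSp.isSepClosed_of_isGeometric hp
  have key : ∀ (U : Over S) (a : (AlgSp.yon S).obj U ⟶ X.obj) (u : ↥U.left), AlgSp.RepWith @Etale a →
      AlgSp.Points.ofPt a u = AlgSp.Points.mk p →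
      (_root_.IsReduced ↥(AlgSp.OEtStalk p) ↔ _root_.IsReduced ↥(U.left.presheaf.stalk u)) := by
    intro U a u ha hu
    obtain ⟨ξ, rfl, ⟨e⟩⟩ := Groth.Agent.H12AlgSp.exists_stalk_equiv hX hp ha hu
    rw [← Groth.Agent.H12AlgSp.etaleLocalRing_isReduced_iff]
    exact ⟨fun _ => isReduced_of_injective e.symm.toRingHom e.symm.injective,
      fun _ => isReduced_of_injective e.toRingHom e.injective⟩
  constructor
  · rintro ⟨U, a, u, ha, hu, hd⟩
    exact (key U a u ha hu).2 hd
  · intro hd
    obtain ⟨U, a, ha, l, hl⟩ := Groth.Agent.H12AlgSp.exists_atlas_nbhd p hX hp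
    have hu := (Groth.Agent.H12AlgSp.mk_geometric_of_lift (E := AlgSp.EtOver.mk a ha) ⟨l, hl⟩).symm
    exact ⟨U, a, _, ha, hu, (key U a _ ha hu).1 hd⟩

end Groth.Agent.S10225
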