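import Groth.Statements.S10226
import Groth.Agent.H12AlgSp.EtLocalRingProps

set_option autoImplicit false
universe u
open CategoryTheory CategoryTheory.Limits AlgebraicGeometry Topology TopologicalSpace
open AlgSp

namespace Groth.Agent.S10226

/-- Let X be a Noetherian algebraic space over a scheme S (quasi-compact, with quasi-compact diagonal
over S, and locally Noetherian) and x̄ a geometric point of X. Then the etale local ring of X at x̄
is a Noetherian local ring. -/
theorem result {S : Scheme.{u}} (X : AlgSp.Space S)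
    (hqc : AlgSp.IsQuasiCompactSp X.obj) (hqs : AlgSp.IsQuasiSeparatedSp X.obj) (hX : AlgSp.IsLocNoethSp X.obj)
    (p : AlgSp.FieldPt X.obj) (hp : p.IsGeometric) :
    IsNoetherianRing ↥(AlgSp.OEtStalk p) ∧ IsLocalRing ↥(AlgSp.OEtStalk p) := by
  have := Groth.Agent.H12AlgSp.isSepClosed_of_isGeometric hp
  obtain ⟨U, a, ha, hs, hU⟩ := hX
  have : IsLocallyNoetherian U.left := hU
  obtain ⟨u, hu⟩ := Groth.Agent.H12AlgSp.surjective_ofPt_of_repWith le_rfl hs (AlgSp.Points.mk p)
  obtain ⟨ξ, rfl, ⟨e⟩⟩ := Groth.Agent.H12AlgSp.exists_stalk_equiv X.property hp ha hu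
  have := (Groth.Agent.H12AlgSp.etaleLocalRing_isNoetherianRing_iff ξ).2 inferInstance
  exact ⟨isNoetherianRing_of_ringEquiv _ e.symm, e.symm.isLocalRing⟩

end Groth.Agent.S10226
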