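import Groth.Statements.S10227
import Groth.Agent.H12AlgSp.EtLocalRingProps

set_option autoImplicit false
universe u
open CategoryTheory CategoryTheory.Limits AlgebraicGeometry Topology TopologicalSpace
open AlgSp

namespace Groth.Agent.S10227

/-- (1) ⇔ (4) ⇔ (5): let X be an algebraic space over a scheme S and x ∈ |X|. The following are
equivalent: for every scheme U, every etale h_U ⟶ X and every point u of U over x, the local ring of
U at u has a unique minimal prime; for every such (U, u), the local ring of U at u is geometrically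
unibranch; for every geometric point x̄ over x, the etale local ring of X at x̄ has a unique minimal
prime. -/
theorem result {S : Scheme.{u}} (X : AlgSp.Space S) (x : AlgSp.Points X.obj) :
    ((∀ (U : Over S) (a : (AlgSp.yon S).obj U ⟶ X.obj) (u : ↥U.left),
        AlgSp.RepWith @Etale a → AlgSp.Points.ofPt a u = x → CAlgX.HasUniqueMinimalPrime ↥(U.left.presheaf.stalk u)) ↔
      (∀ (U : Over S) (a : (AlgSp.yon S).obj U ⟶ X.obj) (u : ↥U.left),
        AlgSp.RepWith @Etale a → AlgSp.Points.ofPt a u = x → CAlg2.IsGeomUnibranch ↥(U.left.presheaf.stalk u))) ∧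
    ((∀ (U : Over S) (a : (AlgSp.yon S).obj U ⟶ X.obj) (u : ↥U.left),
        AlgSp.RepWith @Etale a → AlgSp.Points.ofPt a u = x → CAlgX.HasUniqueMinimalPrime ↥(U.left.presheaf.stalk u)) ↔
      ∀ p : AlgSp.FieldPt X.obj, p.IsGeometric → AlgSp.Points.mk p = x →
        CAlgX.HasUniqueMinimalPrime ↥(AlgSp.OEtStalk p)) := by
  have hX := X.property
  have h21 : (∀ (U : Over S) (a : (AlgSp.yon S).obj U ⟶ X.obj) (u : ↥U.left),
      AlgSp.RepWith @Etale a → AlgSp.Points.ofPt a u = x → CAlg2.IsGeomUnibranch ↥(U.left.presheaf.stalk u)) →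
      ∀ (U : Over S) (a : (AlgSp.yon S).obj U ⟶ X.obj) (u : ↥U.left),
      AlgSp.RepWith @Etale a → AlgSp.Points.ofPt a u = x → CAlgX.HasUniqueMinimalPrime ↥(U.left.presheaf.stalk u) :=
    fun h U a u ha hu => Groth.Agent.H12AlgSp.hasUniqueMinimalPrime_of_isGeomUnibranch (h U a u ha hu)
  have h15 : (∀ (U : Over S) (a : (AlgSp.yon S).obj U ⟶ X.obj) (u : ↥U.left),
      AlgSp.RepWith @Etale a → AlgSp.Points.ofPt a u = x → CAlgX.HasUniqueMinimalPrime ↥(U.left.presheaf.stalk u)) →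
      ∀ p : AlgSp.FieldPt X.obj, p.IsGeometric → AlgSp.Points.mk p = x →
        CAlgX.HasUniqueMinimalPrime ↥(AlgSp.OEtStalk p) := by
    intro h p hp hpx
    have := Groth.Agent.H12AlgSp.isSepClosed_of_isGeometric hp
    obtain ⟨U, a, ha, l, hl⟩ := Groth.Agent.H12AlgSp.exists_atlas_nbhd p hX hp
    obtain ⟨e⟩ := Groth.Agent.H12AlgSp.exists_equiv_etaleLocalRing hX hp a ha l hl
    rw [Groth.Agent.H12AlgSp.hasUniqueMinimalPrime_iff_of_ringEquiv e]
    refine Groth.Agent.H12AlgSp.etaleLocalRing_uniqueMinimal_of_nbhds _ fun V z => ?_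
    let N := Groth.Agent.H12AlgSp.nbhdOfScheme a ha l hl V z
    exact h N.1.obj.left N.1.obj.hom _ N.1.property
      ((Groth.Agent.H12AlgSp.mk_geometric_of_lift N.2).symm.trans hpx)
  have h52 : (∀ p : AlgSp.FieldPt X.obj, p.IsGeometric → AlgSp.Points.mk p = x →
        CAlgX.HasUniqueMinimalPrime ↥(AlgSp.OEtStalk p)) →
      ∀ (U : Over S) (a : (AlgSp.yon S).obj U ⟶ X.obj) (u : ↥U.left),
      AlgSp.RepWith @Etale a → AlgSp.Points.ofPt a u = x → CAlg2.IsGeomUnibranch ↥(U.left.presheaf.stalk u) := by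
    intro h U a u ha hu
    obtain ⟨p, hp, l, hl⟩ := Groth.Agent.H12AlgSp.exists_geometric_lift (AlgSp.EtOver.mk a ha) u
    have := Groth.Agent.H12AlgSp.isSepClosed_of_isGeometric hp
    have hpx : AlgSp.Points.mk p = x := by
      rw [Groth.Agent.H12AlgSp.mk_geometric_of_lift l, hl]
      exact hu
    obtain ⟨ξ, rfl, ⟨e⟩⟩ := Groth.Agent.H12AlgSp.exists_stalk_equiv hX hp ha (hu.trans hpx.symm)
    exact (Groth.Agent.H12AlgSp.etaleLocalRing_uniqueMinimal_iff ξ).1
      ((Groth.Agent.H12AlgSp.hasUniqueMinimalPrime_iff_of_ringEquiv e).1 (h p hp hpx))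
  exact ⟨⟨fun h => h52 (h15 h), h21⟩, ⟨h15, fun h => h21 (h52 h)⟩⟩

end Groth.Agent.S10227
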