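import Groth.Statements.S10228
import Groth.Agent.H12AlgSp.CoprodSpace

set_option autoImplicit false
universe u
open CategoryTheory CategoryTheory.Limits AlgebraicGeometry Topology TopologicalSpace
open AlgSp

namespace Groth.Agent.S10228

/-- An algebraic space that is the coproduct of finitely many quasi-compact algebraic spaces is
quasi-compact: if X_i (i in a finite type) are quasi-compact algebraic spaces over a scheme S and
the underlying sheaf of the algebraic space X is a coproduct of the underlying sheaves of the X_i
(given by a colimit cofan of fppf sheaves whose cone point is the sheaf of X), then X is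
quasi-compact. -/
theorem result {S : Scheme.{u}} {ι : Type u} [Finite ι] (Xi : ι → AlgSp.Space S)
    (X : AlgSp.Space S) (c : Cofan fun i => (Xi i).obj) (hc : IsColimit c) (hX : c.pt = X.obj)
    (hqc : ∀ i, AlgSp.IsQuasiCompactSp (Xi i).obj) :
    AlgSp.IsQuasiCompactSp X.obj := by
  rw [← hX]
  exact Groth.Agent.H12AlgSp.isQuasiCompactSp_cofan (fun i => (Xi i).property) hc hqc

end Groth.Agent.S10228
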