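import Groth.Statements.S10229
import Groth.Agent.H12AlgSp.ToposPoints

set_option autoImplicit false
universe u
open CategoryTheory CategoryTheory.Limits AlgebraicGeometry Topology TopologicalSpace
open AlgSp

namespace Groth.Agent.S10229

/-- Let X be an algebraic space over a scheme S and let P be a point of the small etale topos of X,
given as a point of the site X_etale (a fibre functor). Then there is a geometric point x̄ of X such
that the stalk functor of P on sheaves of sets is isomorphic to the stalk functor F ↦ F_x̄. -/
theorem result {S : Scheme.{u}} (X : AlgSp.Space S)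
    (P : GrothendieckTopology.Point.{u} (AlgSp.etTop X.obj)) :
    ∃ p : AlgSp.FieldPt X.obj, p.IsGeometric ∧
      Nonempty (P.sheafFiber (A := Type (u + 1)) ≅ AlgSp.stalkEtFunctor (Type (u + 1)) p) := by
  obtain ⟨p, hp, ⟨e⟩⟩ := Groth.Agent.H12AlgSp.ToposPoints.exists_fiber_iso P
  let Φ := Groth.Agent.H12AlgSp.etPoint p X.property hp
  let i : Φ ≅ P := { hom := ⟨e.hom⟩, inv := ⟨e.inv⟩,
                     hom_inv_id := by ext1; exact e.inv_hom_id,
                     inv_hom_id := by ext1; exact e.hom_inv_id }
  exact ⟨p, hp, ⟨{ hom := i.hom.sheafFiber (A := Type (u + 1)), inv := i.inv.sheafFiber (A := Type (u + 1)),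
                   hom_inv_id :=
                     (GrothendieckTopology.Point.Hom.sheafFiber_comp i.inv i.hom).symm.trans
                       ((congrArg GrothendieckTopology.Point.Hom.sheafFiber i.inv_hom_id).trans
                         (GrothendieckTopology.Point.Hom.sheafFiber_id P))
                   inv_hom_id :=
                     (GrothendieckTopology.Point.Hom.sheafFiber_comp i.hom i.inv).symm.trans
                       ((congrArg GrothendieckTopology.Point.Hom.sheafFiber i.hom_inv_id).trans
                         (GrothendieckTopology.Point.Hom.sheafFiber_id Φ)) }⟩⟩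

end Groth.Agent.S10229
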