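import Groth.Statements.S1023
import Groth.Agent.H16Derived.KFlat.PerfNoeth

set_option autoImplicit false
universe u
open CategoryTheory CategoryTheory.Limits AlgebraicGeometry
attribute [local instance] HasDerivedCategory.standard
open Perf

namespace Groth.Agent.S1023

open CategoryTheory.Pretriangulated DerivedCategory DerivedCategory.TStructure
open Groth.Agent.H16Derived.KFlat.Stalk

theorem exists_isLE_perfect {X : Scheme.{u}} [CompactSpace ↥X] {P : DCoh.D X} (hP : DCoh.IsPerfect P) :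
    ∃ b : ℤ, P.IsLE b := by
  refine exists_isLE_of_local fun x => ?_
  obtain ⟨V, hx, E, hE, ⟨α⟩⟩ := (isPerfect_iff P).1 hP x
  obtain ⟨⟨a, b, hab⟩, -⟩ := hE
  haveI : CochainComplex.IsStrictlyLE E b :=
    (CochainComplex.isStrictlyLE_iff _ _).2 fun j hj => hab j (Or.inr hj)
  exact ⟨V, b, hx, t.isLE_of_iso α b⟩

/-- Let the scheme X be quasi-compact and quasi-separated, P a perfect object of D(O_X), E ∈ D_QCoh(O_X)
and a ∈ ℤ. Then the morphisms P[-i] ⟶ E vanish for all sufficiently negative i if and only if the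
morphisms P[-i] ⟶ τ_{≤ a}E vanish for all sufficiently negative i. -/
theorem result (X : Scheme.{u}) [CompactSpace ↥X] [QuasiSeparatedSpace ↥X]
    (P : DCoh.D X) (hP : DCoh.IsPerfect P) (E : DCoh.D X) (hE : DCoh.IsQCohD E) (a : ℤ) :
    (∃ N : ℤ, ∀ i : ℤ, i ≤ N → ∀ φ : P⟦-i⟧ ⟶ E, φ = 0) ↔
    (∃ N : ℤ, ∀ i : ℤ, i ≤ N → ∀ φ : P⟦-i⟧ ⟶ ((DerivedCategory.TStructure.t : CategoryTheory.Triangulated.TStructure (DCoh.D X)).truncLE a).obj E, φ = 0) := by
  obtain ⟨bP, hbP⟩ := exists_isLE_perfect hP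
  haveI := hbP
  let G := (t.truncGE (a + 1)).obj E
  have hT := t.triangleLTGE_distinguished (a + 1) E
  haveI : t.IsGE G (a + 1) := inferInstanceAs (t.IsGE _ _)
  haveI : t.IsGE (G⟦(-1 : ℤ)⟧) (a + 2) := t.isGE_shift G (a + 1) (-1) (a + 2) (by omega)
  have hz : ∀ i : ℤ, i ≤ a - bP → (∀ φ : P⟦-i⟧ ⟶ G, φ = 0) ∧ ∀ φ : P⟦-i⟧ ⟶ G⟦(-1 : ℤ)⟧, φ = 0 := fun i hi => by
    haveI : t.IsLE P bP := hbP
    haveI : t.IsLE (P⟦-i⟧) (bP + i) := t.isLE_shift P bP (-i) (bP + i) (by omega)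
    exact ⟨fun φ => t.zero φ (bP + i) (a + 1) (by omega), fun φ => t.zero φ (bP + i) (a + 2) (by omega)⟩
  constructor
  · rintro ⟨N, hN⟩
    refine ⟨min N (a - bP), fun i hi φ => ?_⟩
    have h := (hz i (hi.trans (min_le_right _ _))).2
    obtain ⟨ψ, hψ⟩ := Triangle.coyoneda_exact₂ _ (inv_rot_of_distTriang _ hT) φ
      (hN i (hi.trans (min_le_left _ _)) _)
    exact hψ.trans ((congrArg (· ≫ _) (h ψ)).trans zero_comp)
  · rintro ⟨N, hN⟩
    refine ⟨min N (a - bP), fun i hi φ => ?_⟩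
    obtain ⟨ψ, hψ⟩ := Triangle.coyoneda_exact₂ _ hT φ ((hz i (hi.trans (min_le_right _ _))).1 _)
    exact hψ.trans ((congrArg (· ≫ _) (hN i (hi.trans (min_le_left _ _)) ψ)).trans zero_comp)

end Groth.Agent.S1023
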