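import Groth.Statements.S10230
import Groth.Agent.H12AlgSp.EtSupport

set_option autoImplicit false
universe u
open CategoryTheory CategoryTheory.Limits AlgebraicGeometry Topology TopologicalSpace
open AlgSp

namespace Groth.Agent.S10230

/-- Let X be an algebraic space over a scheme S and F a subsheaf of the final object of the small etale
topos of X, i.e. a sheaf of sets all of whose section sets have at most one element. Then there is a
unique open W of |X| with F = h_W: for every U etale over X, F(U) is nonempty if and only if U ⟶ X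
maps |U| into W. -/
theorem result {S : Scheme.{u}} (X : AlgSp.Space S)
    (F : AlgSp.EtSh X.obj (Type (u + 1))) (hF : ∀ E : AlgSp.EtOver X.obj, Subsingleton (F.obj.obj (Opposite.op E))) :
    ∃! W : Set (AlgSp.Points X.obj), IsOpen W ∧
      ∀ E : AlgSp.EtOver X.obj, Nonempty (F.obj.obj (Opposite.op E)) ↔ Set.range (AlgSp.Points.ofPt E.obj.hom) ⊆ W := by
  let W : Set (AlgSp.Points X.obj) := ⋃ (E : AlgSp.EtOver X.obj) (_ : Nonempty (F.obj.obj (Opposite.op E))),
    Set.range (AlgSp.Points.ofPt E.obj.hom)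
  have hW : IsOpen W := isOpen_biUnion fun E _ => Groth.Agent.H12AlgSp.isOpen_range_ofPt E
  have hiff : ∀ E : AlgSp.EtOver X.obj,
      Nonempty (F.obj.obj (Opposite.op E)) ↔ Set.range (AlgSp.Points.ofPt E.obj.hom) ⊆ W := by
    intro E
    refine ⟨fun h => Set.subset_iUnion₂ (s := fun (E : AlgSp.EtOver X.obj) (_ : Nonempty (F.obj.obj (Opposite.op E))) =>
      Set.range (AlgSp.Points.ofPt E.obj.hom)) E h, fun h => ?_⟩
    let R : Sieve E := { arrows := fun V _ => Nonempty (F.obj.obj (Opposite.op V)),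
                         downward_closed := fun {V V' _} hg g => hg.map (F.obj.map g.op) }
    have hR : R ∈ AlgSp.etTop X.obj E := by
      refine Groth.Agent.H12AlgSp.mem_etTop_of_forall_point _ fun e => ?_
      obtain ⟨E', hE', e', he'⟩ := Set.mem_iUnion₂.1 (h ⟨e, rfl⟩)
      obtain ⟨p, hp, l, rfl⟩ := Groth.Agent.H12AlgSp.exists_geometric_lift E e
      obtain ⟨l', -⟩ := Groth.Agent.H12AlgSp.exists_lift_of_mk_eq hp E' e'
        (he'.trans (Groth.Agent.H12AlgSp.mk_geometric_of_lift l).symm)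
      obtain ⟨⟨V, y⟩, ⟨g, hg⟩, ⟨g', hg'⟩, -⟩ := Groth.Agent.H12AlgSp.etNbhd_cone_objs (p := p) ⟨E, l⟩ ⟨E', l'⟩
      refine ⟨V, g, y.1.left (default : Spec (CommRingCat.of p.K)), hE'.map (F.obj.map g'.op), ?_⟩
      exact congrArg (fun k : (AlgSp.FieldPt.liftsTo p).obj E => k.1.left (default : Spec (CommRingCat.of p.K))) hg
    have hsh := (isSheaf_iff_isSheaf_of_type _ _).1 F.property R hR
    let x : Presieve.FamilyOfElements F.obj R.arrows := fun V _ hf => hf.some
    have hx : x.Compatible := fun Y₁ Y₂ Z g₁ g₂ f₁ f₂ h₁ h₂ _ => @Subsingleton.elim _ (hF Z) _ _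
    exact ⟨hsh.amalgamate x hx⟩
  refine ⟨W, ⟨hW, hiff⟩, ?_⟩
  rintro W' ⟨hW', hiff'⟩
  obtain ⟨U, a, ha, has⟩ := X.property.atlas
  ext x
  constructor
  · intro hx
    obtain ⟨v, rfl⟩ := Groth.Agent.H12AlgSp.surjective_ofPt_of_repWith le_rfl has x
    let O : U.left.Opens := ⟨AlgSp.Points.ofPt a ⁻¹' W', hW'.preimage (AlgSp.Points.continuous_ofPt a)⟩
    let j : Over.mk (O.ι ≫ U.hom) ⟶ U := Over.homMk O.ι rfl
    let E : AlgSp.EtOver X.obj := AlgSp.EtOver.mk ((AlgSp.yon S).map j ≫ a)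
      ((AlgSp.repWith_isMultiplicative (S := S) @Etale).comp_mem _ _
        ((AlgSp.repWith_yon_map_iff _ _).2 (show Etale O.ι from inferInstance)) ha)
    have hE : Set.range (AlgSp.Points.ofPt E.obj.hom) ⊆ W' := by
      rintro _ ⟨z, rfl⟩
      exact (Groth.Agent.H12AlgSp.ofPt_map j a z).symm ▸ z.2
    refine Set.mem_iUnion₂.2 ⟨E, (hiff' E).2 hE, ⟨v, hx⟩, ?_⟩
    exact (Groth.Agent.H12AlgSp.ofPt_map j a ⟨v, hx⟩).trans rfl
  · intro hx
    obtain ⟨E, hE, hxE⟩ := Set.mem_iUnion₂.1 hx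
    exact (hiff' E).1 hE hxE

end Groth.Agent.S10230
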