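import Groth.Statements.S10232
import Groth.Agent.H12AlgSp.EtLocalRingProps

set_option autoImplicit false
universe u
open CategoryTheory CategoryTheory.Limits AlgebraicGeometry Topology TopologicalSpace
open AlgSp

namespace Groth.Agent.S10232

/-- Let X be an algebraic space over a scheme S and x ∈ |X|. Then X is regular at x (for some etale
chart h_U ⟶ X and some point u of U over x, the local ring of U at u is regular) if and only if the
etale local ring of X at x̄ is regular for every geometric point x̄ lying over x, if and only if it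
is regular for some geometric point x̄ lying over x. -/
theorem result {S : Scheme.{u}} (X : AlgSp.Space S) (x : AlgSp.Points X.obj) :
    (AlgSp.HasAt (fun U u => IsRegularLocalRing ↥(U.presheaf.stalk u)) X.obj x ↔
      ∀ p : AlgSp.FieldPt X.obj, p.IsGeometric → AlgSp.Points.mk p = x → IsRegularLocalRing ↥(AlgSp.OEtStalk p)) ∧
    (AlgSp.HasAt (fun U u => IsRegularLocalRing ↥(U.presheaf.stalk u)) X.obj x ↔
      ∃ p : AlgSp.FieldPt X.obj, p.IsGeometric ∧ AlgSp.Points.mk p = x ∧ IsRegularLocalRing ↥(AlgSp.OEtStalk p)) := by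
  have hX := X.property
  have key : ∀ (p : AlgSp.FieldPt X.obj), p.IsGeometric → ∀ (U : Over S) (a : (AlgSp.yon S).obj U ⟶ X.obj)
      (u : ↥U.left), AlgSp.RepWith @Etale a → AlgSp.Points.ofPt a u = AlgSp.Points.mk p →
      (IsRegularLocalRing ↥(AlgSp.OEtStalk p) ↔ IsRegularLocalRing ↥(U.left.presheaf.stalk u)) := by
    intro p hp U a u ha hu
    have := Groth.Agent.H12AlgSp.isSepClosed_of_isGeometric hp
    obtain ⟨ξ, rfl, ⟨e⟩⟩ := Groth.Agent.H12AlgSp.exists_stalk_equiv hX hp ha hu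
    rw [← Groth.Agent.H12AlgSp.etaleLocalRing_isRegular_iff]
    exact ⟨fun _ => IsRegularLocalRing.of_ringEquiv e, fun _ => IsRegularLocalRing.of_ringEquiv e.symm⟩
  have hall : AlgSp.HasAt (fun U u => IsRegularLocalRing ↥(U.presheaf.stalk u)) X.obj x →
      ∀ p : AlgSp.FieldPt X.obj, p.IsGeometric → AlgSp.Points.mk p = x → IsRegularLocalRing ↥(AlgSp.OEtStalk p) := by
    rintro ⟨U, a, u, ha, hu, h⟩ p hp rfl
    exact (key p hp U a u ha hu).2 h
  have hex : (∃ p : AlgSp.FieldPt X.obj, p.IsGeometric ∧ AlgSp.Points.mk p = x ∧ IsRegularLocalRing ↥(AlgSp.OEtStalk p)) →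
      AlgSp.HasAt (fun U u => IsRegularLocalRing ↥(U.presheaf.stalk u)) X.obj x := by
    rintro ⟨p, hp, rfl, h⟩
    obtain ⟨U, a, ha, l, hl⟩ := Groth.Agent.H12AlgSp.exists_atlas_nbhd p hX hp
    have hu := (Groth.Agent.H12AlgSp.mk_geometric_of_lift (E := AlgSp.EtOver.mk a ha) ⟨l, hl⟩).symm
    exact ⟨U, a, _, ha, hu, (key p hp U a _ ha hu).1 h⟩
  obtain ⟨p, hp, hpx⟩ := Groth.Agent.H12AlgSp.exists_geometric_over hX x
  exact ⟨⟨hall, fun h => hex ⟨p, hp, hpx, h p hp hpx⟩⟩, ⟨fun h => ⟨p, hp, hpx, hall h p hp hpx⟩, hex⟩⟩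

end Groth.Agent.S10232
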