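import Groth.Statements.S10234
import Groth.Agent.H12AlgSp.EtStalk
import Mathlib.CategoryTheory.Sites.CoverPreserving

set_option autoImplicit false
set_option backward.isDefEq.respectTransparency false
universe u
open CategoryTheory CategoryTheory.Limits AlgebraicGeometry Topology TopologicalSpace
open AlgSp

namespace Groth.Agent.S10234

variable {S : Scheme.{u}} {X Y : AlgSp.Space S} (f : X ⟶ Y) (hf : AlgSp.IsEtaleMor f.hom)

/-- A scheme over a lifted object, lifted. -/
noncomputable def liftObj {E : EtOver X.obj} {D : EtOver Y.obj} (g : D ⟶ (EtOver.postcomp f.hom hf).obj E) :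
    EtOver X.obj :=
  EtOver.mk ((yon S).map g.hom.left ≫ E.obj.hom)
    ((repWith_isMultiplicative (S := S) @Etale).comp_mem _ _
      ((repWith_yon_map_iff _ _).2 (EtOver.etale_left g)) E.property)

/-- The lifted morphism. -/
noncomputable def liftHom {E : EtOver X.obj} {D : EtOver Y.obj} (g : D ⟶ (EtOver.postcomp f.hom hf).obj E) :
    liftObj f hf g ⟶ E := EtOver.homMk g.hom.left rfl

/-- The lifted scheme is the original one over the target. -/
noncomputable def liftInto {E : EtOver X.obj} {D : EtOver Y.obj} (g : D ⟶ (EtOver.postcomp f.hom hf).obj E) :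
    D ⟶ (EtOver.postcomp f.hom hf).obj (liftObj f hf g) :=
  EtOver.homMk (𝟙 _) (by
    rw [CategoryTheory.Functor.map_id, Category.id_comp]
    change ((yon S).map g.hom.left ≫ E.obj.hom) ≫ f.hom = D.obj.hom
    rw [Category.assoc]
    exact EtOver.w g)

/-- The inverse direction. -/
noncomputable def liftOut {E : EtOver X.obj} {D : EtOver Y.obj} (g : D ⟶ (EtOver.postcomp f.hom hf).obj E) :
    (EtOver.postcomp f.hom hf).obj (liftObj f hf g) ⟶ D :=
  EtOver.homMk (𝟙 _) (by
    rw [CategoryTheory.Functor.map_id, Category.id_comp]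
    change D.obj.hom = ((yon S).map g.hom.left ≫ E.obj.hom) ≫ f.hom
    rw [Category.assoc]
    exact (EtOver.w g).symm)

theorem coverPreserving :
    CoverPreserving (etTop X.obj) (etTop Y.obj) (EtOver.postcomp f.hom hf) where
  cover_preserve {E R} hR := Groth.Agent.H12AlgSp.mem_etTop_of_forall_point _ fun x => by
    obtain ⟨E', g, hg, y, hy⟩ := Groth.Agent.H12AlgSp.jointly_surjective_of_mem_etTop hR x
    exact ⟨_, (EtOver.postcomp f.hom hf).map g, y, Sieve.image_mem_functorPushforward _ _ hg, hy⟩

theorem compatiblePreserving :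
    CompatiblePreserving.{u + 1} (etTop Y.obj) (EtOver.postcomp f.hom hf) where
  compatible ℱ {Z T x} hx {Y₁ Y₂ W} f₁ f₂ {g₁ g₂} hg₁ hg₂ e := by
    have e' : f₁.hom.left ≫ g₁.hom.left = f₂.hom.left ≫ g₂.hom.left := congrArg (fun k => k.hom.left) e
    let k₂ : liftObj f hf f₁ ⟶ Y₂ := EtOver.homMk f₂.hom.left (by
      change (yon S).map f₂.hom.left ≫ Y₂.obj.hom = (yon S).map f₁.hom.left ≫ Y₁.obj.hom
      rw [← EtOver.w g₁, ← EtOver.w g₂, ← Category.assoc, ← Category.assoc, ← Functor.map_comp,
        ← Functor.map_comp, e'])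
    have h := hx (liftHom f hf f₁) k₂ hg₁ hg₂ (EtOver.hom_ext _ _ e')
    have h₁ : f₁ = liftInto f hf f₁ ≫ (EtOver.postcomp f.hom hf).map (liftHom f hf f₁) :=
      EtOver.hom_ext _ _ (Category.id_comp _).symm
    have h₂ : f₂ = liftInto f hf f₁ ≫ (EtOver.postcomp f.hom hf).map k₂ :=
      EtOver.hom_ext _ _ (Category.id_comp _).symm
    rw [h₁, h₂, op_comp, op_comp, Functor.map_comp, Functor.map_comp]
    exact congrArg (ℱ.obj.map (liftInto f hf f₁).op) h

/-- Suppose f : X ⟶ Y is a morphism of algebraic spaces over a scheme S that is etale. Then the functor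
j : X_etale ⟶ Y_etale, (U ⟶ X) ↦ (U ⟶ X ⟶ Y), is continuous and cocontinuous for the etale
topologies. (The identification of the associated morphism of topoi with f_small, and the resulting
formula for inverse images, are not part of this row.) -/
theorem result {S : Scheme.{u}} {X Y : AlgSp.Space S} (f : X ⟶ Y)
    (hf : AlgSp.IsEtaleMor f.hom) :
    (AlgSp.EtOver.postcomp f.hom hf).IsContinuous (AlgSp.etTop X.obj) (AlgSp.etTop Y.obj) ∧
      (AlgSp.EtOver.postcomp f.hom hf).IsCocontinuous (AlgSp.etTop X.obj) (AlgSp.etTop Y.obj) := by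
  refine ⟨Functor.isContinuous_of_coverPreserving (compatiblePreserving f hf) (coverPreserving f hf),
    ⟨fun {E R} hR => Groth.Agent.H12AlgSp.mem_etTop_of_forall_point _ fun x => ?_⟩⟩
  obtain ⟨D, g, hg, y, hy⟩ := Groth.Agent.H12AlgSp.jointly_surjective_of_mem_etTop hR x
  refine ⟨liftObj f hf g, liftHom f hf g, y, ?_, hy⟩
  change R ((EtOver.postcomp f.hom hf).map (liftHom f hf g))
  rw [show (EtOver.postcomp f.hom hf).map (liftHom f hf g) = liftOut f hf g ≫ g from
    EtOver.hom_ext _ _ (Category.id_comp _).symm]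
  exact R.downward_closed hg _

end Groth.Agent.S10234
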