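import Groth.Statements.S10236
import Groth.Agent.H12AlgSp.FinLocFreeQuot
import Groth.Agent.H27Perf.Cancel

set_option autoImplicit false
universe u
open CategoryTheory CategoryTheory.Limits AlgebraicGeometry Topology TopologicalSpace
open AlgSp

namespace Groth.Agent.S10236

/-- Let (U, R, s, t, c) be a groupoid scheme over a scheme S with s, t finite locally free and j = (t,
s) an equivalence relation, such that in each nonempty closed subset of U some point has its whole
equivalence class inside an affine open of U; let U ⟶ M be a finite locally free morphism over S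
with R = U ×_M U (the square with t, s cartesian) such that h_M is the quotient of h_U by h_R ⇉ h_U
in fppf sheaves. Then (1) if U ⟶ S is quasi-separated so is M ⟶ S; (2) if U is quasi-separated so is
M; (3) if U ⟶ S is separated so is M ⟶ S; (4) if U is separated so is M. -/
theorem result {S : Scheme.{u}} (G : Grpd.GroupoidScheme S)
    (hs : Mor2.IsFinLocFree G.s) (ht : Mor2.IsFinLocFree G.t)
    (heq : AlgSp.IsEqvRel (Over.homMk G.s G.s_over : Over.mk G.pR ⟶ Over.mk G.pU) (Over.homMk G.t G.t_over : Over.mk G.pR ⟶ Over.mk G.pU))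
    (h3 : ∀ Z : Set ↥G.U, IsClosed Z → Z.Nonempty →
      ∃ u ∈ Z, ∃ W : G.U.Opens, IsAffineOpen W ∧ ∀ r : ↥G.R, G.s r = u → G.t r ∈ W)
    (M : Over S) (m : Over.mk G.pU ⟶ M) (hm : Mor2.IsFinLocFree m.left) (hR : IsPullback G.t G.s m.left m.left)
    (hq : QuotSh.IsQuotient Scheme.fppfPrecoverage (Over.homMk G.s G.s_over : Over.mk G.pR ⟶ Over.mk G.pU) (Over.homMk G.t G.t_over : Over.mk G.pR ⟶ Over.mk G.pU) m) :
    (QuasiSeparated G.pU → QuasiSeparated M.hom) ∧ (QuasiSeparatedSpace ↥G.U → QuasiSeparatedSpace ↥M.left) ∧
      (IsSeparated G.pU → IsSeparated M.hom) ∧ (G.U.IsSeparated → M.left.IsSeparated) := by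
  haveI : IsFinite m.left := hm.1
  haveI : Surjective m.left := Groth.Agent.H12AlgSp.surjective_of_isQuotient hq
  refine ⟨fun h => ?_, fun h => ?_, fun h => ?_, fun h => ?_⟩
  · haveI : QuasiSeparated (m.left ≫ M.hom) := by rw [Over.w m]; exact h
    exact Groth.Agent.H27Perf.quasiSeparated_of_comp_surjective m.left M.hom
  · rw [quasiSeparatedSpace_iff_quasiSeparated] at h ⊢
    haveI : QuasiSeparated (m.left ≫ terminal.from M.left) := by rw [terminal.comp_from]; exact h
    exact Groth.Agent.H27Perf.quasiSeparated_of_comp_surjective m.left _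
  · haveI : IsSeparated (m.left ≫ M.hom) := by rw [Over.w m]; exact h
    exact Groth.Agent.H27Perf.isSeparated_of_comp_surjective m.left M.hom
  · haveI : IsSeparated (m.left ≫ terminal.from M.left) := by rw [terminal.comp_from]; exact h.1
    exact ⟨Groth.Agent.H27Perf.isSeparated_of_comp_surjective m.left _⟩

end Groth.Agent.S10236
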