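import Groth.Statements.S10238
import Groth.Agent.H12AlgSp.EtRestrictMod

set_option autoImplicit false
set_option backward.isDefEq.respectTransparency false
universe u
open CategoryTheory CategoryTheory.Limits AlgebraicGeometry Topology TopologicalSpace
open AlgSp

namespace Groth.Agent.S10238

/-- Let X be an algebraic space over a scheme S and F a quasi-coherent O_X-module on the small etale
site of X. Then for every affine scheme U and every etale map p : h_U ⟶ X the pullback p^*F is
quasi-coherent. -/
theorem result {S : Scheme.{u}} (X : AlgSp.Space S) (F : AlgSp.ModEt X.obj)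
    (hF : F.IsQuasicoherent) {U : Over S} (hU : IsAffine U.left) (p : (AlgSp.yon S).obj U ⟶ X.obj)
    (hrep : AlgSp.Representable p) (hp : AlgSp.RepWith @Etale p)
    [(SheafOfModules.pushforward.{u + 1} (AlgSp.bcRingHom hrep)).IsRightAdjoint] :
    ((AlgSp.pullModEt hrep).obj F).IsQuasicoherent := by
  let U₀ : AlgSp.Space S := ⟨(AlgSp.yon S).obj U, IsAlgSpace.yon_obj U⟩
  let f : U₀ ⟶ X := ⟨p⟩
  have hf : IsEtaleMor f.hom := isEtaleMor_of_repWith p hp
  have := Groth.Agent.H12AlgSp.EtRes.isLeftAdjoint_postcomp f hf hrep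
  exact (SheafOfModules.isQuasicoherent.{u + 1} (OEtRing ((AlgSp.yon S).obj U))).prop_of_iso ((Groth.Agent.H12AlgSp.EtRes.pullIso f hf hrep).app F).symm
    (Groth.Agent.H12AlgSp.EtRes.isQuasicoherent_res f hf F hF)

end Groth.Agent.S10238
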