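import Groth.Statements.S1024
import Mathlib.CategoryTheory.Adjunction.PartialAdjoint
import Mathlib.CategoryTheory.Abelian.Exact

set_option autoImplicit false
universe v u u'
open CategoryTheory Opposite
open CohDer

namespace Groth.Agent.S1024

open CategoryTheory.Limits

section
variable {A : Type u} [Category.{v} A] [Abelian A] {B : Type u'} [Category.{v} B] [Abelian B]
  {u : A ⥤ B} {K P X : B} (d : K ⟶ P) (π : P ⟶ X) [Epi π] (w : d ≫ π = 0)
  {Q R : A} (e : (u ⋙ coyoneda.obj (op P)).CorepresentableBy Q)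
  (e' : (u ⋙ coyoneda.obj (op K)).CorepresentableBy R)

lemma corep_comm {Y : A} (q : Q ⟶ Y) (c : K ⟶ P) :
    c ≫ (e.homEquiv q : P ⟶ u.obj Y) =
      (e'.homEquiv (e'.homEquiv.symm (c ≫ (e.homEquiv (𝟙 Q) : P ⟶ u.obj Q)) ≫ q) : K ⟶ u.obj Y) := by
  rw [e.homEquiv_eq q, e'.homEquiv_comp, Equiv.apply_symm_apply]
  exact (Category.assoc _ _ _).symm

/-- The map between corepresenting objects. -/
noncomputable def dQ : R ⟶ Q := e'.homEquiv.symm (d ≫ (e.homEquiv (𝟙 Q) : P ⟶ u.obj Q))

/-- The map between corepresenting objects attached to zero. -/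
noncomputable def zQ : R ⟶ Q := e'.homEquiv.symm (0 ≫ (e.homEquiv (𝟙 Q) : P ⟶ u.obj Q))

lemma vanish_iff {Y : A} (q : Q ⟶ Y) :
    d ≫ (e.homEquiv q : P ⟶ u.obj Y) = 0 ↔ (dQ d e e' - zQ e e') ≫ q = 0 := by
  have h₁ := corep_comm e e' q d
  have h₂ := corep_comm e e' q (0 : K ⟶ P)
  rw [zero_comp] at h₂
  rw [h₁, h₂, Preadditive.sub_comp, sub_eq_zero]
  exact e'.homEquiv.injective.eq_iff

end

/-- Let u : A ⥤ B be a functor between abelian categories and P a family of objects of B such that each
object of B receives an epimorphism from some member of P, and such that for every member Pᵢ there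
is an object Q of A with Hom_A(Q, -) ≅ Hom_B(Pᵢ, u(-)) naturally. Then u is a right adjoint (has a
left adjoint). -/
theorem result {A : Type u} [Category.{v} A] [Abelian A] {B : Type u'} [Category.{v} B] [Abelian B]
    (u : A ⥤ B) {ι : Type*} (P : ι → B)
    (h1 : ∀ X : B, ∃ (i : ι) (π : P i ⟶ X), Epi π)
    (h2 : ∀ i : ι, ∃ Q : A, Nonempty (coyoneda.obj (op Q) ≅ u ⋙ coyoneda.obj (op (P i)))) :
    u.IsRightAdjoint := by
  refine Functor.isRightAdjoint_of_leftAdjointObjIsDefined_eq_top ?_
  ext X
  simp only [Pi.top_apply, Prop.top_eq_true, iff_true]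
  rw [Functor.leftAdjointObjIsDefined_iff]
  obtain ⟨i, π, hπ⟩ := h1 X
  obtain ⟨j, τ, hτ⟩ := h1 (kernel π)
  obtain ⟨Q, ⟨eQ⟩⟩ := h2 i
  obtain ⟨R, ⟨eR⟩⟩ := h2 j
  let e := (Functor.corepresentableByEquiv.symm eQ)
  let e' := (Functor.corepresentableByEquiv.symm eR)
  let d := τ ≫ kernel.ι π
  have hd : d ≫ π = 0 := by simp [d]
  have hex : (ShortComplex.mk d π hd).Exact := by
    have hk : (ShortComplex.mk (kernel.ι π) π (kernel.condition π)).Exact :=
      ShortComplex.exact_kernel π
    let φ : ShortComplex.mk d π hd ⟶ ShortComplex.mk (kernel.ι π) π (kernel.condition π) :=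
      ShortComplex.homMk τ (𝟙 _) (𝟙 _) (by simp [d]) (by simp)
    have : Epi φ.τ₁ := hτ
    have : IsIso φ.τ₂ := inferInstanceAs (IsIso (𝟙 _))
    have : Mono φ.τ₃ := inferInstanceAs (Mono (𝟙 _))
    exact (ShortComplex.exact_iff_of_epi_of_isIso_of_mono φ).2 hk
  have hπ' : Epi (ShortComplex.mk d π hd).g := hπ
  let C := cokernel (dQ d e e' - zQ e e')
  refine Functor.CorepresentableBy.isCorepresentable (X := C)
    { homEquiv := fun {Y} =>
        { toFun := fun f => hex.desc (e.homEquiv (cokernel.π _ ≫ f) : P i ⟶ u.obj Y)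
            ((vanish_iff d e e' _).2 (by rw [cokernel.condition_assoc, zero_comp]))
          invFun := fun g => cokernel.desc _ (e.homEquiv.symm (π ≫ (g : X ⟶ u.obj Y)))
            ((vanish_iff d e e' _).1 (by rw [Equiv.apply_symm_apply]; exact (reassoc_of% hd) _ |>.trans zero_comp))
          left_inv := fun f => by
            apply coequalizer.hom_ext
            refine (cokernel.π_desc _ _ _).trans ?_
            rw [Equiv.symm_apply_eq]
            exact hex.g_desc _ _
          right_inv := fun g => by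
            refine (cancel_epi π).1 ?_
            refine (hex.g_desc _ _).trans ?_
            rw [cokernel.π_desc]
            exact e.homEquiv.apply_symm_apply _ }
      homEquiv_comp := fun {Y Y'} g f => by
        refine (cancel_epi π).1 ?_
        refine (hex.g_desc _ _).trans ?_
        rw [← Category.assoc, e.homEquiv_comp]
        refine Eq.trans ?_ (Category.assoc _ _ _)
        exact congrArg (· ≫ u.map g) (hex.g_desc _ _).symm }

end Groth.Agent.S1024
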