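import Groth.Statements.S10240
import Groth.Agent.H12AlgSp.BCMod.EtSite

set_option autoImplicit false
universe u
open CategoryTheory CategoryTheory.Limits AlgebraicGeometry Topology TopologicalSpace
open AlgSp

namespace Groth.Agent.S10240

/-- Let X be an algebraic space over a scheme S. Colimits of quasi-coherent O_X-modules are
quasi-coherent; kernels and cokernels of maps between quasi-coherent O_X-modules are quasi-coherent;
and in a short exact sequence of O_X-modules, if two out of three are quasi-coherent then so is the
third. -/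
theorem result {S : Scheme.{u}} (X : AlgSp.Space S) :
    (∀ (J : Type u) [SmallCategory J] (D : J ⥤ AlgSp.ModEt X.obj) [HasColimit D],
        (∀ j, (D.obj j).IsQuasicoherent) → (colimit D).IsQuasicoherent) ∧
    (∀ (F G : AlgSp.ModEt X.obj) (φ : F ⟶ G), F.IsQuasicoherent → G.IsQuasicoherent →
        (kernel φ).IsQuasicoherent ∧ (cokernel φ).IsQuasicoherent) ∧
    (∀ C : ShortComplex (AlgSp.ModEt X.obj), C.ShortExact →
        (C.X₁.IsQuasicoherent → C.X₂.IsQuasicoherent → C.X₃.IsQuasicoherent) ∧
        (C.X₁.IsQuasicoherent → C.X₃.IsQuasicoherent → C.X₂.IsQuasicoherent) ∧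
        (C.X₂.IsQuasicoherent → C.X₃.IsQuasicoherent → C.X₁.IsQuasicoherent)) := by
  exact Groth.Agent.H12AlgSp.BCMod.qcoh_closure X.obj

end Groth.Agent.S10240
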