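import Groth.Statements.S10242
import Groth.Agent.H12AlgSp.Codim
import Groth.Prelude.Def_AlgSpOX
import Groth.Prelude.Def_AlgSpEt

set_option autoImplicit false
universe u
open CategoryTheory CategoryTheory.Limits AlgebraicGeometry Topology TopologicalSpace
open AlgSp

namespace Groth.Agent.S10242

/-- Let X be a reduced algebraic space over a scheme S. Then the ring of global sections of the
structure sheaf of X (on the small etale site) is reduced, and if a global section f satisfies X =
V(f), meaning that its restriction to every scheme U etale over X has empty non-vanishing locus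
D(f|_U), then f = 0. -/
theorem result {S : Scheme.{u}} (X : AlgSp.Space S) (hX : AlgSp.IsReducedSp X.obj) :
    _root_.IsReduced ↥(AlgSp.gsectEt (AlgSp.OEt X.obj)) ∧
      ∀ f : ↥(AlgSp.gsectEt (AlgSp.OEt X.obj)),
        (∀ E : AlgSp.EtOver X.obj,
            E.obj.left.left.basicOpen ((limit.π (AlgSp.OEt X.obj).obj (Opposite.op E)) f).down = ⊥) →
          f = 0 := by
  have key : ∀ E : AlgSp.EtOver X.obj, IsReduced E.obj.left.left := by
    intro E
    have : ∀ e : ↥E.obj.left.left, _root_.IsReduced (E.obj.left.left.presheaf.stalk e) := by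
      intro e
      obtain ⟨U, a, v, ha, he, hv⟩ :=
        (Groth.Agent.H12AlgSp.hasAt_isReduced_iff X.property).1 hX (AlgSp.Points.ofPt E.obj.hom e)
      obtain ⟨W, g, h, w, hg, hh, rfl, rfl⟩ :=
        Groth.Agent.H12AlgSp.exists_common_chart X.property ha E.property he
      have := Groth.Agent.H12AlgSp.isReduced_stalk_of_etale g.left w
      exact Groth.Agent.H12AlgSp.isReduced_stalk_of_flat h.left w
    exact isReduced_of_isReduced_stalk _
  have ext : ∀ x : ↥(AlgSp.gsectEt (AlgSp.OEt X.obj)),
      (∀ E : AlgSp.EtOver X.obj, (limit.π (AlgSp.OEt X.obj).obj (Opposite.op E)) x = 0) → x = 0 :=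
    fun x hx => Concrete.limit_ext _ x 0 fun E => (hx E.unop).trans (map_zero (limit.π (AlgSp.OEt X.obj).obj E).hom).symm
  refine ⟨⟨fun x hx => ext x fun E => ?_⟩, fun f hf => ext f fun E => ?_⟩
  · have := key E
    obtain ⟨n, hn⟩ := hx.map (limit.π (AlgSp.OEt X.obj).obj (Opposite.op E)).hom
    have h2 : IsNilpotent (R := Γ(E.obj.left.left, ⊤)) ((limit.π (AlgSp.OEt X.obj).obj (Opposite.op E)) x).down :=
      ⟨n, congrArg ULift.down hn⟩
    exact ULift.down_injective h2.eq_zero
  · have := key E
    exact ULift.down_injective (((AlgebraicGeometry.basicOpen_eq_bot_iff (X := E.obj.left.left) _).1 (hf E)))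

end Groth.Agent.S10242
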