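import Groth.Statements.S10244
import Groth.Agent.H12AlgSp.Codim

set_option autoImplicit false
universe u
open CategoryTheory CategoryTheory.Limits AlgebraicGeometry Topology TopologicalSpace
open AlgSp

namespace Groth.Agent.S10244

/-- Let X be an algebraic space over a scheme S and X_i ⟶ X a family of open subspaces. Then the X_i
form a Zariski covering of X in the sense that for every scheme T and every h_T ⟶ X the open
subschemes T ×_X X_i cover T, if and only if |X| is the union of the |X_i|. -/
theorem result {S : Scheme.{u}} (X : AlgSp.Space S) {ι : Type u} (Xi : ι → AlgSp.Space S)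
    (j : ∀ i, Xi i ⟶ X) (hj : ∀ i, AlgSp.RepWith @IsOpenImmersion (j i).hom) :
    AlgSp.IsZarCover (fun i => (Xi i).obj) (fun i => (j i).hom) ↔
      ∀ (T : Over S) (g : (AlgSp.yon S).obj T ⟶ X.obj) (t : ↥T.left),
        ∃ (i : ι) (P : Over S) (fst : (AlgSp.yon S).obj P ⟶ (Xi i).obj) (snd : P ⟶ T),
          IsPullback fst ((AlgSp.yon S).map snd) (j i).hom g ∧ t ∈ Set.range snd.left := by
  constructor
  · intro h T g t
    obtain ⟨i, hi⟩ := h.2 (AlgSp.Points.ofPt g t)
    obtain ⟨P, snd, fst, sq⟩ := (hj i).1 g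
    exact ⟨i, P, fst, snd, sq, (Groth.Agent.H12AlgSp.preimage_ofPt_range sq).le hi⟩
  · intro h
    refine ⟨hj, fun x => ?_⟩
    induction x using AlgSp.Points.ind with | h p => ?_
    obtain ⟨i, P, fst, snd, sq, hi⟩ := h p.pt p.toHom (IsLocalRing.closedPoint p.K)
    refine ⟨i, ?_⟩
    rw [← AlgSp.Points.ofPt_toHom p (IsLocalRing.closedPoint p.K)]
    exact (Groth.Agent.H12AlgSp.preimage_ofPt_range sq).ge hi

end Groth.Agent.S10244
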