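import Groth.Statements.S10247
import Groth.Agent.H12AlgSp.EtOpens

set_option autoImplicit false
universe u
open CategoryTheory CategoryTheory.Limits AlgebraicGeometry Topology TopologicalSpace
open AlgSp

namespace Groth.Agent.S10247

/-- Let X be an algebraic space over a scheme S. Together with its structure sheaf O_X, the small etale
site of X is a locally ringed site: for every scheme U etale over X and every global function f on U
there is a covering sieve of U in the small etale site along each of whose arrows f or 1 - f pulls
back to a unit, and whenever 0 = 1 holds in the ring of global functions of U the empty sieve covers
U. -/
theorem result {S : Scheme.{u}} (X : AlgSp.Space S) :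
    ModSite.IsLocallyRinged (AlgSp.etTop X.obj) (AlgSp.OEt X.obj) := by
  exact Groth.Agent.H12AlgSp.isLocallyRinged_OEt

end Groth.Agent.S10247
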