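import Groth.Statements.S10252
import Groth.Agent.H12AlgSp.EtRestrictMod

set_option autoImplicit false
set_option backward.isDefEq.respectTransparency false
universe u
open CategoryTheory CategoryTheory.Limits AlgebraicGeometry Topology TopologicalSpace
open AlgSp

namespace Groth.Agent.S10252

/-- Exactness clause, for a representable etale morphism: let f : X ⟶ Y be a representable etale
morphism of algebraic spaces over a scheme S. Then the pullback functor f^* from O_Y-modules to
O_X-modules on the small etale sites is exact: it preserves finite limits (finite colimits being
preserved because it is a left adjoint). (The published statement is for every etale morphism of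
algebraic spaces and also identifies f^* with restriction along the functor (U ⟶ X) ↦ (U ⟶ X ⟶ Y);
this row records exactness for representable f, where f^* is the left adjoint of the direct image V
↦ (V ×_Y X).) -/
theorem result {S : Scheme.{u}} {X Y : AlgSp.Space S} (f : X ⟶ Y)
    (hrep : AlgSp.Representable f.hom) (hf : AlgSp.IsEtaleMor f.hom)
    [(SheafOfModules.pushforward.{u + 1} (AlgSp.bcRingHom hrep)).IsRightAdjoint] :
    PreservesFiniteLimits (AlgSp.pullModEt hrep) := by
  have := Groth.Agent.H12AlgSp.EtRes.preservesFiniteLimits_res f hf
  exact preservesFiniteLimits_of_natIso (Groth.Agent.H12AlgSp.EtRes.pullIso f hf hrep).symm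

end Groth.Agent.S10252
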