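import Groth.Statements.S10257
import Groth.Agent.H12AlgSp.EtSupport

set_option autoImplicit false
universe u
open CategoryTheory CategoryTheory.Limits AlgebraicGeometry Topology TopologicalSpace
open AlgSp

namespace Groth.Agent.S10257

/-- Let X be an algebraic space over a scheme S and O' a sheaf of commutative rings on the small etale
site of X. Then the support of O', the set of points x ∈ |X| such that the stalk O'_x̄ is not the
zero ring for some geometric point x̄ over x, is closed in |X|. (The published definition of the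
support allows any, equivalently some, geometric point over x; this row uses the existential form
and does not assert that the two readings agree.) -/
theorem result {S : Scheme.{u}} (X : AlgSp.Space S)
    (O' : AlgSp.EtSh X.obj CommRingCat.{u + 1}) :
    IsClosed {x : AlgSp.Points X.obj |
      ∃ p : AlgSp.FieldPt X.obj, p.IsGeometric ∧ AlgSp.Points.mk p = x ∧ Nontrivial ↥(AlgSp.stalkEt p O')} := by
  have hX := X.property
  have := (preservesFilteredColimitsOfSize_shrink.{u, u + 1, u, u + 1} (forget CommRingCat.{u + 1}))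
  have : HasColimitsOfSize.{u, u} CommRingCat.{u + 1} := hasColimitsOfSizeShrink.{u, u, u + 1, u + 1} _
  let W : Set (AlgSp.Points X.obj) := ⋃ (E : AlgSp.EtOver X.obj) (_ : (1 : ↥(O'.obj.obj (Opposite.op E))) = 0),
    Set.range (AlgSp.Points.ofPt E.obj.hom)
  have key : ∀ (p : AlgSp.FieldPt X.obj), p.IsGeometric →
      ((1 : ↥(AlgSp.stalkEt p O')) = 0 ↔ AlgSp.Points.mk p ∈ W) := by
    intro p hp
    let Φ := Groth.Agent.H12AlgSp.etPoint p hX hp
    obtain ⟨U, a, ha, l, hl⟩ := Groth.Agent.H12AlgSp.exists_atlas_nbhd p hX hp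
    constructor
    · intro h
      let E₀ : AlgSp.EtOver X.obj := AlgSp.EtOver.mk a ha
      obtain ⟨V, g, y, hy, hg⟩ := (Φ.toPresheafFiber_eq_iff' (P := O'.obj) E₀ ⟨l, hl⟩ 1 0).1
        (((Φ.toPresheafFiber E₀ ⟨l, hl⟩ O'.obj).hom.map_one).trans
          (h.trans ((Φ.toPresheafFiber E₀ ⟨l, hl⟩ O'.obj).hom.map_zero).symm))
      refine Set.mem_iUnion₂.2 ⟨V, ?_, _, (Groth.Agent.H12AlgSp.mk_geometric_of_lift y).symm⟩
      exact ((O'.obj.map g.op).hom.map_one).symm.trans (hg.trans (O'.obj.map g.op).hom.map_zero)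
    · intro h
      obtain ⟨E, hE, e, he⟩ := Set.mem_iUnion₂.1 h
      obtain ⟨y, -⟩ := Groth.Agent.H12AlgSp.exists_lift_of_mk_eq hp E e he
      exact ((Φ.toPresheafFiber E y O'.obj).hom.map_one).symm.trans
        ((congrArg _ hE).trans (Φ.toPresheafFiber E y O'.obj).hom.map_zero)
  suffices h : {x : AlgSp.Points X.obj | ∃ p : AlgSp.FieldPt X.obj, p.IsGeometric ∧ AlgSp.Points.mk p = x ∧
      Nontrivial ↥(AlgSp.stalkEt p O')} = Wᶜ by
    rw [h]
    exact (isOpen_biUnion fun E _ => Groth.Agent.H12AlgSp.isOpen_range_ofPt E).isClosed_compl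
  ext x
  constructor
  · rintro ⟨p, hp, rfl, hn⟩ hm
    exact one_ne_zero ((key p hp).2 hm)
  · intro hx
    obtain ⟨p, hp, rfl⟩ := Groth.Agent.H12AlgSp.exists_geometric_over hX x
    exact ⟨p, hp, rfl, ⟨1, 0, fun h => hx ((key p hp).1 h)⟩⟩

end Groth.Agent.S10257
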