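import Groth.Statements.S1026
import Groth.Agent.LeadBC.GenBC.Semicont
import Groth.Agent.H29Fitt.FP
import Mathlib.Algebra.BigOperators.Finprod

set_option autoImplicit false
universe u
open CategoryTheory AlgebraicGeometry
open Perf

namespace Groth.Agent.S1026

open Groth.Agent.H06FlatCx Groth.Agent.LeadBC Groth.Agent.LeadBC.GenBC TensorProduct

attribute [local instance 10000] Groth.Agent.H10Coh.hasSheafifyAb Groth.Agent.H10Coh.hasWeakSheafifyAb Groth.Agent.H10Coh.hasExtAb Groth.Agent.H10Coh.enoughInjAb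

theorem alt_telescope (g : ℕ → ℤ) (n : ℕ) :
    ∑ i ∈ Finset.range n, (-1 : ℤ) ^ i * (g i + g (i + 1)) = g 0 - (-1) ^ n * g n := by
  induction n with
  | zero => simp
  | succ n ih => rw [Finset.sum_range_succ, ih, pow_succ]; ring

theorem fibDim_of_subsingleton {A : Type u} [CommRing A] (M : Type u) [AddCommGroup M] [Module A M] [Subsingleton M]
    (x : PrimeSpectrum A) : fibDim (A := A) M x = 0 :=
  Module.finrank_zero_of_subsingleton

open CategoryTheory.Limits in
theorem dRank_eq_zero_above {X : Scheme.{u}} {A : Type u} [CommRing A] [X.Over (Spec (CommRingCat.of A))]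
    {F : X.Modules} {ι : Type u} {U : ι → X.Opens} (m : Model (A := A) X F U) (x : PrimeSpectrum A) :
    CohIII.dRank m.P ((m.N : ℤ) + 1) x = 0 := by
  let K := x.asIdeal.ResidueField
  let j := (m.N : ℤ) + 1
  have hzX : IsZero ((KD U F m.N (A := A)).X j) :=
    (KC A U F).isZero_extend_X (embN m.N) j fun p hp => by
      simp only [embN_f, j] at hp; omega
  have hz : IsZero (CohIII.T (KD U F m.N (A := A)) j (ModuleCat.of A K)) :=
    ShortComplex.isZero_homology_of_isZero_X₂ _ ((MonoidalCategory.tensorRight (ModuleCat.of A K)).map_isZero hzX)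
  haveI : Subsingleton (CohIII.T (KD U F m.N (A := A)) j (ModuleCat.of A K)) := ModuleCat.subsingleton_of_isZero hz
  have hs : Subsingleton (CohIII.T m.P j (ModuleCat.of A K)) := (m.qis j _).1.subsingleton
  have h := (subsingleton_homQuot_field_iff m.P (fun i => (m.finite_free i).1) j).2 hs
  rw [hqRank_eq m.P (down_prev j) (down_next j)] at h
  exact h

/-- The alternating sum of the fibre ranks is locally constant. -/
theorem exists_chi {X : Scheme.{u}} {A : Type u} [CommRing A] [X.Over (Spec (CommRingCat.of A))]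
    {F : X.Modules} {ι : Type u} {U : ι → X.Opens} (m : Model (A := A) X F U) :
    ∃ χ : PrimeSpectrum A → ℤ, IsLocallyConstant χ ∧ ∀ x,
      (finsum fun i : ℕ => (-1 : ℤ) ^ i * (CohIII.dRank m.P ((m.N : ℤ) - i) x : ℤ)) = χ x := by
  let C : ℤ → PrimeSpectrum A → ℕ := fun j x => fibDim (A := A) (m.P.X j ⧸ LinearMap.range (m.P.d (j + 1) j).hom) x
  let D : ℤ → PrimeSpectrum A → ℕ := fun j x => fibDim (A := A) (m.P.X j) x
  have hfin : ∀ j, Module.Finite A (m.P.X j) := fun j => (m.finite_free j).1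
  have hfree : ∀ j, Module.Free A (m.P.X j) := fun j => (m.finite_free j).2
  have hadd : ∀ j x, (CohIII.dRank m.P j x : ℤ) = C j x + C (j - 1) x - D (j - 1) x := fun j x => by
    haveI := hfin j
    haveI := hfin (j - 1)
    have h := dRank_add m.P (down_prev j) (down_next j) x
    have e : C (j - 1) x = fibDim (A := A) (m.P.X (j - 1) ⧸ LinearMap.range (m.P.d j (j - 1)).hom) x := by
      simp only [C]; rw [sub_add_cancel]
    simp only [C, D] at e ⊢
    rw [e]
    omega
  have hC : ∀ j, j < 0 → ∀ x, C j x = 0 := fun j hj x => by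
    haveI := ModuleCat.subsingleton_of_isZero (m.isZero_neg j hj)
    exact fibDim_of_subsingleton _ x
  have hD : ∀ j, j < 0 → ∀ x, D j x = 0 := fun j hj x => by
    haveI := ModuleCat.subsingleton_of_isZero (m.isZero_neg j hj)
    exact fibDim_of_subsingleton _ x
  have hDc : ∀ j, IsLocallyConstant (D j) := fun j => by
    haveI := hfin j
    haveI := hfree j
    haveI : Module.FinitePresentation A (m.P.X j) := Module.finitePresentation_of_projective A _
    rw [show D j = Module.rankAtStalk (R := A) (m.P.X j) from funext (fibDim_eq_rankAtStalk (m.P.X j))]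
    exact Module.isLocallyConstant_rankAtStalk
  have htop : ∀ x, C ((m.N : ℤ) + 1) x + C (m.N : ℤ) x = D (m.N : ℤ) x := fun x => by
    have h := hadd ((m.N : ℤ) + 1) x
    rw [dRank_eq_zero_above m x, add_sub_cancel_right] at h
    omega
  have hCc : IsLocallyConstant (C (m.N : ℤ)) := by
    refine (IsLocallyConstant.iff_eventually_eq _).2 fun x => ?_
    haveI := hfin (m.N : ℤ)
    haveI := hfin ((m.N : ℤ) + 1)
    have h1 := (isOpen_fibDim_le (A := A) (m.P.X (m.N : ℤ) ⧸ LinearMap.range (m.P.d ((m.N : ℤ) + 1) (m.N : ℤ)).hom) (C (m.N : ℤ) x)).mem_nhds (le_refl (C (m.N : ℤ) x))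
    have h2 := (isOpen_fibDim_le (A := A) (m.P.X ((m.N : ℤ) + 1) ⧸ LinearMap.range (m.P.d ((m.N : ℤ) + 1 + 1) ((m.N : ℤ) + 1)).hom) (C ((m.N : ℤ) + 1) x)).mem_nhds (le_refl (C ((m.N : ℤ) + 1) x))
    filter_upwards [h1, h2, (hDc (m.N : ℤ)).isOpen_fiber (D (m.N : ℤ) x) |>.mem_nhds rfl] with y e1 e2 e3
    change C (m.N : ℤ) y ≤ C (m.N : ℤ) x at e1
    change C ((m.N : ℤ) + 1) y ≤ C ((m.N : ℤ) + 1) x at e2
    change D (m.N : ℤ) y = D (m.N : ℤ) x at e3
    have := htop x
    have := htop y
    omega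
  let s : ℕ := m.N + 1
  refine ⟨fun x => (C (m.N : ℤ) x : ℤ) - ∑ i ∈ Finset.range s, (-1 : ℤ) ^ i * (D ((m.N : ℤ) - i - 1) x : ℤ), ?_, fun x => ?_⟩
  · refine (IsLocallyConstant.iff_eventually_eq _).2 fun x => ?_
    have hall : ∀ᶠ y in nhds x, ∀ i ∈ Finset.range s, D ((m.N : ℤ) - i - 1) y = D ((m.N : ℤ) - i - 1) x :=
      (Finset.eventually_all (Finset.range s)).2 fun i _ => (IsLocallyConstant.iff_eventually_eq _).1 (hDc _) x
    filter_upwards [(IsLocallyConstant.iff_eventually_eq _).1 hCc x, hall] with y h1 h2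
    rw [h1]
    exact congrArg _ (Finset.sum_congr rfl fun i hi => by rw [h2 i hi])
  · have hz : ∀ i : ℕ, s ≤ i → CohIII.dRank m.P ((m.N : ℤ) - i) x = 0 := fun i hi => by
      have h := hadd ((m.N : ℤ) - i) x
      rw [hC _ (by omega), hC _ (by omega), hD _ (by omega)] at h
      omega
    rw [finsum_eq_finsetSum_of_support_subset (s := Finset.range s) _ (fun i hi => ?_)]
    · let g : ℕ → ℤ := fun i => (C ((m.N : ℤ) - i) x : ℤ)
      have ht := alt_telescope g s
      have hgs : g s = 0 := by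
        simp only [g]
        rw [hC _ (by omega)]
        rfl
      rw [hgs, mul_zero, sub_zero] at ht
      rw [Finset.sum_congr rfl (fun (i : ℕ) _ => show (-1 : ℤ) ^ i * (CohIII.dRank m.P ((m.N : ℤ) - i) x : ℤ) =
        (-1 : ℤ) ^ i * (g i + g (i + 1)) - (-1 : ℤ) ^ i * (D ((m.N : ℤ) - i - 1) x : ℤ) from by
          rw [hadd]; simp only [g]; rw [show (m.N : ℤ) - ((i + 1 : ℕ) : ℤ) = (m.N : ℤ) - i - 1 by push_cast; ring]; ring),
        Finset.sum_sub_distrib, ht]
      simp only [g, Nat.cast_zero, sub_zero]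
    · simp only [Finset.coe_range, Set.mem_Iio]
      by_contra hne
      exact hi (by simp only [hz i (not_lt.1 hne), Nat.cast_zero, mul_zero])

/-- Let f : X ⟶ S be proper and of finite presentation and F an O_X-module of finite presentation which
is flat over S. Then the Euler characteristic s ↦ χ(X_s, F_s) = Σᵢ (-1)ⁱ dim_{κ(s)} Hⁱ(X_s, F_s) is
a locally constant function on S. (The source adds that its formation commutes with base change.) -/
theorem result {X S : Scheme.{u}} (f : X ⟶ S) [IsProper f] [LocallyOfFinitePresentation f]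
    (F : X.Modules) (hF : CohB1.IsFP F) (hflat : FlatMod.IsFlatOver f F) :
    IsLocallyConstant (fun s : S => PerfAux.eulerChar f F s) := by
  haveI : F.IsQuasicoherent := Groth.Agent.H29Fitt.isQCoh_of_isFP F hF
  refine (IsLocallyConstant.iff_exists_open _).2 fun s => ?_
  obtain ⟨V, hV, hsV, -⟩ := exists_isAffineOpen_mem_and_subset (U := (⊤ : S.Opens)) (x := s) trivial
  letI := preOver f hV
  obtain ⟨ι, _, U, hU, ⟨m⟩⟩ := exists_chart f hV F hF hflat
  obtain ⟨χ, hχ, hχ'⟩ := exists_chi m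
  have h : ∀ (y : S) (hy : y ∈ V), PerfAux.eulerChar f F y = χ (hV.primeIdealOf ⟨y, hy⟩) := fun y hy => by
    rw [← hχ']
    refine finsum_congr fun i => ?_
    have hb : PerfAux.betti f F y i = CohIII.dRank m.P ((m.N : ℤ) - i) (hV.primeIdealOf ⟨y, hy⟩) :=
      (subsingleton_fiberH_iff f hV hU m hy i).2
    rw [hb]
  have ho : IsOpen {x : V | χ (hV.primeIdealOf x) = χ (hV.primeIdealOf ⟨s, hsV⟩)} :=
    (hχ.isOpen_fiber _).preimage hV.isoSpec.hom.continuous
  refine ⟨Subtype.val '' {x : V | χ (hV.primeIdealOf x) = χ (hV.primeIdealOf ⟨s, hsV⟩)},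
    V.isOpen.isOpenEmbedding_subtypeVal.isOpenMap _ ho, ⟨⟨s, hsV⟩, rfl, rfl⟩, ?_⟩
  rintro _ ⟨x, hx, rfl⟩
  exact (h x.1 x.2).trans (hx.trans (h s hsV).symm)

end Groth.Agent.S1026
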