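import Groth.Statements.S10261
import Groth.Agent.H12AlgSp.Immersion

set_option autoImplicit false
universe u
open CategoryTheory CategoryTheory.Limits AlgebraicGeometry
open AlgSp

namespace Groth.Agent.S10261

/-- An etale and universally injective morphism of algebraic spaces is an open immersion. -/
theorem result {S : Scheme.{u}} {X Y : AlgSp.Space S}
    (f : X ⟶ Y) (het : AlgSp.IsEtaleMor f.hom) (hinj : AlgSp.IsUnivInjectiveMor f.hom) :
    AlgSp.RepWith @IsOpenImmersion f.hom := by
  open Groth.Agent.H12AlgSp Groth.Agent.H13AlgSp in
  exact repWith_isOpenImmersion_of_univInjective X.property Y.property het hinj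

end Groth.Agent.S10261
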