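import Groth.Statements.S10264
import Groth.Agent.H12AlgSp.LocPCancel

set_option autoImplicit false
universe u
open CategoryTheory CategoryTheory.Limits AlgebraicGeometry
open AlgSp

namespace Groth.Agent.S10264

/-- An immersion of algebraic spaces is unramified. -/
theorem result {S : Scheme.{u}} {X Y : AlgSp.Space S} (i : X ⟶ Y)
    (hi : AlgSp.RepWith @IsImmersion i.hom) :
    AlgSp.LocP (@LocallyOfFiniteType ⊓ @FormallyUnramified) i.hom := by
  refine Groth.Agent.H12AlgSp.locP_of_repWith (Groth.Agent.H12AlgSp.etLocal_inf Groth.Agent.H12AlgSp.etLocal_lft Groth.Agent.H12AlgSp.etLocal_formallyUnramified)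
    (Groth.Agent.H12AlgSp.repWith_le ?_ hi)
  intro A B g (hg : IsImmersion g)
  exact ⟨inferInstanceAs (LocallyOfFiniteType g), inferInstanceAs (FormallyUnramified g)⟩

end Groth.Agent.S10264
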