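import Groth.Statements.S10265
import Groth.Agent.H12AlgSp.LocPCancel

set_option autoImplicit false
universe u
open CategoryTheory CategoryTheory.Limits AlgebraicGeometry
open AlgSp

namespace Groth.Agent.S10265

/-- Whenever a morphism of algebraic spaces is etale, it is, etale locally on both source and target,
smooth, flat, unramified, locally quasi-finite, locally of finite type and locally of finite
presentation. -/
theorem result {S : Scheme.{u}} {X Y : AlgSp.Space S} (f : X ⟶ Y) (hf : AlgSp.IsEtaleMor f.hom) :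
    AlgSp.LocP (@LocallyQuasiFinite ⊓ @LocallyOfFiniteType) f.hom ∧ AlgSp.LocP @Smooth f.hom ∧
    AlgSp.LocP @Flat f.hom ∧ AlgSp.LocP @LocallyOfFinitePresentation f.hom ∧
    AlgSp.LocP @LocallyOfFiniteType f.hom ∧ AlgSp.LocP (@LocallyOfFiniteType ⊓ @FormallyUnramified) f.hom := by
  have h := Groth.Agent.H12AlgSp.locP_etale_of_isEtaleMor hf
  have hle : ∀ {P : MorphismProperty Scheme.{u}}, Groth.Agent.H12AlgSp.EtLocal P → AlgSp.LocP P f.hom :=
    fun hP => Groth.Agent.H12AlgSp.locP_mono hP.etale_le h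
  exact ⟨hle (Groth.Agent.H12AlgSp.etLocal_inf Groth.Agent.H12AlgSp.etLocal_lqf Groth.Agent.H12AlgSp.etLocal_lft), hle Groth.Agent.H12AlgSp.etLocal_smooth, hle Groth.Agent.H12AlgSp.etLocal_flat,
    hle Groth.Agent.H12AlgSp.etLocal_lfp, hle Groth.Agent.H12AlgSp.etLocal_lft,
    hle (Groth.Agent.H12AlgSp.etLocal_inf Groth.Agent.H12AlgSp.etLocal_lft Groth.Agent.H12AlgSp.etLocal_formallyUnramified)⟩

end Groth.Agent.S10265
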