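import Groth.Statements.S10272
import Groth.Agent.H12AlgSp.AffineMor

set_option autoImplicit false
universe u
open CategoryTheory CategoryTheory.Limits AlgebraicGeometry
open AlgSp

namespace Groth.Agent.S10272

/-- If g is separated and the composite of f and g is finite (resp. integral) then f is finite (resp.
integral). -/
theorem result {S : Scheme.{u}} {X Y Z : AlgSp.Space S} (f : X ⟶ Y) (g : Y ⟶ Z)
    (hg : AlgSp.IsSeparatedMor g.hom) :
    (AlgSp.IsFiniteMor (f ≫ g).hom → AlgSp.IsFiniteMor f.hom) ∧
    (AlgSp.IsIntegralMor (f ≫ g).hom → AlgSp.IsIntegralMor f.hom) := by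
  open Groth.Agent.H12AlgSp Groth.Agent.H13AlgSp in
  exact ⟨fun h => isFiniteMor_iff.2 (repWith_of_comp_separated
      (fun _ _ k (_ : IsClosedImmersion k) => inferInstanceAs (IsFinite k)) hg (isFiniteMor_iff.1 h)),
    fun h => isIntegralMor_iff.2 (repWith_of_comp_separated
      (fun _ _ k (_ : IsClosedImmersion k) => inferInstanceAs (IsIntegralHom k)) hg (isIntegralMor_iff.1 h))⟩

end Groth.Agent.S10272
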