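import Groth.Statements.S10275
import Groth.Agent.H12AlgSp.Proper

set_option autoImplicit false
universe u
open CategoryTheory CategoryTheory.Limits AlgebraicGeometry
open AlgSp

namespace Groth.Agent.S10275

/-- A base change of a proper morphism of algebraic spaces is proper. -/
theorem result {S : Scheme.{u}} {X Y Y' X' : AlgSp.Space S} (f : X ⟶ Y) (g : Y' ⟶ Y)
    (fst : X' ⟶ X) (f' : X' ⟶ Y') (sq : IsPullback fst.hom f'.hom f.hom g.hom) (hf : AlgSp.IsProperMor f.hom) :
    AlgSp.IsProperMor f'.hom := by
  exact Groth.Agent.H12AlgSp.isProperMor_of_isPullback X.property Y.property Y'.property sq hf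

end Groth.Agent.S10275
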