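import Groth.Statements.S10280
import Groth.Agent.H12AlgSp.Proper

set_option autoImplicit false
universe u
open CategoryTheory CategoryTheory.Limits AlgebraicGeometry
open AlgSp

namespace Groth.Agent.S10280

/-- F is separated if and only if its diagonal is universally closed, if and only if its diagonal is
proper. -/
theorem result {S : Scheme.{u}} {X Y : AlgSp.Space S} (f : X ⟶ Y) :
    (AlgSp.IsSeparatedMor f.hom ↔ AlgSp.IsUnivClosedMor (pullback.diagonal f.hom)) ∧
    (AlgSp.IsSeparatedMor f.hom ↔ AlgSp.IsProperMor (pullback.diagonal f.hom)) := by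
  exact Groth.Agent.H12AlgSp.isSeparatedMor_iff X.property Y.property f.hom

end Groth.Agent.S10280
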