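import Groth.Statements.S10284
import Groth.Agent.H12AlgSp.SepDescent

set_option autoImplicit false
universe u
open CategoryTheory CategoryTheory.Limits AlgebraicGeometry
open AlgSp

namespace Groth.Agent.S10284

/-- For a separated morphism of algebraic spaces, a valuative square that has a lift after a dominating
extension of the valuation ring already has a lift. -/
theorem result {S : Scheme.{u}} {X Y : AlgSp.Space S} (f : X ⟶ Y)
    (hf : AlgSp.IsSeparatedMor f.hom) (sq : AlgSp.ValSq f.hom) (e : sq.DomExt) (he : e.HasLift) :
    sq.HasLift := by
  exact Groth.Agent.H12AlgSp.hasLift_of_domExt_of_separated X.property Y.property hf sq e he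

end Groth.Agent.S10284
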