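import Groth.Statements.S10286
import Groth.Agent.H12AlgSp.Valuative

set_option autoImplicit false
universe u
open CategoryTheory CategoryTheory.Limits AlgebraicGeometry
open AlgSp

namespace Groth.Agent.S10286

/-- The existence and uniqueness parts of the valuative criterion are stable under base change. -/
theorem result {S : Scheme.{u}} {X Y Z X' : AlgSp.Space S} (f : X ⟶ Y) (g : Z ⟶ Y)
    (fst : X' ⟶ X) (f' : X' ⟶ Z) (sq : IsPullback fst.hom f'.hom f.hom g.hom) :
    (AlgSp.ExistVC f.hom → AlgSp.ExistVC f'.hom) ∧ (AlgSp.UniqVC f.hom → AlgSp.UniqVC f'.hom) := by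
  exact ⟨Groth.Agent.H12AlgSp.existVC_of_isPullback sq, Groth.Agent.H12AlgSp.uniqVC_of_isPullback sq⟩

end Groth.Agent.S10286
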