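import Groth.Statements.S10289
import Groth.Agent.H12AlgSp.ValuativeQS

set_option autoImplicit false
universe u
open CategoryTheory CategoryTheory.Limits AlgebraicGeometry
open AlgSp

namespace Groth.Agent.S10289

/-- A quasi-separated universally closed morphism of algebraic spaces meets the existence half of the
valuative criterion. -/
theorem result {S : Scheme.{u}} {X Y : AlgSp.Space S} (f : X ⟶ Y)
    (hqs : AlgSp.IsQuasiSeparatedMor f.hom) (hc : AlgSp.IsUnivClosedMor f.hom) : AlgSp.ExistVC f.hom := by
  exact Groth.Agent.H12AlgSp.existVC_of_isUnivClosedMor X.property Y.property hqs hc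

end Groth.Agent.S10289
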