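import Groth.Statements.S10292
import Groth.Agent.H12AlgSp.ValuativeFlat

set_option autoImplicit false
universe u
open CategoryTheory CategoryTheory.Limits AlgebraicGeometry
open AlgSp

namespace Groth.Agent.S10292

/-- Along a flat morphism of algebraic spaces, a morphism from the spectrum of a valuation ring to the
target whose closed point is hit lifts to the source after an extension of valuation rings
(injective and local). -/
theorem result {S : Scheme.{u}} {X Y : AlgSp.Space S} (f : X ⟶ Y)
    (hf : AlgSp.LocP @Flat f.hom) (A : Type u) [CommRing A] [IsDomain A] [ValuationRing A]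
    (str : Spec (.of A) ⟶ S) (b : (AlgSp.yon S).obj (Over.mk str) ⟶ Y.obj)
    (hb : AlgSp.Points.ofPt b (IsLocalRing.closedPoint A) ∈ Set.range (AlgSp.Points.map f.hom)) :
    ∃ (A' : Type u) (_ : CommRing A') (_ : IsDomain A') (_ : ValuationRing A') (φ : A →+* A'),
      Function.Injective φ ∧ IsLocalHom φ ∧
      ∃ l : (AlgSp.yon S).obj (Over.mk (Spec.map (CommRingCat.ofHom φ) ≫ str)) ⟶ X.obj,
        l ≫ f.hom = (AlgSp.yon S).map (Over.homMk (Spec.map (CommRingCat.ofHom φ)) rfl :
          Over.mk (Spec.map (CommRingCat.ofHom φ) ≫ str) ⟶ Over.mk str) ≫ b := by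
  exact Groth.Agent.H12AlgSp.exists_lift_valuation_of_flat X.property Y.property hf A str b hb

end Groth.Agent.S10292
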