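import Groth.Statements.S10294
import Groth.Agent.H12AlgSp.AffineMor
import Groth.Agent.H13AlgSp.EtaleLocally

set_option autoImplicit false
universe u
open CategoryTheory CategoryTheory.Limits AlgebraicGeometry
open AlgSp

namespace Groth.Agent.S10294

/-- Finite locally free is the same as finite, flat and locally of finite presentation; over a locally
Noetherian target it is the same as finite and flat. -/
theorem result {S : Scheme.{u}} {X Y : AlgSp.Space S} (f : X ⟶ Y) :
    (AlgSp.IsFinLocFreeMor f.hom ↔
      (AlgSp.IsFiniteMor f.hom ∧ AlgSp.LocP @Flat f.hom ∧ AlgSp.LocP @LocallyOfFinitePresentation f.hom)) ∧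
    (AlgSp.IsLocNoethSp Y.obj →
      (AlgSp.IsFinLocFreeMor f.hom ↔ (AlgSp.IsFiniteMor f.hom ∧ AlgSp.LocP @Flat f.hom))) := by
  open Groth.Agent.H12AlgSp Groth.Agent.H13AlgSp in
  (refine ⟨isFinLocFreeMor_iff Y.property, fun hY => ?_⟩
   rw [isFinLocFreeMor_iff Y.property]
   refine ⟨fun h => ⟨h.1, h.2.1⟩, fun h => ⟨h.1, h.2, fun U V a b g ha hb w => ?_⟩⟩
   have : IsLocallyNoetherian V.left := etaleLocally_chart (fun g hg hB => @isLocallyNoetherian_of_etale _ _ g hg hB)
     (fun g hg hs hA => @isLocallyNoetherian_of_flat_lfp_surjective _ _ g inferInstance inferInstance hs hA) Y.property hY hb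
   have : LocallyOfFiniteType g.left := (isFiniteMor_iff_affine_proper X.property Y.property).1 h.1 |>.2.2.1.1 a b g ha hb w
   exact lfp_of_lft_of_isLocallyNoetherian g.left)

end Groth.Agent.S10294
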