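import Groth.Statements.S10296
import Groth.Agent.H12AlgSp.AffineMor
import Groth.Agent.H13AlgSp.AffineLocal

set_option autoImplicit false
universe u
open CategoryTheory CategoryTheory.Limits AlgebraicGeometry
open AlgSp

namespace Groth.Agent.S10296

/-- The induced morphism from the normalization of X in Y to any integral Z -> X through which Y -> X
factors is the normalization of Z in Y. -/
theorem result {S : Scheme.{u}} {Y X X' Z : AlgSp.Space S} (f : Y ⟶ X)
    (hqc : AlgSp.IsQuasiCompactMor f.hom) (hqs : AlgSp.IsQuasiSeparatedMor f.hom) (ν : X' ⟶ X) (f' : Y ⟶ X')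
    (hn : AlgSp.IsRelNormalization f.hom ν.hom f'.hom) (π : Z ⟶ X) (hπ : AlgSp.IsIntegralMor π.hom) (g : Y ⟶ Z)
    (hg : g ≫ π = f) (h : X' ⟶ Z) (h1 : f' ≫ h = g) (h2 : h ≫ π = ν) :
    AlgSp.IsRelNormalization g.hom h.hom f'.hom := by
  open Groth.Agent.H12AlgSp Groth.Agent.H13AlgSp in
  have hsep : IsSeparatedMor π.hom := isSeparatedMor_of_repWith
    (repWith_le (fun _ _ k (_ : IsIntegralHom k) => inferInstanceAs (IsSeparated k)) (isIntegralMor_iff.1 hπ))
  obtain ⟨hν, hνi, hu⟩ := hn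
  have h1' : f'.hom ≫ h.hom = g.hom := congrArg (fun t => t.hom) h1
  have h2' : h.hom ≫ π.hom = ν.hom := congrArg (fun t => t.hom) h2
  have hg' : g.hom ≫ π.hom = f.hom := congrArg (fun t => t.hom) hg
  refine ⟨h1', ?_, fun W hW π' g' hπ' hg'' => ?_⟩
  · open Groth.Agent.H12AlgSp Groth.Agent.H13AlgSp in
    exact isIntegralMor_iff.2 (repWith_of_comp_separated
      (fun _ _ k (_ : IsClosedImmersion k) => inferInstanceAs (IsIntegralHom k)) hsep
      (isIntegralMor_iff.1 (show IsIntegralMor (h.hom ≫ π.hom) by rwa [h2'])))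
  have hi : IsIntegralMor (π' ≫ π.hom) :=
    Groth.Agent.H13AlgSp.isIntegralMor_iff.2 (Groth.Agent.H12AlgSp.repWith_comp
      (Groth.Agent.H13AlgSp.isIntegralMor_iff.1 hπ') (Groth.Agent.H13AlgSp.isIntegralMor_iff.1 hπ))
  obtain ⟨h', ⟨e1, e2⟩, huniq⟩ := hu hW (π' ≫ π.hom) g' hi (by rw [← Category.assoc, hg'', hg'])
  refine ⟨h', ⟨e1, ?_⟩, fun k hk => huniq k ⟨hk.1, by rw [← Category.assoc, hk.2, h2']⟩⟩
  obtain ⟨h₀, -, huniq₀⟩ := hu Z.property π.hom g.hom hπ hg'
  rw [huniq₀ h.hom ⟨h1', h2'⟩]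
  exact huniq₀ _ ⟨by rw [← Category.assoc, e1, hg''], by rw [Category.assoc, e2]⟩

end Groth.Agent.S10296
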