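import Groth.Statements.S1030
import Groth.Agent.H15Site.ResFactor
import Mathlib.Algebra.Homology.Embedding.CochainComplex

set_option autoImplicit false
universe v u
open CategoryTheory CategoryTheory.Limits
open CohDer

namespace Groth.Agent.S1030

open scoped ZeroObject

open CategoryTheory.Limits Groth.Agent.H15Site in
theorem exists_next {A : Type u} [Category.{v} A] [Abelian A] {P : ObjectProperty A} [P.ContainsZero]
    [P.IsClosedUnderIsomorphisms] (hP : ResFactor.Enough P) (hsum : ∀ X Y, P X → P Y → P (X ⊞ Y))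
    (X T : CochainComplex A ℤ) (b : ℤ) [X.IsStrictlyLE b] [T.IsStrictlyLE b] (φ : X ⟶ T) (hX : ∀ i, P (X.X i)) :
    ∃ (X' : CochainComplex A ℤ) (ι : X ⟶ X') (π : X' ⟶ T), ι ≫ π = φ ∧ QuasiIso π ∧ (∀ i, Epi (π.f i)) ∧
      X'.IsStrictlyLE b ∧ (∀ i, P (X'.X i)) ∧
      ∀ i, (∃ r : X'.X i ⟶ X.X i, ι.f i ≫ r = 𝟙 _) ∧ P (cokernel (ι.f i)) := by
  obtain ⟨X', ι, π, hw, hq, he, hle, hs⟩ := ResFactor.exists_factor φ hP b
  refine ⟨X', ι, π, hw, hq, he, hle, fun i => ?_, fun i => ?_⟩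
  · obtain ⟨Q, hQ, e, -⟩ := hs i
    exact P.prop_of_iso e.symm (hsum _ _ (hX i) hQ)
  · obtain ⟨Q, hQ, e, he⟩ := hs i
    refine ⟨⟨e.hom ≫ biprod.fst, (Category.assoc _ _ _).symm.trans ((congrArg (· ≫ biprod.fst) he).trans biprod.inl_fst)⟩,
      P.prop_of_iso ?_ hQ⟩
    exact (IsColimit.coconePointUniqueUpToIso (cokernelIsCokernel (biprod.inl : _ ⟶ _ ⊞ Q))
      (biprod.isCokernelInlCokernelFork _ _)).symm ≪≫
      (cokernel.mapIso _ _ (Iso.refl _) e (by rw [Iso.refl_hom, Category.id_comp, he])).symm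

/-- Let P be a class of objects of an abelian category, closed under isomorphisms, which holds for some
zero object, is closed under binary direct sums, and such that every object is a quotient of an
object satisfying P. For any cochain complex K there are bounded above complexes Pₙ (n ≥ 0) with
terms satisfying P, termwise surjective quasi-isomorphisms πₙ : Pₙ ⟶ τ_{≤ n}K and termwise split
injections ιₙ : Pₙ ⟶ Pₙ₊₁ whose cokernels satisfy P termwise, compatible in the sense that Pₙ ⟶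
τ_{≤n}K ⟶ K equals Pₙ ⟶ Pₙ₊₁ ⟶ τ_{≤n+1}K ⟶ K. (The source indexes from 1.) -/
theorem result {A : Type u} [Category.{v} A] [Abelian A] (P : ObjectProperty A) [P.IsClosedUnderIsomorphisms]
    (hP0 : ∃ Z : A, IsZero Z ∧ P Z) (hPsum : ∀ X Y : A, P X → P Y → P (X ⊞ Y))
    (hP : ∀ X : A, ∃ (Y : A) (π : Y ⟶ X), P Y ∧ Epi π) (K : CochainComplex A ℤ) :
    ∃ (Q : ℕ → CochainComplex A ℤ) (ι : ∀ n, Q n ⟶ Q (n + 1)) (π : ∀ n : ℕ, Q n ⟶ K.truncLE (n : ℤ)),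
      (∀ n, QuasiIso (π n) ∧ ∀ i, Epi ((π n).f i)) ∧
      (∀ n, ∃ b : ℤ, (Q n).IsStrictlyLE b) ∧ (∀ n i, P ((Q n).X i)) ∧
      (∀ n i, (∃ r : (Q (n + 1)).X i ⟶ (Q n).X i, (ι n).f i ≫ r = 𝟙 _) ∧ P (cokernel ((ι n).f i))) ∧
      (∀ n : ℕ, π n ≫ K.ιTruncLE (n : ℤ) = ι n ≫ π (n + 1) ≫ K.ιTruncLE ((n + 1 : ℕ) : ℤ)) := by
  haveI : P.ContainsZero := ⟨hP0⟩
  have hE : Groth.Agent.H15Site.ResFactor.Enough P := fun W => by
    obtain ⟨Y, π, hY, hπ⟩ := hP W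
    exact ⟨Y, hY, π, hπ⟩
  obtain ⟨Z, hZ, hPZ⟩ := hP0
  let tr : ∀ n : ℕ, K.truncLE (n : ℤ) ⟶ K.truncLE ((n + 1 : ℕ) : ℤ) := fun n =>
    haveI : (K.truncLE (n : ℤ)).IsStrictlyLE ((n + 1 : ℕ) : ℤ) :=
      (K.truncLE (n : ℤ)).isStrictlyLE_of_le (n : ℤ) _ (by omega)
    inv ((K.truncLE (n : ℤ)).ιTruncLE ((n + 1 : ℕ) : ℤ)) ≫ CochainComplex.truncLEMap (K.ιTruncLE (n : ℤ)) _
  have htr : ∀ n : ℕ, tr n ≫ K.ιTruncLE ((n + 1 : ℕ) : ℤ) = K.ιTruncLE (n : ℤ) := fun n => by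
    simp only [tr, Category.assoc, CochainComplex.ιTruncLE_naturality, IsIso.inv_hom_id_assoc]
  let St := fun n : ℕ => {s : Σ X : CochainComplex A ℤ, X ⟶ K.truncLE (n : ℤ) //
    s.1.IsStrictlyLE (n : ℤ) ∧ (∀ i, P (s.1.X i)) ∧ QuasiIso s.2 ∧ ∀ i, Epi (s.2.f i)}
  have hz : ∀ i, IsZero ((0 : CochainComplex A ℤ).X i) := fun i =>
    Functor.map_isZero (HomologicalComplex.eval _ _ i) (isZero_zero _)
  haveI : (0 : CochainComplex A ℤ).IsStrictlyLE ((0 : ℕ) : ℤ) := ⟨fun i _ => hz _⟩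
  have h₀ : Nonempty (St 0) := by
    obtain ⟨X, -, π, -, hq, he, hle, hX, -⟩ := exists_next hE hPsum (0 : CochainComplex A ℤ)
      (K.truncLE ((0 : ℕ) : ℤ)) ((0 : ℕ) : ℤ) 0 (fun i => P.prop_of_iso (hZ.iso (hz i)) hPZ)
    exact ⟨⟨⟨X, π⟩, hle, hX, hq, he⟩⟩
  have h₁ : ∀ (n : ℕ) (s : St n), ∃ (t : St (n + 1)) (ι : s.1.1 ⟶ t.1.1), ι ≫ t.1.2 = s.1.2 ≫ tr n ∧
      ∀ i, (∃ r : t.1.1.X i ⟶ s.1.1.X i, ι.f i ≫ r = 𝟙 _) ∧ P (cokernel (ι.f i)) := by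
    rintro n ⟨⟨X, π⟩, hle, hX, hq, he⟩
    haveI := hle
    haveI : X.IsStrictlyLE ((n + 1 : ℕ) : ℤ) := X.isStrictlyLE_of_le (n : ℤ) _ (by omega)
    obtain ⟨X', ι, π', hw, hq', he', hle', hX', hs⟩ := exists_next hE hPsum X (K.truncLE ((n + 1 : ℕ) : ℤ))
      ((n + 1 : ℕ) : ℤ) (π ≫ tr n) hX
    exact ⟨⟨⟨X', π'⟩, hle', hX', hq', he'⟩, ι, hw, hs⟩
  choose nx ι hw hs using h₁
  let s : ∀ n, St n := fun n => Nat.rec h₀.some (fun k t => nx k t) n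
  refine ⟨fun n => (s n).1.1, fun n => ι n (s n), fun n => (s n).1.2, fun n => (s n).2.2.2,
    fun n => ⟨_, (s n).2.1⟩, fun n i => (s n).2.2.1 i, fun n i => hs n (s n) i, fun n => ?_⟩
  show _ = ι n (s n) ≫ (nx n (s n)).1.2 ≫ _
  rw [← Category.assoc (ι n (s n)), hw, Category.assoc, htr]

end Groth.Agent.S1030
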