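import Groth.Statements.S10301
import Groth.Agent.H12AlgSp.Univ

set_option autoImplicit false
universe u
open CategoryTheory CategoryTheory.Limits AlgebraicGeometry
open AlgSp

namespace Groth.Agent.S10301

/-- For a representable morphism of algebraic spaces, being a universal homeomorphism in the
representable sense agrees with inducing homeomorphisms on points after every base change. -/
theorem result {S : Scheme.{u}} {X Y : AlgSp.Space S} (f : X ⟶ Y)
    (hf : AlgSp.Representable f.hom) :
    AlgSp.RepWith FlatMor.IsUnivHomeo f.hom ↔ AlgSp.IsUnivHomeoMor f.hom := by
  exact Groth.Agent.H12AlgSp.repWith_univHomeo_iff hf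

end Groth.Agent.S10301
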