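import Groth.Statements.S10304
import Groth.Agent.H12AlgSp.LocFinIrred

set_option autoImplicit false
universe u
open CategoryTheory CategoryTheory.Limits AlgebraicGeometry
open AlgSp

namespace Groth.Agent.S10304

/-- Equivalent forms of the condition that the schemes etale over X have locally finitely many
irreducible components: one etale surjective chart, every etale chart, finiteness of codimension-0
points of quasi-compact spaces etale over X, finiteness of irreducible components of such spaces. -/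
theorem result {S : Scheme.{u}} (X : AlgSp.Space S) :
    (AlgSp.EtaleLocally (fun U => ∀ W : U.Opens, IsCompact (W : Set ↥U) → (irreducibleComponents ↥W).Finite) X.obj ↔
      ∀ (U : Over S) (a : (AlgSp.yon S).obj U ⟶ X.obj), AlgSp.RepWith @Etale a →
        ∀ W : U.left.Opens, IsCompact (W : Set ↥U.left) → (irreducibleComponents ↥W).Finite) ∧
    (AlgSp.EtaleLocally (fun U => ∀ W : U.Opens, IsCompact (W : Set ↥U) → (irreducibleComponents ↥W).Finite) X.obj ↔
      ∀ (Y : AlgSp.Space S) (g : Y ⟶ X), AlgSp.IsEtaleMor g.hom → AlgSp.IsQuasiCompactSp Y.obj →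
        {y : AlgSp.Points Y.obj |
          AlgSp.HasAt (fun U u => ringKrullDim ↥(U.presheaf.stalk u) = 0) Y.obj y}.Finite) ∧
    (AlgSp.EtaleLocally (fun U => ∀ W : U.Opens, IsCompact (W : Set ↥U) → (irreducibleComponents ↥W).Finite) X.obj ↔
      ∀ (Y : AlgSp.Space S) (g : Y ⟶ X), AlgSp.IsEtaleMor g.hom → AlgSp.IsQuasiCompactSp Y.obj →
        (irreducibleComponents (AlgSp.Points Y.obj)).Finite) := by
  have hE : (∀ (U : Over S) (a : (AlgSp.yon S).obj U ⟶ X.obj), AlgSp.RepWith @Etale a →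
      Groth.Agent.H12AlgSp.LocFinIrred U.left) → AlgSp.EtaleLocally Groth.Agent.H12AlgSp.LocFinIrred X.obj := by
    intro h
    obtain ⟨U, a, ha, has⟩ := X.property.atlas
    exact ⟨U, a, ha, has, h U a ha⟩
  have hall : AlgSp.EtaleLocally Groth.Agent.H12AlgSp.LocFinIrred X.obj →
      ∀ (U : Over S) (a : (AlgSp.yon S).obj U ⟶ X.obj), AlgSp.RepWith @Etale a →
        Groth.Agent.H12AlgSp.LocFinIrred U.left :=
    fun h U a ha => Groth.Agent.H12AlgSp.locFinIrred_chart X.property h ha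
  have key : ∀ (Y : AlgSp.Space S) (g : Y ⟶ X), AlgSp.EtaleLocally Groth.Agent.H12AlgSp.LocFinIrred X.obj →
      AlgSp.IsEtaleMor g.hom → AlgSp.IsQuasiCompactSp Y.obj →
      ∃ (W : Over S) (b : (AlgSp.yon S).obj W ⟶ Y.obj), AlgSp.RepWith @Etale b ∧
        Function.Surjective (Points.ofPt b) ∧ (irreducibleComponents ↥W.left).Finite := by
    intro Y g h hg hY
    obtain ⟨W, b, hb, hbs, hW⟩ := hY
    have : CompactSpace ↥W.left := hW
    refine ⟨W, b, hb, Groth.Agent.H12AlgSp.surjective_ofPt_of_repWith le_rfl hbs, ?_⟩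
    have h2 := (Groth.Agent.H23Comp.finite_opens_iff ⊤).1 (hall h W _ (hg b hb) ⊤ isCompact_univ)
    rw [Groth.Agent.H23Comp.finite_iff]
    simpa using h2
  have back : ∀ (U : Over S) (a : (AlgSp.yon S).obj U ⟶ X.obj), AlgSp.RepWith @Etale a →
      ∀ W : U.left.Opens, IsCompact (W : Set ↥U.left) →
      ∀ (P : AlgSp.Space S → Prop), (∀ (Y : AlgSp.Space S) (g : Y ⟶ X), AlgSp.IsEtaleMor g.hom →
        AlgSp.IsQuasiCompactSp Y.obj → P Y) →
      P ⟨(AlgSp.yon S).obj (Over.mk (Scheme.Opens.ι W ≫ U.hom)), AlgSp.IsAlgSpace.yon_obj _⟩ := by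
    intro U a ha W hW P hP
    let i : Over.mk (Scheme.Opens.ι W ≫ U.hom) ⟶ U := Over.homMk (Scheme.Opens.ι W) rfl
    refine hP _ (ObjectProperty.homMk ((AlgSp.yon S).map i ≫ a)) ?_ ?_
    · intro T c hc
      show AlgSp.RepWith @Etale (c ≫ (AlgSp.yon S).map i ≫ a)
      rw [← Category.assoc]
      exact Groth.Agent.H12AlgSp.repWith_comp (Groth.Agent.H12AlgSp.repWith_comp hc
        ((AlgSp.repWith_yon_map_iff _ i).2 (inferInstanceAs (Etale (Scheme.Opens.ι W))))) ha
    · exact Groth.Agent.H12AlgSp.isQuasiCompactSp_yon_iff.2 (isCompact_iff_compactSpace.1 hW)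
  refine ⟨⟨hall, hE⟩, ⟨fun h Y g hg hY => ?_, fun h => hE fun U a ha W hW => ?_⟩,
    ⟨fun h Y g hg hY => ?_, fun h => hE fun U a ha W hW => ?_⟩⟩
  · obtain ⟨W, b, hb, hbs, hW⟩ := key Y g h hg hY
    exact Groth.Agent.H12AlgSp.finite_codimZero Y.property hb hbs ((Groth.Agent.H23Comp.finite_iff _).1 hW)
  · have h1 := back U a ha W hW (fun Y => {y : AlgSp.Points Y.obj | AlgSp.HasAt (fun U u => ringKrullDim ↥(U.presheaf.stalk u) = 0) Y.obj y}.Finite) h
    haveI : QuasiSober ↥W := inferInstanceAs (QuasiSober W.toScheme)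
    rw [Groth.Agent.H23Comp.finite_iff]
    refine Set.Finite.of_finite_image (f := fun w : ↥W => Points.ofScheme (Over.mk (Scheme.Opens.ι W ≫ U.hom)) w)
      (h1.subset ?_) ((Points.schemeHomeo (Over.mk (Scheme.Opens.ι W ≫ U.hom))).injective.injOn)
    rintro _ ⟨w, hw, rfl⟩
    refine ⟨Over.mk (Scheme.Opens.ι W ≫ U.hom), 𝟙 _, w, AlgSp.repWith_id _ _, rfl, ?_⟩
    refine (Groth.Agent.H12AlgSp.ringKrullDim_stalk_eq_zero_iff (X := W.toScheme) w).2 ?_
    rw [Groth.Agent.H23Comp.genericPoints_eq]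
    exact hw
  · obtain ⟨W, b, hb, hbs, hW⟩ := key Y g h hg hY
    exact Groth.Agent.H12AlgSp.irreducibleComponents_finite_of_surjective _ (Points.continuous_ofPt b) hbs hW
  · exact Groth.Agent.H12AlgSp.irreducibleComponents_finite_of_surjective _
      (Points.schemeHomeo (Over.mk (Scheme.Opens.ι W ≫ U.hom))).symm.continuous
      (Points.schemeHomeo (Over.mk (Scheme.Opens.ι W ≫ U.hom))).symm.surjective
      (back U a ha W hW (fun Y => (irreducibleComponents (AlgSp.Points Y.obj)).Finite) h)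

end Groth.Agent.S10304
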