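import Groth.Statements.S10305
import Groth.Agent.H9Synt.Smooth

set_option autoImplicit false
universe u
open CategoryTheory CategoryTheory.Limits AlgebraicGeometry
open AlgSp

namespace Groth.Agent.S10305

/-- A smooth morphism of algebraic spaces is syntomic. -/
theorem result {S : Scheme.{u}} {X Y : AlgSp.Space S} (f : X ⟶ Y)
    (hf : AlgSp.LocP @Smooth f.hom) : AlgSp.IsSyntomicMor f.hom := by
  intro U V a b h ha hb sq x
  have : Smooth h.left := hf a b h ha hb sq
  obtain ⟨W, hW, hxW, -⟩ := TopologicalSpace.Opens.isBasis_iff_nbhd.mp V.left.isBasis_affineOpens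
    (TopologicalSpace.Opens.mem_top (h.left x))
  obtain ⟨A, hA, hxA, hle⟩ := TopologicalSpace.Opens.isBasis_iff_nbhd.mp U.left.isBasis_affineOpens
    (show x ∈ h.left ⁻¹ᵁ W from hxW)
  refine ⟨⟨A, hA⟩, ⟨W, hW⟩, hle, hxA, ?_⟩
  algebraize [(h.left.appLE W A hle).hom]
  have : Algebra.Smooth Γ(V.left, W) Γ(U.left, A) :=
    RingHom.smooth_algebraMap.mp (HasRingHomProperty.appLE @Smooth h.left inferInstance ⟨W, hW⟩ ⟨A, hA⟩ hle)
  exact Groth.Agent.H9Synt.isSyntomic_of_smooth _ _

end Groth.Agent.S10305
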