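import Groth.Statements.S10307
import Groth.Agent.H12AlgSp.EtUHomeoSheaf

set_option autoImplicit false
set_option backward.isDefEq.respectTransparency false
universe u
open CategoryTheory CategoryTheory.Limits AlgebraicGeometry
open AlgSp

namespace Groth.Agent.S10307

/-- For an integral universally injective morphism f of algebraic spaces, f_* on small etale sites is
fully faithful on sheaves of sets and on abelian sheaves, and the counit from the pullback of the
pushforward to the identity is an isomorphism. (The description of the essential image is not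
included here.) -/
theorem result {S : Scheme.{u}} {Y X : AlgSp.Space S} (f : Y ⟶ X)
    (hi : AlgSp.RepWith @IsIntegralHom f.hom) (hu : AlgSp.IsUnivInjectiveMor f.hom) :
    ((AlgSp.pushEt hi.1 (Type (u + 1))).Full ∧ (AlgSp.pushEt hi.1 (Type (u + 1))).Faithful) ∧
    ((AlgSp.pushEt hi.1 AddCommGrpCat.{u + 1}).Full ∧ (AlgSp.pushEt hi.1 AddCommGrpCat.{u + 1}).Faithful) ∧
    IsIso (AlgSp.pullPushAdjEt hi.1 (Type (u + 1))).counit := by
  have h1 := Groth.Agent.H12AlgSp.EtUHomeo.pushEt_full hi.1 X.property Y.property hi hu (Type (u + 1))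
  have h2 := Groth.Agent.H12AlgSp.EtUHomeo.pushEt_faithful hi.1 X.property Y.property hi hu (Type (u + 1))
  exact ⟨⟨h1, h2⟩, ⟨Groth.Agent.H12AlgSp.EtUHomeo.pushEt_full hi.1 X.property Y.property hi hu _, Groth.Agent.H12AlgSp.EtUHomeo.pushEt_faithful hi.1 X.property Y.property hi hu _⟩,
    inferInstance⟩

end Groth.Agent.S10307
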