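import Groth.Statements.S10308
import Groth.Agent.H12AlgSp.RelDim

set_option autoImplicit false
universe u
open CategoryTheory CategoryTheory.Limits AlgebraicGeometry
open AlgSp

namespace Groth.Agent.S10308

/-- For f locally of finite type, the locus of points where the relative dimension of f is at most n is
open. -/
theorem result {S : Scheme.{u}} {X Y : AlgSp.Space S} (f : X ⟶ Y)
    (hf : AlgSp.LocP @LocallyOfFiniteType f.hom) (n : ℕ) :
    IsOpen {x : AlgSp.Points X.obj |
      AlgSp.HasAtMor (fun _ _ h u => FlatMor.fibreDimAt h u ≤ (n : WithBot ℕ∞)) f.hom x} := by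
  obtain ⟨U, V, a, b, h, ha, has, hb, -, w⟩ := Groth.Agent.H12AlgSp.exists_chart X.property Y.property f.hom
  rw [← (Groth.Agent.H12AlgSp.isQuotientMap_ofPt ha has).isOpen_preimage]
  have : LocallyOfFiniteType h.left := hf a b h ha hb w
  convert Groth.Agent.H8Props.FieldDim.isOpen_fibreDimAt_le h.left n using 1
  ext u
  exact (Groth.Agent.H12AlgSp.etInvAt_fibreDimAt (· ≤ (n : WithBot ℕ∞))).hasAtMor_iff hf ha hb w u

end Groth.Agent.S10308
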