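import Groth.Statements.S9355
import Groth.Agent.H8Props.FibreDimSemicont
import Groth.Agent.H8Props.FlatApproxAffine

set_option autoImplicit false
universe u
open FibDim

namespace Groth.Agent.S9355

open AlgebraicGeometry CategoryTheory in
/-- For f : X → S locally of finite presentation and n ≥ 0, the open set U_n of points x with dim_x(X_{f
x}) ≤ n is retrocompact in X. -/
theorem result {X S : Scheme.{u}} (f : X ⟶ S) [LocallyOfFinitePresentation f] (n : ℕ) :
    IsRetrocompact {x : ↑X | FlatMor.fibreDimAt f x ≤ n} := by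
  intro U hUc hUo
  have key : ∀ x ∈ U, ∃ V : Set X, IsOpen V ∧ x ∈ V ∧ V ⊆ U ∧
      IsCompact ({x : X | FlatMor.fibreDimAt f x ≤ n} ∩ V) := by
    intro x hx
    obtain ⟨W, (hW : IsAffineOpen W), hxW, -⟩ := TopologicalSpace.Opens.isBasis_iff_nbhd.mp S.isBasis_affineOpens
      (show f x ∈ (⊤ : S.Opens) from trivial)
    obtain ⟨V, (hV : IsAffineOpen V), hxV, hVU⟩ := TopologicalSpace.Opens.isBasis_iff_nbhd.mp X.isBasis_affineOpens
      (show x ∈ f ⁻¹ᵁ W ⊓ ⟨U, hUo⟩ from ⟨hxW, hx⟩)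
    have hVW : V ≤ f ⁻¹ᵁ W := hVU.trans inf_le_left
    refine ⟨V, V.2, hxV, fun z hz => (hVU hz).2, ?_⟩
    letI := (f.appLE W V hVW).hom.toAlgebra
    haveI : Algebra.FinitePresentation Γ(S, W) Γ(X, V) := f.finitePresentation_appLE hW hV hVW
    let φ := Spec.map (CommRingCat.ofHom (algebraMap Γ(S, W) Γ(X, V)))
    haveI : LocallyOfFiniteType φ := (HasRingHomProperty.Spec_iff (P := @LocallyOfFiniteType)).mpr
      (RingHom.finiteType_algebraMap.mpr inferInstance)
    have hsq : φ ≫ hW.fromSpec = hV.fromSpec ≫ f := IsAffineOpen.SpecMap_appLE_fromSpec f hW hV hVW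
    have key : ∀ w, FlatMor.fibreDimAt f (hV.fromSpec w) = FlatMor.fibreDimAt φ w := fun w => by
      rw [← Groth.Agent.H8Props.FieldDim.fibreDimAt_openImmersion_comp hV.fromSpec f w, ← hsq]
      exact Groth.Agent.H8Props.FieldDim.fibreDimAt_comp_openImmersion φ hW.fromSpec w
    obtain ⟨R₀, B₀, _, _, _, _, g', hR, hfp, hpb⟩ :=
      Groth.Agent.H8Props.FlatApprox.exists_isPullback_spec_fp Γ(S, W) Γ(X, V)
    haveI : IsNoetherianRing R₀ := Algebra.FiniteType.isNoetherianRing ℤ R₀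
    haveI : IsNoetherianRing B₀ := Algebra.FiniteType.isNoetherianRing R₀ B₀
    let φ₀ := Spec.map (CommRingCat.ofHom (algebraMap R₀ B₀))
    haveI : LocallyOfFiniteType φ₀ := (HasRingHomProperty.Spec_iff (P := @LocallyOfFiniteType)).mpr
      (RingHom.finiteType_algebraMap.mpr inferInstance)
    haveI : TopologicalSpace.NoetherianSpace (Spec (CommRingCat.of B₀)) :=
      inferInstanceAs (TopologicalSpace.NoetherianSpace (PrimeSpectrum B₀))
    have heq : {x : X | FlatMor.fibreDimAt f x ≤ n} ∩ (V : Set X) =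
        hV.fromSpec '' (g' ⁻¹' {y | FlatMor.fibreDimAt φ₀ y ≤ n}) := by
      ext z
      constructor
      · rintro ⟨hz, hzV⟩
        obtain ⟨w, rfl⟩ : z ∈ Set.range hV.fromSpec := by rw [hV.range_fromSpec]; exact hzV
        refine ⟨w, ?_, rfl⟩
        show FlatMor.fibreDimAt φ₀ (g' w) ≤ n
        rw [← Groth.Agent.H8Props.FieldDim.fibreDimAt_baseChange φ₀ hpb w, ← key]
        exact hz
      · rintro ⟨w, hw, rfl⟩
        refine ⟨?_, hV.range_fromSpec.subset ⟨w, rfl⟩⟩
        show FlatMor.fibreDimAt f (hV.fromSpec w) ≤ n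
        rw [key, Groth.Agent.H8Props.FieldDim.fibreDimAt_baseChange φ₀ hpb w]
        exact hw
    rw [heq]
    exact (g'.isCompact_preimage (U := ⟨_, Groth.Agent.H8Props.FieldDim.isOpen_fibreDimAt_le φ₀ n⟩)
      (TopologicalSpace.NoetherianSpace.isCompact _)).image hV.fromSpec.continuous
  choose V hVo hxV hVU hVc using key
  obtain ⟨t, ht⟩ := hUc.elim_finite_subcover (fun x : U => V x.1 x.2) (fun x => hVo _ _)
    (fun x hx => Set.mem_iUnion.mpr ⟨⟨x, hx⟩, hxV x hx⟩)
  have : {x : X | FlatMor.fibreDimAt f x ≤ n} ∩ U = ⋃ x ∈ t, {x : X | FlatMor.fibreDimAt f x ≤ n} ∩ V x.1 x.2 := by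
    ext z
    simp only [Set.mem_inter_iff, Set.mem_iUnion]
    constructor
    · rintro ⟨hz, hzU⟩
      obtain ⟨x, hxt, hzx⟩ := Set.mem_iUnion₂.mp (ht hzU)
      exact ⟨x, hxt, hz, hzx⟩
    · rintro ⟨x, -, hz, hzx⟩
      exact ⟨hz, hVU _ _ hzx⟩
  rw [this]
  exact t.finite_toSet.isCompact_biUnion fun x _ => hVc x.1 x.2

end Groth.Agent.S9355
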