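import Groth.Statements.S10309
import Groth.Agent.H12AlgSp.RelDim
import Groth.Agent.S9355

set_option autoImplicit false
universe u
open CategoryTheory CategoryTheory.Limits AlgebraicGeometry
open AlgSp

namespace Groth.Agent.S10309

/-- For f locally of finite presentation, the locus where the relative dimension is at most n is
retrocompact in |X|. -/
theorem result {S : Scheme.{u}} {X Y : AlgSp.Space S} (f : X ⟶ Y)
    (hf : AlgSp.LocP @LocallyOfFinitePresentation f.hom) (n : ℕ) (V : Set (AlgSp.Points X.obj))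
    (hV : IsOpen V) (hVc : IsCompact V) :
    IsCompact (V ∩ {x : AlgSp.Points X.obj |
      AlgSp.HasAtMor (fun _ _ h u => FlatMor.fibreDimAt h u ≤ (n : WithBot ℕ∞)) f.hom x}) := by
  obtain ⟨U, W, a, b, h, ha, has, hb, -, w⟩ := Groth.Agent.H12AlgSp.exists_chart X.property Y.property f.hom
  have hft : LocP @LocallyOfFiniteType f.hom := fun _ _ a b h ha hb w => by
    have : LocallyOfFinitePresentation h.left := hf a b h ha hb w
    infer_instance
  have : LocallyOfFinitePresentation h.left := hf a b h ha hb w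
  have : LocallyOfFiniteType h.left := inferInstance
  obtain ⟨p, hp⟩ : ∃ p, p = fun u : U.left => Points.ofPt a u := ⟨_, rfl⟩
  have hsurj := Groth.Agent.H12AlgSp.surjective_ofPt_of_repWith le_rfl has
  choose A hA huA hAV using fun x : V => TopologicalSpace.Opens.isBasis_iff_nbhd.mp U.left.isBasis_affineOpens
    (show Function.surjInv hsurj x.1 ∈
      (⟨_, hV.preimage (Points.continuous_ofPt a)⟩ : TopologicalSpace.Opens U.left) from
        show Points.ofPt a (Function.surjInv hsurj x.1) ∈ V by rw [Function.surjInv_eq hsurj]; exact x.2)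
  obtain ⟨t, ht⟩ := hVc.elim_finite_subcover (fun x : V => Points.ofPt a '' (A x : Set U.left))
    (fun x => Groth.Agent.H12AlgSp.isOpenMap_ofPt_of_repWith Groth.Agent.H12AlgSp.etale_le_universallyOpen ha _ (A x).2)
    (fun x hx => Set.mem_iUnion.2 ⟨⟨x, hx⟩, _, huA ⟨x, hx⟩, Function.surjInv_eq hsurj x⟩)
  have hiff := fun u => (Groth.Agent.H12AlgSp.etInvAt_fibreDimAt (· ≤ (n : WithBot ℕ∞))).hasAtMor_iff hft ha hb w u
  have key : V ∩ {x : AlgSp.Points X.obj |
      AlgSp.HasAtMor (fun _ _ h u => FlatMor.fibreDimAt h u ≤ (n : WithBot ℕ∞)) f.hom x} =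
      ⋃ x ∈ t, Points.ofPt a '' ((A x : Set U.left) ∩ {u | FlatMor.fibreDimAt h.left u ≤ n}) := by
    ext z
    simp only [Set.mem_iUnion, Set.mem_image]
    constructor
    · rintro ⟨hz, hz'⟩
      obtain ⟨x, hx, u, hu, rfl⟩ := Set.mem_iUnion₂.1 (ht hz)
      exact ⟨x, hx, u, ⟨hu, (hiff u).1 hz'⟩, rfl⟩
    · rintro ⟨x, -, u, ⟨hu, hu'⟩, rfl⟩
      exact ⟨hAV x hu, (hiff u).2 hu'⟩
  rw [key]
  exact t.finite_toSet.isCompact_biUnion fun x _ => IsCompact.image
    (by rw [Set.inter_comm]; exact Groth.Agent.S9355.result h.left n (hA x).isCompact (A x).2)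
    (Points.continuous_ofPt a)

end Groth.Agent.S10309
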