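import Groth.Statements.S1031
import Mathlib.CategoryTheory.Triangulated.Generators

set_option autoImplicit false
universe v u
open CategoryTheory
open CohDer

namespace Groth.Agent.S1031

set_option linter.style.haveILetI false
section
open CategoryTheory CategoryTheory.Limits CategoryTheory.Pretriangulated CategoryTheory.ObjectProperty
variable {D : Type u} [Category.{v} D] [Preadditive D] [HasZeroObject D] [HasShift D ℤ]
  [∀ n : ℤ, (shiftFunctor D n).Additive] [Pretriangulated D]

lemma closed_retract (Q : ObjectProperty D) [Q.IsClosedUnderBinaryProducts] :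
    Q.retractClosure.IsClosedUnderBinaryProducts where
  limitsOfShape_le := by
    rintro X ⟨p⟩
    choose Y hY r using fun j => p.prop_diag_obj j
    let r' := fun j => (r j).some
    have hP : Q (limit (Discrete.functor fun j => Y ⟨j⟩)) :=
      Q.prop_of_isLimit (limit.isLimit _) (by rintro ⟨j⟩; exact hY ⟨j⟩)
    refine ⟨_, hP, ⟨⟨limit.lift _ (Cone.mk X (Discrete.natTrans fun j => p.π.app j ≫ (r' j).i)),
      p.isLimit.lift (Cone.mk _ (Discrete.natTrans fun j => limit.π (Discrete.functor fun j => Y ⟨j⟩) j ≫ (r' j).r)),
      p.isLimit.hom_ext fun j => ?_⟩⟩⟩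
    rw [Category.assoc, p.isLimit.fac, Category.id_comp]
    dsimp [Discrete.natTrans]
    rw [limit.lift_π_assoc]
    simp

lemma closed_ext (A B : ObjectProperty D) [A.IsClosedUnderBinaryProducts]
    [B.IsClosedUnderBinaryProducts] : (extensionProduct A B).IsClosedUnderBinaryProducts where
  limitsOfShape_le := by
    rintro X ⟨p⟩
    choose Y Z f g h hT hY hZ using fun j => p.prop_diag_obj j
    let T : WalkingPair → Triangle D := fun j => Triangle.mk (f ⟨j⟩) (g ⟨j⟩) (h ⟨j⟩)
    have hP : extensionProduct A B (productTriangle T).obj₂ :=
      ⟨(productTriangle T).obj₁, (productTriangle T).obj₃, _, _, _,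
        productTriangle_distinguished T (fun j => hT ⟨j⟩),
        A.prop_of_isLimit (limit.isLimit _) (by rintro ⟨j⟩; exact hY ⟨j⟩),
        B.prop_of_isLimit (limit.isLimit _) (by rintro ⟨j⟩; exact hZ ⟨j⟩)⟩
    exact ObjectProperty.prop_of_iso _
      (IsLimit.conePointUniqueUpToIso (limit.isLimit _)
        ((IsLimit.postcomposeHomEquiv Discrete.natIsoFunctor _).2 p.isLimit)) hP

lemma closed_iter (P : ObjectProperty D) : ∀ n, (P.triangEnvelopeIter n).IsClosedUnderBinaryProducts
  | 0 => by rw [triangEnvelopeIter_zero]; exact closed_retract _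
  | n + 1 => by
    rw [triangEnvelopeIter_succ]
    haveI := closed_iter P n
    haveI := closed_retract ((P.shiftClosure ℤ).binaryProductsClosure)
    haveI := closed_ext (P.shiftClosure ℤ).binaryProductsClosure.retractClosure (P.triangEnvelopeIter n)
    exact closed_retract _
end

/-- Let D be a triangulated category admitting a strong generator G (every object is reached from G by
shifts, finite sums, summands and a uniformly bounded number of extensions). Then every classical
generator E of D (every object reached from E with some finite number of extensions) is itself a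
strong generator. -/
theorem result {D : Type u} [Category.{v} D] [Preadditive D] [Limits.HasZeroObject D] [HasShift D ℤ]
    [∀ n : ℤ, (shiftFunctor D n).Additive] [Pretriangulated D] [IsTriangulated D]
    (G E : D) (hG : ObjectProperty.IsStrongTriangulatedGenerator (fun X : D => X = G))
    (hE : ObjectProperty.IsClassicalTriangulatedGenerator (fun X : D => X = E)) :
    ObjectProperty.IsStrongTriangulatedGenerator (fun X : D => X = E) := by
  open CategoryTheory.Limits CategoryTheory.Pretriangulated CategoryTheory.ObjectProperty in
  obtain ⟨n, hn⟩ := hG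
  let PG : ObjectProperty D := fun X => X = G
  let P : ObjectProperty D := fun X => X = E
  have hG' : P.triangEnvelope G := by rw [show P.triangEnvelope = ⊤ from hE]; trivial
  obtain ⟨N, hN⟩ := (P.prop_triangEnvelope_iff G).mp hG'
  let Q : ObjectProperty D := P.triangEnvelopeIter N
  haveI : Q.IsClosedUnderBinaryProducts := closed_iter P N
  have h0 : (PG.shiftClosure ℤ).binaryProductsClosure.retractClosure ≤ Q := by
    refine (retractClosure_le_iff _ Q).mpr (limitsClosure_le ((shiftClosure_le_iff _ _).mpr ?_))
    intro X hX
    rw [show X = G from hX]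
    exact hN
  have h : ∀ k, ∃ M, PG.triangEnvelopeIter k ≤ P.triangEnvelopeIter M := by
    intro k
    induction k with
    | zero => exact ⟨N, by rw [triangEnvelopeIter_zero]; exact h0⟩
    | succ k ih =>
      obtain ⟨M, hM⟩ := ih
      refine ⟨N + 1 + M, ?_⟩
      rw [triangEnvelopeIter_succ, P.triangEnvelopeIter_add (n' := N) rfl]
      refine monotone_retractClosure ?_
      rintro X ⟨A, B, f, g, w, hT, hA, hB⟩
      exact ⟨A, B, f, g, w, hT, h0 _ hA, hM _ hB⟩
  obtain ⟨M, hM⟩ := h n
  exact ⟨M, eq_top_iff.mpr (hn.symm.trans_le hM)⟩

end Groth.Agent.S1031
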