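import Groth.Statements.S10311
import Groth.Agent.H12AlgSp.RelDim

set_option autoImplicit false
universe u
open CategoryTheory CategoryTheory.Limits AlgebraicGeometry
open AlgSp

namespace Groth.Agent.S10311

/-- The relative dimension at a point of a morphism locally of finite type is preserved by base change. -/
theorem result {S : Scheme.{u}} {X Y Y' X' : AlgSp.Space S} (f : X ⟶ Y) (g : Y' ⟶ Y)
    (g' : X' ⟶ X) (f' : X' ⟶ Y') (sq : IsPullback g'.hom f'.hom f.hom g.hom)
    (hf : AlgSp.LocP @LocallyOfFiniteType f.hom) (x' : AlgSp.Points X'.obj) (d : WithBot ℕ∞)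
    (hd : AlgSp.HasAtMor (fun _ _ h u => FlatMor.fibreDimAt h u = d) f.hom (AlgSp.Points.map g'.hom x')) :
    AlgSp.HasAtMor (fun _ _ h u => FlatMor.fibreDimAt h u = d) f'.hom x' := by
  obtain ⟨U, V, O, T, a, b, h, a', b', m, h', k, o, ha, hb, w, ha', hb', w', sqO, rfl, e⟩ :=
    Groth.Agent.H12AlgSp.exists_baseChange_chart_at sq X.property Y.property Y'.property x'
  have : LocallyOfFiniteType h.left := hf a b h ha hb w
  rw [← e, (Groth.Agent.H12AlgSp.etInvAt_fibreDimAt (· = d)).hasAtMor_iff hf ha hb w] at hd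
  exact ⟨O, T, a', b', h', o, ha', hb', w', rfl,
    (Groth.Agent.H8Props.FieldDim.fibreDimAt_baseChange h.left sqO o).trans hd⟩

end Groth.Agent.S10311
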