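import Groth.Statements.S10313
import Groth.Agent.H12AlgSp.OpenLoci

set_option autoImplicit false
universe u
open CategoryTheory CategoryTheory.Limits AlgebraicGeometry
open AlgSp

namespace Groth.Agent.S10313

/-- For f locally of finite type there is an open subspace of X on which f is locally quasi-finite,
outside of which the relative dimension is at least 1, and whose formation commutes with base
change. -/
theorem result {S : Scheme.{u}} {X Y : AlgSp.Space S} (f : X ⟶ Y)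
    (hf : AlgSp.LocP @LocallyOfFiniteType f.hom) :
    ∃ (X' : AlgSp.Space S) (j : X' ⟶ X), AlgSp.RepWith @IsOpenImmersion j.hom ∧
      AlgSp.LocP (@LocallyQuasiFinite ⊓ @LocallyOfFiniteType) (j ≫ f).hom ∧
      (∀ x : AlgSp.Points X.obj, x ∉ Set.range (AlgSp.Points.map j.hom) →
        AlgSp.HasAtMor (fun _ _ h u => 1 ≤ FlatMor.fibreDimAt h u) f.hom x) ∧
      ∀ (Y'' X'' : AlgSp.Space S) (g : Y'' ⟶ Y) (b : X'' ⟶ X) (f'' : X'' ⟶ Y''),
        IsPullback b.hom f''.hom f.hom g.hom → ∀ x'' : AlgSp.Points X''.obj,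
          AlgSp.Points.map b.hom x'' ∈ Set.range (AlgSp.Points.map j.hom) ↔ AlgSp.HasAtMor (fun U _ h u => ∃ W : U.Opens, u ∈ W ∧ LocallyQuasiFinite (W.ι ≫ h) ∧ LocallyOfFiniteType (W.ι ≫ h)) f''.hom x'' := by
  have hP := Groth.Agent.H12AlgSp.etLocal_inf Groth.Agent.H12AlgSp.etLocal_lqf.{u} Groth.Agent.H12AlgSp.etLocal_lft.{u}
  obtain ⟨X', j, hX', hj, hr⟩ := Groth.Agent.H12AlgSp.exists_open_subspace X.property
    (Groth.Agent.H12AlgSp.isOpen_nbhdLocus (P := @LocallyQuasiFinite ⊓ @LocallyOfFiniteType) f.hom)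
  refine ⟨⟨X', hX'⟩, ObjectProperty.homMk j, hj, ?_, fun x hx => ?_, fun Y'' X'' g b f'' sq x'' => ?_⟩
  · exact (Groth.Agent.H12AlgSp.locP_iff_forall_nbhd hP hX' Y.property (j ≫ f.hom)).2 fun z =>
      Groth.Agent.H12AlgSp.nbhd_comp_of_openImmersion hP hX' Y.property hj (hr.subset ⟨z, rfl⟩)
  · obtain ⟨U, V, a, c, h, u, ha, hc, w, rfl⟩ :=
      Groth.Agent.H12AlgSp.exists_chart_at X.property Y.property f.hom x
    have : LocallyOfFiniteType h.left := hf a c h ha hc w
    refine ⟨U, V, a, c, h, u, ha, hc, w, rfl, ?_⟩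
    have hn : ¬ FlatMor.fibreDimAt h.left u ≤ 0 := fun hle => hx (hr.symm.subset
      ((Groth.Agent.H12AlgSp.nbhd_hasAtMor_iff hP ha hc w u).2 ((Groth.Agent.H12AlgSp.nbhd_lqf_iff h.left u).2 hle)))
    show (1 : WithBot ℕ∞) ≤ FlatMor.fibreDimAt h.left u
    generalize FlatMor.fibreDimAt h.left u = D at hn
    induction D using WithBot.recBotCoe with
    | bot => exact absurd bot_le hn
    | coe d =>
      refine (WithBot.coe_le_coe (α := ℕ∞) (a := 1)).2 (Order.one_le_iff_pos.2 (not_le.1 fun hd => hn ?_))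
      exact (WithBot.coe_le_coe (α := ℕ∞) (b := 0)).2 hd
  · rw [show Set.range (AlgSp.Points.map (ObjectProperty.homMk j : (⟨X', hX'⟩ : AlgSp.Space S) ⟶ X).hom) = _ from hr]
    exact (Groth.Agent.H12AlgSp.nbhd_lqf_baseChange sq X.property Y.property Y''.property hf x'').symm

end Groth.Agent.S10313
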