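import Groth.Statements.S10314
import Groth.Agent.H12AlgSp.RelDimApps

set_option autoImplicit false
universe u
open CategoryTheory CategoryTheory.Limits AlgebraicGeometry
open AlgSp

namespace Groth.Agent.S10314

/-- For a flat morphism locally of finite type of relative dimension d between locally Noetherian
algebraic spaces, the dimension of X at a point equals the dimension of Y at the image point plus d. -/
theorem result {S : Scheme.{u}} {X Y : AlgSp.Space S} (f : X ⟶ Y)
    (hX : AlgSp.IsLocNoethSp X.obj) (hY : AlgSp.IsLocNoethSp Y.obj) (hf : AlgSp.LocP @Flat f.hom)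
    (hf' : AlgSp.LocP @LocallyOfFiniteType f.hom) (d : ℕ)
    (hd : ∀ x : AlgSp.Points X.obj, AlgSp.HasAtMor (fun _ _ h u => FlatMor.fibreDimAt h u = (d : WithBot ℕ∞)) f.hom x)
    (x : AlgSp.Points X.obj) (dX dY : WithBot ℕ∞) (hx : AlgSp.HasAt (fun U u => FlatMor.localDim ↥U u = dX) X.obj x)
    (hy : AlgSp.HasAt (fun U u => FlatMor.localDim ↥U u = dY) Y.obj (AlgSp.Points.map f.hom x)) :
    dX = dY + (d : WithBot ℕ∞) := by
  obtain ⟨U, V, a, b, h, u, ha, hb, w, rfl⟩ := Groth.Agent.H12AlgSp.exists_chart_at X.property Y.property f.hom x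
  have := Groth.Agent.H12AlgSp.isLocallyNoetherian_chart X.property hX ha
  have := Groth.Agent.H12AlgSp.isLocallyNoetherian_chart Y.property hY hb
  have : Flat h.left := hf a b h ha hb w
  have : LocallyOfFiniteType h.left := hf' a b h ha hb w
  obtain ⟨rfl, rfl⟩ := Groth.Agent.H12AlgSp.localDim_of_hasAt X.property Y.property ha hb w u hx hy
  exact Groth.Agent.H8Props.FieldDim.localDim_eq_add_of_relDim h.left d
    (Groth.Agent.H12AlgSp.hasRelDim_of_fibreDimAt _ d fun z =>
      ((Groth.Agent.H12AlgSp.etInvAt_fibreDimAt (· = (d : WithBot ℕ∞))).hasAtMor_iff hf' ha hb w z).1 (hd _)) u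

end Groth.Agent.S10314
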