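import Groth.Statements.S10316
import Groth.Agent.H12AlgSp.RelDim

set_option autoImplicit false
universe u
open CategoryTheory CategoryTheory.Limits AlgebraicGeometry
open AlgSp

namespace Groth.Agent.S10316

/-- For X -> Y locally quasi-finite and Y -> Z locally of finite type, the transcendence degree of x
over Z equals that of its image y over Z. -/
theorem result {S : Scheme.{u}} {X Y Z : AlgSp.Space S} (f : X ⟶ Y) (g : Y ⟶ Z)
    (hf : AlgSp.LocP (@LocallyQuasiFinite ⊓ @LocallyOfFiniteType) f.hom) (hg : AlgSp.LocP @LocallyOfFiniteType g.hom)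
    (x : AlgSp.Points X.obj) (r : Cardinal.{u}) :
    AlgSp.HasAtMor (fun _ _ h u => Dual3.resTrdeg h u = r) (f ≫ g).hom x ↔
      AlgSp.HasAtMor (fun _ _ h u => Dual3.resTrdeg h u = r) g.hom (AlgSp.Points.map f.hom x) := by
  obtain ⟨U, V, W, a, b, c, h₁, h₂, u, ha, hb, hc, w₁, w₂, w, rfl, e⟩ :=
    Groth.Agent.H12AlgSp.exists_chart_comp_at X.property Y.property Z.property f.hom g.hom x
  obtain ⟨h1, h2⟩ := hf a b h₁ ha hb w₁
  have hi := Groth.Agent.H12AlgSp.etInvAt_resTrdeg (· = r)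
  have ht : ∀ {A B : AlgSp.Sp S} (q : A ⟶ B), AlgSp.LocP ⊤ q := fun q _ _ _ _ _ _ _ _ => trivial
  rw [show (f ≫ g).hom = f.hom ≫ g.hom from rfl, ← e, hi.hasAtMor_iff (ht _) ha hc w,
    hi.hasAtMor_iff (ht _) hb hc w₂, Over.comp_left, Groth.Agent.H12AlgSp.resTrdeg_comp,
    Groth.Agent.H12AlgSp.resTrdeg_eq_zero_of_lqf h₁.left u, add_zero]

end Groth.Agent.S10316
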