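import Groth.Statements.S10317
import Groth.Agent.H12AlgSp.NormalizationCodim

set_option autoImplicit false
set_option backward.isDefEq.respectTransparency false
universe u
open CategoryTheory CategoryTheory.Limits AlgebraicGeometry
open AlgSp

namespace Groth.Agent.S10317

/-- A codimension-0 point of the normalization X' of X in Y is the image of a codimension-0 point of Y.
(The published statement is phrased for a morphism of schemes; this row states it for a
quasi-compact quasi-separated morphism of algebraic spaces.) -/
theorem result {S : Scheme.{u}} {Y X X' : AlgSp.Space S} (f : Y ⟶ X)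
    (hqc : AlgSp.IsQuasiCompactMor f.hom) (hqs : AlgSp.IsQuasiSeparatedMor f.hom) (ν : X' ⟶ X) (f' : Y ⟶ X')
    (hn : AlgSp.IsRelNormalization f.hom ν.hom f'.hom) (x' : AlgSp.Points X'.obj) (hx' : AlgSp.HasAt (fun U u => ringKrullDim ↥(U.presheaf.stalk u) = 0) X'.obj x') :
    ∃ y : AlgSp.Points Y.obj, AlgSp.HasAt (fun U u => ringKrullDim ↥(U.presheaf.stalk u) = 0) Y.obj y ∧ AlgSp.Points.map f'.hom y = x' := by
  exact Groth.Agent.H12AlgSp.exists_codimZero_lift Y.property X.property X'.property f.hom hqc ν.hom f'.hom hn x' hx'

end Groth.Agent.S10317
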