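import Groth.Statements.S10318
import Groth.Agent.H12AlgSp.RelDimApps

set_option autoImplicit false
universe u
open CategoryTheory CategoryTheory.Limits AlgebraicGeometry
open AlgSp

namespace Groth.Agent.S10318

/-- Over a Jacobson algebraic space, a finite type point of a space locally of finite type over it has
transcendence degree 0 over its image. -/
theorem result {S : Scheme.{u}} {X Y : AlgSp.Space S} (f : X ⟶ Y)
    (hf : AlgSp.LocP @LocallyOfFiniteType f.hom) (hY : AlgSp.EtaleLocally (fun U => JacobsonSpace ↥U) Y.obj)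
    (x : AlgSp.Points X.obj) (hx : AlgSp.HasAt (fun U u => IsClosed ({u} : Set ↥U)) X.obj x) :
    AlgSp.HasAtMor (fun _ _ h u => Dual3.resTrdeg h u = 0) f.hom x := by
  obtain ⟨U₁, a₁, u₁, ha₁, rfl, hu₁⟩ := hx
  obtain ⟨V, b, hb, hbs, hV⟩ := hY
  obtain ⟨U, p, hp, hps⟩ := (Groth.Agent.H12AlgSp.isAlgSpace_pullback Y.property.diag X.property (AlgSp.IsAlgSpace.yon_obj V) f.hom b).atlas
  obtain ⟨h, hh⟩ := (AlgSp.yon S).map_surjective (p ≫ pullback.snd f.hom b)
  have ha : RepWith @Etale (p ≫ pullback.fst f.hom b) :=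
    Groth.Agent.H12AlgSp.repWith_comp hp (Groth.Agent.H12AlgSp.repWith_of_isPullback (IsPullback.of_hasPullback f.hom b).flip hb)
  have w : (p ≫ pullback.fst f.hom b) ≫ f.hom = (AlgSp.yon S).map h ≫ b := by
    simp only [hh, Category.assoc, pullback.condition]
  obtain ⟨u, hu⟩ := Groth.Agent.H12AlgSp.surjective_ofPt_of_repWith le_rfl
    (Groth.Agent.H12AlgSp.repWith_comp hps (Groth.Agent.H12AlgSp.repWith_of_isPullback (IsPullback.of_hasPullback f.hom b).flip hbs))
    (Points.ofPt a₁ u₁)
  have : LocallyOfFiniteType h.left := hf _ b h ha hb w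
  have : JacobsonSpace V.left := hV
  have : JacobsonSpace U.left := LocallyOfFiniteType.jacobsonSpace h.left
  have hc : IsClosed ({u} : Set U.left) := Groth.Agent.H13AlgSp.isClosed_transfer X.property ha₁ ha hu₁ hu.symm
  exact ⟨U, V, _, b, h, u, ha, hb, w, hu, Groth.Agent.H12AlgSp.resTrdeg_eq_zero_of_isClosed h.left hc⟩

end Groth.Agent.S10318
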