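import Groth.Statements.S10319
import Groth.Agent.H12AlgSp.RelDim

set_option autoImplicit false
universe u
open CategoryTheory CategoryTheory.Limits AlgebraicGeometry
open AlgSp

namespace Groth.Agent.S10319

/-- Transcendence degrees at a point add up along a composition of morphisms locally of finite type. -/
theorem result {S : Scheme.{u}} {X Y Z : AlgSp.Space S} (f : X ⟶ Y) (g : Y ⟶ Z)
    (hf : AlgSp.LocP @LocallyOfFiniteType f.hom) (hg : AlgSp.LocP @LocallyOfFiniteType g.hom)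
    (x : AlgSp.Points X.obj) (r₁ r₂ : Cardinal.{u})
    (h1 : AlgSp.HasAtMor (fun _ _ h u => Dual3.resTrdeg h u = r₁) f.hom x)
    (h2 : AlgSp.HasAtMor (fun _ _ h u => Dual3.resTrdeg h u = r₂) g.hom (AlgSp.Points.map f.hom x)) :
    AlgSp.HasAtMor (fun _ _ h u => Dual3.resTrdeg h u = r₁ + r₂) (f ≫ g).hom x := by
  obtain ⟨U, V, W, a, b, c, h₁, h₂, u, ha, hb, hc, w₁, w₂, w, rfl, e⟩ :=
    Groth.Agent.H12AlgSp.exists_chart_comp_at X.property Y.property Z.property f.hom g.hom x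
  have hi := fun r => Groth.Agent.H12AlgSp.etInvAt_resTrdeg.{u} (· = r)
  have ht : ∀ {A B : AlgSp.Sp S} (q : A ⟶ B), AlgSp.LocP ⊤ q := fun q _ _ _ _ _ _ _ _ => trivial
  rw [← e, (hi _).hasAtMor_iff (ht _) hb hc w₂] at h2
  rw [(hi _).hasAtMor_iff (ht _) ha hb w₁] at h1
  refine ⟨U, W, a, c, h₁ ≫ h₂, u, ha, hc, w, rfl, ?_⟩
  show Dual3.resTrdeg (h₁.left ≫ h₂.left) u = r₁ + r₂
  rw [Groth.Agent.H12AlgSp.resTrdeg_comp, h1, h2, add_comm]

end Groth.Agent.S10319
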