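import Groth.Statements.S10321
import Groth.Agent.H12AlgSp.LQFScheme2

set_option autoImplicit false
universe u
open CategoryTheory CategoryTheory.Limits AlgebraicGeometry
open AlgSp

namespace Groth.Agent.S10321

/-- Let X be separated and locally quasi-finite over an affine scheme T, let T' -> T be etale with T'
affine, and let V' be an open subspace of T' ×_T X that is quasi-affine over T'. Then V' maps onto a
quasi-compact open subspace of X that is itself a scheme. -/
theorem result {S : Scheme.{u}} {T T' : Over S} [IsAffine T.left]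
    [IsAffine T'.left] (e : T' ⟶ T) [Etale e.left] {X P V' : AlgSp.Space S} (f : X ⟶ (AlgSp.ofScheme S).obj T)
    (hsep : AlgSp.IsSeparatedMor f.hom) (hqf : AlgSp.LocP (@LocallyQuasiFinite ⊓ @LocallyOfFiniteType) f.hom)
    (p1 : P ⟶ (AlgSp.ofScheme S).obj T') (p2 : P ⟶ X)
    (sq : IsPullback p2.hom p1.hom f.hom ((AlgSp.yon S).map e)) (j : V' ⟶ P)
    (hj : AlgSp.RepWith @IsOpenImmersion j.hom) (hqa : AlgSp.IsQuasiAffineMor (j ≫ p1).hom) :
    ∃ (W : Over S) (i : (AlgSp.yon S).obj W ⟶ X.obj), AlgSp.RepWith @IsOpenImmersion i ∧ CompactSpace ↥W.left ∧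
      Set.range (AlgSp.Points.map i) = Set.range (AlgSp.Points.map (j ≫ p2).hom) := by
  exact Groth.Agent.H12AlgSp.exists_compact_open_subscheme_of_etale e X.property hsep hqf sq hj hqa

end Groth.Agent.S10321
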