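import Groth.Statements.S10323
import Groth.Agent.H12AlgSp.DimFormula

set_option autoImplicit false
universe u
open CategoryTheory CategoryTheory.Limits AlgebraicGeometry
open AlgSp

namespace Groth.Agent.S10323

/-- For Y locally Noetherian and f locally of finite type, the dimension of the local ring of X at x is
at most the dimension of the local ring of Y at the image point plus E minus the transcendence
degree of x over its image, where E bounds the transcendence degrees of the codimension-0 points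
specializing to x. -/
theorem result {S : Scheme.{u}} {X Y : AlgSp.Space S} (f : X ⟶ Y)
    (hY : AlgSp.IsLocNoethSp Y.obj) (hf : AlgSp.LocP @LocallyOfFiniteType f.hom) (x : AlgSp.Points X.obj)
    (E : Cardinal.{u})
    (hE : ∀ ξ : AlgSp.Points X.obj, ξ ⤳ x → AlgSp.HasAt (fun U u => ringKrullDim ↥(U.presheaf.stalk u) = 0) X.obj ξ →
      ∀ s : Cardinal.{u}, AlgSp.HasAtMor (fun _ _ h u => Dual3.resTrdeg h u = s) f.hom ξ → s ≤ E)
    (a b : WithBot ℕ∞) (r : Cardinal.{u})
    (ha : AlgSp.HasAt (fun U u => ringKrullDim ↥(U.presheaf.stalk u) = a) X.obj x)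
    (hb : AlgSp.HasAt (fun U u => ringKrullDim ↥(U.presheaf.stalk u) = b) Y.obj (AlgSp.Points.map f.hom x))
    (hr : AlgSp.HasAtMor (fun _ _ h u => Dual3.resTrdeg h u = r) f.hom x) :
    a + ((Cardinal.toENat r : ℕ∞) : WithBot ℕ∞) ≤ b + ((Cardinal.toENat E : ℕ∞) : WithBot ℕ∞) := by
  obtain ⟨U, V, p, q, h, u, hp, hq, w, rfl⟩ := Groth.Agent.H12AlgSp.exists_chart_at X.property Y.property f.hom x
  obtain ⟨U₁, p₁, u₁, hp₁, e₁, rfl⟩ := ha
  obtain ⟨V₁, q₁, v₁, hq₁, e₂, rfl⟩ := hb
  rw [Points.map_ofPt, w, Groth.Agent.H12AlgSp.ofPt_map] at e₂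
  rw [(Groth.Agent.H12AlgSp.etInvAt_resTrdeg (· = r)).hasAtMor_iff (fun _ _ _ _ _ _ _ _ => trivial) hp hq w] at hr
  rw [Groth.Agent.H12AlgSp.ringKrullDim_stalk_chart_eq X.property hp₁ hp e₁,
    Groth.Agent.H12AlgSp.ringKrullDim_stalk_chart_eq Y.property hq₁ hq e₂, ← hr]
  exact Groth.Agent.H12AlgSp.stalkDim_add_trdeg_le Y.property hY hf hp hq w u E hE

end Groth.Agent.S10323
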