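import Groth.Statements.S10324
import Groth.Agent.H12AlgSp.DimFormula

set_option autoImplicit false
universe u
open CategoryTheory CategoryTheory.Limits AlgebraicGeometry
open AlgSp

namespace Groth.Agent.S10324

/-- For Y locally Noetherian and f : X -> Y locally of finite type, dim X ≤ dim Y + E where E bounds the
transcendence degrees over Y of the codimension-0 points of X. -/
theorem result {S : Scheme.{u}} {X Y : AlgSp.Space S} (f : X ⟶ Y)
    (hY : AlgSp.IsLocNoethSp Y.obj) (hf : AlgSp.LocP @LocallyOfFiniteType f.hom) (E : Cardinal.{u})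
    (hE : ∀ ξ : AlgSp.Points X.obj, AlgSp.HasAt (fun U u => ringKrullDim ↥(U.presheaf.stalk u) = 0) X.obj ξ → ∀ s : Cardinal.{u}, AlgSp.HasAtMor (fun _ _ h u => Dual3.resTrdeg h u = s) f.hom ξ → s ≤ E) :
    AlgSp.dim X.obj ≤ AlgSp.dim Y.obj + ((Cardinal.toENat E : ℕ∞) : WithBot ℕ∞) := by
  refine iSup_le fun U₁ => iSup_le fun a₁ => iSup_le fun ha₁ =>
    Groth.Agent.H12AlgSp.topologicalKrullDim_le_of_stalks _ fun u₁ => ?_
  obtain ⟨U, V, a, b, h, u, ha, hb, w, e⟩ := Groth.Agent.H12AlgSp.exists_chart_at X.property Y.property f.hom (Points.ofPt a₁ u₁)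
  rw [Groth.Agent.H12AlgSp.ringKrullDim_stalk_chart_eq X.property ha₁ ha e.symm]
  refine ((le_add_of_nonneg_right ?_).trans (Groth.Agent.H12AlgSp.stalkDim_add_trdeg_le Y.property hY hf ha hb w u E
    (fun ξ _ hξ => hE ξ hξ))).trans (add_le_add ?_ le_rfl)
  · exact WithBot.coe_le_coe.2 bot_le
  · refine le_iSup_of_le V (le_iSup_of_le b (le_iSup_of_le hb ?_))
    rw [← PrimeSpectrum.topologicalKrullDim_eq_ringKrullDim]
    exact (V.left.fromSpecStalk _).isEmbedding.isInducing.topologicalKrullDim_le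

end Groth.Agent.S10324
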