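import Groth.Statements.S10325
import Groth.Agent.H12AlgSp.CoprodSpace

set_option autoImplicit false
universe u
open CategoryTheory CategoryTheory.Limits AlgebraicGeometry
open AlgSp

namespace Groth.Agent.S10325

/-- A finite disjoint union of algebraic spaces finite over Y is finite over Y. -/
theorem result {S : Scheme.{u}} {n : ℕ} (X : Fin n → AlgSp.Space S) (Y : AlgSp.Space S)
    (g : ∀ i, X i ⟶ Y) (hg : ∀ i, AlgSp.IsFiniteMor (g i).hom) (c : Cofan fun i => (X i).obj) (hc : IsColimit c)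
    (d : c.pt ⟶ Y.obj) (hd : ∀ i, c.inj i ≫ d = (g i).hom) : AlgSp.IsFiniteMor d := by
  let d' : Cofan (fun i : ULift.{u} (Fin n) => (X i.down).obj) := Cofan.mk c.pt fun i => c.inj i.down
  have hc' : IsColimit d' := Cofan.IsColimit.mk _
    (fun t => Cofan.IsColimit.desc hc fun i => t.inj ⟨i⟩)
    (fun t i => Cofan.IsColimit.fac hc _ i.down)
    (fun t m hm => Cofan.IsColimit.hom_ext hc _ _ fun i =>
      (hm ⟨i⟩).trans (Cofan.IsColimit.fac hc (fun i => t.inj ⟨i⟩) i).symm)
  refine Groth.Agent.H12AlgSp.isFiniteMor_cofan_desc hc' d fun i => ?_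
  change AlgSp.IsFiniteMor (c.inj i.down ≫ d)
  rw [hd]
  exact hg i.down

end Groth.Agent.S10325
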