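import Groth.Statements.S10327
import Groth.Agent.H12AlgSp.SepDescent
import Groth.Agent.H12AlgSp.ValuativeQS
import Groth.Agent.H12AlgSp.ValuativeClosed

set_option autoImplicit false
universe u
open CategoryTheory CategoryTheory.Limits AlgebraicGeometry
open AlgSp

namespace Groth.Agent.S10327

/-- For f quasi-compact and quasi-separated, f is separated and universally closed if and only if the
valuative criterion holds, if and only if every valuative square has a unique lift. -/
theorem result {S : Scheme.{u}} {X Y : AlgSp.Space S} (f : X ⟶ Y)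
    (hqc : AlgSp.IsQuasiCompactMor f.hom) (hqs : AlgSp.IsQuasiSeparatedMor f.hom) :
    ((AlgSp.IsSeparatedMor f.hom ∧ AlgSp.IsUnivClosedMor f.hom) ↔ AlgSp.VC f.hom) ∧
    ((AlgSp.IsSeparatedMor f.hom ∧ AlgSp.IsUnivClosedMor f.hom) ↔
      (AlgSp.UniqVC f.hom ∧ AlgSp.ExistVCStrict f.hom)) := by
  have h1 : (AlgSp.IsSeparatedMor f.hom ∧ AlgSp.IsUnivClosedMor f.hom) ↔ AlgSp.VC f.hom :=
    ⟨fun h => ⟨Groth.Agent.H12AlgSp.uniqVC_of_isSeparatedMor h.1,
        Groth.Agent.H12AlgSp.existVC_of_isUnivClosedMor X.property Y.property hqs h.2⟩,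
      fun h => ⟨Groth.Agent.H12AlgSp.isSeparatedMor_of_uniqVC X.property Y.property hqs h.1,
        Groth.Agent.H12AlgSp.isUnivClosedMor_of_existVC X.property Y.property hqc h.2⟩⟩
  refine ⟨h1, fun h => ⟨(h1.1 h).1, fun v => ?_⟩,
    fun h => h1.2 ⟨h.1, Groth.Agent.H12AlgSp.existVC_of_strict h.2⟩⟩
  obtain ⟨e, he⟩ := (h1.1 h).2 v
  exact Groth.Agent.H12AlgSp.hasLift_of_domExt_of_separated X.property Y.property h.1 v e he

end Groth.Agent.S10327
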