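import Groth.Statements.S10328
import Groth.Agent.H12AlgSp.RelDim

set_option autoImplicit false
universe u
open CategoryTheory CategoryTheory.Limits AlgebraicGeometry
open AlgSp

namespace Groth.Agent.S10328

/-- The relative dimension of a composite at a point is at most the sum of the relative dimensions, with
equality when the first morphism is flat at the point. (The published part (2) allows more generally
flatness of a fibre of X -> Y over a field point of Z; only the case f flat at x is stated.) -/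
theorem result {S : Scheme.{u}} {X Y Z : AlgSp.Space S} (f : X ⟶ Y) (g : Y ⟶ Z)
    (hf : AlgSp.LocP @LocallyOfFiniteType f.hom) (hg : AlgSp.LocP @LocallyOfFiniteType g.hom)
    (x : AlgSp.Points X.obj) (a b : WithBot ℕ∞)
    (ha : AlgSp.HasAtMor (fun _ _ h u => FlatMor.fibreDimAt h u = a) f.hom x)
    (hb : AlgSp.HasAtMor (fun _ _ h u => FlatMor.fibreDimAt h u = b) g.hom (AlgSp.Points.map f.hom x)) :
    AlgSp.HasAtMor (fun _ _ h u => FlatMor.fibreDimAt h u ≤ a + b) (f ≫ g).hom x ∧
    (AlgSp.IsFlatAtMor f.hom x → AlgSp.HasAtMor (fun _ _ h u => FlatMor.fibreDimAt h u = a + b) (f ≫ g).hom x) := by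
  obtain ⟨U, V, W, p, q, c, h₁, h₂, u, hp, hq, hc, w₁, w₂, w, rfl, e⟩ :=
    Groth.Agent.H12AlgSp.exists_chart_comp_at X.property Y.property Z.property f.hom g.hom x
  have : LocallyOfFiniteType h₁.left := hf p q h₁ hp hq w₁
  have : LocallyOfFiniteType h₂.left := hg q c h₂ hq hc w₂
  rw [(Groth.Agent.H12AlgSp.etInvAt_fibreDimAt (· = a)).hasAtMor_iff hf hp hq w₁] at ha
  rw [← e, (Groth.Agent.H12AlgSp.etInvAt_fibreDimAt (· = b)).hasAtMor_iff hg hq hc w₂] at hb
  have key := Groth.Agent.H8Props.FieldDim.fibreDimAt_comp_le h₁.left h₂.left u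
  rw [ha, hb] at key
  exact ⟨⟨U, W, p, c, h₁ ≫ h₂, u, hp, hc, w, rfl, key.1⟩,
    fun hfl => ⟨U, W, p, c, h₁ ≫ h₂, u, hp, hc, w, rfl, key.2 (hfl p q h₁ u hp hq w₁ rfl)⟩⟩

end Groth.Agent.S10328
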