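import Groth.Statements.S10329
import Groth.Agent.H12AlgSp.OpenLoci

set_option autoImplicit false
universe u
open CategoryTheory CategoryTheory.Limits AlgebraicGeometry
open AlgSp

namespace Groth.Agent.S10329

/-- If the fibre of a morphism locally of finite type has dimension 0 at a point, then the morphism is
locally quasi-finite on some open subspace containing the image of that point. -/
theorem result {S : Scheme.{u}} {X Y F : AlgSp.Space S} (f : X ⟶ Y)
    (hf : AlgSp.LocP @LocallyOfFiniteType f.hom) (k : Type u) [Field k] (str : Spec (.of k) ⟶ S)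
    (y : (AlgSp.yon S).obj (Over.mk str) ⟶ Y.obj) (p : F ⟶ X) (q : F.obj ⟶ (AlgSp.yon S).obj (Over.mk str))
    (sq : IsPullback p.hom q f.hom y) (z : AlgSp.Points F.obj)
    (hz : AlgSp.HasAt (fun U u => FlatMor.localDim ↥U u = 0) F.obj z) :
    ∃ (X' : AlgSp.Space S) (j : X' ⟶ X), AlgSp.RepWith @IsOpenImmersion j.hom ∧
      AlgSp.Points.map p.hom z ∈ Set.range (AlgSp.Points.map j.hom) ∧
      AlgSp.LocP (@LocallyQuasiFinite ⊓ @LocallyOfFiniteType) (j ≫ f).hom := by
  obtain ⟨U, V, O, T, a, c, h, a', b', m, h', kk, o, ha, hc, w, ha', hb', w', sqO, e', e⟩ :=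
    Groth.Agent.H12AlgSp.exists_baseChange_chart_at sq X.property Y.property (AlgSp.IsAlgSpace.yon_obj _) z
  have : LocallyOfFiniteType h.left := hf a c h ha hc w
  have : LocallyOfFiniteType h'.left := MorphismProperty.of_isPullback sqO ‹_›
  obtain ⟨t, rfl⟩ := (AlgSp.yon S).map_surjective b'
  have : Etale t.left := (AlgSp.repWith_yon_map_iff _ t).1 hb'
  haveI : Subsingleton ↥(Over.mk str).left := inferInstanceAs (Subsingleton (PrimeSpectrum k))
  obtain ⟨U₁, a₁, u₁, ha₁, e₁, h₁⟩ := hz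
  have hO : FlatMor.localDim ↥O.left o = 0 := by
    rw [← h₁]
    exact Groth.Agent.H12AlgSp.localDim_chart_eq F.property ha' ha₁ (e'.trans e₁.symm)
  have hd : FlatMor.fibreDimAt h.left (m.left o) ≤ 0 := by
    rw [← Groth.Agent.H8Props.FieldDim.fibreDimAt_baseChange h.left sqO o,
      ← Groth.Agent.H12AlgSp.fibreDimAt_etale_postcomp h'.left t.left o,
      Groth.Agent.H12AlgSp.fibreDimAt_of_subsingleton, hO]
  have hP := Groth.Agent.H12AlgSp.etLocal_inf Groth.Agent.H12AlgSp.etLocal_lqf.{u} Groth.Agent.H12AlgSp.etLocal_lft.{u}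
  obtain ⟨X', j, hX', hj, hr⟩ := Groth.Agent.H12AlgSp.exists_open_subspace X.property
    (Groth.Agent.H12AlgSp.isOpen_nbhdLocus (P := @LocallyQuasiFinite ⊓ @LocallyOfFiniteType) f.hom)
  refine ⟨⟨X', hX'⟩, ObjectProperty.homMk j, hj, ?_, ?_⟩
  · refine hr.symm.subset ?_
    show AlgSp.HasAtMor _ f.hom _
    rw [← e]
    exact (Groth.Agent.H12AlgSp.nbhd_hasAtMor_iff hP ha hc w _).2 ((Groth.Agent.H12AlgSp.nbhd_lqf_iff h.left _).2 hd)
  · exact (Groth.Agent.H12AlgSp.locP_iff_forall_nbhd hP hX' Y.property (j ≫ f.hom)).2 fun z =>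
      Groth.Agent.H12AlgSp.nbhd_comp_of_openImmersion hP hX' Y.property hj (hr.subset ⟨z, rfl⟩)

end Groth.Agent.S10329
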