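import Groth.Statements.S10333
import Groth.Agent.H12AlgSp.NormalizationReduced

set_option autoImplicit false
set_option backward.isDefEq.respectTransparency false
universe u
open CategoryTheory CategoryTheory.Limits AlgebraicGeometry
open AlgSp

namespace Groth.Agent.S10333

/-- Let f : Y -> X be a morphism of algebraic spaces over S that is quasi-compact and quasi-separated,
and X' -> X the normalization of X in Y (an integral morphism through which f factors, initial among
such factorizations). If Y is reduced then X' is reduced. -/
theorem result {S : Scheme.{u}} {Y X X' : AlgSp.Space S} (f : Y ⟶ X)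
    (hqc : AlgSp.IsQuasiCompactMor f.hom) (hqs : AlgSp.IsQuasiSeparatedMor f.hom) (ν : X' ⟶ X) (f' : Y ⟶ X')
    (hn : AlgSp.IsRelNormalization f.hom ν.hom f'.hom) (hY : AlgSp.IsReducedSp Y.obj) :
    AlgSp.IsReducedSp X'.obj := by
  exact Groth.Agent.H12AlgSp.isReducedSp_normalization X'.property Y.property f.hom ν.hom f'.hom hn hY

end Groth.Agent.S10333
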