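import Groth.Statements.S10335
import Groth.Agent.H12AlgSp.TrdegBaseChange

set_option autoImplicit false
universe u
open CategoryTheory CategoryTheory.Limits AlgebraicGeometry
open AlgSp

namespace Groth.Agent.S10335

/-- In a base change square of algebraic spaces with f : X -> Y locally of finite type and f' : X' -> Y'
its base change along g : Y' -> Y, take a point x' of X' over x. The fibre of f' has a local ring at
x' whose dimension exceeds the corresponding dimension for the fibre of f at x by exactly the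
transcendence degree of x over f(x) minus that of x' over f'(x'), and this excess is never negative;
and for x in X and y' in Y' over the same point of Y some x' over both has excess zero. All four
quantities are read on some chart diagram through the point. -/
theorem result {S : Scheme.{u}} {X Y Y' X' : AlgSp.Space S} (f : X ⟶ Y) (g : Y' ⟶ Y)
    (g' : X' ⟶ X) (f' : X' ⟶ Y') (sq : IsPullback g'.hom f'.hom f.hom g.hom)
    (hf : AlgSp.LocP @LocallyOfFiniteType f.hom) :
    (∀ (x' : AlgSp.Points X'.obj) (e e' : WithBot ℕ∞) (r r' : Cardinal.{u}),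
      AlgSp.HasAtMor (fun _ _ h u => ringKrullDim ↥((h.fiber (h u)).presheaf.stalk (h.asFiber u)) = e) f.hom
          (AlgSp.Points.map g'.hom x') →
      AlgSp.HasAtMor (fun _ _ h u => Dual3.resTrdeg h u = r) f.hom (AlgSp.Points.map g'.hom x') →
      AlgSp.HasAtMor (fun _ _ h u => ringKrullDim ↥((h.fiber (h u)).presheaf.stalk (h.asFiber u)) = e') f'.hom x' →
      AlgSp.HasAtMor (fun _ _ h u => Dual3.resTrdeg h u = r') f'.hom x' →
        e' + ((Cardinal.toENat r' : ℕ∞) : WithBot ℕ∞) = e + ((Cardinal.toENat r : ℕ∞) : WithBot ℕ∞) ∧ e ≤ e') ∧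
    (∀ (x : AlgSp.Points X.obj) (y' : AlgSp.Points Y'.obj) (e : WithBot ℕ∞),
      AlgSp.Points.map f.hom x = AlgSp.Points.map g.hom y' →
      AlgSp.HasAtMor (fun _ _ h u => ringKrullDim ↥((h.fiber (h u)).presheaf.stalk (h.asFiber u)) = e) f.hom x →
        ∃ x' : AlgSp.Points X'.obj, AlgSp.Points.map g'.hom x' = x ∧ AlgSp.Points.map f'.hom x' = y' ∧
          AlgSp.HasAtMor (fun _ _ h u => ringKrullDim ↥((h.fiber (h u)).presheaf.stalk (h.asFiber u)) = e)
            f'.hom x') := by
  have hf' : AlgSp.LocP @LocallyOfFiniteType f'.hom :=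
    Groth.Agent.H12AlgSp.locP_of_isPullback Groth.Agent.H12AlgSp.etLocal_lft sq X.property Y.property Y'.property hf
  have htop : ∀ {A B : AlgSp.Sp S} (q : A ⟶ B), AlgSp.LocP ⊤ q := fun q _ _ _ _ _ _ _ _ => trivial
  refine ⟨fun x' e e' r r' he hr he' hr' => ?_, fun x y' e hxy he => ?_⟩
  · obtain ⟨U, V, O, T, a, b, h, a', b', m, h', k, o, ha, hb, w, ha', hb', w', sqO, rfl, eo⟩ :=
      Groth.Agent.H12AlgSp.exists_baseChange_chart_at sq X.property Y.property Y'.property x'
    have : LocallyOfFiniteType h.left := hf a b h ha hb w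
    have : LocallyOfFiniteType h'.left := MorphismProperty.of_isPullback sqO ‹_›
    rw [← eo, (Groth.Agent.H12AlgSp.etInvAt_fibreStalkDim (· = e)).hasAtMor_iff hf ha hb w] at he
    rw [← eo, (Groth.Agent.H12AlgSp.etInvAt_resTrdeg (· = r)).hasAtMor_iff (htop _) ha hb w] at hr
    rw [(Groth.Agent.H12AlgSp.etInvAt_fibreStalkDim (· = e')).hasAtMor_iff hf' ha' hb' w'] at he'
    rw [(Groth.Agent.H12AlgSp.etInvAt_resTrdeg (· = r')).hasAtMor_iff (htop _) ha' hb' w'] at hr'
    have hd := Groth.Agent.H8Props.FieldDim.fibreDimAt_baseChange h.left sqO o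
    have hle := Groth.Agent.H12AlgSp.resTrdeg_baseChange_le sqO o
    obtain ⟨e₁, t₁, he₁, hr₁, hd₁⟩ := Groth.Agent.H12AlgSp.fibre_ringKrullDim_eq h.left (m.left o)
    obtain ⟨e₂, t₂, he₂, hr₂, hd₂⟩ := Groth.Agent.H12AlgSp.fibre_ringKrullDim_eq h'.left o
    rw [hd₁, hd₂, WithBot.coe_inj] at hd
    rw [hr₁, hr₂, Nat.cast_le] at hle
    rw [← he, ← hr, ← he', ← hr', he₁, he₂, hr₁, hr₂, Cardinal.toENat_nat, Cardinal.toENat_nat,
      ← WithBot.coe_add, ← WithBot.coe_add, WithBot.coe_inj, WithBot.coe_le_coe]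
    refine ⟨hd, WithTop.le_of_add_le_add_right (ENat.natCast_ne_top t₁) ?_⟩
    exact hd.symm.le.trans (add_le_add le_rfl (Nat.cast_le.2 hle))
  · obtain ⟨z, hz₁, hz₂⟩ := Groth.Agent.H12AlgSp.exists_point_of_isPullback sq x y' hxy
    obtain ⟨U, V, O, T, a, b, h, a', b', m, h', k, o, ha, hb, w, ha', hb', w', sqO, eo, eu, hfst⟩ :=
      Groth.Agent.H12AlgSp.exists_baseChange_chart_at' sq X.property Y.property Y'.property z
    have : LocallyOfFiniteType h.left := hf a b h ha hb w
    have : LocallyOfFiniteType h'.left := MorphismProperty.of_isPullback sqO ‹_›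
    rw [hz₁] at eu
    rw [← eu, (Groth.Agent.H12AlgSp.etInvAt_fibreStalkDim (· = e)).hasAtMor_iff hf ha hb w] at he
    have hku : h.left (m.left o) = k.left (h'.left o) := by
      rw [← Scheme.Hom.comp_apply, sqO.w, Scheme.Hom.comp_apply]
    obtain ⟨o', ho₁, ho₂, htr⟩ := Groth.Agent.H12AlgSp.exists_resTrdeg_baseChange_eq sqO (m.left o) (h'.left o) hku
    refine ⟨Points.ofPt a' o', ?_, ?_, ⟨O, T, a', b', h', o', ha', hb', w', rfl, ?_⟩⟩
    · rw [Points.map_ofPt, hfst, Groth.Agent.H12AlgSp.ofPt_map, ho₁, eu]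
    · rw [← hz₂, ← eo, Points.map_ofPt, Points.map_ofPt, w', Groth.Agent.H12AlgSp.ofPt_map,
        Groth.Agent.H12AlgSp.ofPt_map, ho₂]
    · refine (Groth.Agent.H12AlgSp.fibreStalkDim_eq_of_eq h'.left h.left (x' := m.left o) ?_ htr).trans he
      rw [Groth.Agent.H8Props.FieldDim.fibreDimAt_baseChange h.left sqO o', ho₁]

end Groth.Agent.S10335
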