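import Groth.Statements.S10336
import Groth.Agent.H12AlgSp.AffineMor

set_option autoImplicit false
universe u
open CategoryTheory CategoryTheory.Limits AlgebraicGeometry
open AlgSp

namespace Groth.Agent.S10336

/-- Integrality, finiteness and finite local freeness of a morphism f : X -> Y of algebraic spaces over
S can be checked on the restrictions of f over the members of a Zariski covering of Y by open
subspaces. -/
theorem result {S : Scheme.{u}} {X Y : AlgSp.Space S} (f : X ⟶ Y) {ι : Type u}
    (Yi : ι → AlgSp.Space S) (j : ∀ i, Yi i ⟶ Y) (hj : AlgSp.IsZarCover (fun i => (Yi i).obj) (fun i => (j i).hom))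
    (Xi : ι → AlgSp.Sp S) (p : ∀ i, Xi i ⟶ X.obj) (q : ∀ i, Xi i ⟶ (Yi i).obj)
    (sq : ∀ i, IsPullback (p i) (q i) f.hom (j i).hom) :
    ((∀ i, AlgSp.IsIntegralMor (q i)) → AlgSp.IsIntegralMor f.hom) ∧
    ((∀ i, AlgSp.IsFiniteMor (q i)) → AlgSp.IsFiniteMor f.hom) ∧
    ((∀ i, AlgSp.IsFinLocFreeMor (q i)) → AlgSp.IsFinLocFreeMor f.hom) := by
  open Groth.Agent.H12AlgSp Groth.Agent.H13AlgSp in
  (have hc : IsFpqcCover (fun i => (Yi i).obj) (fun i => (j i).hom) :=
     isFpqcCover_of_etale_family (fun i => repWith_le (fun _ _ k (_ : IsOpenImmersion k) => inferInstanceAs (Etale k)) (hj.1 i)) hj.2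
   have hint : (∀ i, RepWith @IsIntegralHom (q i)) → RepWith @IsIntegralHom f.hom := fun h =>
     repWith_of_fpqc (fun _ _ k (_ : IsIntegralHom k) => inferInstanceAs (IsAffineHom k)) X.property Y.property hc sq h
   have hfin : (∀ i, RepWith @IsFinite (q i)) → RepWith @IsFinite f.hom := fun h =>
     repWith_of_fpqc (fun _ _ k (_ : IsFinite k) => inferInstanceAs (IsAffineHom k)) X.property Y.property hc sq h
   refine ⟨fun h => isIntegralMor_iff.2 (hint fun i => isIntegralMor_iff.1 (h i)),
     fun h => isFiniteMor_iff.2 (hfin fun i => isFiniteMor_iff.1 (h i)), fun h => ?_⟩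
   have h' := fun i => repWith_finLocFree_iff.1 (h i)
   have hf := hfin fun i => (h' i).1
   exact repWith_finLocFree_iff.2 ⟨hf,
     repWith_of_locP etLocal_flat Y.property hf.1 (etaleFibre_of_fpqc hc sq fun i => etaleFibre_of_repWith (h' i).2.1).locP,
     repWith_of_locP etLocal_lfp Y.property hf.1 (etaleFibre_of_fpqc hc sq fun i => etaleFibre_of_repWith (h' i).2.2).locP⟩)

end Groth.Agent.S10336
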