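import Groth.Statements.S10344
import Groth.Agent.H12AlgSp.DecentPoint

set_option autoImplicit false
universe u
open CategoryTheory CategoryTheory.Limits AlgebraicGeometry Topology TopologicalSpace
open AlgSp

namespace Groth.Agent.S10344

/-- Let S be a scheme, Y and X algebraic spaces over S, and f : Y ⟶ X a flat morphism, and let x' ⤳ x be
a specialization in |X|, where x' is represented by a monomorphism Spec k ⟶ X which is representable
quasi-compact (for instance X decent). Then generalizations lift along f at x: every y ∈ |Y| over x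
has a generization y' over x'. -/
theorem result {S : Scheme.{u}} {X Y : AlgSp.Space S} (f : Y ⟶ X)
    (hf : AlgSp.LocP @Flat f.hom) (x x' : AlgSp.Points X.obj) (h : x' ⤳ x)
    (hx' : ∃ p : AlgSp.FieldPt X.obj, AlgSp.Points.mk p = x' ∧ Mono p.toHom ∧ AlgSp.RepWith @QuasiCompact p.toHom)
    (y : AlgSp.Points Y.obj) (hy : AlgSp.Points.map f.hom y = x) :
    ∃ y' : AlgSp.Points Y.obj, y' ⤳ y ∧ AlgSp.Points.map f.hom y' = x' := by
  obtain ⟨p, rfl, -, hqc⟩ := hx'
  subst hy
  exact Groth.Agent.H12AlgSp.exists_lift_generization_flat X.property Y.property hf (fun V b hV hb => @Groth.Agent.H12AlgSp.finite_fibre_affine _ _ p hqc V hV b hb) y h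

end Groth.Agent.S10344
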