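import Groth.Statements.S10345
import Groth.Agent.H12AlgSp.DecentDim

set_option autoImplicit false
universe u
open CategoryTheory CategoryTheory.Limits AlgebraicGeometry Topology TopologicalSpace
open AlgSp

namespace Groth.Agent.S10345

/-- For a decent algebraic space X over a scheme S the Krull dimension of the topological space |X|
equals the dimension of X (the supremum of the Krull dimensions of the schemes etale over X). -/
theorem result {S : Scheme.{u}} (X : AlgSp.Space S)
    (hX : AlgSp.IsDecent X.obj) :
    topologicalKrullDim (AlgSp.Points X.obj) = AlgSp.dim X.obj := by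
  refine le_antisymm (Groth.Agent.H28Top.dim_le_of_chains fun s => ?_) (iSup_le fun U => iSup_le fun a => iSup_le fun ha => Groth.Agent.H28Top.dim_le_of_chains fun s => ?_)
  · obtain ⟨z, hz⟩ := s.head.isIrreducible.nonempty
    obtain ⟨U, a, ha, has⟩ := X.property.atlas
    obtain ⟨u, rfl⟩ := Groth.Agent.H12AlgSp.surjective_ofPt_of_repWith le_rfl has z
    refine (Groth.Agent.H28Top.chain_le_localDim s hz).trans ?_
    rw [← Groth.Agent.H12AlgSp.localDim_chart_points X hX ha u]
    exact (Groth.Agent.H28Top.localDim_le_dim u).trans (le_iSup_of_le U (le_iSup_of_le a (le_iSup_of_le ha le_rfl)))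
  · obtain ⟨z, hz⟩ := s.head.isIrreducible.nonempty
    refine (Groth.Agent.H28Top.chain_le_localDim s hz).trans ?_
    rw [Groth.Agent.H12AlgSp.localDim_chart_points X hX ha z]
    exact Groth.Agent.H28Top.localDim_le_dim _

end Groth.Agent.S10345
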