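import Groth.Statements.S10376
import Groth.Agent.H12AlgSp.NormSp.BaseChange
import Groth.Agent.H12AlgSp.Proper
import Groth.Agent.H12AlgSp.OpenSub

set_option autoImplicit false
universe u
open CategoryTheory CategoryTheory.Limits AlgebraicGeometry Topology TopologicalSpace
open AlgSp Groth.Agent.H12AlgSp Groth.Agent.H12AlgSp.NormSp Groth.Agent.H13AlgSp

namespace Groth.Agent.S10376

/-- Let S be a scheme, Y and V algebraic spaces over S, j : V ⟶ Y a quasi-compact open immersion, and π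
: Z ⟶ V an integral morphism. Then one can find an integral morphism ν : Y' ⟶ Y for which Z is
isomorphic over V to the preimage in Y' of V: there is j' : Z ⟶ Y' making the square (j', π, ν, j)
cartesian. -/
theorem result {S : Scheme.{u}} {V Y Z : AlgSp.Space S} (j : V ⟶ Y)
    (hj : AlgSp.RepWith @IsOpenImmersion j.hom) (hjq : AlgSp.IsQuasiCompactMor j.hom) (π : Z ⟶ V)
    (hπ : AlgSp.IsIntegralMor π.hom) :
    ∃ (Y' : AlgSp.Space S) (ν : Y' ⟶ Y) (j' : Z ⟶ Y'), AlgSp.IsIntegralMor ν.hom ∧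
      IsPullback j'.hom π.hom ν.hom j.hom := by
  haveI hjm : Mono j.hom := mono_of_openImmersion hj
  have hπsep : IsSeparatedMor π.hom := isSeparatedMor_of_repWith
    (repWith_le (fun _ _ k (_ : IsIntegralHom k) => inferInstanceAs (IsSeparated k))
      (Groth.Agent.H13AlgSp.isIntegralMor_iff.1 hπ))
  have hqs : IsQuasiSeparatedMor (π.hom ≫ j.hom) :=
    repWith_le (fun _ _ k (_ : IsClosedImmersion k) => inferInstanceAs (QuasiCompact k))
      (isSeparatedMor_comp hπsep (isSeparatedMor_of_mono j.hom))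
  have hqc : IsQuasiCompactMor (π.hom ≫ j.hom) := isQuasiCompactMor_comp V.property Y.property
    (isQuasiCompactMor_of_repWith Z.property V.property
      (repWith_le (fun _ _ k (_ : IsIntegralHom k) => inferInstanceAs (QuasiCompact k))
        (Groth.Agent.H13AlgSp.isIntegralMor_iff.1 hπ))) hjq
  obtain ⟨Q, νQ, f₀, hQ, hn, hfull⟩ :=
    Groth.Agent.H12AlgSp.NormSp.exists_isRelNormalization Z.property Y.property (π.hom ≫ j.hom) hqc hqs
  have sqZ : IsPullback (𝟙 Z.obj) π.hom (π.hom ≫ j.hom) j.hom :=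
    (IsPullback.of_horiz_isIso_mono (fst := 𝟙 Z.obj) (snd := π.hom) (f := π.hom ≫ j.hom) (g := j.hom) ⟨by simp⟩)
  have hje : LocP @Smooth j.hom := locP_smooth_of_isEtaleMor fun _ _ hφ =>
    repWith_comp hφ (repWith_le (fun _ _ k (_ : IsOpenImmersion k) => inferInstanceAs (Etale k)) hj)
  have sqQ := IsPullback.of_hasPullback νQ j.hom
  let m : Z.obj ⟶ Limits.pullback νQ j.hom := pullback.lift f₀ π.hom hn.1
  have hm := hfull V.property j.hom hje _ _ _ _ m sqZ sqQ
    (by rw [pullback.lift_fst, Category.id_comp]) (pullback.lift_snd _ _ _)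
  have hid : AlgSp.IsRelNormalization π.hom π.hom (𝟙 Z.obj) :=
    ⟨Category.id_comp _, hπ, fun W hW ρ g hρ hg => ⟨g, ⟨Category.id_comp _, hg⟩,
      fun k hk => by simpa using hk.1⟩⟩
  obtain ⟨e, he1, he2⟩ := Groth.Agent.H12AlgSp.NormSp.exists_iso_of_isRelNormalization Z.property
    (Groth.Agent.H12AlgSp.isAlgSpace_pullback Y.property.diag hQ V.property νQ j.hom) hid hm
  refine ⟨⟨Q, hQ⟩, ObjectProperty.homMk νQ, ObjectProperty.homMk f₀, hn.2.1, ?_⟩
  exact IsPullback.of_iso_pullback ⟨by show f₀ ≫ νQ = π.hom ≫ j.hom; exact hn.1⟩ e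
    (by rw [← Category.id_comp e.hom, he1]; exact pullback.lift_fst _ _ _) he2

end Groth.Agent.S10376
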