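import Groth.Statements.S10385
import Groth.Agent.H13AlgSp.DecentApps

set_option autoImplicit false
universe u
open CategoryTheory CategoryTheory.Limits AlgebraicGeometry Topology TopologicalSpace
open AlgSp

namespace Groth.Agent.S10385

open Groth.Agent.H12AlgSp Groth.Agent.H13AlgSp


/-- Let S be a scheme, X and Y algebraic spaces over S, and f : X ⟶ Y a quasi-compact, etale and
surjective morphism. If each point of X can be represented by a monomorphism whose source is the
spectrum of a field, then so can each point of Y. -/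
theorem result {S : Scheme.{u}} {X Y : AlgSp.Space S} (f : X ⟶ Y)
    (hq : AlgSp.IsQuasiCompactMor f.hom) (he : AlgSp.IsEtaleMor f.hom) (hs : AlgSp.IsSurjectiveMor f.hom)
    (hX : ∀ x : AlgSp.Points X.obj, ∃ p : AlgSp.FieldPt X.obj, AlgSp.Points.mk p = x ∧ Mono p.toHom)
    (y : AlgSp.Points Y.obj) : ∃ q : AlgSp.FieldPt Y.obj, AlgSp.Points.mk q = y ∧ Mono q.toHom := by
  obtain ⟨x, rfl⟩ := hs y
  obtain ⟨p, rfl, hm⟩ := hX x
  let q : (AlgSp.yon S).obj p.pt ⟶ Y.obj := p.toHom ≫ f.hom
  have sqF := IsPullback.of_hasPullback f.hom q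
  have hF := isAlgSpace_pullback Y.property.diag X.property (AlgSp.IsAlgSpace.yon_obj p.pt) f.hom q
  have hFe : AlgSp.LocP @Etale (pullback.snd f.hom q) :=
    Groth.Agent.H12AlgSp.locP_of_isPullback etLocal_etale sqF X.property Y.property
      (AlgSp.IsAlgSpace.yon_obj _) (Groth.Agent.H12AlgSp.locP_etale_of_isEtaleMor he)
  have : Subsingleton p.pt.left := inferInstanceAs (Subsingleton (Spec (CommRingCat.of p.K)))
  obtain ⟨W, ⟨e⟩⟩ := (isRepresentable_of_etale_field hF hFe).has_representation
  let ι := AlgSp.isoOfRepresentableBy e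
  obtain ⟨w, hw⟩ := (AlgSp.yon S).map_surjective (ι.hom ≫ pullback.snd f.hom q)
  have hwe : Etale w.left := hFe ι.hom (𝟙 _) w (repWith_of_isIso _) (repWith_id _ _)
    (by rw [hw, Category.comp_id])
  have sqW : IsPullback (ι.hom ≫ pullback.fst f.hom q) ((AlgSp.yon S).map w) f.hom q :=
    sqF.of_iso ι.symm (Iso.refl _) (Iso.refl _) (Iso.refl _) (by simp) (by simp [hw]) (by simp) (by simp)
  have hc : CompactSpace W.left := by
    refine isQuasiCompactSp_yon_iff.1 (hq (AlgSp.IsAlgSpace.yon_obj p.pt)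
      (isQuasiCompactSp_yon_iff.2 ?_) _ _ _ sqW)
    exact inferInstanceAs (CompactSpace (Spec (CommRingCat.of p.K)))
  have : DiscreteTopology W.left := by
    have : LocallyQuasiFinite w.left := lqf_of_etale w.left
    exact discreteTopology_of_lqf_to_field (w.left : W.left ⟶ Spec (CommRingCat.of p.K))
  have hWf : Finite W.left := finite_of_compact_of_discrete
  have hwf : IsFinite w.left :=
    @isFinite_of_finite_etale _ _ _ (w.left : W.left ⟶ Spec (CommRingCat.of p.K)) hwe hWf
  obtain ⟨P, j, g, sq1⟩ := X.property.representable_from_yon p.toHom (ι.hom ≫ pullback.fst f.hom q)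
  obtain ⟨g, rfl⟩ := (AlgSp.yon S).map_surjective g
  have := hm
  have : Mono ((AlgSp.yon S).map j) := mono_of_sq sq1.flip
  have hjm : Mono j := (AlgSp.yon S).mono_of_mono_map ‹_›
  have : Mono j.left := Over.mono_left_of_mono j
  obtain ⟨h1, h2⟩ := @finite_etale_of_mono p.K _ _ _ j.left this
    (w.left : W.left ⟶ Spec (CommRingCat.of p.K)) hwf hwe
  have big := sq1.paste_vert sqW
  rw [← Functor.map_comp] at big
  have : IsFinite (j ≫ w).left := h1
  have : Etale (j ≫ w).left := h2
  obtain ⟨k, _, str', c, m, hcs, hmq, hmm⟩ := exists_mono_of_finite_etale_self Y.property q big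
  refine ⟨fieldPtOfHom m, ?_, by rw [toHom_fieldPtOfHom]; exact hmm⟩
  have h3 : AlgSp.Points.ofPt q (IsLocalRing.closedPoint p.K) =
      AlgSp.Points.map f.hom (AlgSp.Points.mk p) := by
    rw [← AlgSp.Points.ofPt_toHom p (IsLocalRing.closedPoint p.K), AlgSp.Points.map_ofPt]
  rw [← h3, ← hmq, ofPt_map, ← AlgSp.Points.ofPt_toHom (fieldPtOfHom m) (c.left (IsLocalRing.closedPoint p.K)),
    toHom_fieldPtOfHom]
  rfl

end Groth.Agent.S10385
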