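import Groth.Statements.S10386
import Groth.Agent.H13AlgSp.Decent

set_option autoImplicit false
universe u
open CategoryTheory CategoryTheory.Limits AlgebraicGeometry Topology TopologicalSpace
open AlgSp

namespace Groth.Agent.S10386

/-- (3) ⇒ (1): let S be a scheme, X and Y algebraic spaces over S, and f : X ⟶ Y a morphism such that Z
×_Y X is decent for every affine scheme Z and every Z ⟶ Y. Then f is decent, i.e. T ×_Y X is decent
for every scheme T over Y. -/
theorem result {S : Scheme.{u}} {X Y : AlgSp.Space S} (f : X ⟶ Y)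
    (h : ∀ (Z : Over S) (g : (AlgSp.yon S).obj Z ⟶ Y.obj) (P : AlgSp.Sp S) (fst : P ⟶ X.obj)
      (snd : P ⟶ (AlgSp.yon S).obj Z), IsAffine Z.left → IsPullback fst snd f.hom g → AlgSp.IsDecent P) :
    AlgSp.IsDecentMor f.hom := by
  exact Groth.Agent.H13AlgSp.isDecentMor_of_fields f.hom h

end Groth.Agent.S10386
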