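import Groth.Statements.S10387
import Groth.Agent.H13AlgSp.DecentApps

set_option autoImplicit false
universe u
open CategoryTheory CategoryTheory.Limits AlgebraicGeometry Topology TopologicalSpace
open AlgSp

namespace Groth.Agent.S10387

open Groth.Agent.H12AlgSp Groth.Agent.H13AlgSp


/-- (5) ⇒ (1): let S be a scheme, X and Y algebraic spaces over S, f : X ⟶ Y a morphism, and V ⟶ Y a
surjective etale morphism from a scheme. If the base change V ×_Y X ⟶ V is a decent morphism, then f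
is decent. -/
theorem result {S : Scheme.{u}} {X Y : AlgSp.Space S} (f : X ⟶ Y) {V : Over S}
    (p : (AlgSp.yon S).obj V ⟶ Y.obj) (hp : AlgSp.RepWith @Etale p) (hps : AlgSp.RepWith @Surjective p)
    (X' : AlgSp.Sp S) (fst : X' ⟶ X.obj) (snd : X' ⟶ (AlgSp.yon S).obj V) (hsq : IsPullback fst snd f.hom p)
    (h : AlgSp.IsDecentMor snd) : AlgSp.IsDecentMor f.hom := by
  classical
  refine isDecentMor_of_fields f.hom fun Z g P fst' snd' hZ sq' => ?_
  obtain ⟨Z', t, k, sqT⟩ := hp.1 g
  have : Etale t.left := hp.2 _ _ _ sqT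
  have : Surjective t.left := hps.2 _ _ _ sqT
  obtain ⟨σ, hσ⟩ := (isCompact_univ (X := Z.left)).elim_finite_subcover
    (fun O : Z'.left.affineOpens => t.left '' (O.1 : Set ↥Z'.left))
    (fun O => t.left.isOpenMap _ O.1.2) (fun z _ => by
      obtain ⟨z', rfl⟩ := t.left.surjective z
      obtain ⟨O, hO, hz, -⟩ := exists_isAffineOpen_mem_and_subset (U := (⊤ : Z'.left.Opens)) (x := z') trivial
      exact Set.mem_iUnion.2 ⟨⟨O, hO⟩, z', hz, rfl⟩)
  let T : σ → Scheme.{u} := fun O => O.1.1.toScheme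
  have : ∀ i, IsAffine (T i) := fun O => O.1.2
  let d : (∐ T) ⟶ Z'.left := Sigma.desc fun O => O.1.1.ι
  let D : Over S := Over.mk (d ≫ Z'.hom)
  let dO : D ⟶ Z' := Over.homMk d
  let c : D ⟶ Z := dO ≫ t
  have hde : Etale d := IsZariskiLocalAtSource.sigmaDesc fun O => inferInstanceAs (Etale O.1.1.ι)
  have hce : Etale c.left := inferInstanceAs (Etale (d ≫ t.left))
  have hcs : Surjective c.left := ⟨fun z => by
    obtain ⟨O, hO, z', hz', rfl⟩ := Set.mem_iUnion₂.1 (hσ (Set.mem_univ z))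
    refine ⟨Sigma.ι T ⟨O, hO⟩ ⟨z', hz'⟩, ?_⟩
    change (d ≫ t.left) _ = _
    rw [← Scheme.Hom.comp_apply, Sigma.ι_desc_assoc]
    rfl⟩
  have : IsAffine D.left := inferInstanceAs (IsAffine (∐ T))
  have hcq : QuasiCompact c.left := inferInstance
  have sqc := IsPullback.of_hasPullback snd' ((AlgSp.yon S).map c)
  have hc1 : AlgSp.RepWith @QuasiCompact (pullback.fst snd' ((AlgSp.yon S).map c)) :=
    repWith_of_isPullback sqc.flip ((repWith_yon_map_iff _ _).2 hcq)
  have hc2 : AlgSp.RepWith @Surjective (pullback.fst snd' ((AlgSp.yon S).map c)) :=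
    repWith_of_isPullback sqc.flip ((repWith_yon_map_iff _ _).2 hcs)
  -- the base change is decent
  have big := sqc.paste_horiz sq'
  obtain ⟨k, rfl⟩ := (AlgSp.yon S).map_surjective k
  have e : (AlgSp.yon S).map c ≫ g = (AlgSp.yon S).map (dO ≫ k) ≫ p := by
    simp only [c, Functor.map_comp, Category.assoc, sqT.w]
  let l := hsq.lift (pullback.fst snd' ((AlgSp.yon S).map c) ≫ fst')
    (pullback.snd snd' ((AlgSp.yon S).map c) ≫ (AlgSp.yon S).map (dO ≫ k))
    (by rw [Category.assoc (pullback.snd snd' ((AlgSp.yon S).map c)), ← e]; simpa using big.w)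
  have hd : AlgSp.IsDecent (pullback snd' ((AlgSp.yon S).map c)) :=
    h ((AlgSp.yon S).map (dO ≫ k)) l (pullback.snd snd' ((AlgSp.yon S).map c))
      (IsPullback.of_right (by rw [hsq.lift_fst, ← e]; exact big) (hsq.lift_snd _ _ _) hsq)
  intro x
  obtain ⟨y, rfl⟩ := surjective_map_of_repWith le_rfl hc2 x
  obtain ⟨r, rfl, -, hr⟩ := hd y
  refine exists_mono_qc_of_qc (isAlgSpace_of_isPullback Y.property.diag X.property
    (AlgSp.IsAlgSpace.yon_obj Z) sq') (r.map (pullback.fst snd' ((AlgSp.yon S).map c))) ?_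
  rw [AlgSp.FieldPt.toHom_map]
  exact repWith_comp hr hc1

end Groth.Agent.S10387
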