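import Groth.Statements.S10389
import Groth.Agent.H13AlgSp.MonoPoint

set_option autoImplicit false
universe u
open CategoryTheory CategoryTheory.Limits AlgebraicGeometry Topology TopologicalSpace
open AlgSp

namespace Groth.Agent.S10389

open Groth.Agent.H12AlgSp Groth.Agent.H13AlgSp


/-- Let W = X ×_Y Z be a fibre product of algebraic spaces over a scheme S with projections p, q, and
let x ∈ |X|, z ∈ |Z| lie over the same point y ∈ |Y|. If y is represented by a monomorphism Spec k ⟶
Y from the spectrum of a field and g : Z ⟶ Y is quasi-finite at z, then the set of points of |W|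
mapping to x and to z is finite. (Special case: Y decent and g etale.) -/
theorem result {S : Scheme.{u}} {X Y Z W : AlgSp.Space S} (f : X ⟶ Y)
    (g : Z ⟶ Y) (p : W ⟶ X) (q : W ⟶ Z) (hW : IsPullback p.hom q.hom f.hom g.hom) (x : AlgSp.Points X.obj)
    (z : AlgSp.Points Z.obj) (hxz : AlgSp.Points.map f.hom x = AlgSp.Points.map g.hom z)
    (hy : ∃ r : AlgSp.FieldPt Y.obj, AlgSp.Points.mk r = AlgSp.Points.map g.hom z ∧ Mono r.toHom)
    (hg : AlgSp.HasAtMor (fun U _ h u => ∃ W : U.Opens, u ∈ W ∧ LocallyQuasiFinite (W.ι ≫ h) ∧ LocallyOfFiniteType (W.ι ≫ h)) g.hom z) :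
    {w : AlgSp.Points W.obj | AlgSp.Points.map p.hom w = x ∧ AlgSp.Points.map q.hom w = z}.Finite := by
  obtain ⟨U, V, a, b, h, u, ha, hb, hw, rfl, O, huO, hlqf, hlft⟩ := hg
  obtain ⟨r, hr, hrm⟩ := hy
  induction x using AlgSp.Points.ind with | h px => ?_
  let U₀ : Over S := Over.mk (O.ι ≫ U.hom)
  let j : U₀ ⟶ U := Over.homMk O.ι
  let u₀ : U₀.left := ⟨u, huO⟩
  let h₀ : U₀.left ⟶ V.left := (j ≫ h).left
  have : LocallyQuasiFinite h₀ := hlqf
  have : LocallyOfFiniteType h₀ := hlft
  have hz : AlgSp.Points.map g.hom (AlgSp.Points.ofPt a u) = AlgSp.Points.ofPt b (h.left u) := by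
    rw [AlgSp.Points.map_ofPt, hw, ofPt_map]
  obtain ⟨cv, hcv, hcvf, -⟩ := exists_residue_factor Y.property r hb (h.left u) (hz.symm.trans hr.symm)
  obtain ⟨ρ, hρ⟩ := exists_resLift (j ≫ h) u₀ (h.left u) rfl
  have hρf : IsFinite ρ.left := by
    have : DiscreteTopology (h₀.fiber (h₀ u₀)) := by
      have : LocallyQuasiFinite (h₀.fiberToSpecResidueField (h₀ u₀)) :=
        MorphismProperty.pullback_snd (P := @LocallyQuasiFinite) _ _ hlqf
      exact discreteTopology_of_lqf_to_field (κ := V.left.residueField (h₀ u₀)) (h₀.fiberToSpecResidueField (h₀ u₀))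
    have hfin := Groth.Agent.H17.finite_residueFieldMap h₀ u₀ (isClosed_discrete _)
    let ρl : Spec (U₀.left.residueField u₀) ⟶ Spec (V.left.residueField (h₀ u₀)) := ρ.left
    have h1 : ρl ≫ V.left.fromSpecResidueField (h₀ u₀) = U₀.left.fromSpecResidueField u₀ ≫ h₀ :=
      congrArg (fun t => Over.Hom.left t) hρ
    have e : ρl = Spec.map (h₀.residueFieldMap u₀) := by
      rw [← cancel_mono (V.left.fromSpecResidueField (h₀ u₀)), h1,
        h₀.SpecMap_residueFieldMap_fromSpecResidueField]
    change IsFinite ρl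
    rw [e]
    exact (IsFinite.SpecMap_iff _).2 hfin
  obtain ⟨d, hd, -⟩ := exists_factor_of_mk_eq Y.property r (px.map f.hom) hrm
    (hr.trans (by rw [← hxz, AlgSp.Points.map_mk]))
  let d : px.pt ⟶ r.pt := d
  have hd : (AlgSp.yon S).map d ≫ r.toHom = (px.map f.hom).toHom := hd
  rw [AlgSp.FieldPt.toHom_map] at hd
  let e := ρ ≫ cv
  have : IsFinite e.left := inferInstanceAs (IsFinite (ρ.left ≫ cv.left))
  have : Subsingleton px.pt.left := inferInstanceAs (Subsingleton (Spec (CommRingCat.of px.K)))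
  have : Subsingleton (resPt u₀).left := inferInstanceAs (Subsingleton (Spec (U₀.left.residueField u₀)))
  have : Finite (pullback d e).left := finite_pullback_of_isFinite d e
  let b' := (AlgSp.yon S).map (resMap u₀ ≫ j) ≫ a
  have hb' : (AlgSp.yon S).map e ≫ r.toHom = b' ≫ g.hom := by
    simp only [e, b']
    rw [Functor.map_comp, Category.assoc, hcv, ← Functor.map_comp_assoc, hρ, Category.assoc, hw,
      ← Functor.map_comp_assoc, Category.assoc]
  have sqQ : IsPullback ((AlgSp.yon S).map (pullback.fst d e)) ((AlgSp.yon S).map (pullback.snd d e))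
      (px.toHom ≫ f.hom) (b' ≫ g.hom) := by
    rw [← hd, ← hb']
    exact isPullback_yon_comp_mono (IsPullback.of_hasPullback d e) r.toHom
  refine (finite_of_finite_representatives hW px.toHom b' (IsLocalRing.closedPoint px.K)
    (IsLocalRing.closedPoint (U₀.left.residueField u₀)) sqQ).subset ?_
  rintro w ⟨h1, h2⟩
  refine ⟨h1.trans (AlgSp.Points.ofPt_toHom px _).symm, h2.trans ?_⟩
  simp only [b']
  rw [ofPt_map]
  refine congrArg (AlgSp.Points.ofPt a) ?_
  rw [Over.comp_left, Scheme.Hom.comp_apply]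
  exact (congrArg j.left (Scheme.fromSpecResidueField_apply u₀ _)).symm

end Groth.Agent.S10389
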