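import Groth.Statements.S10398
import Groth.Agent.H13AlgSp.QfFinite

set_option autoImplicit false
universe u
open CategoryTheory CategoryTheory.Limits AlgebraicGeometry Topology TopologicalSpace
open AlgSp Groth.Agent.H12AlgSp

namespace Groth.Agent.S10398

/-- (2) ⇒ (3): let S be a scheme, X and Y algebraic spaces over S, and f : X ⟶ Y a quasi-separated
morphism of finite type, and let y ∈ |Y| be a codimension 0 point of Y. Suppose that at every point
of |X| lying over y the morphism f is quasi-finite. Then there is an open subspace Y' ⊆ Y containing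
y for which the morphism Y' ×_Y X ⟶ Y' is finite. -/
theorem result {S : Scheme.{u}} {X Y : AlgSp.Space S} (f : X ⟶ Y)
    (hqs : AlgSp.IsQuasiSeparatedMor f.hom) (hft : AlgSp.IsFiniteTypeMor f.hom) (y : AlgSp.Points Y.obj)
    (hy : AlgSp.HasAt (fun U u => ringKrullDim ↥(U.presheaf.stalk u) = 0) Y.obj y)
    (hqf : ∀ x : AlgSp.Points X.obj, AlgSp.Points.map f.hom x = y → AlgSp.HasAtMor (fun U _ h u => ∃ W : U.Opens, u ∈ W ∧ LocallyQuasiFinite (W.ι ≫ h) ∧ LocallyOfFiniteType (W.ι ≫ h)) f.hom x) :
    ∃ (Y' X' : AlgSp.Space S) (j : Y' ⟶ Y) (fst : X' ⟶ Y') (snd : X' ⟶ X), AlgSp.RepWith @IsOpenImmersion j.hom ∧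
      y ∈ Set.range (AlgSp.Points.map j.hom) ∧ IsPullback fst.hom snd.hom j.hom f.hom ∧
      AlgSp.IsFiniteMor fst.hom := by
  obtain ⟨W, hW, hyW, hfin⟩ := Groth.Agent.H13AlgSp.QfFinite.exists_finite_nbhd X.property Y.property f.hom hqs hft y hy hqf
  have hW' : AlgSp.RepWith @IsOpenImmersion (openSubι W) := repWith_openSubι hW
  have hYW : AlgSp.IsAlgSpace (openSub W) := isAlgSpace_of_representable _ hW'.1 Y.property
  exact ⟨⟨openSub W, hYW⟩, ⟨pullback (openSubι W) f.hom, isAlgSpace_of_isPullback Y.property.diag hYW X.property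
      (IsPullback.of_hasPullback _ _)⟩, ObjectProperty.homMk (openSubι W), ObjectProperty.homMk (pullback.fst _ _),
    ObjectProperty.homMk (pullback.snd _ _), hW', by
      show y ∈ Set.range (AlgSp.Points.map (openSubι W))
      rw [range_openSubι Y.property W]; exact hyW,
    IsPullback.of_hasPullback _ _, hfin⟩

end Groth.Agent.S10398
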