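import Groth.Statements.S10401
import Groth.Agent.H12AlgSp.Basic

set_option autoImplicit false
universe u
open CategoryTheory CategoryTheory.Limits AlgebraicGeometry Topology TopologicalSpace
open AlgSp

namespace Groth.Agent.S10401

/-- If Y is a Jacobson algebraic space and X is an algebraic space that is locally of finite type over
Y, then X is Jacobson. -/
theorem result {S : Scheme.{u}} {X Y : AlgSp.Space S} (hX : AlgSp.EtaleLocally (fun U => JacobsonSpace ↥U) X.obj)
    (f : Y ⟶ X) (hf : AlgSp.LocP @LocallyOfFiniteType f.hom) : AlgSp.EtaleLocally (fun U => JacobsonSpace ↥U) Y.obj := by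
  obtain ⟨V, b, hb, hbs, hV⟩ := hX
  have sq := IsPullback.of_hasPullback f.hom b
  obtain ⟨U, d, hd, hds⟩ :=
    (H12AlgSp.isAlgSpace_of_isPullback X.property.diag Y.property (AlgSp.IsAlgSpace.yon_obj V) sq).atlas
  obtain ⟨k, hk⟩ := (AlgSp.yon S).map_surjective (d ≫ pullback.snd f.hom b)
  have hae := H12AlgSp.repWith_comp hd (H12AlgSp.repWith_of_isPullback sq.flip hb)
  have : LocallyOfFiniteType k.left := hf _ b k hae hb (by
    rw [hk, Category.assoc, Category.assoc, sq.w])
  exact ⟨U, _, hae, H12AlgSp.repWith_comp hds (H12AlgSp.repWith_of_isPullback sq.flip hbs),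
    LocallyOfFiniteType.jacobsonSpace k.left⟩

end Groth.Agent.S10401
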