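import Groth.Statements.S10406
import Groth.Agent.H13AlgSp.DecentFinite

set_option autoImplicit false
universe u
open CategoryTheory CategoryTheory.Limits AlgebraicGeometry Topology TopologicalSpace
open AlgSp

namespace Groth.Agent.S10406

open Groth.Agent.H13AlgSp


/-- Let S be a scheme, Y and X decent, locally Noetherian algebraic spaces over S, and f : Y ⟶ X a
surjective finite morphism, and let δ : |X| → ℤ be a function. Suppose δ ∘ |f| is a dimension
function on |Y| (it decreases strictly along nontrivial specializations and by exactly one along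
immediate specializations). Then δ is a dimension function on |X|. -/
theorem result {S : Scheme.{u}} {X Y : AlgSp.Space S} (f : Y ⟶ X)
    (hf : AlgSp.IsFiniteMor f.hom) (hs : AlgSp.IsSurjectiveMor f.hom) (hX : AlgSp.IsDecent X.obj)
    (hY : AlgSp.IsDecent Y.obj) (hXN : AlgSp.IsLocNoethSp X.obj) (hYN : AlgSp.IsLocNoethSp Y.obj)
    (δ : AlgSp.Points X.obj → ℤ)
    (hδ : (∀ a b : AlgSp.Points Y.obj, a ⤳ b → a ≠ b → (δ ∘ AlgSp.Points.map f.hom) b < (δ ∘ AlgSp.Points.map f.hom) a ∧ ((∀ c : AlgSp.Points Y.obj, a ⤳ c → c ⤳ b → c = a ∨ c = b) → (δ ∘ AlgSp.Points.map f.hom) a = (δ ∘ AlgSp.Points.map f.hom) b + 1))) :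
    (∀ a b : AlgSp.Points X.obj, a ⤳ b → a ≠ b → δ b < δ a ∧ ((∀ c : AlgSp.Points X.obj, a ⤳ c → c ⤳ b → c = a ∨ c = b) → δ a = δ b + 1)) := by
  exact dimensionFunction_descends X.property hX hY hf hs δ hδ

end Groth.Agent.S10406
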