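import Groth.Statements.S10408
import Groth.Agent.H13AlgSp.MonoPoint

set_option autoImplicit false
universe u
open CategoryTheory CategoryTheory.Limits AlgebraicGeometry Topology TopologicalSpace
open AlgSp

namespace Groth.Agent.S10408

open Groth.Agent.H12AlgSp Groth.Agent.H13AlgSp


/-- (4) ⇒ (2): let S be a scheme and X an algebraic space over S. Suppose x ∈ |X| is a point represented
by a monomorphism Spec k ⟶ X, where k is a field. Then for every etale φ : U ⟶ X with U a scheme and
all u, u' ∈ U over x, the map |U ×_X U| → |U| ×_{|X|} |U| has finite fibre over the point (u, u'). -/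
theorem result {S : Scheme.{u}} (X : AlgSp.Space S) (x : AlgSp.Points X.obj)
    (hx : ∃ p : AlgSp.FieldPt X.obj, AlgSp.Points.mk p = x ∧ Mono p.toHom) {U : Over S}
    (φ : (AlgSp.yon S).obj U ⟶ X.obj) (hφ : AlgSp.RepWith @Etale φ) (u u' : ↥U.left)
    (hu : AlgSp.Points.ofPt φ u = x) (hu' : AlgSp.Points.ofPt φ u' = x) :
    ∀ (R : Over S) (s t : R ⟶ U), IsPullback ((AlgSp.yon S).map t) ((AlgSp.yon S).map s) φ φ →
          {r : ↥R.left | s.left r = u ∧ t.left r = u'}.Finite := by
  intro R s t sq
  obtain ⟨p, rfl, hm⟩ := hx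
  obtain ⟨c, hc, hcf, -⟩ := exists_residue_factor X.property p hφ u hu
  obtain ⟨c', hc', hcf', -⟩ := exists_residue_factor X.property p hφ u' hu'
  have : Subsingleton (resPt u').left := inferInstanceAs (Subsingleton (Spec (U.left.residueField u')))
  have : Finite (pullback c' c).left := finite_pullback_of_isFinite c' c
  have sqP := isPullback_yon_comp_mono (IsPullback.of_hasPullback c' c) p.toHom
  obtain ⟨m, hm'⟩ := (AlgSp.yon S).map_surjective (sq.lift
    ((AlgSp.yon S).map (pullback.fst c' c ≫ resMap u')) ((AlgSp.yon S).map (pullback.snd c' c ≫ resMap u))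
    (by rw [Functor.map_comp _ (pullback.fst c' c), Functor.map_comp _ (pullback.snd c' c), Category.assoc,
      Category.assoc, ← hc, ← hc', sqP.w]))
  have hmt : m ≫ t = pullback.fst c' c ≫ resMap u' := (AlgSp.yon S).map_injective (by
    rw [Functor.map_comp, hm', sq.lift_fst])
  have hms : m ≫ s = pullback.snd c' c ≫ resMap u := (AlgSp.yon S).map_injective (by
    rw [Functor.map_comp, hm', sq.lift_snd])
  refine (Set.finite_range m.left).subset ?_
  rintro r ⟨hr, hr'⟩
  obtain ⟨g, hg⟩ := exists_resLift s r u hr
  obtain ⟨g', hg'⟩ := exists_resLift t r u' hr'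
  have hgg : g' ≫ c' = g ≫ c := (AlgSp.yon S).map_injective (by
    rw [← cancel_mono p.toHom, Functor.map_comp, Functor.map_comp, Category.assoc, Category.assoc, hc, hc',
      ← Functor.map_comp_assoc, ← Functor.map_comp_assoc, hg, hg', Functor.map_comp, Functor.map_comp,
      Category.assoc, Category.assoc, sq.w])
  have he : pullback.lift g' g hgg ≫ m = resMap r := (AlgSp.yon S).map_injective (sq.hom_ext
    (by rw [← Functor.map_comp, ← Functor.map_comp, Category.assoc, hmt, pullback.lift_fst_assoc, hg'])
    (by rw [← Functor.map_comp, ← Functor.map_comp, Category.assoc, hms, pullback.lift_snd_assoc, hg]))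
  refine ⟨(pullback.lift g' g hgg).left (IsLocalRing.closedPoint (R.left.residueField r)), ?_⟩
  rw [← Scheme.Hom.comp_apply, ← Over.comp_left, he]
  exact Scheme.fromSpecResidueField_apply r _

end Groth.Agent.S10408
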