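import Groth.Statements.S10409
import Groth.Agent.H13AlgSp.MonoPoint

set_option autoImplicit false
universe u
open CategoryTheory CategoryTheory.Limits AlgebraicGeometry Topology TopologicalSpace
open AlgSp

namespace Groth.Agent.S10409

open Groth.Agent.H12AlgSp Groth.Agent.H13AlgSp


/-- (3) ⇔ (4): for an algebraic space X over a scheme S and x ∈ |X|, there is a monomorphism Spec k ⟶ X
representing x if and only if there is a morphism Spec k' ⟶ X representing x whose
self-fibre-product has etale and quasi-compact projections to Spec k'. -/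
theorem result {S : Scheme.{u}} (X : AlgSp.Space S)
    (x : AlgSp.Points X.obj) :
    (∃ p : AlgSp.FieldPt X.obj, AlgSp.Points.mk p = x ∧ Mono p.toHom) ↔
      ∃ q : AlgSp.FieldPt X.obj, AlgSp.Points.mk q = x ∧
        ∀ (P : AlgSp.Sp S) (fst snd : P ⟶ (AlgSp.yon S).obj q.pt), IsPullback fst snd q.toHom q.toHom →
          AlgSp.RepWith @Etale fst ∧ AlgSp.RepWith @QuasiCompact fst := by
  constructor
  · rintro ⟨p, hp, hm⟩
    refine ⟨p, hp, fun P fst snd sq => ?_⟩
    have : IsIso fst := sq.isIso_fst_of_mono
    exact ⟨repWith_of_isIso fst, repWith_of_isIso fst⟩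
  · rintro ⟨q, rfl, hq⟩
    obtain ⟨P, e₁, g, sq⟩ := X.property.representable_from_yon q.toHom q.toHom
    obtain ⟨g, rfl⟩ := (AlgSp.yon S).map_surjective g
    obtain ⟨h1, h2⟩ := hq _ _ _ sq
    have hge : Etale g.left := (repWith_yon_map_iff _ _).1 h1
    have hgc : QuasiCompact g.left := (repWith_yon_map_iff _ _).1 h2
    let gK : P.left ⟶ Spec (CommRingCat.of q.K) := g.left
    have : LocallyQuasiFinite gK := @lqf_of_etale _ _ gK hge
    have : DiscreteTopology P.left := discreteTopology_of_lqf_to_field gK
    have : CompactSpace q.pt.left := inferInstanceAs (CompactSpace (Spec (CommRingCat.of q.K)))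
    have : CompactSpace P.left := QuasiCompact.compactSpace_of_compactSpace g.left
    have hf : Finite P.left := finite_of_compact_of_discrete
    have hgf : IsFinite g.left := @isFinite_of_finite_etale q.K _ _ gK hge hf
    obtain ⟨k, _, str', c, m, -, hmq, hmm⟩ := exists_mono_of_finite_etale_self X.property q.toHom sq.flip
    refine ⟨fieldPtOfHom m, ?_, by rw [toHom_fieldPtOfHom]; exact hmm⟩
    rw [← AlgSp.Points.ofPt_toHom q (IsLocalRing.closedPoint q.K), ← hmq]
    refine Eq.trans ?_ (ofPt_map c m _).symm
    have h4 := AlgSp.Points.ofPt_toHom (fieldPtOfHom m) (c.left (IsLocalRing.closedPoint q.K))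
    rw [toHom_fieldPtOfHom] at h4
    exact h4.symm

end Groth.Agent.S10409
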