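import Groth.Statements.S10410
import Groth.Agent.H13AlgSp.MonoPoint

set_option autoImplicit false
universe u
open CategoryTheory CategoryTheory.Limits AlgebraicGeometry Topology TopologicalSpace
open AlgSp

namespace Groth.Agent.S10410

open AlgSp Groth.Agent.H12AlgSp Groth.Agent.H13AlgSp


/-- Let X be an algebraic space over a scheme S, x ∈ |X|, and φ : U ⟶ X etale with U a scheme. Then x
lies in the image of |U| and the fibres of |U| → |X| and |U ×_X U| → |X| over x are finite, if and
only if x is represented by a monomorphism Spec k ⟶ X such that Spec k ×_X U is a nonempty scheme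
finite over k. -/
theorem result {S : Scheme.{u}} (X : AlgSp.Space S) (x : AlgSp.Points X.obj)
    {U : Over S} (φ : (AlgSp.yon S).obj U ⟶ X.obj) (hφ : AlgSp.RepWith @Etale φ) :
    (x ∈ Set.range (AlgSp.Points.ofPt φ) ∧ (AlgSp.Points.ofPt φ ⁻¹' {x}).Finite ∧
        ∀ (R : Over S) (s t : R ⟶ U), IsPullback ((AlgSp.yon S).map t) ((AlgSp.yon S).map s) φ φ →
          (AlgSp.Points.ofPt ((AlgSp.yon S).map t ≫ φ) ⁻¹' {x}).Finite) ↔
      ∃ p : AlgSp.FieldPt X.obj, AlgSp.Points.mk p = x ∧ Mono p.toHom ∧
        ∀ (T : Over S) (c : T ⟶ p.pt) (snd : (AlgSp.yon S).obj T ⟶ (AlgSp.yon S).obj U),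
          IsPullback ((AlgSp.yon S).map c) snd p.toHom φ → Nonempty ↥T.left ∧ IsFinite c.left := by
  constructor
  · rintro ⟨⟨u, hu⟩, hfin, hR⟩
    obtain ⟨p, hp, hpm⟩ := exists_mono_of_finite_rel X.property φ hφ u u rfl fun R s t sq => by
      refine (hR R s t sq).subset ?_
      rintro r ⟨-, hr⟩
      change Points.ofPt _ r = x
      rw [ofPt_map, hr, hu]
    refine ⟨p, hp.trans hu, hpm, fun T c snd sqT => ?_⟩
    obtain ⟨snd', rfl⟩ := (AlgSp.yon S).map_surjective snd
    have hce : Etale c.left := hφ.2 _ _ _ sqT.flip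
    have hne : Nonempty ↥T.left := by
      obtain ⟨z, -, -⟩ := exists_point_of_isPullback sqT
        (Points.ofScheme p.pt (IsLocalRing.closedPoint p.K)) (Points.ofScheme U u)
        (by rw [← Points.ofPt_eq_map_ofScheme, ← Points.ofPt_eq_map_ofScheme, Points.ofPt_toHom, hp])
      exact (Points.schemeHomeo T).toEquiv.nonempty_congr.2 ⟨z⟩
    refine ⟨hne, ?_⟩
    have : Mono ((AlgSp.yon S).map snd') := PullbackCone.mono_snd_of_is_pullback_of_mono sqT.isLimit
    have : Mono snd' := (AlgSp.yon S).mono_of_mono_map this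
    have : Mono snd'.left := Over.mono_left_of_mono snd'
    have hTfin : Finite ↥T.left := by
      refine Finite.of_finite_univ (Set.Finite.of_finite_image (f := snd'.left) (hfin.subset ?_)
        (snd'.left.injective.injOn))
      rintro _ ⟨w, -, rfl⟩
      change Points.ofPt φ (snd'.left w) = x
      rw [← ofPt_map, ← sqT.w, ofPt_map, ← hu, ← hp, ← Points.ofPt_toHom p]
    exact @isFinite_of_finite_etale p.K _ _ c.left hce hTfin
  · rintro ⟨p, hp, hpm, h⟩
    obtain ⟨T, c, g', sq0⟩ := hφ.1 p.toHom
    obtain ⟨g, hg⟩ := (AlgSp.yon S).map_surjective g'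
    subst hg
    obtain ⟨hne, hfc⟩ := h T c _ sq0.flip
    have hTfin : Finite ↥T.left := by
      obtain ⟨w⟩ := hne
      refine Finite.of_finite_univ ((c.left.finite_preimage_singleton (c.left w)).subset ?_)
      exact fun z _ => Subsingleton.elim (α := Spec (CommRingCat.of p.K)) _ _
    have hmem : ∀ w, Points.ofPt φ (g.left w) = x := fun w => by
      rw [← ofPt_map, sq0.w, ofPt_map, ← hp, ← Points.ofPt_toHom p]
    refine ⟨⟨g.left hne.some, hmem _⟩, (Set.finite_range g.left).subset ?_, fun R s t sqR => ?_⟩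
    · intro u hu
      obtain ⟨z, hz1, -⟩ := exists_point_of_isPullback sq0 (Points.ofScheme U u)
        (Points.ofScheme p.pt (IsLocalRing.closedPoint p.K))
        (by rw [← Points.ofPt_eq_map_ofScheme, ← Points.ofPt_eq_map_ofScheme, Points.ofPt_toHom, hp]; exact hu)
      obtain ⟨w, rfl⟩ := (Points.schemeEquiv T).surjective z
      refine ⟨w, (Points.schemeEquiv U).injective (Eq.trans ?_ hz1)⟩
      change Points.ofScheme _ _ = Points.map _ (Points.ofScheme _ _)
      rw [← Points.ofPt_eq_map_ofScheme, ← Category.comp_id ((AlgSp.yon S).map _), ofPt_map]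
    have sqc := (IsPullback.of_hasPullback c c).map (AlgSp.yon S)
    have hPfin : Finite ↥(pullback c c).left := by
      have : IsFinite (pullback.fst c c).left :=
        MorphismProperty.of_isPullback (P := @IsFinite) ((IsPullback.of_hasPullback c c).map (Over.forget S)).flip hfc
      have : IsFinite ((pullback.fst c c).left ≫ c.left) := inferInstance
      rcases isEmpty_or_nonempty ↥(pullback c c).left with hE | ⟨⟨w⟩⟩
      · infer_instance
      refine Finite.of_finite_univ ((((pullback.fst c c).left ≫ c.left).finite_preimage_singleton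
        (((pullback.fst c c).left ≫ c.left) w)).subset ?_)
      exact fun z _ => Subsingleton.elim (α := Spec (CommRingCat.of p.K)) _ _
    have hm : ((AlgSp.yon S).map (pullback.fst c c) ≫ (AlgSp.yon S).map g) ≫ φ =
        ((AlgSp.yon S).map (pullback.snd c c) ≫ (AlgSp.yon S).map g) ≫ φ := by
      rw [Category.assoc, Category.assoc, sq0.w, reassoc_of% sqc.w]
    obtain ⟨m, hm'⟩ := (AlgSp.yon S).map_surjective (sqR.lift _ _ hm)
    refine (Set.finite_range m.left).subset ?_
    intro r hr
    have sqP := IsPullback.of_hasPullback ((AlgSp.yon S).map t ≫ φ) p.toHom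
    obtain ⟨y, hy1, -⟩ := exists_point_of_isPullback sqP (Points.ofScheme R r)
      (Points.ofScheme p.pt (IsLocalRing.closedPoint p.K))
      (by rw [← Points.ofPt_eq_map_ofScheme, ← Points.ofPt_eq_map_ofScheme, Points.ofPt_toHom, hp]; exact hr)
    let a := sq0.lift (pullback.fst ((AlgSp.yon S).map t ≫ φ) p.toHom ≫ (AlgSp.yon S).map t)
      (pullback.snd _ _) (by rw [Category.assoc]; exact sqP.w)
    let b := sq0.lift (pullback.fst ((AlgSp.yon S).map t ≫ φ) p.toHom ≫ (AlgSp.yon S).map s)
      (pullback.snd _ _) (by rw [Category.assoc, ← sqR.w]; exact sqP.w)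
    let l := sqc.lift a b (by rw [sq0.lift_snd, sq0.lift_snd])
    have hl : l ≫ (AlgSp.yon S).map m = pullback.fst ((AlgSp.yon S).map t ≫ φ) p.toHom := by
      rw [hm']
      apply sqR.hom_ext
      · rw [Category.assoc, sqR.lift_fst, sqc.lift_fst_assoc, sq0.lift_fst]
      · rw [Category.assoc, sqR.lift_snd, sqc.lift_snd_assoc, sq0.lift_fst]
    obtain ⟨z, hz⟩ := (Points.schemeEquiv (pullback c c)).surjective (Points.map l y)
    refine ⟨z, (Points.schemeEquiv R).injective ?_⟩
    change Points.ofScheme _ _ = Points.ofScheme _ _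
    rw [← hy1, ← hl, Points.map_comp, ← hz]
    change Points.ofScheme _ _ = Points.map _ (Points.ofScheme _ _)
    rw [← Points.ofPt_eq_map_ofScheme, ← Category.comp_id ((AlgSp.yon S).map m), ofPt_map]

end Groth.Agent.S10410
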