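import Groth.Statements.S10411
import Groth.Agent.H13AlgSp.FinLocFreeDescent
import Groth.Agent.H12AlgSp.LimitQuotient
import Groth.Agent.H13Grpd.InvariantAffine

set_option autoImplicit false
universe u
open CategoryTheory CategoryTheory.Limits AlgebraicGeometry Topology TopologicalSpace
open AlgSp

namespace Groth.Agent.S10411

set_option backward.isDefEq.respectTransparency false

/-- Let S be a scheme, X and Y algebraic spaces over S, X ⟶ Y a surjective finite locally free morphism,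
and y ∈ |Y|. Then y lies in the schematic locus of Y (some open subspace of Y containing y is a
scheme) if and only if there is an affine open subscheme U ⊆ X containing the preimage of y. -/
theorem result {S : Scheme.{u}} {X Y : AlgSp.Space S} (f : X ⟶ Y)
    (hf : AlgSp.IsFinLocFreeMor f.hom) (hs : AlgSp.RepWith @Surjective f.hom) (y : AlgSp.Points Y.obj) :
    (∃ (Y' : AlgSp.Space S) (j : Y' ⟶ Y), AlgSp.RepWith @IsOpenImmersion j.hom ∧ Y'.obj.obj.IsRepresentable ∧
        y ∈ Set.range (AlgSp.Points.map j.hom)) ↔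
      ∃ (U : Over S) (a : (AlgSp.yon S).obj U ⟶ X.obj), IsAffine U.left ∧ AlgSp.RepWith @IsOpenImmersion a ∧
        AlgSp.Points.map f.hom ⁻¹' {y} ⊆ Set.range (AlgSp.Points.ofPt a) := by
  classical
  have hrf : AlgSp.RepWith @IsFinite f.hom := ⟨hf.1, fun _ _ g a b sq => (hf.2 g a b sq).1⟩
  constructor
  · rintro ⟨Y', j, hj, hrep, y', rfl⟩
    obtain ⟨T, ⟨μ⟩⟩ := H12AlgSp.isRepresentable_iff_exists_iso.1 hrep
    obtain ⟨t, ht⟩ := (AlgSp.Points.schemeEquiv T).surjective (AlgSp.Points.map μ.inv y')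
    obtain ⟨B, hB, htB, -⟩ := exists_isAffineOpen_mem_and_subset (TopologicalSpace.Opens.mem_top t)
    let i : Over.mk (B.ι ≫ T.hom) ⟶ T := Over.homMk B.ι
    let g := (AlgSp.yon S).map i ≫ μ.hom ≫ j.hom
    have hg : AlgSp.RepWith @IsOpenImmersion g :=
      H12AlgSp.repWith_comp ((AlgSp.repWith_yon_map_iff _ i).2 (inferInstanceAs (IsOpenImmersion B.ι)))
        (MorphismProperty.RespectsIso.precomp _ _ _ hj)
    obtain ⟨U, c, a, sq⟩ := hrf.rep g
    have hc : IsFinite c.left := hrf.property _ _ c sq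
    have : IsAffine (Over.mk (B.ι ≫ T.hom)).left := hB
    refine ⟨U, a, isAffine_of_isAffineHom c.left, H12AlgSp.repWith_of_isPullback sq.flip hg, fun x hx => ?_⟩
    obtain ⟨z, hz1, -⟩ := H12AlgSp.exists_point_of_isPullback sq x (AlgSp.Points.ofScheme (Over.mk (B.ι ≫ T.hom)) ⟨t, htB⟩) (by
      rw [Set.mem_preimage, Set.mem_singleton_iff] at hx
      rw [hx, ← AlgSp.Points.ofPt_eq_map_ofScheme]
      simp only [g, H12AlgSp.ofPt_map]
      rw [AlgSp.Points.ofPt_eq_map_ofScheme,
        show AlgSp.Points.ofScheme T (i.left ⟨t, htB⟩) = AlgSp.Points.map μ.inv y' from ht, ← AlgSp.Points.map_comp,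
        Iso.inv_hom_id_assoc])
    obtain ⟨u, rfl⟩ := (AlgSp.Points.schemeEquiv U).surjective z
    exact ⟨u, (AlgSp.Points.ofPt_eq_map_ofScheme a u).trans hz1⟩
  · rintro ⟨U, a, hU, ha, hfib⟩
    let O : Set (AlgSp.Points Y.obj) := (AlgSp.Points.map f.hom '' (Set.range (AlgSp.Points.ofPt a))ᶜ)ᶜ
    have hO : IsOpen O :=
      ((H12AlgSp.isClosedMap_map_of_repWith (P := @IsFinite) (fun _ _ g (_ : IsFinite g) => inferInstance) hrf _
        (H12AlgSp.isOpenMap_ofPt_of_repWith (fun _ _ k (_ : IsOpenImmersion k) => inferInstance) ha).isOpen_range.isClosed_compl)).isOpen_compl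
    have hyO : y ∈ O := fun ⟨x, hx, e⟩ => hx (hfib e)
    let j := H12AlgSp.openSubι O
    have hj : AlgSp.RepWith @IsOpenImmersion j := H12AlgSp.repWith_openSubι hO
    have hOsp : AlgSp.IsAlgSpace (H12AlgSp.openSub O) := H12AlgSp.isAlgSpace_of_representable _ hj.1 Y.property
    let V : U.left.Opens := ⟨AlgSp.Points.ofPt (a ≫ f.hom) ⁻¹' O, hO.preimage (AlgSp.Points.continuous_ofPt _)⟩
    let i : Over.mk (V.ι ≫ U.hom) ⟶ U := Over.homMk V.ι
    let b := (AlgSp.yon S).map i ≫ a
    have hb : AlgSp.RepWith @IsOpenImmersion b :=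
      H12AlgSp.repWith_comp ((AlgSp.repWith_yon_map_iff _ i).2 (inferInstanceAs (IsOpenImmersion V.ι))) ha
    obtain ⟨e, he⟩ := H12AlgSp.exists_openSub_lift (b ≫ f.hom) (W := O) fun v => by
      simp only [b, Category.assoc, H12AlgSp.ofPt_map]
      exact v.2
    have sq : IsPullback b e f.hom j := by
      have := H12AlgSp.mono_of_openImmersion hb
      have hex : ∀ s : PullbackCone f.hom j, ∃ l, l ≫ b = s.fst := fun s => H12AlgSp.exists_factor_open hb s.fst (by
        rintro _ ⟨z, rfl⟩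
        have hzO : AlgSp.Points.map f.hom (AlgSp.Points.map s.fst z) ∈ O := by
          rw [← AlgSp.Points.map_comp, s.condition, AlgSp.Points.map_comp]
          exact (H12AlgSp.range_openSubι Y.property O).le ⟨_, rfl⟩
        obtain ⟨u, hu⟩ : AlgSp.Points.map s.fst z ∈ Set.range (AlgSp.Points.ofPt a) := by
          by_contra h
          exact hzO ⟨_, h, rfl⟩
        have huV : u ∈ V := by
          show AlgSp.Points.ofPt (a ≫ f.hom) u ∈ O
          rw [← AlgSp.Points.map_ofPt, hu]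
          exact hzO
        refine ⟨AlgSp.Points.ofScheme _ ⟨u, huV⟩, ?_⟩
        rw [← AlgSp.Points.ofPt_eq_map_ofScheme]
        simp only [b, H12AlgSp.ofPt_map]
        exact hu)
      choose l hl using hex
      exact ⟨⟨he.symm⟩, ⟨PullbackCone.IsLimit.mk he.symm l hl
        (fun s => by rw [← cancel_mono j, Category.assoc, show e ≫ j = b ≫ f.hom from he, reassoc_of% (hl s), s.condition])
        (fun s m h1 _ => by rw [← cancel_mono b, h1, hl s])⟩⟩
    have hsurj : Function.Surjective (AlgSp.Points.map e) := fun z => by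
      obtain ⟨x, hx⟩ := H12AlgSp.surjective_map_of_repWith le_rfl hs (AlgSp.Points.map j z)
      obtain ⟨w, -, hw⟩ := H12AlgSp.exists_point_of_isPullback sq x z hx
      exact ⟨w, hw⟩
    have key : AlgSp.RepWith @IsFinite e ∧ AlgSp.RepWith @Flat e ∧ AlgSp.RepWith @LocallyOfFinitePresentation e ∧
        AlgSp.RepWith @Surjective e :=
      ⟨H12AlgSp.repWith_of_isPullback sq hrf,
        H12AlgSp.repWith_of_isPullback sq ⟨hf.1, fun _ _ g c d s => (hf.2 g c d s).2.1⟩,
        H12AlgSp.repWith_of_isPullback sq ⟨hf.1, fun _ _ g c d s => (hf.2 g c d s).2.2⟩,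
        H12AlgSp.repWith_of_isPullback sq hs⟩
    obtain ⟨M, ⟨μ⟩⟩ := H13AlgSp.exists_iso_of_finLocFree_cover key.1 key.2.1 key.2.2.1 key.2.2.2 fun x => by
      obtain ⟨R, s, t', sqR⟩ := key.1.rep e
      obtain ⟨t, rfl⟩ := (AlgSp.yon S).map_surjective t'
      have : IsFinite s.left := key.1.property _ _ s sqR
      let E : Set U.left := V.ι '' (t.left '' (s.left ⁻¹' {x}))
      have hE : E.Finite := ((s.left.finite_preimage_singleton x).image _).image _
      obtain ⟨g, hgE, hgV⟩ := H13Grpd.exists_basicOpen_finite (isAffineOpen_top U.left) hE (O := V)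
        (by rintro _ ⟨v, -, rfl⟩; exact v.2) le_top
      refine ⟨V.ι ⁻¹ᵁ (U.left.basicOpen g), ?_, fun v hv => ?_⟩
      · exact ((isAffineOpen_top U.left).basicOpen g).preimage_of_isOpenImmersion V.ι (by rwa [Scheme.Opens.opensRange_ι])
      · obtain ⟨r, hr1, hr2⟩ := H13AlgSp.exists_arrow_of_ofPt_eq sqR hv
        exact hgE ⟨v, ⟨r, hr2, hr1⟩, rfl⟩
    exact ⟨⟨_, hOsp⟩, ObjectProperty.homMk j, hj, H12AlgSp.isRepresentable_iff_exists_iso.2 ⟨M, ⟨μ⟩⟩,
      (H12AlgSp.range_openSubι Y.property O).ge hyO⟩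

end Groth.Agent.S10411
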