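import Groth.Statements.S10412
import Groth.Agent.H12AlgSp.Immersion
import Groth.Agent.H12AlgSp.OpenSub
import Groth.Agent.H18Descent.Basic
import Groth.Agent.H12AlgSp.Descent

set_option autoImplicit false
universe u
open CategoryTheory CategoryTheory.Limits AlgebraicGeometry Topology TopologicalSpace
open AlgSp

namespace Groth.Agent.S10412

open AlgSp Groth.Agent.H12AlgSp Topology


/-- For an algebraic space X over a scheme S the following are equivalent: (1) X has a Zariski covering
by open subspaces X_i, each X_i admitting a surjective, etale and quasi-compact morphism U_i ⟶ X_i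
with U_i a scheme; (2) there are etale morphisms U_i ⟶ X from schemes, jointly surjective, such that
for each i both projection morphisms from U_i ×_X U_i to U_i are quasi-compact. -/
theorem result {S : Scheme.{u}} (X : AlgSp.Space S) :
    (∃ (ι : Type u) (Xi : ι → AlgSp.Space S) (j : ∀ i, Xi i ⟶ X) (U : ι → Over S)
        (a : ∀ i, (AlgSp.yon S).obj (U i) ⟶ (Xi i).obj),
        AlgSp.IsZarCover (fun i => (Xi i).obj) (fun i => (j i).hom) ∧
          ∀ i, AlgSp.RepWith @Etale (a i) ∧ AlgSp.RepWith @Surjective (a i) ∧ AlgSp.RepWith @QuasiCompact (a i)) ↔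
      ∃ (ι : Type u) (U : ι → Over S) (φ : ∀ i, (AlgSp.yon S).obj (U i) ⟶ X.obj),
        (∀ i, AlgSp.RepWith @Etale (φ i)) ∧
          (∀ x : AlgSp.Points X.obj, ∃ (i : ι) (v : ↥(U i).left), AlgSp.Points.ofPt (φ i) v = x) ∧
          ∀ (i : ι) (R : Over S) (s t : R ⟶ U i), IsPullback ((AlgSp.yon S).map t) ((AlgSp.yon S).map s) (φ i) (φ i) →
            QuasiCompact s.left ∧ QuasiCompact t.left := by
  constructor
  · rintro ⟨ι, Xi, j, U, a, hj, ha⟩
    refine ⟨ι, U, fun i => a i ≫ (j i).hom, fun i => ?_, fun x => ?_, fun i R s t sqR => ?_⟩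
    · exact repWith_comp (ha i).1
        (repWith_le (fun _ _ k (_ : IsOpenImmersion k) => inferInstanceAs (Etale k)) (hj.1 i))
    · obtain ⟨i, y, hy⟩ := hj.2 x
      obtain ⟨v, hv⟩ := surjective_ofPt_of_repWith le_rfl (ha i).2.1 y
      exact ⟨i, v, by rw [← Points.map_ofPt, hv, hy]⟩
    · have := mono_of_openImmersion (hj.1 i)
      have sq : IsPullback ((AlgSp.yon S).map t) ((AlgSp.yon S).map s) (a i) (a i) :=
        IsKernelPair.cancel_right ((cancel_mono (j i).hom).1 (by rw [Category.assoc, Category.assoc]; exact sqR.w)) sqR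
      exact ⟨(ha i).2.2.property (a i) _ s sq, (ha i).2.2.property (a i) _ t sq.flip⟩
  · rintro ⟨ι, U, φ, he, hs, hqc⟩
    have hW : ∀ i, IsOpen (Set.range (Points.ofPt (φ i))) := fun i =>
      (isOpenMap_ofPt_of_repWith etale_le_universallyOpen (he i)).isOpen_range
    choose X' j hX' hj hr using fun i => exists_open_subspace X.property (hW i)
    have hfac : ∀ i, ∃ a : (AlgSp.yon S).obj (U i) ⟶ X' i, a ≫ j i = φ i := fun i => by
      refine exists_factor_open (hj i) (φ i) ?_
      rw [hr]
      rintro _ ⟨y, rfl⟩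
      obtain ⟨v, rfl⟩ := (Points.schemeHomeo (U i)).surjective y
      exact ⟨v, Points.ofPt_eq_map_ofScheme _ _⟩
    choose a ha using hfac
    refine ⟨ι, fun i => ⟨X' i, hX' i⟩, fun i => ⟨j i⟩, U, a, ⟨hj, fun x => ?_⟩, fun i => ?_⟩
    · obtain ⟨i, v, rfl⟩ := hs x
      obtain ⟨y, hy⟩ := (hr i).ge ⟨v, rfl⟩
      exact ⟨i, y, hy⟩
    · have := mono_of_openImmersion (hj i)
      have hrep : Representable (a i) := (hX' i).representable_from_yon (a i)
      have sq1 : IsPullback (𝟙 _) (a i) (φ i) (j i) :=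
        IsPullback.of_horiz_isIso_mono ⟨by rw [Category.id_comp, ha]⟩
      have hae : RepWith @Etale (a i) := repWith_of_isPullback sq1 (he i)
      have has : RepWith @Surjective (a i) := repWith_surjective_of_map hrep fun y => by
        obtain ⟨v, hv⟩ := (hr i).le ⟨y, rfl⟩
        refine ⟨Points.ofScheme (U i) v, injective_map_of_mono (j i) ?_⟩
        rw [← Points.map_comp, ha, ← Points.ofPt_eq_map_ofScheme, hv]
      refine ⟨hae, has, ?_⟩
      obtain ⟨R, s, k, sq⟩ := hrep (a i)
      obtain ⟨t, rfl⟩ := (AlgSp.yon S).map_surjective k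
      have sq' : IsPullback ((AlgSp.yon S).map t) ((AlgSp.yon S).map s) (φ i) (φ i) := by
        rw [← ha]
        exact IsKernelPair.comp_of_mono sq
      refine repWith_of_fppf_base
        (Qc := (@Surjective ⊓ @Flat ⊓ @LocallyOfFinitePresentation : MorphismProperty Scheme.{u}))
        hrep ?_ sq ((repWith_yon_map_iff _ _).2 (hqc i R s t sq').1)
      refine repWith_le (fun _ _ k hk => ?_) (repWith_inf_iff.2 ⟨hae, has⟩)
      have : Etale k := hk.1
      exact ⟨⟨hk.2, inferInstance⟩, inferInstance⟩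

end Groth.Agent.S10412
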