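import Groth.Statements.S10413
import Groth.Agent.H13AlgSp.Decent

set_option autoImplicit false
universe u
open CategoryTheory CategoryTheory.Limits AlgebraicGeometry Topology TopologicalSpace
open AlgSp

namespace Groth.Agent.S10413

/-- Let S be a scheme, X and Y algebraic spaces over S, and X ⟶ Y a representable morphism. If every
point of Y can be represented by a monomorphism into Y from the spectrum of a field, then every
point of X can likewise be represented by such a monomorphism into X. -/
theorem result {S : Scheme.{u}} {X Y : AlgSp.Space S} (f : X ⟶ Y) (hf : AlgSp.Representable f.hom)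
    (hY : ∀ y : AlgSp.Points Y.obj, ∃ q : AlgSp.FieldPt Y.obj, AlgSp.Points.mk q = y ∧ Mono q.toHom)
    (x : AlgSp.Points X.obj) : ∃ p : AlgSp.FieldPt X.obj, AlgSp.Points.mk p = x ∧ Mono p.toHom := by
  obtain ⟨q, hq, hm⟩ := hY (Points.map f.hom x)
  have sq := hf.isPullback q.toHom
  obtain ⟨y, hy, -⟩ := Groth.Agent.H12AlgSp.exists_point_of_isPullback sq x
    (Points.ofScheme q.pt (IsLocalRing.closedPoint q.K))
    (by rw [← hq, ← Points.ofPt_toHom q (IsLocalRing.closedPoint q.K), Points.ofPt_eq_map_ofScheme])
  obtain ⟨w, rfl⟩ := (Points.schemeEquiv _).surjective y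
  refine ⟨FieldPt.ofPt (hf.fst q.toHom) w, (Points.ofPt_eq_map_ofScheme _ w).trans hy, ?_⟩
  rw [FieldPt.toHom_ofPt]
  exact @mono_comp _ _ _ _ _ _ (Groth.Agent.H13AlgSp.mono_residueField w) _
    (Groth.Agent.H13AlgSp.mono_of_sq sq)

end Groth.Agent.S10413
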