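import Groth.Statements.S10414
import Groth.Agent.H13AlgSp.MonoPoint
import Groth.Agent.H12AlgSp.Immersion
import Groth.Agent.H12AlgSp.PointsTop

set_option autoImplicit false
universe u
open CategoryTheory CategoryTheory.Limits AlgebraicGeometry Topology TopologicalSpace
open AlgSp

namespace Groth.Agent.S10414

open Groth.Agent.H12AlgSp Groth.Agent.H13AlgSp


/-- Let S be a scheme, X an algebraic space over S, x ∈ |X|, and Z_x ⟶ X the residual space of x (a
monomorphism with image {x} from a space which admits a locally finitely presented, flat, surjective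
morphism whose source is the spectrum of a field). Then Z_x is isomorphic to Spec k' for some field
k' if and only if the point x is represented by some monomorphism Spec k ⟶ X. (The decent case, in
which the right side holds at every point, is not part of this row.) -/
theorem result {S : Scheme.{u}} (X : AlgSp.Space S) (x : AlgSp.Points X.obj)
    {Z : AlgSp.Space S} (i : Z ⟶ X) [Mono i.hom] (hi : Set.range (AlgSp.Points.map i.hom) = {x})
    (hZ : ∃ (k : Type u) (_ : Field k) (str : Spec (CommRingCat.of k) ⟶ S) (p : (AlgSp.yon S).obj (Over.mk str) ⟶ Z.obj),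
        AlgSp.LocP @LocallyOfFinitePresentation p ∧ AlgSp.LocP @Flat p ∧ AlgSp.IsSurjectiveMor p) :
    (∃ (k : Type u) (_ : Field k) (str : Spec (CommRingCat.of k) ⟶ S), Nonempty (Z.obj ≅ (AlgSp.yon S).obj (Over.mk str))) ↔
      ∃ p : AlgSp.FieldPt X.obj, AlgSp.Points.mk p = x ∧ Mono p.toHom := by
  obtain ⟨k₀, _, str₀, p₀, hlfp, hfl, hsurj⟩ := hZ
  have hix : ∀ z : AlgSp.Points Z.obj, AlgSp.Points.map i.hom z = x := fun z => hi.le ⟨z, rfl⟩
  constructor
  · rintro ⟨k, _, str, ⟨e⟩⟩
    refine ⟨fieldPtOfHom (e.inv ≫ i.hom), ?_, by rw [toHom_fieldPtOfHom]; exact mono_comp e.inv i.hom⟩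
    rw [← map_mk_fieldPtOfHom, hix]
  · rintro ⟨p, rfl, hm⟩
    obtain ⟨z, hz⟩ : AlgSp.Points.mk p ∈ Set.range (AlgSp.Points.map i.hom) := hi.ge rfl
    have sq := IsPullback.of_hasPullback i.hom p.toHom
    have hW := isAlgSpace_pullback X.property.diag Z.property (AlgSp.IsAlgSpace.yon_obj p.pt) i.hom p.toHom
    have : Mono (pullback.snd i.hom p.toHom) := mono_of_sq sq.flip
    obtain ⟨w, -, -⟩ := exists_point_of_isPullback sq z
      (AlgSp.Points.ofScheme p.pt (IsLocalRing.closedPoint p.K))
      (by rw [hz, ← AlgSp.Points.ofPt_eq_map_ofScheme, AlgSp.Points.ofPt_toHom])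
    have : Nonempty (AlgSp.Points (pullback i.hom p.toHom)) := ⟨w⟩
    have : IsIso (pullback.snd i.hom p.toHom) := isIso_of_mono_to_field_space hW _
    let m : (AlgSp.yon S).obj p.pt ⟶ Z.obj := inv (pullback.snd i.hom p.toHom) ≫ pullback.fst i.hom p.toHom
    have hmi : m ≫ i.hom = p.toHom := by simp [m, pullback.condition]
    have : Mono (m ≫ i.hom) := hmi ▸ hm
    have : Mono m := mono_of_mono m i.hom
    obtain ⟨c', hc, -⟩ := exists_factor_of_mk_eq X.property p (fieldPtOfHom (p₀ ≫ i.hom)) hm (by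
      rw [← map_mk_fieldPtOfHom, hix])
    let c : Over.mk str₀ ⟶ p.pt := c'
    have hc : (AlgSp.yon S).map c ≫ p.toHom = (fieldPtOfHom (p₀ ≫ i.hom)).toHom := hc
    rw [toHom_fieldPtOfHom] at hc
    have hcm : (AlgSp.yon S).map c ≫ m = p₀ := by
      rw [← cancel_mono i.hom, Category.assoc, hmi]
      exact hc
    have : IsIso m := by
      refine isIso_of_mono_of_local_lifts m fun T y => ?_
      obtain ⟨W, v, k', sqT⟩ := Z.property.representable_from_yon p₀ y
      have hv : ∀ {P : MorphismProperty Scheme.{u}}, EtLocal P → AlgSp.LocP P p₀ → P v.left := fun hP h =>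
        Groth.Agent.H12AlgSp.locP_of_isPullback hP sqT (AlgSp.IsAlgSpace.yon_obj _) Z.property
          (AlgSp.IsAlgSpace.yon_obj T) h (𝟙 _) (𝟙 _) v (repWith_id _ _) (repWith_id _ _)
          (by rw [Category.id_comp, Category.comp_id])
      have : Flat v.left := hv etLocal_flat hfl
      have : LocallyOfFinitePresentation v.left := hv etLocal_lfp hlfp
      refine ⟨PUnit, fun _ => W, fun _ => v, ofArrows_mem_J _ (fun _ => inferInstance) (fun _ => inferInstance)
        (fun t => ?_), fun _ => ⟨k' ≫ (AlgSp.yon S).map c, by rw [Category.assoc, hcm, sqT.w]⟩⟩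
      obtain ⟨y₀, hy₀⟩ := hsurj (AlgSp.Points.ofPt y t)
      obtain ⟨w', -, hw'⟩ := exists_point_of_isPullback sqT y₀ (AlgSp.Points.ofScheme T t)
        (hy₀.trans (AlgSp.Points.ofPt_eq_map_ofScheme y t))
      obtain ⟨w', rfl⟩ := (AlgSp.Points.schemeEquiv W).surjective w'
      refine ⟨⟨⟩, w', (AlgSp.Points.schemeEquiv T).injective (Eq.trans ?_ hw')⟩
      change AlgSp.Points.ofScheme _ _ = AlgSp.Points.map _ (AlgSp.Points.ofScheme _ _)
      rw [← AlgSp.Points.ofPt_eq_map_ofScheme, ← Category.comp_id ((AlgSp.yon S).map v), ofPt_map]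
    exact ⟨p.K, inferInstance, p.str, ⟨(asIso m).symm⟩⟩

end Groth.Agent.S10414
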