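import Groth.Statements.S10415
import Groth.Agent.H13AlgSp.ResidualSpace

set_option autoImplicit false
universe u
open CategoryTheory CategoryTheory.Limits AlgebraicGeometry Topology TopologicalSpace
open AlgSp

namespace Groth.Agent.S10415

/-- Let S be a scheme, Y and X algebraic spaces over S with Y reduced and X locally Noetherian, and f :
Y ⟶ X a morphism with |f|(|Y|) ⊆ {x}. Then f factors through Z_x ⟶ X, where Z_x denotes the residual
space of X at the point x. -/
theorem result {S : Scheme.{u}} {Y X Z : AlgSp.Space S} (f : Y ⟶ X)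
    (x : AlgSp.Points X.obj) (hf : ∀ y : AlgSp.Points Y.obj, AlgSp.Points.map f.hom y = x) (hY : AlgSp.EtaleLocally (fun U => IsReduced U) Y.obj)
    (hX : AlgSp.IsLocNoethSp X.obj) (i : Z ⟶ X) [Mono i.hom] (hi : Set.range (AlgSp.Points.map i.hom) = {x})
    (hZ : ∃ (k : Type u) (_ : Field k) (str : Spec (CommRingCat.of k) ⟶ S) (p : (AlgSp.yon S).obj (Over.mk str) ⟶ Z.obj),
        AlgSp.LocP @LocallyOfFinitePresentation p ∧ AlgSp.LocP @Flat p ∧ AlgSp.IsSurjectiveMor p) :
    ∃ g : Y ⟶ Z, g ≫ i = f := by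
  obtain ⟨g, hg⟩ := Groth.Agent.H13AlgSp.exists_factor_residual Y.property X.property Z.property f.hom x hf hY hX
    i.hom (hi.ge rfl)
  exact ⟨⟨g⟩, ObjectProperty.hom_ext _ hg⟩

end Groth.Agent.S10415
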