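import Groth.Statements.S10416
import Groth.Agent.H13AlgSp.ResidualSpace

set_option autoImplicit false
universe u
open CategoryTheory CategoryTheory.Limits AlgebraicGeometry Topology TopologicalSpace
open AlgSp

namespace Groth.Agent.S10416

/-- Let S be a scheme, X a locally Noetherian algebraic space over S, x ∈ |X|, and i : Z_x ⟶ X the
residual space at x. Then x is closed in |X| if and only if i is a closed immersion. -/
theorem result {S : Scheme.{u}} {X Z : AlgSp.Space S}
    (hX : AlgSp.IsLocNoethSp X.obj) (x : AlgSp.Points X.obj) (i : Z ⟶ X) [Mono i.hom]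
    (hi : Set.range (AlgSp.Points.map i.hom) = {x}) (hZ : ∃ (k : Type u) (_ : Field k) (str : Spec (CommRingCat.of k) ⟶ S) (p : (AlgSp.yon S).obj (Over.mk str) ⟶ Z.obj),
        AlgSp.LocP @LocallyOfFinitePresentation p ∧ AlgSp.LocP @Flat p ∧ AlgSp.IsSurjectiveMor p) :
    IsClosed ({x} : Set (AlgSp.Points X.obj)) ↔ AlgSp.RepWith @IsClosedImmersion i.hom := by
  obtain ⟨k, hk, str, p, hlfp, hfl, hs⟩ := hZ
  refine ⟨Groth.Agent.H13AlgSp.isClosedImmersion_residual X.property Z.property hX x i.hom hi p hlfp hfl hs,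
    fun hc => ?_⟩
  obtain ⟨U, a, ha, has⟩ := X.property.atlas
  obtain ⟨W, w, fst, sq⟩ := hc.1 a
  have : IsClosedImmersion w.left := hc.2 a fst w sq
  rw [← hi, ← (Groth.Agent.H12AlgSp.isQuotientMap_ofPt ha has).isClosed_preimage,
    Groth.Agent.H12AlgSp.preimage_ofPt_range sq]
  exact w.left.isClosedEmbedding.isClosed_range

end Groth.Agent.S10416
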