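import Groth.Statements.S10418
import Groth.Agent.H13AlgSp.SepStrat
import Groth.Agent.H12AlgSp.OpenSub
import Groth.Agent.H12AlgSp.QC
import Groth.Agent.H7Weight.Bound

set_option autoImplicit false
universe u
open CategoryTheory CategoryTheory.Limits AlgebraicGeometry Topology TopologicalSpace
open AlgSp Groth.Agent.H12AlgSp Groth.Agent.H13AlgSp Groth.Agent.H13AlgSp.SepStrat Groth.Agent.H7Weight

namespace Groth.Agent.S10418

/-- Let S be a scheme and X an algebraic space over S which is quasi-compact. There are open subspaces X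
= U_1 ⊇ U_2 ⊇ U_3 ⊇ ⋯ such that (1) with T_p = U_p ∖ U_{p+1} (reduced induced subspace structure)
there is a separated scheme V_p with a surjective etale f_p : V_p ⟶ U_p for which the map f_p⁻¹(T_p)
⟶ T_p is an isomorphism, and (2) every x ∈ |X| admitting a representative given by a quasi-compact
morphism from the spectrum of a field lies in T_p for some p. -/
theorem result {S : Scheme.{u}} (X : AlgSp.Space S)
    (hX : AlgSp.IsQuasiCompactSp X.obj) :
    ∃ (Uo : ℕ → AlgSp.Space S) (j : ∀ p, Uo p ⟶ X) (k : ∀ p, Uo (p + 1) ⟶ Uo p)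
      (T : ℕ → AlgSp.Space S) (i : ∀ p, T p ⟶ Uo p),
      (∀ p, AlgSp.RepWith @IsOpenImmersion (j p).hom) ∧ (∀ p, k p ≫ j p = j (p + 1)) ∧ IsIso (j 1) ∧
      (∀ p, AlgSp.IsRedInduced (Set.range (AlgSp.Points.map (k p).hom))ᶜ (i p).hom) ∧
      (∀ p, 1 ≤ p → ∃ (V : Over S) (f : (AlgSp.yon S).obj V ⟶ (Uo p).obj), V.left.IsSeparated ∧
        AlgSp.RepWith @Etale f ∧ AlgSp.RepWith @Surjective f ∧
        ∀ (P : AlgSp.Sp S) (fst : P ⟶ (T p).obj) (snd : P ⟶ (AlgSp.yon S).obj V),
          IsPullback fst snd (i p).hom f → IsIso fst) ∧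
      (∀ x : AlgSp.Points X.obj, (∃ q : AlgSp.FieldPt X.obj, AlgSp.Points.mk q = x ∧ AlgSp.RepWith @QuasiCompact q.toHom) →
        ∃ p, 1 ≤ p ∧ x ∈ Set.range (AlgSp.Points.map ((i p) ≫ (j p)).hom)) := by
  classical
  haveI := compactSpace_points_of_isQuasiCompactSp hX
  obtain ⟨U, a, hU, ha, has⟩ := Groth.Agent.H12AlgSp.exists_affine_atlas X.property
  haveI := hU
  obtain ⟨M⟩ := nonempty_moduli (p := a) ha
  obtain ⟨hopen, hstr⟩ := exists_strata ha M
  have hUo : ∀ p, AlgSp.IsAlgSpace (openSub {x | Big a p x}) := fun p =>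
    isAlgSpace_of_representable _ (repWith_openSubι (hopen p)).1 X.property
  have hr : ∀ p, Set.range (AlgSp.Points.map (openSubι {x | Big a p x})) = {x | Big a p x} := fun p =>
    range_openSubι X.property _
  haveI hm : ∀ p, Mono (openSubι {x | Big a p x}) := fun p => mono_of_openImmersion (repWith_openSubι (hopen p))
  choose k hk using fun p => exists_factor_open (repWith_openSubι (hopen p)) (openSubι {x | Big a (p + 1) x})
    (by rw [hr, hr]; exact fun x hx => Big.mono (Nat.le_succ p) hx)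
  have hkr : ∀ p, Set.range (AlgSp.Points.map (k p)) =
      AlgSp.Points.map (openSubι {x | Big a p x}) ⁻¹' {x | Big a (p + 1) x} := fun p => by
    ext z
    rw [Set.mem_preimage]
    constructor
    · rintro ⟨w, rfl⟩
      rw [← AlgSp.Points.map_comp, hk]
      exact (hr (p + 1)).le ⟨w, rfl⟩
    · intro hz
      rw [← hr (p + 1)] at hz
      obtain ⟨w, hw⟩ := hz
      exact ⟨w, injective_map_of_mono (openSubι {x | Big a p x}) (by rw [← AlgSp.Points.map_comp, hk, hw])⟩
  choose T i hT hi using fun p => exists_isRedInduced (hUo p)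
    (((hopen (p + 1)).preimage (AlgSp.Points.continuous_map (openSubι {x | Big a p x}))).isClosed_compl)
  refine ⟨fun p => ⟨_, hUo p⟩, fun p => ObjectProperty.homMk (openSubι _), fun p => ObjectProperty.homMk (k p),
    fun p => ⟨T p, hT p⟩, fun p => ObjectProperty.homMk (i p), fun p => repWith_openSubι (hopen p),
    fun p => ObjectProperty.hom_ext _ (hk p), ?_, fun p => ?_, fun p hp => ?_, fun x hx => ?_⟩
  · obtain ⟨l, hl⟩ := exists_factor_open (repWith_openSubι (hopen 1)) (𝟙 X.obj) (by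
      rw [hr]; exact fun x _ => big_one ha has x)
    exact ⟨ObjectProperty.homMk l, ObjectProperty.hom_ext _ ((cancel_mono (openSubι {x | Big a 1 x})).1
      (show (openSubι {x | Big a 1 x} ≫ l) ≫ openSubι {x | Big a 1 x} = 𝟙 _ ≫ openSubι {x | Big a 1 x} by
        rw [Category.assoc, hl, Category.comp_id, Category.id_comp])), ObjectProperty.hom_ext _ hl⟩
  · show AlgSp.IsRedInduced (Set.range (AlgSp.Points.map (k p)))ᶜ (i p)
    rw [hkr]
    exact hi p
  · obtain ⟨V, f, h1, -, h2, h3, h4⟩ := hstr p hp _ (repWith_openSubι (hopen p)) (hr p) (i p) fun z hz => by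
      rw [AlgSp.Points.map_comp] at hz
      exact (hi p).2.1.le ⟨z, rfl⟩ hz
    exact ⟨V, f, h1, h2, h3, h4⟩
  · obtain ⟨q, rfl, hq⟩ := hx
    obtain ⟨Y, aY, bY, sq⟩ := Hilb.exists_square ha.1 q.toHom
    haveI : QuasiCompact bY.left := hq.property _ _ bY sq.flip
    haveI : CompactSpace Y.left := QuasiCompact.compactSpace_of_compactSpace bY.left
    haveI : Etale aY.left := ha.property _ _ aY sq
    haveI := lqf_of_etale aY.left
    obtain ⟨d, hd⟩ := exists_bound_pts aY.left
    have hbound : ∀ n, Big a n (AlgSp.Points.mk q) → n ≤ d := fun n hn => by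
      refine le_of_big X.property ha sq (IsLocalRing.closedPoint q.K) (fun Ω _ _ η _ s => ?_)
        (show Big a n (AlgSp.Points.ofPt q.toHom (IsLocalRing.closedPoint q.K)) by
          rw [AlgSp.Points.ofPt_toHom]; exact hn)
      obtain ⟨hf, hc⟩ := hd Ω η
      exact (Nat.card_eq_finsetCard s).symm.le.trans ((Nat.card_le_card_of_injective _ Subtype.val_injective).trans hc)
    obtain ⟨p, hp1, hbig, hnot⟩ : ∃ p, 1 ≤ p ∧ Big a p (AlgSp.Points.mk q) ∧ ¬ Big a (p + 1) (AlgSp.Points.mk q) := by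
      refine ⟨Nat.findGreatest (fun n => Big a n (AlgSp.Points.mk q)) d,
        Nat.le_findGreatest (hbound 1 (big_one ha has _)) (big_one ha has _),
        Nat.findGreatest_spec (P := fun n => Big a n (AlgSp.Points.mk q)) (hbound 1 (big_one ha has _)) (big_one ha has _), fun h => ?_⟩
      exact absurd (Nat.le_findGreatest (hbound _ h) h) (Nat.not_succ_le_self _)
    obtain ⟨z, hz⟩ := (hr p).ge hbig
    obtain ⟨w, hw⟩ := (hi p).2.1.ge (fun h => hnot (hz ▸ h) :
      z ∈ (AlgSp.Points.map (openSubι {x | Big a p x}) ⁻¹' {x | Big a (p + 1) x})ᶜ)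
    refine ⟨p, hp1, w, ?_⟩
    show AlgSp.Points.map (i p ≫ openSubι _) w = _
    rw [AlgSp.Points.map_comp, hw, hz]

end Groth.Agent.S10418
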