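import Groth.Statements.S10421
import Groth.Agent.H13GenEtale.Main
-- import your own Groth.Agent.* helpers here

set_option autoImplicit false
set_option backward.isDefEq.respectTransparency false
universe u
open CategoryTheory CategoryTheory.Limits AlgebraicGeometry Topology TopologicalSpace
open AlgSp

namespace Groth.Agent.S10421

/-- Let S be a scheme and X an algebraic space over S which is quasi-compact and quasi-separated (where
S has quasi-separated underlying space and X is quasi-separated over S), assume that |X| has only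
finitely many irreducible components, and let V ⟶ X be an etale surjective morphism whose source V
is a scheme. Then there exist a scheme Y and an integral surjective morphism Y ⟶ X such that, over
some dense quasi-compact open U ⊆ X, Y is finite etale, and such that Y ⟶ X factors through V
Zariski locally on Y. -/
theorem result {S : Scheme.{u}} [QuasiSeparatedSpace ↥S]
    (X : AlgSp.Space S) (hqc : AlgSp.IsQuasiCompactSp X.obj) (hqs : AlgSp.IsQuasiSeparatedSp X.obj)
    (hirr : (irreducibleComponents (AlgSp.Points X.obj)).Finite)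
    {V : Over S} (b : (AlgSp.yon S).obj V ⟶ X.obj) (hb : AlgSp.RepWith @Etale b) (hbs : AlgSp.RepWith @Surjective b) :
    ∃ (Y : Over S) (g : (AlgSp.yon S).obj Y ⟶ X.obj) (U : AlgSp.Space S) (jU : U ⟶ X),
      AlgSp.RepWith @IsIntegralHom g ∧ AlgSp.RepWith @Surjective g ∧
      AlgSp.RepWith @IsOpenImmersion jU.hom ∧ AlgSp.IsQuasiCompactSp U.obj ∧ Dense (Set.range (AlgSp.Points.map jU.hom)) ∧
      (∀ (P : AlgSp.Sp S) (fst : P ⟶ (AlgSp.yon S).obj Y) (snd : P ⟶ U.obj), IsPullback fst snd g jU.hom →
        AlgSp.RepWith @IsFinite snd ∧ AlgSp.RepWith @Etale snd) ∧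
      ∀ y : ↥Y.left, ∃ (W : Y.left.Opens) (c : Over.mk (W.ι ≫ Y.hom) ⟶ V), y ∈ W ∧
        (AlgSp.yon S).map c ≫ b = (AlgSp.yon S).map (Over.homMk W.ι rfl : Over.mk (W.ι ≫ Y.hom) ⟶ Y) ≫ g := by
  obtain ⟨Y, g, U, jU, hg, hgs, hjU, hUc, hd, hfe, hfac⟩ :=
    Groth.Agent.H13GenEtale.exists_integral_cover_finite_etale X.property hqc hqs hirr b hb hbs
  exact ⟨Y, g, ⟨(AlgSp.yon S).obj U, AlgSp.IsAlgSpace.yon_obj U⟩, ObjectProperty.homMk jU, hg, hgs, hjU,
    Groth.Agent.H12AlgSp.isQuasiCompactSp_yon_iff.2 hUc, hd, hfe, hfac⟩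

end Groth.Agent.S10421
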