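import Groth.Statements.S10422
import Groth.Prelude.Def_AlgSp2
import Mathlib.LinearAlgebra.Matrix.Rank
import Mathlib.LinearAlgebra.TensorProduct.Finiteness

set_option autoImplicit false
universe u
open Topology TopologicalSpace TensorProduct
open AlgSp

namespace Groth.Agent.S10422

theorem exists_common_field {k : Type u} [Field k] (K : ℕ → Type u) [∀ n, Field (K n)] [∀ n, Algebra k (K n)]
    (F : Finset ℕ) : ∃ (Ω : Type u) (_ : Field Ω) (_ : Algebra k Ω), ∀ n ∈ F, Nonempty (K n →ₐ[k] Ω) := by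
  classical
  induction F using Finset.induction with
  | empty => exact ⟨k, inferInstance, inferInstance, fun n hn => absurd hn (Finset.notMem_empty n)⟩
  | @insert a s _ ih =>
    obtain ⟨Ω, _, _, hΩ⟩ := ih
    obtain ⟨Ω', _, i₁, i₂, hi⟩ := AlgSp.FieldPt.exists_amalgamation (algebraMap k Ω) (algebraMap k (K a))
    let _ : Algebra k Ω' := (i₁.comp (algebraMap k Ω)).toAlgebra
    refine ⟨Ω', inferInstance, inferInstance, fun n hn => ?_⟩
    rcases Finset.mem_insert.1 hn with rfl | hn
    · exact ⟨⟨i₂, fun r => (RingHom.congr_fun hi r).symm⟩⟩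
    · obtain ⟨e⟩ := hΩ n hn
      exact ⟨⟨i₁.comp e.toRingHom, fun r => congrArg i₁ (e.commutes r)⟩⟩

theorem card_le_of_pairing {R A K ι : Type*} [CommRing R] [CommRing A] [Algebra R A] [Field K] [Algebra R K]
    [Fintype ι] (x : ι → (A →ₐ[R] K)) (Sf : Finset (A × A))
    (hoff : ∀ i j, i ≠ j → Algebra.TensorProduct.productMap (x i) (x j) (∑ m ∈ Sf, m.1 ⊗ₜ[R] m.2) = 0)
    (hdiag : ∀ i, Algebra.TensorProduct.productMap (x i) (x i) (∑ m ∈ Sf, m.1 ⊗ₜ[R] m.2) ≠ 0) :
    Fintype.card ι ≤ Sf.card := by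
  classical
  let B : Matrix ι Sf K := fun i m => x i m.1.1
  let C : Matrix Sf ι K := fun m j => x j m.1.2
  have hBC : B * C = Matrix.diagonal fun i =>
      Algebra.TensorProduct.productMap (x i) (x i) (∑ m ∈ Sf, m.1 ⊗ₜ[R] m.2) := by
    ext i j
    have hval : (B * C) i j = Algebra.TensorProduct.productMap (x i) (x j) (∑ m ∈ Sf, m.1 ⊗ₜ[R] m.2) := by
      simp only [Matrix.mul_apply, map_sum, Algebra.TensorProduct.productMap_apply_tmul, B, C]
      exact Finset.sum_coe_sort Sf (fun m => x i m.1 * x j m.2)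
    rcases eq_or_ne i j with rfl | hij
    · rw [hval, Matrix.diagonal_apply_eq]
    · rw [hval, Matrix.diagonal_apply_ne _ hij, hoff _ _ hij]
  have h1 := (Matrix.rank_mul_le_left B C).trans B.rank_le_card_width
  rw [hBC, Matrix.rank_diagonal, Fintype.card_coe, Fintype.card_subtype] at h1
  simpa [hdiag, -map_sum] using h1


/-- Let A be a ring, k a field, (p_n) a sequence of primes of A which are pairwise distinct, and k →
κ(p_n) field embeddings. Then the closure in Spec(A ⊗ A) of the image of ∐_{n ≠ m} Spec(κ(p_n) ⊗_k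
κ(p_m)) meets the diagonal. Here κ(p_n) is any A-algebra K_n which is a field whose structure map
has kernel p_n and whose elements are quotients of images of elements of A. -/
theorem result (A : Type u) [CommRing A] (k : Type u) [Field k]
    (p : ℕ → PrimeSpectrum A) (hp : Function.Injective p) (K : ℕ → Type u) [∀ n, Field (K n)]
    [∀ n, Algebra A (K n)] [∀ n, Algebra k (K n)]
    (hker : ∀ n, RingHom.ker (algebraMap A (K n)) = (p n).asIdeal)
    (hfrac : ∀ n (x : K n), ∃ a b : A, algebraMap A (K n) b ≠ 0 ∧ x * algebraMap A (K n) b = algebraMap A (K n) a) :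
    (closure (⋃ (n : ℕ) (m : ℕ) (_ : n ≠ m),
        Set.range (PrimeSpectrum.comap
          (Algebra.TensorProduct.lift
            ((Algebra.TensorProduct.includeLeft (R := k) (S := ℤ) (A := K n) (B := K m)).toRingHom.toIntAlgHom.comp
              (Algebra.ofId A (K n)).toRingHom.toIntAlgHom)
            ((Algebra.TensorProduct.includeRight (R := k) (A := K n) (B := K m)).toRingHom.toIntAlgHom.comp
              (Algebra.ofId A (K m)).toRingHom.toIntAlgHom)
            (fun _ _ => Commute.all _ _)).toRingHom)) ∩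
      Set.range (PrimeSpectrum.comap (Algebra.TensorProduct.lmul' (S := A) ℤ).toRingHom)).Nonempty := by
  classical
  obtain ⟨q, hq⟩ : ∃ q : PrimeSpectrum A, ∀ O : Set (PrimeSpectrum A), IsOpen O → q ∈ O → {n | p n ∈ O}.Infinite := by
    by_contra hc
    push Not at hc
    choose O hO hqO hfin using hc
    obtain ⟨t, ht⟩ := isCompact_univ.elim_finite_subcover O hO (fun z _ => Set.mem_iUnion.2 ⟨z, hqO z⟩)
    refine Set.infinite_univ ((Set.Finite.biUnion t.finite_toSet fun z _ => hfin z).subset fun n _ => ?_)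
    obtain ⟨z, hz, hn⟩ := Set.mem_iUnion₂.1 (ht (Set.mem_univ (p n)))
    exact Set.mem_iUnion₂.2 ⟨z, hz, hn⟩
  refine ⟨PrimeSpectrum.comap (Algebra.TensorProduct.lmul' (S := A) ℤ).toRingHom q, ?_, q, rfl⟩
  rw [PrimeSpectrum.isTopologicalBasis_basic_opens.mem_closure_iff]
  rintro _ ⟨h, rfl⟩ hh
  have hmu : Algebra.TensorProduct.lmul' (S := A) ℤ h ∉ q.asIdeal := fun hm => hh hm
  have hinf := hq (PrimeSpectrum.basicOpen (Algebra.TensorProduct.lmul' (S := A) ℤ h))
    (PrimeSpectrum.basicOpen _).2 hmu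
  obtain ⟨Sf, hSf⟩ := TensorProduct.exists_finset h
  obtain ⟨F, hF, hFc⟩ := hinf.exists_subset_card_eq (Sf.card + 1)
  obtain ⟨Ω, _, _, hΩ⟩ := exists_common_field (k := k) K F
  let e : ∀ n : F, K n.1 →ₐ[k] Ω := fun n => (hΩ n.1 n.2).some
  let x : F → (A →ₐ[ℤ] Ω) := fun n => ((e n).toRingHom.comp (algebraMap A (K n.1))).toIntAlgHom
  by_contra hne
  rw [Set.not_nonempty_iff_eq_empty] at hne
  have hoff : ∀ i j : F, i ≠ j →
      Algebra.TensorProduct.productMap (x i) (x j) (∑ m ∈ Sf, m.1 ⊗ₜ[ℤ] m.2) = 0 := by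
    intro i j hij
    by_contra hnz
    rw [← hSf] at hnz
    let P : PrimeSpectrum (TensorProduct k (K i.1) (K j.1)) :=
      PrimeSpectrum.comap (Algebra.TensorProduct.productMap (e i) (e j)).toRingHom ⟨⊥, Ideal.isPrime_bot⟩
    refine hne.le ⟨?_, Set.mem_iUnion₂.2 ⟨i.1, j.1, Set.mem_iUnion.2 ⟨fun h => hij (Subtype.ext h), P, rfl⟩⟩⟩
    intro hm
    apply hnz
    have hmem : (Algebra.TensorProduct.productMap (e i) (e j)) (Algebra.TensorProduct.lift
        ((Algebra.TensorProduct.includeLeft (R := k) (S := ℤ) (A := K i.1) (B := K j.1)).toRingHom.toIntAlgHom.comp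
          (Algebra.ofId A (K i.1)).toRingHom.toIntAlgHom)
        ((Algebra.TensorProduct.includeRight (R := k) (A := K i.1) (B := K j.1)).toRingHom.toIntAlgHom.comp
          (Algebra.ofId A (K j.1)).toRingHom.toIntAlgHom)
        (fun _ _ => Commute.all _ _) h) = 0 := hm
    refine Eq.trans ?_ hmem
    clear hmem hm hnz hne hF hinf hSf hmu hh
    induction h using TensorProduct.induction_on with
    | zero => simp
    | tmul a b =>
      rw [Algebra.TensorProduct.productMap_apply_tmul, Algebra.TensorProduct.lift_tmul]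
      simp [x]
    | add a b ha hb => simp only [map_add]; rw [ha, hb]
  have hdiag : ∀ i : F, Algebra.TensorProduct.productMap (x i) (x i) (∑ m ∈ Sf, m.1 ⊗ₜ[ℤ] m.2) ≠ 0 := by
    intro i h0
    apply hF i.2
    change Algebra.TensorProduct.lmul' (S := A) ℤ h ∈ (p i.1).asIdeal
    rw [← hker i.1, RingHom.mem_ker]
    apply (e i).toRingHom.injective
    rw [map_zero, ← h0, ← hSf]
    refine (DFunLike.congr_fun (?_ : Algebra.TensorProduct.productMap (x i) (x i) =
      (x i).comp (Algebra.TensorProduct.lmul' (S := A) ℤ)) h).symm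
    ext <;> simp
  have := card_le_of_pairing x Sf hoff hdiag
  rw [Fintype.card_coe, hFc] at this
  omega

end Groth.Agent.S10422
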