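import Groth.Statements.S10423
import Groth.Agent.H13AlgSp.DecentApps

set_option autoImplicit false
universe u
open CategoryTheory CategoryTheory.Limits AlgebraicGeometry Topology TopologicalSpace
open AlgSp

namespace Groth.Agent.S10423

open Groth.Agent.H12AlgSp Groth.Agent.H13AlgSp


/-- A morphism of algebraic spaces over a scheme S which is representable, or which is quasi-separated,
is decent (all its base changes to schemes are decent algebraic spaces). The implications through
reasonable and very reasonable morphisms are not part of this row. -/
theorem result {S : Scheme.{u}} {X Y : AlgSp.Space S} (f : X ⟶ Y) :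
    (AlgSp.Representable f.hom → AlgSp.IsDecentMor f.hom) ∧
      (AlgSp.IsQuasiSeparatedMor f.hom → AlgSp.IsDecentMor f.hom) := by
  exact ⟨isDecentMor_of_representable, isDecentMor_of_isQuasiSeparatedMor X.property Y.property⟩

end Groth.Agent.S10423
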