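import Groth.Statements.S10424
import Groth.Agent.H13AlgSp.UnivBdd

set_option autoImplicit false
universe u
open CategoryTheory CategoryTheory.Limits AlgebraicGeometry Topology TopologicalSpace
open AlgSp

namespace Groth.Agent.S10424

open Groth.Agent.H12AlgSp Groth.Agent.H13AlgSp


/-- Let X be an algebraic space over a scheme S, V ⟶ U a morphism of schemes over S and U ⟶ X a
morphism. Suppose that the fibres of V ⟶ U and of U ⟶ X are universally bounded. Then V ⟶ X also has
universally bounded fibres. -/
theorem result {S : Scheme.{u}} (X : AlgSp.Space S) {U V : Over S} (f : V ⟶ U)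
    (g : (AlgSp.yon S).obj U ⟶ X.obj) (hf : W4dec.HasUnivBddFibres ((AlgSp.yon S).map f)) (hg : W4dec.HasUnivBddFibres g) :
    W4dec.HasUnivBddFibres ((AlgSp.yon S).map f ≫ g) := by
  obtain ⟨n, hn⟩ := hf
  obtain ⟨m, hm⟩ := hg
  exact ⟨n * m, degFibresLE_comp (degFib_of_degFibresLE hn) (X.property.representable_from_yon g) hm⟩

end Groth.Agent.S10424
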