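import Groth.Statements.S10426
import Groth.Agent.H13AlgSp.UnivBddApps

set_option autoImplicit false
universe u
open CategoryTheory CategoryTheory.Limits AlgebraicGeometry Topology TopologicalSpace
open AlgSp

namespace Groth.Agent.S10426

open Groth.Agent.H12AlgSp Groth.Agent.H13AlgSp


/-- Let S be a scheme, X and Y algebraic spaces over S, and g : Y ⟶ X a representable morphism; let U be
a scheme, f : U ⟶ X a morphism, and f′ : U ×_X Y ⟶ Y its base change. Assume the image of |U| → |X|
is contained in the image of |Y| → |X| and that f′ has universally bounded fibres. Then the morphism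
f also has universally bounded fibres. -/
theorem result {S : Scheme.{u}} {X Y : AlgSp.Space S} (g : Y ⟶ X)
    (hg : AlgSp.Representable g.hom) {U V : Over S} (f : (AlgSp.yon S).obj U ⟶ X.obj)
    (fst : (AlgSp.yon S).obj V ⟶ (AlgSp.yon S).obj U) (f' : (AlgSp.yon S).obj V ⟶ Y.obj) (h : IsPullback fst f' f g.hom)
    (him : Set.range (AlgSp.Points.ofPt f) ⊆ Set.range (AlgSp.Points.map g.hom)) (hf' : W4dec.HasUnivBddFibres f') :
    W4dec.HasUnivBddFibres f := by
  obtain ⟨n, hn⟩ := hf'
  exact ⟨n, degFibresLE_of_baseChange h him hn⟩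

end Groth.Agent.S10426
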