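import Groth.Statements.S10427
import Groth.Agent.H13AlgSp.UnivBdd

set_option autoImplicit false
universe u
open CategoryTheory CategoryTheory.Limits AlgebraicGeometry Topology TopologicalSpace
open AlgSp

namespace Groth.Agent.S10427

open Groth.Agent.H12AlgSp Groth.Agent.H13AlgSp


/-- Let X be an algebraic space over a scheme S and U ⟶ V ⟶ X with U, V schemes, U ⟶ V surjective and
flat. If U ⟶ X has universally bounded fibres, then so does V ⟶ X. -/
theorem result {S : Scheme.{u}} (X : AlgSp.Space S) {U V : Over S} (f : U ⟶ V)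
    [Surjective f.left] [Flat f.left] (h : (AlgSp.yon S).obj V ⟶ X.obj) (hg : W4dec.HasUnivBddFibres ((AlgSp.yon S).map f ≫ h)) :
    W4dec.HasUnivBddFibres h := by
  obtain ⟨n, hn⟩ := hg
  exact ⟨_, degFibresLE_of_flat_cover (W := fun _ : Unit => U) (fun _ => f)
    (fun v => ⟨(), f.left.surjective v⟩) h (fun _ => n) fun _ => hn⟩

end Groth.Agent.S10427
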