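import Groth.Statements.S10428
import Groth.Agent.H12AlgSp.Points
import Groth.Agent.H13AlgSp.FibreCard

set_option autoImplicit false
universe u
open CategoryTheory CategoryTheory.Limits AlgebraicGeometry Topology TopologicalSpace
open AlgSp

namespace Groth.Agent.S10428

/-- Let X be an algebraic space over a scheme S and φ : U ⟶ X a morphism from a scheme with universally
bounded fibres. Then for some integer n, every fibre of |U| → |X| contains at most n elements. -/
theorem result {S : Scheme.{u}} (X : AlgSp.Space S) {U : Over S}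
    (φ : (AlgSp.yon S).obj U ⟶ X.obj) (hφ : W4dec.HasUnivBddFibres φ) :
    ∃ n : ℕ, ∀ x : AlgSp.Points X.obj, (AlgSp.Points.ofPt φ ⁻¹' {x}).encard ≤ n := by
  obtain ⟨n, hn⟩ := hφ
  refine ⟨n, fun x => ?_⟩
  induction x using Points.ind with | h q =>
  have hr := X.property.representable_from_yon φ
  have sq := hr.isPullback q.toHom
  obtain ⟨hfin, hrank⟩ := hn q _ (hr.snd q.toHom) _ sq.flip
  let s : ↥q.pt.left := IsLocalRing.closedPoint q.K
  have hsub : Points.ofPt φ ⁻¹' {Points.mk q} ⊆
      Set.range fun t => ((Points.schemeEquiv U).symm (Points.ofPt (hr.fst q.toHom) t)) := by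
    intro w hw
    obtain ⟨y, hy, -⟩ := Groth.Agent.H12AlgSp.exists_point_of_isPullback sq (Points.ofScheme U w)
      (Points.ofScheme q.pt s) (by
        rw [← Points.ofPt_eq_map_ofScheme, ← Points.ofPt_eq_map_ofScheme, hw, Points.ofPt_toHom])
    obtain ⟨t, rfl⟩ := (Points.schemeEquiv _).surjective y
    exact ⟨t, (Equiv.symm_apply_eq _).2 ((Points.ofPt_eq_map_ofScheme _ t).trans hy)⟩
  refine (Set.encard_le_encard hsub).trans ?_
  rw [← Set.image_univ]
  refine (Set.encard_image_le _ _).trans ?_
  rw [Set.encard_univ]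
  exact (Groth.Agent.H13AlgSp.encard_le_finrank (hr.snd q.toHom).left s).trans (Nat.cast_le.2 (hrank s))

end Groth.Agent.S10428
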