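import Groth.Statements.S10430
import Groth.Agent.H13AlgSp.DecentApps

set_option autoImplicit false
universe u
open CategoryTheory CategoryTheory.Limits AlgebraicGeometry Topology TopologicalSpace
open AlgSp

namespace Groth.Agent.S10430

open Groth.Agent.H12AlgSp Groth.Agent.H13AlgSp


/-- If every etale morphism U ⟶ X from an affine scheme to the algebraic space X has universally bounded
fibres, then X is decent. -/
theorem result {S : Scheme.{u}} (X : AlgSp.Space S)
    (h : ∀ (U : Over S) (φ : (AlgSp.yon S).obj U ⟶ X.obj), IsAffine U.left → AlgSp.RepWith @Etale φ → W4dec.HasUnivBddFibres φ) :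
    AlgSp.IsDecent X.obj := by
  refine isDecent_of_finite_geometric X.property fun V b hV hb K _ _ str p => ?_
  obtain ⟨W, w, fW, sq⟩ := hb.1 p
  obtain ⟨f, rfl⟩ := (AlgSp.yon S).map_surjective fW
  have : Etale w.left := hb.2 _ _ _ sq
  refine (finite_geometric_iff sq).2 ?_
  obtain ⟨n, hn⟩ := h V b hV hb
  have sq' : IsPullback ((AlgSp.yon S).map w) ((AlgSp.yon S).map f) (fieldPtOfHom p).toHom b := by
    rw [toHom_fieldPtOfHom]; exact sq.flip
  obtain ⟨hfin, -⟩ := hn (fieldPtOfHom p) W w ((AlgSp.yon S).map f) sq'
  have := lqf_of_etale w.left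
  have : IsFinite w.left := hfin
  have h1 := w.left.finite_preimage_singleton (IsLocalRing.closedPoint K)
  exact Finite.of_finite_univ (h1.subset fun x _ => @Subsingleton.elim (Spec (CommRingCat.of K)) inferInstance _ _)

end Groth.Agent.S10430
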