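import Groth.Statements.S10431
import Groth.Agent.H13AlgSp.UnivBddApps

set_option autoImplicit false
universe u
open CategoryTheory CategoryTheory.Limits AlgebraicGeometry Topology TopologicalSpace
open AlgSp

namespace Groth.Agent.S10431

open Groth.Agent.H12AlgSp Groth.Agent.H13AlgSp


/-- Let S be a scheme, X and Y algebraic spaces over S, and X ⟶ Y a representable morphism. If every
etale morphism from an affine scheme to Y has universally bounded fibres, then so does every etale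
morphism from an affine scheme to X. -/
theorem result {S : Scheme.{u}} {X Y : AlgSp.Space S} (f : X ⟶ Y)
    (hf : AlgSp.Representable f.hom)
    (hY : ∀ (V : Over S) (ψ : (AlgSp.yon S).obj V ⟶ Y.obj), IsAffine V.left → AlgSp.RepWith @Etale ψ → W4dec.HasUnivBddFibres ψ)
    (U : Over S) (φ : (AlgSp.yon S).obj U ⟶ X.obj) (hU : IsAffine U.left) (hφ : AlgSp.RepWith @Etale φ) :
    W4dec.HasUnivBddFibres φ := by
  obtain ⟨W, q, hq, hqs⟩ := Y.property.atlas
  let ψ : ∀ A : W.left.affineOpens, (AlgSp.yon S).obj (openOver W A.1) ⟶ Y.obj :=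
    fun A => (AlgSp.yon S).map (openIncl W A.1) ≫ q
  have hψ : ∀ A, AlgSp.RepWith @Etale (ψ A) := fun A =>
    MorphismProperty.comp_mem _ _ _ ((repWith_yon_map_iff _ _).2 (inferInstanceAs (Etale A.1.ι))) hq
  let χ : ∀ A, (AlgSp.yon S).obj (hf.pullback (ψ A)) ⟶ X.obj := fun A => hf.fst (ψ A)
  have sq : ∀ A, IsPullback (χ A) ((AlgSp.yon S).map (hf.snd (ψ A))) f.hom (ψ A) := fun A => hf.isPullback (ψ A)
  have hχ : ∀ A, AlgSp.RepWith @Etale (χ A) := fun A => MorphismProperty.of_isPullback (sq A).flip (hψ A)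
  have hb : ∀ A, W4dec.HasUnivBddFibres (χ A) := fun A => by
    obtain ⟨n, hn⟩ := hY _ (ψ A) A.2 (hψ A)
    refine ⟨n, fun p T c s' sq' => hn (p.map f.hom) T c (s' ≫ (AlgSp.yon S).map (hf.snd (ψ A))) ?_⟩
    rw [FieldPt.toHom_map]
    exact sq'.paste_vert (sq A)
  refine exists_degFibresLE_of_etale_family (fun A => hf.pullback (ψ A)) χ hχ φ hφ (fun v => ?_) hb
  obtain ⟨w, hw⟩ := surjective_ofPt_of_repWith le_rfl hqs (AlgSp.Points.map f.hom (AlgSp.Points.ofPt φ v))
  obtain ⟨A, hA, hwA, -⟩ := exists_isAffineOpen_mem_and_subset (U := (⊤ : W.left.Opens)) (x := w) trivial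
  refine ⟨⟨A, hA⟩, ?_⟩
  have h2 : AlgSp.Points.ofPt φ v ∈ Set.range (AlgSp.Points.map (χ ⟨A, hA⟩)) := by
    rw [range_snd_of_isPullback (sq ⟨A, hA⟩).flip, Set.mem_preimage, range_map_yon]
    refine ⟨⟨w, hwA⟩, ?_⟩
    rw [← hw]
    exact ofPt_map (openIncl W A) q ⟨w, hwA⟩
  rw [range_map_yon] at h2
  exact h2

end Groth.Agent.S10431
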