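import Groth.Statements.S10432
import Groth.Agent.H13AlgSp.UnivBddApps

set_option autoImplicit false
universe u
open CategoryTheory CategoryTheory.Limits AlgebraicGeometry Topology TopologicalSpace
open AlgSp

namespace Groth.Agent.S10432

open Groth.Agent.H12AlgSp Groth.Agent.H13AlgSp


/-- Let X be an algebraic space over a scheme S with a Zariski covering by open subspaces X_i ⟶ X such
that every etale morphism from an affine scheme to X_i has universally bounded fibres. Then every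
etale morphism from an affine scheme to X has universally bounded fibres. -/
theorem result {S : Scheme.{u}} (X : AlgSp.Space S) {ι : Type u}
    (Xi : ι → AlgSp.Space S) (j : ∀ i, Xi i ⟶ X) (hj : AlgSp.IsZarCover (fun i => (Xi i).obj) (fun i => (j i).hom))
    (h : ∀ (i : ι) (V : Over S) (ψ : (AlgSp.yon S).obj V ⟶ (Xi i).obj), IsAffine V.left → AlgSp.RepWith @Etale ψ → W4dec.HasUnivBddFibres ψ)
    (U : Over S) (φ : (AlgSp.yon S).obj U ⟶ X.obj) (hU : IsAffine U.left) (hφ : AlgSp.RepWith @Etale φ) :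
    W4dec.HasUnivBddFibres φ := by
  choose W q hq hqs using fun i => (Xi i).property.atlas
  let ψ : ∀ p : Σ i, (W i).left.affineOpens, (AlgSp.yon S).obj (openOver (W p.1) p.2.1) ⟶ (Xi p.1).obj :=
    fun p => (AlgSp.yon S).map (openIncl (W p.1) p.2.1) ≫ q p.1
  have hψ : ∀ p, AlgSp.RepWith @Etale (ψ p) := fun p =>
    MorphismProperty.comp_mem _ _ _ ((repWith_yon_map_iff _ _).2 (inferInstanceAs (Etale p.2.1.ι))) (hq p.1)
  have hj' : ∀ i, AlgSp.RepWith @Etale (j i).hom := fun i =>
    repWith_le (fun _ _ g hg => by have := hg; infer_instance) (hj.1 i)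
  refine exists_degFibresLE_of_etale_family _ (fun p => ψ p ≫ (j p.1).hom)
    (fun p => MorphismProperty.comp_mem _ _ _ (hψ p) (hj' p.1)) φ hφ (fun v => ?_) fun p => ?_
  · obtain ⟨i, y, hy⟩ := hj.2 (AlgSp.Points.ofPt φ v)
    obtain ⟨w, hw⟩ := surjective_ofPt_of_repWith le_rfl (hqs i) y
    obtain ⟨A, hA, hwA, -⟩ := exists_isAffineOpen_mem_and_subset (U := (⊤ : (W i).left.Opens)) (x := w) trivial
    refine ⟨⟨i, A, hA⟩, ⟨w, hwA⟩, ?_⟩
    rw [← hy, ← hw, Points.map_ofPt]
    change AlgSp.Points.ofPt (((AlgSp.yon S).map (openIncl (W i) A) ≫ q i) ≫ (j i).hom) _ = _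
    rw [Category.assoc]
    exact ofPt_map (openIncl (W i) A) _ ⟨w, hwA⟩
  · obtain ⟨n, hn⟩ := h p.1 _ (ψ p) p.2.2 (hψ p)
    exact ⟨n, degFibresLE_comp_open hn (hj.1 p.1)⟩

end Groth.Agent.S10432
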