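import Groth.Statements.S10433
import Groth.Agent.H13AlgSp.DegreeSpace

set_option autoImplicit false
universe u
open CategoryTheory CategoryTheory.Limits AlgebraicGeometry Topology TopologicalSpace
open AlgSp

namespace Groth.Agent.S10433

/-- Let S be a scheme, X an algebraic space over S, W a scheme over S, and W ⟶ X a morphism which is
flat, separated, locally of finite presentation and locally quasi-finite, with universally bounded
fibres. Then X has closed subspaces, each reduced, ∅ = Z_{-1} ⊆ Z_0 ⊆ ⋯ ⊆ Z_n with |Z_n| = |X| such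
that, putting X_r = Z_r ∖ Z_{r-1}, for every morphism g : T ⟶ X the second projection W ×_X T ⟶ T is
a finite locally free morphism of degree r exactly when g(|T|) ⊆ |X_r|. (Indexing: Zs 0 = Z_{-1}, Zs
(r+1) = Z_r.) -/
theorem result {S : Scheme.{u}} (X : AlgSp.Space S) {W : Over S}
    (w : (AlgSp.yon S).obj W ⟶ X.obj) (hfl : AlgSp.RepWith @Flat w) (hfp : AlgSp.RepWith @LocallyOfFinitePresentation w)
    (hsep : AlgSp.RepWith @IsSeparated w) (hqf : AlgSp.RepWith @LocallyQuasiFinite w) (hb : W4dec.HasUnivBddFibres w) :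
    ∃ (n : ℕ) (Zs : ℕ → AlgSp.Space S) (i : ∀ r, Zs r ⟶ X),
      (∀ r, AlgSp.IsRedInduced (Set.range (AlgSp.Points.map (i r).hom)) (i r).hom) ∧
      IsEmpty (AlgSp.Points (Zs 0).obj) ∧ Set.range (AlgSp.Points.map (i (n + 1)).hom) = Set.univ ∧
      (∀ r, Set.range (AlgSp.Points.map (i r).hom) ⊆ Set.range (AlgSp.Points.map (i (r + 1)).hom)) ∧
      ∀ (r : ℕ) (T : AlgSp.Space S) (g : T ⟶ X) (P : AlgSp.Sp S) (fst : P ⟶ (AlgSp.yon S).obj W) (snd : P ⟶ T.obj),
        IsPullback fst snd w g.hom →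
          (AlgSp.IsFinLocFreeOfDegMor r snd ↔
            Set.range (AlgSp.Points.map g.hom) ⊆
              Set.range (AlgSp.Points.map (i (r + 1)).hom) \ Set.range (AlgSp.Points.map (i r).hom)) := by
  obtain ⟨n, hn⟩ := hb
  obtain ⟨D, hD, hcl, hiff⟩ := Groth.Agent.H13AlgSp.Degree.exists_strata X.property hfl hfp hsep hqf hn
  choose Z i hZ hi using fun r : ℕ => Groth.Agent.H13AlgSp.exists_isRedInduced X.property (hcl r)
  have hr : ∀ r, Set.range (AlgSp.Points.map (i r)) = {x | D x < r} := fun r => (hi r).2.1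
  refine ⟨n, fun r => ⟨Z r, hZ r⟩, fun r => ObjectProperty.homMk (i r), fun r => ?_, ?_, ?_, fun r => ?_,
    fun r T g P fst snd sq => ?_⟩
  · show AlgSp.IsRedInduced (Set.range (AlgSp.Points.map (i r))) (i r)
    rw [hr]
    exact hi r
  · refine ⟨fun z => ?_⟩
    exact Nat.not_lt_zero _ ((hr 0).le ⟨z, rfl⟩ : D (AlgSp.Points.map (i 0) z) < 0)
  · show Set.range (AlgSp.Points.map (i (n + 1))) = Set.univ
    rw [hr]
    exact Set.eq_univ_of_forall fun x => Nat.lt_succ_of_le (hD x)
  · show Set.range (AlgSp.Points.map (i r)) ⊆ Set.range (AlgSp.Points.map (i (r + 1)))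
    rw [hr, hr]
    exact fun x (hx : D x < r) => Nat.lt_succ_of_lt hx
  · show _ ↔ Set.range (AlgSp.Points.map g.hom) ⊆ Set.range (AlgSp.Points.map (i (r + 1))) \ Set.range (AlgSp.Points.map (i r))
    rw [hiff r T.property g.hom sq, hr, hr]
    constructor
    · rintro h _ ⟨z, rfl⟩
      exact ⟨(h z).le.trans_lt (Nat.lt_succ_self r), fun (hlt : _ < r) => hlt.ne (h z)⟩
    · intro h z
      obtain ⟨h₁, h₂⟩ := h ⟨z, rfl⟩
      exact le_antisymm (Nat.le_of_lt_succ h₁) (not_lt.1 h₂)

end Groth.Agent.S10433
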