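import Groth.Statements.S10438
import Groth.Agent.H13AlgSp.BiratNormal

set_option autoImplicit false
universe u
open CategoryTheory CategoryTheory.Limits AlgebraicGeometry Topology TopologicalSpace
open AlgSp

namespace Groth.Agent.S10438

/-- Take decent algebraic spaces X and Y over a scheme S, each with only finitely many irreducible
components in its space of points, and f : X ⟶ Y integral as well as birational. If Y is normal
while X is reduced, f is an isomorphism. -/
theorem result {S : Scheme.{u}} {X Y : AlgSp.Space S} (f : X ⟶ Y)
    (hX : AlgSp.IsDecent X.obj) (hY : AlgSp.IsDecent Y.obj)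
    (hXf : (irreducibleComponents (AlgSp.Points X.obj)).Finite)
    (hYf : (irreducibleComponents (AlgSp.Points Y.obj)).Finite)
    (hi : AlgSp.IsIntegralMor f.hom) (hf : W4stk3decentspacesp2.IsBirational f.hom)
    (hYn : AlgSp.EtaleLocally (fun T => ∀ t : ↥T, IsDomain ↥(T.presheaf.stalk t) ∧
      IsIntegrallyClosed ↥(T.presheaf.stalk t)) Y.obj)
    (hXr : AlgSp.EtaleLocally (fun T => IsReduced T) X.obj) : IsIso f.hom := by
  exact H13AlgSp.Birat.isIso_of_integral_birational f hX hY hXf hYf hi hf hYn hXr

end Groth.Agent.S10438
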