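import Groth.Statements.S1044
import Groth.Agent.H16Derived.Thomason.KoszulOrth

set_option autoImplicit false
universe u
open CategoryTheory CategoryTheory.Limits AlgebraicGeometry
attribute [local instance] HasDerivedCategory.standard
open Perf

namespace Groth.Agent.S1044

open Groth.Agent.H16Derived Groth.Agent.H16Derived.Thomason CategoryTheory.Pretriangulated Groth.Agent.H16Derived.KFlat Groth.Agent.H16Derived.KFlat.Stalk

/-- Let A be a ring, f₁, …, f_r elements of A, X = Spec A, U ⊆ X the open complement of V(f₁, …, f_r)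
with inclusion j, and K the perfect object of D(O_X) associated with the Koszul complex on f₁, …,
f_r. Assuming Rj_* exists (and tilde is recorded as exact), for E ∈ D(O_X) with quasi-coherent
cohomology sheaves the following are equivalent: E is of the form Rj_*M for some M ∈ D_QCoh(O_U)
(equivalently E = Rj_*(E|_U)); every morphism K[n] ⟶ E, n ∈ ℤ, is zero. -/
theorem result (A : Type u) [CommRing A] (fs : List A) [PreservesFiniteLimits (tilde.functor (CommRingCat.of A))]
    [DCoh.HasRpush (LocCoh.puncturedOpen A (Ideal.span {a | a ∈ fs})).ι]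
    (E : DCoh.D (Spec (CommRingCat.of A))) (hE : DCoh.IsQCohD E) :
    (∃ M : DCoh.D (LocCoh.puncturedOpen A (Ideal.span {a | a ∈ fs}) : Scheme.{u}), DCoh.IsQCohD M ∧
        Nonempty (E ≅ (DCoh.Rpush (LocCoh.puncturedOpen A (Ideal.span {a | a ∈ fs})).ι).obj M)) ↔
    ∀ (n : ℤ) (φ : ((DCoh.tildeD (CommRingCat.of A)).obj (DerivedCategory.Q.obj (Koszul.koszul A fs)))⟦n⟧ ⟶ E), φ = 0 := by
  let U := punct A fs
  haveI := quasiCompact_ι U (isCompact_punct A fs)
  constructor
  · rintro ⟨M, -, ⟨e⟩⟩ n φ
    have h := (forall_shift_neg_iff (kosD A fs) E (-n)).2 fun ψ =>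
      (cancel_mono (e.hom⟦-n⟧')).1 ((kosD_rpush_zero M (-n) _).trans zero_comp.symm)
    rw [neg_neg] at h
    exact h φ
  · intro h
    obtain ⟨C, γ, w, hT, hC⟩ := exists_supported (fs := fs) hE
    refine ⟨(rd U.ι).obj E, QCohD.isQCohD_rd _ hE, ⟨?_⟩⟩
    haveI : IsIso ((restrictRpushAdj U.ι).unit.app E) :=
      (Triangle.isZero₁_iff_isIso₂ _ hT).1 (MVPush.isZero_of_hd C fun i => hC i fun φ =>
        (forall_shift_neg_iff (kosD A fs) E i).1 (fun ψ => h (-i) ψ) φ)
    exact asIso ((restrictRpushAdj U.ι).unit.app E)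

end Groth.Agent.S1044
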