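import Groth.Statements.S10441
import Groth.Agent.H13AlgSp.ElemBranches
import Groth.Agent.H9Hens.BranchUnibranch

set_option autoImplicit false
universe u
open CategoryTheory CategoryTheory.Limits AlgebraicGeometry Topology TopologicalSpace
open AlgSp

namespace Groth.Agent.S10441

/-- For a decent algebraic space X over a scheme S and x ∈ |X|, fix an elementary etale neighbourhood
(U₀, u₀) of (X, x) and a henselization R of O_{U₀, u₀} (a model of the henselian local ring at x).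
The following are equivalent: (1) O_{U, u} has exactly one minimal prime whenever (U, u) is an
elementary etale neighbourhood of (X, x); (2) a unique irreducible component of U passes through u
for all such (U, u); (3) O_{U, u} is unibranch for all such (U, u); (4) R has exactly one minimal
prime. -/
theorem result {S : Scheme.{u}} (X : AlgSp.Space S)
    (hX : AlgSp.IsDecent X.obj) (x : AlgSp.Points X.obj) {U₀ : Over S}
    (a₀ : (AlgSp.yon S).obj U₀ ⟶ X.obj) (u₀ : ↥U₀.left) (h₀ : AlgSp.IsElemEtaleNbhd a₀ u₀ x)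
    (R : Type u) [CommRing R] [IsLocalRing R] [Algebra ↥(U₀.left.presheaf.stalk u₀) R]
    [IsLocalHom (algebraMap ↥(U₀.left.presheaf.stalk u₀) R)] [Hensel.IsHenselization ↥(U₀.left.presheaf.stalk u₀) R] :
    ((∀ (U : Over S) (a : (AlgSp.yon S).obj U ⟶ X.obj) (u : ↥U.left), AlgSp.IsElemEtaleNbhd a u x →
        CAlgX.HasUniqueMinimalPrime ↥(U.left.presheaf.stalk u)) ↔
      (∀ (U : Over S) (a : (AlgSp.yon S).obj U ⟶ X.obj) (u : ↥U.left), AlgSp.IsElemEtaleNbhd a u x →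
        {Z : Set ↥U.left | Z ∈ irreducibleComponents ↥U.left ∧ u ∈ Z}.encard = 1)) ∧
    ((∀ (U : Over S) (a : (AlgSp.yon S).obj U ⟶ X.obj) (u : ↥U.left), AlgSp.IsElemEtaleNbhd a u x →
        {Z : Set ↥U.left | Z ∈ irreducibleComponents ↥U.left ∧ u ∈ Z}.encard = 1) ↔
      (∀ (U : Over S) (a : (AlgSp.yon S).obj U ⟶ X.obj) (u : ↥U.left), AlgSp.IsElemEtaleNbhd a u x →
        CAlg2.IsUnibranch ↥(U.left.presheaf.stalk u))) ∧
    ((∀ (U : Over S) (a : (AlgSp.yon S).obj U ⟶ X.obj) (u : ↥U.left), AlgSp.IsElemEtaleNbhd a u x →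
        CAlg2.IsUnibranch ↥(U.left.presheaf.stalk u)) ↔ CAlgX.HasUniqueMinimalPrime R) := by

  have hN : ∀ {U V : Over S} {a : (AlgSp.yon S).obj U ⟶ X.obj} {b : (AlgSp.yon S).obj V ⟶ X.obj} {u : ↥U.left}
      {v : ↥V.left}, AlgSp.IsElemEtaleNbhd a u x → AlgSp.IsElemEtaleNbhd b v x →
      Brnch.numBranchesAt U.left u = Brnch.numBranchesAt V.left v :=
    fun h h' => Groth.Agent.H13AlgSp.ElemBranches.numBranchesAt_eq hX h h'
  have hc := fun (U : Over S) (u : ↥U.left) => Groth.Agent.H9Hens.BranchNbhd.encard_components U.left u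
  have h1 : ∀ (U : Over S) (u : ↥U.left), CAlgX.HasUniqueMinimalPrime ↥(U.left.presheaf.stalk u) ↔
      {Z : Set ↥U.left | Z ∈ irreducibleComponents ↥U.left ∧ u ∈ Z}.encard = 1 := fun U u => by
    rw [Groth.Agent.H13AlgSp.ElemBranches.hasUniqueMinimalPrime_iff, hc]
  have h3 : ∀ (U : Over S) (u : ↥U.left), CAlg2.IsUnibranch ↥(U.left.presheaf.stalk u) ↔
      Brnch.numBranchesAt U.left u = 1 := fun U u =>
    (Groth.Agent.H9Hens.numBranches_eq_one_iff (A := ↥(U.left.presheaf.stalk u))).symm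
  have hR : CAlgX.HasUniqueMinimalPrime R ↔ Brnch.numBranchesAt U₀.left u₀ = 1 := by
    rw [Groth.Agent.H13AlgSp.ElemBranches.hasUniqueMinimalPrime_iff,
      Groth.Agent.H13AlgSp.ElemBranches.numBranchesAt_eq_encard u₀ R]
  have h2 : (∀ (U : Over S) (a : (AlgSp.yon S).obj U ⟶ X.obj) (u : ↥U.left), AlgSp.IsElemEtaleNbhd a u x →
      {Z : Set ↥U.left | Z ∈ irreducibleComponents ↥U.left ∧ u ∈ Z}.encard = 1) ↔
      Brnch.numBranchesAt U₀.left u₀ = 1 := by
    refine Iff.trans ⟨fun h => ⟨fun U a u hu => by rw [h U a u hu]; rfl, U₀, a₀, u₀, h₀, by rw [h U₀ a₀ u₀ h₀]; rfl⟩,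
      fun h U a u hu => le_antisymm (by simpa using h.1 U a u hu)
        (Groth.Agent.H9Hens.BranchNbhd.one_le_encard_components U.left u)⟩
      (Groth.Agent.H13AlgSp.ElemBranches.bounded_attained_iff hX 1 h₀)
  refine ⟨?_, ?_, ?_⟩
  · exact ⟨fun h U a u hu => (h1 U u).1 (h U a u hu), fun h U a u hu => (h1 U u).2 (h U a u hu)⟩
  · rw [h2]
    exact ⟨fun h U a u hu => (h3 U u).2 (by rw [hN hu h₀, h]), fun h => (h3 U₀ u₀).1 (h U₀ a₀ u₀ h₀)⟩
  · rw [hR]
    exact ⟨fun h => (h3 U₀ u₀).1 (h U₀ a₀ u₀ h₀), fun h U a u hu => (h3 U u).2 (by rw [hN hu h₀, h])⟩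

end Groth.Agent.S10441
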