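import Groth.Statements.S10443
import Groth.Agent.H12AlgSp.DecentTop
import Groth.Agent.S9684

set_option autoImplicit false
universe u
open CategoryTheory CategoryTheory.Limits AlgebraicGeometry Topology TopologicalSpace
open AlgSp

namespace Groth.Agent.S10443

/-- Let S be a locally Noetherian, universally catenary scheme carrying a dimension function δ, and X a
decent algebraic space over S that is locally of finite type over S. Define δ_X : |X| → ℤ by δ_X(x)
= δ(s) + (transcendence degree of x over s), s the image of x in S; concretely, for an etale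
surjective chart U ⟶ X with U locally of finite type over S, the composite of δ_X with |U| → |X| is
the function induced from δ along U ⟶ S. Then δ_X is a dimension function: strictly decreasing along
nontrivial specializations, and dropping by one along immediate ones. -/
theorem result {S : Scheme.{u}} (δ : ↥S → ℤ) (hS : Cyc.IsSetup S δ)
    (X : AlgSp.Space S) (hX : AlgSp.IsDecent X.obj) {U : Over S} (a : (AlgSp.yon S).obj U ⟶ X.obj)
    (ha : AlgSp.RepWith @Etale a) (hs : AlgSp.RepWith @Surjective a) [LocallyOfFiniteType U.hom]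
    (δX : AlgSp.Points X.obj → ℤ) (hδ : Cyc.DeltaCompat U.hom (δX ∘ AlgSp.Points.ofPt a) δ) :
    ∀ x y : AlgSp.Points X.obj, x ⤳ y → x ≠ y →
      δX y < δX x ∧ ((∀ z : AlgSp.Points X.obj, x ⤳ z → z ⤳ y → z = x ∨ z = y) → δX x = δX y + 1) := by
  have hdim := Groth.Agent.S9684.result U.hom δ hS (δX ∘ AlgSp.Points.ofPt a) hδ
  have fin : ∀ z : AlgSp.Points X.obj, ∀ (V : Over S) (b : (AlgSp.yon S).obj V ⟶ X.obj), IsAffine V.left →
      AlgSp.RepWith @Etale b → (AlgSp.Points.ofPt b ⁻¹' {z}).Finite := fun z V b hV hb => by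
    obtain ⟨p, rfl, -, hqc⟩ := hX z
    exact @H12AlgSp.finite_fibre_affine _ _ p hqc _ hV _ hb
  intro x y hxy hne
  obtain ⟨u, rfl⟩ := H12AlgSp.surjective_ofPt_of_repWith le_rfl hs y
  obtain ⟨v, hv, rfl⟩ := H12AlgSp.exists_lift_generization (fin x) ha u hxy
  obtain ⟨h1, h2⟩ := hdim v u hv (fun e => hne (congrArg _ e))
  refine ⟨h1, fun hz => h2 fun z hz₁ hz₂ => ?_⟩
  rcases hz (AlgSp.Points.ofPt a z) (hz₁.map (Points.continuous_ofPt a)) (hz₂.map (Points.continuous_ofPt a)) with
    h | h
  · exact Or.inl (H12AlgSp.eq_of_specializes_of_finite (fin _) ha h rfl hz₁)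
  · exact Or.inr (H12AlgSp.eq_of_specializes_of_finite (fin _) ha rfl h hz₂).symm

end Groth.Agent.S10443
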