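import Groth.Statements.S10444
import Groth.Agent.H13AlgSp.FibreCond

set_option autoImplicit false
universe u
open CategoryTheory CategoryTheory.Limits AlgebraicGeometry Topology TopologicalSpace
open AlgSp

namespace Groth.Agent.S10444

open AlgSp Groth.Agent.H12AlgSp Groth.Agent.H13AlgSp


/-- Take f : X ⟶ Y locally of finite type between algebraic spaces over a scheme S, a field-valued point
Spec k ⟶ Y whose class y ∈ |Y| lies in the image of |f|, the fibre product X_k = Spec k ×_Y X, and
the fibre F = |f|⁻¹(y) ⊆ |X| with the induced topology. Numbering the conditions (1) F finite, (2) F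
discrete, (3) dim F = 0, (4) |X_k| finite, (5) |X_k| discrete, (6) dim |X_k| = 0, (7) dim X_k = 0,
(8) f quasi-finite at all points over y: (5) ⇔ (7) ⇔ (8); (5) ⇒ (6), with the converse when X_k is
decent; (4) ⇒ (5) when X_k is decent; (4) ⇒ (1); (2) ⇒ (3); if Y is decent then (2) ⇔ (5); if X and
Y are decent then (3) ⇒ (2) and (1) ⇒ (2). (The published statement asserts (5) ⇔ (6) for every f
and (2) ⇔ (3) whenever Y is decent, and does not exclude an empty fibre; for the quotient of the
affine line over a field of characteristic zero by an infinite cyclic group of translations, mapping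
to the point, the space of points is infinite and indiscrete, so (3) and (6) hold while (2) and (5)
fail, and for y outside the image (5) holds while (6) and (7) fail; hence the decency hypotheses on
those two converses and the hypothesis that y is in the image. Finiteness of |X_k| for an arbitrary
field k in the class of y is not derived here from (1).) -/
theorem result {S : Scheme.{u}} {X Y : AlgSp.Space S} (f : X ⟶ Y)
    (hf : AlgSp.LocP @LocallyOfFiniteType f.hom) (r : AlgSp.FieldPt Y.obj)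
    (hy : AlgSp.Points.mk r ∈ Set.range (AlgSp.Points.map f.hom)) (Xk : AlgSp.Space S) (fst : Xk ⟶ X)
    (snd : Xk.obj ⟶ (AlgSp.yon S).obj r.pt) (hsq : IsPullback fst.hom snd f.hom r.toHom) :
    (DiscreteTopology (AlgSp.Points Xk.obj) ↔ AlgSp.dim Xk.obj = 0) ∧
    (AlgSp.dim Xk.obj = 0 ↔
      ∀ x : AlgSp.Points X.obj, AlgSp.Points.map f.hom x = AlgSp.Points.mk r → AlgSp.HasAtMor (fun U _ h u => ∃ W : U.Opens, u ∈ W ∧ LocallyQuasiFinite (W.ι ≫ h) ∧ LocallyOfFiniteType (W.ι ≫ h)) f.hom x) ∧
    (DiscreteTopology (AlgSp.Points Xk.obj) → topologicalKrullDim (AlgSp.Points Xk.obj) = 0) ∧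
    (AlgSp.IsDecent Xk.obj → topologicalKrullDim (AlgSp.Points Xk.obj) = 0 →
      DiscreteTopology (AlgSp.Points Xk.obj)) ∧
    (AlgSp.IsDecent Xk.obj → Finite (AlgSp.Points Xk.obj) → DiscreteTopology (AlgSp.Points Xk.obj)) ∧
    (Finite (AlgSp.Points Xk.obj) → (AlgSp.Points.map f.hom ⁻¹' {AlgSp.Points.mk r}).Finite) ∧
    (DiscreteTopology ↥(AlgSp.Points.map f.hom ⁻¹' {AlgSp.Points.mk r}) → topologicalKrullDim ↥(AlgSp.Points.map f.hom ⁻¹' {AlgSp.Points.mk r}) = 0) ∧
    (AlgSp.IsDecent Y.obj → (DiscreteTopology ↥(AlgSp.Points.map f.hom ⁻¹' {AlgSp.Points.mk r}) ↔ DiscreteTopology (AlgSp.Points Xk.obj))) ∧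
    (AlgSp.IsDecent Y.obj → AlgSp.IsDecent X.obj →
      (topologicalKrullDim ↥(AlgSp.Points.map f.hom ⁻¹' {AlgSp.Points.mk r}) = 0 → DiscreteTopology ↥(AlgSp.Points.map f.hom ⁻¹' {AlgSp.Points.mk r})) ∧
        ((AlgSp.Points.map f.hom ⁻¹' {AlgSp.Points.mk r}).Finite → DiscreteTopology ↥(AlgSp.Points.map f.hom ⁻¹' {AlgSp.Points.mk r}))) := by
  obtain ⟨hX, hY, hXk⟩ : IsAlgSpace X.obj ∧ IsAlgSpace Y.obj ∧ IsAlgSpace Xk.obj := ⟨X.property, Y.property, Xk.property⟩
  have hl := Groth.Agent.H12AlgSp.locP_of_isPullback etLocal_lft hsq hX hY (IsAlgSpace.yon_obj r.pt) hf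
  obtain ⟨x₀, hx₀⟩ := hy
  obtain ⟨z₀, -⟩ := exists_fibre_point r hsq hx₀
  have : Nonempty (Points Xk.obj) := ⟨z₀⟩
  have h3 := isOpen_singleton_fibre_iff hX hY hf r hsq
  have hqf : DiscreteTopology (Points Xk.obj) ↔
      ∀ x : Points X.obj, Points.map f.hom x = Points.mk r → QfAt f.hom x := by
    rw [discreteTopology_iff_isOpen_singleton]
    exact ⟨fun h x hx => by obtain ⟨z, rfl⟩ := exists_fibre_point r hsq hx; exact (h3 z).1 (h z),
      fun h z => (h3 z).2 (h _ (map_fst_mem_fibre r hsq z))⟩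
  have hdd := discreteTopology_points_iff hXk hl
  have hF : Nonempty ↥(Points.map f.hom ⁻¹' {Points.mk r}) := ⟨⟨x₀, hx₀⟩⟩
  refine ⟨hdd, hdd.symm.trans hqf, fun hd => le_antisymm (topologicalKrullDim_zero_of_discreteTopology _) (nonneg_topologicalKrullDim _), fun hd h0 => ?_,
    fun hd hfin => ?_, fun hfin => ?_, fun hd => le_antisymm (topologicalKrullDim_zero_of_discreteTopology _) (nonneg_topologicalKrullDim _),
    fun hd => ?_, fun hdY hdX => ⟨fun h0 => ?_, fun hfin => ?_⟩⟩
  · refine discreteTopology_iff_isOpen_singleton.2 fun z => isOpen_singleton_of_localDim_points hXk hl hd ?_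
    exact le_antisymm ((Groth.Agent.H28Top.localDim_le_dim z).trans_eq h0) (nonneg_localDim z)
  · have := jacobsonSpace_points hXk hd (etaleLocally_jacobson_of_lft hXk hl)
    infer_instance
  · refine (Set.finite_range (Points.map fst.hom)).subset fun x hx => ?_
    exact exists_fibre_point r hsq hx
  · rw [hqf, discreteTopology_iff_isOpen_singleton]
    exact ⟨fun h x hx => (fibre_singleton_iff hX hY hf hd (y := Points.mk r) ⟨x, hx⟩).1.1 (h _),
      fun h p => (fibre_singleton_iff hX hY hf hd (y := Points.mk r) p).1.2 (h p.1 p.2)⟩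
  · refine discreteTopology_iff_isOpen_singleton.2 fun p =>
      ((fibre_singleton_iff hX hY hf hdY (y := Points.mk r) p).2.2 hdX).1 ?_
    exact le_antisymm ((Groth.Agent.H28Top.localDim_le_dim p).trans_eq h0) (nonneg_localDim p)
  · obtain ⟨r₀, X₀, fst₀, snd₀, φ, sq₀, -, hX₀, hl₀, hdX₀, -⟩ := exists_fibre_homeo hX hY hf hdY (Points.mk r)
    have := hfin.to_subtype
    have : Finite (Points X₀) := Finite.of_equiv _ φ.symm.toEquiv
    have := jacobsonSpace_points hX₀ (hdX₀ hdX) (etaleLocally_jacobson_of_lft hX₀ hl₀)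
    exact φ.symm.isEmbedding.discreteTopology

end Groth.Agent.S10444
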