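import Groth.Statements.S10445
import Groth.Agent.H13AlgSp.FibreCond

set_option autoImplicit false
universe u
open CategoryTheory CategoryTheory.Limits AlgebraicGeometry Topology TopologicalSpace
open AlgSp

namespace Groth.Agent.S10445

open AlgSp Groth.Agent.H12AlgSp Groth.Agent.H13AlgSp


/-- Take f : X ⟶ Y locally of finite type between algebraic spaces over a scheme S, a field-valued point
Spec k ⟶ Y with class y, the fibre product X_k = Spec k ×_Y X, x ∈ |X| over y, x̃ ∈ |X_k| over x,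
and F = |f|⁻¹(y) with the induced topology. Numbering the conditions (1) dim_x F = 0, (2) x isolated
in F, (3) x closed in F with no proper generization in F, (4) dim_{x̃} |X_k| = 0, (5) x̃ isolated in
|X_k|, (6) x̃ closed in |X_k| with no proper generization, (7) dim_{x̃}(X_k) = 0 (local dimension of
an etale chart), (8) f quasi-finite at x: (5) ⇔ (6) ⇔ (7) ⇔ (8); (4) ⇔ (5) when X_k is decent; (2) ⇔
(5) and (3) ⇔ (6) when Y is decent; (1) ⇔ (2) when X and Y are decent. -/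
theorem result {S : Scheme.{u}} {X Y : AlgSp.Space S} (f : X ⟶ Y)
    (hf : AlgSp.LocP @LocallyOfFiniteType f.hom) (r : AlgSp.FieldPt Y.obj) (Xk : AlgSp.Space S) (fst : Xk ⟶ X)
    (snd : Xk.obj ⟶ (AlgSp.yon S).obj r.pt) (hsq : IsPullback fst.hom snd f.hom r.toHom)
    (x : AlgSp.Points X.obj) (hx : x ∈ (AlgSp.Points.map f.hom ⁻¹' {AlgSp.Points.mk r})) (xt : AlgSp.Points Xk.obj)
    (hxt : AlgSp.Points.map fst.hom xt = x) :
    ((IsOpen ({xt} : Set (AlgSp.Points Xk.obj)) ↔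
      IsClosed ({xt} : Set (AlgSp.Points Xk.obj)) ∧ ∀ x' : AlgSp.Points Xk.obj, x' ⤳ xt → x' = xt) ∧
    (IsOpen ({xt} : Set (AlgSp.Points Xk.obj)) ↔ AlgSp.HasAt (fun U u => FlatMor.localDim ↥U u = 0) Xk.obj xt) ∧
    (AlgSp.HasAt (fun U u => FlatMor.localDim ↥U u = 0) Xk.obj xt ↔ AlgSp.HasAtMor (fun U _ h u => ∃ W : U.Opens, u ∈ W ∧ LocallyQuasiFinite (W.ι ≫ h) ∧ LocallyOfFiniteType (W.ι ≫ h)) f.hom x) ∧
    (AlgSp.IsDecent Xk.obj →
      (FlatMor.localDim (AlgSp.Points Xk.obj) xt = 0 ↔ IsOpen ({xt} : Set (AlgSp.Points Xk.obj)))) ∧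
    (AlgSp.IsDecent Y.obj →
      (IsOpen ({(⟨x, hx⟩ : ↥(AlgSp.Points.map f.hom ⁻¹' {AlgSp.Points.mk r}))} : Set ↥(AlgSp.Points.map f.hom ⁻¹' {AlgSp.Points.mk r})) ↔ IsOpen ({xt} : Set (AlgSp.Points Xk.obj))) ∧
      ((IsClosed ({(⟨x, hx⟩ : ↥(AlgSp.Points.map f.hom ⁻¹' {AlgSp.Points.mk r}))} : Set ↥(AlgSp.Points.map f.hom ⁻¹' {AlgSp.Points.mk r})) ∧ ∀ x' : ↥(AlgSp.Points.map f.hom ⁻¹' {AlgSp.Points.mk r}), x' ⤳ (⟨x, hx⟩ : ↥(AlgSp.Points.map f.hom ⁻¹' {AlgSp.Points.mk r})) → x' = (⟨x, hx⟩ : ↥(AlgSp.Points.map f.hom ⁻¹' {AlgSp.Points.mk r}))) ↔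
        IsClosed ({xt} : Set (AlgSp.Points Xk.obj)) ∧ ∀ x' : AlgSp.Points Xk.obj, x' ⤳ xt → x' = xt)) ∧
    (AlgSp.IsDecent Y.obj → AlgSp.IsDecent X.obj →
      (FlatMor.localDim ↥(AlgSp.Points.map f.hom ⁻¹' {AlgSp.Points.mk r}) (⟨x, hx⟩ : ↥(AlgSp.Points.map f.hom ⁻¹' {AlgSp.Points.mk r})) = 0 ↔ IsOpen ({(⟨x, hx⟩ : ↥(AlgSp.Points.map f.hom ⁻¹' {AlgSp.Points.mk r}))} : Set ↥(AlgSp.Points.map f.hom ⁻¹' {AlgSp.Points.mk r}))))) := by
  obtain ⟨hX, hY, hXk⟩ : IsAlgSpace X.obj ∧ IsAlgSpace Y.obj ∧ IsAlgSpace Xk.obj := ⟨X.property, Y.property, Xk.property⟩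
  have hl := Groth.Agent.H12AlgSp.locP_of_isPullback etLocal_lft hsq hX hY (IsAlgSpace.yon_obj r.pt) hf
  have h2 := isOpen_singleton_iff_hasAt hXk hl xt
  have h3 := isOpen_singleton_fibre_iff hX hY hf r hsq xt
  rw [hxt] at h3
  refine ⟨isOpen_singleton_iff_closed_maximal hXk hl xt, h2, h2.symm.trans h3,
    fun hd => ⟨isOpen_singleton_of_localDim_points hXk hl hd, localDim_eq_zero_of_isOpen⟩,
    fun hd => ?_, fun hdY hdX => ?_⟩
  · obtain ⟨e1, e2, -⟩ := fibre_singleton_iff hX hY hf hd (y := Points.mk r) ⟨x, hx⟩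
    exact ⟨e1.trans h3.symm, e2.trans (h3.symm.trans (isOpen_singleton_iff_closed_maximal hXk hl xt))⟩
  · exact (fibre_singleton_iff hX hY hf hdY (y := Points.mk r) ⟨x, hx⟩).2.2 hdX

end Groth.Agent.S10445
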