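import Groth.Statements.S10446
import Groth.Agent.H13AlgSp.FiniteFibreCodimZero
-- import your own Groth.Agent.* helpers here

set_option autoImplicit false
universe u
open CategoryTheory CategoryTheory.Limits AlgebraicGeometry Topology TopologicalSpace
open AlgSp Groth.Agent.H13AlgSp

namespace Groth.Agent.S10446

/-- (1) ⇔ (3): let S be a scheme with quasi-separated underlying space, f : X ⟶ Y a quasi-separated
morphism of algebraic spaces over S that is locally of finite type, with Y quasi-separated over S,
and y ∈ |Y| a point of codimension 0. Then |f|⁻¹(y) is finite if and only if f restricts to a finite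
morphism X' ⟶ Y' between an open subspace X' of X containing the whole fibre |f|⁻¹(y) and an open
subspace Y' of Y through y. (The published statement assumes Y quasi-separated in the absolute
sense; this row assumes S has quasi-separated underlying space and Y quasi-separated over S. Its
condition on the finiteness of |Spec k ×_Y X| is not part of this row.) -/
theorem result {S : Scheme.{u}} [QuasiSeparatedSpace ↥S] {X Y : AlgSp.Space S}
    (f : X ⟶ Y) (hqs : AlgSp.IsQuasiSeparatedMor f.hom) (hft : AlgSp.LocP @LocallyOfFiniteType f.hom)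
    (hY : AlgSp.IsQuasiSeparatedSp Y.obj) (y : AlgSp.Points Y.obj)
    (hy : AlgSp.HasAt (fun U u => ringKrullDim ↥(U.presheaf.stalk u) = 0) Y.obj y) :
    (AlgSp.Points.map f.hom ⁻¹' {y}).Finite ↔
      ∃ (X' Y' : AlgSp.Space S) (i : X' ⟶ X) (j : Y' ⟶ Y) (f' : X' ⟶ Y'), AlgSp.RepWith @IsOpenImmersion i.hom ∧
        AlgSp.RepWith @IsOpenImmersion j.hom ∧ f' ≫ j = i ≫ f ∧ y ∈ Set.range (AlgSp.Points.map j.hom) ∧
          AlgSp.Points.map f.hom ⁻¹' {y} ⊆ Set.range (AlgSp.Points.map i.hom) ∧ AlgSp.IsFiniteMor f'.hom := by
  constructor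
  · intro hfin
    obtain ⟨X', Y', hX', hY', i, j, f', hi, hj, w, hy', hsub, hf'⟩ :=
      FiniteFibreCodimZero.exists_finite_restriction X.property Y.property hqs hft hY hy hfin
    exact ⟨⟨X', hX'⟩, ⟨Y', hY'⟩, ObjectProperty.homMk i, ObjectProperty.homMk j, ObjectProperty.homMk f',
      hi, hj, ObjectProperty.hom_ext _ w, hy', hsub, hf'⟩
  · rintro ⟨X', Y', i, j, f', -, hj, w, hy', hsub, hf'⟩
    exact FiniteFibreCodimZero.finite_fibre_of_restriction X'.property Y'.property hj
      (congrArg (fun g => g.hom) w) hy' hsub hf'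

end Groth.Agent.S10446
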