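import Groth.Statements.S10447
import Groth.Agent.H13AlgSp.CatenarySpace

set_option autoImplicit false
universe u
open CategoryTheory CategoryTheory.Limits AlgebraicGeometry Topology TopologicalSpace
open AlgSp

namespace Groth.Agent.S10447

/-- Let S be a locally Noetherian scheme whose local rings are universally catenary, and X a decent
algebraic space over S with locally finite type structure morphism X ⟶ S. Then the space of points
|X| is catenary (bounded chains of irreducible closed subsets between any two, and all saturated
chains between the same two of equal length). -/
theorem result {S : Scheme.{u}} [IsLocallyNoetherian S]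
    (hS : ∀ s : ↥S, CAlg.IsUniversallyCatenary ↥(S.presheaf.stalk s)) (X : AlgSp.Space S)
    (hX : AlgSp.IsDecent X.obj) (p : X.obj ⟶ (AlgSp.yon S).obj (Over.mk (𝟙 S)))
    (hp : AlgSp.LocP @LocallyOfFiniteType p) :
    W4stk3decentspacesp2.IsCatenarySpace (AlgSp.Points X.obj) := by
  exact H13AlgSp.isCatenarySpace_of_isDecent hS X.property hX p hp

end Groth.Agent.S10447
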