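import Groth.Statements.S1045
import Groth.Agent.H16Derived.Thomason.KoszulFactor

set_option autoImplicit false
universe u
open CategoryTheory CategoryTheory.Limits AlgebraicGeometry
attribute [local instance] HasDerivedCategory.standard
open Perf

namespace Groth.Agent.S1045

open Groth.Agent.H16Derived Groth.Agent.H16Derived.Thomason CategoryTheory.Pretriangulated Groth.Agent.H16Derived.KFlat Groth.Agent.H16Derived.KFlat.Stalk

/-- Let A be a ring, f₁, …, f_r elements of A, X = Spec A and U ⊆ X the open complement of V(f₁, …,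
f_r). Let E ∈ D(O_X) have quasi-coherent cohomology sheaves with Hⁱ(E)|_U = 0 for -r < i ≤ 0. Then
(tilde being recorded as exact) every morphism s : O_X ⟶ E in D(O_X) factors as O_X ⟶ K_e ⟶ E for
some e ≥ 0, where K_e is the object of D(O_X) associated with the Koszul complex on f₁^e, …, f_r^e. -/
theorem result (A : Type u) [CommRing A] (fs : List A) [PreservesFiniteLimits (tilde.functor (CommRingCat.of A))]
    (E : DCoh.D (Spec (CommRingCat.of A))) (hE : DCoh.IsQCohD E)
    (hU : ∀ i : ℤ, -(fs.length : ℤ) < i → i ≤ 0 → IsZero ((DCoh.HD E i).restrict (LocCoh.puncturedOpen A (Ideal.span {a | a ∈ fs})).ι))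
    (s : DCoh.inD (Spec (CommRingCat.of A)) (Coh.structureModule (Spec (CommRingCat.of A))) ⟶ E) :
    ∃ (e : ℕ) (ψ : (DCoh.tildeD (CommRingCat.of A)).obj (DerivedCategory.Q.obj (Koszul.koszul A (fs.map (fun a => a ^ e)))) ⟶ E)
      (t : DCoh.inD (Spec (CommRingCat.of A)) (Coh.structureModule (Spec (CommRingCat.of A))) ⟶
        (DCoh.tildeD (CommRingCat.of A)).obj (DerivedCategory.Q.obj (Koszul.koszul A (fs.map (fun a => a ^ e))))),
      t ≫ ψ = s := by
  haveI : PreservesFiniteColimits (tilde.functor (CommRingCat.of A)) :=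
    @PreservesColimitsOfSize.preservesFiniteColimits.{0, 0} _ _ _ _ _
      ((tilde.adjunction (R := CommRingCat.of A)).leftAdjoint_preservesColimits)
  obtain ⟨M, ⟨e⟩⟩ := QCohD.exists_tildeD_iso (R := CommRingCat.of A) hE
  change Dual.D A at M
  let F := DCoh.tildeD (CommRingCat.of A)
  haveI := (QCohD.full_faithful (CommRingCat.of A)).1
  obtain ⟨x, hx⟩ := F.map_surjective ((structureIso A).hom ≫ s ≫ e.inv)
  have hW : ∀ g ∈ fs, WTors g (fs.length - 1) M := by
    intro g hg i h1 h2 y
    have hne : 0 < fs.length := List.length_pos_of_mem hg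
    refine exists_pow_smul_eq_zero_of_support {a | a ∈ fs} M i ?_ g hg y
    rw [← compl_punct, MVPush.support_iso ((DerivedCategory.homologyFunctor _ i).mapIso e)]
    intro z hz hzU
    have hres := hU i (by omega) h2
    have hz' : (⟨z, hzU⟩ : (punct A fs : Scheme.{u})) ∈
        CohB1.support ((Scheme.Modules.restrictFunctor (punct A fs).ι).obj (DCoh.HD E i)) :=
      (MVPush.mem_support_restrict (punct A fs) _ _).2 hz
    rw [support_eq_empty_of_isZero hres] at hz'
    exact hz'
  obtain ⟨n, ψ, hψ⟩ := exists_factor_pow fs M hW x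
  refine ⟨n, F.map ψ ≫ e.hom, (structureIso A).inv ≫ F.map (kosι _), ?_⟩
  simp only [Category.assoc]
  erw [← F.map_comp_assoc, hψ, hx]
  simp

end Groth.Agent.S1045
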