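import Groth.Statements.S10450
import Groth.Agent.H12AlgSp.LocQSScheme
import Groth.Agent.H8Props.FlatDimOneBase
import Groth.Agent.S9795
import Groth.Agent.S9797

set_option autoImplicit false
universe u
open CategoryTheory CategoryTheory.Limits AlgebraicGeometry Topology TopologicalSpace
open AlgSp

namespace Groth.Agent.S10450

set_option backward.isDefEq.respectTransparency false

/-- Let X be a quasi-separated algebraic space of dimension 0 over a quasi-separated scheme S. Then X is
a separated scheme and every quasi-compact open of X is affine. (The published statement allows any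
base scheme S and takes X quasi-separated in the absolute sense; this row asks S to be
quasi-separated and X quasi-separated over S, which together imply absolute quasi-separatedness.) -/
theorem result {S : Scheme.{u}} [QuasiSeparatedSpace S]
    (X : AlgSp.Space S) (hqs : AlgSp.IsQuasiSeparatedSp X.obj) (hd : AlgSp.dim X.obj = 0) :
    ∃ (U : Over S) (_ : (AlgSp.yon S).obj U ≅ X.obj), U.left.IsSeparated ∧
      ∀ V : U.left.Opens, IsCompact (V : Set ↥U.left) → IsAffineOpen V := by
  obtain ⟨U₀, a, ha, has⟩ := X.property.atlas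
  have hdim : ∀ (V : Over S) (b : (AlgSp.yon S).obj V ⟶ X.obj), AlgSp.RepWith @Etale b →
      topologicalKrullDim ↥V.left ≤ 0 := fun V b hb => by
    rw [← hd]
    exact le_iSup_of_le V (le_iSup_of_le b (le_iSup_of_le hb le_rfl))
  have hcod : ∀ u : ↥U₀.left, ∃ (W : Set (AlgSp.Points X.obj)) (Y : Over S)
      (μ : (AlgSp.yon S).obj Y ⟶ H12AlgSp.openSub W), IsIso μ ∧ IsOpen W ∧ AlgSp.Points.ofPt a u ∈ W :=
    fun u => H12AlgSp.exists_open_scheme_of_codimZero' X.property hqs ⟨U₀, a, u, ha, rfl,
      le_antisymm ((H8Props.FlatDimOneBase.ringKrullDim_stalk_le _ u).trans (hdim U₀ a ha))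
        ringKrullDim_nonneg_of_nontrivial⟩
  choose W Y μ hμ hW hmem using hcod
  have hj : ∀ u, AlgSp.RepWith @IsOpenImmersion (μ u ≫ H12AlgSp.openSubι (W u)) := fun u =>
    have := hμ u
    H12AlgSp.repWith_comp (H12AlgSp.repWith_of_isIso _) (H12AlgSp.repWith_openSubι (hW u))
  obtain ⟨U, e, he⟩ := H12AlgSp.exists_iso_of_openCover Y (fun u => μ u ≫ H12AlgSp.openSubι (W u)) hj fun T y t => by
    obtain ⟨u, hu⟩ := H12AlgSp.surjective_ofPt_of_repWith le_rfl has (AlgSp.Points.ofPt y t)
    obtain ⟨z, hz⟩ := ((H12AlgSp.range_openSubι X.property _).ge (hu ▸ hmem u))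
    have := hμ u
    exact ⟨u, AlgSp.Points.map (inv (μ u)) z, by rw [← AlgSp.Points.map_comp, IsIso.inv_hom_id_assoc, hz]⟩
  refine ⟨U, asIso e, ?_⟩
  have hUd := hdim U e (H12AlgSp.repWith_of_isIso e)
  have : QuasiSeparatedSpace U.left := by
    have h₁ : AlgSp.RepWith @QuasiCompact (Limits.diag ((AlgSp.yon S).obj U)) := by
      have h₂ : Limits.diag ((AlgSp.yon S).obj U) = e ≫ Limits.diag X.obj ≫ prod.map (inv e) (inv e) := by
        simp
      rw [h₂]
      exact H12AlgSp.repWith_comp (H12AlgSp.repWith_of_isIso _)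
        (H12AlgSp.repWith_comp hqs (H12AlgSp.repWith_of_isIso _))
    have : QuasiSeparated U.hom := ⟨(AlgSp.repWith_diag_yon_iff _ U).1 h₁⟩
    exact quasiSeparatedSpace_of_quasiSeparated U.hom
  have := Groth.Agent.S9795.result U.left hUd
  exact ⟨this, fun V hV => Groth.Agent.S9797.result U.left hUd V hV⟩

end Groth.Agent.S10450
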