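import Groth.Statements.S10451
import Groth.Agent.S10450
import Groth.Agent.H12AlgSp.SepAbsolute

set_option autoImplicit false
universe u
open CategoryTheory CategoryTheory.Limits AlgebraicGeometry Topology TopologicalSpace
open AlgSp

namespace Groth.Agent.S10451

set_option backward.isDefEq.respectTransparency false

/-- Let k be a field and X an algebraic space locally of finite type over k with dim X = 0. Then X is a
separated scheme and every quasi-compact open of X is affine. -/
theorem result (k : Type u) [Field k]
    (X : AlgSp.Space (Spec (CommRingCat.of k))) (p : X.obj ⟶ (AlgSp.yon (Spec (CommRingCat.of k))).obj (Over.mk (𝟙 _)))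
    (hp : AlgSp.LocP @LocallyOfFiniteType p) (hd : AlgSp.dim X.obj = 0) :
    ∃ (U : Over (Spec (CommRingCat.of k))) (_ : (AlgSp.yon (Spec (CommRingCat.of k))).obj U ≅ X.obj), U.left.IsSeparated ∧
      ∀ V : U.left.Opens, IsCompact (V : Set ↥U.left) → IsAffineOpen V := by
  classical
  obtain ⟨U, a, ha, has⟩ := X.property.atlas
  obtain ⟨R, t, s', sq⟩ := X.property.representable_from_yon a a
  obtain ⟨s, rfl⟩ := (AlgSp.yon _).map_surjective s'
  have hse : Etale s.left := ha.2 a _ s sq.flip
  have : LocallyOfFiniteType U.hom := by
    obtain ⟨h, hh⟩ := (AlgSp.yon (Spec (CommRingCat.of k))).map_surjective (a ≫ p)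
    have h2 := hp a (𝟙 _) h ha (AlgSp.repWith_id _ _) (by simp [hh])
    have h3 : h.left = U.hom := by simpa using Over.w h
    rwa [h3] at h2
  have : IsLocallyNoetherian U.left := LocallyOfFiniteType.isLocallyNoetherian U.hom
  have hU : topologicalKrullDim ↥U.left ≤ 0 := by
    rw [← hd]
    exact le_iSup_of_le U (le_iSup_of_le a (le_iSup_of_le ha le_rfl))
  have : IsLocallyArtinian U.left := IsLocallyArtinian.of_topologicalKrullDim_le_zero hU
  have : LocallyQuasiFinite U.hom :=
    locallyQuasiFinite_iff_isDiscrete_preimage_singleton.2 fun x => isDiscrete_iff_discreteTopology.2 inferInstance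
  have : LocallyQuasiFinite (U ⨯ U).hom := by
    have h1 : (U ⨯ U).hom = (prod.fst : U ⨯ U ⟶ U).left ≫ U.hom := (Over.w _).symm
    have : LocallyQuasiFinite (prod.fst : U ⨯ U ⟶ U).left := by
      rw [← Over.prodLeftIsoPullback_hom_fst]
      infer_instance
    rw [h1]
    infer_instance
  have : IsLocallyArtinian (U ⨯ U).left := IsLocallyArtinian.of_locallyQuasiFinite (U ⨯ U).hom
  have : LocallyQuasiFinite s.left := H12AlgSp.lqf_of_etale s.left
  have : IsLocallyArtinian R.left := IsLocallyArtinian.of_locallyQuasiFinite s.left
  have : Mono (prod.lift t s) := by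
    refine ⟨fun {W} f g h => (AlgSp.yon _).map_injective (sq.flip.hom_ext ?_ ?_)⟩
    · rw [← Functor.map_comp, ← Functor.map_comp]
      have := congrArg (· ≫ prod.fst) h
      simp only [Category.assoc, prod.lift_fst] at this
      rw [this]
    · rw [← Functor.map_comp, ← Functor.map_comp]
      have := congrArg (· ≫ prod.snd) h
      simp only [Category.assoc, prod.lift_snd] at this
      rw [this]
  have : Mono (prod.lift t s).left := inferInstanceAs (Mono ((Over.forget _).map (prod.lift t s)))
  have hqc : QuasiCompact (prod.lift t s).left :=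
    (quasiCompact_iff _).2 fun V _ hV => ((hV.finite (isDiscrete_iff_discreteTopology.2 inferInstance)).preimage
      (prod.lift t s).left.injective.injOn).isCompact
  exact Groth.Agent.S10450.result X (H12AlgSp.repWith_quasiCompact_of_atlas X.property.diag
    (MorphismProperty.RespectsIso.precomp _ _ _ (H12AlgSp.repWith_prodMap ha ha))
    (MorphismProperty.RespectsIso.precomp _ _ _ (H12AlgSp.repWith_prodMap has has))
    (H12AlgSp.isPullback_diag_prodHom sq.flip) hqc) hd

end Groth.Agent.S10451
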