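import Groth.Statements.S10459
import Groth.Agent.H13AlgSp.DimProper

set_option autoImplicit false
universe u
open CategoryTheory CategoryTheory.Limits AlgebraicGeometry Topology TopologicalSpace
open AlgSp

namespace Groth.Agent.S10459

/-- Let f : X ⟶ Y be a dominant morphism locally of finite type between integral algebraic spaces over a
scheme S, with Y locally Noetherian, and let r be the transcendence degree of the generic point of X
over its image (the generic point of Y). Then dim X ≤ dim Y + r. -/
theorem result {S : Scheme.{u}} {X Y : AlgSp.Space S} (f : X ⟶ Y)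
    (hY : AlgSp.IsLocNoethSp Y.obj) (hXi : AlgSp.IsIntegralSp X.obj) (hYi : AlgSp.IsIntegralSp Y.obj)
    (hd : AlgSp.IsDominantMor f.hom) (hft : AlgSp.LocP @LocallyOfFiniteType f.hom)
    (x : AlgSp.Points X.obj) (hx : IsGenericPoint x (Set.univ : Set (AlgSp.Points X.obj))) (r : ℕ)
    (hr : AlgSp.HasAtMor (fun _ _ h u => Dual3.resTrdeg h u = (r : Cardinal.{u})) f.hom x) :
    AlgSp.dim X.obj ≤ AlgSp.dim Y.obj + ((r : ℕ∞) : WithBot ℕ∞) := by
  exact Groth.Agent.H13AlgSp.DimProper.dim_le_dim_add hY hXi hft hx r hr

end Groth.Agent.S10459
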