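import Groth.Statements.S1046
import Groth.Agent.H16Derived.RGammaZ.Plus

set_option autoImplicit false
universe u
open CategoryTheory CategoryTheory.Limits AlgebraicGeometry
attribute [local instance] HasDerivedCategory.standard
open Perf

namespace Groth.Agent.S1046

open Groth.Agent.H16Derived Groth.Agent.H16Derived.KFlat.Stalk
set_option backward.isDefEq.respectTransparency false

/-- Let U ⊆ X be an open subscheme with quasi-compact inclusion and T = X ∖ U. Assuming O_X-modules have
enough injectives (true, not recorded), for every bounded below E ∈ D(O_X) with quasi-coherent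
cohomology sheaves, the derived sections with support RΓ_T(E) (right derived functor of F ↦ ker(F →
j_*(F|_U))) has quasi-coherent cohomology sheaves, all supported on T. -/
theorem result (X : Scheme.{u}) (U : X.Opens) [QuasiCompact U.ι] [EnoughInjectives X.Modules]
    (E : DerivedCategory.Plus X.Modules) (hE : DCoh.IsQCohD E.obj) :
    DCoh.IsQCohD ((DCoh.RgammaZPlus U.ι).obj E).obj ∧
    ∀ i : ℤ, CohB1.support (DCoh.HD ((DCoh.RgammaZPlus U.ι).obj E).obj i) ⊆ (U : Set X)ᶜ := by
  haveI := RGammaZ.hasRgammaZ U.ι
  obtain ⟨e⟩ := RGammaZ.nonempty_plus_iso U.ι E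
  refine ⟨QCohD.isQCohD_iso e.symm (RGammaZ.isQCohD_rgammaZ hE), fun i => ?_⟩
  rw [MVPush.support_iso ((DerivedCategory.homologyFunctor X.Modules i).mapIso e)]
  have h := (RGammaZ.isSuppD_iff U.ι _).2 (RGammaZ.isZero_rd_rgammaZ U.ι E.obj) i
  rwa [Scheme.Opens.range_ι] at h

end Groth.Agent.S1046
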