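import Groth.Statements.S10464
import Groth.Agent.H13AlgSp.TranscDescent
-- import your own Groth.Agent.* helpers here

set_option autoImplicit false
set_option backward.isDefEq.respectTransparency false
universe u
open CategoryTheory CategoryTheory.Limits AlgebraicGeometry Topology TopologicalSpace
open AlgSp

namespace Groth.Agent.S10464

/-- Let k be a field and X a quasi-separated algebraic space over k. If X_K is a scheme for a purely
transcendental extension K of k (here K is the fraction field of a polynomial ring over k in any set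
of variables; every purely transcendental extension is k-isomorphic to one of these), then X is a
scheme. -/
theorem result (k : Type u) [Field k] (X : AlgSp.Space (Spec (CommRingCat.of k)))
    (hqs : AlgSp.IsQuasiSeparatedSp X.obj) (ι : Type u)
    (h : (X.obj ⨯ (AlgSp.yon (Spec (CommRingCat.of k))).obj (Over.mk (Spec.map (CommRingCat.ofHom (algebraMap k (FractionRing (MvPolynomial ι k))))))).obj.IsRepresentable) :
    X.obj.obj.IsRepresentable := by
  classical
  let K := FractionRing (MvPolynomial ι k)
  obtain ⟨U, p, hp, hps⟩ := X.property.atlas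
  have ho := H12AlgSp.isOpenMap_ofPt_of_repWith H12AlgSp.etale_le_universallyOpen hp
  have key : ∀ u : U.left, ∃ (M : Over (Spec (CommRingCat.of k))) (i : (yon _).obj M ⟶ X.obj),
      RepWith @IsOpenImmersion i ∧ Points.ofPt p u ∈ Set.range (Points.map i) := fun u => by
    obtain ⟨B, hB, huB, -⟩ := exists_isAffineOpen_mem_and_subset (TopologicalSpace.Opens.mem_top u)
    let O : Set (AlgSp.Points X.obj) := AlgSp.Points.ofPt p '' (B : Set U.left)
    have hj := H12AlgSp.repWith_openSubι (ho _ B.2 : IsOpen O)
    have hsp : AlgSp.IsAlgSpace (H12AlgSp.openSub O) := H12AlgSp.isAlgSpace_of_representable _ hj.1 X.property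
    have := H12AlgSp.mono_of_openImmersion hj
    have hemb : IsEmbedding (AlgSp.Points.map (H12AlgSp.openSubι O)) :=
      (IsOpenEmbedding.of_continuous_injective_isOpenMap (AlgSp.Points.continuous_map _)
        (H12AlgSp.injective_map_of_mono _)
        (H12AlgSp.isOpenMap_map_of_repWith (fun _ _ k (_ : IsOpenImmersion k) => inferInstance) hj)).isEmbedding
    have : CompactSpace (AlgSp.Points (H12AlgSp.openSub O)) := isCompact_univ_iff.1 (hemb.isCompact_iff.2 (by
      rw [Set.image_univ, H12AlgSp.range_openSubι X.property]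
      exact hB.isCompact.image (AlgSp.Points.continuous_ofPt p)))
    obtain ⟨W, ⟨μ⟩⟩ := H13AlgSp.isRepresentable_of_openImmersion
      (H12AlgSp.repWith_of_isPullback (H13AlgSp.isPullback_prod_map_fst'
        (Y := (AlgSp.yon _).obj (H13AlgSp.extObj k K)) (H12AlgSp.openSubι O)).flip hj) h
    obtain ⟨z, hz⟩ := (H12AlgSp.range_openSubι X.property O).ge (⟨u, huB, rfl⟩ : Points.ofPt p u ∈ O)
    obtain ⟨M, i, hi, q, hq⟩ := H13AlgSp.exists_openImmersion_nhd_transc hsp
      (H12AlgSp.isQuasiCompactSp_of_compactSpace hsp)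
      (H12AlgSp.isQuasiSeparatedSp_of_mono hqs (H12AlgSp.openSubι O))
      (H12AlgSp.isRepresentable_iff_exists_iso.2 ⟨W, ⟨μ⟩⟩) z
    exact ⟨M, i ≫ H12AlgSp.openSubι O, H12AlgSp.repWith_comp hi hj, q, by rw [Points.map_comp, hq, hz]⟩
  choose M i hi hmem using key
  obtain ⟨N, ν, hν⟩ := H12AlgSp.exists_iso_of_openCover M i hi fun Z y t => by
    obtain ⟨v, hv⟩ := H12AlgSp.surjective_ofPt_of_repWith le_rfl hps (Points.ofPt y t)
    exact ⟨v, hv ▸ hmem v⟩
  exact H12AlgSp.isRepresentable_iff_exists_iso.2 ⟨N, ⟨asIso ν⟩⟩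

end Groth.Agent.S10464
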