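import Groth.Statements.S10467
import Groth.Agent.H13AlgSp.FieldExtConn

set_option autoImplicit false
universe u
open CategoryTheory CategoryTheory.Limits AlgebraicGeometry Topology TopologicalSpace
open AlgSp

namespace Groth.Agent.S10467

open AlgSp Topology Groth.Agent.H12AlgSp Groth.Agent.H13AlgSp


/-- Let k be a separably closed field, K an extension field of k and X an algebraic space over k. Then
X_K ⟶ X induces a bijection of connected components. -/
theorem result (k : Type u) [Field k] [IsSepClosed k]
    (X : AlgSp.Space (Spec (CommRingCat.of k))) (K : Type u) [Field K] [Algebra k K] :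
    Function.Bijective (Continuous.connectedComponentsMap
      (AlgSp.Points.continuous_map (Limits.prod.fst : (X.obj ⨯ (AlgSp.yon (Spec (CommRingCat.of k))).obj (Over.mk (Spec.map (CommRingCat.ofHom (algebraMap k K))))) ⟶ X.obj))) := by
  have hK := geomConn_ext_of_isSepClosed (k := k) K
  have hc := isCoinducing_prod_snd (Y := X.obj) (IsAlgSpace.yon_obj (extObj k K)) hK
  have hq : IsCoinducing (Points.map (prod.fst : bcSp X.obj K ⟶ X.obj)) := by
    rw [prod_fst_eq]
    exact hc.comp (prodSwap _ _).isQuotientMap.isCoinducing
  refine hq.connectedComponentsMap_bijective fun x => ?_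
  rw [prod_fst_eq, Set.preimage_comp, ← (prodSwap _ _).image_symm]
  exact (isConnected_preimage_prod_snd hK x).image _ (prodSwap _ _).symm.continuous.continuousOn

end Groth.Agent.S10467
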