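import Groth.Statements.S10469
import Groth.Agent.H13AlgSp.AlgExtDescent

set_option autoImplicit false
universe u
open CategoryTheory CategoryTheory.Limits AlgebraicGeometry Topology TopologicalSpace
open AlgSp

namespace Groth.Agent.S10469

open AlgSp Topology Groth.Agent.H12AlgSp Groth.Agent.H13AlgSp


/-- Let k be a field and X an algebraic space over k. Then X is geometrically connected if and only if
X_{k'} is connected for every finite separable field extension k' of k. -/
theorem result (k : Type u) [Field k] (X : AlgSp.Space (Spec (CommRingCat.of k))) :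
    (∀ (K : Type u) [Field K] [Algebra k K], ConnectedSpace (AlgSp.Points (X.obj ⨯ (AlgSp.yon (Spec (CommRingCat.of k))).obj (Over.mk (Spec.map (CommRingCat.ofHom (algebraMap k K))))))) ↔
      ∀ (k' : Type u) [Field k'] [Algebra k k'], Module.Finite k k' → Algebra.IsSeparable k k' →
        ConnectedSpace (AlgSp.Points (X.obj ⨯ (AlgSp.yon (Spec (CommRingCat.of k))).obj (Over.mk (Spec.map (CommRingCat.ofHom (algebraMap k k')))))) := by
  refine ⟨fun h k' _ _ _ _ => h k', fun h => ?_⟩
  have : ConnectedSpace (Points (bcSp X.obj (SeparableClosure k))) :=
    connectedSpace_bcSp_of_levels X.obj fun L hL => h L hL inferInstance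
  exact geomConn_of_sepClosed (K := SeparableClosure k)

end Groth.Agent.S10469
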