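import Groth.Statements.S10473
import Groth.Agent.H13AlgSp.GeomRedEtale

set_option autoImplicit false
universe u
open CategoryTheory CategoryTheory.Limits AlgebraicGeometry Topology TopologicalSpace
open AlgSp

namespace Groth.Agent.S10473

open AlgSp Groth.Agent.H12AlgSp Groth.Agent.H13AlgSp


/-- (2) ⇔ (3): let k be a field, X an algebraic space over k and x a point of X. Then some etale
neighbourhood (U, u) of (X, x) with U a scheme is geometrically reduced at u, if and only if every
such etale neighbourhood is geometrically reduced at its point over x. -/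
theorem result (k : Type u) [Field k] (X : AlgSp.Space (Spec (CommRingCat.of k))) (x : AlgSp.Points X.obj) :
    (∃ (U : Over (Spec (CommRingCat.of k))) (a : (AlgSp.yon (Spec (CommRingCat.of k))).obj U ⟶ X.obj) (u : ↥U.left),
      AlgSp.RepWith @Etale a ∧ AlgSp.Points.ofPt a u = x ∧ FBase.IsGeomReducedAt U.hom u) ↔
      ∀ (U : Over (Spec (CommRingCat.of k))) (a : (AlgSp.yon (Spec (CommRingCat.of k))).obj U ⟶ X.obj) (u : ↥U.left),
        AlgSp.RepWith @Etale a → AlgSp.Points.ofPt a u = x → FBase.IsGeomReducedAt U.hom u := by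
  refine ⟨fun ⟨V, b, v, hb, hv, hgr⟩ U a u ha hu => ?_, fun h => ?_⟩
  · obtain ⟨W, g, g', w, hg, hg', rfl, rfl⟩ := exists_common_chart X.property ha hb (hu.trans hv.symm)
    exact (isGeomReducedAt_iff_of_etale g.left U.hom (Over.w g) w).1
      ((isGeomReducedAt_iff_of_etale g'.left V.hom (Over.w g') w).2 hgr)
  · obtain ⟨U, a, ha, has⟩ := X.property.atlas
    obtain ⟨u, hu⟩ := surjective_ofPt_of_repWith le_rfl has x
    exact ⟨U, a, u, ha, hu, h U a u ha hu⟩

end Groth.Agent.S10473
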