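import Groth.Statements.S1560
import Mathlib
import Groth.Agent.H22Alg.VarGeom

set_option autoImplicit false
universe u
open CategoryTheory CategoryTheory.Limits AlgebraicGeometry
open Variety

namespace Groth.Agent.S1560

/-- Let X be a scheme over a perfect field k and x a point whose local ring is reduced. Then X is
geometrically reduced at x. -/
theorem result (k : Type u) [Field k] (X : Scheme.{u}) [X.Over (Spec (CommRingCat.of k))] [PerfectField k] (x : X)
    [IsReduced (X.presheaf.stalk x)] : Curv2.IsGeomReducedAt k X x := by
  intro K _ _ z hz
  let s := Spec.map (CommRingCat.ofHom (algebraMap k k))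
  haveI : IsIso s := by
    show IsIso (Spec.map (CommRingCat.ofHom (RingHom.id k)))
    rw [CommRingCat.ofHom_id, Spec.map_id]
    infer_instance
  let p := pullback.fst (X ↘ Spec (CommRingCat.of k)) s
  obtain ⟨x0, hx0⟩ := p.surjective x
  have hred : _root_.IsReduced ((pullback (X ↘ Spec (CommRingCat.of k)) s).presheaf.stalk x0) := by
    subst hx0
    exact isReduced_of_injective (inv (p.stalkMap x0)).hom
      (ConcreteCategory.bijective_of_isIso (inv (p.stalkMap x0))).1
  exact Groth.Agent.S2521.result (Ω := k) (X ↘ Spec (CommRingCat.of k)) x x0 hx0 hred K z hz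

end Groth.Agent.S1560
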