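import Groth.Statements.S10478
import Groth.Agent.H13AlgSp.GeomRedBC
import Groth.Agent.S1548

set_option autoImplicit false
universe u
open CategoryTheory CategoryTheory.Limits AlgebraicGeometry Topology TopologicalSpace
open AlgSp

namespace Groth.Agent.S10478

open AlgSp Groth.Agent.H12AlgSp Groth.Agent.H13AlgSp


/-- (3) ⇒ (2): let k be a field of characteristic p > 0 and X an algebraic space over k. If X_{k'} is
reduced whenever k' is a finite purely inseparable extension of k, then X_K is reduced for every
field extension K of k. -/
theorem result (k : Type u) [Field k] (p : ℕ) [Fact p.Prime]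
    [CharP k p] (X : AlgSp.Space (Spec (CommRingCat.of k)))
    (h : ∀ (k' : Type u) [Field k'] [Algebra k k'], Module.Finite k k' → IsPurelyInseparable k k' →
      AlgSp.EtaleLocally (fun U => IsReduced U) (X.obj ⨯ (AlgSp.yon (Spec (CommRingCat.of k))).obj (Over.mk (Spec.map (CommRingCat.ofHom (algebraMap k k'))))))
    (K : Type u) [Field K] [Algebra k K] : AlgSp.EtaleLocally (fun U => IsReduced U) (X.obj ⨯ (AlgSp.yon (Spec (CommRingCat.of k))).obj (Over.mk (Spec.map (CommRingCat.ofHom (algebraMap k K))))) := by
  obtain ⟨U, a, ha, hs⟩ := X.property.atlas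
  let I : U.left.Over (Spec (CommRingCat.of k)) := ⟨U.hom⟩
  have hg : GeometricallyReduced U.hom := @Groth.Agent.S1548.result k _ p _ _ U.left I
    (fun k' _ _ hfin hpi => (isReduced_bc_iff X.property ha hs).1 (h k' hfin hpi))
  exact (isReduced_bc_iff X.property ha hs).2
    (GeometricallyReduced.geometrically_isReduced _ _ _ (IsPullback.of_hasPullback _ _))

end Groth.Agent.S10478
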