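import Groth.Statements.S10480
import Groth.Agent.H13AlgSp.GeomRedBC

set_option autoImplicit false
universe u
open CategoryTheory CategoryTheory.Limits AlgebraicGeometry Topology TopologicalSpace
open AlgSp

namespace Groth.Agent.S10480

open AlgSp Groth.Agent.H12AlgSp Groth.Agent.H13AlgSp


/-- Let k be a field and f : X ⟶ Y a surjective etale morphism of algebraic spaces over k. Then X is
geometrically reduced over k if and only if Y is geometrically reduced over k. -/
theorem result (k : Type u) [Field k] {X Y : AlgSp.Space (Spec (CommRingCat.of k))} (f : X ⟶ Y)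
    (he : AlgSp.IsEtaleMor f.hom) (hs : AlgSp.IsSurjectiveMor f.hom) :
    (∀ x : AlgSp.Points X.obj, (∃ (U : Over (Spec (CommRingCat.of k))) (a : (AlgSp.yon (Spec (CommRingCat.of k))).obj U ⟶ X.obj) (u : ↥U.left),
      AlgSp.RepWith @Etale a ∧ AlgSp.Points.ofPt a u = x ∧ FBase.IsGeomReducedAt U.hom u)) ↔
      ∀ y : AlgSp.Points Y.obj, (∃ (U : Over (Spec (CommRingCat.of k))) (a : (AlgSp.yon (Spec (CommRingCat.of k))).obj U ⟶ Y.obj) (u : ↥U.left),
      AlgSp.RepWith @Etale a ∧ AlgSp.Points.ofPt a u = y ∧ FBase.IsGeomReducedAt U.hom u) := by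
  obtain ⟨U, a, ha, hs'⟩ := X.property.atlas
  have hb := he a ha
  have key : ∀ u, GeomRedAt X.obj (Points.ofPt a u) ↔ GeomRedAt Y.obj (Points.map f.hom (Points.ofPt a u)) :=
    fun u => (geomRedAt_iff X.property ha rfl).trans
      (geomRedAt_iff Y.property hb (u := u) (Points.map_ofPt _ _ _).symm).symm
  refine ⟨fun h y => ?_, fun h x => ?_⟩
  · obtain ⟨x, rfl⟩ := hs y
    obtain ⟨u, rfl⟩ := surjective_ofPt_of_repWith le_rfl hs' x
    exact (key u).1 (h _)
  · obtain ⟨u, rfl⟩ := surjective_ofPt_of_repWith le_rfl hs' x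
    exact (key u).2 (h _)

end Groth.Agent.S10480
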