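import Groth.Statements.S10481
import Groth.Agent.H13AlgSp.GeomRedBC

set_option autoImplicit false
universe u
open CategoryTheory CategoryTheory.Limits AlgebraicGeometry Topology TopologicalSpace
open AlgSp

namespace Groth.Agent.S10481

open AlgSp Groth.Agent.H12AlgSp Groth.Agent.H13AlgSp


/-- Let k be a field, f : X ⟶ Y a morphism of algebraic spaces over k and x a point of X at which f is
etale. Then X is geometrically reduced at x if and only if Y is geometrically reduced at the image
of x. -/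
theorem result (k : Type u) [Field k] {X Y : AlgSp.Space (Spec (CommRingCat.of k))} (f : X ⟶ Y)
    (x : AlgSp.Points X.obj)
    (he : AlgSp.HasAtMor (fun U _ h u => ∃ W : U.Opens, u ∈ W ∧ Etale (W.ι ≫ h)) f.hom x) :
    (∃ (U : Over (Spec (CommRingCat.of k))) (a : (AlgSp.yon (Spec (CommRingCat.of k))).obj U ⟶ X.obj) (u : ↥U.left),
      AlgSp.RepWith @Etale a ∧ AlgSp.Points.ofPt a u = x ∧ FBase.IsGeomReducedAt U.hom u) ↔ (∃ (U : Over (Spec (CommRingCat.of k))) (a : (AlgSp.yon (Spec (CommRingCat.of k))).obj U ⟶ Y.obj) (u : ↥U.left),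
      AlgSp.RepWith @Etale a ∧ AlgSp.Points.ofPt a u = (AlgSp.Points.map f.hom x) ∧ FBase.IsGeomReducedAt U.hom u) := by
  obtain ⟨U, V, a, b, h, u, ha, hb, w, rfl, W, hu, hW⟩ := he
  refine (geomRedAt_iff X.property ha rfl).trans (Iff.trans ?_ (geomRedAt_iff Y.property hb (u := h.left u) (by
    rw [Points.map_ofPt, w, ofPt_map])).symm)
  have : Etale (W.ι ≫ h.left) := hW
  refine (isGeomReducedAt_iff_of_etale W.ι U.hom rfl ⟨u, hu⟩).symm.trans ?_
  exact isGeomReducedAt_iff_of_etale (W.ι ≫ h.left) V.hom (by rw [Category.assoc, Over.w h]) ⟨u, hu⟩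

end Groth.Agent.S10481
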