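import Groth.Statements.S10482
import Groth.Agent.H13AlgSp.FibreCond

set_option autoImplicit false
universe u
open CategoryTheory CategoryTheory.Limits AlgebraicGeometry Topology TopologicalSpace
open AlgSp

namespace Groth.Agent.S10482

open AlgSp Groth.Agent.H12AlgSp Groth.Agent.H13AlgSp


/-- (1) ⇔ (2): let k be a field and X an algebraic space over k. Then X is locally quasi-finite over k
if and only if X is locally of finite type over k of dimension at most 0. (The published statement
says dimension 0; dimension at most 0 is used so that the empty space, whose dimension is the bottom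
element, is covered by both sides.) -/
theorem result (k : Type u) [Field k] (X : AlgSp.Space (Spec (CommRingCat.of k))) (p : X.obj ⟶ (AlgSp.yon (Spec (CommRingCat.of k))).obj (Over.mk (𝟙 _))) :
    AlgSp.LocP (@LocallyQuasiFinite ⊓ @LocallyOfFiniteType : MorphismProperty Scheme.{u}) p ↔ AlgSp.LocP @LocallyOfFiniteType p ∧ AlgSp.dim X.obj ≤ 0 := by
  have hN : IsLocallyNoetherian (Over.mk (𝟙 (Spec (CommRingCat.of k)))).left :=
    inferInstanceAs (IsLocallyNoetherian (Spec (CommRingCat.of k)))
  have hsub : Subsingleton ↥(Over.mk (𝟙 (Spec (CommRingCat.of k)))).left :=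
    inferInstanceAs (Subsingleton (PrimeSpectrum k))
  constructor
  · intro h
    refine ⟨fun U V a b g ha hb w => (h a b g ha hb w).2, iSup_le fun U => iSup₂_le fun a ha => ?_⟩
    obtain ⟨g, hg⟩ := (AlgSp.yon _).map_surjective (a ≫ p)
    obtain ⟨hq, -⟩ := h a (𝟙 _) g ha (repWith_id _ _) (by rw [Category.comp_id, hg])
    let gK : U.left ⟶ Spec (CommRingCat.of k) := g.left
    have : LocallyQuasiFinite gK := hq
    have := discreteTopology_of_lqf_to_field gK
    exact topologicalKrullDim_zero_of_discreteTopology _
  · rintro ⟨h, hd⟩ U V a b g ha hb w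
    have hl : LocallyOfFiniteType g.left := h a b g ha hb w
    refine ⟨locallyQuasiFinite_iff_isDiscrete_preimage_singleton.2 fun v => ?_, hl⟩
    obtain ⟨g', hg'⟩ := (AlgSp.yon _).map_surjective (a ≫ p)
    have : LocallyOfFiniteType g'.left := h a (𝟙 _) g' ha (repWith_id _ _) (by rw [Category.comp_id, hg'])
    have : IsLocallyNoetherian U.left := LocallyOfFiniteType.isLocallyNoetherian g'.left
    have hU : topologicalKrullDim U.left ≤ 0 :=
      (show topologicalKrullDim U.left ≤ AlgSp.dim X.obj from le_iSup_of_le U (le_iSup₂_of_le a ha le_rfl)).trans hd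
    have : IsLocallyArtinian U.left := .of_topologicalKrullDim_le_zero hU
    exact isDiscrete_iff_discreteTopology.2 inferInstance

end Groth.Agent.S10482
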