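import Groth.Statements.S10483
import Groth.Agent.H13AlgSp.ZeroDimScheme
import Groth.Agent.H12AlgSp.Bootstrap

set_option autoImplicit false
universe u
open CategoryTheory CategoryTheory.Limits AlgebraicGeometry Topology TopologicalSpace
open AlgSp

namespace Groth.Agent.S10483

set_option backward.isDefEq.respectTransparency false

/-- (1) ⇔ (5): let k be a field and X an algebraic space over k. Then X is locally quasi-finite over k
if and only if X decomposes as a disjoint union of spectra of finite-dimensional Artinian local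
k-algebras: X is a scheme every point of which has an affine open neighbourhood with Artinian local
coordinate ring, finite over k. -/
theorem result (k : Type u) [Field k] (X : AlgSp.Space (Spec (CommRingCat.of k))) (p : X.obj ⟶ (AlgSp.yon (Spec (CommRingCat.of k))).obj (Over.mk (𝟙 _))) :
    AlgSp.LocP (@LocallyQuasiFinite ⊓ @LocallyOfFiniteType : MorphismProperty Scheme.{u}) p ↔
      ∃ (U : Over (Spec (CommRingCat.of k))) (_ : (AlgSp.yon (Spec (CommRingCat.of k))).obj U ≅ X.obj), ∀ u : ↥U.left, ∃ V : U.left.Opens,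
        u ∈ V ∧ IsAffineOpen V ∧ IsArtinianRing ↥Γ(U.left, V) ∧ IsLocalRing ↥Γ(U.left, V) ∧
          IsFinite (V.ι ≫ U.hom) := by
  have hh : ∀ {V : Over (Spec (CommRingCat.of k))} (b : (AlgSp.yon (Spec (CommRingCat.of k))).obj V ⟶ X.obj),
      ∃ h : V ⟶ Over.mk (𝟙 _), b ≫ p = (AlgSp.yon (Spec (CommRingCat.of k))).map h ∧ h.left = V.hom := fun {V} b => by
    obtain ⟨h, hh⟩ := (AlgSp.yon (Spec (CommRingCat.of k))).map_surjective (b ≫ p)
    exact ⟨h, hh.symm, by simpa using Over.w h⟩
  constructor
  · intro hp
    have hV : ∀ (V : Over (Spec (CommRingCat.of k))) (b : (AlgSp.yon (Spec (CommRingCat.of k))).obj V ⟶ X.obj),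
        AlgSp.RepWith @Etale b → LocallyQuasiFinite V.hom ∧ LocallyOfFiniteType V.hom := fun V b hb => by
      obtain ⟨h, hh, h3⟩ := hh b
      have h2 := hp b (𝟙 _) h hb (AlgSp.repWith_id _ _) (by simp [hh])
      rw [h3] at h2
      exact h2
    have hd : AlgSp.dim X.obj ≤ 0 := iSup_le fun V => iSup_le fun b => iSup_le fun hb => by
      have := (hV V b hb).1
      have : IsLocallyArtinian V.left := IsLocallyArtinian.of_locallyQuasiFinite V.hom
      exact topologicalKrullDim_zero_of_discreteTopology _
    have hlft : AlgSp.LocP @LocallyOfFiniteType p := fun U V a b h ha hb e => (hp a b h ha hb e).2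
    obtain ⟨U, e, -, -⟩ := H13AlgSp.exists_scheme_of_lft_dim_le_zero k X p hlft hd
    obtain ⟨hq, hf⟩ := hV U e.hom (H12AlgSp.repWith_of_isIso e.hom)
    have : IsLocallyArtinian U.left := IsLocallyArtinian.of_locallyQuasiFinite U.hom
    refine ⟨U, e, fun u => ?_⟩
    let V : U.left.Opens := ⟨{u}, isOpen_discrete _⟩
    have hVa : IsAffineOpen V := .of_subsingleton Set.subsingleton_singleton
    refine ⟨V, rfl, hVa, IsLocallyArtinian.isArtinianRing_presheaf_obj ⟨V, hVa⟩, ?_, ?_⟩
    · have : Subsingleton V := (Set.subsingleton_coe _).2 Set.subsingleton_singleton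
      have : Subsingleton (Spec Γ(U.left, V)) := hVa.isoSpec.inv.homeomorph.injective.subsingleton
      have : Nonempty (Spec Γ(U.left, V)) := ⟨hVa.isoSpec.hom.homeomorph ⟨u, rfl⟩⟩
      have : Subsingleton (PrimeSpectrum Γ(U.left, V)) := ‹Subsingleton (Spec Γ(U.left, V))›
      have : Nontrivial Γ(U.left, V) := PrimeSpectrum.nonempty_iff_nontrivial.1 ‹Nonempty (Spec Γ(U.left, V))›
      have : Subsingleton (MaximalSpectrum Γ(U.left, V)) := MaximalSpectrum.toPrimeSpectrum_injective.subsingleton
      exact IsLocalRing.of_singleton_maximalSpectrum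
    · have : QuasiCompact (V.ι ≫ U.hom) := by
        have : Subsingleton V := (Set.subsingleton_coe _).2 Set.subsingleton_singleton
        have : CompactSpace V := Finite.compactSpace
        exact (quasiCompact_iff_compactSpace _).2 inferInstance
      exact IsFinite.of_locallyQuasiFinite _
  · rintro ⟨U, e, hU⟩
    have hUh : (@LocallyQuasiFinite ⊓ @LocallyOfFiniteType : MorphismProperty Scheme.{u}) U.hom := by
      choose W hW _ _ _ hfin using hU
      have hc : TopologicalSpace.IsOpenCover W := .mk (top_le_iff.1 fun x _ => Opens.mem_iSup.2 ⟨x, hW x⟩)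
      exact ⟨(IsZariskiLocalAtSource.iff_of_openCover (P := @LocallyQuasiFinite) (U.left.openCoverOfIsOpenCover W hc)).2
          fun i => have := hfin i; (inferInstance : LocallyQuasiFinite ((W i).ι ≫ U.hom)),
        (IsZariskiLocalAtSource.iff_of_openCover (P := @LocallyOfFiniteType) (U.left.openCoverOfIsOpenCover W hc)).2
          fun i => have := hfin i; (inferInstance : LocallyOfFiniteType ((W i).ι ≫ U.hom))⟩
    intro W V a b h ha hb _
    obtain ⟨g, hg⟩ := (AlgSp.yon (Spec (CommRingCat.of k))).map_surjective (a ≫ e.inv)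
    have hge : Etale g.left := (AlgSp.repWith_yon_map_iff _ g).1 (hg ▸ H12AlgSp.repWith_comp ha (H12AlgSp.repWith_of_isIso e.inv))
    have := H12AlgSp.lqf_of_etale g.left
    have := hUh.1
    have := hUh.2
    have hcomp : h.left ≫ V.hom = g.left ≫ U.hom := by rw [Over.w, Over.w]
    exact ⟨@LocallyQuasiFinite.of_comp _ _ _ h.left V.hom (hcomp ▸ inferInstance),
      @locallyOfFiniteType_of_comp _ _ _ h.left V.hom (hcomp ▸ inferInstance)⟩

end Groth.Agent.S10483
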