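import Groth.Statements.S10484
import Groth.Agent.H13AlgSp.MonoArtin
import Groth.Agent.H13AlgSp.FibreSpaces
import Groth.Agent.H13AlgSp.MonoDiscrete
import Groth.Agent.H12AlgSp.Immersion

set_option autoImplicit false
universe u
open CategoryTheory CategoryTheory.Limits AlgebraicGeometry Topology TopologicalSpace
open AlgSp

namespace Groth.Agent.S10484

open AlgSp Groth.Agent.H12AlgSp Groth.Agent.H13AlgSp


/-- For a field k, local quasi-finiteness over k passes from the target Y of a monomorphism f : X ⟶ Y of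
algebraic spaces over k to its source X. -/
theorem result (k : Type u) [Field k] {X Y : AlgSp.Space (Spec (CommRingCat.of k))} (f : X ⟶ Y)
    [Mono f.hom] (q : Y.obj ⟶ (AlgSp.yon (Spec (CommRingCat.of k))).obj (Over.mk (𝟙 _))) (hq : AlgSp.LocP (@LocallyQuasiFinite ⊓ @LocallyOfFiniteType : MorphismProperty Scheme.{u}) q) :
    AlgSp.LocP (@LocallyQuasiFinite ⊓ @LocallyOfFiniteType : MorphismProperty Scheme.{u}) (f.hom ≫ q) := by
  obtain ⟨V, b, hb, hbs⟩ := Y.property.atlas
  obtain ⟨h, hh⟩ := (AlgSp.yon _).map_surjective (b ≫ q)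
  obtain ⟨hl, hft⟩ := hq b (𝟙 _) h hb (repWith_id _ _) (by rw [Category.comp_id, hh])
  have hN : IsLocallyNoetherian (Over.mk (𝟙 (Spec (CommRingCat.of k)))).left :=
    inferInstanceAs (IsLocallyNoetherian (Spec (CommRingCat.of k)))
  have : IsLocallyNoetherian V.left := LocallyOfFiniteType.isLocallyNoetherian h.left
  have hsub : Subsingleton ↥(Over.mk (𝟙 (Spec (CommRingCat.of k)))).left :=
    inferInstanceAs (Subsingleton (PrimeSpectrum k))
  have : DiscreteTopology V.left := by
    rcases isEmpty_or_nonempty V.left with hV | ⟨⟨v⟩⟩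
    · infer_instance
    have hd := h.left.isDiscrete_preimage_singleton (h.left v)
    have huniv : h.left ⁻¹' {h.left v} = Set.univ := Set.eq_univ_of_forall fun z =>
      @Subsingleton.elim _ hsub _ _
    rw [huniv] at hd
    exact isDiscrete_univ_iff.1 hd
  have sq := IsPullback.of_hasPullback f.hom b
  have hR := Groth.Agent.H12AlgSp.isAlgSpace_of_isPullback Y.property.diag X.property (IsAlgSpace.yon_obj V) sq
  have := Groth.Agent.H13AlgSp.isRepresentable_of_mono_discrete hR (pullback.snd f.hom b)
  obtain ⟨W, ⟨hW⟩⟩ := this.has_representation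
  let e := AlgSp.isoOfRepresentableBy hW
  obtain ⟨i, hi⟩ := (AlgSp.yon _).map_surjective (e.hom ≫ pullback.snd f.hom b)
  have : Mono ((AlgSp.yon (Spec (CommRingCat.of k))).map i) := by rw [hi]; exact mono_comp _ _
  have : Mono i := (AlgSp.yon _).mono_of_mono_map this
  have : IsClosedImmersion i.left := Groth.Agent.H13AlgSp.isClosedImmersion_of_mono_artinian i.left
  have hP := Groth.Agent.H12AlgSp.etLocal_inf Groth.Agent.H12AlgSp.etLocal_lqf Groth.Agent.H12AlgSp.etLocal_lft
  have hs : RepWith (@LocallyQuasiFinite ⊓ @LocallyOfFiniteType : MorphismProperty Scheme.{u})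
      (pullback.snd f.hom b) := by
    have h1 : RepWith (@LocallyQuasiFinite ⊓ @LocallyOfFiniteType : MorphismProperty Scheme.{u})
        ((AlgSp.yon _).map i) := (repWith_yon_map_iff _ _).2 ⟨inferInstance, inferInstance⟩
    rw [hi] at h1
    exact (MorphismProperty.cancel_left_of_respectsIso _ e.hom _).1 h1
  exact Groth.Agent.H12AlgSp.locP_comp hP X.property Y.property (IsAlgSpace.yon_obj _)
    (Groth.Agent.H12AlgSp.locP_of_target_cover hP X.property Y.property hb hbs sq
      (Groth.Agent.H12AlgSp.locP_of_repWith hP hs)) hq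

end Groth.Agent.S10484
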