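import Groth.Statements.S10490
import Groth.Agent.H13AlgSp.SmoothSection
import Groth.Agent.H13Desc.EtaleFibre
import Groth.Agent.H12AlgSp.Points

set_option autoImplicit false
universe u
open CategoryTheory CategoryTheory.Limits AlgebraicGeometry Topology TopologicalSpace
open AlgSp

namespace Groth.Agent.S10490

/-- Let k be a field and X an algebraic space smooth over k. Then the points of X which are images of
morphisms Spec k' ⟶ X over k with k' a finite separable extension of k form a dense subset of |X|. -/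
theorem result (k : Type u) [Field k] (X : AlgSp.Space (Spec (CommRingCat.of k))) (p : X.obj ⟶ (AlgSp.yon (Spec (CommRingCat.of k))).obj (Over.mk (𝟙 _))) (hp : AlgSp.LocP @Smooth p) :
    Dense {x : AlgSp.Points X.obj | ∃ (k' : Type u) (_ : Field k') (_ : Algebra k k'),
      Module.Finite k k' ∧ Algebra.IsSeparable k k' ∧
        ∃ v : X.obj.obj.obj (Opposite.op (Over.mk (Spec.map (CommRingCat.ofHom (algebraMap k k'))))),
          AlgSp.Points.mk ⟨k', Spec.map (CommRingCat.ofHom (algebraMap k k')), v⟩ = x} := by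
  refine dense_iff_inter_open.2 fun W hW hne => ?_
  obtain ⟨x, hx⟩ := hne
  obtain ⟨U, a, ha, has⟩ := X.property.atlas
  obtain ⟨u, rfl⟩ := H12AlgSp.surjective_ofPt_of_repWith le_rfl has x
  obtain ⟨m, hm⟩ := (AlgSp.yon _).map_surjective (a ≫ p)
  have : Smooth m.left := hp a (𝟙 _) m ha (AlgSp.repWith_id _ _) (by rw [hm, Category.comp_id])
  let O : U.left.Opens := ⟨AlgSp.Points.ofPt a ⁻¹' W, hW.preimage (AlgSp.Points.continuous_ofPt a)⟩
  obtain ⟨U', e, r, he, hre, t, -⟩ := H13AlgSp.SmoothSection.exists_etale_section (O.ι ≫ m.left) ⟨u, hx⟩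
  let g : Spec (U'.residueField t) ⟶ Spec (CommRingCat.of k) := U'.fromSpecResidueField t ≫ e
  have hfr : IsIso ((Spec (CommRingCat.of k)).fromSpecResidueField (e t)) := by
    have hs : Surjective ((Spec (CommRingCat.of k)).fromSpecResidueField (e t)) :=
      ⟨fun y => ⟨IsLocalRing.closedPoint _, Subsingleton.elim (α := PrimeSpectrum k) _ _⟩⟩
    have : IsClosedImmersion ((Spec (CommRingCat.of k)).fromSpecResidueField (e t)) :=
      IsClosedImmersion.of_isPreimmersion _ (by rw [hs.surj.range_eq]; exact isClosed_univ)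
    exact isIso_of_isClosedImmersion_of_surjective _
  have hg : Etale g := by
    have hres := H13Desc.etale_SpecMap_residueFieldMap e t
    show Etale (U'.fromSpecResidueField t ≫ e)
    rw [← Scheme.Hom.SpecMap_residueFieldMap_fromSpecResidueField]
    have : IsIso ((Over.mk (𝟙 (Spec (CommRingCat.of k)))).left.fromSpecResidueField (e t)) := hfr
    exact MorphismProperty.comp_mem (W := @Etale) _ _ hres inferInstance
  obtain ⟨φ, hφ⟩ : ∃ φ : k →+* U'.residueField t, g = Spec.map (CommRingCat.ofHom φ) :=
    ⟨(Spec.preimage g).hom, (Spec.map_preimage _).symm⟩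
  let := φ.toAlgebra
  have het : Algebra.Etale k (U'.residueField t) := by
    have h := hg
    rw [hφ] at h
    exact RingHom.etale_algebraMap.1 ((HasRingHomProperty.Spec_iff (P := @Etale)).1 h)
  have hfin : Module.Finite k (U'.residueField t) := Algebra.FormallyUnramified.finite_of_free k (U'.residueField t)
  have hsep : Algebra.IsSeparable k (U'.residueField t) :=
    (Algebra.FormallyEtale.iff_isSeparable k (U'.residueField t)).1 inferInstance
  let pt : Over.mk (Spec.map (CommRingCat.ofHom (algebraMap k (U'.residueField t)))) ⟶ U :=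
    Over.homMk (U'.fromSpecResidueField t ≫ r ≫ O.ι) (by
      have h1 : m.left = U.hom := (Category.comp_id _).symm.trans (Over.w m)
      show (U'.fromSpecResidueField t ≫ r ≫ O.ι) ≫ U.hom = Spec.map (CommRingCat.ofHom φ)
      rw [← h1, Category.assoc, Category.assoc, hre, ← hφ])
  refine ⟨AlgSp.Points.ofPt a (O.ι (r t)), (r t).2, U'.residueField t, inferInstance, inferInstance, hfin, hsep,
    (AlgSp.J _).uliftYonedaEquiv ((AlgSp.yon _).map pt ≫ a), ?_⟩
  refine (AlgSp.Points.ofPt_toHom (F := X.obj) ⟨U'.residueField t, _, (AlgSp.J _).uliftYonedaEquiv ((AlgSp.yon _).map pt ≫ a)⟩ (IsLocalRing.closedPoint (U'.residueField t))).symm.trans ?_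
  simp only [AlgSp.FieldPt.toHom, Equiv.symm_apply_apply]
  refine (H12AlgSp.ofPt_map pt a _).trans (congrArg _ ?_)
  show (U'.fromSpecResidueField t ≫ r ≫ O.ι) (IsLocalRing.closedPoint _) = _
  rw [Scheme.Hom.comp_apply, Scheme.Hom.comp_apply, Scheme.fromSpecResidueField_apply]

end Groth.Agent.S10490
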