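import Groth.Statements.S10492
import Groth.Agent.H13AlgSp.DecentGeneric
import Groth.Agent.H12AlgSp.DecentField
import Groth.Agent.H12AlgSp.Codim
import Groth.Agent.S9821

set_option autoImplicit false
universe u
open CategoryTheory CategoryTheory.Limits AlgebraicGeometry Topology TopologicalSpace
open AlgSp

namespace Groth.Agent.S10492

open AlgSp Groth.Agent.H12AlgSp Groth.Agent.H13AlgSp Topology


/-- Let X be a normal integral algebraic space over a scheme S. Each point x of X lies in the image of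
some etale morphism U ⟶ X from an affine scheme U that is normal and integral. -/
theorem result {S : Scheme.{u}} (X : AlgSp.Space S)
    (hXi : AlgSp.IsIntegralSp X.obj)
    (hXn : AlgSp.EtaleLocally (fun U => ∀ u : ↥U, IsDomain ↥(U.presheaf.stalk u) ∧
      IsIntegrallyClosed ↥(U.presheaf.stalk u)) X.obj)
    (x : AlgSp.Points X.obj) :
    ∃ (U : Over S) (a : (AlgSp.yon S).obj U ⟶ X.obj), AlgSp.RepWith @Etale a ∧ IsAffine U.left ∧
      IsIntegral U.left ∧ IsIntegrallyClosed ↥Γ(U.left, ⊤) ∧ x ∈ Set.range (AlgSp.Points.ofPt a) := by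
  obtain ⟨hred, hd, hirr⟩ := hXi
  obtain ⟨U, a, ha, has, hN⟩ := hXn
  have hX := X.property
  obtain ⟨u, rfl⟩ := surjective_ofPt_of_repWith le_rfl has x
  obtain ⟨A, hA, huA, -⟩ := exists_isAffineOpen_mem_and_subset (X := U.left) (U := (⊤ : U.left.Opens)) (x := u) trivial
  have hgenX : ∀ η ∈ genericPoints U.left, IsGenericPoint (Points.ofPt a η) (Set.univ : Set (Points X.obj)) := by
    intro η hη
    obtain ⟨T, hT, hgT⟩ := (component_iff_mem_genericPoints hX hd ha η).2 hη
    have := hT.2 ⟨Set.univ_nonempty, (IrreducibleSpace.isIrreducible_univ (Points X.obj)).2⟩ (Set.subset_univ T)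
    rwa [Set.eq_univ_of_univ_subset this] at hgT
  have := t0Space_points hX hd
  let G : Set U.left := {η | η ∈ genericPoints U.left ∧ η ∈ A}
  have hG : G.Finite := by
    rcases G.eq_empty_or_nonempty with h | ⟨η₀, h₀⟩
    · rw [h]; exact Set.finite_empty
    have : IsAffine (openOver U A).left := hA
    refine ((finite_fibre_of_isDecent hd (Points.ofPt a η₀) (openOver U A)
      ((AlgSp.yon S).map (openIncl U A) ≫ a) hA (repWith_etale_openIncl ha A)).image
        fun z => (openIncl U A).left z).subset fun η hη => ⟨⟨η, hη.2⟩, ?_, rfl⟩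
    exact (ofPt_map (openIncl U A) a _).trans
      ((hgenX η hη.1).eq (hgenX η₀ h₀.1))
  let O : U.left.Opens := ⟨(A : Set U.left) \ ⋃ η ∈ {η ∈ G | ¬ η ⤳ u}, closure {η},
    A.2.sdiff ((hG.subset fun _ h => h.1).isClosed_biUnion fun _ _ => isClosed_closure)⟩
  have huO : u ∈ O := by
    refine ⟨huA, fun h => ?_⟩
    obtain ⟨η, hη, hu⟩ := Set.mem_iUnion₂.1 h
    exact hη.2 (specializes_iff_mem_closure.2 hu)
  obtain ⟨W, hW, huW, hWO⟩ := exists_isAffineOpen_mem_and_subset (X := U.left) (U := O) (x := u) huO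
  have hu1 := (hN u).1
  have huniq : ∀ η η', η ∈ genericPoints U.left → η' ∈ genericPoints U.left → η ⤳ u → η' ⤳ u → η = η' := by
    intro η η' hη hη' hs hs'
    obtain ⟨p, hp⟩ : η ∈ Set.range (U.left.fromSpecStalk u) := by rw [Scheme.range_fromSpecStalk]; exact hs
    obtain ⟨p', hp'⟩ : η' ∈ Set.range (U.left.fromSpecStalk u) := by rw [Scheme.range_fromSpecStalk]; exact hs'
    let o : Spec (U.left.presheaf.stalk u) := (⟨⊥, Ideal.isPrime_bot⟩ : PrimeSpectrum (U.left.presheaf.stalk u))
    have key : ∀ q, U.left.fromSpecStalk u o ⤳ U.left.fromSpecStalk u q := fun q =>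
      ((PrimeSpectrum.le_iff_specializes (⟨⊥, Ideal.isPrime_bot⟩ : PrimeSpectrum (U.left.presheaf.stalk u)) q).1
        bot_le).map (U.left.fromSpecStalk u).continuous
    have e1 := Groth.Agent.H8Props.mem_genericPoints_iff.1 hη _ (hp ▸ key p)
    have e2 := Groth.Agent.H8Props.mem_genericPoints_iff.1 hη' _ (hp' ▸ key p')
    exact e1.symm.trans e2
  obtain ⟨η₀, hη₀, hη₀u⟩ := Groth.Agent.H8Props.exists_genericPoints_specializes u
  have hspec : ∀ z ∈ W, η₀ ⤳ z := fun z hz => by
    obtain ⟨η, hη, hηz⟩ := Groth.Agent.H8Props.exists_genericPoints_specializes z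
    have hηO : η ∈ O := hηz.mem_open O.2 (hWO hz)
    have : η ⤳ u := by
      by_contra hcon
      exact hηO.2 (Set.mem_biUnion (⟨⟨hη, hηO.1⟩, hcon⟩ : η ∈ {η ∈ G | ¬ η ⤳ u}) (subset_closure rfl))
    rwa [huniq η₀ η hη₀ hη hη₀u this]
  have hη₀W : η₀ ∈ W := hη₀u.mem_open W.2 huW
  have hirrW : IrreducibleSpace (openOver U W).left := by
    refine (irreducibleSpace_def _).2 ?_
    have : closure {(⟨η₀, hη₀W⟩ : (openOver U W).left)} = Set.univ := Set.eq_univ_of_forall fun z =>
      specializes_iff_mem_closure.1 (W.ι.isOpenEmbedding.isInducing.specializes_iff.1 (hspec _ z.2))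
    have h1 := (isIrreducible_singleton (x := (⟨η₀, hη₀W⟩ : (openOver U W).left))).closure
    rwa [this] at h1
  have hNW : Pi1.IsNormalScheme (openOver U W).left := fun z => by
    obtain ⟨_, _⟩ := hN (W.ι z)
    have e := (asIso (W.ι.stalkMap z)).commRingCatIsoToRingEquiv
    exact ⟨MulEquiv.isDomain _ e.toMulEquiv.symm, IsIntegrallyClosed.of_equiv e⟩
  have : IsReduced (openOver U W).left := by
    have : ∀ z : (openOver U W).left, _root_.IsReduced ((openOver U W).left.presheaf.stalk z) := fun z => by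
      have := (hNW z).1
      infer_instance
    exact isReduced_of_isReduced_stalk _
  have : IsIntegral (openOver U W).left := isIntegral_of_irreducibleSpace_of_isReduced _
  refine ⟨openOver U W, (AlgSp.yon S).map (openIncl U W) ≫ a, repWith_etale_openIncl ha W, hW, inferInstance, ?_,
    ⟨⟨u, huW⟩, ofPt_map (openIncl U W) a _⟩⟩
  have : Nonempty (openOver U W).left := ⟨⟨u, huW⟩⟩
  have hne : Nonempty (⊤ : (openOver U W).left.Opens) := ⟨⟨⟨u, huW⟩, trivial⟩⟩
  have : IsAffine (openOver U W).left := hW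
  exact (Groth.Agent.S9821.result _).1 hNW ⊤ (isAffineOpen_top _)

end Groth.Agent.S10492
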