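import Groth.Statements.S10493
import Groth.Agent.H13AlgSp.GaloisAffine
-- import your own Groth.Agent.* helpers here

set_option autoImplicit false
set_option backward.isDefEq.respectTransparency false
universe u
open CategoryTheory CategoryTheory.Limits AlgebraicGeometry Topology TopologicalSpace
open AlgSp

namespace Groth.Agent.S10493

/-- Let k be a field with algebraic closure k̄ and X an algebraic space over k which is decent and
locally of finite type over k, such that X_{k̄} is a scheme in which every finite set of k̄-rational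
points is contained in an affine open. Then X is a scheme. -/
theorem result (k : Type u) [Field k] (X : AlgSp.Space (Spec (CommRingCat.of k)))
    (hdec : AlgSp.IsDecent X.obj) (p : X.obj ⟶ (AlgSp.yon (Spec (CommRingCat.of k))).obj (Over.mk (𝟙 _))) (hp : AlgSp.LocP @LocallyOfFiniteType p)
    (kbar : Type u) [Field kbar] [Algebra k kbar] [IsAlgClosure k kbar]
    (T : Over (Spec (CommRingCat.of k))) (e : (AlgSp.yon (Spec (CommRingCat.of k))).obj T ≅ (X.obj ⨯ (AlgSp.yon (Spec (CommRingCat.of k))).obj (Over.mk (Spec.map (CommRingCat.ofHom (algebraMap k kbar))))))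
    (q : T ⟶ Over.mk (Spec.map (CommRingCat.ofHom (algebraMap k kbar))))
    (hq : (AlgSp.yon (Spec (CommRingCat.of k))).map q = e.hom ≫ Limits.prod.snd)
    (h3 : ∀ s : Finset ↥T.left,
      (∀ t ∈ s, ∃ σ : Spec (CommRingCat.of kbar) ⟶ T.left, σ ≫ q.left = 𝟙 _ ∧ σ (IsLocalRing.closedPoint kbar) = t) →
        ∃ W : T.left.Opens, IsAffineOpen W ∧ ∀ t ∈ s, t ∈ W) :
    X.obj.obj.IsRepresentable := by
  classical
  have : IsAlgClosed kbar := IsAlgClosure.isAlgClosed k
  have : Algebra.IsAlgebraic k kbar := IsAlgClosure.isAlgebraic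
  have : Normal k kbar := normal_iff.2 fun x => ⟨Algebra.IsIntegral.isIntegral x, IsAlgClosed.splits _⟩
  let π : (yon _).obj T ⟶ X.obj := e.hom ≫ prod.fst
  obtain ⟨U, a, ha, has⟩ := X.property.atlas
  have hUlft : LocallyOfFiniteType U.hom := by
    have hterm : IsTerminal ((yon (Spec (CommRingCat.of k))).obj (Over.mk (𝟙 _))) :=
      IsTerminal.isTerminalObj _ _ Over.mkIdTerminal
    have := hp a (𝟙 _) (Over.mkIdTerminal.from U) ha
      (AlgSp.repWith_id @Etale (Over.mk (𝟙 (Spec (CommRingCat.of k))))) (hterm.hom_ext _ _)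
    rwa [show (Over.mkIdTerminal.from U).left = U.hom from
      (Category.comp_id _).symm.trans (Over.w (Over.mkIdTerminal.from U))] at this
  obtain ⟨W, r, w, b, hb, hw, sqW⟩ := H13AlgSp.exists_bc_chart X.obj kbar a
  obtain ⟨j, hj⟩ := (yon _).map_surjective (b ≫ e.inv)
  have hje : Etale j.left ∧ Surjective j.left := by
    refine ⟨(repWith_yon_map_iff @Etale j).1 ?_, (repWith_yon_map_iff @Surjective j).1 ?_⟩
    · rw [hj]
      exact MorphismProperty.RespectsIso.postcomp _ e.inv _ (H12AlgSp.repWith_of_isPullback hb ha)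
    · rw [hj]
      exact MorphismProperty.RespectsIso.postcomp _ e.inv _ (H12AlgSp.repWith_of_isPullback hb has)
  have hjw : j ≫ q = w := (yon _).map_injective (by
    rw [Functor.map_comp, hj, hq, ← hw, Category.assoc, Iso.inv_hom_id_assoc])
  have : LocallyOfFiniteType w.left := MorphismProperty.of_isPullback sqW hUlft
  have : IsLocallyNoetherian W.left :=
    LocallyOfFiniteType.isLocallyNoetherian (Y := Spec (CommRingCat.of kbar)) w.left
  have := hje.1
  have := hje.2
  have : IsLocallyNoetherian T.left := H13AlgSp.isLocallyNoetherian_of_flat_lfp_surjective j.left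
  have hqs : IsQuasiSeparatedSp X.obj := H13AlgSp.isQuasiSeparatedSp_of_bc_qs X.property e
  have hπo : IsOpenMap (Points.ofPt π) := by
    have : DiscreteTopology (Spec (CommRingCat.of k)) := inferInstanceAs (DiscreteTopology (PrimeSpectrum k))
    exact H12AlgSp.isOpenMap_ofPt_of_repWith le_rfl (MorphismProperty.RespectsIso.precomp _ _ _
      (H13AlgSp.repWith_bcFst @UniversallyOpen X.obj kbar (H06Desc.universallyOpen_of_discreteTopology _)))
  have : JacobsonSpace U.left := LocallyOfFiniteType.jacobsonSpace U.hom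
  have key : ∀ u : U.left, IsClosed ({u} : Set U.left) →
      ∃ (M : Over (Spec (CommRingCat.of k))) (i : (yon _).obj M ⟶ X.obj),
        RepWith @IsOpenImmersion i ∧ Points.ofPt a u ∈ Set.range (Points.map i) := by
    intro u hu
    let ι := U.left.fromSpecResidueField u
    let D := pullback ι r.left
    let δ : D ⟶ Spec (CommRingCat.of kbar) := pullback.snd ι r.left ≫ w.left
    have sqD : IsPullback (pullback.fst ι r.left) δ (ι ≫ U.hom)
        (Spec.map (CommRingCat.ofHom (algebraMap k kbar))) := (IsPullback.of_hasPullback ι r.left).paste_vert sqW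
    have : IsFinite (ι ≫ U.hom) := by
      have : IsClosedImmersion ι := isClosed_singleton_iff_isClosedImmersion.1 hu
      rw [isFinite_iff_locallyOfFiniteType_of_jacobsonSpace]
      infer_instance
    have hδ : IsFinite δ := MorphismProperty.of_isPullback sqD inferInstance
    have hDfin : Finite D := by
      refine Set.finite_univ_iff.1 ((δ.finite_preimage_singleton (IsLocalRing.closedPoint kbar)).subset ?_)
      exact fun d _ => Subsingleton.elim (α := PrimeSpectrum kbar) _ _
    have : JacobsonSpace D := LocallyOfFiniteType.jacobsonSpace δ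
    let f : D ⟶ T.left := pullback.snd ι r.left ≫ j.left
    have hfin : (Set.range f).Finite := Set.finite_range _
    obtain ⟨V, hV, hsV⟩ := h3 hfin.toFinset fun t ht => by
      obtain ⟨d, rfl⟩ := hfin.mem_toFinset.1 ht
      refine ⟨pointOfClosedPoint δ d (isClosed_discrete _) ≫ f, ?_, by simp⟩
      have e1 : f ≫ q.left = δ := by simp [f, δ, ← Over.comp_left, hjw]
      exact (Category.assoc _ _ _).trans ((congrArg _ e1).trans (pointOfClosedPoint_comp δ _ _))
    have hx : ∀ t, Points.ofPt π t = Points.ofPt a u → t ∈ V := by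
      intro t ht
      obtain ⟨z, hz1, hz2⟩ := H12AlgSp.exists_point_of_isPullback hb (Points.ofScheme U u) (Points.ofPt e.hom t) (by
        rw [← Points.ofPt_eq_map_ofScheme, ← ht, Points.ofPt_eq_map_ofScheme e.hom, ← Points.map_comp]
        exact (Points.ofPt_eq_map_ofScheme π t))
      obtain ⟨z, rfl⟩ := (Points.schemeEquiv W).surjective z
      have hrz : r.left z = u := (Points.schemeEquiv U).injective (Eq.trans (by
        change Points.ofScheme _ _ = Points.map _ (Points.ofScheme _ _)
        rw [← Points.ofPt_eq_map_ofScheme, ← Category.comp_id ((yon _).map r), H12AlgSp.ofPt_map]) hz1)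
      have e2 : Points.map ((yon _).map j) (Points.schemeEquiv W z) = Points.ofScheme T t := by
        rw [hj, Points.map_comp, hz2, Points.ofPt_eq_map_ofScheme, ← Points.map_comp, Iso.hom_inv_id, Points.map_id]
      have hjz : j.left z = t := (Points.schemeEquiv T).injective (Eq.trans (by
        change Points.ofScheme _ _ = Points.map _ (Points.ofScheme _ _)
        rw [← Points.ofPt_eq_map_ofScheme, ← Category.comp_id ((yon _).map j), H12AlgSp.ofPt_map]) e2)
      obtain ⟨d, -, hd⟩ := Scheme.Pullback.exists_preimage_pullback (f := ι) (g := r.left)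
        (IsLocalRing.closedPoint _) z (by rw [hrz]; simp [ι])
      refine hsV t (hfin.mem_toFinset.2 ⟨d, ?_⟩)
      change (pullback.snd ι r.left ≫ j.left) d = t
      rw [Scheme.Hom.comp_apply, hd, hjz]
    have hO : IsOpen (Points.ofPt π '' (V : Set T.left)) := hπo _ V.2
    set O : Set (Points X.obj) := Points.ofPt π '' (V : Set T.left)
    have hi := H12AlgSp.repWith_openSubι hO
    have := H12AlgSp.mono_of_openImmersion hi
    have hsp : IsAlgSpace (H12AlgSp.openSub O) := H12AlgSp.isAlgSpace_of_representable _ hi.1 X.property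
    have hemb : IsEmbedding (Points.map (H12AlgSp.openSubι O)) :=
      (IsOpenEmbedding.of_continuous_injective_isOpenMap (Points.continuous_map _)
        (H12AlgSp.injective_map_of_mono _)
        (H12AlgSp.isOpenMap_map_of_repWith (fun _ _ k (_ : IsOpenImmersion k) => inferInstance) hi)).isEmbedding
    have : CompactSpace (Points (H12AlgSp.openSub O)) := isCompact_univ_iff.1 (hemb.isCompact_iff.2 (by
      rw [Set.image_univ, H12AlgSp.range_openSubι X.property]
      exact hV.isCompact.image (Points.continuous_ofPt π)))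
    obtain ⟨TO, g', g, sq⟩ := hi.rep π
    have hg : IsOpenImmersion g'.left := hi.property _ _ g' sq
    let E := (yon (Spec (CommRingCat.of k))).obj (Over.mk (Spec.map (CommRingCat.ofHom (algebraMap k kbar))))
    have sqO : IsPullback g ((yon _).map g' ≫ e.hom) (H12AlgSp.openSubι O)
        (prod.fst : X.obj ⨯ E ⟶ X.obj) :=
      IsPullback.of_iso sq (Iso.refl _) (Iso.refl _) e (Iso.refl _) (by simp) (by simp) (by simp) (by simp [π, E])
    let μ := sqO.isoIsPullback _ _ (H13AlgSp.isPullback_prod_map_fst' (Y := E) (H12AlgSp.openSubι O)).flip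
    have hμ : μ.hom ≫ prod.fst = g := IsPullback.isoIsPullback_hom_fst _ _ _ _
    obtain ⟨t₀, ht₀⟩ : ∃ t, Points.ofPt π t = Points.ofPt a u := by
      obtain ⟨z, hz⟩ := H13AlgSp.surjective_map_prod_fst X.obj kbar (Points.ofPt a u)
      obtain ⟨t, ht⟩ := (Points.schemeEquiv T).surjective (Points.map e.inv z)
      refine ⟨t, ?_⟩
      rw [Points.ofPt_eq_map_ofScheme, show Points.ofScheme T t = _ from ht, ← Points.map_comp,
        Iso.inv_hom_id_assoc, hz]
    obtain ⟨u', hu'⟩ := (H12AlgSp.range_openSubι X.property O).ge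
      (⟨t₀, hx t₀ ht₀, ht₀⟩ : Points.ofPt a u ∈ O)
    obtain ⟨M, i, hi', hxi⟩ := H13AlgSp.exists_openImmersion_nhd hsp (H12AlgSp.isQuasiCompactSp_of_compactSpace hsp)
      (H12AlgSp.isQuasiSeparatedSp_of_mono hqs (H12AlgSp.openSubι O)) μ u' (g'.left ⁻¹ᵁ V)
      (hV.preimage_of_isOpenImmersion g'.left (by
        intro t ht
        obtain ⟨z, hz⟩ := (H12AlgSp.range_openSubι X.property O).ge (⟨t, ht, rfl⟩ : Points.ofPt π t ∈ O)
        obtain ⟨p, -, hp2⟩ := H12AlgSp.exists_point_of_isPullback sq z (Points.ofScheme T t)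
          (by rw [hz, Points.ofPt_eq_map_ofScheme])
        obtain ⟨p, rfl⟩ := (Points.schemeEquiv TO).surjective p
        exact ⟨p, (Points.schemeEquiv T).injective (Eq.trans (by
          change Points.ofScheme _ _ = Points.map _ (Points.ofScheme _ _)
          rw [← Points.ofPt_eq_map_ofScheme, ← Category.comp_id ((yon _).map g'), H12AlgSp.ofPt_map]) hp2)⟩))
      fun z hz => by
        refine hx _ ?_
        rw [← H12AlgSp.ofPt_map, ← sq.w, ← hu', ← hz, ← Points.map_ofPt, hμ]
    refine ⟨M, i ≫ H12AlgSp.openSubι O, H12AlgSp.repWith_comp hi' hi, ?_⟩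
    obtain ⟨p, hp⟩ := hxi
    exact ⟨p, by rw [Points.map_comp, hp, hu']⟩
  choose M i hi hxi using key
  obtain ⟨N, ν, hν⟩ := H12AlgSp.exists_iso_of_openCover
    (fun c : { u : U.left // IsClosed ({u} : Set U.left) } => M c.1 c.2)
    (fun c => i c.1 c.2) (fun c => hi c.1 c.2) fun Z y t => by
      obtain ⟨v, hv⟩ := H12AlgSp.surjective_ofPt_of_repWith le_rfl has (Points.ofPt y t)
      obtain ⟨u, hu1, hu2⟩ := nonempty_inter_closedPoints (Z := closure ({v} : Set U.left))
        ⟨v, subset_closure rfl⟩ isClosed_closure.isLocallyClosed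
      refine ⟨⟨u, hu2⟩, ?_⟩
      rw [← hv]
      exact ((specializes_iff_mem_closure.2 hu1).map (Points.continuous_ofPt a)).mem_open
        (H12AlgSp.isOpenMap_map_of_repWith (fun _ _ k (_ : IsOpenImmersion k) => inferInstance) (hi u hu2)).isOpen_range
        (hxi u hu2)
  exact H12AlgSp.isRepresentable_iff_exists_iso.2 ⟨N, ⟨asIso ν⟩⟩

end Groth.Agent.S10493
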