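import Groth.Statements.S10496
import Groth.Agent.H13AlgSp.ProperImage
import Groth.Agent.H12AlgSp.PointsTop
import Groth.Agent.H12AlgSp.UnivInj

set_option autoImplicit false
universe u
open CategoryTheory CategoryTheory.Limits AlgebraicGeometry Topology TopologicalSpace
open AlgSp

namespace Groth.Agent.S10496

open Groth.Agent.H12AlgSp Groth.Agent.H13AlgSp


/-- Let X be a decent algebraic space over a scheme S. For every irreducible closed subset T of |X|
there is an integral closed subspace Z of X with |Z| = T. -/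
theorem result {S : Scheme.{u}} (X : AlgSp.Space S)
    (hX : AlgSp.IsDecent X.obj) (T : Set (AlgSp.Points X.obj)) (hT : IsClosed T) (hTi : IsIrreducible T) :
    ∃ (Z : AlgSp.Space S) (i : Z ⟶ X), AlgSp.RepWith @IsClosedImmersion i.hom ∧ AlgSp.IsIntegralSp Z.obj ∧
      Set.range (AlgSp.Points.map i.hom) = T := by
  obtain ⟨Z, i, hZ, hi, hr, hred⟩ := exists_isRedInduced X.property hT
  have : Mono i := mono_of_repWith (fun _ _ j (_ : IsClosedImmersion j) => inferInstanceAs (Mono j)) hi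
  refine ⟨⟨Z, hZ⟩, ObjectProperty.homMk i, hi, ⟨hred, fun z => ?_, ?_⟩, hr⟩
  · obtain ⟨p, hp, hm, hqc⟩ := hX (AlgSp.Points.map i z)
    obtain ⟨W, snd, fst, sq⟩ := hi.rep p.toHom
    have : IsClosedImmersion snd.left := hi.property _ _ _ sq
    have hne : Nonempty W.left := by
      obtain ⟨w, -, -⟩ := exists_point_of_isPullback sq z (AlgSp.Points.ofScheme p.pt (IsLocalRing.closedPoint p.K))
        (by rw [← hp, ← AlgSp.Points.ofPt_eq_map_ofScheme, AlgSp.Points.ofPt_toHom p])
      obtain ⟨w, -⟩ := (AlgSp.Points.schemeEquiv W).surjective w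
      exact ⟨w⟩
    have : IsIso snd.left := isIso_of_mono_to_field snd.left
    have : IsIso ((Over.forget S).map snd) := inferInstanceAs (IsIso snd.left)
    have : IsIso snd := isIso_of_reflects_iso snd (Over.forget S)
    let l : (AlgSp.yon S).obj p.pt ⟶ Z := (AlgSp.yon S).map (inv snd) ≫ fst
    have hl : l ≫ i = p.toHom := by
      rw [Category.assoc, sq.w, ← Category.assoc, ← Functor.map_comp, IsIso.inv_hom_id,
        CategoryTheory.Functor.map_id, Category.id_comp]
    refine ⟨fieldPtOfHom (K := p.K) (str := p.str) l, injective_map_of_mono i ?_, ?_, ?_⟩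
    · rw [← hp, map_mk_fieldPtOfHom, hl]
      exact congrArg AlgSp.Points.mk (by cases p; simp [fieldPtOfHom, AlgSp.FieldPt.toHom])
    · rw [toHom_fieldPtOfHom]
      have : Mono (l ≫ i) := hl ▸ hm
      exact mono_of_mono l i
    · rw [toHom_fieldPtOfHom]
      exact repWith_of_isPullback (IsPullback.of_horiz_isIso_mono (fst := 𝟙 _) (snd := l) (f := p.toHom) (g := i)
        ⟨by rw [Category.id_comp, hl]⟩) hqc
  · have he := (isEmbedding_of_immersion X.property i (repWith_le (fun _ _ g (_ : IsClosedImmersion g) =>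
      inferInstanceAs (IsImmersion g)) hi))
    refine @IrreducibleSpace.mk _ _ ⟨?_⟩ ?_
    · rintro O O' hu hv ⟨x, -, hx⟩ ⟨y, -, hy⟩
      obtain ⟨u', hu', rfl⟩ := he.1.isInducing.isOpen_iff.1 hu
      obtain ⟨v', hv', rfl⟩ := he.1.isInducing.isOpen_iff.1 hv
      obtain ⟨w, hwT, hwu, hwv⟩ := hTi.2 u' v' hu' hv' ⟨_, hr.le ⟨x, rfl⟩, hx⟩ ⟨_, hr.le ⟨y, rfl⟩, hy⟩
      obtain ⟨z, rfl⟩ := hr.ge hwT
      exact ⟨z, trivial, hwu, hwv⟩
    · obtain ⟨x, hx⟩ := hTi.1
      obtain ⟨z, -⟩ := hr.ge hx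
      exact ⟨z⟩

end Groth.Agent.S10496
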