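import Groth.Statements.S10497
import Groth.Agent.H13AlgSp.GeomRedBC

set_option autoImplicit false
universe u
open CategoryTheory CategoryTheory.Limits AlgebraicGeometry Topology TopologicalSpace
open AlgSp

namespace Groth.Agent.S10497

open AlgSp Groth.Agent.H12AlgSp Groth.Agent.H13AlgSp


/-- Let k be a field and X a decent algebraic space over k. Then all base changes X_K to field
extensions K of k are integral exactly when X is geometrically reduced over k and every |X_K| is
irreducible. -/
theorem result (k : Type u) [Field k] (X : AlgSp.Space (Spec (CommRingCat.of k))) (hX : AlgSp.IsDecent X.obj) :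
    (∀ (K : Type u) [Field K] [Algebra k K], AlgSp.IsIntegralSp (X.obj ⨯ (AlgSp.yon (Spec (CommRingCat.of k))).obj (Over.mk (Spec.map (CommRingCat.ofHom (algebraMap k K)))))) ↔
      (∀ x : AlgSp.Points X.obj, (∃ (U : Over (Spec (CommRingCat.of k))) (a : (AlgSp.yon (Spec (CommRingCat.of k))).obj U ⟶ X.obj) (u : ↥U.left),
      AlgSp.RepWith @Etale a ∧ AlgSp.Points.ofPt a u = x ∧ FBase.IsGeomReducedAt U.hom u)) ∧
        ∀ (K : Type u) [Field K] [Algebra k K], IrreducibleSpace (AlgSp.Points (X.obj ⨯ (AlgSp.yon (Spec (CommRingCat.of k))).obj (Over.mk (Spec.map (CommRingCat.ofHom (algebraMap k K)))))) := by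
  refine ⟨fun h => ⟨(geomRed_iff_forall_bc X.property).2 fun K _ _ => (h K).1, fun K _ _ => (h K).2.2⟩,
    fun h K _ _ => ⟨(geomRed_iff_forall_bc X.property).1 h.1 K, isDecent_bcSp X.obj K X.property hX, h.2 K⟩⟩

end Groth.Agent.S10497
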