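import Groth.Statements.S10498
import Groth.Agent.H9Hens.StrictHens
import Groth.Agent.H9Hens.PtBase
import Groth.Agent.H9Hens.BranchCore
import Groth.Agent.H9Hens.PtReduced
import Mathlib.RingTheory.Flat.FaithfullyFlat.Algebra
-- import your own Groth.Agent.* helpers here

set_option autoImplicit false
universe u
open TensorProduct
open Hensel

namespace Groth.Agent.S10498

open TensorProduct in
theorem isReduced_baseChange {A : Type u} [CommRing A] {k : Type u} [CommRing k] [Algebra A k]
    {H : Type u} [CommRing H] [Algebra A H] {π : H →ₐ[A] k} (hH : H9Hens.IsPtColim π)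
    (Q : Type u) [CommRing Q] [Algebra A Q] [IsReduced Q] : IsReduced (H ⊗[A] Q) := by
  refine ⟨fun z ⟨n, hn⟩ => ?_⟩
  obtain ⟨S, _, _, _, φ, w, rfl⟩ := hH.exists_rep_tensor z
  let : Algebra S H := φ.toRingHom.toAlgebra
  have : IsScalarTower A S H := IsScalarTower.of_algebraMap_eq fun a => (φ.commutes a).symm
  have : Module.Flat S H := hH.flat_of_etale S
  have : IsReduced (Q ⊗[A] S) := H02CA.isReduced_of_smooth Q (Q ⊗[A] S)
  have : IsReduced (S ⊗[A] Q) := isReduced_of_injective (Algebra.TensorProduct.comm A S Q)
    (Algebra.TensorProduct.comm A S Q).injective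
  let B := S ⊗[A] Q
  let ι : B →+* H ⊗[S] B := (Algebra.TensorProduct.includeRight (R := S) (A := H) (B := B)).toRingHom
  let e : H ⊗[S] B ≃+* H ⊗[A] Q := (Algebra.TensorProduct.cancelBaseChange A S S H Q).toRingEquiv
  have key : ∀ b, e (ι b) = Algebra.TensorProduct.map φ (AlgHom.id A Q) b := fun b => by
    induction b using TensorProduct.induction_on with
    | zero => simp
    | add x y hx hy => simp only [map_add, hx, hy]
    | tmul s q =>
      show Algebra.TensorProduct.cancelBaseChange A S S H Q (1 ⊗ₜ (s ⊗ₜ q)) = _
      rw [Algebra.TensorProduct.cancelBaseChange_tmul, Algebra.TensorProduct.map_tmul,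
        Algebra.smul_def, mul_one]
      rfl
  rw [← key] at hn ⊢
  have h0 : ι (w ^ n) = 0 := e.injective (by rw [map_pow, map_pow, hn, map_zero])
  let N : Submodule S B := LinearMap.ker (LinearMap.mulRight S (w ^ n))
  have hex : Function.Exact N.subtype (LinearMap.mulRight S (w ^ n)) := LinearMap.exact_subtype_ker_map _
  obtain ⟨t, ht⟩ := ((Module.Flat.lTensor_exact H hex) ((1 : H) ⊗ₜ (1 : B))).mp (by
    rw [LinearMap.lTensor_tmul, LinearMap.mulRight_apply, one_mul]; exact h0)
  have hmul : ∀ t : H ⊗[S] N, N.subtype.lTensor H t * ι w = 0 := fun t => by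
    induction t using TensorProduct.induction_on with
    | zero => simp
    | add x y hx hy => rw [map_add, add_mul, hx, hy, add_zero]
    | tmul h b =>
      have hb : (b : B) * w ^ n = 0 := b.2
      have hbw : (b : B) * w = 0 := IsReduced.eq_zero _ ⟨n + 1, by
        linear_combination ((b : B) ^ n * w) * hb⟩
      show h ⊗ₜ[S] (b : B) * ((1 : H) ⊗ₜ[S] w) = 0
      rw [Algebra.TensorProduct.tmul_mul_tmul, hbw, TensorProduct.tmul_zero]
  have := hmul t
  rw [ht, ← Algebra.TensorProduct.one_def, one_mul] at this
  rw [this, map_zero]
/-- (1) ⇔ (2): let k be a field, A a local k-algebra and R a strict henselization of A. Then A is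
geometrically reduced over k (K ⊗_k A reduced for every field extension K of k) if and only if R is
geometrically reduced over k. -/
theorem result (k : Type u) [Field k]
    (A : Type u) [CommRing A] [IsLocalRing A] [Algebra k A]
    (R : Type u) [CommRing R] [IsLocalRing R] [Algebra A R] [IsLocalHom (algebraMap A R)]
    [Hensel.IsStrictHenselization A R] [Algebra k R] [IsScalarTower k A R] :
    (∀ (K : Type u) [Field K] [Algebra k K], IsReduced (TensorProduct k K A)) ↔
      ∀ (K : Type u) [Field K] [Algebra k K], IsReduced (TensorProduct k K R) := by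
  obtain ⟨l, _, _, _, _, _, π, hπ⟩ := H9Hens.exists_isPtColim_of_isStrictHenselization (R := A) R
  have : Module.Flat A R := hπ.flat
  have : Module.FaithfullyFlat A R := Module.FaithfullyFlat.of_flat_of_isLocalHom
  refine forall₂_congr fun K _ => forall_congr' fun _ => ?_
  let Q := TensorProduct k A K
  let e : TensorProduct A R Q ≃+* TensorProduct k R K :=
    (Algebra.TensorProduct.cancelBaseChange k A A R K).toRingEquiv
  let eA : TensorProduct k K A ≃+* Q := (Algebra.TensorProduct.comm k K A).toRingEquiv
  let eR : TensorProduct k K R ≃+* TensorProduct A R Q :=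
    (Algebra.TensorProduct.comm k K R).toRingEquiv.trans e.symm
  constructor
  · intro h
    have : IsReduced Q := isReduced_of_injective eA.symm eA.symm.injective
    suffices IsReduced (TensorProduct A R Q) from isReduced_of_injective eR eR.injective
    exact isReduced_baseChange hπ Q
  · intro h
    have : IsReduced (TensorProduct A R Q) := isReduced_of_injective eR.symm eR.symm.injective
    have : IsReduced Q := isReduced_of_injective
      (Algebra.TensorProduct.includeRight (R := A) (A := R) (B := Q))
      (Module.FaithfullyFlat.tensorProduct_mk_injective Q)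
    exact isReduced_of_injective eA eA.injective

end Groth.Agent.S10498
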