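import Groth.Statements.S10500
import Groth.Agent.H13AlgSp.IntegralGenFinite

set_option autoImplicit false
universe u
open CategoryTheory CategoryTheory.Limits AlgebraicGeometry Topology TopologicalSpace
open AlgSp

namespace Groth.Agent.S10500

/-- Let X and Y be integral algebraic spaces over a scheme S with generic points x and y, and f : X ⟶ Y
a morphism which is proper and dominant. Then f is an alteration (finite over some nonempty open
subspace of Y) if and only if x is the only point of X mapping to y. -/
theorem result {S : Scheme.{u}} {X Y : AlgSp.Space S}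
    (hXi : AlgSp.IsIntegralSp X.obj) (hYi : AlgSp.IsIntegralSp Y.obj) (f : X ⟶ Y) (hp : AlgSp.IsProperMor f.hom)
    (hd : AlgSp.IsDominantMor f.hom)
    (x : AlgSp.Points X.obj) (hx : IsGenericPoint x (Set.univ : Set (AlgSp.Points X.obj)))
    (y : AlgSp.Points Y.obj) (hy : IsGenericPoint y (Set.univ : Set (AlgSp.Points Y.obj))) :
    (∃ (V : AlgSp.Space S) (j : V ⟶ Y), AlgSp.RepWith @IsOpenImmersion j.hom ∧ Nonempty (AlgSp.Points V.obj) ∧
      ∀ (P : AlgSp.Space S) (fst : P ⟶ V) (snd : P ⟶ X), IsPullback fst.hom snd.hom j.hom f.hom →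
        AlgSp.IsFiniteMor fst.hom) ↔ (∀ x' : AlgSp.Points X.obj, AlgSp.Points.map f.hom x' = y → x' = x) := by
  exact Groth.Agent.H13AlgSp.GenFinite.alteration_iff hXi hYi f hp hd hx hy

end Groth.Agent.S10500
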