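import Groth.Statements.S10507
import Groth.Agent.H13AlgSp.LocPDescent

set_option autoImplicit false
universe u
open CategoryTheory CategoryTheory.Limits AlgebraicGeometry
open AlgSp

namespace Groth.Agent.S10507

/-- If `{X_i ⟶ X}` is an fpqc covering of the algebraic space `X` by algebraic spaces and each `X_i` has
an fpqc covering `{X_ij ⟶ X_i}` by algebraic spaces, then the composites `X_ij ⟶ X_i ⟶ X`, indexed
by the pairs `(i, j)`, form an fpqc covering of `X`. -/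
theorem result {S : Scheme.{u}} (X : AlgSp.Space S) {ι : Type u}
    (Xi : ι → AlgSp.Space S) (g : ∀ i, Xi i ⟶ X) (κ : ι → Type u) (Xij : ∀ i, κ i → AlgSp.Space S)
    (gij : ∀ i j, Xij i j ⟶ Xi i)
    (h : AlgSp.IsFpqcCover (fun i => (Xi i).obj) (fun i => (g i).hom))
    (hij : ∀ i, AlgSp.IsFpqcCover (fun j => (Xij i j).obj) (fun j => (gij i j).hom)) :
    AlgSp.IsFpqcCover (fun r : Σ i, κ i => (Xij r.1 r.2).obj) (fun r => (gij r.1 r.2 ≫ g r.1).hom) := by
  refine ⟨fun r => Groth.Agent.H13AlgSp.locP_comp (Xij r.1 r.2).property (Xi r.1).property X.property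
    ((hij r.1).1 r.2) (h.1 r.1), fun Z hZ x => ?_⟩
  obtain ⟨m, W, c, h1, h2, h3, h4⟩ := h.2 Z hZ x
  choose i l hl using h4
  choose n W' c' h1' h2' h3' h4' using fun j => (hij (i j)).2 (W j) (h1 j) (l j)
  let e := Fintype.equivFin (Σ j, Fin (n j))
  refine ⟨Fintype.card (Σ j, Fin (n j)), fun r => W' (e.symm r).1 (e.symm r).2,
    fun r => c' (e.symm r).1 (e.symm r).2 ≫ c (e.symm r).1, fun r => h1' _ _, fun r => ?_, fun z => ?_,
    fun r => ?_⟩
  · have := h2' (e.symm r).1 (e.symm r).2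
    have := h2 (e.symm r).1
    exact inferInstanceAs (Flat (_ ≫ _))
  · obtain ⟨j, w, rfl⟩ := h3 z
    obtain ⟨k, w', rfl⟩ := h3' j w
    refine ⟨e ⟨j, k⟩, ?_⟩
    beta_reduce
    rw [Equiv.symm_apply_apply]
    exact ⟨w', Scheme.Hom.comp_apply _ _ _⟩
  · obtain ⟨b, l', hl'⟩ := h4' (e.symm r).1 (e.symm r).2
    refine ⟨⟨i (e.symm r).1, b⟩, l', ?_⟩
    change l' ≫ (gij _ b).hom ≫ (g _).hom = _
    rw [reassoc_of% hl', Functor.map_comp, Category.assoc, hl]

end Groth.Agent.S10507
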