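import Groth.Statements.S10508
import Groth.Agent.H12AlgSp.AffineMor

set_option autoImplicit false
universe u
open CategoryTheory CategoryTheory.Limits AlgebraicGeometry
open AlgSp

namespace Groth.Agent.S10508

open Groth.Agent.H12AlgSp


/-- Let `X` be an algebraic space over `S`, `{X_i ⟶ X}` a family of morphisms of algebraic spaces and
`h_U ⟶ X` a representable etale, representable surjective map from a scheme `U` over `S`, with
pullback squares of sheaves exhibiting algebraic spaces `U_i` as `U ×_X X_i`. Then `{X_i ⟶ X}` is an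
fpqc covering of `X` if and only if `{U_i ⟶ h_U}` is an fpqc covering of `h_U`. -/
theorem result {S : Scheme.{u}} (X : AlgSp.Space S) {ι : Type u}
    (Xi : ι → AlgSp.Space S) (g : ∀ i, Xi i ⟶ X) {U : Over S} (p : (AlgSp.yon S).obj U ⟶ X.obj)
    (hp : AlgSp.RepWith @Etale p) (hps : AlgSp.RepWith @Surjective p)
    (Ui : ι → AlgSp.Space S) (q : ∀ i, (Ui i).obj ⟶ (AlgSp.yon S).obj U) (p' : ∀ i, Ui i ⟶ Xi i)
    (sq : ∀ i, IsPullback (q i) (p' i).hom p (g i).hom) :
    AlgSp.IsFpqcCover (fun i => (Xi i).obj) (fun i => (g i).hom) ↔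
      AlgSp.IsFpqcCover (fun i => (Ui i).obj) q := by
  refine ⟨fun h => ⟨fun i => locP_of_isPullback etLocal_flat (sq i).flip (Xi i).property X.property
      (AlgSp.IsAlgSpace.yon_obj U) (h.1 i), fun Z hZ a => ?_⟩,
    fun h => ⟨fun i => locP_of_target_cover etLocal_flat (Xi i).property X.property hp hps (sq i).flip (h.1 i),
      fun Z hZ a => ?_⟩⟩
  · obtain ⟨m, W, c, haff, hfl, hs, hl⟩ := h.2 Z hZ (a ≫ p)
    refine ⟨m, W, c, haff, hfl, hs, fun j => ?_⟩
    obtain ⟨i, l, hl'⟩ := hl j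
    exact ⟨i, (sq i).lift ((AlgSp.yon S).map (c j) ≫ a) l (by rw [Category.assoc]; exact hl'.symm), (sq i).lift_fst _ _ _⟩
  · obtain ⟨n, V, e, hVaff, hVfl, hVs, hVl⟩ := (isFpqcCover_of_etale_surjective hp hps).2 Z hZ a
    choose i₀ b hb using hVl
    choose m W c haff hfl hs hl using fun r => h.2 (V r) (hVaff r) (b r)
    obtain ⟨N, ⟨e'⟩⟩ := Finite.exists_equiv_fin (Σ r, Fin (m r))
    refine ⟨N, fun j => W (e'.symm j).1 (e'.symm j).2, fun j => c _ (e'.symm j).2 ≫ e _, fun j => haff _ _,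
      fun j => ?_, fun z => ?_, fun j => ?_⟩
    · have := hfl (e'.symm j).1 (e'.symm j).2
      have := hVfl (e'.symm j).1
      exact inferInstanceAs (Flat ((c _ (e'.symm j).2).left ≫ (e (e'.symm j).1).left))
    · obtain ⟨r, v, rfl⟩ := hVs z
      obtain ⟨t, w, rfl⟩ := hs r v
      refine ⟨e' ⟨r, t⟩, ?_⟩
      have key : ∀ σ : (Σ r, Fin (m r)), σ = ⟨r, t⟩ →
          (e r).left ((c r t).left w) ∈ Set.range (c σ.1 σ.2 ≫ e σ.1).left := by
        rintro σ rfl; exact ⟨w, rfl⟩
      exact key _ (Equiv.symm_apply_apply _ _)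
    · obtain ⟨i, l, hl'⟩ := hl (e'.symm j).1 (e'.symm j).2
      refine ⟨i, l ≫ (p' i).hom, ?_⟩
      rw [Category.assoc, ← (sq i).w, ← Category.assoc, hl', Category.assoc, hb, ← Category.assoc, ← Functor.map_comp]

end Groth.Agent.S10508
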