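import Groth.Statements.S10509
import Groth.Agent.H13AlgSp.SmoothSection
import Groth.Agent.H13AlgSp.LocalST
import Groth.Agent.H12AlgSp.RelDim

set_option autoImplicit false
universe u
open CategoryTheory CategoryTheory.Limits AlgebraicGeometry
open AlgSp

namespace Groth.Agent.S10509

/-- A smooth covering of an algebraic space `X` over `S` by algebraic spaces can be refined by an etale
covering of `X` by algebraic spaces: there is an etale covering `{U_j ⟶ X}` each member of which
factors through some member of the given smooth covering. -/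
theorem result {S : Scheme.{u}} (X : AlgSp.Space S) {ι : Type u}
    (Xi : ι → AlgSp.Space S) (g : ∀ i, Xi i ⟶ X)
    (h : AlgSp.IsSmCover (fun i => (Xi i).obj) (fun i => (g i).hom)) :
    ∃ (κ : Type u) (U : κ → AlgSp.Space S) (c : ∀ j, U j ⟶ X),
      AlgSp.IsEtCover (fun j => (U j).obj) (fun j => (c j).hom) ∧
      ∀ j, ∃ (i : ι) (r : U j ⟶ Xi i), r ≫ g i = c j := by
  obtain ⟨κ, xs, hxs⟩ := H13AlgSp.LocalST.exists_small_surjection X.property
  choose i y hy using fun k => h.2 (xs k)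
  choose A B a b m w ha hb hm hw using fun k => H12AlgSp.exists_chart_at (Xi (i k)).property X.property (g (i k)).hom (y k)
  have hsm : ∀ k, Smooth (m k).left := fun k => h.1 (i k) (a k) (b k) (m k) (ha k) (hb k) (hm k)
  choose U' e r he hre hmem using fun k =>
    haveI := hsm k
    H13AlgSp.SmoothSection.exists_etale_section (m k).left (w k)
  have hUstr : ∀ k, r k ≫ (A k).hom = e k ≫ (B k).hom := fun k => by
    rw [← Over.w (m k), ← Category.assoc, hre k]
  let eO : ∀ k, Over.mk (e k ≫ (B k).hom) ⟶ B k := fun k => Over.homMk (e k)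
  let rO : ∀ k, Over.mk (e k ≫ (B k).hom) ⟶ A k := fun k => Over.homMk (r k) (hUstr k)
  have hrm : ∀ k, rO k ≫ m k = eO k := fun k => Over.OverMorphism.ext (hre k)
  refine ⟨κ, fun k => ⟨(AlgSp.yon S).obj (Over.mk (e k ≫ (B k).hom)), IsAlgSpace.yon_obj _⟩,
    fun k => ObjectProperty.homMk ((AlgSp.yon S).map (eO k) ≫ b k), ⟨fun k => ?_, fun x => ?_⟩, fun k => ?_⟩
  · have : Etale (eO k).left := he k
    exact H13AlgSp.isEtaleMor_of_locP (IsAlgSpace.yon_obj _) X.property (H12AlgSp.locP_of_repWith H12AlgSp.etLocal_etale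
      (H12AlgSp.repWith_comp ((AlgSp.repWith_yon_map_iff _ _).2 (inferInstanceAs (Etale (eO k).left))) (hb k)))
  · obtain ⟨k, rfl⟩ := hxs x
    obtain ⟨p, hp⟩ := hmem k
    refine ⟨k, AlgSp.Points.ofPt ((𝟙 _) : (AlgSp.yon S).obj (Over.mk (e k ≫ (B k).hom)) ⟶ _) p, ?_⟩
    rw [AlgSp.Points.map_ofPt, Category.id_comp]
    show AlgSp.Points.ofPt ((AlgSp.yon S).map (eO k) ≫ b k) p = _
    rw [H12AlgSp.ofPt_map, ← hy k, ← hw k, AlgSp.Points.map_ofPt, hm k, H12AlgSp.ofPt_map]
    exact congrArg _ hp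
  · refine ⟨i k, ObjectProperty.homMk ((AlgSp.yon S).map (rO k) ≫ a k), ObjectProperty.hom_ext _ ?_⟩
    show ((AlgSp.yon S).map (rO k) ≫ a k) ≫ (g (i k)).hom = (AlgSp.yon S).map (eO k) ≫ b k
    rw [Category.assoc, hm k, ← Category.assoc, ← Functor.map_comp, hrm k]

end Groth.Agent.S10509
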