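import Groth.Statements.S1051
import Mathlib.CategoryTheory.Triangulated.Triangulated
import Mathlib.Algebra.Homology.HomologicalComplex

set_option autoImplicit false
universe v u
open CategoryTheory
open CohDer

namespace Groth.Agent.S1051

open CategoryTheory CategoryTheory.Limits CategoryTheory.Pretriangulated

variable {D : Type u} [Category.{v} D] [Preadditive D] [Limits.HasZeroObject D] [HasShift D ℤ]
  [∀ n : ℤ, (shiftFunctor D n).Additive] [Pretriangulated D]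

lemma eq_zero_of_lift {Y' X Y : D} {a : Y' ⟶ X} {b : X ⟶ Y}
    {c : Y ⟶ (shiftFunctor D (1 : ℤ)).obj Y'} (hT : Triangle.mk a b c ∈ distTriang D) {W : D}
    (φ : W ⟶ Y') (h : φ ≫ a = 0) (hW : ∀ ψ : (shiftFunctor D (1 : ℤ)).obj W ⟶ Y, ψ = 0) : φ = 0 := by
  apply (shiftFunctor D (1 : ℤ)).map_injective
  rw [Functor.map_zero]
  have h1 : (shiftFunctor D (1 : ℤ)).map φ ≫ (Triangle.mk a b c).rotate.rotate.mor₂ = 0 := by
    change (shiftFunctor D (1 : ℤ)).map φ ≫ (-(shiftFunctor D (1 : ℤ)).map a) = 0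
    rw [Preadditive.comp_neg, ← Functor.map_comp, h, Functor.map_zero, neg_zero]
  obtain ⟨ψ, hψ⟩ := Triangle.coyoneda_exact₂ _
    (rot_of_distTriang _ (rot_of_distTriang _ hT)) ((shiftFunctor D (1 : ℤ)).map φ) h1
  rw [hW ψ] at hψ
  exact hψ.trans zero_comp

structure St (X : ChainComplex D ℕ) (n k : ℕ) where
  Y : D
  a : Y ⟶ X.X k
  b : X.X (k + 1) ⟶ Y
  hb : k < n → b ≫ a = X.d (k + 1) k
  V : ∀ i : ℕ, k + 2 < i → i ≤ n →
    ∀ φ : (shiftFunctor D ((i : ℤ) - k - 2)).obj (X.X i) ⟶ Y, φ = 0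
  W : k + 2 ≤ n → X.d (k + 2) (k + 1) ≫ b = 0

variable (X : ChainComplex D ℕ) (n : ℕ)
  (hX : ∀ i j : ℕ, j + 2 < i → i ≤ n →
    ∀ φ : (shiftFunctor D ((i : ℤ) - j - 2)).obj (X.X i) ⟶ X.X j, φ = 0)

include hX in
lemma exists_next (k : ℕ) (S : St X n k) :
    ∃ (T : St X n (k + 1)) (c : S.Y ⟶ (shiftFunctor D (1 : ℤ)).obj T.Y),
      Triangle.mk T.a S.b c ∈ distTriang D := by
  obtain ⟨Y', a', c, hT⟩ := distinguished_cocone_triangle₁ S.b
  have hb' : ∃ b' : X.X (k + 2) ⟶ Y', k + 1 < n → b' ≫ a' = X.d (k + 2) (k + 1) := by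
    by_cases hk : k + 2 ≤ n
    · obtain ⟨b', hb'⟩ := Triangle.coyoneda_exact₂ _ hT (X.d (k + 2) (k + 1)) (S.W hk)
      exact ⟨b', fun _ => hb'.symm⟩
    · exact ⟨0, fun h => absurd h (by lia)⟩
  obtain ⟨b', hb'⟩ := hb'
  refine ⟨⟨Y', a', b', hb', fun i hi hin φ => ?_, fun hk => ?_⟩, c, hT⟩
  · refine eq_zero_of_lift hT φ (hX i (k + 1) hi hin _) fun ψ => ?_
    let e := (shiftFunctorAdd' D ((i : ℤ) - (k + 1 : ℕ) - 2) 1 ((i : ℤ) - k - 2)
      (by push_cast; ring)).app (X.X i)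
    rw [← cancel_epi e.hom, comp_zero]
    exact S.V i (by lia) hin _
  · refine eq_zero_of_lift hT (X.d (k + 1 + 2) (k + 1 + 1) ≫ b') ?_ fun ψ => ?_
    · rw [Category.assoc, hb' (by lia)]
      exact X.d_comp_d _ _ _
    · let e := (shiftFunctor D (((k + 3 : ℕ) : ℤ) - k - 2)).obj (X.X (k + 3))
      have he : ((k + 3 : ℕ) : ℤ) - k - 2 = 1 := by push_cast; ring
      let e' := eqToIso (congrArg (fun m => (shiftFunctor D m).obj (X.X (k + 3))) he)
      rw [← cancel_epi e'.hom, comp_zero]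
      exact S.V (k + 3) (by lia) (by lia) _

open CategoryTheory.Pretriangulated in
/-- Let X be a chain complex in a triangulated category D and n a natural number; consider the finite
complex Xₙ → Xₙ₋₁ → … → X₀. If every morphism Xᵢ[i - j - 2] ⟶ Xⱼ with j + 2 < i ≤ n vanishes, then
there is a Postnikov system for it: objects Yₖ (k ≤ n), an isomorphism Y₀ ⟶ X₀, and for each k < n a
distinguished triangle Yₖ₊₁ ⟶ Xₖ₊₁ ⟶ Yₖ ⟶ Yₖ₊₁[1] such that Xₖ₊₁ ⟶ Yₖ ⟶ Xₖ is the differential of X. -/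
theorem result {D : Type u} [Category.{v} D] [Preadditive D] [Limits.HasZeroObject D] [HasShift D ℤ]
    [∀ n : ℤ, (shiftFunctor D n).Additive] [Pretriangulated D] [IsTriangulated D]
    (X : ChainComplex D ℕ) (n : ℕ)
    (hX : ∀ i j : ℕ, j + 2 < i → i ≤ n → ∀ φ : (shiftFunctor D ((i : ℤ) - j - 2)).obj (X.X i) ⟶ X.X j, φ = 0) :
    ∃ (Y : ℕ → D) (a : ∀ k, Y k ⟶ X.X k) (b : ∀ k, X.X (k + 1) ⟶ Y k) (c : ∀ k, Y k ⟶ (shiftFunctor D (1 : ℤ)).obj (Y (k + 1))),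
      IsIso (a 0) ∧ ∀ k, k < n → Triangle.mk (a (k + 1)) (b k) (c k) ∈ distinguishedTriangles ∧ b k ≫ a k = X.d (k + 1) k := by
  let S0 : St X n 0 :=
    { Y := X.X 0
      a := 𝟙 _
      b := X.d 1 0
      hb := fun _ => Category.comp_id _
      V := fun i hi hin φ => hX i 0 hi hin φ
      W := fun _ => X.d_comp_d _ _ _ }
  choose nx c hc using fun k (S : St X n k) => exists_next X n hX k S
  let S : ∀ k, St X n k := fun k => Nat.rec S0 (fun k S => nx k S) k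
  exact ⟨fun k => (S k).Y, fun k => (S k).a, fun k => (S k).b, fun k => c k (S k),
    inferInstanceAs (IsIso (𝟙 (X.X 0))), fun k hk => ⟨hc k (S k), (S k).hb hk⟩⟩

end Groth.Agent.S1051
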