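import Groth.Statements.S10510
import Groth.Agent.H13AlgSp.FpqcIso

set_option autoImplicit false
universe u
open CategoryTheory CategoryTheory.Limits AlgebraicGeometry
open AlgSp

namespace Groth.Agent.S10510

/-- An fppf covering `{X_i ⟶ X}` of an algebraic space `X` over `S` by algebraic spaces is jointly
surjective as a family of maps of fppf sheaves: every `h_T ⟶ X` from a scheme `T` over `S` lifts,
locally for the fppf topology on `T`, through members of the family. -/
theorem result {S : Scheme.{u}} (X : AlgSp.Space S) {ι : Type u}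
    (Xi : ι → AlgSp.Space S) (g : ∀ i, Xi i ⟶ X)
    (h : AlgSp.IsFppfCover (fun i => (Xi i).obj) (fun i => (g i).hom))
    (T : Over S) (t : (AlgSp.yon S).obj T ⟶ X.obj) :
    ∃ (κ : Type u) (Tk : κ → Over S) (c : ∀ k, Tk k ⟶ T),
      Sieve.ofArrows Tk c ∈ AlgSp.J S T ∧
      ∀ k, ∃ (i : ι) (l : (AlgSp.yon S).obj (Tk k) ⟶ (Xi i).obj), l ≫ (g i).hom = (AlgSp.yon S).map (c k) ≫ t := by
  have sqR := fun i => IsPullback.of_hasPullback (g i).hom t
  have hR := fun i => Groth.Agent.H12AlgSp.isAlgSpace_of_isPullback X.property.diag (Xi i).property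
    (IsAlgSpace.yon_obj T) (sqR i)
  choose C d hde hds using fun i => (hR i).atlas
  choose c hc using fun i => (AlgSp.yon S).map_surjective (d i ≫ pullback.snd (g i).hom t)
  have hflat := fun i => Groth.Agent.H13AlgSp.etaleFibre_of_locP (Xi i).property X.property (h.1 i).1
    t _ _ (sqR i) (d i) (c i) (hde i) (hc i).symm
  have hlfp := fun i => Groth.Agent.H13AlgSp.etaleFibre_of_locP (Xi i).property X.property (h.1 i).2
    t _ _ (sqR i) (d i) (c i) (hde i) (hc i).symm
  refine ⟨ι, C, c, Groth.Agent.H13AlgSp.ofArrows_mem_J c hflat hlfp (fun z => ?_),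
    fun i => ⟨i, d i ≫ pullback.fst (g i).hom t, by rw [hc, Category.assoc, Category.assoc, (sqR i).w]⟩⟩
  obtain ⟨i, y, hy⟩ := h.2 (Points.ofPt t z)
  obtain ⟨r, -, hr⟩ := Groth.Agent.H12AlgSp.exists_point_of_isPullback (sqR i) y (Points.ofScheme T z)
    (by rw [hy, ← Points.ofPt_eq_map_ofScheme])
  obtain ⟨w, rfl⟩ := Groth.Agent.H12AlgSp.surjective_ofPt_of_repWith le_rfl (hds i) r
  refine ⟨i, w, (Points.schemeEquiv T).injective (Eq.trans ?_ hr)⟩
  rw [Points.map_ofPt, ← hc, ← Category.comp_id ((AlgSp.yon S).map (c i)),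
    Groth.Agent.H12AlgSp.ofPt_map]
  rfl

end Groth.Agent.S10510
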