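import Groth.Statements.S10511
import Groth.Agent.H13AlgSp.Bootstrap

set_option autoImplicit false
universe u
open CategoryTheory CategoryTheory.Limits AlgebraicGeometry
open AlgSp

namespace Groth.Agent.S10511

/-- Let `X` be an algebraic space over `S` and `P` a property of sheaves over `X` such that, for every
algebraic space `U` over `X` and every fppf covering `{U_i ⟶ U}` by algebraic spaces, `P` holds for
`U` as soon as it holds for all the iterated fibre products `U_{i_0} ×_U ⋯ ×_U U_{i_n}` (`n ≥ 0`,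
taken in fppf sheaves) over `X`. If `P` holds for every sheaf over `X` that is isomorphic to an
affine scheme and flat and locally of finite presentation over `X`, then `P` holds for `X`. -/
theorem result {S : Scheme.{u}} (X : AlgSp.Space S)
    (P : ∀ ⦃U : AlgSp.Sp S⦄, (U ⟶ X.obj) → Prop)
    (hP : ∀ ⦃U : AlgSp.Sp S⦄ (a : U ⟶ X.obj), AlgSp.IsAlgSpace U →
      ∀ ⦃ι : Type u⦄ (Ui : ι → AlgSp.Sp S) (g : ∀ i, Ui i ⟶ U), (∀ i, AlgSp.IsAlgSpace (Ui i)) →
      AlgSp.IsFppfCover Ui g →
      (∀ (n : ℕ) (c : Fin (n + 1) → ι),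
        P (WidePullback.base (fun k : Fin (n + 1) => g (c k)) ≫ a)) → P a)
    (haff : ∀ ⦃U : AlgSp.Sp S⦄ (a : U ⟶ X.obj) (T : Over S) (e : U ≅ (AlgSp.yon S).obj T), IsAffine T.left →
      AlgSp.LocP @Flat a → AlgSp.LocP @LocallyOfFinitePresentation a → P a) :
    P (𝟙 X.obj) := by
  classical
  have hloc : ∀ {A B : AlgSp.Sp S} {g : A ⟶ B}, AlgSp.RepWith @Etale g →
      AlgSp.LocP @Flat g ∧ AlgSp.LocP @LocallyOfFinitePresentation g := fun {A B g} hg =>
    ⟨H12AlgSp.locP_of_repWith H12AlgSp.etLocal_flat (H12AlgSp.repWith_le H12AlgSp.etLocal_flat.etale_le hg),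
      H12AlgSp.locP_of_repWith H12AlgSp.etLocal_lfp (H12AlgSp.repWith_le H12AlgSp.etLocal_lfp.etale_le hg)⟩
  have key : ∀ (Cls : ∀ T : Over S, T.left.Opens → Prop), (∀ (T : Over S) (O : T.left.Opens),
      Cls T O → ∀ ⦃U : AlgSp.Sp S⦄ (a : U ⟶ X.obj), Nonempty (U ≅ (AlgSp.yon S).obj (H13AlgSp.openOver T O)) →
        AlgSp.LocP @Flat a → AlgSp.LocP @LocallyOfFinitePresentation a → P a) →
      ∀ (T : Over S) {ι : Type u} (O : ι → T.left.Opens), (∀ t, ∃ i, t ∈ O i) →
        (∀ (n : ℕ) (c : Fin (n + 1) → ι),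
          Cls T ⟨⋂ k, (O (c k) : Set T.left), isOpen_iInter_of_finite fun k => (O (c k)).isOpen⟩) →
        ∀ ⦃U : AlgSp.Sp S⦄ (a : U ⟶ X.obj) (_ : U ≅ (AlgSp.yon S).obj T),
          AlgSp.LocP @Flat a → AlgSp.LocP @LocallyOfFinitePresentation a → P a := by
    intro Cls hC T ι O hO hcls U a e hf hfp
    have hU : AlgSp.IsAlgSpace U := (IsAlgSpace.yon_obj T).of_iso e.symm
    have het : ∀ (O : T.left.Opens),
        AlgSp.RepWith @Etale ((AlgSp.yon S).map (H13AlgSp.openIncl T O) ≫ e.inv) := fun O =>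
      H12AlgSp.repWith_comp (H12AlgSp.repWith_le (fun _ _ k (_ : IsOpenImmersion k) => inferInstanceAs (Etale k))
        (H13AlgSp.Bootstrap.repWith_openIncl O)) (H12AlgSp.repWith_of_isIso _)
    refine hP a hU (fun i => (AlgSp.yon S).obj (H13AlgSp.openOver T (O i)))
      (fun i => (AlgSp.yon S).map (H13AlgSp.openIncl T (O i)) ≫ e.inv) (fun i => IsAlgSpace.yon_obj _)
      ⟨fun i => hloc (het _), fun x => ?_⟩ fun n c => ?_
    · obtain ⟨i, hi⟩ := hO (AlgSp.Points.toScheme T (AlgSp.Points.map e.hom x))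
      refine ⟨i, AlgSp.Points.ofScheme (H13AlgSp.openOver T (O i)) ⟨_, hi⟩, ?_⟩
      rw [AlgSp.Points.map_comp, ← AlgSp.Points.ofPt_eq_map_ofScheme]
      have : AlgSp.Points.ofPt ((AlgSp.yon S).map (H13AlgSp.openIncl T (O i))) (⟨_, hi⟩ : (O i).toScheme) =
          AlgSp.Points.map e.hom x := by
        refine (AlgSp.Points.ofScheme_toScheme T _).symm.trans
          ((congrArg (AlgSp.Points.ofScheme T) ?_).trans (AlgSp.Points.ofScheme_toScheme T _))
        rw [AlgSp.Points.toScheme_ofPt]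
        rfl
      rw [this, ← AlgSp.Points.map_comp, Iso.hom_inv_id, AlgSp.Points.map_id]
    · obtain ⟨η, hη⟩ := H13AlgSp.Bootstrap.nonempty_iso_inter e (fun k => O (c k))
      let g := fun k : Fin (n + 1) => (AlgSp.yon S).map (H13AlgSp.openIncl T (O (c k))) ≫ e.inv
      have hb : WidePullback.base g =
          WidePullback.π g (0 : Fin (n + 1)) ≫ (AlgSp.yon S).map (H13AlgSp.openIncl T (O (c 0))) ≫ e.inv :=
        (WidePullback.π_arrow g (0 : Fin (n + 1))).symm
      have hW := (IsAlgSpace.yon_obj (H13AlgSp.openOver T _)).of_iso η.symm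
      have hbase : ∀ {Q : MorphismProperty Scheme.{u}}, H12AlgSp.EtLocal Q → AlgSp.LocP Q a →
          AlgSp.LocP Q (WidePullback.base g ≫ a) := by
        intro Q hQ ha
        have := hQ.baseChange
        refine H12AlgSp.locP_comp hQ hW hU X.property ?_ ha
        refine H12AlgSp.locP_of_repWith hQ (H12AlgSp.repWith_le hQ.etale_le ?_)
        rw [hb]
        refine H12AlgSp.repWith_comp ?_ (het _)
        refine H12AlgSp.repWith_le (fun _ _ k (_ : IsOpenImmersion k) => inferInstanceAs (Etale k)) ?_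
        haveI := H12AlgSp.mono_of_openImmersion (H13AlgSp.Bootstrap.repWith_openIncl (O (c 0)))
        obtain ⟨l, hl⟩ : ∃ l, WidePullback.π g (0 : Fin (n + 1)) = η.hom ≫ (AlgSp.yon S).map l :=
          ⟨(AlgSp.yon S).preimage (η.inv ≫ WidePullback.π g (0 : Fin (n + 1))), by simp⟩
        rw [hl]
        refine H12AlgSp.repWith_comp (H12AlgSp.repWith_of_isIso _) ((AlgSp.repWith_yon_map_iff _ _).2 ?_)
        have hl2 : l ≫ H13AlgSp.openIncl T (O (c 0)) = H13AlgSp.openIncl T _ := (AlgSp.yon S).map_injective (by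
          rw [Functor.map_comp, ← cancel_epi η.hom, ← reassoc_of% hl]
          rw [hη, ← cancel_mono e.inv]
          simp only [Category.assoc, Iso.hom_inv_id, Category.comp_id]
          exact WidePullback.π_arrow g (0 : Fin (n + 1)))
        haveI : IsOpenImmersion (l.left ≫ (H13AlgSp.openIncl T (O (c 0))).left) := by
          rw [← Over.comp_left, hl2]
          exact inferInstanceAs (IsOpenImmersion (Scheme.Opens.ι _))
        haveI : IsOpenImmersion (H13AlgSp.openIncl T (O (c 0))).left := inferInstanceAs (IsOpenImmersion (O (c 0)).ι)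
        exact IsOpenImmersion.of_comp l.left (H13AlgSp.openIncl T (O (c 0))).left
      exact hC T _ (hcls n c) _ ⟨η⟩ (hbase H12AlgSp.etLocal_flat hf) (hbase H12AlgSp.etLocal_lfp hfp)
  have hsep : ∀ (T : Over S), T.left.IsSeparated → ∀ ⦃U : AlgSp.Sp S⦄ (a : U ⟶ X.obj)
      (_ : U ≅ (AlgSp.yon S).obj T), AlgSp.LocP @Flat a → AlgSp.LocP @LocallyOfFinitePresentation a → P a :=
    fun T hT => key (fun T O => IsAffineOpen O) (fun T O hO U a ⟨e⟩ => haff a _ e hO) T
      (fun i : T.left.affineOpens => i.1) (fun t => by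
        obtain ⟨W, hW, ht, -⟩ := TopologicalSpace.Opens.isBasis_iff_nbhd.mp T.left.isBasis_affineOpens
          (TopologicalSpace.Opens.mem_top t)
        exact ⟨⟨W, hW⟩, ht⟩)
      fun n c => @H13AlgSp.Bootstrap.isAffineOpen_iInter _ hT _ _ fun k => (c k).2
  have hsch : ∀ (T : Over S) ⦃U : AlgSp.Sp S⦄ (a : U ⟶ X.obj)
      (_ : U ≅ (AlgSp.yon S).obj T), AlgSp.LocP @Flat a → AlgSp.LocP @LocallyOfFinitePresentation a → P a :=
    fun T => key (fun T O => O.toScheme.IsSeparated) (fun T O hO U a ⟨e⟩ => hsep _ hO a e) T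
      (fun i : T.left.affineOpens => i.1) (fun t => by
        obtain ⟨W, hW, ht, -⟩ := TopologicalSpace.Opens.isBasis_iff_nbhd.mp T.left.isBasis_affineOpens
          (TopologicalSpace.Opens.mem_top t)
        exact ⟨⟨W, hW⟩, ht⟩)
      fun n c => by
        haveI : IsAffine (c 0).1.toScheme := (c 0).2
        let l := T.left.homOfLE (show (⟨⋂ k, ((c k).1 : Set T.left),
          isOpen_iInter_of_finite fun k => (c k).1.isOpen⟩ : T.left.Opens) ≤ (c 0).1 from
            Set.iInter_subset (fun k => ((c k).1 : Set T.left)) 0)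
        refine ⟨?_⟩
        rw [← terminal.comp_from l]
        infer_instance
  obtain ⟨U, p, hp, hps⟩ := X.property.atlas
  refine hP (𝟙 X.obj) X.property (ι := PUnit.{u + 1}) (fun _ => (AlgSp.yon S).obj U) (fun _ => p)
    (fun _ => IsAlgSpace.yon_obj U) ⟨fun _ => hloc hp, fun x => ?_⟩ fun n c => ?_
  · obtain ⟨u, rfl⟩ := H12AlgSp.surjective_ofPt_of_repWith le_rfl hps x
    exact ⟨⟨⟩, H12AlgSp.ofPt_mem_range p u⟩
  · obtain ⟨T, t, q, ht, hq, hu⟩ := H13AlgSp.Bootstrap.exists_iter_atlas hp n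
    let g := fun _ : Fin (n + 1) => p
    obtain ⟨fw, hfw, -⟩ := hu (WidePullback.base g) (fun k => WidePullback.π g k) (fun k => WidePullback.π_arrow g k)
    let bk : (AlgSp.yon S).obj T ⟶ widePullback X.obj _ g :=
      WidePullback.lift t (fun k => (AlgSp.yon S).map (q k)) hq
    have hbase : fw ≫ t = WidePullback.base g := by rw [← hq 0, reassoc_of% hfw 0, WidePullback.π_arrow]
    let η : widePullback X.obj _ g ≅ (AlgSp.yon S).obj T := ⟨fw, bk,
      WidePullback.hom_ext _ _ _
        (fun k => (Category.assoc _ _ _).trans ((congrArg (fw ≫ ·) (WidePullback.lift_π _ _ _ _ k)).trans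
          ((hfw k).trans (Category.id_comp _).symm)))
        ((Category.assoc _ _ _).trans ((congrArg (fw ≫ ·) (WidePullback.lift_base _ _ _ _)).trans
          (hbase.trans (Category.id_comp _).symm))), by
        obtain ⟨l, -, hl⟩ := hu t (fun k => (AlgSp.yon S).map (q k)) hq
        exact (hl (bk ≫ fw) fun k => (Category.assoc _ _ _).trans ((congrArg (bk ≫ ·) (hfw k)).trans
          (WidePullback.lift_π _ _ _ _ k))).trans (hl (𝟙 _) fun k => Category.id_comp _).symm⟩
    have h : AlgSp.RepWith @Etale (WidePullback.base g ≫ 𝟙 X.obj) := by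
      rw [Category.comp_id, ← hbase]
      haveI : IsIso fw := η.isIso_hom
      exact H12AlgSp.repWith_comp (H12AlgSp.repWith_of_isIso fw) ht
    exact hsch T _ η (hloc h).1 (hloc h).2

end Groth.Agent.S10511
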