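import Groth.Statements.S10514
import Groth.Agent.H13AlgSp.PhFppf
-- import your own Groth.Agent.* helpers here

set_option autoImplicit false
set_option backward.isDefEq.respectTransparency false
universe u
open CategoryTheory CategoryTheory.Limits AlgebraicGeometry
open AlgSp

namespace Groth.Agent.S10514

/-- An fppf covering of an algebraic space `X` over `S` by algebraic spaces is a ph covering of `X`: its
members are locally of finite type and every morphism from an affine scheme `Z` to `X` admits a
standard ph covering of `Z` whose members lift through members of the family. -/
theorem result {S : Scheme.{u}} (X : AlgSp.Space S) {ι : Type u}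
    (Xi : ι → AlgSp.Space S) (g : ∀ i, Xi i ⟶ X)
    (h : AlgSp.IsFppfCover (fun i => (Xi i).obj) (fun i => (g i).hom)) :
    AlgSp.IsPhCover (fun i => (Xi i).obj) (fun i => (g i).hom) := by
  exact Groth.Agent.H13AlgSp.isPhCover_of_isFppfCover X.property (fun i => (Xi i).property) h

end Groth.Agent.S10514
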