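import Groth.Statements.S10517
import Groth.Agent.H12AlgSp.LocP
import Groth.Agent.H18HTop.PhBind
-- import your own Groth.Agent.* helpers here

set_option autoImplicit false
set_option backward.isDefEq.respectTransparency false
universe u
open CategoryTheory CategoryTheory.Limits AlgebraicGeometry
open AlgSp

namespace Groth.Agent.S10517

/-- If `{X_i ⟶ X}` is a ph covering of the algebraic space `X` by algebraic spaces and each `X_i` has a
ph covering `{X_ij ⟶ X_i}` by algebraic spaces, then the composites `X_ij ⟶ X_i ⟶ X`, indexed by the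
pairs `(i, j)`, form a ph covering of `X`. -/
theorem result {S : Scheme.{u}} (X : AlgSp.Space S) {ι : Type u}
    (Xi : ι → AlgSp.Space S) (g : ∀ i, Xi i ⟶ X) (κ : ι → Type u) (Xij : ∀ i, κ i → AlgSp.Space S)
    (gij : ∀ i j, Xij i j ⟶ Xi i)
    (h : AlgSp.IsPhCover (fun i => (Xi i).obj) (fun i => (g i).hom))
    (hij : ∀ i, AlgSp.IsPhCover (fun j => (Xij i j).obj) (fun j => (gij i j).hom)) :
    AlgSp.IsPhCover (fun r : Σ i, κ i => (Xij r.1 r.2).obj) (fun r => (gij r.1 r.2 ≫ g r.1).hom) := by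
  refine ⟨fun r => Groth.Agent.H12AlgSp.locP_comp Groth.Agent.H12AlgSp.etLocal_lft (Xij r.1 r.2).property
    (Xi r.1).property X.property ((hij r.1).1 r.2) (h.1 r.1), fun Z hZ z => ?_⟩
  obtain ⟨F, hF, hl⟩ := h.2 Z hZ z
  choose i l hl using hl
  choose H hH hlH using fun j => (hij (i j)).2 (Over.mk (F.f j ≫ Z.hom)) (hF.isAffine_obj j) (l j)
  choose k m hm using hlH
  let E : PreZeroHypercover.{0} Z.left :=
    PreZeroHypercover.mk (Σ j : F.I₀, (H j).I₀) (fun r => (H r.1).X r.2) (fun r => (H r.1).f r.2 ≫ F.f r.1)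
  obtain ⟨F', hF', hR⟩ := Groth.Agent.H18HTop.exists_standardPh_bind (𝟙 Z.left) E hF hH
    (fun j n => ⟨⟨j, n⟩, 𝟙 _, by rw [Category.comp_id, Category.id_comp]⟩)
  refine ⟨F', hF', fun n => ?_⟩
  obtain ⟨⟨j, p⟩, φ, hφ⟩ := hR n
  rw [Category.comp_id] at hφ
  change φ ≫ (H j).f p ≫ F.f j = F'.f n at hφ
  let φ' : Over.mk (F'.f n ≫ Z.hom) ⟶ Over.mk ((H j).f p ≫ F.f j ≫ Z.hom) := Over.homMk φ (by
    change φ ≫ (H j).f p ≫ F.f j ≫ Z.hom = F'.f n ≫ Z.hom
    rw [reassoc_of% hφ])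
  refine ⟨⟨i j, k j p⟩, (yon S).map φ' ≫ m j p, ?_⟩
  change ((yon S).map φ' ≫ m j p) ≫ (gij (i j) (k j p)).hom ≫ (g (i j)).hom = _
  rw [Category.assoc, reassoc_of% (hm j p), hl j, ← Category.assoc, ← Category.assoc, ← Functor.map_comp,
    ← Functor.map_comp]
  exact congrArg (fun q => (yon S).map q ≫ z) (Over.OverMorphism.ext ((Category.assoc _ _ _).trans hφ))

end Groth.Agent.S10517
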