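import Groth.Statements.S10518
import Groth.Agent.H13Chow.PhSheaf
-- import your own Groth.Agent.* helpers here

set_option autoImplicit false
set_option backward.isDefEq.respectTransparency false
universe u w
open CategoryTheory CategoryTheory.Limits AlgebraicGeometry
open AlgSp

namespace Groth.Agent.S10518

/-- A presheaf of types `F` on algebraic spaces over the algebraic space `X` is a sheaf for the big ph
topology of `X` if and only if it is a sheaf for the big etale topology of `X` and, for every proper
surjective morphism `f : V ⟶ U` of algebraic spaces over `X` with `W = V ×_U V` (any pullback square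
of sheaves with projections `p`, `q`), the sections of `F` over `U` map bijectively onto the
sections `t` over `V` with `F(p) t = F(q) t`. -/
theorem result {S : Scheme.{u}} (X : AlgSp.Space S) (F : (Over X)ᵒᵖ ⥤ Type w) :
    Presheaf.IsSheaf (AlgSp.phSpacesTopOver X) F ↔
      Presheaf.IsSheaf (AlgSp.spacesTopOver AlgSp.IsEtaleMor X) F ∧
      ∀ ⦃U V W : Over X⦄ (f : V ⟶ U) (p q : W ⟶ V),
        AlgSp.IsProperMor f.left.hom → AlgSp.IsSurjectiveMor f.left.hom →
        IsPullback p.left.hom q.left.hom f.left.hom f.left.hom →
        ∀ t : F.obj (Opposite.op V), F.map p.op t = F.map q.op t →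
          ∃! s : F.obj (Opposite.op U), F.map f.op s = t := by
  exact Groth.Agent.H13Chow.isSheaf_phSpacesTopOver_iff F

end Groth.Agent.S10518
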