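import Groth.Statements.S1052
import Groth.Agent.H27KZero.Coherent
import Mathlib

set_option autoImplicit false
universe u
open CategoryTheory CategoryTheory.Limits AlgebraicGeometry
attribute [local instance] HasDerivedCategory.standard
open KZero

namespace Groth.Agent.S1052

/-- Let X be a Noetherian scheme. There is an isomorphism between K₀(Coh(O_X)) (free abelian group on
coherent O_X-modules modulo short exact sequences of coherent modules) and K₀(D^b_Coh(O_X)) (free
abelian group on bounded objects of D(O_X) with coherent cohomology modulo distinguished triangles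
among them) which sends the class of a coherent module F to the class of F placed in degree 0. -/
theorem result (X : Scheme.{u}) [IsNoetherian X] :
    ∃ φ : KZero.K0sub (fun M : X.Modules => Coh.IsCoh M) ≃+
        KZero.K0tr (fun K : DCoh.D X => DCoh.IsCohD K ∧ ∃ a b : ℤ, K.IsGE a ∧ K.IsLE b),
      ∀ F : X.Modules, Coh.IsCoh F →
        φ (KZero.clSub (fun M : X.Modules => Coh.IsCoh M) F) =
          KZero.clTr (fun K : DCoh.D X => DCoh.IsCohD K ∧ ∃ a b : ℤ, K.IsGE a ∧ K.IsLE b) (DCoh.inD X F) := by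
  have hP : ∀ K : DCoh.D X, (DCoh.IsCohD K ∧ ∃ a b : ℤ, K.IsGE a ∧ K.IsLE b) ↔
      WSerre.cohInBdd (Groth.Agent.H27KZero.CohSupp (X := X) Set.univ) K := fun K =>
    ⟨fun ⟨h, a, b, ha, hb⟩ => ⟨fun i => ⟨h i, Set.subset_univ _⟩, ⟨a, ha⟩, ⟨b, hb⟩⟩,
      fun ⟨h, ⟨a, ha⟩, ⟨b, hb⟩⟩ => ⟨fun i => (h i).1, a, b, ha, hb⟩⟩
  have e : (fun M : X.Modules => Coh.IsCoh M) = Groth.Agent.H27KZero.CohSupp (X := X) Set.univ :=
    funext fun M => propext ⟨fun h => ⟨h, Set.subset_univ _⟩, fun h => h.1⟩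
  obtain ⟨φ, hφ⟩ := Groth.Agent.H27KZero.exists_equiv (C := Groth.Agent.H27KZero.CohSupp (X := X) Set.univ)
    (P := fun K : DCoh.D X => DCoh.IsCohD K ∧ ∃ a b : ℤ, K.IsGE a ∧ K.IsLE b) hP
  rw [e]
  refine ⟨φ, fun F hF => ?_⟩
  exact hφ F ⟨hF, Set.subset_univ _⟩

end Groth.Agent.S1052
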