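import Groth.Statements.S1053
import Groth.Agent.H16Derived.ProjLift

set_option autoImplicit false
universe w v u
open CategoryTheory CategoryTheory.Limits
open CohDer

namespace Groth.Agent.S1053

/-- Let P and K be cochain complexes in an abelian category with P bounded, consisting of projective
objects and zero in degrees below n, and with Hⁱ(K) = 0 for all i ≥ n. Then every morphism P ⟶ K in
the homotopy category and every morphism P ⟶ K in the derived category is zero. -/
theorem result {A : Type u} [Category.{v} A] [Abelian A] [HasDerivedCategory.{w} A]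
    (P K : CochainComplex A ℤ) (n b : ℤ) [P.IsStrictlyGE n] [P.IsStrictlyLE b] (hP : ∀ i : ℤ, Projective (P.X i))
    (hK : ∀ i : ℤ, n ≤ i → IsZero (K.homology i)) :
    (∀ φ : (HomotopyCategory.quotient A (ComplexShape.up ℤ)).obj P ⟶ (HomotopyCategory.quotient A (ComplexShape.up ℤ)).obj K, φ = 0) ∧
    (∀ φ : DerivedCategory.Q.obj P ⟶ DerivedCategory.Q.obj K, φ = 0) := by
  have hex : ∀ i, n ≤ i → K.ExactAt i := fun i hi =>
    (HomologicalComplex.exactAt_iff_isZero_homology _ _).2 (hK i hi)
  have key : ∀ f : P ⟶ K, (HomotopyCategory.quotient A (ComplexShape.up ℤ)).map f = 0 := fun f => by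
    obtain ⟨H⟩ := Groth.Agent.H16Derived.ProjLift.nullhomotopic P K n b hP hex f
    exact (HomotopyCategory.eq_of_homotopy _ _ H).trans (Functor.map_zero _ _ _)
  refine ⟨fun φ => ?_, fun φ => ?_⟩
  · obtain ⟨f, rfl⟩ := (HomotopyCategory.quotient _ _).map_surjective φ
    exact key f
  · have := CochainComplex.isKProjective_of_projective P b
    obtain ⟨f, rfl⟩ := Groth.Agent.H16Derived.ProjLift.Q_map_surjective P K φ
    obtain ⟨H⟩ := Groth.Agent.H16Derived.ProjLift.nullhomotopic P K n b hP hex f
    rw [DerivedCategory.Q_map_eq_of_homotopy A H, Functor.map_zero]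

end Groth.Agent.S1053
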