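import Groth.Statements.S10551
import Groth.Agent.H12AlgSp.Univ

set_option autoImplicit false
universe u
open CategoryTheory CategoryTheory.Limits AlgebraicGeometry
open AlgSp

namespace Groth.Agent.S10551

theorem isOpenMor_of_cover {S : Scheme.{u}} {ι : Type u} {X Y : AlgSp.Sp S} {Xi : ι → AlgSp.Sp S}
    {g : ∀ i, Xi i ⟶ X} {f : X ⟶ Y} (hs : ∀ x : AlgSp.Points X, ∃ i, x ∈ Set.range (AlgSp.Points.map (g i)))
    (h : ∀ i, AlgSp.IsOpenMor (g i ≫ f)) : AlgSp.IsOpenMor f := by
  intro W hW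
  have e : AlgSp.Points.map f '' W = ⋃ i, AlgSp.Points.map (g i ≫ f) '' (AlgSp.Points.map (g i) ⁻¹' W) := by
    refine subset_antisymm ?_ (Set.iUnion_subset fun i => ?_)
    · rintro _ ⟨x, hx, rfl⟩
      obtain ⟨i, y, rfl⟩ := hs x
      exact Set.mem_iUnion.2 ⟨i, y, hx, AlgSp.Points.map_comp _ _ y⟩
    · rintro _ ⟨y, hy, rfl⟩
      exact ⟨_, hy, (AlgSp.Points.map_comp _ _ y).symm⟩
  rw [e]
  exact isOpen_iUnion fun i => h i _ (hW.preimage (AlgSp.Points.continuous_map _))

theorem isOpenMor_comp {S : Scheme.{u}} {X Y Z : AlgSp.Sp S} {g : X ⟶ Y} {f : Y ⟶ Z}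
    (hg : AlgSp.IsOpenMor g) (hf : AlgSp.IsOpenMor f) : AlgSp.IsOpenMor (g ≫ f) := by
  change IsOpenMap _
  rw [show AlgSp.Points.map (g ≫ f) = AlgSp.Points.map f ∘ AlgSp.Points.map g from
    funext fun x => AlgSp.Points.map_comp g f x]
  exact IsOpenMap.comp hf hg


/-- The property of morphisms of algebraic spaces over S given by f is open (the induced map on spaces
of points is open) is fppf local on the source: for a morphism f : X ⟶ Y of algebraic spaces and a
fppf covering of X by algebraic spaces X_i, f has the property if and only if every composite X_i ⟶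
X ⟶ Y has it. -/
theorem result (S : Scheme.{u}) :
    AlgSp.IsLocalOnSource (AlgSp.IsFppfCover (S := S)) AlgSp.IsOpenMor := by
  intro ι X Xi g hX hXi hg Y f hY
  refine ⟨fun hf i => isOpenMor_comp ?_ hf, isOpenMor_of_cover hg.2⟩
  exact (Groth.Agent.H12AlgSp.isUnivOpenMor_of_flat_lfp (hXi i) hX (hg.1 i).1 (hg.1 i).2) hX (𝟙 X) (𝟙 _) (g i)
    (IsPullback.of_id_fst.flip.flip)

end Groth.Agent.S10551
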