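import Groth.Statements.S10552
import Groth.Agent.H12AlgSp.Univ

set_option autoImplicit false
universe u
open CategoryTheory CategoryTheory.Limits AlgebraicGeometry
open AlgSp

namespace Groth.Agent.S10552

theorem isOpenMor_of_cover {S : Scheme.{u}} {ι : Type u} {X Y : AlgSp.Sp S} {Xi : ι → AlgSp.Sp S}
    {g : ∀ i, Xi i ⟶ X} {f : X ⟶ Y} (hs : ∀ x : AlgSp.Points X, ∃ i, x ∈ Set.range (AlgSp.Points.map (g i)))
    (h : ∀ i, AlgSp.IsOpenMor (g i ≫ f)) : AlgSp.IsOpenMor f := by
  intro W hW
  have e : AlgSp.Points.map f '' W = ⋃ i, AlgSp.Points.map (g i ≫ f) '' (AlgSp.Points.map (g i) ⁻¹' W) := by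
    refine subset_antisymm ?_ (Set.iUnion_subset fun i => ?_)
    · rintro _ ⟨x, hx, rfl⟩
      obtain ⟨i, y, rfl⟩ := hs x
      exact Set.mem_iUnion.2 ⟨i, y, hx, AlgSp.Points.map_comp _ _ y⟩
    · rintro _ ⟨y, hy, rfl⟩
      exact ⟨_, hy, (AlgSp.Points.map_comp _ _ y).symm⟩
  rw [e]
  exact isOpen_iUnion fun i => h i _ (hW.preimage (AlgSp.Points.continuous_map _))

theorem isOpenMor_comp {S : Scheme.{u}} {X Y Z : AlgSp.Sp S} {g : X ⟶ Y} {f : Y ⟶ Z}
    (hg : AlgSp.IsOpenMor g) (hf : AlgSp.IsOpenMor f) : AlgSp.IsOpenMor (g ≫ f) := by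
  change IsOpenMap _
  rw [show AlgSp.Points.map (g ≫ f) = AlgSp.Points.map f ∘ AlgSp.Points.map g from
    funext fun x => AlgSp.Points.map_comp g f x]
  exact IsOpenMap.comp hf hg


/-- The property of morphisms of algebraic spaces over S given by f is universally open (every base
change along a morphism from an algebraic space is open on points) is fppf local on the source: for
a morphism f : X ⟶ Y of algebraic spaces and a fppf covering of X by algebraic spaces X_i, f has the
property if and only if every composite X_i ⟶ X ⟶ Y has it. -/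
theorem result (S : Scheme.{u}) :
    AlgSp.IsLocalOnSource (AlgSp.IsFppfCover (S := S)) AlgSp.IsUnivOpenMor := by
  intro ι X Xi g hX hXi hg Y f hY
  have hop := fun i => Groth.Agent.H12AlgSp.isUnivOpenMor_of_flat_lfp (hXi i) hX (hg.1 i).1 (hg.1 i).2
  refine ⟨fun hf i Z Z' hZ x fst snd sq => ?_, fun h Z X' hZ x fst snd sq => ?_⟩
  · obtain ⟨k, hk₁, hk₂⟩ := (IsPullback.of_hasPullback f x).exists_lift (fst ≫ g i) snd (by simpa using sq.w)
    have sqf : IsPullback k fst (pullback.fst f x) (g i) := by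
      refine (IsPullback.of_bot ?_ hk₁.symm (IsPullback.of_hasPullback f x)).flip
      rwa [hk₂]
    rw [← hk₂]
    exact isOpenMor_comp
      (hop i (Groth.Agent.H12AlgSp.isAlgSpace_pullback hY.diag hX hZ f x) _ fst k sqf.flip)
      (hf hZ x _ _ (IsPullback.of_hasPullback f x))
  · have sq' := fun i => (IsPullback.of_hasPullback (g i) fst).paste_vert sq
    refine isOpenMor_of_cover (g := fun i => pullback.snd (g i) fst) (fun p => ?_)
      fun i => h i hZ x _ _ (sq' i)
    obtain ⟨i, y, hy⟩ := hg.2 (AlgSp.Points.map fst p)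
    obtain ⟨w, -, hw⟩ := Groth.Agent.H12AlgSp.exists_point_of_isPullback
      (IsPullback.of_hasPullback (g i) fst) y p hy
    exact ⟨i, w, hw⟩

end Groth.Agent.S10552
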