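import Groth.Statements.S10554
import Groth.Agent.H13AlgSp.LocPDescent

set_option autoImplicit false
universe u
open CategoryTheory CategoryTheory.Limits AlgebraicGeometry
open AlgSp

namespace Groth.Agent.S10554

/-- The property of morphisms of algebraic spaces over S given by f is etale (composition with every
representable etale map from a scheme is representable etale) is etale local on the source: for a
morphism f : X ⟶ Y of algebraic spaces and a etale covering of X by algebraic spaces X_i, f has the
property if and only if every composite X_i ⟶ X ⟶ Y has it. -/
theorem result (S : Scheme.{u}) :
    AlgSp.IsLocalOnSource (AlgSp.IsEtCover (S := S)) AlgSp.IsEtaleMor := by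
  exact Groth.Agent.H13AlgSp.isLocalOnSource_etale_isEtaleMor

end Groth.Agent.S10554
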