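import Groth.Statements.S1056
import Groth.Agent.H16Derived.TorTest.PerfFpqc

set_option autoImplicit false
universe u
open CategoryTheory CategoryTheory.Limits AlgebraicGeometry Opposite
attribute [local instance] HasDerivedCategory.standard
open Perf

namespace Groth.Agent.S1056

/-- Let f : X' → X be a flat, surjective, quasi-compact morphism of schemes (an fpqc covering by a
single morphism), and assume Lf^* exists. Then an object E of D(𝒪_X) is perfect if and only if Lf^*E
is perfect. -/
theorem result {X' X : Scheme.{u}} (f : X' ⟶ X) [Flat f] [Surjective f] [QuasiCompact f] [DCoh.HasLpull f] (E : DCoh.D X) :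
    DCoh.IsPerfect E ↔ DCoh.IsPerfect ((DCoh.Lpull f).obj E) := by
  refine ⟨fun h => Groth.Agent.H16Derived.KFlat.Stalk.isPerfect_lpull f h, fun h => ?_⟩
  exact Groth.Agent.H16Derived.TorTest.isPerfect_of_fpqc_pullback f E h

end Groth.Agent.S1056
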