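import Groth.Statements.S10564
import Groth.Agent.H13AlgSp.EtaleLocally
import Groth.Agent.H13AlgSp.SmoothSource

set_option autoImplicit false
universe u
open CategoryTheory CategoryTheory.Limits AlgebraicGeometry
open AlgSp

namespace Groth.Agent.S10564

/-- For a smooth morphism f : X ⟶ Y of algebraic spaces over S, reducedness of Y implies reducedness of
X, and when f is moreover surjective, reducedness of X implies reducedness of Y. -/
theorem result {S : Scheme.{u}} {X Y : AlgSp.Space S} (f : X ⟶ Y) (hf : AlgSp.LocP @Smooth f.hom) :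
    (AlgSp.IsReducedSp Y.obj → AlgSp.IsReducedSp X.obj) ∧
    (AlgSp.IsSurjectiveMor f.hom → AlgSp.IsReducedSp X.obj → AlgSp.IsReducedSp Y.obj) := by
  have hred : ∀ {A B : Scheme.{u}} (g : A ⟶ B), Smooth g → IsReduced B → IsReduced A :=
    fun g _ _ => Groth.Agent.H13AlgSp.isReduced_of_smooth_mor g
  have hdesc : ∀ {A B : Scheme.{u}} (g : A ⟶ B), Flat g → Surjective g → IsReduced A → IsReduced B :=
    fun g _ _ _ => Groth.Agent.H13Desc.isReduced_of_flat_surjective g
  refine ⟨fun hY => ?_, fun hs hX => ?_⟩
  · obtain ⟨V, b, hbe, hbs⟩ := Y.property.atlas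
    have hV := Groth.Agent.H13AlgSp.etaleLocally_chart (Q := fun U => IsReduced U)
      (fun g hg h => hred g (by have : Etale g := hg; infer_instance) h)
      (fun g hg hs h => hdesc g (by have : Etale g := hg; infer_instance) hs h) Y.property hY hbe
    have sq := IsPullback.of_hasPullback f.hom b
    obtain ⟨T, d, hde, hds⟩ := (Groth.Agent.H12AlgSp.isAlgSpace_of_isPullback Y.property.diag X.property
      (IsAlgSpace.yon_obj V) sq).atlas
    obtain ⟨k, hk⟩ := (AlgSp.yon S).map_surjective (d ≫ pullback.snd f.hom b)
    have ha := Groth.Agent.H12AlgSp.repWith_comp hde (Groth.Agent.H12AlgSp.repWith_of_isPullback sq.flip hbe)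
    exact ⟨T, _, ha, Groth.Agent.H12AlgSp.repWith_comp hds (Groth.Agent.H12AlgSp.repWith_of_isPullback sq.flip hbs),
      hred k.left (hf _ b k ha hbe (by rw [hk, Category.assoc, Category.assoc, sq.w])) hV⟩
  · exact Groth.Agent.H13AlgSp.etaleLocally_of_surjective (Q := fun U => IsReduced U) (P := @Smooth)
      (fun g hg h => hred g (by have : Etale g := hg; infer_instance) h)
      (fun g hg hs h => hdesc g (by have : Etale g := hg; infer_instance) hs h)
      (fun g hg hs h => hdesc g (by have : Smooth g := hg; infer_instance) hs h)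
      X.property Y.property hf hs hX

end Groth.Agent.S10564
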