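import Groth.Statements.S10566
import Groth.Agent.H13AlgSp.LocalST

set_option autoImplicit false
universe u
open CategoryTheory CategoryTheory.Limits AlgebraicGeometry
open AlgSp AlgSp.IsSmoothLocalST

namespace Groth.Agent.S10566

/-- For a property P of morphisms of algebraic spaces over S that is smooth local on source-and-target
and a morphism f : X ⟶ Y of algebraic spaces, each of the following is equivalent to P f: (c) for
some commutative square a ≫ f = h ≫ b with a : U ⟶ X and b : V ⟶ Y smooth and a surjective, h has P;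
(d) for every commutative square a ≫ f = h ≫ b with b smooth and the induced morphism U ⟶ X ×_Y V
smooth, h has P; (e) for some smooth covering of Y by algebraic spaces Y_i every base change Y_i ×_Y
X ⟶ Y_i has P; (f) for some smooth covering of X by algebraic spaces X_i every composite X_i ⟶ Y has
P. (Condition (b) of the published list is the defining locality condition, and its condition (g)
combines (e) and (f); they are not repeated here.) -/
theorem result {S : Scheme.{u}} {P : MorphismProperty (AlgSp.Sp S)}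
    (hP : AlgSp.IsSmoothLocalST P) {X Y : AlgSp.Space S} (f : X ⟶ Y) :
    (P f.hom ↔ ∃ (U V : AlgSp.Space S) (a : U ⟶ X) (b : V ⟶ Y) (h : U ⟶ V),
      AlgSp.LocP @Smooth a.hom ∧ AlgSp.LocP @Smooth b.hom ∧ AlgSp.IsSurjectiveMor a.hom ∧
      a ≫ f = h ≫ b ∧ P h.hom) ∧
    (P f.hom ↔ ∀ (U V W : AlgSp.Space S) (a : U ⟶ X) (b : V ⟶ Y) (h : U ⟶ V) (p : W ⟶ X) (q : W ⟶ V)
      (e : U ⟶ W), IsPullback p.hom q.hom f.hom b.hom → e ≫ p = a → e ≫ q = h →
      AlgSp.LocP @Smooth b.hom → AlgSp.LocP @Smooth e.hom → P h.hom) ∧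
    (P f.hom ↔ ∃ (ι : Type u) (Yi Xi : ι → AlgSp.Space S) (g : ∀ i, Yi i ⟶ Y) (p : ∀ i, Xi i ⟶ Yi i)
      (q : ∀ i, Xi i ⟶ X), AlgSp.IsSmCover (fun i => (Yi i).obj) (fun i => (g i).hom) ∧
      (∀ i, IsPullback (q i).hom (p i).hom f.hom (g i).hom) ∧ ∀ i, P (p i).hom) ∧
    (P f.hom ↔ ∃ (ι : Type u) (Xi : ι → AlgSp.Space S) (g : ∀ i, Xi i ⟶ X),
      AlgSp.IsSmCover (fun i => (Xi i).obj) (fun i => (g i).hom) ∧ ∀ i, P (g i ≫ f).hom) := by
  have hX := X.property
  have hY := Y.property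
  refine ⟨⟨fun h => ?_, ?_⟩, ⟨?_, fun h => ?_⟩, ⟨fun h => ?_, ?_⟩, ⟨fun h => ?_, ?_⟩⟩
  · exact ⟨X, Y, 𝟙 X, 𝟙 Y, f, H13AlgSp.LocalST.locP_smooth_id _, H13AlgSp.LocalST.locP_smooth_id _,
      fun x => ⟨x, Points.map_id x⟩, by simp, h⟩
  · rintro ⟨U, V, a, b, k, ha, hb, hs, hk, h⟩
    refine (hP.locality hX hY f.hom).2 fun x => ?_
    obtain ⟨v, hv⟩ := hs x
    exact ⟨U.obj, V.obj, a.hom, b.hom, k.hom, v, U.property, V.property, ha, hb,
      congrArg InducedCategory.Hom.hom hk, hv, h⟩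
  · intro h U V W a b k p q e sq _ hk hb he
    rw [← hk]
    exact hP.precomp U.property W.property V.property _ _ he
      (hP.baseChange hX hY W.property V.property _ _ _ _ sq hb h)
  · exact h X Y X (𝟙 X) (𝟙 Y) f (𝟙 X) f (𝟙 X) (IsPullback.id_horiz f.hom) (Category.id_comp _)
      (Category.id_comp _) (H13AlgSp.LocalST.locP_smooth_id _) (H13AlgSp.LocalST.locP_smooth_id _)
  · exact ⟨PUnit, fun _ => Y, fun _ => X, fun _ => 𝟙 Y, fun _ => f, fun _ => 𝟙 X,
      H13AlgSp.LocalST.isCover_id (H13AlgSp.LocalST.locP_smooth_id _),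
      fun _ => IsPullback.id_horiz f.hom, fun _ => h⟩
  · rintro ⟨ι, Yi, Xi, g, p, q, hg, sq, h⟩
    exact (H13AlgSp.LocalST.localOnBase hP _ _ hY (fun i => (Yi i).property) hg f.hom hX _ _ _
      (fun i => (Xi i).property) sq).2 h
  · refine ⟨PUnit, fun _ => X, fun _ => 𝟙 X,
      H13AlgSp.LocalST.isCover_id (H13AlgSp.LocalST.locP_smooth_id _), fun _ => ?_⟩
    rw [Category.id_comp]; exact h
  · rintro ⟨ι, Xi, g, hg, h⟩
    exact (H13AlgSp.LocalST.localOnSource hP _ _ hX (fun i => (Xi i).property) hg f.hom hY).2 h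

end Groth.Agent.S10566
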