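import Groth.Statements.S1057
import Groth.Agent.H8Props.RelPCBaseChange
import Groth.Agent.H8Props.RelPCTransfer

set_option autoImplicit false
universe u
open CategoryTheory CategoryTheory.Limits AlgebraicGeometry Opposite
attribute [local instance] HasDerivedCategory.standard
open Perf

namespace Groth.Agent.S1057

open Groth.Agent.H8Props Groth.Agent.H16Derived.KFlat.Stalk

/-- For a covering by a single flat, surjective, quasi-compact morphism f : X' ⟶ X: assuming Lf^*
exists, an object E of D(O_X) with quasi-coherent cohomology sheaves is m-pseudo-coherent if and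
only if Lf^*E is m-pseudo-coherent. -/
theorem result {X' X : Scheme.{u}} (f : X' ⟶ X) [Flat f] [Surjective f] [QuasiCompact f] [DCoh.HasLpull f] (E : DCoh.D X) (hE : DCoh.IsQCohD E) (m : ℤ) :
    DCoh.IsPseudoCoherentD m E ↔ DCoh.IsPseudoCoherentD m ((DCoh.Lpull f).obj E) := by
  refine ⟨fun h => isPseudoCoherentD_lpull f h, fun h => ?_⟩
  refine (RelPC.rel_iff_abs (𝟙 X) (RelPC.pcMor_of_flat (𝟙 X)) m E).1 ?_
  exact RelPC.rel_descend (𝟙 X) (fun _ : PUnit.{u+1} => X') (fun _ => X') (fun _ => f)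
    (fun _ => f) (fun _ => 𝟙 X') (fun _ => IsPullback.of_vert_isIso ⟨by simp⟩)
    (fun V hV => by
      obtain ⟨N, W, hW, hcov⟩ := RelPC.fin_cover_qc f V hV
      exact ⟨N, fun _ => ⟨⟩, W, hW, hcov⟩)
    hE (fun _ => (RelPC.rel_iff_abs (𝟙 X') (RelPC.pcMor_of_flat (𝟙 X')) m _).2 h)

end Groth.Agent.S1057
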