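import Groth.Statements.S10570
import Groth.Agent.H13AlgSp.EtaleSmoothMain

set_option autoImplicit false
universe u
open CategoryTheory CategoryTheory.Limits AlgebraicGeometry
open AlgSp

namespace Groth.Agent.S10570

/-- A property P of morphisms of algebraic spaces over S that is etale local on the source, smooth local
on the base, and stable under postcomposition with open immersions (if f : X ⟶ Y has P and j : Y ⟶ Z
is an open immersion then f ≫ j has P) is local on source-and-target in the etale-smooth sense. -/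
theorem result {S : Scheme.{u}} (P : MorphismProperty (AlgSp.Sp S))
    (h1 : AlgSp.IsLocalOnSource (AlgSp.IsEtCover (S := S)) P)
    (h2 : AlgSp.IsLocalOnBase (AlgSp.IsSmCover (S := S)) P)
    (h3 : ∀ ⦃X Y Z : AlgSp.Space S⦄ (f : X ⟶ Y) (j : Y ⟶ Z), P f.hom → AlgSp.RepWith @IsOpenImmersion j.hom → P (f ≫ j).hom) :
    AlgSp.IsEtaleSmoothLocalST P := by
  exact H13AlgSp.EtaleSmooth.isEtaleSmoothLocalST ⟨h1, h2, fun {X Y Z} hX hY hZ f j hf hj =>
    h3 (X := ⟨X, hX⟩) (Y := ⟨Y, hY⟩) (Z := ⟨Z, hZ⟩) (ObjectProperty.homMk f) (ObjectProperty.homMk j) hf hj⟩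

end Groth.Agent.S10570
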