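import Groth.Statements.S10571
import Groth.Agent.H13AlgSp.CoprodBC

set_option autoImplicit false
universe u
open CategoryTheory CategoryTheory.Limits AlgebraicGeometry
open AlgSp

namespace Groth.Agent.S10571

/-- Suppose a property P of morphisms between algebraic spaces over S satisfies: (1) if finitely many
morphisms X_i ⟶ Y_i have P then so does the induced morphism ∐ X_i ⟶ ∐ Y_i, (2) f : X ⟶ Y has P
exactly when, for each affine scheme Z and each h_Z ⟶ Y, the base change h_Z ×_Y X ⟶ h_Z has P, and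
(3) for every surjective flat morphism of affine schemes Z' ⟶ Z over S and every f : X ⟶ h_Z, if the
base change h_{Z'} ×_{h_Z} X ⟶ h_{Z'} has P then f has P. Under these hypotheses, P is local on the
base for the fpqc topology. (The published statement asks (1) only for two morphisms; its proof
applies (1) to a disjoint union indexed by a finite set that may be empty, and with (1) for two
morphisms only the property that holds for no morphism satisfies all three hypotheses without being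
fpqc local on the base, as the empty covering of the empty algebraic space shows. This row asks (1)
for all finite families, the empty one included.) -/
theorem result {S : Scheme.{u}} (P : MorphismProperty (AlgSp.Sp S))
    (h1 : ∀ ⦃ι : Type u⦄ [Finite ι] (Xi Yi : ι → AlgSp.Sp S) (fi : ∀ i, Xi i ⟶ Yi i)
      (cX : Cofan Xi) (cY : Cofan Yi) (hcX : IsColimit cX) (hcY : IsColimit cY) (m : cX.pt ⟶ cY.pt),
      (∀ i, AlgSp.IsAlgSpace (Xi i)) → (∀ i, AlgSp.IsAlgSpace (Yi i)) →
      AlgSp.IsAlgSpace cX.pt → AlgSp.IsAlgSpace cY.pt →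
      (∀ i, cX.inj i ≫ m = fi i ≫ cY.inj i) → (∀ i, P (fi i)) → P m)
    (h2 : ∀ ⦃X Y : AlgSp.Sp S⦄, AlgSp.IsAlgSpace X → AlgSp.IsAlgSpace Y → ∀ (f : X ⟶ Y),
      P f ↔ ∀ (Z : Over S), IsAffine Z.left → ∀ (g : (AlgSp.yon S).obj Z ⟶ Y) (W : AlgSp.Sp S)
        (fst : W ⟶ X) (snd : W ⟶ (AlgSp.yon S).obj Z), AlgSp.IsAlgSpace W → IsPullback fst snd f g → P snd)
    (h3 : ∀ ⦃Z Z' : Over S⦄ (c : Z' ⟶ Z), IsAffine Z.left → IsAffine Z'.left → Surjective c.left → Flat c.left →
      ∀ ⦃X X' : AlgSp.Sp S⦄ (f : X ⟶ (AlgSp.yon S).obj Z) (fst : X' ⟶ X) (f' : X' ⟶ (AlgSp.yon S).obj Z'),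
        AlgSp.IsAlgSpace X → AlgSp.IsAlgSpace X' → IsPullback fst f' f ((AlgSp.yon S).map c) → P f' → P f) :
    AlgSp.IsLocalOnBase (AlgSp.IsFpqcCover (S := S)) P := by
  intro ι Y Yi g hY hYi hg X f hX Xi p q hXi sq
  refine ⟨fun hf i => (h2 (hXi i) (hYi i) (p i)).2 fun Z hZ a W fst snd hW s => ?_, fun hp => (h2 hX hY f).2 ?_⟩
  · exact (h2 hX hY f).1 hf Z hZ (a ≫ g i) W (fst ≫ q i) snd hW (s.paste_horiz (sq i))
  intro Z hZ a W fst snd hW s
  obtain ⟨m, V, c, hVaff, hcf, hcs, hl⟩ := hg.2 Z hZ a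
  let V' : ULift.{u} (Fin m) → Over S := fun j => V j.down
  choose i l hil using hl
  let c' : H13AlgSp.sigmaOver V' ⟶ Z := Over.homMk (Sigma.desc fun j => (c j.down).left) (Sigma.hom_ext _ _ fun j => by
    exact ((Category.assoc _ _ _).symm.trans (congrArg (· ≫ Z.hom)
      (Sigma.ι_desc (fun j : ULift.{u} (Fin m) => (c j.down).left) j))).trans
      ((Over.w (c j.down)).trans (Sigma.ι_desc (fun i => (V' i).hom) j).symm))
  have hc' : ∀ j, H13AlgSp.sigmaInj V' j ≫ c' = c j.down := fun j =>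
    Over.OverMorphism.ext (Sigma.ι_desc (fun j : ULift.{u} (Fin m) => (c j.down).left) j)
  have : ∀ j, IsAffine (V' j).left := fun j => hVaff j.down
  have haff : IsAffine (H13AlgSp.sigmaOver V').left :=
    inferInstanceAs (IsAffine (∐ fun j => (V' j).left))
  have hflat : Flat c'.left := IsZariskiLocalAtSource.sigmaDesc (P := @Flat) fun j => hcf j.down
  have hsurj : Surjective c'.left := ⟨fun z => by
    obtain ⟨j, w, rfl⟩ := hcs z
    exact ⟨(H13AlgSp.sigmaInj V' ⟨j⟩).left w, by
      rw [← Scheme.Hom.comp_apply, ← Over.comp_left, hc']⟩⟩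
  have hV : IsAlgSpace ((yon S).obj (H13AlgSp.sigmaOver V')) := IsAlgSpace.yon_obj _
  have sqW := IsPullback.of_hasPullback snd ((yon S).map c')
  have hW' := H12AlgSp.isAlgSpace_of_isPullback (IsAlgSpace.yon_obj Z).diag hW hV sqW
  refine h3 c' hZ haff hsurj hflat snd _ _ hW hW' sqW ?_
  let qj := fun j => pullback.fst (pullback.snd snd ((yon S).map c')) ((yon S).map (H13AlgSp.sigmaInj V' j))
  let pj := fun j => pullback.snd (pullback.snd snd ((yon S).map c')) ((yon S).map (H13AlgSp.sigmaInj V' j))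
  have sqj := fun j => IsPullback.of_hasPullback (pullback.snd snd ((yon S).map c'))
    ((yon S).map (H13AlgSp.sigmaInj V' j))
  have hXj := fun j => H12AlgSp.isAlgSpace_of_isPullback hV.diag hW' (IsAlgSpace.yon_obj (V' j)) (sqj j)
  obtain ⟨hcY⟩ := H13AlgSp.nonempty_isColimit_sigma V'
  obtain ⟨hcX⟩ := H13AlgSp.nonempty_isColimit_bc V' (pullback.snd snd ((yon S).map c')) qj pj sqj
  refine h1 _ _ pj _ _ hcX hcY _ hXj (fun j => IsAlgSpace.yon_obj _) hW' hV (fun j => (sqj j).w) fun j => ?_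
  have big := ((sqj j).paste_horiz sqW).paste_horiz s
  have e : (yon S).map (H13AlgSp.sigmaInj V' j) ≫ (yon S).map c' ≫ a = l j.down ≫ g (i j.down) := by
    rw [← Category.assoc, ← Functor.map_comp, hc', hil]
  rw [Category.assoc ((yon S).map (H13AlgSp.sigmaInj V' j)), e] at big
  obtain ⟨k, hk₁, hk₂⟩ := (sq (i j.down)).exists_lift _ (pj j ≫ l j.down) (big.w.trans (Category.assoc _ _ _).symm)
  exact (h2 (hXi _) (hYi _) _).1 (hp (i j.down)) _ (hVaff j.down) (l j.down) _ k (pj j) (hXj j)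
    (IsPullback.of_right (by rw [hk₁]; exact big) hk₂ (sq _))

end Groth.Agent.S10571
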