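import Groth.Statements.S10573
import Groth.Agent.H13AlgSp.Topology

set_option autoImplicit false
universe u
open CategoryTheory CategoryTheory.Limits AlgebraicGeometry
open AlgSp

namespace Groth.Agent.S10573

open Groth.Agent.H12AlgSp Groth.Agent.H13AlgSp


/-- Let {g_i : T_i ⟶ T} be a family of algebraic spaces over S forming an fpqc covering, and let W_i ⊂
|T_i| be open subsets (open subspaces) such that for all i, j the two projections T_i ×_T T_j ⟶ T_i,
T_j pull W_i and W_j back to the same subset of |T_i ×_T T_j|. Then there is a unique open subset W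
⊂ |T| with g_i⁻¹(W) = W_i for every i. -/
theorem result {S : Scheme.{u}} {ι : Type u} {T : AlgSp.Space S}
    (Ti : ι → AlgSp.Space S) (g : ∀ i, Ti i ⟶ T)
    (hg : AlgSp.IsFpqcCover (fun i => (Ti i).obj) (fun i => (g i).hom))
    (Wi : ∀ i, Set (AlgSp.Points (Ti i).obj)) (hW : ∀ i, IsOpen (Wi i))
    (hc : ∀ i j, AlgSp.Points.map (pullback.fst (g i).hom (g j).hom) ⁻¹' Wi i =
      AlgSp.Points.map (pullback.snd (g i).hom (g j).hom) ⁻¹' Wi j) :
    ∃! W : TopologicalSpace.Opens (AlgSp.Points T.obj), ∀ i, AlgSp.Points.map (g i).hom ⁻¹' (W : Set (AlgSp.Points T.obj)) = Wi i := by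
  have hsq := fun i j => IsPullback.of_hasPullback (g i).hom (g j).hom
  have key : ∀ i, AlgSp.Points.map (g i).hom ⁻¹' (⋃ j, AlgSp.Points.map (g j).hom '' Wi j) = Wi i := fun i => by
    ext x
    refine ⟨fun hx => ?_, fun hx => Set.mem_iUnion.2 ⟨i, x, hx, rfl⟩⟩
    obtain ⟨j, w, hw, e⟩ := Set.mem_iUnion.1 hx
    obtain ⟨z, hz₁, hz₂⟩ := exists_point_of_isPullback (hsq i j) x w e.symm
    have := (Set.ext_iff.1 (hc i j) z).2 (by rw [Set.mem_preimage, hz₂]; exact hw)
    rwa [Set.mem_preimage, hz₁] at this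
  obtain ⟨κ, W, k, hlift, hopen, hsurj⟩ := exists_submersive_family hg T.property (𝟙 T.obj)
  have hsurj' : ∀ t : AlgSp.Points T.obj, ∃ i, t ∈ Set.range (AlgSp.Points.map (g i).hom) := fun t => by
    obtain ⟨j, w, rfl⟩ := hsurj t
    obtain ⟨i, l, hl⟩ := hlift j
    exact ⟨i, AlgSp.Points.map l w, by rw [← AlgSp.Points.map_comp, hl, Category.comp_id]⟩
  refine ⟨⟨⋃ j, AlgSp.Points.map (g j).hom '' Wi j, hopen _ fun j => ?_⟩, key, fun W' hW' => ?_⟩
  · obtain ⟨i, l, hl⟩ := hlift j
    rw [Category.comp_id] at hl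
    have e : AlgSp.Points.map (k j) ⁻¹' (⋃ j, AlgSp.Points.map (g j).hom '' Wi j) =
        AlgSp.Points.map l ⁻¹' Wi i := by
      rw [← key i]
      ext w
      simp only [Set.mem_preimage]
      rw [← hl, AlgSp.Points.map_comp]
    rw [e]
    exact (hW i).preimage (AlgSp.Points.continuous_map l)
  · refine TopologicalSpace.Opens.ext (Set.ext fun t => ?_)
    obtain ⟨i, x, rfl⟩ := hsurj' t
    exact (Set.ext_iff.1 (hW' i) x).trans (Set.ext_iff.1 (key i) x).symm

end Groth.Agent.S10573
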