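import Groth.Statements.S10574
import Groth.Agent.H13AlgSp.LargestOpen

set_option autoImplicit false
universe u
open CategoryTheory CategoryTheory.Limits AlgebraicGeometry Topology TopologicalSpace
open AlgSp

namespace Groth.Agent.S10574

open Groth.Agent.H12AlgSp Groth.Agent.H13AlgSp


/-- For a property P of morphisms of algebraic spaces over S that is fppf local on the base and a
morphism f : X ⟶ Y of algebraic spaces, there is a largest open subspace W(f) of Y over which the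
restriction of f has P (open subspaces are recorded as open subsets of |Y|, and having P over V
means that for every open immersion W ⟶ Y with image V the base change X ×_Y W ⟶ W has P). Moreover
(1) every flat and locally finitely presented g : Y' ⟶ Y whose base change X ×_Y Y' ⟶ Y' has P has
image inside W(f), and (2) for every flat and locally finitely presented g : Y' ⟶ Y with base change
f', the largest open of Y' over which f' has P is the inverse image of W(f); in particular this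
applies to the members of an fppf covering of Y. (The syntomic topology case of the published
statement is not included.) -/
theorem result {S : Scheme.{u}} {P : MorphismProperty (AlgSp.Sp S)}
    (hP : AlgSp.IsLocalOnBase (AlgSp.IsFppfCover (S := S)) P) {X Y : AlgSp.Space S} (f : X ⟶ Y) :
    ∃ W : TopologicalSpace.Opens (AlgSp.Points Y.obj),
      (∀ (W₀ X₀ : AlgSp.Space S) (j₀ : W₀ ⟶ Y) (j₀' : X₀ ⟶ X) (f₀ : X₀ ⟶ W₀),
        AlgSp.RepWith @IsOpenImmersion j₀.hom → Set.range (AlgSp.Points.map j₀.hom) = (W : Set (AlgSp.Points Y.obj)) →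
        IsPullback j₀'.hom f₀.hom f.hom j₀.hom → P f₀.hom) ∧
      (∀ V : TopologicalSpace.Opens (AlgSp.Points Y.obj),
        (∀ (W₁ X₁ : AlgSp.Space S) (j₁ : W₁ ⟶ Y) (j₁' : X₁ ⟶ X) (f₁ : X₁ ⟶ W₁),
        AlgSp.RepWith @IsOpenImmersion j₁.hom → Set.range (AlgSp.Points.map j₁.hom) = (V : Set (AlgSp.Points Y.obj)) →
        IsPullback j₁'.hom f₁.hom f.hom j₁.hom → P f₁.hom) → V ≤ W) ∧
      (∀ (Y' X' : AlgSp.Space S) (g : Y' ⟶ Y) (g' : X' ⟶ X) (f' : X' ⟶ Y'),
        AlgSp.LocP @Flat g.hom → AlgSp.LocP @LocallyOfFinitePresentation g.hom → IsPullback g'.hom f'.hom f.hom g.hom → P f'.hom →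
        Set.range (AlgSp.Points.map g.hom) ⊆ (W : Set (AlgSp.Points Y.obj))) ∧
      (∀ (Y' X' : AlgSp.Space S) (g : Y' ⟶ Y) (g' : X' ⟶ X) (f' : X' ⟶ Y'),
        AlgSp.LocP @Flat g.hom → AlgSp.LocP @LocallyOfFinitePresentation g.hom → IsPullback g'.hom f'.hom f.hom g.hom →
        ∀ W' : TopologicalSpace.Opens (AlgSp.Points Y'.obj),
          (∀ (W₂ X₂ : AlgSp.Space S) (j₂ : W₂ ⟶ Y') (j₂' : X₂ ⟶ X') (f₂ : X₂ ⟶ W₂),
        AlgSp.RepWith @IsOpenImmersion j₂.hom → Set.range (AlgSp.Points.map j₂.hom) = (W' : Set (AlgSp.Points Y'.obj)) →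
        IsPullback j₂'.hom f₂.hom f'.hom j₂.hom → P f₂.hom) →
          (∀ V' : TopologicalSpace.Opens (AlgSp.Points Y'.obj),
            (∀ (W₃ X₃ : AlgSp.Space S) (j₃ : W₃ ⟶ Y') (j₃' : X₃ ⟶ X') (f₃ : X₃ ⟶ W₃),
        AlgSp.RepWith @IsOpenImmersion j₃.hom → Set.range (AlgSp.Points.map j₃.hom) = (V' : Set (AlgSp.Points Y'.obj)) →
        IsPullback j₃'.hom f₃.hom f'.hom j₃.hom → P f₃.hom) → V' ≤ W') →
          (W' : Set (AlgSp.Points Y'.obj)) = AlgSp.Points.map g.hom ⁻¹' (W : Set (AlgSp.Points Y.obj))) := by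
  obtain ⟨W, h1, h2, h3, h4⟩ := exists_largest_open f.hom covClass_fppf hP X.property Y.property
  refine ⟨W, fun W₀ X₀ j₀ j₀' f₀ => h1 _ _ _ _ _ W₀.property X₀.property,
    fun V hV => h2 V fun W₁ X₁ j₁ j₁' f₁ hW₁ hX₁ => hV ⟨W₁, hW₁⟩ ⟨X₁, hX₁⟩ (ObjectProperty.homMk j₁)
      (ObjectProperty.homMk j₁') (ObjectProperty.homMk f₁),
    fun Y' X' g g' f' hg₁ hg₂ => h3 _ _ _ _ _ Y'.property X'.property ⟨hg₁, hg₂⟩,
    fun Y' X' g g' f' hg₁ hg₂ sq W' hW' hmax => h4 _ _ _ _ _ Y'.property X'.property ⟨hg₁, hg₂⟩ sq W'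
      (fun W₂ X₂ j₂ j₂' f₂ hW₂ hX₂ => hW' ⟨W₂, hW₂⟩ ⟨X₂, hX₂⟩ (ObjectProperty.homMk j₂)
        (ObjectProperty.homMk j₂') (ObjectProperty.homMk f₂))
      fun V' hV' => hmax V' fun W₃ X₃ j₃ j₃' f₃ => hV' _ _ _ _ _ W₃.property X₃.property⟩

end Groth.Agent.S10574
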