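import Groth.Statements.S10577
import Groth.Agent.H13EtMod.Push

set_option autoImplicit false
universe u
open CategoryTheory CategoryTheory.Limits AlgebraicGeometry
open AlgSp

namespace Groth.Agent.S10577

/-- Let f : X ⟶ Y be a finite morphism of algebraic spaces over S and F a quasi-coherent O_X-module (on
the small etale site). Then F is of finite type exactly when its direct image f_*F is of finite type
as an O_Y-module. (A finite morphism is representable; the row carries representability of f as an
explicit hypothesis because the direct image functor is defined for representable morphisms.) -/
theorem result {S : Scheme.{u}} {X Y : AlgSp.Space S} (f : X ⟶ Y)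
    (hrep : AlgSp.Representable f.hom) (hfin : AlgSp.IsFiniteMor f.hom)
    (F : AlgSp.ModEt X.obj) [F.IsQuasicoherent] :
    F.IsFiniteType ↔ ((AlgSp.pushModEt hrep).obj F).IsFiniteType := by
  exact Groth.Agent.H13EtMod.isFiniteType_push_iff X.property Y.property hrep hfin F

end Groth.Agent.S10577
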