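import Groth.Statements.S10579
import Groth.Agent.S10227
import Groth.Agent.H12AlgSp.RelDim
import Groth.Agent.H12AlgSp.Basic
import Groth.Agent.H12AlgSp.Points
import Groth.Agent.H12AlgSp.EtLocalRingProps

set_option autoImplicit false
universe u
open CategoryTheory CategoryTheory.Limits AlgebraicGeometry
open AlgSp

namespace Groth.Agent.S10579

/-- Let f : X ⟶ Y be a morphism of algebraic spaces over S and x ∈ |X|. If X is geometrically unibranch
at x and f is flat at x, then Y is geometrically unibranch at the image point f(x). Here an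
algebraic space is geometrically unibranch at a point when for every etale chart from a scheme U and
every point u of U over it the local ring of U at u is geometrically unibranch. -/
theorem result {S : Scheme.{u}} {X Y : AlgSp.Space S} (f : X ⟶ Y) (x : AlgSp.Points X.obj)
    (hf : AlgSp.IsFlatAtMor f.hom x)
    (hX : ∀ (U : Over S) (a : (AlgSp.yon S).obj U ⟶ X.obj) (v : ↥U.left), AlgSp.RepWith @Etale a →
      AlgSp.Points.ofPt a v = x → CAlg2.IsGeomUnibranch ↥(U.left.presheaf.stalk v))
    (V : Over S) (b : (AlgSp.yon S).obj V ⟶ Y.obj) (w : ↥V.left) (hb : AlgSp.RepWith @Etale b)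
    (hw : AlgSp.Points.ofPt b w = AlgSp.Points.map f.hom x) :
    CAlg2.IsGeomUnibranch ↥(V.left.presheaf.stalk w) := by
  refine ((S10227.result Y (AlgSp.Points.map f.hom x)).1.1 ?_) V b w hb hw
  intro V b w hb hw
  have hP : AlgSp.IsAlgSpace (pullback f.hom b) :=
    H12AlgSp.isAlgSpace_pullback Y.property.diag X.property (AlgSp.IsAlgSpace.yon_obj V) f.hom b
  obtain ⟨p, hp₁, hp₂⟩ := H12AlgSp.exists_point_of_isPullback (IsPullback.of_hasPullback f.hom b) x
    (AlgSp.Points.ofScheme V w) (by rw [← hw, AlgSp.Points.ofPt_eq_map_ofScheme])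
  obtain ⟨U, c, hc, hcs⟩ := hP.atlas
  obtain ⟨u, rfl⟩ := H12AlgSp.surjective_ofPt_of_repWith le_rfl hcs p
  obtain ⟨h, hh⟩ := (AlgSp.yon S).map_surjective (c ≫ pullback.snd f.hom b)
  have ha : AlgSp.RepWith @Etale (c ≫ pullback.fst f.hom b) :=
    H12AlgSp.repWith_comp hc (H12AlgSp.repWith_of_isPullback (IsPullback.of_hasPullback f.hom b).flip hb)
  have hsq : (c ≫ pullback.fst f.hom b) ≫ f.hom = (AlgSp.yon S).map h ≫ b := by
    rw [hh, Category.assoc, Category.assoc, pullback.condition]
  have hux : AlgSp.Points.ofPt (c ≫ pullback.fst f.hom b) u = x := by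
    rw [← AlgSp.Points.map_ofPt]; exact hp₁
  obtain rfl : h.left u = w := by
    have e : AlgSp.Points.ofScheme V (h.left u) = AlgSp.Points.ofScheme V w := by
      rw [← hp₂, AlgSp.Points.map_ofPt, ← hh]
      apply (AlgSp.Points.schemeEquiv V).symm.injective
      exact (AlgSp.Points.toScheme_ofScheme V _).trans (AlgSp.Points.toScheme_ofPt h u).symm
    exact (AlgSp.Points.schemeEquiv V).injective e
  have hflat := hf _ b h u ha hb hsq hux
  have hum := H12AlgSp.hasUniqueMinimalPrime_of_isGeomUnibranch (hX U _ u ha hux)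
  have hinj : Function.Injective (h.left.stalkMap u) := by
    algebraize [(h.left.stalkMap u).hom]
    have : IsLocalHom (algebraMap (V.left.presheaf.stalk (h.left u)) (U.left.presheaf.stalk u)) :=
      inferInstanceAs (IsLocalHom (h.left.stalkMap u).hom)
    have : Module.Flat (V.left.presheaf.stalk (h.left u)) (U.left.presheaf.stalk u) := hflat
    have := Module.FaithfullyFlat.of_flat_of_isLocalHom (A := V.left.presheaf.stalk (h.left u))
      (B := U.left.presheaf.stalk u)
    exact FaithfulSMul.algebraMap_injective _ _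
  rw [H12AlgSp.hasUniqueMinimalPrime_iff] at hum ⊢
  refine ⟨inferInstance, fun r s hrs => ?_⟩
  exact (hum.2 (h.left.stalkMap u r) (h.left.stalkMap u s)
      (by rw [← map_mul]; exact hrs.map (h.left.stalkMap u).hom)).imp
    (fun e => (IsNilpotent.map_iff hinj).1 e) (fun e => (IsNilpotent.map_iff hinj).1 e)

end Groth.Agent.S10579
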