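import Groth.Statements.S10582
import Groth.Agent.H13AlgSp.FpqcIso
import Groth.Agent.H12AlgSp.QC
import Groth.Agent.H13AlgSp.LocP

set_option autoImplicit false
universe u
open CategoryTheory CategoryTheory.Limits AlgebraicGeometry
open AlgSp

namespace Groth.Agent.S10582

/-- A monomorphism of algebraic spaces that is quasi-compact, flat and surjective is an isomorphism. -/
theorem result {S : Scheme.{u}} {X Y : AlgSp.Space S} (f : X ⟶ Y)
    (hqc : AlgSp.IsQuasiCompactMor f.hom) (hflat : AlgSp.LocP @Flat f.hom) (hsurj : AlgSp.IsSurjectiveMor f.hom)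
    [Mono f.hom] : IsIso f.hom := by
  have hX := X.property
  have hY := Y.property
  have hcov : AlgSp.IsFpqcCover (fun _ : PUnit.{u+1} => X.obj) (fun _ => f.hom) := by
    refine ⟨fun _ => hflat, fun Z hZ t => ?_⟩
    have sq := IsPullback.of_hasPullback f.hom t
    have hR := H12AlgSp.isAlgSpace_of_isPullback hY.diag hX (AlgSp.IsAlgSpace.yon_obj Z) sq
    have hqcR := hqc (AlgSp.IsAlgSpace.yon_obj Z)
      (H12AlgSp.isQuasiCompactSp_yon_iff.2 inferInstance) t _ _ sq
    have := H12AlgSp.compactSpace_points_of_isQuasiCompactSp hqcR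
    obtain ⟨W, d, hW, hde, hds⟩ := H12AlgSp.exists_affine_atlas hR
    obtain ⟨c, hc⟩ := (AlgSp.yon S).map_surjective (d ≫ pullback.snd f.hom t)
    refine ⟨1, fun _ => W, fun _ => c, fun _ => hW, fun _ => ?_, fun z => ⟨0, ?_⟩,
      fun _ => ⟨PUnit.unit, d ≫ pullback.fst f.hom t, ?_⟩⟩
    · exact H13AlgSp.etaleFibre_of_locP hX hY hflat t _ _ sq d c hde hc.symm
    · obtain ⟨y, hy⟩ := hsurj (AlgSp.Points.ofPt t z)
      obtain ⟨r, -, hr⟩ := H12AlgSp.exists_point_of_isPullback sq y (AlgSp.Points.ofScheme Z z)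
        (by rw [hy, ← AlgSp.Points.ofPt_eq_map_ofScheme])
      obtain ⟨w, rfl⟩ := H12AlgSp.surjective_ofPt_of_repWith le_rfl hds r
      refine ⟨w, (AlgSp.Points.schemeEquiv Z).injective (Eq.trans ?_ hr)⟩
      rw [AlgSp.Points.map_ofPt, ← hc, ← Category.comp_id ((AlgSp.yon S).map c), H12AlgSp.ofPt_map]
      rfl
    · rw [hc, Category.assoc, Category.assoc, sq.w]
  exact H13AlgSp.isIso_of_fpqc hX hY hcov (p := fun _ => 𝟙 X.obj) (q := fun _ => 𝟙 X.obj)
    (fun _ => IsKernelPair.id_of_mono f.hom) (fun _ => inferInstance)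

end Groth.Agent.S10582
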