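import Groth.Statements.S10583
import Groth.Agent.H13AlgSp.Thick
import Groth.Agent.H12AlgSp.OpenSub

set_option autoImplicit false
universe u
open CategoryTheory CategoryTheory.Limits AlgebraicGeometry
open AlgSp

namespace Groth.Agent.S10583

/-- Let i : X ⟶ X' be a thickening of algebraic spaces (representable, every base change to a scheme a
surjective closed immersion) and let u : U ⟶ X be an open immersion. Then there is an open immersion
u' : U' ⟶ X' with U = X ×_{X'} U' (a pullback square), and any two open subspaces of X' with this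
property are isomorphic over X'. -/
theorem result {S : Scheme.{u}} {X X' U : AlgSp.Space S} (i : X ⟶ X')
    (hi : AlgSp.IsThickMor i.hom)
    (u : U ⟶ X) (hu : AlgSp.RepWith @IsOpenImmersion u.hom) :
    (∃ (U' : AlgSp.Space S) (u' : U' ⟶ X') (k : U ⟶ U'),
      AlgSp.RepWith @IsOpenImmersion u'.hom ∧ IsPullback u.hom k.hom i.hom u'.hom) ∧
    (∀ (U₁ U₂ : AlgSp.Space S) (u₁ : U₁ ⟶ X') (u₂ : U₂ ⟶ X') (k₁ : U ⟶ U₁) (k₂ : U ⟶ U₂),
      AlgSp.RepWith @IsOpenImmersion u₁.hom → IsPullback u.hom k₁.hom i.hom u₁.hom →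
      AlgSp.RepWith @IsOpenImmersion u₂.hom → IsPullback u.hom k₂.hom i.hom u₂.hom →
      ∃ e : U₁ ≅ U₂, e.hom ≫ u₂ = u₁) := by
  obtain ⟨him, his, -, hio, hii⟩ := H13AlgSp.Thick.props_of_isThickMor X'.property hi
  have hinj : Function.Injective (Points.map i.hom) :=
    hii X'.property (𝟙 _) (𝟙 _) i.hom (IsPullback.of_horiz_isIso ⟨by simp⟩)
  have hopen : IsOpen (Points.map i.hom '' Set.range (Points.map u.hom)) :=
    hio X'.property (𝟙 _) (𝟙 _) i.hom (IsPullback.of_horiz_isIso ⟨by simp⟩) _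
      (H12AlgSp.isOpenMap_map_of_repWith (P := @IsOpenImmersion)
      (fun _ _ k (_ : IsOpenImmersion k) => inferInstanceAs (UniversallyOpen k)) hu).isOpen_range
  set W := Points.map i.hom '' Set.range (Points.map u.hom) with hW
  obtain ⟨U', j, hU', hj, hr⟩ := H12AlgSp.exists_open_subspace X'.property hopen
  have := H12AlgSp.mono_of_openImmersion hj
  have := H12AlgSp.mono_of_openImmersion hu
  obtain ⟨k, hk⟩ := H12AlgSp.exists_factor_open hj (u.hom ≫ i.hom) (by
    rintro _ ⟨x, rfl⟩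
    rw [hr, Points.map_comp]
    exact ⟨_, ⟨x, rfl⟩, rfl⟩)
  refine ⟨?_, ?_⟩
  · have hl : ∀ c : PullbackCone i.hom j, ∃ g, g ≫ u.hom = c.fst := fun c =>
      H12AlgSp.exists_factor_open hu c.fst (by
        rintro _ ⟨x, rfl⟩
        have h1 : Points.map i.hom (Points.map c.fst x) ∈ W := by
          rw [← Points.map_comp, c.condition, Points.map_comp, ← hr]
          exact ⟨_, rfl⟩
        obtain ⟨y, hy, e⟩ := h1
        exact hinj e ▸ hy)
    choose g hg using hl
    refine ⟨⟨U', hU'⟩, ObjectProperty.homMk j, ObjectProperty.homMk k, hj, ⟨⟨hk.symm⟩, ⟨?_⟩⟩⟩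
    exact PullbackCone.IsLimit.mk _ (fun c => g c) (fun c => hg c)
      (fun c => (cancel_mono j).1 (show (g c ≫ k) ≫ j = c.snd ≫ j by
        rw [Category.assoc, hk, reassoc_of% hg c]
        exact c.condition))
      (fun c m h1 _ => (cancel_mono u.hom).1 (h1.trans (hg c).symm))
  · intro U₁ U₂ u₁ u₂ k₁ k₂ h₁ sq₁ h₂ sq₂
    have hrange : ∀ {V : Space S} {v : V ⟶ X'} {l : U ⟶ V}, IsPullback u.hom l.hom i.hom v.hom →
        Set.range (Points.map v.hom) = W := by
      intro V v l sq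
      refine subset_antisymm ?_ ?_
      · rintro _ ⟨y, rfl⟩
        obtain ⟨x, hx⟩ := his (Points.map v.hom y)
        obtain ⟨p, hp, -⟩ := H12AlgSp.exists_point_of_isPullback sq x y hx
        exact ⟨x, ⟨p, hp⟩, hx⟩
      · rintro _ ⟨_, ⟨p, rfl⟩, rfl⟩
        exact ⟨Points.map l.hom p, by rw [← Points.map_comp, ← Points.map_comp, sq.w]⟩
    have := H12AlgSp.mono_of_openImmersion h₁
    have := H12AlgSp.mono_of_openImmersion h₂
    obtain ⟨a, ha⟩ := H12AlgSp.exists_factor_open h₂ u₁.hom (by rw [hrange sq₁, hrange sq₂])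
    obtain ⟨b, hb⟩ := H12AlgSp.exists_factor_open h₁ u₂.hom (by rw [hrange sq₁, hrange sq₂])
    refine ⟨⟨ObjectProperty.homMk a, ObjectProperty.homMk b, ?_, ?_⟩, ObjectProperty.hom_ext _ ha⟩
    · exact ObjectProperty.hom_ext _ ((cancel_mono u₁.hom).1 (show (a ≫ b) ≫ u₁.hom = 𝟙 _ ≫ u₁.hom by
        rw [Category.assoc, hb, ha, Category.id_comp]))
    · exact ObjectProperty.hom_ext _ ((cancel_mono u₂.hom).1 (show (b ≫ a) ≫ u₂.hom = 𝟙 _ ≫ u₂.hom by
        rw [Category.assoc, ha, hb, Category.id_comp]))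

end Groth.Agent.S10583
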