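import Groth.Statements.S10585
import Groth.Agent.H13UHomeo.EtSite
-- import your own Groth.Agent.* helpers here

set_option autoImplicit false
set_option backward.isDefEq.respectTransparency false
universe u
open CategoryTheory CategoryTheory.Limits AlgebraicGeometry
open AlgSp

namespace Groth.Agent.S10585

/-- Take a representable morphism f : X ⟶ Y of algebraic spaces over S that is integral, universally
injective and surjective. Then the base change functor from the small etale site of Y (schemes etale
over Y) to the small etale site of X is an equivalence of categories, and a scheme etale over Y is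
affine if and only if its base change to X is affine. (An integral morphism is representable; the
representability hypothesis is carried to name the base change functor.) -/
theorem result {S : Scheme.{u}} {X Y : AlgSp.Space S}
    (f : X ⟶ Y) (hf : AlgSp.Representable f.hom) (h1 : AlgSp.IsIntegralMor f.hom)
    (h2 : AlgSp.IsUnivInjectiveMor f.hom) (h3 : AlgSp.IsSurjectiveMor f.hom) :
    (AlgSp.EtOver.bc hf).IsEquivalence ∧
    ∀ E : AlgSp.EtOver Y.obj, IsAffine E.obj.left.left ↔ IsAffine ((AlgSp.EtOver.bc hf).obj E).obj.left.left := by
  exact ⟨Groth.Agent.H13UHomeo.isEquivalence_bc X.property Y.property h1 h2 h3 hf,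
    Groth.Agent.H13UHomeo.isAffine_bc_iff h1 h2 h3 hf⟩

end Groth.Agent.S10585
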