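import Groth.Statements.S10586
import Groth.Agent.H13AlgSp.ThickAff.EtSite

set_option autoImplicit false
universe u
open CategoryTheory CategoryTheory.Limits AlgebraicGeometry
open AlgSp

namespace Groth.Agent.S10586

open Groth.Agent.H12AlgSp Groth.Agent.H13AlgSp

/-- Let i : X ⟶ X' be a thickening of algebraic spaces over S (representable, every base change to a
scheme a surjective closed immersion). Then base change along i is an equivalence from the small
etale site of X' (schemes etale over X') to the small etale site of X. -/
theorem result {S : Scheme.{u}} {X X' : AlgSp.Space S} (i : X ⟶ X')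
    (hi : AlgSp.IsThickMor i.hom) :
    (AlgSp.EtOver.bc hi.1).IsEquivalence := by
  obtain ⟨-, hs, -, -, hinj⟩ := Thick.props_of_isThickMor X'.property hi
  exact ThickAff.isEquivalence_bc hi.1 X.property X'.property
    (isIntegralMor_iff.2 (repWith_le (fun _ _ k (h : AlgSp.thick k) => haveI := h.1; (inferInstance : IsIntegralHom k)) hi))
    hinj hs
    fun _ V' a c hV' sq => ThickAff.exists_iso_of_thickMor hV' (repWith_of_isPullback sq hi)

end Groth.Agent.S10586
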