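import Groth.Statements.S10592
import Groth.Agent.H13AlgSp.ThickRep

set_option autoImplicit false
universe u
open CategoryTheory CategoryTheory.Limits AlgebraicGeometry
open AlgSp

namespace Groth.Agent.S10592

/-- Consider a morphism (f, f') from the thickening X ⊂ X' to the thickening Y ⊂ Y' of algebraic spaces
over S, meaning: i : X ⟶ X' and j : Y ⟶ Y' are thickenings (representable, every base change to a
scheme a surjective closed immersion) and i ≫ f' = f ≫ j. Assume moreover that the square is
cartesian (X = Y ×_{Y'} X') and that i is a finite order thickening (for one n, on every affine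
etale scheme chart of X' the (n+1)-st power of the ideal of the base change of X vanishes). Then f
is a closed immersion, resp. proper, resp. finite, resp. an immersion, if and only if f' is
(immersions of algebraic spaces being the representable ones). -/
theorem result {S : Scheme.{u}} {X X' Y Y' : AlgSp.Space S} (i : X ⟶ X') (j : Y ⟶ Y')
    (f : X ⟶ Y) (f' : X' ⟶ Y')
    (hi : AlgSp.IsThickMor i.hom)
    (hj : AlgSp.IsThickMor j.hom) (w : i ≫ f' = f ≫ j)
    (hcart : IsPullback i.hom f.hom f'.hom j.hom)
    (hfo : AlgSp.IsFinThickMor i.hom) :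
    (AlgSp.RepWith @IsClosedImmersion f.hom ↔ AlgSp.RepWith @IsClosedImmersion f'.hom) ∧
    (AlgSp.IsProperMor f.hom ↔ AlgSp.IsProperMor f'.hom) ∧
    (AlgSp.IsFiniteMor f.hom ↔ AlgSp.IsFiniteMor f'.hom) ∧
    (AlgSp.RepWith @IsImmersion f.hom ↔ AlgSp.RepWith @IsImmersion f'.hom) := by
  obtain ⟨c⟩ := Groth.Agent.H13AlgSp.ThickCharts.exists_charts X'.property Y'.property hj hcart
  have hl := c.lft_iff_of_finThick hfo
  exact ⟨Groth.Agent.H13AlgSp.ThickRep.closedImmersion_iff hj hcart hl, Groth.Agent.H13AlgSp.ThickRep.proper_iff hj hcart hl, Groth.Agent.H13AlgSp.ThickRep.finite_iff hj hcart hl,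
    Groth.Agent.H13AlgSp.ThickRep.immersion_iff hj hcart hl⟩

end Groth.Agent.S10592
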