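import Groth.Statements.S10593
import Groth.Agent.H13AlgSp.ThickTwo

set_option autoImplicit false
universe u
open CategoryTheory CategoryTheory.Limits AlgebraicGeometry
open AlgSp

namespace Groth.Agent.S10593

/-- Consider a morphism (f, f') from the thickening X ⊂ X' to the thickening Y ⊂ Y' of algebraic spaces
over S, meaning: i : X ⟶ X' and j : Y ⟶ Y' are thickenings (representable, every base change to a
scheme a surjective closed immersion) and i ≫ f' = f ≫ j. Assume moreover that the square is
cartesian (X = Y ×_{Y'} X') and that f and f' are locally of finite type. Then f is locally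
quasi-finite, resp. unramified, if and only if f' is (etale-local sense, both notions including
locally of finite type). -/
theorem result {S : Scheme.{u}} {X X' Y Y' : AlgSp.Space S} (i : X ⟶ X') (j : Y ⟶ Y')
    (f : X ⟶ Y) (f' : X' ⟶ Y')
    (hi : AlgSp.IsThickMor i.hom)
    (hj : AlgSp.IsThickMor j.hom) (w : i ≫ f' = f ≫ j)
    (hcart : IsPullback i.hom f.hom f'.hom j.hom)
    (hft : AlgSp.LocP @LocallyOfFiniteType f.hom) (hft' : AlgSp.LocP @LocallyOfFiniteType f'.hom) :
    (AlgSp.LocP (@LocallyQuasiFinite ⊓ @LocallyOfFiniteType) f.hom ↔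
      AlgSp.LocP (@LocallyQuasiFinite ⊓ @LocallyOfFiniteType) f'.hom) ∧
    (AlgSp.LocP (@LocallyOfFiniteType ⊓ @FormallyUnramified) f.hom ↔
      AlgSp.LocP (@LocallyOfFiniteType ⊓ @FormallyUnramified) f'.hom) := by
  obtain ⟨c⟩ := Groth.Agent.H13AlgSp.ThickCharts.exists_charts X'.property Y'.property hj hcart
  have hl := iff_of_true hft hft'
  exact ⟨c.lqf_lft_iff hl, c.unramified_iff hl⟩

end Groth.Agent.S10593
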