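import Groth.Statements.S10599
import Groth.Agent.H13AlgSp.ThickThree

set_option autoImplicit false
universe u
open CategoryTheory CategoryTheory.Limits AlgebraicGeometry
open AlgSp

namespace Groth.Agent.S10599

/-- Let iB : B ⟶ B' be a thickening of algebraic spaces over S (representable, every base change to a
scheme a surjective closed immersion), f' : X' ⟶ Y' a morphism of algebraic spaces over B' (via g' :
Y' ⟶ B') with Y' locally of finite type over B' and X' flat and locally of finite presentation over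
B', and f : X ⟶ Y, g : Y ⟶ B its base change to B (both squares to iB cartesian, iX ≫ f' = f ≫ iY).
Then f is locally of finite type of relative dimension d, resp. flat, resp. locally quasi-finite,
smooth, unramified, etale, if and only if f' is (etale-local sense; locally quasi-finite and
unramified include locally of finite type). -/
theorem result {S : Scheme.{u}} {X X' Y Y' B B' : AlgSp.Space S} (iX : X ⟶ X') (iY : Y ⟶ Y') (iB : B ⟶ B')
    (f : X ⟶ Y) (f' : X' ⟶ Y') (g : Y ⟶ B) (g' : Y' ⟶ B')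
    (hcX : IsPullback iX.hom (f ≫ g).hom (f' ≫ g').hom iB.hom) (hcY : IsPullback iY.hom g.hom g'.hom iB.hom)
    (w : iX ≫ f' = f ≫ iY)
    (hB : AlgSp.IsThickMor iB.hom)
    (hg' : AlgSp.LocP @LocallyOfFiniteType g'.hom)
    (hflat : AlgSp.LocP @Flat (f' ≫ g').hom) (hfp : AlgSp.LocP @LocallyOfFinitePresentation (f' ≫ g').hom) (d : ℕ) :
    ((AlgSp.LocP @LocallyOfFiniteType f.hom ∧
        ∀ x, AlgSp.HasAtMor (fun _ _ h u => FlatMor.fibreDimAt h u = (d : WithBot ℕ∞)) f.hom x) ↔
      (AlgSp.LocP @LocallyOfFiniteType f'.hom ∧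
        ∀ x', AlgSp.HasAtMor (fun _ _ h u => FlatMor.fibreDimAt h u = (d : WithBot ℕ∞)) f'.hom x')) ∧
    (AlgSp.LocP @Flat f.hom ↔ AlgSp.LocP @Flat f'.hom) ∧
    (AlgSp.LocP (@LocallyQuasiFinite ⊓ @LocallyOfFiniteType) f.hom ↔
      AlgSp.LocP (@LocallyQuasiFinite ⊓ @LocallyOfFiniteType) f'.hom) ∧
    (AlgSp.LocP @Smooth f.hom ↔ AlgSp.LocP @Smooth f'.hom) ∧
    (AlgSp.LocP (@LocallyOfFiniteType ⊓ @FormallyUnramified) f.hom ↔
      AlgSp.LocP (@LocallyOfFiniteType ⊓ @FormallyUnramified) f'.hom) ∧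
    (AlgSp.IsEtaleMor f.hom ↔ AlgSp.IsEtaleMor f'.hom) := by
  obtain ⟨t⟩ := Groth.Agent.H13AlgSp.ThickCharts.exists_three X'.property Y'.property B'.property hB hcX hcY
    (congrArg (fun e : X ⟶ Y' => e.hom) w)
  have := t.flat_comp hflat
  have : LocallyOfFinitePresentation (t.top.h'.left ≫ t.k'.left) :=
    hfp t.top.a' t.c' (t.top.h' ≫ t.k') t.top.ha' t.hc' (by
      show t.top.a' ≫ f'.hom ≫ g'.hom = _
      rw [← Category.assoc, t.top.w', Category.assoc, t.wk', Functor.map_comp, Category.assoc])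
  have : LocallyOfFiniteType t.k'.left := hg' t.top.b' t.c' t.k' t.top.hb' t.hc' t.wk'
  have hl' : LocallyOfFiniteType t.top.h'.left := locallyOfFiniteType_of_comp t.top.h'.left t.k'.left
  have hl'' : AlgSp.LocP @LocallyOfFiniteType f'.hom :=
    Groth.Agent.H12AlgSp.locP_of_one_chart Groth.Agent.H12AlgSp.etLocal_lft t.top.h' t.top.ha'
      t.top.has' t.top.hb' t.top.w' hl'
  have hl : AlgSp.LocP @LocallyOfFiniteType f.hom ↔ AlgSp.LocP @LocallyOfFiniteType f'.hom :=
    t.top.locP_iff Groth.Agent.H12AlgSp.etLocal_lft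
      (iff_of_true (MorphismProperty.of_isPullback t.top.sq hl') hl')
  refine ⟨t.top.lft_fibreDim_iff (fun e => e = (d : WithBot ℕ∞)) hl, t.top.locP_iff Groth.Agent.H12AlgSp.etLocal_flat
    (Groth.Agent.S1381.result _ _ _ _ _ _ _ t.thickW t.sqX t.sqY t.w),
    t.top.lqf_lft_iff hl,
    t.top.locP_iff Groth.Agent.H12AlgSp.etLocal_smooth
      (Groth.Agent.S1384.result _ _ _ _ _ _ _ t.thickW t.sqX t.sqY t.w),
    t.top.unramified_iff hl, ?_⟩
  rw [Groth.Agent.H12AlgSp.isEtaleMor_iff_locP_etale Y.property,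
    Groth.Agent.H12AlgSp.isEtaleMor_iff_locP_etale Y'.property]
  exact t.top.locP_iff Groth.Agent.H12AlgSp.etLocal_etale
    (Groth.Agent.S1385.result _ _ _ _ _ _ _ t.thickW t.sqX t.sqY t.w)

end Groth.Agent.S10599
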