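import Groth.Statements.S10601
import Groth.Agent.H13AlgSp.InjectiveEtale

set_option autoImplicit false
universe u
open CategoryTheory CategoryTheory.Limits AlgebraicGeometry
open AlgSp

namespace Groth.Agent.S10601

open Groth.Agent.H12AlgSp Groth.Agent.H13AlgSp


/-- Take a morphism f : X ⟶ Y of algebraic spaces over S that is locally of finite type and such that
for every etale morphism V ⟶ Y of algebraic spaces the base change X ×_Y V ⟶ V is injective on
points. Then f is universally injective. -/
theorem result {S : Scheme.{u}} {X Y : AlgSp.Space S} (f : X ⟶ Y)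
    (hft : AlgSp.LocP @LocallyOfFiniteType f.hom)
    (hinj : ∀ (V : AlgSp.Space S) (g : V ⟶ Y), AlgSp.IsEtaleMor g.hom →
      ∀ (P : AlgSp.Sp S) (fst : P ⟶ X.obj) (snd : P ⟶ V.obj), IsPullback fst snd f.hom g.hom →
        Function.Injective (AlgSp.Points.map snd)) :
    AlgSp.IsUnivInjectiveMor f.hom := by
  obtain ⟨W, p, hp, hps⟩ := Y.property.atlas
  have sq := IsPullback.of_hasPullback f.hom p
  have hP := isAlgSpace_pullback Y.property.diag X.property (AlgSp.IsAlgSpace.yon_obj W) f.hom p
  refine isUnivInjectiveMor_of_surjective_baseChange X.property (surjective_map_of_repWith le_rfl hps) hP sq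
    (isUnivInjectiveMor_of_injective_etale_scheme hP _
      (Groth.Agent.H12AlgSp.locP_of_isPullback etLocal_lft sq X.property Y.property (AlgSp.IsAlgSpace.yon_obj W) hft)
      fun W' g hg P fst snd sq' => ?_)
  exact hinj ⟨_, AlgSp.IsAlgSpace.yon_obj W'⟩ (ObjectProperty.homMk ((AlgSp.yon S).map g ≫ p))
    (isEtaleMor_of_locP_etale Y.property (locP_of_repWith etLocal_etale
      (MorphismProperty.comp_mem _ _ _ ((repWith_yon_map_iff _ _).2 hg) hp)))
    P _ snd (sq'.paste_horiz sq)

end Groth.Agent.S10601
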