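import Groth.Statements.S10629
import Groth.Agent.H13Inf.SmoothApps
import Groth.Agent.S1488

set_option autoImplicit false
universe u
open CategoryTheory CategoryTheory.Limits AlgebraicGeometry
open AlgSp

namespace Groth.Agent.S10629

/-- A morphism f : X ⟶ Y of algebraic spaces over S is smooth if and only if it is locally of finite
presentation and formally smooth (lifting sense). -/
theorem result {S : Scheme.{u}} {X Y : AlgSp.Space S} (f : X ⟶ Y) :
    AlgSp.LocP @Smooth f.hom ↔ AlgSp.LocP @LocallyOfFinitePresentation f.hom ∧ AlgSp.IsFormallySmoothMor f.hom := by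
  refine ⟨fun h => ⟨fun U V a b k ha hb e => ((S1488.result k.left).1 (h a b k ha hb e)).1, ?_⟩,
    fun h U V a b k ha hb e => (S1488.result k.left).2
      ⟨h.1 a b k ha hb e, H13Inf.isFormallySmoothHom_chart h.2 ha hb e⟩⟩
  obtain ⟨U, V, a, b, k, ha, ha', hb, -, e⟩ := H12AlgSp.exists_chart X.property Y.property f.hom
  exact H13Inf.SmoothChart.isFormallySmoothMor_of_chart ha ha' hb e ((S1488.result k.left).1 (h a b k ha hb e)).2

end Groth.Agent.S10629
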