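import Groth.Statements.S10602
import Groth.Agent.H13Inf.SmallExt
import Groth.Agent.H13Inf.SmoothAtFinite
import Groth.Agent.S10629

set_option autoImplicit false
universe u
open CategoryTheory CategoryTheory.Limits AlgebraicGeometry
open AlgSp

namespace Groth.Agent.S10602

/-- Take a morphism f : X ⟶ Y of algebraic spaces over S that is locally of finite type, with Y locally
Noetherian. Then f is smooth if and only if for every surjection π : B' → B of Artinian local rings
whose kernel is principal and killed by the maximal ideal of B', every structure map Spec B' ⟶ S,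
every α : Spec B ⟶ X and every β : Spec B' ⟶ Y locally of finite type with α ≫ f = Spec(π) ≫ β,
there is γ : Spec B' ⟶ X with Spec(π) ≫ γ = α and γ ≫ f = β. (The published statement asks for lifts
only against β of finite type, which can be vacuous when Y is not quasi-separated; this row asks for
lifts against every β locally of finite type.) -/
theorem result {S : Scheme.{u}} {X Y : AlgSp.Space S} (f : X ⟶ Y)
    (hY : AlgSp.IsLocNoethSp Y.obj) (hft : AlgSp.LocP @LocallyOfFiniteType f.hom) :
    AlgSp.LocP @Smooth f.hom ↔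
      ∀ (B' B : Type u) [CommRing B'] [CommRing B] [IsLocalRing B'] [IsLocalRing B]
        [IsArtinianRing B'] [IsArtinianRing B] (π : B' →+* B), Function.Surjective π →
        (∃ t : B', RingHom.ker π = Ideal.span {t} ∧ ∀ a ∈ IsLocalRing.maximalIdeal B', a * t = 0) →
        ∀ (s : Spec (CommRingCat.of B') ⟶ S)
          (α : (AlgSp.yon S).obj (Over.mk (Spec.map (CommRingCat.ofHom π) ≫ s)) ⟶ X.obj)
          (β : (AlgSp.yon S).obj (Over.mk s) ⟶ Y.obj),
          AlgSp.LocP @LocallyOfFiniteType β →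
          α ≫ f.hom = (AlgSp.yon S).map
            (Over.homMk (Spec.map (CommRingCat.ofHom π)) :
              Over.mk (Spec.map (CommRingCat.ofHom π) ≫ s) ⟶ Over.mk s) ≫ β →
          ∃ γ : (AlgSp.yon S).obj (Over.mk s) ⟶ X.obj,
            (AlgSp.yon S).map (Over.homMk (Spec.map (CommRingCat.ofHom π)) :
              Over.mk (Spec.map (CommRingCat.ofHom π) ≫ s) ⟶ Over.mk s) ≫ γ = α ∧ γ ≫ f.hom = β := by
  refine ⟨fun hsm B' B _ _ _ _ _ _ π hπ ht s α β _ w =>
    H13Inf.exists_lift_surj ((S10629.result f).1 hsm).2 hπ (H13Inf.sq_eq_bot_of_small ht) w, fun H U V a b h ha hb wh => ?_⟩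
  have := H12AlgSp.isLocallyNoetherian_chart Y.property hY hb
  have : LocallyOfFiniteType h.left := hft a b h ha hb wh
  have key : ∀ u : U.left, ∃ W : U.left.Opens, u ∈ W ∧ Smooth (W.ι ≫ h.left) := by
    intro u
    obtain ⟨_, ⟨V₀, hV₀, rfl⟩, huV, -⟩ := V.left.isBasis_affineOpens.exists_subset_of_mem_open
      (Set.mem_univ (h.left u)) isOpen_univ
    obtain ⟨_, ⟨U₀, hU₀, rfl⟩, huU, hle⟩ := U.left.isBasis_affineOpens.exists_subset_of_mem_open
      (show u ∈ h.left ⁻¹ᵁ V₀ from huV) (h.left ⁻¹ᵁ V₀).isOpen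
    have : IsNoetherianRing Γ(V.left, V₀) := IsLocallyNoetherian.component_noetherian ⟨V₀, hV₀⟩
    have hφ := LocallyOfFiniteType.finiteType_appLE (f := h.left) hV₀ hU₀ hle
    have hu : hU₀.fromSpec (hU₀.primeIdealOf ⟨u, huU⟩) = u := hU₀.fromSpec_primeIdealOf ⟨u, huU⟩
    rw [← hu]
    refine H13Inf.exists_open_smooth h.left hU₀.fromSpec hV₀.fromSpec
      (hV₀.SpecMap_appLE_fromSpec h.left hU₀ hle).symm hφ _ ?_
    let p := hU₀.primeIdealOf ⟨u, huU⟩
    algebraize [(h.left.appLE V₀ U₀ hle).hom]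
    have : Algebra.FinitePresentation Γ(V.left, V₀) Γ(U.left, U₀) :=
      Algebra.FinitePresentation.of_finiteType.1 hφ
    obtain ⟨m, hm, hpm⟩ := Ideal.exists_le_maximal p.asIdeal p.2.ne_top
    have hmax : Algebra.IsSmoothAt Γ(V.left, V₀) m := by
      refine H13Inf.SmoothAtFinite.isSmoothAt_of_lift m fun B' B _ _ _ _ _ _ _ _ π hπ ht hfin g _ => ?_
      refine Exists.elim (H13Inf.exists_ringHom_lift ha hb wh hU₀.fromSpec hV₀.fromSpec
        (hV₀.SpecMap_appLE_fromSpec h.left hU₀ hle).symm (π := π.toRingHom) hπ (H13Inf.sq_eq_bot_of_small ht)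
        (algebraMap Γ(V.left, V₀) B') g.toRingHom (RingHom.ext fun r => (g.commutes r).trans (π.commutes r).symm)
        (fun s α β' hβ' _ w => H B' B π.toRingHom hπ ht s α _ ?_ w)) fun g' hg' => ?_
      swap
      · exact ⟨{ g' with commutes' := fun r => RingHom.congr_fun hg'.1 r }, AlgHom.ext fun a => RingHom.congr_fun hg'.2 a⟩
      have hr : LocallyOfFiniteType (Spec.map (CommRingCat.ofHom (algebraMap Γ(V.left, V₀) B'))) :=
        (HasRingHomProperty.Spec_iff (P := @LocallyOfFiniteType)).2 (RingHom.finiteType_algebraMap.2 hfin)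
      have hl : LocallyOfFiniteType β'.left := by rw [hβ']; infer_instance
      exact H12AlgSp.locP_comp H12AlgSp.etLocal_lft (IsAlgSpace.yon_obj _) (IsAlgSpace.yon_obj _) Y.property
        (H12AlgSp.locP_of_repWith H12AlgSp.etLocal_lft ((AlgSp.repWith_yon_map_iff _ β').2 hl))
        (H12AlgSp.locP_of_repWith H12AlgSp.etLocal_lft
          (H12AlgSp.repWith_le (fun _ _ k (_ : Etale k) => inferInstanceAs (LocallyOfFiniteType k)) hb))
    exact ((PrimeSpectrum.le_iff_specializes p ⟨m, hm.isPrime⟩).1 hpm).mem_open Algebra.isOpen_smoothLocus hmax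
  choose W hW hs using key
  refine IsZariskiLocalAtSource.of_iSup_eq_top (P := @Smooth) W ?_ hs
  exact top_le_iff.1 fun u _ => TopologicalSpace.Opens.mem_iSup.2 ⟨u, hW u⟩

end Groth.Agent.S10602
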