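import Groth.Statements.S10605
import Groth.Agent.H13AlgSp.AffineLocal

set_option autoImplicit false
universe u
open CategoryTheory CategoryTheory.Limits AlgebraicGeometry
open AlgSp

namespace Groth.Agent.S10605

/-- The property of a morphism of algebraic spaces over S of being a thickening (representable, every
base change to a scheme a surjective closed immersion) is local on the base for the fpqc topology.
(The published statement also claims the same for first order thickenings; this row states only the
thickening clause.) -/
theorem result {S : Scheme.{u}} :
    AlgSp.IsLocalOnBase (S := S) AlgSp.IsFpqcCover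
      AlgSp.IsThickMor := by
  haveI : MorphismProperty.DescendsAlong (@Surjective : MorphismProperty Scheme.{u})
      Groth.Agent.H18Descent.fpqc.{u} := ⟨fun {_ _ _ _ fst snd f g} h hf hfst => ⟨fun z => by
    obtain ⟨⟨hs, -⟩, -⟩ := hf
    have : Surjective fst := hfst
    have : Surjective f := hs
    obtain ⟨a, ha⟩ := (fst ≫ f).surjective z
    exact ⟨snd a, by rw [← Scheme.Hom.comp_apply, ← h.w, ha]⟩⟩⟩
  exact Groth.Agent.H13AlgSp.isLocalOnBase_fpqc_repWith (P := @IsClosedImmersion ⊓ @Surjective)
    (fun _ _ f h => have : IsClosedImmersion f := h.1; inferInstance)

end Groth.Agent.S10605
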