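import Groth.Statements.S2060
import Mathlib.RingTheory.Smooth.Local
import Mathlib.RingTheory.Smooth.Locus
import Mathlib.RingTheory.Kaehler.Polynomial
import Mathlib.RingTheory.Etale.Kaehler
import Mathlib.RingTheory.Filtration
import Mathlib.RingTheory.HopkinsLevitzki
import Mathlib.RingTheory.Polynomial.Basic
import Mathlib.RingTheory.Localization.AtPrime.Basic
import Mathlib.RingTheory.EssentialFiniteness
import Mathlib.LinearAlgebra.TensorProduct.Quotient

set_option autoImplicit false
universe u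
open CAlg

namespace Groth.Agent.S2060


open TensorProduct IsLocalRing in
theorem aux (R Pl O : Type u) [CommRing R] [CommRing Pl] [CommRing O] [IsLocalRing Pl] [IsNoetherianRing Pl]
    [IsLocalRing O] [Algebra R Pl] [Algebra R O] [Algebra Pl O] [IsScalarTower R Pl O]
    [Algebra.FormallySmooth R Pl] [Module.Free Pl Ω[Pl⁄R]] [Module.Finite Pl Ω[Pl⁄R]]
    (hsurj : Function.Surjective (algebraMap Pl O))
    (H : ∀ (B' B : Type u) [CommRing B'] [CommRing B] [IsLocalRing B'] [IsLocalRing B]
        [IsArtinianRing B'] [IsArtinianRing B] [Algebra R B'] [Algebra R B] (π : B' →ₐ[R] B),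
        Function.Surjective π →
        (∃ t : B', RingHom.ker π.toRingHom = Ideal.span {t} ∧
          ∀ a ∈ IsLocalRing.maximalIdeal B', a * t = 0) →
        ∀ θ : O →ₐ[R] B, IsLocalHom θ.toRingHom → ∃ θ' : O →ₐ[R] B', π.comp θ' = θ) :
    Algebra.FormallySmooth R O := by
  classical
  rw [Algebra.FormallySmooth.iff_injective_cotangentComplexBaseChange_residueField Pl hsurj (IsNoetherian.noetherian _)]
  have hκs : Function.Surjective (algebraMap Pl (ResidueField O)) := by
    rw [IsScalarTower.algebraMap_eq Pl O (ResidueField O), RingHom.coe_comp]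
    exact residue_surjective.comp hsurj
  have hkerκ : RingHom.ker (algebraMap Pl (ResidueField O)) = maximalIdeal Pl :=
    eq_maximalIdeal (RingHom.ker_isMaximal_of_surjective _ hκs)
  let m := maximalIdeal Pl
  let e0 : (Pl ⧸ m) ≃ₐ[Pl] ResidueField O :=
    (Ideal.quotientEquivAlgOfEq Pl hkerκ.symm).trans
      (Ideal.quotientKerAlgEquivOfSurjective (f := Algebra.ofId Pl (ResidueField O)) hκs)
  -- `1 ⊗ y = 0` in the residue field tensor product means `y ∈ m • M`
  have hzero : ∀ (M : Type u) [AddCommGroup M] [Module Pl M] (y : M),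
      (1 : ResidueField O) ⊗ₜ[Pl] y = 0 ↔ y ∈ m • (⊤ : Submodule Pl M) := by
    intro M _ _ y
    rw [← Submodule.Quotient.mk_eq_zero, ← (TensorProduct.quotTensorEquivQuotSMul M m).symm.map_eq_zero_iff,
      TensorProduct.quotTensorEquivQuotSMul_symm_mk, ← (LinearEquiv.rTensor M e0.toLinearEquiv).map_eq_zero_iff,
      LinearEquiv.rTensor_tmul]
    rw [show e0.toLinearEquiv 1 = 1 from map_one e0]
  rw [injective_iff_map_eq_zero]
  intro z hz
  obtain ⟨x, rfl⟩ : ∃ x, (1 : ResidueField O) ⊗ₜ[Pl] x = z := TensorProduct.mk_surjective Pl _ _ hκs z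
  by_contra hne
  rw [KaehlerDifferential.cotangentComplexBaseChange_tmul, one_smul, KaehlerDifferential.kerToTensor_apply, hzero] at hz
  rw [hzero] at hne
  let J : Ideal Pl := RingHom.ker (algebraMap Pl O)
  have hxJ : (x : Pl) ∈ J := x.2
  have hJm : J ≤ m := le_maximalIdeal (RingHom.ker_ne_top _)
  have hxmJ : (x : Pl) ∉ m * J := by
    intro h
    apply hne
    rw [Submodule.mem_smul_top_iff, smul_eq_mul]
    exact h
  obtain ⟨c, hc⟩ := Ideal.exists_pow_inf_eq_pow_smul m (J : Submodule Pl Pl)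
  have hc1 : m ^ (c + 1) ⊓ J ≤ m * J := by
    have h := hc (c + 1) (Nat.le_succ c)
    rw [show c + 1 - c = 1 by omega, pow_one, smul_eq_mul, smul_eq_mul, Ideal.mul_top] at h
    exact h.le.trans (Ideal.mul_mono_right inf_le_right)
  have hx0 : (x : Pl) ∉ m * J ⊔ m ^ (c + 1) := by
    intro h
    obtain ⟨a, ha, b, hb, hab⟩ := Submodule.mem_sup.mp h
    have hbJ : b ∈ J := by
      have h3 := J.sub_mem hxJ (Ideal.mul_le_right ha)
      rwa [← hab, add_sub_cancel_left] at h3
    exact hxmJ (hab ▸ add_mem ha (hc1 ⟨hb, hbJ⟩))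
  obtain ⟨H0, ⟨hH0, hH0', hH0x⟩, hmax⟩ := set_has_maximal_iff_noetherian.mpr inferInstance
    {H0 : Ideal Pl | m * J ⊔ m ^ (c + 1) ≤ H0 ∧ H0 ≤ J ⊔ m ^ (c + 1) ∧ (x : Pl) ∉ H0}
    ⟨m * J ⊔ m ^ (c + 1), le_rfl, sup_le_sup_right Ideal.mul_le_right _, hx0⟩
  -- the two artinian rings
  let I := J ⊔ m ^ (c + 1)
  have hIm : I ≤ m := sup_le hJm (Ideal.pow_le_self (Nat.succ_ne_zero c))
  have hspan : I = H0 ⊔ Ideal.span {(x : Pl)} := by
    refine le_antisymm (fun y hy => ?_) (sup_le hH0' ((Ideal.span_singleton_le_iff_mem _).mpr (Ideal.mem_sup_left hxJ)))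
    by_cases hyH : y ∈ H0
    · exact Ideal.mem_sup_left hyH
    have hxy : (x : Pl) ∈ H0 ⊔ Ideal.span {y} := by
      by_contra hxy
      have hnlt := hmax (H0 ⊔ Ideal.span {y}) ⟨hH0.trans le_sup_left,
        sup_le hH0' ((Ideal.span_singleton_le_iff_mem _).mpr hy), hxy⟩
      exact hnlt (SetLike.lt_iff_le_and_exists.mpr
        ⟨le_sup_left, y, Ideal.mem_sup_right (Ideal.mem_span_singleton_self y), hyH⟩)
    obtain ⟨a, ha, b, hb, hab⟩ := Submodule.mem_sup.mp hxy
    obtain ⟨d, rfl⟩ := Ideal.mem_span_singleton'.mp hb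
    by_cases hd : d ∈ m
    · refine absurd (hab ▸ H0.add_mem ha ?_) hH0x
      obtain ⟨y1, hy1, y2, hy2, rfl⟩ := Submodule.mem_sup.mp hy
      rw [mul_add]
      exact hH0 (add_mem (Ideal.mem_sup_left (Ideal.mul_mem_mul hd hy1)) (Ideal.mem_sup_right (Ideal.mul_mem_left _ _ hy2)))
    · have hdu : IsUnit d := IsLocalRing.notMem_maximalIdeal.mp hd
      obtain ⟨u, rfl⟩ := hdu
      have : y = (↑u⁻¹ : Pl) * (x : Pl) - (↑u⁻¹ : Pl) * a := by
        rw [← hab, mul_add, ← mul_assoc, Units.inv_mul, one_mul, add_sub_cancel_left]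
      rw [this]
      exact sub_mem (Ideal.mul_mem_left _ _ (Ideal.mem_sup_right (Ideal.mem_span_singleton_self _)))
        (Ideal.mul_mem_left _ _ (Ideal.mem_sup_left ha))
  have hIne : I ≠ ⊤ := ne_top_of_le_ne_top (maximalIdeal.isMaximal Pl).ne_top hIm
  have hH0ne : H0 ≠ ⊤ := ne_top_of_le_ne_top hIne hH0'
  haveI : Nontrivial (Pl ⧸ I) := Ideal.Quotient.nontrivial_iff.mpr hIne
  haveI : Nontrivial (Pl ⧸ H0) := Ideal.Quotient.nontrivial_iff.mpr hH0ne
  haveI : IsLocalRing (Pl ⧸ I) := .of_surjective' (Ideal.Quotient.mk I) Ideal.Quotient.mk_surjective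
  haveI : IsLocalRing (Pl ⧸ H0) := .of_surjective' (Ideal.Quotient.mk H0) Ideal.Quotient.mk_surjective
  have hmaxH : ∀ (K : Ideal Pl) [IsLocalRing (Pl ⧸ K)], maximalIdeal (Pl ⧸ K) = m.map (Ideal.Quotient.mk K) := by
    intro K _
    haveI := IsLocalHom.of_surjective (Ideal.Quotient.mk K) Ideal.Quotient.mk_surjective
    apply Ideal.comap_injective_of_surjective (Ideal.Quotient.mk K) Ideal.Quotient.mk_surjective
    rw [Ideal.comap_map_of_surjective _ Ideal.Quotient.mk_surjective, ← RingHom.ker_eq_comap_bot, Ideal.mk_ker,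
      sup_eq_left.mpr]
    · exact ((local_hom_TFAE (Ideal.Quotient.mk K)).out 0 4 rfl rfl).mp ‹_›
    exact le_maximalIdeal (Ideal.Quotient.nontrivial_iff.mp inferInstance)
  have hart : ∀ (K : Ideal Pl) [IsLocalRing (Pl ⧸ K)], m ^ (c + 1) ≤ K → IsArtinianRing (Pl ⧸ K) := by
    intro K _ hK
    rw [isArtinianRing_iff_isNilpotent_maximalIdeal]
    refine ⟨c + 1, ?_⟩
    rw [hmaxH K, ← Ideal.map_pow, Ideal.zero_eq_bot, Ideal.map_eq_bot_iff_le_ker, Ideal.mk_ker]
    exact hK
  haveI := hart H0 (le_sup_right.trans hH0)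
  haveI := hart I le_sup_right
  let π : (Pl ⧸ H0) →ₐ[R] Pl ⧸ I := Ideal.Quotient.liftₐ H0 (Ideal.Quotient.mkₐ R I)
    (fun a ha => Ideal.Quotient.eq_zero_iff_mem.mpr (hH0' ha))
  have hπ : Function.Surjective π := fun y => by
    obtain ⟨a, rfl⟩ := Ideal.Quotient.mk_surjective y
    exact ⟨Ideal.Quotient.mk H0 a, rfl⟩
  let ψ : Pl →ₐ[R] Pl ⧸ H0 := Ideal.Quotient.mkₐ R H0
  have hkπ : ∀ w, π w = 0 → ∃ d : Pl, w = ψ (d * x) := by
    intro w hw
    obtain ⟨a, rfl⟩ := Ideal.Quotient.mk_surjective w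
    have ha : a ∈ H0 ⊔ Ideal.span {(x : Pl)} := hspan ▸ Ideal.Quotient.eq_zero_iff_mem.mp hw
    obtain ⟨a1, ha1, b, hb, rfl⟩ := Submodule.mem_sup.mp ha
    obtain ⟨d, rfl⟩ := Ideal.mem_span_singleton'.mp hb
    exact ⟨d, Ideal.Quotient.eq.mpr (by rwa [add_sub_cancel_right])⟩
  have hkill : ∀ (r : Pl), r ∈ m → ∀ w, π w = 0 → ψ r * w = 0 := by
    intro r hr w hw
    obtain ⟨d, rfl⟩ := hkπ w hw
    rw [← map_mul]
    exact Ideal.Quotient.eq_zero_iff_mem.mpr (hH0 (Ideal.mem_sup_left
      (by rw [← mul_assoc]; exact Ideal.mul_mem_mul (Ideal.mul_mem_right _ _ hr) hxJ)))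
  have hker : RingHom.ker π.toRingHom = Ideal.span {ψ x} := by
    refine le_antisymm (fun w hw => ?_) ((Ideal.span_singleton_le_iff_mem _).mpr ?_)
    · obtain ⟨d, rfl⟩ := hkπ w hw
      rw [map_mul]
      exact Ideal.mul_mem_left _ _ (Ideal.mem_span_singleton_self _)
    · show π (ψ x) = 0
      exact Ideal.Quotient.eq_zero_iff_mem.mpr (Ideal.mem_sup_left hxJ)
  -- the map from `O`
  let θ : O →ₐ[R] Pl ⧸ I := (Ideal.Quotient.liftₐ J (Ideal.Quotient.mkₐ R I)
      (fun a ha => Ideal.Quotient.eq_zero_iff_mem.mpr (Ideal.mem_sup_left ha))).comp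
    (Ideal.quotientKerAlgEquivOfSurjective (f := IsScalarTower.toAlgHom R Pl O) hsurj).symm.toAlgHom
  have hθ : ∀ a, θ (algebraMap Pl O a) = Ideal.Quotient.mk I a := by
    intro a
    let e := Ideal.quotientKerAlgEquivOfSurjective (f := IsScalarTower.toAlgHom R Pl O) hsurj
    have h1 : e.symm (algebraMap Pl O a) = Ideal.Quotient.mk _ a := by
      rw [AlgEquiv.symm_apply_eq]
      rfl
    simp only [θ, AlgHom.comp_apply, AlgEquiv.coe_toAlgHom, AlgEquiv.toAlgHom_eq_coe]
    exact (congrArg _ h1).trans rfl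
  have hθloc : IsLocalHom θ.toRingHom := .of_surjective θ.toRingHom fun y => by
    obtain ⟨a, rfl⟩ := Ideal.Quotient.mk_surjective y
    exact ⟨algebraMap Pl O a, hθ a⟩
  obtain ⟨θ', hθ'⟩ := H (Pl ⧸ H0) (Pl ⧸ I) π hπ ⟨ψ x, hker, fun a ha => by
    rw [hmaxH H0, Ideal.mem_map_iff_of_surjective _ Ideal.Quotient.mk_surjective] at ha
    obtain ⟨r, hr, rfl⟩ := ha
    exact hkill r hr _ (Ideal.Quotient.eq_zero_iff_mem.mpr (Ideal.mem_sup_left hxJ))⟩ θ hθloc
  -- the difference is a derivation
  let φ : Pl →ₐ[R] Pl ⧸ H0 := θ'.comp (IsScalarTower.toAlgHom R Pl O)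
  have hdiff : ∀ a, π (ψ a - φ a) = 0 := fun a => by
    rw [map_sub, sub_eq_zero]
    exact ((AlgHom.congr_fun hθ' (algebraMap Pl O a)).trans (hθ a)).symm
  let N' : Submodule Pl (Pl ⧸ H0) := (I.map (Ideal.Quotient.mk H0)).restrictScalars Pl
  have hN' : ∀ a, ψ a - φ a ∈ N' := fun a => by
    obtain ⟨d, hd⟩ := hkπ _ (hdiff a)
    show ψ a - φ a ∈ I.map (Ideal.Quotient.mk H0)
    rw [hd]
    exact Ideal.mem_map_of_mem _ (Ideal.mul_mem_left _ _ (Ideal.mem_sup_left hxJ))
  have hN'kill : ∀ r ∈ m, ∀ w ∈ N', r • w = 0 := by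
    intro r hr w hw
    obtain ⟨a, ha, rfl⟩ := (Ideal.mem_map_iff_of_surjective _ Ideal.Quotient.mk_surjective).mp hw
    rw [Algebra.smul_def]
    exact hkill r hr _ (Ideal.Quotient.eq_zero_iff_mem.mpr ha)
  let δ : Derivation R Pl N' := Derivation.mk'
    { toFun := fun a => ⟨ψ a - φ a, hN' a⟩
      map_add' := fun a b => Subtype.ext (by
        show ψ (a + b) - φ (a + b) = (ψ a - φ a) + (ψ b - φ b)
        rw [map_add, map_add]; abel)
      map_smul' := fun r a => Subtype.ext (by
        show ψ (r • a) - φ (r • a) = r • (ψ a - φ a)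
        rw [map_smul, map_smul, smul_sub]) }
    (fun a b => Subtype.ext (by
      show ψ (a * b) - φ (a * b) = a • (ψ b - φ b) + b • (ψ a - φ a)
      rw [Algebra.smul_def, Algebra.smul_def, map_mul, map_mul]
      show ψ a * ψ b - φ a * φ b = ψ a * (ψ b - φ b) + ψ b * (ψ a - φ a)
      have h2 : (ψ b - φ b) * (ψ a - φ a) = 0 := by
        obtain ⟨d, hd⟩ := hkπ _ (hdiff b)
        rw [hd]
        exact hkill _ (hJm (Ideal.mul_mem_left _ _ hxJ)) _ (hdiff a)
      linear_combination (-1 : Pl ⧸ H0) * h2))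
  have h0 : δ (x : Pl) = 0 := by
    rw [← Derivation.liftKaehlerDifferential_comp_D δ]
    refine Submodule.smul_induction_on (p := fun ω => δ.liftKaehlerDifferential ω = 0) hz (fun r hr ω _ => ?_)
      (fun a b ha hb => by rw [map_add, ha, hb, add_zero])
    rw [map_smul]
    exact Subtype.ext (hN'kill r hr _ (δ.liftKaehlerDifferential ω).2)
  have h1 : ψ (x : Pl) - φ (x : Pl) = 0 := congrArg Subtype.val h0
  apply hH0x
  rw [← Ideal.Quotient.eq_zero_iff_mem]
  show ψ (x : Pl) = 0
  have h2 : φ (x : Pl) = 0 := by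
    show θ' (algebraMap Pl O x) = 0
    rw [show algebraMap Pl O (x : Pl) = 0 from hxJ, map_zero]
  rwa [h2, sub_zero] at h1

/-- Let `R` be Noetherian, `S` of finite type over `R` and `𝔮` a prime of `S`. Then `R → S` is smooth at
`𝔮` if and only if for every surjection `B' → B` of Artinian local `R`-algebras whose kernel is
principal and killed by the maximal ideal of `B'`, every `R`-algebra map `S → B` under which the
maximal ideal pulls back to `𝔮` lifts to `B'`. -/
theorem result {R S : Type u} [CommRing R] [IsNoetherianRing R]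
    [CommRing S] [Algebra R S] [Algebra.FiniteType R S] (q : Ideal S) [q.IsPrime] :
    Algebra.IsSmoothAt R q ↔
      ∀ (B' B : Type u) [CommRing B'] [CommRing B] [IsLocalRing B'] [IsLocalRing B]
        [IsArtinianRing B'] [IsArtinianRing B] [Algebra R B'] [Algebra R B] (π : B' →ₐ[R] B),
        Function.Surjective π →
        (∃ t : B', RingHom.ker π.toRingHom = Ideal.span {t} ∧
          ∀ a ∈ IsLocalRing.maximalIdeal B', a * t = 0) →
        ∀ g : S →ₐ[R] B, (IsLocalRing.maximalIdeal B).comap g = q →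
          ∃ g' : S →ₐ[R] B', π.comp g' = g := by

  classical
  constructor
  · intro hsm B' B _ _ _ _ _ _ _ _ π hπ ⟨t, ht, htm⟩ g hg
    haveI : Algebra.FormallySmooth R (Localization.AtPrime q) := hsm
    have htmem : t ∈ IsLocalRing.maximalIdeal B' := by
      by_contra h
      have : RingHom.ker π.toRingHom = ⊤ := by
        rw [ht, Ideal.span_singleton_eq_top]; exact IsLocalRing.notMem_maximalIdeal.mp h
      exact RingHom.ker_ne_top π.toRingHom this
    have hnil : IsNilpotent (RingHom.ker (π : B' →+* B)) := by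
      refine ⟨2, ?_⟩
      show RingHom.ker π.toRingHom ^ 2 = ⊥
      rw [ht, Ideal.span_singleton_pow, pow_two, htm t htmem, Ideal.span_singleton_zero]
    let gO : Localization.AtPrime q →ₐ[R] B := IsLocalization.liftAlgHom (M := q.primeCompl) (f := g) fun s => by
      rw [← IsLocalRing.notMem_maximalIdeal]
      intro hs
      exact s.2 ((SetLike.ext_iff.mp hg (s : S)).mp hs)
    let gO' := Algebra.FormallySmooth.liftOfSurjective gO π hπ hnil
    refine ⟨gO'.comp (IsScalarTower.toAlgHom R S (Localization.AtPrime q)), AlgHom.ext fun x => ?_⟩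
    have h1 := AlgHom.congr_fun (Algebra.FormallySmooth.comp_liftOfSurjective gO π hπ hnil) (algebraMap S _ x)
    simp only [AlgHom.comp_apply] at h1 ⊢
    exact h1.trans (IsLocalization.lift_eq _ x)
  · intro hlift
    haveI : IsNoetherianRing S := Algebra.FiniteType.isNoetherianRing R S
    obtain ⟨n, π, hπ⟩ := Algebra.FiniteType.iff_quotient_mvPolynomial''.mp ‹Algebra.FiniteType R S›
    let p := q.comap π.toRingHom
    letI : Algebra (Localization.AtPrime p) (Localization.AtPrime q) :=
      (Localization.localRingHom p q π.toRingHom rfl).toAlgebra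
    haveI : IsScalarTower R (Localization.AtPrime p) (Localization.AtPrime q) := .of_algebraMap_eq fun r => by
      rw [RingHom.algebraMap_toAlgebra, IsScalarTower.algebraMap_apply R (MvPolynomial (Fin n) R) (Localization.AtPrime p),
        Localization.localRingHom_to_map, IsScalarTower.algebraMap_apply R S (Localization.AtPrime q)]
      exact congrArg _ (π.commutes r).symm
    have hsurj : Function.Surjective (algebraMap (Localization.AtPrime p) (Localization.AtPrime q)) := by
      intro z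
      obtain ⟨⟨a, b⟩, rfl⟩ := IsLocalization.mk'_surjective q.primeCompl z
      obtain ⟨a', rfl⟩ := hπ a
      obtain ⟨b', hb'⟩ := hπ b
      refine ⟨IsLocalization.mk' _ a' (⟨b', fun hb => b.2 (by rw [← hb']; exact hb)⟩ : p.primeCompl), ?_⟩
      rw [RingHom.algebraMap_toAlgebra, Localization.localRingHom_mk']
      congr 1
      exact Subtype.ext hb'
    haveI : IsNoetherianRing (Localization.AtPrime p) := IsLocalization.isNoetherianRing p.primeCompl _ inferInstance
    haveI : Algebra.FormallySmooth R (Localization.AtPrime p) := Algebra.FormallySmooth.comp R (MvPolynomial (Fin n) R) _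
    haveI : Algebra.FormallyEtale (MvPolynomial (Fin n) R) (Localization.AtPrime p) :=
      Algebra.FormallyEtale.of_isLocalization p.primeCompl
    let eP := KaehlerDifferential.tensorKaehlerEquivOfFormallyEtale R (MvPolynomial (Fin n) R) (Localization.AtPrime p)
    let bPol := KaehlerDifferential.mvPolynomialBasis R (Fin n)
    haveI : Module.Free (MvPolynomial (Fin n) R) Ω[MvPolynomial (Fin n) R⁄R] := Module.Free.of_basis bPol
    haveI : Module.Finite (MvPolynomial (Fin n) R) Ω[MvPolynomial (Fin n) R⁄R] := Module.Finite.of_basis bPol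
    haveI : Module.Free (Localization.AtPrime p) Ω[Localization.AtPrime p⁄R] := Module.Free.of_equiv eP
    haveI : Module.Finite (Localization.AtPrime p) Ω[Localization.AtPrime p⁄R] := Module.Finite.equiv eP
    show Algebra.FormallySmooth R (Localization.AtPrime q)
    exact aux R (Localization.AtPrime p) (Localization.AtPrime q) hsurj fun B' B _ _ _ _ _ _ _ _ π' hπ' ht θ hθ => by
      have hloc : IsLocalHom θ.toRingHom := hθ
      obtain ⟨g', hg'⟩ := hlift B' B π' hπ' ht (θ.comp (IsScalarTower.toAlgHom R S (Localization.AtPrime q))) (by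
        ext x
        rw [Ideal.mem_comap]
        show θ.toRingHom (algebraMap S (Localization.AtPrime q) x) ∈ IsLocalRing.maximalIdeal B ↔ _
        rw [← IsLocalization.AtPrime.to_map_mem_maximal_iff (Localization.AtPrime q) q x]
        exact map_mem_nonunits_iff θ.toRingHom _)
      have hu : ∀ s : q.primeCompl, IsUnit (g' s) := by
        intro s
        haveI : IsLocalHom π'.toRingHom := .of_surjective π'.toRingHom hπ'
        apply isUnit_of_map_unit π'.toRingHom
        show IsUnit (π' (g' s))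
        rw [show π' (g' s) = θ (algebraMap S (Localization.AtPrime q) s) from AlgHom.congr_fun hg' s]
        exact (IsLocalization.map_units (Localization.AtPrime q) s).map θ
      refine ⟨IsLocalization.liftAlgHom (M := q.primeCompl) hu, AlgHom.coe_ringHom_injective ?_⟩
      refine IsLocalization.ringHom_ext q.primeCompl (RingHom.ext fun x => ?_)
      show π' (IsLocalization.liftAlgHom (M := q.primeCompl) hu (algebraMap S (Localization.AtPrime q) x)) = θ (algebraMap S _ x)
      rw [show IsLocalization.liftAlgHom (M := q.primeCompl) hu (algebraMap S (Localization.AtPrime q) x) = g' x from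
        IsLocalization.lift_eq _ x]
      exact AlgHom.congr_fun hg' x

end Groth.Agent.S2060
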