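import Groth.Statements.S10608
import Groth.Agent.H13Inf.SmallExt
import Groth.Agent.S2060

set_option autoImplicit false
universe u
open CategoryTheory CategoryTheory.Limits AlgebraicGeometry
open AlgSp

namespace Groth.Agent.S10608

/-- Take a morphism f : X ⟶ Y of algebraic spaces over S that is locally of finite type, with Y locally
Noetherian, and let x be a point of X. The following are equivalent: (1) f is smooth at x (in some
chart diagram through x the chart morphism is smooth on an open neighbourhood); (2) for every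
surjection π : B' → B of local rings with kernel of square zero, every structure map Spec B' ⟶ S,
every α : Spec B ⟶ X sending the closed point to x and every β : Spec B' ⟶ Y with α ≫ f = Spec(π) ≫
β there is γ : Spec B' ⟶ X with Spec(π) ≫ γ = α and γ ≫ f = β; (3) the same for π ranging over
surjections of Artinian local rings with kernel principal and killed by the maximal ideal. Stated as
(1) ↔ (2) and (1) ↔ (3). -/
theorem result {S : Scheme.{u}} {X Y : AlgSp.Space S} (f : X ⟶ Y)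
    (hY : AlgSp.IsLocNoethSp Y.obj) (hft : AlgSp.LocP @LocallyOfFiniteType f.hom) (x : AlgSp.Points X.obj) :
    (AlgSp.HasAtMor (fun U _ h u => ∃ W : U.Opens, u ∈ W ∧ Smooth (W.ι ≫ h)) f.hom x ↔
      ∀ (B' B : Type u) [CommRing B'] [CommRing B] [IsLocalRing B'] [IsLocalRing B] (π : B' →+* B),
        Function.Surjective π → RingHom.ker π ^ 2 = ⊥ →
        ∀ (s : Spec (CommRingCat.of B') ⟶ S)
          (α : (AlgSp.yon S).obj (Over.mk (Spec.map (CommRingCat.ofHom π) ≫ s)) ⟶ X.obj)
          (β : (AlgSp.yon S).obj (Over.mk s) ⟶ Y.obj),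
          AlgSp.Points.ofPt α (IsLocalRing.closedPoint B) = x →
          α ≫ f.hom = (AlgSp.yon S).map
            (Over.homMk (Spec.map (CommRingCat.ofHom π)) :
              Over.mk (Spec.map (CommRingCat.ofHom π) ≫ s) ⟶ Over.mk s) ≫ β →
          ∃ γ : (AlgSp.yon S).obj (Over.mk s) ⟶ X.obj,
            (AlgSp.yon S).map (Over.homMk (Spec.map (CommRingCat.ofHom π)) :
              Over.mk (Spec.map (CommRingCat.ofHom π) ≫ s) ⟶ Over.mk s) ≫ γ = α ∧ γ ≫ f.hom = β) ∧
    (AlgSp.HasAtMor (fun U _ h u => ∃ W : U.Opens, u ∈ W ∧ Smooth (W.ι ≫ h)) f.hom x ↔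
      ∀ (B' B : Type u) [CommRing B'] [CommRing B] [IsLocalRing B'] [IsLocalRing B]
        [IsArtinianRing B'] [IsArtinianRing B] (π : B' →+* B), Function.Surjective π →
        (∃ t : B', RingHom.ker π = Ideal.span {t} ∧ ∀ a ∈ IsLocalRing.maximalIdeal B', a * t = 0) →
        ∀ (s : Spec (CommRingCat.of B') ⟶ S)
          (α : (AlgSp.yon S).obj (Over.mk (Spec.map (CommRingCat.ofHom π) ≫ s)) ⟶ X.obj)
          (β : (AlgSp.yon S).obj (Over.mk s) ⟶ Y.obj),
          AlgSp.Points.ofPt α (IsLocalRing.closedPoint B) = x →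
          α ≫ f.hom = (AlgSp.yon S).map
            (Over.homMk (Spec.map (CommRingCat.ofHom π)) :
              Over.mk (Spec.map (CommRingCat.ofHom π) ≫ s) ⟶ Over.mk s) ≫ β →
          ∃ γ : (AlgSp.yon S).obj (Over.mk s) ⟶ X.obj,
            (AlgSp.yon S).map (Over.homMk (Spec.map (CommRingCat.ofHom π)) :
              Over.mk (Spec.map (CommRingCat.ofHom π) ≫ s) ⟶ Over.mk s) ≫ γ = α ∧ γ ≫ f.hom = β) := by
  have h12 := @H13Inf.exists_lift_of_smoothAt S X.obj Y.obj X.property f.hom x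
  have h31 : (∀ (B' B : Type u) [CommRing B'] [CommRing B] [IsLocalRing B'] [IsLocalRing B]
        [IsArtinianRing B'] [IsArtinianRing B] (π : B' →+* B), Function.Surjective π →
        (∃ t : B', RingHom.ker π = Ideal.span {t} ∧ ∀ a ∈ IsLocalRing.maximalIdeal B', a * t = 0) →
        ∀ (s : Spec (CommRingCat.of B') ⟶ S)
          (α : (AlgSp.yon S).obj (Over.mk (Spec.map (CommRingCat.ofHom π) ≫ s)) ⟶ X.obj)
          (β : (AlgSp.yon S).obj (Over.mk s) ⟶ Y.obj),
          AlgSp.Points.ofPt α (IsLocalRing.closedPoint B) = x →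
          α ≫ f.hom = (AlgSp.yon S).map (H13Inf.specOver π s) ≫ β →
          ∃ γ : (AlgSp.yon S).obj (Over.mk s) ⟶ X.obj,
            (AlgSp.yon S).map (H13Inf.specOver π s) ≫ γ = α ∧ γ ≫ f.hom = β) →
      AlgSp.HasAtMor (fun U _ h u => ∃ W : U.Opens, u ∈ W ∧ Smooth (W.ι ≫ h)) f.hom x := by
    intro H
    obtain ⟨U, V, a, b, h, u, ha, hb, wh, rfl⟩ := H12AlgSp.exists_chart_at X.property Y.property f.hom x
    refine ⟨U, V, a, b, h, u, ha, hb, wh, rfl, ?_⟩
    have := H12AlgSp.isLocallyNoetherian_chart Y.property hY hb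
    have : LocallyOfFiniteType h.left := hft a b h ha hb wh
    obtain ⟨_, ⟨V₀, hV₀, rfl⟩, huV, -⟩ := V.left.isBasis_affineOpens.exists_subset_of_mem_open
      (Set.mem_univ (h.left u)) isOpen_univ
    obtain ⟨_, ⟨U₀, hU₀, rfl⟩, huU, hle⟩ := U.left.isBasis_affineOpens.exists_subset_of_mem_open
      (show u ∈ h.left ⁻¹ᵁ V₀ from huV) (h.left ⁻¹ᵁ V₀).isOpen
    have : IsNoetherianRing Γ(V.left, V₀) := IsLocallyNoetherian.component_noetherian ⟨V₀, hV₀⟩
    have hφ := LocallyOfFiniteType.finiteType_appLE (f := h.left) hV₀ hU₀ hle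
    have hu : hU₀.fromSpec (hU₀.primeIdealOf ⟨u, huU⟩) = u := hU₀.fromSpec_primeIdealOf ⟨u, huU⟩
    rw [← hu]
    refine H13Inf.exists_open_smooth h.left hU₀.fromSpec hV₀.fromSpec
      (hV₀.SpecMap_appLE_fromSpec h.left hU₀ hle).symm hφ _ ?_
    let q := hU₀.primeIdealOf ⟨u, huU⟩
    algebraize [(h.left.appLE V₀ U₀ hle).hom]
    refine (S2060.result q.asIdeal).2 ?_
    intro B' B _ _ _ _ _ _ _ _ π hπ ht g hg
    obtain ⟨g', h1, h2⟩ := H13Inf.exists_ringHom_lift ha hb wh hU₀.fromSpec hV₀.fromSpec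
      (hV₀.SpecMap_appLE_fromSpec h.left hU₀ hle).symm (π := π.toRingHom) hπ (H13Inf.sq_eq_bot_of_small ht)
      (algebraMap Γ(V.left, V₀) B') g.toRingHom (RingHom.ext fun r => (g.commutes r).trans (π.commutes r).symm)
      (fun s α β' _ hα w => H B' B π.toRingHom hπ ht s α _ (hα.trans (congrArg (AlgSp.Points.ofPt a)
        ((congrArg hU₀.fromSpec (show Spec.map (CommRingCat.ofHom g.toRingHom) (IsLocalRing.closedPoint B) = q from
          PrimeSpectrum.ext hg)).trans hu))) w)
    exact ⟨{ g' with commutes' := fun r => RingHom.congr_fun h1 r }, AlgHom.ext fun a => RingHom.congr_fun h2 a⟩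
  refine ⟨⟨fun hx B' B _ _ _ _ π hπ h2 s α β hα w => h12 hx hπ h2 hα w,
    fun H => h31 fun B' B _ _ _ _ _ _ π hπ ht => H B' B π hπ (H13Inf.sq_eq_bot_of_small ht)⟩,
    ⟨fun hx B' B _ _ _ _ _ _ π hπ ht s α β hα w => h12 hx hπ (H13Inf.sq_eq_bot_of_small ht) hα w, h31⟩⟩

end Groth.Agent.S10608
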