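import Groth.Statements.S1061
import Groth.Agent.H16Derived.ProperSupp.Tensor

set_option autoImplicit false
universe u
open CategoryTheory CategoryTheory.Limits AlgebraicGeometry Opposite
attribute [local instance] HasDerivedCategory.standard
open Perf

namespace Groth.Agent.S1061

/-- In the case of a single module: let S be Noetherian, f : X ⟶ S locally of finite type, E a perfect
object of D(O_X) and G a coherent O_X-module which is flat over S and whose support is proper over
S. Assuming the derived functors - ⊗^L G and Rf_* exist, Rf_*(E ⊗^L_{O_X} G) is a perfect object of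
D(O_S). (The source allows a bounded complex of such modules G.) -/
theorem result {X S : Scheme.{u}} [IsNoetherian S] (f : X ⟶ S) [LocallyOfFiniteType f]
    (E : DCoh.D X) (hE : DCoh.IsPerfect E) (G : X.Modules) (hG : Coh.IsCoh G) (hflat : FlatMod.IsFlatOver f G)
    (hsupp : ClSub.IsProperOver f (CohB1.support G)) [DCoh.HasLTensorMod G] [DCoh.HasRpush f] :
    DCoh.IsPerfect ((DCoh.Rpush f).obj ((DCoh.LTensorMod G).obj E)) := by
  exact H16Derived.ProperSupp.isPerfect_rpush_ltensorMod f E hE G hG hflat hsupp

end Groth.Agent.S1061
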