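import Groth.Statements.S10610
import Groth.Agent.H13AlgSp.ThickFlatApps

set_option autoImplicit false
universe u
open CategoryTheory CategoryTheory.Limits AlgebraicGeometry
open AlgSp

namespace Groth.Agent.S10610

/-- Let iB : B ⟶ B' be a finite order thickening of algebraic spaces over S (a thickening such that for
one n the (n+1)-st power of the ideal vanishes on every affine etale scheme chart), f' : X' ⟶ Y' a
morphism of algebraic spaces over B' (via g' : Y' ⟶ B') with X' flat over B', and f : X ⟶ Y, g : Y ⟶
B its base change to B (both squares to iB cartesian, iX ≫ f' = f ≫ iY). Then f is finite if and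
only if f' is finite. (The published statement lists eleven further properties with the same
equivalence: representable by schemes, quasi-compact, universally closed, separated,
quasi-separated, surjective, universally injective, affine, universally open, proper and integral.
Since iX and iY are again thickenings and X = Y ×_{Y'} X', those cases follow from the corresponding
statements for morphisms of thickenings and are not restated here.) -/
theorem result {S : Scheme.{u}} {X X' Y Y' B B' : AlgSp.Space S} (iX : X ⟶ X') (iY : Y ⟶ Y') (iB : B ⟶ B')
    (f : X ⟶ Y) (f' : X' ⟶ Y') (g : Y ⟶ B) (g' : Y' ⟶ B')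
    (hcX : IsPullback iX.hom (f ≫ g).hom (f' ≫ g').hom iB.hom) (hcY : IsPullback iY.hom g.hom g'.hom iB.hom)
    (w : iX ≫ f' = f ≫ iY)
    (hB : AlgSp.IsFinThickMor iB.hom) (hflat : AlgSp.LocP @Flat (f' ≫ g').hom) :
    (AlgSp.IsFiniteMor f.hom ↔ AlgSp.IsFiniteMor f'.hom) := by
  obtain ⟨ht, hj, hl, -⟩ := Groth.Agent.H13AlgSp.ThickFlat.transfer_fin hcX hcY w hB hflat
  exact Groth.Agent.H13AlgSp.ThickRep.finite_iff hj ht hl

end Groth.Agent.S10610
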