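import Groth.Statements.S10613
import Groth.Agent.H13AlgSp.MonoUnram

set_option autoImplicit false
universe u
open CategoryTheory CategoryTheory.Limits AlgebraicGeometry
open AlgSp

namespace Groth.Agent.S10613

/-- For a morphism f : X ⟶ Y of algebraic spaces over S, these four conditions on f are equivalent: (a)
unramified plus monomorphism; (b) unramified plus universally injective; (c) a monomorphism that is
locally of finite type; (d) universally injective, locally of finite type and formally unramified
(lifting sense). In that case f is representable by schemes, separated and locally quasi-finite.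
(Unramified is the etale-local condition locally of finite type and formally unramified on charts;
monomorphisms are taken in fppf sheaves.) -/
theorem result {S : Scheme.{u}} {X Y : AlgSp.Space S} (f : X ⟶ Y) :
    ((AlgSp.LocP (@LocallyOfFiniteType ⊓ @FormallyUnramified) f.hom ∧ Mono f.hom) ↔
      (AlgSp.LocP (@LocallyOfFiniteType ⊓ @FormallyUnramified) f.hom ∧ AlgSp.IsUnivInjectiveMor f.hom)) ∧
    ((AlgSp.LocP (@LocallyOfFiniteType ⊓ @FormallyUnramified) f.hom ∧ Mono f.hom) ↔
      (AlgSp.LocP @LocallyOfFiniteType f.hom ∧ Mono f.hom)) ∧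
    ((AlgSp.LocP (@LocallyOfFiniteType ⊓ @FormallyUnramified) f.hom ∧ Mono f.hom) ↔
      (AlgSp.IsUnivInjectiveMor f.hom ∧ AlgSp.LocP @LocallyOfFiniteType f.hom ∧ AlgSp.IsFormallyUnramifiedMor f.hom)) ∧
    (AlgSp.LocP @LocallyOfFiniteType f.hom ∧ Mono f.hom →
      AlgSp.Representable f.hom ∧ AlgSp.IsSeparatedMor f.hom ∧
        AlgSp.LocP (@LocallyQuasiFinite ⊓ @LocallyOfFiniteType) f.hom) := by
  obtain ⟨h1, h2, h3⟩ := Groth.Agent.H13AlgSp.MonoUnram.unramified_mono_iff X.property Y.property f.hom
  exact ⟨h1, h2, h3, fun ⟨hl, hm⟩ => Groth.Agent.H13AlgSp.MonoUnram.representable_of_mono_lft X.property Y.property f.hom hl⟩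

end Groth.Agent.S10613
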