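import Groth.Statements.S10614
import Groth.Agent.H13AlgSp.MonoUnram

set_option autoImplicit false
universe u
open CategoryTheory CategoryTheory.Limits AlgebraicGeometry
open AlgSp

namespace Groth.Agent.S10614

/-- For a morphism f : X ⟶ Y of algebraic spaces over S, being a closed immersion (representable by
closed immersions) is equivalent to each of: (a) universally closed plus unramified plus
monomorphism; (b) universally closed plus unramified plus universally injective; (c) a universally
closed monomorphism that is locally of finite type; (d) universally closed, universally injective,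
locally of finite type and formally unramified (lifting sense). (Unramified is the etale-local
condition locally of finite type and formally unramified on charts; monomorphisms are taken in fppf
sheaves.) -/
theorem result {S : Scheme.{u}} {X Y : AlgSp.Space S} (f : X ⟶ Y) :
    (AlgSp.RepWith @IsClosedImmersion f.hom ↔
      (AlgSp.IsUnivClosedMor f.hom ∧ AlgSp.LocP (@LocallyOfFiniteType ⊓ @FormallyUnramified) f.hom ∧ Mono f.hom)) ∧
    (AlgSp.RepWith @IsClosedImmersion f.hom ↔
      (AlgSp.IsUnivClosedMor f.hom ∧ AlgSp.LocP (@LocallyOfFiniteType ⊓ @FormallyUnramified) f.hom ∧ AlgSp.IsUnivInjectiveMor f.hom)) ∧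
    (AlgSp.RepWith @IsClosedImmersion f.hom ↔
      (AlgSp.IsUnivClosedMor f.hom ∧ AlgSp.LocP @LocallyOfFiniteType f.hom ∧ Mono f.hom)) ∧
    (AlgSp.RepWith @IsClosedImmersion f.hom ↔
      (AlgSp.IsUnivClosedMor f.hom ∧ AlgSp.IsUnivInjectiveMor f.hom ∧ AlgSp.LocP @LocallyOfFiniteType f.hom ∧
        AlgSp.IsFormallyUnramifiedMor f.hom)) := by
  obtain ⟨h1, h2, h3⟩ := Groth.Agent.H13AlgSp.MonoUnram.unramified_mono_iff X.property Y.property f.hom
  have h := Groth.Agent.H13AlgSp.MonoUnram.isClosedImmersion_iff X.property Y.property f.hom
  exact ⟨h.trans (and_congr_right fun _ => h2.symm), h.trans (and_congr_right fun _ => h2.symm.trans h1), h,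
    h.trans (and_congr_right fun _ => h2.symm.trans h3)⟩

end Groth.Agent.S10614
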