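import Groth.Statements.S10620

set_option autoImplicit false
universe u
open CategoryTheory CategoryTheory.Limits AlgebraicGeometry
open AlgSp

namespace Groth.Agent.S10620

/-- Let a : F ⟶ G and b : H ⟶ G be morphisms of fppf sheaves on (Sch/S) and let a' : P ⟶ H be the base
change of a along b (any pullback square). If a is formally smooth, resp. formally etale, resp.
formally unramified, then so is a'. (The published statement is for transformations of arbitrary
presheaves of sets on (Sch/S)_fppf; this row takes fppf sheaves, the case of algebraic spaces.) -/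
theorem result {S : Scheme.{u}} {F G H P : AlgSp.Sp S} (a : F ⟶ G) (b : H ⟶ G)
    (b' : P ⟶ F) (a' : P ⟶ H) (hP : IsPullback b' a' a b) :
    (AlgSp.IsFormallySmoothMor a → AlgSp.IsFormallySmoothMor a') ∧
    (AlgSp.IsFormallyEtaleMor a → AlgSp.IsFormallyEtaleMor a') ∧
    (AlgSp.IsFormallyUnramifiedMor a → AlgSp.IsFormallyUnramifiedMor a') := by
  classical
  let sqA : AlgSp.InfSq a' → AlgSp.InfSq a := fun sq =>
    { A := sq.A, I := sq.I, sq_zero := sq.sq_zero, str := sq.str, top := sq.top ≫ b', bot := sq.bot ≫ b,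
      comm := by rw [Category.assoc, hP.w, ← Category.assoc, sq.comm, Category.assoc] }
  have back : ∀ (sq : AlgSp.InfSq a') (m : (AlgSp.yon S).obj sq.ptT' ⟶ F)
      (hm1 : (AlgSp.yon S).map sq.j ≫ m = sq.top ≫ b') (hm2 : m ≫ a = sq.bot ≫ b),
      (AlgSp.yon S).map sq.j ≫ hP.lift m sq.bot hm2 = sq.top ∧ hP.lift m sq.bot hm2 ≫ a' = sq.bot := by
    intro sq m hm1 hm2
    refine ⟨hP.hom_ext ?_ ?_, hP.lift_snd ..⟩
    · rw [Category.assoc, hP.lift_fst, hm1]
    · rw [Category.assoc, hP.lift_snd]; exact sq.comm.symm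
  have fwd : ∀ (sq : AlgSp.InfSq a') (l : (AlgSp.yon S).obj sq.ptT' ⟶ P),
      (AlgSp.yon S).map sq.j ≫ l = sq.top → l ≫ a' = sq.bot →
      (AlgSp.yon S).map sq.j ≫ l ≫ b' = sq.top ≫ b' ∧ (l ≫ b') ≫ a = sq.bot ≫ b := fun sq l h1 h2 =>
    ⟨(Category.assoc _ _ _).symm.trans (congrArg (· ≫ b') h1), by rw [Category.assoc, hP.w, ← Category.assoc, h2]⟩
  refine ⟨fun h sq => ?_, fun h sq => ?_, fun h sq l l' h1 h2 h1' h2' => ?_⟩
  · obtain ⟨m, hm1, hm2⟩ := h (sqA sq)
    exact ⟨_, back sq m hm1 hm2⟩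
  · obtain ⟨m, ⟨hm1, hm2⟩, hu⟩ := h (sqA sq)
    refine ⟨_, back sq m hm1 hm2, fun l ⟨h1, h2⟩ => hP.hom_ext ?_ ?_⟩
    · rw [hP.lift_fst]; exact hu (l ≫ b') (fwd sq l h1 h2)
    · rw [hP.lift_snd]; exact h2
  · refine hP.hom_ext ?_ (h2.trans h2'.symm)
    exact h (sqA sq) _ _ (fwd sq l h1 h2).1 (fwd sq l h1 h2).2 (fwd sq l' h1' h2').1 (fwd sq l' h1' h2').2

end Groth.Agent.S10620
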