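import Groth.Statements.S10623
import Groth.Agent.H13Inf.SmoothApps

set_option autoImplicit false
universe u
open CategoryTheory CategoryTheory.Limits AlgebraicGeometry
open AlgSp

namespace Groth.Agent.S10623

/-- For a morphism f : X ⟶ Y of algebraic spaces over S, these conditions are equivalent: f is formally
smooth (lifting along square-zero thickenings of affine schemes); for every scheme U with a
representable etale U ⟶ X, every scheme V with a representable etale V ⟶ Y and every compatible U ⟶
V, the morphism of schemes U ⟶ V is formally smooth; and this holds as soon as it holds for one such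
diagram in which both charts are moreover surjective. -/
theorem result {S : Scheme.{u}} {X Y : AlgSp.Space S} (f : X ⟶ Y) :
    (AlgSp.IsFormallySmoothMor f.hom ↔ AlgSp.LocP @MoreMor.IsFormallySmoothHom f.hom) ∧
    (∀ (U V : Over S) (a : (AlgSp.yon S).obj U ⟶ X.obj) (b : (AlgSp.yon S).obj V ⟶ Y.obj) (h : U ⟶ V),
      AlgSp.RepWith @Etale a → AlgSp.RepWith @Surjective a → AlgSp.RepWith @Etale b → AlgSp.RepWith @Surjective b →
      a ≫ f.hom = (AlgSp.yon S).map h ≫ b → MoreMor.IsFormallySmoothHom h.left → AlgSp.IsFormallySmoothMor f.hom) := by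
  refine ⟨⟨fun hf U V a b h ha hb w => H13Inf.isFormallySmoothHom_chart hf ha hb w, fun h => ?_⟩,
    fun U V a b k ha ha' hb _ e hk => H13Inf.SmoothChart.isFormallySmoothMor_of_chart ha ha' hb e hk⟩
  obtain ⟨U, V, a, b, k, ha, ha', hb, -, e⟩ := H12AlgSp.exists_chart X.property Y.property f.hom
  exact H13Inf.SmoothChart.isFormallySmoothMor_of_chart ha ha' hb e (h a b k ha hb e)

end Groth.Agent.S10623
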