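import Groth.Statements.S10627
import Groth.Agent.H13Inf.Space

set_option autoImplicit false
universe u
open CategoryTheory CategoryTheory.Limits AlgebraicGeometry
open AlgSp

namespace Groth.Agent.S10627

/-- A morphism f : X ⟶ Y of algebraic spaces over S is etale if and only if it is locally of finite
presentation and formally etale (lifting sense). -/
theorem result {S : Scheme.{u}} {X Y : AlgSp.Space S} (f : X ⟶ Y) :
    AlgSp.IsEtaleMor f.hom ↔ AlgSp.LocP @LocallyOfFinitePresentation f.hom ∧ AlgSp.IsFormallyEtaleMor f.hom := by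
  refine ⟨fun h => ⟨?_, H13Inf.isFormallyEtaleMor_of_isEtaleMor X.property Y.property h⟩,
    fun ⟨h1, h2⟩ => ?_⟩
  · exact H12AlgSp.locP_mono (fun _ _ g hg => ((S1489.result g).1 hg).1)
      (H13AlgSp.locP_etale_of_isEtaleMor h)
  · exact H13AlgSp.isEtaleMor_of_locP X.property Y.property fun U V a b k ha hb e =>
      (S1489.result k.left).2 ⟨h1 a b k ha hb e, H13Inf.locP_of_isFormallyEtaleMor h2 a b k ha hb e⟩

end Groth.Agent.S10627
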