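import Groth.Statements.S10630
import Groth.Agent.H13Inf.Local

set_option autoImplicit false
universe u
open CategoryTheory CategoryTheory.Limits AlgebraicGeometry
open AlgSp

namespace Groth.Agent.S10630

/-- (1) ⇔ (3): let h : Z ⟶ X be a morphism of algebraic spaces over S and let i : Z ⟶ Z', h' : Z' ⟶ X be
a first order thickening of Z over X (i ≫ h' = h). Then (i, h') is a universal first order
thickening of Z over X if and only if for every first order thickening j : T ⟶ T' of schemes over S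
with T' affine, every a : T ⟶ Z and b : T' ⟶ X with j ≫ b = a ≫ h, there is exactly one a' : T' ⟶ Z'
with j ≫ a' = a ≫ i and a' ≫ h' = b. -/
theorem result {S : Scheme.{u}} {Z Z' X : AlgSp.Space S} (h : Z ⟶ X) (i : Z ⟶ Z')
    (h' : Z' ⟶ X) (hi : AlgSp.IsFOThickMor i.hom) (w : i ≫ h' = h) :
    AlgSp.IsUnivFOThick h.hom i.hom h'.hom ↔
      ∀ (T T' : Over S) (j : T ⟶ T'), IsAffine T'.left → AlgSp.IsFOThickMor ((AlgSp.yon S).map j) →
        ∀ (a : (AlgSp.yon S).obj T ⟶ Z.obj) (b : (AlgSp.yon S).obj T' ⟶ X.obj),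
          (AlgSp.yon S).map j ≫ b = a ≫ h.hom →
          ∃! a' : (AlgSp.yon S).obj T' ⟶ Z'.obj, (AlgSp.yon S).map j ≫ a' = a ≫ i.hom ∧ a' ≫ h'.hom = b := by
  refine ⟨fun HU T T' j _ hj a b e => HU.2.2 (IsAlgSpace.yon_obj T) (IsAlgSpace.yon_obj T') _ a b hj e,
    fun H => ⟨hi, congrArg InducedCategory.Hom.hom w, ?_⟩⟩
  intro T T' _ hT' j a b hj e
  have wh : i.hom ≫ h'.hom = h.hom := congrArg InducedCategory.Hom.hom w
  have h' := H13Inf.existsUnique_lift_of_local (f := h'.hom) (top := a ≫ i.hom) (bot := b) (j := j)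
    hT' (fun W hW c hc => ?_)
  · exact h'
  obtain ⟨W₀, q, t, pb, hq⟩ := H13Inf.exists_thick_pullback hj hc
  obtain ⟨m, ⟨m1, m2⟩, mu⟩ := H W₀ W q hW hq (t ≫ a) (c ≫ b)
    (by rw [← Category.assoc, ← pb.w, Category.assoc, e, Category.assoc])
  refine ⟨m, ⟨m2, fun Z k k0 hk => ?_⟩, fun m' hm' => mu m' ⟨?_, hm'.w⟩⟩
  · rw [← pb.lift_snd k0 ((yon S).map k) hk.symm, Category.assoc, m1, ← Category.assoc, ← Category.assoc,
      pb.lift_fst, Category.assoc]
  · rw [hm'.restrict _ q t pb.w.symm, Category.assoc]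

end Groth.Agent.S10630
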