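import Groth.Statements.S10635
import Groth.Agent.H13Inf.InfNbhd
import Groth.Agent.H13Inf.Local
import Groth.Agent.H12AlgSp.OpenSub

set_option autoImplicit false
universe u
open CategoryTheory CategoryTheory.Limits AlgebraicGeometry
open AlgSp

namespace Groth.Agent.S10635

/-- Take an immersion i : Z ⟶ X of algebraic spaces over S, written as a closed immersion c : Z ⟶ U
followed by an open immersion u : U ⟶ X, and let (j : Z ⟶ Z₁, k : Z₁ ⟶ U) be the first order
infinitesimal neighbourhood of Z in U. Then (j, k ≫ u) is a universal first order thickening of Z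
over X. -/
theorem result {S : Scheme.{u}} {Z U X Z₁ : AlgSp.Space S} (c : Z ⟶ U)
    (hc : AlgSp.RepWith @IsClosedImmersion c.hom) (u : U ⟶ X) (hu : AlgSp.RepWith @IsOpenImmersion u.hom)
    (j : Z ⟶ Z₁) (k : Z₁ ⟶ U) (hN : AlgSp.IsInfNbhd 1 c.hom j.hom k.hom) :
    AlgSp.IsUnivFOThick (c ≫ u).hom j.hom (k ≫ u).hom := by
  have hjk : j.hom ≫ k.hom = c.hom := hN.1
  have := H12AlgSp.mono_of_repWith (fun _ _ f (_ : IsClosedImmersion f) => inferInstanceAs (Mono f)) hN.2.2.1
  have := H12AlgSp.mono_of_openImmersion hu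
  refine ⟨H13Inf.isFOThickMor_of_isInfNbhd hN U.property,
    (Category.assoc _ _ _).symm.trans (congrArg (· ≫ u.hom) hjk), ?_⟩
  intro T T' _ hT' jj a b hj hab
  have hab' : jj ≫ b = a ≫ c.hom ≫ u.hom := hab
  obtain ⟨b₁, hb₁⟩ := H12AlgSp.exists_factor_open hu b (by
    rintro _ ⟨y, rfl⟩
    obtain ⟨y₀, rfl⟩ := (H13AlgSp.Thick.props_of_isThickMor hT' hj.1).2.1 y
    rw [← Points.map_comp, hab', ← Category.assoc, Points.map_comp]
    exact ⟨_, rfl⟩)
  have hjb : jj ≫ b₁ = a ≫ c.hom :=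
    (cancel_mono u.hom).1 (by rw [Category.assoc, Category.assoc, hb₁, hab'])
  obtain ⟨l, ⟨hl1, hl2⟩, -⟩ := H13Inf.existsUnique_lift_of_local (f := k.hom) (top := a ≫ j.hom)
    (bot := b₁) (j := jj) hT' (fun W hW d hd => by
      let e : Over.mk (W.left.isoSpec.inv ≫ W.hom) ⟶ W := Over.homMk W.left.isoSpec.inv rfl
      have hio : IsIso ((Over.forget S).map e) := inferInstanceAs (IsIso W.left.isoSpec.inv)
      have : IsIso e := isIso_of_reflects_iso e (Over.forget S)
      obtain ⟨K, t, hK, pb⟩ := H13Inf.good_of_etale hj hd Γ(W.left, ⊤) (W.left.isoSpec.inv ≫ W.hom) e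
        (inferInstanceAs (IsOpenImmersion W.left.isoSpec.inv))
      obtain ⟨m, hm⟩ := H13Inf.exists_factor_of_isInfNbhd hN U.property
        (((yon S).map e ≫ d) ≫ b₁) hK (t ≫ a)
        (by rw [Category.assoc, ← hjb, ← Category.assoc, pb.w, Category.assoc])
      have hm' : ((yon S).map (inv e) ≫ m) ≫ k.hom = d ≫ b₁ := by
        rw [Category.assoc, hm, ← Category.assoc, ← Category.assoc, ← Functor.map_comp, IsIso.inv_hom_id,
          CategoryTheory.Functor.map_id, Category.id_comp]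
      refine ⟨(yon S).map (inv e) ≫ m, ⟨hm', fun Z q k0 hq => (cancel_mono k.hom).1 ?_⟩,
        fun m' hm'' => (cancel_mono k.hom).1 (hm''.w.trans hm'.symm)⟩
      rw [Category.assoc, hm', reassoc_of% hq, hjb, Category.assoc, Category.assoc, hjk])
  refine ⟨l, ⟨hl1, ?_⟩, fun l' hl' => (cancel_mono k.hom).1 ((cancel_mono u.hom).1 ?_)⟩
  · show l ≫ k.hom ≫ u.hom = b
    rw [reassoc_of% hl2, hb₁]
  · rw [Category.assoc, Category.assoc, reassoc_of% hl2, hb₁]
    exact hl'.2

end Groth.Agent.S10635
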