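import Groth.Statements.S10637
import Groth.Agent.H13Inf.BaseChange

set_option autoImplicit false
universe u
open CategoryTheory CategoryTheory.Limits AlgebraicGeometry
open AlgSp

namespace Groth.Agent.S10637

/-- Let h : Z ⟶ X, f : Z ⟶ W, g : X ⟶ Y, h' : W ⟶ Y form a pullback square of algebraic spaces over S (Z
= X ×_Y W) with h' formally unramified, and let (iW : W ⟶ W', hW' : W' ⟶ Y) be a universal first
order thickening of W over Y. If P = X ×_Y W' (a pullback square pX : P ⟶ X, pW : P ⟶ W') and iZ : Z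
⟶ P is the morphism with iZ ≫ pX = h and iZ ≫ pW = f ≫ iW, then (iZ, pX) is a universal first order
thickening of Z over X. (The published statement also asserts that h is formally unramified, which
is the base change property of formal unramifiedness, and that the induced map of conormal sheaves
is surjective; this row omits both clauses.) -/
theorem result {S : Scheme.{u}} {Z X W Y W' P : AlgSp.Space S} (h : Z ⟶ X) (f : Z ⟶ W)
    (g : X ⟶ Y) (h' : W ⟶ Y) (sq : IsPullback h.hom f.hom g.hom h'.hom) (hh' : AlgSp.IsFormallyUnramifiedMor h'.hom)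
    (iW : W ⟶ W') (hW' : W' ⟶ Y) (HU : AlgSp.IsUnivFOThick h'.hom iW.hom hW'.hom)
    (pX : P ⟶ X) (pW : P ⟶ W') (sq' : IsPullback pX.hom pW.hom g.hom hW'.hom)
    (iZ : Z ⟶ P) (w1 : iZ ≫ pX = h) (w2 : iZ ≫ pW = f ≫ iW) :
    AlgSp.IsUnivFOThick h.hom iZ.hom pX.hom := by
  have e1 : iZ.hom ≫ pX.hom = h.hom := congrArg InducedCategory.Hom.hom w1
  have e2 : iZ.hom ≫ pW.hom = f.hom ≫ iW.hom := congrArg InducedCategory.Hom.hom w2
  have sqZ : IsPullback f.hom iZ.hom iW.hom pW.hom :=
    (IsPullback.of_right (h₁₁ := iZ.hom) (v₁₁ := f.hom) (by rw [e1, HU.2.1]; exact sq) e2 sq'.flip.flip).flip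
  refine ⟨H13Inf.isFOThickMor_of_isPullback sqZ W'.property HU.1, e1, ?_⟩
  intro T T' hT hT' j a b hj hab
  obtain ⟨a', ⟨h1, h2⟩, hu⟩ := HU.2.2 hT hT' j (a ≫ f.hom) (b ≫ g.hom) hj
    (by rw [← Category.assoc, hab, Category.assoc, Category.assoc, sq.w])
  obtain ⟨l, hl1, hl2⟩ := sq'.exists_lift b a' h2.symm
  refine ⟨l, ⟨sq'.hom_ext ?_ ?_, hl1⟩, fun l' hl' => sq'.hom_ext (hl'.2.trans hl1.symm) ?_⟩
  · rw [Category.assoc, hl1, hab, Category.assoc, e1]
  · rw [Category.assoc, hl2, h1, Category.assoc, Category.assoc, e2]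
  · rw [hl2]
    refine hu _ ⟨?_, by rw [Category.assoc, ← sq'.w, reassoc_of% hl'.2]⟩
    rw [← Category.assoc, hl'.1, Category.assoc, e2, Category.assoc]

end Groth.Agent.S10637
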