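import Groth.Statements.S10638
import Groth.Agent.H13AlgSp.TopInv
import Groth.Agent.H13AlgSp.Thick
import Groth.Agent.S10618
import Groth.Agent.S10619
import Groth.Agent.S10631
import Groth.Agent.S10632

set_option autoImplicit false
universe u
open CategoryTheory CategoryTheory.Limits AlgebraicGeometry
open AlgSp

namespace Groth.Agent.S10638

/-- Take a formally unramified morphism h : Z ⟶ X of algebraic spaces over S with universal first order
thickening (iZ : Z ⟶ Z', hZ' : Z' ⟶ X). Let v : V ⟶ Z and w : U ⟶ X be etale morphisms of algebraic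
spaces and ψ : V ⟶ U with ψ ≫ w = v ≫ h. Then ψ is formally unramified, and for a universal first
order thickening (iV : V ⟶ V', hV' : V' ⟶ U) of V over U, every e' : V' ⟶ Z' with iV ≫ e' = v ≫ iZ
and e' ≫ hZ' = hV' ≫ w (there is exactly one) is etale. (The published statement also identifies the
conormal sheaf of V over U with the restriction of that of Z over X; this row omits that clause.) -/
theorem result {S : Scheme.{u}} {Z X Z' V U V' : AlgSp.Space S} (h : Z ⟶ X)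
    (hh : AlgSp.IsFormallyUnramifiedMor h.hom) (iZ : Z ⟶ Z') (hZ' : Z' ⟶ X) (HZ : AlgSp.IsUnivFOThick h.hom iZ.hom hZ'.hom)
    (v : V ⟶ Z) (w : U ⟶ X) (hv : AlgSp.IsEtaleMor v.hom) (hw : AlgSp.IsEtaleMor w.hom) (ψ : V ⟶ U)
    (c : ψ ≫ w = v ≫ h) :
    AlgSp.IsFormallyUnramifiedMor ψ.hom ∧
    ∀ (iV : V ⟶ V') (hV' : V' ⟶ U), AlgSp.IsUnivFOThick ψ.hom iV.hom hV'.hom →
      ∀ e' : V' ⟶ Z', iV ≫ e' = v ≫ iZ → e' ≫ hZ' = hV' ≫ w → AlgSp.IsEtaleMor e'.hom := by
  have hwv : ψ.hom ≫ w.hom = v.hom ≫ h.hom := congrArg InducedCategory.Hom.hom c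
  have hvE := H13Inf.isFormallyEtaleMor_of_isEtaleMor V.property Z.property hv
  have hwE := H13Inf.isFormallyEtaleMor_of_isEtaleMor U.property X.property hw
  refine ⟨(Groth.Agent.S10618.result ψ.hom w.hom (H13Inf.formallyUnramified_of_formallyEtale hwE)).1
    (hwv ▸ (Groth.Agent.S10619.result v.hom h.hom).2.2 (H13Inf.formallyUnramified_of_formallyEtale hvE) hh), ?_⟩
  intro iV hV' HV e' he1 he2
  have e1 : iV.hom ≫ e'.hom = v.hom ≫ iZ.hom := congrArg InducedCategory.Hom.hom he1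
  have e2 : e'.hom ≫ hZ'.hom = hV'.hom ≫ w.hom := congrArg InducedCategory.Hom.hom he2
  obtain ⟨hm, hs, hp, -, hi⟩ := H13AlgSp.Thick.props_of_isThickMor Z'.property HZ.1.1
  have hint : IsIntegralMor iZ.hom := H13AlgSp.isIntegralMor_iff.2
    (H12AlgSp.repWith_le (fun _ _ k (hk : thick k) => have : IsClosedImmersion k := hk.1
      inferInstanceAs (IsIntegralHom k)) HZ.1.1)
  obtain ⟨W, a, q, hW, ha, sq⟩ :=
    H13AlgSp.TopInv.essSurj Z.property Z'.property hint hi hs V.property hv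
  have H1 := Groth.Agent.S10632.result v hv h iZ hZ' HZ (ObjectProperty.homMk q : V ⟶ ⟨W, hW⟩)
    (ObjectProperty.homMk a : (⟨W, hW⟩ : Space S) ⟶ Z') ha sq
  have H2 := Groth.Agent.S10631.result ψ w iV hV' HV hwE
  have h12 : (v ≫ h).hom = (ψ ≫ w).hom := by rw [c]
  obtain ⟨θ, ⟨θ1, θ2⟩, -⟩ := H1.2.2 V.property V'.property iV.hom (𝟙 _) (hV' ≫ w).hom HV.1
    (by rw [Category.id_comp, h12]; exact H2.2.1)
  obtain ⟨η, ⟨η1, η2⟩, -⟩ := H2.2.2 V.property hW q (𝟙 _) (a ≫ hZ'.hom) H1.1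
    (by rw [Category.id_comp, ← h12]; exact H1.2.1)
  rw [Category.id_comp] at θ1 η1
  change iV.hom ≫ θ = q at θ1
  change q ≫ η = iV.hom at η1
  change θ ≫ a ≫ hZ'.hom = hV'.hom ≫ w.hom at θ2
  change η ≫ hV'.hom ≫ w.hom = a ≫ hZ'.hom at η2
  have : IsIso θ := by
    refine ⟨η, ?_, ?_⟩
    · refine (H2.2.2 V.property V'.property iV.hom (𝟙 _) (hV' ≫ w).hom HV.1
        (by rw [Category.id_comp]; exact H2.2.1)).unique ⟨?_, ?_⟩
        ⟨by rw [Category.comp_id, Category.id_comp], Category.id_comp _⟩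
      · rw [reassoc_of% θ1, η1, Category.id_comp]
      · show (θ ≫ η) ≫ hV'.hom ≫ w.hom = hV'.hom ≫ w.hom
        rw [Category.assoc, η2, θ2]
    · refine (H1.2.2 V.property hW q (𝟙 _) (a ≫ hZ'.hom) H1.1
        (by rw [Category.id_comp]; exact H1.2.1)).unique ⟨?_, ?_⟩
        ⟨by rw [Category.comp_id, Category.id_comp]; rfl, Category.id_comp _⟩
      · rw [reassoc_of% η1, θ1, Category.id_comp]; rfl
      · show (η ≫ θ) ≫ a ≫ hZ'.hom = a ≫ hZ'.hom
        rw [Category.assoc, θ2, η2]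
  have he : e'.hom = θ ≫ a := (HZ.2.2 V.property V'.property iV.hom v.hom (hV'.hom ≫ w.hom) HV.1
    (by rw [← Category.assoc, HV.2.1, hwv])).unique ⟨e1, e2⟩
    ⟨by rw [reassoc_of% θ1, ← sq.w], by rw [Category.assoc, θ2]⟩
  rw [he]
  intro T φ hφ
  rw [← Category.assoc]
  refine ha (φ ≫ θ) (H12AlgSp.repWith_comp hφ ?_)
  exact H12AlgSp.repWith_of_isIso θ

end Groth.Agent.S10638
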