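import Groth.Statements.S10639
import Groth.Agent.H13AlgSp.OpenCriteria2

set_option autoImplicit false
universe u
open CategoryTheory CategoryTheory.Limits AlgebraicGeometry
open AlgSp

namespace Groth.Agent.S10639

/-- For morphisms f : X ⟶ Y, p : X ⟶ Z and q : Y ⟶ Z of algebraic spaces over S with f ≫ q = p, where p
is closed (the map on points is closed) and locally of finite type, there is an open subspace W of Z
with the following property: a morphism of algebraic spaces g : Z' ⟶ Z factors through W exactly
when the base change X' ⟶ Y' of f along g is unramified (locally of finite type and formally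
unramified, etale locally on source and target). Here the base change of f along g is any f' : X' ⟶
Y' obtained from pullback squares Y' = Y ×_Z Z' and X' = X ×_Y Y' of algebraic spaces over S, and W
⊂ Z is given as a representable open immersion w : W ⟶ Z. -/
theorem result {S : Scheme.{u}} {X Y Z : AlgSp.Space S}
    (f : X ⟶ Y) (p : X ⟶ Z) (q : Y ⟶ Z) (hc : f ≫ q = p)
    (hp1 : AlgSp.LocP @LocallyOfFiniteType p.hom) (hp2 : AlgSp.IsClosedMor p.hom) :
    ∃ (W : AlgSp.Space S) (w : W ⟶ Z), AlgSp.RepWith @IsOpenImmersion w.hom ∧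
      ∀ (Z' : AlgSp.Space S) (g : Z' ⟶ Z),
        (∃ k : Z' ⟶ W, k ≫ w = g) ↔
          ∀ (Y' : AlgSp.Space S) (gY : Y' ⟶ Y) (q' : Y' ⟶ Z'),
            IsPullback gY.hom q'.hom q.hom g.hom →
            ∀ (X' : AlgSp.Space S) (gX : X' ⟶ X) (f' : X' ⟶ Y'),
              IsPullback gX.hom f'.hom f.hom gY.hom →
                AlgSp.LocP (@LocallyOfFiniteType ⊓ @FormallyUnramified) f'.hom := by
  have hft := Groth.Agent.H13AlgSp.OpenCriteria.lft_of_comp hc hp1
  exact Groth.Agent.H13AlgSp.OpenCriteria.exists_open (f := f) (q := q) (fun {X' Y'} f' => AlgSp.LocP (@LocallyOfFiniteType ⊓ @FormallyUnramified) f'.hom)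
    _ (hp2 _ (Groth.Agent.H13AlgSp.OpenCriteria.isOpen_unramLocus f.hom).isClosed_compl)
    fun Z' g Y' gY q' sqY X' gX f' sqX => Groth.Agent.H13AlgSp.OpenCriteria.unramified_baseChange_iff hc sqY sqX hft

end Groth.Agent.S10639
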