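import Groth.Statements.S10641
import Groth.Agent.H13AlgSp.OpenCriteria2

set_option autoImplicit false
universe u
open CategoryTheory CategoryTheory.Limits AlgebraicGeometry
open AlgSp

namespace Groth.Agent.S10641

/-- For morphisms f : X ⟶ Y, p : X ⟶ Z and q : Y ⟶ Z of algebraic spaces over S with f ≫ q = p, where p
is universally closed and locally of finite type and q is separated, there is an open subspace W of
Z with the following property: a morphism of algebraic spaces g : Z' ⟶ Z factors through W exactly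
when the base change X' ⟶ Y' of f along g is a closed immersion (representable, and a closed
immersion on every represented pullback). Here the base change of f along g is any f' : X' ⟶ Y'
obtained from pullback squares Y' = Y ×_Z Z' and X' = X ×_Y Y' of algebraic spaces over S, and W ⊂ Z
is given as a representable open immersion w : W ⟶ Z. -/
theorem result {S : Scheme.{u}} {X Y Z : AlgSp.Space S}
    (f : X ⟶ Y) (p : X ⟶ Z) (q : Y ⟶ Z) (hc : f ≫ q = p)
    (hp1 : AlgSp.LocP @LocallyOfFiniteType p.hom) (hp2 : AlgSp.IsUnivClosedMor p.hom)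
    (hq : AlgSp.IsSeparatedMor q.hom) :
    ∃ (W : AlgSp.Space S) (w : W ⟶ Z), AlgSp.RepWith @IsOpenImmersion w.hom ∧
      ∀ (Z' : AlgSp.Space S) (g : Z' ⟶ Z),
        (∃ k : Z' ⟶ W, k ≫ w = g) ↔
          ∀ (Y' : AlgSp.Space S) (gY : Y' ⟶ Y) (q' : Y' ⟶ Z'),
            IsPullback gY.hom q'.hom q.hom g.hom →
            ∀ (X' : AlgSp.Space S) (gX : X' ⟶ X) (f' : X' ⟶ Y'),
              IsPullback gX.hom f'.hom f.hom gY.hom →
                AlgSp.RepWith @IsClosedImmersion f'.hom := by
  have hPC := hp2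
  have hSEP := hq
  let XX : AlgSp.Space S := ⟨_, Groth.Agent.H12AlgSp.isAlgSpace_pullback Y.property.diag X.property X.property f.hom f.hom⟩
  let pr0 : XX ⟶ X := ObjectProperty.homMk (pullback.fst f.hom f.hom)
  let pr1 : XX ⟶ X := ObjectProperty.homMk (pullback.snd f.hom f.hom)
  have hXX : IsPullback pr0.hom pr1.hom f.hom f.hom := IsPullback.of_hasPullback f.hom f.hom
  have hfc : AlgSp.IsUnivClosedMor f.hom := Groth.Agent.H12AlgSp.isUnivClosedMor_of_comp X.property Y.property Z.property
    (by rw [show f.hom ≫ q.hom = p.hom from congrArg (fun e : X ⟶ Z => e.hom) hc]; exact hPC) hSEP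
  have hcl : ∀ {A : AlgSp.Space S} (m : A ⟶ Z), AlgSp.IsUnivClosedMor m.hom → AlgSp.IsClosedMor m.hom :=
    fun {A} m hm => hm Z.property (𝟙 _) (𝟙 _) m.hom (IsPullback.of_horiz_isIso ⟨by simp⟩)
  have hpr : AlgSp.IsClosedMor (pr1 ≫ p).hom := hcl _
    (Groth.Agent.H12AlgSp.univSp_comp_of X.property Z.property (Groth.Agent.H12AlgSp.univSp_of_isPullback hXX hfc) hPC)
  have hft := Groth.Agent.H13AlgSp.OpenCriteria.lft_of_comp hc hp1
  exact Groth.Agent.H13AlgSp.OpenCriteria.exists_open (f := f) (q := q) (fun {X' Y'} f' => AlgSp.RepWith @IsClosedImmersion f'.hom)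
    _ (Groth.Agent.H13AlgSp.OpenCriteria.isClosed_unramInj hXX (hcl p hp2) hpr)
    fun Z' g Y' gY q' sqY X' gX f' sqX => (Groth.Agent.H13AlgSp.OpenCriteria.closedImmersion_baseChange_iff hc sqY sqX hft hfc).trans
      (Groth.Agent.H13AlgSp.OpenCriteria.unramInj_baseChange_iff hc sqY sqX hft)

end Groth.Agent.S10641
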