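import Groth.Statements.S10668
import Groth.Agent.H8Props.AlgSpLci.Lci

set_option autoImplicit false
universe u
open CategoryTheory CategoryTheory.Limits AlgebraicGeometry
open AlgSp

namespace Groth.Agent.S10668

/-- For morphisms f : X ⟶ Y, p : X ⟶ Z and q : Y ⟶ Z of algebraic spaces over S with f ≫ q = p and p, q
both flat and locally of finite presentation, any morphism of algebraic spaces g : Z' ⟶ Z and any
base change f' : X' ⟶ Y' of f along g (pullback squares Y' = Y ×_Z Z', X' = X ×_Y Y'), the set of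
points of |X'| at which f' is Koszul (a local complete intersection morphism on some open subspace
through the point) is the inverse image under |X'| ⟶ |X| of the set of points at which f is Koszul.
(The published statement also records that the points at which f is Koszul form an open subspace of
X; with the open-neighbourhood form of being Koszul at a point used here that set is a union of
images of open subspaces, and this row states only its compatibility with base change.) -/
theorem result {S : Scheme.{u}} {X Y Z : AlgSp.Space S} (f : X ⟶ Y) (p : X ⟶ Z) (q : Y ⟶ Z) (hc : f ≫ q = p)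
    (hp1 : AlgSp.LocP @Flat p.hom) (hp2 : AlgSp.LocP @LocallyOfFinitePresentation p.hom)
    (hq1 : AlgSp.LocP @Flat q.hom) (hq2 : AlgSp.LocP @LocallyOfFinitePresentation q.hom)
    {Z' Y' X' : AlgSp.Space S} (g : Z' ⟶ Z) (gY : Y' ⟶ Y) (q' : Y' ⟶ Z') (hY : IsPullback gY.hom q'.hom q.hom g.hom)
    (gX : X' ⟶ X) (f' : X' ⟶ Y') (hX : IsPullback gX.hom f'.hom f.hom gY.hom) :
    {x' | AlgSp.LocPNear AlgSp.lci f'.hom x'} =
      AlgSp.Points.map gX.hom ⁻¹' {x | AlgSp.LocPNear AlgSp.lci f.hom x} := by
  have hc' : f.hom ≫ q.hom = p.hom := congrArg (fun k => k.hom) hc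
  ext x'
  obtain ⟨T, c, hct, hcs⟩ := Z.property.atlas
  obtain ⟨V, β, hβ, hβs⟩ :=
    (Groth.Agent.H12AlgSp.isAlgSpace_pullback Z.property.diag Y.property (IsAlgSpace.yon_obj T) q.hom c).atlas
  obtain ⟨k, hβk⟩ := (yon S).map_surjective (β ≫ pullback.snd q.hom c)
  obtain ⟨b, hβb⟩ : ∃ b, β ≫ pullback.fst q.hom c = b := ⟨_, rfl⟩
  have hb : RepWith @Etale b := hβb ▸ Groth.Agent.H12AlgSp.repWith_comp hβ
    (Groth.Agent.H12AlgSp.repWith_of_isPullback (IsPullback.of_hasPullback q.hom c).flip hct)
  have wq : b ≫ q.hom = (yon S).map k ≫ c := by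
    rw [← hβb, hβk, Category.assoc, Category.assoc, pullback.condition]
  obtain ⟨U, α, hα, hαs⟩ :=
    (Groth.Agent.H12AlgSp.isAlgSpace_pullback Y.property.diag X.property (IsAlgSpace.yon_obj V) f.hom b).atlas
  obtain ⟨h, hh⟩ := (yon S).map_surjective (α ≫ pullback.snd f.hom b)
  have sqb := IsPullback.of_hasPullback f.hom b
  have ha : RepWith @Etale (α ≫ pullback.fst f.hom b) :=
    Groth.Agent.H12AlgSp.repWith_comp hα (Groth.Agent.H12AlgSp.repWith_of_isPullback sqb.flip hb)
  have wf : (α ≫ pullback.fst f.hom b) ≫ f.hom = (yon S).map h ≫ b := by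
    rw [hh, Category.assoc, Category.assoc, pullback.condition]
  -- charts of `Z' ⟶ Z` over the chart `c`
  obtain ⟨T', r, hr, hrs⟩ :=
    (Groth.Agent.H12AlgSp.isAlgSpace_pullback Z.property.diag Z'.property (IsAlgSpace.yon_obj T) g.hom c).atlas
  obtain ⟨t, ht⟩ := (yon S).map_surjective (r ≫ pullback.snd g.hom c)
  have sqc := IsPullback.of_hasPullback g.hom c
  let c' := r ≫ pullback.fst g.hom c
  have hc'e : RepWith @Etale c' :=
    Groth.Agent.H12AlgSp.repWith_comp hr (Groth.Agent.H12AlgSp.repWith_of_isPullback sqc.flip hct)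
  have hc's : RepWith @Surjective c' :=
    Groth.Agent.H12AlgSp.repWith_comp hrs (Groth.Agent.H12AlgSp.repWith_of_isPullback sqc.flip hcs)
  have wg : c' ≫ g.hom = (yon S).map t ≫ c := by
    rw [ht]; simp only [c', Category.assoc, pullback.condition]
  -- chart of `q'`
  obtain ⟨b', wq', wgY, hb'R⟩ := Groth.Agent.H8Props.AlgSpLci.exists_pullback_chart hY k β hβk.symm t c' wg
  rw [hβb] at wgY
  obtain ⟨a', wf', wgX, ha'R⟩ := Groth.Agent.H8Props.AlgSpLci.exists_pullback_chart hX h α hh.symm
    (pullback.fst k t) b' wgY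
  have hb' : RepWith @Etale b' := hb'R @Etale hβ hc'e
  have ha' : RepWith @Etale a' := ha'R @Etale hα hb'
  obtain ⟨u', rfl⟩ := Groth.Agent.H12AlgSp.surjective_ofPt_of_repWith le_rfl
    (ha'R @Surjective hαs (hb'R @Surjective hβs hc's)) x'
  change LocPNear lci f'.hom (Points.ofPt a' u') ↔ LocPNear lci f.hom (Points.map gX.hom (Points.ofPt a' u'))
  have hax : Points.map gX.hom (Points.ofPt a' u') =
      Points.ofPt (α ≫ pullback.fst f.hom b) ((pullback.fst h (pullback.fst k t)).left u') := by
    rw [Points.map_ofPt, wgX, Groth.Agent.H12AlgSp.ofPt_map]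
  rw [hax, Groth.Agent.H8Props.AlgSpLci.locPNear_lci_iff X'.property ha' hb' wf',
    Groth.Agent.H8Props.AlgSpLci.locPNear_lci_iff X.property ha hb wf]
  have wp : (α ≫ pullback.fst f.hom b) ≫ p.hom = (yon S).map (h ≫ k) ≫ c := by
    rw [← hc', ← Category.assoc, wf, Category.assoc, wq, Functor.map_comp, Category.assoc]
  have : Flat k.left := hq1 b c k hb hct wq
  have : LocallyOfFinitePresentation k.left := hq2 b c k hb hct wq
  have : Flat (h.left ≫ k.left) := by rw [← Over.comp_left]; exact hp1 _ c (h ≫ k) ha hct wp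
  have : LocallyOfFinitePresentation (h.left ≫ k.left) := by rw [← Over.comp_left]; exact hp2 _ c (h ≫ k) ha hct wp
  have sqV := (IsPullback.of_hasPullback k t).map (Over.forget S)
  have sqU := (IsPullback.of_hasPullback h (pullback.fst k t)).map (Over.forget S)
  exact Groth.Agent.H8Props.KoszImm.isKoszulAt_baseChange_iff h.left k.left t.left _ _ sqV _ _
    (sqU.paste_vert sqV) sqU.w u'

end Groth.Agent.S10668
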