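import Groth.Statements.S10645
import Groth.Agent.H8Props.AlgSpLci.Lci
import Groth.Agent.S10668

set_option autoImplicit false
universe u
open CategoryTheory CategoryTheory.Limits AlgebraicGeometry
open AlgSp

namespace Groth.Agent.S10645

/-- For morphisms f : X ⟶ Y, p : X ⟶ Z and q : Y ⟶ Z of algebraic spaces over S with f ≫ q = p, where p
is flat, closed and locally of finite presentation and q is flat and also locally of finite
presentation, there is an open subspace W of Z with the following property: a morphism of algebraic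
spaces g : Z' ⟶ Z factors through W exactly when the base change X' ⟶ Y' of f along g is a local
complete intersection (Koszul) morphism, i.e. Koszul at every point etale locally on source and
target. Here the base change of f along g is any f' : X' ⟶ Y' obtained from pullback squares Y' = Y
×_Z Z' and X' = X ×_Y Y' of algebraic spaces over S, and W ⊂ Z is given as a representable open
immersion w : W ⟶ Z. -/
theorem result {S : Scheme.{u}} {X Y Z : AlgSp.Space S}
    (f : X ⟶ Y) (p : X ⟶ Z) (q : Y ⟶ Z) (hc : f ≫ q = p)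
    (hp1 : AlgSp.LocP @Flat p.hom) (hp2 : AlgSp.LocP @LocallyOfFinitePresentation p.hom)
    (hp3 : AlgSp.IsClosedMor p.hom) (hq1 : AlgSp.LocP @Flat q.hom)
    (hq2 : AlgSp.LocP @LocallyOfFinitePresentation q.hom) :
    ∃ (W : AlgSp.Space S) (w : W ⟶ Z), AlgSp.RepWith @IsOpenImmersion w.hom ∧
      ∀ (Z' : AlgSp.Space S) (g : Z' ⟶ Z),
        (∃ k : Z' ⟶ W, k ≫ w = g) ↔
          ∀ (Y' : AlgSp.Space S) (gY : Y' ⟶ Y) (q' : Y' ⟶ Z'),
            IsPullback gY.hom q'.hom q.hom g.hom →
            ∀ (X' : AlgSp.Space S) (gX : X' ⟶ X) (f' : X' ⟶ Y'),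
              IsPullback gX.hom f'.hom f.hom gY.hom →
                AlgSp.IsLCIMor f'.hom := by
  have hc' : f.hom ≫ q.hom = p.hom := congrArg (fun k => k.hom) hc
  have hall : ∀ {A B : AlgSp.Space S} (h : A ⟶ B),
      IsLCIMor h.hom ↔ ∀ a : Points A.obj, LocPNear lci h.hom a := by
    intro A B h
    refine ⟨fun hh a => ⟨A.obj, 𝟙 A.obj, Groth.Agent.H12AlgSp.repWith_of_isIso _,
      ⟨a, by rw [Points.map_id]⟩, by rw [Category.id_comp]; exact hh⟩, fun hh => ?_⟩
    intro U V a b k ha hb w u
    exact (Groth.Agent.H8Props.AlgSpLci.locPNear_lci_iff A.property ha hb w u).1 (hh _)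
  let L : Set (Points X.obj) := {x | LocPNear lci f.hom x}
  have hL : IsOpen L := by
    obtain ⟨U, V, a, b, h, ha, has, hb, -, w⟩ := Groth.Agent.H12AlgSp.exists_chart X.property Y.property f.hom
    rw [← (Groth.Agent.H12AlgSp.isQuotientMap_ofPt ha has).isOpen_preimage]
    have e : Points.ofPt a ⁻¹' L = {u | Synt.IsKoszulAt h.left u} := by
      ext u; exact Groth.Agent.H8Props.AlgSpLci.locPNear_lci_iff X.property ha hb w u
    rw [e]
    exact Groth.Agent.H8Props.KoszImm.isOpen_koszul h.left
  obtain ⟨W, w, hWs, hw, hrange⟩ := Groth.Agent.H12AlgSp.exists_open_subspace Z.property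
    (hp3 _ hL.isClosed_compl).isOpen_compl
  refine ⟨⟨W, hWs⟩, ObjectProperty.homMk w, hw, fun Z' g => ⟨?_, fun H => ?_⟩⟩
  · rintro ⟨k, rfl⟩ Y' gY q' hY X' gX f' hX
    refine (hall f').2 fun x' => ?_
    have hx : x' ∈ {y | LocPNear lci f'.hom y} := by
      rw [Groth.Agent.S10668.result f p q hc hp1 hp2 hq1 hq2 _ gY q' hY gX f' hX]
      by_contra hn
      have h1 : Points.map p.hom (Points.map gX.hom x') ∈ Set.range (Points.map w) := by
        refine ⟨Points.map k.hom (Points.map q'.hom (Points.map f'.hom x')), ?_⟩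
        simp only [← Points.map_comp, ← hc', reassoc_of% hX.w]
        rw [hY.w]
        rfl
      rw [hrange] at h1
      exact h1 ⟨_, hn, rfl⟩
    exact hx
  · obtain ⟨k, hk⟩ : ∃ k, k ≫ w = g.hom := by
      refine Groth.Agent.H12AlgSp.exists_factor_open hw g.hom ?_
      rintro _ ⟨z, rfl⟩
      rw [hrange]
      rintro ⟨x, hx, hxz⟩
      let Y' : AlgSp.Space S :=
        ⟨pullback q.hom g.hom, Groth.Agent.H12AlgSp.isAlgSpace_pullback Z.property.diag Y.property Z'.property _ _⟩
      let gY : Y' ⟶ Y := ObjectProperty.homMk (pullback.fst q.hom g.hom)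
      let q' : Y' ⟶ Z' := ObjectProperty.homMk (pullback.snd q.hom g.hom)
      let X' : AlgSp.Space S :=
        ⟨pullback f.hom gY.hom, Groth.Agent.H12AlgSp.isAlgSpace_pullback Y.property.diag X.property Y'.property _ _⟩
      let gX : X' ⟶ X := ObjectProperty.homMk (pullback.fst f.hom gY.hom)
      let f' : X' ⟶ Y' := ObjectProperty.homMk (pullback.snd f.hom gY.hom)
      have hY : IsPullback gY.hom q'.hom q.hom g.hom := IsPullback.of_hasPullback _ _
      have hX : IsPullback gX.hom f'.hom f.hom gY.hom := IsPullback.of_hasPullback _ _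
      have sq : IsPullback gX.hom (f'.hom ≫ q'.hom) p.hom g.hom := hc' ▸ hX.paste_vert hY
      obtain ⟨x', rfl, -⟩ := Groth.Agent.H12AlgSp.exists_point_of_isPullback sq x z hxz
      have h1 : x' ∈ {y | LocPNear lci f'.hom y} := (hall f').1 (H Y' gY q' hY X' gX f' hX) x'
      rw [Groth.Agent.S10668.result f p q hc hp1 hp2 hq1 hq2 g gY q' hY gX f' hX] at h1
      exact hx h1
    exact ⟨ObjectProperty.homMk k, ObjectProperty.hom_ext _ hk⟩

end Groth.Agent.S10645
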