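import Groth.Statements.S10648
import Groth.Agent.H13AlgSp.ZMT.Main
import Groth.Agent.H12AlgSp.Approx.IntegralLimit
import Groth.Agent.H12AlgSp.LimitClosedIso
import Groth.Agent.H12AlgSp.LimitOpen
import Groth.Agent.H12AlgSp.LimitBaseChange
import Groth.Agent.H12AlgSp.QSApps
-- import your own Groth.Agent.* helpers here

set_option autoImplicit false
set_option backward.isDefEq.respectTransparency false
universe u
open CategoryTheory CategoryTheory.Limits AlgebraicGeometry
open AlgSp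

namespace Groth.Agent.S10648
open Groth.Agent.H12AlgSp Groth.Agent.H13AlgSp Opposite

/-- A quasi-finite separated morphism f : X ⟶ Y of algebraic spaces over S which is moreover locally of
finite presentation, whose target Y is quasi-compact and quasi-separated, factors as a quasi-compact
representable open immersion j : X ⟶ T followed by a morphism π : T ⟶ Y which is finite and finitely
presented. (The published statement asks Y to be quasi-separated in the absolute sense and puts no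
condition on S; this row assumes S quasi-separated and Y quasi-separated over S, which together
imply it.) -/
theorem result {S : Scheme.{u}} [QuasiSeparatedSpace ↥S] {X Y : AlgSp.Space S} (f : X ⟶ Y)
    (hf1 : AlgSp.LocP (@LocallyQuasiFinite ⊓ @LocallyOfFiniteType) f.hom) (hf2 : AlgSp.IsQuasiCompactMor f.hom)
    (hf3 : AlgSp.IsSeparatedMor f.hom) (hf4 : AlgSp.LocP @LocallyOfFinitePresentation f.hom)
    (hY1 : AlgSp.IsQuasiCompactSp Y.obj) (hY2 : AlgSp.IsQuasiSeparatedSp Y.obj) :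
    ∃ (T : AlgSp.Space S) (j : X ⟶ T) (π : T ⟶ Y), j ≫ π = f ∧
      AlgSp.RepWith @IsOpenImmersion j.hom ∧ AlgSp.IsQuasiCompactMor j.hom ∧ AlgSp.IsFiniteMor π.hom ∧
        AlgSp.IsFinitePresentationMor π.hom := by
  obtain ⟨T, j, π, hT, hfac, hj, hjqc, hπ⟩ := Groth.Agent.H13AlgSp.ZMT.exists_factor_finite X.property Y.property
    hf1 hf2 hf3 hY1 hY2
  have hπf : IsFiniteMor π := isFiniteMor_iff.2 hπ
  obtain ⟨Φ, hΦ, hcl⟩ := Approx.exists_limit_finite_closed hT Y.property hπf hY1 hY2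
  have hXc : IsQuasiCompactSp X.obj := Approx.isQuasiCompactSp_of_mor hf2 Y.property hY1
  obtain ⟨i₀, Ui, ji, q, hji, hUc, sq⟩ := exists_openSubspace_stage (D := Φ.D) Φ.alg Φ.affine
    (c := Cone.mk T Φ.π) Φ.isLimit j hj hXc
  have hU : IsAlgSpace Ui := isAlgSpace_of_representable ji hji.1 (Φ.alg i₀)
  let D' := bcDiagram Φ.D ji
  let c' := bcCone Φ.D ji (c := Cone.mk T Φ.π) sq.flip
  obtain ⟨hc'⟩ := nonempty_isLimit_bcCone Φ.D ji (c := Cone.mk T Φ.π) sq.flip Φ.isLimit
  let j₀ : Over i₀ := Over.mk (𝟙 i₀)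
  have hsnd : ∀ k : Over i₀, RepWith @IsOpenImmersion ((bcSnd Φ.D ji).app k) := fun k =>
    repWith_of_isPullback (isPullback_bcDiagram_fst Φ.D ji k) hji
  have hD'a := fun k => isAlgSpace_bcDiagram (b := ji) Φ.alg hU k
  have hqc' := fun k => isQuasiCompactSp_bcDiagram (b := ji) Φ.alg Φ.affine hU hUc k
  have hπ' : ∀ k : Over i₀, c'.π.app k ≫ (bcSnd Φ.D ji).app k = j ≫ Φ.π.app k.left := fun k =>
    pullback.lift_snd _ _ _
  have hlft : LocP @LocallyOfFiniteType ((bcSnd Φ.D ji).app j₀ ≫ Φ.t.app j₀.left) :=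
    locP_comp etLocal_lft (hD'a j₀) (Φ.alg _) Y.property
      (locP_of_repWith etLocal_lft
        (repWith_le (fun _ _ k (_ : IsOpenImmersion k) => inferInstanceAs (LocallyOfFiniteType k)) (hsnd j₀)))
      (locP_of_repWith etLocal_lft
        (repWith_le (fun _ _ k (_ : IsFinite k) => inferInstanceAs (LocallyOfFiniteType k)) (isFiniteMor_iff.1 (hΦ _))))
  have hfp : LocP @LocallyOfFinitePresentation (c'.π.app j₀ ≫ (bcSnd Φ.D ji).app j₀ ≫ Φ.t.app j₀.left) := by
    rw [← Category.assoc, hπ', Category.assoc, Φ.fac, hfac]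
    exact hf4
  obtain ⟨k₀, hk₀⟩ := eventually_isIso_π hD'a
    (fun k l φ => repWith_of_isPullback (isPullback_bcDiagram_map Φ.D ji φ).flip (hcl _ _ φ.left))
    hc' (hqc' j₀) Y.property _ hlft hfp
  haveI := hk₀ k₀ (𝟙 _)
  have hsq' : IsPullback (c'.π.app k₀) (j ≫ Φ.π.app k₀.left) ((bcSnd Φ.D ji).app k₀) (𝟙 _) :=
    IsPullback.of_horiz_isIso ⟨by rw [hπ', Category.comp_id]⟩
  refine ⟨⟨Φ.D.obj k₀.left, Φ.alg _⟩, ObjectProperty.homMk (j ≫ Φ.π.app k₀.left),
    ObjectProperty.homMk (Φ.t.app k₀.left),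
    ObjectProperty.hom_ext _ (by change (j ≫ Φ.π.app k₀.left) ≫ Φ.t.app k₀.left = f.hom; rw [Category.assoc, Φ.fac, hfac]),
    repWith_of_isPullback hsq' (hsnd k₀),
    isQuasiCompactMor_of_qc_qs X.property (Φ.alg _) _ hXc (Φ.qs _), hΦ _, Φ.fp _⟩

end Groth.Agent.S10648
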