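import Groth.Statements.S10649
import Groth.Agent.H13AlgSp.FibreNoeth

set_option autoImplicit false
universe u
open CategoryTheory CategoryTheory.Limits AlgebraicGeometry
open AlgSp

namespace Groth.Agent.S10649

open Groth.Agent.H13AlgSp


/-- The following conditions on a morphism f : X ⟶ Y of algebraic spaces over S are equivalent: (1)
finiteness of f; (2) f is locally quasi-finite as well as proper (locally quasi-finite and locally
of finite type etale locally); (3) f is proper and for every field k and every k-point Spec k ⟶ Y
the fibre X_k (any pullback of f along it in fppf sheaves) has discrete space of points; (4) f is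
universally closed, separated and locally of finite type, and every such fibre X_k has discrete
space of points. -/
theorem result {S : Scheme.{u}} {X Y : AlgSp.Space S} (f : X ⟶ Y) :
    [AlgSp.IsFiniteMor f.hom,
      AlgSp.IsProperMor f.hom ∧ AlgSp.LocP (@LocallyQuasiFinite ⊓ @LocallyOfFiniteType) f.hom,
      AlgSp.IsProperMor f.hom ∧
        ∀ (k : AlgSp.FieldPt Y.obj) (Xk : AlgSp.Sp S) (fst : Xk ⟶ X.obj) (snd : Xk ⟶ (AlgSp.yon S).obj k.pt),
          IsPullback fst snd f.hom k.toHom → DiscreteTopology (AlgSp.Points Xk),
      AlgSp.IsUnivClosedMor f.hom ∧ AlgSp.IsSeparatedMor f.hom ∧ AlgSp.LocP @LocallyOfFiniteType f.hom ∧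
        ∀ (k : AlgSp.FieldPt Y.obj) (Xk : AlgSp.Sp S) (fst : Xk ⟶ X.obj) (snd : Xk ⟶ (AlgSp.yon S).obj k.pt),
          IsPullback fst snd f.hom k.toHom → DiscreteTopology (AlgSp.Points Xk)].TFAE := by
  exact isFiniteMor_tfae X.property Y.property f.hom

end Groth.Agent.S10649
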