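import Groth.Statements.S1065
import Groth.Agent.H16Derived.RelTensor.Perfect

set_option autoImplicit false
universe u
open CategoryTheory CategoryTheory.Limits AlgebraicGeometry Opposite
attribute [local instance] HasDerivedCategory.standard
open Perf

namespace Groth.Agent.S1065

/-- Let f : X ⟶ S be a morphism of finite presentation (locally of finite presentation, quasi-compact
and quasi-separated), let E be a perfect object of D(O_X), and let G be a finitely presented
O_X-module that is S-flat and whose support is proper over S. Assuming the derived functors − ⊗^L G
and Rf_* exist, the object Rf_*(E ⊗^L_{O_X} G) of D(O_S) is perfect. (The published statement also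
allows G to be a bounded complex of such modules and says the construction commutes with arbitrary
base change; neither claim is made here.) -/
theorem result {X S : Scheme.{u}} (f : X ⟶ S) [LocallyOfFinitePresentation f] [QuasiCompact f] [QuasiSeparated f]
    (E : DCoh.D X) (hE : DCoh.IsPerfect E) (G : X.Modules) (hG : CohB1.IsFP G) (hflat : FlatMod.IsFlatOver f G)
    (hsupp : ClSub.IsProperOver f (CohB1.support G)) [DCoh.HasLTensorMod G] [DCoh.HasRpush f] :
    DCoh.IsPerfect ((DCoh.Rpush f).obj ((DCoh.LTensorMod G).obj E)) := by
  exact Groth.Agent.H16Derived.RelTensor.isPerfect_rpush_ltensorMod f hG hflat hsupp hE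

end Groth.Agent.S1065
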