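import Groth.Statements.S10651
import Groth.Agent.S10281
import Groth.Agent.S10650
import Groth.Agent.S10444
import Groth.Agent.H13AlgSp.SepDecent
import Groth.Agent.H12AlgSp.SchImage
import Groth.Agent.H12AlgSp.PointsTop
import Groth.Agent.H12AlgSp.DecentLocal
-- import your own Groth.Agent.* helpers here

set_option autoImplicit false
set_option backward.isDefEq.respectTransparency false
universe u
open CategoryTheory CategoryTheory.Limits AlgebraicGeometry
open AlgSp Groth.Agent.H12AlgSp Groth.Agent.H13AlgSp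

namespace Groth.Agent.S10651

/-- Consider morphisms h : X ⟶ Y, f : X ⟶ B, g : Y ⟶ B of algebraic spaces over S with h ≫ g = f, a
point b of |B| and a field point k of B in the class of b. Assume f is proper, g is separated and
locally of finite type, and either (a) for the fibres X_k ⟶ Y_k of h over k (pullbacks in fppf
sheaves) the image of |X_k| in |Y_k| is finite, or (b) the image in |Y| of the fibre of |X| ⟶ |B|
over b is finite and B is decent. Then over some open subspace B' of B containing b the base change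
X_{B'} ⟶ Y_{B'} of h lands in a closed subspace Z of Y_{B'} that is finite over B' (it factors
through Z). -/
theorem result {S : Scheme.{u}} {X Y B : AlgSp.Space S} (h : X ⟶ Y) (f : X ⟶ B) (g : Y ⟶ B) (hc : h ≫ g = f)
    (b : AlgSp.Points B.obj) (k : AlgSp.FieldPt B.obj) (hk : AlgSp.Points.mk k = b)
    (hf : AlgSp.IsProperMor f.hom) (hg1 : AlgSp.IsSeparatedMor g.hom) (hg2 : AlgSp.LocP @LocallyOfFiniteType g.hom)
    (h3 : (∀ (Yk : AlgSp.Sp S) (gY : Yk ⟶ Y.obj) (sY : Yk ⟶ (AlgSp.yon S).obj k.pt),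
            IsPullback gY sY g.hom k.toHom →
            ∀ (Xk : AlgSp.Sp S) (gX : Xk ⟶ X.obj) (hk' : Xk ⟶ Yk), IsPullback gX hk' h.hom gY →
              (Set.range (AlgSp.Points.map hk')).Finite) ∨
          ((AlgSp.Points.map h.hom '' (AlgSp.Points.map f.hom ⁻¹' {b})).Finite ∧ AlgSp.IsDecent B.obj)) :
    ∃ (B' : AlgSp.Space S) (j : B' ⟶ B), AlgSp.RepWith @IsOpenImmersion j.hom ∧
      b ∈ Set.range (AlgSp.Points.map j.hom) ∧
        ∀ (YB : AlgSp.Space S) (gY : YB ⟶ Y) (sY : YB ⟶ B'), IsPullback gY.hom sY.hom g.hom j.hom →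
          ∀ (XB : AlgSp.Space S) (gX : XB ⟶ X) (hB : XB ⟶ YB), IsPullback gX.hom hB.hom h.hom gY.hom →
            ∃ (Z : AlgSp.Space S) (i : Z ⟶ YB) (e : XB ⟶ Z), AlgSp.RepWith @IsClosedImmersion i.hom ∧
              AlgSp.IsFiniteMor (i ≫ sY).hom ∧ e ≫ i = hB := by
  classical
  obtain ⟨Zs, i, hZ, hZi⟩ := exists_isSchImage X.property Y.property h.hom
  obtain ⟨e₀, he₀⟩ := hZi.2.1
  let Z : AlgSp.Space S := ⟨Zs, hZ⟩
  let iS : Z ⟶ Y := ObjectProperty.homMk i
  let eS : X ⟶ Z := ObjectProperty.homMk e₀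
  obtain ⟨hp, hes⟩ := Groth.Agent.S10281.result h f g hc hf hg1 hg2 iS hZi eS (ObjectProperty.hom_ext _ he₀)
  have : Mono i := mono_of_closedImmersion hZi.1
  obtain ⟨B', j, hj, hbj, hfin⟩ := Groth.Agent.S10650.result (iS ≫ g) b hp (fun z hz => by
    have sqk := IsPullback.of_hasPullback (iS ≫ g).hom k.toHom
    let Zk : AlgSp.Space S := ⟨_, isAlgSpace_of_isPullback B.property.diag hZ (IsAlgSpace.yon_obj k.pt) sqk⟩
    have hy : Points.mk k ∈ Set.range (Points.map (iS ≫ g).hom) := ⟨z, hz.trans hk.symm⟩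
    obtain ⟨h1, h2, -, -, h5, -, -, h8, h9⟩ := Groth.Agent.S10444.result (iS ≫ g) hp.2.1.1 k hy Zk
      (ObjectProperty.homMk (pullback.fst (iS ≫ g).hom k.toHom) : Zk ⟶ Z)
      (pullback.snd (iS ≫ g).hom k.toHom) sqk
    refine h2.1 (h1.1 ?_) z (hz.trans hk.symm)
    rcases h3 with h3 | ⟨h3, hB⟩
    · apply h5 (isDecent_of_isSeparatedMor Zk.property (IsAlgSpace.yon_obj k.pt)
        (Groth.Agent.H12AlgSp.isSeparatedMor_of_isPullback sqk hp.1) (isDecent_yon k.pt))
      have sqY := IsPullback.of_hasPullback g.hom k.toHom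
      have sqX := IsPullback.of_hasPullback h.hom (pullback.fst g.hom k.toHom)
      have hfk := h3 _ _ _ sqY _ _ _ sqX
      let m : pullback (iS ≫ g).hom k.toHom ⟶ pullback g.hom k.toHom :=
        sqY.lift (pullback.fst _ _ ≫ i) (pullback.snd _ _) (by rw [Category.assoc]; exact sqk.w)
      have hmY : m ≫ pullback.fst _ _ = pullback.fst _ _ ≫ i := sqY.lift_fst _ _ _
      have sqm : IsPullback (pullback.fst (iS ≫ g).hom k.toHom) m i (pullback.fst g.hom k.toHom) :=
        IsPullback.of_bot (by rw [sqY.lift_snd]; exact sqk) hmY.symm sqY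
      have : Mono m := mono_of_closedImmersion (repWith_of_isPullback sqm hZi.1)
      refine @Finite.of_injective _ _ hfk.to_subtype
        (fun w => ⟨Points.map m w, ?_⟩) fun w w' e => injective_map_of_mono m (Subtype.ext_iff.1 e)
      obtain ⟨x, hx⟩ := hes (Points.map (pullback.fst (iS ≫ g).hom k.toHom) w)
      obtain ⟨p, -, hp'⟩ := exists_point_of_isPullback sqX x (Points.map m w) (by
        rw [← Points.map_comp, hmY, Points.map_comp, ← hx, ← Points.map_comp]
        exact congrArg (fun q => Points.map q x) he₀.symm)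
      exact ⟨p, hp'⟩
    · refine (h8 hB).1 ((h9 hB (isDecent_of_isSeparatedMor hZ B.property hp.1 hB)).2 ?_)
      refine Set.Finite.of_finite_image (f := Points.map i) (h3.subset ?_) (injective_map_of_mono i).injOn
      rintro _ ⟨w, hw, rfl⟩
      obtain ⟨x, rfl⟩ := hes w
      refine ⟨x, ?_, ?_⟩
      · rw [Set.mem_preimage] at hw ⊢
        rw [Set.mem_singleton_iff] at hw ⊢
        rw [← hc, ← hk, ← hw, ← Points.map_comp]
        exact congrArg (fun q => Points.map (q ≫ g.hom) x) he₀.symm |>.trans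
          (congrArg (fun q => Points.map q x) (Category.assoc _ _ _))
      · rw [← Points.map_comp]; exact congrArg (fun q => Points.map q x) he₀.symm)
  refine ⟨B', j, hj, hbj, fun YB gY sY sq XB gX hB sq2 => ?_⟩
  have sqi := IsPullback.of_hasPullback i gY.hom
  let ZB : AlgSp.Space S := ⟨_, isAlgSpace_of_isPullback Y.property.diag hZ YB.property sqi⟩
  let iB : ZB ⟶ YB := ObjectProperty.homMk (pullback.snd i gY.hom)
  refine ⟨ZB, iB, ObjectProperty.homMk (sqi.lift (gX.hom ≫ e₀) hB.hom
    (by rw [Category.assoc, he₀]; exact sq2.w)), repWith_of_isPullback sqi hZi.1,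
    hfin ZB (ObjectProperty.homMk (pullback.fst i gY.hom)) (iB ≫ sY) (sqi.paste_vert sq),
    ObjectProperty.hom_ext _ (sqi.lift_snd _ _ _)⟩

end Groth.Agent.S10651
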