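import Groth.Statements.S10652
import Groth.Agent.H13AlgSp.FlatDenseFP

set_option autoImplicit false
universe u
open CategoryTheory CategoryTheory.Limits AlgebraicGeometry
open AlgSp

namespace Groth.Agent.S10652

/-- For a flat morphism f : X ⟶ Y of algebraic spaces over S which is locally of finite type, and an
open subspace j : V ⟶ Y which is quasi-compact (as a morphism) and scheme theoretically dense (on
some etale surjective scheme chart its inverse image is a schematically dense open): if the base
change X ×_Y V ⟶ V is locally of finite presentation then so is f. -/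
theorem result {S : Scheme.{u}} {X Y V : AlgSp.Space S} (f : X ⟶ Y) (j : V ⟶ Y)
    (hf1 : AlgSp.LocP @LocallyOfFiniteType f.hom) (hf2 : AlgSp.LocP @Flat f.hom)
    (hj1 : AlgSp.IsQuasiCompactMor j.hom) (hj2 : AlgSp.IsSchDense j.hom)
    (P : AlgSp.Space S) (fst : P ⟶ X) (snd : P ⟶ V) (hP : IsPullback fst.hom snd.hom f.hom j.hom)
    (hV : AlgSp.LocP @LocallyOfFinitePresentation snd.hom) :
    AlgSp.LocP @LocallyOfFinitePresentation f.hom := by
  exact H13AlgSp.FlatDenseFP.locP_lfp_of_dense X.property Y.property V.property hf1 hf2 hj1 hj2 hP hV

end Groth.Agent.S10652
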