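import Groth.Statements.S10653
import Groth.Agent.H13AlgSp.DenseOpen

set_option autoImplicit false
universe u
open CategoryTheory CategoryTheory.Limits AlgebraicGeometry
open AlgSp

namespace Groth.Agent.S10653

/-- For a flat morphism f : X ⟶ Y of algebraic spaces over S which is locally of finite type, and an
open subspace j : V ⟶ Y with |V| dense in |Y| such that the base change X ×_Y V ⟶ V has relative
dimension at most d (at every point some etale chart diagram has top arrow with local fibre
dimension at most d): if either j is quasi-compact or f is locally of finite presentation, then f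
has relative dimension at most d at every point of |X|. -/
theorem result {S : Scheme.{u}} {X Y V : AlgSp.Space S} (f : X ⟶ Y) (j : V ⟶ Y) (d : ℕ)
    (hf1 : AlgSp.LocP @Flat f.hom) (hf2 : AlgSp.LocP @LocallyOfFiniteType f.hom)
    (hj1 : AlgSp.RepWith @IsOpenImmersion j.hom) (hj2 : Dense (Set.range (AlgSp.Points.map j.hom)))
    (P : AlgSp.Space S) (fst : P ⟶ X) (snd : P ⟶ V) (hP : IsPullback fst.hom snd.hom f.hom j.hom)
    (hV : ∀ x, AlgSp.HasAtMor (fun _ _ h u => FlatMor.fibreDimAt h u ≤ (d : WithBot ℕ∞)) snd.hom x)
    (h : AlgSp.LocP @LocallyOfFinitePresentation f.hom ∨ AlgSp.IsQuasiCompactMor j.hom) :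
    ∀ x, AlgSp.HasAtMor (fun _ _ h u => FlatMor.fibreDimAt h u ≤ (d : WithBot ℕ∞)) f.hom x := by
  exact Groth.Agent.H13AlgSp.fibreDimAt_le_of_dense_open X.property Y.property d hf1 hf2 hj1 hj2 hP hV h

end Groth.Agent.S10653
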