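import Groth.Statements.S10654
import Groth.Agent.H13AlgSp.DenseOpen
import Groth.Agent.H13AlgSp.ProperQf

set_option autoImplicit false
universe u
open CategoryTheory CategoryTheory.Limits AlgebraicGeometry
open AlgSp

namespace Groth.Agent.S10654

/-- For a flat proper morphism f : X ⟶ Y of algebraic spaces over S and an open subspace j : V ⟶ Y with
|V| dense in |Y| such that the base change X ×_Y V ⟶ V is finite: f is finite over all of Y,
provided either j is quasi-compact or f is locally of finite presentation. -/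
theorem result {S : Scheme.{u}} {X Y V : AlgSp.Space S} (f : X ⟶ Y) (j : V ⟶ Y)
    (hf1 : AlgSp.LocP @Flat f.hom) (hf2 : AlgSp.IsProperMor f.hom)
    (hj1 : AlgSp.RepWith @IsOpenImmersion j.hom) (hj2 : Dense (Set.range (AlgSp.Points.map j.hom)))
    (P : AlgSp.Space S) (fst : P ⟶ X) (snd : P ⟶ V) (hP : IsPullback fst.hom snd.hom f.hom j.hom)
    (hV : AlgSp.IsFiniteMor snd.hom)
    (h : AlgSp.LocP @LocallyOfFinitePresentation f.hom ∨ AlgSp.IsQuasiCompactMor j.hom) :
    AlgSp.IsFiniteMor f.hom := by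
  have hft := hf2.2.1.1
  have hV' : ∀ x, AlgSp.HasAtMor (fun _ _ h u => FlatMor.fibreDimAt h u ≤ ((0 : ℕ) : WithBot ℕ∞)) snd.hom x := by
    intro x
    have hl : AlgSp.LocP (@LocallyQuasiFinite ⊓ @LocallyOfFiniteType) snd.hom :=
      Groth.Agent.H12AlgSp.locP_of_repWith
        (Groth.Agent.H12AlgSp.etLocal_inf Groth.Agent.H12AlgSp.etLocal_lqf Groth.Agent.H12AlgSp.etLocal_lft)
        (Groth.Agent.H12AlgSp.repWith_le (fun _ _ g (_ : IsFinite g) =>
          ⟨inferInstanceAs (LocallyQuasiFinite g), inferInstanceAs (LocallyOfFiniteType g)⟩)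
          (Groth.Agent.H13AlgSp.isFiniteMor_iff.1 hV))
    obtain ⟨U, W, a, b, g, u, ha, hb, w, rfl⟩ := Groth.Agent.H12AlgSp.exists_chart_at P.property V.property snd.hom x
    obtain ⟨h1, h2⟩ := hl a b g ha hb w
    have : LocallyQuasiFinite g.left := h1
    have : LocallyOfFiniteType g.left := h2
    exact ⟨U, W, a, b, g, u, ha, hb, w, rfl, (Groth.Agent.H8Props.FieldDim.fibreDimAt_eq_zero_of_lqf g.left u).le⟩
  have key := Groth.Agent.H13AlgSp.fibreDimAt_le_of_dense_open X.property Y.property 0 hf1 hft hj1 hj2 hP hV' h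
  refine Groth.Agent.H13AlgSp.isFiniteMor_of_univClosed_lqf X.property Y.property hf2.2.2 hf2.1
    (Groth.Agent.H13AlgSp.locP_lqf_of_qfAt hft fun x => ?_)
  obtain ⟨U, T, a, b, g, u, ha, hb, w, rfl, hu⟩ := key x
  have : LocallyOfFiniteType g.left := hft a b g ha hb w
  exact ⟨U, T, a, b, g, u, ha, hb, w, rfl, (Groth.Agent.H12AlgSp.nbhd_lqf_iff g.left u).2 (by exact_mod_cast hu)⟩

end Groth.Agent.S10654
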