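import Groth.Statements.S10659
import Groth.Agent.H12AlgSp.Basic

set_option autoImplicit false
universe u
open CategoryTheory CategoryTheory.Limits AlgebraicGeometry
open AlgSp

namespace Groth.Agent.S10659

/-- For a property P of morphisms of schemes that is etale local on the target (local for the etale
precoverage) and a representable morphism f : X ⟶ Y of algebraic spaces over S: if for one scheme V
with a representable etale surjective b : h_V ⟶ Y and one pullback square of f along b with corner
h_W the projection W ⟶ V has P, then f has P etale locally on the target in the representable sense,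
i.e. every such projection along every etale h_V ⟶ Y has P. (The published statement also asserts
the converse direction and that, for X and Y representable, the condition is equivalent to f having
P; this row states only that one surjective etale chart suffices.) -/
theorem result {S : Scheme.{u}} (P : MorphismProperty Scheme.{u}) [P.IsLocalAtTarget Scheme.etalePrecoverage]
    {X Y : AlgSp.Space S} (f : X ⟶ Y) (hf : AlgSp.Representable f.hom)
    {V W : Over S} (b : (AlgSp.yon S).obj V ⟶ Y.obj) (hb1 : AlgSp.RepWith @Etale b) (hb2 : AlgSp.RepWith @Surjective b)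
    (fst : (AlgSp.yon S).obj W ⟶ X.obj) (snd : W ⟶ V)
    (sq : IsPullback fst ((AlgSp.yon S).map snd) f.hom b) (hP : P snd.left) :
    AlgSp.RepLocT P f.hom := by
  refine ⟨hf, fun {V'} {W'} b' fst' snd' hb' sq' => ?_⟩
  obtain ⟨T, t', t₂, sqT⟩ := hb1.1 b'
  obtain ⟨t, rfl⟩ := (AlgSp.yon S).map_surjective t₂
  have het' : Etale t'.left := hb1.2 _ _ _ sqT
  have hst' : Surjective t'.left := hb2.2 _ _ _ sqT
  have het : Etale t.left :=
    (AlgSp.repWith_yon_map_iff _ _).1 (H12AlgSp.repWith_of_isPullback sqT.flip hb')
  have pT := IsPullback.of_hasPullback snd t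
  have p1 := (pT.map (AlgSp.yon S)).paste_horiz sq
  rw [sqT.w] at p1
  let μ := sq'.lift ((AlgSp.yon S).map (pullback.fst snd t) ≫ fst)
    ((AlgSp.yon S).map (pullback.snd snd t) ≫ (AlgSp.yon S).map t') (by rw [p1.w]; simp only [Category.assoc])
  obtain ⟨ν, hν⟩ := (AlgSp.yon S).map_surjective μ
  have p2 : IsPullback ((AlgSp.yon S).map ν) ((AlgSp.yon S).map (pullback.snd snd t))
      ((AlgSp.yon S).map snd') ((AlgSp.yon S).map t') := by
    rw [hν]
    exact IsPullback.of_right (by rw [sq'.lift_fst]; exact p1) (sq'.lift_snd ..) sq'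
  have p3 := (IsPullback.of_map (AlgSp.yon S)
    ((AlgSp.yon S).map_injective (by simpa [Functor.map_comp] using p2.w)) p2).map (Over.forget S)
  have pT' := pT.map (Over.forget S)
  dsimp only [Over.forget_map] at p3 pT'
  let R : Presieve V.left := Presieve.ofArrows (fun b : ULift.{u} Bool => bif b.down then V.left else T.left)
    (fun b => match b with | ⟨true⟩ => 𝟙 V.left | ⟨false⟩ => t.left)
  have hR : R ∈ Scheme.etalePrecoverage V.left := by
    refine (Scheme.ofArrows_mem_precoverage_iff _).2 ⟨fun x => ⟨⟨true⟩, x, rfl⟩, ?_⟩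
    rintro ⟨_ | _⟩
    exacts [het, inferInstanceAs (Etale (𝟙 V.left))]
  have hPT : P (pullback.snd snd.left t.left) :=
    MorphismProperty.IsLocalAtTarget.pullbackSnd hR (Presieve.ofArrows.mk (ι := ULift.{u} Bool) ⟨false⟩) hP
  have hP3 : P (pullback.snd snd t).left := by
    rw [← pT'.isoPullback_hom_snd]; exact MorphismProperty.RespectsIso.precomp P _ _ hPT
  refine MorphismProperty.IsLocalAtTarget.of_forall_pullbackSnd (K := Scheme.etalePrecoverage)
    (R := Presieve.ofArrows (fun _ : PUnit.{u+1} => T.left) (fun _ => t'.left)) ?_ ?_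
  · exact (Scheme.ofArrows_mem_precoverage_iff _).2
      ⟨fun x => ⟨PUnit.unit, hst'.surj x⟩, fun _ => het'⟩
  · intro U g _ hg
    obtain ⟨⟨⟩⟩ := hg
    have h := MorphismProperty.RespectsIso.precomp P p3.isoPullback.inv _ hP3
    exact Eq.mp (congrArg (fun k => P k) p3.isoPullback_inv_snd) h

end Groth.Agent.S10659
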