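import Groth.Statements.S10660
import Groth.Agent.H29Slice.KoszulReg
import Groth.Agent.H29Slice.H1Quasi

set_option autoImplicit false
universe u
open CategoryTheory CategoryTheory.Limits AlgebraicGeometry
open AlgSp

namespace Groth.Agent.S10660

/-- For an immersion i : Z ⟶ X of algebraic spaces over S: if i is a Koszul-regular immersion then it is
an H_1-regular immersion, and if it is an H_1-regular immersion then it is a quasi-regular immersion
(all in the representable, etale-local-on-the-target sense). -/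
theorem result {S : Scheme.{u}} {Z X : AlgSp.Space S} (i : Z ⟶ X) (hi : AlgSp.RepWith @IsImmersion i.hom) :
    (AlgSp.IsRegImmMor RegImm.Kind.koszul i.hom → AlgSp.IsRegImmMor RegImm.Kind.h1 i.hom) ∧
      (AlgSp.IsRegImmMor RegImm.Kind.h1 i.hom → AlgSp.IsRegImmMor RegImm.Kind.quasi i.hom) := by
  have key : ∀ k k' : RegImm.Kind, (∀ (R : Type u) [CommRing R] (rs : List R), k.Seq R rs → k'.Seq R rs) →
      AlgSp.IsRegImmMor k i.hom → AlgSp.IsRegImmMor k' i.hom := by
    intro k k' h hk
    refine ⟨hk.1, fun V W b fst snd hb hpb => ?_⟩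
    have hv := hk.2 b fst snd hb hpb
    refine ⟨hv.1, fun z => ?_⟩
    obtain ⟨U, hz, hcl, rs, hrs, hker⟩ := hv.2 z
    exact ⟨U, hz, hcl, rs, h _ rs hrs, hker⟩
  exact ⟨key _ _ fun R _ rs h => Groth.Agent.H29Slice.isH1Regular_of_isKoszulRegular h,
    key _ _ fun R _ rs h => Groth.Agent.H29Slice.isQuasiRegular_of_isH1Regular h⟩

end Groth.Agent.S10660
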