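import Groth.Statements.S10661
import Groth.Agent.S10660
import Groth.Agent.S5003
import Groth.Agent.S8905
import Groth.Agent.H12AlgSp.RelDimApps

set_option autoImplicit false
universe u
open CategoryTheory CategoryTheory.Limits AlgebraicGeometry
open AlgSp

namespace Groth.Agent.S10661

open CategoryTheory CategoryTheory.Limits AlgebraicGeometry

theorem up {S : Scheme.{u}} {Z X : AlgSp.Space S} (i : Z ⟶ X) (hX : AlgSp.IsLocNoethSp X.obj)
    (h : AlgSp.IsRegImmMor RegImm.Kind.quasi i.hom) : AlgSp.IsRegImmMor RegImm.Kind.koszul i.hom := by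
  refine ⟨h.1, fun V W b fst snd hb hpb => ?_⟩
  have hV : IsLocallyNoetherian V.left :=
    Groth.Agent.H12AlgSp.isLocallyNoetherian_chart X.property hX hb
  exact (Groth.Agent.S8905.result snd.left).1 ((Groth.Agent.S5003.result snd.left).2 (h.2 b fst snd hb hpb))


/-- For an immersion i : Z ⟶ X of algebraic spaces over S with X locally Noetherian (some etale
surjective chart is a locally Noetherian scheme), the three conditions Koszul-regular immersion,
H_1-regular immersion and quasi-regular immersion on i are equivalent. -/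
theorem result {S : Scheme.{u}} {Z X : AlgSp.Space S} (i : Z ⟶ X) (hi : AlgSp.RepWith @IsImmersion i.hom)
    (hX : AlgSp.IsLocNoethSp X.obj) :
    (AlgSp.IsRegImmMor RegImm.Kind.koszul i.hom ↔ AlgSp.IsRegImmMor RegImm.Kind.h1 i.hom) ∧
      (AlgSp.IsRegImmMor RegImm.Kind.h1 i.hom ↔ AlgSp.IsRegImmMor RegImm.Kind.quasi i.hom) := by
  exact
  ⟨⟨fun h => ((Groth.Agent.S10660.result i hi).1 h), fun h => up i hX ((Groth.Agent.S10660.result i hi).2 h)⟩,
    ⟨fun h => ((Groth.Agent.S10660.result i hi).2 h), fun h => (Groth.Agent.S10660.result i hi).1 (up i hX h)⟩⟩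

end Groth.Agent.S10661
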