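import Groth.Statements.S10664
import Groth.Agent.H8Props.AlgSpLci.Lci

set_option autoImplicit false
universe u
open CategoryTheory CategoryTheory.Limits AlgebraicGeometry
open AlgSp

namespace Groth.Agent.S10664

/-- For a local complete intersection (Koszul) morphism f : X ⟶ Y of algebraic spaces over S, a smooth g
: P ⟶ Y, an etale e : U ⟶ X and a representable immersion i : U ⟶ P with i ≫ g = e ≫ f, the
immersion i is Koszul-regular as an immersion of algebraic spaces. -/
theorem result {S : Scheme.{u}} {X Y P U : AlgSp.Space S} (f : X ⟶ Y) (g : P ⟶ Y) (e : U ⟶ X) (i : U ⟶ P)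
    (hc : i ≫ g = e ≫ f) (hf : AlgSp.IsLCIMor f.hom) (hg : AlgSp.LocP @Smooth g.hom)
    (he : AlgSp.IsEtaleMor e.hom) (hi : AlgSp.RepWith @IsImmersion i.hom) :
    AlgSp.IsRegImmMor RegImm.Kind.koszul i.hom := by
  have hlci : AlgSp.IsLCIMor i.hom := by
    refine Groth.Agent.H8Props.AlgSpLci.isLCIMor_of_comp_smooth Y.property hg ?_
    have e' : i.hom ≫ g.hom = e.hom ≫ f.hom := congrArg (fun k => k.hom) hc
    rw [e']
    exact Groth.Agent.H8Props.AlgSpLci.locP_comp Groth.Agent.H8Props.AlgSpLci.chartLocal_lci U.property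
      X.property Y.property
      (Groth.Agent.H8Props.AlgSpLci.locP_of_etale Groth.Agent.H8Props.AlgSpLci.chartLocal_lci he) hf
  refine ⟨hi.1, fun V W b fst snd hb sq => ?_⟩
  have hsnd : IsImmersion snd.left := hi.2 b fst snd sq
  have hl : AlgSp.lci snd.left :=
    hlci fst b snd (Groth.Agent.H12AlgSp.repWith_of_isPullback sq.flip hb) hb sq.w
  exact ⟨hsnd, fun z => Groth.Agent.H8Props.KoszImm.regAt_of_isKoszulAt snd.left snd.left (𝟙 _)
    (Category.comp_id _) z (hl z)⟩

end Groth.Agent.S10664
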