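import Groth.Statements.S10676
import Groth.Agent.H13AlgSp.QfSplit
-- import your own Groth.Agent.* helpers here

set_option autoImplicit false
universe u
open CategoryTheory CategoryTheory.Limits AlgebraicGeometry
open AlgSp Groth.Agent.H12AlgSp Groth.Agent.H13AlgSp

namespace Groth.Agent.S10676

/-- For a separated morphism f : X ⟶ Y of algebraic spaces over S which is locally of finite type, a
point y of |Y| and a finite set xs of points of |X| mapping to y at each of which f is quasi-finite
(some etale chart diagram through the point has top arrow locally quasi-finite and locally of finite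
type on an open neighbourhood), assuming moreover that f is quasi-compact or Y is decent: there are
an etale morphism of algebraic spaces a : U ⟶ Y and a point u of |U| over y such that for the base
change P = U ×_Y X there is an open and closed subspace V ⊂ P, finite over U, such that every point
of |V| over u maps into xs and no point of |P| outside |V| lying over u maps into xs. -/
theorem result {S : Scheme.{u}} {X Y : AlgSp.Space S} (f : X ⟶ Y) (y : AlgSp.Points Y.obj)
    (xs : Finset (AlgSp.Points X.obj)) (hxs : ∀ x ∈ xs, AlgSp.Points.map f.hom x = y)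
    (hf1 : AlgSp.LocP @LocallyOfFiniteType f.hom) (hf2 : AlgSp.IsSeparatedMor f.hom)
    (hf3 : ∀ x ∈ xs, AlgSp.HasAtMor (fun U _ h u => ∃ W : U.Opens, u ∈ W ∧ LocallyQuasiFinite (W.ι ≫ h) ∧ LocallyOfFiniteType (W.ι ≫ h)) f.hom x)
    (hf4 : AlgSp.IsQuasiCompactMor f.hom ∨ AlgSp.IsDecent Y.obj) :
    ∃ (U : AlgSp.Space S) (a : U ⟶ Y) (u : AlgSp.Points U.obj), AlgSp.IsEtaleMor a.hom ∧ AlgSp.Points.map a.hom u = y ∧
      ∀ (P : AlgSp.Space S) (prX : P ⟶ X) (prU : P ⟶ U), IsPullback prX.hom prU.hom f.hom a.hom →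
        ∃ (V : AlgSp.Space S) (jV : V ⟶ P), AlgSp.RepWith @IsOpenImmersion jV.hom ∧ AlgSp.RepWith @IsClosedImmersion jV.hom ∧
          AlgSp.IsFiniteMor (jV ≫ prU).hom ∧
          (∀ v : AlgSp.Points V.obj, AlgSp.Points.map (jV ≫ prU).hom v = u → AlgSp.Points.map (jV ≫ prX).hom v ∈ xs) ∧
          ∀ w : AlgSp.Points P.obj, w ∉ Set.range (AlgSp.Points.map jV.hom) → AlgSp.Points.map prU.hom w = u →
            AlgSp.Points.map prX.hom w ∉ xs := by
  obtain ⟨V', a, u, ha, hu, F, bF, i, hbF, hi, hic, hib, h1, h2⟩ :=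
    QfSplit.exists_split X.property Y.property y xs hxs hf1 hf2 hf3 hf4
  refine ⟨⟨(yon S).obj V', IsAlgSpace.yon_obj V'⟩, ObjectProperty.homMk a, Points.ofScheme V' u,
    fun _ _ h => repWith_comp h ha, ?_, fun P prX prU sq => ?_⟩
  · change Points.map a _ = _
    rw [← Points.ofPt_eq_map_ofScheme, hu]
  have sq' : IsPullback prX.hom prU.hom f.hom a := sq
  let e : P.obj ≅ Limits.pullback f.hom a := sq'.isoPullback
  refine ⟨⟨(yon S).obj F, IsAlgSpace.yon_obj F⟩, ObjectProperty.homMk (i ≫ e.inv),
    repWith_comp hi (repWith_of_isIso _), repWith_comp hic (repWith_of_isIso _), ?_, ?_, ?_⟩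
  · change AlgSp.IsFiniteMor ((i ≫ e.inv) ≫ prU.hom)
    rw [Category.assoc, sq'.isoPullback_inv_snd, hib]
    exact isFiniteMor_iff.2 ((repWith_yon_map_iff _ bF).2 hbF)
  · intro v hv
    obtain ⟨t, rfl⟩ := (Points.schemeEquiv F).surjective v
    change Points.map ((i ≫ e.inv) ≫ prX.hom) (Points.ofScheme F t) ∈ xs
    rw [Category.assoc, sq'.isoPullback_inv_fst, ← Points.ofPt_eq_map_ofScheme]
    refine h1 t ((Points.schemeEquiv V').injective (Eq.trans ?_ hv))
    change Points.ofScheme V' (bF.left t) = Points.map ((i ≫ e.inv) ≫ prU.hom) (Points.ofScheme F t)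
    rw [Category.assoc, sq'.isoPullback_inv_snd, ← Points.ofPt_eq_map_ofScheme, hib,
      ← Category.comp_id ((yon S).map bF), ofPt_map]
  · intro w hw hwu
    have hfst : Points.map prX.hom w = Points.map (pullback.fst f.hom a) (Points.map e.hom w) := by
      rw [← Points.map_comp, sq'.isoPullback_hom_fst]
    rw [hfst]
    refine h2 _ (fun ⟨p, hp⟩ => hw ⟨p, ?_⟩) ?_
    · change Points.map (i ≫ e.inv) p = w
      rw [Points.map_comp, hp, ← Points.map_comp, e.hom_inv_id, Points.map_id]
    · rw [← Points.map_comp, sq'.isoPullback_hom_snd]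
      exact hwu

end Groth.Agent.S10676
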