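import Groth.Statements.S10677
import Groth.Agent.H12AlgSp.NormSp.QFLocus

set_option autoImplicit false
universe u
open CategoryTheory CategoryTheory.Limits AlgebraicGeometry
open AlgSp Groth.Agent.H12AlgSp Groth.Agent.H12AlgSp.NormSp Groth.Agent.H13AlgSp

namespace Groth.Agent.S10677

/-- For a separated morphism f : X ⟶ Y of algebraic spaces over S which is locally of finite type and a
point x of |X| with image y at which f is quasi-finite (some etale chart diagram through x has top
arrow locally quasi-finite and locally of finite type on an open neighbourhood), there are an etale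
morphism a : U ⟶ Y and a point u of |U| over y such that for the base change P = U ×_Y X there is an
open and closed subspace V ⊂ P, finite over U, containing a point mapping to x in |X| and to u in
|U|. -/
theorem result {S : Scheme.{u}} {X Y : AlgSp.Space S} (f : X ⟶ Y) (x : AlgSp.Points X.obj)
    (hf1 : AlgSp.LocP @LocallyOfFiniteType f.hom) (hf2 : AlgSp.IsSeparatedMor f.hom)
    (hf3 : AlgSp.HasAtMor (fun U _ h u => ∃ W : U.Opens, u ∈ W ∧ LocallyQuasiFinite (W.ι ≫ h) ∧ LocallyOfFiniteType (W.ι ≫ h)) f.hom x) :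
    ∃ (U : AlgSp.Space S) (a : U ⟶ Y) (u : AlgSp.Points U.obj), AlgSp.IsEtaleMor a.hom ∧
      AlgSp.Points.map a.hom u = AlgSp.Points.map f.hom x ∧
      ∀ (P : AlgSp.Space S) (prX : P ⟶ X) (prU : P ⟶ U), IsPullback prX.hom prU.hom f.hom a.hom →
        ∃ (V : AlgSp.Space S) (jV : V ⟶ P), AlgSp.RepWith @IsOpenImmersion jV.hom ∧ AlgSp.RepWith @IsClosedImmersion jV.hom ∧
          AlgSp.IsFiniteMor (jV ≫ prU).hom ∧
          ∃ v : AlgSp.Points V.obj, AlgSp.Points.map (jV ≫ prX).hom v = x ∧ AlgSp.Points.map (jV ≫ prU).hom v = u := by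
  obtain ⟨V₁, v, hv, F, b, i, hb, hi, hcl, hib, t, ht⟩ := exists_finite_piece X.property Y.property hf2 hf3
  refine ⟨⟨(yon S).obj V₁, IsAlgSpace.yon_obj V₁⟩, ObjectProperty.homMk v,
    Points.ofScheme V₁ (b.left t), fun _ _ h => repWith_comp h hv, ?_, fun P prX prU sq => ?_⟩
  · change Points.map v _ = _
    rw [← Points.ofPt_eq_map_ofScheme, ← ht, Points.map_ofPt, Category.assoc, pullback.condition,
      reassoc_of% hib, ofPt_map]
  have sq' : IsPullback prX.hom prU.hom f.hom v := sq
  let e : P.obj ≅ Limits.pullback f.hom v := sq'.isoPullback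
  have hi' : RepWith @IsOpenImmersion (i ≫ e.inv) := repWith_comp hi (repWith_of_isIso _)
  have hic : RepWith @IsClosedImmersion i := repWith_of_snd hi.1 fun T g => by
    haveI : IsOpenImmersion (hi.1.snd g).left := hi.property_snd g
    refine IsClosedImmersion.of_isPreimmersion _ ?_
    rw [← preimage_ofPt_range (hi.1.isPullback g)]
    exact hcl.preimage (Points.continuous_ofPt g)
  have hic' : RepWith @IsClosedImmersion (i ≫ e.inv) := repWith_comp hic (repWith_of_isIso _)
  refine ⟨⟨(yon S).obj F, IsAlgSpace.yon_obj F⟩, ObjectProperty.homMk (i ≫ e.inv), hi', hic', ?_,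
    Points.ofScheme F t, ?_, ?_⟩
  · change AlgSp.IsFiniteMor ((i ≫ e.inv) ≫ prU.hom)
    rw [Category.assoc, sq'.isoPullback_inv_snd, hib]
    exact isFiniteMor_iff.2 ((repWith_yon_map_iff _ b).2 hb)
  · change Points.map ((i ≫ e.inv) ≫ prX.hom) _ = x
    rw [Category.assoc, sq'.isoPullback_inv_fst, ← Points.ofPt_eq_map_ofScheme, ht]
  · change Points.map ((i ≫ e.inv) ≫ prU.hom) _ = _
    rw [Category.assoc, sq'.isoPullback_inv_snd, ← Points.ofPt_eq_map_ofScheme, hib,
      ← Category.comp_id ((yon S).map b), ofPt_map]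

end Groth.Agent.S10677
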