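import Groth.Statements.S10681
import Groth.Agent.S10469
import Groth.Agent.H13AlgSp.GeomConnPoint
import Groth.Agent.H12AlgSp.EtSupport
-- import your own Groth.Agent.* helpers here

set_option autoImplicit false
set_option backward.isDefEq.respectTransparency false
universe u
open CategoryTheory CategoryTheory.Limits AlgebraicGeometry
open AlgSp Groth.Agent.H12AlgSp Groth.Agent.H13AlgSp

namespace Groth.Agent.S10681

/-- For a morphism f : X ⟶ Y between algebraic spaces over S and a geometric point ȳ of Y (an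
algebraically closed field point), the geometric fibre X_ȳ (pullback in fppf sheaves) has connected
space of points if and only if for every scheme V with a representable etale a : h_V ⟶ Y and every
point v of V through which ȳ factors, the fibre of X ×_Y V ⟶ V over v (pullback along the residue
field point of v) has connected space of points. -/
theorem result {S : Scheme.{u}} {X Y : AlgSp.Space S} (f : X ⟶ Y) (yb : AlgSp.FieldPt Y.obj) (hyb : yb.IsGeometric)
    (Xyb : AlgSp.Sp S) (fst : Xyb ⟶ X.obj) (snd : Xyb ⟶ (AlgSp.yon S).obj yb.pt) (h : IsPullback fst snd f.hom yb.toHom) :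
    ConnectedSpace (AlgSp.Points Xyb) ↔
      ∀ (V : Over S) (a : (AlgSp.yon S).obj V ⟶ Y.obj), AlgSp.RepWith @Etale a →
        ∀ (v : ↥V.left) (c : yb.pt ⟶ V), (AlgSp.yon S).map c ≫ a = yb.toHom → c.left (IsLocalRing.closedPoint yb.K) = v →
          ∀ (Xv : AlgSp.Sp S) (fst' : Xv ⟶ X.obj)
            (snd' : Xv ⟶ (AlgSp.yon S).obj (Over.mk (V.left.fromSpecResidueField v ≫ V.hom))),
            IsPullback fst' snd' f.hom ((AlgSp.yon S).map (Over.homMk (V.left.fromSpecResidueField v) rfl :
              Over.mk (V.left.fromSpecResidueField v ≫ V.hom) ⟶ V) ≫ a) →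
            ConnectedSpace (AlgSp.Points Xv) := by
  classical
  let K := yb.K
  have key : ∀ {V : Over S} (c : yb.pt ⟶ V) (v : ↥V.left), c.left (IsLocalRing.closedPoint yb.K) = v →
      ∃ φ : V.left.residueField v ⟶ CommRingCat.of yb.K, Spec.map φ ≫ V.left.fromSpecResidueField v = c.left := by
    rintro V c v rfl
    exact ⟨_, Scheme.descResidueField_stalkClosedPointTo_fromSpecResidueField yb.K V.left c.left⟩
  constructor
  · intro hconn V a ha v c hc hv Xv fst' snd' sq'
    obtain ⟨φ, hφ⟩ := key c v hv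
    let ι : Over.mk (V.left.fromSpecResidueField v ≫ V.hom) ⟶ V :=
      Over.homMk (V.left.fromSpecResidueField v) rfl
    let cK : yb.pt ⟶ Over.mk (V.left.fromSpecResidueField v ≫ V.hom) := Over.homMk (Spec.map φ) (by
      change Spec.map φ ≫ V.left.fromSpecResidueField v ≫ V.hom = _
      rw [← Category.assoc, hφ]; exact Over.w c)
    have hcK : cK ≫ ι = c := Over.OverMorphism.ext hφ
    have he : (AlgSp.yon S).map cK ≫ (AlgSp.yon S).map ι ≫ a = yb.toHom := by
      rw [← Functor.map_comp_assoc, hcK, hc]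
    let l : Xyb ⟶ Xv := sq'.lift fst (snd ≫ (AlgSp.yon S).map cK) (by rw [Category.assoc, he, h.w])
    have hl : IsPullback l snd snd' ((AlgSp.yon S).map cK) := by
      refine IsPullback.of_right ?_ (sq'.lift_snd _ _ _) sq'
      rw [show l ≫ fst' = fst from sq'.lift_fst _ _ _, he]; exact h
    have hsur : Function.Surjective (AlgSp.Points.map l) := fun w => by
      have : Subsingleton (AlgSp.Points ((AlgSp.yon S).obj (Over.mk (V.left.fromSpecResidueField v ≫ V.hom)))) := by
        have : Subsingleton (Over.mk (V.left.fromSpecResidueField v ≫ V.hom)).left :=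
          inferInstanceAs (Subsingleton (PrimeSpectrum (V.left.residueField v)))
        exact (AlgSp.Points.schemeEquiv _).symm.subsingleton
      obtain ⟨z, hz, -⟩ := exists_point_of_isPullback hl w
        (AlgSp.Points.ofScheme yb.pt (IsLocalRing.closedPoint yb.K)) (Subsingleton.elim _ _)
      exact ⟨z, hz⟩
    exact hsur.connectedSpace (AlgSp.Points.continuous_map l)
  · intro hyp
    obtain ⟨U, a₀, ha₀, has₀⟩ := Y.property.atlas
    obtain ⟨e₀, he₀⟩ := surjective_ofPt_of_repWith le_rfl has₀ (AlgSp.Points.mk yb)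
    obtain ⟨⟨c₀, hc₀⟩, hc₀'⟩ := exists_lift_of_mk_eq hyb (AlgSp.EtOver.mk a₀ ha₀) e₀ he₀
    have hc₀'' : c₀.left (IsLocalRing.closedPoint yb.K) = e₀ := by
      refine Eq.trans ?_ hc₀'
      congr 1
      exact Subsingleton.elim (α := PrimeSpectrum yb.K) _ _
    obtain ⟨φ, hφ⟩ := key (V := U) c₀ e₀ hc₀''
    let k : Type u := U.left.residueField e₀
    letI : Algebra k yb.K := φ.hom.toAlgebra
    let sk : Spec (CommRingCat.of k) ⟶ S := U.left.fromSpecResidueField e₀ ≫ U.hom
    let ι₀ : Over.mk sk ⟶ U := Over.homMk (U.left.fromSpecResidueField e₀) rfl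
    have sq₀ := IsPullback.of_hasPullback f.hom ((AlgSp.yon S).map ι₀ ≫ a₀)
    obtain ⟨X₀, hX₀⟩ := exists_overField (isAlgSpace_of_isPullback Y.property.diag X.property
      (IsAlgSpace.yon_obj _) sq₀) (Limits.pullback.snd f.hom ((AlgSp.yon S).map ι₀ ≫ a₀))
    let cK : yb.pt ⟶ Over.mk sk := Over.homMk (Spec.map φ) (by
      change Spec.map φ ≫ U.left.fromSpecResidueField e₀ ≫ U.hom = _
      rw [← Category.assoc, hφ]; exact Over.w c₀)
    have hK : (AlgSp.yon S).map cK ≫ (AlgSp.yon S).map ι₀ ≫ a₀ = yb.toHom := by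
      rw [← Functor.map_comp_assoc, show cK ≫ ι₀ = c₀ from Over.OverMorphism.ext hφ]; exact hc₀
    have hsqK : IsPullback (sq₀.lift fst (snd ≫ (AlgSp.yon S).map cK)
        (by rw [Category.assoc, hK, h.w])) snd (Limits.pullback.snd _ _) ((AlgSp.yon S).map cK) := by
      refine IsPullback.of_right ?_ (sq₀.lift_snd _ _ _) sq₀
      rw [sq₀.lift_fst, hK]; exact h
    refine (hX₀ yb.K inferInstance inferInstance Xyb _ yb.str cK snd rfl hsqK).2 ?_
    refine (Groth.Agent.S10469.result k X₀).2 (fun L _ _ hLf hLs => ?_) yb.K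
    have : IsAlgClosed yb.K := hyb
    have := hLf; have := hLs
    let σ : L →ₐ[k] yb.K := IsAlgClosed.lift
    obtain ⟨W, hW, heW, -⟩ := TopologicalSpace.Opens.isBasis_iff_nbhd.mp U.left.isBasis_affineOpens
      (TopologicalSpace.Opens.mem_top e₀)
    replace hW : IsAffineOpen W := hW
    let ψ : Γ(U.left, W) →+* k := (U.left.evaluation W e₀ heW).hom
    have hψ : Spec.map (U.left.evaluation W e₀ heW) ≫ hW.fromSpec = U.left.fromSpecResidueField e₀ := by
      rw [Scheme.fromSpecResidueField, ← hW.fromSpecStalk_eq_fromSpecStalk heW]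
      unfold IsAffineOpen.fromSpecStalk Scheme.evaluation
      rw [← Spec.map_comp_assoc]
    have hfrac : ∀ x : k, ∃ a s, ψ s ≠ 0 ∧ x * ψ s = ψ a := fun x => by
      obtain ⟨z, rfl⟩ := IsLocalRing.residue_surjective (R := U.left.presheaf.stalk e₀) x
      letI : Algebra Γ(U.left, W) (U.left.presheaf.stalk e₀) :=
        TopCat.Presheaf.algebra_section_stalk U.left.presheaf (⟨e₀, heW⟩ : W)
      have := hW.isLocalization_stalk ⟨e₀, heW⟩
      obtain ⟨a, ⟨s, hs⟩, rfl⟩ := IsLocalization.exists_mk'_eq (hW.primeIdealOf ⟨e₀, heW⟩).asIdeal.primeCompl z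
      refine ⟨a, s, ?_, ?_⟩
      · exact ((IsLocalization.map_units (U.left.presheaf.stalk e₀) (⟨s, hs⟩ :
          (hW.primeIdealOf ⟨e₀, heW⟩).asIdeal.primeCompl)).map (IsLocalRing.residue _)).ne_zero
      · exact ((map_mul (IsLocalRing.residue (U.left.presheaf.stalk e₀)) _ _).symm.trans
          (congrArg _ (IsLocalization.mk'_spec _ a _)))
    obtain ⟨B, _, _, _, lam, hlam, hgen⟩ := exists_standardEtale_residue (L := L) ψ hfrac
    let V : Over S := Over.mk (Spec.map (CommRingCat.ofHom (algebraMap Γ(U.left, W) B)) ≫ hW.fromSpec ≫ U.hom)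
    let hV : V ⟶ U := Over.homMk (Spec.map (CommRingCat.ofHom (algebraMap Γ(U.left, W) B)) ≫ hW.fromSpec)
      (Category.assoc _ _ _)
    have : Etale (Spec.map (CommRingCat.ofHom (algebraMap Γ(U.left, W) B))) :=
      (HasRingHomProperty.Spec_iff (P := @Etale)).2 (RingHom.etale_algebraMap.2 inferInstance)
    have hVe : Etale hV.left :=
      inferInstanceAs (Etale (Spec.map (CommRingCat.ofHom (algebraMap Γ(U.left, W) B)) ≫ hW.fromSpec))
    let a : (AlgSp.yon S).obj V ⟶ Y.obj := (AlgSp.yon S).map hV ≫ a₀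
    have ha : AlgSp.RepWith @Etale a := repWith_comp ((repWith_yon_map_iff _ _).2 hVe) ha₀
    let mL : Spec (CommRingCat.of L) ⟶ V.left := Spec.map (CommRingCat.ofHom lam)
    have hmL : mL ≫ hV.left = Spec.map (CommRingCat.ofHom (algebraMap k L)) ≫ U.left.fromSpecResidueField e₀ := by
      change Spec.map _ ≫ Spec.map _ ≫ hW.fromSpec = _
      rw [← Spec.map_comp_assoc, ← CommRingCat.ofHom_comp, hlam, CommRingCat.ofHom_comp, Spec.map_comp,
        Category.assoc]
      exact congrArg (_ ≫ ·) hψ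
    let v : ↥V.left := mL (IsLocalRing.closedPoint L)
    obtain ⟨φ', hφ'⟩ : ∃ φ' : V.left.residueField v ⟶ CommRingCat.of L,
        Spec.map φ' ≫ V.left.fromSpecResidueField v = mL :=
      ⟨_, Scheme.descResidueField_stalkClosedPointTo_fromSpecResidueField L V.left mL⟩
    have : IsIso φ' := by
      refine (ConcreteCategory.isIso_iff_bijective φ').2 ⟨RingHom.injective φ'.hom, fun z => ?_⟩
      obtain ⟨χ, hχ⟩ := Spec.map_surjective (V.left.fromSpecResidueField v)
      have hl : CommRingCat.ofHom lam = χ ≫ φ' := Spec.map_injective (by rw [Spec.map_comp, hχ, hφ'])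
      refine hgen φ'.hom.fieldRange ?_ z
      rintro _ ⟨b, rfl⟩
      exact ⟨χ.hom b, (congrArg (fun m => m.hom b) hl).symm⟩
    let sL : Spec (CommRingCat.of L) ⟶ S := Spec.map (CommRingCat.ofHom (algebraMap k L)) ≫ sk
    let cL : Over.mk sL ⟶ Over.mk sk := Over.homMk (Spec.map (CommRingCat.ofHom (algebraMap k L))) rfl
    have hsL : mL ≫ V.hom = sL := by
      rw [← Over.w hV, ← Category.assoc, hmL, Category.assoc]
    let iL : Over.mk sL ≅ Over.mk (V.left.fromSpecResidueField v ≫ V.hom) :=
      Over.isoMk (asIso (Spec.map φ')) (by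
        change Spec.map φ' ≫ V.left.fromSpecResidueField v ≫ V.hom = sL
        rw [← Category.assoc, hφ', hsL])
    let c : yb.pt ⟶ V := Over.homMk (Spec.map (CommRingCat.ofHom σ.toRingHom) ≫ mL) (by
      rw [Category.assoc, hsL]
      change Spec.map _ ≫ Spec.map _ ≫ sk = _
      rw [← Spec.map_comp_assoc, ← CommRingCat.ofHom_comp,
        show σ.toRingHom.comp (algebraMap k L) = φ.hom from RingHom.ext σ.commutes, CommRingCat.ofHom_hom]
      change Spec.map φ ≫ U.left.fromSpecResidueField e₀ ≫ U.hom = _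
      rw [← Category.assoc, hφ]; exact Over.w c₀)
    have hc : c ≫ hV = c₀ := by
      refine Over.OverMorphism.ext ?_
      change (Spec.map _ ≫ mL) ≫ hV.left = c₀.left
      rw [Category.assoc, hmL, ← Spec.map_comp_assoc, ← CommRingCat.ofHom_comp,
        show σ.toRingHom.comp (algebraMap k L) = φ.hom from RingHom.ext σ.commutes, CommRingCat.ofHom_hom, hφ]
    have hcv : c.left (IsLocalRing.closedPoint yb.K) = v := by
      change mL ((Spec.map (CommRingCat.ofHom σ.toRingHom)) _) = mL _
      exact congrArg _ (Subsingleton.elim (α := PrimeSpectrum L) _ _)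
    have sqP := IsPullback.of_hasPullback (Limits.pullback.snd f.hom ((AlgSp.yon S).map ι₀ ≫ a₀))
      ((AlgSp.yon S).map cL)
    refine (hX₀ L inferInstance inferInstance _ _ sL cL _ rfl sqP).1 ?_
    refine hyp V a ha v c (by rw [← Functor.map_comp_assoc, hc]; exact hc₀) hcv _
      (Limits.pullback.fst _ _ ≫ Limits.pullback.fst f.hom ((AlgSp.yon S).map ι₀ ≫ a₀))
      (Limits.pullback.snd _ _ ≫ (AlgSp.yon S).map iL.hom) ?_
    refine (sqP.paste_horiz sq₀).of_iso (Iso.refl _) (Iso.refl _) ((AlgSp.yon S).mapIso iL) (Iso.refl _)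
      (by simp) (by simp) (by simp) ?_
    rw [Iso.refl_hom, Category.comp_id, Functor.mapIso_hom, ← Functor.map_comp_assoc, ← Functor.map_comp_assoc]
    change _ = (AlgSp.yon S).map _ ≫ (AlgSp.yon S).map hV ≫ a₀
    rw [← Functor.map_comp_assoc]
    congr 2
    refine Over.OverMorphism.ext ?_
    change Spec.map _ ≫ U.left.fromSpecResidueField e₀ = (Spec.map φ' ≫ V.left.fromSpecResidueField v) ≫ hV.left
    rw [hφ', hmL]

end Groth.Agent.S10681
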