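import Groth.Statements.S10684
import Groth.Agent.H13Conn.Semicont
-- import your own Groth.Agent.* helpers here

set_option autoImplicit false
set_option backward.isDefEq.respectTransparency false
universe u
open CategoryTheory CategoryTheory.Limits AlgebraicGeometry
open AlgSp

namespace Groth.Agent.S10684

/-- For a proper flat morphism f : X ⟶ Y between algebraic spaces over S which is of finite
presentation, the function on |Y| counting the connected components of geometric fibres (for y, the
number in ℕ∞ of connected components of the space of points of X_k for an algebraically closed field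
point k in the class of y) is lower semi-continuous: for each d the set of y all of whose geometric
fibres have more than d connected components is open. -/
theorem result {S : Scheme.{u}} {X Y : AlgSp.Space S} (f : X ⟶ Y)
    (hf1 : AlgSp.IsProperMor f.hom) (hf2 : AlgSp.LocP @Flat f.hom) (hf3 : AlgSp.IsFinitePresentationMor f.hom) (d : ℕ∞) :
    IsOpen {y : AlgSp.Points Y.obj | ∀ (k : AlgSp.FieldPt Y.obj), AlgSp.Points.mk k = y → k.IsGeometric →
        ∀ (Xk : AlgSp.Sp S) (a : Xk ⟶ X.obj) (b : Xk ⟶ (AlgSp.yon S).obj k.pt), IsPullback a b f.hom k.toHom →
          d < ENat.card (_root_.ConnectedComponents (AlgSp.Points Xk))} := by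
  exact Groth.Agent.H13Conn.isOpen_of_charts f hf1 hf2 hf3 (fun c => d < c) fun U p _ N h₁ _ => h₁ d

end Groth.Agent.S10684
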