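import Groth.Statements.S10688
import Groth.Agent.H13AlgSp.GorAt

set_option autoImplicit false
universe u
open CategoryTheory CategoryTheory.Limits AlgebraicGeometry
open AlgSp

namespace Groth.Agent.S10688

/-- For a morphism f : X ⟶ Y between algebraic spaces over S with locally Noetherian fibres, g : Y' ⟶ Y
locally of finite type, f' : X' ⟶ Y' the base change (a pullback square of algebraic spaces) with
projection g' : X' ⟶ X, and x' a point of |X'| with image x: (1) if f is Gorenstein at x then so is
f' at x'; (2) when f is flat at x, Gorensteinness of f' at x' implies that of f at x; (3) the same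
conclusion holds if instead g is flat at the image of x' and f' is Gorenstein at x'. Here f is
Gorenstein at x when in every etale chart diagram through x the top arrow is Gorenstein at the point
over x (flat there, with Gorenstein local ring of its fibre), and the fibres of a morphism are
locally Noetherian when every fibre over a field point (pullback in fppf sheaves) is a locally
Noetherian algebraic space. -/
theorem result {S : Scheme.{u}} {X Y X' Y' : AlgSp.Space S} (f : X ⟶ Y) (g : Y' ⟶ Y) (g' : X' ⟶ X) (f' : X' ⟶ Y')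
    (hsq : IsPullback g'.hom f'.hom f.hom g.hom)
    (hf : ∀ (k : AlgSp.FieldPt Y.obj) (Xk : AlgSp.Sp S) (a : Xk ⟶ X.obj) (b : Xk ⟶ (AlgSp.yon S).obj k.pt),
        IsPullback a b f.hom k.toHom → AlgSp.IsLocNoethSp Xk)
    (hg : AlgSp.LocP @LocallyOfFiniteType g.hom) (x' : AlgSp.Points X'.obj) :
    (AlgSp.LocPAt (fun h u => Dual3.IsGorensteinAt h u) f.hom (AlgSp.Points.map g'.hom x') → AlgSp.LocPAt (fun h u => Dual3.IsGorensteinAt h u) f'.hom x') ∧
      (AlgSp.IsFlatAtMor f.hom (AlgSp.Points.map g'.hom x') → AlgSp.LocPAt (fun h u => Dual3.IsGorensteinAt h u) f'.hom x' →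
        AlgSp.LocPAt (fun h u => Dual3.IsGorensteinAt h u) f.hom (AlgSp.Points.map g'.hom x')) ∧
      (AlgSp.IsFlatAtMor g.hom (AlgSp.Points.map f'.hom x') → AlgSp.LocPAt (fun h u => Dual3.IsGorensteinAt h u) f'.hom x' →
        AlgSp.LocPAt (fun h u => Dual3.IsGorensteinAt h u) f.hom (AlgSp.Points.map g'.hom x')) := by
  have hf' := Groth.Agent.H13AlgSp.locP_noethFib X.property Y.property hf
  have hf'' := Groth.Agent.H13AlgSp.locP_noethFib X'.property Y'.property (f := f'.hom) fun k Xk a b hk =>
    hf (k.map g.hom) Xk (a ≫ g'.hom) b (by rw [AlgSp.FieldPt.toHom_map]; exact hk.paste_horiz hsq)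
  obtain ⟨U, V, O, T, a, b, h, a', b', m, h', k, o, ha, hb, w, ha', hb', w', sqO, rfl, e, wk⟩ :=
    Groth.Agent.H13AlgSp.exists_baseChange_chart_lft_at hsq X.property Y.property Y'.property x'
  have : LocallyOfFiniteType k.left := hg b' b k hb' hb wk
  rw [← e, Groth.Agent.H13AlgSp.gorAt_iff X.property Y.property hf' ha hb w,
    Groth.Agent.H13AlgSp.gorAt_iff X'.property Y'.property hf'' ha' hb' w']
  obtain ⟨A, B, C⟩ := Groth.Agent.S3625.result _ _ _ _ h.left k.left h'.left m.left sqO (hf' a b h ha hb w) o
  refine ⟨A, fun hfl => B (hfl a b h _ ha hb w rfl), fun hgl => C (hgl b' b k _ hb' hb wk ?_)⟩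
  rw [AlgSp.Points.map_ofPt, w', Groth.Agent.H12AlgSp.ofPt_map]

end Groth.Agent.S10688
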