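import Groth.Statements.S10689
import Groth.Agent.H13AlgSp.GorAt
import Groth.Agent.H12AlgSp.OpenSub
import Groth.Agent.S3617
import Groth.Agent.S3626

set_option autoImplicit false
universe u
open CategoryTheory CategoryTheory.Limits AlgebraicGeometry
open AlgSp

namespace Groth.Agent.S10689

/-- For a flat morphism f : X ⟶ Y between algebraic spaces over S which is locally of finite
presentation, the set W of points of |X| at which f is Gorenstein (in every etale chart diagram
through the point the top arrow is flat there with Gorenstein local ring of its fibre) is open in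
|X|, and for any morphism of algebraic spaces g : Y' ⟶ Y with base change f' : X' ⟶ Y' and
projection g' : X' ⟶ X the corresponding set for f' is the inverse image of W under |g'|. -/
theorem result {S : Scheme.{u}} {X Y : AlgSp.Space S} (f : X ⟶ Y)
    (hf1 : AlgSp.LocP @Flat f.hom) (hf2 : AlgSp.LocP @LocallyOfFinitePresentation f.hom) :
    IsOpen {x : AlgSp.Points X.obj | AlgSp.LocPAt (fun h u => Dual3.IsGorensteinAt h u) f.hom x} ∧
      ∀ (X' Y' : AlgSp.Space S) (g : Y' ⟶ Y) (g' : X' ⟶ X) (f' : X' ⟶ Y'), IsPullback g'.hom f'.hom f.hom g.hom →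
        {x' : AlgSp.Points X'.obj | AlgSp.LocPAt (fun h u => Dual3.IsGorensteinAt h u) f'.hom x'} =
          AlgSp.Points.map g'.hom ⁻¹' {x : AlgSp.Points X.obj | AlgSp.LocPAt (fun h u => Dual3.IsGorensteinAt h u) f.hom x} := by
  have hlft : AlgSp.LocP @LocallyOfFiniteType f.hom := fun U V a b h ha hb w => by
    have : LocallyOfFinitePresentation h.left := hf2 a b h ha hb w
    infer_instance
  have hN : AlgSp.LocP Groth.Agent.H13AlgSp.NoethFib f.hom := fun U V a b h ha hb w => by
    have : LocallyOfFiniteType h.left := hlft a b h ha hb w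
    exact Groth.Agent.H13AlgSp.noethFib_of_lft h.left
  refine ⟨?_, fun X' Y' g g' f' hsq => ?_⟩
  · obtain ⟨V, b, hb, hbs⟩ := Y.property.atlas
    refine isOpen_iff_forall_mem_open.2 fun x hx => ?_
    obtain ⟨U, p, hp, hps⟩ := (Groth.Agent.H12AlgSp.isAlgSpace_pullback Y.property.diag X.property
      (AlgSp.IsAlgSpace.yon_obj V) f.hom b).atlas
    obtain ⟨h, hh⟩ := (AlgSp.yon S).map_surjective (p ≫ pullback.snd f.hom b)
    have ha : AlgSp.RepWith @Etale (p ≫ pullback.fst f.hom b) :=
      Groth.Agent.H12AlgSp.repWith_comp hp (Groth.Agent.H12AlgSp.repWith_of_isPullback (IsPullback.of_hasPullback f.hom b).flip hb)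
    have w : (p ≫ pullback.fst f.hom b) ≫ f.hom = (AlgSp.yon S).map h ≫ b := by
      rw [hh, Category.assoc, Category.assoc, pullback.condition]
    obtain ⟨u, rfl⟩ := Groth.Agent.H12AlgSp.surjective_ofPt_of_repWith le_rfl (Groth.Agent.H12AlgSp.repWith_comp hps
      (Groth.Agent.H12AlgSp.repWith_of_isPullback (IsPullback.of_hasPullback f.hom b).flip hbs)) x
    have : Flat h.left := hf1 _ b h ha hb w
    have : LocallyOfFinitePresentation h.left := hf2 _ b h ha hb w
    refine ⟨AlgSp.Points.ofPt (p ≫ pullback.fst f.hom b) '' {v | Dual3.IsGorensteinAt h.left v}, ?_,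
      Groth.Agent.H12AlgSp.isOpenMap_ofPt_of_repWith Groth.Agent.H12AlgSp.etale_le_universallyOpen ha _
        (Groth.Agent.S3617.result _ _ h.left),
      ⟨u, (Groth.Agent.H13AlgSp.gorAt_iff X.property Y.property hN ha hb w u).1 hx, rfl⟩⟩
    rintro _ ⟨v, hv, rfl⟩
    exact (Groth.Agent.H13AlgSp.gorAt_iff X.property Y.property hN ha hb w v).2 hv
  · have hlft' := Groth.Agent.H12AlgSp.locP_of_isPullback Groth.Agent.H12AlgSp.etLocal_lft hsq X.property Y.property Y'.property hlft
    have hN' : AlgSp.LocP Groth.Agent.H13AlgSp.NoethFib f'.hom := fun U V a b h ha hb w => by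
      have : LocallyOfFiniteType h.left := hlft' a b h ha hb w
      exact Groth.Agent.H13AlgSp.noethFib_of_lft h.left
    ext x'
    obtain ⟨U, V, O, T, a, b, h, a', b', m, h', k, o, ha, hb, w, ha', hb', w', sqO, rfl, e, -⟩ :=
      Groth.Agent.H13AlgSp.exists_baseChange_chart_lft_at hsq X.property Y.property Y'.property x'
    have : Flat h.left := hf1 a b h ha hb w
    have : LocallyOfFiniteType h.left := hlft a b h ha hb w
    simp only [Set.mem_setOf_eq, Set.mem_preimage]
    rw [← e, Groth.Agent.H13AlgSp.gorAt_iff X.property Y.property hN ha hb w,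
      Groth.Agent.H13AlgSp.gorAt_iff X'.property Y'.property hN' ha' hb' w']
    exact Groth.Agent.S3626.result _ _ _ _ h.left k.left h'.left m.left sqO o

end Groth.Agent.S10689
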