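import Groth.Statements.S10690
import Groth.Agent.H13AlgSp.FibreChart

set_option autoImplicit false
universe u
open CategoryTheory CategoryTheory.Limits AlgebraicGeometry
open AlgSp

namespace Groth.Agent.S10690

/-- For a morphism f : X ⟶ Y between algebraic spaces over S whose fibres are locally Noetherian, the
following are equivalent: (1) f is Gorenstein at every point of |X|; (2) f is flat and for some
scheme V with a representable etale surjective b : h_V ⟶ Y every fibre of X ×_Y V ⟶ V over a point v
of V (pullback along the residue field point of v) is a Gorenstein algebraic space (some etale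
surjective scheme chart is a Gorenstein scheme); (3) f is flat and the same holds for every scheme V
with a representable etale b : h_V ⟶ Y. Here f is Gorenstein at x when in every etale chart diagram
through x the top arrow is Gorenstein at the point over x (flat there, with Gorenstein local ring of
its fibre), and the fibres of a morphism are locally Noetherian when every fibre over a field point
(pullback in fppf sheaves) is a locally Noetherian algebraic space. (The published statement also
characterises being Gorenstein at a single point through strict henselizations; that part is stated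
separately and not included here.) -/
theorem result {S : Scheme.{u}} {X Y : AlgSp.Space S} (f : X ⟶ Y)
    (hf : ∀ (k : AlgSp.FieldPt Y.obj) (Xk : AlgSp.Sp S) (a : Xk ⟶ X.obj) (b : Xk ⟶ (AlgSp.yon S).obj k.pt),
        IsPullback a b f.hom k.toHom → AlgSp.IsLocNoethSp Xk) :
    [∀ x : AlgSp.Points X.obj, AlgSp.LocPAt (fun h u => Dual3.IsGorensteinAt h u) f.hom x,
      AlgSp.LocP @Flat f.hom ∧ ∃ (V : Over S) (b : (AlgSp.yon S).obj V ⟶ Y.obj),
        AlgSp.RepWith @Etale b ∧ AlgSp.RepWith @Surjective b ∧
          ∀ (v : ↥V.left) (Xv : AlgSp.Sp S) (a : Xv ⟶ X.obj)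
            (c : Xv ⟶ (AlgSp.yon S).obj (Over.mk (V.left.fromSpecResidueField v ≫ V.hom))),
            IsPullback a c f.hom ((AlgSp.yon S).map (Over.homMk (V.left.fromSpecResidueField v) rfl :
              Over.mk (V.left.fromSpecResidueField v ≫ V.hom) ⟶ V) ≫ b) →
            AlgSp.EtaleLocally Dual3.IsGorenstein Xv,
      AlgSp.LocP @Flat f.hom ∧ ∀ (V : Over S) (b : (AlgSp.yon S).obj V ⟶ Y.obj), AlgSp.RepWith @Etale b →
          ∀ (v : ↥V.left) (Xv : AlgSp.Sp S) (a : Xv ⟶ X.obj)
            (c : Xv ⟶ (AlgSp.yon S).obj (Over.mk (V.left.fromSpecResidueField v ≫ V.hom))),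
            IsPullback a c f.hom ((AlgSp.yon S).map (Over.homMk (V.left.fromSpecResidueField v) rfl :
              Over.mk (V.left.fromSpecResidueField v ≫ V.hom) ⟶ V) ≫ b) →
            AlgSp.EtaleLocally Dual3.IsGorenstein Xv].TFAE := by
  exact Groth.Agent.H13AlgSp.gorenstein_tfae X.property Y.property hf

end Groth.Agent.S10690
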