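import Groth.Statements.S10691
import Groth.Agent.H13AlgSp.GorAt
import Groth.Agent.S3624
import Groth.Agent.S0540
import Groth.Agent.S0539
import Groth.Agent.S0538

set_option autoImplicit false
universe u
open CategoryTheory CategoryTheory.Limits AlgebraicGeometry
open AlgSp

namespace Groth.Agent.S10691

/-- For locally Noetherian algebraic spaces X, Y over S and a flat morphism f : X ⟶ Y, with X Gorenstein
(some etale surjective scheme chart is a Gorenstein scheme): f is Gorenstein at every point of |X|,
and for every point x of |X| the etale local ring of Y at a geometric point over f(x), presented as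
a strict henselization R of the local ring of an etale scheme chart V of Y at a point v over f(x),
is a Gorenstein local ring. Here f is Gorenstein at x when in every etale chart diagram through x
the top arrow is Gorenstein at the point over x (flat there, with Gorenstein local ring of its
fibre), and the fibres of a morphism are locally Noetherian when every fibre over a field point
(pullback in fppf sheaves) is a locally Noetherian algebraic space. -/
theorem result {S : Scheme.{u}} {X Y : AlgSp.Space S} (f : X ⟶ Y) (hf : AlgSp.LocP @Flat f.hom)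
    (hX1 : AlgSp.IsLocNoethSp X.obj) (hY1 : AlgSp.IsLocNoethSp Y.obj)
    (hX2 : AlgSp.EtaleLocally Dual3.IsGorenstein X.obj) :
    (∀ x : AlgSp.Points X.obj, AlgSp.LocPAt (fun h u => Dual3.IsGorensteinAt h u) f.hom x) ∧
      ∀ (x : AlgSp.Points X.obj) (V : Over S) (b : (AlgSp.yon S).obj V ⟶ Y.obj), AlgSp.RepWith @Etale b →
        ∀ (v : ↥V.left), AlgSp.Points.ofPt b v = AlgSp.Points.map f.hom x →
          ∀ (R : Type u) [CommRing R] [IsLocalRing R] [Algebra ↥(V.left.presheaf.stalk v) R]
            [IsLocalHom (algebraMap ↥(V.left.presheaf.stalk v) R)]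
            [Hensel.IsStrictHenselization ↥(V.left.presheaf.stalk v) R],
            LocCoh.IsGorensteinLocalRing R := by
  have hnX : ∀ {U : Over S} {a : (AlgSp.yon S).obj U ⟶ X.obj}, AlgSp.RepWith @Etale a → Dual3.IsGorenstein U.left := by
    intro U a ha
    obtain ⟨U₀, p, hp, hps, hG⟩ := hX2
    obtain ⟨W, s, t', sq⟩ := hp.rep a
    obtain ⟨t, rfl⟩ := (AlgSp.yon S).map_surjective t'
    have hs : Etale s.left := hp.property _ _ _ sq
    have hss : Surjective s.left := hps.property _ _ _ sq
    have ht : Etale t.left := ha.property p ((AlgSp.yon S).map s) t sq.flip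
    have := hG.1
    have := Groth.Agent.H12AlgSp.isLocallyNoetherian_chart X.property hX1 ha
    have hW : Dual3.IsGorenstein W.left := by
      refine ⟨LocallyOfFiniteType.isLocallyNoetherian t.left, fun w => ?_⟩
      have := LocallyOfFiniteType.isLocallyNoetherian t.left
      have h := (Groth.Agent.H25Gor.isGorensteinAt_iff t.left w).1 (Groth.Agent.H13AlgSp.isGorensteinAt_of_etale t.left w)
      let _ := (t.left.stalkMap w).hom.toAlgebra
      have : Module.Flat (U₀.left.presheaf.stalk (t.left w)) (W.left.presheaf.stalk w) := h.1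
      have : IsLocalHom (algebraMap (U₀.left.presheaf.stalk (t.left w)) (W.left.presheaf.stalk w)) :=
        inferInstanceAs (IsLocalHom (t.left.stalkMap w).hom)
      exact (Groth.Agent.H02CA.GorFlat.gor_iff_of_flat_local (U₀.left.presheaf.stalk (t.left w)) (W.left.presheaf.stalk w)).mpr
        ⟨hG.2 _, h.2⟩
    refine ⟨inferInstance, fun x => ?_⟩
    obtain ⟨w, rfl⟩ := s.left.surjective x
    exact (Groth.Agent.S3624.result _ _ s.left hW).2 w
  refine ⟨fun x U V a b h u ha hb w _ => ?_, fun x V b hb v hv R _ _ _ _ _ => ?_⟩
  · have := Groth.Agent.H12AlgSp.isLocallyNoetherian_chart Y.property hY1 hb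
    have : Flat h.left := hf a b h ha hb w
    exact (Groth.Agent.S3624.result _ _ h.left (hnX ha)).1 u
  · have := Groth.Agent.H12AlgSp.isLocallyNoetherian_chart Y.property hY1 hb
    -- a point of a chart of `X` over `v`
    obtain ⟨P, hP, sq⟩ : ∃ (P : AlgSp.Sp S) (_ : AlgSp.IsAlgSpace P), P = pullback f.hom b :=
      ⟨_, Groth.Agent.H12AlgSp.isAlgSpace_pullback Y.property.diag X.property (AlgSp.IsAlgSpace.yon_obj V) f.hom b, rfl⟩
    subst sq
    obtain ⟨U, p, hp, hps⟩ := hP.atlas
    obtain ⟨h, hh⟩ := (AlgSp.yon S).map_surjective (p ≫ pullback.snd f.hom b)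
    have ha := Groth.Agent.H12AlgSp.repWith_comp hp
      (Groth.Agent.H12AlgSp.repWith_of_isPullback (IsPullback.of_hasPullback f.hom b).flip hb)
    obtain ⟨z, -, hz₂⟩ := Groth.Agent.H12AlgSp.exists_point_of_isPullback (IsPullback.of_hasPullback f.hom b) x
      (AlgSp.Points.ofScheme V v) (by rw [← AlgSp.Points.ofPt_eq_map_ofScheme, hv])
    obtain ⟨u, rfl⟩ := Groth.Agent.H12AlgSp.surjective_ofPt_of_repWith le_rfl hps z
    have : Flat h.left := hf _ b h ha hb (by rw [hh, Category.assoc, Category.assoc, pullback.condition])
    have hu : h.left u = v := by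
      rw [AlgSp.Points.map_ofPt, ← hh] at hz₂
      apply (AlgSp.Points.schemeHomeo V).injective
      refine Eq.trans ?_ hz₂
      rw [← Category.comp_id ((AlgSp.yon S).map h), Groth.Agent.H12AlgSp.ofPt_map, AlgSp.Points.ofPt_eq_map_ofScheme,
        AlgSp.Points.map_id]
      rfl
    subst hu
    have : LocCoh.IsGorensteinLocalRing (V.left.presheaf.stalk (h.left u)) :=
      (Groth.Agent.S3624.result _ _ h.left (hnX ha)).2 u
    have := (Groth.Agent.S0540.result (V.left.presheaf.stalk (h.left u)) R).1 inferInstance
    have := Groth.Agent.S0539.result (V.left.presheaf.stalk (h.left u)) R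
    refine (Groth.Agent.H02CA.GorFlat.gor_iff_of_flat_local (V.left.presheaf.stalk (h.left u)) R).mpr ⟨‹_›, ?_⟩
    rw [Groth.Agent.S0538.result (V.left.presheaf.stalk (h.left u)) R]
    let _ := Ideal.Quotient.field (IsLocalRing.maximalIdeal R)
    exact Groth.Agent.S0342.result _

end Groth.Agent.S10691
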