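import Groth.Statements.S10692
import Groth.Agent.H13AlgSp.FibreDim

set_option autoImplicit false
universe u
open CategoryTheory CategoryTheory.Limits AlgebraicGeometry
open AlgSp

namespace Groth.Agent.S10692

/-- For a proper flat morphism f : X ⟶ Y between algebraic spaces over S which is of finite
presentation, the fibre dimension function on |Y| is locally constant: for every d the set of y such
that every fibre X_k over y (k a field point in the class of y, X_k any pullback in fppf sheaves)
has dimension exactly d is open. -/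
theorem result {S : Scheme.{u}} {X Y : AlgSp.Space S} (f : X ⟶ Y) (hf1 : AlgSp.IsProperMor f.hom)
    (hf2 : AlgSp.LocP @Flat f.hom) (hf3 : AlgSp.IsFinitePresentationMor f.hom) (d : WithBot ℕ∞) :
    IsOpen {y : AlgSp.Points Y.obj | ∀ (k : AlgSp.FieldPt Y.obj), AlgSp.Points.mk k = y →
      ∀ (Xk : AlgSp.Sp S) (fst : Xk ⟶ X.obj) (snd : Xk ⟶ (AlgSp.yon S).obj k.pt),
        IsPullback fst snd f.hom k.toHom → AlgSp.dim Xk = d} := by
  exact Groth.Agent.H13AlgSp.FibreDim.isOpen_dimSet_eq X.property Y.property
    (hf1.2.2 Y.property (𝟙 _) (𝟙 _) f.hom (IsPullback.of_horiz_isIso ⟨by simp⟩)) hf2 hf3.1 hf3.2.1 d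

end Groth.Agent.S10692
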