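import Groth.Statements.S10695
import Groth.Agent.H13AlgSp.DistSq

set_option autoImplicit false
universe u
open CategoryTheory CategoryTheory.Limits AlgebraicGeometry
open AlgSp

namespace Groth.Agent.S10695

/-- Suppose `(U ⊂ W, f : V → W)`, a square of algebraic spaces over `S`, is elementary distinguished
(`j` an open immersion, `f` etale and an isomorphism over the reduced closed complement of `U`) and
let `P` with its two projections be a fibre product `U ×_W V`. Then `W` is the pushout of `U` and
`V` along `P` among algebraic spaces over `S`. -/
theorem result {S : Scheme.{u}} {U V W P : AlgSp.Space S} (j : U ⟶ W) (f : V ⟶ W)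
    (hsq : AlgSp.IsElemDistSq j.hom f.hom) (p : P ⟶ U) (q : P ⟶ V)
    (hP : IsPullback p.hom q.hom j.hom f.hom) : IsPushout p q j f := by
  have hw : p.hom ≫ j.hom = q.hom ≫ f.hom := hP.w
  refine IsPushout.of_isColimit' ⟨InducedCategory.hom_ext hw⟩ (PushoutCocone.IsColimit.mk _
    (fun s => InducedCategory.homMk (H13AlgSp.existsUnique_desc_of_elemDistSq hsq U.property V.property W.property hP
      s.inl.hom s.inr.hom (congrArg InducedCategory.Hom.hom s.condition)).exists.choose) ?_ ?_ ?_)
  · intro s
    exact InducedCategory.hom_ext (H13AlgSp.existsUnique_desc_of_elemDistSq hsq U.property V.property W.property hP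
      s.inl.hom s.inr.hom (congrArg InducedCategory.Hom.hom s.condition)).exists.choose_spec.1
  · intro s
    exact InducedCategory.hom_ext (H13AlgSp.existsUnique_desc_of_elemDistSq hsq U.property V.property W.property hP
      s.inl.hom s.inr.hom (congrArg InducedCategory.Hom.hom s.condition)).exists.choose_spec.2
  · intro s m h₁ h₂
    exact InducedCategory.hom_ext ((H13AlgSp.existsUnique_desc_of_elemDistSq hsq U.property V.property W.property hP
      s.inl.hom s.inr.hom (congrArg InducedCategory.Hom.hom s.condition)).unique
        ⟨congrArg InducedCategory.Hom.hom h₁, congrArg InducedCategory.Hom.hom h₂⟩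
        (H13AlgSp.existsUnique_desc_of_elemDistSq hsq U.property V.property W.property hP
      s.inl.hom s.inr.hom (congrArg InducedCategory.Hom.hom s.condition)).exists.choose_spec)

end Groth.Agent.S10695
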