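import Groth.Statements.S10698
import Groth.Agent.H13AlgSp.SepDistSq

set_option autoImplicit false
universe u
open CategoryTheory CategoryTheory.Limits AlgebraicGeometry
open AlgSp

namespace Groth.Agent.S10698

/-- Let `g : X → Y` be a morphism of algebraic spaces over `S` and `(U ⊂ X, f : V → X)` an elementary
distinguished square. Suppose `U → Y` and `V → Y` are both separated, that the canonical morphism `c
: U ×_X V → U ×_Y V` (between chosen fibre products `PX`, `PY`) is closed on points, and that the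
canonical morphism `d : V ×_X V → V ×_Y V` (between chosen fibre products `QX`, `QY`) is
representable and a closed immersion. Then `g` is separated. (The published statement omits the
condition on `V ×_X V → V ×_Y V`; its proof identifies the piece of `X ×_Y X` over `V ×_Y V` with
`V`, which is `V ×_X V`, and without that condition the affine line with doubled origin over a
field, with `U` the complement of the two origins and `V` the disjoint union of the two standard
charts, satisfies every other hypothesis and is not separated. With it, the diagonal of `g` is a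
closed immersion over each of the four pieces `U ×_Y U`, `U ×_Y V`, `V ×_Y U`, `V ×_Y V` of an etale
cover of `X ×_Y X`; for `c`, which is an immersion because `U → X` is an open immersion and `U → Y`
is separated, closedness on points suffices.) -/
theorem result {S : Scheme.{u}} {U V X Y PX PY QX QY : AlgSp.Space S} (g : X ⟶ Y)
    (j : U ⟶ X) (f : V ⟶ X) (hsq : AlgSp.IsElemDistSq j.hom f.hom)
    (hU : AlgSp.IsSeparatedMor (j ≫ g).hom) (hV : AlgSp.IsSeparatedMor (f ≫ g).hom)
    (pX : PX ⟶ U) (qX : PX ⟶ V) (hPX : IsPullback pX.hom qX.hom j.hom f.hom)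
    (pY : PY ⟶ U) (qY : PY ⟶ V) (hPY : IsPullback pY.hom qY.hom (j ≫ g).hom (f ≫ g).hom)
    (c : PX ⟶ PY) (hc₁ : c ≫ pY = pX) (hc₂ : c ≫ qY = qX) (hcl : AlgSp.IsClosedMor c.hom)
    (rX₁ rX₂ : QX ⟶ V) (hQX : IsPullback rX₁.hom rX₂.hom f.hom f.hom)
    (rY₁ rY₂ : QY ⟶ V) (hQY : IsPullback rY₁.hom rY₂.hom (f ≫ g).hom (f ≫ g).hom)
    (d : QX ⟶ QY) (hd₁ : d ≫ rY₁ = rX₁) (hd₂ : d ≫ rY₂ = rX₂)
    (hdcl : AlgSp.RepWith @IsClosedImmersion d.hom) : AlgSp.IsSeparatedMor g.hom := by
  have := H12AlgSp.mono_of_openImmersion hsq.1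
  have hUV : AlgSp.RepWith @IsClosedImmersion (H13AlgSp.pbMap g.hom j.hom f.hom) := by
    have e : H13AlgSp.pbMap g.hom j.hom f.hom = hPX.isoPullback.inv ≫ c.hom ≫ hPY.isoPullback.hom := by
      rw [Iso.eq_inv_comp]
      apply pullback.hom_ext
      · simp [H13AlgSp.pbMap]; erw [pullback.lift_fst, Category.comp_id, IsPullback.isoPullback_hom_fst]; exact (congrArg InducedCategory.Hom.hom hc₁).symm
      · simp [H13AlgSp.pbMap]; erw [pullback.lift_snd, Category.comp_id, IsPullback.isoPullback_hom_snd]; exact (congrArg InducedCategory.Hom.hom hc₂).symm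
    refine H13AlgSp.isClosedImmersion_of_isImmersion_closed (H13AlgSp.isImmersion_pbMap g.hom hsq.1 hU) ?_
    have hc' : IsClosedMap (AlgSp.Points.map c.hom) := hcl
    have h1 : Set.range (AlgSp.Points.map (H13AlgSp.pbMap g.hom j.hom f.hom)) =
        AlgSp.Points.map hPY.isoPullback.inv ⁻¹' Set.range (AlgSp.Points.map c.hom) := by
      rw [e]
      ext w
      simp only [Set.mem_range, Set.mem_preimage, Points.map_comp]
      constructor
      · rintro ⟨x, rfl⟩
        exact ⟨_, by rw [← Points.map_comp hPY.isoPullback.hom, Iso.hom_inv_id, Points.map_id]⟩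
      · rintro ⟨x, hx⟩
        refine ⟨AlgSp.Points.map hPX.isoPullback.hom x, ?_⟩
        rw [← Points.map_comp hPX.isoPullback.hom, Iso.hom_inv_id, Points.map_id, hx, ← Points.map_comp,
          Iso.inv_hom_id, Points.map_id]
    rw [h1]
    exact (hc'.isClosed_range).preimage (Points.continuous_map _)
  have hVV : AlgSp.RepWith @IsClosedImmersion (H13AlgSp.pbMap g.hom f.hom f.hom) := by
    have e : H13AlgSp.pbMap g.hom f.hom f.hom = hQX.isoPullback.inv ≫ d.hom ≫ hQY.isoPullback.hom := by
      rw [Iso.eq_inv_comp]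
      apply pullback.hom_ext
      · simp [H13AlgSp.pbMap]; erw [pullback.lift_fst, Category.comp_id, IsPullback.isoPullback_hom_fst]; exact (congrArg InducedCategory.Hom.hom hd₁).symm
      · simp [H13AlgSp.pbMap]; erw [pullback.lift_snd, Category.comp_id, IsPullback.isoPullback_hom_snd]; exact (congrArg InducedCategory.Hom.hom hd₂).symm
    rw [e]
    exact H12AlgSp.repWith_comp (H12AlgSp.repWith_of_isIso _) (H12AlgSp.repWith_comp hdcl (H12AlgSp.repWith_of_isIso _))
  obtain ⟨A, a, ha, has⟩ := U.property.atlas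
  obtain ⟨B, b, hb, hbs⟩ := V.property.atlas
  refine H13AlgSp.isSeparatedMor_of_two_cover g.hom X.property Y.property
    (A := fun i : ULift.{u} Bool => match i with | ⟨true⟩ => A | ⟨false⟩ => B)
    (fun i => match i with | ⟨true⟩ => a ≫ j.hom | ⟨false⟩ => b ≫ f.hom) ?_ ?_ ?_
  · rintro ⟨⟨⟩⟩
    · exact hsq.2.1 b hb
    · exact H12AlgSp.repWith_comp ha
        (H12AlgSp.repWith_le (fun _ _ k (_ : IsOpenImmersion k) => inferInstanceAs (Etale k)) hsq.1)
  · intro x
    rcases H13AlgSp.mem_range_map_of_elemDistSq hsq x with ⟨y, rfl⟩ | ⟨y, rfl⟩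
    · obtain ⟨z, rfl⟩ := H12AlgSp.surjective_map_of_repWith le_rfl has y
      exact ⟨⟨true⟩, z, Points.map_comp _ _ _⟩
    · obtain ⟨z, rfl⟩ := H12AlgSp.surjective_map_of_repWith le_rfl hbs y
      exact ⟨⟨false⟩, z, Points.map_comp _ _ _⟩
  · rintro ⟨⟨⟩⟩ ⟨⟨⟩⟩
    · exact H13AlgSp.repWith_pbMap_of_fac g.hom b b rfl rfl hVV
    · exact H13AlgSp.repWith_pbMap_of_fac g.hom b a rfl rfl (H13AlgSp.repWith_closed_pbMap_symm g.hom hUV)
    · exact H13AlgSp.repWith_pbMap_of_fac g.hom a b rfl rfl hUV
    · exact H13AlgSp.repWith_pbMap_of_fac g.hom a a rfl rfl (H13AlgSp.repWith_closed_pbMap_self g.hom j.hom hU)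

end Groth.Agent.S10698
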