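import Groth.Statements.S1070
import Groth.Agent.H16Derived.PnD.PC

set_option autoImplicit false
universe u
open CategoryTheory CategoryTheory.Limits AlgebraicGeometry Opposite
attribute [local instance] HasDerivedCategory.standard
open Perf

namespace Groth.Agent.S1070

set_option backward.isDefEq.respectTransparency false

/-- Let A be a ring, X = P^n_A with structure morphism π : X ⟶ Spec A, and K ∈ D(O_X) with
quasi-coherent cohomology sheaves. Assuming Rπ_* and the derived functors - ⊗^L O_X(d) exist, K is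
pseudo-coherent (m-pseudo-coherent for all m) if and only if Rπ_*(K ⊗^L O_X(d)) is pseudo-coherent
on Spec A for each d = 0, 1, …, n. (The source states (5) with RΓ(X, -) in D(A); on the affine
scheme Spec A the two formulations correspond under D(A) ≃ D_QCoh(Spec A).) -/
theorem result (n : ℕ) (A : Type u) [CommRing A]
    [DCoh.HasRpush (CohB1.ProjSpace.toSpec n A)] [∀ d : ℤ, DCoh.HasLTensorMod (Twist.twistProjSpace n A d)]
    (K : DCoh.D (CohB1.ProjSpace n A)) (hK : DCoh.IsQCohD K) :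
    (∀ m : ℤ, DCoh.IsPseudoCoherentD m K) ↔
      ∀ d : ℕ, d ≤ n → ∀ m : ℤ, DCoh.IsPseudoCoherentD m
        ((DCoh.Rpush (CohB1.ProjSpace.toSpec n A)).obj ((DCoh.LTensorMod (Twist.twistProjSpace n A (d : ℤ))).obj K)) := by
  open Groth.Agent.H16Derived Groth.Agent.H16Derived.PnD Groth.Agent.H16Derived.KFlat in
  let X := CohB1.ProjSpace n A
  let π := CohB1.ProjSpace.toSpec n A
  let O : ℤ → X.Modules := fun d => Twist.twistProjSpace n A d
  have hπ : Groth.Agent.H22Alg.PB.IsPn n π O := PnD.isPn_projSpace n A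
  have hO := hπ.tw
  haveI hL : ∀ d : ℤ, PreservesFiniteLimits (lw (O d)) := fun d => (exact_lw (hO.inv d)).1
  haveI hR : ∀ d : ℤ, PreservesFiniteColimits (lw (O d)) := fun d => (exact_lw (hO.inv d)).2
  constructor
  · intro h d _ m
    obtain ⟨e⟩ := nonempty_ltensorMod_lw (O (d : ℤ)) K
    exact KFlat.Stalk.isPseudoCoherentD_of_iso ((DCoh.Rpush π).mapIso e).symm
      (allPC_push_twist hπ (d : ℤ) h m)
  · intro h
    haveI := Groth.Agent.H16Derived.KFlat.Stalk.hasLpull π
    let K' : DCoh.D X := (lw (O (n : ℤ))).mapDerivedCategory.obj K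
    have hq : DCoh.IsQCohD K' := isQCohD_lw (H8Props.FinLocFree.isQCoh_of_isFinLocFree _ (hπ.finLocFree_O _)) hK
    have hK' : AllPC K' := by
      refine allPC_of_twists hπ (fun C hC hz => isZero_on_projSpace n A C hC hz) hq fun j hj => ?_
      obtain ⟨p⟩ := hO.add (n : ℤ) (-(j : ℤ))
      obtain ⟨w⟩ := nonempty_lw_lw (O (-(j : ℤ))) (O (n : ℤ)) (O ((n : ℤ) + -(j : ℤ))) p K
      obtain ⟨e⟩ := nonempty_ltensorMod_lw (O ((n - j : ℕ) : ℤ)) K
      exact AllPC.of_iso ((DCoh.Rpush π).mapIso (e ≪≫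
        eqToIso (congrArg (fun k : ℤ => (lw (O k)).mapDerivedCategory.obj K)
          (show ((n - j : ℕ) : ℤ) = (n : ℤ) + -(j : ℤ) by omega)) ≪≫ w.symm))
        (h (n - j) (Nat.sub_le n j))
    obtain ⟨z⟩ := hO.zero
    obtain ⟨p⟩ := hO.add (n : ℤ) (-(n : ℤ))
    obtain ⟨w⟩ := nonempty_lw_lw (O (-(n : ℤ))) (O (n : ℤ)) (O ((n : ℤ) + -(n : ℤ))) p K
    obtain ⟨w'⟩ := nonempty_lw_one (O ((n : ℤ) + -(n : ℤ))) (eqToIso (congrArg O (add_neg_cancel (n : ℤ))) ≪≫ z) K
    exact AllPC.of_iso (w ≪≫ w') (allPC_lw (hO.inv _) hK')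

end Groth.Agent.S1070
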