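import Groth.Statements.S10702
import Groth.Agent.H13AlgSp.FpqcIso
import Groth.Agent.H13AlgSp.LocP
import Groth.Agent.H12AlgSp.LocP
import Groth.Agent.S10505

set_option autoImplicit false
universe u
open CategoryTheory CategoryTheory.Limits AlgebraicGeometry
open AlgSp

namespace Groth.Agent.S10702

/-- Consider a commutative diagram of algebraic spaces over `S` with top row `A → C → E`, bottom row `B
→ D → F` and vertical maps `A → B`, `C → D`, `E → F`. If the left square and the outer rectangle are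
cartesian and `B → D` is surjective etale, then the right square is cartesian. -/
theorem result {S : Scheme.{u}} {A B C D E F : AlgSp.Space S} (ac : A ⟶ C) (ab : A ⟶ B)
    (cd : C ⟶ D) (bd : B ⟶ D) (ce : C ⟶ E) (df : D ⟶ F) (ef : E ⟶ F)
    (hl : IsPullback ac.hom ab.hom cd.hom bd.hom) (hcomm : cd ≫ df = ce ≫ ef)
    (hout : IsPullback (ac ≫ ce).hom ab.hom ef.hom (bd ≫ df).hom) (hsurj : AlgSp.IsSurjectiveMor bd.hom)
    (het : AlgSp.IsEtaleMor bd.hom) : IsPullback ce.hom cd.hom ef.hom df.hom := by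
  have hP := IsPullback.of_hasPullback ef.hom df.hom
  have hc : ce.hom ≫ ef.hom = cd.hom ≫ df.hom := (congrArg InducedCategory.Hom.hom hcomm).symm
  let k := hP.lift ce.hom cd.hom hc
  have sqA : IsPullback (ac.hom ≫ k) ab.hom (pullback.snd ef.hom df.hom) bd.hom :=
    IsPullback.of_right (by rw [Category.assoc, hP.lift_fst]; exact hout)
      (by rw [Category.assoc, hP.lift_snd]; exact hl.w) hP
  have sqk : IsPullback ac.hom (𝟙 A.obj) k (ac.hom ≫ k) :=
    IsPullback.of_bot (by rw [Category.id_comp, hP.lift_snd]; exact hl) (Category.id_comp _).symm sqA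
  have hPs := H12AlgSp.isAlgSpace_of_isPullback F.property.diag E.property D.property hP
  have hE := H13AlgSp.locP_of_isPullback B.property D.property sqA.flip
    (H13AlgSp.locP_etale_of_isEtaleMor het)
  have hfppf : AlgSp.IsFppfCover (fun _ : PUnit.{u+1} => A.obj) (fun _ => ac.hom ≫ k) := by
    refine ⟨fun _ => ⟨H12AlgSp.locP_mono (fun _ _ g (_ : Etale g) => inferInstanceAs (Flat g)) hE,
      H12AlgSp.locP_mono (fun _ _ g (_ : Etale g) => inferInstanceAs (LocallyOfFinitePresentation g)) hE⟩,
      fun x => ?_⟩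
    obtain ⟨y, hy⟩ := hsurj (AlgSp.Points.map (pullback.snd ef.hom df.hom) x)
    obtain ⟨r, hr, -⟩ := H12AlgSp.exists_point_of_isPullback sqA x y hy.symm
    exact ⟨PUnit.unit, r, hr⟩
  have : IsIso k := H13AlgSp.isIso_of_fpqc C.property hPs
    (S10505.result ⟨_, hPs⟩ (fun _ : PUnit.{u+1} => A) (fun _ => ObjectProperty.homMk (ac.hom ≫ k)) hfppf)
    (fun _ => sqk) (fun _ => inferInstance)
  exact hP.of_iso (asIso k).symm (Iso.refl _) (Iso.refl _) (Iso.refl _)
    (by simp [k, IsIso.inv_comp_eq]) (by simp [k, IsIso.inv_comp_eq]) (by simp) (by simp)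

end Groth.Agent.S10702
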