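import Groth.Statements.S10705
import Groth.Agent.H13AlgSp.FormalGlueReflect

set_option autoImplicit false
universe u
open CategoryTheory CategoryTheory.Limits AlgebraicGeometry
open AlgSp

namespace Groth.Agent.S10705

/-- Let `f : Y → X` be a quasi-compact quasi-separated morphism of algebraic spaces over `S`, `i : Z →
X` a closed immersion of finite presentation such that `f⁻¹Z → Z` is an isomorphism and `f` is flat
at every point of `|f⁻¹Z|`, and let `U ⊂ X` be the open subspace complementary to `Z`. Let `a : X₁ →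
X₂` be a morphism of algebraic spaces over `X`. If the base change of `a` to `U` and the base change
of `a` to `Y` are isomorphisms, then `a` is an isomorphism: the formal glueing functor reflects
isomorphisms. -/
theorem result {S : Scheme.{u}} {X Y Z FZ U : AlgSp.Space S} (f : Y ⟶ X)
    (hqc : AlgSp.IsQuasiCompactMor f.hom) (hqs : AlgSp.IsQuasiSeparatedMor f.hom) (i : Z ⟶ X)
    (hi : AlgSp.RepWith @IsClosedImmersion i.hom) (hifp : AlgSp.LocP @LocallyOfFinitePresentation i.hom)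
    (iY : FZ ⟶ Y) (fZ : FZ ⟶ Z) (hFZ : IsPullback iY.hom fZ.hom f.hom i.hom) [IsIso fZ]
    (hflat : ∀ y ∈ Set.range (AlgSp.Points.map iY.hom), AlgSp.IsFlatAtMor f.hom y) (j : U ⟶ X)
    (hj : AlgSp.RepWith @IsOpenImmersion j.hom)
    (hU : Set.range (AlgSp.Points.map j.hom) = (Set.range (AlgSp.Points.map i.hom))ᶜ)
    {X₁ X₂ QU QU₁ QY QY₁ : AlgSp.Space S} (p₂ : X₂ ⟶ X) (a : X₁ ⟶ X₂)
    (qU : QU ⟶ X₂) (rU : QU ⟶ U) (hQU : IsPullback qU.hom rU.hom p₂.hom j.hom) (aU : QU₁ ⟶ QU)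
    (bU : QU₁ ⟶ X₁) (hQU₁ : IsPullback bU.hom aU.hom a.hom qU.hom) [IsIso aU] (qY : QY ⟶ X₂) (rY : QY ⟶ Y)
    (hQY : IsPullback qY.hom rY.hom p₂.hom f.hom) (aY : QY₁ ⟶ QY) (bY : QY₁ ⟶ X₁)
    (hQY₁ : IsPullback bY.hom aY.hom a.hom qY.hom) [IsIso aY] : IsIso a := by
  haveI : IsIso fZ.hom := inferInstanceAs (IsIso ((ObjectProperty.ι _).map fZ))
  haveI : IsIso aU.hom := inferInstanceAs (IsIso ((ObjectProperty.ι _).map aU))
  haveI : IsIso aY.hom := inferInstanceAs (IsIso ((ObjectProperty.ι _).map aY))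
  obtain ⟨ι, W, w, hW, hcov, hl⟩ := Groth.Agent.H13AlgSp.FormalGlueCover.exists_cover X.property Y.property U.property
    hqc hi hifp hFZ hflat hj hU
  haveI : IsIso a.hom := Groth.Agent.H13AlgSp.FormalGlueReflect.isIso_of_pieces X.property X₁.property X₂.property
    hW hcov (fun k => (hl k).imp_right fun ⟨l, h, _⟩ => ⟨l, h⟩) hQU hQU₁ hQY hQY₁
  haveI : IsIso ((ObjectProperty.ι _).map a) := ‹IsIso a.hom›
  exact isIso_of_reflects_iso a (ObjectProperty.ι _)

end Groth.Agent.S10705
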