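import Groth.Statements.S10706
import Groth.Agent.H13AlgSp.GlueCharts

set_option autoImplicit false
universe u
open CategoryTheory CategoryTheory.Limits AlgebraicGeometry TensorProduct
open AlgSp

namespace Groth.Agent.S10706

/-- Let `(R → R', f)` be a glueing pair and `Y` an algebraic space over `Spec R`. The following are
equivalent: (1) there is an etale covering of `Y` by affine schemes `Spec A_k` with every `A_k`
glueable as an `R`-module; (2) for every affine scheme `Spec A` etale over `Y`, the `R`-module `A`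
is glueable. -/
theorem result (R : Type u) [CommRing R] (R' : Type u) [CommRing R'] [Algebra R R']
    (f : R) (hRR' : EtGlue.IsGlueingPair R R' f) (Y : AlgSp.Space (Spec (CommRingCat.of R))) :
    (∃ (ι : Type u) (A : ι → Type u) (_ : ∀ k, CommRing (A k)) (_ : ∀ k, Algebra R (A k))
        (g : ∀ k, (AlgSp.yon (Spec (CommRingCat.of R))).obj (Over.mk (Spec.map (CommRingCat.ofHom (algebraMap R (A k)))) : Over (Spec (CommRingCat.of R))) ⟶ Y.obj),
        (∀ k, AlgSp.RepWith @Etale (g k)) ∧ (∀ y : AlgSp.Points Y.obj, ∃ k, y ∈ Set.range (AlgSp.Points.map (g k))) ∧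
          ∀ k, EtGlue.IsGlueable R R' f (A k)) ↔
      (∀ (A : Type u) [CommRing A] [Algebra R A]
      (g : (AlgSp.yon (Spec (CommRingCat.of R))).obj (Over.mk (Spec.map (CommRingCat.ofHom (algebraMap R A))) : Over (Spec (CommRingCat.of R))) ⟶ Y.obj),
      AlgSp.RepWith @Etale g → EtGlue.IsGlueable R R' f A) := by
  constructor
  · rintro ⟨ι, Ak, _, _, g, hg, hcov, hk⟩ A _ _ gA hgA
    refine (Groth.Agent.H9Hens.Glue.isGlueable_iff hRR'.1).2
      ⟨Groth.Agent.H13AlgSp.GlueCharts.torInj_of_covering gA hgA Ak g hg hcov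
        (fun k => ((Groth.Agent.H9Hens.Glue.isGlueable_iff hRR'.1).1 (hk k)).1),
        Groth.Agent.H9Hens.Glue.torSurj_of_isGlueingPair hRR'⟩
  · exact fun h => Groth.Agent.H13AlgSp.GlueCharts.exists_covering Y.property h

end Groth.Agent.S10706
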