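import Groth.Statements.S10708
import Groth.Agent.H13AlgSp.DistSqExist

set_option autoImplicit false
universe u
open CategoryTheory CategoryTheory.Limits AlgebraicGeometry
open AlgSp

namespace Groth.Agent.S10708

/-- Let `X` be a Noetherian algebraic space over a quasi-separated base scheme `S` (quasi-compact,
quasi-separated over `S`, locally Noetherian) and `U ⊂ X` a dense open subspace different from `X`.
Then one can find an etale morphism `V → X` from an affine scheme `V` for which `W = U ∪ Im(V → X)`,
an open subspace, properly contains `U`, the pair `(U ⊂ W, V → W)` forms an elementary distinguished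
square, and `U ×_W V → U` has dense image. (The base scheme is taken quasi-separated so that
quasi-separatedness over `S` is the absolute notion.) -/
theorem result {S : Scheme.{u}} [QuasiSeparatedSpace S] {X U : AlgSp.Space S}
    (hqc : AlgSp.IsQuasiCompactSp X.obj) (hqs : AlgSp.IsQuasiSeparatedSp X.obj) (hN : AlgSp.IsLocNoethSp X.obj)
    (j : U ⟶ X) (hj : AlgSp.RepWith @IsOpenImmersion j.hom) (hdense : Dense (Set.range (AlgSp.Points.map j.hom)))
    (hne : Set.range (AlgSp.Points.map j.hom) ≠ Set.univ) :
    ∃ (V : Over S) (_ : IsAffine V.left) (W : AlgSp.Space S) (jW : W ⟶ X) (jU : U ⟶ W) (φ : (AlgSp.ofScheme S).obj V ⟶ W)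
      (P : AlgSp.Space S) (p : P ⟶ U) (q : P ⟶ (AlgSp.ofScheme S).obj V),
      AlgSp.RepWith @Etale (φ ≫ jW).hom ∧ AlgSp.RepWith @IsOpenImmersion jW.hom ∧ jU ≫ jW = j ∧
        Set.range (AlgSp.Points.map jW.hom) =
          Set.range (AlgSp.Points.map j.hom) ∪ Set.range (AlgSp.Points.map (φ ≫ jW).hom) ∧
        Set.range (AlgSp.Points.map jW.hom) ≠ Set.range (AlgSp.Points.map j.hom) ∧
        AlgSp.IsElemDistSq jU.hom φ.hom ∧ IsPullback p.hom q.hom jU.hom φ.hom ∧ AlgSp.IsDominantMor p.hom := by
  exact Groth.Agent.H13AlgSp.DistSqExist.exists_square hqc hqs hN j hj hne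

end Groth.Agent.S10708
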