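import Groth.Statements.S1071
import Groth.Agent.H17.Horrocks.Koszul

set_option autoImplicit false
universe u
open CategoryTheory CategoryTheory.Limits AlgebraicGeometry
open Perf

namespace Groth.Agent.S1071

set_option linter.style.haveILetI false
set_option backward.isDefEq.respectTransparency false
open CategoryTheory.Limits ZeroObject
open Groth.Agent Groth.Agent.H22Alg

noncomputable section

theorem nonempty_sum_iso {C : Type*} [Category C] [Abelian C] (X : C) (a b : ℕ) :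
    Nonempty ((∐ fun _ : Fin a => X) ⊞ (∐ fun _ : Fin b => X) ≅ ∐ fun _ : Fin (b + a) => X) := by
  let e : (∐ fun _ : Fin a => X) ⊞ (∐ fun _ : Fin b => X) ≅ ∐ fun _ : Fin a ⊕ Fin b => X :=
    { hom := biprod.desc (Sigma.desc fun i => Sigma.ι (fun _ : Fin a ⊕ Fin b => X) (Sum.inl i))
        (Sigma.desc fun i => Sigma.ι (fun _ : Fin a ⊕ Fin b => X) (Sum.inr i))
      inv := Sigma.desc (Sum.elim (fun i => Sigma.ι (fun _ : Fin a => X) i ≫ biprod.inl)
        (fun i => Sigma.ι (fun _ : Fin b => X) i ≫ biprod.inr))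
      hom_inv_id := by
        apply biprod.hom_ext' <;> refine Sigma.hom_ext _ _ fun i => ?_ <;> simp
      inv_hom_id := by
        refine Sigma.hom_ext _ _ ?_
        rintro (i | i) <;> simp }
  exact ⟨e ≪≫ Sigma.whiskerEquiv ((Equiv.sumComm _ _).trans finSumFinEquiv) (fun _ => Iso.refl X)⟩

theorem nonempty_L {C : Type*} [Category C] [Abelian C] (A : ℕ → C) :
    ∀ r t j, Nonempty (KosLine.L A r t j ≅ ∐ fun _ : Fin (r.choose j) => A (t + j))
  | 0, t, 0 => by
    haveI : Unique (Fin (Nat.choose 0 0)) := inferInstanceAs (Unique (Fin 1))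
    exact ⟨(coproductUniqueIso fun _ : Fin (Nat.choose 0 0) => A (t + 0)).symm⟩
  | 0, t, j + 1 => by
    haveI : IsEmpty (Fin (Nat.choose 0 (j + 1))) := inferInstanceAs (IsEmpty (Fin 0))
    refine ⟨(isZero_zero C).iso ?_⟩
    rw [IsZero.iff_id_eq_zero]
    exact Sigma.hom_ext _ _ fun i => isEmptyElim i
  | r + 1, t, 0 => by
    obtain ⟨e⟩ := nonempty_L A r t 0
    rw [Nat.choose_zero_right] at e ⊢
    exact ⟨e⟩
  | r + 1, t, j + 1 => by
    obtain ⟨e₁⟩ := nonempty_L A r t (j + 1)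
    obtain ⟨e₂⟩ := nonempty_L A r (t + 1) j
    rw [show t + 1 + j = t + (j + 1) by omega] at e₂
    obtain ⟨e₃⟩ := nonempty_sum_iso (A (t + (j + 1))) (r.choose (j + 1)) (r.choose j)
    rw [← Nat.choose_succ_succ] at e₃
    exact ⟨biprod.mapIso e₁ e₂ ≪≫ e₃⟩

variable {C : Type*} [Category C] [Abelian C]

/-- The terms, indexed by the integers. -/
def XZ (K : ℕ → C) : ℤ → C
  | Int.ofNat j => K j
  | Int.negSucc _ => 0

/-- The differentials, indexed by the integers. -/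
def dZ {K : ℕ → C} (d : ∀ j, K j ⟶ K (j + 1)) : ∀ i : ℤ, XZ K i ⟶ XZ K (i + 1)
  | Int.ofNat j => d j
  | Int.negSucc _ => 0

theorem exists_cx (K : ℕ → C) (d : ∀ j, K j ⟶ K (j + 1)) (w : ∀ j, d j ≫ d (j + 1) = 0)
    (hex : ∀ j, (ShortComplex.mk (d j) (d (j + 1)) (w j)).Exact) [Mono (d 0)] :
    ∃ Cx : CochainComplex C ℤ, (∀ i : ℤ, Cx.ExactAt i) ∧ (∀ i : ℤ, Nonempty (Cx.X i ≅ XZ K i)) := by
  let Cx : CochainComplex C ℤ := CochainComplex.of (XZ K) (dZ d) fun i => by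
    rcases i with j | j
    · exact w j
    · exact zero_comp
  have hd : ∀ i : ℤ, Cx.d i (i + 1) = dZ d i := fun i => CochainComplex.of_d (XZ K) (dZ d) i
  refine ⟨Cx, fun i => ?_, fun i => ⟨Iso.refl _⟩⟩
  rcases i with (_ | j) | j
  · rw [HomologicalComplex.exactAt_iff' _ (Int.negSucc 0) (Int.ofNat 0) (Int.ofNat 1) (by simp) (by simp)]
    refine ((HomologicalComplex.sc' Cx _ _ _).exact_iff_mono ?_).2 ?_
    · exact (CochainComplex.of_d (XZ K) (dZ d) (Int.negSucc 0))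
    · show Mono (Cx.d (Int.ofNat 0) (Int.ofNat 0 + 1))
      exact (hd (Int.ofNat 0)).symm ▸ (inferInstanceAs (Mono (d 0)))
  · rw [HomologicalComplex.exactAt_iff' _ (Int.ofNat j) (Int.ofNat (j + 1)) (Int.ofNat (j + 2)) (by simp) (by simp; omega)]
    refine (ShortComplex.exact_iff_of_iso ?_).1 (hex j)
    refine ShortComplex.isoMk (Iso.refl _) (Iso.refl _) (Iso.refl _) ?_ ?_
    · show 𝟙 _ ≫ Cx.d (Int.ofNat j) (Int.ofNat j + 1) = d j ≫ 𝟙 _
      exact (Category.id_comp _).trans ((hd (Int.ofNat j)).trans (Category.comp_id _).symm)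
    · show 𝟙 _ ≫ Cx.d (Int.ofNat (j + 1)) (Int.ofNat (j + 1) + 1) = d (j + 1) ≫ 𝟙 _
      exact (Category.id_comp _).trans ((hd (Int.ofNat (j + 1))).trans (Category.comp_id _).symm)
  · refine (HomologicalComplex.exactAt_iff Cx _).2 (ShortComplex.exact_of_isZero_X₂ _ ?_)
    exact isZero_zero C

end

/-- Let A be a ring, X = P^n_A and a ∈ ℤ. There is a cochain complex of O_X-modules, exact in every
degree, whose term in degree i is isomorphic to the direct sum of (n+1 choose i) copies of O_X(a +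
i) for 0 ≤ i ≤ n + 1 and is zero in all other degrees. -/
theorem result (n : ℕ) (A : Type u) [CommRing A] (a : ℤ) :
    ∃ C : CochainComplex (CohB1.ProjSpace n A).Modules ℤ, (∀ i : ℤ, C.ExactAt i) ∧
      (∀ i : ℕ, i ≤ n + 1 → Nonempty (C.X (i : ℤ) ≅ ∐ fun _ : Fin (Nat.choose (n + 1) i) => Twist.twistProjSpace n A (a + i))) ∧
      (∀ i : ℤ, i < 0 ∨ (n : ℤ) + 1 < i → IsZero (C.X i)) := by
  obtain ⟨h0, hex⟩ := KosTwist.exact (L := H10Coh.Pn.Od n A 1) (G := H10Coh.Pn.Od n A a) (v := H17.Horrocks.coords n A)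
    (H11Tilde.isInvertible_twist (H10Coh.Pn.Gr n A) (H17.PnExt.degOne n A) 1) H17.Horrocks.coords_cover 0
  haveI := h0
  obtain ⟨Cx, hCx, hX⟩ := exists_cx _ _ _ hex
  refine ⟨Cx, hCx, fun i hi => ?_, fun i hi => ?_⟩
  · obtain ⟨e⟩ := hX i
    obtain ⟨e'⟩ := nonempty_L (KosTwist.A (H10Coh.Pn.Od n A 1) (H10Coh.Pn.Od n A a)) (n + 1) 0 i
    obtain ⟨e''⟩ := H17.Horrocks.nonempty_A (n := n) (R := A) a (0 + i) (a + i) (by simp)
    exact ⟨e ≪≫ e' ≪≫ Sigma.whiskerEquiv (Equiv.refl _) (fun _ => e''.symm)⟩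
  · obtain ⟨e⟩ := hX i
    refine IsZero.of_iso ?_ e
    rcases i with j | j
    · refine KosLine.isZero_L _ _ _ ?_
      rcases hi with h | h
      · exact absurd h (by simp)
      · exact Int.ofNat_lt.1 h
    · exact isZero_zero _

end Groth.Agent.S1071
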