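import Groth.Statements.S10719
import Groth.Agent.H13AlgSp.FpqcSheaf

set_option autoImplicit false
universe w v u
open CategoryTheory CategoryTheory.Limits AlgebraicGeometry
open AlgSp

namespace Groth.Agent.S10719

/-- Let `B` be an algebraic space over `S`, `D : I ⥤ Over B` a diagram of algebraic spaces over `B` with
a cocone `c`, and `{U_a → c.pt}` an fpqc covering (by algebraic spaces over `B`). If (1) for every
`a`, every cocone of cartesian squares `D_i ×_{c.pt} U_a → U_a` is a colimit in algebraic spaces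
over `B`, and (2) the same holds for every fibre product `U_a ×_{c.pt} U_b`, then `c` is a colimit
in algebraic spaces over `B`. -/
theorem result {S : Scheme.{u}} {B : AlgSp.Space S} {I : Type v} [Category.{w} I] (D : I ⥤ Over B)
    (c : Cocone D) {κ : Type u} (Ua : κ → Over B) (ua : ∀ a, Ua a ⟶ c.pt)
    (hcov : AlgSp.IsFpqcCover (fun a => (Ua a).left.obj) (fun a => (ua a).left.hom))
    (h₁ : ∀ (a : κ) (Da : I ⥤ Over B) (α : Da ⟶ D) (ι : Da ⟶ (Functor.const I).obj (Ua a)),
      (∀ i, IsPullback (ι.app i).left.hom (α.app i).left.hom (ua a).left.hom (c.ι.app i).left.hom) →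
        Nonempty (IsColimit (Cocone.mk (Ua a) ι)))
    (h₂ : ∀ (a b : κ) (Uab : Over B) (pa : Uab ⟶ Ua a) (pb : Uab ⟶ Ua b),
      IsPullback pa.left.hom pb.left.hom (ua a).left.hom (ua b).left.hom →
      ∀ (Dab : I ⥤ Over B) (α : Dab ⟶ D) (ι : Dab ⟶ (Functor.const I).obj Uab),
        (∀ i, IsPullback (ι.app i).left.hom (α.app i).left.hom (pa ≫ ua a).left.hom (c.ι.app i).left.hom) →
          Nonempty (IsColimit (Cocone.mk Uab ι))) :
    Nonempty (IsColimit c) := by
  classical
  have alg : ∀ (i : I) {U : Over B} (u : U ⟶ c.pt),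
      AlgSp.IsAlgSpace (pullback u.left.hom (c.ι.app i).left.hom) := fun i U u =>
    Groth.Agent.H12AlgSp.isAlgSpace_of_isPullback c.pt.left.property.diag U.left.property (D.obj i).left.property
      (IsPullback.of_hasPullback _ _)
  let sp : ∀ (i : I) {U : Over B} (_ : U ⟶ c.pt), AlgSp.Space S := fun i U u => ⟨_, alg i u⟩
  let pf : ∀ (i : I) {U : Over B} (u : U ⟶ c.pt), sp i u ⟶ U.left :=
    fun i U u => ObjectProperty.homMk (pullback.fst _ _)
  let ps : ∀ (i : I) {U : Over B} (u : U ⟶ c.pt), sp i u ⟶ (D.obj i).left :=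
    fun i U u => ObjectProperty.homMk (pullback.snd _ _)
  have hp : ∀ (i : I) {U : Over B} (u : U ⟶ c.pt), pf i u ≫ u.left = ps i u ≫ (c.ι.app i).left :=
    fun i U u => ObjectProperty.hom_ext _ pullback.condition
  have hext : ∀ (i : I) {U : Over B} (u : U ⟶ c.pt) {T : AlgSp.Space S} (r r' : T ⟶ sp i u),
      r ≫ pf i u = r' ≫ pf i u → r ≫ ps i u = r' ≫ ps i u → r = r' := fun i U u T r r' h1 h2 =>
    ObjectProperty.hom_ext _ (pullback.hom_ext (congrArg (fun q : T ⟶ U.left => q.hom) h1)
      (congrArg (fun q : T ⟶ (D.obj i).left => q.hom) h2))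
  have hcw : ∀ {i j : I} (g : i ⟶ j), (D.map g).left ≫ (c.ι.app j).left = (c.ι.app i).left := fun g =>
    congrArg (fun q : D.obj _ ⟶ c.pt => q.left) (c.w g)
  let mp : ∀ {U : Over B} (u : U ⟶ c.pt) {i j : I} (_ : i ⟶ j), sp i u ⟶ sp j u := fun {U} u {i j} g =>
    ObjectProperty.homMk (pullback.lift (pullback.fst _ _) (pullback.snd _ _ ≫ (D.map g).left.hom)
      ((pullback.condition.trans (congrArg (pullback.snd u.left.hom (c.ι.app i).left.hom ≫ ·)
        (congrArg (fun q : (D.obj i).left ⟶ c.pt.left => q.hom) (hcw g)).symm)).trans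
        (Category.assoc _ _ _).symm))
  have hmf : ∀ {U : Over B} (u : U ⟶ c.pt) {i j : I} (g : i ⟶ j), mp u g ≫ pf j u = pf i u :=
    fun u _ _ g => ObjectProperty.hom_ext _ (pullback.lift_fst _ _ _)
  have hms : ∀ {U : Over B} (u : U ⟶ c.pt) {i j : I} (g : i ⟶ j),
      mp u g ≫ ps j u = ps i u ≫ (D.map g).left :=
    fun u _ _ g => ObjectProperty.hom_ext _ (pullback.lift_snd _ _ _)
  -- the base change of the diagram
  let DU : ∀ {U : Over B} (_ : U ⟶ c.pt), I ⥤ Over B := fun {U} u =>
    { obj := fun i => Over.mk (ps i u ≫ (D.obj i).hom)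
      map := fun {i j} g => Over.homMk (mp u g) (by
        show mp u g ≫ ps j u ≫ (D.obj j).hom = ps i u ≫ (D.obj i).hom
        rw [← Category.assoc, hms, Category.assoc, Over.w (D.map g)])
      map_id := fun i => Over.OverMorphism.ext (hext i u _ _
        (by show mp u (𝟙 i) ≫ pf i u = 𝟙 _ ≫ pf i u; rw [hmf, Category.id_comp])
        (by show mp u (𝟙 i) ≫ ps i u = 𝟙 _ ≫ ps i u
            rw [hms, Category.id_comp, D.map_id, Over.id_left, Category.comp_id]))
      map_comp := fun {i j k} g g' => Over.OverMorphism.ext (hext k u _ _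
        (by show mp u (g ≫ g') ≫ pf k u = (mp u g ≫ mp u g') ≫ pf k u
            rw [hmf, Category.assoc, hmf, hmf])
        (by show mp u (g ≫ g') ≫ ps k u = (mp u g ≫ mp u g') ≫ ps k u
            rw [hms, Category.assoc, hms, ← Category.assoc (mp u g), hms, Category.assoc, D.map_comp,
              Over.comp_left])) }
  let αU : ∀ {U : Over B} (u : U ⟶ c.pt), DU u ⟶ D := fun {U} u =>
    { app := fun i => Over.homMk (ps i u) rfl
      naturality := fun i j g => Over.OverMorphism.ext (hms u g) }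
  let ιU : ∀ {U : Over B} (u : U ⟶ c.pt), DU u ⟶ (Functor.const I).obj U := fun {U} u =>
    { app := fun i => Over.homMk (pf i u) (by
        show pf i u ≫ U.hom = ps i u ≫ (D.obj i).hom
        rw [← Over.w u, ← Category.assoc, hp, Category.assoc]
        exact congrArg (ps i u ≫ ·) (Over.w (c.ι.app i)))
      naturality := fun i j g => Over.OverMorphism.ext ((hmf u g).trans (Category.comp_id _).symm) }
  have hsq : ∀ {U : Over B} (u : U ⟶ c.pt) (i : I),
      IsPullback ((ιU u).app i).left.hom ((αU u).app i).left.hom u.left.hom (c.ι.app i).left.hom :=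
    fun u i => IsPullback.of_hasPullback _ _
  have col₁ : ∀ a, Nonempty (IsColimit (Cocone.mk (Ua a) (ιU (ua a)))) :=
    fun a => h₁ a _ (αU (ua a)) _ (hsq (ua a))
  have hcol := col₁
  let desc : ∀ (s : Cocone D) (a : κ), Ua a ⟶ s.pt := fun s a =>
    (hcol a).some.desc (Cocone.mk s.pt (αU (ua a) ≫ s.ι))
  have hdesc : ∀ (s : Cocone D) (a : κ) (i : I),
      pf i (ua a) ≫ (desc s a).left = ps i (ua a) ≫ (s.ι.app i).left := fun s a i =>
    congrArg (fun q : (DU (ua a)).obj i ⟶ s.pt => q.left)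
      ((hcol a).some.fac (Cocone.mk s.pt (αU (ua a) ≫ s.ι)) i)
  have glue : ∀ s : Cocone D, ∃ m : c.pt.left.obj ⟶ s.pt.left.obj,
      ∀ a, (ua a).left.hom ≫ m = (desc s a).left.hom := by
    intro s
    refine Groth.Agent.H13AlgSp.FpqcSheaf.exists_desc s.pt.left.property hcov _ fun V a b l l' e => ?_
    let Pab : AlgSp.Space S := ⟨pullback (ua a).left.hom (ua b).left.hom,
      Groth.Agent.H12AlgSp.isAlgSpace_of_isPullback c.pt.left.property.diag (Ua a).left.property
        (Ua b).left.property (IsPullback.of_hasPullback _ _)⟩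
    let qa : Pab ⟶ (Ua a).left := ObjectProperty.homMk (pullback.fst _ _)
    let qb : Pab ⟶ (Ua b).left := ObjectProperty.homMk (pullback.snd _ _)
    have hq : qa ≫ (ua a).left = qb ≫ (ua b).left := ObjectProperty.hom_ext _ pullback.condition
    let Uab : Over B := Over.mk (qa ≫ (Ua a).hom)
    let pa : Uab ⟶ Ua a := Over.homMk qa rfl
    let pb : Uab ⟶ Ua b := Over.homMk qb (by
      show qb ≫ (Ua b).hom = qa ≫ (Ua a).hom
      rw [← Over.w (ua a), ← Category.assoc, hq, Category.assoc, Over.w (ua b)])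
    have hpp : pa ≫ ua a = pb ≫ ua b := Over.OverMorphism.ext hq
    obtain ⟨hc2⟩ := h₂ a b Uab pa pb (IsPullback.of_hasPullback _ _) _ (αU (pa ≫ ua a)) _
      (hsq (pa ≫ ua a))
    have key : ∀ (c' : κ) (r : Uab ⟶ Ua c'), r ≫ ua c' = pa ≫ ua a → ∀ i,
        pf i (pa ≫ ua a) ≫ (r ≫ desc s c').left = ps i (pa ≫ ua a) ≫ (s.ι.app i).left := by
      intro c' r hr i
      let k : sp i (pa ≫ ua a) ⟶ sp i (ua c') := ObjectProperty.homMk (pullback.map _ _ _ _ r.left.hom
        (𝟙 _) (𝟙 _) (by
          have := congrArg (fun q : Uab ⟶ c.pt => q.left.hom) hr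
          simpa using this.symm) (by simp))
      have k₁ : k ≫ pf i (ua c') = pf i (pa ≫ ua a) ≫ r.left :=
        ObjectProperty.hom_ext _ (pullback.lift_fst _ _ _)
      have k₂ : k ≫ ps i (ua c') = ps i (pa ≫ ua a) :=
        ObjectProperty.hom_ext _ ((pullback.lift_snd _ _ _).trans (Category.comp_id _))
      rw [Over.comp_left, ← Category.assoc, ← k₁, Category.assoc, hdesc, ← Category.assoc, k₂]
    have heq : pa ≫ desc s a = pb ≫ desc s b := hc2.hom_ext fun i => Over.OverMorphism.ext
      ((key a pa rfl i).trans (key b pb hpp.symm i).symm)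
    have := congrArg (fun q : Uab ⟶ s.pt => pullback.lift l l' e ≫ q.left.hom) heq
    simp only [pa, pb, qa, qb, Over.comp_left, Over.homMk_left, ObjectProperty.FullSubcategory.comp_hom,
      ObjectProperty.homMk_hom, pullback.lift_fst_assoc, pullback.lift_snd_assoc] at this
    exact this
  choose m hm using glue
  let mO : ∀ s : Cocone D, c.pt ⟶ s.pt := fun s => Over.homMk (ObjectProperty.homMk (m s))
    (ObjectProperty.hom_ext _ (Groth.Agent.H13AlgSp.FpqcSheaf.hom_ext_of_isFpqcCover B.property hcov fun a => by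
      have h1 := congrArg (fun q : (Ua a).left ⟶ B => q.hom) (Over.w (desc s a))
      have h2 := congrArg (fun q : (Ua a).left ⟶ B => q.hom) (Over.w (ua a))
      simp only [ObjectProperty.FullSubcategory.comp_hom] at h1 h2 ⊢
      rw [ObjectProperty.homMk_hom, ← Category.assoc, hm, h1, h2]))
  refine ⟨{ desc := mO, fac := fun s i => ?_, uniq := fun s m' hm' => ?_ }⟩
  · refine Over.OverMorphism.ext (ObjectProperty.hom_ext _
      (Groth.Agent.H12AlgSp.hom_ext_yon fun Y y => ?_))
    refine Groth.Agent.H13AlgSp.hom_ext_of_fpqc s.pt.left.property.diag _ _ fun Z j hZ => ?_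
    obtain ⟨n, W, cc, haff, hfl, hs, hl⟩ :=
      hcov.2 Z hZ ((AlgSp.yon S).map j ≫ y ≫ (c.ι.app i).left.hom)
    refine ⟨n, W, cc, haff, hfl, hs, fun k => ?_⟩
    obtain ⟨a, l, hl⟩ := hl k
    let z := (AlgSp.yon S).map (cc k ≫ j) ≫ y
    have hz : l ≫ (ua a).left.hom = z ≫ (c.ι.app i).left.hom := by
      simpa [z, Category.assoc] using hl
    have h1 := congrArg (fun q : sp i (ua a) ⟶ s.pt.left => pullback.lift l z hz ≫ q.hom) (hdesc s a i)
    simp only [pf, ps, ObjectProperty.FullSubcategory.comp_hom, ObjectProperty.homMk_hom,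
      pullback.lift_fst_assoc, pullback.lift_snd_assoc] at h1
    rw [← hm, ← Category.assoc, hz] at h1
    simpa [mO, z, Category.assoc] using h1
  · refine Over.OverMorphism.ext (ObjectProperty.hom_ext _
      (Groth.Agent.H13AlgSp.FpqcSheaf.hom_ext_of_isFpqcCover s.pt.left.property hcov fun a => ?_))
    have h1 : ua a ≫ m' = desc s a := (hcol a).some.uniq (Cocone.mk s.pt (αU (ua a) ≫ s.ι)) _ fun i => by
      have h2 : (ιU (ua a)).app i ≫ ua a = (αU (ua a)).app i ≫ c.ι.app i :=
        Over.OverMorphism.ext (hp i (ua a))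
      show (ιU (ua a)).app i ≫ ua a ≫ m' = _
      rw [← Category.assoc, h2, Category.assoc, hm']
      rfl
    have h2 := congrArg (fun q : Ua a ⟶ s.pt => q.left.hom) h1
    simp only [Over.comp_left, ObjectProperty.FullSubcategory.comp_hom] at h2
    simp [mO, h2, hm]

end Groth.Agent.S10719
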