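import Groth.Statements.S1072
import Groth.Agent.H16Derived.CatLoc
import Mathlib.CategoryTheory.Localization.Opposite
import Mathlib.CategoryTheory.Localization.CalculusOfFractions.Preadditive
import Mathlib.CategoryTheory.Abelian.Opposite
import Mathlib.CategoryTheory.Limits.Preserves.Opposites
import Mathlib.CategoryTheory.Limits.Constructions.FiniteProductsOfBinaryProducts
import Mathlib.CategoryTheory.Limits.Preserves.Shapes.Kernels

set_option autoImplicit false
universe v v' u u'
open CategoryTheory CategoryTheory.Limits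
open CohDer

namespace Groth.Agent.S1072

open CategoryTheory.Limits

/-- Let A be an abelian category, W a class of morphisms admitting both left and right calculus of
fractions, and L : A ⥤ D a localization functor for W. Then D admits the structure of an abelian
category and L is exact (preserves finite limits and finite colimits). -/
theorem result {A : Type u} [Category.{v} A] [Abelian A]
    (W : MorphismProperty A) [W.HasLeftCalculusOfFractions] [W.HasRightCalculusOfFractions]
    {D : Type u'} [Category.{v'} D] (L : A ⥤ D) [L.IsLocalization W] :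
    Nonempty (Abelian D) ∧ PreservesFiniteLimits L ∧ PreservesFiniteColimits L := by
  have hcolim := Groth.Agent.H16Derived.preservesFiniteColimits W L
  have hlim : PreservesFiniteLimits L := by
    have := Groth.Agent.H16Derived.preservesFiniteColimits W.op L.op
    exact preservesFiniteLimits_of_op L
  let : Preadditive D := Localization.preadditive L W
  have : L.Additive := Localization.functor_additive L W
  have := Localization.essSurj L W
  have := Localization.essSurj_mapArrow L W
  have : HasZeroObject D := L.hasZeroObject_of_additive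
  have : HasBinaryProducts D := by
    have hp : ∀ X Y : D, HasLimit (pair X Y) := fun X Y => by
      let K := pair (L.objPreimage X) (L.objPreimage Y)
      have : HasLimit (K ⋙ L) := ⟨⟨⟨L.mapCone _, isLimitOfPreserves L (limit.isLimit K)⟩⟩⟩
      exact hasLimit_of_iso (F := K ⋙ L)
        (diagramIsoPair _ ≪≫ mapPairIso (L.objObjPreimageIso X) (L.objObjPreimageIso Y))
    exact hasBinaryProducts_of_hasLimit_pair D
  have : HasTerminal D := HasZeroObject.hasTerminal
  have : HasFiniteProducts D := hasFiniteProducts_of_has_binary_and_terminal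
  have hk : ∀ {X Y : D} (f : X ⟶ Y), HasKernel f := fun {X Y} f => by
    let f₀ := L.mapArrow.objPreimage (Arrow.mk f)
    let e : Arrow.mk (L.map f₀.hom) ≅ Arrow.mk f := L.mapArrow.objObjPreimageIso (Arrow.mk f)
    have : HasKernel (L.map f₀.hom) :=
      ⟨⟨⟨_, (KernelFork.isLimitMapConeEquiv (KernelFork.ofι _ (kernel.condition f₀.hom)) L
        (isLimitOfPreserves L (kernelIsKernel f₀.hom)))⟩⟩⟩
    have he : f = e.inv.left ≫ L.map f₀.hom ≫ e.hom.right := by
      have := e.hom.w
      have h' : e.hom.left ≫ f = L.map f₀.hom ≫ e.hom.right := this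
      rw [← h', ← Category.assoc, ← Arrow.comp_left, e.inv_hom_id, Arrow.id_left, Category.id_comp]
    rw [he]
    infer_instance
  have hc : ∀ {X Y : D} (f : X ⟶ Y), HasCokernel f := fun {X Y} f => by
    let f₀ := L.mapArrow.objPreimage (Arrow.mk f)
    let e : Arrow.mk (L.map f₀.hom) ≅ Arrow.mk f := L.mapArrow.objObjPreimageIso (Arrow.mk f)
    have : HasCokernel (L.map f₀.hom) :=
      ⟨⟨⟨_, (CokernelCofork.isColimitMapCoconeEquiv (CokernelCofork.ofπ _ (cokernel.condition f₀.hom)) L
        (isColimitOfPreserves L (cokernelIsCokernel f₀.hom)))⟩⟩⟩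
    have he : f = e.inv.left ≫ L.map f₀.hom ≫ e.hom.right := by
      have h' : e.hom.left ≫ f = L.map f₀.hom ≫ e.hom.right := e.hom.w
      rw [← h', ← Category.assoc, ← Arrow.comp_left, e.inv_hom_id, Arrow.id_left, Category.id_comp]
    rw [he]
    infer_instance
  have : HasKernels D := ⟨fun f => hk f⟩
  have : HasCokernels D := ⟨fun f => hc f⟩
  have hmono : ∀ {X Y : D} (m : X ⟶ Y), Mono m → Nonempty (NormalMono m) := fun {X Y} m _ => by
    let f₀ := L.mapArrow.objPreimage (Arrow.mk m)
    let e : Arrow.mk (L.map f₀.hom) ≅ Arrow.mk m := L.mapArrow.objObjPreimageIso (Arrow.mk m)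
    have hw : e.hom.left ≫ m = L.map f₀.hom ≫ e.hom.right := e.hom.w
    have : IsIso e.hom.left := inferInstanceAs (IsIso (Arrow.leftFunc.map e.hom))
    have : IsIso e.hom.right := inferInstanceAs (IsIso (Arrow.rightFunc.map e.hom))
    have : Mono (L.map f₀.hom) := by
      have : L.map f₀.hom = e.hom.left ≫ m ≫ inv e.hom.right := by
        rw [← Category.assoc, IsIso.eq_comp_inv]; exact hw.symm
      rw [this]; infer_instance
    have hfac := Abelian.image.fac f₀.hom
    have hmp : Mono (L.map (Abelian.factorThruImage f₀.hom)) := by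
      have : Mono (L.map (Abelian.factorThruImage f₀.hom) ≫ L.map (Abelian.image.ι f₀.hom)) := by
        rw [← L.map_comp, hfac]; infer_instance
      exact mono_of_mono _ (L.map (Abelian.image.ι f₀.hom))
    have hiso : IsIso (L.map (Abelian.factorThruImage f₀.hom)) := by
      let π₀ := Abelian.factorThruImage f₀.hom
      have hcol := CokernelCofork.isColimitMapCoconeEquiv
        (CokernelCofork.ofπ π₀ (kernel.condition π₀)) L
        (isColimitOfPreserves L (Abelian.epiIsCokernelOfKernel _ (limit.isLimit (parallelPair π₀ 0))))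
      have h0 : L.map (kernel.ι π₀) = 0 := by
        rw [← cancel_mono (L.map π₀), ← L.map_comp, kernel.condition, L.map_zero, zero_comp]
      exact CokernelCofork.IsColimit.isIso_π _ hcol h0
    let i₀ := Abelian.image.ι f₀.hom
    have hker := KernelFork.isLimitMapConeEquiv
      (KernelFork.ofι i₀ (cokernel.condition i₀)) L
      (isLimitOfPreserves L (Abelian.monoIsKernelOfCokernel _ (colimit.isColimit (parallelPair i₀ 0))))
    have hm : m = (inv e.hom.left ≫ L.map (Abelian.factorThruImage f₀.hom)) ≫ (L.map i₀ ≫ e.hom.right) := by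
      rw [Category.assoc, ← L.map_comp_assoc, hfac, ← hw, IsIso.inv_hom_id_assoc]
    have hg : m ≫ inv e.hom.right ≫ L.map (cokernel.π i₀) = 0 := by
      refine (congrArg (· ≫ inv e.hom.right ≫ L.map (cokernel.π i₀)) hm).trans ?_
      simp [i₀, ← L.map_comp, cokernel.condition]
    refine ⟨⟨L.obj (cokernel i₀), inv e.hom.right ≫ L.map (cokernel.π i₀), hg,
      KernelFork.IsLimit.ofι' _ _ fun {T} k hk => ?_⟩⟩
    obtain ⟨(l : T ⟶ L.obj (Abelian.image f₀.hom)), hl⟩ := KernelFork.IsLimit.lift' hker (k ≫ inv e.hom.right) (by simpa using hk)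
    refine ⟨l ≫ inv (L.map (Abelian.factorThruImage f₀.hom)) ≫ e.hom.left, ?_⟩
    have hl' : l ≫ L.map i₀ = k ≫ inv e.hom.right := hl
    refine (congrArg (_ ≫ ·) hm).trans ?_
    simp [reassoc_of% hl']
  have hepi : ∀ {X Y : D} (m : X ⟶ Y), Epi m → Nonempty (NormalEpi m) := fun {X Y} m _ => by
    let f₀ := L.mapArrow.objPreimage (Arrow.mk m)
    let e : Arrow.mk (L.map f₀.hom) ≅ Arrow.mk m := L.mapArrow.objObjPreimageIso (Arrow.mk m)
    have hw : e.hom.left ≫ m = L.map f₀.hom ≫ e.hom.right := e.hom.w
    have : IsIso e.hom.left := inferInstanceAs (IsIso (Arrow.leftFunc.map e.hom))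
    have : IsIso e.hom.right := inferInstanceAs (IsIso (Arrow.rightFunc.map e.hom))
    have : Epi (L.map f₀.hom) := by
      have : L.map f₀.hom = e.hom.left ≫ m ≫ inv e.hom.right := by
        rw [← Category.assoc, IsIso.eq_comp_inv]; exact hw.symm
      rw [this]; infer_instance
    have hfac := Abelian.coimage.fac f₀.hom
    have hmp : Epi (L.map (Abelian.factorThruCoimage f₀.hom)) := by
      have : Epi (L.map (Abelian.coimage.π f₀.hom) ≫ L.map (Abelian.factorThruCoimage f₀.hom)) := by
        rw [← L.map_comp, hfac]; infer_instance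
      exact epi_of_epi (L.map (Abelian.coimage.π f₀.hom)) _
    have hiso : IsIso (L.map (Abelian.factorThruCoimage f₀.hom)) := by
      let ι₀ := Abelian.factorThruCoimage f₀.hom
      have hlim := KernelFork.isLimitMapConeEquiv
        (KernelFork.ofι ι₀ (cokernel.condition ι₀)) L
        (isLimitOfPreserves L (Abelian.monoIsKernelOfCokernel _ (colimit.isColimit (parallelPair ι₀ 0))))
      have h0 : L.map (cokernel.π ι₀) = 0 := by
        rw [← cancel_epi (L.map ι₀), ← L.map_comp, cokernel.condition, L.map_zero, comp_zero]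
      exact KernelFork.IsLimit.isIso_ι _ hlim h0
    let p₀ := Abelian.coimage.π f₀.hom
    have hcok := CokernelCofork.isColimitMapCoconeEquiv
      (CokernelCofork.ofπ p₀ (kernel.condition p₀)) L
      (isColimitOfPreserves L (Abelian.epiIsCokernelOfKernel _ (limit.isLimit (parallelPair p₀ 0))))
    have hm : m = (inv e.hom.left ≫ L.map p₀) ≫ (L.map (Abelian.factorThruCoimage f₀.hom) ≫ e.hom.right) := by
      rw [Category.assoc, ← L.map_comp_assoc, hfac, ← hw, IsIso.inv_hom_id_assoc]
    have hg : (L.map (kernel.ι p₀) ≫ e.hom.left) ≫ m = 0 := by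
      refine (congrArg ((L.map (kernel.ι p₀) ≫ e.hom.left) ≫ ·) hm).trans ?_
      simp only [Category.assoc, IsIso.hom_inv_id_assoc]
      rw [← L.map_comp_assoc, kernel.condition, L.map_zero, zero_comp]
    refine ⟨⟨L.obj (kernel p₀), L.map (kernel.ι p₀) ≫ e.hom.left, hg,
      CokernelCofork.IsColimit.ofπ' _ _ fun {T} k hk => ?_⟩⟩
    obtain ⟨(l : L.obj (Abelian.coimage f₀.hom) ⟶ T), hl⟩ := CokernelCofork.IsColimit.desc' hcok (e.hom.left ≫ k) (by simpa using hk)
    refine ⟨inv e.hom.right ≫ inv (L.map (Abelian.factorThruCoimage f₀.hom)) ≫ l, ?_⟩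
    have hl' : L.map p₀ ≫ l = e.hom.left ≫ k := hl
    refine (congrArg (· ≫ _) hm).trans ?_
    simp [hl']
  refine ⟨⟨?_⟩, hlim, hcolim⟩
  exact
    { normalMonoOfMono := fun m _ => hmono m inferInstance
      normalEpiOfEpi := fun m _ => hepi m inferInstance }

end Groth.Agent.S1072
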