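import Groth.Statements.S10721
import Groth.Agent.H9Hens.GlueFlat
import Mathlib.RingTheory.TensorProduct.Maps
-- import your own Groth.Agent.* helpers here

set_option autoImplicit false
universe u
open TensorProduct
open EtAlg

namespace Groth.Agent.S10721

open scoped TensorProduct

/-- Glueing along a glueing pair detects closed immersions of affine schemes, stated for coordinate
rings. Let `(R → R', f)` be a glueing pair and `φ : A → B` a homomorphism of `R`-algebras with `A`,
`B` glueable as `R`-modules (so `Spec A`, `Spec B` are affine and glueable over `Spec R`). Then `φ`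
is surjective (a closed immersion on spectra) if and only if `A_f → B_f` and `R' ⊗_R A → R' ⊗_R B`
are surjective. -/
theorem result (R : Type u) [CommRing R] (R' : Type u) [CommRing R'] [Algebra R R'] (f : R)
    (hRR' : EtGlue.IsGlueingPair R R' f) (A B : Type u) [CommRing A] [Algebra R A] [CommRing B] [Algebra R B]
    (hA : EtGlue.IsGlueable R R' f A) (hB : EtGlue.IsGlueable R R' f B) (φ : A →ₐ[R] B) :
    Function.Surjective φ ↔
      Function.Surjective (Localization.awayMap φ.toRingHom (algebraMap R A f)) ∧ Function.Surjective (Algebra.TensorProduct.map (AlgHom.id R R') φ).toRingHom := by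
  constructor
  · intro hφ
    refine ⟨fun z => ?_, fun z => ?_⟩
    · obtain ⟨n, b, hb⟩ := IsLocalization.Away.surj (φ.toRingHom (algebraMap R A f)) z
      obtain ⟨a, rfl⟩ := hφ b
      obtain ⟨v, hv⟩ := ((IsLocalization.Away.algebraMap_isUnit
        (S := Localization.Away (algebraMap R A f)) (algebraMap R A f)).pow n).exists_left_inv
      refine ⟨algebraMap A _ a * v, ?_⟩
      refine ((IsLocalization.Away.algebraMap_isUnit (φ.toRingHom (algebraMap R A f))).pow n).mul_left_inj.mp ?_
      have h1 := congrArg (Localization.awayMap φ.toRingHom (algebraMap R A f)) hv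
      rw [map_mul, map_pow, map_one, show Localization.awayMap φ.toRingHom (algebraMap R A f)
        (algebraMap A _ (algebraMap R A f)) = _ from IsLocalization.map_eq _ _] at h1
      rw [map_mul, mul_assoc, h1, mul_one, hb]
      exact IsLocalization.map_eq _ _
    · induction z using TensorProduct.induction_on with
      | zero => exact ⟨0, map_zero _⟩
      | tmul r b =>
        obtain ⟨a, rfl⟩ := hφ b
        exact ⟨r ⊗ₜ a, rfl⟩
      | add x y hx hy =>
        obtain ⟨a, rfl⟩ := hx
        obtain ⟨b, rfl⟩ := hy
        exact ⟨a + b, map_add _ _ _⟩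
  · rintro ⟨h₁, h'⟩
    rw [← AlgHom.coe_toLinearMap, ← LinearMap.range_eq_top]
    refine H9Hens.Glue.eq_top_of_baseChange hRR'.1 _ (fun z => ?_) fun b => ?_
    · obtain ⟨w, rfl⟩ := h' z
      induction w using TensorProduct.induction_on with
      | zero => exact ⟨0, by simp⟩
      | tmul r a => exact ⟨r ⊗ₜ ⟨φ a, a, rfl⟩, rfl⟩
      | add x y hx hy =>
        obtain ⟨a, ha⟩ := hx
        obtain ⟨b, hb⟩ := hy
        exact ⟨a + b, by rw [map_add, map_add, ha, hb]⟩
    · obtain ⟨y, hy⟩ := h₁ (algebraMap B _ b)
      obtain ⟨n, a, ha⟩ := IsLocalization.Away.surj (algebraMap R A f) y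
      have h1 := congrArg (Localization.awayMap φ.toRingHom (algebraMap R A f)) ha
      rw [map_mul, hy, map_pow, show Localization.awayMap φ.toRingHom (algebraMap R A f)
        (algebraMap A _ (algebraMap R A f)) = _ from IsLocalization.map_eq _ _,
        show Localization.awayMap φ.toRingHom (algebraMap R A f)
        (algebraMap A _ a) = _ from IsLocalization.map_eq _ _, ← map_pow, ← map_mul, ← sub_eq_zero,
        ← map_sub, H9Hens.Glue.algebraMap_away_eq_zero_iff] at h1
      obtain ⟨k, hk⟩ := h1
      refine ⟨k + n, algebraMap R A f ^ k * a, ?_⟩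
      show φ (algebraMap R A f ^ k * a) = f ^ (k + n) • b
      rw [mul_sub, sub_eq_zero] at hk
      simp only [AlgHom.toRingHom_eq_coe, RingHom.coe_coe, AlgHom.commutes] at hk
      rw [map_mul, map_pow, AlgHom.commutes, ← hk, Algebra.smul_def, pow_add, map_mul, map_pow,
        map_pow]
      ring

end Groth.Agent.S10721
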