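import Groth.Statements.S10723
import Groth.Agent.H9Hens.GlueAlg
-- import your own Groth.Agent.* helpers here

set_option autoImplicit false
universe u
open TensorProduct
open EtAlg

namespace Groth.Agent.S10723

attribute [local instance] Algebra.TensorProduct.rightAlgebra
open scoped TensorProduct

/-- Glueing along a glueing pair detects morphisms of affine schemes that are flat and of finite
presentation, stated for coordinate rings. Let `(R → R', f)` be a glueing pair and `φ : A → B` a
homomorphism of `R`-algebras with `A`, `B` glueable as `R`-modules (so `Spec A`, `Spec B` are affine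
and glueable over `Spec R`). Then `φ` is flat and of finite presentation if and only if `A_f → B_f`
and `R' ⊗_R A → R' ⊗_R B` are. -/
theorem result (R : Type u) [CommRing R] (R' : Type u) [CommRing R'] [Algebra R R'] (f : R)
    (hRR' : EtGlue.IsGlueingPair R R' f) (A B : Type u) [CommRing A] [Algebra R A] [CommRing B] [Algebra R B]
    (hA : EtGlue.IsGlueable R R' f A) (hB : EtGlue.IsGlueable R R' f B) (φ : A →ₐ[R] B) :
    (φ.toRingHom.Flat ∧ φ.toRingHom.FinitePresentation) ↔
      ((Localization.awayMap φ.toRingHom (algebraMap R A f)).Flat ∧ (Localization.awayMap φ.toRingHom (algebraMap R A f)).FinitePresentation) ∧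
        ((Algebra.TensorProduct.map (AlgHom.id R R') φ).toRingHom.Flat ∧ (Algebra.TensorProduct.map (AlgHom.id R R') φ).toRingHom.FinitePresentation) := by
  refine H9Hens.Glue.detect (f := f) A B φ (fun g => g.Flat ∧ g.FinitePresentation)
    (RingHom.Flat.isStableUnderBaseChange.and RingHom.finitePresentation_isStableUnderBaseChange)
    (RingHom.Flat.respectsIso.and RingHom.finitePresentation_respectsIso) fun C _ _ h' h₁ => ?_
  haveI := RingHom.flat_algebraMap_iff.mp h'.1
  haveI := RingHom.flat_algebraMap_iff.mp h₁.1
  haveI := RingHom.finitePresentation_algebraMap.mp h'.2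
  haveI := RingHom.finitePresentation_algebraMap.mp h₁.2
  have hp := H9Hens.Glue.isGlueingPair_tensor A hRR'.1 hA
  exact ⟨RingHom.flat_algebraMap_iff.mpr (H9Hens.Glue.flat_of_baseChange (L := C) hp),
    RingHom.finitePresentation_algebraMap.mpr
      (H9Hens.Glue.algebra_finitePresentation_of_baseChange (B := C) hp)⟩

end Groth.Agent.S10723
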