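import Groth.Statements.S10726
import Groth.Agent.H13AlgSp.GlueGlobal

set_option autoImplicit false
universe u
open CategoryTheory CategoryTheory.Limits AlgebraicGeometry TensorProduct
open AlgSp

namespace Groth.Agent.S10726

/-- Let `(R → R', f)` be a glueing pair, `X = Spec R`, `U = Spec R_f`, `X' = Spec R'`, `U' = U ×_X X'`,
and let `Y`, `Z` be algebraic spaces over `X`, glueable for `(R → R', f)`, with `Z` having affine
diagonal over `X`. Then morphisms `a : U ×_X Y → U ×_X Z` over `U` and `b : X' ×_X Y → X' ×_X Z`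
over `X'` that induce the same morphism over `U'` are induced by a unique morphism `Y → Z` over `X`.
(The published statement asks both spaces to have affine diagonal over `X`; this row asks it only of
`Z`, which is all the argument uses.) -/
theorem result (R : Type u) [CommRing R] (R' : Type u) [CommRing R'] [Algebra R R']
    (f : R) (hRR' : EtGlue.IsGlueingPair R R' f) {Y Z YU ZU YX ZX YU' ZU' : AlgSp.Space (Spec (CommRingCat.of R))}
    (hY : (∀ (A : Type u) [CommRing A] [Algebra R A]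
      (g : (AlgSp.yon (Spec (CommRingCat.of R))).obj (Over.mk (Spec.map (CommRingCat.ofHom (algebraMap R A))) : Over (Spec (CommRingCat.of R))) ⟶ Y.obj),
      AlgSp.RepWith @Etale g → EtGlue.IsGlueable R R' f A))
    (hZ : (∀ (A : Type u) [CommRing A] [Algebra R A]
      (g : (AlgSp.yon (Spec (CommRingCat.of R))).obj (Over.mk (Spec.map (CommRingCat.ofHom (algebraMap R A))) : Over (Spec (CommRingCat.of R))) ⟶ Z.obj),
      AlgSp.RepWith @Etale g → EtGlue.IsGlueable R R' f A))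
    (hZd : AlgSp.IsAffineMor (Limits.diag Z.obj)) (πY : Y.obj ⟶ (AlgSp.yon (Spec (CommRingCat.of R))).obj (Over.mk (𝟙 _)))
    (πZ : Z.obj ⟶ (AlgSp.yon (Spec (CommRingCat.of R))).obj (Over.mk (𝟙 _)))
    (inU : (Over.mk (Spec.map (CommRingCat.ofHom (algebraMap R (Localization.Away f)))) : Over (Spec (CommRingCat.of R))) ⟶ Over.mk (𝟙 _))
    (inX : (Over.mk (Spec.map (CommRingCat.ofHom (algebraMap R R'))) : Over (Spec (CommRingCat.of R))) ⟶ Over.mk (𝟙 _))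
    (uY : YU ⟶ Y) (sY : YU.obj ⟶ (AlgSp.yon (Spec (CommRingCat.of R))).obj (Over.mk (Spec.map (CommRingCat.ofHom (algebraMap R (Localization.Away f)))) : Over (Spec (CommRingCat.of R))))
    (hYU : IsPullback uY.hom sY πY ((AlgSp.yon (Spec (CommRingCat.of R))).map inU))
    (uZ : ZU ⟶ Z) (sZ : ZU.obj ⟶ (AlgSp.yon (Spec (CommRingCat.of R))).obj (Over.mk (Spec.map (CommRingCat.ofHom (algebraMap R (Localization.Away f)))) : Over (Spec (CommRingCat.of R))))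
    (hZU : IsPullback uZ.hom sZ πZ ((AlgSp.yon (Spec (CommRingCat.of R))).map inU))
    (xY : YX ⟶ Y) (rY : YX.obj ⟶ (AlgSp.yon (Spec (CommRingCat.of R))).obj (Over.mk (Spec.map (CommRingCat.ofHom (algebraMap R R'))) : Over (Spec (CommRingCat.of R))))
    (hYX : IsPullback xY.hom rY πY ((AlgSp.yon (Spec (CommRingCat.of R))).map inX))
    (xZ : ZX ⟶ Z) (rZ : ZX.obj ⟶ (AlgSp.yon (Spec (CommRingCat.of R))).obj (Over.mk (Spec.map (CommRingCat.ofHom (algebraMap R R'))) : Over (Spec (CommRingCat.of R))))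
    (hZX : IsPullback xZ.hom rZ πZ ((AlgSp.yon (Spec (CommRingCat.of R))).map inX))
    (mY₁ : YU' ⟶ YU) (mY₂ : YU' ⟶ YX) (hYU' : IsPullback mY₁.hom mY₂.hom uY.hom xY.hom)
    (mZ₁ : ZU' ⟶ ZU) (mZ₂ : ZU' ⟶ ZX) (hZU' : IsPullback mZ₁.hom mZ₂.hom uZ.hom xZ.hom)
    (a : YU ⟶ ZU) (ha : a.hom ≫ sZ = sY) (b : YX ⟶ ZX) (hb : b.hom ≫ rZ = rY) (c : YU' ⟶ ZU')
    (hc₁ : c ≫ mZ₁ = mY₁ ≫ a) (hc₂ : c ≫ mZ₂ = mY₂ ≫ b) :
    ∃! φ : Y ⟶ Z, uY ≫ φ = a ≫ uZ ∧ xY ≫ φ = b ≫ xZ := by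
  have hagree : ∀ (T : Over (Spec (CommRingCat.of R))) (p : (yon _).obj T ⟶ YU.obj) (q : (yon _).obj T ⟶ YX.obj),
      p ≫ uY.hom = q ≫ xY.hom → p ≫ (a ≫ uZ).hom = q ≫ (b ≫ xZ).hom := by
    intro T p q e
    let r := hYU'.lift p q e
    have h1 : c.hom ≫ mZ₁.hom = mY₁.hom ≫ a.hom := congrArg InducedCategory.Hom.hom hc₁
    have h2 : c.hom ≫ mZ₂.hom = mY₂.hom ≫ b.hom := congrArg InducedCategory.Hom.hom hc₂
    calc p ≫ (a ≫ uZ).hom = (r ≫ mY₁.hom) ≫ a.hom ≫ uZ.hom := by rw [hYU'.lift_fst]; rfl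
      _ = r ≫ c.hom ≫ mZ₁.hom ≫ uZ.hom := by rw [Category.assoc, reassoc_of% h1]
      _ = r ≫ c.hom ≫ mZ₂.hom ≫ xZ.hom := by rw [hZU'.w]
      _ = (r ≫ mY₂.hom) ≫ b.hom ≫ xZ.hom := by rw [reassoc_of% h2, Category.assoc]
      _ = q ≫ (b ≫ xZ).hom := by rw [hYU'.lift_snd]; rfl
  have d : Groth.Agent.H13AlgSp.GlueGlobal.Data R' f uY.hom xY.hom (a ≫ uZ).hom (b ≫ xZ).hom :=
    ⟨hRR', Y.property, Z.property, hZd, hY, ⟨πY, inU, sY, hYU⟩, ⟨πY, inX, rY, hYX⟩, hagree⟩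
  obtain ⟨φ, h1, h2⟩ := Groth.Agent.H13AlgSp.GlueGlobal.exists_hom d
  refine ⟨ObjectProperty.homMk φ, ⟨ObjectProperty.hom_ext _ h1, ObjectProperty.hom_ext _ h2⟩, fun φ' h' => ?_⟩
  refine ObjectProperty.hom_ext _ (Groth.Agent.H13AlgSp.GlueEq.eq_of_glueingPair hRR'.1 Y.property Z.property hY
    φ'.hom φ πY hYU hYX ?_ ?_)
  · exact (congrArg InducedCategory.Hom.hom h'.1).trans h1.symm
  · exact (congrArg InducedCategory.Hom.hom h'.2).trans h2.symm

end Groth.Agent.S10726
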