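import Groth.Statements.S10733
import Groth.Agent.H13Chow.SchemeCover
-- import your own Groth.Agent.* helpers here

set_option autoImplicit false
set_option backward.isDefEq.respectTransparency false
universe u
open CategoryTheory CategoryTheory.Limits AlgebraicGeometry Opposite
open AlgSp

namespace Groth.Agent.S10733

/-- Let S be an affine scheme and X an algebraic space over S whose structure morphism p to h_S (S over
itself by the identity) is separated and of finite type. Then there are a scheme X' over S whose
structure morphism X' ⟶ S is H-quasi-projective (a quasi-compact immersion into some projective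
space over S) and a proper surjective morphism h_{X'} ⟶ X. -/
theorem result {S : Scheme.{u}} [IsAffine S] (X : AlgSp.Space S)
    (p : X.obj ⟶ (AlgSp.yon S).obj (Over.mk (𝟙 S)))
    (hsep : AlgSp.IsSeparatedMor p) (hft : AlgSp.IsFiniteTypeMor p) :
    ∃ (T : Over S) (g : (AlgSp.yon S).obj T ⟶ X.obj),
      RelProj.IsHQuasiProjective T.hom ∧ AlgSp.IsProperMor g ∧ AlgSp.IsSurjectiveMor g := by
  obtain ⟨T, g, hT, hg, hs⟩ := Groth.Agent.H13Chow.exists_chow_affine X.property p hsep hft
  exact ⟨T, g, hT, hg, hs⟩

end Groth.Agent.S10733
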