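import Groth.Statements.S10735
import Groth.Agent.H13Serre.Affine
import Groth.Agent.H13Serre.Coh
-- import your own Groth.Agent.* helpers here

set_option autoImplicit false
set_option backward.isDefEq.respectTransparency false
universe u
open CategoryTheory CategoryTheory.Limits AlgebraicGeometry Opposite
open AlgSp

namespace Groth.Agent.S10735

/-- Let X be a Noetherian algebraic space (quasi-compact, quasi-separated, locally Noetherian) over a
quasi-separated scheme S such that H^1(X, M) = 0 for every coherent O_X-module M on the small etale
site of X (coherent meaning of finite presentation, X being locally Noetherian). Then X is an affine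
scheme: there is an affine scheme T over S with h_T ≅ X. -/
theorem result {S : Scheme.{u}}
    [QuasiSeparatedSpace ↥S] (X : AlgSp.Space S) (hqc : AlgSp.IsQuasiCompactSp X.obj)
    (hqs : AlgSp.IsQuasiSeparatedSp X.obj) (hN : AlgSp.IsLocNoethSp X.obj)
    (h1 : ∀ M : AlgSp.ModEt X.obj, M.IsFinitePresentation → Subsingleton (AlgSp.HModEt X.obj M 1)) :
    ∃ T : Over S, IsAffine T.left ∧ Nonempty ((AlgSp.yon S).obj T ≅ X.obj) := by
  refine Groth.Agent.H13Serre.exists_iso_affine X.property hqc hqs fun M hM => ?_
  haveI := hM
  exact Groth.Agent.H13Serre.subsingleton_h1_of_coh X hqc hqs hN h1 M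

end Groth.Agent.S10735
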