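import Groth.Statements.S10743
import Groth.Agent.H13EtMod.Coh

set_option autoImplicit false
universe u
open CategoryTheory CategoryTheory.Limits AlgebraicGeometry Opposite
open AlgSp

namespace Groth.Agent.S10743

/-- Let X be a locally Noetherian algebraic space over S and 0 ⟶ M₁ ⟶ M₂ ⟶ M₃ ⟶ 0 a short exact sequence
of O_X-modules on the small etale site of X with M₁ and M₃ coherent (of finite presentation, X being
locally Noetherian). Then M₂ is coherent. -/
theorem result {S : Scheme.{u}} (X : AlgSp.Space S)
    (hX : AlgSp.IsLocNoethSp X.obj) (T : ShortComplex (AlgSp.ModEt X.obj)) (hT : T.ShortExact)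
    [T.X₁.IsFinitePresentation] [T.X₃.IsFinitePresentation] :
    T.X₂.IsFinitePresentation := by
  exact Groth.Agent.H13EtMod.isFinitePresentation_extension X.property hX T hT

end Groth.Agent.S10743
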