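import Groth.Statements.S10746
import Groth.Agent.H13EtMod.Push

set_option autoImplicit false
universe u
open CategoryTheory CategoryTheory.Limits AlgebraicGeometry Opposite
open AlgSp

namespace Groth.Agent.S10746

/-- Take a finite morphism f : X ⟶ Y of algebraic spaces over S whose target Y is locally Noetherian;
such a morphism is representable, and the representability is carried as a hypothesis. Let M be a
coherent O_X-module on the small etale site of X (of finite presentation; X is locally Noetherian as
well). Then the O_Y-module f_* M is coherent (of finite presentation). (The vanishing of R^p f_* M
for p > 0, which holds for every integral morphism and every abelian sheaf, is not repeated here.) -/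
theorem result {S : Scheme.{u}} {X Y : AlgSp.Space S} (f : X ⟶ Y)
    (hf : AlgSp.Representable f.hom) (hfin : AlgSp.IsFiniteMor f.hom) (hY : AlgSp.IsLocNoethSp Y.obj)
    (M : AlgSp.ModEt X.obj) [M.IsFinitePresentation] :
    ((AlgSp.pushModEt hf).obj M).IsFinitePresentation := by
  exact Groth.Agent.H13EtMod.isFinitePresentation_push X.property Y.property hf hfin hY M

end Groth.Agent.S10746
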