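import Groth.Statements.S10747
import Groth.Agent.H13EtMod.Coh

set_option autoImplicit false
universe u
open CategoryTheory CategoryTheory.Limits AlgebraicGeometry Opposite
open AlgSp

namespace Groth.Agent.S10747

/-- Let X be a Noetherian algebraic space over S (quasi-compact, quasi-separated, locally Noetherian)
and M a coherent O_X-module on the small etale site of X (of finite presentation, X being locally
Noetherian). Then every increasing sequence N₁ ≤ N₂ ≤ … of subobjects of M whose underlying modules
are quasi-coherent is eventually constant. -/
theorem result {S : Scheme.{u}} (X : AlgSp.Space S)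
    (hqc : AlgSp.IsQuasiCompactSp X.obj) (hqs : AlgSp.IsQuasiSeparatedSp X.obj) (hN : AlgSp.IsLocNoethSp X.obj)
    (M : AlgSp.ModEt X.obj) [M.IsFinitePresentation] (N : ℕ →o Subobject M)
    (hq : ∀ n, (Subobject.underlying.obj (N n)).IsQuasicoherent) :
    ∃ n, ∀ m, n ≤ m → N m = N n := by
  exact Groth.Agent.H13EtMod.chain_stabilizes X.property hqc hN M N hq

end Groth.Agent.S10747
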