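import Groth.Statements.S1075
import Groth.Agent.H16Derived.KInjRes.Countable

set_option autoImplicit false
universe w v u
open CategoryTheory CategoryTheory.Limits
open CohDer

namespace Groth.Agent.S1075

/-- In D(A), for A abelian with enough injectives and countable products, every sequence of
bounded-below objects has a product, so derived limits of such sequences exist. -/
theorem result {A : Type u} [Category.{v} A] [Abelian A] [HasDerivedCategory.{w} A]
    [HasLimitsOfShape (Discrete ℕ) A] [EnoughInjectives A]
    (K : ℕ → DerivedCategory A) (hK : ∀ n, ∃ a : ℤ, (K n).IsGE a) : HasProduct K := by
  exact H16Derived.KInjRes.Countable.hasProduct_of_isGE K hK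

end Groth.Agent.S1075
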