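import Groth.Statements.S10750
import Groth.Agent.S10650
import Groth.Agent.S10444
import Groth.Agent.H13AlgSp.DecentApps
-- import your own Groth.Agent.* helpers here

set_option autoImplicit false
set_option backward.isDefEq.respectTransparency false
universe u
open CategoryTheory CategoryTheory.Limits AlgebraicGeometry Opposite
open AlgSp

namespace Groth.Agent.S10750
open Groth.Agent.H12AlgSp Groth.Agent.H13AlgSp

/-- Take a proper morphism f : X ⟶ Y of algebraic spaces over S whose target Y is locally Noetherian,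
and let y be a geometric point of Y such that the fibre X_y (a pullback of f along the corresponding
morphism from the spectrum of the algebraically closed field) has finitely many points. Then there
is an open subspace V of Y containing the image of y such that the base change X ×_Y V ⟶ V is
finite. -/
theorem result {S : Scheme.{u}} {X Y : AlgSp.Space S}
    (f : X ⟶ Y) (hY : AlgSp.IsLocNoethSp Y.obj) (hf : AlgSp.IsProperMor f.hom) (y : AlgSp.FieldPt Y.obj)
    (hy : y.IsGeometric) (Xy : AlgSp.Sp S) (fst : Xy ⟶ X.obj) (snd : Xy ⟶ (AlgSp.yon S).obj y.pt)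
    (hsq : IsPullback fst snd f.hom y.toHom) (hfin : Finite (AlgSp.Points Xy)) :
    ∃ (V : AlgSp.Space S) (j : V ⟶ Y), AlgSp.RepWith @IsOpenImmersion j.hom ∧
      AlgSp.Points.mk y ∈ Set.range (AlgSp.Points.map j.hom) ∧
        ∀ (P : AlgSp.Space S) (fst' : P ⟶ X) (snd' : P ⟶ V), IsPullback fst'.hom snd'.hom f.hom j.hom →
          AlgSp.IsFiniteMor snd'.hom := by
  have hXy : IsAlgSpace Xy :=
    Groth.Agent.H12AlgSp.isAlgSpace_of_isPullback Y.property.diag X.property (IsAlgSpace.yon_obj y.pt) hsq
  have : IsAffine y.pt.left := inferInstanceAs (IsAffine (Spec (CommRingCat.of y.K)))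
  have hdec : IsDecent Xy := Groth.Agent.H13AlgSp.isDecent_of_qs_over_affine hXy (s := snd)
    (Groth.Agent.H12AlgSp.repWith_le (P := @IsClosedImmersion) (Q := @QuasiCompact) (fun _ _ g h => by have : IsClosedImmersion g := h; exact inferInstanceAs (QuasiCompact g))
      (repWith_of_isPullback (isPullback_diagonal hsq) hf.1))
  obtain ⟨V, j, hj, hmem, hP⟩ := Groth.Agent.S10650.result f (Points.mk y) hf (fun x hx => by
    obtain ⟨h1, h2, -, -, h5, -⟩ := Groth.Agent.S10444.result f hf.2.1.1 y ⟨x, hx⟩ ⟨Xy, hXy⟩
      ⟨fst⟩ snd hsq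
    exact h2.1 (h1.1 (h5 hdec hfin)) x hx)
  exact ⟨V, j, hj, hmem, hP⟩

end Groth.Agent.S10750
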