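import Groth.Statements.S10753
import Groth.Agent.H13AlgSp.AffShift
import Groth.Agent.H13AlgSp.AffineLocal
import Groth.Agent.H12AlgSp.BCMod.PushQcqs
import Groth.Agent.H12AlgSp.AffineMor

set_option autoImplicit false
universe u
open CategoryTheory CategoryTheory.Limits AlgebraicGeometry Opposite
open AlgSp

namespace Groth.Agent.S10753

open Groth.Agent Groth.Agent.H12AlgSp


/-- Let X be a quasi-compact algebraic space, quasi-separated over a quasi-separated base scheme S, such
that H^1(X, M) = 0 for every quasi-coherent O_X-module M on the small etale site of X, and let f :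
X' ⟶ X be an affine morphism of algebraic spaces. Then H^1(X', M') = 0 for every quasi-coherent
O_{X'}-module M'. (The companion statement about base change along a ring map out of the ring of
global functions of X is not included.) -/
theorem result {S : Scheme.{u}} [QuasiSeparatedSpace ↥S]
    {X' X : AlgSp.Space S} (hqc : AlgSp.IsQuasiCompactSp X.obj) (hqs : AlgSp.IsQuasiSeparatedSp X.obj)
    (h1 : ∀ M : AlgSp.ModEt X.obj, M.IsQuasicoherent → Subsingleton (AlgSp.HModEt X.obj M 1))
    (f : X' ⟶ X) (haff : AlgSp.IsAffineMor f.hom)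
    (M' : AlgSp.ModEt X'.obj) [M'.IsQuasicoherent] :
    Subsingleton (AlgSp.HModEt X'.obj M' 1) := by
  have hr : RepWith @IsAffineHom f.hom := H13AlgSp.isAffineMor_iff.1 haff
  have hq : IsQuasiCompactMor f.hom := isQuasiCompactMor_of_repWith X'.property X.property
    (repWith_le (P := @IsAffineHom) (Q := @QuasiCompact) (fun _ _ g _ => inferInstance) hr)
  have hs : IsQuasiSeparatedMor f.hom := isQuasiSeparatedMor_of_isSeparatedMor
    (isSeparatedMor_of_repWith (repWith_le (P := @IsAffineHom) (Q := @IsSeparated) (fun _ _ g _ => inferInstance) hr))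
  have hM : ((pushModEt hr.1).obj M').IsQuasicoherent := BCMod.isQuasicoherent_pushModEt hr.1 M' hq hs
  obtain ⟨e⟩ := H13AlgSp.AffVanish.nonempty_hEt_push hr.1 (H13AlgSp.AffVanish.bcSieve_mem hr.1 X.property) haff 1
    ((toAbEt X'.obj).obj M') (H13AlgSp.AffVanish.isAffAcyclic_toAbEt M')
  haveI : Subsingleton (HEt X.obj ((pushEt hr.1 AddCommGrpCat.{u + 1}).obj ((toAbEt X'.obj).obj M')) 1) := h1 _ hM
  exact e.injective.subsingleton

end Groth.Agent.S10753
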