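import Groth.Statements.S10755
import Groth.Agent.H13EtMod.Annihilator

set_option autoImplicit false
universe u
open CategoryTheory CategoryTheory.Limits AlgebraicGeometry Opposite
open AlgSp

namespace Groth.Agent.S10755

/-- Let X be a Noetherian algebraic space over S (quasi-compact, quasi-separated, locally Noetherian), M
a coherent O_X-module on the small etale site of X (of finite presentation, X being locally
Noetherian), I a quasi-coherent sheaf of ideals on X and i : Z ⟶ X the closed subspace cut out by I.
Then I^n M = 0 for some n ≥ 0 (on every affine object U of the site the ideal I^n(U) annihilates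
every section of M over U) if and only if the support of M is contained in |Z| set-theoretically
(the stalk of M at every geometric point of X whose image in |X| is not in |Z| vanishes). -/
theorem result {S : Scheme.{u}} (X : AlgSp.Space S)
    (hqc : AlgSp.IsQuasiCompactSp X.obj) (hqs : AlgSp.IsQuasiSeparatedSp X.obj) (hN : AlgSp.IsLocNoethSp X.obj)
    (M : AlgSp.ModEt X.obj) [M.IsFinitePresentation] (I : AlgSp.IdealEt X.obj) (hI : I.IsQCoh)
    {Z : AlgSp.Space S} (i : Z ⟶ X) (hZ : AlgSp.IsCutOutBy I i.hom) :
    (∃ n : ℕ, ∀ (E : AlgSp.EtOver X.obj) (hE : IsAffine E.obj.left.left) (s : AlgSp.sectModEt M E),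
        (I ^ n).ideal E hE ≤ AlgSp.annSect s) ↔
      ∀ x : AlgSp.FieldPt X.obj, x.IsGeometric → AlgSp.Points.mk x ∉ Set.range (AlgSp.Points.map i.hom) →
        IsZero (AlgSp.stalkEt x ((AlgSp.toAbEt X.obj).obj M)) := by
  refine ⟨fun ⟨n, h⟩ x hx hxZ => ?_, Groth.Agent.H13EtMod.exists_kills X.property hqc hN hI hZ M⟩
  have key : ∀ z : ((AlgSp.stalkEt x ((AlgSp.toAbEt X.obj).obj M) : AddCommGrpCat.{u + 1}) : Type (u + 1)), z = 0 := by
    intro z
    obtain ⟨E, l, s, rfl⟩ := Groth.Agent.H13EtMod.exists_germ X.property hx M z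
    exact Groth.Agent.H13EtMod.germ_eq_zero_of_kills X.property hZ h hx hxZ l s
  have := subsingleton_of_forall_eq (α := ((AlgSp.stalkEt x ((AlgSp.toAbEt X.obj).obj M) : AddCommGrpCat.{u + 1}) : Type (u + 1))) 0 key
  exact AddCommGrpCat.isZero_of_subsingleton _

end Groth.Agent.S10755
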