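import Groth.Statements.S10760
import Groth.Agent.H12AlgSp.UnivClosedQC
import Groth.Agent.H12AlgSp.Proper
import Groth.Agent.H12AlgSp.LocP

set_option autoImplicit false
universe u
open CategoryTheory CategoryTheory.Limits AlgebraicGeometry
open AlgSp

namespace Groth.Agent.S10760

open Groth.Agent.H12AlgSp


/-- Let f : X ⟶ Y be a morphism of algebraic spaces over S that is locally of finite type, and let i : Z
⟶ X, i' : Z' ⟶ X be closed subspaces (representable closed immersions) with the same image in |X|.
If the composite Z ⟶ Y is proper, then so is Z' ⟶ Y. (That properness of every closed subspace with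
support T implies properness of the reduced one, and that this implies properness of some closed
subspace with support T, is immediate.) -/
theorem result {S : Scheme.{u}} {X Y Z Z' : AlgSp.Space S}
    (f : X ⟶ Y) (hf : AlgSp.LocP @LocallyOfFiniteType f.hom)
    (i : Z ⟶ X) (i' : Z' ⟶ X)
    (hi : AlgSp.RepWith @IsClosedImmersion i.hom) (hi' : AlgSp.RepWith @IsClosedImmersion i'.hom)
    (heq : Set.range (AlgSp.Points.map i.hom) = Set.range (AlgSp.Points.map i'.hom))
    (hZ : AlgSp.IsProperMor (i ≫ f).hom) :
    AlgSp.IsProperMor (i' ≫ f).hom := by
  have sq := IsPullback.of_hasPullback i.hom i'.hom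
  let W := pullback i.hom i'.hom
  have hW : AlgSp.IsAlgSpace W := isAlgSpace_pullback X.property.diag Z.property Z'.property i.hom i'.hom
  have ha : AlgSp.IsProperMor (pullback.fst i.hom i'.hom) :=
    isProperMor_of_isPullback Z'.property X.property Z.property sq.flip
      (isProperMor_of_isClosedImmersion X.property hi')
  have hb : AlgSp.IsProperMor (pullback.snd i.hom i'.hom) :=
    isProperMor_of_isPullback Z.property X.property Z'.property sq
      (isProperMor_of_isClosedImmersion X.property hi)
  have hs : Function.Surjective (AlgSp.Points.map (pullback.snd i.hom i'.hom)) := by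
    intro z
    exact (range_snd_of_isPullback sq).ge (heq.ge ⟨z, rfl⟩)
  have hp : AlgSp.IsProperMor (pullback.snd i.hom i'.hom ≫ (i' ≫ f).hom) := by
    have := isProperMor_comp hW Z.property Y.property ha hZ
    rwa [show (i' ≫ f).hom = i'.hom ≫ f.hom from rfl, ← Category.assoc, ← sq.w, Category.assoc]
  have huc : AlgSp.IsUnivClosedMor (i' ≫ f).hom := isUnivClosedMor_of_surjective hp.2.2 hs
  exact ⟨(separation_of_surjective_univClosed hW Z'.property Y.property hs hb.2.2).2 hp.1,
    ⟨locP_comp etLocal_lft Z'.property X.property Y.property
      (locP_of_repWith etLocal_lft (repWith_le (fun _ _ g (_ : IsClosedImmersion g) =>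
        inferInstanceAs (LocallyOfFiniteType g)) hi')) hf,
      isQuasiCompactMor_of_isUnivClosedMor Z'.property Y.property huc⟩, huc⟩

end Groth.Agent.S10760
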