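import Groth.Statements.S10765
import Groth.Agent.H13AlgSp.ProperImage

set_option autoImplicit false
universe u
open CategoryTheory CategoryTheory.Limits AlgebraicGeometry
open AlgSp

namespace Groth.Agent.S10765

open Groth.Agent.H12AlgSp Groth.Agent.H13AlgSp


/-- Let f : X ⟶ Y be a morphism of algebraic spaces over S that is locally of finite type and let i_k :
Z_k ⟶ X, for k ranging over a finite index set, be closed subspaces with each Z_k ⟶ Y proper. Then
there is a closed subspace W ⟶ X whose image in |X| is the union of the images of the |Z_k| and with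
W ⟶ Y proper; that is, a finite union of closed subsets proper over Y is proper over Y. -/
theorem result {S : Scheme.{u}} {X Y : AlgSp.Space S}
    (f : X ⟶ Y) (hf : AlgSp.LocP @LocallyOfFiniteType f.hom)
    {n : ℕ} (Z : Fin n → AlgSp.Space S) (i : ∀ k, Z k ⟶ X)
    (hi : ∀ k, AlgSp.RepWith @IsClosedImmersion (i k).hom) (hZ : ∀ k, AlgSp.IsProperMor (i k ≫ f).hom) :
    ∃ (W : AlgSp.Space S) (j : W ⟶ X), AlgSp.RepWith @IsClosedImmersion j.hom ∧
      Set.range (AlgSp.Points.map j.hom) = ⋃ k, Set.range (AlgSp.Points.map (i k).hom) ∧
      AlgSp.IsProperMor (j ≫ f).hom := by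
  obtain ⟨W, j, hW, hj, hr, -⟩ := exists_isRedInduced X.property (T := ⋃ k, Set.range (AlgSp.Points.map (i k).hom))
    (isClosed_iUnion_of_finite fun k =>
      isClosed_range_of_isUnivClosedMor X.property (isProperMor_of_isClosedImmersion X.property (hi k)).2.2)
  refine ⟨⟨W, hW⟩, ObjectProperty.homMk j, hj, hr, ?_⟩
  have sq := fun k => IsPullback.of_hasPullback (i k).hom j
  refine isProperMor_of_family (A := fun k => pullback (i k).hom j) (q := j ≫ f.hom)
    (fun k => isAlgSpace_pullback X.property.diag (Z k).property hW _ _) hW Y.property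
    (fun k => pullback.snd (i k).hom j) (fun w => ?_)
    (fun k => univSp_of_isPullback (sq k) (isProperMor_of_isClosedImmersion X.property (hi k)).2.2)
    (lft_of_closedImmersion hW X.property Y.property hj hf) fun k => ?_
  · obtain ⟨k, hk⟩ := Set.mem_iUnion.1 (hr.le ⟨w, rfl⟩)
    exact ⟨k, (range_snd_of_isPullback (sq k)).ge hk⟩
  · have := isProperMor_comp (isAlgSpace_pullback X.property.diag (Z k).property hW (i k).hom j) (Z k).property
      Y.property (isProperMor_of_isPullback hW X.property (Z k).property (sq k).flip
        (isProperMor_of_isClosedImmersion X.property hj)) (hZ k)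
    rw [show (i k ≫ f).hom = (i k).hom ≫ f.hom from rfl, ← Category.assoc, (sq k).w, Category.assoc] at this
    exact this

end Groth.Agent.S10765
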