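import Groth.Statements.S10768
import Groth.Agent.H13AlgSp.InductionApps

set_option autoImplicit false
universe u
open CategoryTheory CategoryTheory.Limits AlgebraicGeometry
open AlgSp

namespace Groth.Agent.S10768

/-- Let X be a quasi-compact and quasi-separated algebraic space over S, W ⊂ X a quasi-compact open
subspace, and P a property of open subspaces of X (pairs of an algebraic space and a representable
open immersion into X). Assume (1) W has property P, and (2) given any elementary distinguished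
square (W₁ ⊂ W₂, V ⟶ W₂) where W₁ ⊂ W₂ are quasi-compact open subspaces of X containing W and V is
affine, P for W₁ implies P for W₂. Then P holds for X (with its identity). Quasi-separatedness is
relative to S with S quasi-separated. -/
theorem result {S : Scheme.{u}} [QuasiSeparatedSpace ↥S] (X : AlgSp.Space S)
    (hXc : AlgSp.IsQuasiCompactSp X.obj) (hXs : AlgSp.IsQuasiSeparatedSp X.obj)
    (P : ∀ U : AlgSp.Space S, (U ⟶ X) → Prop)
    (W : AlgSp.Space S) (jW : W ⟶ X) (hjW : AlgSp.RepWith @IsOpenImmersion jW.hom)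
    (hWc : AlgSp.IsQuasiCompactSp W.obj) (h1 : P W jW)
    (h2 : ∀ (W₁ W₂ V : AlgSp.Space S) (j₁ : W₁ ⟶ X) (j₂ : W₂ ⟶ X) (k : W₁ ⟶ W₂) (m : W ⟶ W₁) (f : V ⟶ W₂),
      AlgSp.RepWith @IsOpenImmersion j₁.hom → AlgSp.RepWith @IsOpenImmersion j₂.hom →
      k ≫ j₂ = j₁ → m ≫ j₁ = jW →
      AlgSp.IsQuasiCompactSp W₁.obj → AlgSp.IsQuasiCompactSp W₂.obj →
      (∃ T : Over S, IsAffine T.left ∧ Nonempty ((AlgSp.yon S).obj T ≅ V.obj)) →
      AlgSp.IsElemDistSq k.hom f.hom → P W₁ j₁ → P W₂ j₂) :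
    P X (𝟙 X) := by
  let O₀ : Set (AlgSp.Points X.obj) := Set.range (AlgSp.Points.map jW.hom)
  have hO₀ : IsOpen O₀ := H13AlgSp.isOpen_range_openImmersion hjW
  have hr₀ := H12AlgSp.range_openSubι X.property O₀
  let sp : ∀ O : Set (AlgSp.Points X.obj), IsOpen O → AlgSp.Space S := fun O hO =>
    ⟨H12AlgSp.openSub O, H13AlgSp.isAlgSpace_openSub X.property hO⟩
  let ι : ∀ (O : Set (AlgSp.Points X.obj)) (hO : IsOpen O), sp O hO ⟶ X := fun O hO =>
    ObjectProperty.homMk (H12AlgSp.openSubι O)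
  let yA : Over S → AlgSp.Space S := fun A => ⟨(AlgSp.yon S).obj A, IsAlgSpace.yon_obj A⟩
  have hqc : ∀ (O : Set (AlgSp.Points X.obj)) (hO : IsOpen O), IsCompact O →
      AlgSp.IsQuasiCompactSp (sp O hO).obj := fun O hO hc =>
    H13AlgSp.isQuasiCompactSp_of_isCompact_range (sp O hO).property (H12AlgSp.repWith_openSubι hO)
      (by rwa [H12AlgSp.range_openSubι X.property])
  have hO₀c : IsCompact O₀ := H13AlgSp.isCompact_range_of_isQuasiCompactSp jW.hom hWc
  let Q : Set (AlgSp.Points X.obj) → Prop := fun O => ∃ hO : IsOpen O, P (sp O hO) (ι O hO)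
  suffices h : Q Set.univ by
    obtain ⟨hO, hP⟩ := h
    obtain ⟨m, hm⟩ := H12AlgSp.exists_factor_open (H12AlgSp.repWith_openSubι hO) jW.hom
      (by rw [H12AlgSp.range_openSubι X.property]; exact Set.subset_univ _)
    obtain ⟨A, a, hA, hsq⟩ := H13AlgSp.exists_elemDistSq_of_range_univ X.property
      (H12AlgSp.repWith_openSubι hO) (H12AlgSp.range_openSubι X.property _)
    haveI := H12AlgSp.compactSpace_points_of_isQuasiCompactSp hXc
    exact h2 (sp _ hO) X (yA A) (ι _ hO) (𝟙 X) (ι _ hO) (ObjectProperty.homMk m) (ObjectProperty.homMk a)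
      (H12AlgSp.repWith_openSubι hO) (H12AlgSp.repWith_of_isIso (𝟙 X.obj)) (Category.comp_id _)
      (InducedCategory.hom_ext hm) (hqc _ hO isCompact_univ) hXc ⟨A, hA, ⟨Iso.refl _⟩⟩ hsq hP
  refine H13AlgSp.open_induction X.property hXc hXs hO₀ hO₀c Q ⟨hO₀, ?_⟩ ?_
  · obtain ⟨k, hk⟩ := H12AlgSp.exists_factor_open (H12AlgSp.repWith_openSubι hO₀) jW.hom hr₀.ge
    have hko := H13AlgSp.repWith_openImmersion_of_fac k _ hk hjW
    obtain ⟨A, a, hA, hsq⟩ := H13AlgSp.exists_elemDistSq_of_range_univ (sp _ hO₀).property hko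
      (Set.eq_univ_of_forall fun z => by
        obtain ⟨w, hw⟩ := hr₀.le ⟨z, rfl⟩
        exact ⟨w, H12AlgSp.injective_map_of_mono (H12AlgSp.openSubι O₀) (by rw [← AlgSp.Points.map_comp, hk, hw])⟩)
    exact h2 W (sp _ hO₀) (yA A) jW (ι _ hO₀) (ObjectProperty.homMk k) (𝟙 W) (ObjectProperty.homMk a) hjW
      (H12AlgSp.repWith_openSubι hO₀) (InducedCategory.hom_ext hk) (Category.id_comp _) hWc
      (hqc _ hO₀ hO₀c) ⟨A, hA, ⟨Iso.refl _⟩⟩ hsq h1
  · rintro O O' k A a hO hOc hO' hO'c hsub hk hA hsq ⟨_, hP⟩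
    obtain ⟨m, hm⟩ := H12AlgSp.exists_factor_open (H12AlgSp.repWith_openSubι hO) jW.hom
      (by rw [H12AlgSp.range_openSubι X.property]; exact hsub)
    exact ⟨hO', h2 (sp O hO) (sp O' hO') (yA A) (ι O hO) (ι O' hO') (ObjectProperty.homMk k)
      (ObjectProperty.homMk m) (ObjectProperty.homMk a) (H12AlgSp.repWith_openSubι hO)
      (H12AlgSp.repWith_openSubι hO') (InducedCategory.hom_ext hk) (InducedCategory.hom_ext hm)
      (hqc O hO hOc) (hqc O' hO' hO'c) ⟨A, hA, ⟨Iso.refl _⟩⟩ hsq hP⟩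

end Groth.Agent.S10768
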