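import Groth.Statements.S1077
import Groth.Agent.H16Derived.SubLattice
import Mathlib.CategoryTheory.Subobject.ArtinianObject
import Mathlib.Order.OrderIsoNat
import Mathlib.Data.Fintype.Pi
import Mathlib.Data.Fintype.Basic

set_option autoImplicit false
universe v u
open CategoryTheory CategoryTheory.Limits
open CohDer

namespace Groth.Agent.S1077

open CategoryTheory CategoryTheory.Limits Groth.Agent.H16Derived.SubLattice

lemma wellFounded_of_chain {A : Type u} [Category.{v} A] [Abelian A] {X : A} {n : ℕ}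
    (F : Fin (n + 1) → Subobject X) (hF : Monotone F) (h0 : F 0 = ⊥) (hn : F (Fin.last n) = ⊤)
    (hc : ∀ i : Fin n, F i.castSucc ⋖ F i.succ) :
    WellFoundedLT (Subobject X) ∧ WellFoundedGT (Subobject X) := by
  classical
  let m (W : Subobject X) (i : Fin n) : Bool :=
    decide ((W ⊓ F i.succ) ⊔ F i.castSucc = F i.succ)
  have hm : ∀ {W W' : Subobject X}, W ≤ W' → ∀ i, m W i ≤ m W' i := by
    intro W W' h i
    rcases Bool.eq_false_or_eq_true (m W i) with e | e
    · rw [e, Bool.le_iff_imp]
      intro _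
      simp only [m, decide_eq_true_eq] at e ⊢
      refine le_antisymm (sup_le inf_le_right (hF (Fin.castSucc_le_succ i))) ?_
      calc F i.succ = (W ⊓ F i.succ) ⊔ F i.castSucc := e.symm
        _ ≤ (W' ⊓ F i.succ) ⊔ F i.castSucc := sup_le_sup_right (inf_le_inf_right _ h) _
    · rw [e]; exact Bool.false_le _
  have hm' : ∀ {W W' : Subobject X}, W ≤ W' → m W = m W' → W = W' := by
    intro W W' h e
    refine eq_of_chain F h0 hn h fun i => ?_
    have e' := congrFun e i
    rcases (hc i).eq_or_eq (le_sup_right : F i.castSucc ≤ (W' ⊓ F i.succ) ⊔ F i.castSucc)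
      (sup_le inf_le_right (hF (Fin.castSucc_le_succ i))) with h' | h'
    · rw [h']; exact le_sup_right
    · have : m W' i = true := decide_eq_true h'
      rw [← e'] at this
      rw [h', of_decide_eq_true this]
  have smono : StrictMono m := fun W W' h => lt_of_le_of_ne (hm h.le) fun e => h.ne (hm' h.le e)
  exact ⟨smono.wellFoundedLT, smono.wellFoundedGT⟩

/-- An object X of an abelian category is Artinian and Noetherian if and only if there is a finite chain
of subobjects ⊥ = F₀ ≤ F₁ ≤ … ≤ Fₙ = ⊤ of X whose successive quotients Fᵢ₊₁/Fᵢ are simple. -/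
theorem result {A : Type u} [Category.{v} A] [Abelian A] (X : A) :
    (IsArtinianObject X ∧ IsNoetherianObject X) ↔
      ∃ (n : ℕ) (F : Fin (n + 1) → Subobject X) (hF : Monotone F), F 0 = ⊥ ∧ F (Fin.last n) = ⊤ ∧
        ∀ i : Fin n, Simple (cokernel (Subobject.ofLE (F (Fin.castSucc i)) (F (Fin.succ i)) (hF (Fin.castSucc_lt_succ (i := i)).le))) := by
  constructor
  · rintro ⟨hA, hN⟩
    obtain ⟨a, h0, n, hn, hstep⟩ := exists_covBy_seq_of_wellFoundedLT_wellFoundedGT (Subobject X)
    have hF : Monotone (fun i : Fin (n + 1) => a i) := by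
      rw [Fin.monotone_iff_le_succ]
      intro i
      exact (hstep i i.isLt).le
    refine ⟨n, fun i => a i, hF, ?_, ?_, fun i => simple_cokernel_of_covBy (hstep i i.isLt)⟩
    · simpa using h0.eq_bot
    · simpa using hn.eq_top
  · rintro ⟨n, F, hF, h0, hn, hs⟩
    obtain ⟨h₁, h₂⟩ := wellFounded_of_chain F hF h0 hn (fun i => covBy_of_simple _ (hs i))
    exact ⟨⟨h₁⟩, ⟨h₂⟩⟩

end Groth.Agent.S1077
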