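import Groth.Statements.S10779
import Groth.Agent.H12AlgSp.EtPerf.Bounded

set_option autoImplicit false
set_option backward.isDefEq.respectTransparency.types false
universe u
open CategoryTheory CategoryTheory.Limits AlgebraicGeometry
attribute [local instance] HasDerivedCategory.standard
open AlgSp

namespace Groth.Agent.S10779

/-- Let X be a quasi-compact and quasi-separated algebraic space over S, P a perfect object of D(O_X)
(modules on the small etale site), E an object of D_QCoh(O_X) and a ∈ ℤ. Then the morphisms P[-i] ⟶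
E vanish for all sufficiently negative i if and only if the morphisms P[-i] ⟶ τ_{≤ a}E vanish for
all sufficiently negative i. Quasi-separatedness is relative to S with S quasi-separated. -/
theorem result {S : Scheme.{u}} [QuasiSeparatedSpace ↥S] (X : AlgSp.Space S)
    (hXc : AlgSp.IsQuasiCompactSp X.obj) (hXs : AlgSp.IsQuasiSeparatedSp X.obj)
    (P : AlgSp.DModEt X.obj) (hP : AlgSp.IsPerfectEtD P)
    (E : AlgSp.DModEt X.obj) (hE : DCoh.IsQCohDMod (AlgSp.OEtRing X.obj) E) (a : ℤ) :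
    (∃ N : ℤ, ∀ i : ℤ, i ≤ N → ∀ φ : P⟦-i⟧ ⟶ E, φ = 0) ↔
      (∃ N : ℤ, ∀ i : ℤ, i ≤ N → ∀ φ : P⟦-i⟧ ⟶ ((DerivedCategory.TStructure.t : CategoryTheory.Triangulated.TStructure (AlgSp.DModEt X.obj)).truncLE a).obj E, φ = 0) := by
  obtain ⟨b, hb⟩ := H12AlgSp.EtPerf.isLE_of_isPerfectEtD X.property hXc P hP
  let t : CategoryTheory.Triangulated.TStructure (AlgSp.DModEt X.obj) := DerivedCategory.TStructure.t
  change _ ↔ ∃ N : ℤ, ∀ i : ℤ, i ≤ N → ∀ φ : P⟦-i⟧ ⟶ (t.truncLE a).obj E, φ = 0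
  haveI : t.IsLE P b := hb
  have hT := t.triangleLEGE_distinguished a (a + 1) rfl E
  have van : ∀ i : ℤ, b + i ≤ a → ∀ (Y : AlgSp.DModEt X.obj) [t.IsGE Y (a + 1)] (φ : P⟦-i⟧ ⟶ Y), φ = 0 := by
    intro i hi Y _ φ
    haveI := t.isLE_shift P b (-i) (b + i) (by omega)
    exact t.zero_of_isLE_of_isGE φ (b + i) (a + 1) (by omega) inferInstance inferInstance
  constructor
  · rintro ⟨N, hN⟩
    refine ⟨min N (a - b), fun i hi φ => ?_⟩
    have h1 : φ ≫ (t.truncLEι a).app E = 0 := hN i (le_trans hi (min_le_left _ _)) _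
    obtain ⟨ψ, hψ⟩ := Pretriangulated.Triangle.coyoneda_exact₂ _ (Pretriangulated.inv_rot_of_distTriang _ hT) φ h1
    haveI := t.isGE_shift ((t.truncGE (a + 1)).obj E) (a + 1) (-1) (a + 2) (by omega)
    haveI := t.isGE_of_ge (((t.truncGE (a + 1)).obj E)⟦(-1 : ℤ)⟧) (a + 1) (a + 2) (by omega)
    exact hψ.trans ((congrArg (· ≫ _) (van i (by omega) (((t.truncGE (a + 1)).obj E)⟦(-1 : ℤ)⟧) ψ)).trans Limits.zero_comp)
  · rintro ⟨N, hN⟩
    refine ⟨min N (a - b), fun i hi φ => ?_⟩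
    obtain ⟨ψ, hψ⟩ := Pretriangulated.Triangle.coyoneda_exact₂ _ hT φ (van i (by omega) ((t.truncGE (a + 1)).obj E) _)
    exact hψ.trans ((congrArg (· ≫ _) (hN i (le_trans hi (min_le_left _ _)) ψ)).trans Limits.zero_comp)

end Groth.Agent.S10779
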