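import Groth.Statements.S1078
import Groth.Agent.H16Derived.SubLattice
import Mathlib.Order.JordanHolder

set_option autoImplicit false
universe v u
open CategoryTheory CategoryTheory.Limits
open CohDer

namespace Groth.Agent.S1078

open CategoryTheory CategoryTheory.Limits Groth.Agent.H16Derived.SubLattice

lemma nonempty_iso_of_iso {A : Type u} [Category.{v} A] [Abelian A] {X : A}
    {p q : Subobject X × Subobject X} (h : JordanHolderLattice.Iso p q) :
    (p.1 ≤ p.2 ↔ q.1 ≤ q.2) ∧ ∀ (hp : p.1 ≤ p.2) (hq : q.1 ≤ q.2),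
      Nonempty (cokernel (Subobject.ofLE p.1 p.2 hp) ≅ cokernel (Subobject.ofLE q.1 q.2 hq)) := by
  refine JordanHolderLattice.Iso.rel
    (fun p q : Subobject X × Subobject X => (p.1 ≤ p.2 ↔ q.1 ≤ q.2) ∧ ∀ (hp : p.1 ≤ p.2) (hq : q.1 ≤ q.2),
      Nonempty (cokernel (Subobject.ofLE p.1 p.2 hp) ≅ cokernel (Subobject.ofLE q.1 q.2 hq)))
    ?_ ?_ ?_ ?_ h
  · exact fun {x} => ⟨Iff.rfl, fun _ _ => ⟨Iso.refl _⟩⟩
  · exact fun {x y} e => ⟨e.1.symm, fun hp hq => ⟨(e.2 hq hp).some.symm⟩⟩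
  · exact fun {x y z} e e' => ⟨e.1.trans e'.1, fun hp hq =>
      ⟨(e.2 hp (e.1.1 hp)).some ≪≫ (e'.2 (e.1.1 hp) hq).some⟩⟩
  · exact fun {x y} _ => ⟨iff_of_true le_sup_left inf_le_right,
      fun _ _ => ⟨(nonempty_cokernel_sup_iso x y).some.symm⟩⟩

/-- Let X be an object of an abelian category with two finite chains of subobjects ⊥ = F₀ ≤ … ≤ Fₙ = ⊤
and ⊥ = G₀ ≤ … ≤ Gₘ = ⊤ whose successive quotients are simple. Then n = m, and after transporting
along this equality there is a permutation σ of the indices with Fᵢ₊₁/Fᵢ ≅ G_{σ(i)+1}/G_{σ(i)} for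
all i. -/
theorem result {A : Type u} [Category.{v} A] [Abelian A] (X : A)
    (n : ℕ) (F : Fin (n + 1) → Subobject X) (hF : Monotone F) (hF0 : F 0 = ⊥) (hFn : F (Fin.last n) = ⊤) (hFs : ∀ i : Fin n, Simple (cokernel (Subobject.ofLE (F (Fin.castSucc i)) (F (Fin.succ i)) (hF (Fin.castSucc_lt_succ (i := i)).le))))
    (m : ℕ) (G : Fin (m + 1) → Subobject X) (hG : Monotone G) (hG0 : G 0 = ⊥) (hGm : G (Fin.last m) = ⊤) (hGs : ∀ j : Fin m, Simple (cokernel (Subobject.ofLE (G (Fin.castSucc j)) (G (Fin.succ j)) (hG (Fin.castSucc_lt_succ (i := j)).le)))) :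
    ∃ (e : n = m) (σ : Equiv.Perm (Fin m)), ∀ i : Fin n,
      Nonempty (cokernel (Subobject.ofLE (F (Fin.castSucc i)) (F (Fin.succ i)) (hF (Fin.castSucc_lt_succ (i := i)).le)) ≅
        cokernel (Subobject.ofLE (G (Fin.castSucc (σ (Fin.cast e i)))) (G (Fin.succ (σ (Fin.cast e i)))) (hG (Fin.castSucc_lt_succ (i := σ (Fin.cast e i))).le))) := by
  let s₁ : CompositionSeries (Subobject X) :=
    { length := n, toFun := F, step := fun i => covBy_of_simple _ (hFs i) }
  let s₂ : CompositionSeries (Subobject X) :=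
    { length := m, toFun := G, step := fun j => covBy_of_simple _ (hGs j) }
  have hh : s₁.head = s₂.head := show F 0 = G 0 by rw [hF0, hG0]
  have hl : s₁.last = s₂.last := show F (Fin.last n) = G (Fin.last m) by rw [hFn, hGm]
  obtain ⟨f, hf⟩ := CompositionSeries.jordan_holder s₁ s₂ hh hl
  have e : n = m := by simpa using Fintype.card_congr (show Fin n ≃ Fin m from f)
  subst e
  exact ⟨rfl, f, fun i => (nonempty_iso_of_iso (hf i)).2 _ _⟩

end Groth.Agent.S1078
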