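import Groth.Statements.S10783
import Groth.Agent.H13AlgSp.EtRF

set_option autoImplicit false
universe u
open CategoryTheory CategoryTheory.Limits AlgebraicGeometry
attribute [local instance] HasDerivedCategory.standard
open AlgSp

namespace Groth.Agent.S10783

/-- Let X be an algebraic space over S, F : Mod(O_X) ⥤ Ab (modules on the small etale site) a left exact
additive functor commuting with countable direct products, and N ≥ 0 an integer with R^pF(G) = 0 for
every p ≥ N and every quasi-coherent module G (right derived functors computed with injective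
resolutions). Assume the total right derived functor RF : D(O_X) ⥤ D(Ab) exists. Then for E in
D_QCoh(O_X) and i ≥ b the map H^i(RF(E)) ⟶ H^i(RF(τ_{≥ b-N+1}E)) induced by the truncation morphism
is an isomorphism. -/
theorem result {S : Scheme.{u}} (X : AlgSp.Space S)
    (F : AlgSp.ModEt X.obj ⥤ AddCommGrpCat.{u + 1}) [F.Additive] [PreservesFiniteLimits F]
    [PreservesLimitsOfShape (Discrete ℕ) F] [EnoughInjectives (AlgSp.ModEt X.obj)] (N : ℕ)
    (hF : ∀ G : AlgSp.ModEt X.obj, G.IsQuasicoherent → ∀ p : ℕ, N ≤ p → IsZero ((F.rightDerived p).obj G))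
    [(F.mapHomotopyCategory (ComplexShape.up ℤ) ⋙ DerivedCategory.Qh).HasRightDerivedFunctor
      (HomotopyCategory.quasiIso (AlgSp.ModEt X.obj) (ComplexShape.up ℤ))]
    (E : AlgSp.DModEt X.obj) (hE : DCoh.IsQCohDMod (AlgSp.OEtRing X.obj) E) (b i : ℤ) (hi : b ≤ i) :
    IsIso ((DerivedCategory.homologyFunctor AddCommGrpCat.{u + 1} i).map (((F.mapHomotopyCategory (ComplexShape.up ℤ) ⋙ DerivedCategory.Qh).totalRightDerived DerivedCategory.Qh (HomotopyCategory.quasiIso (AlgSp.ModEt X.obj) (ComplexShape.up ℤ))).map
      (((DerivedCategory.TStructure.t : CategoryTheory.Triangulated.TStructure (AlgSp.DModEt X.obj)).truncGEπ (b - N + 1)).app E))) := by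
  exact H13AlgSp.EtRF.isIso_RH_truncGEπ X.obj F N hF hE (b - N + 1) i (by omega)

end Groth.Agent.S10783
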