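import Groth.Statements.S10788
import Groth.Agent.H13AlgSp.MayerVietorisEt

set_option autoImplicit false
universe u
open CategoryTheory CategoryTheory.Limits AlgebraicGeometry
attribute [local instance] HasDerivedCategory.standard
open AlgSp Opposite

namespace Groth.Agent.S10788

set_option backward.isDefEq.respectTransparency false

theorem unit_app_apply {S : Scheme.{u}} {X : AlgSp.Sp S} (U : AlgSp.EtOver X) (F : AlgSp.ModEt X)
    (W : (AlgSp.EtOver X)ᵒᵖ) (s : F.val.obj W) :
    ((AlgSp.resPushAdjEt U).unit.app F).val.app W s =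
      F.val.presheaf.map (prod.snd : U ⨯ W.unop ⟶ W.unop).op s := by
  simp [AlgSp.resPushAdjEt, SheafOfModules.overPushforwardOverAdj, SheafOfModules.pushforwardPushforwardAdj]
  rfl

theorem pushRes_apply {S : Scheme.{u}} {X : AlgSp.Sp S} {U' U : AlgSp.EtOver X} (g : U' ⟶ U) (F : AlgSp.ModEt X)
    (W : (AlgSp.EtOver X)ᵒᵖ) (s : F.val.obj (Opposite.op (U ⨯ W.unop))) :
    ((AlgSp.pushResNatTrans g).app F).val.app W s = F.val.presheaf.map (prod.map g (𝟙 W.unop)).op s := rfl

theorem comp_val_apply {S : Scheme.{u}} {X : AlgSp.Sp S} {A B C : AlgSp.ModEt X} (φ : A ⟶ B) (ψ : B ⟶ C)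
    (W : (AlgSp.EtOver X)ᵒᵖ) (x : A.val.obj W) : (φ ≫ ψ).val.app W x = ψ.val.app W (φ.val.app W x) := rfl

theorem neg_val_apply {S : Scheme.{u}} {X : AlgSp.Sp S} {A B : AlgSp.ModEt X} (φ : A ⟶ B)
    (W : (AlgSp.EtOver X)ᵒᵖ) (x : A.val.obj W) : (-φ).val.app W x = -(φ.val.app W x) := rfl

theorem add_val_apply {S : Scheme.{u}} {X : AlgSp.Sp S} {A B : AlgSp.ModEt X} (φ ψ : A ⟶ B)
    (W : (AlgSp.EtOver X)ᵒᵖ) (x : A.val.obj W) : (φ + ψ).val.app W x = φ.val.app W x + ψ.val.app W x := rfl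

section

variable {S : Scheme.{u}} {X : AlgSp.Sp S} {A B Z : AlgSp.ModEt X} {W : (AlgSp.EtOver X)ᵒᵖ}

theorem biprod_total_apply (z : (A ⊞ B).val.obj W) :
    (biprod.inl : A ⟶ A ⊞ B).val.app W ((biprod.fst : A ⊞ B ⟶ A).val.app W z) +
      (biprod.inr : B ⟶ A ⊞ B).val.app W ((biprod.snd : A ⊞ B ⟶ B).val.app W z) = z :=
  congrArg (fun φ : A ⊞ B ⟶ A ⊞ B => φ.val.app W z) (biprod.total (X := A) (Y := B))

theorem desc_inl_inr (f : A ⟶ Z) (g : B ⟶ Z) (a : A.val.obj W) (b : B.val.obj W) :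
    (biprod.desc f g).val.app W ((biprod.inl : A ⟶ A ⊞ B).val.app W a + (biprod.inr : B ⟶ A ⊞ B).val.app W b) =
      f.val.app W a + g.val.app W b := by
  rw [map_add, ← comp_val_apply, ← comp_val_apply, biprod.inl_desc, biprod.inr_desc]

theorem fst_lift (f : Z ⟶ A) (g : Z ⟶ B) (z : Z.val.obj W) :
    (biprod.fst : A ⊞ B ⟶ A).val.app W ((biprod.lift f g).val.app W z) = f.val.app W z := by
  rw [← comp_val_apply, biprod.lift_fst]

theorem snd_lift (f : Z ⟶ A) (g : Z ⟶ B) (z : Z.val.obj W) :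
    (biprod.snd : A ⊞ B ⟶ B).val.app W ((biprod.lift f g).val.app W z) = g.val.app W z := by
  rw [← comp_val_apply, biprod.lift_snd]

theorem desc_apply (f : A ⟶ Z) (g : B ⟶ Z) (y : (A ⊞ B).val.obj W) :
    (biprod.desc f g).val.app W y = f.val.app W ((biprod.fst : A ⊞ B ⟶ A).val.app W y) +
      g.val.app W ((biprod.snd : A ⊞ B ⟶ B).val.app W y) := by
  conv_lhs => rw [← biprod_total_apply y, desc_inl_inr]

theorem biprod_ext {x y : (A ⊞ B).val.obj W}
    (h₁ : (biprod.fst : A ⊞ B ⟶ A).val.app W x = (biprod.fst : A ⊞ B ⟶ A).val.app W y)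
    (h₂ : (biprod.snd : A ⊞ B ⟶ B).val.app W x = (biprod.snd : A ⊞ B ⟶ B).val.app W y) : x = y := by
  rw [← biprod_total_apply x, ← biprod_total_apply y, h₁, h₂]

end

set_option maxHeartbeats 4000000 in
/-- Part (1): for squares whose two parts are schemes: let X be an algebraic space over S and let U, V
be objects of the small etale site of X (schemes with representable etale structure maps to X) such
that (U ⊂ X, V ⟶ X) is an elementary distinguished square; write U ×_X V for their product in the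
site. Then for every O_X-module F the sequence 0 ⟶ F ⟶ j_{U,*}F|_U ⊕ j_{V,*}F|_V ⟶ j_{U ×_X
V,*}F|_{U ×_X V} ⟶ 0 is short exact, where the first map is given by the two adjunction units and
the second by the restriction along U ×_X V ⟶ U minus the restriction along U ×_X V ⟶ V. Only
squares whose open part and etale part are both schemes are covered. -/
theorem result {S : Scheme.{u}} (X : AlgSp.Space S)
    (U V : AlgSp.EtOver X.obj) (hsq : AlgSp.IsElemDistSq U.obj.hom V.obj.hom) (F : AlgSp.ModEt X.obj) :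
    ∃ h : biprod.lift ((AlgSp.resPushAdjEt U).unit.app F) ((AlgSp.resPushAdjEt V).unit.app F) ≫
        biprod.desc ((AlgSp.pushResNatTrans (AlgSp.EtOver.prodFst U V)).app F)
          (-((AlgSp.pushResNatTrans (AlgSp.EtOver.prodSnd U V)).app F)) = 0,
      (ShortComplex.mk _ _ h).ShortExact := by
  have hsq' := H13AlgSp.sq_of_isElemDistSq X.property hsq
  have hG : Presheaf.IsSheaf (AlgSp.etTop X.obj) F.val.presheaf := F.isSheaf
  have hP := AlgSp.EtOver.prodIsLimit U V
  have hz : biprod.lift ((AlgSp.resPushAdjEt U).unit.app F) ((AlgSp.resPushAdjEt V).unit.app F) ≫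
      biprod.desc ((AlgSp.pushResNatTrans (AlgSp.EtOver.prodFst U V)).app F)
        (-((AlgSp.pushResNatTrans (AlgSp.EtOver.prodSnd U V)).app F)) = 0 := by
    rw [biprod.lift_desc, Preadditive.comp_neg, ← sub_eq_add_neg, sub_eq_zero]
    ext W s
    simp only [SheafOfModules.comp_val, PresheafOfModules.comp_app, ModuleCat.comp_apply]
    rw [unit_app_apply, unit_app_apply, pushRes_apply, pushRes_apply]
    rw [← ConcreteCategory.comp_apply, ← ConcreteCategory.comp_apply, ← Functor.map_comp, ← Functor.map_comp,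
      ← op_comp, ← op_comp, prod.map_snd, prod.map_snd]
  refine ⟨hz, H13AlgSp.MVSite.shortExact_of_sections _ ?_ ?_ ?_⟩
  · intro W
    refine (injective_iff_map_eq_zero _).2 fun s hs => ?_
    have h₁ := (fst_lift _ _ s).symm.trans ((congrArg _ hs).trans (map_zero _))
    have h₂ := (snd_lift _ _ s).symm.trans ((congrArg _ hs).trans (map_zero _))
    rw [unit_app_apply] at h₁ h₂
    exact H13AlgSp.MVSite.mv_injective (U := U) (V := V) (G := F.val.presheaf) hsq' hG (W := W.unop) h₁ h₂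
  · intro W y hy
    have h := (desc_apply _ _ y).symm.trans hy
    have h' := add_neg_eq_zero.1 ((congrArg (_ + ·) (neg_val_apply _ W _)).symm.trans h)
    have h'' := (pushRes_apply (AlgSp.EtOver.prodFst U V) F W _).symm.trans
      (h'.trans (pushRes_apply (AlgSp.EtOver.prodSnd U V) F W _))
    obtain ⟨s, hs₁, hs₂⟩ := H13AlgSp.MVSite.mv_exact (G := F.val.presheaf) (W := W.unop) hP hsq' hG _ _ h''
    exact ⟨s, biprod_ext (((fst_lift _ _ s).trans (unit_app_apply U F W s)).trans hs₁)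
      (((snd_lift _ _ s).trans (unit_app_apply V F W s)).trans hs₂)⟩
  · intro W z
    obtain ⟨R, hR, h⟩ := H13AlgSp.MVSite.mv_locally_surjective (G := F.val.presheaf) hP hsq' hG (W := W) z
    refine ⟨R, hR, fun Z g hg => ?_⟩
    obtain ⟨a, b, hab⟩ := h g hg
    let a' : ((AlgSp.resModEt U ⋙ AlgSp.pushOnModEt U).obj F).val.obj (op Z) := (a : F.val.obj (op (U ⨯ Z)))
    let b' : ((AlgSp.resModEt V ⋙ AlgSp.pushOnModEt V).obj F).val.obj (op Z) := (b : F.val.obj (op (V ⨯ Z)))
    have key := (desc_inl_inr (A := (AlgSp.resModEt U ⋙ AlgSp.pushOnModEt U).obj F)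
      (B := (AlgSp.resModEt V ⋙ AlgSp.pushOnModEt V).obj F) (W := op Z)
      ((AlgSp.pushResNatTrans (AlgSp.EtOver.prodFst U V)).app F)
      (-((AlgSp.pushResNatTrans (AlgSp.EtOver.prodSnd U V)).app F)) a' b')
    refine ⟨_, key.trans ?_⟩
    refine ((congrArg (_ + ·) (neg_val_apply _ _ _)).trans (sub_eq_add_neg _ _).symm).trans ?_
    exact (congrArg₂ (· - ·) (pushRes_apply (AlgSp.EtOver.prodFst U V) F (op Z) a)
      (pushRes_apply (AlgSp.EtOver.prodSnd U V) F (op Z) b)).trans hab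

end Groth.Agent.S10788
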