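import Groth.Statements.S10789
import Groth.Agent.S10788
import Groth.Agent.H13AlgSp.MayerVietorisShriek
import Groth.Agent.H13EtMod.ModEtGroth

set_option autoImplicit false
universe u
open CategoryTheory CategoryTheory.Limits AlgebraicGeometry
attribute [local instance] HasDerivedCategory.standard
open AlgSp

namespace Groth.Agent.S10789

set_option backward.isDefEq.respectTransparency false

universe v₁ v₂ u₁ u₂

theorem comp_homEquiv_counit {M : Type u₁} [Category.{v₁} M] {N : Type u₂} [Category.{v₂} N] {res : M ⥤ N}
    {push lsh : N ⥤ M} (a : res ⊣ push) (b : lsh ⊣ res) (G : M) :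
    (a.comp b).homEquiv G G (b.counit.app G) = a.unit.app G := by
  refine ((a.comp b).homEquiv_unit _ _ _).trans ?_
  rw [Adjunction.comp_unit_app]
  refine (Category.assoc _ _ _).trans ((congrArg (_ ≫ ·) ((push.map_comp _ _).symm.trans ((congrArg push.map (b.right_triangle_components G)).trans (push.map_id _)))).trans (Category.comp_id _))

/-- Part (1): for squares whose two parts are schemes: let X be an algebraic space over S and let U, V
be objects of the small etale site of X (schemes with representable etale structure maps to X) such
that (U ⊂ X, V ⟶ X) is an elementary distinguished square; write U ×_X V for their product in the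
site. Granting that restriction of O_X-modules to each of U, V and U ×_X V has a left adjoint j_!
(extension by zero, which exists), for every O_X-module F the sequence 0 ⟶ j_{U ×_X V,!}F|_{U ×_X V}
⟶ j_{U,!}F|_U ⊕ j_{V,!}F|_V ⟶ F ⟶ 0 is short exact, where the second map is given by the two
adjunction counits and the first by the extension map along U ×_X V ⟶ U and minus the extension map
along U ×_X V ⟶ V. Only squares whose open part and etale part are both schemes are covered. -/
theorem result {S : Scheme.{u}} (X : AlgSp.Space S)
    (U V : AlgSp.EtOver X.obj) (hsq : AlgSp.IsElemDistSq U.obj.hom V.obj.hom)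
    [(AlgSp.resModEt U).IsRightAdjoint] [(AlgSp.resModEt V).IsRightAdjoint]
    [(AlgSp.resModEt (AlgSp.EtOver.prodObj U V)).IsRightAdjoint] (F : AlgSp.ModEt X.obj) :
    ∃ h : biprod.lift ((AlgSp.shriekResNatTrans (AlgSp.EtOver.prodFst U V)).app F)
          (-((AlgSp.shriekResNatTrans (AlgSp.EtOver.prodSnd U V)).app F)) ≫
        biprod.desc ((Adjunction.ofIsRightAdjoint (AlgSp.resModEt U)).counit.app F)
          ((Adjunction.ofIsRightAdjoint (AlgSp.resModEt V)).counit.app F) = 0,
      (ShortComplex.mk _ _ h).ShortExact := by
  have key : ∀ G : AlgSp.ModEt X.obj, _ := fun G => Groth.Agent.S10788.result X U V hsq G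
  have := H13EtMod.isGrothendieckAbelian_modEt (X := X.obj)
  refine H13AlgSp.shortExact_left_adjoints (AlgSp.shriekResAdj U) (AlgSp.shriekResAdj V)
    (AlgSp.shriekResAdj (AlgSp.EtOver.prodObj U V)) (AlgSp.pushResNatTrans (AlgSp.EtOver.prodFst U V))
    (AlgSp.pushResNatTrans (AlgSp.EtOver.prodSnd U V)) (AlgSp.resPushAdjEt U).unit (AlgSp.resPushAdjEt V).unit
    (fun G => (key G).choose) (fun G => (key G).choose_spec) (Adjunction.ofIsRightAdjoint (AlgSp.resModEt U)).counit
    (Adjunction.ofIsRightAdjoint (AlgSp.resModEt V)).counit (fun G => ?_) (fun G => ?_) F <;>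
  exact comp_homEquiv_counit _ _ G

end Groth.Agent.S10789
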