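import Groth.Statements.S1079
import Mathlib.CategoryTheory.Triangulated.Opposite.Pretriangulated
import Mathlib.CategoryTheory.Limits.Opposites
import Mathlib.CategoryTheory.Limits.Shapes.Opposites.Products

set_option autoImplicit false
universe v u
open CategoryTheory CategoryTheory.Limits
open CohDer

namespace Groth.Agent.S1079

open CategoryTheory CategoryTheory.Limits CategoryTheory.Pretriangulated
open CategoryTheory.Pretriangulated.Opposite

lemma of_coprod {C : Type*} [Category C] [Preadditive C] [HasZeroObject C] [HasShift C ℤ]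
    [∀ n : ℤ, (shiftFunctor C n).Additive] [Pretriangulated C]
    [HasColimitsOfShape (Discrete ℕ) C] : IsIdempotentComplete C := by
  refine ⟨fun X e he => ?_⟩
  let Z : ℕ → C := fun _ => X
  let φ : (∐ Z) ⟶ ∐ Z := Sigma.desc fun n => Sigma.ι Z n - e ≫ Sigma.ι Z (n + 1)
  let P : ℕ → (X ⟶ ∐ Z) := fun n => ∑ i ∈ Finset.range n, Sigma.ι Z i
  let L : (∐ Z) ⟶ ∐ Z := Sigma.desc fun n => Sigma.ι Z n - e ≫ Sigma.ι Z n - e ≫ P n
  have hL : φ ≫ L = 𝟙 _ := by
    refine Sigma.hom_ext _ _ fun n => ?_
    simp only [φ, L, Sigma.ι_desc_assoc, Preadditive.sub_comp, Category.assoc, Sigma.ι_desc,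
      Preadditive.comp_sub, Category.comp_id]
    rw [← Category.assoc e e (Sigma.ι Z (n + 1)), he, sub_self, zero_sub,
      ← Category.assoc e e (P (n + 1)), he]
    simp only [P, Finset.sum_range_succ, Preadditive.comp_add]
    abel
  obtain ⟨Y, a, δ, hT⟩ := distinguished_cocone_triangle φ
  have : Mono φ := mono_of_mono_fac hL
  have hδ : δ = 0 := by
    have h0 : δ ≫ (shiftFunctor C (1 : ℤ)).map φ = 0 := comp_distTriang_mor_zero₃₁ _ hT
    have : SplitMono φ := ⟨L, hL⟩
    have : IsSplitMono φ := IsSplitMono.mk' this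
    rwa [← cancel_mono ((shiftFunctor C (1 : ℤ)).map φ), zero_comp]
  have : Epi a := Triangle.epi₂ _ hT hδ
  let f : (∐ Z) ⟶ X := Sigma.desc fun _ => e
  have hf : φ ≫ f = 0 := Sigma.hom_ext _ _ fun n => by
    simp [φ, f, he]
  obtain ⟨i, hi⟩ := Triangle.yoneda_exact₂ _ hT f hf
  have hi' : a ≫ i = f := hi.symm
  have hφa : φ ≫ a = 0 := comp_distTriang_mor_zero₁₂ _ hT
  let an : ℕ → (X ⟶ Y) := fun n => Sigma.ι Z n ≫ a
  have hrec : ∀ n, an n = e ≫ an (n + 1) := fun n => by
    have h0 := congrArg (Sigma.ι Z n ≫ ·) hφa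
    simpa [φ, an, sub_eq_zero] using h0
  have he' : ∀ n, e ≫ an n = an n := fun n => by rw [hrec n, ← Category.assoc, he]
  have hconst : ∀ n, an n = an 0 := fun n => by
    induction n with
    | zero => rfl
    | succ n ih => rw [← he', ← hrec, ih]
  refine ⟨Y, i, an 0, ?_, ?_⟩
  · rw [← cancel_epi a, Category.comp_id, ← Category.assoc, hi']
    refine Sigma.hom_ext _ _ fun n => ?_
    change Sigma.ι Z n ≫ f ≫ an 0 = an n
    simp [f, he', hconst n]
  · have h0 := congrArg (Sigma.ι Z 0 ≫ ·) hi'
    simpa [f, an] using h0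

/-- A pretriangulated category which has countable coproducts, or countable products, is Karoubian
(idempotent complete). -/
theorem result {D : Type u} [Category.{v} D] [Preadditive D] [Limits.HasZeroObject D] [HasShift D ℤ]
    [∀ n : ℤ, (shiftFunctor D n).Additive] [Pretriangulated D]
    (h : HasColimitsOfShape (Discrete ℕ) D ∨ HasLimitsOfShape (Discrete ℕ) D) : IsIdempotentComplete D := by
  rcases h with h | h
  · exact of_coprod
  · have : HasLimitsOfShape (Discrete ℕ)ᵒᵖ D :=
      hasLimitsOfShape_of_equivalence (Discrete.opposite ℕ).symm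
    have : HasColimitsOfShape (Discrete ℕ) Dᵒᵖ := inferInstance
    exact Idempotents.isIdempotentComplete_of_isIdempotentComplete_opposite of_coprod

end Groth.Agent.S1079
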