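import Groth.Statements.S10790
import Groth.Agent.H13AlgSp.EtRlimSingle

set_option autoImplicit false
universe u
open CategoryTheory CategoryTheory.Limits AlgebraicGeometry
attribute [local instance] HasDerivedCategory.standard
open AlgSp

namespace Groth.Agent.S10790

/-- Part (2): for the inverse system of cohomology sheaves: let X be an algebraic space over S and (M_n,
t_n : M_{n+1} ⟶ M_n) an inverse system of quasi-coherent O_X-modules (on the small etale site) whose
transition maps are epimorphisms. Then R lim M_n = lim M_n in D(O_X): granted that the product of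
the M_n[0] exists in D(O_X) (it does), the morphism (lim M_n)[0] ⟶ ∏ M_n[0] whose components are the
limit projections, followed by identity minus transition, extends to a distinguished triangle (lim
M_n)[0] ⟶ ∏ M_n[0] ⟶ ∏ M_n[0] ⟶ (lim M_n)[1]. -/
theorem result {S : Scheme.{u}} (X : AlgSp.Space S)
    (M : ℕ → AlgSp.ModEt X.obj) (t : ∀ n, M (n + 1) ⟶ M n) (hM : ∀ n, (M n).IsQuasicoherent)
    (ht : ∀ n, Epi (t n)) [HasProduct fun n : ℕ => DCoh.inDMod (AlgSp.OEtRing X.obj) (M n)] :
    ∃ c : (∏ᶜ fun n : ℕ => DCoh.inDMod (AlgSp.OEtRing X.obj) (M n)) ⟶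
        (DCoh.inDMod (AlgSp.OEtRing X.obj) (limit (Functor.ofOpSequence t)))⟦(1 : ℤ)⟧,
      CategoryTheory.Pretriangulated.Triangle.mk
        (Pi.lift (f := fun n : ℕ => DCoh.inDMod (AlgSp.OEtRing X.obj) (M n))
          fun n : ℕ => (DerivedCategory.singleFunctor (AlgSp.ModEt X.obj) 0).map
            (limit.π (Functor.ofOpSequence t) (Opposite.op n)))
        (Pi.lift fun n : ℕ => Pi.π (fun n : ℕ => DCoh.inDMod (AlgSp.OEtRing X.obj) (M n)) n -
          Pi.π (fun n : ℕ => DCoh.inDMod (AlgSp.OEtRing X.obj) (M n)) (n + 1) ≫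
            (DerivedCategory.singleFunctor (AlgSp.ModEt X.obj) 0).map (t n))
        c ∈ CategoryTheory.Pretriangulated.distinguishedTriangles := by
  exact H13AlgSp.EtRlimSingle.isRlimVia_single M t hM ht

end Groth.Agent.S10790
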