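import Groth.Statements.S10792
import Groth.Agent.H13Cartier.Criteria

set_option autoImplicit false
universe u
open CategoryTheory CategoryTheory.Limits AlgebraicGeometry Topology TopologicalSpace
open AlgSp

namespace Groth.Agent.S10792

/-- (2) ⇔ (4): let X be an algebraic space over a scheme S and D ⟶ X a closed subspace (representable by
closed immersions). Then D is an effective Cartier divisor in the one-chart sense if and only if for
every point x of |D| there are an affine scheme U over S, a representable etale h_U ⟶ X, a point u
of U mapping to the image of x in |X|, and a nonzerodivisor f of the ring A of global functions of U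
such that the inverse image of D in U is the closed subscheme Spec (A/(f)), that is, the closed
subscheme of the quasi-coherent ideal sheaf of U whose ideal of global sections is generated by f. -/
theorem result {S : Scheme.{u}} (X D : AlgSp.Space S) (i : D ⟶ X)
    (hi : AlgSp.RepWith @IsClosedImmersion i.hom) :
    AlgSp.IsEffCartierSub i.hom ↔
      ∀ x : AlgSp.Points D.obj,
        ∃ (U : Over S) (_ : IsAffine U.left) (a : (AlgSp.yon S).obj U ⟶ X.obj) (u : ↥U.left)
          (f : Γ(U.left, ⊤)) (I : U.left.IdealSheafData)
          (fst : (AlgSp.yon S).obj (Over.mk (I.subschemeι ≫ U.hom)) ⟶ D.obj),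
          AlgSp.RepWith @Etale a ∧ AlgSp.Points.ofPt a u = AlgSp.Points.map i.hom x ∧
            f ∈ nonZeroDivisors Γ(U.left, ⊤) ∧
            I.ideal ⟨⊤, isAffineOpen_top U.left⟩ = Ideal.span {f} ∧
            IsPullback fst ((AlgSp.yon S).map (Over.homMk I.subschemeι rfl : Over.mk (I.subschemeι ≫ U.hom) ⟶ U)) i.hom a := by
  exact Groth.Agent.H13Cartier.isEffCartierSub_iff_nbhd X.property hi

end Groth.Agent.S10792
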