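import Groth.Statements.S10798
import Groth.Agent.H13Cartier.Serre

set_option autoImplicit false
universe u
open CategoryTheory CategoryTheory.Limits AlgebraicGeometry Topology TopologicalSpace
open AlgSp

namespace Groth.Agent.S10798

/-- Let X be a locally Noetherian algebraic space over a scheme S satisfying Serre's condition (S_k), in
the etale-local sense: some etale surjective chart of X from a locally Noetherian scheme all of
whose local rings O satisfy min(k, dim O) ≤ depth O. Let D ⟶ X be an effective Cartier divisor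
(one-chart sense). Then D is locally Noetherian and (S_{k-1}) in the same sense (with k - 1 read as
0 when k = 0). -/
theorem result {S : Scheme.{u}} (X D : AlgSp.Space S) (k : ℕ)
    (hX : AlgSp.EtaleLocally (fun U => IsLocallyNoetherian U ∧ ∀ x : ↥U,
        min ((k : ℕ) : WithBot ℕ∞) (ringKrullDim ↥(U.presheaf.stalk x)) ≤
          ((LocCoh.depth ↥(U.presheaf.stalk x) ↥(U.presheaf.stalk x) : ℕ∞) : WithBot ℕ∞)) X.obj)
    (i : D ⟶ X) (hD : AlgSp.IsEffCartierSub i.hom) :
    AlgSp.EtaleLocally (fun V => IsLocallyNoetherian V ∧ ∀ v : ↥V,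
        min ((k - 1 : ℕ) : WithBot ℕ∞) (ringKrullDim ↥(V.presheaf.stalk v)) ≤
          ((LocCoh.depth ↥(V.presheaf.stalk v) ↥(V.presheaf.stalk v) : ℕ∞) : WithBot ℕ∞)) D.obj := by
  exact Groth.Agent.H13Cartier.etaleLocally_serreS k hX hD

end Groth.Agent.S10798
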