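import Groth.Statements.S10799
import Groth.Agent.H13Cartier.Serre

set_option autoImplicit false
universe u
open CategoryTheory CategoryTheory.Limits AlgebraicGeometry Topology TopologicalSpace
open AlgSp

namespace Groth.Agent.S10799

/-- Let X be an algebraic space over a scheme S which is locally Noetherian and normal in the
etale-local sense: some etale surjective chart of X from a locally Noetherian scheme all of whose
local rings are integrally closed domains. Let D ⟶ X be an effective Cartier divisor (one-chart
sense). Then D is (S_1): some etale surjective chart of D from a locally Noetherian scheme all of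
whose local rings O satisfy min(1, dim O) ≤ depth O. -/
theorem result {S : Scheme.{u}} (X D : AlgSp.Space S)
    (hX : AlgSp.EtaleLocally (fun U => IsLocallyNoetherian U ∧ Pi1.IsNormalScheme U) X.obj)
    (i : D ⟶ X) (hD : AlgSp.IsEffCartierSub i.hom) :
    AlgSp.EtaleLocally (fun V => IsLocallyNoetherian V ∧ ∀ v : ↥V,
        min ((1 : ℕ) : WithBot ℕ∞) (ringKrullDim ↥(V.presheaf.stalk v)) ≤
          ((LocCoh.depth ↥(V.presheaf.stalk v) ↥(V.presheaf.stalk v) : ℕ∞) : WithBot ℕ∞)) D.obj := by
  obtain ⟨V, φ, hφ, hφs, hV, hn⟩ := hX
  exact Groth.Agent.H13Cartier.etaleLocally_serreS 2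
    ⟨V, φ, hφ, hφs, Groth.Agent.H13Cartier.serreS_two_of_normal hn⟩ hD

end Groth.Agent.S10799
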