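import Groth.Statements.S10800
import Groth.Agent.H13AlgSp.AffComplChart
import Groth.Agent.H11Div.UFDComplement
import Groth.Agent.H28Alg.RegularUFD
-- import your own Groth.Agent.* helpers here

set_option autoImplicit false
set_option backward.isDefEq.respectTransparency false
universe u
open CategoryTheory CategoryTheory.Limits AlgebraicGeometry Topology TopologicalSpace
open AlgSp

namespace Groth.Agent.S10800

/-- Let S be a separated scheme and X an algebraic space over S which is Noetherian, separated and
regular: X is quasi-compact, quasi-separated and separated over S, and some etale surjective chart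
of X is a locally Noetherian scheme whose local rings are regular. Let T be an affine scheme with a
representable open immersion h_T ⟶ X whose image is dense in |X| (a dense affine open subspace U).
Then there is an effective Cartier divisor D ⟶ X (one-chart sense) with |D| = |X| ∖ |U|. (The
published statement asks X to be separated in the absolute sense; this row asks X separated over a
separated base scheme S, which implies it. Separatedness over S alone does not suffice: over the
affine plane with doubled origin as S, with X = S and U one of the two affine planes, the complement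
is a point of codimension 2.) -/
theorem result {S : Scheme.{u}} [S.IsSeparated] (X : AlgSp.Space S)
    (hreg : AlgSp.EtaleLocally (fun U => IsLocallyNoetherian U ∧ ∀ u : ↥U, IsRegularLocalRing ↥(U.presheaf.stalk u)) X.obj)
    (hqc : AlgSp.IsQuasiCompactSp X.obj) (hqs : AlgSp.IsQuasiSeparatedSp X.obj) (hsep : AlgSp.IsSeparatedSp X.obj)
    (T : Over S) [IsAffine T.left] (j : (AlgSp.yon S).obj T ⟶ X.obj) (hj : AlgSp.RepWith @IsOpenImmersion j)
    (hdense : Dense (Set.range (AlgSp.Points.ofPt j))) :
    ∃ (D : AlgSp.Space S) (i : D ⟶ X), AlgSp.IsEffCartierSub i.hom ∧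
      Set.range (AlgSp.Points.map i.hom) = (Set.range (AlgSp.Points.ofPt j))ᶜ := by
  obtain ⟨U, p, hp, hps, hUn, hUreg⟩ := hreg
  have hopen : IsOpen (Set.range (Points.ofPt j)) := by
    rw [← Set.image_univ]
    exact Groth.Agent.H12AlgSp.isOpenMap_ofPt_of_repWith (fun _ _ f (_ : IsOpenImmersion f) => inferInstance)
      hj _ isOpen_univ
  let W : U.left.Opens :=
    ⟨Points.ofPt p ⁻¹' Set.range (Points.ofPt j), hopen.preimage (Points.continuous_ofPt p)⟩
  haveI : IsAffineHom W.ι := Groth.Agent.H13AlgSp.isAffineHom_preimage hsep hj p W rfl
  have hWd : Dense (W : Set U.left) := hdense.preimage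
    (Groth.Agent.H12AlgSp.isOpenMap_ofPt_of_repWith Groth.Agent.H12AlgSp.etale_le_universallyOpen hp)
  have hI := Groth.Agent.H11Div.isEffCartierIdeal_vanishingIdeal_compl W hWd fun x _ => by
    haveI := hUreg x
    haveI := Groth.Agent.H4Depth.isDomain_of_isRegularLocalRing (U.left.presheaf.stalk x)
    have hsp := IsRegularLocalRing.spanFinrank_maximalIdeal (R := U.left.presheaf.stalk x)
    exact ⟨inferInstance, Groth.Agent.H28Alg.ufd_of_regular_of_dim_le _ _ hsp.symm.le⟩
  have hT : IsClosed (Set.range (Points.ofPt j))ᶜ := hopen.isClosed_compl
  obtain ⟨Z, i, q, hZ, hi, hrange, sq⟩ :=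
    Groth.Agent.H13AlgSp.exists_redInduced_chart X.property hT hp hps
  refine ⟨⟨Z, hZ⟩, ObjectProperty.homMk i, ⟨hi, U, p, _, q, hp, hps, sq, ?_⟩, hrange⟩
  exact hI

end Groth.Agent.S10800
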