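import Groth.Statements.S10802
import Groth.Agent.H13AlgSp.FibreNoeth

set_option autoImplicit false
universe u
open CategoryTheory CategoryTheory.Limits AlgebraicGeometry Topology TopologicalSpace
open AlgSp

namespace Groth.Agent.S10802

open Groth.Agent.H13AlgSp


/-- For algebraic spaces X and Y over a scheme S and a morphism f : X ⟶ Y which is locally of finite
type, every fibre of f over a field-valued point of Y is a locally Noetherian algebraic space: for
every field k and every point p : Spec k ⟶ Y, the fibre X_p = Spec k ×_Y X (any pullback of f along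
the morphism of p) admits a representable etale surjective chart from a locally Noetherian scheme. -/
theorem result {S : Scheme.{u}} (X Y : AlgSp.Space S) (f : X ⟶ Y)
    (hf : AlgSp.LocP @LocallyOfFiniteType f.hom) (p : AlgSp.FieldPt Y.obj)
    {P : AlgSp.Sp S} (fst : P ⟶ X.obj) (snd : P ⟶ (AlgSp.yon S).obj p.pt) (hP : IsPullback fst snd f.hom p.toHom) :
    AlgSp.IsLocNoethSp P := by
  exact isLocNoethSp_of_lft (Groth.Agent.H12AlgSp.isAlgSpace_of_isPullback Y.property.diag X.property (AlgSp.IsAlgSpace.yon_obj p.pt) hP)
    (Groth.Agent.H12AlgSp.locP_of_isPullback Groth.Agent.H12AlgSp.etLocal_lft hP X.property Y.property (AlgSp.IsAlgSpace.yon_obj p.pt) hf)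

end Groth.Agent.S10802
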