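import Groth.Statements.S10803
import Groth.Agent.H13AlgSp.FibreNoeth

set_option autoImplicit false
universe u
open CategoryTheory CategoryTheory.Limits AlgebraicGeometry Topology TopologicalSpace
open AlgSp

namespace Groth.Agent.S10803

open Groth.Agent.H13AlgSp


/-- (3) ⇒ (2) (with (2) ⇒ (1) ⇒ (3) immediate, this gives the equivalence of the three conditions
defining a locally Noetherian fibre over y): take a morphism f : X ⟶ Y of algebraic spaces over a
scheme S and a point y of |Y|. Suppose that for some field k and some point p : Spec k ⟶ Y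
representing y the fibre X_p (any pullback of f along the morphism of p) is locally Noetherian. Then
for every scheme V, every representable etale h_V ⟶ Y and every point v of V mapping to y, the fibre
X_v = Spec κ(v) ×_Y X is locally Noetherian. -/
theorem result {S : Scheme.{u}} (X Y : AlgSp.Space S) (f : X ⟶ Y)
    (y : AlgSp.Points Y.obj) (p : AlgSp.FieldPt Y.obj) (hp : AlgSp.Points.mk p = y)
    (hNoeth : ∀ ⦃P : AlgSp.Sp S⦄ (fst : P ⟶ X.obj) (snd : P ⟶ (AlgSp.yon S).obj p.pt),
      IsPullback fst snd f.hom p.toHom → AlgSp.IsLocNoethSp P)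
    (V : Over S) (b : (AlgSp.yon S).obj V ⟶ Y.obj) (hb : AlgSp.RepWith @Etale b) (v : ↥V.left)
    (hv : AlgSp.Points.ofPt b v = y)
    {Q : AlgSp.Sp S} (qfst : Q ⟶ X.obj) (qsnd : Q ⟶ (AlgSp.yon S).obj (AlgSp.FieldPt.ofPt b v).pt)
    (hQ : IsPullback qfst qsnd f.hom (AlgSp.FieldPt.ofPt b v).toHom) :
    AlgSp.IsLocNoethSp Q := by
  exact isLocNoethSp_fibre_chart X.property Y.property p (hNoeth _ _ (IsPullback.of_hasPullback f.hom p.toHom)) hb v (hv.trans hp.symm) hQ

end Groth.Agent.S10803
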