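import Groth.Statements.S10805
import Groth.Agent.H13EtMod.WeakAss

set_option autoImplicit false
universe u
open CategoryTheory CategoryTheory.Limits AlgebraicGeometry Topology TopologicalSpace
open AlgSp

namespace Groth.Agent.S10805

/-- Let X be a reduced algebraic space over a scheme S and x a point of |X|. Then x is a weakly
associated point of X (a weakly associated point of the structure sheaf O_X on the small etale site)
if and only if x is a point of codimension 0 of X (for some scheme U with a representable etale h_U
⟶ X and some point u of U over x, the local ring of U at u has Krull dimension 0). -/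
theorem result {S : Scheme.{u}} (X : AlgSp.Space S)
    (hX : AlgSp.IsReducedSp X.obj) [(AlgSp.unitModEt X.obj).IsQuasicoherent] (x : AlgSp.Points X.obj) :
    x ∈ AlgSp.WeakAssEt (AlgSp.unitModEt X.obj) ↔
      AlgSp.HasAt (fun U u => ringKrullDim ↥(U.presheaf.stalk u) = 0) X.obj x := by
  exact Groth.Agent.H13EtMod.mem_weakAssEt_unit_iff X.property hX x

end Groth.Agent.S10805
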