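import Groth.Statements.S10812
import Groth.Agent.H13EtMod.WeakAss

set_option autoImplicit false
universe u
open CategoryTheory CategoryTheory.Limits AlgebraicGeometry Topology TopologicalSpace
open AlgSp

namespace Groth.Agent.S10812

/-- Let X be a locally Noetherian algebraic space over a scheme S and F a coherent O_X-module on the
small etale site of X (a quasi-coherent module of finite type; on a locally Noetherian space its
associated points are its weakly associated points). Then for every quasi-compact open subset W of
|X| the set of associated points of F contained in W is finite. -/
theorem result {S : Scheme.{u}} (X : AlgSp.Space S)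
    (hX : AlgSp.IsLocNoethSp X.obj) (M : AlgSp.ModEt X.obj) [M.IsQuasicoherent] [M.IsFiniteType]
    (W : Set (AlgSp.Points X.obj)) (hWo : IsOpen W) (hWc : IsCompact W) :
    (AlgSp.WeakAssEt M ∩ W).Finite := by
  exact Groth.Agent.H13EtMod.finite_weakAssEt_inter X.property hX M W hWo hWc

end Groth.Agent.S10812
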