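import Groth.Statements.S10814
import Groth.Agent.H13Cartier.Sum

set_option autoImplicit false
universe u
open CategoryTheory CategoryTheory.Limits AlgebraicGeometry Topology TopologicalSpace
open AlgSp

namespace Groth.Agent.S10814

/-- Let X be an algebraic space over a scheme S and D₁, D₂ ⟶ X effective Cartier divisors (one-chart
sense) with quasi-coherent ideal sheaves I₁, I₂ on the small etale site. Then their sum, the closed
subspace D ⟶ X cut out by the product ideal I₁·I₂, is an effective Cartier divisor. -/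
theorem result {S : Scheme.{u}} (X D₁ D₂ D : AlgSp.Space S)
    (i₁ : D₁ ⟶ X) (i₂ : D₂ ⟶ X) (i : D ⟶ X) (I₁ I₂ : AlgSp.IdealEt X.obj) (hI₁ : I₁.IsQCoh) (hI₂ : I₂.IsQCoh)
    (h₁ : AlgSp.IsCutOutBy I₁ i₁.hom) (h₂ : AlgSp.IsCutOutBy I₂ i₂.hom) (hD : AlgSp.IsCutOutBy (I₁ * I₂) i.hom)
    (e₁ : AlgSp.IsEffCartierSub i₁.hom) (e₂ : AlgSp.IsEffCartierSub i₂.hom) :
    AlgSp.IsEffCartierSub i.hom := by
  exact Groth.Agent.H13Cartier.isEffCartierSub_mul X.property h₁ h₂ hD e₁ e₂

end Groth.Agent.S10814
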