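import Groth.Statements.S10815
import Groth.Agent.H13EtMod.WeakAss

set_option autoImplicit false
universe u
open CategoryTheory CategoryTheory.Limits AlgebraicGeometry Topology TopologicalSpace
open AlgSp

namespace Groth.Agent.S10815

/-- Let f : X ⟶ Y be a finite morphism of algebraic spaces over a scheme S (representable; the
representability is carried as a separate hypothesis) and F a quasi-coherent O_X-module on the small
etale site of X, with f_*F quasi-coherent. Then WeakAss(f_*F) = f(WeakAss(F)) as subsets of |Y|. -/
theorem result {S : Scheme.{u}} (X Y : AlgSp.Space S) (f : X ⟶ Y)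
    (hf : AlgSp.Representable f.hom) (hfin : AlgSp.IsFiniteMor f.hom)
    (M : AlgSp.ModEt X.obj) [M.IsQuasicoherent] [((AlgSp.pushModEt hf).obj M).IsQuasicoherent] :
    AlgSp.WeakAssEt ((AlgSp.pushModEt hf).obj M) = AlgSp.Points.map f.hom '' AlgSp.WeakAssEt M := by
  have haff := ((Groth.Agent.H12AlgSp.isFiniteMor_iff_affine_proper X.property Y.property).1 hfin).1
  exact (Groth.Agent.H13EtMod.weakAssEt_push_subset M haff).antisymm (Groth.Agent.H13EtMod.weakAssEt_push_superset M Y.property haff ((Groth.Agent.H12AlgSp.BCMod.isQuasicoherent_iff_isBCEt M).1 inferInstance)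
    fun E hE => Or.inl (Groth.Agent.H13EtMod.finite_topHom hf hfin E))

end Groth.Agent.S10815
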