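import Groth.Statements.S10819
import Groth.Agent.H13EtMod.PullSections
import Groth.Agent.H13EtMod.WeakAss
import Groth.Agent.H7Flat.WeakAssFinite
import Groth.Agent.H12AlgSp.Univ
-- import your own Groth.Agent.* helpers here

set_option autoImplicit false
set_option backward.isDefEq.respectTransparency false
universe u
open CategoryTheory CategoryTheory.Limits AlgebraicGeometry Topology TopologicalSpace
open AlgSp Groth.Agent.H12AlgSp Groth.Agent.H12AlgSp.BCMod Groth.Agent.H13EtMod

namespace Groth.Agent.S10819

/-- Take a finite flat morphism f : X ⟶ Y between algebraic spaces over a scheme S (representable; the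
representability and the existence of the pullback functor f^* on modules are carried as
hypotheses), G a quasi-coherent O_Y-module on the small etale site of Y with f^*G quasi-coherent,
and x a point of |X| with image y in |Y|. Then x is a weakly associated point of f^*G if and only if
y is a weakly associated point of G. -/
theorem result {S : Scheme.{u}} (X Y : AlgSp.Space S) (f : X ⟶ Y)
    (hf : AlgSp.Representable f.hom) (hfin : AlgSp.IsFiniteMor f.hom) (hflat : AlgSp.LocP @Flat f.hom)
    [(SheafOfModules.pushforward.{u + 1} (AlgSp.bcRingHom hf)).IsRightAdjoint]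
    (G : AlgSp.ModEt Y.obj) [G.IsQuasicoherent] [((AlgSp.pullModEt hf).obj G).IsQuasicoherent]
    (x : AlgSp.Points X.obj) :
    x ∈ AlgSp.WeakAssEt ((AlgSp.pullModEt hf).obj G) ↔ AlgSp.Points.map f.hom x ∈ AlgSp.WeakAssEt G := by
  classical
  obtain ⟨E, w, hE, rfl⟩ := exists_bc_point (hf := hf) Y.property x
  rw [map_ofPt_bc E w]
  have hG : IsBCEt G := (isQuasicoherent_iff_isBCEt G).1 inferInstance
  have hP : IsBCEt ((AlgSp.pullModEt hf).obj G) := (isQuasicoherent_iff_isBCEt _).1 inferInstance
  let B := (AlgSp.EtOver.bc hf).obj E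
  have hB : IsAffine B.obj.left.left := isAffine_bc hf hfin E
  rw [← isWeakAssOn_iff_mem hP B w, ← isWeakAssOn_iff_mem hG E _, isWeakAssOn_iff, isWeakAssOn_iff]
  let _ : Algebra (OSec E) (OSec B) := (topHom hf E).toAlgebra
  let _ : Module (OSec E) ((pm ((AlgSp.pullModEt hf).obj G)).obj (Opposite.op B)) :=
    Module.compHom _ (topHom hf E)
  have : IsScalarTower (OSec E) (OSec B) ((pm ((AlgSp.pullModEt hf).obj G)).obj (Opposite.op B)) :=
    IsScalarTower.of_algebraMap_smul fun _ _ => rfl
  obtain ⟨l, hl⟩ := PullSec.exists_isBaseChange hf G E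
  rw [← weakAss_congr hl.equiv]
  have : Module.Finite (OSec E) (OSec B) := finite_topHom hf hfin E
  have : Module.Flat (OSec E) (OSec B) := by
    have hsnd : Flat (hf.snd E.obj.hom).left :=
      (repWith_of_locP etLocal_flat Y.property hf hflat).2 _ _ _ (hf.isPullback E.obj.hom)
    have : IsAffine (hf.pullback E.obj.hom).left := hB
    have h : (hf.snd E.obj.hom).left.appTop.hom.Flat := HasRingHomProperty.appTop @Flat _ hsnd
    exact (RingHom.Flat.of_bijective
        (f := (ULift.ringEquiv : ULift.{u + 1} Γ(E.obj.left.left, ⊤) ≃+* _).toRingHom) (RingEquiv.bijective _)).comp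
      (h.comp (RingHom.Flat.of_bijective
        (f := (ULift.ringEquiv.symm : _ ≃+* ULift.{u + 1} Γ(B.obj.left.left, ⊤)).toRingHom) (RingEquiv.bijective _)))
  let p := upP E ((hf.snd E.obj.hom).left w)
  let t : Ideal (OSec B) := upP B w
  have : t.IsPrime := inferInstanceAs (upP B w).IsPrime
  have : t.LiesOver p := ⟨(comap_upP_topHom E w).symm⟩
  exact ⟨Groth.Agent.H7Flat.WeakAssFinite.mem_weakAss_of_tensor (OSec E) (OSec B) ((pm G).obj (Opposite.op E)) p t,
    Groth.Agent.H7Flat.WeakAssFinite.tensor_mem_weakAss (OSec E) (OSec B) ((pm G).obj (Opposite.op E)) p t⟩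

end Groth.Agent.S10819
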