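import Groth.Statements.S1082
import Groth.Agent.H16Derived.FilD.Res

set_option autoImplicit false
universe v u
open CategoryTheory CategoryTheory.Limits Opposite
open FilD

namespace Groth.Agent.S1082

/-- Let A be an abelian category with enough injectives and K a bounded below cochain complex of finite
filtered objects. There are a bounded below complex I of filtered injective objects and a filtered
quasi-isomorphism K ⟶ I each of whose components Kⁿ ⟶ Iⁿ is a strict monomorphism. -/
theorem result {A : Type u} [Category.{v} A] [Abelian A] [EnoughInjectives A] (K : CochainComplex (FilD.FilF A) ℤ) (a : ℤ) [K.IsStrictlyGE a] :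
    ∃ (I : CochainComplex (FilD.FilF A) ℤ) (a' : ℤ) (φ : K ⟶ I), I.IsStrictlyGE a' ∧ (∀ n, FilD.IsFilteredInjective (I.X n)) ∧
      FilD.IsFilteredQuasiIso φ ∧ ∀ n, Mono (φ.f n) ∧ FilD.IsStrict (φ.f n) := by
  obtain ⟨I, a', φ, h₁, h₂, h₃, h₄⟩ := Groth.Agent.H16Derived.FilLib.exists_resolution_strictMono K a
  exact ⟨I, a', φ, h₁, h₂, h₃, fun n => ⟨(h₄ n).1, (Groth.Agent.H16Derived.FilLib.isStrict_iff _).2 (h₄ n).2⟩⟩

end Groth.Agent.S1082
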