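import Groth.Statements.S10820
import Mathlib
import Groth.Agent.H22Alg.ProjDim2

set_option autoImplicit false
universe u
open AlgebraicGeometry Topology TopologicalSpace
open Variety

namespace Groth.Agent.S10820

/-- For a field k, n ≥ 2 and a nonzero homogeneous polynomial f of degree d ≥ 1 in n + 1 variables, the
hypersurface V_+(f) in projective n-space over k (as a subspace of Proj of the polynomial ring
graded by degree) is connected and nonempty. -/
theorem result (k : Type u) [Field k] (n d : ℕ) (hn : 2 ≤ n)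
    (f : MvPolynomial (Fin (n + 1)) k) (hf : f.IsHomogeneous d) (hd : 0 < d) (hf0 : f ≠ 0) :
    IsConnected (ProjectiveSpectrum.zeroLocus (CohB1.polyGrading n k)
      ({f} : Set (MvPolynomial (Fin (n + 1)) k))) := by
  classical
  have hVc : IsClosed (ProjectiveSpectrum.zeroLocus (CohB1.polyGrading n k) ({f} : Set (MvPolynomial (Fin (n + 1)) k))) :=
    ProjectiveSpectrum.isClosed_zeroLocus _ _
  have hIh : (Ideal.span {f}).IsHomogeneous (CohB1.polyGrading n k) :=
    Ideal.homogeneous_span _ _ fun g hg => ⟨d, by rw [Set.mem_singleton_iff.mp hg]; exact hf⟩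
  have hmin : ∀ x : ProjectiveSpectrum (CohB1.polyGrading n k), f ∈ x.asHomogeneousIdeal.toIdeal →
      ∃ z : ProjectiveSpectrum (CohB1.polyGrading n k), z ≤ x ∧ f ∈ z.asHomogeneousIdeal.toIdeal ∧
        Groth.Agent.H22Alg.ProjDim.qdim k n z = n := by
    intro x hx
    obtain ⟨q, hq, hqx⟩ := Ideal.exists_minimalPrimes_le (I := Ideal.span {f})
      (J := x.asHomogeneousIdeal.toIdeal) ((Ideal.span_singleton_le_iff_mem _).mpr hx)
    haveI := hq.1.1
    let z : ProjectiveSpectrum (CohB1.polyGrading n k) :=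
      ⟨⟨q, Groth.Agent.H26Grass.Graded.isHomogeneous_of_mem_minimalPrimes hIh hq⟩, ‹_›,
        fun h => x.not_irrelevant_le (le_trans h hqx)⟩
    have hfz : f ∈ z.asHomogeneousIdeal.toIdeal := hq.1.2 (Ideal.mem_span_singleton_self f)
    obtain ⟨h, hh, hsum⟩ := Groth.Agent.H22Alg.ProjDim.exists_height_eq k n q
      (Groth.Agent.H22Alg.ProjDim.qdim_spec k n z)
    have h1 := Ideal.height_le_one_of_isPrincipal_of_mem_minimalPrimes (Ideal.span {f}) q hq
    rw [hh] at h1
    have h1' : h ≤ 1 := by exact_mod_cast h1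
    have h2 : h ≠ 0 := fun h0 => by
      have h3 : z.asHomogeneousIdeal.toIdeal = ⊥ :=
        (Groth.Agent.H22Alg.ProjDim.eq_bot_iff_qdim k n z).mpr (by omega)
      rw [h3] at hfz
      exact hf0 ((Submodule.mem_bot _).mp hfz)
    exact ⟨z, hqx, hfz, by omega⟩
  have hsub : ∀ z : ProjectiveSpectrum (CohB1.polyGrading n k), f ∈ z.asHomogeneousIdeal.toIdeal →
      closure {z} ⊆ ProjectiveSpectrum.zeroLocus (CohB1.polyGrading n k) ({f} : Set (MvPolynomial (Fin (n + 1)) k)) :=
    fun z hz => hVc.closure_subset_iff.mpr (Set.singleton_subset_iff.mpr (Set.singleton_subset_iff.mpr hz))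
  refine ⟨?_, isPreconnected_of_forall_pair fun a ha b hb => ?_⟩
  · obtain ⟨x₀, -, hq₀⟩ := Groth.Agent.H22Alg.ProjDim.exists_bot_point k n
    obtain ⟨q, hqh, hq, e, he, hle⟩ := Groth.Agent.H22Alg.ProjDim.exists_minimal_cut k n x₀ {f} (by
      intro g hg
      rw [Finset.mem_singleton] at hg
      exact ⟨d, hd, hg ▸ hf⟩)
    haveI := hq.1.1
    rw [Finset.card_singleton] at hle
    obtain ⟨z, hz⟩ := Groth.Agent.H22Alg.ProjDim.exists_point k n hqh
      (by rw [he]; exact_mod_cast (show 0 < e by omega))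
    refine ⟨z, Set.singleton_subset_iff.mpr ?_⟩
    show f ∈ z.asHomogeneousIdeal.toIdeal
    rw [hz]
    exact hq.1.2 (le_sup_right (α := Ideal (MvPolynomial (Fin (n + 1)) k)) (Ideal.subset_span (by simp)))
  · obtain ⟨za, hza, hfa, hqa⟩ := hmin a (Set.singleton_subset_iff.mp ha)
    obtain ⟨zb, hzb, hfb, hqb⟩ := hmin b (Set.singleton_subset_iff.mp hb)
    obtain ⟨w, haw, hbw, -⟩ := Groth.Agent.H22Alg.ProjDim.exists_common k n za zb (by omega)
    have hcl : ∀ {x y : ProjectiveSpectrum (CohB1.polyGrading n k)}, x ≤ y → y ∈ closure {x} :=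
      fun {x y} h => (ProjectiveSpectrum.le_iff_mem_closure _ x y).mp h
    exact ⟨closure {za} ∪ closure {zb}, Set.union_subset (hsub za hfa) (hsub zb hfb),
      Or.inl (hcl hza), Or.inr (hcl hzb),
      isPreconnected_singleton.closure.union w (hcl haw) (hcl hbw) isPreconnected_singleton.closure⟩

end Groth.Agent.S10820
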