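import Groth.Statements.S10821
import Mathlib
import Groth.Agent.H22Alg.ProjDim2

set_option autoImplicit false
universe u
open AlgebraicGeometry Topology TopologicalSpace
open Variety

namespace Groth.Agent.S10821

/-- For a field k and an irreducible closed subset Z of projective n-space over k, Z has codimension 1
(the longest chain of irreducible closed subsets strictly above Z has length 1) if and only if Z is
the zero set V_+(f) of an irreducible homogeneous polynomial f in n + 1 variables. -/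
theorem result (k : Type u) [Field k] (n : ℕ)
    (Z : TopologicalSpace.IrreducibleCloseds (ProjectiveSpectrum (CohB1.polyGrading n k))) :
    Order.coheight Z = 1 ↔
      ∃ (d : ℕ) (f : MvPolynomial (Fin (n + 1)) k), f.IsHomogeneous d ∧ Irreducible f ∧
        (Z : Set (ProjectiveSpectrum (CohB1.polyGrading n k))) =
          ProjectiveSpectrum.zeroLocus (CohB1.polyGrading n k) ({f} : Set (MvPolynomial (Fin (n + 1)) k)) := by
  obtain ⟨x, hxZ, hZx, hmin, -⟩ := Groth.Agent.H22Alg.ProjDim.exists_generic k n Z.isClosed Z.isIrreducible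
  obtain ⟨x₀, hx₀, hq₀⟩ := Groth.Agent.H22Alg.ProjDim.exists_bot_point k n
  let cl : ProjectiveSpectrum (CohB1.polyGrading n k) → TopologicalSpace.IrreducibleCloseds _ :=
    fun y => ⟨closure {y}, isIrreducible_singleton.closure, isClosed_closure⟩
  have hgen : ∀ W : TopologicalSpace.IrreducibleCloseds (ProjectiveSpectrum (CohB1.polyGrading n k)),
      ∃ w, W = cl w := fun W => by
    obtain ⟨w, -, hw, -⟩ := Groth.Agent.H22Alg.ProjDim.exists_generic k n W.isClosed W.isIrreducible
    exact ⟨w, SetLike.coe_injective hw⟩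
  have hcl : ∀ a b, cl a ≤ cl b ↔ b ≤ a := fun a b => by
    rw [ProjectiveSpectrum.le_iff_mem_closure]
    exact ⟨fun h => h (subset_closure (Set.mem_singleton _)),
      fun h => (isClosed_closure.closure_subset_iff).mpr (Set.singleton_subset_iff.mpr h)⟩
  have hlt : ∀ a b, cl a < cl b ↔ b < a := fun a b => by rw [lt_iff_le_not_ge, lt_iff_le_not_ge, hcl, hcl]
  have hZ : Z = cl x := SetLike.coe_injective hZx
  have hx0le : ∀ y, x₀ ≤ y := fun y =>
    show x₀.asHomogeneousIdeal.toIdeal ≤ y.asHomogeneousIdeal.toIdeal from hx₀ ▸ bot_le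
  have hq_iff : ∀ y, Groth.Agent.H22Alg.ProjDim.qdim k n y = n + 1 → y ≤ x₀ := fun y h =>
    show y.asHomogeneousIdeal.toIdeal ≤ x₀.asHomogeneousIdeal.toIdeal from
      ((Groth.Agent.H22Alg.ProjDim.eq_bot_iff_qdim k n y).mpr h).le.trans bot_le
  have key : Order.coheight Z = 1 ↔ Groth.Agent.H22Alg.ProjDim.qdim k n x = n := by
    rw [show (1 : ℕ∞) = ((0 : ℕ) : ℕ∞) + 1 from (zero_add 1).symm, Order.coheight_eq_coe_add_one_iff]
    have hxle := Groth.Agent.H22Alg.ProjDim.qdim_le_succ k n x
    constructor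
    · rintro ⟨-, ⟨W, hW, -⟩, hall⟩
      obtain ⟨w, rfl⟩ := hgen W
      rw [hZ] at hW hall
      have h1 := Groth.Agent.H22Alg.ProjDim.qdim_lt k n ((hlt x w).mp hW)
      have h2 := Groth.Agent.H22Alg.ProjDim.qdim_le_succ k n w
      by_contra hne
      obtain ⟨y, hyx, hy0⟩ := Groth.Agent.H22Alg.ProjDim.exists_between k n x (by omega)
      have h3 : IsMax (cl y) := Order.coheight_eq_zero.mp (le_antisymm (hall _ ((hlt x y).mpr hyx)) bot_le)
      have h4 : y ≤ x₀ := (hcl x₀ y).mp (h3 ((hcl y x₀).mpr (hx0le y)))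
      exact hy0 (le_bot_iff.mp (hx₀ ▸ (show y.asHomogeneousIdeal.toIdeal ≤ x₀.asHomogeneousIdeal.toIdeal from h4)))
    · intro hxn
      have hlt0 : cl x < cl x₀ := (hlt x x₀).mpr (lt_of_le_of_ne (hx0le x) fun e => by rw [e] at hq₀; omega)
      have hmax : ∀ W, Z < W → Order.coheight W = 0 := by
        intro W hW
        obtain ⟨w, rfl⟩ := hgen W
        rw [Order.coheight_eq_zero]
        rw [hZ] at hW
        have h1 := Groth.Agent.H22Alg.ProjDim.qdim_lt k n ((hlt x w).mp hW)
        have h2 := Groth.Agent.H22Alg.ProjDim.qdim_le_succ k n w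
        intro W' _
        obtain ⟨w', rfl⟩ := hgen W'
        exact (hcl w' w).mpr ((hq_iff w (by omega)).trans (hx0le w'))
      refine ⟨?_, ⟨cl x₀, hZ ▸ hlt0, hmax _ (hZ ▸ hlt0)⟩, fun W hW => (hmax W hW).le⟩
      refine lt_of_le_of_lt (Order.coheight_le fun p hp => ?_) (ENat.coe_lt_top 1)
      by_contra hlen
      have hlen' : 2 ≤ p.length := by
        have : ¬ p.length ≤ 1 := fun h => hlen (Nat.cast_le.mpr h)
        omega
      have h01 : p.toFun ⟨0, by omega⟩ < p.toFun ⟨1, by omega⟩ := p.strictMono (by simp [Fin.lt_def])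
      have h12 : p.toFun ⟨1, by omega⟩ < p.toFun ⟨2, by omega⟩ := p.strictMono (by simp [Fin.lt_def])
      have hZ1 : Z < p.toFun ⟨1, by omega⟩ := lt_of_le_of_lt (show p.head = Z from hp).ge h01
      exact (Order.coheight_eq_zero.mp (hmax _ hZ1)).not_lt h12
  rw [key]
  constructor
  · intro h
    obtain ⟨d, f, hf, hirr, hfx⟩ := Groth.Agent.H22Alg.ProjDim.exists_irreducible_form k n
      x.asHomogeneousIdeal.toIdeal x.asHomogeneousIdeal.isHomogeneous
      (by rw [Groth.Agent.H22Alg.ProjDim.qdim_spec, h])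
    refine ⟨d, f, hf, hirr, ?_⟩
    ext z
    rw [hZx, ← ProjectiveSpectrum.le_iff_mem_closure, ProjectiveSpectrum.mem_zeroLocus, Set.singleton_subset_iff]
    show x.asHomogeneousIdeal.toIdeal ≤ z.asHomogeneousIdeal.toIdeal ↔ f ∈ z.asHomogeneousIdeal.toIdeal
    rw [hfx, Ideal.span_singleton_le_iff_mem]
  · rintro ⟨d, f, hf, hirr, hZf⟩
    obtain ⟨hp, hpd⟩ := Groth.Agent.H22Alg.ProjDim.dim_quotient_span_irreducible k n hirr
    haveI := hp
    have hfxm : f ∈ x.asHomogeneousIdeal.toIdeal := (hZf.le hxZ) rfl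
    let y : ProjectiveSpectrum (CohB1.polyGrading n k) :=
      ⟨⟨Ideal.span {f}, Ideal.homogeneous_span _ _ fun g hg => ⟨d, by rw [Set.mem_singleton_iff.mp hg]; exact hf⟩⟩,
        hp, fun h => x.not_irrelevant_le (le_trans h ((Ideal.span_singleton_le_iff_mem _).mpr hfxm))⟩
    have hyZ : y ∈ (Z : Set (ProjectiveSpectrum (CohB1.polyGrading n k))) := by
      rw [hZf]
      exact Set.singleton_subset_iff.mpr (Ideal.mem_span_singleton_self f)
    have he : x = y := le_antisymm (hmin y hyZ)
      (show y.asHomogeneousIdeal.toIdeal ≤ _ from (Ideal.span_singleton_le_iff_mem _).mpr hfxm)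
    have h1 := Groth.Agent.H22Alg.ProjDim.qdim_spec k n y
    rw [he]
    exact_mod_cast (h1.symm.trans hpd)

end Groth.Agent.S10821
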