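import Groth.Statements.S10822
import Mathlib
import Groth.Agent.H22Alg.ProjDim

set_option autoImplicit false
universe u
open AlgebraicGeometry Topology TopologicalSpace
open Variety

namespace Groth.Agent.S10822

/-- Let k be a field, X an irreducible closed subset of projective n-space over k of positive dimension,
and f a homogeneous polynomial in n + 1 variables whose zero set V_+(f) is nonempty and does not
contain X. Then X meets V_+(f), and every irreducible component C of X ∩ V_+(f) has dim C + 1 = dim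
X, i.e. codimension 1 in X (all maximal chains of irreducible closed subsets of X have length dim
X). -/
theorem result (k : Type u) [Field k] (n d : ℕ)
    (X : Set (ProjectiveSpectrum (CohB1.polyGrading n k))) (hXc : IsClosed X) (hXi : IsIrreducible X)
    (hXd : 0 < topologicalKrullDim ↥X)
    (f : MvPolynomial (Fin (n + 1)) k) (hf : f.IsHomogeneous d)
    (hV : (ProjectiveSpectrum.zeroLocus (CohB1.polyGrading n k)
      ({f} : Set (MvPolynomial (Fin (n + 1)) k))).Nonempty)
    (hX : ¬ X ⊆ ProjectiveSpectrum.zeroLocus (CohB1.polyGrading n k)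
      ({f} : Set (MvPolynomial (Fin (n + 1)) k))) :
    (X ∩ ProjectiveSpectrum.zeroLocus (CohB1.polyGrading n k)
        ({f} : Set (MvPolynomial (Fin (n + 1)) k))).Nonempty ∧
      ∀ C ∈ irreducibleComponents ↥(X ∩ ProjectiveSpectrum.zeroLocus (CohB1.polyGrading n k)
          ({f} : Set (MvPolynomial (Fin (n + 1)) k))),
        topologicalKrullDim ↥C + 1 = topologicalKrullDim ↥X := by
  classical
  obtain ⟨x, hxX, hXx, hmin, hdim⟩ := Groth.Agent.H22Alg.ProjDim.exists_generic k n hXc hXi
  have hfx : f ∉ x.asHomogeneousIdeal.toIdeal := fun h => hX fun z hz =>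
    Set.singleton_subset_iff.mpr ((hmin z hz) h)
  have hdpos : 0 < d := by
    by_contra h
    obtain ⟨z, hz⟩ := hV
    obtain rfl : d = 0 := by omega
    have hzf : f ∈ z.asHomogeneousIdeal.toIdeal := hz rfl
    rw [MvPolynomial.totalDegree_eq_zero_iff_eq_C.mp (Nat.le_zero.mp hf.totalDegree_le)] at hzf hfx
    by_cases hc : MvPolynomial.coeff 0 f = 0
    · rw [hc, map_zero] at hfx; exact hfx (zero_mem _)
    · exact z.isPrime.ne_top (Ideal.eq_top_of_isUnit_mem _ hzf ((isUnit_iff_ne_zero.mpr hc).map MvPolynomial.C))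
  let s : Finset (MvPolynomial (Fin (n + 1)) k) := {f}
  have hs : ∀ g ∈ s, ∃ e, 0 < e ∧ g.IsHomogeneous e := fun g hg => by
    rw [Finset.mem_singleton] at hg
    exact ⟨d, hdpos, hg ▸ hf⟩
  have hscard : s.card = 1 := Finset.card_singleton f
  have hAc : IsClosed (X ∩ ProjectiveSpectrum.zeroLocus (CohB1.polyGrading n k) {f}) :=
    hXc.inter (ProjectiveSpectrum.isClosed_zeroLocus _ _)
  have hmem : ∀ z, z ∈ X ∩ ProjectiveSpectrum.zeroLocus (CohB1.polyGrading n k) {f} ↔
      x.asHomogeneousIdeal.toIdeal ⊔ Ideal.span (s : Set (MvPolynomial (Fin (n + 1)) k)) ≤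
        z.asHomogeneousIdeal.toIdeal := fun z => by
    rw [sup_le_iff, Ideal.span_le, Finset.coe_singleton]
    exact ⟨fun h => ⟨hmin z h.1, h.2⟩, fun h => ⟨Groth.Agent.H22Alg.ProjDim.mem_closed_of_le k n hXc hxX h.1, h.2⟩⟩
  rw [hdim] at hXd
  have hx2 : 0 < Groth.Agent.H22Alg.ProjDim.qdim k n x - 1 := by exact_mod_cast hXd
  refine ⟨?_, fun C hC => ?_⟩
  · obtain ⟨q, hqh, hq, e, he, hle⟩ := Groth.Agent.H22Alg.ProjDim.exists_minimal_cut k n x s hs
    haveI := hq.1.1
    obtain ⟨z, hz⟩ := Groth.Agent.H22Alg.ProjDim.exists_point k n hqh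
      (by rw [he]; exact_mod_cast (show 0 < e by omega))
    exact ⟨z, (hmem z).mpr (hz ▸ hq.1.2)⟩
  · obtain ⟨y, hy, hymin, hCdim⟩ := Groth.Agent.H22Alg.ProjDim.exists_point_of_component k n hAc hC
    have hI : (x.asHomogeneousIdeal.toIdeal ⊔ Ideal.span (s : Set (MvPolynomial (Fin (n + 1)) k))).IsHomogeneous
        (CohB1.polyGrading n k) :=
      x.asHomogeneousIdeal.isHomogeneous.sup (Ideal.homogeneous_span _ _ fun g hg => by
        obtain ⟨e, -, he⟩ := hs g hg
        exact ⟨e, he⟩)
    have hyp := Groth.Agent.H22Alg.ProjDim.mem_minimalPrimes_of_minimal k n _ hI y ((hmem y).mp hy)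
      fun z hz hzy => hymin z ((hmem z).mpr hz) hzy
    have h := Groth.Agent.H22Alg.IntersectDim.dim_le_dim_add_of_minimalPrimes k _ _ s hyp
    rw [Groth.Agent.H22Alg.ProjDim.qdim_spec, Groth.Agent.H22Alg.ProjDim.qdim_spec] at h
    have h' : Groth.Agent.H22Alg.ProjDim.qdim k n x ≤ Groth.Agent.H22Alg.ProjDim.qdim k n y + s.card := by
      exact_mod_cast h
    have hlt : x < y := lt_of_le_of_ne (hmin y hy.1) fun e => hfx (e ▸ hy.2 rfl)
    have := Groth.Agent.H22Alg.ProjDim.qdim_lt k n hlt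
    have := Groth.Agent.H22Alg.ProjDim.qdim_pos k n y
    rw [hdim, hCdim, show Groth.Agent.H22Alg.ProjDim.qdim k n x - 1 =
      Groth.Agent.H22Alg.ProjDim.qdim k n y - 1 + 1 by omega, Nat.cast_add, Nat.cast_one]

end Groth.Agent.S10822
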