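import Groth.Statements.S10823
import Mathlib
import Groth.Agent.H22Alg.ProjDim

set_option autoImplicit false
universe u
open AlgebraicGeometry Topology TopologicalSpace
open Variety

namespace Groth.Agent.S10823

/-- Let k be a field, X an irreducible closed subset of projective n-space over k, and f_1, …, f_r
nonzero homogeneous polynomials of positive degrees in n + 1 variables. Then every irreducible
component C of X ∩ V_+(f_1, …, f_r) has codimension at most r in X, i.e. dim X ≤ dim C + r, and if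
dim X ≥ r the intersection is nonempty. -/
theorem result (k : Type u) [Field k] (n r : ℕ)
    (X : Set (ProjectiveSpectrum (CohB1.polyGrading n k))) (hXc : IsClosed X) (hXi : IsIrreducible X)
    (f : Fin r → MvPolynomial (Fin (n + 1)) k) (d : Fin r → ℕ)
    (hf : ∀ i, (f i).IsHomogeneous (d i)) (hd : ∀ i, 0 < d i) (hf0 : ∀ i, f i ≠ 0) :
    (∀ C ∈ irreducibleComponents ↥(X ∩ ProjectiveSpectrum.zeroLocus (CohB1.polyGrading n k) (Set.range f)),
        topologicalKrullDim ↥X ≤ topologicalKrullDim ↥C + (r : WithBot ℕ∞)) ∧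
      ((r : WithBot ℕ∞) ≤ topologicalKrullDim ↥X →
        (X ∩ ProjectiveSpectrum.zeroLocus (CohB1.polyGrading n k) (Set.range f)).Nonempty) := by
  classical
  obtain ⟨x, hxX, hXx, hmin, hdim⟩ := Groth.Agent.H22Alg.ProjDim.exists_generic k n hXc hXi
  let s : Finset (MvPolynomial (Fin (n + 1)) k) := Finset.univ.image f
  have hs : ∀ g ∈ s, ∃ e, 0 < e ∧ g.IsHomogeneous e := fun g hg => by
    obtain ⟨i, -, rfl⟩ := Finset.mem_image.mp hg
    exact ⟨d i, hd i, hf i⟩
  have hscard : s.card ≤ r := Finset.card_image_le.trans (Finset.card_fin r).le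
  have hsr : (s : Set (MvPolynomial (Fin (n + 1)) k)) = Set.range f := by simp [s]
  have hAc : IsClosed (X ∩ ProjectiveSpectrum.zeroLocus (CohB1.polyGrading n k) (Set.range f)) :=
    hXc.inter (ProjectiveSpectrum.isClosed_zeroLocus _ _)
  have hmem : ∀ z, z ∈ X ∩ ProjectiveSpectrum.zeroLocus (CohB1.polyGrading n k) (Set.range f) ↔
      x.asHomogeneousIdeal.toIdeal ⊔ Ideal.span (s : Set (MvPolynomial (Fin (n + 1)) k)) ≤
        z.asHomogeneousIdeal.toIdeal := fun z => by
    rw [sup_le_iff, Ideal.span_le, hsr]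
    exact ⟨fun h => ⟨hmin z h.1, h.2⟩, fun h => ⟨Groth.Agent.H22Alg.ProjDim.mem_closed_of_le k n hXc hxX h.1, h.2⟩⟩
  have hxpos := Groth.Agent.H22Alg.ProjDim.qdim_pos k n x
  refine ⟨fun C hC => ?_, fun hr => ?_⟩
  · obtain ⟨y, hy, hymin, hCdim⟩ := Groth.Agent.H22Alg.ProjDim.exists_point_of_component k n hAc hC
    have hI : (x.asHomogeneousIdeal.toIdeal ⊔ Ideal.span (s : Set (MvPolynomial (Fin (n + 1)) k))).IsHomogeneous
        (CohB1.polyGrading n k) :=
      x.asHomogeneousIdeal.isHomogeneous.sup (Ideal.homogeneous_span _ _ fun g hg => by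
        obtain ⟨e, -, he⟩ := hs g hg
        exact ⟨e, he⟩)
    have hyp := Groth.Agent.H22Alg.ProjDim.mem_minimalPrimes_of_minimal k n _ hI y ((hmem y).mp hy)
      fun z hz hzy => hymin z ((hmem z).mpr hz) hzy
    have h := Groth.Agent.H22Alg.IntersectDim.dim_le_dim_add_of_minimalPrimes k _ _ s hyp
    rw [Groth.Agent.H22Alg.ProjDim.qdim_spec, Groth.Agent.H22Alg.ProjDim.qdim_spec] at h
    have h' : Groth.Agent.H22Alg.ProjDim.qdim k n x ≤ Groth.Agent.H22Alg.ProjDim.qdim k n y + s.card := by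
      exact_mod_cast h
    have := Groth.Agent.H22Alg.ProjDim.qdim_pos k n y
    rw [hdim, hCdim, ← Nat.cast_add]
    exact Nat.cast_le.mpr (by omega)
  · obtain ⟨q, hqh, hq, e, he, hle⟩ := Groth.Agent.H22Alg.ProjDim.exists_minimal_cut k n x s hs
    rw [hdim] at hr
    have hr' : r ≤ Groth.Agent.H22Alg.ProjDim.qdim k n x - 1 := Nat.cast_le.mp hr
    haveI := hq.1.1
    obtain ⟨z, hz⟩ := Groth.Agent.H22Alg.ProjDim.exists_point k n hqh
      (by rw [he]; exact_mod_cast (show 0 < e by omega))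
    exact ⟨z, (hmem z).mpr (hz ▸ hq.1.2)⟩

end Groth.Agent.S10823
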