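import Groth.Statements.S10825
import Groth.Agent.H02CA.NormZeroLocus

set_option autoImplicit false
universe u
open Topology
open CAlg

namespace Groth.Agent.S10825

/-- Let A → B be an injective integral homomorphism of integral domains with fraction fields K and L, L
a finite extension of K, and A integrally closed. For b in B the norm N_{L/K}(b) lies in A; if a
denotes this element of A, then the image of the closed set V(b) of Spec B under Spec B → Spec A is
exactly V(a), and V(b) and V(a) have the same dimension. -/
theorem result
    (A B K L : Type u) [CommRing A] [IsDomain A] [CommRing B] [IsDomain B] [Algebra A B]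
    [Field K] [Field L] [Algebra A K] [IsFractionRing A K] [Algebra B L] [IsFractionRing B L]
    [Algebra A L] [Algebra K L] [IsScalarTower A B L] [IsScalarTower A K L]
    [FiniteDimensional K L] [Algebra.IsIntegral A B] [IsIntegrallyClosed A]
    (hinj : Function.Injective (algebraMap A B))
    (b : B) (a : A) (ha : algebraMap A K a = Algebra.norm K (algebraMap B L b)) :
    PrimeSpectrum.comap (algebraMap A B) '' PrimeSpectrum.zeroLocus ({b} : Set B) =
        PrimeSpectrum.zeroLocus ({a} : Set A) ∧
      topologicalKrullDim ↥(PrimeSpectrum.zeroLocus ({b} : Set B)) =
        topologicalKrullDim ↥(PrimeSpectrum.zeroLocus ({a} : Set A)) := by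
  exact ⟨H02CA.NormZeroLocus.image_zeroLocus hinj b a ha,
    H02CA.NormZeroLocus.dim_zeroLocus_eq hinj b a ha⟩

end Groth.Agent.S10825
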