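import Groth.Statements.S10826
import Groth.Agent.H02CA.PowerSeries

set_option autoImplicit false
open CAlg

namespace Groth.Agent.S10826

/-- Let R be a commutative ring, n ≥ 1, and φ an R-algebra homomorphism from the power series ring in n
variables over R to itself that sends each variable to a power series without constant term. If the
Jacobian matrix at the origin, whose (i, j) entry is the coefficient of X_j in φ(X_i), has
invertible determinant in R, then φ is an isomorphism (bijective). -/
theorem result
    (R : Type*) [CommRing R] (n : ℕ) (hn : 1 ≤ n)
    (φ : MvPowerSeries (Fin n) R →ₐ[R] MvPowerSeries (Fin n) R)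
    (h0 : ∀ i, MvPowerSeries.constantCoeff (φ (MvPowerSeries.X i)) = 0)
    (hJ : IsUnit (Matrix.det (Matrix.of fun i j : Fin n =>
      MvPowerSeries.coeff (Finsupp.single j 1) (φ (MvPowerSeries.X i))))) :
    Function.Bijective φ := by
  exact H02CA.PS.bijective_of_isUnit_det h0 hJ

end Groth.Agent.S10826
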