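import Groth.Statements.S10827
import Mathlib
import Groth.Agent.H22Alg.BezoutGraded

set_option autoImplicit false
universe u
open Variety

namespace Groth.Agent.S10827

/-- Let k be a field and f, g nonzero homogeneous polynomials of positive degrees n and m in three
variables X, Y, T without common non-unit factor, and assume that f(X, Y, 0) and g(X, Y, 0) are also
without common non-unit factor in k[X, Y] (no common point of the two curves lies on the line T =
0). Then the quotient of k[X, Y] by the ideal generated by f(X, Y, 1) and g(X, Y, 1) has dimension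
n·m over k. (The published statement is that two plane curves without common component have total
intersection number equal to the product of their degrees; its argument moves a line off the
finitely many common points and then proves exactly this affine count, which is what this row
states, over an arbitrary field.) -/
theorem result (k : Type u) [Field k] (n m : ℕ)
    (f g : MvPolynomial (Fin 3) k) (hf : f.IsHomogeneous n) (hg : g.IsHomogeneous m)
    (hn : 0 < n) (hm : 0 < m) (hf0 : f ≠ 0) (hg0 : g ≠ 0) (hfg : IsRelPrime f g)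
    (hT : IsRelPrime
      (MvPolynomial.aeval (Fin.cons (MvPolynomial.X 0) (Fin.cons (MvPolynomial.X 1)
        (Fin.cons 0 Fin.elim0)) : Fin 3 → MvPolynomial (Fin 2) k) f)
      (MvPolynomial.aeval (Fin.cons (MvPolynomial.X 0) (Fin.cons (MvPolynomial.X 1)
        (Fin.cons 0 Fin.elim0)) : Fin 3 → MvPolynomial (Fin 2) k) g)) :
    Module.finrank k (MvPolynomial (Fin 2) k ⧸ Ideal.span
      ({MvPolynomial.aeval (Fin.cons (MvPolynomial.X 0) (Fin.cons (MvPolynomial.X 1)
          (Fin.cons 1 Fin.elim0)) : Fin 3 → MvPolynomial (Fin 2) k) f,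
        MvPolynomial.aeval (Fin.cons (MvPolynomial.X 0) (Fin.cons (MvPolynomial.X 1)
          (Fin.cons 1 Fin.elim0)) : Fin 3 → MvPolynomial (Fin 2) k) g} :
        Set (MvPolynomial (Fin 2) k))) = n * m := by
  have h0 : (MvPolynomial.aeval (Fin.cons (MvPolynomial.X 0) (Fin.cons (MvPolynomial.X 1)
        (Fin.cons 0 Fin.elim0)) : Fin 3 → MvPolynomial (Fin 2) k)) =
      Groth.Agent.H22Alg.BezoutGraded.dehom (0 : k) :=
    MvPolynomial.algHom_ext fun i => by fin_cases i <;> simp [Groth.Agent.H22Alg.BezoutGraded.dehom] <;> rfl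
  have h1 : (MvPolynomial.aeval (Fin.cons (MvPolynomial.X 0) (Fin.cons (MvPolynomial.X 1)
        (Fin.cons 1 Fin.elim0)) : Fin 3 → MvPolynomial (Fin 2) k)) =
      Groth.Agent.H22Alg.BezoutGraded.dehom (1 : k) :=
    MvPolynomial.algHom_ext fun i => by fin_cases i <;> simp [Groth.Agent.H22Alg.BezoutGraded.dehom] <;> rfl
  rw [h0] at hT
  rw [h1]
  refine Groth.Agent.H22Alg.BezoutGraded.finrank_affine hf hg hf0 hg0 hfg hT fun hg0' => ?_
  rw [hg0'] at hT
  have hu : IsUnit (Groth.Agent.H22Alg.BezoutGraded.dehom (0 : k) f) := hT dvd_rfl (dvd_zero _)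
  have hcc : (MvPolynomial.constantCoeff : MvPolynomial (Fin 2) k →+* k).comp
      (Groth.Agent.H22Alg.BezoutGraded.dehom (0 : k)).toRingHom = MvPolynomial.constantCoeff :=
    MvPolynomial.ringHom_ext (fun c => by simp [Groth.Agent.H22Alg.BezoutGraded.dehom])
      fun i => by fin_cases i <;> simp [Groth.Agent.H22Alg.BezoutGraded.dehom]
  have h3 : MvPolynomial.constantCoeff (Groth.Agent.H22Alg.BezoutGraded.dehom (0 : k) f) = 0 := by
    refine (RingHom.congr_fun hcc f).trans ?_
    rw [MvPolynomial.constantCoeff_eq, hf.coeff_eq_zero (by simpa using hn.ne)]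
  exact not_isUnit_zero (h3 ▸ hu.map MvPolynomial.constantCoeff)

end Groth.Agent.S10827
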