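import Groth.Statements.S10828
import Mathlib
import Groth.Agent.H22Alg.GaloisFibres

set_option autoImplicit false
universe u
open CategoryTheory AlgebraicGeometry
open Variety

namespace Groth.Agent.S10828

/-- Let k be a field, K an algebraic closure of k with its group G of k-automorphisms, and X a k-scheme
locally of finite type. The map sending a K-valued point of X over k to its image point identifies
the closed points of X with the G-orbits in X(K): a point is closed if and only if it is the image
of some K-valued point, and two K-valued points have the same image if and only if one is obtained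
from the other by composing with Spec of a k-automorphism of K. -/
theorem result (k K : Type u) [Field k] [Field K]
    [Algebra k K] [IsAlgClosure k K] {X : Scheme.{u}} (f : X ⟶ Spec (CommRingCat.of k))
    [LocallyOfFiniteType f] :
    (∀ x : X, IsClosed ({x} : Set X) ↔
        ∃ p : Spec (CommRingCat.of K) ⟶ X, p ≫ f = Spec.map (CommRingCat.ofHom (algebraMap k K)) ∧
          p.base (IsLocalRing.closedPoint K) = x) ∧
      ∀ p q : Spec (CommRingCat.of K) ⟶ X,
        p ≫ f = Spec.map (CommRingCat.ofHom (algebraMap k K)) →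
        q ≫ f = Spec.map (CommRingCat.ofHom (algebraMap k K)) →
          (p.base (IsLocalRing.closedPoint K) = q.base (IsLocalRing.closedPoint K) ↔
            ∃ σ : K ≃ₐ[k] K, q = Spec.map (CommRingCat.ofHom σ.toRingHom) ≫ p) := by
  open CategoryTheory.Limits in
  haveI : IsAlgClosed K := IsAlgClosure.isAlgClosed k
  haveI : Algebra.IsAlgebraic k K := IsAlgClosure.isAlgebraic
  haveI : Normal k K := IsAlgClosure.normal k K
  set s := Spec.map (CommRingCat.ofHom (algebraMap k K))
  haveI : LocallyOfFiniteType (pullback.snd f s) := inferInstance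
  haveI : JacobsonSpace ↥(pullback f s) := LocallyOfFiniteType.jacobsonSpace (pullback.snd f s)
  have hcl := Groth.Agent.H22Alg.GaloisFibres.isClosedMap_bcπ f K
  refine ⟨fun x => ⟨fun hx => ?_, ?_⟩, fun p q hp hq => ⟨fun h => ?_, ?_⟩⟩
  · obtain ⟨z, hz, hzc⟩ := nonempty_inter_closedPoints (Z := pullback.fst f s ⁻¹' {x})
      (let ⟨z, hz⟩ := Groth.Agent.H22Alg.GaloisFibres.surjective_bcπ f K x; ⟨z, hz⟩)
      (hx.preimage (pullback.fst f s).continuous).isLocallyClosed
    refine ⟨pointOfClosedPoint (pullback.snd f s) z hzc ≫ pullback.fst f s, ?_, ?_⟩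
    · rw [Category.assoc, pullback.condition, pointOfClosedPoint_comp_assoc]
    · show (pointOfClosedPoint (pullback.snd f s) z hzc ≫ pullback.fst f s) _ = x
      rw [Scheme.Hom.comp_apply, pointOfClosedPoint_apply]
      exact hz
  · rintro ⟨p, hp, rfl⟩
    let ζ : Spec (CommRingCat.of K) ⟶ pullback f s := pullback.lift p (𝟙 _) (by rw [hp, Category.id_comp])
    have h1 : IsClosed ({ζ (IsLocalRing.closedPoint K)} : Set ↥(pullback f s)) :=
      ((pointEquivClosedPoint (pullback.snd f s)) ⟨ζ, pullback.lift_snd _ _ _⟩).2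
    have h2 := hcl _ h1
    rw [Set.image_singleton, ← Scheme.Hom.comp_apply, pullback.lift_fst] at h2
    exact h2
  · let ζ : Spec (CommRingCat.of K) ⟶ pullback f s := pullback.lift p (𝟙 _) (by rw [hp, Category.id_comp])
    let ζ' : Spec (CommRingCat.of K) ⟶ pullback f s := pullback.lift q (𝟙 _) (by rw [hq, Category.id_comp])
    obtain ⟨σ, hσ⟩ := Groth.Agent.H22Alg.GaloisFibres.exists_smul_eq f K
      (z := ζ (IsLocalRing.closedPoint K)) (z' := ζ' (IsLocalRing.closedPoint K))
      (by rw [← Scheme.Hom.comp_apply, ← Scheme.Hom.comp_apply, pullback.lift_fst, pullback.lift_fst]; exact h)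
    let η : Spec (CommRingCat.of K) ⟶ pullback f s :=
      Spec.map (CommRingCat.ofHom σ.toRingHom) ≫ ζ' ≫ Groth.Agent.H22Alg.GaloisFibres.act f K σ⁻¹
    have hη : η ≫ pullback.snd f s = 𝟙 _ := by
      show (_ ≫ _ ≫ _) ≫ _ = _
      rw [Category.assoc, Category.assoc]
      erw [Groth.Agent.H22Alg.GaloisFibres.act_snd, pullback.lift_snd_assoc]
      rw [Category.id_comp, ← Spec.map_comp, ← Spec.map_id]
      congr 1
      ext y
      exact σ.apply_symm_apply y
    have hzero : ∀ t : Spec (CommRingCat.of K), t = IsLocalRing.closedPoint K := fun t =>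
      @Subsingleton.elim (PrimeSpectrum K) _ _ _
    have heq : η = ζ := ext_of_apply_closedPoint_eq (pullback.snd f s) hη (pullback.lift_snd _ _ _) (by
      rw [← hσ]
      simp only [η, Scheme.Hom.comp_apply]
      rw [hzero (Spec.map _ _)]
      rfl)
    refine ⟨σ⁻¹, ?_⟩
    have h3 := congrArg (· ≫ pullback.fst f s) heq
    replace h3 : Spec.map (CommRingCat.ofHom σ.toRingHom) ≫ q = p := by
      simp only [η, ζ, ζ', Category.assoc] at h3
      erw [Groth.Agent.H22Alg.GaloisFibres.act_fst, pullback.lift_fst, pullback.lift_fst] at h3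
      exact h3
    have hid : CommRingCat.ofHom σ.toRingHom ≫ CommRingCat.ofHom (σ⁻¹ : K ≃ₐ[k] K).toRingHom = 𝟙 _ := by
      ext y
      exact σ.symm_apply_apply y
    rw [← h3, ← Spec.map_comp_assoc, hid, Spec.map_id, Category.id_comp]
  · rintro ⟨σ, rfl⟩
    show p _ = (Spec.map (CommRingCat.ofHom σ.toRingHom) ≫ p) _
    rw [Scheme.Hom.comp_apply]
    exact congrArg p (@Subsingleton.elim (PrimeSpectrum K) _ _ _)

end Groth.Agent.S10828
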