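import Groth.Statements.S10830
import Groth.Agent.H28Top.Dim

set_option autoImplicit false
universe u
open Topology TopologicalSpace
open TopDim

namespace Groth.Agent.S10830

/-- In an irreducible topological space X of finite Krull dimension, every proper closed subset Y has
strictly smaller Krull dimension than X. -/
theorem result (X : Type u) [TopologicalSpace X]
    [IrreducibleSpace X] (hfin : topologicalKrullDim X ≠ ⊤) (Y : Set X) (hY : IsClosed Y) (hYX : Y ≠ Set.univ) :
    topologicalKrullDim ↥Y < topologicalKrullDim X := by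
  have h0 : (0 : WithBot ℕ∞) ≤ topologicalKrullDim X := by
    haveI : Nonempty (TopologicalSpace.IrreducibleCloseds X) :=
      ⟨⟨Set.univ, IrreducibleSpace.isIrreducible_univ X, isClosed_univ⟩⟩
    exact Order.krullDim_nonneg
  rcases Y.eq_empty_or_nonempty with rfl | hne
  · have : topologicalKrullDim (∅ : Set X) = ⊥ := by
      haveI : IsEmpty (TopologicalSpace.IrreducibleCloseds (∅ : Set X)) :=
        ⟨fun Z => by obtain ⟨z, -⟩ := Z.isIrreducible.nonempty; exact z.2⟩
      exact Order.krullDim_eq_bot
    rw [this]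
    exact lt_of_lt_of_le (by simp) h0
  haveI : Nonempty (TopologicalSpace.IrreducibleCloseds Y) := by
    obtain ⟨y, hy⟩ := hne
    exact ⟨⟨closure {⟨y, hy⟩}, isIrreducible_singleton.closure, isClosed_closure⟩⟩
  have key : ∀ t : LTSeries (TopologicalSpace.IrreducibleCloseds Y),
      (((t.length + 1 : ℕ) : ℕ∞) : WithBot ℕ∞) ≤ topologicalKrullDim X := by
    intro t
    let g := TopologicalSpace.IrreducibleCloseds.map (Subtype.val : Y → X) continuous_subtype_val
    have hg : StrictMono g := TopologicalSpace.IrreducibleCloseds.map_strictMono_of_isInducing Topology.IsInducing.subtypeVal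
    have hlt : (t.map g hg).last < ⟨Set.univ, IrreducibleSpace.isIrreducible_univ X, isClosed_univ⟩ := by
      refine ⟨fun x _ => Set.mem_univ x, fun hle => hYX (Set.eq_univ_of_univ_subset fun x hx => ?_)⟩
      have h1 : ((t.map g hg).last : Set X) ⊆ Y := by
        rw [LTSeries.last_map]
        exact closure_minimal (by simp) hY
      exact h1 (hle hx)
    exact Order.LTSeries.length_le_krullDim ((t.map g hg).snoc _ hlt)
  by_contra hcon
  rw [not_lt] at hcon
  have heq := le_antisymm hcon (topologicalKrullDim_subspace_le X Y)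
  obtain ⟨d, hd⟩ : ∃ d : ℕ, topologicalKrullDim X = ((d : ℕ∞) : WithBot ℕ∞) := by
    obtain ⟨d', hd'⟩ := WithBot.ne_bot_iff_exists.mp (lt_of_lt_of_le (by simp) h0 : (⊥ : WithBot ℕ∞) < _).ne'
    rw [← hd'] at hfin ⊢
    have : d' ≠ ⊤ := fun h => hfin (by rw [h]; rfl)
    exact ⟨d'.toNat, by rw [ENat.coe_toNat this]⟩
  obtain ⟨t, ht⟩ := Order.le_krullDim_iff.mp
    (show ((d : ℕ∞) : WithBot ℕ∞) ≤ Order.krullDim (TopologicalSpace.IrreducibleCloseds Y) from
      (hd.symm.trans heq).le)
  have := key t
  rw [ht, hd] at this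
  norm_cast at this
  omega

end Groth.Agent.S10830
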