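import Groth.Statements.S10831
import Groth.Agent.H28Top.Dim

set_option autoImplicit false
universe u
open Topology TopologicalSpace
open TopDim

namespace Groth.Agent.S10831

/-- The Krull dimension of a topological space is the supremum of the Krull dimensions of its
irreducible components. -/
theorem result (X : Type u) [TopologicalSpace X] :
    topologicalKrullDim X = ⨆ Y ∈ irreducibleComponents X, topologicalKrullDim ↥Y := by
  rw [iSup_subtype']
  refine Groth.Agent.H28Top.dim_eq_iSup_of_subset (fun Y : irreducibleComponents X => (Y : Set X)) fun Z => ?_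
  obtain ⟨t, ht, hZt⟩ := exists_preirreducible (Z : Set X) Z.isIrreducible.isPreirreducible
  exact ⟨⟨t, ⟨Z.isIrreducible.nonempty.mono hZt.1, ht⟩, fun u hu htu => (hZt.2 u hu.2 htu).le⟩, hZt.1⟩

end Groth.Agent.S10831
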