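import Groth.Statements.S10832
import Mathlib
import Groth.Agent.H22Alg.DimZero

set_option autoImplicit false
universe u
open CategoryTheory AlgebraicGeometry Topology
open Variety

namespace Groth.Agent.S10832

/-- For a nonempty scheme X of finite type over a field k the following are equivalent: X has Krull
dimension 0; X is affine with ring of global sections finite over k and equal to the product of all
its local rings via the germ maps; the underlying space of X is discrete; the underlying space of X
is finite. -/
theorem result (k : Type u) [Field k] {X : Scheme.{u}} [Nonempty X]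
    (f : X ⟶ Spec (CommRingCat.of k)) [LocallyOfFiniteType f] [QuasiCompact f] :
    [topologicalKrullDim ↥X = 0,
      IsAffine X ∧ f.appTop.hom.Finite ∧
        Function.Bijective (fun s : Γ(X, ⊤) => fun x : X => X.presheaf.germ ⊤ x trivial s),
      DiscreteTopology ↥X,
      Finite ↥X].TFAE := by
  haveI : IsLocallyNoetherian X := LocallyOfFiniteType.isLocallyNoetherian f
  haveI : CompactSpace X := QuasiCompact.compactSpace_of_compactSpace f
  tfae_have 1 → 3 := fun h => by
    haveI : IsLocallyArtinian X := IsLocallyArtinian.of_topologicalKrullDim_le_zero h.le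
    infer_instance
  tfae_have 3 → 4 := fun h => @finite_of_compact_of_discrete X _ _ h
  tfae_have 4 → 1 := fun _ => by
    haveI := Groth.Agent.H22Alg.DimZero.discreteTopology_of_finite f
    exact le_antisymm (topologicalKrullDim_zero_of_discreteTopology ↥X) (Order.krullDim_nonneg_iff.mpr
      ⟨⟨closure {Classical.arbitrary ↥X}, isIrreducible_singleton.closure, isClosed_closure⟩⟩)
  tfae_have 3 → 2 := fun _ => by
    haveI : Finite X := finite_of_compact_of_discrete
    obtain ⟨h1, h2⟩ := Groth.Agent.H22Alg.DimZero.affine_finite f
    exact ⟨h1, ((HasAffineProperty.iff_of_isAffine (P := @IsFinite)).mp h2).2, Groth.Agent.H22Alg.DimZero.bijective_germs⟩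
  tfae_have 2 → 3 := by
    rintro ⟨h1, h2, -⟩
    haveI := h1
    letI := f.appTop.hom.toAlgebra
    haveI : Module.Finite Γ(Spec (CommRingCat.of k), ⊤) Γ(X, ⊤) := h2
    haveI : IsArtinianRing Γ(Spec (CommRingCat.of k), ⊤) := RingEquiv.isArtinianRing (Scheme.ΓSpecIso (CommRingCat.of k)).commRingCatIsoToRingEquiv.symm
    haveI : IsArtinianRing Γ(X, ⊤) := IsArtinianRing.of_finite Γ(Spec (CommRingCat.of k), ⊤) _
    haveI : DiscreteTopology ↥(Spec Γ(X, ⊤)) := inferInstanceAs (DiscreteTopology (PrimeSpectrum Γ(X, ⊤)))
    exact X.isoSpec.hom.isOpenEmbedding.discreteTopology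
  tfae_finish

end Groth.Agent.S10832
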