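import Groth.Statements.S10833
import Mathlib
import Groth.Agent.H8Props.FieldDimHeight

set_option autoImplicit false
universe u
open Variety

namespace Groth.Agent.S10833

/-- Let k be a field and A a k-algebra of finite type that is an integral domain. Then every chain of
prime ideals of A admitting no refinement — it starts at the zero ideal, ends at a maximal ideal,
and no prime ideal lies strictly between two consecutive members — has length equal to the Krull
dimension of A. -/
theorem result (k A : Type u) [Field k] [CommRing A]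
    [IsDomain A] [Algebra k A] [Algebra.FiniteType k A] (c : LTSeries (PrimeSpectrum A))
    (h0 : c.head.asIdeal = ⊥) (hmax : c.last.asIdeal.IsMaximal)
    (hsat : ∀ i : Fin c.length, c i.castSucc ⋖ c i.succ) :
    (c.length : WithBot ℕ∞) = ringKrullDim A := by
  haveI : IsNoetherianRing A := Algebra.FiniteType.isNoetherianRing k A
  have hquot : ∀ P Q : PrimeSpectrum A, P ⋖ Q →
      ringKrullDim (A ⧸ P.asIdeal) = 1 + ringKrullDim (A ⧸ Q.asIdeal) := by
    intro P Q hPQ
    have hle : P.asIdeal ≤ Q.asIdeal := hPQ.le
    let B := A ⧸ P.asIdeal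
    haveI : Algebra.FiniteType k B := Algebra.FiniteType.trans (R := k) (S := A) inferInstance inferInstance
    let Qb : Ideal B := Q.asIdeal.map (Ideal.Quotient.mk P.asIdeal)
    haveI hQb : Qb.IsPrime := Ideal.map_isPrime_of_surjective Ideal.Quotient.mk_surjective (by rwa [Ideal.mk_ker])
    have hcomap : Qb.comap (Ideal.Quotient.mk P.asIdeal) = Q.asIdeal := by
      rw [Ideal.comap_map_of_surjective _ Ideal.Quotient.mk_surjective, ← RingHom.ker_eq_comap_bot, Ideal.mk_ker,
        sup_eq_left.mpr hle]
    have hbot : Qb ≠ ⊥ := fun h => hPQ.lt.ne (PrimeSpectrum.ext (by rw [← hcomap, h, ← RingHom.ker_eq_comap_bot, Ideal.mk_ker]))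
    have hht : (⟨Qb, hQb⟩ : PrimeSpectrum B).asIdeal.height = 1 := by
      rw [PrimeSpectrum.height_eq_orderHeight]
      refine le_antisymm ?_ ?_
      · refine (Order.height_le_coe_iff (n := 1)).mpr fun y hy => ?_
        have hybot : y = ⟨⊥, Ideal.isPrime_bot⟩ := by
          refine PrimeSpectrum.ext ?_
          have h1 : P ≤ PrimeSpectrum.comap (Ideal.Quotient.mk P.asIdeal) y := fun a ha =>
            Ideal.mem_comap.mpr (by rw [Ideal.Quotient.eq_zero_iff_mem.mpr ha]; exact zero_mem _)
          have h2 : PrimeSpectrum.comap (Ideal.Quotient.mk P.asIdeal) y < Q := by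
            refine lt_of_le_of_ne ((Ideal.comap_mono (hy.le : y.asIdeal ≤ Qb)).trans hcomap.le) fun h => hy.ne ?_
            refine PrimeSpectrum.comap_injective_of_surjective _ Ideal.Quotient.mk_surjective ?_
            exact h.trans (PrimeSpectrum.ext hcomap.symm)
          have h3 := hPQ.eq_or_eq h1 h2.le
          rcases h3 with h3 | h3
          · show y.asIdeal = ⊥
            rw [← Ideal.map_comap_of_surjective _ Ideal.Quotient.mk_surjective y.asIdeal]
            rw [show y.asIdeal.comap (Ideal.Quotient.mk P.asIdeal) = P.asIdeal from congrArg PrimeSpectrum.asIdeal h3,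
              Ideal.map_quotient_self]
          · exact absurd h3 h2.ne
        have : Order.height y = 0 := by
          rw [Order.height_eq_zero, hybot]
          intro z _
          exact (bot_le : (⊥ : Ideal B) ≤ z.asIdeal)
        rw [this]
        exact_mod_cast one_pos
      · rw [ENat.one_le_iff_ne_zero, Ne, Order.height_eq_zero]
        intro hmin
        exact hbot (le_bot_iff.mp (hmin (b := ⟨⊥, Ideal.isPrime_bot⟩) (bot_le : (⊥ : Ideal B) ≤ Qb)))
    have h := Groth.Agent.H8Props.FieldDim.height_add_dim_quotient k B Qb
    rw [← h, show Qb.height = 1 from hht]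
    rw [ringKrullDim_eq_of_ringEquiv (DoubleQuot.quotQuotEquivQuotOfLE hle)]
    rfl
  have key : ∀ i : Fin (c.length + 1),
      ringKrullDim A = ((i : ℕ) : WithBot ℕ∞) + ringKrullDim (A ⧸ (c i).asIdeal) := by
    intro i
    induction i using Fin.induction with
    | zero =>
      rw [show (c 0).asIdeal = ⊥ from h0, ringKrullDim_eq_of_ringEquiv (RingEquiv.quotientBot A)]
      simp
    | succ i ih =>
      rw [ih, hquot _ _ (hsat i), Fin.val_succ, Fin.val_castSucc, ← add_assoc, Nat.cast_add, Nat.cast_one]
  have hl := key (Fin.last _)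
  haveI : (c (Fin.last c.length)).asIdeal.IsMaximal := hmax
  letI := Ideal.Quotient.field (c (Fin.last c.length)).asIdeal
  rw [ringKrullDim_eq_zero_of_field, add_zero] at hl
  rw [hl, Fin.val_last]

end Groth.Agent.S10833
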