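import Groth.Statements.S10834
import Groth.Agent.H02CA.SkDescent

set_option autoImplicit false
universe u
open CAlg

namespace Groth.Agent.S10834

/-- Let A be a Noetherian ring whose localizations at all prime ideals are regular local rings, and f an
element of A generating a prime ideal, so that A/(f) is an integral domain (an integral hypersurface
in the regular affine scheme Spec A). Then A/(f) is normal (integrally closed in its fraction field)
if and only if it is regular in codimension 1, i.e. its localization at every prime at which the
local ring has dimension 1 is a regular local ring. -/
theorem result (A : Type u) [CommRing A]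
    [IsNoetherianRing A] (hreg : ∀ (p : Ideal A) (_ : p.IsPrime), IsRegularLocalRing (Localization.AtPrime p))
    (f : A) (hf : (Ideal.span ({f} : Set A)).IsPrime) :
    IsIntegrallyClosed (A ⧸ Ideal.span ({f} : Set A)) ↔
      ∀ q : PrimeSpectrum (A ⧸ Ideal.span ({f} : Set A)),
        ringKrullDim (Localization.AtPrime q.asIdeal) = 1 →
          IsRegularLocalRing (Localization.AtPrime q.asIdeal) := by
  exact H02CA.SkDescent.isIntegrallyClosed_quotient_iff_R1 A hreg f hf

end Groth.Agent.S10834
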