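import Groth.Statements.S7629
import Mathlib
import Groth.Agent.H22Alg.GeomReducedAt

set_option autoImplicit false
universe u
open CategoryTheory CategoryTheory.Limits AlgebraicGeometry
open Variety

namespace Groth.Agent.S7629

/-- (2) ⇒ (3): let X and Y be varieties over a field k (integral, separated, of finite type) and suppose
the function fields k(X) and k(Y) are isomorphic as k-algebras. Then there are nonempty open
subschemes U ⊆ X and V ⊆ Y which are isomorphic as schemes over k. -/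
theorem result (k : Type u) [Field k] (X : Scheme.{u}) [X.Over (Spec (CommRingCat.of k))] [IsIntegral X] [IsSeparated (X ↘ (Spec (CommRingCat.of k)))] [LocallyOfFiniteType (X ↘ (Spec (CommRingCat.of k)))] [QuasiCompact (X ↘ (Spec (CommRingCat.of k)))]
    (Y : Scheme.{u}) [Y.Over (Spec (CommRingCat.of k))] [IsIntegral Y] [IsSeparated (Y ↘ (Spec (CommRingCat.of k)))] [LocallyOfFiniteType (Y ↘ (Spec (CommRingCat.of k)))] [QuasiCompact (Y ↘ (Spec (CommRingCat.of k)))]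
    (e : X.functionField ≅ Y.functionField)
    (he : e.hom.hom.comp (Curv2.stalkMap k X (genericPoint X)) = Curv2.stalkMap k Y (genericPoint Y)) :
    ∃ (U : X.Opens) (V : Y.Opens), (U : Set ↥X).Nonempty ∧
      ∃ φ : (U : Scheme.{u}) ≅ (V : Scheme.{u}), φ.hom ≫ V.ι ≫ (Y ↘ (Spec (CommRingCat.of k))) = U.ι ≫ (X ↘ (Spec (CommRingCat.of k))) := by
  let sX := X ↘ (Spec (CommRingCat.of k))
  let sY := Y ↘ (Spec (CommRingCat.of k))
  let ηX := genericPoint X
  let ηY := genericPoint Y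
  have hX : X.fromSpecStalk ηX ≫ sX = Spec.map (CommRingCat.ofHom (Curv2.stalkMap k X ηX)) :=
    Groth.Agent.H22Alg.GeomReducedAt.fromSpecStalk_over k X ηX
  have hY : Y.fromSpecStalk ηY ≫ sY = Spec.map (CommRingCat.ofHom (Curv2.stalkMap k Y ηY)) :=
    Groth.Agent.H22Alg.GeomReducedAt.fromSpecStalk_over k Y ηY
  let e' : X.presheaf.stalk ηX ⟶ Y.presheaf.stalk ηY := e.hom
  let ei : Y.presheaf.stalk ηY ⟶ X.presheaf.stalk ηX := e.inv
  have he' : CommRingCat.ofHom (Curv2.stalkMap k X ηX) ≫ e' = CommRingCat.ofHom (Curv2.stalkMap k Y ηY) :=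
    CommRingCat.hom_ext he
  have h1 : (Spec.map ei ≫ Y.fromSpecStalk ηY) ≫ sY = X.fromSpecStalk ηX ≫ sX := by
    rw [Category.assoc, hX, hY, ← he', ← Spec.map_comp, Category.assoc,
      show e' ≫ ei = 𝟙 _ from e.hom_inv_id]
    exact congrArg Spec.map (Category.comp_id _)
  have h2 : (Spec.map e' ≫ X.fromSpecStalk ηX) ≫ sX = Y.fromSpecStalk ηY ≫ sY := by
    rw [Category.assoc, hX, hY, ← Spec.map_comp, he']
  obtain ⟨U, hU, f, hf, hfs⟩ := spread_out_of_isGermInjective' sX sY (x := ηX) _ h1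
  obtain ⟨V, hV, g, hg, hgs⟩ := spread_out_of_isGermInjective' sY sX (x := ηY) _ h2
  -- f and g take generic point to generic point
  have key : ∀ {A B : Scheme.{u}} (a : A) (b : B) (i : B.presheaf.stalk b ⟶ A.presheaf.stalk a) [IsIso i] (W : A.Opens)
      (hW : a ∈ W) (φ : W.toScheme ⟶ B), Spec.map i ≫ B.fromSpecStalk b = W.fromSpecStalkOfMem a hW ≫ φ →
      φ ⟨a, hW⟩ = b := by
    intro A B a b i _ W hW φ h
    have h' : (Spec.map i ≫ B.fromSpecStalk b) (IsLocalRing.closedPoint (A.presheaf.stalk a)) =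
        φ (W.fromSpecStalkOfMem a hW (IsLocalRing.closedPoint (A.presheaf.stalk a))) := by
      rw [h]; rfl
    have hp : W.fromSpecStalkOfMem a hW (IsLocalRing.closedPoint (A.presheaf.stalk a)) = ⟨a, hW⟩ := by
      apply W.ι.isEmbedding.injective
      rw [← Scheme.Hom.comp_apply, Scheme.Opens.fromSpecStalkOfMem_ι, Scheme.fromSpecStalk_closedPoint]
      rfl
    rw [hp] at h'
    rw [← h', Scheme.Hom.comp_apply]
    have : Spec.map i (IsLocalRing.closedPoint (A.presheaf.stalk a)) = IsLocalRing.closedPoint (B.presheaf.stalk b) :=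
      IsLocalRing.comap_closedPoint i.hom
    rw [this, Scheme.fromSpecStalk_closedPoint]
  haveI : IsIso ei := inferInstanceAs (IsIso e.inv)
  haveI : IsIso e' := inferInstanceAs (IsIso e.hom)
  have hfη : f ⟨ηX, hU⟩ = ηY := key ηX ηY ei U hU f hf
  have hgη : g ⟨ηY, hV⟩ = ηX := key ηY ηX e' V hV g hg
  have comp : ∀ {A B : Scheme.{u}} [IsIntegral A] (sA : A ⟶ Spec (CommRingCat.of k)) [IsSeparated sA]
      (sB : B ⟶ Spec (CommRingCat.of k))
      (a : A) (b : B) (_ : IsGenericPoint a Set.univ) (i : B.presheaf.stalk b ⟶ A.presheaf.stalk a) (j : A.presheaf.stalk a ⟶ B.presheaf.stalk b)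
      [IsIso i] (_ : j ≫ i = 𝟙 _) (W : A.Opens) (hW : a ∈ W) (W' : B.Opens) (hW' : b ∈ W') (φ : W.toScheme ⟶ B)
      (ψ : W'.toScheme ⟶ A)
      (_ : Spec.map i ≫ B.fromSpecStalk b = W.fromSpecStalkOfMem a hW ≫ φ)
      (_ : Spec.map j ≫ A.fromSpecStalk a = W'.fromSpecStalkOfMem b hW' ≫ ψ)
      (_ : φ ≫ sB = W.ι ≫ sA) (_ : ψ ≫ sA = W'.ι ≫ sB),
      (φ ∣_ W') ≫ ψ = (φ ⁻¹ᵁ W').ι ≫ W.ι := by
    intro A B _ sA _ sB a b ha i j _ hji W hW W' hW' φ ψ hφ hψ hφs hψs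
    haveI : IsReduced (φ ⁻¹ᵁ W').toScheme := inferInstance
    have hmem : (⟨a, hW⟩ : W.toScheme) ∈ φ ⁻¹ᵁ W' := by
      show φ ⟨a, hW⟩ ∈ W'
      rw [key a b i W hW φ hφ]; exact hW'
    let ι' := (φ ⁻¹ᵁ W').ι ≫ W.ι
    let a' : (φ ⁻¹ᵁ W').toScheme := ⟨⟨a, hW⟩, hmem⟩
    have hrange : Set.range (A.fromSpecStalk a) ⊆ Set.range ι' := by
      rw [Scheme.range_fromSpecStalk]
      exact fun z hz => hz.mem_open ι'.isOpenEmbedding.isOpen_range ⟨a', rfl⟩
    let l := IsOpenImmersion.lift ι' (A.fromSpecStalk a) hrange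
    have hl : l ≫ ι' = A.fromSpecStalk a := IsOpenImmersion.lift_fac _ _ _
    have hlW : l ≫ (φ ⁻¹ᵁ W').ι = W.fromSpecStalkOfMem a hW := by
      rw [← cancel_mono W.ι, Category.assoc, Scheme.Opens.fromSpecStalkOfMem_ι]
      exact hl
    have hlφ : l ≫ (φ ∣_ W') = Spec.map i ≫ W'.fromSpecStalkOfMem b hW' := by
      rw [← cancel_mono W'.ι, Category.assoc, morphismRestrict_ι, ← Category.assoc, hlW, ← hφ, Category.assoc,
        Scheme.Opens.fromSpecStalkOfMem_ι]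
    haveI : IsDominant l := by
      refine ⟨Dense.mono ?_ (dense_iff_closure_eq.mpr (show closure ({a'} : Set (φ ⁻¹ᵁ W').toScheme) = Set.univ from ?_))⟩
      · rw [Set.singleton_subset_iff]
        refine ⟨IsLocalRing.closedPoint (A.presheaf.stalk a), ι'.isEmbedding.injective ?_⟩
        rw [← Scheme.Hom.comp_apply, hl, Scheme.fromSpecStalk_closedPoint]
        rfl
      · rw [ι'.isEmbedding.closure_eq_preimage_closure_image, Set.image_singleton,
          show ι' a' = a from rfl, ha.def, Set.preimage_univ]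
    refine ext_of_isDominant_of_isSeparated sA ?_ l ?_
    · simp only [Category.assoc, hψs, ← hφs, morphismRestrict_ι_assoc]
    · rw [← Category.assoc, hlφ, Category.assoc, ← hψ, ← Category.assoc, ← Spec.map_comp, hji, Spec.map_id,
        Category.id_comp]
      exact hl.symm
  have hfg := comp sX sY ηX ηY (genericPoint_spec X) ei e' e.hom_inv_id U hU V hV f g hf hg hfs hgs
  have hgf := comp sY sX ηY ηX (genericPoint_spec Y) e' ei e.inv_hom_id V hV U hU g f hg hf hgs hfs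
  -- the two opens
  have ha : Set.range (f ∣_ V) ⊆ Set.range (g ⁻¹ᵁ U).ι := by
    rw [Scheme.Opens.range_ι]
    rintro _ ⟨z, rfl⟩
    show g ((f ∣_ V) z) ∈ U
    rw [← Scheme.Hom.comp_apply, hfg]
    exact ((f ⁻¹ᵁ V).ι z).2
  have hb : Set.range (g ∣_ U) ⊆ Set.range (f ⁻¹ᵁ V).ι := by
    rw [Scheme.Opens.range_ι]
    rintro _ ⟨z, rfl⟩
    show f ((g ∣_ U) z) ∈ V
    rw [← Scheme.Hom.comp_apply, hgf]
    exact ((g ⁻¹ᵁ U).ι z).2
  let a := IsOpenImmersion.lift (g ⁻¹ᵁ U).ι (f ∣_ V) ha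
  let b := IsOpenImmersion.lift (f ⁻¹ᵁ V).ι (g ∣_ U) hb
  have hab : a ≫ b = 𝟙 _ := by
    rw [← cancel_mono ((f ⁻¹ᵁ V).ι ≫ U.ι), Category.id_comp]
    simp only [Category.assoc, a, b, IsOpenImmersion.lift_fac_assoc, morphismRestrict_ι, IsOpenImmersion.lift_fac]
    exact hfg
  have hba : b ≫ a = 𝟙 _ := by
    rw [← cancel_mono ((g ⁻¹ᵁ U).ι ≫ V.ι), Category.id_comp]
    simp only [Category.assoc, a, b, IsOpenImmersion.lift_fac_assoc, morphismRestrict_ι, IsOpenImmersion.lift_fac]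
    exact hgf
  let iA := (f ⁻¹ᵁ V).ι ≫ U.ι
  let iB := (g ⁻¹ᵁ U).ι ≫ V.ι
  refine ⟨iA.opensRange, iB.opensRange, ⟨ηX, ⟨⟨ηX, hU⟩, show f ⟨ηX, hU⟩ ∈ V by rw [hfη]; exact hV⟩, rfl⟩,
    iA.isoOpensRange.symm ≪≫ ⟨a, b, hab, hba⟩ ≪≫ iB.isoOpensRange, ?_⟩
  simp only [Iso.trans_hom, Iso.symm_hom, Category.assoc]
  rw [Scheme.Hom.isoOpensRange_hom_ι_assoc]
  simp only [iA, iB, a, Category.assoc, IsOpenImmersion.lift_fac_assoc, morphismRestrict_ι_assoc]
  rw [show f ≫ (Y ↘ (Spec (CommRingCat.of k))) = U.ι ≫ (X ↘ (Spec (CommRingCat.of k))) from hfs,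
    ← Category.assoc (f ⁻¹ᵁ V).ι, ← Category.assoc, Scheme.Hom.isoOpensRange_inv_comp]

end Groth.Agent.S7629
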