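import Groth.Statements.S10835
import Groth.Agent.H7Variety.Hypersurface
import Groth.Agent.H22Alg.GeomRegularAt
import Groth.Agent.S7629
-- import your own Groth.Agent.* helpers here

set_option autoImplicit false
universe u
open CategoryTheory AlgebraicGeometry
attribute [local instance] Curv2.stalkAlgebra
open Variety

namespace Groth.Agent.S10835

/-- Let k be a field and X an integral scheme of finite type over k whose function field admits a
transcendence basis s_1, …, s_d over k over which it is separable algebraic (this holds whenever the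
function field is a separable extension of k in the sense of field theory, e.g. for k perfect, and
then d = dim X). Then some nonempty open subscheme of X is isomorphic, over k, to a nonempty open
subscheme of Spec k[T_1, …, T_d][T]/(g) for a monic polynomial g over k[T_1, …, T_d] which is
irreducible and separable over the fraction field k(T_1, …, T_d). -/
theorem result (k : Type u) [Field k]
    (X : Scheme.{u}) [X.Over (Spec (CommRingCat.of k))] [IsIntegral X]
    [LocallyOfFiniteType (X ↘ Spec (CommRingCat.of k))] [QuasiCompact (X ↘ Spec (CommRingCat.of k))]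
    (d : ℕ) (s : Fin d → X.presheaf.stalk (genericPoint X)) (hs : IsTranscendenceBasis k s)
    (hsep : Algebra.IsSeparable ↥(IntermediateField.adjoin k (Set.range s)) (X.presheaf.stalk (genericPoint X))) :
    ∃ (g : Polynomial (MvPolynomial (Fin d) k)), g.Monic ∧
      Irreducible (g.map (algebraMap (MvPolynomial (Fin d) k) (FractionRing (MvPolynomial (Fin d) k)))) ∧
      (g.map (algebraMap (MvPolynomial (Fin d) k) (FractionRing (MvPolynomial (Fin d) k)))).Separable ∧
      ∃ (U : X.Opens) (V : (Spec (CommRingCat.of (AdjoinRoot g))).Opens) (e : (U : Scheme.{u}) ≅ (V : Scheme.{u})),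
        (U : Set X).Nonempty ∧ (V : Set (Spec (CommRingCat.of (AdjoinRoot g)))).Nonempty ∧
        e.hom ≫ V.ι ≫ Spec.map (CommRingCat.ofHom (algebraMap k (AdjoinRoot g))) =
          U.ι ≫ (X ↘ Spec (CommRingCat.of k)) := by
  classical
  let qX := X ↘ Spec (CommRingCat.of k)
  let η := genericPoint X
  haveI : Algebra.EssFiniteType k (X.presheaf.stalk η) := H22Alg.GeomRegularAt.essFiniteType_stalk k X η
  obtain ⟨g, hgm, hirr, hsp, hdom, φ, hφ⟩ := H7Variety.exists_hypersurface k (X.presheaf.stalk η) d s hs hsep
  -- an affine neighbourhood of the generic point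
  obtain ⟨W, hW, hηW, -⟩ := exists_isAffineOpen_mem_and_subset (X := X) (x := η) (U := ⊤) trivial
  haveI : Nonempty W := ⟨⟨η, hηW⟩⟩
  haveI : IsAffine W.toScheme := hW
  letI oW : (W.toScheme).Over (Spec (CommRingCat.of k)) := ⟨W.ι ≫ qX⟩
  haveI : LocallyOfFiniteType (W.toScheme ↘ Spec (CommRingCat.of k)) := inferInstanceAs (LocallyOfFiniteType (W.ι ≫ qX))
  let A := AdjoinRoot g
  let Y := Spec (CommRingCat.of A)
  letI oY : Y.Over (Spec (CommRingCat.of k)) := ⟨Spec.map (CommRingCat.ofHom (algebraMap k A))⟩
  haveI : IsDomain A := hdom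
  haveI : IsIntegral Y := inferInstanceAs (IsIntegral (Spec _))
  haveI : Algebra.FiniteType k A := Algebra.FiniteType.trans (R := k) (S := MvPolynomial (Fin d) k)
    inferInstance (by
      have : (AdjoinRoot.of g).FiniteType := by
        have h2 := RingHom.FiniteType.comp (RingHom.FiniteType.of_surjective (AdjoinRoot.mk g) AdjoinRoot.mk_surjective)
          (RingHom.finiteType_algebraMap.mpr (inferInstance : Algebra.FiniteType (MvPolynomial (Fin d) k) (Polynomial (MvPolynomial (Fin d) k))))
        exact h2
      exact RingHom.finiteType_algebraMap.mp this)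
  haveI : LocallyOfFiniteType (Y ↘ Spec (CommRingCat.of k)) :=
    (HasRingHomProperty.Spec_iff (P := @LocallyOfFiniteType)).mpr (RingHom.finiteType_algebraMap.mpr inferInstance)
  -- the function field of `W`
  let ξ := genericPoint W.toScheme
  have hξ : W.ι ξ = η := genericPoint_eq_of_isOpenImmersion W.ι
  let i : X.presheaf.stalk η ⟶ W.toScheme.presheaf.stalk ξ :=
    (X.presheaf.stalkCongr (Inseparable.of_eq hξ.symm)).hom ≫ W.ι.stalkMap ξ
  haveI : IsIso i := inferInstance
  have hi : CommRingCat.ofHom (Curv2.stalkMap k X η) ≫ i = CommRingCat.ofHom (Curv2.stalkMap k W.toScheme ξ) := by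
    apply Spec.map_injective
    rw [Spec.map_comp, ← H22Alg.GeomReducedAt.fromSpecStalk_over k X η,
      ← H22Alg.GeomReducedAt.fromSpecStalk_over k W.toScheme ξ]
    simp only [i, Spec.map_comp, Category.assoc]
    rw [TopCat.Presheaf.stalkCongr_hom, Scheme.SpecMap_stalkSpecializes_fromSpecStalk_assoc,
      Scheme.SpecMap_stalkMap_fromSpecStalk_assoc]
    rfl
  -- the function field of the hypersurface
  letI aAL : Algebra A (X.presheaf.stalk η) := φ.toRingHom.toAlgebra
  haveI : IsDomain (CommRingCat.of A) := hdom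
  letI aAF : Algebra A Y.functionField := (StructureSheaf.toStalk A (genericPoint Y)).hom.toAlgebra
  haveI : IsFractionRing A Y.functionField := functionField_isFractionRing_of_affine (CommRingCat.of A)
  haveI : IsFractionRing A (X.presheaf.stalk η) := hφ
  let ρ : X.presheaf.stalk η ≃+* Y.functionField :=
    IsFractionRing.ringEquivOfRingEquiv (RingEquiv.refl A)
  let e : W.toScheme.functionField ≅ Y.functionField :=
    (asIso i).symm ≪≫ ρ.toCommRingCatIso
  have he : e.hom.hom.comp (Curv2.stalkMap k W.toScheme (genericPoint W.toScheme)) =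
      Curv2.stalkMap k Y (genericPoint Y) := by
    have h1 : CommRingCat.ofHom (Curv2.stalkMap k W.toScheme ξ) ≫ e.hom =
        CommRingCat.ofHom (Curv2.stalkMap k Y (genericPoint Y)) := by
      rw [← hi]
      show (CommRingCat.ofHom (Curv2.stalkMap k X η) ≫ i) ≫ inv i ≫ ρ.toCommRingCatIso.hom = _
      rw [Category.assoc, IsIso.hom_inv_id_assoc]
      apply Spec.map_injective
      rw [← H22Alg.GeomReducedAt.fromSpecStalk_over k Y (genericPoint Y), Spec.fromSpecStalk_eq']
      show _ = Spec.map _ ≫ Spec.map (CommRingCat.ofHom (algebraMap k A))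
      rw [← Spec.map_comp]
      congr 1
      refine CommRingCat.hom_ext (RingHom.ext fun c => ?_)
      show ρ (algebraMap k (X.presheaf.stalk η) c) = algebraMap A Y.functionField (algebraMap k A c)
      rw [show algebraMap k (X.presheaf.stalk η) c = algebraMap A (X.presheaf.stalk η) (algebraMap k A c) from
        (φ.commutes c).symm]
      exact IsFractionRing.ringEquivOfRingEquiv_algebraMap _ _
    exact congrArg CommRingCat.Hom.hom h1
  obtain ⟨U, V, hU, ψ, hψ⟩ := S7629.result k W.toScheme Y e he
  refine ⟨g, hgm, hirr, hsp, W.ι ''ᵁ U, V, (W.ι.isoImage U).symm ≪≫ ψ, ?_, ?_, ?_⟩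
  · obtain ⟨x, hx⟩ := hU
    exact ⟨W.ι x, x, hx, rfl⟩
  · obtain ⟨x, hx⟩ := hU
    exact ⟨V.ι (ψ.hom ⟨x, hx⟩), (ψ.hom ⟨x, hx⟩).2⟩
  · rw [Iso.trans_hom, Category.assoc]
    erw [hψ]
    show (W.ι.isoImage U).inv ≫ U.ι ≫ W.ι ≫ qX = _
    exact Scheme.Hom.isoImage_inv_ι_assoc W.ι U qX

end Groth.Agent.S10835
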