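import Groth.Statements.S10836
-- import your own Groth.Agent.* helpers here

set_option autoImplicit false
universe u
open Coh

namespace Groth.Agent.S10836




/-- Let A be a commutative ring, M a finitely generated projective A-module whose rank at every prime is
r, and Z a finite set of prime ideals of A. Then there is an element s of A outside every prime of Z
such that the localized module M_s has a basis of r elements over A_s. (The published statement is
for a finite locally free module of constant rank r on a scheme and a finite set of points inside an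
affine open Spec A, and produces a basic open D(s) containing the points on which the module is free
of rank r; its argument begins by replacing the scheme with Spec A, and this row states that case.) -/
theorem result (A : Type u) [CommRing A]
    (M : Type u) [AddCommGroup M] [Module A M] [Module.Finite A M] [Module.Projective A M] (r : ℕ)
    (hr : ∀ p : PrimeSpectrum A, Module.rankAtStalk M p = r)
    (Z : Set (PrimeSpectrum A)) (hZ : Z.Finite) :
    ∃ s : A, (∀ p ∈ Z, s ∉ p.asIdeal) ∧
      Nonempty (Module.Basis (Fin r) (Localization.Away s) (LocalizedModule (Submonoid.powers s) M)) := by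

  classical
  let S : Submonoid A := ⨅ p ∈ Z, p.asIdeal.primeCompl
  have hS : ∀ x : A, x ∈ S ↔ ∀ p ∈ Z, x ∉ p.asIdeal := by
    intro x
    simp only [S, Submonoid.mem_iInf]
    rfl
  let A' := Localization S
  let M' := LocalizedModule S M
  have hmax : ∀ m : MaximalSpectrum A', ∃ p ∈ Z, m.asIdeal = p.asIdeal.map (algebraMap A A') := by
    intro m
    obtain ⟨hprime, hdisj⟩ := (IsLocalization.isPrime_iff_isPrime_disjoint S A' m.asIdeal).mp
      m.isMaximal.isPrime
    have hsub : (((m.asIdeal.comap (algebraMap A A')) : Ideal A) : Set A) ⊆
        ⋃ p ∈ (↑hZ.toFinset : Set (PrimeSpectrum A)), ((p.asIdeal : Ideal A) : Set A) := by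
      intro x hx
      by_contra hx'
      simp only [Set.mem_iUnion, SetLike.mem_coe, Set.Finite.coe_toFinset, exists_prop,
        not_exists, not_and] at hx'
      exact Set.disjoint_left.mp hdisj ((hS x).mpr hx') hx
    have hne : Nonempty (PrimeSpectrum A) := by
      by_contra h
      have h0 : (0 : A) ∈ S := (hS 0).mpr fun p _ _ => h ⟨p⟩
      exact Set.disjoint_left.mp hdisj h0 (Ideal.zero_mem _)
    obtain ⟨p, hp, hle⟩ := (Ideal.subset_union_prime (f := fun p : PrimeSpectrum A => p.asIdeal)
      (Classical.arbitrary _) (Classical.arbitrary _) (fun p _ _ _ => p.isPrime)).mp hsub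
    have hpZ : p ∈ Z := hZ.mem_toFinset.mp hp
    refine ⟨p, hpZ, ?_⟩
    have hdp : Disjoint (S : Set A) (p.asIdeal : Set A) :=
      Set.disjoint_left.mpr fun x hx hxp => (hS x).mp hx p hpZ hxp
    have hP : (p.asIdeal.map (algebraMap A A')).IsPrime :=
      IsLocalization.isPrime_of_isPrime_disjoint S A' p.asIdeal p.isPrime hdp
    refine m.isMaximal.eq_of_le hP.ne_top ?_
    calc m.asIdeal = (m.asIdeal.comap (algebraMap A A')).map (algebraMap A A') :=
          (IsLocalization.map_comap S A' m.asIdeal).symm
      _ ≤ p.asIdeal.map (algebraMap A A') := Ideal.map_mono hle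
  have : Finite (MaximalSpectrum A') := by
    have hfin : ((fun p : PrimeSpectrum A => p.asIdeal.map (algebraMap A A')) '' Z).Finite :=
      hZ.image _
    have := hfin.to_subtype
    refine Finite.of_injective (fun m : MaximalSpectrum A' =>
      (⟨m.asIdeal, by
        obtain ⟨p, hp, h⟩ := hmax m
        exact ⟨p, hp, h.symm⟩⟩ : ((fun p : PrimeSpectrum A => p.asIdeal.map (algebraMap A A')) '' Z))) ?_
    intro a b h
    exact MaximalSpectrum.ext (congrArg Subtype.val h)
  have hbc : IsBaseChange A' (LocalizedModule.mkLinearMap S M) :=
    IsLocalizedModule.isBaseChange S A' _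
  have : Module.Finite A' M' := Module.Finite.of_isLocalizedModule S (LocalizedModule.mkLinearMap S M)
  have : Module.Flat A' M' := Module.Flat.of_linearEquiv hbc.equiv.symm
  have hrk : ∀ P : MaximalSpectrum A',
      Module.finrank (A' ⧸ P.1) (TensorProduct A' (A' ⧸ P.1) M') = r := by
    intro P
    have : P.1.IsMaximal := P.isMaximal
    letI := Ideal.Quotient.field P.1
    have h1 : Module.rankAtStalk M' ⟨P.1, P.isMaximal.isPrime⟩ = r := by
      rw [Module.rankAtStalk_isBaseChange hbc]
      exact hr _
    rw [Module.rankAtStalk_eq] at h1
    rw [← h1, ← Module.finrank_baseChange (R := P.1.ResidueField)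
      (S := A' ⧸ P.1) (M' := TensorProduct A' (A' ⧸ P.1) M')]
    exact (TensorProduct.AlgebraTensorModule.cancelBaseChange A' (A' ⧸ P.1) P.1.ResidueField
      P.1.ResidueField M').finrank_eq
  obtain ⟨b⟩ := Module.nonempty_basis_of_flat_of_finrank_eq A' M' r hrk
  have : Module.FinitePresentation A M := Module.finitePresentation_of_projective A M
  obtain ⟨s, hs, b', -⟩ := Module.FinitePresentation.exists_basis_localizedModule_powers S
    (LocalizedModule.mkLinearMap S M) A' b
  exact ⟨s, (hS s).mp hs, ⟨b'⟩⟩


end Groth.Agent.S10836
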