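import Groth.Statements.S10837
import Groth.Agent.H17.Imports

set_option autoImplicit false
universe u
open CategoryTheory AlgebraicGeometry Topology
open Mor

namespace Groth.Agent.S10837

/-- For a morphism of schemes f : X → Y which is open as a map of topological spaces, generalizations
lift along f: every generalization of f(x) is the image of a generalization of x. -/
theorem result {X Y : Scheme.{u}} (f : X ⟶ Y) (hf : IsOpenMap f.base) :
    GeneralizingMap f.base := by
  intro x y hy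
  change y ⤳ f x at hy
  obtain ⟨_, ⟨V, hV, rfl⟩, hxV, -⟩ :=
    Y.isBasis_affineOpens.exists_subset_of_mem_open (Set.mem_univ (f x)) isOpen_univ
  obtain ⟨_, ⟨U, hU, rfl⟩, hxU, e⟩ :=
    X.isBasis_affineOpens.exists_subset_of_mem_open (show x ∈ f ⁻¹ᵁ V from hxV) (f ⁻¹ᵁ V).2
  replace e : U ≤ f ⁻¹ᵁ V := e
  replace hU : IsAffineOpen U := hU
  replace hV : IsAffineOpen V := hV
  set φ := (f.appLE V U e).hom with hφ
  have hcomm : ∀ p, f (hU.fromSpec p) = hV.fromSpec (PrimeSpectrum.comap φ p) := fun p => by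
    have := congr($(hV.SpecMap_appLE_fromSpec f hU e) p)
    rw [Scheme.Hom.comp_apply, Scheme.Hom.comp_apply] at this
    exact this.symm
  obtain ⟨(q : PrimeSpectrum Γ(Y, V)), hq⟩ : y ∈ Set.range hV.fromSpec := by
    rw [hV.range_fromSpec]; exact hy.mem_open V.2 hxV
  let p := hU.primeIdealOf ⟨x, hxU⟩
  have key : Disjoint (↑(q.asIdeal.map φ) : Set Γ(X, U)) ↑(p.asIdeal.primeCompl ⊔ q.asIdeal.primeCompl.map φ) := by
    refine Set.disjoint_left.mpr fun a ha hS => ?_
    obtain ⟨g, hg, _, ⟨r, hr, rfl⟩, rfl⟩ := Submonoid.mem_sup.mp hS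
    have hx' : x ∈ hU.fromSpec ''ᵁ PrimeSpectrum.basicOpen g :=
      ⟨p, hg, hU.fromSpec_primeIdealOf ⟨x, hxU⟩⟩
    obtain ⟨_, ⟨p', hp', rfl⟩, hz⟩ := hy.mem_open (hf _ (hU.fromSpec ''ᵁ PrimeSpectrum.basicOpen g).2)
      (Set.mem_image_of_mem _ hx')
    have hz' : f (hU.fromSpec p') = y := hz
    rw [hcomm, ← hq] at hz'
    have := hV.fromSpec.isOpenEmbedding.injective hz'
    have hqe : q.asIdeal = p'.asIdeal.comap φ := congr($(this.symm).asIdeal)
    have h1 : q.asIdeal.map φ ≤ p'.asIdeal := by rw [Ideal.map_le_iff_le_comap]; exact hqe.le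
    rcases p'.isPrime.mem_or_mem (h1 ha) with h | h
    · exact hp' h
    · exact hr (hqe.ge h)
  obtain ⟨P, hP, hle, hdisj⟩ := (q.asIdeal.map φ).exists_le_prime_disjoint _ key
  refine ⟨hU.fromSpec ⟨P, hP⟩, ?_, ?_⟩
  · have : (⟨P, hP⟩ : PrimeSpectrum _) ≤ p := fun a ha => by
      by_contra hap
      exact Set.disjoint_left.mp hdisj ha (Submonoid.mem_sup_left hap)
    have h2 := ((PrimeSpectrum.le_iff_specializes _ _).mp this).map hU.fromSpec.continuous
    simpa [p, hU.fromSpec_primeIdealOf] using h2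
  · show f (hU.fromSpec ⟨P, hP⟩) = y
    rw [hcomm, ← hq]
    congr 1
    refine PrimeSpectrum.ext (le_antisymm (fun a ha => ?_) (Ideal.map_le_iff_le_comap.mp hle))
    by_contra haq
    exact Set.disjoint_left.mp hdisj ha (Submonoid.mem_sup_right ⟨a, haq, rfl⟩)

end Groth.Agent.S10837
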