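import Groth.Statements.S10838
import Groth.Agent.H17.Dim
import Groth.Agent.S10837

set_option autoImplicit false
universe u
open CategoryTheory AlgebraicGeometry Topology
open Mor

namespace Groth.Agent.S10838

open CategoryTheory Limits AlgebraicGeometry TopologicalSpace

/-- For a morphism of schemes f : X → Y which is open as a map of topological spaces, the Krull
dimension of the image f(X) (with the subspace topology from Y) is at most the Krull dimension of X. -/
theorem result {X Y : Scheme.{u}} (f : X ⟶ Y) (hf : IsOpenMap f.base) :
    topologicalKrullDim ↥(Set.range f.base) ≤ topologicalKrullDim ↥X := by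
  have hopen : IsOpen (Set.range f) := hf.isOpen_range
  have : QuasiSober ↥(Set.range f) := hopen.isOpenEmbedding_subtypeVal.quasiSober
  refine Groth.Agent.H17.topologicalKrullDim_le_of_generalizingMap (Set.rangeFactorization f) ?_
    Set.rangeFactorization_surjective
  intro a b hb
  have hb' : (b : Y) ⤳ f a := hb.map continuous_subtype_val
  obtain ⟨a', h1, h2⟩ := Groth.Agent.S10837.result f hf hb'
  exact ⟨a', h1, Subtype.ext h2⟩

end Groth.Agent.S10838
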