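import Groth.Statements.S10839
import Mathlib

set_option autoImplicit false
universe u
open CategoryTheory AlgebraicGeometry Topology
open Variety

namespace Groth.Agent.S10839

/-- A closed immersion i : Y → X into an integral scheme X with dim X = dim Y < ∞ is an isomorphism. -/
theorem result {X Y : Scheme.{u}} (i : Y ⟶ X)
    [IsClosedImmersion i] [IsIntegral X] (hfin : topologicalKrullDim ↥X ≠ ⊤)
    (hdim : topologicalKrullDim ↥X = topologicalKrullDim ↥Y) : IsIso i := by
  have hsurj : Surjective i := ⟨Set.range_eq_univ.mp (by
    by_contra hne
    have hinj := i.isClosedEmbedding.injective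
    let T : TopologicalSpace.IrreducibleCloseds X := ⟨Set.univ, IrreducibleSpace.isIrreducible_univ _, isClosed_univ⟩
    let g : WithTop (TopologicalSpace.IrreducibleCloseds Y) → TopologicalSpace.IrreducibleCloseds X :=
      fun C => WithTop.recTopCoe T (fun C => ⟨i '' C, C.2.image i i.continuous.continuousOn,
        i.isClosedEmbedding.isClosedMap _ C.3⟩) C
    have hg : StrictMono g := by
      intro a b hab
      cases a with
      | top => exact absurd hab not_top_lt
      | coe a =>
        cases b with
        | top =>
          show i '' (a : Set Y) ⊂ Set.univ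
          exact Set.ssubset_univ_iff.mpr fun h => hne (Set.eq_univ_of_univ_subset
            (h ▸ Set.image_subset_range i (a : Set Y)))
        | coe b =>
          show i '' (a : Set Y) ⊂ i '' (b : Set Y)
          exact hinj.image_strictMono (SetLike.coe_strictMono (WithTop.coe_lt_coe.mp hab))
    have hle := Order.krullDim_le_of_strictMono g hg
    rcases isEmpty_or_nonempty (TopologicalSpace.IrreducibleCloseds Y) with hY | hY
    · have hb : topologicalKrullDim X = ⊥ := hdim.trans Order.krullDim_eq_bot
      haveI : Nonempty (TopologicalSpace.IrreducibleCloseds X) := ⟨T⟩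
      exact (Order.krullDim_nonneg (α := TopologicalSpace.IrreducibleCloseds X)).not_gt
        (hb.trans_lt (WithBot.bot_lt_coe _))
    · rw [Order.krullDim_WithTop] at hle
      obtain ⟨n, hn⟩ : ∃ n : ℕ∞, topologicalKrullDim X = n := by
        have h := Order.krullDim_nonneg (α := TopologicalSpace.IrreducibleCloseds Y)
        rw [hdim]
        exact ⟨_, (WithBot.coe_unbot _ (ne_bot_of_le_ne_bot (by simp) h)).symm⟩
      change Order.krullDim (TopologicalSpace.IrreducibleCloseds Y) + 1 ≤ topologicalKrullDim X at hle
      rw [show Order.krullDim (TopologicalSpace.IrreducibleCloseds Y) = topologicalKrullDim X from hdim.symm, hn] at hle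
      have hn' : n ≠ ⊤ := fun h => hfin (by rw [hn, h]; rfl)
      exact absurd hle (not_le.mpr (by
        rw [← WithBot.coe_one, ← WithBot.coe_add]
        exact WithBot.coe_lt_coe.mpr (ENat.lt_add_one_iff hn' |>.mpr le_rfl))))⟩
  exact isIso_of_isClosedImmersion_of_surjective i

end Groth.Agent.S10839
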