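import Groth.Statements.S10840
import Mathlib
import Groth.Agent.H22Alg.ProjDim2

set_option autoImplicit false
universe u
open AlgebraicGeometry Topology
open Variety

namespace Groth.Agent.S10840

/-- For a field k and nonzero homogeneous polynomials f, g of positive degrees in three variables, the
common zero set V_+(f, g) in the projective plane over k is zero-dimensional as a topological
subspace exactly when f and g are coprime, i.e. their only common divisors are the non-zero
constants. -/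
theorem result (k : Type u) [Field k] (n m : ℕ)
    (f g : MvPolynomial (Fin 3) k) (hf : f.IsHomogeneous n) (hg : g.IsHomogeneous m)
    (hn : 0 < n) (hm : 0 < m) (hf0 : f ≠ 0) (hg0 : g ≠ 0) :
    topologicalKrullDim ↥(ProjectiveSpectrum.zeroLocus (CohB1.polyGrading 2 k)
        ({f, g} : Set (MvPolynomial (Fin 3) k))) = 0 ↔ IsRelPrime f g := by
  have hA : IsClosed (ProjectiveSpectrum.zeroLocus (CohB1.polyGrading 2 k) ({f, g} : Set (MvPolynomial (Fin 3) k))) :=
    ProjectiveSpectrum.isClosed_zeroLocus _ _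
  have hmemA : ∀ z, z ∈ ProjectiveSpectrum.zeroLocus (CohB1.polyGrading 2 k) ({f, g} : Set (MvPolynomial (Fin 3) k)) ↔
      f ∈ z.asHomogeneousIdeal.toIdeal ∧ g ∈ z.asHomogeneousIdeal.toIdeal := fun z => by
    rw [ProjectiveSpectrum.mem_zeroLocus, Set.insert_subset_iff, Set.singleton_subset_iff]
    rfl
  constructor
  · intro hdim
    by_contra hrel
    obtain ⟨h, hhf, hhg, hh⟩ : ∃ h, h ∣ f ∧ h ∣ g ∧ ¬ IsUnit h := by
      by_contra! h
      exact hrel fun a ha hb => h a ha hb
    obtain ⟨π, hπ, hπh⟩ := WfDvdMonoid.exists_irreducible_factor hh (fun h0 => hf0 (zero_dvd_iff.mp (h0 ▸ hhf)))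
    obtain ⟨hp, hpd⟩ := Groth.Agent.H22Alg.ProjDim.dim_quotient_span_irreducible k 2 hπ
    haveI := hp
    have hπf : f ∈ Ideal.span {π} := Ideal.mem_span_singleton.mpr (hπh.trans hhf)
    have hπg : g ∈ Ideal.span {π} := Ideal.mem_span_singleton.mpr (hπh.trans hhg)
    -- the homogeneous core of `(π)` is a nonzero prime inside it
    let c := (Ideal.span {π}).homogeneousCore (CohB1.polyGrading 2 k)
    haveI hc : c.toIdeal.IsPrime := Ideal.IsPrime.homogeneousCore hp
    have hcf : f ∈ c.toIdeal := Ideal.mem_homogeneousCore_of_homogeneous_of_mem ⟨n, hf⟩ hπf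
    have hcg : g ∈ c.toIdeal := Ideal.mem_homogeneousCore_of_homogeneous_of_mem ⟨m, hg⟩ hπg
    obtain ⟨e, he⟩ := Groth.Agent.H22Alg.IntersectDim.exists_nat_dim k c.toIdeal
    have he2 : 2 ≤ e := by
      rcases (Ideal.toIdeal_homogeneousCore_le (CohB1.polyGrading 2 k) (Ideal.span {π})).lt_or_eq with hlt | heq
      · have h1 := Groth.Agent.H8Props.FieldDim.dim_quotient_lt k _ _ _ hlt
        rw [hpd, he] at h1
        have : 2 < e := by exact_mod_cast h1
        omega
      · have h1 : ((e : ℕ) : WithBot ℕ∞) = ((2 : ℕ) : WithBot ℕ∞) := he ▸ heq ▸ hpd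
        exact le_of_eq (by exact_mod_cast h1.symm)
    obtain ⟨z, hz⟩ := Groth.Agent.H22Alg.ProjDim.exists_point k 2 c.isHomogeneous
      (by rw [he]; exact_mod_cast (show 0 < e by omega))
    have hzq : e = Groth.Agent.H22Alg.ProjDim.qdim k 2 z := by
      have h1 := Groth.Agent.H22Alg.ProjDim.qdim_spec k 2 z
      rw [hz, he] at h1
      exact_mod_cast h1
    have h := Groth.Agent.H22Alg.ProjDim.le_dim k 2 hA (x := z) (d := 1)
      ((hmemA z).mpr ⟨hz ▸ hcf, hz ▸ hcg⟩) (by omega)
    rw [hdim] at h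
    exact absurd h (by decide)
  · intro hrel
    refine le_antisymm (Groth.Agent.H22Alg.ProjDim.dim_le k 2 hA fun z hz => ?_) ?_
    · obtain ⟨hzf, hzg⟩ := (hmemA z).mp hz
      obtain ⟨h, hh, hsum⟩ := Groth.Agent.H22Alg.ProjDim.exists_height_eq k 2 z.asHomogeneousIdeal.toIdeal
        (Groth.Agent.H22Alg.ProjDim.qdim_spec k 2 z)
      by_contra hgt
      rcases (Groth.Agent.H22Alg.ProjDim.qdim_le_succ k 2 z).lt_or_eq with hlt | heq
      · have hzd : Groth.Agent.H22Alg.ProjDim.qdim k 2 z = 2 := by omega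
        obtain ⟨e, π, -, hπ, hπeq⟩ := Groth.Agent.H22Alg.ProjDim.exists_irreducible_form k 2
          z.asHomogeneousIdeal.toIdeal z.asHomogeneousIdeal.isHomogeneous
          (by rw [Groth.Agent.H22Alg.ProjDim.qdim_spec, hzd])
        rw [hπeq, Ideal.mem_span_singleton] at hzf hzg
        exact hπ.not_isUnit (hrel hzf hzg)
      · exact hf0 ((Submodule.mem_bot _).mp ((Groth.Agent.H22Alg.ProjDim.eq_bot_iff_qdim k 2 z).mpr heq ▸ hzf))
    · classical
      obtain ⟨x₀, hx₀, hq₀⟩ := Groth.Agent.H22Alg.ProjDim.exists_bot_point k 2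
      obtain ⟨q, hqh, hq, e, he, hle⟩ := Groth.Agent.H22Alg.ProjDim.exists_minimal_cut k 2 x₀ {f, g} (by
        intro a ha
        rcases Finset.mem_insert.mp ha with rfl | ha
        · exact ⟨n, hn, hf⟩
        · exact ⟨m, hm, (Finset.mem_singleton.mp ha) ▸ hg⟩)
      have hc2 : ({f, g} : Finset (MvPolynomial (Fin 3) k)).card ≤ 2 := Finset.card_le_two
      haveI := hq.1.1
      obtain ⟨z, hz⟩ := Groth.Agent.H22Alg.ProjDim.exists_point k 2 hqh
        (by rw [he]; exact_mod_cast (show 0 < e by omega))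
      have hsub : Ideal.span (({f, g} : Finset (MvPolynomial (Fin 3) k)) : Set (MvPolynomial (Fin 3) k)) ≤
          z.asHomogeneousIdeal.toIdeal := hz ▸ le_sup_right.trans hq.1.2
      exact Groth.Agent.H22Alg.ProjDim.le_dim k 2 hA (x := z) (d := 0)
        ((hmemA z).mpr ⟨hsub (Ideal.subset_span (by simp)), hsub (Ideal.subset_span (by simp))⟩)
        (Groth.Agent.H22Alg.ProjDim.qdim_pos k 2 z)

end Groth.Agent.S10840
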