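import Groth.Statements.S10841
import Mathlib
import Groth.Agent.H22Alg.VarDim

set_option autoImplicit false
universe u
open CategoryTheory AlgebraicGeometry Topology
open Variety

namespace Groth.Agent.S10841

/-- Let k be a field, X an irreducible scheme of finite type over k, and f : Y → X a morphism over k
from a scheme Y of finite type over k whose image contains the generic point of X. Then dim Y ≥ dim
X. -/
theorem result (k : Type u) [Field k] {X Y : Scheme.{u}}
    (p : X ⟶ Spec (CommRingCat.of k)) (q : Y ⟶ Spec (CommRingCat.of k))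
    [LocallyOfFiniteType p] [QuasiCompact p] [LocallyOfFiniteType q] [QuasiCompact q]
    [IrreducibleSpace ↥X] (f : Y ⟶ X) (hf : f ≫ p = q)
    (hη : genericPoint ↥X ∈ Set.range f.base) :
    topologicalKrullDim ↥X ≤ topologicalKrullDim ↥Y := by
  obtain ⟨y, hy⟩ := hη
  haveI : LocallyOfFiniteType (f ≫ p) := hf.symm ▸ inferInstance
  haveI : LocallyOfFiniteType f := locallyOfFiniteType_of_comp f p
  rw [← Groth.Agent.H22Alg.VarDim.cdim_genericPoint (X := X)]
  refine le_trans ?_ (Groth.Agent.H8Props.FieldDim.dim_mono (Set.subset_univ (closure {y})) |>.trans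
    (IsHomeomorph.topologicalKrullDim_eq _ (Homeomorph.Set.univ Y).isHomeomorph).le)
  show Groth.Agent.H8Props.FieldDim.cdim (genericPoint X) ≤ Groth.Agent.H8Props.FieldDim.cdim y
  obtain ⟨c, hc, -⟩ := Groth.Agent.H8Props.FieldDim.exists_trdeg_fiber f (f.asFiber y)
  rw [Groth.Agent.H8Props.FieldDim.cdim_eq_add q p f hf y, hc, show f y = genericPoint X from hy]
  exact le_add_of_nonneg_left (by exact_mod_cast Nat.zero_le c)

end Groth.Agent.S10841
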