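import Groth.Statements.S10842
import Mathlib

set_option autoImplicit false
universe u
open CategoryTheory AlgebraicGeometry
open Variety

namespace Groth.Agent.S10842

/-- A quasi-compact scheme whose local rings at all closed points are integrally closed domains is
normal, i.e. all of its local rings are integrally closed domains. -/
theorem result (X : Scheme.{u}) [CompactSpace ↥X]
    (h : ∀ x : X, IsClosed ({x} : Set X) →
      IsDomain (X.presheaf.stalk x) ∧ IsIntegrallyClosed (X.presheaf.stalk x)) :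
    Pi1.IsNormalScheme X := by
  intro x
  obtain ⟨y, hy, hyc⟩ := (isClosed_closure (s := ({x} : Set X))).exists_closed_singleton
    ((Set.singleton_nonempty x).closure)
  have hxy : x ⤳ y := specializes_iff_mem_closure.mpr hy
  obtain ⟨hD, hI⟩ := h y hyc
  obtain ⟨W, hW, hyW, -⟩ := exists_isAffineOpen_mem_and_subset (x := y) (U := ⊤) trivial
  have hxW : x ∈ W := hxy.mem_open W.2 hyW
  letI := X.presheaf.algebra_section_stalk ⟨y, hyW⟩
  letI := X.presheaf.algebra_section_stalk ⟨x, hxW⟩
  haveI := hW.isLocalization_stalk ⟨y, hyW⟩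
  haveI := hW.isLocalization_stalk ⟨x, hxW⟩
  letI : Algebra (X.presheaf.stalk y) (X.presheaf.stalk x) := (X.presheaf.stalkSpecializes hxy).hom.toAlgebra
  haveI : IsScalarTower Γ(X, W) (X.presheaf.stalk y) (X.presheaf.stalk x) :=
    IsScalarTower.of_algebraMap_eq fun r =>
      (TopCat.Presheaf.germ_stalkSpecializes_apply X.presheaf hyW hxy r).symm
  have hle : (hW.primeIdealOf ⟨y, hyW⟩).asIdeal.primeCompl ≤ (hW.primeIdealOf ⟨x, hxW⟩).asIdeal.primeCompl := by
    intro r hr hrx
    refine hr ((PrimeSpectrum.le_iff_specializes _ _).mpr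
      (hW.fromSpec.isOpenEmbedding.isInducing.specializes_iff.mp ?_) hrx)
    erw [hW.fromSpec_primeIdealOf, hW.fromSpec_primeIdealOf]
    exact hxy
  haveI := IsLocalization.isLocalization_of_submonoid_le (X.presheaf.stalk y) (X.presheaf.stalk x) _ _ hle
  have hle0 : (hW.primeIdealOf ⟨x, hxW⟩).asIdeal.primeCompl.map (algebraMap Γ(X, W) (X.presheaf.stalk y)) ≤
      nonZeroDivisors (X.presheaf.stalk y) := by
    rintro _ ⟨r, hr, rfl⟩
    refine mem_nonZeroDivisors_of_ne_zero fun h0 => ?_
    have hu := IsLocalization.map_units (X.presheaf.stalk x) (⟨r, hr⟩ : (hW.primeIdealOf ⟨x, hxW⟩).asIdeal.primeCompl)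
    rw [IsScalarTower.algebraMap_apply Γ(X, W) (X.presheaf.stalk y) (X.presheaf.stalk x), h0, map_zero,
      isUnit_zero_iff] at hu
    exact zero_ne_one hu
  exact ⟨IsLocalization.isDomain_of_le_nonZeroDivisors (R := X.presheaf.stalk y) (S := X.presheaf.stalk x) hle0,
    isIntegrallyClosed_of_isLocalization (R := X.presheaf.stalk y) _ _ hle0⟩

end Groth.Agent.S10842
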