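import Groth.Statements.S10843
import Groth.Agent.H05EGA4.IntegralDim
import Mathlib.RingTheory.NoetherNormalization
import Mathlib.RingTheory.KrullDimension.Polynomial
import Mathlib.RingTheory.KrullDimension.Field

set_option autoImplicit false
universe u
open CAlg

namespace Groth.Agent.S10843

/-- For a field k, a nonzero finitely generated k-algebra A and a natural number d, the algebra A has
Krull dimension d exactly when some injective k-algebra map from the polynomial ring in d variables
over k to A makes A a finite module over that polynomial ring. -/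
theorem result (k A : Type u) [Field k]
    [CommRing A] [Nontrivial A] [Algebra k A] [Algebra.FiniteType k A] (d : ℕ) :
    ringKrullDim A = (d : WithBot ℕ∞) ↔
      ∃ φ : MvPolynomial (Fin d) k →ₐ[k] A, φ.toRingHom.Finite ∧ Function.Injective φ := by
  classical
  have hdim : ∀ s : ℕ, ringKrullDim (MvPolynomial (Fin s) k) = (s : WithBot ℕ∞) := fun s => by
    rw [MvPolynomial.ringKrullDim_of_isNoetherianRing, ringKrullDim_eq_zero_of_field]
    simp
  have key : ∀ (s : ℕ) (φ : MvPolynomial (Fin s) k →ₐ[k] A), φ.toRingHom.Finite → Function.Injective φ →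
      ringKrullDim A = (s : WithBot ℕ∞) := by
    intro s φ hfin hinj
    letI := φ.toRingHom.toAlgebra
    haveI : Module.Finite (MvPolynomial (Fin s) k) A := hfin
    rw [(H05EGA4.dim_int (MvPolynomial (Fin s) k) A).2 hinj, hdim]
  refine ⟨fun h => ?_, fun ⟨φ, hfin, hinj⟩ => key d φ hfin hinj⟩
  obtain ⟨s, g, hinj, hfin⟩ := exists_finite_inj_algHom_of_fg k A
  have h2 := (key s g hfin hinj).symm.trans h
  have : s = d := by exact_mod_cast h2
  subst this
  exact ⟨g, hfin, hinj⟩

end Groth.Agent.S10843
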