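import Groth.Statements.S10844
import Groth.Agent.H8Props.FunDescent.Stalk
import Groth.Agent.H10Coh.Support
import Groth.Agent.H29Ref.Generic
import Groth.Agent.H16Derived.KFlat.PerfCoh
import Mathlib.RingTheory.Flat.FaithfullyFlat.Basic
-- import your own Groth.Agent.* helpers here

set_option autoImplicit false
universe u
open RepF

namespace Groth.Agent.S10844


open CategoryTheory CategoryTheory.Limits AlgebraicGeometry TopologicalSpace TensorProduct
open H06Mod

attribute [local instance] stalkAlgebra

theorem surjective_of_lTensor {A B : Type u} [CommRing A] [CommRing B] [IsLocalRing A] [IsLocalRing B]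
    [Algebra A B] [IsLocalHom (algebraMap A B)] {M N : Type u} [AddCommGroup M] [Module A M]
    [AddCommGroup N] [Module A N] [Module.Finite A N] (v : M →ₗ[A] N)
    (h : Function.Surjective (v.lTensor B)) : Function.Surjective v := by
  let C := N ⧸ LinearMap.range v
  let q : N →ₗ[A] C := (LinearMap.range v).mkQ
  have h1 : Subsingleton (B ⊗[A] C) := by
    refine subsingleton_of_forall_eq 0 fun c => ?_
    obtain ⟨n, rfl⟩ := LinearMap.lTensor_surjective B (Submodule.mkQ_surjective (LinearMap.range v)) c
    obtain ⟨m, rfl⟩ := h n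
    rw [← LinearMap.comp_apply, ← LinearMap.lTensor_comp]
    have : q ∘ₗ v = 0 := LinearMap.ext fun x =>
      (Submodule.Quotient.mk_eq_zero _).mpr (LinearMap.mem_range_self v x)
    rw [this, LinearMap.lTensor_zero, LinearMap.zero_apply]
  let kA := IsLocalRing.ResidueField A
  let kB := IsLocalRing.ResidueField B
  have h2 : Subsingleton (kB ⊗[A] C) :=
    Function.Surjective.subsingleton (f := LinearMap.rTensor C
      (IsScalarTower.toAlgHom A B kB).toLinearMap)
      (LinearMap.rTensor_surjective C IsLocalRing.residue_surjective)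
  have h3 : Subsingleton (kB ⊗[kA] (kA ⊗[A] C)) :=
    (TensorProduct.AlgebraTensorModule.cancelBaseChange A kA kB kB C).subsingleton
  have h4 : Subsingleton (kA ⊗[A] C) := (Module.FaithfullyFlat.subsingleton_tensorProduct_iff_right kA kB).1 h3
  have h5 : Subsingleton C := IsLocalRing.subsingleton_tensorProduct.1 h4
  exact fun n => (Submodule.Quotient.mk_eq_zero (LinearMap.range v)).1 (Subsingleton.elim (q n) 0)

theorem surjective_pullback_iff {X Y : Scheme.{u}} (f : X ⟶ Y) {M N : Y.Modules} (φ : M ⟶ N)
    (hN : CohB1.IsFT N) (x : X) :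
    Function.Surjective (stalkLin ((Scheme.Modules.pullback f).map φ) x) ↔
      Function.Surjective (stalkLin φ (f x)) := by
  have e : (stalkLin ((Scheme.Modules.pullback f).map φ) x) ∘ (pullStalkEquiv f M x) =
      (pullStalkEquiv f N x) ∘ ((stalkLin φ (f x)).lTensor (X.presheaf.stalk x)) :=
    funext (H8Props.FunDescent.pullStalkEquiv_naturality f φ x)
  rw [← Function.Surjective.of_comp_iff _ (pullStalkEquiv f M x).surjective, e,
    Function.Surjective.of_comp_iff' (pullStalkEquiv f N x).bijective]
  have := H29Ref.finite_stalk N hN (f x)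
  have : IsLocalHom (algebraMap (Y.presheaf.stalk (f x)) (X.presheaf.stalk x)) :=
    inferInstanceAs (IsLocalHom (f.stalkMap x).hom)
  exact ⟨surjective_of_lTensor _, fun h => LinearMap.lTensor_surjective _ h⟩

theorem surjective_iff_cokernel {X : Scheme.{u}} {M N : X.Modules} (v : M ⟶ N) (x : X) :
    Function.Surjective (stalkLin v x) ↔ Subsingleton ((cokernel v).presheaf.stalk x) := by
  refine ⟨H10Coh.subsingleton_stalk_cokernel v x, fun h b => ?_⟩
  let S : ShortComplex X.Modules := ShortComplex.mk (kernel.ι (cokernel.π v)) (cokernel.π v)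
    (kernel.condition _)
  have hS : S.ShortExact :=
    { exact := ShortComplex.exact_of_f_is_kernel _ (kernelIsKernel _) }
  obtain ⟨a, ha⟩ := (stalk_exact S hS x b).1 (Subsingleton.elim _ _)
  obtain ⟨c, hc⟩ := surjective_stalk_of_epi (Abelian.factorThruImage v) x a
  refine ⟨c, ?_⟩
  obtain ⟨U, hU, c, rfl⟩ := M.presheaf.exists_germ_eq c
  rw [← ha, ← hc]
  erw [stalkLin_germ, stalkLin_germ, stalkLin_germ]
  exact congrArg _ (congr($(congrArg (fun k => Scheme.Modules.Hom.app k U) (Abelian.image.fac v)) c)).symm



open AlgebraicGeometry CategoryTheory in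
/-- For a scheme S and a homomorphism v : E → F of quasi-coherent O_S-modules with F of finite type,
there is an open subscheme U of S such that a morphism of schemes f : T → S factors through U (its
image lies in U) if and only if the pulled-back homomorphism f^*v : f^*E → f^*F is an epimorphism. -/
theorem result {S : Scheme.{u}} {E F : S.Modules}
    [Coh.IsQCoh E] [Coh.IsQCoh F] (hF : CohB1.IsFT F) (v : E ⟶ F) :
    ∃ U : S.Opens, ∀ (T : Scheme.{u}) (f : T ⟶ S),
      Set.range f.base ⊆ (U : Set S) ↔ Epi ((Scheme.Modules.pullback f).map v) := by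

  have hft : CohB1.IsFT (cokernel v) := H16Derived.KFlat.Stalk.isFT_of_epi (cokernel.π v) hF
  refine ⟨⟨(CohB1.support (cokernel v))ᶜ, (H10Coh.isClosed_support _ hft).isOpen_compl⟩, fun T f => ?_⟩
  rw [H8Props.FunDescent.epi_iff]
  constructor
  · intro h t
    refine (surjective_pullback_iff f v hF t).2 ((surjective_iff_cokernel v _).2 ?_)
    exact not_not.1 (h ⟨t, rfl⟩)
  · rintro h _ ⟨t, rfl⟩
    exact not_not.2
      ((surjective_iff_cokernel v _).1 ((surjective_pullback_iff f v hF t).1 (h t)))


end Groth.Agent.S10844
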