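import Groth.Statements.S10847
import Groth.Agent.H29Fitt.LocFree
import Groth.Agent.H29Fitt.Comap

set_option autoImplicit false
universe u
open FlatMod

namespace Groth.Agent.S10847

open AlgebraicGeometry CategoryTheory in
/-- Let X be a scheme, F a finite-type quasi-coherent O_X-module and r a natural number. Then there is
an immersion i : Z → X (a subscheme of X) such that a morphism of schemes f : T → X factors through
i if and only if the pullback f^*F is finite locally free of rank r. -/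
theorem result {X : Scheme.{u}} (F : X.Modules)
    [Coh.IsQCoh F] (hF : CohB1.IsFT F) (r : ℕ) :
    ∃ (Z : Scheme.{u}) (i : Z ⟶ X), IsImmersion i ∧ ∀ (T : Scheme.{u}) (f : T ⟶ X),
      (∃ g : T ⟶ Z, g ≫ i = f) ↔ FlatMod.IsFinLocFreeOfRank r ((Scheme.Modules.pullback f).obj F) := by
  have hq : Coh.IsQCoh F := inferInstance
  have hmono : ∀ k l : ℕ, k ≤ l → Fitt.sheafIdeal F k ≤ Fitt.sheafIdeal F l := fun k l hkl => by
    intro U
    rw [Groth.Agent.H29Fitt.sheafIdeal_ideal F hq hF k U,
      Groth.Agent.H29Fitt.sheafIdeal_ideal F hq hF l U]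
    refine Ideal.span_mono ?_
    rintro d ⟨n, x, a, hx, ha, rfl⟩
    exact ⟨n, x, a, hx, fun i hi => ha i (by omega), rfl⟩
  let O : X.Opens := (Fitt.sheafIdeal F r).support.compl
  let I : X.IdealSheafData := ⨆ k : Fin r, Fitt.sheafIdeal F k
  refine ⟨(I.comap O.ι).subscheme, (I.comap O.ι).subschemeι ≫ O.ι, inferInstance, fun T f => ?_⟩
  have hq' := Groth.Agent.H29Fitt.isQCoh_pullback f F hq
  have hft' := Groth.Agent.H29Fitt.isFT_pullback f F hq hF
  rw [Groth.Agent.H29Fitt.isFinLocFreeOfRank_iff _ hq' hft' r]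
  simp only [← Groth.Agent.H29Fitt.sheafIdeal_comap f F hq hF]
  have hbot : (∀ k : ℕ, k < r → (Fitt.sheafIdeal F k).comap f = ⊥) ↔ I.comap f = ⊥ := by
    rw [show I.comap f = ⨆ k : Fin r, (Fitt.sheafIdeal F k).comap f from
      (Scheme.IdealSheafData.map_gc f).l_iSup, iSup_eq_bot]
    exact ⟨fun h k => h k k.2, fun h k hk => h ⟨k, hk⟩⟩
  have htop : (∀ k : ℕ, r ≤ k → (Fitt.sheafIdeal F k).comap f = ⊤) ↔
      Set.range f.base ⊆ (O : Set X) := by
    constructor
    · rintro h _ ⟨t, rfl⟩ hmem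
      have h' := congrArg Scheme.IdealSheafData.support (h r le_rfl)
      rw [Scheme.IdealSheafData.support_comap, Scheme.IdealSheafData.support_top] at h'
      exact (SetLike.ext_iff.1 h' t).1 hmem
    · intro h k hk
      refine top_le_iff.1 (le_trans ?_ (Scheme.IdealSheafData.comap_mono f (hmono r k hk)))
      refine top_le_iff.2 ((Scheme.IdealSheafData.support_eq_bot_iff _).1 ?_)
      rw [Scheme.IdealSheafData.support_comap]
      exact TopologicalSpace.Closeds.ext (Set.eq_empty_iff_forall_notMem.2 fun t ht => h ⟨t, rfl⟩ ht)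
  rw [hbot, htop]
  constructor
  · rintro ⟨g, rfl⟩
    refine ⟨?_, ?_⟩
    · have h0 : (I.comap O.ι).comap (I.comap O.ι).subschemeι = ⊥ := by
        rw [← le_bot_iff, ← Scheme.IdealSheafData.le_map_iff_comap_le, Scheme.IdealSheafData.map_bot,
          Scheme.IdealSheafData.ker_subschemeι]
      rw [Scheme.IdealSheafData.comap_comp, Scheme.IdealSheafData.comap_comp, h0,
        Scheme.IdealSheafData.comap_bot]
    · rintro _ ⟨t, rfl⟩
      exact ((I.comap O.ι).subschemeι (g t)).2
  · rintro ⟨hI, hO⟩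
    let g₀ : T ⟶ O := IsOpenImmersion.lift O.ι f (by simpa using hO)
    have hg₀ : g₀ ≫ O.ι = f := IsOpenImmersion.lift_fac _ _ _
    have hker : (I.comap O.ι).subschemeι.ker ≤ g₀.ker := by
      rw [Scheme.IdealSheafData.ker_subschemeι, ← Scheme.IdealSheafData.map_bot,
        Scheme.IdealSheafData.le_map_iff_comap_le, ← Scheme.IdealSheafData.comap_comp, hg₀, hI]
    refine ⟨IsClosedImmersion.lift (I.comap O.ι).subschemeι g₀ hker, ?_⟩
    rw [← Category.assoc, IsClosedImmersion.lift_fac, hg₀]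

end Groth.Agent.S10847
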