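import Groth.Statements.S10849
import Mathlib

set_option autoImplicit false
universe u
open VbP1

namespace Groth.Agent.S10849

section Birkhoff
variable {k : Type u} [Field k] {n : ℕ}

open LaurentPolynomial in
lemma coeff_C_T_mul (c : k) (s : ℤ) (f : LaurentPolynomial k) (m : ℤ) :
    (LaurentPolynomial.C c * LaurentPolynomial.T s * f).coeff m = c * f.coeff (m - s) := by
  rw [← LaurentPolynomial.single_eq_C_mul_T]
  exact AddMonoidAlgebra.coeff_single_mul_eq_mul_coeff (m - s) fun a _ => by omega

lemma toLaurent_coeff_nat (p : Polynomial k) (j : ℕ) : (Polynomial.toLaurent p).coeff (j : ℤ) = p.coeff j := by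
  rw [LaurentPolynomial.coeff_toLaurent, ← Nat.castEmbedding_apply, Finsupp.mapDomain_apply Nat.castEmbedding.injective]
  rfl

lemma toLaurent_coeff_neg (p : Polynomial k) {m : ℤ} (hm : m < 0) : (Polynomial.toLaurent p).coeff m = 0 := by
  rw [LaurentPolynomial.coeff_toLaurent]
  refine Finsupp.mapDomain_notin_range _ _ ?_
  rintro ⟨j, rfl⟩
  simp only [Nat.castEmbedding_apply] at hm
  omega

/-- Row degree bounds. -/
def IsBd (B : Matrix (Fin n) (Fin n) (LaurentPolynomial k)) (d : Fin n → ℤ) : Prop :=
  ∀ i j m, d i < m → (B i j).coeff m = 0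

open LaurentPolynomial in
lemma exists_factor (B : Matrix (Fin n) (Fin n) (LaurentPolynomial k)) (d : Fin n → ℤ) (h : IsBd B d) :
    ∃ Q : Matrix (Fin n) (Fin n) (Polynomial k),
      B = Matrix.diagonal (fun i => T (d i)) * (Q.map Polynomial.toLaurent).map invert ∧
      ∀ i j, (Q i j).coeff 0 = (B i j).coeff (d i) := by
  classical
  have : ∀ i j, ∃ q : Polynomial k, B i j = T (d i) * invert (Polynomial.toLaurent q) ∧
      q.coeff 0 = (B i j).coeff (d i) := by
    intro i j
    let f := invert (T (-(d i)) * B i j)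
    have hT : ∀ m, f.coeff m = (B i j).coeff (d i - m) := fun m => by
      have := coeff_C_T_mul (1 : k) (-(d i)) (B i j) (-m)
      rw [map_one, one_mul, one_mul] at this
      rw [invert_apply, this]
      congr 1
      ring
    let q : Polynomial k := ∑ m ∈ f.coeff.support, Polynomial.monomial m.toNat (f.coeff m)
    have hq : ∀ j' : ℕ, q.coeff j' = f.coeff (j' : ℤ) := fun j' => by
      rw [Polynomial.finsetSum_coeff, Finset.sum_eq_single (j' : ℤ)]
      · simp
      · intro b hb hne
        have hb0 : 0 ≤ b := by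
          by_contra hlt
          exact Finsupp.mem_support_iff.1 hb (by rw [hT]; exact h i j _ (by omega))
        rw [Polynomial.coeff_monomial, if_neg (by omega)]
      · intro hb
        rw [Polynomial.coeff_monomial, Finsupp.notMem_support_iff.1 hb]
        simp
    refine ⟨q, ?_, ?_⟩
    · have hf : Polynomial.toLaurent q = f := by
        refine LaurentPolynomial.ext fun m => ?_
        rcases lt_or_ge m 0 with hm | hm
        · rw [toLaurent_coeff_neg q hm, hT, h i j _ (by omega)]
        · lift m to ℕ using hm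
          rw [toLaurent_coeff_nat, hq]
      rw [hf]
      change B i j = T (d i) * invert (invert (T (-(d i)) * B i j))
      rw [involutive_invert, ← mul_assoc, ← T_add, add_neg_cancel, T_zero, one_mul]
    · rw [hq, Nat.cast_zero, hT, sub_zero]
  choose q hq hq0 using this
  refine ⟨Matrix.of q, ?_, hq0⟩
  refine Matrix.ext fun i j => ?_
  rw [Matrix.diagonal_mul]
  exact hq i j

open LaurentPolynomial in
lemma det_eq (d : Fin n → ℤ) (Q : Matrix (Fin n) (Fin n) (Polynomial k)) :
    (Matrix.diagonal (fun i => T (d i)) * (Q.map Polynomial.toLaurent).map invert).det =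
      T (∑ i, d i) * invert (Polynomial.toLaurent Q.det) := by
  rw [Matrix.det_mul, Matrix.det_diagonal, RingHom.map_det, AlgEquiv.map_det]
  congr 1
  induction (Finset.univ : Finset (Fin n)) using Finset.induction_on with
  | empty => simp
  | insert a s ha ih => rw [Finset.prod_insert ha, Finset.sum_insert ha, ih, T_add]

open LaurentPolynomial in
lemma isUnit_of_isUnit_toLaurent (p : Polynomial k) (h : IsUnit (Polynomial.toLaurent p)) (h0 : p.coeff 0 ≠ 0) :
    IsUnit p := by
  obtain ⟨g, hg⟩ := h.exists_right_inv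
  obtain ⟨s, g', hg'⟩ := exists_T_pow g
  have hmul : p * g' = Polynomial.X ^ s := Polynomial.toLaurent_injective (by
    rw [map_mul, hg', ← mul_assoc, hg, one_mul, map_pow, Polynomial.toLaurent_X, T_pow, mul_one])
  obtain ⟨i, -, hi⟩ := (dvd_prime_pow Polynomial.prime_X s).1 ⟨g', hmul.symm⟩
  rcases i with _ | i
  · exact associated_one_iff_isUnit.1 (by rwa [pow_zero] at hi)
  · exfalso
    refine h0 (Polynomial.X_dvd_iff.1 ((dvd_pow_self _ (Nat.succ_ne_zero i)).trans hi.symm.dvd))

open LaurentPolynomial in
theorem exists_aux (A : Matrix (Fin n) (Fin n) (LaurentPolynomial k)) (hA : IsUnit A) :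
    ∃ (P Q : Matrix (Fin n) (Fin n) (Polynomial k)) (d : Fin n → ℤ),
      IsUnit P ∧ IsUnit Q ∧
        A = P.map Polynomial.toLaurent * Matrix.diagonal (fun i => T (d i)) *
          (Q.map Polynomial.toLaurent).map invert := by
  classical
  let S : Set ℤ := {z | ∃ P : Matrix (Fin n) (Fin n) (Polynomial k), IsUnit P ∧
    ∃ d : Fin n → ℤ, IsBd (P.map Polynomial.toLaurent * A) d ∧ ∑ i, d i = z}
  have hne : S.Nonempty := by
    obtain ⟨N, hN⟩ := (Set.finite_iUnion fun i => Set.finite_iUnion fun j => (A i j).coeff.support.finite_toSet).bddAbove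
    refine ⟨_, 1, isUnit_one, fun _ => N, fun i j m hm => ?_, rfl⟩
    rw [Matrix.map_one _ (map_zero _) (map_one _), one_mul]
    by_contra h
    have h' := hN (Set.mem_iUnion.2 ⟨i, Set.mem_iUnion.2 ⟨j, Finsupp.mem_support_iff.2 h⟩⟩)
    simp only at hm
    omega
  have hAdet : A.det ≠ 0 := ((Matrix.isUnit_iff_isUnit_det A).1 hA).ne_zero
  obtain ⟨m₀, hm₀⟩ : ∃ m, A.det.coeff m ≠ 0 := by
    by_contra! h
    exact hAdet (LaurentPolynomial.ext fun m => by rw [h m]; rfl)
  have hbdd : ∀ z ∈ S, m₀ ≤ z := by
    rintro z ⟨P, hP, d, hd, rfl⟩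
    obtain ⟨c, hc, hc'⟩ := Polynomial.isUnit_iff.1 ((Matrix.isUnit_iff_isUnit_det P).1 hP)
    obtain ⟨Q, hQ, -⟩ := exists_factor _ d hd
    have hdet := congrArg Matrix.det hQ
    rw [det_eq, Matrix.det_mul, show (P.map Polynomial.toLaurent).det = Polynomial.toLaurent P.det from
      (RingHom.map_det _ P).symm, ← hc', Polynomial.toLaurent_C] at hdet
    by_contra hlt
    have h1 := congrArg (fun f : LaurentPolynomial k => f.coeff m₀) hdet
    have h2 := coeff_C_T_mul c 0 A.det m₀
    rw [T_zero, mul_one, sub_zero] at h2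
    have h3 := coeff_C_T_mul (1 : k) (∑ i, d i) (invert (Polynomial.toLaurent Q.det)) m₀
    rw [map_one, one_mul, one_mul, invert_apply, toLaurent_coeff_neg _ (by omega)] at h3
    simp only [h2, h3, mul_eq_zero] at h1
    exact h1.elim hc.ne_zero hm₀
  obtain ⟨z, hzS, hz⟩ := Int.exists_least_of_bdd ⟨m₀, hbdd⟩ hne
  obtain ⟨P, hP, d, hd, rfl⟩ := hzS
  obtain ⟨Q, hQ, hQ0⟩ := exists_factor _ d hd
  have hC : (Q.map (Polynomial.evalRingHom 0)).det ≠ 0 := by
    intro h0
    obtain ⟨w, hw, hwC⟩ := Matrix.exists_vecMul_eq_zero_iff.2 h0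
    obtain ⟨i, hi, hmax⟩ := Finset.exists_max_image (Finset.univ.filter fun l => w l ≠ 0) d (by
      obtain ⟨l, hl⟩ := Function.ne_iff.1 hw
      exact ⟨l, Finset.mem_filter.2 ⟨Finset.mem_univ _, hl⟩⟩)
    replace hi := (Finset.mem_filter.1 hi).2
    let c : Fin n → Polynomial k := fun l => Polynomial.C (w l / w i) * Polynomial.X ^ (d i - d l).toNat
    let E : Matrix (Fin n) (Fin n) (Polynomial k) :=
      (1 : Matrix (Fin n) (Fin n) (Polynomial k)).updateRow i (∑ l, c l • (1 : Matrix (Fin n) (Fin n) (Polynomial k)) l)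
    have hE : IsUnit E := by
      rw [Matrix.isUnit_iff_isUnit_det, Matrix.det_updateRow_sum, Matrix.det_one]
      simp [c, div_self hi]
    have hmem : ∑ l, Function.update d i (d i - 1) l ∈ S := by
      refine ⟨E * P, hE.mul hP, _, ?_, rfl⟩
      intro a b m hm
      rw [Matrix.map_mul, Matrix.mul_assoc, Matrix.mul_apply, AddMonoidAlgebra.coeff_sum, Finsupp.finsetSum_apply]
      by_cases ha : a = i
      · subst ha
        rw [Function.update_self] at hm
        have hrow : ∀ l, E a l = c l := fun l => by
          simp only [E, Matrix.updateRow_self, Finset.sum_apply, Pi.smul_apply, Matrix.one_apply, smul_eq_mul,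
            mul_ite, mul_one, mul_zero, Finset.sum_ite_eq', Finset.mem_univ, if_true]
        have hterm : ∀ l, (E.map Polynomial.toLaurent a l * (P.map Polynomial.toLaurent * A) l b).coeff m =
            if m = d a then w l / w a * (Q l b).coeff 0 else 0 := by
          intro l
          rw [Matrix.map_apply, hrow, map_mul, map_pow, Polynomial.toLaurent_C, Polynomial.toLaurent_X, T_pow,
            mul_one, coeff_C_T_mul]
          by_cases hl : w l = 0
          · simp [hl]
          · have hle : d l ≤ d a := hmax l (Finset.mem_filter.2 ⟨Finset.mem_univ _, hl⟩)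
            rw [Int.toNat_of_nonneg (by omega)]
            by_cases hm' : m = d a
            · rw [if_pos hm', hm', sub_sub_cancel, hQ0]
            · rw [if_neg hm', hd l b _ (by omega), mul_zero]
        rw [Finset.sum_congr rfl fun l _ => hterm l]
        by_cases hm' : m = d a
        · simp only [if_pos hm', div_mul_eq_mul_div, ← Finset.sum_div]
          have := congrFun hwC b
          simp only [Matrix.vecMul, dotProduct, Matrix.map_apply, Polynomial.coe_evalRingHom,
            ← Polynomial.coeff_zero_eq_eval_zero, Pi.zero_apply] at this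
          rw [this, zero_div]
        · simp [hm']
      · rw [Function.update_of_ne ha] at hm
        refine Finset.sum_eq_zero fun l _ => ?_
        rw [Matrix.map_apply]
        by_cases hl : a = l
        · subst hl
          simp [E, Matrix.updateRow_ne ha, hd a b m hm]
        · simp [E, Matrix.updateRow_ne ha, Matrix.one_apply_ne hl]
    have := hz _ hmem
    rw [Finset.sum_update_of_mem (Finset.mem_univ i), ← Finset.add_sum_erase _ d (Finset.mem_univ i),
      Finset.sdiff_singleton_eq_erase] at this
    omega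
  have hu : IsUnit (Polynomial.toLaurent Q.det) := by
    have h1 : IsUnit (P.map Polynomial.toLaurent * A) :=
      (hP.map (Polynomial.toLaurent (R := k)).mapMatrix).mul hA
    rw [hQ, Matrix.isUnit_iff_isUnit_det, det_eq, IsUnit.mul_iff] at h1
    simpa using h1.2.map (invert (R := k))
  have hQu : IsUnit Q := (Matrix.isUnit_iff_isUnit_det Q).2 (isUnit_of_isUnit_toLaurent _ hu (by
    rw [Polynomial.coeff_zero_eq_eval_zero, ← Polynomial.coe_evalRingHom, RingHom.map_det]
    exact hC))
  obtain ⟨u, rfl⟩ := hP
  refine ⟨((u⁻¹ : (Matrix (Fin n) (Fin n) (Polynomial k))ˣ) : Matrix (Fin n) (Fin n) (Polynomial k)), Q, d,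
    u⁻¹.isUnit, hQu, ?_⟩
  rw [Matrix.mul_assoc, ← hQ, ← Matrix.mul_assoc, ← Matrix.map_mul, Units.inv_mul,
    Matrix.map_one _ (map_zero _) (map_one _), Matrix.one_mul]

end Birkhoff

/-- Let k be a field and n a natural number. For every invertible n × n matrix A with entries in the
Laurent polynomial ring k[T, T⁻¹] there are matrices P and Q over k[T], invertible over k[T], and
integers d_1 ≥ d_2 ≥ … ≥ d_n (indexed by Fin n, antitone) such that A = P · diag(T^{d_i}) · Q⁻,
where Q⁻ is obtained from Q by the substitution T ↦ T⁻¹ (so Q⁻ is invertible over k[T⁻¹]). -/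
theorem result (k : Type u) [Field k] (n : ℕ)
    (A : Matrix (Fin n) (Fin n) (LaurentPolynomial k)) (hA : IsUnit A) :
    ∃ (P Q : Matrix (Fin n) (Fin n) (Polynomial k)) (d : Fin n → ℤ),
      IsUnit P ∧ IsUnit Q ∧ Antitone d ∧
        A = P.map Polynomial.toLaurent * Matrix.diagonal (fun i => LaurentPolynomial.T (d i)) *
          (Q.map Polynomial.toLaurent).map LaurentPolynomial.invert := by
  obtain ⟨P, Q, d, hP, hQ, hA'⟩ := exists_aux A hA
  let σ : Equiv.Perm (Fin n) := Tuple.sort (fun i => - d i)
  refine ⟨P.submatrix id σ, Q.submatrix σ id, d ∘ σ, ?_, ?_, ?_, ?_⟩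
  · exact (Matrix.isUnit_submatrix_equiv (Equiv.refl _) σ).2 hP
  · exact (Matrix.isUnit_submatrix_equiv σ (Equiv.refl _)).2 hQ
  · intro a b hab
    have := Tuple.monotone_sort (fun i => - d i) hab
    simp only [Function.comp_apply] at this ⊢
    change d (σ b) ≤ d (σ a)
    change -d (σ a) ≤ -d (σ b) at this
    omega
  · rw [hA']
    simp only [← Matrix.submatrix_map]
    rw [show Matrix.diagonal (fun i => LaurentPolynomial.T ((d ∘ σ) i) : Fin n → LaurentPolynomial k) =
        (Matrix.diagonal fun i => LaurentPolynomial.T (d i)).submatrix σ σ from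
        (Matrix.submatrix_diagonal_equiv (fun i => LaurentPolynomial.T (d i)) σ).symm,
      Matrix.submatrix_mul_equiv, Matrix.submatrix_mul_equiv, Matrix.submatrix_id_id]

end Groth.Agent.S10849
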