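import Groth.Statements.S10850
import Groth.Agent.S17412
import Groth.Agent.LeadPic.PnPic
import Groth.Agent.H29CurveDual.HomK
import Groth.Agent.H3CAlg.FormsDim
import Groth.Agent.H25Theta.Basic

set_option autoImplicit false
universe u
open ProjAut

namespace Groth.Agent.S10850

section
open CategoryTheory CategoryTheory.Limits AlgebraicGeometry Opposite
open Groth.Agent.H11Ample Groth.Agent.H25Proj

attribute [local instance 10000] H10Coh.hasSheafifyAb H10Coh.hasWeakSheafifyAb H10Coh.hasExtAb H10Coh.enoughInjAb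

variable (k : Type u) [Field k] (n : ℕ)

local notation "PP" => CohB1.ProjSpace n k
local notation "tS" => CohB1.ProjSpace.toSpec n k
local notation "T1" => Twist.twistProjSpace n k 1

/-- `r` substitutes the linear forms given by the rows. -/
def Vals (B : Fin (n + 1) → (Fin (n + 1) → k)) (r : PP ⟶ PP) : Prop :=
  r ≫ tS = tS ∧ ∃ τ : (Scheme.Modules.pullback r).obj T1 ≅ T1,
    ∀ i, τ.hom.app ⊤ (pullTop r (L := T1) (co k n i)) = lin k n (B i)

theorem vals_unique {B : Fin (n + 1) → (Fin (n + 1) → k)} {r r' : PP ⟶ PP} (h : Vals k n B r) (h' : Vals k n B r') :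
    r = r' := by
  obtain ⟨hr, τ, hτ⟩ := h
  obtain ⟨hr', τ', hτ'⟩ := h'
  exact hom_eq r r' (hr.trans hr'.symm) τ τ' fun i => (hτ i).trans (hτ' i).symm

theorem vals_comp {B C : Fin (n + 1) → (Fin (n + 1) → k)} {r r' : PP ⟶ PP} (h : Vals k n B r) (h' : Vals k n C r') :
    Vals k n (fun i => ∑ j, B i j • C j) (r' ≫ r) := by
  obtain ⟨hr, τ, hτ⟩ := h
  obtain ⟨hr', τ', hτ'⟩ := h'
  obtain ⟨θ, hθ⟩ := exists_comp_values r' r τ τ'
  refine ⟨by rw [Category.assoc, hr, hr'], θ, fun i => ?_⟩
  rw [hθ, hτ, pullTop_lin r' hr', map_sum, S17412.lin_sum]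
  exact Finset.sum_congr rfl fun j _ => (Scheme.Modules.Hom.app_smul _ _ _).trans (congrArg _ (hτ' j))

theorem vals_mul (M N : Matrix (Fin (n + 1)) (Fin (n + 1)) k) {r r' : PP ⟶ PP} (h : Vals k n (fun i => M i) r)
    (h' : Vals k n (fun i => N i) r') : Vals k n (fun i => (M * N) i) (r' ≫ r) := by
  convert vals_comp k n h h' using 1
  funext i j
  simp [Matrix.mul_apply, Finset.sum_apply]

theorem vals_id : Vals k n (fun i => (1 : Matrix (Fin (n + 1)) (Fin (n + 1)) k) i) (𝟙 PP) := by
  refine ⟨Category.id_comp _, (Scheme.Modules.pullbackId _).app _, fun i => (H22Alg.PB.pullTop_id _ _).trans ?_⟩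
  rw [← lin_single]
  congr 1
  funext j
  simp [Matrix.one_apply, Pi.single_apply, eq_comm]

theorem exists_vals (M : (Matrix (Fin (n + 1)) (Fin (n + 1)) k)ˣ) : ∃ r : PP ⟶ PP, Vals k n (fun i => M.1 i) r := by
  have hli : LinearIndependent k fun i => M.1 i := Matrix.linearIndependent_rows_of_isUnit M.isUnit
  let Bb : Module.Basis (Fin (n + 1)) k (Fin (n + 1) → k) :=
    basisOfLinearIndependentOfCardEqFinrank hli (by simp)
  obtain ⟨σ, τ, hσ, hτ⟩ := S17412.exists_aut k Bb
  refine ⟨σ.hom, hσ, τ, fun i => ?_⟩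
  rw [hτ, show Bb i = M.1 i from congrFun (coe_basisOfLinearIndependentOfCardEqFinrank hli _) i]

/-- The automorphism of a matrix. -/
noncomputable def autOf : Matrix.GeneralLinearGroup (Fin (n + 1)) k →* Aut (Over.mk tS) :=
  MonoidHom.mk' (fun M =>
    Over.isoMk
      { hom := (exists_vals k n M).choose
        inv := (exists_vals k n M⁻¹).choose
        hom_inv_id := vals_unique k n (B := fun i => (M⁻¹ * M).1 i)
          (vals_mul k n _ _ (exists_vals k n M⁻¹).choose_spec (exists_vals k n M).choose_spec)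
          (by rw [inv_mul_cancel]; exact vals_id k n)
        inv_hom_id := vals_unique k n (B := fun i => (M * M⁻¹).1 i)
          (vals_mul k n _ _ (exists_vals k n M).choose_spec (exists_vals k n M⁻¹).choose_spec)
          (by rw [mul_inv_cancel]; exact vals_id k n) }
      (exists_vals k n M).choose_spec.1)
    (fun M N => by
      refine Iso.ext (Over.OverMorphism.ext ?_)
      exact vals_unique k n (B := fun i => (M * N).1 i) (exists_vals k n (M * N)).choose_spec
        (vals_mul k n _ _ (exists_vals k n M).choose_spec (exists_vals k n N).choose_spec))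

theorem autOf_vals (M : Matrix.GeneralLinearGroup (Fin (n + 1)) k) :
    Vals k n (fun i => M.1 i) (autOf k n M).hom.left := (exists_vals k n M).choose_spec

theorem finrank_sections_structure :
    letI : (PP).Over (Spec (CommRingCat.of k)) := ⟨tS⟩
    Module.finrank k (Coh.HH PP (Coh.structureModule PP) 0) = 1 := by
  letI : (PP).Over (Spec (CommRingCat.of k)) := ⟨tS⟩
  let eH : Coh.HH PP (Coh.structureModule PP) 0 ≃ Γ(PP, ⊤) := (H10Coh.HH0Equiv (Coh.structureModule PP)).toEquiv
  refine finrank_eq_one ((H10Coh.HH0Equiv (Coh.structureModule PP)).symm (1 : Γ(PP, ⊤))) (fun h => ?_) fun w => ?_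
  · have h0 := congrArg (H10Coh.HH0Equiv (Coh.structureModule PP)) h
    rw [AddEquiv.apply_symm_apply, map_zero] at h0
    have h1 : (1 : Γ(PP, ⊤)) = 0 := h0
    have h2 := H10Coh.Pn.bijective_constΓ (n := n) (R := k)
    exact one_ne_zero (h2.1 ((map_one _).trans (h1.trans (map_zero _).symm)))
  · obtain ⟨c, hc⟩ := (H10Coh.Pn.bijective_constΓ (n := n) (R := k)).2 (H10Coh.HH0Equiv (Coh.structureModule PP) w)
    refine ⟨c, (H10Coh.HH0Equiv (Coh.structureModule PP)).injective ?_⟩
    refine (H10Coh.HH0Equiv_smul _ (ProjUP.toGlobal tS c) _).trans ?_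
    rw [AddEquiv.apply_symm_apply, ← hc]
    show (ProjUP.toGlobal tS c : Γ(PP, ⊤)) * 1 = _
    rw [mul_one]
    rfl

theorem exists_scalar (φ : T1 ⟶ T1) : ∃ c : k, ∀ t : Γ(T1, ⊤),
    φ.app ⊤ t = (ProjUP.toGlobal tS c : Γ(PP, ⊤)) • t := by
  letI : (PP).Over (Spec (CommRingCat.of k)) := ⟨tS⟩
  letI := H29CurveDual.homModule k T1 T1
  have hT : PicF.IsInvertible T1 := isInvertible_twist
  obtain ⟨N, hN, ⟨e⟩⟩ := H29RR.exists_inverse_comm hT
  have h1 : Module.finrank k (T1 ⟶ T1) = 1 := by
    rw [H29CurveDual.finrank_hom_invertible k hN e, H29CurveDual.finrank_h0_congr e]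
    exact finrank_sections_structure k n
  have hne : (𝟙 T1) ≠ 0 := fun h => by
    have h2 : co k n 0 = (0 : Γ(T1, ⊤)) :=
      congr($(congrArg (fun j => Scheme.Modules.Hom.app j ⊤) h) (co k n 0))
    have h3 := lin_injective k n ((lin_single k n 0).trans (h2.trans (by simp [lin] : (0 : Γ(T1, ⊤)) = lin k n 0)))
    simpa using congrFun h3 0
  obtain ⟨c, hc⟩ := (finrank_eq_one_iff_of_nonzero' (𝟙 T1) hne).1 h1 φ
  refine ⟨c, fun t => ?_⟩
  rw [← hc, H29CurveDual.smul_def, Category.id_comp, H29CurveDual.scal_app]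
  congr 1

theorem lin_smul (c : k) (v : Fin (n + 1) → k) :
    lin k n (c • v) = (ProjUP.toGlobal tS c : Γ(PP, ⊤)) • lin k n v := by
  simp only [lin, Pi.smul_apply, smul_eq_mul, map_mul, mul_smul, Finset.smul_sum]

theorem scalar_of_vals_id {B : Fin (n + 1) → (Fin (n + 1) → k)} (h : Vals k n B (𝟙 PP)) :
    ∃ c : k, ∀ i, B i = c • Pi.single i 1 := by
  obtain ⟨-, τ, hτ⟩ := h
  obtain ⟨c, hc⟩ := exists_scalar k n (((Scheme.Modules.pullbackId _).app T1).inv ≫ τ.hom)
  refine ⟨c, fun i => lin_injective k n ?_⟩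
  rw [← hτ i, lin_smul, lin_single, ← hc]
  have h1 : ((Scheme.Modules.pullbackId _).app T1).inv.app ⊤ (co k n i) = pullTop (𝟙 PP) (L := T1) (co k n i) := by
    rw [← H22Alg.PB.pullTop_id T1 (co k n i)]
    exact (congr($(congrArg (fun j => Scheme.Modules.Hom.app j ⊤) ((Scheme.Modules.pullbackId PP).hom_inv_id_app T1)) _)).trans
      (congrArg (pullTop (𝟙 PP) (L := T1)) (H22Alg.PB.pullTop_id T1 (co k n i)).symm)
  rw [← h1]
  rfl

theorem finrank_twist_nat (d : ℕ) :
    letI : (PP).Over (Spec (CommRingCat.of k)) := ⟨tS⟩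
    Module.finrank k (Coh.HH PP (Twist.twistProjSpace n k (d : ℤ)) 0) = (d + n).choose n := by
  letI : (Proj (H10Coh.Pn.Gr n k)).Over (Spec (CommRingCat.of k)) := ⟨H10Coh.Pn.toS n k⟩
  have h1 := (LinearEquiv.ofBijective (H10Coh.Pn.HH0Od n k d) (H10Coh.Pn.HH0Od_bijective d)).finrank_eq
  have h2 := (LinearEquiv.ofBijective (H10Coh.Pn.homToAllowed n k d) (H10Coh.Pn.homToAllowed_bijective d)).finrank_eq
  exact h1.trans (h2.symm.trans (H3CAlg.finrank_homogeneous n d).2)

theorem eq_one_of_finrank (hn : n ≠ 0) (d : ℤ)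
    (h : letI : (PP).Over (Spec (CommRingCat.of k)) := ⟨tS⟩
      Module.finrank k (Coh.HH PP (Twist.twistProjSpace n k d) 0) = n + 1) : d = 1 := by
  obtain ⟨m, rfl | rfl⟩ := d.eq_nat_or_neg
  · rw [finrank_twist_nat k n m] at h
    have hmono := Nat.choose_le_choose n (a := 2 + n) (b := m + n)
    have h2 : n + 1 < (2 + n).choose n := by
      rw [Nat.choose_symm_of_eq_add (show 2 + n = n + 2 by omega), Nat.choose_two_right]
      have : n + 2 ≤ (2 + n) * (2 + n - 1) / 2 := by
        rw [Nat.le_div_iff_mul_le two_pos, show 2 + n - 1 = n + 1 by omega]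
        nlinarith [Nat.pos_of_ne_zero hn]
      omega
    match m, h, hmono with
    | 0, h, _ => simp at h; omega
    | 1, _, _ => rfl
    | m + 2, h, hmono => have := hmono (by omega); omega
  · by_cases hm : m = 0
    · subst hm
      have h' := finrank_twist_nat k n 0
      rw [show (-((0 : ℕ) : ℤ)) = ((0 : ℕ) : ℤ) by simp] at h
      have h3 := h.symm.trans h'
      rw [zero_add, Nat.choose_self] at h3
      omega
    · haveI : Subsingleton Γ(Twist.twistProjSpace n k (-(m : ℤ)), ⊤) := H10Coh.Pn.subsingleton_sections_of_neg (n := n) (R := k) hn (d := -(m : ℤ)) (by omega)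
      haveI : Subsingleton (Coh.HH PP (Twist.twistProjSpace n k (-(m : ℤ))) 0) :=
        (H10Coh.HH0Equiv (Twist.twistProjSpace n k (-(m : ℤ)))).toEquiv.subsingleton
      rw [Module.finrank_zero_of_subsingleton] at h
      omega

theorem exists_pullback_iso (σ : PP ≅ PP) (hσ : σ.hom ≫ tS = tS) :
    Nonempty ((Scheme.Modules.pullback σ.hom).obj T1 ≅ T1) := by
  have hinv := H11Ample.isInvertible_pullback σ.hom (isInvertible_twist (n := n) (R := k))
  obtain ⟨d, ⟨e⟩⟩ := LeadPic.Pn.exists_iso_twist n k hinv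
  by_cases hn : n = 0
  · subst hn
    haveI := H11Proj.ProjSpace.isIso_toSpec_zero k
    haveI : Subsingleton ↥(CohB1.ProjSpace 0 k) :=
      (CohB1.ProjSpace.toSpec 0 k).homeomorph.toEquiv.subsingleton
    haveI : Nonempty ↥(CohB1.ProjSpace 0 k) :=
      (CohB1.ProjSpace.toSpec 0 k).homeomorph.toEquiv.nonempty
    have htriv : ∀ {L : (CohB1.ProjSpace 0 k).Modules}, PicF.IsInvertible L →
        Nonempty (L ≅ Coh.structureModule (CohB1.ProjSpace 0 k)) := fun hL =>
      H25Theta.nonempty_iso_of_subsingleton hL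
    obtain ⟨a⟩ := htriv hinv
    obtain ⟨b⟩ := htriv (isInvertible_twist (n := 0) (R := k))
    exact ⟨a ≪≫ b.symm⟩
  · suffices d = 1 by subst this; exact ⟨e⟩
    refine eq_one_of_finrank k n hn d ?_
    letI : (PP).Over (Spec (CommRingCat.of k)) := ⟨tS⟩
    refine (H29CurveDual.finrank_h0_congr (k := k) e 0).symm.trans ?_
    letI : Module k Γ((Scheme.Modules.pullback σ.hom).obj T1, ⊤) := Module.compHom _ (ProjUP.toGlobal tS)
    let eH : Coh.HH PP ((Scheme.Modules.pullback σ.hom).obj T1) 0 ≃ₗ[k] Γ((Scheme.Modules.pullback σ.hom).obj T1, ⊤) :=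
      { H10Coh.HH0Equiv _ with
        map_smul' := fun a x => H10Coh.HH0Equiv_smul _ (ProjUP.toGlobal tS a) x }
    let Ψ : (Fin (n + 1) → k) →ₗ[k] Γ((Scheme.Modules.pullback σ.hom).obj T1, ⊤) :=
      Fintype.linearCombination k fun j => pullTop σ.hom (L := T1) (co k n j)
    have hΨ : ⇑Ψ = fun c => pullTop σ.hom (L := T1) (lin k n c) := funext fun c => by
      rw [pullTop_lin σ.hom hσ]
      exact Fintype.linearCombination_apply _ _ _
    have hb : Function.Bijective Ψ := by
      rw [hΨ]
      exact (H17.PullSect.bijective_pullSect σ.hom T1 (W := ⊤) (by rw [Scheme.Hom.opensRange_of_isIso])).comp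
        ⟨lin_injective k n, lin_surjective k n⟩
    rw [eH.finrank_eq, ← (LinearEquiv.ofBijective Ψ hb).finrank_eq]
    simp

theorem autOf_surjective : Function.Surjective (autOf k n) := by
  intro a
  let σ : PP ≅ PP := (Over.forget _).mapIso a
  have hσ : σ.hom ≫ tS = tS := Over.w a.hom
  obtain ⟨τ⟩ := exists_pullback_iso k n σ hσ
  choose B hB using fun i => lin_surjective k n (τ.hom.app ⊤ (pullTop σ.hom (L := T1) (co k n i)))
  have hV : Vals k n B σ.hom := ⟨hσ, τ, fun i => (hB i).symm⟩
  have hσ' : σ.inv ≫ tS = tS := by rw [← hσ, ← Category.assoc, σ.inv_hom_id, Category.id_comp, hσ]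
  obtain ⟨τ'⟩ := exists_pullback_iso k n σ.symm hσ'
  choose C hC using fun i => lin_surjective k n (τ'.hom.app ⊤ (pullTop σ.inv (L := T1) (co k n i)))
  have hW : Vals k n C σ.inv := ⟨hσ', τ', fun i => (hC i).symm⟩
  have h1 := vals_comp k n hV hW
  rw [σ.inv_hom_id] at h1
  obtain ⟨c, hc⟩ := scalar_of_vals_id k n h1
  have h2 := vals_comp k n hW hV
  rw [σ.hom_inv_id] at h2
  obtain ⟨c', hc'⟩ := scalar_of_vals_id k n h2
  have hBC : (Matrix.of B) * (Matrix.of C) = c • (1 : Matrix (Fin (n + 1)) (Fin (n + 1)) k) := by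
    ext i j
    have := congrFun (hc i) j
    simp only [Finset.sum_apply, Pi.smul_apply, smul_eq_mul, Pi.single_apply] at this
    simp [Matrix.mul_apply, Matrix.one_apply, this, eq_comm]
  have hc0 : c ≠ 0 := by
    rintro rfl
    have h0 : lin k n (fun _ => (0 : k)) = 0 := by simp [lin]
    obtain ⟨θ, hθ⟩ := h1.2
    have := (hθ 0).trans ((congrArg (lin k n) ((hc 0).trans (zero_smul k _))).trans h0)
    have hinj : Function.Injective (θ.hom.app ⊤) :=
      ((ConcreteCategory.isIso_iff_bijective _).1 (Scheme.Modules.Hom.isIso_iff_isIso_app.mp inferInstance ⊤)).1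
    have h3 := congrArg (((Scheme.Modules.pullbackId PP).hom.app T1).app ⊤) (hinj (this.trans (map_zero _).symm))
    rw [H22Alg.PB.pullTop_id, map_zero] at h3
    have h4 := lin_injective k n ((lin_single k n 0).trans (h3.trans h0.symm))
    simpa using congrFun h4 0
  have hu : IsUnit (Matrix.of B) := by
    refine IsUnit.of_mul_eq_one (c⁻¹ • Matrix.of C) ?_
    rw [mul_smul_comm, hBC, smul_smul, inv_mul_cancel₀ hc0, one_smul]
  refine ⟨hu.unit, Iso.ext (Over.OverMorphism.ext (vals_unique k n (autOf_vals k n hu.unit) ?_))⟩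
  exact hV

theorem autOf_ker : (autOf k n).ker =
    (Units.map (Matrix.scalar (Fin (n + 1)) : k →+* Matrix (Fin (n + 1)) (Fin (n + 1)) k).toMonoidHom).range := by
  ext M
  have hl := autOf_vals k n M
  constructor
  · intro h
    rw [MonoidHom.mem_ker] at h
    rw [h] at hl
    obtain ⟨c, hc⟩ := scalar_of_vals_id k n hl
    have hM : M.1 = Matrix.scalar (Fin (n + 1)) c := by
      ext i j
      rw [congrFun (hc i) j]
      simp [Matrix.scalar_apply, Matrix.diagonal_apply, Pi.single_apply, eq_comm]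
    have hc0 : c ≠ 0 := by
      rintro rfl
      exact M.ne_zero (by rw [hM, map_zero])
    exact ⟨Units.mk0 c hc0, Units.ext hM.symm⟩
  · rintro ⟨c, rfl⟩
    refine Iso.ext (Over.OverMorphism.ext (vals_unique k n (autOf_vals k n _) ?_))
    obtain ⟨hi, τ, hτ⟩ := vals_id k n
    let u : T1 ⟶ T1 := H29CurveDual.scal T1 (ProjUP.toGlobal tS (c : k))
    let u' : T1 ⟶ T1 := H29CurveDual.scal T1 (ProjUP.toGlobal tS ((c⁻¹ : kˣ) : k))
    let α : T1 ≅ T1 := ⟨u, u', by rw [← H29CurveDual.scal_mul, ← map_mul, Units.inv_mul, map_one, H29CurveDual.scal_one],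
      by rw [← H29CurveDual.scal_mul, ← map_mul, Units.mul_inv, map_one, H29CurveDual.scal_one]⟩
    refine ⟨hi, τ ≪≫ α, fun i => ?_⟩
    show u.app ⊤ (τ.hom.app ⊤ _) = _
    refine (congrArg (u.app ⊤) (hτ i)).trans ?_
    rw [H29CurveDual.scal_app]
    refine (congrArg (fun z => z • lin k n _) (congr($((PP).presheaf.map_id (op ⊤)) _))).trans ?_
    refine (lin_smul k n _ _).symm.trans (congrArg (lin k n) ?_)
    funext j
    simp [Matrix.scalar_apply, Matrix.diagonal_apply, Matrix.one_apply]

end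


open AlgebraicGeometry CategoryTheory in
/-- Let k be a field and n a natural number. There is a surjective group homomorphism from GL_{n+1}(k)
onto the group of automorphisms of projective n-space P^n_k over Spec k whose kernel is the subgroup
of invertible scalar matrices; so the automorphism group of P^n_k over k is isomorphic to
PGL_{n+1}(k). (Only the existence of a surjective homomorphism with this kernel is asserted here;
the published statement is about the homomorphism induced by linear substitutions of the homogeneous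
coordinates.) -/
theorem result
    (k : Type u) [Field k] (n : ℕ) :
    ∃ φ : Matrix.GeneralLinearGroup (Fin (n + 1)) k →* Aut (Over.mk (CohB1.ProjSpace.toSpec n k)),
      Function.Surjective φ ∧
        φ.ker = (Units.map (Matrix.scalar (Fin (n + 1)) : k →+* Matrix (Fin (n + 1)) (Fin (n + 1)) k).toMonoidHom).range := by
  exact ⟨autOf k n, autOf_surjective k n, autOf_ker k n⟩

end Groth.Agent.S10850
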