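import Groth.Statements.S10853
import Groth.Agent.H17.Spreading

set_option autoImplicit false
universe u
open FinCond

namespace Groth.Agent.S10853

open CategoryTheory Limits AlgebraicGeometry TopologicalSpace

open AlgebraicGeometry CategoryTheory in
/-- Let S be a scheme, X an S-scheme and Y an S-scheme locally of finite presentation over S. Let x be a
point of X and y a point of Y over the same point of S, and let φ : O_{Y,y} → O_{X,x} be a local
homomorphism compatible with the two homomorphisms from the local ring of S. Then there exist an
open neighbourhood U of x and an S-morphism U → Y whose composite with the canonical morphism Spec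
O_{X,x} → U equals Spec φ followed by the canonical morphism Spec O_{Y,y} → Y (so it sends x to y
and induces φ on local rings). No condition is imposed on X or S. (The published statement assumes
only that Y is locally of finite presentation over S at the point y; this row assumes it
everywhere.) -/
theorem result
    {X Y S : Scheme.{u}} (sX : X ⟶ S) (sY : Y ⟶ S) [LocallyOfFinitePresentation sY]
    {x : X} {y : Y} (e : sX x = sY y)
    (φ : Y.presheaf.stalk y ⟶ X.presheaf.stalk x) [IsLocalHom φ.hom]
    (h : sY.stalkMap y ≫ φ =
      S.presheaf.stalkSpecializes (Inseparable.of_eq e).specializes ≫ sX.stalkMap x) :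
    ∃ (U : X.Opens) (hxU : x ∈ U) (f : U.toScheme ⟶ Y),
      Spec.map φ ≫ Y.fromSpecStalk y = U.fromSpecStalkOfMem x hxU ≫ f ∧
        f ≫ sY = U.ι ≫ sX := by
  exact Groth.Agent.H17.spread_out sX sY e φ h

end Groth.Agent.S10853
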