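import Groth.Statements.S10854
import Groth.Agent.H17.Spreading

set_option autoImplicit false
universe u
open FinCond

namespace Groth.Agent.S10854

open CategoryTheory Limits AlgebraicGeometry TopologicalSpace

open AlgebraicGeometry CategoryTheory in
/-- Let S be a scheme and X, Y two S-schemes locally of finite presentation over S. Let x be a point of
X and y a point of Y over the same point of S, and let φ : O_{Y,y} → O_{X,x} be an isomorphism
compatible with the two homomorphisms from the local ring of S. Then there exist open neighbourhoods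
U of x and V of y and an S-isomorphism f : U → V whose composite with Spec O_{X,x} → U and V → Y
equals Spec φ followed by Spec O_{Y,y} → Y. (The published statement assumes the finiteness
conditions only at the points x and y; this row assumes them everywhere.) -/
theorem result
    {X Y S : Scheme.{u}} (sX : X ⟶ S) (sY : Y ⟶ S)
    [LocallyOfFinitePresentation sX] [LocallyOfFinitePresentation sY]
    {x : X} {y : Y} (e : sX x = sY y)
    (φ : Y.presheaf.stalk y ⟶ X.presheaf.stalk x) [IsIso φ]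
    (h : sY.stalkMap y ≫ φ =
      S.presheaf.stalkSpecializes (Inseparable.of_eq e).specializes ≫ sX.stalkMap x) :
    ∃ (U : X.Opens) (hxU : x ∈ U) (V : Y.Opens) (f : U.toScheme ⟶ V.toScheme), IsIso f ∧
      Spec.map φ ≫ Y.fromSpecStalk y = U.fromSpecStalkOfMem x hxU ≫ f ≫ V.ι ∧
        f ≫ V.ι ≫ sY = U.ι ≫ sX := by
  obtain ⟨U, hxU, f, hf, hfs⟩ := Groth.Agent.H17.spread_out sX sY e φ h
  have h' : sX.stalkMap x ≫ inv φ =
      S.presheaf.stalkSpecializes (Inseparable.of_eq e.symm).specializes ≫ sY.stalkMap y := by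
    rw [IsIso.comp_inv_eq, Category.assoc, h, TopCat.Presheaf.stalkSpecializes_comp_assoc]
    simp
  obtain ⟨V, hyV, g, hg, hgs⟩ := Groth.Agent.H17.spread_out sY sX e.symm (inv φ) h'
  obtain ⟨U2, hx2, hU2, f2, hf2, hf2g⟩ := Groth.Agent.H17.exists_nhd_comp_eq sX sY hxU f hfs hyV g hgs
    φ (inv φ) (IsIso.inv_hom_id φ) hf hg
  obtain ⟨V2, hy2, hV2, g2, hg2, hg2f⟩ := Groth.Agent.H17.exists_nhd_comp_eq sY sX hyV g hgs hxU f hfs
    (inv φ) φ (IsIso.hom_inv_id φ) hg hf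
  let U3 : X.Opens := U2.ι ''ᵁ ((f2 ≫ V.ι) ⁻¹ᵁ V2)
  have hU3U2 : U3 ≤ U2 := Scheme.Opens.ι_image_le _ _
  let V3 : Y.Opens := V2.ι ''ᵁ ((g2 ≫ U.ι) ⁻¹ᵁ U3)
  have hV3V2 : V3 ≤ V2 := Scheme.Opens.ι_image_le _ _
  have hfmap : ∀ z : U3.toScheme, (f2 ≫ V.ι) (X.homOfLE hU3U2 z) ∈ V2 := fun z => by
    obtain ⟨w, hw, hwz⟩ := z.2
    rw [show X.homOfLE hU3U2 z = w from U2.ι.isEmbedding.injective (by
      rw [← Scheme.Hom.comp_apply, X.homOfLE_ι]; exact hwz.symm)]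
    exact hw
  have hgmap : ∀ z : V3.toScheme, (g2 ≫ U.ι) (Y.homOfLE hV3V2 z) ∈ U3 := fun z => by
    obtain ⟨w, hw, hwz⟩ := z.2
    rw [show Y.homOfLE hV3V2 z = w from V2.ι.isEmbedding.injective (by
      rw [← Scheme.Hom.comp_apply, Y.homOfLE_ι]; exact hwz.symm)]
    exact hw
  have hf3 : Set.range (X.homOfLE hU3U2 ≫ f2 ≫ V.ι) ⊆ Set.range V3.ι := by
    rintro _ ⟨z, rfl⟩
    rw [Scheme.Opens.range_ι]
    refine ⟨⟨_, hfmap z⟩, ?_, rfl⟩
    show (g2 ≫ U.ι) ⟨_, hfmap z⟩ ∈ U3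
    rw [hg2, Scheme.Hom.comp_apply]
    have : Y.homOfLE hV2 ⟨_, hfmap z⟩ = f2 (X.homOfLE hU3U2 z) :=
      V.ι.isEmbedding.injective (by rw [← Scheme.Hom.comp_apply, Y.homOfLE_ι]; rfl)
    rw [this, ← Scheme.Hom.comp_apply, hf2g, ← Scheme.Hom.comp_apply, X.homOfLE_ι]
    exact z.2
  have hg3 : Set.range (Y.homOfLE hV3V2 ≫ g2 ≫ U.ι) ⊆ Set.range U3.ι := by
    rintro _ ⟨z, rfl⟩
    rw [Scheme.Opens.range_ι]
    exact hgmap z
  let F := IsOpenImmersion.lift V3.ι _ hf3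
  let G := IsOpenImmersion.lift U3.ι _ hg3
  have hF : F ≫ V3.ι = X.homOfLE hU3U2 ≫ f2 ≫ V.ι := IsOpenImmersion.lift_fac _ _ _
  have hG : G ≫ U3.ι = Y.homOfLE hV3V2 ≫ g2 ≫ U.ι := IsOpenImmersion.lift_fac _ _ _
  have hFG : F ≫ G = 𝟙 _ := by
    have h0 : F ≫ Y.homOfLE (hV3V2.trans hV2) = X.homOfLE hU3U2 ≫ f2 := by
      rw [← cancel_mono V.ι, Category.assoc, Category.assoc, Y.homOfLE_ι, hF]
    rw [← cancel_mono U3.ι, Category.assoc, Category.id_comp, hG, hg2, Y.homOfLE_homOfLE_assoc,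
      reassoc_of% h0, hf2g, X.homOfLE_ι]
  have hGF : G ≫ F = 𝟙 _ := by
    have h0 : G ≫ X.homOfLE (hU3U2.trans hU2) = Y.homOfLE hV3V2 ≫ g2 := by
      rw [← cancel_mono U.ι, Category.assoc, Category.assoc, X.homOfLE_ι, hG]
    rw [← cancel_mono V3.ι, Category.assoc, Category.id_comp, hF, hf2, X.homOfLE_homOfLE_assoc,
      reassoc_of% h0, hg2f, Y.homOfLE_ι]
  have hx3 : x ∈ U3 := by
    refine ⟨⟨x, hx2⟩, ?_, rfl⟩
    show (f2 ≫ V.ι) ⟨x, hx2⟩ ∈ V2
    rw [hf2, ← Groth.Agent.H17.fromSpecStalkOfMem_apply_closedPoint U2 hx2, ← Scheme.Hom.comp_apply,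
      ← Category.assoc, Groth.Agent.H17.fromSpecStalkOfMem_homOfLE, ← hf, Scheme.Hom.comp_apply]
    have : Y.fromSpecStalk y (Spec.map φ (IsLocalRing.closedPoint (X.presheaf.stalk x))) = y :=
      (congrArg (Y.fromSpecStalk y) (IsLocalRing.comap_closedPoint φ.hom)).trans Scheme.fromSpecStalk_closedPoint
    exact this.symm ▸ hy2
  refine ⟨U3, hx3, V3, F, ⟨G, hFG, hGF⟩, ?_, ?_⟩
  · rw [hF, hf2, X.homOfLE_homOfLE_assoc, ← Category.assoc,
      Groth.Agent.H17.fromSpecStalkOfMem_homOfLE, hf]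
  · rw [reassoc_of% hF, reassoc_of% hf2, hfs, X.homOfLE_ι_assoc, X.homOfLE_ι_assoc]

end Groth.Agent.S10854
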