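import Groth.Statements.S10857
import Groth.Agent.H17.PushColim
import Groth.Agent.LeadProper.Supp
import Groth.Agent.H16Derived.KFlat.PerfCoh
import Groth.Agent.H10Coh.QCohOps
-- import your own Groth.Agent.* helpers here

set_option autoImplicit false
universe u
open QCohSup

namespace Groth.Agent.S10857

open AlgebraicGeometry CategoryTheory CategoryTheory.Limits in
/-- Take a quasi-compact scheme X, a finite-type quasi-coherent O_X-module F, and G a quasi-coherent
O_X-module which is the colimit of a filtered diagram of quasi-coherent O_X-modules G_j. A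
homomorphism u : G → F is an epimorphism if and only if there is an index j₀ such that for every
index j admitting a map from j₀ the composite G_j → G → F is an epimorphism. -/
theorem result {X : Scheme.{u}} [CompactSpace X]
    {J : Type u} [SmallCategory J] [IsFiltered J] (D : J ⥤ X.Modules) [∀ j, Coh.IsQCoh (D.obj j)]
    (c : Cocone D) (hc : IsColimit c) [Coh.IsQCoh c.pt]
    (F : X.Modules) [Coh.IsQCoh F] (hF : CohB1.IsFT F) (u : c.pt ⟶ F) :
    Epi u ↔ ∃ j₀ : J, ∀ j : J, Nonempty (j₀ ⟶ j) → Epi (c.ι.app j ≫ u) := by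
  classical
  refine ⟨fun hu => ?_, fun ⟨j₀, h⟩ => ?_⟩
  swap
  · haveI := h j₀ ⟨𝟙 _⟩
    exact epi_of_epi (c.ι.app j₀) u
  let v : ∀ j, D.obj j ⟶ F := fun j => c.ι.app j ≫ u
  let C : J → X.Modules := fun j => cokernel (v j)
  have hv : ∀ {i j : J} (a : i ⟶ j), v i ≫ cokernel.π (v j) = 0 := fun {i j} a => by
    show (c.ι.app i ≫ u) ≫ _ = 0
    rw [← c.w a, Category.assoc, Category.assoc, ← Category.assoc _ u]
    exact (congrArg (D.map a ≫ ·) (cokernel.condition (v j))).trans comp_zero
  haveI : ∀ j, (C j).IsQuasicoherent := fun j => by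
    haveI : (D.obj j).IsQuasicoherent := (inferInstance : Coh.IsQCoh (D.obj j))
    haveI : F.IsQuasicoherent := (inferInstance : Coh.IsQCoh F)
    exact Groth.Agent.H10Coh.isQuasicoherent_cokernel (v j)
  -- every point has an index beyond which the cokernel has zero stalk
  have key : ∀ x : X, ∃ j, x ∉ CohB1.support (C j) := by
    intro x
    obtain ⟨U, hU, hxU, -⟩ := exists_isAffineOpen_mem_and_subset (X := X) (x := x) (U := ⊤) trivial
    haveI := Groth.Agent.H29Fitt.finite_sections F inferInstance hF ⟨U, hU⟩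
    obtain ⟨n, e, he⟩ := Module.Finite.exists_fin (R := Γ(X, U)) (M := Γ(F, U))
    haveI : Epi ((Groth.Agent.H17.PushColim.stalkAb x).map u) := inferInstance
    have h1 : ∀ i : Fin n, ∃ j, ∀ k, (j ⟶ k) →
        (Groth.Agent.H17.PushColim.stalkAb x).map (cokernel.π (v k)) (F.presheaf.germ U x hxU (e i)) = 0 := by
      intro i
      obtain ⟨τ, hτ⟩ := (AddCommGrpCat.epi_iff_surjective _).1
        (inferInstance : Epi ((Groth.Agent.H17.PushColim.stalkAb x).map u)) (F.presheaf.germ U x hxU (e i))
      obtain ⟨j, t, ht⟩ := Concrete.isColimit_exists_rep _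
        (isColimitOfPreserves (Groth.Agent.H17.PushColim.stalkAb x) hc) τ
      refine ⟨j, fun k a => ?_⟩
      rw [← hτ, ← ht]
      show ((Groth.Agent.H17.PushColim.stalkAb x).map (cokernel.π (v k))) (((Groth.Agent.H17.PushColim.stalkAb x).map u)
        (((Groth.Agent.H17.PushColim.stalkAb x).map (c.ι.app j)) t)) = 0
      rw [← CategoryTheory.ConcreteCategory.comp_apply, ← CategoryTheory.ConcreteCategory.comp_apply,
        ← Functor.map_comp, ← Functor.map_comp, ← Category.assoc,
        show (c.ι.app j ≫ u) ≫ cokernel.π (v k) = 0 from hv a, Functor.map_zero]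
      rfl
    choose jj hjj using h1
    obtain ⟨k, hk⟩ := IsFiltered.sup_objs_exists (Finset.univ.image jj)
    refine ⟨k, not_not_intro (subsingleton_of_forall_eq 0 fun σ => ?_)⟩
    obtain ⟨τ, rfl⟩ := (AddCommGrpCat.epi_iff_surjective _).1
      (inferInstance : Epi ((Groth.Agent.H17.PushColim.stalkAb x).map (cokernel.π (v k)))) σ
    obtain ⟨V, hxV, m, rfl⟩ := F.presheaf.exists_germ_eq τ
    have hπ : ∀ i, ∃ W : X.Opens, x ∈ W ∧ ∃ h : W ≤ U, (C k).presheaf.map (homOfLE h).op ((cokernel.π (v k)).app U (e i)) = 0 := by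
      intro i
      have h0 : (C k).presheaf.germ U x hxU ((cokernel.π (v k)).app U (e i)) = 0 :=
        (TopCat.Presheaf.stalkFunctor_map_germ_apply U x hxU (cokernel.π (v k)).mapPresheaf (e i)).symm.trans
          (hjj i k (hk (Finset.mem_image_of_mem _ (Finset.mem_univ i))).some)
      obtain ⟨W, hxW, ι₁, ι₂, hW⟩ := (C k).presheaf.germ_eq x hxU hxU _ 0 (h0.trans (map_zero _).symm)
      refine ⟨W, hxW, ι₁.le, ?_⟩
      rw [show (homOfLE ι₁.le).op = ι₁.op from Subsingleton.elim _ _, hW, map_zero]
    choose W hxW hWU hW0 using hπ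
    obtain ⟨t, htle, hxt⟩ := hU.exists_basicOpen_le (V := V ⊓ Finset.univ.inf W)
      ⟨x, hxV, by
        induction (Finset.univ : Finset (Fin n)) using Finset.induction_on with
        | empty => exact trivial
        | insert a s ha ih => rw [Finset.inf_insert]; exact ⟨hxW a, ih⟩⟩ hxU
    have hTV : X.basicOpen t ≤ V := htle.trans inf_le_left
    have hTW : ∀ i, X.basicOpen t ≤ W i := fun i => (htle.trans inf_le_right).trans (Finset.inf_le (Finset.mem_univ i))
    obtain ⟨N, m', hm'⟩ := H29Blow.exists_pow_smul_eq_res F inferInstance hU t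
      (F.presheaf.map (homOfLE hTV).op m)
    have hz : ∀ s : Γ(F, U), (C k).presheaf.map (homOfLE (X.basicOpen_le t)).op ((cokernel.π (v k)).app U s) = 0 := by
      intro s
      have hs : s ∈ Submodule.span Γ(X, U) (Set.range e) := he ▸ Submodule.mem_top
      induction hs using Submodule.span_induction with
      | mem s hs =>
        obtain ⟨i, rfl⟩ := hs
        rw [show (homOfLE (X.basicOpen_le t)).op = (homOfLE (hWU i)).op ≫ (homOfLE (hTW i)).op from Subsingleton.elim _ _,
          Functor.map_comp, ConcreteCategory.comp_apply, hW0, map_zero]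
      | zero => simp
      | add a b _ _ ha hb => rw [map_add, map_add, ha, hb, add_zero]
      | smul r a _ ha => rw [Scheme.Modules.Hom.app_smul, Scheme.Modules.map_smul, ha, smul_zero]
    have h2 := congrArg ((cokernel.π (v k)).app (X.basicOpen t)) hm'
    rw [Scheme.Modules.Hom.app_smul] at h2
    have hnat : ∀ {O O' : X.Opens} (h : O' ≤ O) (s : Γ(F, O)),
        (cokernel.π (v k)).app O' (F.presheaf.map (homOfLE h).op s) =
          (C k).presheaf.map (homOfLE h).op ((cokernel.π (v k)).app O s) := fun h s =>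
      ConcreteCategory.congr_hom ((cokernel.π (v k)).mapPresheaf.naturality (homOfLE h).op) s
    rw [hnat, hnat, hz] at h2
    have hunit : IsUnit (X.presheaf.map (homOfLE (X.basicOpen_le t)).op (t ^ N)) := by
      rw [map_pow]
      exact (RingedSpace.isUnit_res_basicOpen _ t).pow N
    have h3 := hunit.smul_left_cancel.1 (h2.symm.trans (smul_zero _).symm)
    show (TopCat.Presheaf.stalkFunctor _ x).map (cokernel.π (v k)).mapPresheaf (F.presheaf.germ V x hxV m) = 0
    rw [TopCat.Presheaf.stalkFunctor_map_germ_apply, ← (C k).presheaf.germ_res_apply (homOfLE hTV) x hxt]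
    exact (congrArg ((C k).presheaf.germ (X.basicOpen t) x hxt) h3).trans (map_zero _)
  choose jx hjx using key
  obtain ⟨s, hs⟩ := isCompact_univ.elim_finite_subcover (fun x : X => (CohB1.support (C (jx x)))ᶜ)
    (fun x => (Groth.Agent.LeadProper.isClosed_support (C (jx x)) (inferInstance : (C (jx x)).IsQuasicoherent)
      (Groth.Agent.H16Derived.KFlat.Stalk.isFT_of_epi (cokernel.π (v (jx x))) hF)).isOpen_compl)
    (fun x _ => Set.mem_iUnion.2 ⟨x, hjx x⟩)
  obtain ⟨j₀, hj₀⟩ := IsFiltered.sup_objs_exists (s.image jx)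
  refine ⟨j₀, fun j ⟨b⟩ => ?_⟩
  refine Preadditive.epi_of_isZero_cokernel _ ((IsZero.iff_id_eq_zero _).2 (Scheme.Modules.hom_ext _ _ fun V => ?_))
  have hsub : ∀ y : X, Subsingleton ((C j).presheaf.stalk y) := by
    intro y
    obtain ⟨x, hxs, hy⟩ := Set.mem_iUnion₂.1 (hs (Set.mem_univ y))
    haveI : Subsingleton ((C (jx x)).presheaf.stalk y) := not_not.1 hy
    let a := (hj₀ (Finset.mem_image_of_mem _ hxs)).some ≫ b
    haveI : Epi (cokernel.desc (v (jx x)) (cokernel.π (v j)) (hv a)) :=
      epi_of_epi_fac (f := cokernel.π (v (jx x))) (h := cokernel.π (v j)) (cokernel.π_desc _ _ _)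
    haveI : Subsingleton ((Groth.Agent.H17.PushColim.stalkAb y).obj (cokernel (v (jx x)))) := not_not.1 hy
    exact ((AddCommGrpCat.epi_iff_surjective _).1 (inferInstance : Epi
      ((Groth.Agent.H17.PushColim.stalkAb y).map (cokernel.desc (v (jx x)) (cokernel.π (v j)) (hv a))))).subsingleton
  ext σ
  exact TopCat.Presheaf.section_ext (⟨(C j).presheaf, (C j).isSheaf⟩ : TopCat.Sheaf Ab X) V _ _
    fun y hy => (hsub y).elim _ _

end Groth.Agent.S10857
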