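import Groth.Statements.S10859
import Groth.Agent.H26Gr.Points
import Groth.Agent.H26Gr.Vanish

set_option autoImplicit false
universe u
open Grass

namespace Groth.Agent.S10859

open AlgebraicGeometry CategoryTheory TensorProduct H26Gr

open AlgebraicGeometry CategoryTheory in
/-- Let R be a commutative ring, v : M₁ → M₂ a surjective homomorphism of R-modules and k a natural
number. Suppose X₁ and X₂ are schemes over Spec R representing the Grassmannian functors of rank-k
locally free quotients of M₁ and of M₂ (bijections e₁, e₂ between Spec R-morphisms Spec A → X_i and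
submodules of A ⊗_R M_i with finite projective quotient of constant rank k, compatible with base
change along R-algebra maps). Then there is a Spec R-morphism c : X₂ → X₁ which on A-valued points
sends a submodule N of A ⊗_R M₂ to its preimage under A ⊗ v, and every such c is a closed immersion.
(The published statement is for a surjection of quasi-coherent modules over an arbitrary base
scheme, where the two Grassmannians are known to be schemes; this row takes the base affine and the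
two representing schemes as hypotheses, with no finiteness condition on the modules.) -/
theorem result (R : Type u) [CommRing R]
    (M₁ M₂ : Type u) [AddCommGroup M₁] [Module R M₁]
    [AddCommGroup M₂] [Module R M₂]
    (v : M₁ →ₗ[R] M₂) (hv : Function.Surjective v) (k : ℕ)
    (X₁ X₂ : Over (Spec (CommRingCat.of R)))
    (e₁ : ∀ A : CommAlgCat.{u} R,
      (Over.mk (Spec.map (CommRingCat.ofHom (algebraMap R A))) ⟶ X₁) ≃
        (Module.Grassmannian.functor (R := R) (M := M₁) k).obj A)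
    (he₁ : ∀ (A B : CommAlgCat.{u} R) (φ : A ⟶ B)
      (g : Over.mk (Spec.map (CommRingCat.ofHom (algebraMap R A))) ⟶ X₁)
      (g' : Over.mk (Spec.map (CommRingCat.ofHom (algebraMap R B))) ⟶ X₁),
      g'.left = Spec.map (CommRingCat.ofHom φ.hom.toRingHom) ≫ g.left →
        e₁ B g' = (Module.Grassmannian.functor (R := R) (M := M₁) k).map φ (e₁ A g))
    (e₂ : ∀ A : CommAlgCat.{u} R,
      (Over.mk (Spec.map (CommRingCat.ofHom (algebraMap R A))) ⟶ X₂) ≃
        (Module.Grassmannian.functor (R := R) (M := M₂) k).obj A)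
    (he₂ : ∀ (A B : CommAlgCat.{u} R) (φ : A ⟶ B)
      (g : Over.mk (Spec.map (CommRingCat.ofHom (algebraMap R A))) ⟶ X₂)
      (g' : Over.mk (Spec.map (CommRingCat.ofHom (algebraMap R B))) ⟶ X₂),
      g'.left = Spec.map (CommRingCat.ofHom φ.hom.toRingHom) ≫ g.left →
        e₂ B g' = (Module.Grassmannian.functor (R := R) (M := M₂) k).map φ (e₂ A g)) :
    (∃ c : X₂ ⟶ X₁, ∀ (A : CommAlgCat.{u} R)
        (g : Over.mk (Spec.map (CommRingCat.ofHom (algebraMap R A))) ⟶ X₂),
        (e₁ A (g ≫ c)).toSubmodule = (e₂ A g).toSubmodule.comap (v.baseChange A)) ∧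
      ∀ c : X₂ ⟶ X₁, (∀ (A : CommAlgCat.{u} R)
        (g : Over.mk (Spec.map (CommRingCat.ofHom (algebraMap R A))) ⟶ X₂),
        (e₁ A (g ≫ c)).toSubmodule = (e₂ A g).toSubmodule.comap (v.baseChange A)) →
        IsClosedImmersion c.left := by
  let η : ∀ A : CommAlgCat.{u} R, (SR A ⟶ X₂) → (SR A ⟶ X₁) := fun A g =>
    (e₁ A).symm (comapGr v hv (e₂ A g))
  have hη : ∀ (A B : CommAlgCat.{u} R) (φ : A ⟶ B) (g : SR A ⟶ X₂) (g' : SR B ⟶ X₂),
      g'.left = Spec.map (CommRingCat.ofHom φ.hom.toRingHom) ≫ g.left →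
        (η B g').left = Spec.map (CommRingCat.ofHom φ.hom.toRingHom) ≫ (η A g).left := by
    intro A B φ g g' h
    let g'' : SR B ⟶ X₁ := Over.homMk (Spec.map (CommRingCat.ofHom φ.hom.toRingHom) ≫ (η A g).left) (by
      rw [Category.assoc, Over.w (η A g)]
      show Spec.map _ ≫ Spec.map _ = Spec.map _
      rw [← Spec.map_comp]
      exact congrArg (fun t => Spec.map t) (CommRingCat.hom_ext (RingHom.ext φ.hom.commutes)))
    have h' := he₁ A B φ (η A g) g'' rfl
    have : η B g' = g'' := (e₁ B).injective (by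
      show e₁ B ((e₁ B).symm _) = _
      rw [Equiv.apply_symm_apply, h', he₂ A B φ g g' h]
      show comapGr v hv (Module.Grassmannian.map φ.hom (e₂ A g)) = Module.Grassmannian.map φ.hom (e₁ A ((e₁ A).symm _))
      rw [Equiv.apply_symm_apply, comapGr_map])
    rw [this]
    rfl
  obtain ⟨c₀, hc₀⟩ := exists_hom_of_points η hη
  refine ⟨⟨c₀, fun A g => ?_⟩, fun c hc => ?_⟩
  · rw [hc₀]
    exact congrArg Module.Grassmannian.toSubmodule ((e₁ A).apply_symm_apply _)
  have hc' : ∀ (A : CommAlgCat.{u} R) (g : SR A ⟶ X₂), e₁ A (g ≫ c) = comapGr v hv (e₂ A g) := fun A g =>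
    Module.Grassmannian.ext (hc A g)
  let I : ∀ A : CommAlgCat.{u} R, (SR A ⟶ X₁) → Ideal A := fun A g =>
    vanIdeal (e₁ A g) ((fun m => (1 : A) ⊗ₜ[R] m) '' {m | v m = 0})
  obtain ⟨Z, ι, hι, hZ⟩ := exists_closed
    (fun A g => LinearMap.ker (v.baseChange A) ≤ (e₁ A g).toSubmodule) I fun A B φ g g' hg => by
      refine Iff.trans ?_ (forall_mem_map_iff φ.hom (e₁ A g) _)
      rw [ker_baseChange_eq_span v hv, Submodule.span_le, he₁ A B φ g g' hg]
      constructor
      · rintro h _ ⟨m, hm, rfl⟩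
        have h1 : bc M₁ φ.hom ((1 : A) ⊗ₜ[R] m) = (1 : B) ⊗ₜ[R] m := by simp [bc]
        rw [h1]
        exact h ⟨m, hm, rfl⟩
      · rintro h _ ⟨m, hm, rfl⟩
        have h1 : bc M₁ φ.hom ((1 : A) ⊗ₜ[R] m) = (1 : B) ⊗ₜ[R] m := by simp [bc]
        have := h _ ⟨m, hm, rfl⟩
        rw [h1] at this
        exact this
  haveI : IsClosedImmersion ι := hι
  let Z' : Over (Spec (CommRingCat.of R)) := Over.mk (ι ≫ X₁.hom)
  let ιo : Z' ⟶ X₁ := Over.homMk ι rfl
  have hfac : ∀ (A : CommAlgCat.{u} R) (g : SR A ⟶ X₂), ∃ h : SR A ⟶ Z', h ≫ ιo = g ≫ c := by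
    intro A g
    obtain ⟨h, hh⟩ := (hZ A (g ≫ c)).2 (by
      show LinearMap.ker (v.baseChange A) ≤ (e₁ A (g ≫ c)).toSubmodule
      rw [hc A g]
      exact LinearMap.ker_le_comap _)
    exact ⟨Over.homMk h ((Category.assoc _ _ _).symm.trans ((congrArg (· ≫ X₁.hom) hh).trans (Over.w (g ≫ c)))),
      Over.OverMorphism.ext hh⟩
  have hfac' : ∀ (A : CommAlgCat.{u} R) (z : SR A ⟶ Z'), ∃ g : SR A ⟶ X₂, g ≫ c = z ≫ ιo := by
    intro A z
    obtain ⟨N₂, hN⟩ := exists_comapGr_eq v hv (e₁ A (z ≫ ιo)) ((hZ A (z ≫ ιo)).1 ⟨z.left, rfl⟩)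
    refine ⟨(e₂ A).symm N₂, (e₁ A).injective ?_⟩
    rw [hc', Equiv.apply_symm_apply, hN]
  choose p hp using hfac
  choose q hq using hfac'
  have hmono : ∀ (A : CommAlgCat.{u} R) (z z' : SR A ⟶ Z'), z ≫ ιo = z' ≫ ιo → z = z' := fun A z z' h =>
    Over.OverMorphism.ext ((cancel_mono ι).1 (congrArg (fun t : SR A ⟶ X₁ => t.left) h))
  have hinj : ∀ (A : CommAlgCat.{u} R) (g g' : SR A ⟶ X₂), g ≫ c = g' ≫ c → g = g' := fun A g g' h =>
    (e₂ A).injective (comapGr_injective v hv ((hc' A g).symm.trans ((congrArg (e₁ A) h).trans (hc' A g'))))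
  have hw : ∀ (A B : CommAlgCat.{u} R) (φ : A ⟶ B), Spec.map (CommRingCat.ofHom φ.hom.toRingHom) ≫ (SR A).hom = (SR B).hom := by
    intro A B φ
    show Spec.map _ ≫ Spec.map _ = Spec.map _
    rw [← Spec.map_comp]
    exact congrArg (fun t => Spec.map t) (CommRingCat.hom_ext (RingHom.ext φ.hom.commutes))
  obtain ⟨c', hc2⟩ := exists_hom_of_points p fun A B φ g g' h => by
    let b : SR B ⟶ SR A := Over.homMk (Spec.map (CommRingCat.ofHom φ.hom.toRingHom)) (hw A B φ)
    have hg : g' = b ≫ g := Over.OverMorphism.ext h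
    have : p B g' = b ≫ p A g := hmono B _ _ (by rw [hp, Category.assoc, hp, hg, Category.assoc])
    rw [this]
    rfl
  obtain ⟨d, hd⟩ := exists_hom_of_points q fun A B φ g g' h => by
    let b : SR B ⟶ SR A := Over.homMk (Spec.map (CommRingCat.ofHom φ.hom.toRingHom)) (hw A B φ)
    have hg : g' = b ≫ g := Over.OverMorphism.ext h
    have : q B g' = b ≫ q A g := hinj B _ _ (by rw [hq, Category.assoc, hq, hg, Category.assoc])
    rw [this]
    rfl
  have h1 : c' ≫ ιo = c := hom_ext_points fun A g => by rw [← Category.assoc, hc2, hp]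
  have h2 : c' ≫ d = 𝟙 _ := hom_ext_points fun A g => hinj A _ _ (by
    rw [← Category.assoc, hc2, hd, hq, hp, Category.comp_id])
  have h3 : d ≫ c' = 𝟙 _ := hom_ext_points fun A z => hmono A _ _ (by
    rw [← Category.assoc, hd, hc2, hp, hq, Category.comp_id])
  haveI : IsIso c'.left := ⟨d.left, congrArg (fun t : X₂ ⟶ X₂ => t.left) h2, congrArg (fun t : Z' ⟶ Z' => t.left) h3⟩
  rw [← h1]
  exact inferInstanceAs (IsClosedImmersion (c'.left ≫ ι))

end Groth.Agent.S10859
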