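import Groth.Statements.S10860
import Groth.Agent.H17.Imports
import Mathlib.AlgebraicGeometry.ZariskisMainTheorem

set_option autoImplicit false
universe u
open Mor

namespace Groth.Agent.S10860

open CategoryTheory Limits AlgebraicGeometry TopologicalSpace

open CategoryTheory AlgebraicGeometry in
/-- For a proper morphism f : X → Y, the set V of points of Y with finite fibre is open, and f
restricted over V is finite (stated as the existence of an open subscheme of Y whose underlying set
is exactly V and over which f is finite). -/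
theorem result {X Y : Scheme.{u}} (f : X ⟶ Y) [IsProper f] :
    ∃ U : Y.Opens, (U : Set Y) = {y : Y | (f.base ⁻¹' {y}).Finite} ∧ IsFinite (f ∣_ U) := by
  let ι := {V : Y.Opens // IsFinite (f ∣_ V)}
  let U : Y.Opens := ⨆ V : ι, V.1
  refine ⟨U, Set.ext fun y => ⟨fun hy => ?_, fun hy => ?_⟩, ?_⟩
  · obtain ⟨⟨V, hV⟩, hyV⟩ := Opens.mem_iSup.mp hy
    have h := (f ∣_ V).finite_preimage_singleton ⟨y, hyV⟩
    refine ((h.image (f ⁻¹ᵁ V).ι)).subset fun x (hx : f x = y) => ?_
    refine ⟨⟨x, show f x ∈ V from hx.symm ▸ hyV⟩, ?_, rfl⟩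
    exact Subtype.ext ((congr($(morphismRestrict_ι f V) ⟨x, show f x ∈ V from hx.symm ▸ hyV⟩)).trans hx)
  · obtain ⟨V, hyV, hV⟩ := exists_isFinite_morphismRestrict_of_finite_preimage_singleton f y hy
    exact Opens.mem_iSup.mpr ⟨⟨V, hV⟩, hyV⟩
  · let W : ι → U.toScheme.Opens := fun V => U.ι ⁻¹ᵁ V.1
    have hW : ⨆ V, W V = ⊤ := by
      refine eq_top_iff.mpr fun z _ => ?_
      obtain ⟨V, hV⟩ := Opens.mem_iSup.mp z.2
      exact Opens.mem_iSup.mpr ⟨V, hV⟩
    rw [IsZariskiLocalAtTarget.iff_of_iSup_eq_top (P := @IsFinite) _ hW]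
    intro V
    rw [MorphismProperty.arrow_mk_iso_iff (P := @IsFinite) (morphismRestrictRestrict f U (W V))]
    have : U.ι ''ᵁ W V = V.1 := by
      simp only [W, Scheme.Hom.image_preimage_eq_opensRange_inf, Scheme.Opens.opensRange_ι]
      exact inf_eq_right.mpr (le_iSup (fun V : ι => V.1) V)
    rw [MorphismProperty.arrow_mk_iso_iff (P := @IsFinite) (morphismRestrictEq f this)]
    exact V.2

end Groth.Agent.S10860
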