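import Groth.Statements.S10863
import Groth.Agent.S2257

set_option autoImplicit false
universe u
open CAlg

namespace Groth.Agent.S10863

open TensorProduct in
/-- Let k be a field, A a finite-dimensional local k-algebra with residue field κ, and k' a field
extension of k. Then the separable degree of κ over k equals the sum over the maximal ideals m' of
k' ⊗_k A (the points of the base-changed finite scheme lying over the given point) of the separable
degrees over k' of their residue fields. -/
theorem result (k A k' : Type u) [Field k] [CommRing A] [Algebra k A]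
    [Module.Finite k A] [IsLocalRing A] [Field k'] [Algebra k k'] :
    Field.finSepDegree k (IsLocalRing.ResidueField A) =
      ∑ᶠ m : MaximalSpectrum (k' ⊗[k] A),
        Field.finSepDegree k' (IsLocalRing.ResidueField (Localization.AtPrime m.asIdeal)) := by
  haveI : IsArtinianRing A := IsArtinianRing.of_finite k A
  haveI : IsArtinianRing (k' ⊗[k] A) := IsArtinianRing.of_finite k' _
  let Ω := AlgebraicClosure k'
  let m := IsLocalRing.maximalIdeal A
  haveI : Unique (PrimeSpectrum A) :=
    { default := ⟨m, inferInstance⟩
      uniq := fun p => PrimeSpectrum.ext (IsLocalRing.eq_maximalIdeal (IsArtinianRing.isMaximal_of_isPrime p.asIdeal)) }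
  have h1 : Nat.card (A →ₐ[k] Ω) = Field.finSepDegree k (IsLocalRing.ResidueField A) := by
    rw [(S2257.result k A Ω).2, finsum_unique]
    have hd : (default : PrimeSpectrum A) = ⟨m, inferInstance⟩ := Subsingleton.elim _ _
    rw [hd]
    exact Field.finSepDegree_eq_of_equiv k _ _ (AlgEquiv.ofBijective (IsScalarTower.toAlgHom k (A ⧸ m) m.ResidueField)
      (Ideal.bijective_algebraMap_quotient_residueField m)).symm
  let e : (A →ₐ[k] Ω) ≃ (k' ⊗[k] A →ₐ[k'] Ω) :=
    { toFun := fun f => Algebra.TensorProduct.lift (Algebra.ofId k' Ω) f (fun _ _ => Commute.all _ _)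
      invFun := fun g => (g.restrictScalars k).comp Algebra.TensorProduct.includeRight
      left_inv := fun f => AlgHom.ext fun a => by simp
      right_inv := fun g => Algebra.TensorProduct.ext (by ext) (AlgHom.ext fun a => by simp) }
  let ms : MaximalSpectrum (k' ⊗[k] A) ≃ PrimeSpectrum (k' ⊗[k] A) :=
    { toFun := fun q => ⟨q.asIdeal, inferInstance⟩
      invFun := fun q => ⟨q.asIdeal, IsArtinianRing.isMaximal_of_isPrime _⟩
      left_inv := fun q => rfl
      right_inv := fun q => rfl }
  rw [← h1, Nat.card_congr e, (S2257.result k' (k' ⊗[k] A) Ω).2]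
  exact (finsum_comp_equiv ms).symm

end Groth.Agent.S10863
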