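import Groth.Statements.S10865
import Groth.Agent.LeadDev.Rules
import Groth.Agent.H10Coh.AffinePush
-- import your own Groth.Agent.* helpers here

set_option autoImplicit false
universe u
open Coherent

namespace Groth.Agent.S10865

open CategoryTheory CategoryTheory.Limits AlgebraicGeometry in
/-- Let X be a nonempty Noetherian scheme and K an isomorphism-closed class of O_X-modules such that (a)
in a short exact sequence of coherent modules, if the middle and right terms lie in K so does the
left one, and if the two outer terms lie in K so does the middle one; (b) if a coherent F has some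
d-fold direct sum (d ≥ 1) in K then F lies in K. If for every integral closed subscheme i : Z → X
there is a coherent O_Z-module with nonzero stalk at the generic point whose direct image under i
lies in K, then every coherent O_X-module lies in K. (For the empty scheme the hypotheses hold for
the empty class, so X is taken nonempty here.) -/
theorem result (X : Scheme.{u}) [IsNoetherian X] [Nonempty X]
    (K : ObjectProperty X.Modules) [K.IsClosedUnderIsomorphisms]
    (ha : ∀ S : ShortComplex X.Modules, S.ShortExact → Coh.IsCoh S.X₁ → Coh.IsCoh S.X₂ → Coh.IsCoh S.X₃ →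
      (K S.X₂ → K S.X₃ → K S.X₁) ∧ (K S.X₁ → K S.X₃ → K S.X₂))
    (hb : ∀ (F : X.Modules) (d : ℕ), 1 ≤ d → Coh.IsCoh F → K (∐ fun _ : Fin d => F) → K F)
    (hgen : ∀ (Z : Scheme.{u}) (i : Z ⟶ X) [IsClosedImmersion i] [IsIntegral Z],
      ∃ H : Z.Modules, Coh.IsCoh H ∧ Nontrivial (H.presheaf.stalk (genericPoint Z)) ∧
        K ((Scheme.Modules.pushforward i).obj H))
    (F : X.Modules) (hF : Coh.IsCoh F) : K F := by
  have h0 : ∀ N : X.Modules, IsZero N → K N := fun N hN => by
    obtain ⟨x⟩ := ‹Nonempty X›
    obtain ⟨Z, i, hZ, -, hi, -⟩ :=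
      Groth.Agent.H17.ConsProp.exists_integral_closed (closure {x}) isClosed_closure isIrreducible_singleton.closure
    haveI := hi
    haveI := hZ
    obtain ⟨H, hH, -, hKH⟩ := hgen Z i
    exact LeadDev.zero_of_left (H10Coh.isCoh_push_of_isFinite i H hH) (fun S hS a b c _ => (ha S hS a b c).1) hKH N hN
  refine LeadDev.devissage_induction Set.univ K (fun M N ⟨e⟩ h => K.prop_of_iso e h) h0
    (fun S hS a b c => (ha S hS a b c).2) ?_ F hF (Set.subset_univ _)
  intro Z i _ _ _ hsmall I ι _ hI
  obtain ⟨H, hH, hn, hKH⟩ := hgen Z i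
  obtain ⟨W, hW, hξW, -⟩ := exists_isAffineOpen_mem_and_subset (U := (⊤ : X.Opens)) (x := i (genericPoint Z)) trivial
  have hG : Coh.IsCoh ((Coh.push i).obj H) := H10Coh.isCoh_push_of_isFinite i H hH
  have hGs : CohB1.support ((Coh.push i).obj H) ⊆ Set.range i := fun x hx =>
    by_contra fun hc => LeadDev.notMem_support_push i H hc hx
  obtain ⟨r, hr, -, hIc, hPr⟩ := LeadDev.key_step i rfl I ι hI K h0 hsmall
    (fun S hS a b c _ => (ha S hS a b c).2) hW hξW _ hG (LeadDev.mem_support_push_of_nontrivial i rfl H hH hn)
    (LeadDev.killedAt_push i rfl H hξW)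
    (LeadDev.exists_sub_of_left K _ hG hGs hKH hsmall (fun S hS a b c _ => (ha S hS a b c).1) hW hξW)
  exact hb _ r hr hIc (K.prop_of_iso (biproduct.isoCoproduct _) hPr)

end Groth.Agent.S10865
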