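import Groth.Statements.S10866
import Groth.Agent.LeadDev.Rules
import Groth.Agent.H10Coh.FinType2
import Groth.Agent.H10Coh.QcqsPush
import Groth.Agent.H10Coh.AffinePush
import Groth.Agent.H10Coh.FinType
-- import your own Groth.Agent.* helpers here

set_option autoImplicit false
set_option linter.style.haveILetI false
set_option backward.isDefEq.respectTransparency false
universe u
open Coherent

namespace Groth.Agent.S10866

open CategoryTheory CategoryTheory.Limits AlgebraicGeometry TopologicalSpace Opposite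

theorem push_qcoh {X Y : Scheme.{u}} [AlgebraicGeometry.IsNoetherian X] (f : X ⟶ Y) {M : X.Modules}
    (hM : Coh.IsQCoh M) : Coh.IsQCoh ((Scheme.Modules.pushforward f).obj M) := by
  haveI : QuasiCompact f := ⟨fun U hU hUc => TopologicalSpace.NoetherianSpace.isCompact _⟩
  haveI : M.IsQuasicoherent := hM
  exact H10Coh.isQuasicoherent_pushforward f M

theorem ext_step {X Y : Scheme.{u}} [AlgebraicGeometry.IsNoetherian X] [AlgebraicGeometry.IsNoetherian Y] (f : X ⟶ Y)
    (S : ShortComplex X.Modules) (hS : S.ShortExact) (h2 : Coh.IsCoh S.X₂)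
    (p1 : Coh.IsCoh ((Scheme.Modules.pushforward f).obj S.X₁))
    (p3 : Coh.IsCoh ((Scheme.Modules.pushforward f).obj S.X₃)) :
    Coh.IsCoh ((Scheme.Modules.pushforward f).obj S.X₂) := by
  let Pf := Scheme.Modules.pushforward f
  haveI := hS.mono_f
  haveI : PreservesFiniteLimits Pf := inferInstance
  let g := Pf.map S.g
  have hk : Coh.IsCoh (kernel g) := H10Coh.isCoh_of_iso
    ((Pf.mapIso ((IsLimit.conePointUniqueUpToIso (kernelIsKernel S.g) hS.fIsKernel).symm)) ≪≫
      PreservesKernel.iso Pf S.g) p1
  have hq := push_qcoh f h2.1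
  haveI : (kernel g).IsQuasicoherent := hk.1
  haveI : (Pf.obj S.X₂).IsQuasicoherent := hq
  haveI : (Abelian.coimage g).IsQuasicoherent := H10Coh.isQuasicoherent_cokernel (kernel.ι g)
  have hi : Coh.IsCoh (Abelian.coimage g) := H10Coh.isCoh_of_mono (Abelian.factorThruCoimage g) inferInstance p3
  have hS' : (ShortComplex.mk (kernel.ι g) (Abelian.coimage.π g) (cokernel.condition _)).ShortExact :=
    ShortComplex.ShortExact.mk' (ShortComplex.exact_cokernel _) inferInstance inferInstance
  exact H10Coh.isCoh_X₂ hS' hk hi hq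



open CategoryTheory AlgebraicGeometry in
/-- Let f : X → Y be a morphism of Noetherian schemes such that for every integral closed subscheme i :
Z → X there is a coherent O_Z-module with nonzero stalk at the generic point of Z whose direct image
under i followed by f is coherent on Y. Then the direct image f_*F of every coherent O_X-module F is
coherent. -/
theorem result {X Y : Scheme.{u}} [IsNoetherian X] [IsNoetherian Y]
    (f : X ⟶ Y)
    (hgen : ∀ (Z : Scheme.{u}) (i : Z ⟶ X) [IsClosedImmersion i] [IsIntegral Z],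
      ∃ H : Z.Modules, Coh.IsCoh H ∧ Nontrivial (H.presheaf.stalk (genericPoint Z)) ∧
        Coh.IsCoh ((Scheme.Modules.pushforward (i ≫ f)).obj H))
    (F : X.Modules) (hF : Coh.IsCoh F) : Coh.IsCoh ((Scheme.Modules.pushforward f).obj F) := by
  let P : X.Modules → Prop := fun M => Coh.IsCoh ((Scheme.Modules.pushforward f).obj M)
  let Pf := Scheme.Modules.pushforward f
  have hsub : ∀ {A B : X.Modules} (a : A ⟶ B), Mono a → Coh.IsCoh A → P B → P A := fun {A B} a ha hA hB => by
    haveI := ha
    exact H10Coh.isCoh_of_mono (Pf.map a) (push_qcoh f hA.1) hB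
  refine LeadDev.devissage_induction (Set.univ : Set X) P
    (fun M N ⟨e⟩ h => H10Coh.isCoh_of_iso (Pf.mapIso e) h)
    (fun M hM => LeadDev.isCoh_of_isZero (Pf.map_isZero hM)) ?_ ?_ F hF (Set.subset_univ _)
  · exact fun S hS _ h2 _ p1 p3 => ext_step f S hS h2 p1 p3
  · intro Z i _ _ _ hsmall I ι _ hI
    obtain ⟨W, hW, hξW, -⟩ :=
      exists_isAffineOpen_mem_and_subset (U := (⊤ : X.Opens)) (x := i (genericPoint Z)) trivial
    obtain ⟨H, hH, hn, hP⟩ := hgen Z i
    let G := (Coh.push i).obj H
    have hG : Coh.IsCoh G := H10Coh.isCoh_push_of_isFinite i H hH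
    have hPG : P G := H10Coh.isCoh_of_iso ((Scheme.Modules.pushforwardComp i f).app H).symm hP
    obtain ⟨r, hr, -, hIc, hPr⟩ := LeadDev.key_step i (ξ := i (genericPoint Z)) rfl I ι hI P
      (fun M hM => LeadDev.isCoh_of_isZero (Pf.map_isZero hM)) hsmall
      (fun S hS _ h2 _ _ p1 p3 => ext_step f S hS h2 p1 p3) hW hξW G hG (LeadDev.mem_support_push_of_nontrivial i rfl H hH hn)
      (LeadDev.killedAt_push i rfl H hξW)
      (fun J hJ => ⟨_, 𝟙 _, inferInstance, LeadDev.isCoh_idealMul J G hG, by
        rw [Category.id_comp]; exact LeadDev.surjAt_idealMulι J G hG hJ ⟨W, hW⟩ hξW,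
        hsub (Dual3.idealMulι J G) inferInstance (LeadDev.isCoh_idealMul J G hG) hPG⟩)
    haveI : NeZero r := ⟨by omega⟩
    exact hsub (biproduct.ι (fun _ : Fin r => (Coh.push i).obj I) 0) inferInstance hIc hPr


end Groth.Agent.S10866
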