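import Groth.Statements.S10871
import Groth.Agent.H29Curve.Topology
import Mathlib.AlgebraicGeometry.Morphisms.Affine
import Mathlib.RingTheory.DedekindDomain.Basic
import Mathlib.RingTheory.Spectrum.Prime.Noetherian
import Mathlib.Topology.KrullDimension

set_option autoImplicit false
universe u
open AlgebraicGeometry
open Curves

namespace Groth.Agent.S10871

theorem exists_basicOpen_inf {A : Type u} [CommRing A] [IsDedekindDomain A]
    (U : TopologicalSpace.Opens (PrimeSpectrum A)) (hne : (U : Set (PrimeSpectrum A)).Nonempty)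
    (p : PrimeSpectrum A) : ∃ f g : A, p ∈ PrimeSpectrum.basicOpen f ∧
      PrimeSpectrum.basicOpen f ⊓ U = PrimeSpectrum.basicOpen (f * g) := by
  classical
  by_cases hpU : p ∈ U
  · obtain ⟨_, ⟨f, rfl⟩, hpf, hfU⟩ :=
      PrimeSpectrum.isTopologicalBasis_basic_opens.exists_subset_of_mem_open hpU U.isOpen
    exact ⟨f, 1, hpf, by rw [mul_one]; exact inf_eq_left.mpr hfU⟩
  · have hnotgen : p.asIdeal ≠ ⊥ := by
      intro hbot
      apply hpU
      obtain ⟨q, hq⟩ := hne
      exact (show p ⤳ q from (PrimeSpectrum.le_iff_specializes p q).mp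
        (show p.asIdeal ≤ q.asIdeal from hbot ▸ bot_le)).mem_open U.isOpen hq
    obtain ⟨π, hπp, hπ0⟩ := Submodule.exists_mem_ne_zero_of_ne_bot hnotgen
    -- finitely many primes to avoid
    have hfin : ((PrimeSpectrum.zeroLocus ({π} : Set A) ∪ (U : Set (PrimeSpectrum A))ᶜ) \ {p}).Finite := by
      refine (Set.Finite.union ?_ ?_).sdiff
      · refine H29Curve.finite_of_isClosed_ne_univ (X := PrimeSpectrum A) ?_
          (PrimeSpectrum.isClosed_zeroLocus _) ?_
        · rw [PrimeSpectrum.topologicalKrullDim_eq_ringKrullDim]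
          exact Order.KrullDimLE.krullDim_le (n := 1)
        · rw [Ne, PrimeSpectrum.zeroLocus_eq_univ_iff]
          intro hh
          exact hπ0 (mem_nilradical.mp (hh (Set.mem_singleton π))).eq_zero
      · refine H29Curve.finite_of_isClosed_ne_univ (X := PrimeSpectrum A) ?_
          U.isOpen.isClosed_compl ?_
        · rw [PrimeSpectrum.topologicalKrullDim_eq_ringKrullDim]
          exact Order.KrullDimLE.krullDim_le (n := 1)
        · intro hh
          obtain ⟨q, hq⟩ := hne
          exact (hh.symm ▸ Set.mem_univ q : q ∈ (U : Set (PrimeSpectrum A))ᶜ) hq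
    set S := (PrimeSpectrum.zeroLocus ({π} : Set A) ∪ (U : Set (PrimeSpectrum A))ᶜ) \ {p}
    have hS : ∀ q ∈ hfin.toFinset, ∃ a ∈ q.asIdeal, a ∉ p.asIdeal := by
      intro q hq
      rw [Set.Finite.mem_toFinset] at hq
      have hqbot : q.asIdeal ≠ ⊥ := by
        intro hb
        rcases hq.1 with h | h
        · exact hπ0 (by simpa [hb] using h)
        · apply h
          obtain ⟨r, hr⟩ := hne
          exact (show q ⤳ r from (PrimeSpectrum.le_iff_specializes q r).mp
            (show q.asIdeal ≤ r.asIdeal from hb ▸ bot_le)).mem_open U.isOpen hr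
      have hqmax : q.asIdeal.IsMaximal := q.isPrime.isMaximal hqbot
      exact Set.not_subset.mp fun hle => hq.2 (PrimeSpectrum.ext (hqmax.eq_of_le p.isPrime.ne_top hle))
    choose a ha hap using hS
    refine ⟨∏ q ∈ hfin.toFinset.attach, a q.1 q.2, π, ?_, ?_⟩
    · rw [PrimeSpectrum.mem_basicOpen]
      intro h
      obtain ⟨q, -, hq⟩ := p.isPrime.prod_mem_iff.mp h
      exact hap _ _ hq
    · ext q
      simp only [TopologicalSpace.Opens.coe_inf, Set.mem_inter_iff, SetLike.mem_coe,
        PrimeSpectrum.basicOpen_mul, PrimeSpectrum.mem_basicOpen]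
      constructor
      · rintro ⟨hf, hqU⟩
        refine ⟨hf, fun hπq => ?_⟩
        have hqp : q ≠ p := fun h => hpU (h ▸ hqU)
        have hmem : q ∈ hfin.toFinset := hfin.mem_toFinset.mpr
          ⟨Or.inl (Set.singleton_subset_iff.mpr hπq), hqp⟩
        exact hf (q.isPrime.prod_mem_iff.mpr ⟨⟨q, hmem⟩, Finset.mem_attach _ _, ha q hmem⟩)
      · rintro ⟨hf, hπq⟩
        refine ⟨hf, ?_⟩
        by_contra hqU
        have hqp : q ≠ p := fun h => hπq (h ▸ hπp)
        have hmem : q ∈ hfin.toFinset := hfin.mem_toFinset.mpr ⟨Or.inr hqU, hqp⟩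
        exact hf (q.isPrime.prod_mem_iff.mpr ⟨⟨q, hmem⟩, Finset.mem_attach _ _, ha q hmem⟩)


/-- Every open subscheme of the spectrum of a Dedekind domain is affine. -/
theorem result (A : Type u) [CommRing A] [IsDedekindDomain A]
    (U : (Spec (CommRingCat.of A)).Opens) : IsAffineOpen U := by
  classical
  rcases Set.eq_empty_or_nonempty (U : Set (Spec (CommRingCat.of A))) with h | hne
  · have : U = ⊥ := SetLike.coe_injective (by simpa using h)
    exact this ▸ isAffineOpen_bot _
  haveI : IsAffineHom U.ι := by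
    refine isAffineHom_of_forall_exists_isAffineOpen _ fun p => ?_
    obtain ⟨f, g, hpf, hsub⟩ := exists_basicOpen_inf (A := A) U hne p
    let Wf : (Spec (CommRingCat.of A)).Opens := PrimeSpectrum.basicOpen f
    let Wfg : (Spec (CommRingCat.of A)).Opens := PrimeSpectrum.basicOpen (f * g)
    have hWf : IsAffineOpen Wf := IsAffineOpen.Spec_basicOpen (R := CommRingCat.of A) f
    have hWfg : IsAffineOpen Wfg := IsAffineOpen.Spec_basicOpen (R := CommRingCat.of A) (f * g)
    have heq : Wf ⊓ U = Wfg := hsub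
    refine ⟨Wf, hpf, hWf, ?_⟩
    rw [← U.ι.isAffineOpen_iff_of_isOpenImmersion, Scheme.Hom.image_preimage_eq_opensRange_inf,
      Scheme.Opens.opensRange_ι, inf_comm, heq]
    exact hWfg
  exact isAffine_of_isAffineHom U.ι

end Groth.Agent.S10871
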