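import Groth.Statements.S10872
import Groth.Agent.H23SB.BSBasic
import Groth.Agent.S4829

set_option autoImplicit false
universe u
open CategoryTheory AlgebraicGeometry
open Variety

namespace Groth.Agent.S10872

/-- A Brauer–Severi scheme X over a field k (some base change X_K to a field extension K of k is
K-isomorphic to a projective space P^n_K) is smooth over k, geometrically integral over k, and
projective over k, i.e. admits a closed immersion into some P^N_k compatible with the structure
morphisms. -/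
theorem result (k : Type u) [Field k] {X : Scheme.{u}}
    (p : X ⟶ Spec (CommRingCat.of k)) (hX : W4bk4gw11416.IsBrauerSeveri p) :
    Smooth p ∧ GeometricallyIntegral p ∧
      ∃ (N : ℕ) (i : X ⟶ CohB1.ProjSpace N k), IsClosedImmersion i ∧ i ≫ CohB1.ProjSpace.toSpec N k = p := by
  obtain ⟨K, _, _, n, e, he⟩ := hX
  have hn := Groth.Agent.H23SB.BS.isBS_of_splitting (K := K) ⟨e, he⟩
  refine ⟨Groth.Agent.H23SB.BS.smooth (K := K) ⟨e, he⟩, Groth.Agent.H23SB.BS.geometricallyIntegral hn, ?_⟩
  obtain ⟨φ, hφ⟩ := Groth.Agent.H22Alg.PnBC.isPullback_projSpaceOver n K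
  obtain ⟨N, i, hi, hi'⟩ := Groth.Agent.S4829.result p K ⟨n, e.hom ≫ φ.inv, inferInstance,
    (Category.assoc _ _ _).trans ((congrArg (e.hom ≫ ·) ((Iso.inv_comp_eq φ).2 hφ.symm)).trans he)⟩
  obtain ⟨ψ, hψ⟩ := Groth.Agent.H22Alg.PnBC.isPullback_projSpaceOver N k
  refine ⟨N, i ≫ ψ.hom, inferInstance, ?_⟩
  rw [Category.assoc, hψ, hi']

end Groth.Agent.S10872
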