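import Groth.Statements.S10873
import Groth.Agent.H23SB.BSBasic

set_option autoImplicit false
universe u
open CategoryTheory AlgebraicGeometry
open Variety

namespace Groth.Agent.S10873

/-- A Brauer–Severi scheme X over a field k which has a k-rational point is k-isomorphic to a projective
space P^n_k. (The converse direction of the printed equivalence, that P^n_k has a rational point, is
not stated here.) -/
theorem result (k : Type u) [Field k] {X : Scheme.{u}}
    (p : X ⟶ Spec (CommRingCat.of k)) (hX : W4bk4gw11416.IsBrauerSeveri p)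
    (s : Spec (CommRingCat.of k) ⟶ X) (hs : s ≫ p = 𝟙 (Spec (CommRingCat.of k))) :
    ∃ n : ℕ, W4bk4gw11416.IsProjSpaceOver p n := by
  obtain ⟨n, hn⟩ := Groth.Agent.H23SB.BS.exists_isBS hX
  obtain ⟨e⟩ := Groth.Agent.H23SB.nonempty_splitting_of_point hn s hs
  exact ⟨n, Groth.Agent.H23SB.BS.isProjSpaceOver_of_splitting e⟩

end Groth.Agent.S10873
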