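import Groth.Statements.S10878


set_option autoImplicit false
universe u
open CategoryTheory AlgebraicGeometry
open FlatMor

namespace Groth.Agent.S10878
open CategoryTheory

/-- A separated morphism f : X → Y, with X having finitely many irreducible components, which restricts
to an immersion on each member of a cover of X by dense open subsets, is an immersion. -/
theorem result {X Y : Scheme.{u}} (f : X ⟶ Y) [IsSeparated f]
    (hfin : (irreducibleComponents (X : Type u)).Finite) {ι : Type u} (U : ι → X.Opens)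
    (hU : ⨆ i, U i = ⊤) (hd : ∀ i, Dense (U i : Set X)) (h : ∀ i, IsImmersion ((U i).ι ≫ f)) :
    IsImmersion f := by
  have hopen : ∀ i, ∃ W : Y.Opens, f ⁻¹ᵁ W = U i ∧ Set.range (f ∣_ W) ⊆ Set.univ ∧ IsImmersion (f ∣_ W) := by
    intro i
    have hi := h i
    let g := (U i).ι ≫ f
    obtain ⟨W, hW, hgW⟩ : ∃ W : Y.Opens, Set.range g ⊆ W ∧
        IsClosed (Subtype.val ⁻¹' Set.range g : Set (W : Set Y)) := by
      refine ⟨g.coborderRange, fun y hy ↦ subset_coborder hy, ?_⟩
      exact isClosed_preimage_val_coborder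
    have hle : U i ≤ f ⁻¹ᵁ W := fun x hx ↦ hW ⟨⟨x, hx⟩, rfl⟩
    let j : (U i : Scheme) ⟶ (f ⁻¹ᵁ W : X.Opens) := X.homOfLE hle
    have hj : j ≫ (f ∣_ W) = f.resLE W (U i) hle := rfl
    have hcl : IsClosedImmersion (f.resLE W (U i) hle) := by
      have : IsImmersion (f.resLE W (U i) hle) := by
        have : IsImmersion (f.resLE W (U i) hle ≫ W.ι) := by rw [Scheme.Hom.resLE_comp_ι]; infer_instance
        exact IsImmersion.of_comp _ W.ι
      refine IsClosedImmersion.of_isPreimmersion _ ?_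
      have hr : Set.range (f.resLE W (U i) hle) = Subtype.val ⁻¹' Set.range g := by
       ext w
       refine ⟨?_, ?_⟩
       · rintro ⟨x, rfl⟩; exact ⟨x, (Scheme.Hom.coe_resLE_apply _ _ _).symm⟩
       · rintro ⟨x, hx⟩; exact ⟨x, Subtype.ext ((Scheme.Hom.coe_resLE_apply _ _ _).trans hx)⟩
      rw [hr]; exact hgW
    rw [← hj] at hcl
    have : IsClosedImmersion j := IsClosedImmersion.of_comp j (f ∣_ W)
    have hjr : IsClosed (Set.range j) := j.isClosedEmbedding.isClosed_range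
    have heq : f ⁻¹ᵁ W = U i := by
      refine le_antisymm (fun x hx ↦ ?_) hle
      by_contra hxU
      obtain ⟨p, ⟨⟨q, hpq, hqp⟩, hpU⟩⟩ :=
        (hd i).inter_open_nonempty _ ((f ⁻¹ᵁ W).2.isOpenMap_subtype_val _ hjr.isOpen_compl)
          ⟨x, ⟨x, hx⟩, fun ⟨z, hz⟩ ↦ hxU (by
            have : (f ⁻¹ᵁ W).ι (j z) = x := congrArg Subtype.val hz
            rw [← Scheme.Hom.comp_apply, show j ≫ (f ⁻¹ᵁ W).ι = (U i).ι from X.homOfLE_ι hle] at this
            exact this ▸ z.2), rfl⟩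
      refine hpq ⟨⟨p, hpU⟩, Subtype.ext ?_⟩
      exact ((X.homOfLE_apply hle _).trans hqp.symm)
    refine ⟨W, heq, Set.subset_univ _, ?_⟩
    have hg : IsImmersion ((U i).ι ≫ f) := h i
    rw [← heq, ← morphismRestrict_ι] at hg
    exact IsImmersion.of_comp (f ∣_ W) W.ι
  choose W hW _ hP using hopen
  have hrange : ∀ x : X, ∃ i, f x ∈ W i := fun x ↦ by
    obtain ⟨i, hi⟩ := TopologicalSpace.Opens.mem_iSup.mp (hU.ge (trivial : x ∈ ⊤))
    exact ⟨i, (hW i).ge hi⟩
  let O : Y.Opens := ⨆ i, W i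
  have hXO : f ⁻¹ᵁ O = ⊤ := top_le_iff.mp fun x _ ↦ TopologicalSpace.Opens.mem_iSup.mpr (hrange x)
  have : MorphismProperty.RespectsIso @IsImmersion := MorphismProperty.IsLocalAtTarget.toRespects (P := @IsImmersion) (K := Scheme.zariskiPrecoverage)
  have hres : IsImmersion (f ∣_ O) := by
    refine IsZariskiLocalAtTarget.of_iSup_eq_top (fun i ↦ O.ι ⁻¹ᵁ W i) ?_ fun i ↦ ?_
    · refine top_le_iff.mp fun y _ ↦ ?_
      obtain ⟨i, hi⟩ := TopologicalSpace.Opens.mem_iSup.mp y.2
      exact TopologicalSpace.Opens.mem_iSup.mpr ⟨i, hi⟩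
    · rw [MorphismProperty.arrow_mk_iso_iff (P := @IsImmersion) (morphismRestrictRestrict _ _ _)]
      rw [MorphismProperty.arrow_mk_iso_iff (P := @IsImmersion) (morphismRestrictEq f
        (show O.ι ''ᵁ (O.ι ⁻¹ᵁ W i) = W i by
          rw [Scheme.Hom.image_preimage_eq_opensRange_inf, Scheme.Opens.opensRange_ι]
          exact inf_eq_right.mpr (le_iSup W i)))]
      exact hP i
  have heq : f = (X.topIso.inv ≫ (X.isoOfEq hXO).inv) ≫ (f ∣_ O) ≫ O.ι := by
    rw [morphismRestrict_ι]; simp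
  rw [heq]
  infer_instance

end Groth.Agent.S10878
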