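import Groth.Statements.S10879
import Mathlib.AlgebraicGeometry.FunctionField
import Mathlib.AlgebraicGeometry.Morphisms.Flat
import Mathlib.AlgebraicGeometry.Morphisms.UniversallyOpen
import Mathlib.AlgebraicGeometry.Morphisms.IsIso
import Mathlib.AlgebraicGeometry.Morphisms.Separated
import Mathlib.RingTheory.RingHom.FaithfullyFlat
import Mathlib.RingTheory.Spectrum.Prime.Topology

set_option autoImplicit false
set_option linter.style.haveILetI false
universe u
open CategoryTheory AlgebraicGeometry
open FlatMor

namespace Groth.Agent.S10879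
theorem bijective_of_faithfullyFlat_of_fraction {A B : Type u} [CommRing A] [IsDomain A] [CommRing B]
    [IsDomain B] (φ : A →+* B) (hinj : Function.Injective φ) (hff : φ.FaithfullyFlat)
    (hfrac : ∀ b, ∃ a₁ a₂, a₂ ≠ 0 ∧ φ a₂ * b = φ a₁) : Function.Bijective φ := by
  algebraize [φ]
  refine ⟨hinj, fun b => ?_⟩
  obtain ⟨a₁, a₂, ha₂, h⟩ := hfrac b
  have h1 : a₁ ∈ ((Ideal.span {a₂}).map (algebraMap A B)).comap (algebraMap A B) := by
    rw [Ideal.mem_comap, Ideal.map_span, Set.image_singleton, Ideal.mem_span_singleton]
    exact ⟨b, h.symm⟩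
  rw [Ideal.comap_map_eq_self_of_faithfullyFlat, Ideal.mem_span_singleton] at h1
  obtain ⟨c, rfl⟩ := h1
  refine ⟨c, mul_left_cancel₀ (fun h0 => ha₂ (hinj (h0.trans φ.map_zero.symm))) ?_⟩
  exact ((φ.map_mul a₂ c).symm.trans h.symm)

open CategoryTheory AlgebraicGeometry

variable {X' X : Scheme.{u}} [IsIntegral X'] [IsIntegral X] (f : X' ⟶ X) [Flat f]

theorem exists_fraction {y η : X} (hη : η = genericPoint X) (h : η ⤳ y) (k : X.presheaf.stalk η) :
    ∃ a₁ a₂, a₂ ≠ 0 ∧ (X.presheaf.stalkSpecializes h).hom a₂ * k =
      (X.presheaf.stalkSpecializes h).hom a₁ := by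
  subst hη
  obtain ⟨a₁, a₂, ha₂, h⟩ := IsFractionRing.div_surjective (A := X.presheaf.stalk y)
    (K := X.functionField) k
  refine ⟨a₁, a₂, nonZeroDivisors.ne_zero ha₂, ?_⟩
  have hne : algebraMap (X.presheaf.stalk y) X.functionField a₂ ≠ 0 := fun h0 =>
    nonZeroDivisors.ne_zero ha₂ ((IsFractionRing.injective _ _) (h0.trans (map_zero _).symm))
  rw [← h]
  exact mul_div_cancel₀ _ hne

variable [Surjective f] (hK : IsIso (f.stalkMap (genericPoint X')))

include hK in
theorem isIso_stalkMap (x : X') : IsIso (f.stalkMap x) := by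
  have hη : f (genericPoint X') = genericPoint X :=
    ((genericPoint_spec X).eq (((genericPoint_spec X').image f.continuous).trans (by
      rw [Set.image_univ, f.surjective.range_eq, closure_univ]))).symm
  have hfl : (f.stalkMap x).hom.FaithfullyFlat := by
    algebraize [(f.stalkMap x).hom]
    haveI : Module.Flat (X.presheaf.stalk (f x)) (X'.presheaf.stalk x) := Flat.stalkMap f x
    haveI : IsLocalHom (algebraMap (X.presheaf.stalk (f x)) (X'.presheaf.stalk x)) :=
      inferInstanceAs (IsLocalHom (f.stalkMap x).hom)
    exact Module.FaithfullyFlat.of_flat_of_isLocalHom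
  have hinj : Function.Injective (f.stalkMap x).hom := hfl.injective
  rw [ConcreteCategory.isIso_iff_bijective]
  refine bijective_of_faithfullyFlat_of_fraction _ hinj hfl fun b => ?_
  have hsp : genericPoint X' ⤳ x := (genericPoint_spec X').specializes trivial
  have hc := Scheme.Hom.stalkSpecializes_stalkMap f (genericPoint X') x hsp
  let k := (inv (f.stalkMap (genericPoint X'))).hom ((X'.presheaf.stalkSpecializes hsp).hom b)
  obtain ⟨a₁, a₂, ha₂, hk⟩ := exists_fraction hη (f.continuous.specialization_monotone hsp) k
  refine ⟨a₁, a₂, ha₂, ?_⟩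
  apply IsFractionRing.injective (X'.presheaf.stalk x) X'.functionField
  have h1 : ∀ a, algebraMap (X'.presheaf.stalk x) X'.functionField (f.stalkMap x a) =
      f.stalkMap (genericPoint X') ((X.presheaf.stalkSpecializes
        (f.continuous.specialization_monotone hsp)).hom a) := fun a =>
    (Scheme.Hom.stalkSpecializes_stalkMap_apply f (genericPoint X') x hsp a).symm
  rw [map_mul, h1, h1, ← hk, map_mul]
  congr 1
  exact (congr($(IsIso.inv_hom_id (f.stalkMap (genericPoint X'))) _)).symm

include hK in
theorem injective [IsSeparated f] : Function.Injective f := by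
  have key : ∀ x : X', ∀ y : X, f x = y → ∀ (hy : f (genericPoint X') ⤳ y),
      ∃ G : Spec (X.presheaf.stalk y) ⟶ X', G ≫ f = X.fromSpecStalk y ∧
        G (IsLocalRing.closedPoint _) = x ∧
        Spec.map (X.presheaf.stalkSpecializes hy ≫ f.stalkMap (genericPoint X')) ≫ G =
          X'.fromSpecStalk (genericPoint X') := by
    rintro x _ rfl hy
    haveI := isIso_stalkMap f hK x
    have hsp : genericPoint X' ⤳ x := (genericPoint_spec X').specializes trivial
    refine ⟨Spec.map (inv (f.stalkMap x)) ≫ X'.fromSpecStalk x, ?_, ?_, ?_⟩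
    · rw [Category.assoc, ← Scheme.SpecMap_stalkMap_fromSpecStalk, ← Spec.map_comp_assoc,
        IsIso.hom_inv_id, Spec.map_id, Category.id_comp]
    · show X'.fromSpecStalk x (Spec.map (inv (f.stalkMap x)) (IsLocalRing.closedPoint _)) = x
      have h0 : Spec.map (inv (f.stalkMap x)) (IsLocalRing.closedPoint _) =
          IsLocalRing.closedPoint (X'.presheaf.stalk x) :=
        IsLocalRing.comap_closedPoint (inv (f.stalkMap x)).hom
      rw [h0, Scheme.fromSpecStalk_closedPoint]
    · rw [← Scheme.SpecMap_stalkSpecializes_fromSpecStalk hsp, ← Category.assoc, ← Spec.map_comp]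
      congr 2
      rw [IsIso.inv_comp_eq, ← Scheme.Hom.stalkSpecializes_stalkMap f (genericPoint X') x hsp]
  intro x₁ x₂ h
  have hy : f (genericPoint X') ⤳ f x₁ :=
    f.continuous.specialization_monotone ((genericPoint_spec X').specializes trivial)
  obtain ⟨G₁, hG₁, hx₁, hg₁⟩ := key x₁ (f x₁) rfl hy
  obtain ⟨G₂, hG₂, hx₂, hg₂⟩ := key x₂ (f x₁) h.symm hy
  letI : Field (X'.presheaf.stalk (genericPoint X')) := inferInstanceAs (Field X'.functionField)
  haveI : IsDominant (Spec.map (X.presheaf.stalkSpecializes hy ≫ f.stalkMap (genericPoint X'))) := by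
    refine ⟨(PrimeSpectrum.denseRange_comap_iff_ker_le_nilRadical _).mpr ?_⟩
    intro a ha
    have ha0 : a = 0 := by
      refine (isIso_stalkMap f hK x₁ |> fun h => (ConcreteCategory.isIso_iff_bijective _).mp h).1 ?_
      apply IsFractionRing.injective (X'.presheaf.stalk x₁) X'.functionField
      rw [map_zero, map_zero]
      exact (Scheme.Hom.stalkSpecializes_stalkMap_apply f (genericPoint X') x₁
        ((genericPoint_spec X').specializes trivial) a).symm.trans ha
    rw [ha0]; exact zero_mem _
  rw [← hx₁, ← hx₂, ext_of_isDominant_of_isSeparated f (hG₁.trans hG₂.symm) _ (hg₁.trans hg₂.symm)]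

open Topology



/-- Take integral schemes X' and X and a separated surjective morphism f : X' → X which is birational in
the sense that the induced map of function fields (the stalk map of f at the generic point of X') is
an isomorphism, and suppose f is affine (e.g. a normalization) or locally of finite presentation
(e.g. a blow-up of a Noetherian integral scheme). Then f is flat exactly when it is an isomorphism. -/
theorem result {X' X : Scheme.{u}} [IsIntegral X'] [IsIntegral X]
    (f : X' ⟶ X) [Surjective f] [IsSeparated f] (hK : IsIso (f.stalkMap (genericPoint X')))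
    (h : IsAffineHom f ∨ LocallyOfFinitePresentation f) :
    Flat f ↔ IsIso f := by
  refine ⟨fun _ => ?_, fun _ => inferInstance⟩
  have hbij : Function.Bijective f := ⟨injective f hK, f.surjective⟩
  have hopen : IsOpenMap f := by
    rcases h with h | h
    · haveI := h
      intro U hU
      rw [← (Flat.isQuotientMap_of_surjective f).isOpen_preimage, Set.preimage_image_eq U hbij.1]
      exact hU
    · haveI := h
      exact f.isOpenMap
  haveI : ∀ x, IsIso (f.stalkMap x) := isIso_stalkMap f hK
  haveI := IsOpenImmersion.of_isIso_stalkMap f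
    (Topology.IsOpenEmbedding.of_continuous_injective_isOpenMap f.continuous hbij.1 hopen)
  exact (isIso_iff_isOpenImmersion_and_surjective f).mpr ⟨inferInstance, inferInstance⟩

end Groth.Agent.S10879
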