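import Groth.Statements.S10880
import Groth.Agent.H8Props.FlatDimOneBase
import Groth.Agent.H8Props.Generic
import Groth.Agent.H05EGA4.Regular
import Mathlib.RingTheory.DedekindDomain.Dvr

set_option autoImplicit false
universe u
open CategoryTheory AlgebraicGeometry
open FlatMor

namespace Groth.Agent.S10880

/-- Let R be a discrete valuation ring and X a locally Noetherian scheme over Spec R whose
scheme-theoretic special fibre is reduced and such that every maximal point of the special fibre
lies in the closure of the generic fibre, i.e. the generic fibre is dense in X. Then X is flat over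
R. -/
theorem result (R : Type u) [CommRing R] [IsDomain R]
    [IsDiscreteValuationRing R] {X : Scheme.{u}} (f : X ⟶ Spec (CommRingCat.of R)) [IsLocallyNoetherian X]
    (hred : IsReduced (f.fiber (IsLocalRing.closedPoint R)))
    (hdense : Dense (f.base ⁻¹' {genericPoint (Spec (CommRingCat.of R))})) : Flat f := by

  haveI hregR : IsRegularLocalRing R := inferInstance
  have hreg : ∀ y : Spec (CommRingCat.of R), IsRegularLocalRing ((Spec (CommRingCat.of R)).presheaf.stalk y) := fun y => by
    haveI : y.asIdeal.IsPrime := y.isPrime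
    haveI : IsRegularLocalRing (Localization.AtPrime y.asIdeal) :=
      H05EGA4.isRegularLocalRing_localization R y.asIdeal
    exact IsRegularLocalRing.of_ringEquiv
      (Spec.stalkIso (CommRingCat.of R) y).commRingCatIsoToRingEquiv.symm
  have hdim : ∀ y : Spec (CommRingCat.of R), ringKrullDim ((Spec (CommRingCat.of R)).presheaf.stalk y) ≤ 1 := fun y =>
    (H8Props.FlatDimOneBase.ringKrullDim_stalk_le _ y).trans
      ((PrimeSpectrum.topologicalKrullDim_eq_ringKrullDim (R := R)).trans_le
        (Ring.krullDimLE_iff.mp inferInstance))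
  rw [H8Props.FlatDimOneBase.flat_iff_weakAssPoint f hreg hdim]
  intro x hx
  by_contra hne
  have hcl : f x = IsLocalRing.closedPoint R := by
    by_contra hcl
    refine hne ?_
    have hp : (f x).asIdeal = ⊥ := by
      by_contra hp
      exact hcl (PrimeSpectrum.ext (IsLocalRing.eq_maximalIdeal ((f x).isPrime.isMaximal hp)))
    refine ((genericPoint_specializes (f x)).antisymm ?_).eq.symm
    exact (PrimeSpectrum.le_iff_specializes _ _).mp (hp.le.trans bot_le)
  rw [← hcl] at hred
  haveI := hred
  haveI := hreg (f x)
  haveI := H4Depth.isDomain_of_isRegularLocalRing ((Spec (CommRingCat.of R)).presheaf.stalk (f x))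
  haveI := H8Props.FlatDimOneBase.isPrincipalIdealRing_of_dim_le_one
    ((Spec (CommRingCat.of R)).presheaf.stalk (f x)) (hdim (f x))
  obtain ⟨π, hπ⟩ := IsPrincipalIdealRing.principal
    (IsLocalRing.maximalIdeal ((Spec (CommRingCat.of R)).presheaf.stalk (f x)))
  have hπ0 : π ≠ 0 := fun h0 => H8Props.FlatDimOneBase.maximalIdeal_stalk_ne_bot (f x) hne
    (by rw [hπ, h0]; simp)
  set p := (f.stalkMap x).hom π
  haveI : _root_.IsReduced (X.presheaf.stalk x ⧸
      (IsLocalRing.maximalIdeal ((Spec (CommRingCat.of R)).presheaf.stalk (f x))).map (f.stalkMap x).hom) :=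
    isReduced_of_injective _ (H8Props.FibreStalk.asFiberStalkEquiv f x).injective
  have hJ : (IsLocalRing.maximalIdeal ((Spec (CommRingCat.of R)).presheaf.stalk (f x))).map
      (f.stalkMap x).hom = Ideal.span {p} := by
    rw [hπ, Ideal.submodule_span_eq, Ideal.map_span, Set.image_singleton]
  have hopen : IsOpen (f.base ⁻¹' {genericPoint (Spec (CommRingCat.of R))}) := by
    refine (IsOpen.preimage f.continuous ?_)
    have : ({genericPoint (Spec (CommRingCat.of R))} : Set (Spec (CommRingCat.of R))) =
        {IsLocalRing.closedPoint R}ᶜ := by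
      ext y
      refine ⟨fun hy h' => ?_, fun hy => ?_⟩
      · exact hne (hcl.trans (h'.symm.trans hy))
      · by_contra hy'
        refine hy (PrimeSpectrum.ext (IsLocalRing.eq_maximalIdeal (y.isPrime.isMaximal fun hp => hy' ?_)))
        refine ((genericPoint_specializes y).antisymm ?_).eq.symm
        exact (PrimeSpectrum.le_iff_specializes _ _).mp (hp.le.trans bot_le)
    rw [this]
    exact ((PrimeSpectrum.isClosed_singleton_iff_isMaximal _).mpr
      (IsLocalRing.maximalIdeal.isMaximal R)).isOpen_compl
  have hgenU := H8Props.genericPoints_subset_of_dense hopen hdense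
  have hmin : ∀ q ∈ minimalPrimes (X.presheaf.stalk x), p ∉ q := by
    intro q hq hpq
    have hg : X.fromSpecStalk x ⟨q, hq.1.1⟩ ∈ genericPoints X :=
      H8Props.mem_genericPoints_iff.mpr fun y hy =>
        H8Props.FlatDimOneBase.eq_of_specializes_fromSpecStalk x hq hy
    have h1 := (H8Props.FlatDimOneBase.apply_eq_genericPoint_iff f x ⟨q, hq.1.1⟩).mp (hgenU hg)
    exact hπ0 ((Submodule.mem_bot _).mp (h1 ▸ (show π ∈ Ideal.comap (f.stalkMap x).hom q from hpq)))
  have hpreg : IsSMulRegular (X.presheaf.stalk x) p := by
    refine isSMulRegular_iff_right_eq_zero_of_smul.mpr fun b hb => ?_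
    set N := nilradical (X.presheaf.stalk x)
    have hbN : b ∈ N := by
      rw [show N = sInf (minimalPrimes (X.presheaf.stalk x)) from
        (Ideal.sInf_minimalPrimes (I := (⊥ : Ideal (X.presheaf.stalk x)))).symm, Submodule.mem_sInf]
      intro q hq
      exact ((hq.1.1.mem_or_mem (show p * b ∈ q from (show p * b = 0 from hb) ▸ q.zero_mem)).resolve_left
        (hmin q hq))
    have hNle : N ≤ Ideal.span {p} • N := by
      intro c hc
      have hcp : c ∈ Ideal.span {p} := by
        rw [← hJ, ← Ideal.Quotient.eq_zero_iff_mem]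
        exact IsNilpotent.eq_zero (IsNilpotent.map hc _)
      obtain ⟨c', rfl⟩ := Ideal.mem_span_singleton'.mp hcp
      have hc' : c' ∈ N := by
        rw [show N = sInf (minimalPrimes (X.presheaf.stalk x)) from
          (Ideal.sInf_minimalPrimes (I := (⊥ : Ideal (X.presheaf.stalk x)))).symm, Submodule.mem_sInf] at hc ⊢
        exact fun q hq => ((hq.1.1.mem_or_mem (hc q hq)).resolve_right (hmin q hq))
      rw [mul_comm]
      exact Submodule.smul_mem_smul (Ideal.mem_span_singleton_self p) hc'
    have hN0 : N = ⊥ := Submodule.eq_bot_of_le_smul_of_le_jacobson_bot (Ideal.span {p}) N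
      (IsNoetherian.noetherian _) hNle (by
        refine le_trans ?_ (IsLocalRing.maximalIdeal_le_jacobson _)
        rw [← hJ]
        exact IsLocalRing.map_maximalIdeal_le _)
    rw [hN0] at hbN
    exact (Submodule.mem_bot _).mp hbN
  refine H8Props.FlatDimOneBase.not_isSMulRegular_of_isAssociatedPrime
    ((H29Blow.isWeakAssPoint_structureModule_iff x).mp hx) ?_ hpreg
  exact IsLocalRing.map_maximalIdeal_le (f.stalkMap x).hom
    (hJ ▸ Ideal.mem_span_singleton_self p)

end Groth.Agent.S10880
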