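import Groth.Statements.S10881
import Groth.Agent.H8Props.FiniteRegularFlat
import Groth.Agent.H8Props.Generic
import Mathlib.AlgebraicGeometry.Morphisms.Flat
import Mathlib.AlgebraicGeometry.Morphisms.Finite
import Mathlib.AlgebraicGeometry.Noetherian

set_option autoImplicit false
universe u
open CategoryTheory AlgebraicGeometry
open FlatMor

namespace Groth.Agent.S10881

open AlgebraicGeometry in
theorem regular_localization {X : Scheme.{u}} (hX : ∀ x : X, IsRegularLocalRing (X.presheaf.stalk x))
    {W : X.Opens} (hW : IsAffineOpen W) (p : Ideal Γ(X, W)) [hp : p.IsPrime] :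
    IsRegularLocalRing (Localization.AtPrime p) := by
  have hy : hW.fromSpec ⟨p, hp⟩ ∈ W := by
    have : hW.fromSpec ⟨p, hp⟩ ∈ Set.range hW.fromSpec := ⟨_, rfl⟩
    rwa [hW.range_fromSpec] at this
  letI := X.presheaf.algebra_section_stalk (⟨_, hy⟩ : W)
  haveI : IsLocalization p.primeCompl (X.presheaf.stalk (hW.fromSpec ⟨p, hp⟩)) := hW.isLocalization_stalk' ⟨p, hp⟩ hy
  have := hX (hW.fromSpec ⟨p, hp⟩)
  exact IsRegularLocalRing.of_ringEquiv
    (IsLocalization.algEquiv p.primeCompl (X.presheaf.stalk (hW.fromSpec ⟨p, hp⟩)) (Localization.AtPrime p)).toRingEquiv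

open AlgebraicGeometry in
theorem minimal_of_genericPoint {X : Scheme.{u}} {W : X.Opens} (hW : IsAffineOpen W)
    (q : PrimeSpectrum Γ(X, W)) (h : ∀ y : X, y ⤳ hW.fromSpec q → y = hW.fromSpec q) :
    q.asIdeal ∈ minimalPrimes Γ(X, W) := by
  have := hW.isOpenImmersion_fromSpec
  refine ⟨⟨q.isPrime, bot_le⟩, fun r hr hle => ?_⟩
  have hs : (⟨r, hr.1⟩ : PrimeSpectrum Γ(X, W)) ⤳ q := (PrimeSpectrum.le_iff_specializes _ _).mp hle
  have := hW.fromSpec.isOpenEmbedding.injective (h _ (hs.map hW.fromSpec.continuous))
  exact (congrArg PrimeSpectrum.asIdeal this).ge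

open AlgebraicGeometry in
theorem genericPoint_of_minimal {X : Scheme.{u}} {W : X.Opens} (hW : IsAffineOpen W)
    (q : PrimeSpectrum Γ(X, W)) (h : q.asIdeal ∈ minimalPrimes Γ(X, W)) {y : X}
    (hy : y ⤳ hW.fromSpec q) : y = hW.fromSpec q := by
  have := hW.isOpenImmersion_fromSpec
  have hqW : hW.fromSpec q ∈ W := by
    have : hW.fromSpec q ∈ Set.range hW.fromSpec := ⟨_, rfl⟩
    rwa [hW.range_fromSpec] at this
  obtain ⟨r, rfl⟩ : y ∈ Set.range hW.fromSpec := by
    rw [hW.range_fromSpec]; exact hy.mem_open W.2 hqW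
  have hle : PrimeSpectrum.asIdeal r ≤ q.asIdeal := (PrimeSpectrum.le_iff_specializes _ _).mpr
    (hW.fromSpec.isOpenEmbedding.isEmbedding.specializes_iff.mp hy)
  exact congrArg _ (PrimeSpectrum.ext (le_antisymm hle (h.2 ⟨r.2, bot_le⟩ hle)))


/-- A finite morphism f : X → Y between regular schemes (locally Noetherian with regular local rings)
under which each irreducible component of X dominates some irreducible component of Y is flat, hence
finite locally free. (The published statement asks only that f be dominant; for X the disjoint union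
of the affine line and a point, mapped to the affine line Y by the identity and the inclusion of a
closed point, f is finite and dominant between regular schemes but not flat, and the published
argument uses injectivity of the local ring maps, which holds exactly under the component-wise
dominance assumed here.) -/
theorem result {X Y : Scheme.{u}} (f : X ⟶ Y) [IsFinite f]
    [IsLocallyNoetherian X] [IsLocallyNoetherian Y]
    (hX : ∀ x : X, IsRegularLocalRing (X.presheaf.stalk x))
    (hY : ∀ y : Y, IsRegularLocalRing (Y.presheaf.stalk y))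
    (hdom : ∀ Z ∈ irreducibleComponents (X : Type u), closure (f.base '' Z) ∈ irreducibleComponents (Y : Type u)) :
    Flat f := by

  rw [HasRingHomProperty.iff_appLE (P := @Flat)]
  intro U W e
  have hV := U.2
  have hW : IsAffineOpen (f ⁻¹ᵁ U.1) := hV.preimage f
  have hcomp : f.appLE U.1 W.1 e = f.app U.1 ≫ X.presheaf.map (homOfLE e).op := rfl
  rw [hcomp, CommRingCat.hom_comp]
  refine RingHom.Flat.comp ?_ ?_
  · letI := (f.app U.1).hom.toAlgebra
    have : Module.Finite Γ(Y, U.1) Γ(X, f ⁻¹ᵁ U.1) := IsFinite.finite_app f U.1 hV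
    have : IsNoetherianRing Γ(Y, U.1) := IsLocallyNoetherian.component_noetherian U
    refine H8Props.FiniteRegularFlat.flat_of_regular (fun p _ => regular_localization hY hV p)
      (fun P _ => regular_localization hX hW P) fun q hq => ?_
    have := hq.1.1
    let x := hW.fromSpec ⟨q, hq.1.1⟩
    have hgx : x ∈ genericPoints X :=
      H8Props.mem_genericPoints_iff.mpr fun y hy => genericPoint_of_minimal hW ⟨q, hq.1.1⟩ hq hy
    have hkey : f x = hV.fromSpec ⟨q.comap (f.app U.1).hom, inferInstance⟩ := by
      show (hW.fromSpec ≫ f) ⟨q, hq.1.1⟩ = _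
      rw [← hV.SpecMap_appLE_fromSpec f hW le_rfl, Scheme.Hom.appLE_eq_app]
      rfl
    refine minimal_of_genericPoint hV ⟨q.comap (f.app U.1).hom, inferInstance⟩ fun y hy => ?_
    rw [← hkey] at hy ⊢
    have hcomp := hdom _ hgx
    have hfx : f x ∈ genericPoints Y := by
      show closure {f x} ∈ irreducibleComponents (Y : Type u)
      convert hcomp using 1
      rw [closure_image_closure f.continuous, Set.image_singleton]
    exact H8Props.mem_genericPoints_iff.mp hfx y hy
  · have := HasRingHomProperty.appLE @Flat (𝟙 X) inferInstance ⟨f ⁻¹ᵁ U.1, hW⟩ W (e.trans le_rfl)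
    rw [Scheme.Hom.appLE, Scheme.Hom.id_app] at this
    erw [Category.id_comp] at this
    exact this

end Groth.Agent.S10881
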