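import Groth.Statements.S10885
import Mathlib
import Groth.Agent.H22Alg.FibreCount

set_option autoImplicit false
universe u
open CategoryTheory AlgebraicGeometry
open Variety

namespace Groth.Agent.S10885

/-- Let Y be a scheme of finite type over a field k, r ≥ 0, and f : X → Y a morphism of finite type
whose fibre over every maximal point of Y has dimension at least r. Then dim X ≥ r + dim Y. -/
theorem result (k : Type u) [Field k] {X Y : Scheme.{u}}
    (q : Y ⟶ Spec (CommRingCat.of k)) [LocallyOfFiniteType q] [QuasiCompact q]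
    (f : X ⟶ Y) [LocallyOfFiniteType f] [QuasiCompact f] (r : ℕ)
    (hfib : ∀ η : Y, (∀ y : Y, y ⤳ η → y = η) → (r : WithBot ℕ∞) ≤ topologicalKrullDim (f.base ⁻¹' {η})) :
    (r : WithBot ℕ∞) + topologicalKrullDim Y ≤ topologicalKrullDim X := by
  refine Groth.Agent.H22Alg.FibreCount.add_dim_le (f ≫ q) q f rfl r fun η hη => ?_
  exact hfib η (Groth.Agent.H8Props.mem_genericPoints_iff.mp hη)

end Groth.Agent.S10885
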