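import Groth.Statements.S8869
import Groth.Agent.H29Blow.AssPoints

set_option autoImplicit false
universe u
open CategoryTheory CategoryTheory.Limits AlgebraicGeometry TopologicalSpace
open SDiv

namespace Groth.Agent.S8869

/-- Assume X is a reduced scheme and x is a point of X. Then x is weakly associated to the structure
sheaf O_X exactly when every generization of x equals x itself; equivalently, x is a generic point
of some irreducible component of X. -/
theorem result (X : Scheme.{u}) [IsReduced X] (x : ↥X) :
    Curv2.IsWeakAssPoint (Coh.structureModule X) x ↔ ∀ y : ↥X, y ⤳ x → y = x := by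
  rw [H29Blow.isWeakAssPoint_structureModule_iff]
  set R := X.presheaf.stalk x
  constructor
  · rintro ⟨-, m, hm⟩ y hy
    have hmax : ∀ a ∈ IsLocalRing.maximalIdeal R, a * m = 0 := by
      intro a ha
      rw [hm] at ha
      obtain ⟨n, hn⟩ := ha
      rw [Submodule.mem_colon_singleton, Submodule.mem_bot, smul_eq_mul] at hn
      refine IsNilpotent.eq_zero ⟨n + 1, ?_⟩
      rw [mul_pow, pow_succ m, pow_succ a, mul_mul_mul_comm, mul_comm (a ^ n), mul_comm (m ^ n)]
      linear_combination (a * m ^ n) * hn
    have hne : m ≠ 0 := by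
      rintro rfl
      refine (IsLocalRing.maximalIdeal.isMaximal R).ne_top (hm.trans ?_)
      rw [Ideal.radical_eq_top, Ideal.eq_top_iff_one, Submodule.mem_colon_singleton]
      simp
    have hm' : IsUnit m := by
      by_contra h
      exact hne (IsNilpotent.eq_zero ⟨2, by rw [pow_two]; exact hmax m h⟩)
    obtain ⟨p, hp⟩ : y ∈ Set.range (X.fromSpecStalk x) := by
      rw [Scheme.range_fromSpecStalk]; exact hy
    have : p = IsLocalRing.closedPoint R := by
      refine PrimeSpectrum.ext (le_antisymm (IsLocalRing.le_maximalIdeal p.2.ne_top) fun a ha => ?_)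
      rw [hm'.mul_left_eq_zero.mp (hmax a ha)]
      exact p.asIdeal.zero_mem
    rw [← hp, this]
    exact Scheme.fromSpecStalk_closedPoint
  · intro hx
    refine ⟨(IsLocalRing.maximalIdeal.isMaximal R).isPrime, 1, ?_⟩
    have hsub : ∀ P : Ideal R, P.IsPrime → P = IsLocalRing.maximalIdeal R := by
      intro P hP
      have h : (⟨P, hP⟩ : PrimeSpectrum R) = IsLocalRing.closedPoint R := by
        apply (X.fromSpecStalk x).isEmbedding.injective
        have : (X.fromSpecStalk x) ⟨P, hP⟩ ∈ Set.range (X.fromSpecStalk x) := ⟨_, rfl⟩
        rw [Scheme.range_fromSpecStalk] at this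
        rw [hx _ this]
        exact Scheme.fromSpecStalk_closedPoint.symm
      exact congrArg PrimeSpectrum.asIdeal h
    have hbot : IsLocalRing.maximalIdeal R = ⊥ := by
      have hn : nilradical R = ⊥ := nilradical_eq_zero R
      rw [← le_bot_iff, ← hn, nilradical_eq_sInf]
      exact le_sInf fun P hP => (hsub P hP).ge
    refine le_antisymm ?_ (IsLocalRing.le_maximalIdeal ?_)
    · rw [hbot]; exact bot_le
    · rw [Ne, Ideal.radical_eq_top, Ideal.eq_top_iff_one, Submodule.mem_colon_singleton]
      simp

end Groth.Agent.S8869
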