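import Groth.Statements.S10887
import Groth.Agent.H8Props.FlatDimOneBase
import Groth.Agent.S8869
import Groth.Agent.H8Props.Generic

set_option autoImplicit false
universe u
open CategoryTheory AlgebraicGeometry
open FlatMor

namespace Groth.Agent.S10887

/-- (i) ⇔ (iii): let Y be a Dedekind scheme — an integral Noetherian scheme of dimension at most one all
of whose local rings are regular — and f : X → Y a morphism of schemes with X reduced. Then f is
flat if and only if every irreducible component of X dominates Y. (Without reducedness only the
forward implication holds.) -/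
theorem result {X Y : Scheme.{u}} [IsIntegral Y]
    [IsNoetherian Y] (hreg : ∀ y : Y, IsRegularLocalRing (Y.presheaf.stalk y)) (hdim : topologicalKrullDim Y ≤ 1)
    (f : X ⟶ Y) [IsReduced X] :
    Flat f ↔ ∀ Z ∈ irreducibleComponents (X : Type u), Dense (f.base '' Z) := by

  rw [H8Props.FlatDimOneBase.flat_iff_weakAssPoint f hreg
    fun y => (H8Props.FlatDimOneBase.ringKrullDim_stalk_le Y y).trans hdim]
  constructor
  · intro h Z hZ
    obtain ⟨g, hg⟩ := QuasiSober.sober hZ.1 (isClosed_of_mem_irreducibleComponents Z hZ)
    have hgen : g ∈ genericPoints X := show closure {g} ∈ irreducibleComponents X by rwa [hg.def]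
    have hfg := h g ((S8869.result X g).mpr (H8Props.mem_genericPoints_iff.mp hgen))
    refine dense_iff_closure_eq.mpr (Set.eq_univ_of_univ_subset ?_)
    rw [← (genericPoint_spec Y).def]
    exact closure_mono (Set.singleton_subset_iff.mpr ⟨g, hg.mem, hfg⟩)
  · intro h x hx
    have hgen : x ∈ genericPoints X := H8Props.mem_genericPoints_iff.mpr ((S8869.result X x).mp hx)
    have hsub : f.base '' closure {x} ⊆ closure {f x} := by
      refine (image_closure_subset_closure_image f.continuous).trans (closure_mono ?_)
      rintro _ ⟨z, rfl, rfl⟩; rfl
    have h1 : f x ⤳ genericPoint Y :=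
      specializes_iff_mem_closure.mpr (closure_minimal hsub isClosed_closure (h _ hgen (genericPoint Y)))
    exact (h1.antisymm (genericPoint_specializes (f x))).eq

end Groth.Agent.S10887
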