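import Groth.Statements.S10889
import Groth.Agent.H8Props.FibreCorollaries

set_option autoImplicit false
universe u
open CategoryTheory AlgebraicGeometry
open FlatMor

namespace Groth.Agent.S10889

/-- Let f : X → Y be proper, flat and of finite presentation, and let V be the set of points of Y whose
fibre is (non-empty and) zero-dimensional. Then V is a clopen subset of Y, and over every open
subset of V the restriction of f is finite, hence finite locally free. -/
theorem result {X Y : Scheme.{u}} (f : X ⟶ Y) [IsProper f] [Flat f]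
    [LocallyOfFinitePresentation f] :
    IsClopen {y : Y | topologicalKrullDim (f.base ⁻¹' {y}) = 0} ∧
      ∀ U : Y.Opens, (U : Set Y) ⊆ {y : Y | topologicalKrullDim (f.base ⁻¹' {y}) = 0} → IsFinite (f ∣_ U) := by
  haveI : IsProper f := ‹_›
  have hle : ∀ x : X, topologicalKrullDim (f.base ⁻¹' {f x}) = 0 → FlatMor.fibreDimAt f x ≤ (0 : ℕ) := by
    intro x h
    refine (Groth.Agent.H28Top.localDim_le_dim _).trans ?_
    rw [IsHomeomorph.topologicalKrullDim_eq _ (f.fiberHomeo (f x)).isHomeomorph, Nat.cast_zero]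
    exact h.le
  have hV : {y : Y | topologicalKrullDim (f.base ⁻¹' {y}) = 0} =
      Set.range f \ f '' {x | FlatMor.fibreDimAt f x ≤ (0 : ℕ)}ᶜ := by
    ext y
    constructor
    · intro hy
      refine ⟨?_, ?_⟩
      · by_contra hne
        rw [Set.mem_ofPred_eq, Set.preimage_singleton_eq_empty.mpr hne, topologicalKrullDim,
          Order.krullDim_eq_bot_iff.mpr ⟨fun Z => Z.isIrreducible'.nonempty.elim fun v _ => v.2⟩] at hy
        exact WithBot.bot_ne_zero hy
      · rintro ⟨x, hx, rfl⟩
        exact hx (hle x hy)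
    · rintro ⟨⟨x₀, hx₀⟩, hno⟩
      show topologicalKrullDim (f.base ⁻¹' {y}) = 0
      haveI := Groth.Agent.H8Props.FieldDim.locallyOfFiniteType_fiberToSpec f y
      rw [← IsHomeomorph.topologicalKrullDim_eq _ (f.fiberHomeo y).isHomeomorph]
      obtain ⟨u, -⟩ : x₀ ∈ Set.range (f.fiberι y) := by rw [f.range_fiberι]; exact hx₀
      haveI : Nonempty (f.fiber y) := ⟨u⟩
      refine le_antisymm ?_ ?_
      · rw [Groth.Agent.H8Props.FieldDim.dim_eq_iSup_cdim (X := f.fiber y)]
        refine iSup_le fun v => ?_
        have hv : f (f.fiberι y v) = y := (f.range_fiberι y).subset (Set.mem_range_self v)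
        have h1 : FlatMor.fibreDimAt f (f.fiberι y v) ≤ (0 : ℕ) := by
          by_contra hcon
          exact hno ⟨_, hcon, hv⟩
        rw [Groth.Agent.H8Props.FieldDim.fibreDimAt_eq_localDim f v,
          Groth.Agent.H8Props.FieldDim.localDim_eq (k := Y.residueField y) (f.fiberToSpecResidueField y) v,
          Nat.cast_zero] at h1
        exact le_trans (le_iSup_of_le ⟨v, specializes_rfl⟩ le_rfl) h1
      · rw [Groth.Agent.H8Props.FieldDim.dim_eq_iSup_cdim (X := f.fiber y)]
        obtain ⟨c, hc⟩ := Groth.Agent.H8Props.FieldDim.exists_nat_cdim (k := Y.residueField y) (f.fiberToSpecResidueField y) u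
        exact le_iSup_of_le u (hc ▸ Nat.cast_nonneg c)
  rw [hV]
  have hopen : IsOpen (f '' {x | FlatMor.fibreDimAt f x ≤ (0 : ℕ)}ᶜ) := by
    refine isOpen_iff_forall_mem_open.mpr ?_
    rintro y ⟨x, hx, rfl⟩
    haveI := Groth.Agent.H8Props.FieldDim.locallyOfFiniteType_fiberToSpec f (f x)
    have : ∃ u : f.fiber (f x), (∀ ζ, ζ ⤳ u → ζ = u) ∧
        ¬ FlatMor.localDim (f.fiber (f x)) u ≤ (0 : ℕ) := by
      by_contra hcon
      refine hx ?_
      rw [Set.mem_ofPred_eq, FlatMor.fibreDimAt,
        Groth.Agent.H8Props.FieldDim.localDim_eq (k := Y.residueField (f x)) (f.fiberToSpecResidueField (f x))]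
      refine iSup_le fun v => ?_
      obtain ⟨ξ, hξ, hξT⟩ := Groth.Agent.H8Props.FieldDim.exists_component_generization v.1
      have hmax : ∀ ζ, ζ ⤳ ξ → ζ = ξ := fun ζ hζ =>
        (hζ.antisymm ((isGenericPoint_closure (x := ξ)).specializes
          (hξT.2 isIrreducible_singleton.closure
            (closure_minimal (Set.singleton_subset_iff.mpr hζ.mem_closure) isClosed_closure)
            (subset_closure rfl)))).eq
      by_contra hlt
      refine hcon ⟨ξ, hmax, fun h => hlt (le_trans ?_ h)⟩
      rw [Groth.Agent.H8Props.FieldDim.localDim_of_maximal (k := Y.residueField (f x)) (f.fiberToSpecResidueField (f x)) ξ hmax]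
      exact Groth.Agent.H8Props.FieldDim.dim_mono
        (closure_minimal (Set.singleton_subset_iff.mpr hξ.mem_closure) isClosed_closure)
    obtain ⟨u, hmax, hu⟩ := this
    have hu' : f (f.fiberι (f x) u) = f x := (f.range_fiberι _).subset (Set.mem_range_self u)
    rw [← Groth.Agent.H8Props.FieldDim.fibreDimAt_eq_localDim f u] at hu
    have hmax' : ∀ ζ, ζ ⤳ f.asFiber (f.fiberι (f x) u) → ζ = f.asFiber (f.fiberι (f x) u) := by
      generalize hz : f.fiberι (f x) u = z at hu' ⊢
      revert u
      rw [← hu']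
      intro u hmax _ hz
      obtain rfl : u = f.asFiber z :=
        (f.fiberι _).isEmbedding.injective (hz.trans (f.fiberι_asFiber z).symm)
      exact hmax
    have hev := Groth.Agent.H8Props.FieldDim.eventually_fibreDimAt_eq f (f.fiberι (f x) u)
      (Groth.Agent.H8Props.FieldDim.fibre_CM_of_maximal f _ hmax')
    obtain ⟨W, hW, hWo, huW⟩ := mem_nhds_iff.mp hev
    exact ⟨f '' W, Set.image_mono fun z hz => by
      rw [Set.mem_compl_iff, Set.mem_ofPred_eq, show FlatMor.fibreDimAt f z = _ from hW hz]; exact hu,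
      f.isOpenMap W hWo, ⟨_, huW, hu'⟩⟩
  have hclosed : IsClosed (f '' {x | FlatMor.fibreDimAt f x ≤ (0 : ℕ)}ᶜ) :=
    f.isClosedMap _ (Groth.Agent.H8Props.FieldDim.isOpen_fibreDimAt_le f 0).isClosed_compl
  refine ⟨⟨(f.isClosedMap.isClosed_range).sdiff hopen, f.isOpenMap.isOpen_range.sdiff hclosed⟩, fun U hU => ?_⟩
  haveI : IsProper (f ∣_ U) := IsZariskiLocalAtTarget.restrict ‹IsProper f› U
  haveI : LocallyQuasiFinite (f ∣_ U) := by
    refine LocallyQuasiFinite.of_finite_preimage_singleton _ fun w => ?_
    have hfin : (f ⁻¹' {U.ι w}).Finite := by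
      haveI := Groth.Agent.H8Props.FieldDim.locallyOfFiniteType_fiberToSpec f (U.ι w)
      haveI : QuasiCompact (f.fiberToSpecResidueField (U.ι w)) :=
        quasiCompact_isStableUnderBaseChange.of_isPullback (IsPullback.of_hasPullback _ _) (inferInstance : QuasiCompact f)
      haveI : CompactSpace (f.fiber (U.ι w)) :=
        QuasiCompact.compactSpace_of_compactSpace (f.fiberToSpecResidueField (U.ι w))
      haveI : IsLocallyNoetherian (f.fiber (U.ι w)) :=
        LocallyOfFiniteType.isLocallyNoetherian (f.fiberToSpecResidueField (U.ι w))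
      haveI : IsNoetherian (f.fiber (U.ι w)) := {}
      rw [← f.range_fiberι]
      refine Set.Finite.subset (((TopologicalSpace.NoetherianSpace.finite_irreducibleComponents
        (α := f.fiber (U.ι w))).preimage
          (f := fun v => closure ({v} : Set (f.fiber (U.ι w)))) ?_).image (f.fiberι _)) ?_
      · intro a _ b _ h
        exact ((isGenericPoint_closure (x := a)).eq
          (by rw [show closure ({a} : Set (f.fiber (U.ι w))) = closure {b} from h]; exact isGenericPoint_closure))
      · rintro _ ⟨v, rfl⟩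
        refine ⟨v, ?_, rfl⟩
        obtain ⟨ξ, hξ, hξT⟩ := Groth.Agent.H8Props.FieldDim.exists_component_generization v
        have hdim : topologicalKrullDim (f.base ⁻¹' {U.ι w}) = 0 := (Set.ext_iff.mp hV _).mpr (hU w.2)
        have h0 : Groth.Agent.H8Props.FieldDim.cdim ξ ≤ 0 := by
          rw [← hdim, ← IsHomeomorph.topologicalKrullDim_eq _ (f.fiberHomeo (U.ι w)).isHomeomorph,
            Groth.Agent.H8Props.FieldDim.dim_eq_iSup_cdim (X := f.fiber (U.ι w))]
          exact le_iSup (fun v : f.fiber (U.ι w) => Groth.Agent.H8Props.FieldDim.cdim v) ξ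
        obtain rfl : ξ = v := by
          by_contra hne
          obtain ⟨c, hc⟩ := Groth.Agent.H8Props.FieldDim.exists_nat_cdim
            (k := Y.residueField (U.ι w)) (f.fiberToSpecResidueField (U.ι w)) v
          have h1 := (Groth.Agent.H8Props.FieldDim.cdim_lt
            (k := Y.residueField (U.ι w)) (f.fiberToSpecResidueField (U.ι w)) hξ hne).trans_le h0
          rw [hc] at h1
          exact (Nat.cast_nonneg c).not_gt h1
        exact hξT
    refine (hfin.preimage (f ⁻¹ᵁ U).ι.isOpenEmbedding.injective.injOn).subset fun z hz => ?_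
    show f ((f ⁻¹ᵁ U).ι z) = U.ι w
    rw [← Scheme.Hom.comp_apply, ← morphismRestrict_ι]
    exact congrArg U.ι hz
  exact IsFinite.of_isProper_of_locallyQuasiFinite _

end Groth.Agent.S10889
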