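import Groth.Statements.S6297
import Mathlib.LinearAlgebra.Matrix.Adjugate
import Mathlib.LinearAlgebra.Matrix.Determinant.Basic
import Mathlib.LinearAlgebra.Multilinear.Basic
import Mathlib.RingTheory.Ideal.Span

set_option autoImplicit false
universe u
open CAlg

namespace Groth.Agent.S6297

/-- Let R be a ring, m ≤ n, A an n × m matrix over R and J the ideal generated by the m × m minors of A.
(1) For every f ∈ J there is an m × n matrix B with BA = f · 1. (2) If BA = f · 1 for some m × n
matrix B, then f^m ∈ J. -/
theorem result {R : Type u} [CommRing R] {n m : ℕ} (hmn : m ≤ n) (A : Matrix (Fin n) (Fin m) R) : (∀ f ∈ CAlgX.minorIdeal A m, ∃ B : Matrix (Fin m) (Fin n) R, B * A = f • (1 : Matrix (Fin m) (Fin m) R)) ∧ (∀ (f : R) (B : Matrix (Fin m) (Fin n) R), B * A = f • (1 : Matrix (Fin m) (Fin m) R) → f ^ m ∈ CAlgX.minorIdeal A m) := by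
  constructor
  · intro f hf
    induction hf using Submodule.span_induction with
    | zero => exact ⟨0, by simp⟩
    | add a b _ _ ha hb =>
      obtain ⟨B, hB⟩ := ha
      obtain ⟨C, hC⟩ := hb
      exact ⟨B + C, by rw [Matrix.add_mul, hB, hC, add_smul]⟩
    | smul r a _ ha =>
      obtain ⟨B, hB⟩ := ha
      exact ⟨r • B, by rw [Matrix.smul_mul, hB, smul_smul, smul_eq_mul]⟩
    | mem x hx =>
      obtain ⟨⟨r, c⟩, rfl⟩ := hx
      by_cases hc : Function.Bijective c
      · let σ : Equiv.Perm (Fin m) := Equiv.ofBijective c hc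
        let P : Matrix (Fin m) (Fin n) R := (1 : Matrix (Fin n) (Fin n) R).submatrix r id
        have hP : P * A = A.submatrix r id := by
          ext i j; simp [P, Matrix.mul_apply, Matrix.one_apply]
        refine ⟨((Equiv.Perm.sign σ : ℤ) : R) • ((A.submatrix r id).adjugate * P), ?_⟩
        rw [Matrix.smul_mul, Matrix.mul_assoc, hP, Matrix.adjugate_mul, smul_smul]
        congr 1
        exact (Matrix.det_permute' σ (A.submatrix r id)).symm
      · rw [Finite.injective_iff_bijective.symm] at hc
        rw [Function.not_injective_iff] at hc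
        obtain ⟨a, b, hab, hne⟩ := hc
        refine ⟨0, ?_⟩
        show (0 : Matrix (Fin m) (Fin n) R) * A = (A.submatrix r c).det • _
        rw [Matrix.zero_mul, Matrix.det_zero_of_column_eq hne (fun k => by simp [hab]), zero_smul]
  · intro f B hB
    have h1 : f ^ m = Matrix.det (B * A) := by rw [hB, Matrix.det_smul]; simp
    have h2 : (B * A) = fun i => ∑ k : Fin n, B i k • A k := by
      funext i j
      simp [Matrix.mul_apply, Finset.sum_apply]
    rw [h1, h2]
    show (Matrix.detRowAlternating (R := R) (n := Fin m)).toMultilinearMap (fun i => ∑ k : Fin n, B i k • A k) ∈ _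
    rw [MultilinearMap.map_sum]
    refine Ideal.sum_mem _ fun r _ => ?_
    rw [MultilinearMap.map_smul_univ, smul_eq_mul]
    refine Ideal.mul_mem_left _ _ (Ideal.subset_span ⟨(r, id), ?_⟩)
    rfl

end Groth.Agent.S6297
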