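import Groth.Statements.S10890
import Groth.Agent.H3CAlg.McCoy
import Groth.Agent.S6297
import Mathlib.Algebra.Module.StablyFree.Basic
import Mathlib.RingTheory.PicardGroup
import Mathlib.RingTheory.TotallySplit

set_option autoImplicit false
universe u
open CAlgX

namespace Groth.Agent.S10890

/-- (i) ⇔ (ii): let R be a local ring, A an n × m matrix over R regarded as a linear map R^m → R^n, and
1 ≤ r ≤ n. Then the image of A is a direct summand of R^n of rank r if and only if every (r+1) ×
(r+1) minor of A is zero and the r × r minors of A generate the unit ideal. (The printed statement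
is over an arbitrary ring with 'direct summand of rank r'; its proof localises at once, and this row
states the local case, where a direct summand of R^n is free and its rank is its finrank.) -/
theorem result (R : Type u) [CommRing R] [IsLocalRing R] (n m r : ℕ)
    (hr : 1 ≤ r) (hrn : r ≤ n) (A : Matrix (Fin n) (Fin m) R) :
    (∃ N' : Submodule R (Fin n → R), IsCompl (LinearMap.range (Matrix.mulVecLin A)) N' ∧
        Module.finrank R (LinearMap.range (Matrix.mulVecLin A)) = r) ↔
      (CAlgX.minorIdeal A (r + 1) = ⊥ ∧ CAlgX.minorIdeal A r = ⊤) := by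
  classical
  have hunit : ∀ {a b : ℕ} (B : Matrix (Fin a) (Fin b) R) (t : ℕ), CAlgX.minorIdeal B t = ⊤ →
      ∃ (f : Fin t → Fin a) (g : Fin t → Fin b), IsUnit (B.submatrix f g).det := by
    intro a b B t h
    by_contra hno
    push Not at hno
    refine (IsLocalRing.maximalIdeal.isMaximal R).ne_top (top_le_iff.mp (h.symm.le.trans
      (Ideal.span_le.mpr ?_)))
    rintro _ ⟨⟨f, g⟩, rfl⟩
    exact (IsLocalRing.mem_maximalIdeal _).mpr (hno f g)
  constructor
  · rintro ⟨N', hN', hfr⟩
    set N := LinearMap.range A.mulVecLin
    haveI : Module.Finite R N := Module.Finite.range _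
    haveI : Module.Projective R N := Module.Projective.of_split N.subtype (N.projectionOnto N' hN')
      (by ext x; simp)
    haveI : Module.Free R N := Module.free_of_flat_of_isLocalRing
    let b := Module.finBasisOfFinrankEq R N hfr
    let V : Matrix (Fin n) (Fin r) R := LinearMap.toMatrix' (N.subtype ∘ₗ b.equivFun.symm.toLinearMap)
    let U : Matrix (Fin r) (Fin m) R := LinearMap.toMatrix' (b.equivFun.toLinearMap ∘ₗ A.mulVecLin.rangeRestrict)
    let P : Matrix (Fin r) (Fin n) R := LinearMap.toMatrix' (b.equivFun.toLinearMap ∘ₗ N.projectionOnto N' hN')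
    have hA : A = V * U := by
      simp only [V, U, ← LinearMap.toMatrix'_comp]
      conv_lhs => rw [← LinearMap.toMatrix'_toLin' A]
      congr 1
      apply LinearMap.ext
      intro x
      simp [Matrix.toLin'_apply]
    have hPV : P * V = 1 := by
      simp only [P, V, ← LinearMap.toMatrix'_comp]
      rw [← LinearMap.toMatrix'_id]
      congr 1
      apply LinearMap.ext
      intro x
      simp only [LinearMap.comp_apply, LinearEquiv.coe_coe, Submodule.subtype_apply,
        Submodule.projectionOnto_apply_left, LinearEquiv.apply_symm_apply, LinearMap.id_apply]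
    obtain ⟨w, hw⟩ := Module.projective_lifting_property
      (b.equivFun.toLinearMap ∘ₗ A.mulVecLin.rangeRestrict) LinearMap.id
      (b.equivFun.surjective.comp A.mulVecLin.surjective_rangeRestrict)
    let W : Matrix (Fin m) (Fin r) R := LinearMap.toMatrix' w
    have hUW : U * W = 1 := by
      simp only [U, W, ← LinearMap.toMatrix'_comp, hw, LinearMap.toMatrix'_id]
    refine ⟨?_, ?_⟩
    · rw [CAlgX.minorIdeal, Ideal.span_eq_bot]
      rintro _ ⟨⟨f, g⟩, rfl⟩
      let V' : Matrix (Fin (r + 1)) (Fin (r + 1)) R := Matrix.of fun i => Fin.lastCases 0 fun k => V (f i) k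
      let U' : Matrix (Fin (r + 1)) (Fin (r + 1)) R := Matrix.of fun k j => Fin.lastCases 0 (fun k => U k (g j)) k
      have h : A.submatrix f g = V' * U' := by
        ext i j
        simp [hA, Matrix.mul_apply, Fin.sum_univ_castSucc, V', U']
      show (A.submatrix f g).det = 0
      rw [h, Matrix.det_mul, Matrix.det_eq_zero_of_column_eq_zero (A := V') (Fin.last r)
        (fun i => by simp [V']), zero_mul]
    · have h1 : (1 : R) ∈ CAlgX.minorIdeal (A * W) r := by
        simpa using (Groth.Agent.S6297.result hrn (A * W)).2 1 P (by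
          rw [one_smul, hA, Matrix.mul_assoc V, hUW, Matrix.mul_one, hPV])
      obtain ⟨f, g, hu⟩ := hunit _ r ((Ideal.eq_top_iff_one _).mpr h1)
      have hg : Function.Injective g := by
        by_contra hg
        obtain ⟨i, j, hij, hne⟩ := Function.not_injective_iff.mp hg
        rw [Matrix.det_zero_of_column_eq hne fun k => by simp [hij]] at hu
        exact not_isUnit_zero hu
      rw [Matrix.submatrix_mul A W f id g Function.bijective_id] at hu
      obtain ⟨Si, hSi⟩ : ∃ Si, (A.submatrix f id * W.submatrix id g) * Si = 1 :=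
        ⟨(A.submatrix f id * W.submatrix id g)⁻¹, Matrix.mul_nonsing_inv _ hu⟩
      have hrm : r ≤ m := le_of_fin_surjective R
        (b.equivFun.toLinearMap ∘ₗ A.mulVecLin.rangeRestrict)
        (b.equivFun.surjective.comp A.mulVecLin.surjective_rangeRestrict)
      have h2 : (1 : R) ∈ CAlgX.minorIdeal (A.submatrix f id).transpose r := by
        simpa using (Groth.Agent.S6297.result hrm (A.submatrix f id).transpose).2 1
          (W.submatrix id g * Si).transpose (by
            rw [one_smul, ← Matrix.transpose_mul, ← Matrix.mul_assoc, hSi, Matrix.transpose_one])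
      rw [Ideal.eq_top_iff_one]
      refine (Ideal.span_le.mpr ?_) h2
      rintro _ ⟨⟨p, q⟩, rfl⟩
      refine Ideal.subset_span ⟨(f ∘ q, p), ?_⟩
      show (A.submatrix (f ∘ q) p).det = _
      rw [← Matrix.det_transpose]
      rfl
  · rintro ⟨hbot, htop⟩
    obtain ⟨f, g, hu⟩ := hunit A r htop
    set S := A.submatrix f g
    haveI : Invertible S := Matrix.invertibleOfIsUnitDet S hu
    let V : (Fin r → R) →ₗ[R] (Fin n → R) := (A.submatrix id g).mulVecLin
    let P : (Fin n → R) →ₗ[R] (Fin r → R) := S⁻¹.mulVecLin ∘ₗ LinearMap.funLeft R R f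
    have hPV : ∀ c, P (V c) = c := by
      intro c
      simp only [P, V, LinearMap.comp_apply, Matrix.mulVecLin_apply]
      have : LinearMap.funLeft R R f ((A.submatrix id g).mulVec c) = S.mulVec c := rfl
      rw [this, Matrix.mulVec_mulVec, Matrix.nonsing_inv_mul _ hu, Matrix.one_mulVec]
    have hcol : ∀ x, A.mulVecLin x = V (P (A.mulVecLin x)) := by
      suffices h : A = A.submatrix id g * (S⁻¹ * A.submatrix f id) by
        intro x
        simp only [P, V, LinearMap.comp_apply, Matrix.mulVecLin_apply]
        have : LinearMap.funLeft R R f (A.mulVec x) = (A.submatrix f id).mulVec x := rfl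
        rw [this, Matrix.mulVec_mulVec, Matrix.mulVec_mulVec, Matrix.mul_assoc, ← h]
      ext i c
      let M : Matrix (Fin r ⊕ Fin 1) (Fin r ⊕ Fin 1) R :=
        Matrix.fromBlocks S (A.submatrix f fun _ => c) (A.submatrix (fun _ => i) g) (A.submatrix (fun _ => i) fun _ => c)
      have hM : M.det = 0 := by
        have hM' : M = A.submatrix (Sum.elim f fun _ => i) (Sum.elim g fun _ => c) := by
          ext (a | a) (b | b) <;> rfl
        rw [hM', ← Matrix.det_submatrix_equiv_self (finSumFinEquiv (m := r) (n := 1)).symm,
          Matrix.submatrix_submatrix]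
        exact (Ideal.span_eq_bot.mp hbot) _ ⟨(_, _), rfl⟩
      rw [Matrix.det_fromBlocks₁₁, Matrix.det_fin_one, Matrix.invOf_eq_nonsing_inv] at hM
      have h0 := hu.mul_right_eq_zero.mp hM
      rw [Matrix.sub_apply, sub_eq_zero] at h0
      rw [← Matrix.mul_assoc]
      refine h0.trans ?_
      simp [Matrix.mul_apply]
    have hrange : LinearMap.range A.mulVecLin = LinearMap.range V := by
      refine le_antisymm ?_ ?_
      · rintro _ ⟨x, rfl⟩
        exact ⟨_, (hcol x).symm⟩
      · rintro _ ⟨c, rfl⟩
        refine ⟨(1 : Matrix (Fin m) (Fin m) R).submatrix id g |>.mulVecLin c, ?_⟩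
        simp only [V, Matrix.mulVecLin_apply, Matrix.mulVec_mulVec]
        congr 1
        ext a b
        simp [Matrix.mul_apply, Matrix.one_apply]
    refine ⟨LinearMap.ker P, ?_, ?_⟩
    · rw [hrange]
      constructor
      · rw [Submodule.disjoint_def]
        rintro x ⟨c, rfl⟩ hx
        rw [LinearMap.mem_ker, hPV] at hx
        rw [hx, map_zero]
      · rw [codisjoint_iff, eq_top_iff]
        intro x _
        exact Submodule.mem_sup.mpr ⟨V (P x), LinearMap.mem_range_self _ _, x - V (P x),
          by rw [LinearMap.mem_ker, map_sub, hPV, sub_self], add_sub_cancel _ _⟩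
    · rw [hrange, LinearMap.finrank_range_of_inj (Function.LeftInverse.injective hPV), Module.finrank_fin_fun]

end Groth.Agent.S10890
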