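import Groth.Statements.S10891


set_option autoImplicit false
universe u
open CAlg

namespace Groth.Agent.S10891

/-- Let k be a field containing a primitive r-th root of unity ζ and 0 < a < r. The cyclic group of r-th
roots of unity acts on k[X, Y] through the generator X ↦ ζ⁻¹ X, Y ↦ ζ^(−a) Y, and the ring of
invariants of this action is generated as a k-algebra by the monomials X^i Y^j with 0 ≤ i, j ≤ r,
(i, j) ≠ (r, r) and i + a·j ≡ 0 (mod r). (The printed statement writes n for the order of the group,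
which the surrounding section calls r.) -/
theorem result (k : Type u) [Field k] (r a : ℕ) (ha : 0 < a) (har : a < r)
    (ζ : k) (hζ : IsPrimitiveRoot ζ r) (p : MvPolynomial (Fin 2) k) :
    MvPolynomial.aeval (fun i : Fin 2 => if i = 0 then MvPolynomial.C ζ⁻¹ * MvPolynomial.X 0
        else MvPolynomial.C (ζ⁻¹ ^ a) * (MvPolynomial.X 1 : MvPolynomial (Fin 2) k)) p = p ↔
      p ∈ Algebra.adjoin k {q : MvPolynomial (Fin 2) k | ∃ i j : ℕ, i ≤ r ∧ j ≤ r ∧ ¬ (i = r ∧ j = r) ∧
        r ∣ i + a * j ∧ q = MvPolynomial.X 0 ^ i * MvPolynomial.X 1 ^ j} := by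
  classical
  let S := {q : MvPolynomial (Fin 2) k | ∃ i j : ℕ, i ≤ r ∧ j ≤ r ∧ ¬ (i = r ∧ j = r) ∧
        r ∣ i + a * j ∧ q = MvPolynomial.X 0 ^ i * MvPolynomial.X 1 ^ j}
  let c : Fin 2 → k := fun i => if i = 0 then ζ⁻¹ else ζ⁻¹ ^ a
  have hfun : (fun i : Fin 2 => if i = 0 then MvPolynomial.C ζ⁻¹ * MvPolynomial.X 0
        else MvPolynomial.C (ζ⁻¹ ^ a) * (MvPolynomial.X 1 : MvPolynomial (Fin 2) k)) =
      fun i => MvPolynomial.C (c i) * MvPolynomial.X i := by
    funext i
    fin_cases i <;> simp [c]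
  rw [hfun]
  let σ := MvPolynomial.aeval (R := k) fun i : Fin 2 => MvPolynomial.C (c i) * (MvPolynomial.X i : MvPolynomial (Fin 2) k)
  have hmon : ∀ (d : Fin 2 →₀ ℕ) (t : k), σ (MvPolynomial.monomial d t) =
      MvPolynomial.monomial d (ζ⁻¹ ^ (d 0 + a * d 1) * t) := by
    intro d t
    rw [MvPolynomial.aeval_monomial, MvPolynomial.algebraMap_eq, Finsupp.prod_fintype _ _ (fun i => pow_zero _),
      Fin.prod_univ_two, MvPolynomial.monomial_eq, Finsupp.prod_fintype _ _ (fun i => pow_zero _), Fin.prod_univ_two]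
    simp only [c, if_true, Fin.one_eq_zero_iff, OfNat.ofNat_ne_one, if_false, mul_pow, ← MvPolynomial.C_pow,
      map_mul, pow_add, pow_mul]
    ring
  have hcoeff : ∀ (q : MvPolynomial (Fin 2) k) (d : Fin 2 →₀ ℕ),
      MvPolynomial.coeff d (σ q) = ζ⁻¹ ^ (d 0 + a * d 1) * MvPolynomial.coeff d q := by
    intro q d
    induction q using MvPolynomial.induction_on' with
    | monomial e t =>
      rw [hmon, MvPolynomial.coeff_monomial, MvPolynomial.coeff_monomial]
      split_ifs with h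
      · rw [h]
      · rw [mul_zero]
    | add q q' hq hq' => rw [map_add, MvPolynomial.coeff_add, MvPolynomial.coeff_add, hq, hq', mul_add]
  constructor
  · intro hp
    rw [MvPolynomial.as_sum p]
    refine Subalgebra.sum_mem _ fun d hd => ?_
    have h1 : ζ⁻¹ ^ (d 0 + a * d 1) = 1 := by
      have h := congrArg (MvPolynomial.coeff d) hp
      rw [hcoeff] at h
      exact mul_right_cancel₀ (MvPolynomial.mem_support_iff.1 hd) (h.trans (one_mul _).symm)
    have hdvd : r ∣ d 0 + a * d 1 := hζ.inv.dvd_of_pow_eq_one _ h1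
    have hrew : MvPolynomial.monomial d (MvPolynomial.coeff d p) = MvPolynomial.C (MvPolynomial.coeff d p) *
        ((MvPolynomial.X 0 ^ r) ^ (d 0 / r) * (MvPolynomial.X 1 ^ r) ^ (d 1 / r) *
          (MvPolynomial.X 0 ^ (d 0 % r) * MvPolynomial.X 1 ^ (d 1 % r))) := by
      rw [MvPolynomial.monomial_eq, Finsupp.prod_fintype _ _ (fun i => pow_zero _), Fin.prod_univ_two]
      congr 1
      conv_lhs => rw [← Nat.div_add_mod (d 0) r, ← Nat.div_add_mod (d 1) r]
      rw [pow_add, pow_add, pow_mul, pow_mul]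
      ring
    have hr0 : 0 < r := ha.trans har
    have hmem : ∀ i j, i ≤ r → j ≤ r → ¬ (i = r ∧ j = r) → r ∣ i + a * j →
        (MvPolynomial.X 0 ^ i * MvPolynomial.X 1 ^ j : MvPolynomial (Fin 2) k) ∈ Algebra.adjoin k S :=
      fun i j h1 h2 h3 h4 => Algebra.subset_adjoin ⟨i, j, h1, h2, h3, h4, rfl⟩
    rw [hrew]
    refine Subalgebra.mul_mem _ (Subalgebra.algebraMap_mem _ _) (Subalgebra.mul_mem _ (Subalgebra.mul_mem _
      (Subalgebra.pow_mem _ ?_ _) (Subalgebra.pow_mem _ ?_ _)) (hmem _ _ (Nat.mod_lt _ hr0).le (Nat.mod_lt _ hr0).le ?_ ?_))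
    · have h := hmem r 0 le_rfl (Nat.zero_le _) (by omega) (by simp)
      rwa [pow_zero, mul_one] at h
    · have h := hmem 0 r (Nat.zero_le _) le_rfl (by omega) (by simp)
      rwa [pow_zero, one_mul] at h
    · intro h
      have := Nat.mod_lt (d 0) hr0
      omega
    · have h2 : d 0 + a * d 1 = (d 0 % r + a * (d 1 % r)) + r * (d 0 / r + a * (d 1 / r)) := by
        conv_lhs => rw [← Nat.div_add_mod (d 0) r, ← Nat.div_add_mod (d 1) r]
        ring
      rw [h2] at hdvd
      exact (Nat.dvd_add_left (dvd_mul_right _ _)).1 hdvd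
  · intro hp
    have hle : Algebra.adjoin k S ≤ AlgHom.equalizer σ (AlgHom.id k _) := by
      refine Algebra.adjoin_le ?_
      rintro _ ⟨i, j, -, -, -, hij, rfl⟩
      show σ _ = _
      obtain ⟨t, ht⟩ := hij
      rw [map_mul, map_pow, map_pow, MvPolynomial.aeval_X, MvPolynomial.aeval_X]
      simp only [c, if_true, Fin.one_eq_zero_iff, OfNat.ofNat_ne_one, if_false, mul_pow, ← MvPolynomial.C_pow]
      rw [mul_mul_mul_comm, ← map_mul, ← pow_mul, ← pow_add, ht, pow_mul, inv_pow, hζ.pow_eq_one, inv_one,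
        one_pow, map_one, one_mul]
      rfl
    exact hle hp

end Groth.Agent.S10891
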