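import Groth.Statements.S10893
import Mathlib
import Groth.Agent.H29Blow.PointsOfAffine

set_option autoImplicit false
universe u
open CategoryTheory AlgebraicGeometry
open Curves

namespace Groth.Agent.S10893

open TopologicalSpace in
lemma isClosed_or_maximal {C : Scheme.{u}} [IsNoetherian C]
    (hC : ∀ x : C, IsClosed ({x} : Set C) → ringKrullDim (C.presheaf.stalk x) = 1) (x : C) :
    IsClosed ({x} : Set C) ∨ ∀ y : C, y ⤳ x → y = x := by
  by_contra hcon
  push Not at hcon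
  obtain ⟨hx, y, hyx, hne⟩ := hcon
  obtain ⟨z, hz, hzc⟩ := IsClosed.exists_closed_singleton (isClosed_closure (s := ({x} : Set C)))
    ⟨x, subset_closure rfl⟩
  have hxz : x ⤳ z := specializes_iff_mem_closure.mpr hz
  have hxne : x ≠ z := fun h ↦ hx (h ▸ hzc)
  obtain ⟨V, hV, hzV, -⟩ := exists_isAffineOpen_mem_and_subset (U := (⊤ : C.Opens)) (x := z) trivial
  have hxV : x ∈ V := hxz.mem_open V.2 hzV
  have hyV : y ∈ V := hyx.mem_open V.2 hxV
  have key : ∀ a b : V, (hV.primeIdealOf a).asIdeal ≤ (hV.primeIdealOf b).asIdeal → a.1 ≠ b.1 →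
      (hV.primeIdealOf a).asIdeal < (hV.primeIdealOf b).asIdeal := fun a b h hne ↦
    lt_of_le_of_ne h fun he ↦ hne ((((H29Blow.primeIdealOf_le_iff hV a b).mp he.le).antisymm
      ((H29Blow.primeIdealOf_le_iff hV b a).mp he.ge)).eq)
  have h1 := key ⟨y, hyV⟩ ⟨x, hxV⟩ ((H29Blow.primeIdealOf_le_iff hV _ _).mpr hyx) hne
  have h2 := key ⟨x, hxV⟩ ⟨z, hzV⟩ ((H29Blow.primeIdealOf_le_iff hV _ _).mpr hxz) hxne
  let zz : V := ⟨z, hzV⟩
  let q := (hV.primeIdealOf zz).asIdeal
  letI := TopCat.Presheaf.algebra_section_stalk C.presheaf zz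
  haveI : IsLocalization.AtPrime (C.presheaf.stalk z) q := hV.isLocalization_stalk zz
  have hd : (q.height : WithBot ℕ∞) = 1 := by
    rw [← IsLocalization.AtPrime.ringKrullDim_eq_height q (C.presheaf.stalk z)]; exact hC z hzc
  have hh := Ideal.height_add_one_le_of_lt_of_isPrime (I := (hV.primeIdealOf ⟨x, hxV⟩).asIdeal) (J := q) h2
  have hh' := Ideal.height_add_one_le_of_lt_of_isPrime (I := (hV.primeIdealOf ⟨y, hyV⟩).asIdeal) h1
  have h2' : (2 : ℕ∞) ≤ q.height := by
    calc (2 : ℕ∞) = 0 + 1 + 1 := by norm_num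
      _ ≤ (hV.primeIdealOf ⟨x, hxV⟩).asIdeal.height + 1 :=
          add_le_add_left (le_trans (add_le_add_left zero_le 1) hh') 1
      _ ≤ _ := hh
  rw [show q.height = 1 by exact_mod_cast hd] at h2'
  norm_num at h2'

open TopologicalSpace in
lemma exists_divisor {C : Scheme.{u}} [IsNoetherian C]
    (hC : ∀ x : C, IsClosed ({x} : Set C) → ringKrullDim (C.presheaf.stalk x) = 1)
    (hpt : ∀ x : C, ¬ IsOpen ({x} : Set C)) (U : C.Opens) (hU : Dense (U : Set C))
    {Z : Set C} (hZ : Z ∈ irreducibleComponents (C : Type u)) :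
    ∃ D : Mero.Divisor C, Mero.IsEffective D ∧ Mero.supp D ⊆ (U : Set C) ∧
      (Mero.supp D).Nonempty ∧
      ∀ y ∈ Mero.supp D, ∀ Z' ∈ irreducibleComponents (C : Type u), y ∈ Z' → Z' = Z := by
  classical
  have hfin : (irreducibleComponents (C : Type u)).Finite := NoetherianSpace.finite_irreducibleComponents
  let O : C.Opens := ⟨(⋃ Z' ∈ irreducibleComponents (C : Type u) \ {Z}, Z')ᶜ,
    (Set.Finite.isClosed_biUnion hfin.sdiff fun Z' h ↦
      isClosed_of_mem_irreducibleComponents Z' h.1).isOpen_compl⟩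
  have hO : ∀ y ∈ O, ∀ Z' ∈ irreducibleComponents (C : Type u), y ∈ Z' → Z' = Z :=
    fun y hy Z' hZ' hyZ' ↦ by
      by_contra h
      exact hy (Set.mem_biUnion (Set.mem_sdiff_of_mem hZ' (by simpa using h)) hyZ')
  obtain ⟨η, hη⟩ := QuasiSober.sober hZ.1 (isClosed_of_mem_irreducibleComponents Z hZ)
  have hZη : Z = closure {η} := hη.symm
  have hmax : ∀ y : C, y ⤳ η → y = η := fun y hy ↦ by
    have hsub : closure ({η} : Set C) ⊆ closure {y} := specializes_iff_closure_subset.mp hy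
    have hle := hZ.2 ((isIrreducible_singleton (x := y)).closure) (hZη ▸ hsub)
    exact (hy.antisymm (specializes_iff_mem_closure.mpr (by
      rw [← hZη]; exact hle (subset_closure rfl)))).eq
  have hηO : η ∈ O := by
    intro hmem
    obtain ⟨Z', ⟨hZ', hne⟩, hηZ'⟩ := Set.mem_iUnion₂.mp hmem
    refine hne (Set.Subset.antisymm (hZ.2 hZ'.1 ?_) ?_)
    · rw [hZη]; exact closure_minimal (Set.singleton_subset_iff.mpr hηZ')
        (isClosed_of_mem_irreducibleComponents Z' hZ')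
    · rw [hZη]; exact closure_minimal (Set.singleton_subset_iff.mpr hηZ')
        (isClosed_of_mem_irreducibleComponents Z' hZ')
  have hηU : η ∈ U := by
    obtain ⟨z, hzO, hzU⟩ := hU.inter_open_nonempty O O.2 ⟨η, hηO⟩
    have hzc := irreducibleComponent_property z
    have hzZ : z ∈ Z := hO z hzO _ (irreducibleComponent_mem_irreducibleComponents z)
      mem_irreducibleComponent ▸ mem_irreducibleComponent
    rw [hZη] at hzZ
    exact (specializes_iff_mem_closure.mpr hzZ).mem_open U.2 hzU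
  have hηc : ¬ IsClosed ({η} : Set C) := by
    intro h
    obtain ⟨V, hV, hηV, -⟩ := exists_isAffineOpen_mem_and_subset (U := (⊤ : C.Opens)) (x := η) trivial
    letI := TopCat.Presheaf.algebra_section_stalk C.presheaf (⟨η, hηV⟩ : V)
    haveI : IsLocalization.AtPrime (C.presheaf.stalk η) (hV.primeIdealOf ⟨η, hηV⟩).asIdeal :=
      hV.isLocalization_stalk ⟨η, hηV⟩
    have h1 := hC η h
    rw [IsLocalization.AtPrime.ringKrullDim_eq_height (hV.primeIdealOf ⟨η, hηV⟩).asIdeal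
      (C.presheaf.stalk η),
      Ideal.height_eq_zero_iff.mpr ((H29Blow.minimalPrimes_iff_maximal_point hV _).mpr hmax)] at h1
    norm_num at h1
  obtain ⟨W, hW, hηW, hWsub⟩ := exists_isAffineOpen_mem_and_subset (U := U ⊓ O) (x := η) ⟨hηU, hηO⟩
  haveI : IsNoetherianRing Γ(C, W) := IsLocallyNoetherian.component_noetherian ⟨W, hW⟩
  let T : Set W := {x | (hW.primeIdealOf x).asIdeal ∈ associatedPrimes Γ(C, W) Γ(C, W) ∧
    IsClosed ({x.1} : Set C)}
  have hT : T.Finite :=
    Set.Finite.of_finite_image ((associatedPrimes.finite Γ(C, W) Γ(C, W)).subset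
      (by rintro - ⟨x, hx, rfl⟩; exact hx.1))
      (fun a _ b _ h ↦ Subtype.ext ((((H29Blow.primeIdealOf_le_iff hW a b).mp h.le).antisymm
        ((H29Blow.primeIdealOf_le_iff hW b a).mp h.ge)).eq))
  have hTc : IsClosed (Subtype.val '' T : Set C) := by
    rw [← Set.biUnion_of_singleton (Subtype.val '' T : Set C)]
    exact (hT.image _).isClosed_biUnion (by rintro - ⟨x, hx, rfl⟩; exact hx.2)
  let W' : Set C := (W : Set C) ∩ (Subtype.val '' T : Set C)ᶜ
  have hW' : IsOpen W' := W.2.inter hTc.isOpen_compl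
  haveI : CompactSpace W' := isCompact_iff_compactSpace.mp (NoetherianSpace.isCompact _)
  have hηW' : η ∈ W' := ⟨hηW, by rintro ⟨a, ha, rfl⟩; exact hηc ha.2⟩
  obtain ⟨⟨x, hxW, hxT⟩, -, hxc⟩ := IsClosed.exists_closed_singleton
    (isClosed_univ (X := W')) ⟨⟨η, hηW'⟩, trivial⟩
  have hxclosed : IsClosed ({x} : Set C) := by
    refine (isClosed_or_maximal hC x).resolve_right fun hx ↦ ?_
    have hxZ : x ∈ Z := hO x (hWsub hxW).2 _ (irreducibleComponent_mem_irreducibleComponents x)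
      mem_irreducibleComponent ▸ mem_irreducibleComponent
    rw [hZη] at hxZ
    obtain rfl : η = x := hx η (specializes_iff_mem_closure.mpr hxZ)
    refine hpt η ?_
    suffices h : W' = {η} by rw [← h]; exact hW'
    refine Set.eq_singleton_iff_unique_mem.mpr ⟨hηW', fun y hy ↦ ?_⟩
    have hyZ : y ∈ Z := hO y (hWsub hy.1).2 _ (irreducibleComponent_mem_irreducibleComponents y)
      mem_irreducibleComponent ▸ mem_irreducibleComponent
    rw [hZη] at hyZ
    obtain ⟨t, ht, heq⟩ := isClosed_induced_iff.mp hxc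
    have h1 : η ∈ t := (Set.ext_iff.mp heq ⟨η, hxW, hxT⟩).mpr rfl
    have : (⟨y, hy⟩ : W') ∈ ({⟨η, hxW, hxT⟩} : Set W') :=
      (Set.ext_iff.mp heq ⟨y, hy⟩).mp (closure_minimal (Set.singleton_subset_iff.mpr h1) ht hyZ)
    exact congrArg Subtype.val this
  let m := (hW.primeIdealOf ⟨x, hxW⟩).asIdeal
  have hm : m ∉ associatedPrimes Γ(C, W) Γ(C, W) := fun h ↦ hxT ⟨⟨x, hxW⟩, ⟨h, hxclosed⟩, rfl⟩
  obtain ⟨f, hfm, hf⟩ : ∃ f ∈ m, f ∈ nonZeroDivisors Γ(C, W) := by
    by_contra! h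
    have hsub : (m : Set Γ(C, W)) ⊆ ⋃ p ∈ associatedPrimes Γ(C, W) Γ(C, W), (p : Set Γ(C, W)) := by
      intro a ha
      rw [biUnion_associatedPrimes_eq_compl_nonZeroDivisors]
      exact fun hreg ↦ h a ha hreg
    rw [← (associatedPrimes.finite Γ(C, W) Γ(C, W)).coe_toFinset] at hsub
    obtain ⟨p, hp, hmp⟩ := (Ideal.subset_union_prime ⊥ ⊥
      (fun p hp _ _ ↦ ((Set.Finite.mem_toFinset _).mp hp).1)).mp hsub
    rw [Set.Finite.mem_toFinset] at hp
    obtain ⟨y, hy⟩ := H29Blow.exists_primeIdealOf_eq hW ⟨p, hp.1⟩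
    have hyp : (hW.primeIdealOf y).asIdeal = p := congrArg PrimeSpectrum.asIdeal hy
    have hxy : y.1 = x :=
      hxclosed.closure_eq.le (specializes_iff_mem_closure.mp
        ((H29Blow.primeIdealOf_le_iff hW ⟨x, hxW⟩ y).mp (hyp ▸ hmp)))
    have hmp' : m = p := by
      rw [← hyp]
      exact congrArg (fun a ↦ (hW.primeIdealOf a).asIdeal) (Subtype.ext hxy.symm)
    exact hm (hmp' ▸ hp)
  have hfreg : f ∈ Mero.regSub C W := fun y ↦ by
    letI := TopCat.Presheaf.algebra_section_stalk C.presheaf y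
    haveI := hW.isLocalization_stalk y
    exact IsLocalization.map_nonZeroDivisors_le (hW.primeIdealOf y).asIdeal.primeCompl _ ⟨f, hf, rfl⟩
  let g : (Γ(Mero.kmod C, W))ˣ := Units.mkOfMulEqOne (Mero.toK C W f)
    ⟨fun y ↦ LocalizedModule.mk (C.presheaf.germ W y.1 y.2 1) (Mero.regGerm y ⟨f, hfreg⟩),
      fun y ↦ ⟨W, y.2, 𝟙 _, 1, ⟨f, hfreg⟩, fun _ ↦ rfl⟩⟩
    (by
      refine Subtype.ext (funext fun y ↦ ?_)
      change (LocalizedModule.mk _ _ : Mero.KStalk C y.1) * LocalizedModule.mk _ _ = 1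
      refine LocalizedModule.mk_mul_mk.trans ?_
      exact (Mero.mk_congr (by rw [map_one, mul_one]) (by rw [one_mul])).trans
        (Mero.mk_self_eq_one (Mero.regGerm y ⟨f, hfreg⟩)))
  let V : Set C := (W : Set C) ∩ (C.basicOpen f : Set C)ᶜ
  have hVpt : ∀ y ∈ V, IsClosed ({y} : Set C) := by
    rintro y ⟨hyW, hyf⟩
    refine (isClosed_or_maximal hC y).resolve_right fun hy ↦ ?_
    have hmin := (H29Blow.minimalPrimes_iff_maximal_point hW ⟨y, hyW⟩).mpr hy
    refine Set.disjoint_left.mp (Ideal.disjoint_nonZeroDivisors_of_mem_minimalPrimes hmin) ?_ hf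
    exact (H29Blow.mem_primeIdealOf_iff hW _ f).mpr fun h ↦ hyf ((C.mem_basicOpen f y hyW).mpr h)
  have hVfin : V.Finite := by
    refine ((((Ideal.span {f}).finite_minimalPrimes_of_isNoetherianRing Γ(C, W))).preimage
      (f := fun y : W ↦ (hW.primeIdealOf y).asIdeal) (fun a _ b _ h ↦ Subtype.ext
        ((((H29Blow.primeIdealOf_le_iff hW a b).mp h.le).antisymm
        ((H29Blow.primeIdealOf_le_iff hW b a).mp h.ge)).eq))).image Subtype.val |>.subset ?_
    rintro y ⟨hyW, hyf⟩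
    refine ⟨⟨y, hyW⟩, ⟨⟨(hW.primeIdealOf _).isPrime, ?_⟩, fun q hq hle ↦ ?_⟩, rfl⟩
    · rw [Ideal.span_singleton_le_iff_mem, H29Blow.mem_primeIdealOf_iff]
      exact fun h ↦ hyf ((C.mem_basicOpen f y hyW).mpr h)
    · obtain ⟨w, hw⟩ := H29Blow.exists_primeIdealOf_eq hW ⟨q, hq.1⟩
      have hwq : (hW.primeIdealOf w).asIdeal = q := congrArg PrimeSpectrum.asIdeal hw
      have hwV : w.1 ∈ V := ⟨w.2, fun h ↦ (H29Blow.mem_primeIdealOf_iff hW w f).mp
        (hwq ▸ hq.2 (Ideal.mem_span_singleton_self f)) ((C.mem_basicOpen f w.1 w.2).mp h)⟩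
      have : y = w.1 := (hVpt _ hwV).closure_eq.le (specializes_iff_mem_closure.mp
        ((H29Blow.primeIdealOf_le_iff hW w ⟨y, hyW⟩).mp (hwq ▸ hle)))
      rw [← hwq, show w = ⟨y, hyW⟩ from Subtype.ext this.symm]
  have hVc : IsClosed V := by
    rw [← Set.biUnion_of_singleton V]
    exact hVfin.isClosed_biUnion hVpt
  let d : ∀ y : C, Mero.Germ C y := fun y ↦
    if h : y ∈ V then Mero.germOf g ⟨y, h.1⟩ else 1
  have hdW : ∀ y : W, d y.1 = Mero.germOf g y := by
    intro y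
    by_cases h : y.1 ∈ V
    · simp only [d, dif_pos h]
    · simp only [d, dif_neg h]
      symm
      rw [Mero.germOf, QuotientGroup.eq_one_iff]
      obtain ⟨v, hv⟩ := (C.mem_basicOpen f y.1 y.2).mp (by_contra fun hh ↦ h ⟨y.2, hh⟩)
      refine ⟨v, Units.ext ?_⟩
      change algebraMap _ _ (v : C.presheaf.stalk y.1) = LocalizedModule.mk _ 1
      rw [hv]; rfl
  refine ⟨⟨d, fun y ↦ ?_⟩, fun y ↦ ?_, ?_, ⟨x, ?_⟩, ?_⟩
  · by_cases hy : y ∈ V
    · exact ⟨W, hy.1, g, hdW⟩
    · exact ⟨⟨Vᶜ, hVc.isOpen_compl⟩, hy, 1, fun z ↦ by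
        rw [show d z.1 = 1 from dif_neg z.2, Mero.germOf, map_one, QuotientGroup.mk_one]⟩
  · by_cases hy : y ∈ V
    · refine ⟨Mero.regGerm ⟨y, hy.1⟩ ⟨f, hfreg⟩, ?_⟩
      refine (hdW ⟨y, hy.1⟩).trans (congrArg QuotientGroup.mk (Units.ext ?_))
      rfl
    · refine ⟨1, ?_⟩
      refine (show d y = 1 from dif_neg hy).trans ?_
      rw [show (IsLocalization.map_units (Mero.KStalk C y) (1 : Mero.regStalk C y)).unit = 1 from
        Units.ext (map_one _), QuotientGroup.mk_one]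
  · intro y hy
    have : y ∈ V := by_contra fun h ↦ hy (dif_neg h)
    exact (hWsub this.1).1
  · intro h1
    change d (⟨x, hxW⟩ : W).1 = 1 at h1
    rw [hdW ⟨x, hxW⟩, Mero.germOf, QuotientGroup.eq_one_iff] at h1
    obtain ⟨v, hv⟩ := h1
    have h2 := congrArg Units.val hv
    refine (H29Blow.mem_primeIdealOf_iff hW ⟨x, hxW⟩ f).mp hfm ⟨v, ?_⟩
    exact Mero.algebraMap_KStalk_injective x h2
  · intro y hy Z' hZ' hyZ'
    have : y ∈ V := by_contra fun h ↦ hy (dif_neg h)
    exact hO y (hWsub this.1).2 Z' hZ' hyZ'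

lemma isEffective_mul {C : Scheme.{u}} {D D' : Mero.Divisor C} (h : Mero.IsEffective D)
    (h' : Mero.IsEffective D') : Mero.IsEffective (D * D') := fun y ↦ by
  obtain ⟨a, ha⟩ := h y
  obtain ⟨b, hb⟩ := h' y
  refine ⟨a * b, ?_⟩
  change D.1 y * D'.1 y = _
  rw [ha, hb, ← QuotientGroup.mk_mul]
  exact congrArg _ (Units.ext (map_mul _ _ _).symm)



/-- Let C be an absolute curve (Noetherian, local rings at closed points one-dimensional) none of whose
points is open, and U ⊆ C an open dense subset. Then there is an effective divisor D on C with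
support contained in U and meeting every irreducible component of C. -/
theorem result {C : Scheme.{u}} [IsNoetherian C]
    (hC : ∀ x : C, IsClosed ({x} : Set C) → ringKrullDim (C.presheaf.stalk x) = 1)
    (hpt : ∀ x : C, ¬ IsOpen ({x} : Set C)) (U : C.Opens) (hU : Dense (U : Set C)) :
    ∃ D : Mero.Divisor C, Mero.IsEffective D ∧ Mero.supp D ⊆ (U : Set C) ∧
      ∀ Z ∈ irreducibleComponents (C : Type u), (Mero.supp D ∩ Z).Nonempty := by
  classical
  have hfin : (irreducibleComponents (C : Type u)).Finite :=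
    TopologicalSpace.NoetherianSpace.finite_irreducibleComponents
  choose D hD1 hD2 hD3 hD4 using
    fun Z : (irreducibleComponents (C : Type u)) ↦ exists_divisor hC hpt U hU Z.2
  haveI : Fintype (irreducibleComponents (C : Type u)) := hfin.fintype
  refine ⟨∏ Z, D Z, Finset.prod_induction _ Mero.IsEffective (fun a b ↦ isEffective_mul)
    (fun y ↦ ⟨1, ?_⟩) (fun Z _ ↦ hD1 Z), ?_, fun Z hZ ↦ ?_⟩
  · change (1 : Mero.Germ C y) = _
    rw [show (IsLocalization.map_units (Mero.KStalk C y) (1 : Mero.regStalk C y)).unit = 1 from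
      Units.ext (map_one _), QuotientGroup.mk_one]
  · intro y hy
    by_contra h
    refine hy ?_
    have h1 : ∀ Z, (D Z).1 y = 1 := fun Z ↦ by_contra fun hne ↦ h (hD2 Z hne)
    change ((∏ Z, D Z : Mero.Divisor C) : ∀ x : C, Mero.Germ C x) y = 1
    rw [← Subgroup.coe_subtype, map_prod, Finset.prod_apply]
    exact Finset.prod_eq_one fun Z _ ↦ h1 Z
  · obtain ⟨x, hx⟩ := hD3 ⟨Z, hZ⟩
    have hothers : ∀ Z', Z' ≠ ⟨Z, hZ⟩ → (D Z').1 x = 1 := fun Z' hne ↦ by_contra fun h ↦ by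
      have e1 := hD4 ⟨Z, hZ⟩ x hx _ (irreducibleComponent_mem_irreducibleComponents x) mem_irreducibleComponent
      have e2 := hD4 Z' x h _ (irreducibleComponent_mem_irreducibleComponents x) mem_irreducibleComponent
      exact hne (Subtype.ext (e2.symm.trans e1))
    refine ⟨x, ?_, ?_⟩
    · change (∏ Z', D Z').1 x ≠ 1
      rw [← Subgroup.coe_subtype, map_prod, Finset.prod_apply,
        Finset.prod_eq_single ⟨Z, hZ⟩ (fun Z' _ hne ↦ hothers Z' hne) (by simp)]
      exact hx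
    · have e := hD4 ⟨Z, hZ⟩ x hx _ (irreducibleComponent_mem_irreducibleComponents x)
        mem_irreducibleComponent
      exact (Set.ext_iff.mp e x).mp mem_irreducibleComponent

end Groth.Agent.S10893
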