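import Groth.Statements.S10894
import Groth.Agent.H29Mero.Curve

set_option autoImplicit false
universe u
open CategoryTheory AlgebraicGeometry
open Curves

namespace Groth.Agent.S10894

/-- On an absolute curve C (Noetherian, local rings at closed points one-dimensional) every divisor D is
a difference of two effective divisors each supported inside the support of D (divisors are written
multiplicatively, so the difference is D₁ · D₂⁻¹). -/
theorem result {C : Scheme.{u}} [IsNoetherian C]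
    (hC : ∀ x : C, IsClosed ({x} : Set C) → ringKrullDim (C.presheaf.stalk x) = 1) (D : Mero.Divisor C) :
    ∃ D₁ D₂ : Mero.Divisor C, Mero.IsEffective D₁ ∧ Mero.IsEffective D₂ ∧ D = D₁ * D₂⁻¹ ∧
      Mero.supp D₁ ⊆ Mero.supp D ∧ Mero.supp D₂ ⊆ Mero.supp D := by
  classical
  obtain ⟨hfin, hcl⟩ := Groth.Agent.H29Mero.finite_support_of_mem hC D.2
  have h : ∀ x : C, ∃ a b : Mero.regStalk C x,
      D.1 x = Groth.Agent.H29Mero.cls x a * (Groth.Agent.H29Mero.cls x b)⁻¹ := fun x ↦ by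
    obtain ⟨k, hk⟩ := QuotientGroup.mk_surjective (D.1 x)
    rw [← hk]
    exact Groth.Agent.H29Mero.decompose x k
  choose a b hab using h
  have mk : ∀ c : ∀ x : C, Mero.regStalk C x, ∃ E : Mero.Divisor C, Mero.IsEffective E ∧
      ∀ x, E.1 x = if D.1 x = 1 then 1 else Groth.Agent.H29Mero.cls x (c x) := by
    intro c
    refine ⟨⟨fun x ↦ if D.1 x = 1 then 1 else Groth.Agent.H29Mero.cls x (c x),
      Groth.Agent.H29Mero.mem_of_finite_support hC ?_ ?_⟩, fun x ↦ ?_, fun x ↦ rfl⟩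
    · exact hfin.subset fun x hx hD ↦ hx (if_pos hD)
    · exact fun x hx ↦ if_pos (hcl x hx)
    · by_cases hD : D.1 x = 1
      · exact ⟨1, (if_pos hD).trans (Groth.Agent.H29Mero.cls_one x).symm⟩
      · exact ⟨c x, if_neg hD⟩
  obtain ⟨D₁, h₁, e₁⟩ := mk a
  obtain ⟨D₂, h₂, e₂⟩ := mk b
  refine ⟨D₁, D₂, h₁, h₂, Subtype.ext (funext fun x ↦ ?_), fun x hx hD ↦ hx ?_, fun x hx hD ↦ hx ?_⟩
  · change D.1 x = D₁.1 x * (D₂.1 x)⁻¹
    rw [e₁, e₂]
    by_cases hD : D.1 x = 1
    · rw [if_pos hD, if_pos hD, inv_one, hD]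
      exact (mul_one (1 : Mero.Germ C x)).symm
    · rw [if_neg hD, if_neg hD]; exact hab x
  · rw [e₁, if_pos hD]
  · rw [e₂, if_pos hD]

end Groth.Agent.S10894
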