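import Groth.Statements.S10895
import Groth.Agent.H8Props.Reduced
import Mathlib.AlgebraicGeometry.Morphisms.Affine

set_option autoImplicit false
universe u
open CategoryTheory AlgebraicGeometry
open FlatMor

namespace Groth.Agent.S10895

/-- A closed immersion of finite presentation which is flat at a point x is an isomorphism over some
open neighbourhood of the image of x. -/
theorem result {X Y : Scheme.{u}} (f : X ⟶ Y) [IsClosedImmersion f]
    [LocallyOfFinitePresentation f] (x : X) (hflat : (f.stalkMap x).hom.Flat) :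
    ∃ V : Y.Opens, f.base x ∈ V ∧ IsIso (f ∣_ V) := by
  obtain ⟨V, hV, hxV, -⟩ : ∃ V : Y.Opens, IsAffineOpen V ∧ f.base x ∈ V ∧ V ≤ ⊤ :=
    TopologicalSpace.Opens.isBasis_iff_nbhd.mp Y.isBasis_affineOpens (U := ⊤) trivial
  have hU : IsAffineOpen (f ⁻¹ᵁ V) := hV.preimage f
  have hfg : (RingHom.ker (f.app V).hom).FG := by
    have h := f.finitePresentation_appLE hV hU le_rfl
    rw [← Scheme.Hom.app_eq_appLE] at h
    algebraize [(f.app V).hom]
    exact Algebra.FinitePresentation.ker_fG_of_surjective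
      (Algebra.ofId Γ(Y, V) Γ(X, f ⁻¹ᵁ V)) (f.app_surjective V hV)
  obtain ⟨T, hT⟩ := hfg
  have hbij := H8Props.bijective_stalkMap_of_flat f x hflat
  have key : ∀ a ∈ T, ∃ W : Y.Opens, f.base x ∈ W ∧ ∃ h : W ≤ V, Y.presheaf.map (homOfLE h).op a = 0 := by
    intro a ha
    have h1 : (f.app V).hom a = 0 := hT.le (Ideal.subset_span ha)
    have h2 : Y.presheaf.germ V (f.base x) hxV a = 0 := hbij.1 (by
      rw [map_zero]
      show (Y.presheaf.germ V (f.base x) hxV ≫ f.stalkMap x).hom a = 0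
      rw [Scheme.Hom.germ_stalkMap]
      show (X.presheaf.germ (f ⁻¹ᵁ V) x hxV).hom ((f.app V).hom a) = 0
      rw [h1, map_zero])
    rw [← map_zero (Y.presheaf.germ V (f.base x) hxV).hom] at h2
    obtain ⟨W, hxW, i₁, i₂, h3⟩ := Y.presheaf.germ_eq (f.base x) hxV hxV a 0 h2
    exact ⟨W, hxW, i₁.le, h3.trans (map_zero _)⟩
  choose! W hxW hWV hW using key
  obtain ⟨g, hgle, hxg⟩ := hV.exists_basicOpen_le
    (V := T.inf W) ⟨f.base x, by
      refine Finset.inf_induction (p := fun O : Y.Opens ↦ f.base x ∈ O) trivial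
        (fun a ha b hb ↦ ⟨ha, hb⟩) hxW⟩ hxV
  refine ⟨Y.basicOpen g, hxg, (isIso_morphismRestrict_iff_isIso_app f (hV.basicOpen g)).mpr ?_⟩
  rw [ConcreteCategory.isIso_iff_bijective]
  refine ⟨(injective_iff_map_eq_zero _).mpr fun b hb ↦ ?_, f.app_surjective _ (hV.basicOpen g)⟩
  have hker : b ∈ f.ker.ideal ⟨Y.basicOpen g, hV.basicOpen g⟩ := by
    rw [Scheme.Hom.ker_apply]; exact hb
  change b ∈ f.ker.ideal (Y.affineBasicOpen (U := ⟨V, hV⟩) g) at hker
  rw [← f.ker.map_ideal_basicOpen ⟨V, hV⟩ g, Scheme.Hom.ker_apply, ← hT, Ideal.map_span] at hker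
  refine Submodule.span_induction ?_ rfl (fun _ _ _ _ h h' ↦ by rw [h, h', add_zero])
    (fun c _ _ h ↦ by rw [smul_eq_mul, h, mul_zero]) hker
  rintro _ ⟨a, ha, rfl⟩
  have hle : Y.basicOpen g ≤ W a := hgle.trans (Finset.inf_le ha)
  show Y.presheaf.map _ a = 0
  rw [show (homOfLE (Y.basicOpen_le g)).op = (homOfLE (hWV a ha)).op ≫ (homOfLE hle).op from rfl,
    Functor.map_comp, CommRingCat.comp_apply, hW a ha, map_zero]

end Groth.Agent.S10895
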