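import Groth.Statements.S10896
import Groth.Agent.H25Cubic.TwentySeven

set_option autoImplicit false
universe u
open Cubic

namespace Groth.Agent.S10896

/-- Over an algebraically closed field of characteristic zero, a smooth cubic surface S = V_+(f) ⊂ P^3
which contains a line contains two disjoint lines (2-dimensional subspaces of k^4 on which f
vanishes and which intersect trivially). -/
theorem result (k : Type u) [Field k] [IsAlgClosed k] [CharZero k]
    (f : MvPolynomial (Fin 4) k) (hf : f.IsHomogeneous 3) (hf0 : f ≠ 0)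
    (hsm : ∀ v : Fin 4 → k, v ≠ 0 → MvPolynomial.eval v f = 0 →
      ∃ i : Fin 4, MvPolynomial.eval v (MvPolynomial.pderiv i f) ≠ 0)
    (hL : ∃ U : Submodule k (Fin 4 → k), (Module.finrank k ↥U = 2 ∧ ∀ u ∈ U, MvPolynomial.eval u f = 0)) :
    ∃ U₁ U₂ : Submodule k (Fin 4 → k), (Module.finrank k ↥U₁ = 2 ∧ ∀ u ∈ U₁, MvPolynomial.eval u f = 0) ∧ (Module.finrank k ↥U₂ = 2 ∧ ∀ u ∈ U₂, MvPolynomial.eval u f = 0) ∧ U₁ ⊓ U₂ = ⊥ := by
  obtain ⟨L, hL⟩ := hL
  exact H25Cubic.disjoint_lines hf hsm (L := L) hL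

end Groth.Agent.S10896
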