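import Groth.Statements.S10897
import Groth.Agent.H25Cubic.Lines

set_option autoImplicit false
universe u
open Cubic

namespace Groth.Agent.S10897

/-- Over an algebraically closed field of characteristic zero, through a point s of a smooth cubic
surface S = V_+(f) ⊂ P^3 there pass at most three lines contained in S, and these lines are
coplanar. With s given by a nonzero vector v with f(v) = 0, the lines through s on S are the
2-dimensional subspaces of k^4 containing v on which f vanishes; there are at most three of them and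
one 3-dimensional subspace contains them all. -/
theorem result (k : Type u) [Field k] [IsAlgClosed k] [CharZero k]
    (f : MvPolynomial (Fin 4) k) (hf : f.IsHomogeneous 3) (hf0 : f ≠ 0)
    (hsm : ∀ v : Fin 4 → k, v ≠ 0 → MvPolynomial.eval v f = 0 →
      ∃ i : Fin 4, MvPolynomial.eval v (MvPolynomial.pderiv i f) ≠ 0)
    (v : Fin 4 → k) (hv : v ≠ 0) (hfv : MvPolynomial.eval v f = 0) :
    {U : Submodule k (Fin 4 → k) | v ∈ U ∧ (Module.finrank k ↥U = 2 ∧ ∀ u ∈ U, MvPolynomial.eval u f = 0)}.Finite ∧
      {U : Submodule k (Fin 4 → k) | v ∈ U ∧ (Module.finrank k ↥U = 2 ∧ ∀ u ∈ U, MvPolynomial.eval u f = 0)}.ncard ≤ 3 ∧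
      ∃ H : Submodule k (Fin 4 → k), Module.finrank k ↥H = 3 ∧
        ∀ U : Submodule k (Fin 4 → k), v ∈ U → (Module.finrank k ↥U = 2 ∧ ∀ u ∈ U, MvPolynomial.eval u f = 0) → U ≤ H := by
  exact Groth.Agent.H25Cubic.lines_through_point hf hsm v hv hfv

end Groth.Agent.S10897
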