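import Groth.Statements.S10898
import Groth.Agent.H22Alg.PolyHeightOne

set_option autoImplicit false
universe u
open Polynomial
open WDiv

namespace Groth.Agent.S10898

/-- Let A be a Noetherian integral domain and P a prime ideal of height 1 of the polynomial ring A[X].
Then either P meets A in 0 only, or its contraction p = P ∩ A is a prime of height 1 of A and P is
the extension p·A[X]. (The published lemma also assumes A regular in codimension 1; that hypothesis
is not used for this assertion.) -/
theorem result (A : Type u) [CommRing A] [IsDomain A]
    [IsNoetherianRing A] (P : Ideal A[X]) [P.IsPrime] (hP : P.height = 1) :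
    P.comap (C : A →+* A[X]) = ⊥ ∨
      ((P.comap (C : A →+* A[X])).height = 1 ∧ P = (P.comap (C : A →+* A[X])).map C) := by
  exact Groth.Agent.H22Alg.comap_C_cases P hP

end Groth.Agent.S10898
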