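import Groth.Statements.S10900
import Mathlib
import Groth.Agent.H22Alg.WDivAffine

set_option autoImplicit false
universe u
open CategoryTheory CategoryTheory.Limits AlgebraicGeometry TopologicalSpace
open WDiv

namespace Groth.Agent.S10900

/-- Let X be an integral Noetherian separated scheme which is regular in codimension 1 (the local ring
at every point of codimension 1, i.e. of coheight 1 in the specialization order, is a discrete
valuation ring), and let p : A^m_X → X be the affine m-space over X. Pulling back Weil divisors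
along p (a divisor D, viewed as an integer-valued function on the codimension-1 points of X with
finite support, goes to y ↦ D(p(y)) on the codimension-1 points of A^m_X) induces an injective map
on divisor class groups: if the pulled-back divisor is the divisor of a nonzero rational function on
A^m_X, then D is the divisor of a nonzero rational function on X. -/
theorem result (m : ℕ) (X : Scheme.{u}) [IsIntegral X]
    [IsNoetherian X] [X.IsSeparated] [IsLocallyNoetherian 𝔸(ULift.{u} (Fin m); X)]
    (hR1 : ∀ x : ↥X, Order.coheight x = 1 → IsDiscreteValuationRing ↑(X.presheaf.stalk x))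
    (D : ↥X → ℤ) (hD : ∀ x, Order.coheight x ≠ 1 → D x = 0) (hfin : {x | D x ≠ 0}.Finite)
    (g : ↑(𝔸(ULift.{u} (Fin m); X)).functionField) (hg : g ≠ 0)
    (h : ∀ y : ↥(𝔸(ULift.{u} (Fin m); X)), Order.coheight y = 1 →
      Scheme.ord g y = D ((𝔸(ULift.{u} (Fin m); X) ↘ X) y)) :
    ∃ f : ↑X.functionField, f ≠ 0 ∧ ∀ x : ↥X, Order.coheight x = 1 → Scheme.ord f x = D x := by
  haveI : Finite (ULift.{u} (Fin m)) := inferInstance
  have hch : ∀ x : ↥X, ∃ c : H22Alg.WDivChart.Chart (𝔸(ULift.{u} (Fin m); X) ↘ X),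
      x ∈ c.U ∧ ∀ y, (𝔸(ULift.{u} (Fin m); X) ↘ X) y ∈ c.U → y ∈ c.V := fun x => by
    obtain ⟨U, hU, hxU, -⟩ := exists_isAffineOpen_mem_and_subset (X := X) (x := x) (U := ⊤) trivial
    haveI : Nonempty U := ⟨⟨x, hxU⟩⟩
    obtain ⟨c, h1, h2⟩ := H22Alg.WDivChart.exists_chart_affineSpace (ULift.{u} (Fin m)) U hU
    exact ⟨c, h1 ▸ hxU, fun y hy => by rw [h2]; rw [h1] at hy; exact hy⟩
  obtain ⟨c₀, hc₀, hV₀⟩ := hch (genericPoint X)
  obtain ⟨f, hf, hfg⟩ := c₀.exists_pull_eq hg fun y _ hy hpy => by
    rw [h y hy, hpy, hD _ H22Alg.WDivChart.coheight_genericPoint_ne_one]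
  exact ⟨f, hf, H22Alg.WDivChart.exists_ord_eq hR1 (fun x => (hch x).imp fun _ hc => hc.1) D g f hf
    c₀.dominant hfg fun y hy _ => h y hy⟩

end Groth.Agent.S10900
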