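import Groth.Statements.S10901
import Mathlib
import Groth.Agent.H22Alg.WDivAffine

set_option autoImplicit false
universe u
open CategoryTheory CategoryTheory.Limits AlgebraicGeometry TopologicalSpace
open WDiv

namespace Groth.Agent.S10901

/-- Let X be an integral Noetherian separated scheme which is regular in codimension 1 (the local ring
at every point of coheight 1 is a discrete valuation ring), and p : A^m_X → X the affine m-space
over X. Then pulling back along p is surjective on divisor classes: for every Weil divisor D' on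
A^m_X (an integer-valued function on its points with finite support inside the points of coheight 1)
there are a Weil divisor D on X and a nonzero rational function g on A^m_X such that D'(y) = D(p(y))
+ ord_y(g) at every point y of A^m_X of coheight 1. -/
theorem result (m : ℕ) (X : Scheme.{u}) [IsIntegral X]
    [IsNoetherian X] [X.IsSeparated] [IsLocallyNoetherian 𝔸(ULift.{u} (Fin m); X)]
    (hR1 : ∀ x : ↥X, Order.coheight x = 1 → IsDiscreteValuationRing ↑(X.presheaf.stalk x))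
    (D' : ↥(𝔸(ULift.{u} (Fin m); X)) → ℤ) (hD' : ∀ y, Order.coheight y ≠ 1 → D' y = 0) (hfin : {y | D' y ≠ 0}.Finite) :
    ∃ (D : ↥X → ℤ) (g : ↑(𝔸(ULift.{u} (Fin m); X)).functionField), (∀ x, Order.coheight x ≠ 1 → D x = 0) ∧
      {x | D x ≠ 0}.Finite ∧ g ≠ 0 ∧
        ∀ y : ↥(𝔸(ULift.{u} (Fin m); X)), Order.coheight y = 1 → D' y = D ((𝔸(ULift.{u} (Fin m); X) ↘ X) y) + Scheme.ord g y := by
  haveI : Finite (ULift.{u} (Fin m)) := inferInstance
  have hch : ∀ x : ↥X, ∃ c : H22Alg.WDivChart.Chart (𝔸(ULift.{u} (Fin m); X) ↘ X),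
      x ∈ c.U ∧ ∀ y, (𝔸(ULift.{u} (Fin m); X) ↘ X) y ∈ c.U → y ∈ c.V := fun x => by
    obtain ⟨U, hU, hxU, -⟩ := exists_isAffineOpen_mem_and_subset (X := X) (x := x) (U := ⊤) trivial
    haveI : Nonempty U := ⟨⟨x, hxU⟩⟩
    obtain ⟨c, h1, h2⟩ := H22Alg.WDivChart.exists_chart_affineSpace (ULift.{u} (Fin m)) U hU
    exact ⟨c, h1 ▸ hxU, fun y hy => by rw [h2]; rw [h1] at hy; exact hy⟩
  obtain ⟨c₀, hc₀, hV₀⟩ := hch (genericPoint X)
  classical
  obtain ⟨g, hg, hgn⟩ := c₀.exists_horiz D' hfin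
  have hov : ∀ x : ↥X, Order.coheight x = 1 → ∃ y, (𝔸(ULift.{u} (Fin m); X) ↘ X) y = x ∧ Order.coheight y = 1 :=
    fun x hx => by
      obtain ⟨c, hc, -⟩ := hch x
      obtain ⟨y, -, h1, h2⟩ := c.exists_over hc hx
      exact ⟨y, h1, h2⟩
  choose Y hY hY1 using hov
  haveI : CompactSpace ↥(𝔸(ULift.{u} (Fin m); X)) :=
    QuasiCompact.compactSpace_of_compactSpace (𝔸(ULift.{u} (Fin m); X) ↘ X)
  let D : ↥X → ℤ := fun x => if hx : Order.coheight x = 1 then D' (Y x hx) - Scheme.ord g (Y x hx) else 0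
  refine ⟨D, g, fun x hx => dif_neg hx, ?_, hg, fun y hy => ?_⟩
  · refine ((hfin.union (H22Alg.WDivChart.finite_ord g)).image (𝔸(ULift.{u} (Fin m); X) ↘ X)).subset fun x hx => ?_
    by_cases hx1 : Order.coheight x = 1
    · refine ⟨Y x hx1, ?_, hY x hx1⟩
      by_contra hn
      simp only [Set.mem_union, Set.mem_setOf_eq, not_or, not_not] at hn
      exact hx (by simp only [D, dif_pos hx1, hn.1, hn.2, sub_zero])
    · exact absurd (dif_neg hx1) hx
  · by_cases hpy : (𝔸(ULift.{u} (Fin m); X) ↘ X) y = genericPoint X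
    · have h0 : D (genericPoint X) = 0 := dif_neg H22Alg.WDivChart.coheight_genericPoint_ne_one
      rw [hpy, h0, hgn y (hV₀ y (hpy.symm ▸ hc₀)) hy hpy, zero_add]
    · obtain ⟨c, hc, hV⟩ := hch ((𝔸(ULift.{u} (Fin m); X) ↘ X) y)
      obtain ⟨hx1, -⟩ := c.coheight_cases (hV y hc) hy hpy
      have hYy : Y _ hx1 = y := c.unique_over (hV _ ((hY _ hx1).symm ▸ hc)) (hV y hc) (hY1 _ hx1) hy (hY _ hx1)
        ((hY _ hx1).symm ▸ hpy)
      simp only [D, dif_pos hx1, hYy, sub_add_cancel]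

end Groth.Agent.S10901
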