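import Groth.Statements.S10902
import Mathlib
import Groth.Agent.H8Props.FieldDimRing

set_option autoImplicit false
universe u
open TensorProduct
open SmVar

namespace Groth.Agent.S10902

open KaehlerDifferential

section
variable (k K : Type u) [Field k] [Field K] [Algebra k K] [Algebra.EssFiniteType k K]

lemma trdeg_le_finrank : Algebra.trdeg k K ≤ Module.finrank K Ω[K⁄k] := by
  obtain ⟨T, hT, hspanT, hli⟩ := exists_linearIndependent K (Set.range (D k K))
  rw [span_range_derivation] at hspanT
  have hTfin : T.Finite := hli.setFinite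
  have hcard : T.ncard = Module.finrank K Ω[K⁄k] := by
    haveI := hTfin.fintype
    rw [Module.finrank_eq_card_basis (Module.Basis.mk hli (by rw [Subtype.range_coe]; exact hspanT.ge)),
      ← Nat.card_eq_fintype_card, Nat.card_coe_set_eq]
  choose g hg using hT
  let s : Set K := Set.range fun t : T => g t.2
  let F := IntermediateField.adjoin k s
  haveI : Algebra.EssFiniteType F K := Algebra.EssFiniteType.of_comp k F K
  haveI hsub : Subsingleton Ω[K⁄F] := by
    have hsurj := map_surjective k F K
    have hker : LinearMap.ker (map k F K K) = ⊤ := by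
      rw [eq_top_iff, ← hspanT, Submodule.span_le]
      intro t ht
      rw [SetLike.mem_coe, LinearMap.mem_ker, ← hg ht, map_D]
      exact (D F K).map_algebraMap ⟨g ht, IntermediateField.subset_adjoin k s ⟨⟨t, ht⟩, rfl⟩⟩
    refine subsingleton_of_forall_eq 0 fun x => ?_
    obtain ⟨y, rfl⟩ := hsurj x
    exact LinearMap.mem_ker.mp (hker ▸ Submodule.mem_top)
  haveI : Algebra.FormallyUnramified F K := ⟨hsub⟩
  haveI : Algebra.IsSeparable F K := Algebra.FormallyUnramified.isSeparable F K
  haveI hF : Algebra.IsAlgebraic F K := Algebra.IsSeparable.isAlgebraic F K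
  haveI : Algebra.IsAlgebraic (Algebra.adjoin k s) K := IntermediateField.isAlgebraic_adjoin_iff_top.mp hF
  calc Algebra.trdeg k K ≤ Cardinal.mk s := Algebra.IsAlgebraic.trdeg_le_cardinalMk k s
    _ ≤ Cardinal.mk T := Cardinal.mk_range_le
    _ = Module.finrank K Ω[K⁄k] := by rw [← hcard, Set.cast_ncard hTfin]

end

section
variable (A M : Type u) [CommRing A] [AddCommGroup M] [Module A M] [Module.Finite A M]

lemma finrank_tensor_residueField_le {q P : Ideal A} [q.IsPrime] [P.IsPrime] (h : q ≤ P) :
    Module.finrank q.ResidueField (q.ResidueField ⊗[A] M)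
      ≤ Module.finrank P.ResidueField (P.ResidueField ⊗[A] M) := by
  classical
  obtain ⟨T, hT, hspanT, hli⟩ := exists_linearIndependent P.ResidueField
    (Set.range fun m : M => (1 : P.ResidueField) ⊗ₜ[A] m)
  have htop : Submodule.span P.ResidueField (Set.range fun m : M => (1 : P.ResidueField) ⊗ₜ[A] m) = ⊤ := by
    rw [eq_top_iff]
    rintro x -
    induction x with
    | zero => exact zero_mem _
    | add x y hx hy => exact add_mem hx hy
    | tmul c m =>
      rw [show c ⊗ₜ[A] m = c • ((1 : P.ResidueField) ⊗ₜ[A] m) by
        rw [TensorProduct.smul_tmul', smul_eq_mul, mul_one]]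
      exact Submodule.smul_mem _ _ (Submodule.subset_span ⟨m, rfl⟩)
  rw [htop] at hspanT
  have hTfin : T.Finite := hli.setFinite
  haveI := hTfin.fintype
  have hcard : Fintype.card T = Module.finrank P.ResidueField (P.ResidueField ⊗[A] M) :=
    (Module.finrank_eq_card_basis (Module.Basis.mk hli (by rw [Subtype.range_coe]; exact hspanT.ge))).symm
  choose g hg using hT
  let N : Submodule A M := Submodule.span A (Set.range fun t : T => g t.2)
  have hzero : ∀ (r : Ideal A) [r.IsPrime], Subsingleton (r.ResidueField ⊗[A] (M ⧸ N)) ↔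
      (⟨r, inferInstance⟩ : PrimeSpectrum A) ∉ Module.support A (M ⧸ N) := fun r _ => by
    rw [Module.mem_support_iff_nontrivial_residueField_tensorProduct, not_nontrivial_iff_subsingleton]
  have hP : Subsingleton (P.ResidueField ⊗[A] (M ⧸ N)) := by
    let π := N.mkQ.baseChange P.ResidueField
    have hπs : Function.Surjective π := fun x => by
      obtain ⟨y, hy⟩ := LinearMap.lTensor_surjective P.ResidueField N.mkQ_surjective x
      exact ⟨y, hy⟩
    have hker : LinearMap.ker π = ⊤ := by
      rw [eq_top_iff, ← hspanT, Submodule.span_le]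
      intro t ht
      rw [SetLike.mem_coe, LinearMap.mem_ker, ← hg ht, LinearMap.baseChange_tmul,
        Submodule.mkQ_apply,
        (Submodule.Quotient.mk_eq_zero N).mpr (Submodule.subset_span ⟨⟨t, ht⟩, rfl⟩), TensorProduct.tmul_zero]
    refine subsingleton_of_forall_eq 0 fun x => ?_
    obtain ⟨y, rfl⟩ := hπs x
    exact LinearMap.mem_ker.mp (hker ▸ Submodule.mem_top)
  have hq : Subsingleton (q.ResidueField ⊗[A] (M ⧸ N)) := by
    rw [hzero]
    intro hc
    exact (hzero P).mp hP (Module.mem_support_mono (p := ⟨q, inferInstance⟩) (q := ⟨P, inferInstance⟩) h hc)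
  have hsur : Function.Surjective (N.subtype.lTensor q.ResidueField) := by
    intro x
    exact (lTensor_exact q.ResidueField (LinearMap.exact_subtype_mkQ N) N.mkQ_surjective x).mp
      (Subsingleton.elim _ _)
  have hspanq : Submodule.span q.ResidueField (Set.range fun t : T => (1 : q.ResidueField) ⊗ₜ[A] g t.2) = ⊤ := by
    rw [eq_top_iff]
    rintro x -
    obtain ⟨y, rfl⟩ := hsur x
    induction y with
    | zero => simp
    | add a b ha hb => rw [map_add]; exact add_mem ha hb
    | tmul c n =>
      rw [LinearMap.lTensor_tmul, show c ⊗ₜ[A] N.subtype n = c • ((1 : q.ResidueField) ⊗ₜ[A] (n : M)) by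
        rw [TensorProduct.smul_tmul', smul_eq_mul, mul_one]; rfl]
      refine Submodule.smul_mem _ _ ?_
      obtain ⟨n, hn⟩ := n
      simp only
      induction hn using Submodule.span_induction with
      | mem m hm => obtain ⟨t, rfl⟩ := hm; exact Submodule.subset_span ⟨t, rfl⟩
      | zero => rw [TensorProduct.tmul_zero]; exact zero_mem _
      | add a b _ _ ha hb => rw [TensorProduct.tmul_add]; exact add_mem ha hb
      | smul a m _ hm => rw [TensorProduct.tmul_smul]; exact Submodule.smul_of_tower_mem _ a hm
  rw [← hcard, ← finrank_top, ← hspanq]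
  exact finrank_range_le_card _

end

/-- Let k be a field and A a k-algebra of finite type (X = Spec A a k-scheme of finite type), P a prime
ideal of A, and suppose P contains a prime q with dim A/q ≥ n, i.e. the point P lies on an
irreducible component of X of dimension at least n. Then the fibre at P of the sheaf of
differentials of X over k has dimension at least n over the residue field: dim_{κ(P)} (κ(P) ⊗_A
Ω_{A/k}) ≥ n. (The published statement asks every irreducible component of X to have dimension ≥ n
and concludes this at every point.) -/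
theorem result (k : Type u) [Field k]
    (A : Type u) [CommRing A] [Algebra k A] [Algebra.FiniteType k A] (n : ℕ)
    (P : Ideal A) [P.IsPrime] (q : Ideal A) [q.IsPrime] (hqP : q ≤ P)
    (hq : (n : WithBot ℕ∞) ≤ ringKrullDim (A ⧸ q)) :
    n ≤ Module.finrank P.ResidueField (P.ResidueField ⊗[A] (Ω[A⁄k])) := by
  haveI : Module.Finite A Ω[A⁄k] := inferInstance
  refine le_trans ?_ (finrank_tensor_residueField_le A Ω[A⁄k] hqP)
  haveI : Algebra.EssFiniteType A q.ResidueField :=
    Algebra.EssFiniteType.comp A (Localization.AtPrime q) q.ResidueField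
  haveI : Algebra.EssFiniteType k q.ResidueField := Algebra.EssFiniteType.comp k A q.ResidueField
  haveI : Algebra.FormallyUnramified A (Localization.AtPrime q) :=
    Algebra.FormallyUnramified.of_isLocalization q.primeCompl
  haveI : Algebra.FormallyUnramified A q.ResidueField :=
    Algebra.FormallyUnramified.comp A (Localization.AtPrime q) q.ResidueField
  have hsur : Function.Surjective (mapBaseChange k A q.ResidueField) := by
    rw [← LinearMap.range_eq_top, range_mapBaseChange, eq_top_iff]
    intro x _
    exact LinearMap.mem_ker.mpr (Subsingleton.elim _ _)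
  have hfin : Module.Finite q.ResidueField (q.ResidueField ⊗[A] Ω[A⁄k]) := inferInstance
  refine le_trans ?_ (LinearMap.finrank_le_finrank_of_injective
    (f := ((LinearMap.dualMap (mapBaseChange k A q.ResidueField)))) (LinearMap.dualMap_injective_of_surjective hsur) |>.trans_eq Subspace.dual_finrank_eq)
  rw [Subspace.dual_finrank_eq]
  haveI : IsDomain (A ⧸ q) := Ideal.Quotient.isDomain q
  haveI : Algebra.FiniteType k (A ⧸ q) :=
    Algebra.FiniteType.of_surjective (Ideal.Quotient.mkₐ k q) Ideal.Quotient.mk_surjective
  obtain ⟨s, hs1, hs2⟩ := Groth.Agent.H8Props.FieldDim.exists_dim_trdeg k (A ⧸ q)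
  haveI : IsScalarTower k (A ⧸ q) q.ResidueField := IsScalarTower.of_algebraMap_eq fun x => by
    rw [IsScalarTower.algebraMap_apply k A q.ResidueField, IsScalarTower.algebraMap_apply k A (A ⧸ q)]
    rfl
  haveI : FaithfulSMul (A ⧸ q) q.ResidueField :=
    (faithfulSMul_iff_algebraMap_injective _ _).mpr (IsFractionRing.injective _ _)
  haveI : Algebra.IsAlgebraic (A ⧸ q) q.ResidueField := IsLocalization.isAlgebraic _ (nonZeroDivisors (A ⧸ q))
  have h := trdeg_add_eq k (A ⧸ q) (A := q.ResidueField)
  rw [trdeg_eq_zero_iff.2 (inferInstance : Algebra.IsAlgebraic (A ⧸ q) q.ResidueField), add_zero, hs2] at h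
  have h2 := trdeg_le_finrank k q.ResidueField
  rw [← h, Nat.cast_le] at h2
  rw [hs1] at hq
  exact le_trans (by exact_mod_cast hq) h2

end Groth.Agent.S10902
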