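import Groth.Statements.S10904
import Groth.Agent.H11Misc.HilbertDeg

set_option autoImplicit false
universe u
open Polynomial
open ProjDeg

namespace Groth.Agent.S10904

/-- Let k be a field, R = k[X_0, …, X_n] graded by degree, I a homogeneous prime ideal of R, f a
homogeneous element of degree d ≥ 1 not in I, and I' = I + (f). Let P be the Hilbert polynomial of
R/I and Q that of R/I': rational polynomials whose value at every large integer m is the k-dimension
of the degree-m piece, i.e. dim R_m − dim (I ∩ R_m). Assume P has degree at least 1, i.e. the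
projective variety V(I) ⊆ P^n_k has dimension ≥ 1. Then Q has degree deg P − 1, and the degrees of
the projective schemes, (degree of the Hilbert polynomial)! times its leading coefficient, satisfy
deg V(I') = d · deg V(I). (The published statement has no dimension hypothesis; for V(I) a single
point the left side is 0 and the right side is d · deg V(I) ≠ 0, and the printed proof uses dim
V(I') = dim V(I) − 1.) -/
theorem result (k : Type u) [Field k] (n : ℕ)
    (I : Ideal (MvPolynomial (Fin (n + 1)) k)) (hIh : I.IsHomogeneous (CohB1.polyGrading n k)) [I.IsPrime]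
    (f : MvPolynomial (Fin (n + 1)) k) (d : ℕ) (hd : 0 < d) (hf : f.IsHomogeneous d) (hfI : f ∉ I)
    (P Q : ℚ[X])
    (hP : ∃ m₀ : ℕ, ∀ m : ℕ, m₀ ≤ m → P.eval (m : ℚ) =
      (Module.finrank k ↥(CohB1.polyGrading n k m) : ℚ) -
        Module.finrank k ↥(Submodule.restrictScalars k I ⊓ CohB1.polyGrading n k m))
    (hQ : ∃ m₀ : ℕ, ∀ m : ℕ, m₀ ≤ m → Q.eval (m : ℚ) =
      (Module.finrank k ↥(CohB1.polyGrading n k m) : ℚ) -
        Module.finrank k ↥(Submodule.restrictScalars k (I ⊔ Ideal.span {f}) ⊓ CohB1.polyGrading n k m))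
    (hdim : 1 ≤ P.natDegree) :
    Q.natDegree + 1 = P.natDegree ∧
      (Q.natDegree.factorial : ℚ) * Q.leadingCoeff =
        d * ((P.natDegree.factorial : ℚ) * P.leadingCoeff) := by
  open Polynomial H11Misc.HilbertDeg in
  classical
  obtain ⟨D, hD, h0, hpos⟩ := hilb_spec hIh (‹I.IsPrime›).ne_top (P := P) hP
  rcases D with _ | N
  · rw [h0 rfl] at hdim; simp at hdim
  obtain ⟨hN, hlc⟩ := hpos N rfl
  obtain ⟨t, rfl⟩ : ∃ t, N = t + 1 := ⟨N - 1, by omega⟩
  have hfd : f ∈ CohB1.polyGrading n k d := hf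
  have hcolon : I.colon {f} = I := le_antisymm
    (fun z hz => ((‹I.IsPrime›).mem_or_mem (Submodule.mem_colon_singleton.1 hz)).resolve_right hfI)
    fun z hz => Submodule.mem_colon_singleton.2 (I.mul_mem_right _ hz)
  obtain ⟨mP, hmP⟩ := hP
  have hQeq : Q = P - P.comp (X - C (d : ℚ)) := IsHilb.unique (I := I ⊔ Ideal.span {f}) hQ ⟨mP + d, fun m hm => by
    obtain ⟨j, rfl⟩ := Nat.exists_eq_add_of_le' (show d ≤ m by omega)
    rw [eval_sub, eval_comp, eval_sub, eval_X, eval_C, show ((j + d : ℕ) : ℚ) - (d : ℚ) = (j : ℚ) by push_cast; ring,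
      hfun_sup_span hIh hfd, hcolon, hmP _ (by omega), hmP _ (by omega)]
    rfl⟩
  have hcoef : Q.coeff t = (t + 1) * (d : ℚ) * P.coeff (t + 1) := hQeq ▸ coeff_sub_comp hN.le _
  have hQle : Q.natDegree ≤ t := hQeq ▸ H05EGA4.Samuel.natDegree_sub_comp_le hN.le _
  rw [leadingCoeff, hN] at hlc
  have hne : Q.coeff t ≠ 0 := by
    rw [hcoef]
    have : (0 : ℚ) < d := by exact_mod_cast hd
    positivity
  have hQN : Q.natDegree = t := le_antisymm hQle (le_natDegree_of_ne_zero hne)
  refine ⟨by omega, ?_⟩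
  rw [hN, leadingCoeff, leadingCoeff, hQN, hN, hcoef, Nat.factorial_succ]
  push_cast
  ring

end Groth.Agent.S10904
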