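import Groth.Statements.S10905
import Groth.Agent.H11Misc.HilbertDeg
import Groth.Agent.S10904

set_option autoImplicit false
universe u
open Polynomial
open ProjDeg

namespace Groth.Agent.S10905

/-- Let k be a field, R = k[X_0, …, X_n] graded by degree, I a homogeneous prime ideal whose Hilbert
polynomial P (a rational polynomial with P(m) = dim_k R_m − dim_k (I ∩ R_m) for all large m) has
degree ≥ 1, so that Y = V(I) is a projective variety of dimension ≥ 1; let f ∉ I be homogeneous of
degree d ≥ 1, I' = I + (f), and p_1, …, p_r the minimal prime ideals over I' (listed without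
repetition), with Hilbert polynomials Q_i. Define the degree of V(J) as (degree of its Hilbert
polynomial)! times the leading coefficient, and the intersection multiplicity of I and (f) at p_i as
the length of (R/I')_{p_i} over R_{p_i}. Then d · deg Y = Σ_i deg V(p_i) · i(I, (f); p_i). (The
published statement has no dimension hypothesis; for Y a single point the only minimal prime over I'
is the irrelevant ideal, whose Hilbert polynomial is 0, so the right side vanishes while the left
side does not.) -/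
theorem result (k : Type u) [Field k] (n : ℕ)
    (I : Ideal (MvPolynomial (Fin (n + 1)) k)) (hIh : I.IsHomogeneous (CohB1.polyGrading n k)) [I.IsPrime]
    (f : MvPolynomial (Fin (n + 1)) k) (d : ℕ) (hd : 0 < d) (hf : f.IsHomogeneous d) (hfI : f ∉ I)
    (P : ℚ[X])
    (hP : ∃ m₀ : ℕ, ∀ m : ℕ, m₀ ≤ m → P.eval (m : ℚ) =
      (Module.finrank k ↥(CohB1.polyGrading n k m) : ℚ) -
        Module.finrank k ↥(Submodule.restrictScalars k I ⊓ CohB1.polyGrading n k m))
    (hdim : 1 ≤ P.natDegree)
    (r : ℕ) (p : Fin r → Ideal (MvPolynomial (Fin (n + 1)) k)) [hp : ∀ i, (p i).IsPrime] (hpinj : Function.Injective p)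
    (hpmin : ∀ q : Ideal (MvPolynomial (Fin (n + 1)) k), q ∈ (I ⊔ Ideal.span {f}).minimalPrimes ↔ ∃ i, q = p i)
    (Qp : Fin r → ℚ[X])
    (hQp : ∀ i, ∃ m₀ : ℕ, ∀ m : ℕ, m₀ ≤ m → (Qp i).eval (m : ℚ) =
      (Module.finrank k ↥(CohB1.polyGrading n k m) : ℚ) -
        Module.finrank k ↥(Submodule.restrictScalars k (p i) ⊓ CohB1.polyGrading n k m)) :
    (d : ℚ) * ((P.natDegree.factorial : ℚ) * P.leadingCoeff) =
      ∑ i : Fin r, ((Qp i).natDegree.factorial : ℚ) * (Qp i).leadingCoeff *
        (Module.length (Localization.AtPrime (p i))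
          (LocalizedModule (p i).primeCompl (MvPolynomial (Fin (n + 1)) k ⧸ (I ⊔ Ideal.span {f})))).toNat := by
  open Polynomial H11Misc.HilbertDeg in
  classical
  have hfd : f ∈ CohB1.polyGrading n k d := hf
  have hJh := isHomogeneous_sup_span hIh hfd
  have hJ : I ⊔ Ideal.span {f} ≠ ⊤ := sup_span_ne_top (‹I.IsPrime›).ne_top hIh hd hfd
  obtain ⟨D, hD, h0, hpos⟩ := hilb_spec hIh (‹I.IsPrime›).ne_top (P := P) hP
  rcases D with _ | N
  · rw [h0 rfl] at hdim; simp at hdim
  obtain ⟨hN, -⟩ := hpos N rfl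
  obtain ⟨t, rfl⟩ : ∃ t, N = t + 1 := ⟨N - 1, by omega⟩
  have hdimq : ∀ q ∈ (I ⊔ Ideal.span {f}).minimalPrimes,
      ringKrullDim (MvPolynomial (Fin (n + 1)) k ⧸ q) = ((t + 1 : ℕ) : WithBot ℕ∞) :=
    fun q hq => dim_of_minimal_sup_span hfI hq hD
  obtain ⟨DJ, hDJ, q, hq, hqd⟩ := exists_dim_attained hJ
  obtain ⟨Q, hQ, -, -⟩ := exists_hilb DJ _ hJh (fun r hr h => (dim_le_of_le h).trans hDJ.le)
  obtain ⟨hdeg, heq⟩ := S10904.result k n I hIh f d hd hf hfI P Q hP hQ hdim
  rw [← heq, degree_formula hJh hQ p hpinj hpmin Qp hQp]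
  refine Finset.sum_congr rfl fun i _ => ?_
  have hmi := (hpmin (p i)).2 ⟨i, rfl⟩
  obtain ⟨Di, h1, -, h3⟩ := hilb_spec (homogeneous_minimalPrimes hJh hmi) (hp i).ne_top (P := Qp i) (hQp i)
  have hDi : Di = t + 1 := by
    have h4 := (hdimq _ hmi).symm.trans h1
    exact_mod_cast h4.symm
  have hnd : (Qp i).natDegree = Q.natDegree := by
    rw [(h3 t hDi).1]; omega
  rw [if_pos hnd]
  rfl

end Groth.Agent.S10905
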