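import Groth.Statements.S10907
import Groth.Agent.H11Misc.HilbertDeg

set_option autoImplicit false
universe u
open Polynomial
open ProjDeg

namespace Groth.Agent.S10907

/-- Let k be a field, R = k[X_0, …, X_n] graded by degree, and I a homogeneous ideal whose Hilbert
polynomial P (a rational polynomial with P(m) = dim_k R_m − dim_k (I ∩ R_m) for all large m) is
nonzero, i.e. the projective scheme V_+(I) ⊆ P^n_k is nonempty. Then the Krull dimension of R/I (the
affine cone) equals deg P + 1; the dimension of V_+(I) itself is deg P. -/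
theorem result (k : Type u) [Field k]
    (n : ℕ) (I : Ideal (MvPolynomial (Fin (n + 1)) k)) (hIh : I.IsHomogeneous (CohB1.polyGrading n k))
    (P : ℚ[X]) (hP0 : P ≠ 0)
    (hP : ∃ m₀ : ℕ, ∀ m : ℕ, m₀ ≤ m → P.eval (m : ℚ) =
      (Module.finrank k ↥(CohB1.polyGrading n k m) : ℚ) -
        Module.finrank k ↥(Submodule.restrictScalars k I ⊓ CohB1.polyGrading n k m)) :
    ringKrullDim (MvPolynomial (Fin (n + 1)) k ⧸ I) = (P.natDegree : WithBot ℕ∞) + 1 := by
  obtain ⟨m₀, hm⟩ := hP
  have hH : H11Misc.HilbertDeg.IsHilb I P := ⟨m₀, hm⟩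
  have htop : I ≠ ⊤ := fun h => hP0 (hH.unique (Q := 0) ⟨0, fun m _ => by
    rw [Polynomial.eval_zero, H11Misc.HilbertDeg.hfun_eq_zero fun z _ => h ▸ Submodule.mem_top]⟩)
  obtain ⟨D, hD, h0, hpos⟩ := H11Misc.HilbertDeg.hilb_spec hIh htop hH
  rcases D with _ | N
  · exact absurd (h0 rfl) hP0
  · rw [hD, (hpos N rfl).1]
    push_cast
    rfl

end Groth.Agent.S10907
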