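import Groth.Statements.S10908
import Mathlib.RingTheory.GradedAlgebra.Radical
import Mathlib.RingTheory.IntegralClosure.IntegrallyClosed
import Mathlib.AlgebraicGeometry.ProjectiveSpectrum.Topology

set_option autoImplicit false
universe u
open ProjDeg

namespace Groth.Agent.S10908

/-- Let S be a Noetherian graded integral domain, graded by the natural numbers as an algebra over a
ring R, generated by its degree-one part over S_0 (S_1 S_i = S_{i+1}) with S_1 ≠ 0, and integrally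
closed in its field of fractions (so that X = Proj S is projectively normal). Then for every d ≥ 0
the canonical map from S_d to the global sections of the twisting sheaf O_X(d), sending a to the
section a/1, is bijective. (The underlying lemma: every global section of O_X(d) is an element of
the homogeneous fraction ring integral over S.) (The published corollary takes the degree-zero part
to be a finitely generated algebra over a field; this row assumes only that the ring is Noetherian,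
which is all the argument uses.) -/
theorem result {R A : Type u} [CommRing R] [CommRing A] [IsDomain A]
    [IsNoetherianRing A] [Algebra R A] (𝒜 : ℕ → Submodule R A) [GradedAlgebra 𝒜]
    (hgen : ∀ i : ℕ, 𝒜 1 * 𝒜 i = 𝒜 (i + 1)) (h1 : 𝒜 1 ≠ ⊥) (hint : IsIntegrallyClosed A) (d : ℕ) :
    Function.Bijective (fun a : ↥(𝒜 d) => Twist.globalOf 𝒜 a) := by
  classical
  obtain ⟨a1, ha1, ha1ne⟩ : ∃ a1 ∈ 𝒜 1, a1 ≠ 0 := by
    by_contra h
    push Not at h
    exact h1 (eq_bot_iff.mpr fun a ha => by simpa using h a ha)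
  have hx0 : ¬ HomogeneousIdeal.irrelevant 𝒜 ≤ (⊥ : HomogeneousIdeal 𝒜) := fun h => by
    have := h (HomogeneousIdeal.mem_irrelevant_of_mem (𝒜 := 𝒜) (i := 1) Nat.one_pos ha1)
    exact ha1ne (by rwa [← HomogeneousIdeal.mem_iff, HomogeneousIdeal.toIdeal_bot, Submodule.mem_bot] at this)
  let x0 : ProjectiveSpectrum 𝒜 := ⟨⊥, by simpa using Ideal.isPrime_bot, hx0⟩
  have hx0mem : ∀ r : A, r ∈ x0.asHomogeneousIdeal ↔ r = 0 := fun r => by
    show r ∈ (⊥ : HomogeneousIdeal 𝒜) ↔ r = 0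
    rw [← HomogeneousIdeal.mem_iff, HomogeneousIdeal.toIdeal_bot, Submodule.mem_bot]
  -- equality in the localisation at any point amounts to cross multiplication
  have hmk : ∀ (x : ProjectiveSpectrum 𝒜) (a b s t : A) (hs : s ∉ x.asHomogeneousIdeal)
      (ht : t ∉ x.asHomogeneousIdeal),
      ((Localization.mk a ⟨s, hs⟩ : Twist.Loc 𝒜 x) = Localization.mk b ⟨t, ht⟩) ↔
        t * a = s * b := by
    intro x a b s t hs ht
    rw [Localization.mk_eq_mk_iff, Localization.r_iff_exists]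
    constructor
    · rintro ⟨⟨u, hu⟩, h⟩
      have hu0 : u ≠ 0 := fun h0 => hu (h0 ▸ (Ideal.zero_mem _))
      exact mul_left_cancel₀ hu0 h
    · intro h
      exact ⟨1, by simp only [OneMemClass.coe_one, one_mul]; exact h⟩
  refine ⟨fun a b hab => ?_, fun f => ?_⟩
  · have h := congrArg (fun g => (g.1 ⟨x0, trivial⟩).1) hab
    dsimp only [Twist.globalOf] at h
    have := (hmk x0 _ _ _ _ _ _).1 h
    simp only [one_mul] at this
    exact Subtype.ext this
  -- normal form of the local representations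
  have hrep : ∀ x : ProjectiveSpectrum 𝒜, ∃ (V : TopologicalSpace.Opens (ProjectiveSpectrum.top 𝒜))
      (_ : x ∈ V) (j : ℕ) (a s : A) (_ : a ∈ 𝒜 (j + d)) (_ : s ∈ 𝒜 j)
      (hs : ∀ y : V, s ∉ y.1.asHomogeneousIdeal), ∀ y : V,
        (f.1 ⟨y.1, trivial⟩).1 = Localization.mk a ⟨s, hs y⟩ := by
    intro x
    obtain ⟨V, hxV, iV, i, j, ⟨a, ha⟩, ⟨s, hs'⟩, nin, hdeg, w⟩ := f.2 ⟨x, trivial⟩
    refine ⟨V, hxV, j, a, s, ?_, hs', nin, fun y => w y⟩
    rcases hdeg with h | h
    · have : i = j + d := by omega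
      exact this ▸ ha
    · have h' : a = 0 := h
      subst h'
      exact zero_mem _
  have hgenpt : ∀ (x : ProjectiveSpectrum 𝒜) (V : TopologicalSpace.Opens (ProjectiveSpectrum.top 𝒜)),
      x ∈ V → x0 ∈ V := by
    intro x V hxV
    have h : x0 ⤳ x := by
      rw [specializes_iff_mem_closure, ← ProjectiveSpectrum.le_iff_mem_closure]
      exact (bot_le : (⊥ : HomogeneousIdeal 𝒜) ≤ x.asHomogeneousIdeal)
    exact h.mem_open V.2 hxV
  obtain ⟨V0, hV0, j0, a0, s0, ha0, hs0, nin0, w0⟩ := hrep x0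
  have hs00 : s0 ≠ 0 := fun h => nin0 ⟨x0, hV0⟩ ((hx0mem s0).2 h)
  let Gs : Set A := {s | ∃ (j : ℕ) (a : A), s ∈ 𝒜 j ∧ a ∈ 𝒜 (j + d) ∧ s * a0 = s0 * a}
  have hlocal : ∀ x : ProjectiveSpectrum 𝒜, ∃ (j : ℕ) (a s : A) (hs : s ∉ x.asHomogeneousIdeal),
      s ∈ 𝒜 j ∧ a ∈ 𝒜 (j + d) ∧ s * a0 = s0 * a ∧
      (f.1 ⟨x, trivial⟩).1 = Localization.mk a ⟨s, hs⟩ := by
    intro x
    obtain ⟨V, hxV, j, a, s, ha, hs, nin, w⟩ := hrep x
    refine ⟨j, a, s, nin ⟨x, hxV⟩, hs, ha, ?_, w ⟨x, hxV⟩⟩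
    exact (hmk x0 _ _ _ _ _ _).1 ((w0 ⟨x0, hV0⟩).symm.trans (w ⟨x0, hgenpt x V hxV⟩))
  have hI : (Ideal.span Gs).IsHomogeneous 𝒜 :=
    Ideal.homogeneous_span 𝒜 Gs fun s ⟨j, a, hs, _⟩ => ⟨j, hs⟩
  have hrad : (HomogeneousIdeal.irrelevant 𝒜).toIdeal ≤ (Ideal.span Gs).radical := by
    rw [hI.radical_eq]
    refine le_sInf ?_
    rintro J ⟨hJh, hIJ, hJp⟩
    by_contra hJ
    let x : ProjectiveSpectrum 𝒜 := ⟨⟨J, hJh⟩, hJp, fun h => hJ h⟩
    obtain ⟨j, a, s, hs, hsj, haj, heq, -⟩ := hlocal x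
    exact hs (hIJ (Ideal.subset_span ⟨j, a, hsj, haj, heq⟩))
  obtain ⟨M, hM⟩ := Ideal.exists_pow_le_of_le_radical_of_fg_radical hrad (IsNoetherian.noetherian _)
  -- elements of positive degree
  have hspan : ∀ z ∈ Ideal.span Gs, ∃ w : A, z * a0 = s0 * w := by
    intro z hz
    refine Submodule.span_induction ?_ ?_ ?_ ?_ hz
    · rintro s ⟨j, a, -, -, h⟩
      exact ⟨a, h⟩
    · exact ⟨0, by simp⟩
    · rintro y z - - ⟨v, hv⟩ ⟨w, hw⟩
      exact ⟨v + w, by rw [add_mul, hv, hw, mul_add]⟩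
    · rintro r y - ⟨v, hv⟩
      exact ⟨r * v, by rw [smul_eq_mul, mul_assoc, hv]; ring⟩
  let N : ℕ := M + 1
  have hpow : ∀ n : ℕ, 0 < n → ∀ z ∈ 𝒜 n, z ∈ (HomogeneousIdeal.irrelevant 𝒜).toIdeal ^ n := by
    intro n hn
    induction n with
    | zero => omega
    | succ m ih =>
      intro z hz
      rcases Nat.eq_zero_or_pos m with rfl | hm
      · rw [pow_one]
        exact HomogeneousIdeal.mem_irrelevant_of_mem (𝒜 := 𝒜) Nat.one_pos hz
      · rw [← hgen m] at hz
        refine Submodule.mul_induction_on hz (fun x hx y hy => ?_) (fun x y hx hy => add_mem hx hy)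
        rw [pow_succ']
        exact Ideal.mul_mem_mul (HomogeneousIdeal.mem_irrelevant_of_mem (𝒜 := 𝒜) Nat.one_pos hx)
          (ih hm y hy)
  let K0 : Ideal A := Ideal.span (𝒜 N : Set A)
  have hup : ∀ k : ℕ, ∀ z ∈ 𝒜 (N + k), z ∈ K0 := by
    intro k
    induction k with
    | zero => exact fun z hz => Ideal.subset_span hz
    | succ m ih =>
      intro z hz
      rw [← Nat.add_assoc, ← hgen (N + m)] at hz
      exact Submodule.mul_induction_on hz (fun x _ y hy => K0.mul_mem_left x (ih y hy))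
        (fun x y hx hy => add_mem hx hy)
  have hkey : ∀ z ∈ 𝒜 N, ∃ w ∈ K0, z * a0 = s0 * w := by
    intro z hz
    have hzI : z ∈ Ideal.span Gs :=
      hM (Ideal.pow_le_pow_right (Nat.le_succ M) (hpow N (Nat.succ_pos _) z hz))
    obtain ⟨w, hw⟩ := hspan z hzI
    refine ⟨w, hup d w ?_, hw⟩
    have hprod : s0 * w ∈ 𝒜 (j0 + (N + d)) := by
      rw [← hw, ← Nat.add_assoc, Nat.add_comm j0 N, Nat.add_assoc]
      exact SetLike.mul_mem_graded hz ha0
    have hcomp : w = ((DirectSum.decompose 𝒜 w (N + d) : 𝒜 (N + d)) : A) := by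
      apply mul_left_cancel₀ hs00
      rw [← DirectSum.coe_decompose_mul_add_of_left_mem 𝒜 (j := N + d) hs0,
        DirectSum.decompose_of_mem_same 𝒜 hprod]
    rw [hcomp]
    exact SetLike.coe_mem _
  -- integrality of `a0 / s0`
  let L := FractionRing A
  let c : L := algebraMap A L a0 / algebraMap A L s0
  have hs0L : algebraMap A L s0 ≠ 0 := by
    rwa [ne_eq, IsFractionRing.to_map_eq_zero_iff]
  let NL : Submodule A L := Submodule.map (Algebra.linearMap A L) K0
  have hNne : NL ≠ ⊥ := by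
    intro h
    have hmem : algebraMap A L (a1 ^ N) ∈ NL :=
      ⟨a1 ^ N, Ideal.subset_span (by simpa using SetLike.pow_mem_graded N ha1), rfl⟩
    rw [h, Submodule.mem_bot, IsFractionRing.to_map_eq_zero_iff] at hmem
    exact pow_ne_zero N ha1ne hmem
  have hNfg : NL.FG := (IsNoetherian.noetherian K0).map _
  have hstab : ∀ n ∈ NL, c • n ∈ NL := by
    rintro n ⟨z, hz, rfl⟩
    have hz' : z ∈ Submodule.span A (𝒜 N : Set A) := hz
    refine Submodule.span_induction (p := fun z _ => c • (Algebra.linearMap A L z) ∈ NL) ?_ ?_ ?_ ?_ hz'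
    · intro y hy
      obtain ⟨w, hw, heq⟩ := hkey y hy
      refine ⟨w, hw, ?_⟩
      show algebraMap A L w = c * algebraMap A L y
      rw [div_mul_eq_mul_div, eq_div_iff hs0L, ← map_mul, ← map_mul, mul_comm a0 y, heq, mul_comm]
    · simp
    · intro x y _ _ hx hy
      rw [map_add, smul_add]
      exact add_mem hx hy
    · intro r x _ hx
      rw [map_smul, smul_comm]
      exact NL.smul_mem r hx
  haveI := hint
  obtain ⟨b, hb⟩ : ∃ b : A, algebraMap A L b = c :=
    IsIntegrallyClosed.isIntegral_iff.1 (isIntegral_of_smul_mem_submodule NL hNne hNfg c hstab)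
  have hb' : s0 * b = a0 := by
    apply IsFractionRing.injective A L
    rw [map_mul, hb]
    exact mul_div_cancel₀ _ hs0L
  have hbd : b ∈ 𝒜 d := by
    have hcomp : b = ((DirectSum.decompose 𝒜 b d : 𝒜 d) : A) := by
      apply mul_left_cancel₀ hs00
      rw [← DirectSum.coe_decompose_mul_add_of_left_mem 𝒜 (j := d) hs0, hb',
        DirectSum.decompose_of_mem_same 𝒜 ha0]
    rw [hcomp]
    exact SetLike.coe_mem _
  refine ⟨⟨b, hbd⟩, ?_⟩
  refine Subtype.ext (funext fun x => Subtype.ext ?_)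
  obtain ⟨j, a, s, hs, hsj, haj, heq, hfx⟩ := hlocal x.1
  refine Eq.trans ?_ hfx.symm
  show (Localization.mk b _ : Twist.Loc 𝒜 x.1) = Localization.mk a ⟨s, hs⟩
  rw [hmk]
  rw [one_mul]
  apply mul_left_cancel₀ hs00
  rw [mul_left_comm, hb', heq]

end Groth.Agent.S10908
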