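import Groth.Statements.S9414
import Mathlib.RingTheory.Smooth.Kaehler
import Mathlib.RingTheory.Smooth.Field
import Mathlib.RingTheory.Jacobson.Ring
import Mathlib.FieldTheory.IsAlgClosed.Basic

set_option autoImplicit false
universe u
open CAlg

namespace Groth.Agent.S9414

open TensorProduct in
/-- For an algebraically closed field k, a finite type k-algebra S and a maximal ideal m of S with
residue field κ = S/m, the κ-vector spaces κ ⊗_S Ω_{S/k} and m/m² have the same dimension. -/
theorem result (k : Type u) [Field k]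
    [IsAlgClosed k] (S : Type u) [CommRing S] [Algebra k S] [Algebra.FiniteType k S]
    (m : Ideal S) [m.IsMaximal] :
    Module.finrank (S ⧸ m) ((S ⧸ m) ⊗[S] Ω[S⁄k]) = Module.finrank (S ⧸ m) m.Cotangent := by
  letI : Field (S ⧸ m) := Ideal.Quotient.field m
  haveI : Module.Finite k (S ⧸ m) := finite_of_finite_type_of_isJacobsonRing k (S ⧸ m)
  have hbij : Function.Bijective (algebraMap k (S ⧸ m)) := IsAlgClosed.algebraMap_bijective_of_isIntegral
  let e : k ≃ₐ[k] S ⧸ m := AlgEquiv.ofBijective (Algebra.ofId k (S ⧸ m)) hbij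
  haveI : Algebra.FormallySmooth k (S ⧸ m) := Algebra.FormallySmooth.of_equiv e
  haveI : Subsingleton (Ω[(S ⧸ m)⁄k]) := KaehlerDifferential.subsingleton_of_surjective k (S ⧸ m) hbij.2
  have hf : Function.Surjective (algebraMap S (S ⧸ m)) := Ideal.Quotient.mk_surjective
  obtain ⟨l, hl⟩ := (retractionKerCotangentToTensorEquivSection (R := k) hf).symm
    ⟨(Algebra.ofId k _).comp e.symm.toAlgHom, AlgHom.ext fun x => by
      obtain ⟨c, rfl⟩ := e.surjective x
      change ((IsScalarTower.toAlgHom k S (S ⧸ m)).kerSquareLift) (algebraMap k _ (e.symm (e c))) = e c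
      rw [e.symm_apply_apply, AlgHom.commutes]
      exact (e.commutes c).symm⟩
  let φ := KaehlerDifferential.kerCotangentToTensor k S (S ⧸ m)
  have hinj : Function.Injective φ := Function.LeftInverse.injective (g := l) fun x => LinearMap.congr_fun hl x
  have hsurj : Function.Surjective φ := fun x =>
    (KaehlerDifferential.exact_kerCotangentToTensor_mapBaseChange k S (S ⧸ m) hf x).mp (Subsingleton.elim _ _)
  have hker : RingHom.ker (algebraMap S (S ⧸ m)) = m := Ideal.mk_ker
  have e₁ : ((S ⧸ m) ⊗[S] Ω[S⁄k]) ≃ₗ[S] (RingHom.ker (algebraMap S (S ⧸ m))).Cotangent :=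
    (LinearEquiv.ofBijective φ ⟨hinj, hsurj⟩).symm
  rw [hker] at e₁
  exact (e₁.extendScalarsOfSurjective hf).finrank_eq

end Groth.Agent.S9414
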