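import Groth.Statements.S10909
import Mathlib
import Groth.Agent.H25SmVar.Basic
import Groth.Agent.H24Cot.Regular
import Groth.Agent.H02CA.SmoothRegular
import Groth.Agent.S10902
import Groth.Agent.S9414

set_option autoImplicit false
universe u
open TensorProduct
open SmVar

namespace Groth.Agent.S10909

/-- Let k be an algebraically closed field and A a k-algebra of finite type with irreducible spectrum
(the nilradical of A is prime) and Krull dimension n; X = Spec A is then an irreducible separated
k-scheme of finite type of dimension n. Then X is a nonsingular variety — A is reduced and every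
localization of A at a prime is a regular local ring — if and only if the module of Kähler
differentials Ω_{A/k} is locally free of rank n: projective, with fibre κ(P) ⊗_A Ω_{A/k} of
dimension n at every prime P. -/
theorem result (k : Type u) [Field k]
    [IsAlgClosed k] (A : Type u) [CommRing A] [Algebra k A] [Algebra.FiniteType k A]
    (hirr : (nilradical A).IsPrime) (n : ℕ) (hn : ringKrullDim A = n) :
    (IsReduced A ∧ IsRegularRing A) ↔
      (Module.Projective A (Ω[A⁄k]) ∧
        ∀ (P : Ideal A) [P.IsPrime],
          Module.finrank P.ResidueField (P.ResidueField ⊗[A] Ω[A⁄k]) = n) := by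
  haveI : IsNoetherianRing A := Algebra.FiniteType.isNoetherianRing k A
  haveI : Algebra.FinitePresentation k A := Algebra.FinitePresentation.of_finiteType.mp inferInstance
  have hres : ∀ (m : Ideal A) [m.IsMaximal], Module.finrank m.ResidueField (m.ResidueField ⊗[A] Ω[A⁄k])
      = Module.finrank (Localization.AtPrime m ⧸ IsLocalRing.maximalIdeal (Localization.AtPrime m))
        (IsLocalRing.CotangentSpace (Localization.AtPrime m)) := by
    intro m _
    rw [show Module.finrank (Localization.AtPrime m ⧸ IsLocalRing.maximalIdeal (Localization.AtPrime m))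
        (IsLocalRing.CotangentSpace (Localization.AtPrime m)) = _ from
          Groth.Agent.H25SmVar.finrank_cotangentSpace_localization A m, ← Groth.Agent.S9414.result k A m]
    symm
    let e : (A ⧸ m) ≃ₐ[A] m.ResidueField :=
      AlgEquiv.ofBijective (IsScalarTower.toAlgHom A (A ⧸ m) m.ResidueField)
        m.bijective_algebraMap_quotient_residueField
    refine Groth.Agent.H25SmVar.finrank_eq_of_equiv_equiv e
      (TensorProduct.congr e.toLinearEquiv (LinearEquiv.refl A Ω[A⁄k])).toAddEquiv e.bijective ?_
    intro r x
    induction x with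
    | zero => simp
    | add x y hx hy => simp only [smul_add, map_add, hx, hy]
    | tmul c w =>
      simp [TensorProduct.smul_tmul', TensorProduct.congr_tmul, smul_eq_mul, map_mul]
  have hdim : ∀ (m : Ideal A) [m.IsMaximal],
      IsRegularLocalRing (Localization.AtPrime m) ↔
        Module.finrank m.ResidueField (m.ResidueField ⊗[A] Ω[A⁄k]) = n := by
    intro m _
    have hup : ringKrullDim (Localization.AtPrime m) = n := by
      refine le_antisymm ?_ (hn ▸ Groth.Agent.H25SmVar.le_ringKrullDim_localization k A hirr m)
      rw [← hn, IsLocalization.AtPrime.ringKrullDim_eq_height m]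
      exact Ideal.height_le_ringKrullDim_of_ne_top (Ideal.IsMaximal.ne_top ‹_›)
    rw [IsRegularLocalRing.iff_finrank_cotangentSpace, hup, hres m]
    exact ⟨fun h => by exact_mod_cast h, fun h => by exact_mod_cast h⟩
  constructor
  · rintro ⟨hred, hreg⟩
    haveI : Algebra.FormallySmooth k A :=
      (Groth.Agent.H24Cot.formallySmooth_iff_regular k A).mpr fun p _ => inferInstance
    refine ⟨inferInstance, fun P _ => ?_⟩
    haveI hbot : (⊥ : Ideal A).IsPrime := by rw [← Submodule.zero_eq_bot, ← nilradical_eq_zero A]; exact hirr
    obtain ⟨m, hm, hPm⟩ := P.exists_le_maximal (Ideal.IsPrime.ne_top ‹_›)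
    refine le_antisymm ?_ ?_
    · refine le_trans (Groth.Agent.S10902.finrank_tensor_residueField_le A Ω[A⁄k] hPm) (le_of_eq ?_)
      exact (hdim m).mp (isRegularRing_iff.mp hreg m)
    · exact Groth.Agent.S10902.result k A n P ⊥ bot_le
        (by rw [ringKrullDim_eq_of_ringEquiv (RingEquiv.quotientBot A), hn])
  · rintro ⟨hproj, hrank⟩
    have hsm : Algebra.FormallySmooth k A := by
      rw [← Algebra.smoothLocus_eq_univ_iff]
      by_contra hne
      obtain ⟨p, hp⟩ := (Set.ne_univ_iff_exists_notMem _).mp hne
      obtain ⟨m, hm, hpm⟩ := p.asIdeal.exists_le_maximal p.isPrime.ne_top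
      have hmem : (⟨m, hm.isPrime⟩ : PrimeSpectrum A) ∈ Algebra.smoothLocus k A := by
        haveI := Groth.Agent.H24Cot.isGeometricallyReduced_of_isAlgClosed k m.ResidueField
        exact (Groth.Agent.S9442.result k A m).mpr ((hdim m).mpr (hrank m))
      exact hp ((Algebra.isOpen_smoothLocus (R := k) (A := A)).stableUnderGeneralization
        ((PrimeSpectrum.le_iff_specializes p ⟨m, hm.isPrime⟩).mp hpm) hmem)
    haveI : Algebra.Smooth k A := ⟨hsm, inferInstance⟩
    haveI : IsRegularRing k := inferInstance
    exact ⟨Groth.Agent.H02CA.isReduced_of_smooth k A, Groth.Agent.H02CA.isRegularRing_of_smooth k A⟩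

end Groth.Agent.S10909
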