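import Groth.Statements.S10914
import Groth.Agent.H22Alg.FibreCount

set_option autoImplicit false
universe u
open CategoryTheory CategoryTheory.Limits AlgebraicGeometry TopologicalSpace
open ProjDeg

namespace Groth.Agent.S10914

/-- Let k be a field, X and Y reduced schemes proper over k and f : X → Y a k-morphism with (i) f
surjective, (ii) every fibre X_y over a closed point y irreducible, (iii) all these fibres of the
same dimension m, and (iv) Y irreducible. Then X is irreducible and dim X = dim Y + m. (The
published statement takes X, Y projective over k and f projective; its proof uses only that f is a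
closed map and upper semicontinuity of fibre dimension, i.e. properness.) -/
theorem result (k : Type u) [Field k] {X Y : Scheme.{u}}
    (pX : X ⟶ Spec (CommRingCat.of k)) (pY : Y ⟶ Spec (CommRingCat.of k)) [IsProper pX] [IsProper pY]
    [IsReduced X] [IsReduced Y] (f : X ⟶ Y) (hf : f ≫ pY = pX) (hsurj : Function.Surjective f)
    [IrreducibleSpace ↥Y] (m : ℕ)
    (hirr : ∀ y : ↥Y, IsClosed ({y} : Set ↥Y) → IrreducibleSpace ↥(f.fiber y))
    (hdim : ∀ y : ↥Y, IsClosed ({y} : Set ↥Y) → topologicalKrullDim ↥(f.fiber y) = m) :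
    IrreducibleSpace ↥X ∧ topologicalKrullDim ↥X = topologicalKrullDim ↥Y + m := by
  open Groth.Agent.H8Props.FieldDim Groth.Agent.H22Alg.FibreCount in
  haveI : LocallyOfFiniteType (f ≫ pY) := hf ▸ inferInstance
  haveI : LocallyOfFiniteType f := locallyOfFiniteType_of_comp f pY
  haveI : IsProper (f ≫ pY) := hf ▸ inferInstance
  haveI : IsProper f := IsProper.of_comp f pY
  have hirr' : ∀ y : ↥Y, IsClosed ({y} : Set ↥Y) → IsIrreducible (f ⁻¹' {y}) := fun y hy => by
    haveI := hirr y hy
    haveI : IrreducibleSpace ↥(f ⁻¹' {y}) := (f.fiberHomeo y).surjective.irreducibleSpace (f.fiberHomeo y).continuous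
    exact isIrreducible_iff_irreducibleSpace.2 inferInstance
  have hdim' : ∀ y : ↥Y, IsClosed ({y} : Set ↥Y) → topologicalKrullDim ↥(f ⁻¹' {y}) = m := fun y hy =>
    (dim_fiber_eq_preimage f y).symm.trans (hdim y hy)
  obtain ⟨Z, ⟨hZ, hZd⟩, hZu⟩ := existsUnique_dominant pX pY f hf m hirr' hdim'
  obtain ⟨h1, h2, -⟩ := component_data pX pY f hf m hirr' hdim' Z hZ
  have hsurjZ : f '' Z = Set.univ := by
    rw [← hZd.closure_eq, (f.isClosedMap _ (isClosed_of_mem_irreducibleComponents Z hZ)).closure_eq]
  haveI : JacobsonSpace X := LocallyOfFiniteType.jacobsonSpace pX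
  have hZX : Z = Set.univ := by
    refine Set.eq_univ_of_univ_subset ?_
    rw [← closure_closedPoints (X := X), (isClosed_of_mem_irreducibleComponents Z hZ).closure_subset_iff]
    intro x hx
    have hy := isClosed_map pX pY f hf hx
    obtain ⟨z, hz, hzx⟩ := hsurjZ.symm ▸ Set.mem_univ (f x)
    exact h1 _ hy ⟨z, hzx, hz⟩ rfl
  subst hZX
  refine ⟨(irreducibleSpace_def _).mpr hZ.1, ?_⟩
  rw [hZd.closure_eq, IsHomeomorph.topologicalKrullDim_eq _ (Homeomorph.Set.univ X).isHomeomorph,
    IsHomeomorph.topologicalKrullDim_eq _ (Homeomorph.Set.univ Y).isHomeomorph] at h2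
  rw [h2, add_comm]

end Groth.Agent.S10914
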