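import Groth.Statements.S10915
import Groth.Agent.H11Misc.LinearForms

set_option autoImplicit false
universe u
open ProjDeg

namespace Groth.Agent.S10915

/-- Let k be an algebraically closed field, R = k[X_0, …, X_n] graded by degree, and I a homogeneous
prime ideal with dim R/I = r + 1, so that X = V_+(I) ⊆ P^n_k is a projective variety of dimension r.
Then there are r + 1 linear forms h_1, …, h_{r+1} (homogeneous of degree 1) whose common zero set in
P^n_k does not meet X, i.e. the ideal I + (h_1, …, h_{r+1}) contains some power of the irrelevant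
ideal (X_0, …, X_n). (The published statement says that a generic linear subspace of dimension n − r
− 1 misses X; this row asserts only that one such subspace, cut out by r + 1 linear forms, exists.) -/
theorem result (k : Type u) [Field k] [IsAlgClosed k]
    (n r : ℕ) (I : Ideal (MvPolynomial (Fin (n + 1)) k)) (hIh : I.IsHomogeneous (CohB1.polyGrading n k)) [I.IsPrime]
    (hdim : ringKrullDim (MvPolynomial (Fin (n + 1)) k ⧸ I) = (r : WithBot ℕ∞) + 1) :
    ∃ h : Fin (r + 1) → MvPolynomial (Fin (n + 1)) k, (∀ i, (h i).IsHomogeneous 1) ∧
      ∃ N : ℕ, (Ideal.span (Set.range (MvPolynomial.X : Fin (n + 1) → MvPolynomial (Fin (n + 1)) k))) ^ N ≤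
        I ⊔ Ideal.span (Set.range h) := by
  have : Infinite k := IsAlgClosed.instInfinite
  obtain ⟨h, hh, hN⟩ := H11Misc.HilbertDeg.exists_linearForms (r + 1) I hIh (le_of_eq (by rw [hdim]; push_cast; rfl))
  exact ⟨h, fun i => hh i, hN⟩

end Groth.Agent.S10915
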