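import Groth.Statements.S10916
import Mathlib
import Groth.Agent.H22Alg.WDivProj

set_option autoImplicit false
universe u
open CategoryTheory CategoryTheory.Limits AlgebraicGeometry TopologicalSpace
open WDiv

namespace Groth.Agent.S10916

/-- Let A be a Noetherian integral domain regular in codimension 1 (the local ring of Spec A at every
point of coheight 1 is a discrete valuation ring), P = P^n_A with structure morphism q : P → Spec A,
and H the point of P whose homogeneous prime ideal is generated by X_0 (so n ≥ 1; H is the generic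
point of the hyperplane X_0 = 0). Weil divisors are integer-valued functions on points with finite
support inside the points of coheight 1. Then Cl(P^n_A) ≅ ℤ ⊕ Cl(A) in the following sense: for
every Weil divisor D' on P there is exactly one integer d for which D' is linearly equivalent to d·H
plus the pullback of a Weil divisor D on Spec A, i.e. for some such D and some nonzero rational
function g on P one has D'(H) = d + D(q H) + ord_H(g) and D'(y) = D(q y) + ord_y(g) at every point y
≠ H of coheight 1. -/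
theorem result (A : Type u) [CommRing A] [IsDomain A]
    [IsNoetherianRing A] (n : ℕ) (hn : 1 ≤ n) [IsIntegral (CohB1.ProjSpace n A)] [IsLocallyNoetherian (CohB1.ProjSpace n A)]
    [IsIntegral (Spec (CommRingCat.of A))]
    (hR1 : ∀ x : ↥(Spec (CommRingCat.of A)), Order.coheight x = 1 →
      IsDiscreteValuationRing ↑((Spec (CommRingCat.of A)).presheaf.stalk x))
    (H : ↥(CohB1.ProjSpace n A))
    (hH : H.asHomogeneousIdeal.toIdeal = Ideal.span {(MvPolynomial.X 0 : MvPolynomial (Fin (n + 1)) A)})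
    (D' : ↥(CohB1.ProjSpace n A) → ℤ) (hD' : ∀ y, Order.coheight y ≠ 1 → D' y = 0)
    (hfin : {y | D' y ≠ 0}.Finite) :
    ∃! d : ℤ, ∃ (D : ↥(Spec (CommRingCat.of A)) → ℤ) (g : ↑(CohB1.ProjSpace n A).functionField),
      (∀ x, Order.coheight x ≠ 1 → D x = 0) ∧ {x | D x ≠ 0}.Finite ∧ g ≠ 0 ∧
      D' H = d + D (CohB1.ProjSpace.toSpec n A H) + Scheme.ord g H ∧
      ∀ y, y ≠ H → Order.coheight y = 1 →
        D' y = D (CohB1.ProjSpace.toSpec n A y) + Scheme.ord g y := by
  classical
  haveI : Nontrivial (HomogeneousLocalization.Away (CohB1.polyGrading n A)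
      (MvPolynomial.X (0 : Fin (n + 1)))) :=
    (Groth.Agent.H11Proj.ProjSpace.chartMap_bijective n A 0).1.nontrivial
  have hne : Nonempty ↥(Spec (CommRingCat.of (HomogeneousLocalization.Away (CohB1.polyGrading n A)
      (MvPolynomial.X (0 : Fin (n + 1)))))) := inferInstanceAs (Nonempty (PrimeSpectrum _))
  obtain ⟨c, hcU, hcV⟩ := H22Alg.WDivChart.exists_chart_projSpace A n hne
  have hnH : H ∉ c.V := fun h => H22Alg.WDivChart.not_mem_chart A n H hH (by
    have h' : H ∈ (c.V : Set ↥(CohB1.ProjSpace n A)) := h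
    rw [hcV] at h'
    exact h')
  have hV : ∀ y, y ≠ H → Order.coheight y = 1 → y ∈ c.V := fun y hy hy1 => by
    by_contra h
    refine hy (H22Alg.WDivChart.eq_H_of_not_mem A n H hH ?_ hy1 fun h' => h ?_)
    · rw [← hcV]
      obtain ⟨⟨z, hz⟩⟩ := c.nonempty
      exact ⟨z, hz⟩
    · show y ∈ (c.V : Set ↥(CohB1.ProjSpace n A))
      rw [hcV]
      exact h'
  have hpH := H22Alg.WDivChart.H_over_generic A n H hH hn
  have hgne := H22Alg.WDivChart.coheight_genericPoint_ne_one (X := Spec (CommRingCat.of A))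
  haveI : CompactSpace ↥(CohB1.ProjSpace n A) :=
    Groth.Agent.H22Alg.WDivChart.compactSpace_projSpace A n
  obtain ⟨g, hg, hgn⟩ := c.exists_horiz D' hfin
  have hov : ∀ x : ↥(Spec (CommRingCat.of A)), Order.coheight x = 1 →
      ∃ y ∈ c.V, CohB1.ProjSpace.toSpec n A y = x ∧ Order.coheight y = 1 :=
    fun x hx => c.exists_over (show x ∈ c.U by rw [hcU]; trivial) hx
  choose Y hYV hY hY1 using hov
  let D : ↥(Spec (CommRingCat.of A)) → ℤ :=
    fun x => if hx : Order.coheight x = 1 then D' (Y x hx) - Scheme.ord g (Y x hx) else 0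
  have hD0 : D (genericPoint (Spec (CommRingCat.of A))) = 0 := dif_neg hgne
  refine ⟨D' H - Scheme.ord g H, ⟨D, g, fun x hx => dif_neg hx, ?_, hg, ?_, fun y hy hy1 => ?_⟩, ?_⟩
  · refine ((hfin.union (H22Alg.WDivChart.finite_ord g)).image (CohB1.ProjSpace.toSpec n A)).subset fun x hx => ?_
    by_cases hx1 : Order.coheight x = 1
    · refine ⟨Y x hx1, ?_, hY x hx1⟩
      by_contra hn'
      simp only [Set.mem_union, Set.mem_setOf_eq, not_or, not_not] at hn'
      exact hx (by simp only [D, dif_pos hx1, hn'.1, hn'.2, sub_zero])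
    · exact absurd (dif_neg hx1) hx
  · rw [hpH, hD0]; omega
  · by_cases hpy : CohB1.ProjSpace.toSpec n A y = genericPoint (Spec (CommRingCat.of A))
    · rw [hpy, hD0, hgn y (hV y hy hy1) hy1 hpy, zero_add]
    · obtain ⟨hx1, -⟩ := c.coheight_cases (hV y hy hy1) hy1 hpy
      have hYy : Y _ hx1 = y := c.unique_over (hYV _ hx1) (hV y hy hy1) (hY1 _ hx1) hy1 (hY _ hx1)
        ((hY _ hx1).symm ▸ hpy)
      simp only [D, dif_pos hx1, hYy, sub_add_cancel]
  · rintro d ⟨D₂, g₂, hD₂, -, hg₂, hH₂, h₂⟩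
    have hdiv : ∀ y, Scheme.ord (g₂ * g⁻¹) y = Scheme.ord g₂ y - Scheme.ord g y := fun y => by
      rw [Scheme.ord_mul hg₂ (inv_ne_zero hg), H22Alg.WDivChart.ord_inv hg]; omega
    have hne0 : g₂ * g⁻¹ ≠ 0 := mul_ne_zero hg₂ (inv_ne_zero hg)
    obtain ⟨f, hf, hfg⟩ := c.exists_pull_eq hne0 fun y hy hy1 hpy => by
      have e := h₂ y (fun e => hnH (e ▸ hy)) hy1
      rw [hpy, hD₂ _ hgne] at e
      rw [hdiv, hgn y hy hy1 hpy, e]; omega
    have h0 := H22Alg.WDivChart.ord_pull_horiz c.dominant hpH hf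
    rw [hfg, hdiv] at h0
    rw [hpH, hD₂ _ hgne] at hH₂
    omega

end Groth.Agent.S10916
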