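import Groth.Statements.S10917
import Mathlib
import Groth.Agent.H22Alg.WDivProj

set_option autoImplicit false
universe u
open CategoryTheory CategoryTheory.Limits AlgebraicGeometry TopologicalSpace
open WDiv

namespace Groth.Agent.S10917

/-- Let A be a Noetherian integral domain regular in codimension 1, P = P^n_A with structure morphism q
: P → Spec A, and H the point of P whose homogeneous prime ideal is generated by X_0 (so n ≥ 1). If
for an integer d and a Weil divisor D on Spec A (integer-valued function with finite support inside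
the coheight-1 points) the divisor d·H + q^*D is principal on P — there is a nonzero rational
function g on P with ord_H(g) = d + D(q H) and ord_y(g) = D(q y) for every point y ≠ H of coheight 1
— then d = 0 and D is itself the divisor of a nonzero element of the fraction field of A: ord_x(f) =
D(x) at every coheight-1 point x of Spec A. -/
theorem result (A : Type u) [CommRing A] [IsDomain A]
    [IsNoetherianRing A] (n : ℕ) (hn : 1 ≤ n) [IsIntegral (CohB1.ProjSpace n A)] [IsLocallyNoetherian (CohB1.ProjSpace n A)]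
    [IsIntegral (Spec (CommRingCat.of A))]
    (hR1 : ∀ x : ↥(Spec (CommRingCat.of A)), Order.coheight x = 1 →
      IsDiscreteValuationRing ↑((Spec (CommRingCat.of A)).presheaf.stalk x))
    (H : ↥(CohB1.ProjSpace n A))
    (hH : H.asHomogeneousIdeal.toIdeal = Ideal.span {(MvPolynomial.X 0 : MvPolynomial (Fin (n + 1)) A)})
    (d : ℤ) (D : ↥(Spec (CommRingCat.of A)) → ℤ) (hD : ∀ x, Order.coheight x ≠ 1 → D x = 0) (hfin : {x | D x ≠ 0}.Finite)
    (g : ↑(CohB1.ProjSpace n A).functionField) (hg : g ≠ 0)
    (hH' : Scheme.ord g H = d + D (CohB1.ProjSpace.toSpec n A H))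
    (h : ∀ y, y ≠ H → Order.coheight y = 1 → Scheme.ord g y = D (CohB1.ProjSpace.toSpec n A y)) :
    d = 0 ∧ ∃ f : ↑(Spec (CommRingCat.of A)).functionField, f ≠ 0 ∧
      ∀ x : ↥(Spec (CommRingCat.of A)), Order.coheight x = 1 → Scheme.ord f x = D x := by
  classical
  haveI : Nontrivial (HomogeneousLocalization.Away (CohB1.polyGrading n A)
      (MvPolynomial.X (0 : Fin (n + 1)))) :=
    (Groth.Agent.H11Proj.ProjSpace.chartMap_bijective n A 0).1.nontrivial
  have hne : Nonempty ↥(Spec (CommRingCat.of (HomogeneousLocalization.Away (CohB1.polyGrading n A)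
      (MvPolynomial.X (0 : Fin (n + 1)))))) := inferInstanceAs (Nonempty (PrimeSpectrum _))
  obtain ⟨c, hcU, hcV⟩ := H22Alg.WDivChart.exists_chart_projSpace A n hne
  have hnH : H ∉ c.V := fun h => H22Alg.WDivChart.not_mem_chart A n H hH (by
    have h' : H ∈ (c.V : Set ↥(CohB1.ProjSpace n A)) := h
    rw [hcV] at h'
    exact h')
  have hV : ∀ y, y ≠ H → Order.coheight y = 1 → y ∈ c.V := fun y hy hy1 => by
    by_contra h
    refine hy (H22Alg.WDivChart.eq_H_of_not_mem A n H hH ?_ hy1 fun h' => h ?_)
    · rw [← hcV]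
      obtain ⟨⟨z, hz⟩⟩ := c.nonempty
      exact ⟨z, hz⟩
    · show y ∈ (c.V : Set ↥(CohB1.ProjSpace n A))
      rw [hcV]
      exact h'
  have hpH := H22Alg.WDivChart.H_over_generic A n H hH hn
  have hgne := H22Alg.WDivChart.coheight_genericPoint_ne_one (X := Spec (CommRingCat.of A))
  have hD0 : D (genericPoint (Spec (CommRingCat.of A))) = 0 := hD _ hgne
  obtain ⟨f, hf, hfg⟩ := c.exists_pull_eq hg fun y hy hy1 hpy => by
    rw [h y (fun e => hnH (e ▸ hy)) hy1, hpy, hD0]
  refine ⟨?_, f, hf, fun x hx => ?_⟩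
  · have h0 := H22Alg.WDivChart.ord_pull_horiz c.dominant hpH hf
    rw [hfg, hH', hpH, hD0] at h0
    omega
  · obtain ⟨y, hy, rfl, hy1⟩ := c.exists_over (show x ∈ c.U by rw [hcU]; trivial) hx
    haveI := hR1 _ hx
    rw [← c.ord_pull hy hy1 hx hf, hfg, h y (fun e => hnH (e ▸ hy)) hy1]

end Groth.Agent.S10917
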