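import Groth.Statements.S10920
import Groth.Agent.H11Strict.ClosedImm

set_option autoImplicit false
universe u
open CategoryTheory AlgebraicGeometry
open SDiv

namespace Groth.Agent.S10920

/-- Let X be a Noetherian scheme, I a quasi-coherent ideal sheaf on X, f : Y → X a closed immersion, b :
X' → X a blowing up of X in I and b' : Y' → Y a blowing up of Y in the inverse image ideal sheaf
I·O_Y (blow-ups in the sense of the universal property: the inverse image ideal becomes effective
Cartier, universally). If f' : Y' → X' is the morphism compatible with the blow-ups, b ∘ f' = f ∘ b'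
(it exists and is unique by the universal property), then f' is a closed immersion; Y' is the strict
transform of Y. -/
theorem result {X Y X' Y' : Scheme.{u}} [IsNoetherian X]
    (𝓘 : X.IdealSheafData) (f : Y ⟶ X) [IsClosedImmersion f]
    (b : X' ⟶ X) (hb : BlowUp.IsBlowUp b 𝓘) (b' : Y' ⟶ Y) (hb' : BlowUp.IsBlowUp b' (𝓘.comap f))
    (f' : Y' ⟶ X') (hf' : f' ≫ b = b' ≫ f) : IsClosedImmersion f' := by
  exact (Groth.Agent.H11Strict.isClosedImmersion_of_isBlowUp 𝓘 f b hb b' hb' f' hf').1

end Groth.Agent.S10920
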