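import Groth.Statements.S10921
import Groth.Agent.H28Bertini.Form
import Groth.Agent.H28Bertini.Regular
import Groth.Agent.H19Grp.RegularSmooth
import Groth.Agent.H29Blow.Stalk

set_option autoImplicit false
universe u
open CategoryTheory CategoryTheory.Limits AlgebraicGeometry TopologicalSpace
open Groth.Agent
open SmVar

namespace Groth.Agent.S10921

/-- Let k be an algebraically closed field and X ⊆ P^n_k a nonsingular projective variety, given as an
integral scheme X with a closed immersion ι into projective n-space all of whose local rings are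
regular. For a linear form h = Σ a_i X_i let H be the hyperplane h = 0 and H ∩ X the
scheme-theoretic intersection. Then the hyperplanes H which do not contain X and for which H ∩ X is
regular at each of its closed points form a set containing a nonempty Zariski-open subset of the
dual projective space: there is a nonzero polynomial g in the coefficients a_0, …, a_n such that
every h with g(a) ≠ 0 has these two properties. Regularity of H ∩ X at a closed point x of X lying
on H is expressed on the local ring: O_{X,x} modulo the image of the germ of h/X_j (any j with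
X_j(x) ≠ 0) is a regular local ring. (The published statement asserts that the set of good
hyperplanes is itself open and dense and that H ∩ X is a regular subvariety; this row asserts
regularity of H ∩ X at its closed points for all hyperplanes outside a proper closed set, and not
irreducibility, which fails for curves of degree ≥ 2.) -/
theorem result (k : Type u) [Field k] [IsAlgClosed k] (n : ℕ)
    (X : Scheme.{u}) [IsIntegral X] (ι : X ⟶ CohB1.ProjSpace n k) [IsClosedImmersion ι]
    (hreg : ∀ x : ↥X, IsRegularLocalRing ↑(X.presheaf.stalk x)) :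
    ∃ g : MvPolynomial (Fin (n + 1)) k, g ≠ 0 ∧
      ∀ h : ↥(CohB1.polyGrading n k 1),
        MvPolynomial.eval (fun i => MvPolynomial.coeff (Finsupp.single i 1) (h : MvPolynomial (Fin (n + 1)) k)) g ≠ 0 →
          (∃ x : ↥X, (h : MvPolynomial (Fin (n + 1)) k) ∉ (ι.base x).asHomogeneousIdeal) ∧
          ∀ x : ↥X, IsClosed ({x} : Set ↥X) →
            (h : MvPolynomial (Fin (n + 1)) k) ∈ (ι.base x).asHomogeneousIdeal →
            ∀ (j : Fin (n + 1))
              (hj : (MvPolynomial.X j : MvPolynomial (Fin (n + 1)) k) ∉ (ι.base x).asHomogeneousIdeal),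
              IsRegularLocalRing (↑(X.presheaf.stalk x) ⧸ Ideal.span
                {(ι.stalkMap x).hom ((Proj.stalkIso' (CohB1.polyGrading n k) (ι.base x)).symm
                  (HomogeneousLocalization.mk
                    ⟨1, h, ⟨MvPolynomial.X j, MvPolynomial.isHomogeneous_X k j⟩, hj⟩))}) := by
  haveI : LocallyOfFiniteType (ι ≫ CohB1.ProjSpace.toSpec n k) := by
    haveI : LocallyOfFiniteType (CohB1.ProjSpace.toSpec n k) := inferInstance
    infer_instance
  haveI : Smooth (ι ≫ CohB1.ProjSpace.toSpec n k) := H28Bertini.smooth_of_regular _ hreg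
  obtain ⟨g, hg0, hg⟩ := H28Bertini.exists_poly_proj (k := k) ι
  refine ⟨g, hg0, fun h hh => ?_⟩
  obtain ⟨hne, hI, hsm⟩ := hg _ hh
  set c := fun i => MvPolynomial.coeff (Finsupp.single i 1) (h : MvPolynomial (Fin (n + 1)) k) with hc
  refine ⟨?_, fun x _ hx j hj => ?_⟩
  · obtain ⟨i, hi⟩ := H11Proj.SepPts.exists_chart (ι (genericPoint X))
    have hW : ((ι ⁻¹ᵁ H11Proj.SepPts.U (k := k) i : X.Opens) : Set X).Nonempty := ⟨genericPoint X, hi⟩
    refine ⟨genericPoint X, (H28Bertini.isUnit_germ_lin_iff h i _ hi).1 ?_⟩
    refine (isUnit_map_iff (ι.stalkMap (genericPoint X)).hom _).1 ?_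
    refine (congrArg IsUnit (Scheme.Hom.germ_stalkMap_apply ι _ (genericPoint X) hi _)).mpr ?_
    letI : Field (X.presheaf.stalk (genericPoint X)) := inferInstanceAs (Field X.functionField)
    refine (isUnit_iff_ne_zero (G₀ := X.presheaf.stalk (genericPoint X))).2 fun h0 => hne i hW ?_
    exact germ_injective_of_isIntegral X _ _ (h0.trans (map_zero _).symm)
  haveI := hsm
  let I := (PicF2.zeroScheme (Twist.twistProjSpace n k 1) (H28Bertini.formHom c)).comap ι
  let W : X.affineOpens := ⟨_, H28Bertini.isAffineOpen_preimage_U ι j⟩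
  have hxW : x ∈ W.1 := hj
  have hnu : ¬ IsUnit (X.presheaf.germ W.1 x hxW (H28Bertini.linX ι j c)) := fun hu => by
    refine (H28Bertini.isUnit_germ_lin_iff h j _ hj).1 ((isUnit_map_iff (ι.stalkMap x).hom _).1 ?_) hx
    exact (congrArg IsUnit (Scheme.Hom.germ_stalkMap_apply ι _ x hxW _)).mpr hu
  have hxI : x ∈ I.support := by
    rw [Scheme.IdealSheafData.mem_support_iff_of_mem (U := W) hxW, Scheme.mem_zeroLocus_iff]
    intro a ha hxa
    rw [hI j] at ha
    obtain ⟨b, rfl⟩ := Ideal.mem_span_singleton'.1 ha
    rw [Scheme.mem_basicOpen _ _ _ hxW, map_mul] at hxa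
    exact hnu (isUnit_of_mul_isUnit_right hxa)
  obtain ⟨d, rfl⟩ : x ∈ Set.range I.subschemeι := by
    rw [Scheme.IdealSheafData.range_subschemeι]
    exact hxI
  haveI := H19Grp.isRegularLocalRing_stalk_of_smooth (I.subschemeι ≫ ι ≫ CohB1.ProjSpace.toSpec n k) d
  refine IsRegularLocalRing.of_ringEquiv (R := I.subscheme.presheaf.stalk d) ?_
  refine (RingHom.quotientKerEquivOfSurjective (I.subschemeι.stalkMap_surjective d)).symm.trans
    (Ideal.quotEquivOfEq ?_)
  rw [H29Blow.ker_stalkMap_subschemeι I d W hxW, hI j, Ideal.map_span, Set.image_singleton]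
  refine congrArg (fun z => Ideal.span {z}) ?_
  refine Eq.trans ?_ (congrArg (ι.stalkMap (I.subschemeι d)).hom (H28Bertini.stalkIso'_symm_ratio h j _ hj).symm)
  rw [← H28Bertini.lin_eq_ratio]
  exact (Scheme.Hom.germ_stalkMap_apply ι _ _ hxW _).symm

end Groth.Agent.S10921
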