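import Groth.Statements.S10924
import Groth.Agent.H17.FLI.Bott
-- import your own Groth.Agent.* helpers here

set_option autoImplicit false
universe u
open CategoryTheory CategoryTheory.Limits AlgebraicGeometry
open ProjDual

namespace Groth.Agent.S10924

/-- Let k be a field, 0 ≤ p ≤ r, P = P^r_k with structure map to Spec k, Ω = Ω^1_{P/k} (the conormal
sheaf of the diagonal), L an O_P-module which is a p-th exterior power of Ω, and e a natural number
with r < e + p, so that the twist d = -e satisfies d < p - r; write L(d) = L ⊗ O_P(d). Then H^r(P,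
L(-e)) = H^r(P^r, Ω^p(-e)) is a k-vector space of dimension C(e+p, e) · C(e-1, r-p). -/
theorem result (k : Type u) [Field k] (r p : ℕ) (hp : p ≤ r)
    (L : (CohB1.ProjSpace r k).Modules)
    (hL : ExtPow.IsExtPow p (Omega.sheaf (CohB1.ProjSpace.toSpec r k)) L) (e : ℕ) (he : r < e + p) :
    Module.finrank k (Coh.HH (CohB1.ProjSpace r k)
      (CohB1.tensorMod L (Twist.twistProjSpace r k (-(e : ℤ)))) r) =
      Nat.choose (e + p) e * Nat.choose (e - 1) (r - p) := by
  obtain ⟨L', hL'⟩ := H22Alg.ExtPowSheaf.exists_isExtPow (r - p)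
    (H29Omega.isQCoh_sheaf (CohB1.ProjSpace.toSpec r k))
  rw [H17.FLI.finrank_extPow_twist_symm hp (le_refl r) hL hL' (-(e : ℤ)), neg_neg, Nat.sub_self,
    (H17.FLI.Bott.finrank_h0 k r p (r - p) (Nat.sub_add_cancel hp) hL' e (by omega)).2,
    show e + r - (r - p) = e + p by omega]

end Groth.Agent.S10924
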