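import Groth.Statements.S10925
import Groth.Agent.LeadBC.FiberConst
import Groth.Agent.H11Proj.ProperQProj
import Groth.Agent.H18HTop.SpecLiftDVR

set_option autoImplicit false
universe u
open CategoryTheory CategoryTheory.Limits AlgebraicGeometry
open PicF

namespace Groth.Agent.S10925

/-- The residue field of a closed point is the base field. -/
theorem isAlgClosed_closedPoint {k : Type u} [Field k] [IsAlgClosed k] {Y : Scheme.{u}}
    (g : Y ⟶ Spec (CommRingCat.of k)) [LocallyOfFiniteType g] (y : Y) (hy : IsClosed ({y} : Set Y)) :
    IsAlgClosed (Y.residueField y) := by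
  haveI : JacobsonSpace Y := LocallyOfFiniteType.jacobsonSpace g
  haveI := isClosed_singleton_iff_isClosedImmersion.mp hy
  haveI : IsFinite (Y.fromSpecResidueField y ≫ g) :=
    isFinite_iff_locallyOfFiniteType_of_jacobsonSpace.mpr inferInstance
  obtain ⟨ψ, hψ⟩ := Spec.map_surjective (Y.fromSpecResidueField y ≫ g)
  have hfin : ψ.hom.Finite := by
    have h : IsFinite (Spec.map ψ) := hψ ▸ inferInstance
    rwa [IsFinite.SpecMap_iff] at h
  letI := ψ.hom.toAlgebra
  haveI : Module.Finite k (Y.residueField y) := hfin
  exact IsAlgClosed.of_ringEquiv k _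
    (RingEquiv.ofBijective _ (IsAlgClosed.algebraMap_bijective_of_isIntegral (k := k) (K := Y.residueField y)))

/-- Let k be an algebraically closed field, Y an integral scheme of finite type over k, f : X → Y flat
and projective (f = i ≫ pr for a closed immersion i : X → P^n_Y), such that every fibre X_y, y ∈ Y,
is integral, and let E be an invertible O_X-module whose pullback to every fibre X_y is isomorphic
to the structure sheaf. Then L = f_*E is an invertible O_Y-module and the canonical map f^*f_*E → E
(the counit of f^* ⊣ f_*) is an isomorphism, so E ≅ f^*L. (Over a base field that is not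
algebraically closed the conclusion fails already for the spectrum of a nontrivial finite field
extension mapping to the point; the base field is taken algebraically closed here, the standing
convention for varieties.) -/
theorem result (k : Type u) [Field k] [IsAlgClosed k]
    {X Y : Scheme.{u}} (g : Y ⟶ Spec (CommRingCat.of k)) [LocallyOfFiniteType g] [QuasiCompact g]
    [IsIntegral Y] (n : ℕ) (i : X ⟶ CohB1.ProjSpaceOver n Y) [IsClosedImmersion i]
    (f : X ⟶ Y) (hf : f = i ≫ CohB1.ProjSpaceOver.toBase n Y) [Flat f]
    (hint : ∀ y : Y, IsIntegral (f.fiber y))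
    (E : X.Modules) (hE : PicF.IsInvertible E)
    (htriv : ∀ y : Y, Nonempty ((Scheme.Modules.pullback (f.fiberι y)).obj E ≅ Coh.structureModule (f.fiber y))) :
    PicF.IsInvertible ((Scheme.Modules.pushforward f).obj E) ∧
      IsIso ((Scheme.Modules.pullbackPushforwardAdjunction f).counit.app E) := by
  haveI : IsProper (CohB1.ProjSpaceOver.toBase n Y) := Groth.Agent.H27Weil.isProper_toBase n Y
  haveI : IsProper f := by rw [hf]; infer_instance
  haveI : JacobsonSpace Y := LocallyOfFiniteType.jacobsonSpace g
  haveI : IsLocallyNoetherian Y := LocallyOfFiniteType.isLocallyNoetherian g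
  haveI := Groth.Agent.H18HTop.locallyOfFinitePresentation_of_noetherian f
  let U := {s : Y | Module.finrank (Y.residueField s) Γ(f.fiber s, ⊤) ≤ 1}
  have hU : ∀ y, y ∈ U := fun y => by
    by_contra hy
    obtain ⟨z, hz, hzc⟩ := nonempty_inter_closedPoints (Z := Uᶜ) ⟨y, hy⟩
      (Groth.Agent.LeadBC.FiberConst.isOpen_finrank_le f 1).isClosed_compl.isLocallyClosed
    refine hz (le_of_eq (Groth.Agent.LeadBC.FiberConst.finrank_of_isIso_appTop f ?_))
    haveI := isAlgClosed_closedPoint g z hzc
    haveI : IsIntegral (f.fiber z) := hint z
    haveI : IsProper (f.fiberToSpecResidueField z) := MorphismProperty.pullback_snd _ _ inferInstance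
    exact Groth.Agent.LeadBC.GeomConn.isIso_appTop_of_algClosed (K := Y.residueField z) (f.fiberToSpecResidueField z)
  exact Groth.Agent.LeadBC.Seesaw.invertible_and_counit f E hE (fun y => by
    refine Groth.Agent.LeadBC.FiberConst.isIso_appTop_of_finrank f (le_antisymm (hU y) ?_)
    haveI : IsIntegral (f.fiber y) := hint y
    exact Groth.Agent.LeadBC.FiberConst.finrank_pos f inferInstance) htriv

end Groth.Agent.S10925
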