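import Groth.Statements.S10927
import Groth.Agent.H05EGA4.J2
import Groth.Agent.H05EGA4.TraceSplit.Sections
import Groth.Agent.H18Torsor.Glue

set_option autoImplicit false
universe u
open CategoryTheory CategoryTheory.Limits MonoidalCategory CartesianMonoidalCategory MonObj GrpObj AlgebraicGeometry
open Variety

namespace Groth.Agent.S10927

open CategoryTheory CategoryTheory.Limits MonoidalCategory CartesianMonoidalCategory MonObj GrpObj
  AlgebraicGeometry TopologicalSpace

variable {S : Scheme.{u}} {G X : Over S} [GrpObj G] (a : AlgGrp.Action G X)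

/-- Translation of the group by a point. -/
private noncomputable def transG (σ : 𝟙_ (Over S) ⟶ G) : G ⟶ G := (toUnit G ≫ σ) * 𝟙 G

/-- Translation of the space by a point. -/
private noncomputable def transP (σ : 𝟙_ (Over S) ⟶ G) : X ⟶ X :=
  H18Torsor.smul a (toUnit X ≫ σ) (𝟙 X)

private theorem comp_toUnit_comp {W W' Z : Over S} (u : W ⟶ W') (σ : 𝟙_ (Over S) ⟶ Z) :
    u ≫ toUnit W' ≫ σ = toUnit W ≫ σ := by
  rw [← Category.assoc, comp_toUnit]

private theorem isIso_transG (σ : 𝟙_ (Over S) ⟶ G) : IsIso (transG σ) := by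
  have key : ∀ τ : 𝟙_ (Over S) ⟶ G, transG τ ≫ transG τ⁻¹ = 𝟙 G := fun τ ↦ by
    rw [transG, transG, MonObj.comp_mul, Category.comp_id, comp_toUnit_comp, ← _root_.mul_assoc,
      ← MonObj.comp_mul, _root_.inv_mul_cancel, MonObj.comp_one, _root_.one_mul]
  exact ⟨transG σ⁻¹, key σ, by simpa using key σ⁻¹⟩

private theorem isIso_transP (σ : 𝟙_ (Over S) ⟶ G) : IsIso (transP a σ) := by
  have key : ∀ τ : 𝟙_ (Over S) ⟶ G, transP a τ ≫ transP a τ⁻¹ = 𝟙 X := fun τ ↦ by
    rw [transP, transP, H18Torsor.comp_smul, Category.comp_id, comp_toUnit_comp,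
      ← H18Torsor.mul_smul_pt, ← MonObj.comp_mul, _root_.inv_mul_cancel, MonObj.comp_one,
      H18Torsor.one_smul_pt]
  exact ⟨transP a σ⁻¹, key σ, by simpa using key σ⁻¹⟩

private theorem transG_orbit (σ : 𝟙_ (Over S) ⟶ G) (x : 𝟙_ (Over S) ⟶ X) :
    transG σ ≫ a.orbitMap x = a.orbitMap x ≫ transP a σ := by
  have h : a.orbitMap x = H18Torsor.smul a (𝟙 G) (toUnit G ≫ x) := rfl
  rw [h, transP, H18Torsor.comp_smul, H18Torsor.comp_smul, Category.comp_id, Category.comp_id,
    comp_toUnit_comp, comp_toUnit_comp, transG, H18Torsor.mul_smul_pt]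

private theorem eta_transG (σ : 𝟙_ (Over S) ⟶ G) : η[G] ≫ transG σ = σ := by
  have h : (η[G] : 𝟙_ (Over S) ⟶ G) = 1 := by rw [Hom.one_def, toUnit_unit, Category.id_comp]
  rw [transG, MonObj.comp_mul, Category.comp_id, comp_toUnit_comp, toUnit_unit, Category.id_comp, h,
    _root_.mul_one]

/-- Dominant morphisms of varieties in characteristic zero are smooth somewhere. -/
private theorem smoothLocus_nonempty (k : Type u) [Field k] [CharZero k] {A B : Scheme.{u}}
    [IsIntegral A] [IsIntegral B] (f : A ⟶ B) [IsDominant f] [LocallyOfFinitePresentation f]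
    (g : B ⟶ Spec (CommRingCat.of k)) [LocallyOfFiniteType g] :
    ∃ x : A, x ∈ f.smoothLocus := by
  obtain ⟨U, hU, hxU, -⟩ := exists_isAffineOpen_mem_and_subset (X := B) (x := f (genericPoint A)) (U := ⊤) trivial
  obtain ⟨V, hV, hxV, hVU⟩ := exists_isAffineOpen_mem_and_subset (U := f ⁻¹ᵁ U) (x := genericPoint A) hxU
  haveI : Nonempty V := ⟨⟨_, hxV⟩⟩
  haveI : Nonempty U := ⟨⟨_, hxU⟩⟩
  haveI : IsLocallyNoetherian B := LocallyOfFiniteType.isLocallyNoetherian g
  haveI : IsNoetherianRing Γ(B, U) := IsLocallyNoetherian.component_noetherian ⟨U, hU⟩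
  let φ := f.appLE U V hVU
  have hinj : Function.Injective φ.hom :=
    H05EGA4.TraceSplit.Ctx.injective_appLE f U V hVU
  have hft : φ.hom.FiniteType :=
    HasRingHomProperty.appLE (P := @LocallyOfFiniteType) f inferInstance ⟨U, hU⟩ ⟨V, hV⟩ hVU
  letI : Algebra k Γ(B, U) :=
    ((Scheme.ΓSpecIso (CommRingCat.of k)).inv ≫ g.appLE ⊤ U le_top).hom.toAlgebra
  algebraize [φ.hom]
  let K := FractionRing Γ(B, U)
  let L := FractionRing Γ(A, V)
  haveI : FaithfulSMul Γ(B, U) Γ(A, V) := (faithfulSMul_iff_algebraMap_injective _ _).mpr hinj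
  letI : Algebra K L := FractionRing.liftAlgebra _ _
  haveI : CharZero K := charZero_of_injective_algebraMap (FaithfulSMul.algebraMap_injective k K)
  haveI : Algebra.EssFiniteType Γ(A, V) L := Algebra.EssFiniteType.of_isLocalization L (nonZeroDivisors _)
  haveI : Algebra.EssFiniteType Γ(B, U) L := Algebra.EssFiniteType.comp Γ(B, U) Γ(A, V) L
  haveI : Algebra.EssFiniteType K L := Algebra.EssFiniteType.of_comp Γ(B, U) K L
  obtain ⟨r, hr, hsm⟩ := H05EGA4.exists_smooth_away Γ(B, U) Γ(A, V) K L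
  obtain ⟨p, hp⟩ : ∃ p : PrimeSpectrum Γ(A, V), r ∉ p.asIdeal :=
    ⟨⟨⊥, Ideal.isPrime_bot⟩, fun h ↦ hr (by simpa using h)⟩
  have hmem : hV.fromSpec p ∈ V := hV.range_fromSpec.le ⟨p, rfl⟩
  refine ⟨hV.fromSpec p, ?_⟩
  rw [Scheme.Hom.mem_smoothLocus, formallySmooth_stalkMap_iff U hU V hV hVU hmem]
  rw [show hV.primeIdealOf ⟨hV.fromSpec p, hmem⟩ = p from
    hV.fromSpec.isOpenEmbedding.injective (hV.fromSpec_primeIdealOf _)]
  haveI : Algebra.FinitePresentation Γ(B, U) Γ(A, V) :=
    Algebra.FinitePresentation.of_finiteType.mp inferInstance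
  exact Algebra.basicOpen_subset_smoothLocus_iff_smooth.mpr hsm hp

/-- Let k be an algebraically closed field of characteristic zero, G a group variety over k (an
integral, separated k-group scheme of finite type) and X a homogeneous space for G: a k-variety
(integral, separated, of finite type over k) with an action of G such that G(k) acts transitively on
X(k). Then for every k-point x of X the orbit map G → X, g ↦ g · x, is smooth. -/
theorem result (k : Type u) [Field k] [IsAlgClosed k] [CharZero k]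
    (G X : Over (Spec (CommRingCat.of k))) [GrpObj G] (a : AlgGrp.Action G X)
    [IsIntegral G.left] [IsSeparated G.hom] [LocallyOfFiniteType G.hom] [QuasiCompact G.hom]
    [IsIntegral X.left] [IsSeparated X.hom] [LocallyOfFiniteType X.hom] [QuasiCompact X.hom]
    (htrans : ∀ x x' : 𝟙_ (Over (Spec (CommRingCat.of k))) ⟶ X,
      ∃ σ : 𝟙_ (Over (Spec (CommRingCat.of k))) ⟶ G, CartesianMonoidalCategory.lift σ x ≫ a.act = x')
    (x : 𝟙_ (Over (Spec (CommRingCat.of k))) ⟶ X) :
    Smooth (a.orbitMap x).left := by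
  let φ : G.left ⟶ X.left := (a.orbitMap x).left
  have hφg : φ ≫ X.hom = G.hom := Over.w _
  haveI : LocallyOfFiniteType φ := by
    haveI : LocallyOfFiniteType (φ ≫ X.hom) := hφg ▸ inferInstance
    exact locallyOfFiniteType_of_comp φ X.hom
  haveI : IsLocallyNoetherian X.left := LocallyOfFiniteType.isLocallyNoetherian X.hom
  haveI : LocallyOfFinitePresentation φ := inferInstance
  haveI : JacobsonSpace G.left := LocallyOfFiniteType.jacobsonSpace G.hom
  haveI : JacobsonSpace X.left := LocallyOfFiniteType.jacobsonSpace X.hom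
  let pt := IsLocalRing.closedPoint k
  let toPt : ∀ (Z : Over (Spec (CommRingCat.of k))) [LocallyOfFiniteType Z.hom] (z : Z.left),
      IsClosed {z} → (𝟙_ (Over (Spec (CommRingCat.of k))) ⟶ Z) := fun Z _ z hz ↦
    Over.homMk (pointOfClosedPoint Z.hom z hz) (by simp)
  haveI : IsDominant φ := by
    refine ⟨dense_iff_closure_eq.mpr (top_le_iff.mp ?_)⟩
    refine le_trans (closure_closedPoints (X := X.left)).ge (closure_mono fun y hy ↦ ?_)
    obtain ⟨σ, hσ⟩ := htrans x (toPt X y hy)
    refine ⟨σ.left pt, ?_⟩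
    have h : σ ≫ a.orbitMap x = toPt X y hy := by
      rw [← hσ, AlgGrp.Action.orbitMap, comp_lift_assoc, Category.comp_id, comp_toUnit_comp,
        toUnit_unit, Category.id_comp]
    show ((σ ≫ a.orbitMap x).left) pt = y
    rw [h]
    exact pointOfClosedPoint_apply _ _ hy _
  have hinv : ∀ σ : 𝟙_ (Over (Spec (CommRingCat.of k))) ⟶ G,
      (η[G]).left pt ∈ φ.smoothLocus ↔ σ.left pt ∈ φ.smoothLocus := by
    intro σ
    haveI := isIso_transG σ
    haveI := isIso_transP a σ
    haveI : IsIso (transG σ).left := ((Over.forget _).mapIso (asIso (transG σ))).isIso_hom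
    haveI : IsIso (transP a σ).left := ((Over.forget _).mapIso (asIso (transP a σ))).isIso_hom
    have h1 := congrArg (fun U : G.left.Opens ↦ (η[G]).left pt ∈ U)
      (Scheme.Hom.preimage_smoothLocus_eq (transG σ).left φ)
    have h2 : (transG σ).left ≫ φ = φ ≫ (transP a σ).left :=
      congrArg Over.Hom.left (transG_orbit a σ x)
    have h3 : ∀ z : G.left,
        z ∈ ((transG σ).left ≫ φ).smoothLocus ↔ z ∈ φ.smoothLocus := fun z ↦ by
      simp only [h2, Scheme.Hom.mem_smoothLocus, Scheme.Hom.stalkMap_comp, CommRingCat.hom_comp]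
      exact RingHom.FormallySmooth.respectsIso.cancel_left_isIso _ _
    rw [← h3]
    simp only [eq_iff_iff] at h1
    rw [← h1]
    show (transG σ).left ((η[G]).left pt) ∈ φ.smoothLocus ↔ _
    rw [← Scheme.Hom.comp_apply, ← Over.comp_left, eta_transG]
  have hpt : ∀ g : G.left, ∀ hg : IsClosed {g}, (toPt G g hg).left pt = g :=
    fun g hg ↦ pointOfClosedPoint_apply _ _ hg _
  obtain ⟨g₀, hg₀⟩ := smoothLocus_nonempty k φ X.hom
  obtain ⟨g₁, hg₁s, hg₁⟩ := nonempty_inter_closedPoints ⟨g₀, hg₀⟩ φ.smoothLocus.2.isLocallyClosed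
  have he : (η[G]).left pt ∈ φ.smoothLocus := (hinv (toPt G g₁ hg₁)).mpr (by rw [hpt]; exact hg₁s)
  refine Scheme.Hom.smoothLocus_eq_top_iff.mp (top_le_iff.mp fun z _ ↦ ?_)
  by_contra hz
  obtain ⟨g, hgs, hg⟩ := nonempty_inter_closedPoints ⟨z, hz⟩
    φ.smoothLocus.2.isClosed_compl.isLocallyClosed
  exact hgs (hpt g hg ▸ (hinv (toPt G g hg)).mp he)

end Groth.Agent.S10927
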