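import Groth.Statements.S10928
import Groth.Agent.H7Kleiman.Main
-- import your own Groth.Agent.* helpers here

set_option autoImplicit false
universe u
open CategoryTheory CategoryTheory.Limits MonoidalCategory CartesianMonoidalCategory MonObj GrpObj AlgebraicGeometry
open Variety

namespace Groth.Agent.S10928

/-- Let k be an algebraically closed field of characteristic zero, G a group variety over k (integral,
separated k-group scheme of finite type), X a homogeneous space for G (a k-variety with a G-action
such that G(k) acts transitively on X(k)) of dimension n, and f : Y → X, g : Z → X morphisms of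
k-schemes where Y and Z are nonsingular varieties over k (integral, separated, smooth of finite type
over k) of dimensions r and s. For a k-point σ of G write f^σ : Y → X for y ↦ σ · f(y). Then there
is a nonempty open subset V ⊆ G such that for every k-point σ of G lying in V the scheme Y^σ ×_X Z
(fibre product of f^σ and g) is smooth over k and is either empty or of dimension r + s − n
(dimensions are topological Krull dimensions). -/
theorem result (k : Type u) [Field k] [IsAlgClosed k] [CharZero k]
    (G X : Over (Spec (CommRingCat.of k))) [GrpObj G] (a : AlgGrp.Action G X)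
    [IsIntegral G.left] [IsSeparated G.hom] [LocallyOfFiniteType G.hom] [QuasiCompact G.hom]
    [IsIntegral X.left] [IsSeparated X.hom] [LocallyOfFiniteType X.hom] [QuasiCompact X.hom]
    (htrans : ∀ x x' : 𝟙_ (Over (Spec (CommRingCat.of k))) ⟶ X,
      ∃ σ : 𝟙_ (Over (Spec (CommRingCat.of k))) ⟶ G, CartesianMonoidalCategory.lift σ x ≫ a.act = x')
    {Y Z : Scheme.{u}} (f : Y ⟶ X.left) (g : Z ⟶ X.left)
    [IsIntegral Y] [IsSeparated (f ≫ X.hom)] [QuasiCompact (f ≫ X.hom)] [Smooth (f ≫ X.hom)]
    [IsIntegral Z] [IsSeparated (g ≫ X.hom)] [QuasiCompact (g ≫ X.hom)] [Smooth (g ≫ X.hom)]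
    (n r s : ℕ) (hn : topologicalKrullDim ↥X.left = n) (hr : topologicalKrullDim ↥Y = r)
    (hs : topologicalKrullDim ↥Z = s) :
    ∃ V : G.left.Opens, (V : Set ↥G.left).Nonempty ∧
      ∀ σ : 𝟙_ (Over (Spec (CommRingCat.of k))) ⟶ G, Set.range σ.left.base ⊆ (V : Set ↥G.left) →
        ∀ fσ : Y ⟶ X.left,
          fσ = (CartesianMonoidalCategory.lift (CartesianMonoidalCategory.toUnit (Over.mk (f ≫ X.hom)) ≫ σ)
            (Over.homMk f) ≫ a.act).left →
          Smooth (pullback.fst fσ g ≫ f ≫ X.hom) ∧
            (IsEmpty ↥(pullback fσ g) ∨ (n ≤ r + s ∧ topologicalKrullDim ↥(pullback fσ g) = ((r + s - n : ℕ) : WithBot ℕ∞))) := by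
  haveI : Smooth (Over.mk (f ≫ X.hom)).hom := ‹Smooth (f ≫ X.hom)›
  haveI : IsSeparated (Over.mk (f ≫ X.hom)).hom := ‹IsSeparated (f ≫ X.hom)›
  haveI : QuasiCompact (Over.mk (f ≫ X.hom)).hom := ‹QuasiCompact (f ≫ X.hom)›
  haveI : IsIntegral (Over.mk (f ≫ X.hom)).left := ‹IsIntegral Y›
  obtain ⟨V, hV, h⟩ := Groth.Agent.H7Kleiman.kleiman G X a htrans (Over.mk (f ≫ X.hom)) (Over.homMk f) g
    n r s hn hr hs
  exact ⟨V, hV, fun σ hσ fσ hfσ => h σ hσ fσ hfσ⟩

end Groth.Agent.S10928
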