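import Groth.Statements.S10929
import Mathlib.AlgebraicGeometry.Morphisms.Smooth
import Mathlib.AlgebraicGeometry.FunctionField
import Mathlib.AlgebraicGeometry.Noetherian

set_option autoImplicit false
universe u
open CategoryTheory CategoryTheory.Limits AlgebraicGeometry
open Variety

namespace Groth.Agent.S10929

/-- Let k be an algebraically closed field of characteristic zero, X and Y integral schemes of finite
type over k and f : X → Y a dominant k-morphism. Then there is a nonempty open subscheme U of X such
that f restricted to U is a smooth morphism U → Y. -/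
theorem result (k : Type u) [Field k] [IsAlgClosed k] [CharZero k]
    {X Y : Scheme.{u}} (qX : X ⟶ Spec (CommRingCat.of k)) (qY : Y ⟶ Spec (CommRingCat.of k))
    [LocallyOfFiniteType qX] [QuasiCompact qX] [LocallyOfFiniteType qY] [QuasiCompact qY]
    [IsIntegral X] [IsIntegral Y] (f : X ⟶ Y) (hf : f ≫ qY = qX) (hdom : DenseRange f.base) :
    ∃ U : X.Opens, (U : Set ↥X).Nonempty ∧ Smooth (U.ι ≫ f) := by
  have : IsLocallyNoetherian Y := LocallyOfFiniteType.isLocallyNoetherian qY
  have hlft : LocallyOfFiniteType (f ≫ qY) := hf ▸ inferInstance
  have : LocallyOfFiniteType f := locallyOfFiniteType_of_comp f qY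
  have : LocallyOfFinitePresentation f := inferInstance
  have hη : f (genericPoint X) = genericPoint Y := by
    refine ((genericPoint_spec X).image f.continuous).eq ?_
    rw [Set.image_univ, hdom.closure_range]
    exact genericPoint_spec Y
  refine ⟨f.smoothLocus, ⟨genericPoint X, ?_⟩, ?_⟩
  · have := LocallyOfFiniteType.stalkMap f (genericPoint X)
    show genericPoint X ∈ f.smoothLocus
    rw [Scheme.Hom.mem_smoothLocus]
    algebraize [(f.stalkMap (genericPoint X)).hom]
    let : Field (Y.presheaf.stalk (f (genericPoint X))) :=
      (hη ▸ Field.toIsField Y.functionField : IsField (Y.presheaf.stalk (f (genericPoint X)))).toField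
    have : CharZero (Y.presheaf.stalk (f (genericPoint X))) :=
      charZero_of_injective_ringHom
        (Spec.preimage (Y.fromSpecStalk (f (genericPoint X)) ≫ qY)).hom.injective
    exact Algebra.FormallySmooth.of_perfectField
  · rw [← Scheme.Hom.smoothLocus_eq_top_iff, ← Scheme.Hom.preimage_smoothLocus_eq, Scheme.Opens.ι_preimage_self]

end Groth.Agent.S10929
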