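import Groth.Statements.S10930
import Groth.Agent.H22Alg.SmoothOverField
import Groth.Agent.H17.QcImage
import Mathlib.AlgebraicGeometry.Morphisms.Smooth
import Mathlib.AlgebraicGeometry.FunctionField
import Mathlib.AlgebraicGeometry.Noetherian

set_option autoImplicit false
universe u
open CategoryTheory CategoryTheory.Limits AlgebraicGeometry
open Variety

namespace Groth.Agent.S10930

/-- Let k be an algebraically closed field of characteristic zero, X and Y varieties over k (integral,
separated and of finite type over k) with X nonsingular, i.e. smooth over k, and f : X → Y a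
k-morphism. Then there is a nonempty open subscheme V of Y such that the restriction f⁻¹(V) → V of f
is smooth. -/
theorem result (k : Type u) [Field k] [IsAlgClosed k] [CharZero k]
    {X Y : Scheme.{u}} (qX : X ⟶ Spec (CommRingCat.of k)) (qY : Y ⟶ Spec (CommRingCat.of k))
    [LocallyOfFiniteType qX] [QuasiCompact qX] [IsSeparated qX] [Smooth qX]
    [LocallyOfFiniteType qY] [QuasiCompact qY] [IsSeparated qY]
    [IsIntegral X] [IsIntegral Y] (f : X ⟶ Y) (hf : f ≫ qY = qX) :
    ∃ V : Y.Opens, (V : Set ↥Y).Nonempty ∧ Smooth (f ∣_ V) := by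
  subst hf
  have : IsLocallyNoetherian Y := LocallyOfFiniteType.isLocallyNoetherian qY
  have : IsLocallyNoetherian X := LocallyOfFiniteType.isLocallyNoetherian (f ≫ qY)
  have : LocallyOfFiniteType f := locallyOfFiniteType_of_comp f qY
  have : LocallyOfFinitePresentation f := inferInstance
  have : QuasiCompact f := QuasiCompact.of_comp f qY
  let K₀ := Y.presheaf.stalk (genericPoint Y)
  have hgen : ∀ x : X, f x = genericPoint Y → x ∈ f.smoothLocus := by
    intro x hx
    have hsm : x ∈ (f ≫ qY).smoothLocus := by rw [Scheme.Hom.smoothLocus_eq_top]; trivial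
    rw [Scheme.Hom.mem_smoothLocus, Scheme.Hom.stalkMap_comp] at hsm
    rw [Scheme.Hom.mem_smoothLocus]
    have hY := LocallyOfFiniteType.stalkMap qY (f x)
    have hX := LocallyOfFiniteType.stalkMap f x
    let K := Y.presheaf.stalk (f x)
    let k' := (Spec (CommRingCat.of k)).presheaf.stalk (qY (f x))
    algebraize [(qY.stalkMap (f x)).hom, (f.stalkMap x).hom, (f.stalkMap x).hom.comp (qY.stalkMap (f x)).hom]
    let : Field K := (show IsField (Y.presheaf.stalk (f x)) by rw [hx]; exact Field.toIsField Y.functionField).toField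
    have : CharZero K :=
      charZero_of_injective_ringHom (Spec.preimage (Y.fromSpecStalk (f x) ≫ qY)).hom.injective
    have hk' : IsField k' := by
      have hp : qY (f x) = genericPoint (Spec (CommRingCat.of k)) :=
        @Subsingleton.elim _ (inferInstanceAs (Subsingleton (PrimeSpectrum k))) _ _
      show IsField ((Spec (CommRingCat.of k)).presheaf.stalk (qY (f x)))
      rw [hp]
      exact Field.toIsField (Spec (CommRingCat.of k)).functionField
    let : Field k' := hk'.toField
    have : CharZero k' :=
      charZero_of_injective_ringHom (Spec.preimage ((Spec (CommRingCat.of k)).fromSpecStalk (qY (f x)))).hom.injective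
    have : Algebra.EssFiniteType k' K := hY
    have : Algebra.EssFiniteType K (X.presheaf.stalk x) := hX
    have : Algebra.EssFiniteType k' (X.presheaf.stalk x) := Algebra.EssFiniteType.comp k' K _
    have : Algebra.FormallySmooth k' (X.presheaf.stalk x) := hsm
    have : Algebra.EssFiniteType K (IsLocalRing.ResidueField (X.presheaf.stalk x)) :=
      Algebra.EssFiniteType.comp K (X.presheaf.stalk x) _
    have : Algebra.FormallySmooth K (IsLocalRing.ResidueField (X.presheaf.stalk x)) :=
      Algebra.FormallySmooth.of_perfectField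
    exact Groth.Agent.H22Alg.formallySmooth_of_tower (k := k') (K := K)
  have : CompactSpace X := QuasiCompact.compactSpace_of_compactSpace (f ≫ qY)
  have hnot : genericPoint Y ∉ closure (f '' (f.smoothLocus : Set X)ᶜ) := by
    intro hmem
    let Z : TopologicalSpace.Closeds X := ⟨(f.smoothLocus : Set X)ᶜ, f.smoothLocus.2.isClosed_compl⟩
    let j := (Scheme.IdealSheafData.vanishingIdeal Z).subschemeι
    have hj : Set.range j = Z := by
      simp [j, Scheme.IdealSheafData.range_subschemeι, Scheme.IdealSheafData.coe_support_vanishingIdeal]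
    have himg : f '' (Z : Set X) = Set.range (j ≫ f) := by
      rw [← hj, ← Set.range_comp]; ext; simp
    obtain ⟨z, hz⟩ := Groth.Agent.H17.exists_specializes_of_mem_closure_range (j ≫ f)
      (show genericPoint Y ∈ closure (Set.range (j ≫ f)) from himg ▸ hmem)
    have heq : (j ≫ f) z = genericPoint Y := (hz.antisymm (genericPoint_specializes _)).eq
    exact (show j z ∈ (Z : Set X) from hj ▸ ⟨z, rfl⟩) (hgen (j z) (by rwa [Scheme.Hom.comp_apply] at heq))
  refine ⟨⟨(closure (f '' (f.smoothLocus : Set X)ᶜ))ᶜ, isClosed_closure.isOpen_compl⟩, ⟨genericPoint Y, hnot⟩, ?_⟩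
  set V : Y.Opens := ⟨(closure (f '' (f.smoothLocus : Set X)ᶜ))ᶜ, isClosed_closure.isOpen_compl⟩
  have hle : f ⁻¹ᵁ V ≤ f.smoothLocus := fun x hx => by
    by_contra hns
    exact hx (subset_closure ⟨x, hns, rfl⟩)
  have : Smooth ((f ⁻¹ᵁ V).ι ≫ f) := by
    rw [← Scheme.Hom.smoothLocus_eq_top_iff, ← Scheme.Hom.preimage_smoothLocus_eq, eq_top_iff]
    intro x _
    exact hle x.2
  have hm : Smooth ((f ∣_ V) ≫ V.ι) := by rw [morphismRestrict_ι]; infer_instance
  have sq : IsPullback (𝟙 _) (f ∣_ V) ((f ∣_ V) ≫ V.ι) V.ι := by
    refine ⟨⟨by simp⟩, ⟨Limits.PullbackCone.IsLimit.mk _ (fun c => c.fst) (fun c => by simp) (fun c => ?_) (fun c m h1 _ => by simpa using h1)⟩⟩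
    rw [← cancel_mono V.ι, Category.assoc, c.condition]
  exact MorphismProperty.of_isPullback sq hm

end Groth.Agent.S10930
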