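import Groth.Statements.S10933
import Groth.Agent.H02CA.ExtDual
import Mathlib.RingTheory.LocalRing.Module

set_option autoImplicit false
universe u
open CategoryTheory
open CAlg

namespace Groth.Agent.S10933

open CategoryTheory

theorem not_lt_of_nontrivial {A : Type u} [CommRing A] (M : ModuleCat.{u} A) (d : ℕ)
    (h : Nontrivial (Abelian.Ext M (ModuleCat.of A A) d)) : ¬ HasProjectiveDimensionLT M d := fun _ =>
  not_subsingleton (Abelian.Ext M (ModuleCat.of A A) d) (HasProjectiveDimensionLT.subsingleton M d d le_rfl _)

/-- Let A be a (Noetherian) regular local ring, M a finitely generated A-module and d a natural number.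
Then the projective dimension of M equals d if and only if Ext^j_A(M, A) = 0 for every j > d and
Ext^d_A(M, A) ≠ 0. (Projective dimension valued in WithBot ℕ∞, the zero module having projective
dimension ⊥.) -/
theorem result (A : Type u) [CommRing A] [IsRegularLocalRing A]
    (M : Type u) [AddCommGroup M] [Module A M] [Module.Finite A M] (d : ℕ) :
    projectiveDimension (ModuleCat.of A M) = (d : WithBot ℕ∞) ↔
      ((∀ j : ℕ, d < j → Subsingleton (Abelian.Ext (ModuleCat.of A M) (ModuleCat.of A A) j)) ∧
        Nontrivial (Abelian.Ext (ModuleCat.of A M) (ModuleCat.of A A) d)) := by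
  obtain ⟨n, hn, hk⟩ := Groth.Agent.H05EGA4.exists_pd_residueField A
  have hglob : HasProjectiveDimensionLT (ModuleCat.of A M) (n + 1) :=
    Groth.Agent.H05EGA4.hasProjectiveDimensionLT_of_residueField n hk _
  constructor
  · intro h
    have hle : HasProjectiveDimensionLT (ModuleCat.of A M) (d + 1) := (projectiveDimension_le_iff _ d).mp h.le
    have hge : ¬ HasProjectiveDimensionLT (ModuleCat.of A M) d := (projectiveDimension_ge_iff _ d).mp h.ge
    refine ⟨fun j hj => HasProjectiveDimensionLT.subsingleton _ (d + 1) j hj _, ?_⟩
    by_contra hs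
    rw [not_nontrivial_iff_subsingleton] at hs
    rcases d with _ | d
    · haveI : Module.Projective A M :=
        (IsProjective.iff_projective _).mpr (projective_iff_hasProjectiveDimensionLT_one.mpr hle)
      haveI : Module.Free A M := Module.free_of_flat_of_isLocalRing
      refine hge ((hasProjectiveDimensionLT_zero_iff_isZero _).mpr ?_)
      rcases subsingleton_or_nontrivial M with hM | hM
      · exact ModuleCat.isZero_of_subsingleton _
      exfalso
      let b := Module.Free.chooseBasis A M
      obtain ⟨i⟩ := b.index_nonempty
      have h0 : ModuleCat.ofHom (b.coord i) = (0 : ModuleCat.of A M ⟶ ModuleCat.of A A) :=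
        (Abelian.Ext.mk₀_bijective _ _).1 (hs.elim _ _)
      have := congr($(h0) (b i))
      simp at this
    · haveI : HasProjectiveDimensionLT (ModuleCat.of A M) (d + 2) := hle
      exact hge (Groth.Agent.H02CA.hasProjectiveDimensionLT_of_ext_self d M hs)
  · rintro ⟨hv, hnt⟩
    have hge := not_lt_of_nontrivial _ d hnt
    have hdn : d ≤ n := by
      by_contra hlt
      exact hge (hasProjectiveDimensionLT_of_ge _ (n + 1) _ (by omega))
    refine le_antisymm ((projectiveDimension_le_iff _ d).mpr ?_) ((projectiveDimension_ge_iff _ d).mpr hge)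
    exact Groth.Agent.H02CA.hasProjectiveDimensionLT_of_ext_self_above M d (n - d)
      (by rwa [show d + (n - d) + 1 = n + 1 by omega]) fun j hj _ => hv j hj

end Groth.Agent.S10933
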