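import Groth.Statements.S10936
import Groth.Agent.H7SmoothCrit.Main
-- import your own Groth.Agent.* helpers here

set_option autoImplicit false
universe u
open CategoryTheory CategoryTheory.Limits AlgebraicGeometry
open Variety

namespace Groth.Agent.S10936

/-- (a)⇔(c): let k be an algebraically closed field, X and Y nonsingular varieties over k (integral,
separated, of finite type and smooth over k) with dim Y = dY and dim X = dY + n, and f : X → Y a
k-morphism. Then f is smooth of relative dimension n if and only if for every closed point x of X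
the tangent map T_x f : T_x X → T_{f(x)} Y is surjective — equivalently, the cotangent map
m_{f(x)}/m_{f(x)}^2 → m_x/m_x^2 of the local rings is injective. -/
theorem result (k : Type u) [Field k] [IsAlgClosed k]
    {X Y : Scheme.{u}} (qX : X ⟶ Spec (CommRingCat.of k)) (qY : Y ⟶ Spec (CommRingCat.of k))
    [IsIntegral X] [IsSeparated qX] [LocallyOfFiniteType qX] [QuasiCompact qX] [Smooth qX]
    [IsIntegral Y] [IsSeparated qY] [LocallyOfFiniteType qY] [QuasiCompact qY] [Smooth qY]
    (f : X ⟶ Y) (hf : f ≫ qY = qX) (n dY : ℕ) (hY : topologicalKrullDim ↥Y = dY)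
    (hX : topologicalKrullDim ↥X = ((dY + n : ℕ) : WithBot ℕ∞)) :
    SmoothOfRelativeDimension n f ↔
      ∀ x : X, IsClosed ({x} : Set ↥X) → Function.Injective (FixPt.cotangentMapAt f x (f.base x) rfl) := by
  subst hf
  haveI : SmoothOfRelativeDimension dY qY := H27CurveDiv.smoothOfRelativeDimension_of_dim qY dY hY
  haveI : SmoothOfRelativeDimension (n + dY) (f ≫ qY) :=
    H27CurveDiv.smoothOfRelativeDimension_of_dim _ (n + dY) (by rw [add_comm n dY]; exact hX)
  haveI : LocallyOfFiniteType f := locallyOfFiniteType_of_comp f qY
  haveI : IsLocallyNoetherian Y := LocallyOfFiniteType.isLocallyNoetherian qY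
  haveI : LocallyOfFinitePresentation f := inferInstance
  refine ⟨fun h x hx => ?_, fun h => ?_⟩
  · haveI : Smooth f := SmoothOfRelativeDimension.smooth n f
    have : x ∈ f.smoothLocus := by rw [f.smoothLocus_eq_top]; trivial
    exact (H7SmoothCrit.injective_cotangent_iff_formallySmooth f qY n dY x hx).1 this
  · haveI : JacobsonSpace X := LocallyOfFiniteType.jacobsonSpace (f ≫ qY)
    haveI : Smooth f := H7SmoothCrit.smooth_of_closed_points f fun x hx =>
      (H7SmoothCrit.injective_cotangent_iff_formallySmooth f qY n dY x hx).2 (h x hx)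
    exact H7SmoothCrit.smoothOfRelativeDimension_of_comp qY f n dY

end Groth.Agent.S10936
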