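import Groth.Statements.S10937
import Groth.Agent.H7SmoothCrit.Main
-- import your own Groth.Agent.* helpers here

set_option autoImplicit false
universe u
open CategoryTheory CategoryTheory.Limits AlgebraicGeometry
open Variety

namespace Groth.Agent.S10937

/-- (a)⇔(b): let k be an algebraically closed field, X and Y nonsingular varieties over k (integral,
separated, of finite type and smooth over k) with dim Y = dY and dim X = dY + n, and f : X → Y a
k-morphism. Then f is smooth of relative dimension n if and only if Ω_{X/Y} (the conormal sheaf of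
the diagonal of f) is locally free of rank n. -/
theorem result (k : Type u) [Field k] [IsAlgClosed k]
    {X Y : Scheme.{u}} (qX : X ⟶ Spec (CommRingCat.of k)) (qY : Y ⟶ Spec (CommRingCat.of k))
    [IsIntegral X] [IsSeparated qX] [LocallyOfFiniteType qX] [QuasiCompact qX] [Smooth qX]
    [IsIntegral Y] [IsSeparated qY] [LocallyOfFiniteType qY] [QuasiCompact qY] [Smooth qY]
    (f : X ⟶ Y) (hf : f ≫ qY = qX) (n dY : ℕ) (hY : topologicalKrullDim ↥Y = dY)
    (hX : topologicalKrullDim ↥X = ((dY + n : ℕ) : WithBot ℕ∞)) :
    SmoothOfRelativeDimension n f ↔ FlatMod.IsFinLocFreeOfRank n (Omega.sheaf f) := by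
  subst hf
  haveI : SmoothOfRelativeDimension dY qY := H27CurveDiv.smoothOfRelativeDimension_of_dim qY dY hY
  haveI : SmoothOfRelativeDimension (n + dY) (f ≫ qY) :=
    H27CurveDiv.smoothOfRelativeDimension_of_dim _ (n + dY) (by rw [add_comm n dY]; exact hX)
  haveI : IsSeparated f := IsSeparated.of_comp f qY
  refine ⟨fun h => H28RR.isFinLocFreeOfRank_omega f n, fun h => ?_⟩
  haveI : LocallyOfFiniteType f := locallyOfFiniteType_of_comp f qY
  haveI : IsLocallyNoetherian Y := LocallyOfFiniteType.isLocallyNoetherian qY
  haveI : LocallyOfFinitePresentation f := inferInstance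
  haveI : Smooth f := Scheme.Hom.smoothLocus_eq_top_iff.1
    (top_le_iff.1 fun x _ => H7SmoothCrit.formallySmooth_of_omega f qY n dY h x)
  exact H7SmoothCrit.smoothOfRelativeDimension_of_comp qY f n dY

end Groth.Agent.S10937
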