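import Groth.Statements.S10939
import Mathlib
import Groth.Agent.H22Alg.ProjCut

set_option autoImplicit false
universe u
open CategoryTheory CategoryTheory.Limits AlgebraicGeometry
open Variety

namespace Groth.Agent.S10939

/-- Let k be a field, P = P^n_k = Proj k[x_0, …, x_n], and i_X : X → P, i_Y : Y → P closed immersions
with X of dimension r. Then there are homogeneous polynomials h_1, …, h_{r+1} of positive degree,
with basic opens D_j = D_+(h_j) and hypersurfaces H_j = P ∖ D_j, such that every H_j contains Y and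
X ∖ Y = ⋃_j (X ∖ H_j), i.e. every point of X outside Y lies in some D_j; moreover each X ∖ H_j = X ∩
D_j is affine. (The published statement takes X and Y reduced; the assertion only concerns the
underlying closed sets.) -/
theorem result (k : Type u) [Field k] (n r : ℕ)
    {X Y : Scheme.{u}} (iX : X ⟶ CohB1.ProjSpace n k) (iY : Y ⟶ CohB1.ProjSpace n k)
    [IsClosedImmersion iX] [IsClosedImmersion iY] (hX : topologicalKrullDim ↥X = r) :
    ∃ (h : Fin (r + 1) → MvPolynomial (Fin (n + 1)) k) (D : Fin (r + 1) → (CohB1.ProjSpace n k).Opens),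
      (∀ j, D j = Proj.basicOpen (CohB1.polyGrading n k) (h j)) ∧
      (∀ j, ∃ d : ℕ, 0 < d ∧ (h j).IsHomogeneous d) ∧
      (∀ j, Set.range iY.base ⊆ (D j : Set ↥(CohB1.ProjSpace n k))ᶜ) ∧
      (Set.range iX.base \ Set.range iY.base ⊆ ⋃ j, (D j : Set ↥(CohB1.ProjSpace n k))) ∧
      ∀ j, IsAffineOpen (iX ⁻¹ᵁ (D j)) := by
  let A : Set (ProjectiveSpectrum (CohB1.polyGrading n k)) := Set.range iX.base
  let B : Set (ProjectiveSpectrum (CohB1.polyGrading n k)) := Set.range iY.base
  have hA : IsClosed A := iX.isClosedEmbedding.isClosed_range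
  have hdim : topologicalKrullDim A = r := by
    rw [← hX]
    exact (IsHomeomorph.topologicalKrullDim_eq _ iX.isClosedEmbedding.isEmbedding.toHomeomorph.isHomeomorph).symm
  have hle : ∀ x ∈ A, x ∉ B → Groth.Agent.H22Alg.ProjDim.qdim k n x ≤ r + 1 := fun x hx _ => by
    by_contra h
    have h1 := Groth.Agent.H22Alg.ProjDim.le_dim k n hA hx (d := r + 1) (by omega)
    rw [hdim] at h1
    have : r + 1 ≤ r := ENat.coe_le_coe.mp (WithBot.coe_le_coe.mp h1)
    omega
  obtain ⟨h, hhom, hY, hcov⟩ := Groth.Agent.H22Alg.ProjDim.exists_forms k n iY.isClosedEmbedding.isClosed_range (r + 1) A hA hle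
  refine ⟨h, fun j => Proj.basicOpen (CohB1.polyGrading n k) (h j), fun j => rfl, hhom, fun j y hy hyD => hyD (hY j y hy),
    fun x hx => ?_, fun j => ?_⟩
  · obtain ⟨j, hj⟩ := hcov x hx.1 hx.2
    exact Set.mem_iUnion.mpr ⟨j, hj⟩
  · obtain ⟨d, hd, hh⟩ := hhom j
    have haff : IsAffineOpen (X := CohB1.ProjSpace n k) (Proj.basicOpen (CohB1.polyGrading n k) (h j)) :=
      Proj.isAffineOpen_basicOpen (CohB1.polyGrading n k) (h j) hh hd
    exact haff.preimage iX

end Groth.Agent.S10939
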