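import Groth.Statements.S10940
import Mathlib
import Groth.Agent.H22Alg.ProjCut

set_option autoImplicit false
universe u
open CategoryTheory CategoryTheory.Limits AlgebraicGeometry
open Variety

namespace Groth.Agent.S10940

/-- Let k be a field and X a quasi-projective variety over k of dimension r: an integral scheme with an
immersion j : X → P^n_k. Then X admits a cover by r + 1 affine open subschemes. (Consequently the
cohomology of every quasi-coherent O_X-module vanishes above degree r; that consequence is the
general vanishing above the number of affines in a cover and is not restated here. The published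
statement is for varieties over an algebraically closed field; the argument, r + 1 hypersurfaces
through the boundary of the closure of X, works over any field, so k is an arbitrary field here.) -/
theorem result (k : Type u) [Field k] (n r : ℕ)
    {X : Scheme.{u}} (j : X ⟶ CohB1.ProjSpace n k) [IsImmersion j] [IsIntegral X]
    (hX : topologicalKrullDim ↥X = r) :
    ∃ U : Fin (r + 1) → X.Opens, (∀ i, IsAffineOpen (U i)) ∧ ⨆ i, U i = ⊤ := by
  let C : Set (ProjectiveSpectrum (CohB1.polyGrading n k)) := closure (Set.range j.base)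
  let B : Set (ProjectiveSpectrum (CohB1.polyGrading n k)) := C ∩ (coborder (Set.range j.base))ᶜ
  have hB : IsClosed B := isClosed_closure.inter j.isLocallyClosed_range.isOpen_coborder.isClosed_compl
  have hnotB : ∀ x ∈ C, (x ∉ B ↔ x ∈ Set.range j.base) := fun x hx => by
    show ¬ (x ∈ C ∧ x ∈ (coborder (Set.range j.base))ᶜ) ↔ _
    rw [coborder_eq_union_closure_compl]
    exact ⟨fun h => by_contra fun h' => h ⟨hx, fun h2 => h2.elim h' fun h3 => h3 hx⟩,
      fun h h' => h'.2 (Or.inl h)⟩
  letI := specializationOrder ↥X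
  have hser : ∀ (g : MvPolynomial (Fin (n + 1)) k) (e : ℕ), 0 < e → g.IsHomogeneous e →
      (∀ y ∈ B, g ∈ y.asHomogeneousIdeal.toIdeal) → ∀ (d : ℕ) (b : X),
      g ∉ (j.base b : ProjectiveSpectrum (CohB1.polyGrading n k)).asHomogeneousIdeal.toIdeal →
      Groth.Agent.H22Alg.ProjDim.qdim k n (j.base b) = d + 1 → ∃ p : LTSeries X, p.length = d ∧ p.last = b := by
    intro g e he hg hgB d
    induction d with
    | zero => exact fun b _ _ => ⟨RelSeries.singleton _ b, rfl, rfl⟩
    | succ d ih =>
      intro b hb hq
      obtain ⟨y, hxy, hy, hgy⟩ := Groth.Agent.H22Alg.ProjDim.exists_qdim_pred_avoiding k n _ he hg hb d hq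
      have hyC : y ∈ C := Groth.Agent.H22Alg.ProjDim.mem_closed_of_le k n isClosed_closure
        (subset_closure ⟨b, rfl⟩) hxy.le
      obtain ⟨b', rfl⟩ := (hnotB y hyC).mp fun h => hgy (hgB y h)
      obtain ⟨p, hp, hlast⟩ := ih b' hgy hy
      have hlt : p.last < b := by
        rw [hlast]
        apply lt_of_le_of_ne
        · exact j.isEmbedding.isInducing.specializes_iff.mp
            ((Groth.Agent.H22Alg.ProjDim.le_iff_specializes k n _ _).mp hxy.le)
        · exact fun h => hxy.ne (by rw [h])
      exact ⟨p.snoc b hlt, by simp [hp], RelSeries.last_snoc _ _ _⟩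
  have hle : ∀ x ∈ C, x ∉ B → Groth.Agent.H22Alg.ProjDim.qdim k n x ≤ r + 1 := by
    classical
    intro x hx hxB
    obtain ⟨b, rfl⟩ := (hnotB x hx).mp hxB
    obtain ⟨e, g, he, hg, hgI, hgS⟩ := Groth.Agent.H22Alg.ProjDim.exists_form_avoiding k n
      (ProjectiveSpectrum.vanishingIdeal B).toIdeal (ProjectiveSpectrum.vanishingIdeal B).isHomogeneous
      {(j.base b : ProjectiveSpectrum (CohB1.polyGrading n k)).asHomogeneousIdeal.toIdeal} (fun q hq => by
        rw [Finset.mem_singleton] at hq
        subst hq
        exact ⟨ProjectiveSpectrum.isPrime _, HomogeneousIdeal.isHomogeneous _,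
          fun h => hxB ((Groth.Agent.H22Alg.ProjDim.mem_iff_vanishingIdeal_le k n hB _).mpr h),
          ProjectiveSpectrum.not_irrelevant_le _⟩)
    obtain ⟨p, hp, -⟩ := hser g e he hg
      (fun y hy => (Groth.Agent.H22Alg.ProjDim.mem_iff_vanishingIdeal_le k n hB y).mp hy hgI)
      (Groth.Agent.H22Alg.ProjDim.qdim k n (j.base b) - 1) b (hgS _ (Finset.mem_singleton_self _))
      (by have := Groth.Agent.H22Alg.ProjDim.qdim_pos k n (j.base b); omega)
    have h1 := Order.LTSeries.length_le_krullDim p
    rw [← Groth.Agent.H17.topologicalKrullDim_eq_krullDim_specialization, hX, hp] at h1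
    have h2 : Groth.Agent.H22Alg.ProjDim.qdim k n (j.base b) - 1 ≤ r := ENat.coe_le_coe.mp (WithBot.coe_le_coe.mp h1)
    omega
  obtain ⟨h, hhom, hY, hcov⟩ := Groth.Agent.H22Alg.ProjDim.exists_forms k n hB (r + 1) C isClosed_closure hle
  refine ⟨fun i => j ⁻¹ᵁ Proj.basicOpen (CohB1.polyGrading n k) (h i), fun i => ?_, ?_⟩
  · obtain ⟨d, hd, hh⟩ := hhom i
    have haff : IsAffineOpen (Proj.basicOpen (CohB1.polyGrading n k) (h i)) :=
      Proj.isAffineOpen_basicOpen (CohB1.polyGrading n k) (h i) hh hd
    let D : (CohB1.ProjSpace n k).Opens := Proj.basicOpen (CohB1.polyGrading n k) (h i)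
    haveI : IsAffine (D : Scheme.{u}) := haff
    haveI : IsClosedImmersion (j ∣_ D) := by
      refine IsClosedImmersion.of_isPreimmersion _ ?_
      have hr : Set.range (j ∣_ D) = D.ι ⁻¹' closure (Set.range j.base) := by
        ext z
        constructor
        · rintro ⟨b, rfl⟩
          show D.ι ((j ∣_ D) b) ∈ closure _
          rw [← Scheme.Hom.comp_apply, morphismRestrict_ι]
          exact subset_closure ⟨_, rfl⟩
        · intro hz
          obtain ⟨b, hb⟩ := (hnotB (D.ι z) hz).mp fun hzB => z.2 (hY i _ hzB)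
          refine ⟨⟨b, show j.base b ∈ D by rw [hb]; exact z.2⟩, D.ι.isOpenEmbedding.injective ?_⟩
          rw [← Scheme.Hom.comp_apply, morphismRestrict_ι]
          exact hb
      rw [hr]
      exact isClosed_closure.preimage D.ι.continuous
    exact (isAffine_of_isAffineHom (j ∣_ D) :)
  · refine TopologicalSpace.Opens.ext (Set.eq_univ_of_forall fun b => ?_)
    rw [TopologicalSpace.Opens.coe_iSup]
    obtain ⟨i, hi⟩ := hcov (j.base b) (subset_closure ⟨b, rfl⟩) ((hnotB _ (subset_closure ⟨b, rfl⟩)).mpr ⟨b, rfl⟩)
    exact Set.mem_iUnion.mpr ⟨i, hi⟩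

end Groth.Agent.S10940
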