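import Groth.Statements.S10941
import Groth.Agent.H8Props.FieldDimEquidim

set_option autoImplicit false
universe u
open CategoryTheory CategoryTheory.Limits AlgebraicGeometry
open FlatMor

namespace Groth.Agent.S10941

/-- Let k be a field, X, Y and Y' schemes of finite type over k with Y irreducible, f : X → Y a flat
k-morphism and n a natural number such that every irreducible component of X has dimension dim Y +
n. Let g : Y' → Y be a k-morphism and f' : X ×_Y Y' → Y' the base change of f. Then for every
irreducible closed subset V of Y', every irreducible component of the preimage of V under f' (with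
the subspace topology) has dimension dim V + n. In particular (Y' = Y) every irreducible component
of f⁻¹(V) has dimension dim V + n for every irreducible closed V ⊆ Y. -/
theorem result (k : Type u) [Field k]
    {X Y Y' : Scheme.{u}} (qX : X ⟶ Spec (CommRingCat.of k)) (qY : Y ⟶ Spec (CommRingCat.of k))
    (qY' : Y' ⟶ Spec (CommRingCat.of k))
    [LocallyOfFiniteType qX] [QuasiCompact qX] [LocallyOfFiniteType qY] [QuasiCompact qY]
    [LocallyOfFiniteType qY'] [QuasiCompact qY']
    [IrreducibleSpace ↥Y] (f : X ⟶ Y) (hf : f ≫ qY = qX) [Flat f] (n : ℕ)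
    (hX : ∀ Z : Set ↥X, Z ∈ irreducibleComponents ↥X →
      topologicalKrullDim ↥Z = topologicalKrullDim ↥Y + (n : WithBot ℕ∞))
    (g : Y' ⟶ Y) (hg : g ≫ qY = qY')
    (V : Set ↥Y') (hV : IsClosed V) (hVirr : IsIrreducible V)
    (W : Set ↥((pullback.snd f g).base ⁻¹' V))
    (hW : W ∈ irreducibleComponents ↥((pullback.snd f g).base ⁻¹' V)) :
    topologicalKrullDim ↥W = topologicalKrullDim ↥V + (n : WithBot ℕ∞) := by
  have hY := Groth.Agent.H8Props.FieldDim.localDim_eq_dim_of_irreducible qY
  obtain ⟨y₀⟩ : Nonempty Y := inferInstance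
  obtain ⟨d, hd⟩ := Groth.Agent.H8Props.FieldDim.exists_nat_localDim qY y₀
  rw [hY] at hd
  have hfib : ∀ (y : Y) (T : Set (f.fiber y)), T ∈ irreducibleComponents (f.fiber y) →
      topologicalKrullDim T = (n : WithBot ℕ∞) := fun y T hT => by
    refine Groth.Agent.H8Props.FieldDim.fibres_pure_of_source_pure qX qY f hf d n
      (fun y => (hY y).trans hd) (fun W hW => ?_) y T hT
    rw [hX W hW, hd]
    push_cast
    rfl
  haveI := Groth.Agent.H8Props.FieldDim.locallyOfFiniteType_of_over qX qY f hf
  have hc : IsPullback (pullback.fst f g) (pullback.snd f g) f g := IsPullback.of_hasPullback f g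
  let f' := pullback.snd f g
  haveI : Flat f' := MorphismProperty.of_isPullback hc ‹_›
  haveI : LocallyOfFiniteType f' := MorphismProperty.of_isPullback hc ‹_›
  haveI : LocallyOfFiniteType (f' ≫ qY') := inferInstance
  have hfib' : ∀ (y : Y') (T : Set (f'.fiber y)), T ∈ irreducibleComponents (f'.fiber y) →
      topologicalKrullDim T = (n : WithBot ℕ∞) := fun y =>
    Groth.Agent.H8Props.FieldDim.irreducibleComponents_dim_baseChange f hc y _ (hfib (g y))
  have hPc : IsClosed (f'.base ⁻¹' V) := hV.preimage f'.continuous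
  haveI : QuasiSober ↥(f'.base ⁻¹' V) := hPc.isClosedEmbedding_subtypeVal.quasiSober
  have hWc : IsClosed W := isClosed_of_mem_irreducibleComponents W hW
  obtain ⟨w, hw⟩ := QuasiSober.sober hW.1 hWc
  obtain ⟨v, hv⟩ := QuasiSober.sober hVirr hV
  have hvξ : v ⤳ f' w.1 := hv.specializes w.2
  have key := Groth.Agent.H8Props.FieldDim.cdim_of_maximal_in_preimage (f' ≫ qY') qY' f' rfl n hfib'
    v w.1 hvξ fun ζ hζ hvζ => by
      have hmem : f' ζ ∈ V := by
        rw [← hv]; exact hvζ.mem_closure
      have hle : W ⊆ closure {(⟨ζ, hmem⟩ : ↥(f'.base ⁻¹' V))} := by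
        rw [← hw]
        exact closure_minimal (Set.singleton_subset_iff.mpr
          (((subtype_specializes_iff _ _).mpr hζ : (⟨ζ, hmem⟩ : ↥(f'.base ⁻¹' V)) ⤳ w)).mem_closure) isClosed_closure
      have heq := hW.eq_of_ge isIrreducible_singleton.closure hle
      have h2 : IsGenericPoint (⟨ζ, hmem⟩ : ↥(f'.base ⁻¹' V)) W := heq
      exact congrArg Subtype.val (h2.eq hw)
  have hW2 : W = Subtype.val ⁻¹' closure ({w.1} : Set _) := by
    rw [← hw]
    ext z
    rw [Set.mem_preimage, ← specializes_iff_mem_closure, ← specializes_iff_mem_closure,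
      subtype_specializes_iff]
  have hdW : topologicalKrullDim ↥W = Groth.Agent.H8Props.FieldDim.cdim w.1 := by
    rw [hW2, Groth.Agent.H8Props.FieldDim.dim_preimage Topology.IsEmbedding.subtypeVal,
      Subtype.range_coe, Groth.Agent.H8Props.FieldDim.cdim]
    have e : closure ({w.1} : Set _) ∩ (f'.base ⁻¹' V) = closure {w.1} :=
      Set.inter_eq_left.mpr (closure_minimal (Set.singleton_subset_iff.mpr w.2) hPc)
    rw [e]
  rw [hdW, key, Groth.Agent.H8Props.FieldDim.cdim, hv]

end Groth.Agent.S10941
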