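import Groth.Statements.S10942
import Groth.Agent.H10Inj.HomFlasque
-- import your own Groth.Agent.* helpers here

set_option autoImplicit false
universe u
open CategoryTheory AlgebraicGeometry Opposite
open Coherent

namespace Groth.Agent.S10942

/-- Let X be a scheme, F an O_X-module for which the internal Hom functor Hom(F, -) exists (as the right
adjoint of F ⊗ -; always true) and I an injective object of the category of O_X-modules. Then the
O_X-module Hom(F, I) is flasque: for all opens U ⊆ V of X the restriction map Hom(F, I)(V) → Hom(F,
I)(U) is surjective. -/
theorem result (X : Scheme.{u}) (F I : X.Modules)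
    [DCoh.HasSheafHom F] (hI : Injective I) (U V : X.Opens) (hUV : U ≤ V) :
    Function.Surjective (((DCoh.sheafHom F).obj I).val.map (homOfLE hUV).op).hom := by
  haveI := hI
  exact Groth.Agent.H10Inj.sheafHom_flasque F I hUV

end Groth.Agent.S10942
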