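import Groth.Statements.S10944
import Groth.Agent.H8Props.Generic

set_option autoImplicit false
universe u
open CategoryTheory AlgebraicGeometry
open FlatMor

namespace Groth.Agent.S10944

/-- Let f : X → Y be a flat morphism of Noetherian schemes and Y' an irreducible component of Y. Then
f⁻¹(Y') is the union of the irreducible components Z of X with f(Z) ⊆ Y'. -/
theorem result {X Y : Scheme.{u}}
    [IsNoetherian X] [IsNoetherian Y] (f : X ⟶ Y) [Flat f]
    (Y' : Set ↥Y) (hY' : Y' ∈ irreducibleComponents ↥Y) :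
    f.base ⁻¹' Y' = ⋃₀ {Z : Set ↥X | Z ∈ irreducibleComponents ↥X ∧ f.base '' Z ⊆ Y'} := by
  obtain ⟨ζ, hζ⟩ := QuasiSober.sober hY'.1 (isClosed_of_mem_irreducibleComponents Y' hY')
  refine subset_antisymm (fun x hx ↦ ?_) (Set.sUnion_subset fun Z hZ ↦ Set.image_subset_iff.mp hZ.2)
  obtain ⟨x', hx', hfx'⟩ := Flat.generalizingMap f (hζ.specializes hx)
  obtain ⟨η, hη, hηx'⟩ := H8Props.exists_genericPoints_specializes x'
  refine ⟨closure {η}, ⟨hη, ?_⟩, (hηx'.trans hx').mem_closure⟩
  have hζg : ζ ∈ genericPoints Y := show closure {ζ} ∈ irreducibleComponents Y by rwa [hζ.def]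
  have : f η = ζ := (H8Props.mem_genericPoints_iff.mp hζg) _
    (hfx' ▸ hηx'.map f.continuous)
  refine (image_closure_subset_closure_image f.continuous).trans ?_
  rw [Set.image_singleton, this, hζ.def]

end Groth.Agent.S10944
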