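import Groth.Statements.S10946
import Groth.Agent.H17.CohSub
import Groth.Agent.H10Coh.CechAffine
import Groth.Agent.H10Coh.Pn.Classes
import Groth.Agent.H10Coh.QCohOps
import Groth.Agent.LeadDev.Basic
-- import your own Groth.Agent.* helpers here

set_option autoImplicit false
set_option linter.style.haveILetI false
set_option backward.isDefEq.respectTransparency false
universe u
open CategoryTheory AlgebraicGeometry
open Coherent

namespace Groth.Agent.S10946

open CategoryTheory.Limits in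
/-- A coherent submodule through finitely many sections over affine opens. -/
theorem exists_coh_through {X : Scheme.{u}} [IsNoetherian X] (G : X.Modules) (hG : Coh.IsQCoh G)
    {α : Type*} [Finite α] (V : α → X.Opens) (hV : ∀ a, IsAffineOpen (V a)) (s : ∀ a, Γ(G, V a)) :
    ∃ (H : X.Modules) (k : H ⟶ G), Mono k ∧ Coh.IsCoh H ∧ ∀ a, ∃ t, k.app (V a) t = s a := by
  classical
  haveI : G.IsQuasicoherent := hG
  suffices key : ∀ l : Set α, l.Finite →
      ∃ (H : X.Modules) (k : H ⟶ G), Mono k ∧ Coh.IsCoh H ∧ ∀ a ∈ l, ∃ t, k.app (V a) t = s a by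
    obtain ⟨H, k, hk, hH, hl⟩ := key Set.univ Set.finite_univ
    exact ⟨H, k, hk, hH, fun a => hl a trivial⟩
  intro l hl
  induction l, hl using Set.Finite.induction_on with
  | empty =>
    obtain ⟨T, -, -⟩ := (isCompact_and_isOpen_iff_finite_and_eq_biUnion_affineOpens (U := (Set.univ : Set X))).mp
      ⟨isCompact_univ, isOpen_univ⟩
    obtain ⟨H, k, hk, hH, -⟩ := H17.CohSub.exists_coh_sub G hG (isAffineOpen_bot X) ∅
    exact ⟨H, k, hk, hH, fun a ha => ha.elim⟩
  | @insert a l _ _ ih =>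
    obtain ⟨H₁, k₁, _, hH₁, hl₁⟩ := ih
    obtain ⟨H₂, k₂, _, hH₂, hs⟩ := H17.CohSub.exists_coh_sub G hG (hV a) {s a}
    have hB := LeadDev.isCoh_biprod hH₁ hH₂
    let q := biprod.desc k₁ k₂
    haveI : (H₁ ⊞ H₂).IsQuasicoherent := hB.1
    have hker : Coh.IsQCoh (kernel q) := H10Coh.isQuasicoherent_kernel q
    refine ⟨Abelian.coimage q, Abelian.factorThruCoimage q, inferInstance,
      H10Coh.isCoh_cokernel (kernel.ι q) hker hB, ?_⟩
    have hfac : ∀ (W : X.Opens) (x : Γ(H₁ ⊞ H₂, W)),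
        (Abelian.factorThruCoimage q).app W ((Abelian.coimage.π q).app W x) = q.app W x := fun W x =>
      congr($(congrArg (fun φ => Scheme.Modules.Hom.app φ W) (Abelian.coimage.fac q)) x)
    rintro b (rfl | hb)
    · obtain ⟨t, ht⟩ := hs (s b) (Finset.mem_singleton_self _)
      exact ⟨_, (hfac _ ((biprod.inr : H₂ ⟶ H₁ ⊞ H₂).app _ t)).trans
        ((congr($(congrArg (fun φ => Scheme.Modules.Hom.app φ _) (biprod.inr_desc k₁ k₂)) t)).trans ht)⟩
    · obtain ⟨t, ht⟩ := hl₁ b hb
      exact ⟨_, (hfac _ ((biprod.inl : H₁ ⟶ H₁ ⊞ H₂).app _ t)).trans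
        ((congr($(congrArg (fun φ => Scheme.Modules.Hom.app φ _) (biprod.inl_desc k₁ k₂)) t)).trans ht)⟩


/-- Let X be a Noetherian separated scheme and n a natural number such that H^i(X, F) = 0 for all
coherent O_X-modules F and all i > n. Then H^i(X, G) = 0 for all quasi-coherent O_X-modules G and
all i > n. -/
theorem result (X : Scheme.{u}) [IsNoetherian X]
    [X.IsSeparated] (n : ℕ)
    (h : ∀ F : X.Modules, Coh.IsCoh F → ∀ i : ℕ, n < i → Subsingleton (Coh.HH X F i))
    (G : X.Modules) (hG : Coh.IsQCoh G) (i : ℕ) (hi : n < i) :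
    Subsingleton (Coh.HH X G i) := by
  haveI : IsAffineHom (Limits.pullback.diagonal (Limits.terminal.from X)) := inferInstance
  haveI : G.IsQuasicoherent := hG
  obtain ⟨T, hT, htop⟩ :=
    (isCompact_and_isOpen_iff_finite_and_eq_biUnion_affineOpens (U := (Set.univ : Set X))).mp
      ⟨isCompact_univ, isOpen_univ⟩
  haveI : Finite T := hT
  let U : T → X.Opens := fun V => V.1.1
  have hU : ∀ (p : ℕ) (a : Fin (p + 1) → T), IsAffineOpen (⨅ k, U (a k)) := fun p a =>
    IsAffineOpen.iInf fun k => (a k).1.2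
  have hsup : iSup U = ⊤ := by
    refine eq_top_iff.2 fun x _ => ?_
    obtain ⟨V, hV, hxV⟩ := Set.mem_iUnion₂.1 (htop.le (Set.mem_univ x))
    exact TopologicalSpace.Opens.mem_iSup.2 ⟨⟨V, hV⟩, hxV⟩
  obtain ⟨p, rfl⟩ : ∃ p, i = p + 1 := ⟨i - 1, by omega⟩
  have conv : ∀ M : X.Modules, M.IsQuasicoherent →
      Nonempty (CohB1.cechH U M (p + 1) ≃+ Coh.HH X M (p + 1)) := by
    intro M hM
    obtain ⟨e⟩ := H10Coh.nonempty_cechH_HnM U M hU (p + 1)
    rw [hsup] at e
    exact ⟨e.trans (H10Coh.HHEquiv M (p + 1)).symm⟩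
  obtain ⟨eG⟩ := conv G hG
  haveI : Subsingleton (CohB1.cechH U G (p + 1)) := by
    refine subsingleton_of_forall_eq 0 fun c => ?_
    obtain ⟨z, rfl⟩ := H10Coh.CechCls.cls_surjective U G.presheaf p c
    obtain ⟨H, k, hk, hH, hmem⟩ := exists_coh_through G hG
      (fun a : Fin (p + 2) → T => H15Site.CechTop.cap U a) (fun a => hU _ a)
      (fun a => (H15Site.CechTop.proj U G.presheaf a).hom z.1)
    haveI := hk
    choose v hv using hmem
    obtain ⟨w, hw⟩ := H15Site.CechTop.exists_proj_eq U H.presheaf (n := p + 1) v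
    have hmap : (H15Site.CechTop.mapC U H.presheaf k.mapPresheaf (p + 1)).hom w = z.1 :=
      H15Site.CechTop.hom_ext U G.presheaf fun a => by
        rw [H15Site.CechTop.proj_mapC, hw]
        exact hv a
    have hdw : (H15Site.CechTop.d U H.presheaf (p + 1)).hom w = 0 :=
      H15Site.CechTop.hom_ext U H.presheaf fun a => by
        apply H10Coh.injective_app_of_mono' k (H15Site.CechTop.cap U a)
        refine (H15Site.CechTop.proj_mapC U H.presheaf k.mapPresheaf _ a).symm.trans ?_
        rw [← H15Site.CechTop.d_mapC, hmap, show (H15Site.CechTop.d U G.presheaf (p + 1)).hom z.1 = 0 from z.2,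
          map_zero, map_zero, map_zero]
    obtain ⟨eH⟩ := conv H hH.1
    haveI := h H hH (p + 1) hi
    haveI : Subsingleton (CohTop.cechH H.presheaf U (p + 1)) := eH.toEquiv.subsingleton
    have hz : z = H10Coh.CechCls.mapZ U H.presheaf k.mapPresheaf p ⟨w, hdw⟩ := Subtype.ext hmap.symm
    rw [hz, ← H10Coh.CechCls.cls_mapZ,
      Subsingleton.elim (H10Coh.CechCls.cls U H.presheaf p ⟨w, hdw⟩) 0, map_zero]
  exact eG.symm.toEquiv.subsingleton

end Groth.Agent.S10946
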