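import Groth.Statements.S11377
import Groth.Agent.H10Coh.AffineAmple
import Groth.Agent.H10Coh.SerreVanishing
import Groth.Agent.H10Coh.TensorTilde

set_option autoImplicit false
universe u
open CategoryTheory CategoryTheory.Limits AlgebraicGeometry TopologicalSpace
open CohDim

namespace Groth.Agent.S11377

set_option maxHeartbeats 1600000 in
open CategoryTheory CategoryTheory.Limits AlgebraicGeometry Groth.Agent.H10Coh Groth.Agent.H11Ample in
/-- Descending induction on the degree: negative powers of an ample module control cohomological dimension. -/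
theorem subsingleton_coh {X : Scheme.{u}} [IsLocallyNoetherian X] [CompactSpace X] [QuasiSeparatedSpace X] {L L' : X.Modules}
    (hL : CohB1.IsAmple L) (hL' : PicF.IsInvertible L') (e : CohB1.tensorMod L L' ≅ Coh.structureModule X)
    {r n₀ : ℕ} (h : ∀ n : ℕ, n₀ ≤ n → ∀ p : ℕ, r < p → Subsingleton (HnM (CohB1.tensorPow L' n) p ⊤))
    {F : X.Modules} (hF : Coh.IsCoh F) {p : ℕ} (hp : r < p) :
    Subsingleton (HnM F p ⊤) := by
  obtain ⟨d, hd⟩ := exists_bound (X := X)
  suffices ∀ j (G : X.Modules), Coh.IsCoh G → ∀ p, r < p → d ≤ p + j →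
      Subsingleton (HnM G p ⊤) from this d F hF p hp (Nat.le_add_left _ _)
  intro j
  induction j with
  | zero =>
    exact fun G hG p _ hdp => @Equiv.subsingleton _ _ (HHEquiv G p).toEquiv.symm (hd G hG.1 p hdp)
  | succ j ih =>
    intro G hG p hp hdp
    obtain ⟨k, r', ψ, hk, hψ⟩ := Tw.exists_epi_sigma hL hG n₀
    let N := CohB1.tensorPow L' k
    have hN : PicF.IsInvertible N := isInvertible_tensorPow hL' k
    obtain ⟨ee⟩ := Tw.nonempty_tensorPow_inverse e hL.1 hL' k
    have hsum : Coh.IsCoh (∐ fun _ : Fin r' => Coh.structureModule X) :=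
      Tw.isCoh_of_vb (H16Derived.KFlat.Stalk.isFinLocFree_sigma _ fun _ =>
        H28Pinch.isFinLocFree_of_isInvertible (isInvertible_tensorPow hL.1 0))
    have hT : Coh.IsCoh (CohB1.tensorMod G (CohB1.tensorPow L k)) :=
      TT.isCoh_tensorMod hG (Tw.isCoh_of_vb (H28Pinch.isFinLocFree_of_isInvertible (isInvertible_tensorPow hL.1 k)))
    have hK : Coh.IsCoh (kernel ψ) := isCoh_kernel ψ hsum hT.1
    have key := Tw.subsingleton_quot_tensor ψ hN p (U := ⊤)
      (fun _ => Tw.subsingleton_of_iso (Tw.leftUnitIso N).symm (h k hk p hp))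
      (ih _ (TT.isCoh_tensorMod hK (Tw.isCoh_of_vb (H28Pinch.isFinLocFree_of_isInvertible hN))) (p + 1)
        (by omega) (by omega))
    exact Tw.subsingleton_of_iso (Tw.assoc G _ _ ≪≫
      ((DCoh.tensorBi (X := X)).obj G).mapIso ee ≪≫ Tw.rightUnitIso G) key

/-- Let S be an integral scheme, separated and of finite type over an algebraically closed field k, with
all local rings regular, let L be an ample invertible O_S-module with tensor inverse M (so S is
quasi-projective and M^{⊗m} plays the role of O_S(-m)), and let r ≥ 0. If there is m₀ such that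
H^i(S, M^{⊗m}) = 0 for every i > r and every m ≥ m₀, then H^i(S, F) = 0 for every i > r and every
coherent O_S-module F. (The published statement takes O_S(1) from a quasi-projective embedding; the
printed proof uses only that F ⊗ O_S(m) is generated by finitely many global sections for m ≫ 0,
which holds for any ample L.) -/
theorem result (k : Type u) [Field k] [IsAlgClosed k] (S : Scheme.{u})
    [S.Over (Spec (CommRingCat.of k))] [IsSeparated (S ↘ (Spec (CommRingCat.of k)))]
    [LocallyOfFiniteType (S ↘ (Spec (CommRingCat.of k)))] [QuasiCompact (S ↘ (Spec (CommRingCat.of k)))]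
    [IsIntegral S] (hreg : ∀ x : S, IsRegularLocalRing (S.presheaf.stalk x))
    (L M : S.Modules) (hL : CohB1.IsAmple L) (hM : ClSub.IsInverseOf M L) (r : ℕ)
    (hneg : ∃ m₀ : ℕ, ∀ m : ℕ, m₀ ≤ m → ∀ i : ℕ, r < i → Subsingleton (Coh.HH S (CohB1.tensorPow M m) i))
    (F : S.Modules) (hF : Coh.IsCoh F) (i : ℕ) (hi : r < i) :
    Subsingleton (Coh.HH S F i) := by
  haveI : CompactSpace S := hL.2.1
  haveI : QuasiSeparatedSpace S := quasiSeparatedSpace_of_quasiSeparated (S ↘ Spec (CommRingCat.of k))
  haveI : IsLocallyNoetherian S := LocallyOfFiniteType.isLocallyNoetherian (S ↘ Spec (CommRingCat.of k))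
  obtain ⟨e₀⟩ := hM
  obtain ⟨m₀, hm₀⟩ := hneg
  have hMi : PicF.IsInvertible M := Groth.Agent.H17.InvertibleTensor.isInvertible_of_tensor_iso M L e₀
  haveI := subsingleton_coh hL hMi (Groth.Agent.H10Coh.Tw.commIso L M ≪≫ e₀) (r := r) (n₀ := m₀)
    (fun n hn p hp => @Equiv.subsingleton _ _ (Groth.Agent.H10Coh.HHEquiv (CohB1.tensorPow M n) p).toEquiv.symm
      (hm₀ n hn p hp)) hF hi
  exact (Groth.Agent.H10Coh.HHEquiv F i).toEquiv.subsingleton

end Groth.Agent.S11377
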