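import Groth.Statements.S10947
import Groth.Agent.S11377
import Groth.Agent.H11Sym.InvertibleInverse
import Groth.Agent.H8Props.AmpleBatch
import Groth.Agent.H11Ample.Converse
import Groth.Agent.H28Pinch.DirectImageTrivial
-- import your own Groth.Agent.* helpers here

set_option autoImplicit false
set_option linter.style.haveILetI false
universe u
open CategoryTheory AlgebraicGeometry
open Coherent

namespace Groth.Agent.S10947

/-- Let k be a field and X a quasi-projective scheme over k, given with an immersion ι : X → P^N_k into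
a projective space. If n is a natural number with H^i(X, E) = 0 for all finite locally free
O_X-modules E and all i > n, then H^i(X, F) = 0 for all coherent O_X-modules F (quasi-coherent of
finite type) and all i > n. -/
theorem result
    (k : Type u) [Field k] (N : ℕ) {X : Scheme.{u}} (ι : X ⟶ CohB1.ProjSpace N k) [IsImmersion ι]
    (n : ℕ) (h : ∀ E : X.Modules, FlatMod.IsFinLocFree E → ∀ i : ℕ, n < i → Subsingleton (Coh.HH X E i))
    (F : X.Modules) (hF : Coh.IsCoh F) (i : ℕ) (hi : n < i) :
    Subsingleton (Coh.HH X F i) := by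
  haveI : IsNoetherian (CohB1.ProjSpace N k) := Groth.Agent.H10Coh.ProjQ.isNoetherian_proj _
  haveI : IsLocallyNoetherian X := LocallyOfFiniteType.isLocallyNoetherian ι
  haveI : TopologicalSpace.NoetherianSpace X := ι.isEmbedding.isInducing.noetherianSpace
  haveI : IsNoetherian X := {}
  obtain ⟨L, hL⟩ : ∃ L : X.Modules, CohB1.IsAmple L :=
    ⟨_, Groth.Agent.H8Props.Ample.isAmple_pullback_of_isEmbedding ι ι.isEmbedding (Groth.Agent.H11Ample.isAmple_twistProjSpace N k)⟩
  obtain ⟨L', hL', ⟨e⟩⟩ := Groth.Agent.H11Sym.exists_inverse hL.1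
  exact @Equiv.subsingleton _ _ (Groth.Agent.H10Coh.HHEquiv F i).toEquiv
    (Groth.Agent.S11377.subsingleton_coh hL hL' (Groth.Agent.H10Coh.Tw.commIso _ _ ≪≫ e) (n₀ := 0)
      (fun m _ p hp => @Equiv.subsingleton _ _ (Groth.Agent.H10Coh.HHEquiv _ p).toEquiv.symm
        (h _ (Groth.Agent.H28Pinch.isFinLocFree_of_isInvertible (Groth.Agent.H11Ample.isInvertible_tensorPow hL' m)) p hp))
      hF hi)

end Groth.Agent.S10947
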