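import Groth.Statements.S10948
import Groth.Agent.H10Inj.GenericFree
import Groth.Agent.H11Tilde.TwistPow
import Groth.Agent.H10Coh.OpenSpec
-- import your own Groth.Agent.* helpers here

set_option autoImplicit false
set_option linter.style.haveILetI false
set_option linter.unusedSectionVars false
set_option backward.isDefEq.respectTransparency false
universe u
open CategoryTheory AlgebraicGeometry
open Coherent

namespace Groth.Agent.S10948

open CategoryTheory CategoryTheory.Limits AlgebraicGeometry TopologicalSpace Opposite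

theorem isIso_restrict_of_bijective {Y : Scheme.{u}} [AlgebraicGeometry.IsNoetherian Y] {W : Y.Opens}
    (hW : IsAffineOpen W) {M N : Y.Modules} (hM : Coh.IsCoh M) (hN : Coh.IsCoh N) (φ : M ⟶ N)
    (h : Function.Bijective (φ.app W)) : IsIso ((Scheme.Modules.restrictFunctor W.ι).map φ) := by
  refine S9521.isIso_restrict W φ (fun x hx hxW => ?_) (fun x hx hxW => ?_)
  · refine LeadDev.notMem_support_of_smul hW hxW _ (H10Coh.isCoh_kernel φ hM hN.1).1
      (fun s => ⟨1, LeadDev.unitAt_one hxW, ?_⟩) hx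
    rw [one_smul]
    refine H10Coh.injective_app_of_mono' (kernel.ι φ) W (h.1 ?_)
    exact (congr($(congr(Scheme.Modules.Hom.app $(kernel.condition φ) W)) s)).trans
      ((congrArg (φ.app W) (map_zero _)).trans (map_zero _)).symm
  · exact LeadDev.notMem_support_cokernel φ hM.1 hN.1 hW hxW
      (fun y => ⟨1, (h.2 y).choose, LeadDev.unitAt_one hxW, by rw [(h.2 y).choose_spec, one_smul]⟩) hx



/-- Let f : X → Y be a finite surjective morphism of integral Noetherian schemes. Then there are an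
integer r ≥ 1, a coherent O_X-module M (quasi-coherent of finite type) and a morphism of O_Y-modules
α : O_Y^r → f_*M (O_Y^r the free O_Y-module on r generators) such that the map induced by α on
stalks of the underlying abelian sheaves at the generic point of Y is an isomorphism. -/
theorem result
    {X Y : Scheme.{u}} [IsIntegral X] [IsNoetherian X] [IsIntegral Y] [IsNoetherian Y]
    (f : X ⟶ Y) [IsFinite f] [Surjective f] :
    ∃ (r : ℕ) (M : X.Modules) (α : (SheafOfModules.free (ULift.{u} (Fin r)) : Y.Modules) ⟶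
        (Scheme.Modules.pushforward f).obj M),
      0 < r ∧ Coh.IsCoh M ∧
      IsIso ((TopCat.Presheaf.stalkFunctor AddCommGrpCat.{u} (genericPoint ↥Y)).map
        ((SheafOfModules.toSheaf Y.ringCatSheaf).map α).hom) := by
  obtain ⟨W, hW, hηW, -⟩ :=
    exists_isAffineOpen_mem_and_subset (U := (⊤ : Y.Opens)) (x := genericPoint Y) trivial
  let O := Coh.structureModule X
  let G := (Coh.push f).obj O
  have hO : Coh.IsCoh O := LeadAff.isCoh_structureModule X
  have hG : Coh.IsCoh G := H10Coh.isCoh_push_of_isFinite f _ hO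
  have hkill := LeadDev.killedAt_of_stalk hW hηW hG.1 (H10Inj.GenericFree.killed_genericPoint G)
  obtain ⟨r, e, hr, hspan, hind, -, -⟩ := LeadDev.exists_basis_at (𝟙 Y) (ξ := genericPoint Y) rfl hW hηW G hG
    (H10Inj.GenericFree.mem_support_push_structure f) hkill
  let W' : X.Opens := f ⁻¹ᵁ W
  let P := (Scheme.Modules.pushforward W'.ι).obj (O.restrict W'.ι)
  let unit : O ⟶ P := (Scheme.Modules.restrictAdjunction W'.ι).unit.app O
  have hP : Coh.IsQCoh P := LeadDev.isQCoh_push_open W'.ι _ (H10Coh.isCoh_restrict W'.ι O hO).1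
  have hW'top : W'.ι ''ᵁ (W'.ι ⁻¹ᵁ ⊤) = W' := W'.ι_image_top
  let e' : Fin r → Γ(P, ⊤) := fun k =>
    O.presheaf.map (eqToHom hW'top).op (show Γ(O, W') from e k)
  let D := O ⊞ ⨁ fun _ : Fin r => O
  have hD : Coh.IsCoh D := LeadDev.isCoh_biprod hO (LeadDev.isCoh_biproduct _ hO)
  let d : D ⟶ P := biprod.desc unit (biproduct.desc fun k => H11Tilde.homOfGlobal P (e' k))
  let M := Abelian.coimage d
  have hM : Coh.IsCoh M := H10Coh.isCoh_cokernel (kernel.ι d) (H10Coh.isCoh_kernel d hD hP).1 hD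
  let π : D ⟶ M := Abelian.coimage.π d
  let inc : M ⟶ P := Abelian.factorThruCoimage d
  have hinc : π ≫ inc = d := Abelian.coimage.fac d
  let u : O ⟶ M := biprod.inl ≫ π
  have hu : u ≫ inc = unit := by rw [Category.assoc, hinc]; exact biprod.inl_desc _ _
  have hunit : Function.Bijective (unit.app W') := by
    haveI : IsIso (homOfLE (W'.ι.image_preimage_le W')) := homOfLE_isIso_of_eq _ (by
      rw [Scheme.Hom.image_preimage_eq_opensRange_inf, Scheme.Opens.opensRange_ι, inf_idem])
    exact ConcreteCategory.bijective_of_isIso (O.presheaf.map (homOfLE (W'.ι.image_preimage_le W')).op)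
  have huapp : ∀ c : Γ(O, W'), inc.app W' (u.app W' c) = unit.app W' c := fun c =>
    congr($(congr(Scheme.Modules.Hom.app $hu W')) c)
  have hu' : Function.Bijective (u.app W') := by
    refine ⟨fun a b h => hunit.1 ?_, fun m => ?_⟩
    · rw [← huapp, ← huapp, h]
    · obtain ⟨c, hc⟩ := hunit.2 (inc.app W' m)
      exact ⟨c, H10Coh.injective_app_of_mono' inc W' ((huapp c).trans hc)⟩
  let N := (Scheme.Modules.pushforward f).obj M
  have hN : Coh.IsCoh N := H10Coh.isCoh_push_of_isFinite f M hM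
  let γ : G ⟶ N := (Scheme.Modules.pushforward f).map u
  let m : Fin r → Γ(N, ⊤) := fun k =>
    (biproduct.ι (fun _ : Fin r => O) k ≫ biprod.inr ≫ π).app ⊤ (show Γ(O, ⊤) from (1 : Γ(X, ⊤)))
  have hm : ∀ k, N.presheaf.map (homOfLE (le_top : W ≤ ⊤)).op (m k) = γ.app W (e k) := by
    intro k
    refine H10Coh.injective_app_of_mono' inc W' ?_
    have h1 : inc.app ⊤ (show Γ(M, ⊤) from m k) = e' k := by
      have h : biproduct.ι (fun _ : Fin r => O) k ≫ (biprod.inr : _ ⟶ D) ≫ π ≫ inc =
          H11Tilde.homOfGlobal P (e' k) := by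
        rw [hinc]; simp [d]
      refine (congr($(congr(Scheme.Modules.Hom.app $h ⊤)) (show Γ(O, ⊤) from (1 : Γ(X, ⊤))))).trans ?_
      refine (H11Tilde.homOfGlobal_app P _ ⊤ _).trans ((one_smul _ _).trans ?_)
      exact congr($(P.presheaf.map_id (op ⊤)) (e' k))
    refine Eq.trans ?_ (huapp (show Γ(O, W') from e k)).symm
    refine (congr($(inc.mapPresheaf.naturality (homOfLE (le_top : W' ≤ ⊤)).op) (show Γ(M, ⊤) from m k))).trans ?_
    refine (congrArg (P.presheaf.map (homOfLE (le_top : W' ≤ ⊤)).op) h1).trans ?_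
    show O.presheaf.map _ (O.presheaf.map _ _) = O.presheaf.map _ _
    rw [← ConcreteCategory.comp_apply, ← Functor.map_comp]
    rfl
  let Y₀ : Y.Modules := Coh.structureModule Y
  let Sr := ⨁ fun _ : Fin r => Y₀
  have hSr : Coh.IsCoh Sr := LeadDev.isCoh_biproduct _ (LeadAff.isCoh_structureModule Y)
  let α₀ : Sr ⟶ N := biproduct.desc fun k => H11Tilde.homOfGlobal N (m k)
  have hαι : ∀ k (w : Γ(Y, W)),
      α₀.app W ((biproduct.ι (fun _ : Fin r => Y₀) k).app W (show Γ(Y₀, W) from w)) = γ.app W (w • e k) := by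
    intro k w
    have h : biproduct.ι (fun _ : Fin r => Y₀) k ≫ α₀ = H11Tilde.homOfGlobal N (m k) := by simp [α₀]
    refine (congr($(congr(Scheme.Modules.Hom.app $h W)) (show Γ(Y₀, W) from w))).trans ?_
    refine (H11Tilde.homOfGlobal_app N _ W _).trans ?_
    rw [hm k]
    exact (Scheme.Modules.Hom.app_smul γ w (e k)).symm
  have hγ : Function.Bijective (γ.app W) := hu'
  have hinj : ∀ s : Γ(Sr, W), α₀.app W s = 0 → s = 0 := by
    intro s hs
    let w : Fin r → Γ(Y, W) := fun k => (biproduct.π (fun _ : Fin r => Y₀) k).app W s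
    have hsum : s = ∑ k, (biproduct.ι (fun _ : Fin r => Y₀) k).app W
        ((biproduct.π (fun _ : Fin r => Y₀) k).app W s) := by
      refine H10Coh.biproduct_sections_ext _ W _ _ fun l => ?_
      rw [map_sum, Finset.sum_eq_single l (fun k _ hkl => ?_) (fun h => absurd (Finset.mem_univ l) h)]
      · exact (congr($(congr(Scheme.Modules.Hom.app $(biproduct.ι_π_self (fun _ : Fin r => Y₀) l) W)) _)).symm
      · exact congr($(congr(Scheme.Modules.Hom.app $(biproduct.ι_π_ne (fun _ : Fin r => Y₀) hkl) W)) _)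
    have h0 : γ.app W (∑ k, w k • e k) = 0 := by
      rw [map_sum, ← hs]
      conv_rhs => rw [hsum, map_sum]
      exact Finset.sum_congr rfl fun k _ => (hαι k (w k)).symm
    have h1 := hind w (hγ.1 (h0.trans (map_zero _).symm))
    have hw : ∀ k, w k = 0 := fun k => by
      refine (basicOpen_eq_bot_iff _).1 (TopologicalSpace.Opens.ext (Set.eq_empty_iff_forall_notMem.2 fun z hz => h1 k ?_))
      exact (genericPoint_specializes z).mem_open (Y.basicOpen (w k)).2 hz
    rw [hsum]
    exact Finset.sum_eq_zero fun k _ => (congrArg _ (hw k)).trans (map_zero _)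
  have hsur : LeadDev.SurjAt (genericPoint Y) W α₀ := by
    intro y
    obtain ⟨x, rfl⟩ := hγ.2 y
    obtain ⟨c, w, hc, hcw⟩ := hspan x
    refine ⟨c, ∑ k, (biproduct.ι (fun _ : Fin r => Y₀) k).app W (show Γ(Y₀, W) from w k), hc, ?_⟩
    rw [map_sum, ← Scheme.Modules.Hom.app_smul, hcw, map_sum]
    exact Finset.sum_congr rfl fun k _ => hαι k (w k)
  let C := CohB1.support (cokernel α₀)
  have hC : IsClosed C := H10Coh.isClosed_support _ (H10Coh.isCoh_cokernel α₀ hSr.1 hN).2
  let U : Y.Opens := W ⊓ ⟨Cᶜ, hC.isOpen_compl⟩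
  have hiso : IsIso ((Scheme.Modules.restrictFunctor U.ι).map α₀) := by
    refine S9521.isIso_restrict U α₀ (fun x hx hxU => ?_) (fun x hx hxU => hxU.2 hx)
    refine LeadDev.notMem_support_of_smul hW hxU.1 _ (H10Coh.isCoh_kernel α₀ hSr hN.1).1
      (fun s => ⟨1, LeadDev.unitAt_one hxU.1, ?_⟩) hx
    rw [one_smul]
    refine H10Coh.injective_app_of_mono' (kernel.ι α₀) W (Eq.trans ?_ (map_zero _).symm)
    exact hinj _ (congr($(congr(Scheme.Modules.Hom.app $(kernel.condition α₀) W)) s))
  obtain ⟨ν, hν⟩ : ∃ ν : (SheafOfModules.free (ULift.{u} (Fin r)) : Y.Modules) ⟶ Sr, IsIso ν := by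
    obtain ⟨ν, hν⟩ := H10Coh.exists_free_desc (X := Y) (N := Sr)
      fun k : ULift.{u} (Fin r) => biproduct.ι (fun _ : Fin r => Y₀) k.down
    let ν' : Sr ⟶ (SheafOfModules.free (ULift.{u} (Fin r)) : Y.Modules) :=
      biproduct.desc fun k => H10Coh.freeIncl (X := Y) (ULift.{u} (Fin r)) ⟨k⟩
    have hν' : ∀ k : Fin r, biproduct.ι (fun _ : Fin r => Y₀) k ≫ ν' =
        H10Coh.freeIncl (X := Y) (ULift.{u} (Fin r)) ⟨k⟩ := fun k => biproduct.ι_desc _ _
    refine ⟨ν, ⟨ν', ?_, ?_⟩⟩
    · refine H10Coh.free_hom_ext _ _ fun k => ?_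
      exact ((Category.assoc _ _ _).symm.trans ((congrArg (· ≫ ν') (hν k)).trans (hν' k.down))).trans
        (Category.comp_id _).symm
    · refine biproduct.hom_ext' (f := fun _ : Fin r => Coh.structureModule Y) _ _ fun k => ?_
      exact ((Category.assoc _ _ _).symm.trans ((congrArg (· ≫ ν) (hν' k)).trans (hν ⟨k⟩))).trans
        (Category.comp_id _).symm
  refine ⟨r, M, ν ≫ α₀, hr, hM, ?_⟩
  haveI : IsIso ((Scheme.Modules.restrictFunctor U.ι).map (ν ≫ α₀)) := by
    rw [Functor.map_comp]; infer_instance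
  exact H10Inj.GenericFree.isIso_stalk U (ν ≫ α₀) (genericPoint Y)
    ⟨hηW, LeadDev.notMem_support_cokernel α₀ hSr.1 hN.1 hW hηW hsur⟩


end Groth.Agent.S10948
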