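import Groth.Statements.S9515
import Groth.Agent.S2250
import Groth.Agent.H10Inj.IdealPow
import Groth.Agent.H10Coh.OpenSpec
-- import your own Groth.Agent.* helpers here

set_option autoImplicit false
set_option linter.style.haveILetI false
universe u
open CategoryTheory CategoryTheory.Limits AlgebraicGeometry
attribute [local instance] HasDerivedCategory.standard
open Coherent

namespace Groth.Agent.S9515

/-- Let X be a Noetherian scheme, F a quasi-coherent O_X-module, G a coherent O_X-module and I a
quasi-coherent sheaf of ideals, with U the open complement of the closed subset cut out by I. For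
every morphism φ : G|_U → F|_U there are an n ≥ 0 and a morphism ψ : I^n G → F whose restriction to
U is the restriction of the inclusion I^n G → G followed by φ. (Here I^n G ⊆ G is the submodule
sheaf Dual3.idealMul (I^n) G.) -/
theorem result (X : Scheme.{u}) [IsNoetherian X] (F G : X.Modules)
    (hF : Coh.IsQCoh F) (hG : Coh.IsCoh G) (I : X.IdealSheafData)
    (U : X.Opens) (hU : (U : Set X) = (I.support : Set X)ᶜ)
    (φ : (Scheme.Modules.restrictFunctor U.ι).obj G ⟶
      (Scheme.Modules.restrictFunctor U.ι).obj F) :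
    ∃ (n : ℕ) (ψ : (Dual3.idealMul (I ^ n)).obj G ⟶ F),
      (Scheme.Modules.restrictFunctor U.ι).map ψ =
        (Scheme.Modules.restrictFunctor U.ι).map (Dual3.idealMulι (I ^ n) G) ≫ φ := by
  let R := Scheme.Modules.restrictFunctor U.ι
  haveI : PreservesFiniteLimits R := inferInstance
  haveI : Coh.IsQCoh (G ⊞ F) := by
    haveI : F.IsQuasicoherent := hF
    haveI : G.IsQuasicoherent := hG.1
    exact H10Coh.isQuasicoherent_biprod G F
  have hGU : Coh.IsCoh (G.restrict U.ι) := H10Coh.isCoh_restrict U.ι G hG
  let i : G.restrict U.ι ⟶ (G ⊞ F).restrict U.ι := R.map biprod.inl + φ ≫ R.map biprod.inr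
  have hi : i ≫ R.map biprod.fst = 𝟙 _ ∧ i ≫ R.map biprod.snd = φ := by
    constructor <;>
      simp only [i, Preadditive.add_comp, Category.assoc, ← R.map_comp, biprod.inl_fst, biprod.inr_fst,
        biprod.inl_snd, biprod.inr_snd, Functor.map_zero, comp_zero, add_zero, zero_add, R.map_id] <;>
      simp [R]
  haveI : Mono i := SplitMono.mono ⟨R.map biprod.fst, hi.1⟩
  haveI : Coh.IsQCoh (G.restrict U.ι) := hGU.1
  obtain ⟨H, i', e, -, hHq, hHft, he⟩ := Groth.Agent.S2250.result (X := X)
    (fun x => ⟨⊤, trivial, inferInstance⟩) U (G ⊞ F) (G.restrict U.ι) i hGU.2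
  have hH : Coh.IsCoh H := ⟨hHq, hHft⟩
  let a := i' ≫ biprod.fst
  let b := i' ≫ biprod.snd
  have ha : R.map a = e.hom := by
    rw [R.map_comp, ← he, Category.assoc, hi.1, Category.comp_id]
  have hb : R.map b = R.map a ≫ φ := by
    rw [ha, R.map_comp, ← he, Category.assoc, hi.2]
  have haiso : IsIso (R.map a) := by rw [ha]; infer_instance
  obtain ⟨n, N, r, hr⟩ := H10Inj.IdealPow.exists_lift I hH hG a U hU haiso
  refine ⟨N, r ≫ Dual3.idealMulι (I ^ n) H ≫ b, ?_⟩
  rw [← hr]
  simp only [Functor.map_comp, R, Category.assoc] at hb ⊢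
  rw [hb]


end Groth.Agent.S9515
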