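import Groth.Statements.S10949
import Groth.Agent.H10Inj.GenericFree
import Groth.Agent.S9515
-- import your own Groth.Agent.* helpers here

set_option autoImplicit false
set_option linter.style.haveILetI false
set_option linter.unusedSectionVars false
set_option backward.isDefEq.respectTransparency false
universe u
open CategoryTheory CategoryTheory.Limits AlgebraicGeometry
open Coherent

namespace Groth.Agent.S10949

open CategoryTheory CategoryTheory.Limits AlgebraicGeometry TopologicalSpace Opposite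

/-- Interchanging two finite biproducts of copies of one object. -/
noncomputable def swapIso {C : Type*} [Category C] [Preadditive C] [HasFiniteBiproducts C] (A : C) (n r : ℕ) :
    (⨁ fun _ : Fin n => ⨁ fun _ : Fin r => A) ≅ (⨁ fun _ : Fin r => ⨁ fun _ : Fin n => A) where
  hom := biproduct.lift fun k => biproduct.map fun _ => biproduct.π _ k
  inv := biproduct.lift fun k => biproduct.map fun _ => biproduct.π _ k
  hom_inv_id := biproduct.hom_ext _ _ fun a => biproduct.hom_ext _ _ fun b => by simp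
  inv_hom_id := biproduct.hom_ext _ _ fun a => biproduct.hom_ext _ _ fun b => by simp



/-- Let f : X → Y be a finite surjective morphism of integral Noetherian schemes and F a coherent
O_Y-module (quasi-coherent of finite type). Then there are an integer r ≥ 1, a coherent O_X-module G
and a morphism of O_Y-modules β : f_*G → F^r (the coproduct of r copies of F) such that the map
induced by β on stalks of the underlying abelian sheaves at the generic point of Y is an
isomorphism. -/
theorem result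
    {X Y : Scheme.{u}} [IsIntegral X] [IsNoetherian X] [IsIntegral Y] [IsNoetherian Y]
    (f : X ⟶ Y) [IsFinite f] [Surjective f] (F : Y.Modules) (hF : Coh.IsCoh F) :
    ∃ (r : ℕ) (G : X.Modules) (β : (Scheme.Modules.pushforward f).obj G ⟶ ∐ fun _ : ULift.{u} (Fin r) => F),
      0 < r ∧ Coh.IsCoh G ∧
      IsIso ((TopCat.Presheaf.stalkFunctor AddCommGrpCat.{u} (genericPoint ↥Y)).map
        ((SheafOfModules.toSheaf Y.ringCatSheaf).map β).hom) := by
  let R₀ := fun U : Y.Opens => Scheme.Modules.restrictFunctor U.ι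
  let O := Coh.structureModule X
  let Y₀ := Coh.structureModule Y
  have hO : Coh.IsCoh O := LeadAff.isCoh_structureModule X
  have hP : Coh.IsCoh ((Coh.push f).obj O) := H10Coh.isCoh_push_of_isFinite f _ hO
  obtain ⟨r, U₁, hη₁, hr, ⟨e₁⟩⟩ := H10Inj.GenericFree.exists_generic_free _ hP
  obtain ⟨n, U₂, hη₂, -, ⟨e₂⟩⟩ := H10Inj.GenericFree.exists_generic_free F hF
  obtain ⟨U, hUle₁, hUle₂, hη, ⟨E₁⟩, ⟨E₂⟩⟩ : ∃ U : Y.Opens, U ≤ U₁ ∧ U ≤ U₂ ∧ genericPoint Y ∈ U ∧
      Nonempty ((R₀ U).obj (⨁ fun _ : Fin r => Y₀) ≅ (R₀ U).obj ((Coh.push f).obj O)) ∧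
      Nonempty ((R₀ U).obj (⨁ fun _ : Fin n => Y₀) ≅ (R₀ U).obj F) := by
    have key : ∀ {U U' : Y.Opens} (h : U ≤ U') {M N : Y.Modules} (hM : Coh.IsCoh M) (hN : Coh.IsCoh N),
        ((R₀ U').obj M ≅ (R₀ U').obj N) → Nonempty ((R₀ U).obj M ≅ (R₀ U).obj N) := by
      intro U U' h M N hM hN e
      obtain ⟨H, a, b, hH, -, ha, hb⟩ := LeadDev.exists_compare U'.ι hM hN e.hom
      haveI := ha
      haveI : IsIso ((R₀ U').map b) := by
        have : IsIso ((Scheme.Modules.restrictFunctor U'.ι).map a ≫ e.hom) := inferInstance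
        rw [← hb] at this
        exact this
      haveI := H10Inj.GenericFree.isIso_restrict_le h a
      haveI := H10Inj.GenericFree.isIso_restrict_le h b
      exact ⟨(asIso ((R₀ U).map a)).symm ≪≫ asIso ((R₀ U).map b)⟩
    exact ⟨U₁ ⊓ U₂, inf_le_left, inf_le_right, ⟨hη₁, hη₂⟩,
      key inf_le_left (LeadDev.isCoh_biproduct _ (LeadAff.isCoh_structureModule Y)) hP e₁,
      key inf_le_right (LeadDev.isCoh_biproduct _ (LeadAff.isCoh_structureModule Y)) hF e₂⟩
  let G₀ := ⨁ fun _ : Fin n => O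
  have hG₀ : Coh.IsCoh G₀ := LeadDev.isCoh_biproduct _ hO
  have hPG : Coh.IsCoh ((Coh.push f).obj G₀) := H10Coh.isCoh_push_of_isFinite f _ hG₀
  let Fr := ⨁ fun _ : Fin r => F
  let R := R₀ U
  let φ : R.obj ((Coh.push f).obj G₀) ≅ R.obj Fr :=
    R.mapIso ((Coh.push f).mapBiproduct _) ≪≫ R.mapBiproduct _ ≪≫
      biproduct.mapIso (fun _ => E₁.symm ≪≫ R.mapBiproduct _) ≪≫ swapIso (R.obj Y₀) n r ≪≫
        biproduct.mapIso (fun _ => (R.mapBiproduct _).symm ≪≫ E₂) ≪≫ (R.mapBiproduct _).symm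
  let C : TopologicalSpace.Closeds Y := ⟨(↑U : Set Y)ᶜ, U.2.isClosed_compl⟩
  let K := Scheme.IdealSheafData.vanishingIdeal C
  have hUK : (↑U : Set Y) = (K.support : Set Y)ᶜ := by
    rw [Scheme.IdealSheafData.coe_support_vanishingIdeal]; exact (compl_compl _).symm
  haveI : F.IsQuasicoherent := hF.1
  obtain ⟨N, ψ, hψ⟩ := Groth.Agent.S9515.result Y Fr ((Coh.push f).obj G₀)
    (H10Coh.isQuasicoherent_biproduct _) hPG K U hUK φ.hom
  obtain ⟨e, -⟩ := Groth.Agent.S9523.result f G₀ hG₀.1 (K ^ N)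
  let ν : (⨁ fun _ : Fin r => F) ≅ ∐ fun _ : ULift.{u} (Fin r) => F :=
    { hom := biproduct.desc fun k => Sigma.ι (fun _ : ULift.{u} (Fin r) => F) ⟨k⟩
      inv := Sigma.desc fun k => biproduct.ι (fun _ : Fin r => F) k.down
      hom_inv_id := biproduct.hom_ext' _ _ fun k => by simp
      inv_hom_id := Sigma.hom_ext _ _ fun k => by simp }
  refine ⟨r, (Dual3.idealMul ((K ^ N).comap f)).obj G₀, e.inv ≫ ψ ≫ ν.hom,
    hr (H10Inj.GenericFree.mem_support_push_structure f), LeadDev.isCoh_idealMul _ _ hG₀, ?_⟩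
  have hpow : IsIso (R.map (Dual3.idealMulι (K ^ N) ((Coh.push f).obj G₀))) := by
    refine S9521.isIso_restrict U _ (S9521.support_of_isZero (isZero_kernel_of_mono _) _)
      ((S9521.support_cokernel_ι_subset (K ^ N) hPG).trans ?_)
    rcases Nat.eq_zero_or_pos N with rfl | hN
    · simp [Scheme.IdealSheafData.support_top]
    · rw [Scheme.IdealSheafData.support_pow _ _ hN.ne', ← compl_compl (K.support : Set Y), ← hUK]
  haveI : IsIso (R.map ψ) := by
    rw [show R.map ψ = _ from hψ]
    infer_instance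
  haveI : IsIso ((Scheme.Modules.restrictFunctor U.ι).map (e.inv ≫ ψ ≫ ν.hom)) := by
    change IsIso (R.map (e.inv ≫ ψ ≫ ν.hom))
    rw [Functor.map_comp, Functor.map_comp]
    haveI h1 : IsIso (R.map e.inv) := (R.mapIso e.symm).isIso_hom
    haveI h2 : IsIso (R.map ν.hom) := (R.mapIso ν).isIso_hom
    exact IsIso.comp_isIso' h1 (IsIso.comp_isIso' ‹IsIso (R.map ψ)› h2)
  exact H10Inj.GenericFree.isIso_stalk U (e.inv ≫ ψ ≫ ν.hom) (genericPoint Y) hη


end Groth.Agent.S10949
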