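import Groth.Statements.S10951
import Groth.Agent.H17.DualSh.Main
-- import your own Groth.Agent.* helpers here

set_option autoImplicit false
universe u
open CategoryTheory AlgebraicGeometry
open ProjDual

namespace Groth.Agent.S10951

/-- (a)⇒(c): let k be a field and X a k-scheme with a closed immersion ι into P^N_k over k, of dimension
n, such that the local ring of X at every closed point is Cohen–Macaulay of Krull dimension n. Let
(ω, t) be a dualizing sheaf for X: ω a coherent O_X-module and t : H^n(X, ω) → k a k-linear map such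
that for every coherent F and every k-linear form ψ on H^n(X, F) there is exactly one φ : F → ω with
ψ = t ∘ H^n(φ). Then for every coherent O_X-module F and every i ≤ n, the group Ext^i(F, ω) in the
category of O_X-modules (the Ext instance is the stated hypothesis; it holds) vanishes if and only
if H^(n-i)(X, F) vanishes. (The published statement says the duality maps θ^i : Ext^i(F, ω) →
H^(n-i)(X, F)' are bijective; lacking the k-linear structure on these Ext groups, only the
equivalence of vanishing is stated.) -/
theorem result
    (k : Type u) [Field k] (N n : ℕ) (X : Scheme.{u}) [X.Over (Spec (CommRingCat.of k))]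
    (ι : X ⟶ CohB1.ProjSpace N k) [IsClosedImmersion ι]
    (hι : ι ≫ CohB1.ProjSpace.toSpec N k = X ↘ Spec (CommRingCat.of k))
    (hn : topologicalKrullDim ↥X = n)
    (hCM : ∀ x : X, IsClosed ({x} : Set ↥X) →
      LocCoh.IsCohenMacaulayLocalRing (X.presheaf.stalk x) ∧ ringKrullDim (X.presheaf.stalk x) = n)
    [HasExt.{u} X.Modules]
    (ω : X.Modules) (hω : Coh.IsCoh ω) (t : Coh.HH X ω n →ₗ[k] k)
    (hdual : ∀ F : X.Modules, Coh.IsCoh F → ∀ ψ : Coh.HH X F n →ₗ[k] k,
        ∃! φ : F ⟶ ω, ∀ x : Coh.HH X F n,
          ψ x = t (Sheaf.H.map ((SheafOfModules.toSheaf X.ringCatSheaf).map φ) n x))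
    (F : X.Modules) (hF : Coh.IsCoh F) (i : ℕ) (hi : i ≤ n) :
    Subsingleton (Abelian.Ext F ω i) ↔ Subsingleton (Coh.HH X F (n - i)) := by
  let e := LinearEquiv.ofBijective _ (Groth.Agent.H17.DualSh.theta_bijective_range ι hι hω
    (Groth.Agent.H17.DualSh.repDual_of_forall hdual) le_rfl
    (fun q hq _ => Groth.Agent.H17.DualSh.van_of_cm ι hn hCM q hq) hF hi (Nat.sub_add_cancel hi))
  refine e.toEquiv.subsingleton_congr.trans ?_
  exact Module.subsingleton_dual_iff k

end Groth.Agent.S10951
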