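import Groth.Statements.S10952
import Groth.Agent.H15Site.OrdCech

set_option autoImplicit false
universe u
open CategoryTheory
open CohTop

set_option linter.style.haveILetI false
open Groth.Agent.H15Site CategoryTheory

namespace Groth.Agent.S10952

open TopologicalSpace Opposite CategoryTheory.Limits in
/-- Take a topological space X, a presheaf P of abelian groups on it, and an open cover U of X indexed
by a finite set with n elements. Then the Cech cohomology of P with respect to U, computed from the
full complex of ordered cochains, is zero in every degree q with n ≤ q. -/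
theorem result {X : TopCat.{u}} (P : (Opens X)ᵒᵖ ⥤ AddCommGrpCat.{u})
    {ι : Type u} [Finite ι] (U : ι → Opens X) (hU : iSup U = ⊤) (q : ℕ) (hq : Nat.card ι ≤ q) :
    IsZero (CohTop.cechH P U q) := by
  letI : Fintype ι := Fintype.ofFinite ι
  letI : LinearOrder ι := LinearOrder.lift' (Fintype.equivFin ι) (Fintype.equivFin ι).injective
  show IsZero (((cechComplexFunctor U).obj P).homology q)
  cases q with
  | zero =>
    haveI : IsEmpty ι := (Finite.card_eq_zero_iff).1 (Nat.le_zero.1 hq)
    refine ShortComplex.isZero_homology_of_isZero_X₂ _ ?_
    haveI : Subsingleton (CechTop.C U P 0) :=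
      ⟨fun x y => CechTop.hom_ext U P fun a => (IsEmpty.false (a 0)).elim⟩
    exact AddCommGrpCat.isZero_of_subsingleton (CechTop.C U P 0)
  | succ q =>
    rw [← HomologicalComplex.exactAt_iff_isZero_homology,
      HomologicalComplex.exactAt_iff' _ q (q + 1) (q + 2) (by simp) (by simp),
      ShortComplex.ab_exact_iff]
    intro x hx
    exact OrdCech.exists_eq_d U P hq x hx

end Groth.Agent.S10952
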