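import Groth.Statements.S10955
import Groth.Agent.H06Unram.Tower

set_option autoImplicit false
universe u
open scoped TensorProduct
open Unram

namespace Groth.Agent.S10955

/-- Let A → B → C be ring homomorphisms with B and C finitely presented over A, let q be a prime ideal
of C and p its inverse image in B, and assume that C is smooth over A at q and that B is smooth over
A at p. Then C is smooth over B at q if and only if the map obtained from the canonical map C ⊗_B
Ω_{B/A} → Ω_{C/A} by tensoring over C with the residue field k(q) is injective. -/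
theorem result (A B C : Type u) [CommRing A] [CommRing B]
    [CommRing C] [Algebra A B] [Algebra B C] [Algebra A C] [IsScalarTower A B C]
    [Algebra.FinitePresentation A B] [Algebra.FinitePresentation A C] (q : Ideal C) [q.IsPrime]
    (hC : Algebra.IsSmoothAt A q) (hB : Algebra.IsSmoothAt A (q.under B)) :
    Algebra.IsSmoothAt B q ↔
      Function.Injective ((KaehlerDifferential.mapBaseChange A B C).lTensor q.ResidueField) := by
  haveI : Algebra.FormallySmooth A (Localization.AtPrime q) := hC
  let T := Localization.AtPrime q
  haveI : Algebra.EssFiniteType C T := Algebra.EssFiniteType.of_isLocalization T q.primeCompl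
  haveI : Algebra.EssFiniteType A T := Algebra.EssFiniteType.comp A C T
  haveI : Algebra.FormallyEtale C T := Algebra.FormallyEtale.of_isLocalization q.primeCompl
  haveI : Module.Finite T (Ω[T⁄A]) := inferInstance
  haveI : Module.Free T (Ω[T⁄A]) := Module.free_of_flat_of_isLocalRing
  haveI : Module.Finite T (T ⊗[B] Ω[B⁄A]) := Module.Finite.base_change B T _
  refine (H06Unram.Tower.formallySmooth_iff A B T).trans
    ((IsLocalRing.split_injective_iff_lTensor_residueField_injective (KaehlerDifferential.mapBaseChange A B T)).trans ?_)
  let k := q.ResidueField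
  let e₁ : k ⊗[C] (C ⊗[B] Ω[B⁄A]) ≃ₗ[C] k ⊗[B] Ω[B⁄A] :=
    TensorProduct.AlgebraTensorModule.cancelBaseChange B C C k _
  let e₂ : k ⊗[T] (T ⊗[B] Ω[B⁄A]) ≃ₗ[T] k ⊗[B] Ω[B⁄A] :=
    TensorProduct.AlgebraTensorModule.cancelBaseChange B T T k _
  let e₃ : k ⊗[T] Ω[T⁄A] ≃ₗ[T] k ⊗[C] Ω[C⁄A] :=
    (LinearEquiv.lTensor k (KaehlerDifferential.tensorKaehlerEquivOfFormallyEtale A C T).symm).trans
      (TensorProduct.AlgebraTensorModule.cancelBaseChange C T T k _)
  have hmap : ∀ w : Ω[B⁄A], KaehlerDifferential.map A A B T w =
      KaehlerDifferential.map A A C T (KaehlerDifferential.map A A B C w) := by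
    intro w
    have hw : w ∈ Submodule.span B (Set.range (KaehlerDifferential.D A B)) := by
      rw [KaehlerDifferential.span_range_derivation]; trivial
    induction hw using Submodule.span_induction with
    | mem x hx =>
      obtain ⟨b, rfl⟩ := hx
      rw [KaehlerDifferential.map_D, KaehlerDifferential.map_D, KaehlerDifferential.map_D,
        ← IsScalarTower.algebraMap_apply]
    | zero => simp only [map_zero]
    | add x y _ _ h1 h2 => simp only [map_add, h1, h2]
    | smul b x _ h =>
      rw [map_smul, map_smul, h, ← algebraMap_smul C b (KaehlerDifferential.map A A B C x), map_smul,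
        algebraMap_smul C b]
  have key : ∀ z, e₃ ((KaehlerDifferential.mapBaseChange A B T).lTensor k (e₂.symm z)) =
      (KaehlerDifferential.mapBaseChange A B C).lTensor k (e₁.symm z) := by
    intro z
    induction z with
    | tmul a w =>
      have h2 : e₂.symm (a ⊗ₜ w) = a ⊗ₜ (1 ⊗ₜ w) := e₂.injective (by
        rw [e₂.apply_symm_apply]
        simp [e₂, TensorProduct.AlgebraTensorModule.cancelBaseChange_tmul])
      have h1 : e₁.symm (a ⊗ₜ w) = a ⊗ₜ (1 ⊗ₜ w) := e₁.injective (by
        rw [e₁.apply_symm_apply]
        simp [e₁, TensorProduct.AlgebraTensorModule.cancelBaseChange_tmul])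
      rw [h1, h2, LinearMap.lTensor_tmul, LinearMap.lTensor_tmul, KaehlerDifferential.mapBaseChange_tmul,
        KaehlerDifferential.mapBaseChange_tmul, one_smul, one_smul, hmap]
      have h3 : (KaehlerDifferential.tensorKaehlerEquivOfFormallyEtale A C T).symm
          (KaehlerDifferential.map A A C T (KaehlerDifferential.map A A B C w)) =
          1 ⊗ₜ KaehlerDifferential.map A A B C w := by
        rw [LinearEquiv.symm_apply_eq, KaehlerDifferential.tensorKaehlerEquivOfFormallyEtale_apply,
          KaehlerDifferential.mapBaseChange_tmul, one_smul]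
      show TensorProduct.AlgebraTensorModule.cancelBaseChange C T T k _ (LinearEquiv.lTensor k _ _) = _
      rw [LinearEquiv.lTensor_tmul, h3, TensorProduct.AlgebraTensorModule.cancelBaseChange_tmul, one_smul]
    | zero => simp only [map_zero]
    | add x y h1 h2 => simp only [map_add, h1, h2]
  constructor
  · intro h x y hxy
    have h'' : Function.Injective fun z => (KaehlerDifferential.mapBaseChange A B C).lTensor k (e₁.symm z) := by
      rw [← funext key]; exact e₃.injective.comp (h.comp e₂.symm.injective)
    exact e₁.injective (h'' (by simpa using hxy))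
  · intro h
    have h' : Function.Injective fun z => e₃ ((KaehlerDifferential.mapBaseChange A B T).lTensor k (e₂.symm z)) := by
      rw [funext key]; exact h.comp e₁.symm.injective
    intro x y hxy
    exact e₂.injective (h' (by simpa using congrArg e₃ hxy))

end Groth.Agent.S10955
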