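import Groth.Statements.S10956
import Mathlib.RingTheory.Kaehler.Basic
import Mathlib.RingTheory.TensorProduct.Basic

set_option autoImplicit false
universe u
open scoped TensorProduct
open CAlg

namespace Groth.Agent.S10956

/-- Let R be a commutative ring, A and B commutative R-algebras and T = A ⊗_R B, an A-algebra through
the left factor. There is a T-linear map r from Ω_{T/R} to T ⊗_A Ω_{A/R} sending d(a ⊗ b) to (1 ⊗ b)
⊗ da for all a in A and b in B, and together with the canonical map Ω_{T/R} → Ω_{T/A} it identifies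
Ω_{T/R} with the product (T ⊗_A Ω_{A/R}) × Ω_{T/A}. (The published statement is the isomorphism of
(Ω_{A/R} ⊗_R B) ⊕ (A ⊗_R Ω_{B/R}) with Ω_{T/R} matching the exterior differentials; it is stated
here through the canonical identifications T ⊗_A Ω_{A/R} = Ω_{A/R} ⊗_R B and Ω_{T/A} = A ⊗_R
Ω_{B/R}.) -/
theorem result (R A B : Type u) [CommRing R] [CommRing A] [CommRing B]
    [Algebra R A] [Algebra R B] :
    ∃ r : Ω[(A ⊗[R] B)⁄R] →ₗ[A ⊗[R] B] ((A ⊗[R] B) ⊗[A] Ω[A⁄R]),
      (∀ (a : A) (b : B), r (KaehlerDifferential.D R (A ⊗[R] B) (a ⊗ₜ[R] b)) =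
          ((1 : A) ⊗ₜ[R] b) ⊗ₜ[A] KaehlerDifferential.D R A a) ∧
        Function.Bijective (fun ω : Ω[(A ⊗[R] B)⁄R] =>
          (r ω, KaehlerDifferential.map R A (A ⊗[R] B) (A ⊗[R] B) ω)) := by
  let T := A ⊗[R] B
  let M := T ⊗[A] Ω[A⁄R]
  let L : A ⊗[R] B →ₗ[R] M := TensorProduct.lift (LinearMap.mk₂ R
    (fun (a : A) (b : B) => (((1 : A) ⊗ₜ[R] b : T) ⊗ₜ[A] KaehlerDifferential.D R A a : M))
    (fun a a' b => by rw [map_add, TensorProduct.tmul_add])
    (fun c a b => by rw [Derivation.map_smul, TensorProduct.tmul_smul])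
    (fun a b b' => by rw [TensorProduct.tmul_add, TensorProduct.add_tmul])
    (fun c a b => by rw [TensorProduct.tmul_smul]; exact (TensorProduct.smul_tmul' c _ _).symm))
  have hL : ∀ (a : A) (b : B), L (a ⊗ₜ[R] b) = ((1 : A) ⊗ₜ[R] b : T) ⊗ₜ[A] KaehlerDifferential.D R A a :=
    fun a b => rfl
  let d : Derivation R T M := Derivation.mk' L fun x y => by
    induction x using TensorProduct.induction_on with
    | zero => simp
    | add x x' hx hx' => simp only [add_mul, map_add, hx, hx', smul_add, add_smul]; abel
    | tmul a b =>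
      induction y using TensorProduct.induction_on with
      | zero => simp
      | add y y' hy hy' => simp only [mul_add, map_add, hy, hy', smul_add, add_smul]; abel
      | tmul a' b' =>
        rw [Algebra.TensorProduct.tmul_mul_tmul, hL, hL, hL, Derivation.leibniz, TensorProduct.tmul_add,
          TensorProduct.tmul_smul, TensorProduct.tmul_smul, TensorProduct.smul_tmul', TensorProduct.smul_tmul',
          TensorProduct.smul_tmul', TensorProduct.smul_tmul']
        congr 2 <;> simp [TensorProduct.smul_tmul', Algebra.TensorProduct.tmul_mul_tmul, mul_comm b b']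
        all_goals (rw [Algebra.TensorProduct.tmul_mul_tmul, mul_one]; try rw [mul_comm b' b])
  let r := d.liftKaehlerDifferential
  let f := KaehlerDifferential.map R A T T
  let m := KaehlerDifferential.mapBaseChange R A T
  have hr : ∀ (a : A) (b : B), r (KaehlerDifferential.D R T (a ⊗ₜ[R] b)) =
      ((1 : A) ⊗ₜ[R] b : T) ⊗ₜ[A] KaehlerDifferential.D R A a := fun a b => by
    rw [Derivation.liftKaehlerDifferential_comp_D]
    exact hL a b
  have hrm : ∀ x, r (m x) = x := fun x => by
    induction x using TensorProduct.induction_on with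
    | zero => simp
    | add x y hx hy => rw [map_add, map_add, hx, hy]
    | tmul t w =>
      obtain ⟨w, rfl⟩ := KaehlerDifferential.linearCombination_surjective R A w
      induction w using Finsupp.induction_linear with
      | zero => simp
      | add u v hu hv => rw [map_add, TensorProduct.tmul_add, map_add, map_add, hu, hv]
      | single a c =>
        rw [Finsupp.linearCombination_single, KaehlerDifferential.mapBaseChange_tmul, LinearMap.map_smul,
          LinearMap.map_smul, KaehlerDifferential.map_D, LinearMap.map_smul_of_tower, Algebra.TensorProduct.algebraMap_apply, Algebra.algebraMap_self,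
          RingHom.id_apply, hr, ← Algebra.TensorProduct.one_def, smul_comm, TensorProduct.smul_tmul',
          smul_eq_mul, mul_one, ← TensorProduct.tmul_smul]
  refine ⟨r, hr, ?_, ?_⟩
  · intro ω ω' hω
    have h1 : r (ω - ω') = 0 := by
      have e : r ω = r ω' := congrArg Prod.fst hω
      rw [map_sub, e, sub_self]
    have h2 : f (ω - ω') = 0 := by rw [map_sub, sub_eq_zero]; exact (congrArg Prod.snd hω : f ω = f ω')
    obtain ⟨x, hx⟩ := (KaehlerDifferential.exact_mapBaseChange_map R A T _).mp h2
    rw [← hx, hrm] at h1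
    rw [← sub_eq_zero, ← hx, h1, map_zero]
  · rintro ⟨u, w⟩
    obtain ⟨ω, hω⟩ := KaehlerDifferential.map_surjective R A T w
    refine ⟨ω + m (u - r ω), Prod.ext ?_ ?_⟩
    · show r (ω + m (u - r ω)) = u
      rw [map_add, hrm, add_sub_cancel]
    · show f (ω + m (u - r ω)) = w
      rw [map_add, (KaehlerDifferential.exact_mapBaseChange_map R A T).apply_apply_eq_zero, add_zero, hω]

end Groth.Agent.S10956
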