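import Groth.Statements.S10957
import Mathlib.RingTheory.DiscreteValuationRing.TFAE
import Mathlib.RingTheory.IntegralClosure.Algebra.Basic
import Mathlib.RingTheory.Localization.FractionRing

set_option autoImplicit false
universe u
open CAlg

namespace Groth.Agent.S10957

/-- Let A be a Noetherian local integral domain that is normal (integrally closed in its field of
fractions). If there is a nonzero element a of A such that the maximal ideal of A is an associated
prime of the A-module A/(a), then A is a discrete valuation ring. (The other conditions listed in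
the published result — normal of dimension one, maximal ideal nonzero principal, regular of
dimension one — are the library's standard characterisations; this row records the criterion through
an associated prime.) -/
theorem result
    (A : Type u) [CommRing A] [IsDomain A] [IsNoetherianRing A] [IsLocalRing A] [IsIntegrallyClosed A]
    (a : A) (ha : a ≠ 0)
    (hass : IsLocalRing.maximalIdeal A ∈ associatedPrimes A (A ⧸ Ideal.span ({a} : Set A))) :
    IsDiscreteValuationRing A := by
  obtain ⟨-, z, hz⟩ := isAssociatedPrime_iff.mp hass
  obtain ⟨b, rfl⟩ := Ideal.Quotient.mk_surjective z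
  set m := IsLocalRing.maximalIdeal A with hm
  let K := FractionRing A
  have hmem : ∀ r : A, r ∈ m ↔ a ∣ r * b := by
    intro r
    rw [hz, Submodule.mem_colon_singleton, Submodule.mem_bot, Algebra.smul_def,
      Ideal.Quotient.algebraMap_eq, ← map_mul, Ideal.Quotient.eq_zero_iff_mem,
      Ideal.mem_span_singleton]
  have hb : ¬ a ∣ b := fun hb => (IsLocalRing.maximalIdeal.isMaximal A).ne_top
    ((Ideal.eq_top_iff_one _).mpr ((hmem 1).mpr (by rwa [one_mul])))
  have haK : algebraMap A K a ≠ 0 := (map_ne_zero_iff _ (IsFractionRing.injective A K)).mpr ha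
  let x : K := algebraMap A K b / algebraMap A K a
  by_cases hunit : ∃ t ∈ m, ∃ u : A, IsUnit u ∧ t * b = a * u
  · obtain ⟨t, ht, u, hu, htu⟩ := hunit
    have ht0 : t ≠ 0 := by
      rintro rfl
      rw [zero_mul] at htu
      exact hu.ne_zero ((mul_eq_zero.mp htu.symm).resolve_left ha)
    have hspan : m = Ideal.span {t} := by
      refine le_antisymm (fun r hr => ?_) ((Ideal.span_singleton_le_iff_mem _).mpr ht)
      obtain ⟨c, hc⟩ := (hmem r).mp hr
      obtain ⟨v, hv⟩ := hu.exists_left_inv
      rw [Ideal.mem_span_singleton]
      refine ⟨c * v, mul_left_cancel₀ (show b ≠ 0 by rintro rfl; exact hb (dvd_zero a)) ?_⟩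
      linear_combination (1 * 1) * hc - c * v * htu - a * c * hv
    have hnf : ¬ IsField A := fun hf => ht0 (by
      have := hm ▸ ht
      rwa [IsLocalRing.isField_iff_maximalIdeal_eq.mp hf, Ideal.mem_bot] at this)
    exact ((IsDiscreteValuationRing.TFAE A hnf).out 4 0).mp (⟨t, hspan⟩ : (IsLocalRing.maximalIdeal A).IsPrincipal)
  · exfalso
    push Not at hunit
    have hint : IsIntegral A x := by
      refine isIntegral_of_smul_mem_submodule (Submodule.map (Algebra.linearMap A K) m) ?_
        (Submodule.FG.map _ (IsNoetherian.noetherian m)) x ?_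
      · have ha' : a ∈ m := (hmem a).mpr (dvd_mul_right a b)
        exact (Submodule.ne_bot_iff _).mpr ⟨_, ⟨a, ha', rfl⟩, haK⟩
      · rintro _ ⟨r, hr, rfl⟩
        obtain ⟨c, hc⟩ := (hmem r).mp hr
        refine ⟨c, ?_, ?_⟩
        · by_contra hcm
          exact hunit r hr c (not_not.mp fun h => hcm h) hc
        · rw [Algebra.linearMap_apply, Algebra.linearMap_apply, smul_eq_mul, div_mul_eq_mul_div,
            eq_div_iff haK, ← map_mul, ← map_mul]
          congr 1
          linear_combination -hc
    obtain ⟨y, hy⟩ := (isIntegrallyClosed_iff K).mp ‹IsIntegrallyClosed A› hint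
    refine hb ⟨y, IsFractionRing.injective A K ?_⟩
    rw [map_mul, hy, mul_div_cancel₀ _ haK]

end Groth.Agent.S10957
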