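import Groth.Statements.S10959
import Mathlib

set_option autoImplicit false
universe u
open CategoryTheory MonoidalCategory CartesianMonoidalCategory MonObj GrpObj AlgebraicGeometry
open AbVar

namespace Groth.Agent.S10959

/-- Let K be an algebraically closed field and A an abelian variety over K (a group scheme over Spec K
with proper smooth structure morphism and irreducible underlying space). Let Z be a closed subset of
A which is not all of A, and z a K-valued point of A. Then there is a K-valued point x of A such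
that the point underlying z lies neither in the translate of Z by x nor in the translate of Z by the
inverse of x; here the translation by x is the morphism A → A given on points by a ↦ a·x, the
product of the identity and the constant map x in the group of morphisms into A. (The published
statement takes Z to be the support of an effective divisor; this row allows any closed subset other
than A.) -/
theorem result
    (K : Type u) [Field K] [IsAlgClosed K] (A : Over (Spec (CommRingCat.of K)))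
    [GrpObj A] [IsProper A.hom] [Smooth A.hom] [IrreducibleSpace A.left]
    (Z : Set A.left) (hZ : IsClosed Z) (hZne : Z ≠ Set.univ)
    (z : 𝟙_ (Over (Spec (CommRingCat.of K))) ⟶ A) :
    ∃ x : 𝟙_ (Over (Spec (CommRingCat.of K))) ⟶ A,
      Disjoint (Set.range z.left.base)
        ((𝟙 A * (toUnit A ≫ x)).left.base '' Z ∪ (𝟙 A * (toUnit A ≫ x)⁻¹).left.base '' Z) := by
  let P := 𝟙_ (Over (Spec (CommRingCat.of K)))
  let pk : ↥P.left := IsLocalRing.closedPoint K
  haveI : Subsingleton ↥P.left := inferInstanceAs (Subsingleton (PrimeSpectrum K))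
  have e1 : ∀ {B : Over (Spec (CommRingCat.of K))} (c : P ⟶ B) {Q : Over (Spec (CommRingCat.of K))} (p : Q ⟶ A),
      p ≫ toUnit A ≫ c = toUnit Q ≫ c := by
    intro B c Q p
    rw [← Category.assoc, toUnit_unique (p ≫ toUnit A) (toUnit Q)]
  let φ₁ : A ⟶ A := (toUnit A ≫ z) * 𝟙 A
  let φ₂ : A ⟶ A := (toUnit A ≫ z) * (𝟙 A)⁻¹
  have h₁ : Function.Surjective φ₁.left := fun a => by
    refine ⟨((toUnit A ≫ z)⁻¹ * 𝟙 A : A ⟶ A).left a, ?_⟩
    have : ((toUnit A ≫ z)⁻¹ * 𝟙 A : A ⟶ A) ≫ φ₁ = 𝟙 A := by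
      simp only [φ₁, MonObj.comp_mul, e1, Category.comp_id, mul_inv_cancel_left]
    exact congrArg (fun e : A ⟶ A => e.left a) this
  have h₂ : Function.Surjective φ₂.left := fun a => by
    refine ⟨(((toUnit A ≫ z)⁻¹ * 𝟙 A : A ⟶ A)⁻¹).left a, ?_⟩
    have : (((toUnit A ≫ z)⁻¹ * 𝟙 A : A ⟶ A)⁻¹) ≫ φ₂ = 𝟙 A := by
      simp only [φ₂, MonObj.comp_mul, GrpObj.comp_inv, e1, Category.comp_id, _root_.inv_inv, mul_inv_cancel_left]
    exact congrArg (fun e : A ⟶ A => e.left a) this
  have hne : ∀ φ : A ⟶ A, Function.Surjective φ.left → ((φ.left ⁻¹' Z)ᶜ).Nonempty := fun φ hφ => by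
    obtain ⟨a, ha⟩ := (Set.ne_univ_iff_exists_notMem Z).mp hZne
    obtain ⟨b, rfl⟩ := hφ a
    exact ⟨b, ha⟩
  have ho : ∀ φ : A ⟶ A, IsOpen ((φ.left ⁻¹' Z)ᶜ) := fun φ => (hZ.preimage φ.left.continuous).isOpen_compl
  have hint := nonempty_preirreducible_inter (ho φ₁) (ho φ₂) (hne φ₁ h₁) (hne φ₂ h₂)
  haveI : JacobsonSpace ↥A.left := LocallyOfFiniteType.jacobsonSpace A.hom
  obtain ⟨a, ha, hac⟩ := nonempty_inter_closedPoints hint ((ho φ₁).inter (ho φ₂)).isLocallyClosed
  let x : P ⟶ A := Over.homMk (pointOfClosedPoint A.hom a hac) (pointOfClosedPoint_comp _ _ _)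
  have hxa : x.left pk = a := pointOfClosedPoint_apply A.hom a hac _
  refine ⟨x, Set.disjoint_left.mpr ?_⟩
  rintro _ ⟨q, rfl⟩ hq
  obtain rfl : q = pk := Subsingleton.elim _ _
  have key : ∀ (c : P ⟶ A) (b : ↥A.left), b ∈ Z → (𝟙 A * (toUnit A ≫ c) : A ⟶ A).left b = z.left pk →
      (z * c⁻¹ : P ⟶ A).left pk ∈ Z := by
    intro c b hb he
    have e2 : (𝟙 A * (toUnit A ≫ c) : A ⟶ A) ≫ (𝟙 A * (toUnit A ≫ c)⁻¹) = 𝟙 A := by
      rw [MonObj.comp_mul, Category.comp_id, GrpObj.comp_inv, e1, mul_inv_cancel_right]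
    have e3 : z ≫ (𝟙 A * (toUnit A ≫ c)⁻¹) = z * c⁻¹ := by
      rw [MonObj.comp_mul, Category.comp_id, GrpObj.comp_inv, e1, toUnit_unit, Category.id_comp]
    rw [← e3, Over.comp_left, Scheme.Hom.comp_apply, ← he, ← Scheme.Hom.comp_apply, ← Over.comp_left, e2]
    exact hb
  rcases hq with ⟨b, hb, he⟩ | ⟨b, hb, he⟩
  · refine ha.2 ?_
    have h' := key x b hb he
    have e4 : x ≫ φ₂ = z * x⁻¹ := by
      simp only [φ₂, MonObj.comp_mul, GrpObj.comp_inv, e1, Category.comp_id, toUnit_unit, Category.id_comp]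
      rfl
    rw [← e4, Over.comp_left, Scheme.Hom.comp_apply, hxa] at h'
    exact h'
  · refine ha.1 ?_
    have he' : (𝟙 A * (toUnit A ≫ x⁻¹) : A ⟶ A).left b = z.left pk := by
      rw [GrpObj.comp_inv]; exact he
    have h' := key x⁻¹ b hb he'
    have e4 : x ≫ φ₁ = z * x⁻¹⁻¹ := by
      simp only [φ₁, MonObj.comp_mul, e1, Category.comp_id, toUnit_unit, Category.id_comp, _root_.inv_inv]
      rfl
    rw [← e4, Over.comp_left, Scheme.Hom.comp_apply, hxa] at h'
    exact h'

end Groth.Agent.S10959
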