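import Groth.Statements.S10963
import Groth.Agent.H7Flat.LineCocycle

set_option autoImplicit false
universe u
open CategoryTheory AlgebraicGeometry TopologicalSpace Opposite
open PicF

namespace Groth.Agent.S10963

/-- Let X be a scheme, (U_i)_{i ∈ ι} an open cover of X and, for all i, j, a unit η_ij of the ring of
functions on U_i ∩ U_j, such that on every triple intersection U_i ∩ U_j ∩ U_k the cocycle identity
η_ik = η_ij · η_jk holds. Then there exist an invertible O_X-module L and sections s_i of L over U_i
such that each s_i generates L over U_i — for every open V ⊆ U_i the map r ↦ r · s_i|_V from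
functions on V to sections of L over V is bijective — and s_i|_{U_i ∩ U_j} = η_ij · s_j|_{U_i ∩ U_j}
for all i, j. (This is the surjectivity of the map from invertible modules trivialised by the cover
to Čech 1-cohomology classes of the cover with values in the sheaf of units.) -/
theorem result (X : Scheme.{u}) {ι : Type u} (U : ι → X.Opens)
    (hU : iSup U = ⊤) (η : ∀ i j : ι, (Γ(X, U i ⊓ U j))ˣ)
    (hη : ∀ i j k : ι,
      X.presheaf.map (homOfLE (inf_le_inf_right (U k) inf_le_left : U i ⊓ U j ⊓ U k ≤ U i ⊓ U k)).op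
          (η i k : Γ(X, U i ⊓ U k)) =
        X.presheaf.map (homOfLE (inf_le_left : U i ⊓ U j ⊓ U k ≤ U i ⊓ U j)).op (η i j : Γ(X, U i ⊓ U j)) *
          X.presheaf.map (homOfLE (inf_le_inf_right (U k) inf_le_right : U i ⊓ U j ⊓ U k ≤ U j ⊓ U k)).op
            (η j k : Γ(X, U j ⊓ U k))) :
    ∃ (L : X.Modules) (s : ∀ i : ι, Γ(L, U i)),
      PicF.IsInvertible L ∧
      (∀ (i : ι) (V : X.Opens) (h : V ≤ U i),
        Function.Bijective (fun r : Γ(X, V) => r • L.presheaf.map (homOfLE h).op (s i))) ∧
      ∀ i j : ι, L.presheaf.map (homOfLE (inf_le_left : U i ⊓ U j ≤ U i)).op (s i) =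
        (η i j : Γ(X, U i ⊓ U j)) • L.presheaf.map (homOfLE (inf_le_right : U i ⊓ U j ≤ U j)).op (s j) := by
  open Groth.Agent.H7Flat.LineCocycle in
  let D : Data X :=
    { J := ι
      V := U
      g := fun a b => rr (le_inf inf_le_right inf_le_left) (η b a : Γ(X, U b ⊓ U a))
      isUnit := fun a b => (η b a).isUnit.map _
      cocycle := fun a b c T ha hb hc => by
        have h := congrArg (rr (le_inf (le_inf hc hb) ha : T ≤ U c ⊓ U b ⊓ U a)) (hη c b a)
        change rr _ (rr _ _) = rr _ (rr _ _ * rr _ _) at h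
        rw [map_mul, rr_rr, rr_rr, rr_rr] at h
        rw [rr_rr, rr_rr, rr_rr, mul_comm]
        exact h.symm
      cover := fun x => TopologicalSpace.Opens.mem_iSup.1 (hU.ge (TopologicalSpace.Opens.mem_top x)) }
  refine ⟨line D, gen D, isInvertible_line D, fun i V h => (isGen_gen D i).bijective h, fun i j => ?_⟩
  refine (gen_trans D j i (U i ⊓ U j) inf_le_right inf_le_left).trans (congrArg (fun r : Γ(X, U i ⊓ U j) => r • _) ?_)
  change rr _ (rr _ _) = _
  rw [rr_rr, rr_self]

end Groth.Agent.S10963
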