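import Groth.Statements.S10964
import Groth.Agent.H11Ample.Tensor

set_option autoImplicit false
universe u
open CategoryTheory AlgebraicGeometry TopologicalSpace Opposite
open PicF

namespace Groth.Agent.S10964

open CategoryTheory AlgebraicGeometry TopologicalSpace Opposite Groth.Agent.H11Tilde Groth.Agent.H11Ample

/-- Let X be a scheme with an open cover (U_i)_{i ∈ ι}. Let L and L' be O_X-modules with sections s_i of
L and s'_i of L' over U_i that generate there (for every open V ⊆ U_i, r ↦ r · s_i|_V is a bijection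
from functions on V onto sections of L over V, and likewise for s'_i), and let η_ij, η'_ij be the
functions on U_i ∩ U_j with s_i = η_ij · s_j and s'_i = η'_ij · s'_j there. Then L and L' are
isomorphic as O_X-modules if and only if there is a family of units u_i of the rings of functions on
the U_i with η'_ij · u_i|_{U_i ∩ U_j} = u_j|_{U_i ∩ U_j} · η_ij for all i, j. (So two invertible
modules trivialised by the cover are isomorphic exactly when their transition cocycles define the
same Čech cohomology class.) -/
theorem result (X : Scheme.{u}) {ι : Type u} (U : ι → X.Opens)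
    (hU : iSup U = ⊤) (L L' : X.Modules) (s : ∀ i : ι, Γ(L, U i)) (s' : ∀ i : ι, Γ(L', U i))
    (hs : ∀ (i : ι) (V : X.Opens) (h : V ≤ U i),
        Function.Bijective (fun r : Γ(X, V) => r • L.presheaf.map (homOfLE h).op (s i)))
    (hs' : ∀ (i : ι) (V : X.Opens) (h : V ≤ U i),
        Function.Bijective (fun r : Γ(X, V) => r • L'.presheaf.map (homOfLE h).op (s' i)))
    (η η' : ∀ i j : ι, Γ(X, U i ⊓ U j))
    (hη : ∀ i j : ι, L.presheaf.map (homOfLE (inf_le_left : U i ⊓ U j ≤ U i)).op (s i) =
        η i j • L.presheaf.map (homOfLE (inf_le_right : U i ⊓ U j ≤ U j)).op (s j))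
    (hη' : ∀ i j : ι, L'.presheaf.map (homOfLE (inf_le_left : U i ⊓ U j ≤ U i)).op (s' i) =
        η' i j • L'.presheaf.map (homOfLE (inf_le_right : U i ⊓ U j ≤ U j)).op (s' j)) :
    Nonempty (L ≅ L') ↔ ∃ u : ∀ i : ι, (Γ(X, U i))ˣ, ∀ i j : ι,
      η' i j * X.presheaf.map (homOfLE (inf_le_left : U i ⊓ U j ≤ U i)).op (u i : Γ(X, U i)) =
        X.presheaf.map (homOfLE (inf_le_right : U i ⊓ U j ≤ U j)).op (u j : Γ(X, U j)) * η i j := by
  have hg : ∀ i, IsGen L (s i) := fun i => isGen_of_bijective (hs i)
  have hg' : ∀ i, IsGen L' (s' i) := fun i => isGen_of_bijective (hs' i)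
  have hcov : ∀ x, ∃ i, x ∈ U i := fun x => by
    have : x ∈ iSup U := by rw [hU]; trivial
    exact Opens.mem_iSup.1 this
  constructor
  · rintro ⟨φ⟩
    choose c hc using fun i => exists_coeff (hg' i) (φ.hom.app (U i) (s i))
    have hu : ∀ i, IsUnit (c i) := fun i => by
      have hgφ := isGen_map_iso φ (hg i)
      obtain ⟨d, hd⟩ := exists_coeff hgφ (s' i)
      rw [hc i, smul_smul] at hd
      refine IsUnit.of_mul_eq_one d (((hg' i).bijective le_rfl).1 ?_)
      beta_reduce
      rw [H10Coh.mres_self, one_smul, mul_comm, ← hd]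
    refine ⟨fun i => (hu i).unit, fun i j => ((hg' j).bijective inf_le_right).1 ?_⟩
    beta_reduce
    simp only [IsUnit.unit_spec]
    have h1 := congrArg (L'.presheaf.map (homOfLE (inf_le_left : U i ⊓ U j ≤ U i)).op) (hc i)
    have h2 := congrArg (L'.presheaf.map (homOfLE (inf_le_right : U i ⊓ U j ≤ U j)).op) (hc j)
    rw [← app_map_apply, Scheme.Modules.map_smul, hη, Scheme.Modules.Hom.app_smul, app_map_apply, hη', smul_smul] at h1
    rw [Scheme.Modules.map_smul] at h2
    rw [h2, smul_smul] at h1
    rw [mul_comm (η' i j), ← h1, mul_comm]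
  · rintro ⟨u, hu⟩
    obtain ⟨φ, -⟩ := exists_iso_of_gen U hcov s hg (fun i => (u i : Γ(X, U i)) • s' i) (fun i => by
        have h := isGen_res (hg' i) le_rfl (u i).isUnit
        rwa [H10Coh.mres_self] at h) fun i j v hv => by
      have : η i j = v := ((hg j).bijective inf_le_right).1 ((hη i j).symm.trans hv)
      subst this
      rw [Scheme.Modules.map_smul, Scheme.Modules.map_smul, hη', smul_smul, smul_smul, mul_comm _ (η' i j), hu,
        mul_comm]
    exact ⟨φ⟩

end Groth.Agent.S10964
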