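import Groth.Statements.S10968
import Groth.Agent.H23FunFld.Weil

set_option autoImplicit false
open FunFld

namespace Groth.Agent.S10968

/-- In a function field of one variable `K/k`, the principal divisor of any element of `K` has degree
`0`. -/
theorem result (k K : Type*) [Field k] [Field K] [Algebra k K]
    (hK : FunFld.IsFunctionField k K) (x : K) : (FunFld.div k x).deg = 0 := by
  exact H23FunFld.deg_div hK x

end Groth.Agent.S10968
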