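import Groth.Statements.S10979
import Groth.Agent.H23FunFld.Weil

set_option autoImplicit false
open FunFld

namespace Groth.Agent.S10979

/-- For divisors `D₁ ≤ D₂` of a function field of one variable, `dim_k (A(D₂)+K)/(A(D₁)+K) = δ(D₂) -
δ(D₁)` with `δ(D) = deg D + 1 - ℓ(D)`. -/
theorem result (k K : Type*) [Field k] [Field K] [Algebra k K]
    (hK : FunFld.IsFunctionField k K) (D₁ D₂ : FunFld.Divisor k K) (h : D₁ ≤ D₂) :
    FiniteDimensional k (↥(FunFld.AD D₂ ⊔ LinearMap.range (FunFld.diag k K)) ⧸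
        Submodule.comap (FunFld.AD D₂ ⊔ LinearMap.range (FunFld.diag k K)).subtype
          (FunFld.AD D₁ ⊔ LinearMap.range (FunFld.diag k K))) ∧
    (Module.finrank k (↥(FunFld.AD D₂ ⊔ LinearMap.range (FunFld.diag k K)) ⧸
        Submodule.comap (FunFld.AD D₂ ⊔ LinearMap.range (FunFld.diag k K)).subtype
          (FunFld.AD D₁ ⊔ LinearMap.range (FunFld.diag k K))) : ℤ) =
      (D₂.deg + 1 - FunFld.ell D₂) - (D₁.deg + 1 - FunFld.ell D₁) := by
  exact H23FunFld.relDim_ADK hK h

end Groth.Agent.S10979
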