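import Groth.Statements.S10981
import Mathlib
import Groth.Agent.H23Ext.Semilocal

set_option autoImplicit false
open FunFld

namespace Groth.Agent.S10981

/-- Let `P` be a place of a function field of one variable `K/k` and let `K'` be a field of finite
degree over `K`, separable or not; then `O_P` has a module-finite integral closure in `K'`. -/
theorem result (k K : Type*) [Field k] [Field K] [Algebra k K]
    (hK : FunFld.IsFunctionField k K) (P : FunFld.Place k K) (K' : Type*) [Field K'] [Algebra K K']
    [FiniteDimensional K K'] [Algebra P.O K'] [IsScalarTower P.O K K'] :
    Module.Finite P.O (integralClosure P.O K') := by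
  letI : Algebra k K' := ((algebraMap K K').comp (algebraMap k K)).toAlgebra
  haveI : IsScalarTower k K K' := IsScalarTower.of_algebraMap_eq fun _ => rfl
  haveI : IsScalarTower k P.O K' := IsScalarTower.of_algebraMap_eq fun c =>
    (IsScalarTower.algebraMap_apply P.O K K' (algebraMap k P.O c)).symm
  exact Groth.Agent.H23Ext.finite_integralClosure (k := k) hK P

end Groth.Agent.S10981
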