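import Groth.Statements.S10982
import Groth.Agent.H23FunFld.Weil

set_option autoImplicit false
open FunFld

namespace Groth.Agent.S10982

/-- In a function field of one variable of genus `g`, `deg D + 1 - ℓ(D) ≤ g` for every divisor `D`, with
equality for all `D` of sufficiently large degree. (The published statement calls `g` a positive
integer; `g = 0` occurs, for the rational function field.) -/
theorem result (k K : Type*) [Field k] [Field K] [Algebra k K]
    (hK : FunFld.IsFunctionField k K) :
    (∀ D : FunFld.Divisor k K, D.deg + 1 - (FunFld.ell D : ℤ) ≤ FunFld.genus k K) ∧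
    ∃ N : ℤ, ∀ D : FunFld.Divisor k K, N ≤ D.deg → D.deg + 1 - (FunFld.ell D : ℤ) = FunFld.genus k K := by
  exact ⟨H23FunFld.phi_le_genus hK, H23FunFld.exists_large_deg hK⟩

end Groth.Agent.S10982
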