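import Groth.Statements.S10983
import Groth.Agent.H23FunFld.Weil

set_option autoImplicit false
open FunFld

namespace Groth.Agent.S10983

/-- For a divisor `D` of a function field of one variable of genus `g`, `dim_k A/(A(D)+K) = g - δ(D)`
with `δ(D) = deg D + 1 - ℓ(D)` (repartitions with components in `K`). -/
theorem result (k K : Type*) [Field k] [Field K] [Algebra k K]
    (hK : FunFld.IsFunctionField k K) (D : FunFld.Divisor k K) :
    FiniteDimensional k (↥(FunFld.adele k K) ⧸ FunFld.ADK D) ∧
    (Module.finrank k (↥(FunFld.adele k K) ⧸ FunFld.ADK D) : ℤ) =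
      (FunFld.genus k K : ℤ) - (D.deg + 1 - FunFld.ell D) := by
  exact H23FunFld.finrank_quotient_ADK hK D

end Groth.Agent.S10983
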