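import Groth.Statements.S10989
import Groth.Agent.H23FunFld.Weil

set_option autoImplicit false
open FunFld

namespace Groth.Agent.S10989

/-- Any two canonical divisors of a function field of one variable are linearly equivalent. -/
theorem result (k K : Type*) [Field k] [Field K] [Algebra k K]
    (hK : FunFld.IsFunctionField k K) (C₁ C₂ : FunFld.Divisor k K) (h₁ : FunFld.IsCanonical k K C₁) (h₂ : FunFld.IsCanonical k K C₂) :
    ∃ x : K, x ≠ 0 ∧ C₂ = C₁ + FunFld.div k x := by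
  obtain ⟨ω₁, h01, hω₁⟩ := h₁
  obtain ⟨ω₂, h02, hω₂⟩ := h₂
  obtain ⟨x, hx⟩ := H23FunFld.exists_mulW_eq hK (H23FunFld.IsDivOf_isWeil hω₁) h01
    (H23FunFld.IsDivOf_isWeil hω₂)
  have hx0 : x ≠ 0 := fun h => h02 (by rw [← hx, h, map_zero])
  refine ⟨x, hx0, ?_⟩
  have h3 : FunFld.IsDivOf ω₂ (C₁ + FunFld.div k x) :=
    hx ▸ H23FunFld.isDivOf_mulW hK hx0 (fun _ ha => H23FunFld.smul_mem_adele hK ha) hω₁
  exact le_antisymm ((h3 C₂).1 ((hω₂ C₂).2 le_rfl)) ((hω₂ _).1 ((h3 _).2 le_rfl))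

end Groth.Agent.S10989
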