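import Groth.Statements.S10994
import Groth.Agent.H23FunFld.Rational

set_option autoImplicit false
open FunFld

namespace Groth.Agent.S10994

/-- A function field of one variable has genus `0` and a place of degree `1` iff it is a rational
function field `k(x)`. -/
theorem result (k K : Type*) [Field k] [Field K] [Algebra k K]
    (hK : FunFld.IsFunctionField k K) :
    (FunFld.genus k K = 0 ∧ ∃ P : FunFld.Place k K, P.deg = 1) ↔
      ∃ x : K, IntermediateField.adjoin k ({x} : Set K) = ⊤ := by
  constructor
  · rintro ⟨hg, P, hP⟩
    exact H23FunFld.adjoin_top_of_genus_zero hK hg hP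
  · rintro ⟨x, hx⟩
    obtain ⟨hg, P, hP, -, -⟩ := H23FunFld.genus_zero_of_adjoin_top hK hx
    exact ⟨hg, P, hP⟩

end Groth.Agent.S10994
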