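import Groth.Statements.S10996
import Groth.Agent.H23FunFld.Rational

set_option autoImplicit false
open FunFld

namespace Groth.Agent.S10996

/-- In a function field of one variable of positive genus, distinct places of degree one are not
linearly equivalent. -/
theorem result (k K : Type*) [Field k] [Field K] [Algebra k K]
    (hK : FunFld.IsFunctionField k K) (hg : 0 < FunFld.genus k K) (P P' : FunFld.Place k K) (hP : P.deg = 1) (hP' : P'.deg = 1)
    (x : K) (hx : x ≠ 0) (h : Finsupp.single P 1 - Finsupp.single P' 1 = FunFld.div k x) : P = P' := by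
  by_contra hne
  have h1 : ∀ Q : FunFld.Place k K,
      Q.ord x = (Finsupp.single P (1 : ℤ) - Finsupp.single P' 1 : FunFld.Divisor k K) Q :=
    fun Q => by rw [h, H23FunFld.div_apply hK]
  have htop := H23FunFld.adjoin_eq_top_of_simple_pole hK hP' (x := x)
    (by rw [h1, Finsupp.sub_apply, Finsupp.single_eq_same, Finsupp.single_eq_of_ne (Ne.symm hne)]; norm_num)
    (fun Q hQ => by
      rw [h1, Finsupp.sub_apply, Finsupp.single_eq_of_ne hQ, sub_zero]
      exact Finsupp.single_nonneg.2 zero_le_one Q)
  have := (H23FunFld.genus_zero_of_adjoin_top hK htop).1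
  omega

end Groth.Agent.S10996
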