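import Groth.Statements.S10998
import Groth.Agent.H23Curve.Basic

set_option autoImplicit false
open FunFld

namespace Groth.Agent.S10998

/-- A genus-one function field with a place `P₀` of degree one is `k(x, y)` with `x ∈ L(2P₀)`, `y ∈
L(3P₀)` of pole orders `2` and `3`, and `y² + f(x) y + g(x) = 0` for polynomials `f` of degree `≤ 1`
and `g` of degree `3`. -/
theorem result (k K : Type*) [Field k] [Field K] [Algebra k K]
    (hK : FunFld.IsFunctionField k K) (hg : FunFld.genus k K = 1) (P₀ : FunFld.Place k K) (hP : P₀.deg = 1) :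
    ∃ x y : K, x ∈ FunFld.L (Finsupp.single P₀ 2) ∧ y ∈ FunFld.L (Finsupp.single P₀ 3) ∧
      P₀.ord x = -2 ∧ P₀.ord y = -3 ∧
      IntermediateField.adjoin k ({x, y} : Set K) = ⊤ ∧
      ∃ f g : Polynomial k, f.natDegree ≤ 1 ∧ g.natDegree = 3 ∧
        y ^ 2 + Polynomial.aeval x f * y + Polynomial.aeval x g = 0 := by
  have hell : ∀ n : ℤ, 1 ≤ n → (FunFld.ell (Finsupp.single P₀ n) : ℤ) = n := fun n hn => by
    rw [Groth.Agent.H23FunFld.ell_of_deg_large hK
      (by rw [Groth.Agent.H23FunFld.deg_single, hP, hg]; omega),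
      Groth.Agent.H23FunFld.deg_single, hP, hg]
    omega
  have hex : ∀ n : ℤ, 2 ≤ n → ∃ z : K, z ≠ 0 ∧ z ∈ FunFld.L (Finsupp.single P₀ n) ∧
      P₀.ord z = -n := fun n hn => Groth.Agent.H23Curve.exists_ord_of_ne hK fun h => by
    have h1 := hell n (by omega)
    have h2 := hell (n - 1) (by omega)
    unfold FunFld.ell at h1 h2
    rw [h, h2] at h1
    omega
  obtain ⟨x, hx0, hx, hxo⟩ := hex 2 le_rfl
  obtain ⟨y, hy0, hy, hyo⟩ := hex 3 (by norm_num)
  -- `L(nP₀)` is spanned by one new element at each step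
  have step : ∀ (n : ℤ) (b : K), 2 ≤ n → b ≠ 0 → b ∈ FunFld.L (Finsupp.single P₀ n) →
      P₀.ord b = -n → ∀ z ∈ FunFld.L (Finsupp.single P₀ n), ∃ c : k,
        z - c • b ∈ FunFld.L (Finsupp.single P₀ (n - 1)) := by
    intro n b hn hb0 hb hbo z hz
    have := Groth.Agent.H23FunFld.finiteDimensional_L hK (Finsupp.single P₀ n)
    have hle : FunFld.L (Finsupp.single P₀ (n - 1)) ⊔ Submodule.span k {b} ≤
        FunFld.L (Finsupp.single P₀ n) := sup_le (Groth.Agent.H23FunFld.L_mono
          (Finsupp.single_mono (by omega))) (Submodule.span_le.2 (by simpa using hb))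
    have hlt : FunFld.L (Finsupp.single P₀ (n - 1)) <
        FunFld.L (Finsupp.single P₀ (n - 1)) ⊔ Submodule.span k {b} := by
      refine SetLike.lt_iff_le_and_exists.2 ⟨le_sup_left, b,
        Submodule.mem_sup_right (Submodule.mem_span_singleton_self b), fun h => ?_⟩
      have := (Groth.Agent.H23FunFld.val_le_exp_iff P₀ hb0).1 (h P₀)
      rw [Finsupp.single_eq_same] at this
      omega
    have := Submodule.finiteDimensional_of_le hle
    have h1 := Submodule.finrank_lt_finrank_of_lt hlt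
    have h2 := hell n (by omega)
    have h3 := hell (n - 1) (by omega)
    unfold FunFld.ell at h2 h3
    rw [← Submodule.eq_of_le_of_finrank_le hle (by omega)] at hz
    obtain ⟨u, hu, v, hv, rfl⟩ := Submodule.mem_sup.1 hz
    obtain ⟨c, rfl⟩ := Submodule.mem_span_singleton.1 hv
    exact ⟨c, by simpa using hu⟩
  have hmul := fun {a b : FunFld.Divisor k K} {u v : K} (hu : u ∈ FunFld.L a)
    (hv : v ∈ FunFld.L b) => Groth.Agent.H23FunFld.mul_mem_L hu hv
  have hyy : y * y ∈ FunFld.L (Finsupp.single P₀ (6 : ℤ)) := by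
    have := hmul hy hy; rwa [← Finsupp.single_add] at this
  have hxx : x * x ∈ FunFld.L (Finsupp.single P₀ (4 : ℤ)) := by
    have := hmul hx hx; rwa [← Finsupp.single_add] at this
  have hxy : x * y ∈ FunFld.L (Finsupp.single P₀ (5 : ℤ)) := by
    have := hmul hx hy; rwa [← Finsupp.single_add] at this
  have hxxx : x * x * x ∈ FunFld.L (Finsupp.single P₀ (6 : ℤ)) := by
    have := hmul hxx hx; rwa [← Finsupp.single_add] at this
  have ho := fun {u v : K} (hu : u ≠ 0) (hv : v ≠ 0) => Groth.Agent.H23FunFld.ord_mul P₀ hu hv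
  obtain ⟨c6, h6⟩ := step 6 (x * x * x) (by norm_num) (by simp [hx0]) hxxx
    (by rw [ho (mul_ne_zero hx0 hx0) hx0, ho hx0 hx0, hxo]; norm_num) _ hyy
  obtain ⟨c5, h5⟩ := step 5 (x * y) (by norm_num) (by simp [hx0, hy0]) hxy
    (by rw [ho hx0 hy0, hxo, hyo]; norm_num) _ h6
  obtain ⟨c4, h4⟩ := step 4 (x * x) (by norm_num) (by simp [hx0]) hxx
    (by rw [ho hx0 hx0, hxo]; norm_num) _ h5
  obtain ⟨c3, h3⟩ := step 3 y (by norm_num) hy0 hy hyo _ h4
  obtain ⟨c2, h2⟩ := step 2 x le_rfl hx0 hx hxo _ h3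
  obtain ⟨c1, h1⟩ : ∃ c : k, algebraMap k K c =
      y * y - c6 • (x * x * x) - c5 • (x * y) - c4 • (x * x) - c3 • y - c2 • x := by
    by_contra hc
    obtain ⟨Q, hQ⟩ := Groth.Agent.H23FunFld.exists_pole hK
      (x := y * y - c6 • (x * x * x) - c5 • (x * y) - c4 • (x * x) - c3 • y - c2 • x) hc
    have hne : y * y - c6 • (x * x * x) - c5 • (x * y) - c4 • (x * x) - c3 • y - c2 • x ≠ 0 :=
      fun h => hc ⟨0, by rw [map_zero, h]⟩
    have hm := (Groth.Agent.H23FunFld.val_le_exp_iff Q hne).1 (h2 Q)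
    have hQP : Q = P₀ := by
      by_contra hn
      rw [Finsupp.single_eq_of_ne hn] at hm
      omega
    subst hQP
    rw [Finsupp.single_eq_same] at hm
    have hall : ∀ R, R ≠ Q → 0 ≤ R.ord
        (y * y - c6 • (x * x * x) - c5 • (x * y) - c4 • (x * x) - c3 • y - c2 • x) := fun R hR => by
      have := (Groth.Agent.H23FunFld.val_le_exp_iff R hne).1 (h2 R)
      rw [Finsupp.single_eq_of_ne hR] at this
      omega
    have := (Groth.Agent.H23FunFld.genus_zero_of_adjoin_top hK
      (Groth.Agent.H23FunFld.adjoin_eq_top_of_simple_pole hK hP (by omega) hall)).1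
    omega
  have hc6 : c6 ≠ 0 := by
    rintro rfl
    rw [zero_smul, sub_zero] at h6
    have := (Groth.Agent.H23FunFld.val_le_exp_iff P₀ (mul_ne_zero hy0 hy0)).1 (h6 P₀)
    rw [ho hy0 hy0, hyo, Finsupp.single_eq_same] at this
    omega
  have htop : IntermediateField.adjoin k ({x, y} : Set K) = ⊤ := by
    have hdeg : ∀ z : K, z ≠ 0 → ∀ n : ℕ, 1 ≤ n → z ∈ FunFld.L (Finsupp.single P₀ (n : ℤ)) →
        P₀.ord z = -(n : ℤ) →
        Module.finrank (IntermediateField.adjoin k ({z} : Set K)) K = n := by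
      intro z hz0 n hn hz hzo
      have htr := Groth.Agent.H23FunFld.transcendental_of_notMem hK (x := z) fun ⟨c, hc⟩ => by
        rw [← hc, Groth.Agent.H23FunFld.ord_const] at hzo; omega
      have he : Groth.Agent.H23FunFld.poleDiv (k := k) z = Finsupp.single P₀ (n : ℤ) := by
        ext Q
        rw [Groth.Agent.H23FunFld.poleDiv_apply hK]
        rcases eq_or_ne Q P₀ with rfl | hQ
        · rw [Finsupp.single_eq_same, hzo]; omega
        · rw [Finsupp.single_eq_of_ne hQ]
          have := (Groth.Agent.H23FunFld.val_le_exp_iff Q hz0).1 (hz Q)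
          rw [Finsupp.single_eq_of_ne hQ] at this
          omega
      have := Groth.Agent.H23FunFld.deg_poleDiv hK htr
      rw [he, Groth.Agent.H23FunFld.deg_single, hP] at this
      omega
    let E := IntermediateField.adjoin k ({x, y} : Set K)
    have hdvd : ∀ z ∈ ({x, y} : Set K), ∀ n : ℕ,
        Module.finrank (IntermediateField.adjoin k ({z} : Set K)) K = n →
        Module.finrank E K ∣ n := by
      intro z hz n hzn
      have hle : IntermediateField.adjoin k ({z} : Set K) ≤ E :=
        IntermediateField.adjoin.mono k _ _ (Set.singleton_subset_iff.2 hz)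
      let := (IntermediateField.inclusion hle).toRingHom.toAlgebra
      have : IsScalarTower (IntermediateField.adjoin k ({z} : Set K)) E K :=
        IsScalarTower.of_algebraMap_eq fun _ => rfl
      rw [← hzn, ← Module.finrank_mul_finrank (IntermediateField.adjoin k ({z} : Set K)) E K]
      exact dvd_mul_left _ _
    have h2' := hdvd x (by simp) 2 (hdeg x hx0 2 (by norm_num) (by simpa using hx) (by simpa using hxo))
    have h3' := hdvd y (by simp) 3 (hdeg y hy0 3 (by norm_num) (by simpa using hy) (by simpa using hyo))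
    exact IntermediateField.finrank_eq_one_iff_eq_top.1 (Nat.dvd_one.1 (Nat.dvd_gcd h2' h3'))
  refine ⟨x, y, hx, hy, hxo, hyo, htop,
    -(Polynomial.C c5 * Polynomial.X + Polynomial.C c3),
    -(Polynomial.C c6 * Polynomial.X ^ 3 + Polynomial.C c4 * Polynomial.X ^ 2 +
      Polynomial.C c2 * Polynomial.X + Polynomial.C c1), ?_, ?_, ?_⟩
  · rw [Polynomial.natDegree_neg]
    compute_degree
  · rw [Polynomial.natDegree_neg]
    compute_degree!
  · simp only [map_neg, map_add, map_mul, map_pow, Polynomial.aeval_C, Polynomial.aeval_X]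
    rw [h1]
    simp only [Algebra.smul_def]
    ring

end Groth.Agent.S10998
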