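import Groth.Statements.S10999
import Groth.Agent.H23Curve.Basic
import Groth.Agent.S10996

set_option autoImplicit false
open FunFld

namespace Groth.Agent.S10999

/-- In a genus-one function field with a place `P₀` of degree one, `P ↦ P - P₀` is a bijection from the
places of degree one onto the divisor classes of degree zero. The geometric description of the group
law is not stated. -/
theorem result (k K : Type*) [Field k] [Field K] [Algebra k K]
    (hK : FunFld.IsFunctionField k K) (hg : FunFld.genus k K = 1) (P₀ : FunFld.Place k K) (hP : P₀.deg = 1)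
    (D : FunFld.Divisor k K) (hD : D.deg = 0) :
    ∃! P : FunFld.Place k K, P.deg = 1 ∧
      ∃ x : K, x ≠ 0 ∧ D = Finsupp.single P 1 - Finsupp.single P₀ 1 + FunFld.div k x := by
  classical
  have h1 := Groth.Agent.H23FunFld.ell_of_deg_large hK (D := D + Finsupp.single P₀ 1)
    (by rw [Groth.Agent.H23FunFld.deg_add, Groth.Agent.H23FunFld.deg_single, hD, hP]; omega)
  rw [Groth.Agent.H23FunFld.deg_add, Groth.Agent.H23FunFld.deg_single, hD, hP, hg] at h1
  obtain ⟨x, hx, hx'⟩ := Groth.Agent.H23FunFld.exists_effective hK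
    (D := D + Finsupp.single P₀ 1) (by omega)
  obtain ⟨P, hP1, hPE⟩ := Groth.Agent.H23Curve.eq_single_of_deg_one hK hx' (by
    rw [Groth.Agent.H23FunFld.deg_add, Groth.Agent.H23FunFld.deg_add,
      Groth.Agent.H23FunFld.deg_div hK, Groth.Agent.H23FunFld.deg_single, hD, hP]; simp)
  refine ⟨P, ⟨hP1, x⁻¹, inv_ne_zero hx, ?_⟩, fun P' hP' => ?_⟩
  · rw [Groth.Agent.H23FunFld.div_inv hK, ← hPE]; abel
  · obtain ⟨hP1', y, hy, hDy⟩ := hP'
    refine Groth.Agent.S10996.result k K hK (by omega) P' P hP1' hP1 (x⁻¹ * y⁻¹)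
      (mul_ne_zero (inv_ne_zero hx) (inv_ne_zero hy)) ?_
    rw [Groth.Agent.H23FunFld.div_mul hK (inv_ne_zero hx) (inv_ne_zero hy),
      Groth.Agent.H23FunFld.div_inv hK, Groth.Agent.H23FunFld.div_inv hK, ← hPE, hDy]
    abel

end Groth.Agent.S10999
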