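import Groth.Statements.S11004
import Mathlib
import Groth.Agent.H23Geom.Unram
import Groth.Agent.H23Geom.Criteria
import Groth.Agent.H23FunFld.Degree

set_option autoImplicit false
universe u v
open FunFld

namespace Groth.Agent.S11004

/-- A geometric function field of one variable has infinitely many places with residue field separable
over `k`. -/
theorem result (k : Type u) (K : Type v) [Field k] [Field K] [Algebra k K]
    (hK : FunFld.IsFunctionField k K) (hg : FunFld.IsGeometric k K) :
    {P : FunFld.Place k K | Algebra.IsSeparable k (IsLocalRing.ResidueField P.O)}.Infinite := by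
  classical
  obtain ⟨x, hx, hsep⟩ := Groth.Agent.H23Geom.exists_separating hK hg
  haveI := Groth.Agent.H23FunFld.finiteDimensional_adjoin hK hx
  set E := IntermediateField.adjoin k ({x} : Set K)
  let xE : E := ⟨x, IntermediateField.mem_adjoin_simple_self k x⟩
  obtain ⟨hE, -⟩ := Groth.Agent.H23Geom.isGeometric_of_le hK hg E ⟨x, xE.2, hx⟩
  obtain ⟨S, hS, hbad⟩ := Groth.Agent.H23Geom.exists_bad (K' := K) hE
  rcases finite_or_infinite k with hk | hk
  · intro hfin
    have hall : ∀ P : FunFld.Place k K, Algebra.IsSeparable k (IsLocalRing.ResidueField P.O) :=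
      fun P => by
        haveI : @Module.Finite k (IsLocalRing.ResidueField P.O) _ _ Algebra.toModule :=
          Groth.Agent.H23FunFld.finiteDimensional_residueField hK P
        haveI : PerfectField k := PerfectField.ofFinite
        haveI : Algebra.IsAlgebraic k (IsLocalRing.ResidueField P.O) := Algebra.IsAlgebraic.of_finite _ _
        exact Algebra.IsAlgebraic.isSeparable_of_perfectField
    haveI : Finite (FunFld.Place k K) :=
      Set.finite_univ_iff.1 (hfin.subset fun P _ => hall P)
    haveI := Fintype.ofFinite (FunFld.Place k K)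
    choose t ht0 ht using fun P : FunFld.Place k K => Groth.Agent.H23FunFld.exists_val_eq P (-1)
    obtain ⟨a, ha⟩ := Groth.Agent.H23FunFld.approximation Finset.univ t fun _ => -2
    have hord : ∀ P : FunFld.Place k K, P.ord a = 1 := fun P => by
      have h1 : P.1 (a - t P) < P.1 (t P) := by
        rw [ht]; exact (ha P (Finset.mem_univ P)).trans_lt (WithZero.exp_lt_exp.2 (by omega))
      rw [FunFld.Place.ord, Valuation.map_eq_of_sub_lt P.1 h1, ht, WithZero.log_exp]
      ring
    obtain ⟨P₀⟩ := Groth.Agent.H23FunFld.nonempty_place hK
    have hd := Groth.Agent.H23FunFld.deg_div hK a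
    rw [FunFld.Divisor.deg, Finsupp.sum_fintype _ _ (by simp)] at hd
    have hpos : 0 < ∑ P : FunFld.Place k K, FunFld.div k a P * (P.deg : ℤ) := by
      refine Finset.sum_pos (fun P _ => ?_) ⟨P₀, Finset.mem_univ _⟩
      rw [Groth.Agent.H23FunFld.div_apply hK, hord, one_mul]
      exact_mod_cast Groth.Agent.H23FunFld.deg_pos hK P
    omega
  · have hxE : Transcendental k xE := fun h => hx h.algebraMap
    have hc : ∀ c : k, ∃ P : FunFld.Place k E,
        0 < P.ord (xE - algebraMap k E c) ∧ P.deg = 1 := by
      intro c
      set z := xE - algebraMap k E c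
      have hz : Transcendental k z := fun h => hxE (by simpa [z] using h.add (isAlgebraic_algebraMap c))
      have hzE : IntermediateField.adjoin k ({z} : Set E) = ⊤ := by
        have hxmem : xE ∈ IntermediateField.adjoin k ({z} : Set E) := by
          have h1 := add_mem (IntermediateField.mem_adjoin_simple_self k z)
            ((IntermediateField.adjoin k ({z} : Set E)).algebraMap_mem c)
          rwa [sub_add_cancel] at h1
        refine eq_top_iff.2 fun w _ => ?_
        obtain ⟨r, s, hw⟩ := (IntermediateField.mem_adjoin_simple_iff k (w : K)).1 w.2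
        have hw' : w = Polynomial.aeval xE r / Polynomial.aeval xE s := by
          refine Subtype.ext (hw.trans ?_)
          push_cast
          rw [Polynomial.aeval_subalgebra_coe r E.toSubalgebra xE,
            Polynomial.aeval_subalgebra_coe s E.toSubalgebra xE]
        rw [hw']
        refine div_mem ?_ ?_ <;>
        exact IntermediateField.algebra_adjoin_le_adjoin k _
          (Algebra.adjoin_mono (R := k) (Set.singleton_subset_iff.2 hxmem)
            (Polynomial.aeval_mem_adjoin_singleton k xE)) |> fun h => by
              rwa [IntermediateField.adjoin_self] at h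
      obtain ⟨P, hP⟩ := Groth.Agent.H23FunFld.exists_place_lt_one hE hz
      have hz0 : z ≠ 0 := fun h => hz (h ▸ isAlgebraic_zero)
      have hord := (Groth.Agent.H23FunFld.val_lt_one_iff P hz0).1 hP
      refine ⟨P, hord, ?_⟩
      have h1 := Groth.Agent.H23FunFld.sum_ord_mul_deg_le hE hz {P}
      rw [Finset.sum_singleton, hzE, IntermediateField.finrank_top] at h1
      have h2 := Groth.Agent.H23FunFld.deg_pos hE P
      have h3 := h1 (fun R hR => by rw [Finset.mem_singleton.1 hR]; exact hord)
      push_cast at h3
      nlinarith
    choose P hP hPd using hc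
    have hinj : Function.Injective P := by
      intro c c' h
      by_contra hne
      have h1 := hP c
      have h2 := hP c'
      rw [← h] at h2
      have hne1 : ∀ u : k, xE - algebraMap k E u ≠ 0 := fun u hu => hxE (by
        rw [sub_eq_zero.1 hu]; exact isAlgebraic_algebraMap u)
      rw [← Groth.Agent.H23FunFld.val_lt_one_iff (P c) (hne1 _)] at h1 h2
      have h3 := (P c).1.map_sub (xE - algebraMap k E c') (xE - algebraMap k E c)
      rw [sub_sub_sub_cancel_left, ← map_sub,
        Groth.Agent.H23FunFld.val_const (P c) (sub_ne_zero.2 hne)] at h3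
      exact absurd (h3.trans_lt (max_lt h2 h1)) (lt_irrefl _)
    choose Q hQ using fun c => Groth.Agent.H23Ext.exists_above (K' := K) hE (P c)
    have hQi : Function.Injective Q := fun c c' h =>
      hinj (Groth.Agent.H23Ext.isOver_unique (hQ c) (h ▸ hQ c'))
    refine ((Set.infinite_range_of_injective hQi).sdiff hS).mono ?_
    rintro _ ⟨⟨c, rfl⟩, hcS⟩
    refine (hbad _ hcS _ (hQ c)).2 ?_
    have h1 : Module.finrank k (IsLocalRing.ResidueField (P c).O) = 1 := hPd c
    exact ⟨fun w => by
      obtain ⟨u, rfl⟩ : ∃ u : k, algebraMap k (IsLocalRing.ResidueField (P c).O) u = w := by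
        exact (Subalgebra.bot_eq_top_iff_finrank_eq_one.2 h1).ge (Algebra.mem_top : w ∈ ⊤)
      exact isSeparable_algebraMap u⟩

end Groth.Agent.S11004
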