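import Groth.Statements.S11007
import Mathlib
import Groth.Agent.H23Geom.Separating

set_option autoImplicit false
universe u v
open FunFld

namespace Groth.Agent.S11007

/-- In a geometric function field of one variable of characteristic `p > 0`, `kK^p` is the only
intermediate field over which `K` is purely inseparable of degree `p`. The companion assertion about
the natural map on Kähler differentials is not stated. -/
theorem result (k : Type u) (K : Type v) [Field k] [Field K] [Algebra k K] (p : ℕ) [Fact p.Prime] [CharP K p]
    (hK : FunFld.IsFunctionField k K) (hg : FunFld.IsGeometric k K) (K₀ : IntermediateField k K) :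
    (IsPurelyInseparable K₀ K ∧ Module.finrank K₀ K = p) ↔ K₀ = IntermediateField.adjoin k (Set.range fun y : K => y ^ p) := by
  obtain ⟨x, -, hsep⟩ := Groth.Agent.H23Geom.exists_separating hK hg
  obtain ⟨hfin, -⟩ := Groth.Agent.H23Geom.finrank_M p hK x
  refine ⟨fun ⟨hpi, hd⟩ => ?_, fun h => h ▸ ⟨Groth.Agent.H23Geom.isPurelyInseparable_M p, hfin⟩⟩
  haveI : FiniteDimensional K₀ K := FiniteDimensional.of_finrank_pos (by rw [hd]; exact (Fact.out : p.Prime).pos)
  have hle : IntermediateField.adjoin k (Set.range fun y : K => y ^ p) ≤ K₀ := by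
    rw [IntermediateField.adjoin_le_iff]
    rintro _ ⟨y, rfl⟩
    haveI : CharP K₀ p := (algebraMap K₀ K).charP (algebraMap K₀ K).injective p
    obtain ⟨n, c, hc⟩ := IsPurelyInseparable.minpoly_eq_X_pow_sub_C K₀ p y
    have hle : p ^ n ≤ p := by
      have h1 := minpoly.natDegree_le (A := K₀) y
      rw [hc, Polynomial.natDegree_X_pow_sub_C, hd] at h1
      exact h1
    have hn : n ≤ 1 := by
      by_contra hn
      have : p ^ 2 ≤ p := le_trans (Nat.pow_le_pow_right (Fact.out : p.Prime).pos (by omega)) hle
      have := (Fact.out : p.Prime).two_le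
      nlinarith
    have hroot := minpoly.aeval K₀ y
    rw [hc, map_sub, map_pow, Polynomial.aeval_X, Polynomial.aeval_C, sub_eq_zero] at hroot
    rcases Nat.le_one_iff_eq_zero_or_eq_one.1 hn with rfl | rfl
    · rw [pow_zero, pow_one] at hroot
      exact pow_mem (hroot ▸ c.2 : y ∈ K₀) p
    · rw [pow_one] at hroot
      show y ^ p ∈ K₀
      rw [hroot]
      exact c.2
  haveI : FiniteDimensional (IntermediateField.adjoin k (Set.range fun y : K => y ^ p)) K :=
    FiniteDimensional.of_finrank_pos (by rw [hfin]; exact (Fact.out : p.Prime).pos)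
  exact (IntermediateField.eq_of_le_of_finrank_eq' hle (hfin.trans hd.symm)).symm

end Groth.Agent.S11007
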