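import Groth.Statements.S11008
import Groth.Agent.H23Proj.AbsIrred
import Groth.Agent.H23FunFld.Basic

set_option autoImplicit false
universe u v
open FunFld

namespace Groth.Agent.S11008

/-- `K/k` is a geometric function field of one variable iff `K = k(x, y)` where the relation ideal of
`(x, y)` in `k[X, Y]` is generated by an absolutely irreducible polynomial `f`. -/
theorem result (k : Type u) (K : Type v) [Field k] [Field K] [Algebra k K] :
    (FunFld.IsFunctionField k K ∧ FunFld.IsGeometric k K) ↔
      ∃ (x y : K) (f : MvPolynomial (Fin 2) k),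
        IntermediateField.adjoin k ({x, y} : Set K) = ⊤ ∧
        (∀ (k' : Type u) [Field k'] [Algebra k k'], FiniteDimensional k k' →
          Irreducible (MvPolynomial.map (algebraMap k k') f)) ∧
        RingHom.ker (MvPolynomial.aeval ![x, y] : MvPolynomial (Fin 2) k →ₐ[k] K) = Ideal.span {f} := by
  classical
  constructor
  · rintro ⟨hK, hg⟩
    obtain ⟨x, hx, hsep⟩ := H23Geom.exists_separating hK hg
    haveI := hsep
    haveI := H23FunFld.finiteDimensional_adjoin hK hx
    obtain ⟨y, hy⟩ := Field.exists_primitive_element (IntermediateField.adjoin k ({x} : Set K)) K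
    have hxy : IntermediateField.adjoin k ({x, y} : Set K) = ⊤ := by
      rw [← Set.singleton_union, ← IntermediateField.adjoin_adjoin_left, hy, IntermediateField.restrictScalars_top]
    obtain ⟨f, hf, hfxy⟩ := H23Proj.exists_relation hK hxy
    have hker : RingHom.ker (MvPolynomial.aeval ![x, y] : MvPolynomial (Fin 2) k →ₐ[k] K) = Ideal.span {f} := by
      ext g
      rw [RingHom.mem_ker, Ideal.mem_span_singleton]
      exact ⟨fun h => H23Proj.ker_aeval hK hxy hf hfxy g h, fun ⟨c, hc⟩ => by rw [hc, map_mul, hfxy, zero_mul]⟩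
    exact ⟨x, y, f, hxy, fun k' _ _ h => H23Proj.irreducible_map_of_isField hf.ne_zero hker k' (hg k' h), hker⟩
  · rintro ⟨x, y, f, hxy, hirr, hker⟩
    have hirr₀ := hirr k inferInstance
    rw [Algebra.algebraMap_self, MvPolynomial.map_id] at hirr₀
    have hrange : IntermediateField.adjoin k (Set.range ![x, y]) = ⊤ := by
      rw [Matrix.range_cons, Matrix.range_cons, Matrix.range_empty, Set.union_empty, Set.singleton_union, hxy]
    have hg : FunFld.IsGeometric k K := fun k' _ _ h =>
      H23Proj.isField_of_irreducible hrange hker k' (hirr k' h)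
    refine ⟨⟨?_, H23Proj.mem_const_of_isGeometric hg⟩, hg⟩
    have hmem : ∀ i, IsAlgebraic k (![x, y] i) → ∃ p : Polynomial k, p ≠ 0 ∧ f ∣ Polynomial.aeval (MvPolynomial.X i) p := by
      rintro i ⟨p, hp, hp0⟩
      refine ⟨p, hp, ?_⟩
      rw [← Ideal.mem_span_singleton, ← hker, RingHom.mem_ker, ← Polynomial.aeval_algHom_apply, MvPolynomial.aeval_X]
      exact hp0
    have htr : Transcendental k x ∨ Transcendental k y := by
      by_contra hno
      simp only [Transcendental, not_or, not_not] at hno
      obtain ⟨p, hp, hfp⟩ := hmem 0 hno.1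
      obtain ⟨q, hq, hfq⟩ := hmem 1 hno.2
      have hdeg : ∀ (i j : Fin 2) (r : Polynomial k), i ≠ j → r ≠ 0 →
          f ∣ Polynomial.aeval (MvPolynomial.X i) r → f.degreeOf j = 0 := by
        intro i j r hij hr hd
        obtain ⟨g, hg'⟩ := hd
        have hr' : Polynomial.aeval (MvPolynomial.X i : MvPolynomial (Fin 2) k) r ≠ 0 := by
          intro h
          refine hr ((injective_iff_map_eq_zero _).1 (?_ : Function.Injective (Polynomial.aeval (MvPolynomial.X i : MvPolynomial (Fin 2) k))) r h)
          exact transcendental_iff_injective.1 (MvPolynomial.transcendental_X k i)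
        have hz : (Polynomial.aeval (MvPolynomial.X i : MvPolynomial (Fin 2) k) r).degreeOf j = 0 := by
          rw [Polynomial.aeval_eq_sum_range, ← Nat.le_zero]
          refine (MvPolynomial.degreeOf_sum_le _ _ _).trans (Finset.sup_le fun n _ => ?_)
          rw [Algebra.smul_def, MvPolynomial.algebraMap_eq]
          refine (MvPolynomial.degreeOf_mul_le _ _ _).trans ?_
          have h1 := MvPolynomial.degreeOf_pow_le j (MvPolynomial.X i : MvPolynomial (Fin 2) k) n
          rw [MvPolynomial.degreeOf_X_of_ne hij.symm, mul_zero] at h1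
          rw [MvPolynomial.degreeOf_C]
          omega
        rw [hg', MvPolynomial.degreeOf_mul_eq hirr₀.ne_zero (fun h => hr' (by rw [hg', h, mul_zero]))] at hz
        omega
      obtain ⟨c, hc⟩ : ∃ c, f = MvPolynomial.C c := ⟨_, MvPolynomial.totalDegree_eq_zero_iff_eq_C.1 (by
        rw [MvPolynomial.totalDegree_eq_zero_iff]
        intro m hm i
        fin_cases i
        · exact Nat.le_zero.1 ((MvPolynomial.monomial_le_degreeOf _ hm).trans_eq (hdeg 1 0 q (by decide) hq hfq))
        · exact Nat.le_zero.1 ((MvPolynomial.monomial_le_degreeOf _ hm).trans_eq (hdeg 0 1 p (by decide) hp hfp)))⟩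
      refine hirr₀.not_isUnit (hc ▸ (IsUnit.mk0 c fun h => hirr₀.ne_zero (by rw [hc, h, map_zero])).map MvPolynomial.C)
    rcases htr with hx | hy
    · exact ⟨x, hx, H23Proj.finite_over_of_relation hirr₀.ne_zero hker hxy hx⟩
    · let e := MvPolynomial.renameEquiv k (Equiv.swap (0 : Fin 2) 1)
      have hcomp : ∀ g, MvPolynomial.aeval ![y, x] (e g) = MvPolynomial.aeval ![x, y] g := fun g => by
        simp only [e, MvPolynomial.renameEquiv_apply, MvPolynomial.aeval_rename]
        congr 2
        funext i; fin_cases i <;> simp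
      have hker' : RingHom.ker (MvPolynomial.aeval ![y, x] : MvPolynomial (Fin 2) k →ₐ[k] K) = Ideal.span {e f} := by
        ext g
        obtain ⟨g, rfl⟩ := e.surjective g
        rw [RingHom.mem_ker, hcomp, ← RingHom.mem_ker, hker, Ideal.mem_span_singleton, Ideal.mem_span_singleton]
        exact (map_dvd_iff e).symm
      exact ⟨y, hy, H23Proj.finite_over_of_relation (by simpa using hirr₀.ne_zero) hker'
        (by rw [Set.pair_comm, hxy]) hy⟩

end Groth.Agent.S11008
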