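import Groth.Statements.S1101
import Groth.Agent.H16Derived.TorTest.FibreGE
import Groth.Agent.H16Derived.BaseChange.RelFlatPull
import Groth.Agent.H16Derived.RelPCOpen2

set_option autoImplicit false
universe u
open CategoryTheory CategoryTheory.Limits AlgebraicGeometry Opposite
attribute [local instance] HasDerivedCategory.standard
open Perf

namespace Groth.Agent.S1101

set_option backward.isDefEq.respectTransparency false
open CategoryTheory CategoryTheory.Limits AlgebraicGeometry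
open Groth.Agent.H16Derived Groth.Agent.H16Derived.KFlat Groth.Agent.H16Derived.KFlat.Stalk
open Groth.Agent.H16Derived.TorTest Groth.Agent.H4DR.TorAmp Groth.Agent.H4DR

attribute [local instance] Groth.Agent.H06Mod.stalkAlgebra

/-- The stalk of a pullback vanishes in degree `i` with the extension of scalars of the stalk. -/
theorem exactAt_ext_of_pull {X Y : Scheme.{u}} (g : X ⟶ Y) (z : X) (K : CochainComplex Y.Modules ℤ) (i : ℤ)
    (h : ((DerSch.stalkFunctor X z).mapHomologicalComplex (ComplexShape.up ℤ) |>.obj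
      (((Scheme.Modules.pullback g).mapHomologicalComplex (ComplexShape.up ℤ)).obj K)).ExactAt i) :
    ((DTen.extCx (g.stalkMap z).hom).obj ((Sx (g.base z)).obj K)).ExactAt i := by
  rw [HomologicalComplex.exactAt_iff, ShortComplex.exact_iff_exact_map_forget₂] at h ⊢
  let e : DerSch.stalkFunctor Y (g.base z) ⋙ ModuleCat.extendScalars.{u, u, u} (g.stalkMap z).hom ⋙
      forget₂ (ModuleCat.{u} (X.presheaf.stalk z)) AddCommGrpCat.{u} ≅
      DerSch.stalkFunctor Y (g.base z) ⋙ MonoidalCategory.tensorLeft (pullRing g z) ⋙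
        forget₂ (ModuleCat.{u} (Y.presheaf.stalk (g.base z))) AddCommGrpCat.{u} :=
    NatIso.ofComponents (fun M => Iso.refl _) fun {M N} φ => by
      simp only [Iso.refl_hom, Category.id_comp, Category.comp_id]
      rfl
  exact ShortComplex.exact_of_iso ((K.sc i).mapNatIso (e ≪≫ pullStalkNatIso g z).symm) h

/-- Let f : X ⟶ S be flat and locally of finite presentation and E a pseudo-coherent object of D(O_X).
Assume restrictions to opens are exact and the derived pullbacks to the fibres X_s exist. Then E is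
S-perfect (locally of finite tor dimension over S in the flat-representative form) if and only if E
is locally bounded below on X and, for every s ∈ S, the derived pullback of E to the fibre X_s is
locally bounded below on X_s. -/
theorem result {X S : Scheme.{u}} (f : X ⟶ S) [Flat f] [LocallyOfFinitePresentation f]
    [∀ (Y : Scheme.{u}) (V : Y.Opens), PreservesFiniteLimits (Scheme.Modules.restrictFunctor V.ι)]
    [∀ s : S, DCoh.HasLpull (f.fiberι s)]
    (E : DCoh.D X) (hE : ∀ m : ℤ, DCoh.IsPseudoCoherentD m E) :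
    DCoh.LocHasFiniteRelTorDim f E ↔
      ((∀ x : X, ∃ (V : X.Opens) (a : ℤ), x ∈ V ∧ ((DCoh.restrictD V.ι).obj E).IsGE a) ∧
       ∀ (s : S) (y : ↥(f.fiber s)), ∃ (W : (f.fiber s).Opens) (a : ℤ), y ∈ W ∧
         ((DCoh.restrictD W.ι).obj ((DCoh.Lpull (f.fiberι s)).obj E)).IsGE a) := by
  let F := DerivedCategory.Q.objPreimage E
  let eF : DCoh.toD X F ≅ E := DerivedCategory.Q.objObjPreimageIso E
  constructor
  · intro hT
    refine ⟨fun x => ?_, fun s y => ?_⟩
    · obtain ⟨V, a, b, hx, h⟩ := hT x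
      obtain ⟨E', hv, -, ⟨e⟩⟩ := h F ⟨eF⟩
      haveI : E'.IsStrictlyGE a := (CochainComplex.isStrictlyGE_iff _ _).2 fun i hi => hv i (Or.inl hi)
      haveI : DerivedCategory.IsGE (DerivedCategory.Q.obj E') a := inferInstance
      exact ⟨V, a, hx, DerivedCategory.TStructure.t.isGE_of_iso
        (e ≪≫ ((rdQ V.ι).app F).symm ≪≫ (rd V.ι).mapIso eF) a⟩
    · obtain ⟨V, a, b, hy, h⟩ := BaseChange.locHasFiniteRelTorDim_lpull
        (g' := f.fiberι s) (f' := f.fiberToSpecResidueField s) (IsPullback.of_hasPullback f (S.fromSpecResidueField s)) hT y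
      let E₁ := (DCoh.Lpull (f.fiberι s)).obj E
      let G := DerivedCategory.Q.objPreimage E₁
      obtain ⟨E', hv, -, ⟨e⟩⟩ := h G ⟨DerivedCategory.Q.objObjPreimageIso E₁⟩
      haveI : E'.IsStrictlyGE a := (CochainComplex.isStrictlyGE_iff _ _).2 fun i hi => hv i (Or.inl hi)
      haveI : DerivedCategory.IsGE (DerivedCategory.Q.obj E') a := inferInstance
      exact ⟨V, a, hy, DerivedCategory.TStructure.t.isGE_of_iso
        (e ≪≫ ((rdQ V.ι).app G).symm ≪≫ (rd V.ι).mapIso (DerivedCategory.Q.objObjPreimageIso E₁)) a⟩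
  rintro ⟨hge, hfge⟩
  refine (locHasFiniteRelTorDim_iff f eF).2 ?_
  have key : ∀ (s : S) (z : f.fiber s), ∃ (V : X.Opens) (a b : ℤ), (f.fiberι s).base z ∈ V ∧
      ∀ x' ∈ V, DerSch.HasTorAmplitudeAt f a b F x' := by
    intro s z
    let x := (f.fiberι s).base z
    obtain ⟨V, a₁, hxV, hV⟩ := hge x
    obtain ⟨W, a₂, hzW, hW⟩ := hfge s z
    have hpc : ∀ m, DCoh.IsPseudoCoherentD m (DCoh.toD X F) := fun m => isPseudoCoherentD_of_iso eF.symm (hE m)
    obtain ⟨V₂, hxV₂, P, α, hP, hα⟩ := (isPseudoCoherentD_iff _ _).1 (hpc 0) x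
    obtain ⟨⟨p, q, hpq⟩, -⟩ := hP
    let N := V ⊓ V₂
    let a := min a₁ a₂
    let b := max q 0
    have hxN : x ∈ N := ⟨hxV, hxV₂⟩
    obtain ⟨j₁, hj₁⟩ : ∃ j : (N : Scheme.{u}) ⟶ (V : Scheme.{u}), j ≫ V.ι = N.ι :=
      ⟨X.homOfLE inf_le_left, X.homOfLE_ι inf_le_left⟩
    obtain ⟨j₂, hj₂⟩ : ∃ j : (N : Scheme.{u}) ⟶ (V₂ : Scheme.{u}), j ≫ V₂.ι = N.ι :=
      ⟨X.homOfLE inf_le_right, X.homOfLE_ι inf_le_right⟩
    haveI : IsOpenImmersion (j₁ ≫ V.ι) := by rw [hj₁]; infer_instance
    haveI : IsOpenImmersion j₁ := IsOpenImmersion.of_comp j₁ V.ι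
    haveI : IsOpenImmersion (j₂ ≫ V₂.ι) := by rw [hj₂]; infer_instance
    haveI : IsOpenImmersion j₂ := IsOpenImmersion.of_comp j₂ V₂.ι
    let FN := (DCoh.restrictCx N).obj F
    have hGE : (DCoh.toD (N : Scheme.{u}) FN).IsGE a := (DerivedCategory.isGE_iff _ _).2 fun k hk => by
      haveI : DerivedCategory.IsGE ((rd V.ι).obj E) a₁ := hV
      exact ((Scheme.Modules.restrictFunctor j₁).map_isZero
          (DerivedCategory.isZero_of_isGE ((rd V.ι).obj E) a₁ k (lt_of_lt_of_le hk (min_le_left _ _)))).of_iso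
        ((DerivedCategory.homologyFunctor _ k).mapIso (((rdQ N.ι).app F).symm ≪≫ (rd N.ι).mapIso eF ≪≫
          rdComp j₁ V.ι N.ι hj₁ _) ≪≫ homologyRdIso j₁ _ k)
    have hLE : (DCoh.toD (N : Scheme.{u}) FN).IsLE b := (DerivedCategory.isLE_iff _ _).2 fun k hk => by
      have hk0 : (0 : ℤ) < k := lt_of_le_of_lt (le_max_right q 0) hk
      have hk1 : q < k := lt_of_le_of_lt (le_max_left q 0) hk
      haveI := hα.1 k hk0
      have hPk : IsZero ((DerivedCategory.homologyFunctor _ k).obj (DerivedCategory.Q.obj P)) :=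
        ((HomologicalComplex.exactAt_iff_isZero_homology _ _).1 ((HomologicalComplex.exactAt_iff _ _).2
          (ShortComplex.exact_of_isZero_X₂ _ (hpq k (Or.inr hk1))))).of_iso
          ((DerivedCategory.homologyFunctorFactors _ k).app P)
      exact ((Scheme.Modules.restrictFunctor j₂).map_isZero
          (hPk.of_iso (asIso ((DerivedCategory.homologyFunctor _ k).map α)).symm)).of_iso
        ((DerivedCategory.homologyFunctor _ k).mapIso (((rdQ N.ι).app F).symm ≪≫
          rdComp j₂ V₂.ι N.ι hj₂ _) ≪≫ homologyRdIso j₂ _ k)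
    obtain ⟨K, hK, ⟨eK⟩⟩ := exists_kflat_rep E
    let ι := f.fiberι s
    let φ := (ι.stalkMap z).hom
    haveI := hasLBaseChange φ
    have hfib : Subsingleton (Dual.HD ((f.fiber s).presheaf.stalk z)
        ((DRing.LBaseChange φ).obj (DRing.toD ((Sx x).obj F))) (a - 1)) := by
      let PK := ((Scheme.Modules.pullback ι).mapHomologicalComplex (ComplexShape.up ℤ)).obj K
      have h1 : (((DCoh.restrictCx W).obj PK)).ExactAt (a - 1) := by
        rw [HomologicalComplex.exactAt_iff_isZero_homology]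
        haveI : DerivedCategory.IsGE ((rd W.ι).obj ((DCoh.Lpull ι).obj E)) a₂ := hW
        exact (DerivedCategory.isZero_of_isGE ((rd W.ι).obj ((DCoh.Lpull ι).obj E)) a₂ (a - 1)
            (by have := min_le_right a₁ a₂; omega)).of_iso
          (((DerivedCategory.homologyFunctorFactors _ (a - 1)).app _).symm ≪≫
            (DerivedCategory.homologyFunctor _ (a - 1)).mapIso (((rdQ W.ι).app PK).symm ≪≫
              (rd W.ι).mapIso ((lpullObjIso ι K hK).symm ≪≫ (DCoh.Lpull ι).mapIso eK)))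
      haveI : PreservesFiniteLimits (DerSch.stalkOver W.ι ⟨z, hzW⟩) := comp_preservesFiniteLimits _ _
      haveI : PreservesFiniteColimits (DerSch.stalkOver W.ι ⟨z, hzW⟩) := comp_preservesFiniteColimits _ _
      have h2 : ((DerSch.stalkFunctor (f.fiber s) z).mapHomologicalComplex (ComplexShape.up ℤ) |>.obj PK).ExactAt (a - 1) :=
        ((HomologicalComplex.exactAt_iff
            ((DerSch.stalkCxOver W.ι ⟨z, hzW⟩).obj ((DCoh.restrictCx W).obj PK)) (a - 1)).2
          (((HomologicalComplex.exactAt_iff _ _).1 h1).map (DerSch.stalkOver W.ι ⟨z, hzW⟩))).of_iso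
          (stalkRestrictIso W.ι PK ⟨z, hzW⟩)
      haveI := (subsingleton_HD_toD_iff _ (a - 1)).2 (exactAt_ext_of_pull ι z K (a - 1) h2)
      have hKx := (KFlat.Stalk.isKFlat_iff_stalk (E := K)).1 hK x
      let eKx : DRing.toD ((Sx x).obj F) ≅ DRing.toD ((Sx x).obj K) :=
        (DerSch.stalkFunctor X x).mapDerivedCategoryFactors.symm.app F ≪≫
          (DerSch.stalkFunctor X x).mapDerivedCategory.mapIso (eF ≪≫ eK.symm) ≪≫
          (DerSch.stalkFunctor X x).mapDerivedCategoryFactors.app K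
      exact (PCoh.hEquiv (a - 1) ((DRing.LBaseChange φ).mapIso eKx ≪≫ lbaseObj φ _
        ((KFlat.isKFlat_iff_homology _ _).2 hKx))).injective.subsingleton
    have hta := ta_at_of_lbase f N hGE hLE (hpc (a - 2)) x hxN φ ((f.fiberι s).stalkMap_surjective z)
      (Groth.Agent.H10Coh.FibreLift.ker_stalkMap_fiberι f s z) hfib
    haveI := hLE
    have htaN : DerSch.HasTorAmplitudeAt (N.ι ≫ f) a b FN ⟨x, hxN⟩ := (at_restrict N.ι f a b F ⟨x, hxN⟩).2 hta
    obtain ⟨A, hxA, -, hA⟩ := exists_nhd_amp (N.ι ≫ f) hGE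
      (isPseudoCoherentD_of_iso ((rdQ N.ι).app F) (isPseudoCoherentD_rd N.ι (hpc (a - 1)))) ⟨x, hxN⟩ htaN
    refine ⟨N.ι ''ᵁ A, a, b, ⟨⟨x, hxN⟩, hxA, rfl⟩, ?_⟩
    rintro _ ⟨w, hw, rfl⟩
    exact (at_restrict N.ι f a b F w).1 ((at_restrict A.ι (N.ι ≫ f) a b FN ⟨w, hw⟩).1 (hA ⟨w, hw⟩))
  intro x
  obtain ⟨V, a, b, hx, h⟩ := key (f x) (f.asFiber x)
  rw [f.fiberι_asFiber] at hx
  exact ⟨V, a, b, hx, h⟩

end Groth.Agent.S1101
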