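import Groth.Statements.S11015
import Groth.Agent.H23FunFld.Weil

set_option autoImplicit false
open FunFld

namespace Groth.Agent.S11015

/-- For `x ≠ 0`, multiplication by `x` identifies `L(D + (x))` with `L(D)`; in particular `L(D₁) ≅
L(D₂)` for linearly equivalent divisors. -/
theorem result (k K : Type*) [Field k] [Field K] [Algebra k K]
    (hK : FunFld.IsFunctionField k K) (D : FunFld.Divisor k K) (x y : K) (hx : x ≠ 0) :
    x * y ∈ FunFld.L D ↔ y ∈ FunFld.L (D + FunFld.div k x) := by
  rcases eq_or_ne y 0 with rfl | hy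
  · simp
  rw [H23FunFld.mem_L_iff_div hK (mul_ne_zero hx hy), H23FunFld.mem_L_iff_div hK hy,
    H23FunFld.div_mul hK hx hy, add_assoc]

end Groth.Agent.S11015
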