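import Groth.Statements.S11016
import Groth.Agent.H23FunFld.Weil

set_option autoImplicit false
open FunFld

namespace Groth.Agent.S11016

/-- `L(D) ≠ 0` iff there is an effective divisor linearly equivalent to `D`. -/
theorem result (k K : Type*) [Field k] [Field K] [Algebra k K]
    (hK : FunFld.IsFunctionField k K) (D : FunFld.Divisor k K) :
    FunFld.L D ≠ ⊥ ↔ ∃ x : K, x ≠ 0 ∧ 0 ≤ D + FunFld.div k x := by
  constructor
  · intro h
    obtain ⟨x, hx, hx0⟩ := Submodule.exists_mem_ne_zero_of_ne_bot h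
    exact ⟨x, hx0, (H23FunFld.mem_L_iff_div hK hx0).1 hx⟩
  · rintro ⟨x, hx0, hx⟩ hb
    exact hx0 ((Submodule.eq_bot_iff _).1 hb x ((H23FunFld.mem_L_iff_div hK hx0).2 hx))

end Groth.Agent.S11016
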