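import Groth.Statements.S11017
import Groth.Agent.H23FunFld.Weil

set_option autoImplicit false
open FunFld

namespace Groth.Agent.S11017

/-- For a Weil differential `ω` with divisor `C`, `ord_P [ω] ≥ e` iff `ω` kills every repartition
concentrated at `P` with `P`-component of order at least `-e`. -/
theorem result (k K : Type*) [Field k] [Field K] [Algebra k K] (ω : Module.Dual k (FunFld.adele k K)) (C : FunFld.Divisor k K) (hω : FunFld.IsDivOf ω C)
    (P : FunFld.Place k K) (e : ℤ) :
    e ≤ C P ↔ ∀ (a : FunFld.Place k K → K) (ha : a ∈ FunFld.adele k K),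
      (∀ Q, Q ≠ P → a Q = 0) → P.1 (a P) ≤ WithZero.exp e → ω ⟨a, ha⟩ = 0 := by
  constructor
  · intro he a ha hzero hP
    refine H23FunFld.mem_WD_iff.1 ((hω C).2 le_rfl) ⟨a, ha⟩ (Submodule.mem_sup_left fun Q => ?_)
    rcases eq_or_ne Q P with rfl | hQ
    · exact hP.trans (WithZero.exp_le_exp.2 he)
    · change Q.1 (a Q) ≤ _
      rw [hzero Q hQ]; simp
  · intro h
    classical
    set E : FunFld.Divisor k K := C + Finsupp.single P (max 0 (e - C P)) with hE
    have hEP : E P = max (C P) e := by
      rw [hE, Finsupp.add_apply, Finsupp.single_eq_same]; omega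
    have hEne : ∀ Q, Q ≠ P → E Q = C Q := fun Q hQ => by
      rw [hE, Finsupp.add_apply, Finsupp.single_eq_of_ne hQ, add_zero]
    have hmem : ω ∈ FunFld.WD E := by
      rw [H23FunFld.mem_WD_iff]
      intro a ha
      obtain ⟨b, hb, c, hc, hbc⟩ := Submodule.mem_sup.1 ha
      have hb' : b ∈ FunFld.adele k K := H23FunFld.AD_le_adele _ hb
      rcases le_or_gt e (C P) with hle | hlt
      · have : E = C := Finsupp.ext fun Q => by
          rcases eq_or_ne Q P with rfl | hQ
          · rw [hEP]; omega
          · exact hEne Q hQ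
        exact H23FunFld.mem_WD_iff.1 ((hω C).2 le_rfl) a (this ▸ ha)
      · let b₁ : FunFld.Place k K → K := Pi.single P (b P)
        have hb₁ : b₁ ∈ FunFld.adele k K := by
          change ∀ᶠ Q in Filter.cofinite, _
          rw [Filter.eventually_cofinite]
          refine (Set.finite_singleton P).subset fun Q hQ => ?_
          by_contra hn
          exact hQ (by simp [b₁, Pi.single_eq_of_ne hn])
        have h1 : ω ⟨b₁, hb₁⟩ = 0 := h b₁ hb₁ (fun Q hQ => Pi.single_eq_of_ne hQ _) (by
          simp only [b₁, Pi.single_eq_same]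
          exact (hb P).trans (WithZero.exp_le_exp.2 (by omega)))
        have h2 : ω (a - ⟨b₁, hb₁⟩) = 0 := by
          refine H23FunFld.mem_WD_iff.1 ((hω C).2 le_rfl) _ ?_
          rw [Submodule.mem_sup]
          refine ⟨b - b₁, fun Q => ?_, c, hc, ?_⟩
          · rcases eq_or_ne Q P with rfl | hQ
            · simp [b₁]
            · have := hb Q
              rw [hEne Q hQ] at this
              simpa [b₁, Pi.single_eq_of_ne hQ] using this
          · rw [AddSubgroupClass.coe_sub, ← hbc]
            simp only
            abel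
        rw [map_sub, h1, sub_zero] at h2
        exact h2
    have := (hω E).1 hmem P
    omega

end Groth.Agent.S11017
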