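import Groth.Statements.S11020
import Mathlib
import Groth.Agent.H23Geom.Unram

set_option autoImplicit false
open FunFld

namespace Groth.Agent.S11020

/-- In a finite separable extension `K'/K` of function fields of one variable, almost all places `Q` of
`K'` have `e(Q|P) = 1` over the place `P` of `K` below. (The published statement also gives
separability of almost all residue extensions `F_Q/F_P`; only the ramification part is stated here.) -/
theorem result (k K K' : Type*) [Field k] [Field K] [Field K'] [Algebra k K] [Algebra K K'] [Algebra k K']
    [IsScalarTower k K K'] [FiniteDimensional K K'] (hK : FunFld.IsFunctionField k K) [Algebra.IsSeparable K K'] :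
    {Q : FunFld.Place k K' | ¬ Function.Surjective (Q.1.comap (algebraMap K K'))}.Finite := by
  obtain ⟨S, hS, h⟩ := Groth.Agent.H23Geom.exists_bad (K' := K') hK
  refine hS.subset fun Q hQ => ?_
  by_contra hQS
  obtain ⟨P, hP⟩ := Groth.Agent.H23Ext.exists_below hK.1 Q
  refine hQ fun z => ?_
  obtain ⟨w, hw⟩ := P.2.2 z
  exact ⟨w, by rw [Valuation.comap_apply, (h Q hQS P hP).1 w, pow_one, hw]⟩

end Groth.Agent.S11020
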