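import Groth.Statements.S11021
import Groth.Agent.H23Ext.Galois

set_option autoImplicit false
open FunFld

namespace Groth.Agent.S11021

/-- For a place `Q` above `P` in a finite Galois extension of a geometric function field of one
variable, the decomposition group has order `e(Q|P) f(Q|P)`; stated as `|G₀| · deg P = e · deg_k Q`. -/
theorem result (k K K' : Type*) [Field k] [Field K] [Field K'] [Algebra k K] [Algebra K K'] [Algebra k K']
    [IsScalarTower k K K'] [FiniteDimensional K K'] (hK : FunFld.IsFunctionField k K) (hg : FunFld.IsGeometric k K) [IsGalois K K'] (Q : FunFld.Place k K') (P : FunFld.Place k K) (e : ℕ) (he : FunFld.IsOverWith Q P e) :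
    Nat.card ((Q.O).decompositionSubgroup K) * P.deg = e * Q.deg := by
  classical
  have hall : ∀ Q' : FunFld.Place k K', FunFld.IsOver Q' P →
      FunFld.IsOverWith Q' P e ∧ Q'.deg = Q.deg := fun Q' hQ' => by
    obtain ⟨σ, rfl⟩ := Groth.Agent.H23Ext.exists_conj ⟨e, he⟩ hQ'
    exact ⟨Groth.Agent.H23Ext.isOverWith_conj he σ, Groth.Agent.H23Ext.deg_conj σ Q⟩
  have hcd := Groth.Agent.H23Ext.card_places_mul_card_decomposition (Q := Q) (P := P) ⟨e, he⟩
  have hfin := Groth.Agent.H23Ext.finite_isOver (K' := K') hK P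
  have hsum := Groth.Agent.H23Ext.sum_ramIdx_mul_deg hK P hfin.toFinset
    fun R => Set.Finite.mem_toFinset _
  rw [Finset.sum_congr rfl (g := fun _ => e * Q.deg) (fun R hR => by
    obtain ⟨h1, h2⟩ := hall R (hfin.mem_toFinset.1 hR)
    rw [Groth.Agent.H23Ext.ramIdx_eq h1, h2]), Finset.sum_const, smul_eq_mul,
    ← Set.ncard_eq_toFinset_card _ hfin, ← Nat.card_coe_set_eq, ← hcd] at hsum
  have h0 : 0 < Nat.card {R : FunFld.Place k K' // FunFld.IsOver R P} := by
    have : Finite {R : FunFld.Place k K' // FunFld.IsOver R P} := hfin.to_subtype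
    have : Nonempty {R : FunFld.Place k K' // FunFld.IsOver R P} := ⟨⟨Q, e, he⟩⟩
    exact Nat.card_pos
  refine (Nat.eq_of_mul_eq_mul_left h0 ?_).symm
  rw [← mul_assoc]
  exact (mul_assoc _ _ _).trans (hsum.trans (mul_assoc _ _ _))

end Groth.Agent.S11021
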