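import Groth.Statements.S11023
import Groth.Agent.H23Geom.Inertia

set_option autoImplicit false
open FunFld

namespace Groth.Agent.S11023

/-- For a place `Q` above `P` in a finite Galois extension of a geometric function field of one
variable, the inertia group has order `e(Q|P)`. (The published hypothesis is that `F_Q/F_P` is
separable; this row assumes the stronger condition that `F_Q` is separable over `k`. The assertion
that `F_Q/F_P` is Galois with group `G₀/G₁` is not stated.) -/
theorem result (k K K' : Type*) [Field k] [Field K] [Field K'] [Algebra k K] [Algebra K K'] [Algebra k K']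
    [IsScalarTower k K K'] [FiniteDimensional K K'] (hK : FunFld.IsFunctionField k K) (hg : FunFld.IsGeometric k K) [IsGalois K K'] (Q : FunFld.Place k K') (P : FunFld.Place k K) (e : ℕ) (he : FunFld.IsOverWith Q P e)
    [Algebra.IsSeparable k (IsLocalRing.ResidueField Q.O)] :
    Nat.card ((Q.O).inertiaSubgroup K) = e := by
  exact Groth.Agent.H23Geom.card_inertia hK.1 Q P e he

end Groth.Agent.S11023
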