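import Groth.Statements.S11024
import Mathlib
import Groth.Agent.H23Geom.Ram

set_option autoImplicit false
open FunFld

namespace Groth.Agent.S11024

/-- The quotient `G₁/G₂` of the first two ramification groups of a place in a finite Galois extension of
a geometric function field of one variable is cyclic. (Residue field of `Q` assumed separable over
`k`, stronger than the published `F_Q/F_P` separable.) -/
theorem result (k K K' : Type*) [Field k] [Field K] [Field K'] [Algebra k K] [Algebra K K'] [Algebra k K']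
    [IsScalarTower k K K'] [FiniteDimensional K K'] (hK : FunFld.IsFunctionField k K) (hg : FunFld.IsGeometric k K) [IsGalois K K'] (Q : FunFld.Place k K') [Algebra.IsSeparable k (IsLocalRing.ResidueField Q.O)] :
    ∃ σ₀ : K' ≃ₐ[K] K', (∀ x : K', Q.1 x ≤ 1 → Q.1 (σ₀ x - x) ≤ WithZero.exp (-(1 : ℤ))) ∧
      ∀ σ : K' ≃ₐ[K] K', (∀ x : K', Q.1 x ≤ 1 → Q.1 (σ x - x) ≤ WithZero.exp (-(1 : ℤ))) →
        ∃ n : ℕ, (∀ x : K', Q.1 x ≤ 1 → Q.1 (((σ₀ ^ n)⁻¹ * σ) x - x) ≤ WithZero.exp (-(2 : ℤ))) := by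
  classical
  obtain ⟨t, ht0, ht⟩ := Groth.Agent.H23FunFld.exists_val_eq Q (-1)
  let G := Groth.Agent.H23Geom.gGroup K Q 1
  have hu : ∀ σ : G, Q.1 (σ.1 t / t) = 1 := fun σ => by
    rw [map_div₀, σ.2.val_apply, div_self (by simpa using ht0)]
  let f : G →* IsLocalRing.ResidueField Q.O :=
    { toFun := fun σ => IsLocalRing.residue Q.O ⟨σ.1 t / t, (hu σ).le⟩
      map_one' := by
        rw [← map_one (IsLocalRing.residue Q.O)]
        congr 1
        exact Subtype.ext (by simp [div_self ht0])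
      map_mul' := fun σ τ => by
        rw [← map_mul, ← sub_eq_zero, ← map_sub, IsLocalRing.residue_eq_zero_iff,
          IsLocalRing.mem_maximalIdeal, mem_nonunits_iff]
        intro hun
        have h1 := (Valuation.Integers.isUnit_iff_valuation_eq_one (Valuation.integer.integers Q.1)).1 hun
        change Q.1 ((σ.1 * τ.1) t / t - σ.1 t / t * (τ.1 t / t)) = 1 at h1
        have e : (σ.1 * τ.1) t / t - σ.1 t / t * (τ.1 t / t) =
            σ.1 t / t * (σ.1 (τ.1 t / t) - τ.1 t / t) := by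
          have : σ.1 t ≠ 0 := by simpa using ht0
          rw [AlgEquiv.mul_apply, map_div₀]
          field_simp
        rw [e, map_mul, hu, one_mul] at h1
        have h2 := σ.2 _ (hu τ).le
        rw [h1, ← WithZero.exp_zero, WithZero.exp_le_exp] at h2
        omega }
  haveI : Finite G := inferInstance
  let fq := QuotientGroup.kerLift f.toHomUnits
  haveI : IsCyclic (G ⧸ f.toHomUnits.ker) := isCyclic_of_subgroup_isDomain ((Units.coeHom _).comp fq)
    (Units.val_injective.comp (QuotientGroup.kerLift_injective f.toHomUnits))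
  obtain ⟨g, hg⟩ := IsCyclic.exists_monoid_generator (α := G ⧸ f.toHomUnits.ker)
  obtain ⟨σ₀, rfl⟩ := QuotientGroup.mk_surjective g
  refine ⟨σ₀.1, σ₀.2, fun σ hσ => ?_⟩
  obtain ⟨n, hn⟩ := Submonoid.mem_powers_iff _ _ |>.1 (hg (QuotientGroup.mk (⟨σ, hσ⟩ : G)))
  refine ⟨n, ?_⟩
  set τ : G := (σ₀ ^ n)⁻¹ * ⟨σ, hσ⟩
  have hker : τ ∈ f.toHomUnits.ker := by
    rw [← QuotientGroup.eq_one_iff, QuotientGroup.mk_mul, QuotientGroup.mk_inv, QuotientGroup.mk_pow]
    rw [show (QuotientGroup.mk σ₀ : G ⧸ f.toHomUnits.ker) ^ n = QuotientGroup.mk (⟨σ, hσ⟩ : G) from hn, inv_mul_cancel]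
  have h0 : IsLocalRing.residue Q.O (⟨τ.1 t / t, (hu τ).le⟩ - 1) = 0 := by
    rw [map_sub, map_one, sub_eq_zero]
    exact congrArg Units.val hker
  rw [IsLocalRing.residue_eq_zero_iff, IsLocalRing.mem_maximalIdeal, mem_nonunits_iff] at h0
  have hlt : Q.1 (τ.1 t / t - 1) < 1 :=
    lt_of_le_of_ne ((⟨τ.1 t / t, (hu τ).le⟩ : Q.O) - 1).2 fun h1 =>
      h0 ((Valuation.Integers.isUnit_iff_valuation_eq_one (Valuation.integer.integers Q.1)).2 h1)
  have h2 : Groth.Agent.H23Geom.InG Q 2 τ.1 := by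
    refine (Groth.Agent.H23Geom.inG_iff ht τ.2 2).2 ?_
    rw [show τ.1 t - t = (τ.1 t / t - 1) * t by field_simp, map_mul, ht]
    refine (mul_le_mul' (Groth.Agent.H23Geom.le_exp_neg_one hlt) le_rfl).trans ?_
    rw [← WithZero.exp_add, WithZero.exp_le_exp]
    norm_num
  exact h2

end Groth.Agent.S11024
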