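import Groth.Statements.S11025
import Mathlib
import Groth.Agent.H23Geom.Ram

set_option autoImplicit false
open FunFld

namespace Groth.Agent.S11025

/-- For `i ≥ 2` the ramification quotient `G_i/G_{i+1}` embeds in the additive group of the residue
field: it is abelian, trivial in characteristic `0`, and elementary abelian of exponent `p` in
characteristic `p`. (Residue field of `Q` assumed separable over `k`.) -/
theorem result (k K K' : Type*) [Field k] [Field K] [Field K'] [Algebra k K] [Algebra K K'] [Algebra k K']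
    [IsScalarTower k K K'] [FiniteDimensional K K'] (hK : FunFld.IsFunctionField k K) (hg : FunFld.IsGeometric k K) [IsGalois K K'] (Q : FunFld.Place k K') [Algebra.IsSeparable k (IsLocalRing.ResidueField Q.O)]
    (i : ℕ) (hi : 2 ≤ i) (σ τ : K' ≃ₐ[K] K') (hσ : (∀ x : K', Q.1 x ≤ 1 → Q.1 (σ x - x) ≤ WithZero.exp (-(i : ℤ)))) (hτ : (∀ x : K', Q.1 x ≤ 1 → Q.1 (τ x - x) ≤ WithZero.exp (-(i : ℤ)))) :
    (∀ x : K', Q.1 x ≤ 1 → Q.1 ((σ * τ * σ⁻¹ * τ⁻¹) x - x) ≤ WithZero.exp (-((i + 1) : ℤ))) ∧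
    (ringChar K = 0 → (∀ x : K', Q.1 x ≤ 1 → Q.1 (σ x - x) ≤ WithZero.exp (-((i + 1) : ℤ)))) ∧
    ∀ p : ℕ, p.Prime → ringChar K = p → (∀ x : K', Q.1 x ≤ 1 → Q.1 ((σ ^ p) x - x) ≤ WithZero.exp (-((i + 1) : ℤ))) := by
  classical
  obtain ⟨t, ht0, ht⟩ := Groth.Agent.H23FunFld.exists_val_eq Q (-1)
  let G := Groth.Agent.H23Geom.gGroup K Q i
  let B := Groth.Agent.H23FunFld.ball Q (-((i : ℤ) + 1))
  let f : G →* Multiplicative (K' ⧸ B) :=
    { toFun := fun a => Multiplicative.ofAdd (Submodule.Quotient.mk (a.1 t - t))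
      map_one' := by simp
      map_mul' := fun a b => by
        rw [← ofAdd_add, ← Submodule.Quotient.mk_add]
        refine congrArg Multiplicative.ofAdd ((Submodule.Quotient.eq _).2 ?_)
        rw [Groth.Agent.H23FunFld.mem_ball, Subgroup.coe_mul, AlgEquiv.mul_apply,
          show a.1 (b.1 t) - t - (a.1 t - t + (b.1 t - t)) =
            (a.1 (b.1 t) - a.1 t) - (b.1 t - t) by ring, ← map_sub a.1]
        refine Groth.Agent.H23Geom.InG.deep ht a.2 ((b.2 t ?_).trans ?_)
        · rw [ht]; exact Groth.Agent.H23Geom.exp_neg_le_one 1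
        · rw [WithZero.exp_le_exp]; omega }
  have key : ∀ a : G, f a = 1 →
      ∀ x : K', Q.1 x ≤ 1 → Q.1 (a.1 x - x) ≤ WithZero.exp (-((i + 1) : ℤ)) := fun a ha => by
    have h1 : Q.1 (a.1 t - t) ≤ WithZero.exp (-((i : ℤ) + 1)) :=
      Groth.Agent.H23FunFld.mem_ball.1 ((Submodule.Quotient.mk_eq_zero B).1 ha)
    have h2 := (Groth.Agent.H23Geom.inG_iff ht (Groth.Agent.H23Geom.InG.mono a.2 (by omega)) (i + 1)).2
      (h1.trans_eq (by push_cast; rfl))
    intro x hx
    exact (h2 x hx).trans_eq (by push_cast; rfl)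
  let s : G := ⟨σ, hσ⟩
  let u : G := ⟨τ, hτ⟩
  have hnat : ∀ n : ℕ, f (s ^ n) = Multiplicative.ofAdd ((n : k) • Submodule.Quotient.mk (σ t - t)) := fun n => by
    rw [map_pow, Nat.cast_smul_eq_nsmul, ofAdd_nsmul]
    rfl
  refine ⟨?_, fun h0 => ?_, fun p hp hc => ?_⟩
  · exact key (s * u * s⁻¹ * u⁻¹) (by
      rw [map_mul, map_mul, map_mul, mul_comm (f s) (f u), map_inv, map_inv, mul_assoc (f u),
        mul_inv_cancel, mul_one, mul_inv_cancel])
  · haveI : CharP K 0 := ringChar.eq_iff.1 h0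
    haveI : CharP k 0 := (algebraMap k K).charP (algebraMap k K).injective 0
    haveI : CharZero k := CharP.charP_to_charZero k
    refine key s ?_
    have h1 := hnat (orderOf s)
    rw [pow_orderOf_eq_one, map_one] at h1
    have h2 : (orderOf s : k) • (Submodule.Quotient.mk (σ t - t) : K' ⧸ B) = 0 :=
      Multiplicative.ofAdd.injective (h1.symm.trans ofAdd_zero.symm)
    have h3 := (smul_eq_zero.1 h2).resolve_left (Nat.cast_ne_zero.2 (orderOf_pos s).ne')
    change Multiplicative.ofAdd _ = 1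
    rw [h3]; rfl
  · haveI : CharP K p := ringChar.eq_iff.1 hc
    haveI : CharP k p := (algebraMap k K).charP (algebraMap k K).injective p
    refine key (s ^ p) ?_
    rw [hnat, CharP.cast_eq_zero, zero_smul]
    rfl

end Groth.Agent.S11025
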