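import Groth.Statements.S11026
import Groth.Agent.H23Geom.Separating

set_option autoImplicit false
universe u v
open FunFld

namespace Groth.Agent.S11026

/-- A weakly separable finite extension `K'/k'` of a geometric function field `K/k` (the map `Ω_{K/k} →
Ω_{K'/k'}` injective) is separable over the compositum `k'K`. -/
theorem result (k k' : Type u) (K K' : Type v) [Field k] [Field k'] [Field K] [Field K']
    [Algebra k k'] [Algebra k K] [Algebra K K'] [Algebra k' K'] [Algebra k K']
    [IsScalarTower k k' K'] [IsScalarTower k K K'] [FiniteDimensional K K']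
    (hK : FunFld.IsFunctionField k K) (hg : FunFld.IsGeometric k K)
    (hK' : FunFld.IsFunctionField k' K') (hg' : FunFld.IsGeometric k' K')
    (hw : Function.Injective (KaehlerDifferential.map k k' K K')) :
    Algebra.IsSeparable (IntermediateField.adjoin K (Set.range (algebraMap k' K'))) K' := by
  set M := IntermediateField.adjoin K (Set.range (algebraMap k' K'))
  haveI : Algebra.EssFiniteType M K' := Algebra.EssFiniteType.of_comp K _ _
  rw [← Algebra.FormallyUnramified.iff_isSeparable]
  obtain ⟨x, -, hsep⟩ := Groth.Agent.H23Geom.exists_separating hK hg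
  have hx : KaehlerDifferential.D k' K' (algebraMap K K' x) ≠ 0 := by
    intro h
    have h0 : KaehlerDifferential.map k k' K K' (KaehlerDifferential.D k K x) = KaehlerDifferential.map k k' K K' 0 := by
      rw [KaehlerDifferential.map_D, h, map_zero]
    exact Groth.Agent.H23Geom.D_ne_zero hK (x := x) (hw h0)
  let xM : M := algebraMap K M x
  let D := KaehlerDifferential.D M K'
  -- restrict to the constants
  have hk' : ∀ c : k', D (algebraMap k' K' c) = 0 := fun c => by
    rw [show algebraMap k' K' c = algebraMap M K' ⟨_, IntermediateField.subset_adjoin K _ ⟨c, rfl⟩⟩ from rfl,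
      Derivation.map_algebraMap]
  let D' : Derivation k' K' (KaehlerDifferential M K') :=
    Derivation.mk'
      { toFun := fun z => D z
        map_add' := fun a b => map_add D a b
        map_smul' := fun c a => by
          rw [RingHom.id_apply, Algebra.smul_def, Derivation.leibniz, hk', smul_zero, add_zero,
            algebraMap_smul K' c (D a)] }
      (fun a b => D.leibniz a b)
  refine ⟨subsingleton_of_forall_eq 0 fun w => ?_⟩
  have hw' : w ∈ Submodule.span K' (Set.range D) := by rw [KaehlerDifferential.span_range_derivation]; trivial
  induction hw' using Submodule.span_induction with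
  | mem w hw =>
    obtain ⟨z, rfl⟩ := hw
    change D' z = 0
    rw [← Derivation.liftKaehlerDifferential_comp_D D']
    obtain ⟨c, hc⟩ := (finrank_eq_one_iff_of_nonzero' _ hx).1 (Groth.Agent.H23Geom.finrank_kaehler hK' hg') (KaehlerDifferential.D k' K' z)
    rw [← hc, map_smul, Derivation.liftKaehlerDifferential_comp_D]
    change c • D (algebraMap K K' x) = 0
    rw [show algebraMap K K' x = algebraMap M K' xM from rfl, Derivation.map_algebraMap, smul_zero]
  | zero => rfl
  | add a b _ _ ha hb => rw [ha, hb, add_zero]
  | smul c a _ ha => rw [ha, smul_zero]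

end Groth.Agent.S11026
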