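import Groth.Statements.S11027
import Mathlib
import Groth.Agent.H23Geom.Ram

set_option autoImplicit false
open FunFld

namespace Groth.Agent.S11027

/-- For `σ` in the inertia group of a place `Q` and a local parameter `t` at `Q`, `σ ∈ G_j` iff `σ(t) ≡
t mod Q^j`. (Residue field of `Q` assumed separable over `k`.) -/
theorem result (k K K' : Type*) [Field k] [Field K] [Field K'] [Algebra k K] [Algebra K K'] [Algebra k K']
    [IsScalarTower k K K'] [FiniteDimensional K K'] (hK : FunFld.IsFunctionField k K) (hg : FunFld.IsGeometric k K) [IsGalois K K'] (Q : FunFld.Place k K') [Algebra.IsSeparable k (IsLocalRing.ResidueField Q.O)]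
    (σ : K' ≃ₐ[K] K') (hσ : (∀ x : K', Q.1 x ≤ 1 → Q.1 (σ x - x) ≤ WithZero.exp (-(1 : ℤ)))) (t : K') (ht : Q.1 t = WithZero.exp (-1))
    (j : ℕ) (hj : 1 ≤ j) :
    (∀ x : K', Q.1 x ≤ 1 → Q.1 (σ x - x) ≤ WithZero.exp (-(j : ℤ))) ↔ Q.1 (σ t - t) ≤ WithZero.exp (-(j : ℤ)) := by
  exact Groth.Agent.H23Geom.inG_iff ht hσ j

end Groth.Agent.S11027
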