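import Groth.Statements.S11028
import Mathlib
import Groth.Agent.H23Hyp.Char2

set_option autoImplicit false
open FunFld

namespace Groth.Agent.S11028

/-- For `k` perfect of characteristic `2` and `K = k(x, y)` with `y² + y = f(x)`, all poles of `f` of
odd order `2d_i - 1` at places `p_i` of `k(x)`, the genus of `K` is `-1 + ∑ d_i deg p_i`. -/
theorem result (k K : Type*) [Field k] [Field K] [PerfectField k] (h2 : ringChar k = 2) [Algebra k K]
    [Algebra (RatFunc k) K] [IsScalarTower k (RatFunc k) K] (hK : FunFld.IsFunctionField k K)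
    (hdeg : Module.finrank (RatFunc k) K = 2) (y : K) (hy : y ∉ Set.range (algebraMap (RatFunc k) K))
    (f : RatFunc k) (heq : y ^ 2 + y = algebraMap (RatFunc k) K f)
    (hodd : ∀ P : FunFld.Place k (RatFunc k), FunFld.div k f P < 0 → Odd (FunFld.div k f P)) :
    (FunFld.genus k K : ℤ) = -1 + ∑ P ∈ (FunFld.div k f).support with FunFld.div k f P < 0,
      (1 - FunFld.div k f P) / 2 * (P.deg : ℤ) := by
  classical
  open Groth.Agent.H23FunFld Groth.Agent.H23Hyp in
  haveI : FiniteDimensional (RatFunc k) K := Module.finite_of_finrank_pos (hdeg ▸ two_pos)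
  haveI : CharP k 2 := ringChar.of_eq h2
  haveI : CharP K 2 := charP_of_injective_algebraMap (algebraMap k K).injective 2
  have hF := Groth.Agent.H23Hyp.isFunctionField_ratFunc k
  set S := (FunFld.div k f).support.filter fun P => FunFld.div k f P < 0
  let E : FunFld.Divisor k (RatFunc k) := Finsupp.onFinset S (fun P => if P.ord f < 0 then (1 - P.ord f) / 2 else 0)
    (fun P h => by
      rw [ne_eq, ite_eq_right_iff, Classical.not_imp] at h
      simp only [S, Finset.mem_filter, Finsupp.mem_support_iff, Groth.Agent.H23FunFld.div_apply hF]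
      exact ⟨by omega, h.1⟩)
  have hodd' : ∀ P : FunFld.Place k (RatFunc k), P.ord f < 0 → Odd (P.ord f) := fun P hP => by
    have := hodd P
    rw [Groth.Agent.H23FunFld.div_apply hF] at this
    exact this hP
  have h := Groth.Agent.H23Hyp.as_genus hy heq hF hK hdeg Groth.Agent.H23Hyp.genus_ratFunc hodd' E (fun P => rfl)
  rw [h, FunFld.Divisor.deg, Finsupp.sum_of_support_subset E Finsupp.support_onFinset_subset
    (fun (P : FunFld.Place k (RatFunc k)) (n : ℤ) => n * (P.deg : ℤ)) (fun P _ => zero_mul _)]
  congr 1
  refine Finset.sum_congr rfl fun P hP => ?_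
  simp only [S, Finset.mem_filter, Groth.Agent.H23FunFld.div_apply hF] at hP
  simp [E, hP.2, Groth.Agent.H23FunFld.div_apply hF]

end Groth.Agent.S11028
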