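import Groth.Statements.S11029
import Groth.Agent.H23Geom.InertiaField

set_option autoImplicit false
open FunFld

namespace Groth.Agent.S11029

/-- For an intermediate field `E` of a finite Galois extension `K'/K` of a geometric function field of
one variable and a place `Q` of `K'`, `e(Q ∩ E | Q ∩ K) = 1` iff `E` lies in the inertia field `K₁`
of `Q`. (Residue field of `Q` assumed separable over `k`; the total ramification of `K'/K₁` is not
stated.) -/
theorem result (k K K' : Type*) [Field k] [Field K] [Field K'] [Algebra k K] [Algebra K K'] [Algebra k K']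
    [IsScalarTower k K K'] [FiniteDimensional K K'] (hK : FunFld.IsFunctionField k K) (hg : FunFld.IsGeometric k K) [IsGalois K K'] (Q : FunFld.Place k K') [Algebra.IsSeparable k (IsLocalRing.ResidueField Q.O)]
    (E : IntermediateField K K') :
    Set.range (Q.1.comap (algebraMap E K')) = Set.range (Q.1.comap (algebraMap K K')) ↔
      E ≤ IntermediateField.fixedField
        (((Q.O).inertiaSubgroup K).map ((Q.O).decompositionSubgroup K).subtype) := by
  haveI : IsScalarTower k E K' := IsScalarTower.of_algebraMap_eq fun _ => rfl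
  obtain ⟨QE, P, e₁, e, he₁, he, hI, hinf⟩ := Groth.Agent.H23Geom.card_inf_fixing hK.1 Q E
  have hpos := Groth.Agent.H23Ext.IsOverWith.pos he
  have hrE : ∀ z : E, Q.1.comap (algebraMap E K') z = QE.1 z ^ e₁ := fun z => he₁ z
  have hrK : ∀ z : K, Q.1.comap (algebraMap K K') z = P.1 z ^ e := fun z => he z
  have hsub : Set.range (Q.1.comap (algebraMap K K')) ⊆ Set.range (Q.1.comap (algebraMap E K')) := by
    rintro _ ⟨z, rfl⟩
    exact ⟨algebraMap K E z, by
      change Q.1 (algebraMap E K' (algebraMap K E z)) = Q.1 (algebraMap K K' z)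
      rw [← IsScalarTower.algebraMap_apply]⟩
  have key : Set.range (Q.1.comap (algebraMap E K')) = Set.range (Q.1.comap (algebraMap K K')) ↔ e₁ = e := by
    constructor
    · intro h
      obtain ⟨z, hz⟩ := QE.2.2 (WithZero.exp (1 : ℤ))
      have h1 : Q.1.comap (algebraMap E K') z ∈ Set.range (Q.1.comap (algebraMap K K')) := h ▸ ⟨z, rfl⟩
      obtain ⟨w, hw⟩ := h1
      rw [hrK, hrE, hz] at hw
      obtain ⟨z', hz'⟩ := P.2.2 (WithZero.exp (1 : ℤ))
      have h2 : Q.1.comap (algebraMap K K') z' ∈ Set.range (Q.1.comap (algebraMap E K')) := hsub ⟨z', rfl⟩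
      obtain ⟨w', hw'⟩ := h2
      rw [hrK, hrE, hz'] at hw'
      have hne : P.1 w ≠ 0 := fun h0 => by
        rw [h0, zero_pow hpos.ne', ← WithZero.exp_nsmul] at hw
        exact WithZero.exp_ne_zero hw.symm
      have hne' : QE.1 w' ≠ 0 := fun h0 => by
        rw [h0, zero_pow (Groth.Agent.H23Ext.IsOverWith.pos he₁).ne', ← WithZero.exp_nsmul] at hw'
        exact WithZero.exp_ne_zero hw'.symm
      rw [← WithZero.exp_log hne, ← WithZero.exp_nsmul, ← WithZero.exp_nsmul, WithZero.exp_inj] at hw
      rw [← WithZero.exp_log hne', ← WithZero.exp_nsmul, ← WithZero.exp_nsmul, WithZero.exp_inj] at hw'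
      simp only [nsmul_eq_mul, mul_one] at hw hw'
      have hd1 : (e : ℤ) ∣ (e₁ : ℤ) := ⟨_, hw.symm⟩
      have hd2 : (e₁ : ℤ) ∣ (e : ℤ) := ⟨_, hw'.symm⟩
      exact Nat.dvd_antisymm (Int.natCast_dvd_natCast.1 hd2) (Int.natCast_dvd_natCast.1 hd1)
    · rintro rfl
      refine Set.Subset.antisymm ?_ hsub
      rintro _ ⟨z, rfl⟩
      obtain ⟨w, hw⟩ := P.2.2 (QE.1 z)
      exact ⟨w, by rw [hrK, hrE, hw]⟩
  rw [key, IntermediateField.le_iff_le, ← inf_eq_left]
  constructor
  · intro h
    exact Subgroup.eq_of_le_of_card_ge inf_le_left (by rw [hI, hinf, h])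
  · intro h
    rw [← hI, ← hinf, h]

end Groth.Agent.S11029
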