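import Groth.Statements.S11030
import Mathlib
import Groth.Agent.H23Geom.Criteria
import Groth.Agent.H23Ext.Over

set_option autoImplicit false
universe u v
open FunFld

namespace Groth.Agent.S11030

/-- In a geometric function field of one variable, a local parameter at a place with separable residue
field is a separating variable: `dt ≠ 0` in `Ω_{K/k}`. (The duality isomorphism `Ω_K ≅ W_K` and the
order of `dt` at `P` are not stated.) -/
theorem result (k : Type u) (K : Type v) [Field k] [Field K] [Algebra k K]
    (hK : FunFld.IsFunctionField k K) (hg : FunFld.IsGeometric k K) (P : FunFld.Place k K)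
    [Algebra.IsSeparable k (IsLocalRing.ResidueField P.O)] (t : K) (ht : P.1 t = WithZero.exp (-1)) :
    KaehlerDifferential.D k K t ≠ 0 := by
  intro hDt
  obtain ⟨x, hx, hsep⟩ := Groth.Agent.H23Geom.exists_separating hK hg
  have ht0 : t ≠ 0 := fun h => by rw [h, map_zero] at ht; exact WithZero.exp_ne_zero ht.symm
  have htr : Transcendental k t := Groth.Agent.H23FunFld.transcendental_of_val_ne_one P ht0 (fun h => by
    rw [ht, ← WithZero.exp_zero, WithZero.exp_inj] at h; omega)
  haveI := Groth.Agent.H23FunFld.finiteDimensional_adjoin hK htr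
  rcases CharP.exists' k with h0 | ⟨p, hp, hpk⟩
  · haveI : CharZero (IntermediateField.adjoin k ({t} : Set K)) :=
      charZero_of_injective_algebraMap (algebraMap k _).injective
    exact Groth.Agent.H23Geom.D_ne_zero hK (x := t) hDt
  · haveI := hp
    haveI : CharP K p := charP_of_injective_algebraMap (algebraMap k K).injective p
    have htM := Groth.Agent.H23Geom.mem_M_of_D_eq_zero p hK x hDt
    set M := IntermediateField.adjoin k (Set.range fun y : K => y ^ p)
    obtain ⟨hMK, -⟩ := Groth.Agent.H23Geom.finrank_M p hK x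
    haveI : FiniteDimensional M K := Module.finite_of_finrank_pos (by rw [hMK]; exact hp.out.pos)
    obtain ⟨hM, -⟩ := Groth.Agent.H23Geom.isGeometric_of_le hK hg M ⟨t, htM, htr⟩
    obtain ⟨P₀, e, he⟩ := Groth.Agent.H23Ext.exists_below (K := M) hM.1 P
    have he1 : e = 1 := by
      have h1 := Groth.Agent.H23Ext.IsOverWith.ord_eq he (⟨t, htM⟩ : M)
      have h2 : P.ord t = 1 := by simp [FunFld.Place.ord, ht]
      change P.ord t = _ at h1
      rw [h2] at h1
      exact_mod_cast Int.eq_one_of_mul_eq_one_right (by positivity) h1.symm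
    have huniq : ∀ Q, Q ∈ ({P} : Finset (FunFld.Place k K)) ↔ FunFld.IsOver Q P₀ := by
      intro Q
      rw [Finset.mem_singleton]
      refine ⟨fun h => h ▸ ⟨e, he⟩, fun hQ => (Groth.Agent.H23FunFld.place_eq_of_le fun z hz => ?_).symm⟩
      have hzp : z ^ p ∈ M := Groth.Agent.H23Geom.pow_mem p z
      have h1 : P.1 (algebraMap M K ⟨_, hzp⟩) ≤ 1 := by
        change P.1 (z ^ p) ≤ 1
        rw [map_pow]
        exact pow_le_one₀ zero_le hz
      have h2 := (Groth.Agent.H23Ext.le_one_iff_of_isOver hQ _).2
        ((Groth.Agent.H23Ext.le_one_iff_of_isOver ⟨e, he⟩ _).1 h1)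
      change Q.1 (z ^ p) ≤ 1 at h2
      rwa [map_pow, pow_le_one_iff hp.out.ne_zero] at h2
    have h1 := Groth.Agent.H23Ext.sum_ramIdx_mul_deg hM P₀ {P} huniq
    rw [Finset.sum_singleton, Groth.Agent.H23Ext.ramIdx_eq he, he1, one_mul, hMK] at h1
    let ι : P₀.O →ₐ[k] P.O :=
      { toRingHom := ((algebraMap M K).comp P₀.O.subtype).codRestrict P.O fun z =>
          (Groth.Agent.H23Ext.le_one_iff_of_isOver ⟨e, he⟩ (z : M)).2 z.2
        commutes' := fun c => rfl }
    haveI : IsLocalHom ι.toRingHom := ⟨fun z hz => by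
      have h2 : P.1 (algebraMap M K (z : M)) = 1 :=
        (Valuation.Integers.isUnit_iff_valuation_eq_one (Valuation.integer.integers P.1)).1 hz
      rw [he, he1, pow_one] at h2
      exact (Valuation.Integers.isUnit_iff_valuation_eq_one (Valuation.integer.integers P₀.1)).2 h2⟩
    let ψ : IsLocalRing.ResidueField P₀.O →ₐ[k] IsLocalRing.ResidueField P.O :=
      { toRingHom := IsLocalRing.ResidueField.map ι.toRingHom
        commutes' := fun c => rfl }
    set S := ψ.fieldRange
    haveI : CharP (IsLocalRing.ResidueField P.O) p :=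
      charP_of_injective_algebraMap (algebraMap k (IsLocalRing.ResidueField P.O)).injective p
    haveI : CharP S p := charP_of_injective_algebraMap (algebraMap k S).injective p
    haveI : IsPurelyInseparable S (IsLocalRing.ResidueField P.O) :=
      (isPurelyInseparable_iff_pow_mem S p).2 fun r => by
        obtain ⟨z, rfl⟩ := IsLocalRing.residue_surjective r
        have hzp : (z : K) ^ p ∈ M := Groth.Agent.H23Geom.pow_mem p _
        have hz0 : P₀.1 (⟨_, hzp⟩ : M) ≤ 1 := by
          refine (Groth.Agent.H23Ext.le_one_iff_of_isOver ⟨e, he⟩ _).1 ?_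
          change P.1 ((z : K) ^ p) ≤ 1
          rw [map_pow]
          exact pow_le_one₀ zero_le z.2
        refine ⟨1, ⟨_, IsLocalRing.residue P₀.O ⟨_, hz0⟩, rfl⟩, ?_⟩
        rw [pow_one, ← map_pow]
        exact congrArg (IsLocalRing.residue P.O) (Subtype.ext rfl)
    haveI : Algebra.IsSeparable S (IsLocalRing.ResidueField P.O) :=
      Algebra.isSeparable_tower_top_of_isSeparable k S _
    have hsurj : Function.Surjective ψ := fun r => by
      obtain ⟨w, hw⟩ := IsPurelyInseparable.surjective_algebraMap_of_isSeparable S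
        (IsLocalRing.ResidueField P.O) r
      obtain ⟨v, hv⟩ := w.2
      exact ⟨v, hv.trans hw⟩
    have h2 : P.deg = P₀.deg :=
      (AlgEquiv.ofBijective ψ ⟨ψ.toRingHom.injective, hsurj⟩).toLinearEquiv.finrank_eq.symm
    rw [h2] at h1
    have := Groth.Agent.H23FunFld.deg_pos hM P₀
    nlinarith [hp.out.two_le]

end Groth.Agent.S11030
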