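import Groth.Statements.S11034
import Mathlib
import Groth.Agent.H23Hyp.SqrtDiff

set_option autoImplicit false
open FunFld

namespace Groth.Agent.S11034

/-- For `char k ≠ 2` and `K = k(x, y)`, `y² = f(x)` with `f` squarefree, each irreducible factor `p` of
`f` has a unique place `P` of `K` above it, with `e(P|p) = 2`, `f(P|p) = 1` and `deg P = deg p`. The
zero divisor of `y` and the behaviour above the infinite place of `k(x)` are not stated. -/
theorem result (k K : Type*) [Field k] [Field K] (h2 : ringChar k ≠ 2) [Algebra k K]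
    [Algebra (RatFunc k) K] [IsScalarTower k (RatFunc k) K]
    (hdeg : Module.finrank (RatFunc k) K = 2) (y : K) (f : Polynomial k) (hf : Squarefree f)
    (hd : 1 ≤ f.natDegree)
    (heq : y ^ 2 = algebraMap (RatFunc k) K (algebraMap (Polynomial k) (RatFunc k) f))
    (p : Polynomial k) (hp : Irreducible p) (hpf : p ∣ f)
    (P₀ : FunFld.Place k (RatFunc k)) (hP₀ : P₀.1 (algebraMap (Polynomial k) (RatFunc k) p) < 1) :
    (∃! P : FunFld.Place k K, FunFld.IsOver P P₀) ∧
    ∀ P : FunFld.Place k K, FunFld.IsOver P P₀ → FunFld.IsOverWith P P₀ 2 ∧ P.deg = P₀.deg := by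
  haveI : FiniteDimensional (RatFunc k) K := Module.finite_of_finrank_pos (hdeg ▸ two_pos)
  have hR := Groth.Agent.H23Hyp.isFunctionField_ratFunc k
  obtain ⟨g, rfl⟩ := hpf
  have hP0fin : P₀.1 RatFunc.X ≤ 1 := by
    by_contra hgt
    rw [not_le] at hgt
    rw [← Groth.Agent.H23Hyp.aeval_X_eq, Groth.Agent.H23Hyp.val_aeval_of_one_lt P₀ hgt hp.ne_zero] at hP₀
    exact absurd hP₀ (not_lt.2 (one_le_pow_of_one_le' hgt.le _))
  have hord : 0 < P₀.ord (algebraMap (Polynomial k) (RatFunc k) (p * g)) := by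
    have hne : algebraMap (Polynomial k) (RatFunc k) (p * g) ≠ 0 :=
      RatFunc.algebraMap_ne_zero fun h => by simp [h] at hd
    refine (Groth.Agent.H23FunFld.val_lt_one_iff P₀ hne).1 ?_
    rw [map_mul, map_mul]
    refine lt_of_le_of_lt (mul_le_of_le_one_right zero_le ?_) hP₀
    rw [← Groth.Agent.H23Hyp.aeval_X_eq]
    exact Groth.Agent.H23Hyp.val_aeval_le_one P₀ hP0fin g
  have key : ∀ P : FunFld.Place k K, FunFld.IsOver P P₀ → FunFld.IsOverWith P P₀ 2 ∧ P.deg = P₀.deg ∧
      ∀ R : FunFld.Place k K, FunFld.IsOver R P₀ → R = P := fun P ⟨e, he⟩ => by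
    obtain ⟨he12, -, ho⟩ := Groth.Agent.H23Hyp.finite_facts h2 hdeg hf hd heq he hP0fin
    obtain rfl : e = 2 := by rcases he12 with rfl | rfl <;> omega
    exact ⟨he, (Groth.Agent.H23Hyp.ram_le_two hR he hdeg).2 rfl⟩
  refine ⟨?_, fun P hP => ⟨(key P hP).1, (key P hP).2.1⟩⟩
  obtain ⟨P, hP⟩ := Groth.Agent.H23Ext.exists_above (K' := K) hR P₀
  exact ⟨P, hP, fun R hR' => (key P hP).2.2 R hR'⟩

end Groth.Agent.S11034
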