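import Groth.Statements.S11037
import Mathlib
import Groth.Agent.H23Zeta.Schmidt

set_option autoImplicit false
open FunFld

namespace Groth.Agent.S11037

/-- Over a finite constant field with `q` elements the degree-zero divisor classes modulo principal
divisors form a finite group, of order `h`; and for `n ≥ 2g - 1` the number `a(n)` of effective
divisors of degree `n` is `h (q^(n-g+1) - 1)/(q - 1)` when `n` is the degree of some divisor, and
`0` otherwise. -/
theorem result
    (k K : Type*) [Field k] [Finite k] [Field K] [Algebra k K]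
    (hK : FunFld.IsFunctionField k K) :
    Finite ((FunFld.degHom k K).ker ⧸ (FunFld.prinDivs k K).addSubgroupOf (FunFld.degHom k K).ker) ∧
    ∀ n : ℕ, 2 * FunFld.genus k K ≤ n + 1 →
      ((∃ D : FunFld.Divisor k K, D.deg = n) →
        ((Nat.card k : ℤ) - 1) * (FunFld.effDivCount k K n : ℤ) =
          (FunFld.classNum k K : ℤ) * ((Nat.card k : ℤ) ^ (n + 1 - FunFld.genus k K) - 1)) ∧
      ((¬ ∃ D : FunFld.Divisor k K, D.deg = n) → FunFld.effDivCount k K n = 0) := by
  open Groth.Agent.H23Zeta in
  have h0 : Nat.card (Cl k K 0) = FunFld.classNum k K := card_Cl_zero hK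
  have hpos := classNum_pos hK
  refine ⟨Nat.finite_of_card_ne_zero ?_, fun n hn => ⟨fun hD => ?_, fun hD => absurd (exists_deg hK n) hD⟩⟩
  · change FunFld.classNum k K ≠ 0
    omega
  · have h1 := card_eff_eq hK (n : ℤ)
    rw [sumQ_large hK (n := (n : ℤ)) (by omega), card_Cl hK (exists_deg hK _),
      show (n : ℤ) + 1 - (FunFld.genus k K : ℤ) = ((n + 1 - FunFld.genus k K : ℕ) : ℤ) by omega, zpow_natCast,
      eff_natCast] at h1
    have h2 : (((((Nat.card k : ℤ) - 1) * (FunFld.effDivCount k K n : ℤ)) : ℤ) : ℚ) =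
        ((((FunFld.classNum k K : ℤ) * ((Nat.card k : ℤ) ^ (n + 1 - FunFld.genus k K) - 1)) : ℤ) : ℚ) := by
      push_cast
      linear_combination h1
    exact_mod_cast h2

end Groth.Agent.S11037
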