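import Groth.Statements.S11040
import Mathlib
import Groth.Agent.H23Zeta.Schmidt
import Groth.Agent.H23Zeta.Pairing

set_option autoImplicit false
open FunFld

namespace Groth.Agent.S11040

/-- The numerator of the zeta function of a function field of one variable of genus `g` over a finite
field with `q` elements factors over `ℂ` as `∏ (1 - αᵢ t)` with `α₁, …, α_{2g}` algebraic integers,
numbered so that `αᵢ α_{2g-i+1} = q`. -/
theorem result
    (k K : Type*) [Field k] [Finite k] [Field K] [Algebra k K]
    (hK : FunFld.IsFunctionField k K) :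
    ∃ α : Fin (2 * FunFld.genus k K) → ℂ, (∀ i, IsIntegral ℤ (α i)) ∧
      PowerSeries.map (Int.castRingHom ℂ) (FunFld.numerZ k K) =
        ((∏ i, (1 - Polynomial.C (α i) * Polynomial.X) : Polynomial ℂ) : PowerSeries ℂ) ∧
      ∀ i, α i * α (Fin.rev i) = (Nat.card k : ℂ) := by
  classical
  open Groth.Agent.H23Zeta in
  have h1 := exists_deg hK
  obtain ⟨p, hp, hdeg⟩ := exists_poly hK h1
  set g := FunFld.genus k K
  set q : ℂ := (Nat.card k : ℂ)
  have hq : q ≠ 0 := Nat.cast_ne_zero.2 Nat.card_pos.ne'
  set P := p.map (Int.castRingHom ℂ)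
  have hc : ∀ i, P.coeff i = ((lc k K i : ℚ) : ℂ) := fun i => by
    simp [P, lc, ← hp]
  have hPdeg : P.natDegree = 2 * g := by
    rw [Polynomial.natDegree_map_eq_of_injective (Int.cast_injective (α := ℂ)), hdeg]
  have hP0 : P.coeff 0 = 1 := by rw [hc, lc_zero hK h1, Rat.cast_one]
  have hsym : ∀ j ≤ 2 * g, q ^ j * P.coeff (2 * g - j) = q ^ g * P.coeff j := by
    intro j hj
    rw [hc, hc, lc_symm hK h1 hj]
    push_cast
    rw [← mul_assoc, ← zpow_natCast, ← zpow_natCast, ← zpow_add₀ hq, add_sub_cancel]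
  obtain ⟨α, hα, hpair, hroot⟩ := exists_recip_roots hq hPdeg hP0 hsym
  refine ⟨α, fun i => ⟨p.reverse, ?_, ?_⟩, ?_, hpair⟩
  · have hp0 : p.coeff 0 = 1 := by
      have := hP0
      rw [Polynomial.coeff_map] at this
      exact (Int.castRingHom ℂ).injective_int (this.trans (map_one _).symm)
    rw [Polynomial.Monic, Polynomial.reverse_leadingCoeff, Polynomial.trailingCoeff,
      Polynomial.natTrailingDegree_eq_zero.2 (Or.inr (by rw [hp0]; exact one_ne_zero)), hp0]
  · rw [← Polynomial.eval_map]
    have e : p.reverse.map (algebraMap ℤ ℂ) = P.reverse := by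
      ext j
      rw [Polynomial.coeff_map, Polynomial.coeff_reverse, Polynomial.coeff_reverse, Polynomial.coeff_map,
        Polynomial.natDegree_map_eq_of_injective (Int.cast_injective (α := ℂ))]
      rfl
    rw [e]
    exact hroot i
  · rw [← hp, ← hα, Polynomial.polynomial_map_coe]

end Groth.Agent.S11040
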