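import Groth.Statements.S11045
import Groth.Agent.H23Curve.Basic

set_option autoImplicit false
open FunFld

namespace Groth.Agent.S11045

/-- Over an algebraically closed constant field, if `n ≥ 1` is a gap number at the place `P` (no
function has a pole of exact order `n` at `P` and no other pole, i.e. `L(nP) = L((n-1)P)`), then the
gap numbers at `P` make up at least half of the positive integers below `n`. -/
theorem result
    (k K : Type*) [Field k] [IsAlgClosed k] [Field K] [Algebra k K]
    (hK : FunFld.IsFunctionField k K) (P : FunFld.Place k K) (n : ℕ) (hn : 1 ≤ n)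
    (hgap : FunFld.L (Finsupp.single P (n : ℤ)) = FunFld.L (Finsupp.single P ((n : ℤ) - 1))) :
    n - 1 ≤ 2 * Set.ncard {m : ℕ | 1 ≤ m ∧ m < n ∧
      FunFld.L (Finsupp.single P (m : ℤ)) = FunFld.L (Finsupp.single P ((m : ℤ) - 1))} := by
  classical
  let G := (Finset.Ico 1 n).filter (fun m => Groth.Agent.H23Curve.IsGap P m)
  let M := (Finset.Ico 1 n).filter (fun m => ¬ Groth.Agent.H23Curve.IsGap P m)
  have hset : {m : ℕ | 1 ≤ m ∧ m < n ∧
      FunFld.L (Finsupp.single P (m : ℤ)) = FunFld.L (Finsupp.single P ((m : ℤ) - 1))} = ↑G := by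
    ext m
    simp [G, Groth.Agent.H23Curve.IsGap, and_assoc]
  rw [hset, Set.ncard_coe_finset]
  have hMG : M.card ≤ G.card := by
    refine Finset.card_le_card_of_injOn (fun m => n - m) (fun m hm => ?_) (fun a ha b hb h => ?_)
    · simp only [M, G, SetLike.mem_coe, Finset.mem_filter, Finset.mem_Ico] at hm ⊢
      refine ⟨by omega, by_contra fun hng => ?_⟩
      obtain ⟨x, hx0, hx, hxo⟩ := Groth.Agent.H23Curve.exists_ord_of_ne hK hm.2
      obtain ⟨y, hy0, hy, hyo⟩ := Groth.Agent.H23Curve.exists_ord_of_ne hK hng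
      have hxy := Groth.Agent.H23FunFld.mul_mem_L hx hy
      rw [← Finsupp.single_add, show (m : ℤ) + ((n - m : ℕ) : ℤ) = (n : ℤ) by omega, hgap] at hxy
      have h1 := (Groth.Agent.H23FunFld.val_le_exp_iff P (mul_ne_zero hx0 hy0)).1 (hxy P)
      rw [Groth.Agent.H23FunFld.ord_mul P hx0 hy0, Finsupp.single_eq_same] at h1
      omega
    · simp only [M, SetLike.mem_coe, Finset.mem_filter, Finset.mem_Ico] at ha hb
      simp only at h
      omega
  have hsum : G.card + M.card = n - 1 := by
    simp only [G, M]
    rw [Finset.card_filter_add_card_filter_not, Nat.card_Ico]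
  omega

end Groth.Agent.S11045
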