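import Groth.Statements.S11046
import Groth.Agent.H23Curve.Basic

set_option autoImplicit false
open FunFld

namespace Groth.Agent.S11046

/-- Over an algebraically closed constant field, for a place `P` of a function field of genus `g` and a
natural number `n ≤ 2g - 2` one has `ℓ(nP) ≤ 1 + n/2` (Clifford's bound for multiples of a point). -/
theorem result
    (k K : Type*) [Field k] [IsAlgClosed k] [Field K] [Algebra k K]
    (hK : FunFld.IsFunctionField k K) (P : FunFld.Place k K) (n : ℕ)
    (hn : (n : ℤ) ≤ 2 * (FunFld.genus k K : ℤ) - 2) :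
    2 * FunFld.ell (Finsupp.single P (n : ℤ)) ≤ n + 2 := by
  have h0 : 0 < FunFld.ell (Finsupp.single P (n : ℤ)) := by
    have := Groth.Agent.H23FunFld.finiteDimensional_L hK (Finsupp.single P (n : ℤ))
    have h := Submodule.finrank_mono (Groth.Agent.H23FunFld.L_mono
      (Finsupp.single_nonneg.2 (show (0 : ℤ) ≤ n by omega) : (0 : FunFld.Divisor k K) ≤ Finsupp.single P (n : ℤ)))
    have h1 := Groth.Agent.H23FunFld.ell_zero hK
    unfold FunFld.ell at h1 ⊢
    omega
  have h := Groth.Agent.H23Curve.clifford hK h0
    (by rw [Groth.Agent.H23FunFld.deg_single, Groth.Agent.H23LinSer.deg_eq_one hK]; omega)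
  rw [Groth.Agent.H23FunFld.deg_single, Groth.Agent.H23LinSer.deg_eq_one hK] at h
  omega

end Groth.Agent.S11046
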