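import Groth.Statements.S11047
import Groth.Agent.H23Curve.Basic

set_option autoImplicit false
open FunFld

namespace Groth.Agent.S11047

/-- Over an algebraically closed constant field, a `k`-automorphism of a function field of one variable
of genus `g` that fixes more than `2g + 2` places is the identity. -/
theorem result
    (k K : Type*) [Field k] [IsAlgClosed k] [Field K] [Algebra k K]
    (hK : FunFld.IsFunctionField k K) (σ : K ≃ₐ[k] K)
    (h : ((2 * FunFld.genus k K + 2 : ℕ) : ℕ∞) <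
      Set.encard {P : FunFld.Place k K | ∀ x : K, P.1 x < 1 → P.1 (σ x) < 1}) :
    σ = 1 := by
  classical
  by_contra hσ
  obtain ⟨x₀, hx₀⟩ : ∃ x₀ : K, σ x₀ ≠ x₀ := by
    by_contra hc
    push Not at hc
    exact hσ (AlgEquiv.ext hc)
  have hd1 := Groth.Agent.H23LinSer.deg_eq_one hK
  -- transport of places
  let tr : (K ≃ₐ[k] K) → FunFld.Place k K → FunFld.Place k K := fun τ P =>
    ⟨P.1.comap (τ : K →+* K), fun c => by
      change P.1 (τ (algebraMap k K c)) ≤ 1
      rw [τ.commutes]; exact P.2.1 c, fun a => by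
      obtain ⟨x, hx⟩ := P.2.2 a
      exact ⟨τ.symm x, by change P.1 (τ (τ.symm x)) = a; rw [τ.apply_symm_apply, hx]⟩⟩
  have htr : ∀ τ P x, (tr τ P).1 x = P.1 (τ x) := fun _ _ _ => rfl
  have hfix : ∀ P : FunFld.Place k K, (∀ x : K, P.1 x < 1 → P.1 (σ x) < 1) →
      tr σ P = P := by
    intro P hP
    refine (Groth.Agent.H23FunFld.place_eq_of_le fun x hx => ?_).symm
    obtain ⟨c, hc⟩ := Groth.Agent.H23LinSer.exists_sub_const hK hx
    have h1 := hP _ hc
    rw [map_sub, σ.commutes] at h1
    have h2 := (P.1.map_add (σ x - algebraMap k K c) (algebraMap k K c)).trans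
      (max_le h1.le (P.2.1 c))
    rwa [sub_add_cancel] at h2
  have hval : ∀ P : FunFld.Place k K, (∀ x : K, P.1 x < 1 → P.1 (σ x) < 1) → ∀ x : K,
      P.1 x ≤ 1 → P.1 (x - σ x) < 1 := by
    intro P hP x hx
    obtain ⟨c, hc⟩ := Groth.Agent.H23LinSer.exists_sub_const hK hx
    have h1 := hP _ hc
    rw [map_sub, σ.commutes] at h1
    have h2 := (P.1.map_sub (x - algebraMap k K c) (σ x - algebraMap k K c)).trans_lt
      (max_lt hc h1)
    rwa [sub_sub_sub_cancel_right] at h2
  -- some place is not fixed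
  obtain ⟨P₁, hP₁⟩ : ∃ P₁ : FunFld.Place k K, ¬ ∀ x : K, P₁.1 x < 1 → P₁.1 (σ x) < 1 := by
    by_contra hc
    push Not at hc
    have hy : x₀ - σ x₀ ≠ 0 := sub_ne_zero.2 (Ne.symm hx₀)
    have hnc : ∀ c : k, x₀ - algebraMap k K c ∉ Set.range (algebraMap k K) := fun c ⟨a, ha⟩ => by
      refine hx₀ ?_
      have : x₀ = algebraMap k K (a + c) := by rw [map_add, ha, sub_add_cancel]
      rw [this, σ.commutes]
    choose Z hZ using fun c : k => Groth.Agent.H23FunFld.exists_zero hK (hnc c)
    have hne : ∀ c, x₀ - algebraMap k K c ≠ 0 := fun c h => hnc c ⟨0, by rw [map_zero, h]⟩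
    have hlt : ∀ c, (Z c).1 (x₀ - algebraMap k K c) < 1 := fun c =>
      (Groth.Agent.H23FunFld.val_lt_one_iff _ (hne c)).2 (hZ c)
    have hmem : ∀ c, Z c ∈ (FunFld.div k (x₀ - σ x₀)).support := fun c => by
      rw [Finsupp.mem_support_iff, Groth.Agent.H23FunFld.div_apply hK]
      have h2 := ((Z c).1.map_add (x₀ - algebraMap k K c) (algebraMap k K c)).trans
        (max_le (hlt c).le ((Z c).2.1 c))
      rw [sub_add_cancel] at h2
      have := (Groth.Agent.H23FunFld.val_lt_one_iff _ hy).1 (hval (Z c) (hc (Z c)) x₀ h2)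
      omega
    refine not_injective_infinite_finite (fun c : k =>
      (⟨Z c, hmem c⟩ : (FunFld.div k (x₀ - σ x₀)).support)) fun a b hab => ?_
    by_contra hne'
    have hab' : Z a = Z b := congrArg Subtype.val hab
    have h1 := hlt a
    rw [hab'] at h1
    have h2 := ((Z b).1.map_sub (x₀ - algebraMap k K a) (x₀ - algebraMap k K b)).trans_lt
      (max_lt h1 (hlt b))
    rw [sub_sub_sub_cancel_left, ← map_sub,
      Groth.Agent.H23FunFld.val_const _ (sub_ne_zero.2 (Ne.symm hne'))] at h2
    exact lt_irrefl _ h2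
  let g := FunFld.genus k K
  let Q₀ := tr σ.symm P₁
  have hQ₀ : tr σ Q₀ = P₁ := Subtype.ext (Valuation.ext fun x => by
    rw [htr, htr, σ.symm_apply_apply])
  have hQP : Q₀ ≠ P₁ := fun h => hP₁ fun x hx => by
    have h2 : tr σ P₁ = P₁ := by conv_lhs => rw [← h, hQ₀]
    rw [← htr σ P₁ x, h2]; exact hx
  -- a function with its only pole at `P₁`
  obtain ⟨x, hx, hxc⟩ : ∃ x ∈ FunFld.L (Finsupp.single P₁ ((g : ℤ) + 1)),
      x ∉ FunFld.L (0 : FunFld.Divisor k K) := by
    by_contra hc
    push Not at hc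
    have := Groth.Agent.H23FunFld.finiteDimensional_L hK (0 : FunFld.Divisor k K)
    have h1 := Groth.Agent.H23FunFld.ell_ge hK (Finsupp.single P₁ ((g : ℤ) + 1))
    rw [Groth.Agent.H23FunFld.deg_single, hd1] at h1
    have h2 : FunFld.ell (Finsupp.single P₁ ((g : ℤ) + 1)) ≤
        FunFld.ell (0 : FunFld.Divisor k K) := Submodule.finrank_mono hc
    rw [Groth.Agent.H23FunFld.ell_zero hK] at h2
    omega
  have hx0 : x ≠ 0 := fun h => hxc (h ▸ Submodule.zero_mem _)
  have hxP : 1 < P₁.1 x := by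
    by_contra hle
    refine hxc fun Q => ?_
    rcases eq_or_ne Q P₁ with rfl | hQ
    · simpa using le_of_not_gt hle
    · have := hx Q
      rw [Finsupp.single_eq_of_ne hQ] at this
      simpa using this
  have hσxP : P₁.1 (σ x) ≤ 1 := by
    have h1 : tr σ P₁ ≠ P₁ := fun h => hP₁ fun z hz => by rw [← htr σ P₁ z, h]; exact hz
    have := hx (tr σ P₁)
    rw [Finsupp.single_eq_of_ne h1, htr] at this
    simpa using this
  have hy : x - σ x ≠ 0 := fun h => by
    rw [sub_eq_zero] at h
    rw [h] at hxP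
    exact absurd hσxP (not_le.2 hxP)
  have hne : ∀ R : FunFld.Place k K, R ≠ P₁ → R ≠ Q₀ → R.1 x ≤ 1 ∧ R.1 (σ x) ≤ 1 := by
    intro R h1 h2
    refine ⟨by simpa [Finsupp.single_eq_of_ne h1] using hx R, ?_⟩
    have h3 : tr σ R ≠ P₁ := fun h => h2 (by
      rw [show Q₀ = tr σ.symm P₁ from rfl, ← h]
      exact Subtype.ext (Valuation.ext fun z => by rw [htr, htr, σ.apply_symm_apply]))
    have := hx (tr σ R)
    rw [Finsupp.single_eq_of_ne h3, htr] at this
    simpa using this
  obtain ⟨S, hS, hScard⟩ := Set.exists_subset_encard_eq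
    (show ((2 * g + 3 : ℕ) : ℕ∞) ≤ Set.encard {P : FunFld.Place k K |
      ∀ x : K, P.1 x < 1 → P.1 (σ x) < 1} from by
      have := Order.add_one_le_of_lt h
      exact_mod_cast this)
  have hSfin : S.Finite := Set.finite_of_encard_eq_coe hScard
  have hcard : hSfin.toFinset.card = 2 * g + 3 := by
    rw [hSfin.encard_eq_coe_toFinset_card] at hScard
    exact_mod_cast hScard
  have hle : ∑ R ∈ hSfin.toFinset, Finsupp.single R (1 : ℤ) ≤ FunFld.div k (x - σ x) +
      (Finsupp.single P₁ ((g : ℤ) + 1) + Finsupp.single Q₀ ((g : ℤ) + 1)) := by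
    intro R
    simp only [Finsupp.finsetSum_apply, Finsupp.add_apply,
      Groth.Agent.H23FunFld.div_apply hK, Finsupp.single_apply]
    rw [Finset.sum_ite_eq' hSfin.toFinset R (fun _ => (1 : ℤ))]
    have hP1S : P₁ ∉ S := fun h => hP₁ (hS h)
    have hQS : Q₀ ∉ S := fun h => by
      have h' := hfix Q₀ (hS h)
      rw [hQ₀] at h'
      exact hQP h'.symm
    by_cases hR1 : P₁ = R
    · subst hR1
      rw [if_neg (by simpa using hP1S), if_pos rfl, if_neg hQP]
      have h1 : P₁.1 (x - σ x) ≤ WithZero.exp ((g : ℤ) + 1) := by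
        refine (P₁.1.map_sub _ _).trans (max_le (by simpa using hx P₁) (hσxP.trans ?_))
        rw [← WithZero.exp_zero, WithZero.exp_le_exp]; omega
      have := (Groth.Agent.H23FunFld.val_le_exp_iff P₁ hy).1 h1
      omega
    · by_cases hR2 : Q₀ = R
      · subst hR2
        rw [if_neg (by simpa using hQS), if_neg hR1, if_pos rfl]
        have h1 : Q₀.1 (x - σ x) ≤ WithZero.exp ((g : ℤ) + 1) := by
          refine (Q₀.1.map_sub _ _).trans (max_le ((by simpa [Finsupp.single_eq_of_ne hQP] using hx Q₀ : Q₀.1 x ≤ 1).trans ?_) ?_)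
          · rw [← WithZero.exp_zero, WithZero.exp_le_exp]; omega
          · rw [← htr σ Q₀ x, hQ₀]; simpa using hx P₁
        have := (Groth.Agent.H23FunFld.val_le_exp_iff Q₀ hy).1 h1
        omega
      · rw [if_neg hR1, if_neg hR2]
        obtain ⟨h1, h2⟩ := hne R (Ne.symm hR1) (Ne.symm hR2)
        by_cases hRS : R ∈ hSfin.toFinset
        · rw [if_pos hRS]
          have := (Groth.Agent.H23FunFld.val_lt_one_iff R hy).1
            (hval R (hS (by simpa using hRS)) x h1)
          omega
        · rw [if_neg hRS]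
          have := (Groth.Agent.H23FunFld.val_le_one_iff R hy).1
            ((R.1.map_sub _ _).trans (max_le h1 h2))
          omega
  have h9 := Groth.Agent.H23FunFld.deg_mono hle
  have hsum : ∀ T : Finset (FunFld.Place k K),
      (∑ R ∈ T, Finsupp.single R (1 : ℤ) : FunFld.Divisor k K).deg = T.card := by
    intro T
    induction T using Finset.induction_on with
    | empty => simp [Groth.Agent.H23FunFld.deg_zero]
    | insert a T ha ih =>
      rw [Finset.sum_insert ha, Finset.card_insert_of_notMem ha, Groth.Agent.H23FunFld.deg_add,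
        Groth.Agent.H23FunFld.deg_single, ih, hd1]
      push_cast; ring
  rw [hsum, hcard, Groth.Agent.H23FunFld.deg_add, Groth.Agent.H23FunFld.deg_div hK,
    Groth.Agent.H23FunFld.deg_add, Groth.Agent.H23FunFld.deg_single,
    Groth.Agent.H23FunFld.deg_single, hd1, hd1] at h9
  omega

end Groth.Agent.S11047
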