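import Groth.Statements.S12618
import Mathlib
import Groth.Agent.H23Proj.Weierstrass
import Groth.Agent.S11047

set_option autoImplicit false
open FunFld

namespace Groth.Agent.S12618

/-- Over an algebraically closed constant field of characteristic `0` or greater than `2g - 2`, let `K`
have genus `g > 1` and let the Weierstrass points of `K` be the support of the Weierstrass divisor
`W(φ)` of the canonical map `φ` (a basis of `L(C)`, `C` canonical; the divisor of `ds` in `W` read
through a family of Laurent expansions). Then either the number of Weierstrass points exceeds `2g +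
2` and the automorphism group of `K/k` acts faithfully on them, or that number is exactly `2g + 2`
and the automorphisms fixing all of them are exactly those fixing some `x` with `[K : k(x)] = 2`. -/
theorem result
    (k K : Type*) [Field k] [IsAlgClosed k] [Field K] [Algebra k K]
    (hK : FunFld.IsFunctionField k K) (hg : 1 < FunFld.genus k K)
    (hchar : ringChar k = 0 ∨ 2 * FunFld.genus k K - 2 < ringChar k)
    (C : FunFld.Divisor k K) (hC : FunFld.IsCanonical k K C)
    {n : ℕ} (φ : Fin (n + 1) → K) (hφ : LinearIndependent k φ)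
    (hspan : Submodule.span k (Set.range φ) = FunFld.L C)
    (s : K) (H : K →ₐ[k] PowerSeries K) (hH : LocRes.IsHasseFamily s H)
    (J : Fin n → ℕ) (hJ : FunFld.IsOrders K (FunFld.hcol (AlgHom.id k K) H φ) J)
    (Φ : FunFld.Place k K → (K →ₐ[k] LaurentSeries k))
    (hΦ : ∀ P : FunFld.Place k K, LocRes.IsExpansionAt P.1 (Φ P)) :
    (2 * FunFld.genus k K + 2 < Set.ncard {P : FunFld.Place k K | FunFld.wDiv (AlgHom.id k K) H Φ s φ J P ≠ 0} ∧
      ∀ σ : K ≃ₐ[k] K, (∀ P : FunFld.Place k K, FunFld.wDiv (AlgHom.id k K) H Φ s φ J P ≠ 0 →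
        FunFld.IsFixedPt (σ : K →ₐ[k] K) P) → σ = AlgEquiv.refl) ∨
    (Set.ncard {P : FunFld.Place k K | FunFld.wDiv (AlgHom.id k K) H Φ s φ J P ≠ 0} = 2 * FunFld.genus k K + 2 ∧
      ∃ x : K, Module.finrank (IntermediateField.adjoin k ({x} : Set K)) K = 2 ∧
        ∀ σ : K ≃ₐ[k] K, (∀ P : FunFld.Place k K, FunFld.wDiv (AlgHom.id k K) H Φ s φ J P ≠ 0 →
          FunFld.IsFixedPt (σ : K →ₐ[k] K) P) ↔ σ x = x) := by
  classical
  open Groth.Agent.H23FunFld Groth.Agent.H23Proj in
  have hgen := genus_eq hK hC hφ hspan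
  have hn0 : 0 < n := by omega
  have hchar' : ringChar k = 0 ∨ 2 * (n : ℤ) < ringChar k := hchar.imp id fun h => by omega
  have hd1 := fun Q : FunFld.Place k K => deg_eq_one_of_isAlgClosed hK Q
  set W := FunFld.wDiv (AlgHom.id k K) H Φ s φ J
  have hweight := fun P => weight_eq hK hC hφ hspan hchar' hH hJ hΦ P
  obtain ⟨P₀⟩ := nonempty_place hK
  have hJeq := (hweight P₀).1
  have hset : {P : FunFld.Place k K | W P ≠ 0} = (W.support : Set (FunFld.Place k K)) := by ext P; simp
  have hsum0 : ∀ m : ℕ, 2 * ∑ i ∈ Finset.range m, ((i : ℤ) + 1) = (m : ℤ) * (m + 1) := by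
    intro m
    induction m with
    | zero => simp
    | succ m ih => rw [Finset.sum_range_succ, mul_add, ih]; push_cast; ring
  have hsum : ∀ (f : Fin n → ℤ), (∀ l, f l = (l : ℕ) + 1) → 2 * ∑ l, f l = (n : ℤ) * (n + 1) := by
    intro f hf
    rw [Finset.sum_congr rfl fun l _ => hf l, Fin.sum_univ_eq_sum_range (fun i => ((i : ℕ) : ℤ) + 1)]
    exact hsum0 n
  have hbound : ∀ P, 2 * W P ≤ (n : ℤ) * (n + 1) ∧
      (2 * W P = (n : ℤ) * (n + 1) → ¬ Groth.Agent.H23Curve.IsGap P 2) := by
    intro P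
    obtain ⟨-, J', hmono, hpos, hmem, hW, hle⟩ := hweight P
    have hterm : ∀ l ∈ (Finset.univ : Finset (Fin n)), (J' l : ℤ) - ((l : ℕ) + 1) ≤ ((l : ℕ) : ℤ) + 1 := by
      intro l _; have := hle l; omega
    rw [← hsum (fun l => ((l : ℕ) : ℤ) + 1) (fun l => rfl)]
    refine ⟨by rw [hW]; exact mul_le_mul_of_nonneg_left (Finset.sum_le_sum hterm) zero_le_two, fun heq hgap => ?_⟩
    rw [hW] at heq
    have hall := (Finset.sum_eq_sum_iff_of_le hterm).1 (by linarith)
    obtain ⟨l, hl⟩ := (hmem 1 le_rfl).2 hgap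
    have h1 := hall l (Finset.mem_univ l)
    omega
  -- the number of points
  have hdeg : 2 * ∑ P ∈ W.support, W P = 2 * (n : ℤ) * (n + 1) * (n + 2) := by
    have h1 := deg_wDiv hK hφ (AlgHom.id k K) hH (J := J) hΦ
    have h2 : W.deg = ∑ P ∈ W.support, W P := Finset.sum_congr rfl fun P _ => by
      simp [hd1 P]
    have h3 : Module.finrank (AlgHom.id k K).fieldRange K = 1 := by
      have h4 : (AlgHom.id k K).fieldRange = ⊤ := by ext z; simp
      rw [h4, IntermediateField.finrank_top]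
    rw [h2, h3, deg_mapDiv_canonical hK hC hφ hspan, hgen] at h1
    have h5 := hsum (fun l => (J l : ℤ)) (fun l => by rw [hJeq l]; push_cast; ring)
    rw [h1]
    push_cast
    linear_combination (2 * (n : ℤ)) * h5
  have hcard : 2 * FunFld.genus k K + 2 ≤ W.support.card := by
    have h1 : 2 * ∑ P ∈ W.support, W P ≤ W.support.card * ((n : ℤ) * (n + 1)) := by
      rw [Finset.mul_sum]
      refine (Finset.sum_le_sum fun P _ => (hbound P).1).trans_eq ?_
      rw [Finset.sum_const, nsmul_eq_mul]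
    rw [hdeg] at h1
    have h2 : (0 : ℤ) < (n : ℤ) * (n + 1) := by positivity
    have h3 : ((n : ℤ) * (n + 1)) * (2 * (n + 2)) ≤ ((n : ℤ) * (n + 1)) * W.support.card := by linarith
    have h4 := le_of_mul_le_mul_left h3 h2
    omega
  rcases hcard.lt_or_eq with hlt | heq
  · refine Or.inl ⟨by rw [hset, Set.ncard_coe_finset]; exact hlt, fun σ hσ => ?_⟩
    refine Groth.Agent.S11047.result k K hK σ (lt_of_lt_of_le ?_ (Set.encard_le_encard
      (show (W.support : Set (FunFld.Place k K)) ⊆ _ from fun P hP => hσ P (Finsupp.mem_support_iff.1 hP))))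
    rw [Set.encard_coe_eq_coe_finsetCard]
    exact_mod_cast hlt
  refine Or.inr ⟨by rw [hset, Set.ncard_coe_finset]; exact heq.symm, ?_⟩
  have hmax : ∀ P ∈ W.support, ¬ Groth.Agent.H23Curve.IsGap P 2 := by
    intro P hP
    refine (hbound P).2 ?_
    have h0 : ∑ Q ∈ W.support, (2 * W Q) = ∑ Q ∈ W.support, (n : ℤ) * (n + 1) := by
      rw [← Finset.mul_sum, hdeg, Finset.sum_const, nsmul_eq_mul, ← heq, hgen]
      push_cast
      ring
    exact (Finset.sum_eq_sum_iff_of_le fun Q _ => (hbound Q).1).1 h0 P hP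
  obtain ⟨P, hP⟩ := Finset.card_pos.1 (show 0 < W.support.card by omega)
  obtain ⟨x, hx0, hxL, hxo⟩ := Groth.Agent.H23Curve.exists_ord_of_ne hK (hmax P hP)
  push_cast at hxL hxo
  have hoff : ∀ z : K, z ≠ 0 → z ∈ FunFld.L (Finsupp.single P (2 : ℤ)) → ∀ R, R ≠ P → 0 ≤ R.ord z := by
    intro z hz hzL R hR
    have h3 := (val_le_exp_iff R hz).1 (hzL R)
    rw [Finsupp.single_eq_of_ne hR] at h3
    omega
  have hdeg2 : ∀ z : K, z ≠ 0 → z ∈ FunFld.L (Finsupp.single P (2 : ℤ)) → P.ord z = -2 →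
      Transcendental k z ∧ Module.finrank (IntermediateField.adjoin k ({z} : Set K)) K = 2 := by
    intro z hz hzL hzo
    have htr : Transcendental k z := transcendental_of_val_ne_one P hz (by
      rw [val_eq_exp P hz, hzo, ← WithZero.exp_zero]; exact fun h => by rw [WithZero.exp_inj] at h; omega)
    refine ⟨htr, ?_⟩
    have h1 := deg_poleDiv hK htr
    have h2 : Groth.Agent.H23FunFld.poleDiv (k := k) z = Finsupp.single P (2 : ℤ) := by
      ext R
      rw [poleDiv_apply hK]
      rcases eq_or_ne R P with rfl | hR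
      · rw [Finsupp.single_eq_same, hzo]; omega
      · rw [Finsupp.single_eq_of_ne hR]; have := hoff z hz hzL R hR; omega
    rw [h2, deg_single, hd1] at h1
    push_cast at h1
    omega
  obtain ⟨hxtr, hx2⟩ := hdeg2 x hx0 hxL hxo
  refine ⟨x, hx2, ?_⟩
  have hconstL : ∀ c : k, algebraMap k K c ∈ FunFld.L (Finsupp.single P (2 : ℤ)) := fun c R =>
    (R.2.1 c).trans (by
      rw [← WithZero.exp_zero, WithZero.exp_le_exp, Finsupp.single_apply]
      split <;> omega)
  have hsub : ∀ c : k, x - algebraMap k K c ≠ 0 ∧ x - algebraMap k K c ∈ FunFld.L (Finsupp.single P (2 : ℤ)) ∧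
      P.ord (x - algebraMap k K c) = -2 := by
    intro c
    have hv : P.1 (x - algebraMap k K c) = WithZero.exp (2 : ℤ) := by
      rw [P.1.map_sub_eq_of_lt_left]
      · rw [val_eq_exp P hx0, hxo, neg_neg]
      · rw [val_eq_exp P hx0, hxo, neg_neg]
        exact (P.2.1 c).trans_lt (by rw [← WithZero.exp_zero, WithZero.exp_lt_exp]; omega)
    have hne : x - algebraMap k K c ≠ 0 := fun h => WithZero.exp_ne_zero (by rw [← hv, h, map_zero])
    refine ⟨hne, Submodule.sub_mem _ hxL (hconstL c), ?_⟩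
    rw [val_eq_exp P hne, WithZero.exp_inj] at hv
    omega
  -- the canonical divisor supported at `P`
  have hC' : FunFld.IsCanonical k K (Finsupp.single P (2 * (n : ℤ))) := by
    refine isCanonical_of_ell_deg hK ?_ (by rw [deg_single, hd1, hgen]; push_cast; ring)
    have hlo := Groth.Agent.H23Curve.card_le_ell hK (D := Finsupp.single P (2 * (n : ℤ))) P
      ((Finset.range (n + 1)).image fun i => 2 * i) (by
      intro m hm
      simp only [Finset.mem_image, Finset.mem_range] at hm
      obtain ⟨i, hi, rfl⟩ := hm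
      have hv : P.1 (x ^ (n - i)) = WithZero.exp (2 * ((n - i : ℕ) : ℤ)) := by
        rw [map_pow, val_eq_exp P hx0, hxo, neg_neg, ← WithZero.exp_nsmul, nsmul_eq_mul, mul_comm]
      refine ⟨x ^ (n - i), pow_ne_zero _ hx0, L_mono ?_ (pow_mem_L hxL (n - i)), ?_⟩
      · rw [Finsupp.smul_single, nsmul_eq_mul]
        exact Finsupp.single_mono (by push_cast [Nat.cast_sub (Nat.lt_succ_iff.1 hi)]; linarith)
      · rw [FunFld.Place.ord, hv, WithZero.log_exp, Finsupp.single_eq_same]
        push_cast [Nat.cast_sub (Nat.lt_succ_iff.1 hi)]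
        ring)
    rw [Finset.card_image_of_injective _ (fun a b h => mul_left_cancel₀ two_ne_zero h), Finset.card_range] at hlo
    have hhi := Groth.Agent.H23Curve.clifford hK (D := Finsupp.single P (2 * (n : ℤ))) (by omega)
      (by rw [deg_single, hd1, hgen]; push_cast; omega)
    rw [deg_single, hd1] at hhi
    push_cast at hhi
    omega
  have hfib : ∀ Q ∈ W.support, Q ≠ P → ∃ c : k, 2 ≤ Q.ord (x - algebraMap k K c) := by
    intro Q hQ hQP
    obtain ⟨c, hc⟩ := eq_one_of_isAlgClosed hK Q ((val_le_one_iff Q hx0).2 (hoff x hx0 hxL Q hQP))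
    refine ⟨c, ?_⟩
    obtain ⟨hne, hL, -⟩ := hsub c
    have h1 := (val_lt_one_iff Q hne).1 hc
    by_contra h2
    refine hmax Q hQ (isGap_of_exists hK hC' Q 1 (u := x - algebraMap k K c) (L_mono (Finsupp.single_mono (by omega)) hL) ?_)
    rw [Finsupp.single_eq_of_ne hQP, val_eq_exp Q hne]
    congr 1
    push_cast
    omega
  have huniq : ∀ Q Q' : FunFld.Place k K, ∀ c : k, 2 ≤ Q.ord (x - algebraMap k K c) →
      0 < Q'.ord (x - algebraMap k K c) → Q = Q' := by
    intro Q Q' c h1 h2
    by_contra hne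
    obtain ⟨hne0, hL, ho⟩ := hsub c
    obtain ⟨htr, h3⟩ := hdeg2 _ hne0 hL ho
    have h4 := sum_ord_mul_deg_le hK htr {Q, Q'} (by
      intro R hR
      rcases Finset.mem_insert.1 hR with rfl | hR
      · omega
      · rw [Finset.mem_singleton] at hR; rw [hR]; exact h2)
    rw [Finset.sum_pair hne, hd1, hd1, h3] at h4
    push_cast at h4
    omega
  intro σ
  constructor
  · intro hσ
    have hfixW : ∀ Q ∈ W.support, pullPlace σ Q = Q := fun Q hQ =>
      (isFixedPt_iff hK σ Q).1 (hσ Q (Finsupp.mem_support_iff.1 hQ))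
    -- `σ x = a x + b`
    have hσL : σ x ∈ FunFld.L (Finsupp.single P (2 : ℤ)) :=
      (mem_L_pullPlace σ P 2 x).1 (by rw [hfixW P hP]; exact hxL)
    obtain ⟨a, ha⟩ : ∃ a : k, P.1 (σ x / x - algebraMap k K a) < 1 := by
      refine eq_one_of_isAlgClosed hK P ?_
      rw [map_div₀, val_eq_exp P hx0, hxo, neg_neg, div_le_one₀ (WithZero.exp_pos)]
      have := hσL P
      rwa [Finsupp.single_eq_same] at this
    obtain ⟨b, hb⟩ : ∃ b : k, σ x = algebraMap k K a * x + algebraMap k K b := by
      have hL1 : σ x - algebraMap k K a * x ∈ FunFld.L (Finsupp.single P (1 : ℤ)) := by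
        intro R
        rcases eq_or_ne R P with rfl | hR
        · rw [Finsupp.single_eq_same, show σ x - algebraMap k K a * x = (σ x / x - algebraMap k K a) * x by
            field_simp, map_mul, val_eq_exp R hx0, hxo, neg_neg]
          rcases eq_or_ne (σ x / x - algebraMap k K a) 0 with h0 | h0
          · rw [h0, map_zero, zero_mul]; exact zero_le
          have h1 := (val_lt_one_iff R h0).1 ha
          rw [val_eq_exp R h0, ← WithZero.exp_add, WithZero.exp_le_exp]
          omega
        · have h1 := (FunFld.L (Finsupp.single P (2 : ℤ))).sub_mem hσL ((FunFld.L (Finsupp.single P (2 : ℤ))).smul_mem a hxL) R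
          rw [Algebra.smul_def, Finsupp.single_eq_of_ne hR] at h1
          rwa [Finsupp.single_eq_of_ne hR]
      obtain ⟨u, hu, huv⟩ := canonical_bpf hK (by omega) hC P
      have hgap1 := isGap_of_exists hK hC P 0 hu (by simpa using huv)
      have hgap1' : FunFld.L (Finsupp.single P (1 : ℤ)) = FunFld.L (0 : FunFld.Divisor k K) := by
        have h1 : FunFld.L (Finsupp.single P ((1 : ℕ) : ℤ)) = FunFld.L (Finsupp.single P (((1 : ℕ) : ℤ) - 1)) := hgap1
        simpa using h1
      rw [hgap1', L_zero hK] at hL1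
      obtain ⟨b, hb⟩ := Submodule.mem_one.1 hL1
      exact ⟨b, by rw [hb]; ring⟩
    have heqc : ∀ Q ∈ W.support, Q ≠ P → ∀ c : k, 2 ≤ Q.ord (x - algebraMap k K c) → a * c + b = c := by
      intro Q hQ hQP c hc
      obtain ⟨hne, -, -⟩ := hsub c
      have hlt : Q.1 (x - algebraMap k K c) < 1 := (val_lt_one_iff Q hne).2 (by omega)
      have h1 : Q.1 (σ x - algebraMap k K c) < 1 := by
        have : (pullPlace σ Q).1 (x - algebraMap k K c) < 1 := by rw [hfixW Q hQ]; exact hlt
        rwa [pullPlace_apply, map_sub, σ.commutes] at this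
      by_contra hne'
      have h2 : Q.1 (algebraMap k K (a * c + b - c)) < 1 := by
        rw [show algebraMap k K (a * c + b - c) =
            (σ x - algebraMap k K c) - algebraMap k K a * (x - algebraMap k K c) by
          rw [hb, map_sub, map_add, map_mul]; ring]
        refine (Q.1.map_sub _ _).trans_lt (max_lt h1 ?_)
        rw [map_mul]
        exact (mul_le_of_le_one_left zero_le (Q.2.1 a)).trans_lt hlt
      rw [val_const Q (sub_ne_zero.2 hne')] at h2
      exact lt_irrefl _ h2
    obtain ⟨Q₁, hQ₁⟩ := Finset.card_pos.1 (show 0 < (W.support.erase P).card by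
      rw [Finset.card_erase_of_mem hP]; omega)
    obtain ⟨Q₂, hQ₂⟩ := Finset.card_pos.1 (show 0 < ((W.support.erase P).erase Q₁).card by
      rw [Finset.card_erase_of_mem hQ₁, Finset.card_erase_of_mem hP]; omega)
    obtain ⟨hQ₂₁, hQ₂'⟩ := Finset.mem_erase.1 hQ₂
    obtain ⟨hQ₁P, hQ₁W⟩ := Finset.mem_erase.1 hQ₁
    obtain ⟨hQ₂P, hQ₂W⟩ := Finset.mem_erase.1 hQ₂'
    obtain ⟨c₁, hc₁⟩ := hfib Q₁ hQ₁W hQ₁P
    obtain ⟨c₂, hc₂⟩ := hfib Q₂ hQ₂W hQ₂P
    have hc12 : c₁ ≠ c₂ := fun h => hQ₂₁ (huniq Q₂ Q₁ c₂ hc₂ (by rw [← h]; omega))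
    have e1 := heqc Q₁ hQ₁W hQ₁P c₁ hc₁
    have e2 := heqc Q₂ hQ₂W hQ₂P c₂ hc₂
    have ha1 : a = 1 := by
      have h := mul_right_cancel₀ (sub_ne_zero.2 hc12) (show a * (c₁ - c₂) = 1 * (c₁ - c₂) by
        linear_combination e1 - e2)
      exact h
    have hb0 : b = 0 := by
      rw [ha1] at e1
      linear_combination e1
    rw [hb, ha1, hb0, map_one, map_zero, one_mul, add_zero]
  · intro hσ Q hQ
    refine (isFixedPt_iff hK σ Q).2 ?_
    have hvx : ∀ z : K, σ z = z → (pullPlace σ Q).1 z = Q.1 z := fun z hz => by rw [pullPlace_apply, hz]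
    rcases eq_or_ne Q P with rfl | hQP
    · by_contra hne
      have h1 := hvx x hσ
      rw [val_eq_exp Q hx0, hxo] at h1
      have h2 := hoff x hx0 hxL _ hne
      rw [val_eq_exp (pullPlace σ Q) hx0, WithZero.exp_inj] at h1
      omega
    · obtain ⟨c, hc⟩ := hfib Q (Finsupp.mem_support_iff.2 hQ) hQP
      obtain ⟨hne, -, -⟩ := hsub c
      have h1 := hvx (x - algebraMap k K c) (by rw [map_sub, hσ, σ.commutes])
      rw [val_eq_exp (pullPlace σ Q) hne, val_eq_exp Q hne, WithZero.exp_inj] at h1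
      exact (huniq Q _ c hc (by omega)).symm

end Groth.Agent.S12618
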