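import Groth.Statements.S11048
import Mathlib
import Groth.Agent.S12618

set_option autoImplicit false
open FunFld

namespace Groth.Agent.S11048

/-- Over an algebraically closed constant field of characteristic `0` or greater than `2g - 2`, a
function field of one variable of genus `g > 1` has only finitely many automorphisms over the
constants. -/
theorem result
    (k K : Type*) [Field k] [IsAlgClosed k] [Field K] [Algebra k K]
    (hK : FunFld.IsFunctionField k K) (hg : 1 < FunFld.genus k K)
    (hp : ringChar k = 0 ∨ 2 * FunFld.genus k K - 2 < ringChar k) :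
    Finite (K ≃ₐ[k] K) := by
  classical
  open Groth.Agent.H23FunFld Groth.Agent.H23Proj in
  obtain ⟨C, hC⟩ := exists_isCanonical hK
  obtain ⟨n, hn⟩ : ∃ n, FunFld.genus k K = n + 1 := ⟨FunFld.genus k K - 1, by omega⟩
  haveI := finiteDimensional_L hK C
  let φb := Module.finBasisOfFinrankEq k (FunFld.L C) (n := n + 1) ((canonical_ell_deg hK hC).1.trans hn)
  let φ : Fin (n + 1) → K := fun i => (φb i : K)
  have hφ : LinearIndependent k φ := φb.linearIndependent.map' (FunFld.L C).subtype (Submodule.ker_subtype _)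
  have hspan : Submodule.span k (Set.range φ) = FunFld.L C := by
    rw [show Set.range φ = (FunFld.L C).subtype '' Set.range φb by rw [← Set.range_comp]; rfl,
      Submodule.span_image, φb.span_eq, Submodule.map_subtype_top]
  obtain ⟨P₀⟩ := nonempty_place hK
  obtain ⟨s, -, hs⟩ := exists_val_eq P₀ (-1)
  obtain ⟨H, hH⟩ := Groth.Agent.H23Diff.exists_hasseFamily hK (Groth.Agent.H23Geom.isGeometric_of_perfectField hK)
    (Groth.Agent.H23Diff.D_ne_zero_param' hK hs)
  obtain ⟨J, hJ, -⟩ := Groth.Agent.S12600.result k K hK φ hφ (AlgHom.id k K) s H hH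
  choose Φ hΦ using fun R : FunFld.Place k K => Groth.Agent.H23Diff.exists_expansion hK R
  have hchar' : ringChar k = 0 ∨ 2 * (n : ℤ) < ringChar k := hp.imp id fun h => by omega
  set W := FunFld.wDiv (AlgHom.id k K) H Φ s φ J
  let Wset : Set (FunFld.Place k K) := {P | W P ≠ 0}
  haveI : Finite Wset := (W.finite_support).to_subtype
  have hinv : ∀ (σ : K ≃ₐ[k] K) (P : FunFld.Place k K), W (pullPlace σ P) = W P := by
    intro σ P
    obtain ⟨-, J₁, hm₁, hp₁, hmem₁, hW₁, -⟩ := weight_eq hK hC hφ hspan hchar' hH hJ hΦ P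
    obtain ⟨-, J₂, hm₂, hp₂, hmem₂, hW₂, -⟩ := weight_eq hK hC hφ hspan hchar' hH hJ hΦ (pullPlace σ P)
    have e : J₂ = J₁ := by
      refine (hm₂.range_inj hm₁).1 (Set.ext fun j => ?_)
      rcases Nat.eq_zero_or_pos j with rfl | hj
      · constructor <;> rintro ⟨l, hl⟩
        · have := hp₂ l; omega
        · have := hp₁ l; omega
      · rw [hmem₁ j hj, hmem₂ j hj, isGap_pullPlace]
    rw [show W P = _ from hW₁, show W (pullPlace σ P) = _ from hW₂, e]
  let perm : (K ≃ₐ[k] K) → (Wset → Wset) := fun σ P => ⟨pullPlace σ P.1, by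
    change W (pullPlace σ P.1) ≠ 0
    rw [hinv]; exact P.2⟩
  let ker : Set (K ≃ₐ[k] K) := {σ | ∀ P ∈ Wset, FunFld.IsFixedPt (σ : K →ₐ[k] K) P}
  have hker : ker.Finite := by
    rcases Groth.Agent.S12618.result k K hK hg hp C hC φ hφ hspan s H hH J hJ Φ hΦ with ⟨-, h⟩ | ⟨-, x, hx2, h⟩
    · exact (Set.finite_singleton AlgEquiv.refl).subset fun σ hσ => h σ hσ
    · haveI : FiniteDimensional (IntermediateField.adjoin k ({x} : Set K)) K :=
        Module.finite_of_finrank_pos (by omega)
      refine Set.Finite.subset (Set.finite_range fun τ : K ≃ₐ[IntermediateField.adjoin k ({x} : Set K)] K =>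
        τ.restrictScalars k) fun σ hσ => ?_
      have hx : σ x = x := (h σ).1 hσ
      have hfix : ∀ z ∈ IntermediateField.adjoin k ({x} : Set K), σ z = z := by
        intro z hz
        induction hz using IntermediateField.adjoin_induction with
        | mem v hv => rw [Set.mem_singleton_iff.1 hv, hx]
        | algebraMap c => exact σ.commutes c
        | add u v _ _ hu hv => rw [map_add, hu, hv]
        | inv u _ hu => rw [map_inv₀, hu]
        | mul u v _ _ hu hv => rw [map_mul, hu, hv]
      exact ⟨AlgEquiv.ofRingEquiv (f := σ.toRingEquiv) fun z => hfix z z.2, AlgEquiv.ext fun z => rfl⟩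
  refine Set.finite_univ_iff.1 ?_
  refine ((Set.finite_univ (α := Wset → Wset)).biUnion (t := fun f => {σ | perm σ = f}) fun f _ => ?_).subset
    fun σ _ => Set.mem_iUnion₂.2 ⟨perm σ, Set.mem_univ _, rfl⟩
  rcases Set.eq_empty_or_nonempty {σ | perm σ = f} with h0 | ⟨τ, hτ⟩
  · rw [h0]; exact Set.finite_empty
  refine (hker.image fun ρ => τ.trans ρ).subset fun σ hσ => ?_
  refine ⟨τ.symm.trans σ, fun P hP => ?_, AlgEquiv.ext fun z => ?_⟩
  · have he : pullPlace σ P = pullPlace τ P := congrArg Subtype.val (congrFun (hσ.trans hτ.symm) ⟨P, hP⟩)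
    refine (isFixedPt_iff hK (τ.symm.trans σ) P).2 ?_
    have h1 : pullPlace (τ.symm.trans σ) P = pullPlace τ.symm (pullPlace σ P) :=
      Subtype.ext (Valuation.ext fun z => rfl)
    rw [h1, he, symm_pullPlace]
  · change σ (τ.symm (τ z)) = σ z
    rw [τ.symm_apply_apply]

end Groth.Agent.S11048
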