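import Groth.Statements.S11049
import Mathlib.LinearAlgebra.FiniteDimensional.Lemmas
import Mathlib.LinearAlgebra.Isomorphisms
import Mathlib.RingTheory.Finiteness.Quotient
import Mathlib.RingTheory.Ideal.Quotient.Operations

set_option autoImplicit false
open CAlg

namespace Groth.Agent.S11049

/-- For `k`-algebras `S ⊆ R` with `R` an integral domain and a nonzero `x ∈ S`, if `R/S` and `R/Rx` are
finite-dimensional over `k` then `dim_k R/Rx = dim_k S/Sx`. (The published statement allows `x = 0`;
then `R` is a field finite over `k` and the two sides are `dim_k R` and `dim_k S`, which differ for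
`S = k ⊊ R`; the published proof multiplies by `x` as an injection, so `x ≠ 0` is assumed here.) -/
theorem result
    (k R : Type*) [Field k] [CommRing R]
    [IsDomain R] [Algebra k R] (S : Subalgebra k R) (x : S) (hx : (x : R) ≠ 0)
    [Module.Finite k (R ⧸ Subalgebra.toSubmodule S)]
    [Module.Finite k (R ⧸ Ideal.span {(x : R)})] :
    Module.finrank k (R ⧸ Ideal.span {(x : R)}) = Module.finrank k (S ⧸ Ideal.span {x}) := by
  classical
  let μ : R →ₗ[k] R := LinearMap.mulLeft k (x : R)
  have hμ : Function.Injective μ := fun a b h => mul_left_cancel₀ hx h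
  let S' : Submodule k R := Subalgebra.toSubmodule S
  let XR : Submodule k R := LinearMap.range μ
  let XS : Submodule k R := Submodule.map μ S'
  have hXR : XR = (Ideal.span {(x : R)}).restrictScalars k := by
    ext a
    simp [XR, μ, Ideal.mem_span_singleton, dvd_iff_exists_eq_mul_left, eq_comm, mul_comm]
  -- dimensions of the two pieces in each chain
  let e1 : (R ⧸ S') ≃ₗ[k] (XR ⧸ Submodule.comap XR.subtype XS) :=
    Submodule.Quotient.equiv S' _ (LinearEquiv.ofInjective μ hμ) (by
      ext a
      simp only [Submodule.mem_map, Submodule.mem_comap, Submodule.coe_subtype, XS]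
      exact ⟨fun ⟨b, hb, hb'⟩ => ⟨b, hb, congr_arg Subtype.val hb'⟩,
        fun ⟨b, hb, hb'⟩ => ⟨b, hb, Subtype.ext hb'⟩⟩)
  have hle1 : XS ≤ XR := LinearMap.map_le_range
  have hle2 : XS ≤ S' := by
    rintro _ ⟨a, ha, rfl⟩
    exact S.mul_mem x.2 ha
  let f : (R ⧸ XS) →ₗ[k] (R ⧸ XR) := Submodule.factor hle1
  let g : (R ⧸ XS) →ₗ[k] (R ⧸ S') := Submodule.factor hle2
  haveI : Module.Finite k (R ⧸ XR) := by
    rw [hXR]
    exact Module.Finite.equiv (Submodule.Quotient.restrictScalarsEquiv k (Ideal.span {(x : R)})).symm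
      |> fun h => h
  haveI : Module.Finite k (XR ⧸ Submodule.comap XR.subtype XS) := Module.Finite.equiv e1
  haveI : Module.Finite k (Submodule.map XS.mkQ XR) :=
    Module.Finite.equiv (LinearMap.quotKerEquivRange (XS.mkQ ∘ₗ XR.subtype) ≪≫ₗ
      LinearEquiv.ofEq _ _ (by rw [LinearMap.range_comp, Submodule.range_subtype]) |> fun e =>
      (Submodule.quotEquivOfEq _ _ (by rw [LinearMap.ker_comp, Submodule.ker_mkQ])).trans e)
  haveI : Module.Finite k ((R ⧸ XS) ⧸ Submodule.map XS.mkQ XR) :=
    Module.Finite.equiv (Submodule.quotientQuotientEquivQuotient XS XR hle1).symm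
  haveI : Module.Finite k (R ⧸ XS) := Module.Finite.of_submodule_quotient (Submodule.map XS.mkQ XR)
  have key : ∀ (W : Submodule k R) (hW : XS ≤ W), Module.finrank k (R ⧸ XS) =
      Module.finrank k (R ⧸ W) + Module.finrank k (W ⧸ Submodule.comap W.subtype XS) := by
    intro W hW
    rw [← (Submodule.quotientQuotientEquivQuotient XS W hW).finrank_eq,
      ← Submodule.finrank_quotient_add_finrank (Submodule.map XS.mkQ W)]
    congr 1
    refine LinearEquiv.finrank_eq (LinearEquiv.symm ?_)
    exact (Submodule.quotEquivOfEq _ _ (by rw [LinearMap.ker_comp, Submodule.ker_mkQ])).trans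
      (LinearMap.quotKerEquivRange (XS.mkQ ∘ₗ W.subtype) ≪≫ₗ
        LinearEquiv.ofEq _ _ (by rw [LinearMap.range_comp, Submodule.range_subtype]))
  have h := (key XR hle1).symm.trans (key S' hle2)
  rw [← e1.finrank_eq] at h
  have hR : Module.finrank k (R ⧸ Ideal.span {(x : R)}) = Module.finrank k (R ⧸ XR) := by
    rw [hXR]; exact ((Submodule.Quotient.restrictScalarsEquiv k _).finrank_eq).symm
  have hS : Module.finrank k (S ⧸ Ideal.span {x}) = Module.finrank k (S' ⧸ Submodule.comap S'.subtype XS) := by
    rw [← (Submodule.Quotient.restrictScalarsEquiv k (Ideal.span {x})).finrank_eq]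
    refine (Submodule.quotEquivOfEq _ _ ?_).finrank_eq
    ext a
    simp only [Submodule.restrictScalars_mem, Ideal.mem_span_singleton, Submodule.mem_comap, XS,
      Submodule.mem_map, Submodule.coe_subtype]
    constructor
    · rintro ⟨b, rfl⟩; exact ⟨b, b.2, rfl⟩
    · rintro ⟨b, hb, hb'⟩; exact ⟨⟨b, hb⟩, Subtype.ext hb'.symm⟩
  rw [hR, hS]
  omega

end Groth.Agent.S11049
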