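import Groth.Statements.S11050
import Mathlib
import Groth.Agent.H23Geom.Criteria

set_option autoImplicit false
open FunFld

namespace Groth.Agent.S11050

/-- Over an algebraically closed constant field, let `W` be a finite-dimensional subspace of the
function field `K` containing `1` and generating `K` over `k` (the span of an effective birational
projective map). Then `W` contains a separating variable `x`, and for each separating `x ∈ W` some
`y ∈ W` gives `K = k(x, y)`. -/
theorem result
    (k K : Type*) [Field k] [IsAlgClosed k] [Field K] [Algebra k K]
    (hK : FunFld.IsFunctionField k K) (W : Submodule k K)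
    [FiniteDimensional k W] (h1 : (1 : K) ∈ W)
    (hW : IntermediateField.adjoin k (W : Set K) = ⊤) :
    (∃ x ∈ W, Algebra.IsSeparable (IntermediateField.adjoin k ({x} : Set K)) K) ∧
    ∀ x ∈ W, Algebra.IsSeparable (IntermediateField.adjoin k ({x} : Set K)) K →
      ∃ y ∈ W, IntermediateField.adjoin k ({x, y} : Set K) = ⊤ := by
  classical
  have hg := Groth.Agent.H23Geom.isGeometric_of_perfectField (k := k) (K := K) hK
  refine ⟨?_, fun x hx hsep => ?_⟩
  · by_contra hno
    simp only [not_exists, not_and] at hno
    obtain ⟨x₀, -, hsep₀⟩ := Groth.Agent.H23Geom.exists_separating hK hg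
    haveI := hsep₀
    refine Groth.Agent.H23Geom.D_ne_zero hK (x := x₀) ?_
    have hz : ∀ w ∈ IntermediateField.adjoin k (W : Set K), KaehlerDifferential.D k K w = 0 := by
      intro w hw
      induction hw using IntermediateField.adjoin_induction with
      | mem v hv =>
        by_contra hne
        exact hno v hv (Groth.Agent.H23Geom.isSeparable_of_D_ne_zero hK hg hne)
      | algebraMap c => exact Derivation.map_algebraMap _ c
      | add a b _ _ ha hb => rw [map_add, ha, hb, add_zero]
      | inv a _ ha => rw [Derivation.leibniz_inv, ha, smul_zero]
      | mul a b _ _ ha hb => rw [Derivation.leibniz, ha, hb, smul_zero, smul_zero, add_zero]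
    exact hz x₀ (hW ▸ IntermediateField.mem_top)
  · haveI := hsep
    have htr := Groth.Agent.H23Geom.transcendental_of_isSeparable hK (x := x)
    haveI := Groth.Agent.H23FunFld.finiteDimensional_adjoin hK htr
    set E := IntermediateField.adjoin k ({x} : Set K)
    haveI : Finite (IntermediateField E K) :=
      Field.finite_intermediateField_of_exists_primitive_element E K (Field.exists_primitive_element E K)
    let p : {F : IntermediateField E K // F ≠ ⊤} → Submodule k W := fun F =>
      (Subalgebra.toSubmodule ((F : IntermediateField E K).restrictScalars k).toSubalgebra).comap W.subtype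
    have hp : ∀ F, p F ≠ ⊤ := by
      rintro ⟨F, hF⟩ htop
      refine hF (eq_top_iff.2 fun z _ => ?_)
      have hle : IntermediateField.adjoin k (W : Set K) ≤ F.restrictScalars k :=
        IntermediateField.adjoin_le_iff.2 fun w hw => (htop ▸ Submodule.mem_top : (⟨w, hw⟩ : W) ∈ p ⟨F, hF⟩)
      exact hle (hW ▸ IntermediateField.mem_top)
    obtain ⟨⟨y, hy⟩, hy'⟩ := Submodule.exists_forall_notMem_of_forall_ne_top p hp
    refine ⟨y, hy, ?_⟩
    have htop : IntermediateField.adjoin E ({y} : Set K) = ⊤ := by
      by_contra hne
      exact hy' ⟨_, hne⟩ (IntermediateField.mem_adjoin_simple_self E y)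
    have := congrArg (IntermediateField.restrictScalars k) htop
    rw [IntermediateField.restrictScalars_top, IntermediateField.adjoin_simple_adjoin_simple] at this
    exact this

end Groth.Agent.S11050
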