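import Groth.Statements.S11051
import Groth.Agent.H23Res.Param
import Groth.Agent.H23Geom.Unram
import Groth.Agent.H23Geom.Separating
import Groth.Agent.H23Geom.Criteria
import Groth.Agent.H23Proj.Basic
import Groth.Agent.H23Ext.OverFF
import Groth.Agent.H23FunFld.Approx

set_option autoImplicit false
open FunFld

namespace Groth.Agent.S11051

/-- Over an algebraically closed constant field, for every separating variable `x` of a function field
`K` of one variable (`K` separable over `k(x)`) there is `y` with `K = k(x, y)` such that the span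
of `1, x, y` contains a local parameter at every place. (The published statement takes any `x`; this
row takes `x` separating, which is what the published proof uses, since it works with the finitely
many places ramified over `k(x)`: for a constant `x` the conclusion fails for every `K`, and in
characteristic `p` it fails for `K = k(t)`, `x = t^p`, where every place is ramified over `k(x)` and
no element of the span has order one at the place at infinity or, if `y` is not a polynomial in `t`,
at a pole of `y`.) -/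
theorem result
    (k K : Type*) [Field k] [IsAlgClosed k] [Field K] [Algebra k K]
    (hK : FunFld.IsFunctionField k K) (x : K)
    (hsep : Algebra.IsSeparable (IntermediateField.adjoin k ({x} : Set K)) K) :
    ∃ y : K, IntermediateField.adjoin k ({x, y} : Set K) = ⊤ ∧
      ∀ P : FunFld.Place k K, ∃ f ∈ Submodule.span k ({1, x, y} : Set K),
        P.1 f = WithZero.exp (-1) := by
  classical
  haveI := hsep
  have hx : Transcendental k x := H23Geom.transcendental_of_isSeparable hK
  have hx0 : x ≠ 0 := fun h => hx (h ▸ isAlgebraic_zero)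
  haveI := H23FunFld.finiteDimensional_adjoin hK hx
  set E := IntermediateField.adjoin k ({x} : Set K) with hEdef
  obtain ⟨hE, -⟩ := H23Geom.isGeometric_of_le hK (H23Geom.isGeometric_of_perfectField hK) E
    ⟨x, IntermediateField.mem_adjoin_simple_self k x, hx⟩
  obtain ⟨S, hS, hbad⟩ := H23Geom.exists_bad (K' := K) hE
  have hSfin : (S ∪ {P : FunFld.Place k K | ¬ P.1 x ≤ 1}).Finite := by
    refine hS.union ((H23FunFld.finite_zeros hK x⁻¹).subset fun P hP => ?_)
    simp only [Set.mem_ofPred_eq] at hP ⊢
    rw [H23FunFld.val_le_one_iff P hx0] at hP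
    rw [H23FunFld.ord_inv]
    omega
  set T := hSfin.toFinset with hT
  have hres : ∀ P : FunFld.Place k K, P.1 x ≤ 1 → ∃ c : k, P.1 (x - algebraMap k K c) < 1 := fun P hP =>
    H23Proj.eq_one_of_isAlgClosed hK P hP
  choose! val hval using hres
  obtain ⟨c₀, hc₀⟩ := Infinite.exists_notMem_finset (T.image val)
  have htr₀ : Transcendental k (x - algebraMap k K c₀) := fun h => hx (by
    simpa using h.add (isAlgebraic_algebraMap (R := k) (A := K) c₀))
  obtain ⟨P₀, hP₀⟩ := H23FunFld.exists_place_lt_one hK htr₀
  obtain ⟨R, hR⟩ := H23Ext.exists_below (K := E) hE.1 P₀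
  set g : E := IntermediateField.AdjoinSimple.gen k x
  have hover : ∀ Q : FunFld.Place k K, FunFld.IsOver Q R → Q.1 (x - algebraMap k K c₀) < 1 := by
    intro Q hQ
    obtain ⟨e, he⟩ := hQ
    obtain ⟨e₀, he₀⟩ := hR
    have h : algebraMap E K (g - algebraMap k E c₀) = x - algebraMap k K c₀ := by
      rw [map_sub, ← IsScalarTower.algebraMap_apply]; rfl
    rw [← h, he, pow_lt_one_iff_of_nonneg zero_le (H23Ext.IsOverWith.pos he).ne',
      ← pow_lt_one_iff_of_nonneg zero_le (H23Ext.IsOverWith.pos he₀).ne', ← he₀, h]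
    exact hP₀
  set Qs := (H23Ext.finite_isOver' (K' := K) hE.1 R).toFinset
  have hQs : ∀ Q, Q ∈ Qs ↔ FunFld.IsOver Q R := fun Q => Set.Finite.mem_toFinset _
  have hQx : ∀ Q ∈ Qs, Q.1 x ≤ 1 := fun Q hQ => by
    have h := Q.1.map_add (x - algebraMap k K c₀) (algebraMap k K c₀)
    rw [sub_add_cancel] at h
    exact h.trans (max_le (hover Q ((hQs Q).1 hQ)).le (Q.2.1 c₀))
  have hQT : ∀ Q ∈ Qs, Q ∉ T := fun Q hQ hQT' => by
    refine hc₀ (Finset.mem_image.2 ⟨Q, hQT', ?_⟩)
    by_contra hne
    have h1 := (Q.1.map_sub (x - algebraMap k K c₀) (x - algebraMap k K (val Q))).trans_lt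
      (max_lt (hover Q ((hQs Q).1 hQ)) (hval Q (hQx Q hQ)))
    rw [sub_sub_sub_cancel_left, ← map_sub, H23FunFld.val_const Q (sub_ne_zero.2 hne)] at h1
    exact lt_irrefl _ h1
  have hdeg1 : R.deg = 1 := H23Proj.deg_eq_one_of_isAlgClosed hE R
  have hcard : Qs.card = Module.finrank E K := by
    have h := H23Ext.sum_ramIdx_mul_deg' hE.1 R Qs hQs
    rw [hdeg1, mul_one, Finset.sum_congr rfl fun Q hQ => (?_ : _ = 1), Finset.sum_const, smul_eq_mul, mul_one] at h
    · exact h
    · have hQS : Q ∉ S := fun h => hQT Q hQ (by simp [hT, h])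
      rw [H23Ext.ramIdx_eq (hbad Q hQS R ((hQs Q).1 hQ)).1, H23Proj.deg_eq_one_of_isAlgClosed hK, mul_one]
  -- the targets
  choose t _ ht using fun P : FunFld.Place k K => H23FunFld.exists_val_eq P (-1)
  let num : FunFld.Place k K → k := fun P =>
    if h : P ∈ Qs then Infinite.natEmbedding k (Qs.equivFin ⟨P, h⟩) else 0
  obtain ⟨y, hy⟩ := H23FunFld.approximation (T ∪ Qs)
    (fun P => if P ∈ T then t P else algebraMap k K (num P)) (fun _ => -2)
  have htop : IntermediateField.adjoin E ({y} : Set K) = ⊤ := by
    set L := IntermediateField.adjoin E ({y} : Set K)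
    by_contra hne
    have hlt : Module.finrank E L < Module.finrank E K := lt_of_le_of_ne (Submodule.finrank_le L.toSubalgebra.toSubmodule)
      fun h => hne (IntermediateField.eq_of_le_of_finrank_eq le_top (by rw [IntermediateField.finrank_top', h]))
    haveI : IsScalarTower k L K := IsScalarTower.of_algebraMap_eq fun _ => rfl
    have hL : H23Ext.IsFF k L := H23Ext.isFF_extension (K' := L) hE.1
    choose B hB using fun Q : FunFld.Place k K => H23Ext.exists_below (K := L) hL Q
    set Ls := (H23Ext.finite_isOver' (K' := L) hE.1 R).toFinset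
    have hLs : ∀ Q, Q ∈ Ls ↔ FunFld.IsOver Q R := fun Q => Set.Finite.mem_toFinset _
    have hLcard : Ls.card ≤ Module.finrank E L := by
      have h := H23Ext.sum_ramIdx_mul_deg' hE.1 R Ls hLs
      rw [hdeg1, mul_one] at h
      rw [← h, Finset.card_eq_sum_ones]
      refine Finset.sum_le_sum fun Q hQ => ?_
      obtain ⟨e, he⟩ := (hLs Q).1 hQ
      rw [H23Ext.ramIdx_eq he]
      exact Nat.mul_pos (H23Ext.IsOverWith.pos he) (H23Ext.deg_pos' hL Q)
    have hmap : ∀ Q ∈ Qs, B Q ∈ Ls := by
      intro Q hQ
      obtain ⟨R', hR'⟩ := H23Ext.exists_below (K := E) hE.1 (B Q)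
      obtain ⟨e₁, he₁⟩ := hB Q
      obtain ⟨e₂, he₂⟩ := hR'
      have hQR' : FunFld.IsOver Q R' := ⟨e₂ * e₁, fun z => by
        rw [IsScalarTower.algebraMap_apply E L K, he₁, he₂, ← pow_mul]⟩
      exact (hLs _).2 ((H23Ext.isOver_unique ((hQs Q).1 hQ) hQR').symm ▸ (⟨e₂, he₂⟩ : FunFld.IsOver (B Q) R'))
    obtain ⟨Q, hQ, Q', hQ', hne', hBB⟩ := Finset.exists_ne_map_eq_of_card_lt_of_maps_to
      (hLcard.trans_lt (hlt.trans_eq hcard.symm)) hmap
    obtain ⟨e₁, he₁⟩ := hB Q
    obtain ⟨e₂, he₂⟩ := hB Q'
    set z : L := ⟨y, IntermediateField.mem_adjoin_simple_self E y⟩ - algebraMap k L (num Q) with hz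
    have hzK : algebraMap L K z = y - algebraMap k K (num Q) := by
      rw [hz, map_sub, ← IsScalarTower.algebraMap_apply]; rfl
    have hsm : (WithZero.exp (-2) : WithZero (Multiplicative ℤ)) < 1 := by
      rw [← WithZero.exp_zero, WithZero.exp_lt_exp]; norm_num
    have h1 : Q.1 (y - algebraMap k K (num Q)) < 1 := by
      have h := hy Q (Finset.mem_union_right _ hQ)
      rw [if_neg (hQT Q hQ)] at h
      exact h.trans_lt hsm
    have h2 : Q'.1 (y - algebraMap k K (num Q)) = 1 := by
      have h := hy Q' (Finset.mem_union_right _ hQ')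
      rw [if_neg (hQT Q' hQ')] at h
      have hnum : num Q' - num Q ≠ 0 := sub_ne_zero.2 fun he => hne' (by
        simp only [num, dif_pos hQ, dif_pos hQ'] at he
        have := Qs.equivFin.injective (Fin.ext ((Infinite.natEmbedding k).injective he))
        exact (Subtype.ext_iff.1 this).symm)
      rw [show y - algebraMap k K (num Q) = algebraMap k K (num Q' - num Q) + (y - algebraMap k K (num Q')) by
        rw [map_sub]; ring, Q'.1.map_add_eq_of_lt_left, H23FunFld.val_const Q' hnum]
      rw [H23FunFld.val_const Q' hnum]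
      exact h.trans_lt hsm
    rw [← hzK, he₁, pow_lt_one_iff_of_nonneg zero_le (H23Ext.IsOverWith.pos he₁).ne', hBB] at h1
    rw [← hzK, he₂] at h2
    exact (pow_lt_one₀ zero_le h1 (H23Ext.IsOverWith.pos he₂).ne').ne h2
  refine ⟨y, ?_, fun P => ?_⟩
  · rw [← Set.singleton_union, ← IntermediateField.adjoin_adjoin_left, htop, IntermediateField.restrictScalars_top]
  by_cases hP : P ∈ T
  · refine ⟨y, Submodule.subset_span (by simp), ?_⟩
    have h := hy P (Finset.mem_union_left _ hP)
    rw [if_pos hP] at h
    rw [show y = t P + (y - t P) by ring, P.1.map_add_eq_of_lt_left, ht]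
    rw [ht]
    exact h.trans_lt (WithZero.exp_lt_exp.2 (by norm_num))
  · simp only [hT, Set.Finite.mem_toFinset, Set.mem_union, Set.mem_ofPred_eq, not_or, not_not] at hP
    obtain ⟨hPS, hPx⟩ := hP
    refine ⟨x - algebraMap k K (val P), Submodule.sub_mem _ (Submodule.subset_span (by simp)) ?_, ?_⟩
    · rw [Algebra.algebraMap_eq_smul_one]
      exact Submodule.smul_mem _ _ (Submodule.subset_span (by simp))
    · obtain ⟨R', hR'⟩ := H23Ext.exists_below (K := E) hE.1 P
      have he : ∀ f, P.1 (algebraMap E K f) = R'.1 f := fun f => ((hbad P hPS R' hR').1 f).trans (pow_one _)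
      have he' : Polynomial.aeval x (Polynomial.X - Polynomial.C (val P)) = x - algebraMap k K (val P) := by simp
      have h := H23Res.val_param hx he hPx (Polynomial.irreducible_X_sub_C (val P)) (by rw [he']; exact hval P hPx)
      rwa [he'] at h

end Groth.Agent.S11051
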