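import Groth.Statements.S11052
import Mathlib
import Groth.Agent.H23Proj.Conorm

set_option autoImplicit false
open FunFld

namespace Groth.Agent.S11052

/-- Over an algebraically closed constant field, for a `k`-embedding `τ` of the function field `K` into
itself and a projective map `φ = (φ₀, …, φₙ)` (a linearly independent tuple), the degree of the map
`τ(φ)` is `deg τ · deg φ`, where `deg τ = [K : τ(K)]`. -/
theorem result
    (k K : Type*) [Field k] [IsAlgClosed k] [Field K] [Algebra k K]
    (hK : FunFld.IsFunctionField k K) (τ : K →ₐ[k] K) {n : ℕ}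
    (φ : Fin (n + 1) → K) (hφ : LinearIndependent k φ) :
    (FunFld.mapDiv k (τ ∘ φ)).deg =
      Module.finrank τ.fieldRange K * (FunFld.mapDiv k φ).deg := by
  classical
  obtain ⟨x, hx, hfin⟩ := hK.1
  have hτx : Transcendental k (τ x) := fun h => hx ((isAlgebraic_algHom_iff τ τ.toRingHom.injective).1 h)
  haveI := Groth.Agent.H23FunFld.finiteDimensional_adjoin hK hτx
  have hle : IntermediateField.adjoin k ({τ x} : Set K) ≤ τ.fieldRange := by
    rw [IntermediateField.adjoin_le_iff, Set.singleton_subset_iff]
    exact ⟨x, rfl⟩
  haveI : Module.Finite τ.fieldRange K := by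
    let ι := IntermediateField.inclusion hle
    letI := ι.toRingHom.toAlgebra
    haveI : IsScalarTower (IntermediateField.adjoin k ({τ x} : Set K)) τ.fieldRange K :=
      IsScalarTower.of_algebraMap_eq fun _ => rfl
    exact Module.Finite.of_restrictScalars_finite (IntermediateField.adjoin k ({τ x} : Set K)) _ K
  let a : Algebra K K := τ.toRingHom.toAlgebra
  have hfr : @Module.finrank K K _ _ a.toModule = Module.finrank τ.fieldRange K := by
    let e := AlgEquiv.ofInjectiveField τ
    refine @Algebra.finrank_eq_of_equiv_equiv K K _ _ a τ.fieldRange K _ _ τ.fieldRange.toAlgebra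
      e.toRingEquiv (RingEquiv.refl K) ?_
    exact RingHom.ext fun z => rfl
  have hfd : @Module.Finite K K _ _ a.toModule := by
    have hpos : 0 < @Module.finrank K K _ _ a.toModule := hfr ▸ Module.finrank_pos
    exact @Module.finite_of_finrank_pos K K _ _ a.toModule (@Module.Free.of_divisionRing K K _ _ a.toModule) _ hpos
  have ht : @IsScalarTower k K K _ a.toSMul _ :=
    @IsScalarTower.of_algebraMap_eq k K K _ _ _ _ a _ fun c => (τ.commutes c).symm
  have key := @Groth.Agent.H23Proj.deg_mapDiv_algebraMap k K K _ _ _ _ a _ ht hfd (Fin (n + 1)) _ _ hK φ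
  rw [hfr] at key
  exact key

end Groth.Agent.S11052
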