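import Groth.Statements.S12604
import Mathlib
import Groth.Agent.H23Proj.WDiv

set_option autoImplicit false
open FunFld

namespace Groth.Agent.S12604

/-- Over an algebraically closed constant field, let `τ` be a `k`-endomorphism of the function field `K`
of genus `g`, of degree `deg τ = [K : τ(K)]`, and `φ = (φ₀, …, φₙ)` a projective map such that
`τ(φ)` is not a `K`-multiple of `φ`, with `τ`-orders `j₁, …, jₙ`. Then the number `N` of strong
fixed points of `τ` (places whose maximal ideal `τ` maps into its square) is finite and `n N ≤ (n +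
deg τ) deg φ + (2g - 2)(j₁ + ⋯ + jₙ)`, i.e. `N ≤ (1/n) deg W(φ, τ)`. -/
theorem result
    (k K : Type*) [Field k] [IsAlgClosed k] [Field K] [Algebra k K]
    (hK : FunFld.IsFunctionField k K) (τ : K →ₐ[k] K) {n : ℕ} (φ : Fin (n + 1) → K) (hφ : LinearIndependent k φ)
    (hτφ : ¬ ∃ y : K, ∀ i, τ (φ i) = y * φ i) (s : K) (H : K →ₐ[k] PowerSeries K) (hH : LocRes.IsHasseFamily s H)
    (J : Fin n → ℕ) (hJ : FunFld.IsOrders K (FunFld.hcol τ H φ) J) :
    {P : FunFld.Place k K | FunFld.IsStrongFixedPt τ P}.Finite ∧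
    (n : ℤ) * (Set.ncard {P : FunFld.Place k K | FunFld.IsStrongFixedPt τ P} : ℤ) ≤
      ((n : ℤ) + Module.finrank τ.fieldRange K) * (FunFld.mapDiv k φ).deg +
        (2 * (FunFld.genus k K : ℤ) - 2) * ∑ l, (J l : ℤ) := by
  classical
  have hn : 0 < n := by
    refine Nat.pos_of_ne_zero fun hn0 => hτφ ⟨τ (φ 0) / φ 0, fun i => ?_⟩
    subst hn0
    rw [Fin.fin_one_eq_zero i, div_mul_cancel₀ _ (hφ.ne_zero 0)]
  choose Φ hΦ using fun P : FunFld.Place k K => Groth.Agent.H23Diff.exists_expansion hK P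
  have hkey : ∀ P : FunFld.Place k K, FunFld.IsStrongFixedPt τ P → (n : ℤ) ≤ FunFld.wDiv τ H Φ s φ J P := by
    intro P hstrong
    obtain ⟨t, y, Ht, ψ, ht, -, -, hHt, hψ, heff, hnorm, hJψ, hW⟩ :=
      Groth.Agent.H23Proj.exists_local_form hK hφ τ hH hJ hΦ P
    rw [← hW]
    clear hW hφ hJ hH hτφ φ
    rename' ψ => φ, hψ => hφ, hJψ => hJ
    have hP : FunFld.IsFixedPt τ P := fun z hz =>
      (hstrong z hz).trans_lt (by rw [← WithZero.exp_zero, WithZero.exp_lt_exp]; omega)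
    obtain ⟨J', hJ'⟩ := Groth.Agent.H23Proj.exists_ordersAt hK ht hHt hnorm hφ heff
    have hτint : ∀ i, P.1 (τ (φ i)) ≤ 1 := fun i => by
      simpa using Groth.Agent.H23Proj.val_map_le hK ht (e := 1) one_pos (fun z hz => by
        simpa using Groth.Agent.H23FunFld.pow_le_exp_of_lt_one (hP z hz) 1) (f := φ i) (m := 0) (by simpa using hnorm i)
    have hmτ : FunFld.mapDiv k (τ ∘ φ) P = 0 := by
      refine Groth.Agent.H23Proj.mapDiv_apply_eq_zero hK (fun i => (map_ne_zero τ).2 (hφ.ne_zero i)) ?_ hτint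
      change (1 : K) ∈ Submodule.span k (Set.range (⇑τ.toLinearMap ∘ φ))
      rw [Set.range_comp, Submodule.span_image]
      exact ⟨1, heff, map_one τ⟩
    have hle := Groth.Agent.H23Proj.exists_strong_index hK ht hHt τ hstrong hn hφ heff hnorm hJ hJ'
    have h0 := Groth.Agent.H23Proj.ordersAt_pos hK ht hHt hnorm hJ' ⟨0, hn⟩
    obtain ⟨hval, -⟩ := Groth.Agent.H23Proj.val_det hK ht hHt τ hP hφ heff hnorm hJ' J
    rw [Groth.Agent.H23Proj.wDiv_apply hK hφ τ ht heff hnorm Ht J hΦ, hmτ, add_zero]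
    rw [Groth.Agent.H23FunFld.val_eq_exp P (Groth.Agent.H23Proj.det_ne_zero hK hφ hHt hJ), WithZero.exp_le_exp] at hval
    have h2 : ∑ _l : Fin n, (1 : ℤ) ≤ ∑ l, ((J' l : ℤ) - J l) :=
      Finset.sum_le_sum fun l _ => by have := hle l; omega
    simp only [Finset.sum_const, Finset.card_univ, Fintype.card_fin, nsmul_one] at h2
    omega
  set W := FunFld.wDiv τ H Φ s φ J
  have hsub : {P : FunFld.Place k K | FunFld.IsStrongFixedPt τ P} ⊆ (W.support : Set (FunFld.Place k K)) :=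
    fun P hP => by
      have := hkey P hP
      simp only [Finset.mem_coe, Finsupp.mem_support_iff]
      omega
  have hfin := W.support.finite_toSet.subset hsub
  refine ⟨hfin, ?_⟩
  rw [add_comm (n : ℤ), ← Groth.Agent.H23Proj.deg_wDiv hK hφ τ hH hΦ, Set.ncard_eq_toFinset_card _ hfin]
  change _ ≤ ∑ P ∈ W.support, W P * (P.deg : ℤ)
  have hnn := Groth.Agent.H23Proj.wDiv_nonneg hK hφ τ hH hJ hΦ
  refine le_trans ?_ (Finset.sum_le_sum_of_subset_of_nonneg
    (s := hfin.toFinset) (fun P hP => hsub (hfin.mem_toFinset.1 hP))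
    (fun P _ _ => mul_nonneg (hnn P) (Int.natCast_nonneg _)))
  rw [mul_comm, ← nsmul_eq_mul, ← Finset.sum_const]
  refine Finset.sum_le_sum fun P hP => ?_
  rw [Groth.Agent.H23Proj.deg_eq_one_of_isAlgClosed hK, Nat.cast_one, mul_one]
  exact hkey P (hfin.mem_toFinset.1 hP)

end Groth.Agent.S12604
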