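import Groth.Statements.S11053
import Mathlib
import Groth.Agent.H23Proj.WDiv
import Groth.Agent.H23Curve.Basic
import Groth.Agent.S12604

set_option autoImplicit false
open FunFld

namespace Groth.Agent.S11053

/-- Over an algebraically closed constant field, let `τ` be a `k`-embedding of the function field `K` of
genus `g` into itself, of degree `deg τ = [K : τ(K)]`. A place is a strong fixed point of `τ` when
`τ` maps its maximal ideal into the square of that ideal. For every integer `n > g` there are at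
most `1 + deg τ + (n + deg τ / n) g + 2g²(g-1)/n` strong fixed points. -/
theorem result
    (k K : Type*) [Field k] [IsAlgClosed k] [Field K] [Algebra k K]
    (hK : FunFld.IsFunctionField k K) (τ : K →ₐ[k] K) (n : ℕ)
    (hn : FunFld.genus k K < n) :
    {P : FunFld.Place k K | ∀ x : K, P.1 x < 1 → P.1 (τ x) ≤ WithZero.exp (-2)}.Finite ∧
    (Set.ncard {P : FunFld.Place k K | ∀ x : K, P.1 x < 1 → P.1 (τ x) ≤ WithZero.exp (-2)} : ℝ) ≤
      1 + Module.finrank τ.fieldRange K +
        (n + (Module.finrank τ.fieldRange K : ℝ) / n) * FunFld.genus k K +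
        2 * (FunFld.genus k K : ℝ) ^ 2 * (FunFld.genus k K - 1) / n := by
  classical
  open Groth.Agent.H23FunFld in
  set S := {P : FunFld.Place k K | ∀ x : K, P.1 x < 1 → P.1 (τ x) ≤ WithZero.exp (-2)}
  set g := FunFld.genus k K
  set δ := Module.finrank τ.fieldRange K
  rcases S.eq_empty_or_nonempty with hS | ⟨P, hP⟩
  · rw [hS]
    refine ⟨Set.finite_empty, ?_⟩
    simp only [Set.ncard_empty, Nat.cast_zero]
    have hn0 : (0 : ℝ) < n := by exact_mod_cast (Nat.zero_le g).trans_lt hn
    rcases Nat.eq_zero_or_pos g with hg | hg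
    · rw [hg]; simp only [Nat.cast_zero, mul_zero, add_zero, zero_pow two_ne_zero, zero_mul, zero_div]; positivity
    · have : (1 : ℝ) ≤ g := by exact_mod_cast hg
      have : (0 : ℝ) ≤ (g : ℝ) - 1 := by linarith
      positivity
  set D : FunFld.Divisor k K := Finsupp.single P ((n + g : ℕ) : ℤ)
  have hdeg1 := Groth.Agent.H23Proj.deg_eq_one_of_isAlgClosed hK P
  have hell : ∀ m : ℕ, 2 * g ≤ m → FunFld.ell (Finsupp.single P (m : ℤ)) + g = m + 1 := fun m hm => by
    have h := Groth.Agent.H23FunFld.ell_of_deg_large hK (D := Finsupp.single P (m : ℤ)) (by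
      rw [Groth.Agent.H23FunFld.deg_single, hdeg1]; push_cast; omega)
    rw [Groth.Agent.H23FunFld.deg_single, hdeg1] at h
    push_cast at h
    omega
  have helD : FunFld.ell D = n + 1 := by
    have := hell (n + g) (by omega)
    simp only [D]
    omega
  -- pole orders
  have hng : ∀ m : ℕ, m = 0 ∨ 2 * g ≤ m → ∃ f ∈ FunFld.L (Finsupp.single P (m : ℤ)), P.1 f = WithZero.exp (m : ℤ) := by
    rintro m (rfl | hm)
    · exact ⟨1, fun R => by simp, by simp⟩
    rcases Nat.eq_zero_or_pos m with rfl | hm0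
    · exact ⟨1, fun R => by simp, by simp⟩
    have hne : FunFld.L (Finsupp.single P (m : ℤ)) ≠ FunFld.L (Finsupp.single P ((m : ℤ) - 1)) := by
      intro h
      have h1 : FunFld.ell (Finsupp.single P (m : ℤ)) = FunFld.ell (Finsupp.single P ((m - 1 : ℕ) : ℤ)) := by
        rw [Nat.cast_sub hm0, Nat.cast_one]
        exact congrArg (fun W : Submodule k K => Module.finrank k W) h
      have h2 := hell m hm
      rcases Nat.lt_or_ge (m - 1) (2 * g) with hlt | hge
      · have h3 := Groth.Agent.H23FunFld.ell_of_deg_large hK (D := Finsupp.single P ((m - 1 : ℕ) : ℤ)) (by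
          rw [Groth.Agent.H23FunFld.deg_single, hdeg1]; push_cast [Nat.cast_sub hm0]; omega)
        rw [Groth.Agent.H23FunFld.deg_single, hdeg1] at h3
        push_cast [Nat.cast_sub hm0] at h3
        push_cast [Nat.cast_sub hm0] at h1
        omega
      · have h3 := hell (m - 1) hge
        omega
    obtain ⟨z, hz, hzm, hzo⟩ := Groth.Agent.H23Curve.exists_ord_of_ne hK hne
    exact ⟨z, hzm, by rw [Groth.Agent.H23FunFld.val_eq_exp P hz, hzo, neg_neg]⟩
  haveI hfinL : FiniteDimensional k (FunFld.L D) := Groth.Agent.H23FunFld.finiteDimensional_L hK D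
  let b := Module.finBasisOfFinrankEq k (FunFld.L D) (n := n + 1) helD
  let φ : Fin (n + 1) → K := fun i => (b i : K)
  have hφ : LinearIndependent k φ := b.linearIndependent.map' (FunFld.L D).subtype (Submodule.ker_subtype _)
  have hne := hφ.ne_zero
  have hspan : Submodule.span k (Set.range φ) = FunFld.L D := by
    rw [show Set.range φ = (FunFld.L D).subtype '' Set.range b by rw [← Set.range_comp]; rfl,
      Submodule.span_image, b.span_eq, Submodule.map_subtype_top]
  have hone : (1 : K) ∈ FunFld.L D := fun R => by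
    rw [map_one, ← WithZero.exp_zero, WithZero.exp_le_exp]
    simp only [D, Finsupp.single_apply]
    split <;> omega
  obtain ⟨f, hf, hfv⟩ := hng (n + g) (Or.inr (by omega))
  have hmap : FunFld.mapDiv k φ = D := by
    ext R
    obtain ⟨i, hi⟩ := Groth.Agent.H23Proj.exists_attain hK hne R
    have hle : (FunFld.mapDiv k φ) R ≤ D R := by
      have := (b i).2 R
      rwa [hi, WithZero.exp_le_exp] at this
    refine le_antisymm hle ?_
    rcases eq_or_ne R P with rfl | hR
    · have := Groth.Agent.H23Proj.V_le_L hK hne (hspan ▸ hf) R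
      rw [hfv, WithZero.exp_le_exp] at this
      simpa [D] using this
    · have := Groth.Agent.H23Proj.V_le_L hK hne (hspan ▸ hone) R
      rw [map_one, ← WithZero.exp_zero, WithZero.exp_le_exp] at this
      simpa [D, Finsupp.single_eq_of_ne hR] using this
  -- generation
  set F := IntermediateField.adjoin k (Set.range fun i => φ i / φ 0)
  have hratio : ∀ v ∈ FunFld.L D, ∀ w ∈ FunFld.L D, v / w ∈ F := by
    have hmem : ∀ v ∈ FunFld.L D, v / φ 0 ∈ F := by
      intro v hv
      rw [← hspan] at hv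
      obtain ⟨a, rfl⟩ := (Submodule.mem_span_range_iff_exists_fun k).1 hv
      rw [Finset.sum_div]
      refine F.sum_mem fun i _ => ?_
      rw [smul_div_assoc]
      exact F.smul_mem (IntermediateField.subset_adjoin k _ ⟨i, rfl⟩)
    intro v hv w hw
    rw [← div_div_div_cancel_right₀ (hne 0) v w]
    exact F.div_mem (hmem v hv) (hmem w hw)
  obtain ⟨h, hh, hhv⟩ := hng (n + g - 1) (by omega)
  have hhD : h ∈ FunFld.L D := Groth.Agent.H23FunFld.L_mono (Finsupp.single_mono (by omega)) hh
  have hpd : ∀ (m : ℕ) (z : K), 0 < m → z ∈ FunFld.L (Finsupp.single P (m : ℤ)) → P.1 z = WithZero.exp (m : ℤ) →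
      Transcendental k z ∧ Module.finrank (IntermediateField.adjoin k ({z} : Set K)) K = m := by
    intro m z hm hz hzv
    have htr : Transcendental k z := Groth.Agent.H23FunFld.transcendental_of_val_ne_one P
      (fun h0 => WithZero.exp_ne_zero (by rw [← hzv, h0, map_zero]))
      (by rw [hzv, ← WithZero.exp_zero]; exact fun h0 => by rw [WithZero.exp_inj] at h0; omega)
    refine ⟨htr, ?_⟩
    have h1 := Groth.Agent.H23FunFld.deg_poleDiv hK htr
    have h2 : Groth.Agent.H23FunFld.poleDiv (k := k) z = Finsupp.single P (m : ℤ) := by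
      ext R
      rw [Groth.Agent.H23FunFld.poleDiv_apply hK]
      have h3 := hz R
      have hz0 : z ≠ 0 := fun h0 => htr (h0 ▸ isAlgebraic_zero)
      rw [Groth.Agent.H23FunFld.val_le_exp_iff R hz0] at h3
      rcases eq_or_ne R P with rfl | hR
      · have h4 : R.ord z = -(m : ℤ) := by simp [FunFld.Place.ord, hzv]
        rw [Finsupp.single_eq_same, h4]; omega
      · rw [Finsupp.single_eq_of_ne hR] at h3 ⊢
        omega
    rw [h2, Groth.Agent.H23FunFld.deg_single, hdeg1] at h1
    push_cast at h1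
    omega
  obtain ⟨hftr, hfdeg⟩ := hpd (n + g) f (by omega) hf hfv
  have hbir : F = ⊤ := by
    haveI := Groth.Agent.H23FunFld.finiteDimensional_adjoin hK hftr
    have hdvd : ∀ (z : K) (m : ℕ), 0 < m → z ∈ F → Transcendental k z →
        Module.finrank (IntermediateField.adjoin k ({z} : Set K)) K = m → Module.finrank F K ∣ m := by
      intro z m hm hzF htr hz
      have hle : IntermediateField.adjoin k ({z} : Set K) ≤ F :=
        IntermediateField.adjoin_le_iff.2 (Set.singleton_subset_iff.2 hzF)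
      letI : Algebra (IntermediateField.adjoin k ({z} : Set K)) F := (IntermediateField.inclusion hle).toRingHom.toAlgebra
      haveI : IsScalarTower (IntermediateField.adjoin k ({z} : Set K)) F K :=
        IsScalarTower.of_algebraMap_eq fun _ => rfl
      exact ⟨_, (hz.symm.trans (Module.finrank_mul_finrank (IntermediateField.adjoin k ({z} : Set K)) F K).symm).trans
        (mul_comm _ _)⟩
    have hd1 := hdvd f (n + g) (by omega) (by simpa using hratio f (by simpa [D] using hf) 1 hone) hftr hfdeg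
    have hd2 : Module.finrank F K ∣ 1 := by
      rcases Nat.eq_zero_or_pos (n + g - 1) with h0 | hpos
      · rwa [show n + g = 1 by omega] at hd1
      · obtain ⟨htr2, hdeg2⟩ := hpd _ h hpos hh hhv
        have hd3 := hdvd h (n + g - 1) hpos (by simpa using hratio h hhD 1 hone) htr2 hdeg2
        have := Nat.dvd_sub hd1 hd3
        rwa [show n + g - (n + g - 1) = 1 by omega] at this
    exact IntermediateField.finrank_eq_one_iff_eq_top.1 (Nat.dvd_one.1 hd2)
  have hτφ : ¬ ∃ y : K, ∀ i, τ (φ i) = y * φ i := by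
    rintro ⟨y, hy⟩
    have hfix : ∀ w ∈ F, τ w = w := by
      intro w hw
      induction hw using IntermediateField.adjoin_induction with
      | mem v hv =>
        obtain ⟨i, rfl⟩ := hv
        have hy0 : y ≠ 0 := fun h0 => hne 0 ((map_eq_zero τ).1 (by rw [hy 0, h0, zero_mul]))
        change τ (φ i / φ 0) = φ i / φ 0
        rw [map_div₀, hy, hy, mul_div_mul_left _ _ hy0]
      | algebraMap c => exact τ.commutes c
      | add x y _ _ hx hy => rw [map_add, hx, hy]
      | inv x _ hx => rw [map_inv₀, hx]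
      | mul x y _ _ hx hy => rw [map_mul, hx, hy]
    obtain ⟨t, -, ht⟩ := Groth.Agent.H23FunFld.exists_val_eq P (-1)
    have h1 : P.1 (τ t) ≤ WithZero.exp (-2) := hP t (by rw [ht, ← WithZero.exp_zero, WithZero.exp_lt_exp]; omega)
    rw [hfix t (hbir ▸ IntermediateField.mem_top), ht, WithZero.exp_le_exp] at h1
    omega
  obtain ⟨s, -, hs⟩ := Groth.Agent.H23FunFld.exists_val_eq P (-1)
  obtain ⟨H, hH⟩ := Groth.Agent.H23Diff.exists_hasseFamily hK (Groth.Agent.H23Geom.isGeometric_of_perfectField hK)
    (Groth.Agent.H23Diff.D_ne_zero_param' hK hs)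
  obtain ⟨J, hJ, -⟩ := Groth.Agent.S12600.result k K hK φ hφ τ s H hH
  obtain ⟨hfin, hbound⟩ := Groth.Agent.S12604.result k K hK τ φ hφ hτφ s H hH J hJ
  refine ⟨hfin, ?_⟩
  -- the orders
  choose Φ hΦ using fun R : FunFld.Place k K => Groth.Agent.H23Diff.exists_expansion hK R
  obtain ⟨t, y, Ht, ψ, ht, hy, rfl, hHt, hψ, heff, hnorm, hJψ, -⟩ :=
    Groth.Agent.H23Proj.exists_local_form hK hφ τ hH hJ hΦ P
  obtain ⟨J', hJ'⟩ := Groth.Agent.H23Proj.exists_ordersAt hK ht hHt hnorm hψ heff
  have hn0 : 0 < n := by omega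
  have hmemψ : ∀ v, v ∈ Submodule.span k (Set.range (y • φ)) ↔ ∃ u ∈ FunFld.L D, v = y * u := by
    intro v
    rw [show Set.range (y • φ) = LinearMap.mulLeft k y '' Set.range φ by rw [← Set.range_comp]; rfl,
      Submodule.span_image, hspan]
    exact ⟨fun ⟨u, hu, e⟩ => ⟨u, hu, e.symm⟩, fun ⟨u, hu, e⟩ => ⟨u, hu, e.symm⟩⟩
  have hyv : P.1 y = WithZero.exp (-((n + g : ℕ) : ℤ)) := by
    obtain ⟨u, hu, hu1⟩ := (hmemψ 1).1 heff
    obtain ⟨a, ha⟩ := (Submodule.mem_span_range_iff_exists_fun k).1 ((hmemψ (y * f)).2 ⟨f, by simpa [D] using hf, rfl⟩)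
    have h2 : P.1 (y * f) ≤ 1 := ha ▸ Groth.Agent.H23Proj.val_comb_le hK ht hHt hnorm a
    have h3 := hu P
    have hu' : u = y⁻¹ := eq_inv_of_mul_eq_one_right hu1.symm
    rw [hu', map_inv₀, Groth.Agent.H23FunFld.val_eq_exp P hy, ← WithZero.exp_neg, WithZero.exp_le_exp] at h3
    rw [map_mul, hfv, Groth.Agent.H23FunFld.val_eq_exp P hy, ← WithZero.exp_add, ← WithZero.exp_zero,
      WithZero.exp_le_exp] at h2
    rw [Groth.Agent.H23FunFld.val_eq_exp P hy]
    simp only [D, Finsupp.single_eq_same] at h3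
    congr 1
    omega
  have hmem := Groth.Agent.H23Proj.mem_ordersAt_iff hK ht hHt hnorm hJ' heff
  have hupper : ∀ l, J' l ≤ n + g := by
    intro l
    obtain ⟨v, hv, hv'⟩ := (hmem (J' l)).1 (Or.inr ⟨l, rfl⟩)
    obtain ⟨u, hu, rfl⟩ := (hmemψ v).1 hv
    have hu0 : u ≠ 0 := fun h0 => WithZero.exp_ne_zero (by rw [← hv', h0, mul_zero, map_zero])
    -- a function without poles off `P` has nonnegative pole order
    by_contra hlt
    rw [map_mul, hyv, Groth.Agent.H23FunFld.val_eq_exp P hu0, ← WithZero.exp_add, WithZero.exp_inj] at hv'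
    have hz : u ∈ FunFld.L (Finsupp.single P (-1 : ℤ)) := fun R => by
      rcases eq_or_ne R P with rfl | hR
      · rw [Finsupp.single_eq_same, Groth.Agent.H23FunFld.val_le_exp_iff R hu0]; omega
      · have := hu R
        simpa [D, Finsupp.single_eq_of_ne hR] using this
    rw [Groth.Agent.H23FunFld.L_eq_bot_of_deg_neg hK (by
      rw [Groth.Agent.H23FunFld.deg_single, hdeg1]; norm_num), Submodule.mem_bot] at hz
    exact hu0 hz
  have hsmall : ∀ j, 1 ≤ j → j ≤ n - g → j ∈ Set.range J' := by
    intro j hj1 hj2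
    obtain ⟨u, hu, huv⟩ := hng (n + g - j) (Or.inr (by omega))
    refine ((hmem j).2 ⟨y * u, (hmemψ _).2 ⟨u, Groth.Agent.H23FunFld.L_mono (Finsupp.single_mono (by omega)) hu, rfl⟩, ?_⟩).resolve_left (by omega)
    rw [map_mul, hyv, huv, ← WithZero.exp_add]
    congr 1
    push_cast [Nat.cast_sub (show j ≤ n + g by omega)]
    ring
  have hpos := Groth.Agent.H23Proj.ordersAt_pos hK ht hHt hnorm hJ'
  have hlow : ∀ l : Fin n, (l : ℕ) + 1 ≤ J' l := by
    rintro ⟨l, hl⟩
    induction l with
    | zero => exact hpos _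
    | succ l ih =>
      have h1 := hJ'.1 (show (⟨l, by omega⟩ : Fin n) < ⟨l + 1, hl⟩ from Nat.lt_succ_self l)
      have h2 := ih (by omega)
      simp only at h2 ⊢
      omega
  have hcount : ∀ (l : Fin n) j, 1 ≤ j → j ≤ (l : ℕ) + 1 → j ≤ n - g → ∀ i : Fin n, J' i = j → (i : ℕ) + 1 ≤ j :=
    fun _ j _ _ _ i hi => hi ▸ hlow i
  have hexact : ∀ l : Fin n, (l : ℕ) < n - g → J' l = l + 1 := by
    rintro ⟨l, hl⟩ hlt
    induction l using Nat.strong_induction_on with
    | _ l ih =>
      obtain ⟨i, hi⟩ := hsmall (l + 1) (by omega) (by simp only at hlt; omega)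
      have h1 := hlow i
      simp only at hlt ⊢
      rcases Nat.lt_or_ge (i : ℕ) l with hil | hil
      · have := ih i hil i.2 (by simp only; omega)
        simp only at this
        have e : (⟨(i : ℕ), i.2⟩ : Fin n) = i := rfl
        rw [e] at this
        omega
      · have : (i : ℕ) = l := by omega
        have e : i = ⟨l, hl⟩ := Fin.ext this
        rw [← e, hi]
  have hstrong := Groth.Agent.H23Proj.exists_strong_index hK ht hHt τ hP hn0 hψ heff hnorm hJψ hJ'
  have hJl : ∀ l : Fin n, J l ≤ (l : ℕ) + if n - g ≤ (l : ℕ) then g else 0 := by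
    intro l
    have h1 := hstrong l
    have h2 : J' ⟨0, hn0⟩ = 1 := by
      have := hexact ⟨0, hn0⟩ (by simp only; omega)
      simpa using this
    rw [h2] at h1
    split_ifs with hl
    · -- the top orders
      have h3 : J' l + (n - 1 - l) ≤ n + g := by
        have hstep : ∀ d : ℕ, ∀ hd : (l : ℕ) + d < n, J' l + d ≤ J' ⟨l + d, hd⟩ := by
          intro d
          induction d with
          | zero => intro hd; exact le_rfl
          | succ d ih =>
            intro hd
            have h4 := ih (by omega)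
            have h5 := hJ'.1 (show (⟨l + d, by omega⟩ : Fin n) < ⟨l + (d + 1), hd⟩ from by
              change (l : ℕ) + d < l + (d + 1); omega)
            omega
        exact (hstep (n - 1 - l) (by omega)).trans (hupper _)
      omega
    · have h3 := hexact l (by omega)
      omega
  have hsum : (∑ l, (J l : ℤ)) * 2 ≤ (n : ℤ) * (n - 1) + 2 * (g : ℤ) * g := by
    have h1 : ∑ l, J l ≤ ∑ i ∈ Finset.range n, (i + if n - g ≤ i then g else 0) := by
      rw [← Fin.sum_univ_eq_sum_range]
      exact Finset.sum_le_sum fun l _ => hJl l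
    have hcard : (Finset.range n).filter (fun i => n - g ≤ i) = Finset.Ico (n - g) n := by
      ext i; simp [Finset.mem_Ico]; omega
    rw [Finset.sum_add_distrib, ← Finset.sum_filter, hcard, Finset.sum_const, Nat.card_Ico, smul_eq_mul] at h1
    have h2 := Finset.sum_range_id_mul_two n
    have h3 : (n - (n - g)) = g := by omega
    rw [h3] at h1
    have h4 : (∑ l, J l) * 2 ≤ n * (n - 1) + 2 * g * g := by
      rw [mul_assoc 2 g g]
      omega
    have h5 : ((∑ l, J l : ℕ) : ℤ) * 2 ≤ ((n * (n - 1) + 2 * g * g : ℕ) : ℤ) := by exact_mod_cast h4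
    push_cast [Nat.cast_sub (show 1 ≤ n by omega)] at h5
    exact h5
  -- arithmetic
  have hJlow : (n : ℤ) * (n - 1) ≤ (∑ l, (J l : ℤ)) * 2 := by
    have h1 : ∀ l : Fin n, (l : ℕ) ≤ J l := by
      rintro ⟨l, hl⟩
      induction l with
      | zero => exact Nat.zero_le _
      | succ l ih =>
        have h1 := hJ.1 (show (⟨l, by omega⟩ : Fin n) < ⟨l + 1, hl⟩ from Nat.lt_succ_self l)
        have h2 := ih (by omega)
        simp only at h2 ⊢
        omega
    have h2 : ∑ i ∈ Finset.range n, i ≤ ∑ l, J l := by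
      rw [← Fin.sum_univ_eq_sum_range]
      exact Finset.sum_le_sum fun l _ => h1 l
    have h3 := Finset.sum_range_id_mul_two n
    have h4 : n * (n - 1) ≤ (∑ l, J l) * 2 := by omega
    have h5 : ((n * (n - 1) : ℕ) : ℤ) ≤ ((∑ l, J l : ℕ) : ℤ) * 2 := by exact_mod_cast h4
    push_cast [Nat.cast_sub (show 1 ≤ n by omega)] at h5
    exact h5
  rw [hmap, Groth.Agent.H23FunFld.deg_single, hdeg1] at hbound
  push_cast at hbound
  set N := Set.ncard {R : FunFld.Place k K | FunFld.IsStrongFixedPt τ R}
  have hN : S.ncard = N := rfl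
  rw [hN]
  set j := ∑ l, (J l : ℤ)
  have key : (n : ℤ) * N ≤ n + n * δ + (n * n + δ) * g + 2 * g * g * (g - 1) := by
    rcases Nat.eq_zero_or_pos g with hg | hg
    · rw [hg] at hbound ⊢
      push_cast at hbound ⊢
      nlinarith
    · have : (0 : ℤ) ≤ 2 * g - 2 := by omega
      nlinarith
  have hkey : ((n : ℝ) * N) ≤ n + n * δ + (n * n + δ) * g + 2 * g * g * ((g : ℝ) - 1) := by exact_mod_cast key
  have hnR : (0 : ℝ) < n := by exact_mod_cast hn0
  rw [← mul_le_mul_iff_right₀ hnR]
  field_simp
  linarith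

end Groth.Agent.S11053
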