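import Groth.Statements.S11055
import Mathlib
import Groth.Agent.H23Proj.LocalRing

set_option autoImplicit false
open FunFld

namespace Groth.Agent.S11055

/-- Over an algebraically closed constant field, a projective map `φ = (φ₀, …, φₙ)`, `n ≥ 1`, with span
`W` and divisor `[φ]` is nonsingular at the place `P` if and only if `W ∩ L([φ] - P - Q)` has
codimension `2` in `W` for every place `Q`. Here a projective map is nonsingular at a place when its
local ring there (quotients of polynomials over `k` in the ratios `φᵢ/φⱼ`, `φⱼ` of least order at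
the place, with denominator a unit there) is the whole valuation ring. (The published statement is
for any projective map; the published proof uses the finiteness property of the local ring that is
established for birational maps, so `φ` is taken birational here: the ratios `φᵢ/φ₀` generate `K`
over `k`.) -/
theorem result
    (k K : Type*) [Field k] [IsAlgClosed k] [Field K] [Algebra k K]
    (hK : FunFld.IsFunctionField k K) {n : ℕ} (hn : 1 ≤ n)
    (φ : Fin (n + 1) → K) (hφ : LinearIndependent k φ)
    (hbir : IntermediateField.adjoin k (Set.range fun i => φ i / φ 0) = ⊤) (P : FunFld.Place k K) :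
    FunFld.IsNonsingularAt φ P ↔ ∀ Q : FunFld.Place k K,
      Module.finrank k ↥(Submodule.span k (Set.range φ) ⊓
          FunFld.L (FunFld.mapDiv k φ - Finsupp.single P 1 - Finsupp.single Q 1)) + 2 =
        Module.finrank k ↥(Submodule.span k (Set.range φ)) := by
  classical
  open Groth.Agent.H23FunFld Groth.Agent.H23Proj in
  have hne := hφ.ne_zero
  open Groth.Agent.H23FunFld Groth.Agent.H23Proj in
  have h1deg := deg_eq_one_of_isAlgClosed hK
  set W := Submodule.span k (Set.range φ)
  set D := FunFld.mapDiv k φ
  have hWL : W ≤ FunFld.L D := Groth.Agent.H23Proj.V_le_L hK hne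
  haveI : FiniteDimensional k W := FiniteDimensional.span_of_finite k (Set.finite_range φ)
  -- one step drops the dimension by at most one
  have hdrop : ∀ (U : Submodule k K) (E : FunFld.Divisor k K) (R : FunFld.Place k K), U ≤ FunFld.L E → FiniteDimensional k U →
      Module.finrank k U ≤ Module.finrank k ↥(U ⊓ FunFld.L (E - Finsupp.single R 1)) + 1 := by
    intro U E R hU hfinU
    haveI := Groth.Agent.H23FunFld.finiteDimensional_L hK E
    haveI := Groth.Agent.H23FunFld.finiteDimensional_L hK (E - Finsupp.single R 1)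
    have h1 := Submodule.finrank_sup_add_finrank_inf_eq U (FunFld.L (E - Finsupp.single R 1))
    have h2 : Module.finrank k ↥(U ⊔ FunFld.L (E - Finsupp.single R 1)) ≤ FunFld.ell E :=
      Submodule.finrank_mono (sup_le hU (Groth.Agent.H23FunFld.L_mono
        (sub_le_self _ (Finsupp.single_nonneg.2 zero_le_one))))
    have h3 := Groth.Agent.H23Curve.ell_le_succ hK (h1deg R) (E - Finsupp.single R 1)
    rw [sub_add_cancel] at h3
    change _ = _ + FunFld.ell (E - Finsupp.single R 1) at h1
    omega
  have hmemP : ∀ v, v ∈ W ⊓ FunFld.L (D - Finsupp.single P 1) ↔ v ∈ W ∧ P.1 v < WithZero.exp (D P) := by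
    intro v
    rw [Submodule.mem_inf]
    refine and_congr_right fun hv => ⟨fun h => (h P).trans_lt ?_, fun h R => ?_⟩
    · rw [Finsupp.sub_apply, Finsupp.single_eq_same, WithZero.exp_lt_exp]; omega
    · rcases eq_or_ne v 0 with rfl | hv0
      · simp
      rw [Finsupp.sub_apply, Groth.Agent.H23FunFld.val_le_exp_iff R hv0]
      rcases eq_or_ne R P with rfl | hR
      · rw [Groth.Agent.H23FunFld.val_eq_exp R hv0, WithZero.exp_lt_exp] at h
        rw [Finsupp.single_eq_same]; omega
      · rw [Finsupp.single_eq_of_ne hR, sub_zero, ← Groth.Agent.H23FunFld.val_le_exp_iff R hv0]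
        exact hWL hv R
  set WP := W ⊓ FunFld.L (D - Finsupp.single P 1)
  have hWP : Module.finrank k WP + 1 = Module.finrank k W := by
    obtain ⟨j, hj⟩ := Groth.Agent.H23Proj.exists_attain hK hne P
    have hlt : WP < W := lt_of_le_of_ne inf_le_left fun he => by
      have h1 : φ j ∈ WP := by rw [he]; exact Submodule.subset_span ⟨j, rfl⟩
      exact ((hmemP _).1 h1).2.ne hj
    have := Submodule.finrank_lt_finrank_of_lt hlt
    have : Module.finrank k W ≤ Module.finrank k WP + 1 := hdrop W D P hWL inferInstance
    omega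
  have hiff : ∀ Q : FunFld.Place k K,
      (Module.finrank k ↥(W ⊓ FunFld.L (D - Finsupp.single P 1 - Finsupp.single Q 1)) + 2 = Module.finrank k W) ↔
        ∃ v ∈ W, P.1 v < WithZero.exp (D P) ∧ Q.1 v = WithZero.exp ((D - Finsupp.single P 1 : FunFld.Divisor k K) Q) := by
    intro Q
    haveI : FiniteDimensional k WP := Submodule.finiteDimensional_of_le (inf_le_left : WP ≤ W)
    have e : W ⊓ FunFld.L (D - Finsupp.single P 1 - Finsupp.single Q 1) =
        WP ⊓ FunFld.L (D - Finsupp.single P 1 - Finsupp.single Q 1) := by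
      rw [inf_assoc, inf_eq_right.2 (Groth.Agent.H23FunFld.L_mono
        (sub_le_self _ (Finsupp.single_nonneg.2 zero_le_one)))]
    rw [e, ← hWP]
    have h1 := hdrop WP (D - Finsupp.single P 1) Q inf_le_right inferInstance
    have h2 := Submodule.finrank_mono (R := k) (inf_le_left :
      WP ⊓ FunFld.L (D - Finsupp.single P 1 - Finsupp.single Q 1) ≤ WP)
    constructor
    · intro h
      obtain ⟨v, hv, hv'⟩ : ∃ v ∈ WP, v ∉ FunFld.L (D - Finsupp.single P 1 - Finsupp.single Q 1) := by
        by_contra hno
        simp only [not_exists, not_and, not_not] at hno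
        rw [inf_eq_left.2 hno] at h
        omega
      refine ⟨v, hv.1, ((hmemP v).1 hv).2, le_antisymm (hv.2 Q) (not_lt.1 fun hlt => hv' fun R => ?_)⟩
      rcases eq_or_ne R Q with rfl | hR
      · rcases eq_or_ne v 0 with rfl | hv0
        · simp
        rw [Groth.Agent.H23FunFld.val_eq_exp R hv0, WithZero.exp_lt_exp] at hlt
        rw [Groth.Agent.H23FunFld.val_le_exp_iff R hv0, Finsupp.sub_apply, Finsupp.single_eq_same]
        omega
      · rw [Finsupp.sub_apply, Finsupp.single_eq_of_ne hR, sub_zero]
        exact hv.2 R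
    · rintro ⟨v, hv, hvP, hvQ⟩
      have hlt : WP ⊓ FunFld.L (D - Finsupp.single P 1 - Finsupp.single Q 1) < WP :=
        lt_of_le_of_ne inf_le_left fun he => by
          have h3 : v ∈ WP := (hmemP v).2 ⟨hv, hvP⟩
          rw [← he] at h3
          have h4 := h3.2 Q
          rw [hvQ, Finsupp.sub_apply _ (Finsupp.single Q 1), Finsupp.single_eq_same, WithZero.exp_le_exp] at h4
          omega
      have := Submodule.finrank_lt_finrank_of_lt hlt
      omega
  rw [Groth.Agent.H23Proj.isNonsingularAt_iff hK hne hn hφ hbir]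
  constructor
  · rintro ⟨hfib, v, hv, hv1⟩ Q
    rw [hiff]
    rcases eq_or_ne Q P with rfl | hQ
    · refine ⟨v, hv, ?_, ?_⟩
      · rw [hv1, WithZero.exp_lt_exp]; simp only [D] at *; omega
      · rw [hv1, Finsupp.sub_apply, Finsupp.single_eq_same]
    · obtain ⟨v', hv', hQv, hPv⟩ := Groth.Agent.H23Proj.exists_separating_form hK hne (φ := φ) (P := Q) (Q := P)
        (fun hs => hQ (hfib Q (by
          obtain ⟨j, h0, h1, h2, h3⟩ := hs
          exact ⟨j, h0, h2, h1, fun i => (h3 i).imp fun c hc => hc.symm⟩)))
      exact ⟨v', hv', hPv, by rw [hQv, Finsupp.sub_apply, Finsupp.single_eq_of_ne hQ, sub_zero]⟩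
  · intro h
    refine ⟨fun Q hQ => ?_, ?_⟩
    · by_contra hne'
      obtain ⟨v, hv, hPv, hQv⟩ := (hiff Q).1 (h Q)
      rw [Finsupp.sub_apply, Finsupp.single_eq_of_ne hne', sub_zero] at hQv
      exact ((Groth.Agent.H23Proj.vanish_iff_of_sameImage hK hne hQ hv).1 hPv).ne hQv
    · obtain ⟨v, hv, -, hv1⟩ := (hiff P).1 (h P)
      exact ⟨v, hv, by rw [hv1, Finsupp.sub_apply, Finsupp.single_eq_same]⟩

end Groth.Agent.S11055
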