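import Groth.Statements.S11057
import Mathlib
import Groth.Agent.H23Proj.Embed

set_option autoImplicit false
open FunFld

namespace Groth.Agent.S11057

/-- Over an algebraically closed constant field, if `K` has degree at least `3` over every subfield
`k(x)` generated by a nonconstant element, then the canonical map (given by a basis of `L(D)` for a
canonical divisor `D`) is an embedding, i.e. nonsingular at every place. Here a projective map is
nonsingular at a place when its local ring there (quotients of polynomials over `k` in the ratios
`φᵢ/φⱼ`, `φⱼ` of least order at the place, with denominator a unit there) is the whole valuation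
ring. -/
theorem result
    (k K : Type*) [Field k] [IsAlgClosed k] [Field K] [Algebra k K]
    (hK : FunFld.IsFunctionField k K)
    (h2 : ∀ x : K, Transcendental k x →
      2 < Module.finrank (IntermediateField.adjoin k ({x} : Set K)) K)
    (D : FunFld.Divisor k K) (hD : FunFld.IsCanonical k K D) {n : ℕ} (φ : Fin (n + 1) → K)
    (hφ : LinearIndependent k φ) (hspan : Submodule.span k (Set.range φ) = FunFld.L D)
    (P : FunFld.Place k K) : FunFld.IsNonsingularAt φ P := by
  classical
  open Groth.Agent.H23FunFld Groth.Agent.H23Proj in
  have h := deg_eq_one_of_isAlgClosed hK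
  open Groth.Agent.H23FunFld in
  have hpair : ∀ A B : FunFld.Place k K, FunFld.ell (Finsupp.single A 1 + Finsupp.single B 1) ≤ 1 := by
    intro A B
    set E : FunFld.Divisor k K := Finsupp.single A 1 + Finsupp.single B 1
    haveI := finiteDimensional_L hK E
    by_contra hlt
    have hne : ¬ FunFld.L E ≤ FunFld.L (0 : FunFld.Divisor k K) := fun hle => by
      haveI := finiteDimensional_L hK (0 : FunFld.Divisor k K)
      have h1 : FunFld.ell E ≤ FunFld.ell (0 : FunFld.Divisor k K) := Submodule.finrank_mono hle
      rw [ell_zero hK] at h1
      exact hlt h1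
    obtain ⟨x, hx, hx0⟩ := SetLike.not_le_iff_exists.1 hne
    have hxne : x ≠ 0 := fun h0 => hx0 (h0 ▸ Submodule.zero_mem _)
    have htr : Transcendental k x := transcendental_of_notMem hK fun ⟨c, hc⟩ =>
      hx0 (hc ▸ fun R => by simpa using R.2.1 c)
    have hle : poleDiv (k := k) x ≤ E := fun R => by
      rw [poleDiv_apply hK]
      have h1 := (val_le_exp_iff R hxne).1 (hx R)
      have h2 : 0 ≤ E R := by
        simp only [E, Finsupp.add_apply, Finsupp.single_apply]
        split_ifs <;> norm_num
      omega
    have h3 := deg_mono hle
    rw [deg_poleDiv hK htr] at h3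
    simp only [E, deg_add, deg_single, h A, h B] at h3
    have := h2 x htr
    omega
  open Groth.Agent.H23FunFld in
  obtain ⟨hl, hd⟩ := canonical_ell_deg hK hD
  open Groth.Agent.H23FunFld in
  have hrr : ∀ Q, FunFld.ell (D - Finsupp.single P 1 - Finsupp.single Q 1) + 3 =
      FunFld.ell (Finsupp.single P 1 + Finsupp.single Q 1) + FunFld.genus k K := fun Q => by
    have h1 := riemann_roch hK hD (Finsupp.single P 1 + Finsupp.single Q 1)
    rw [deg_add, deg_single, deg_single, h P, h Q, sub_add_eq_sub_sub] at h1
    omega
  have hg : 2 ≤ FunFld.genus k K := by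
    have := hrr P
    have := hpair P P
    omega
  exact Groth.Agent.H23Proj.isNonsingularAt_of_sep hK D (by omega) (by omega) φ hspan P fun Q => by
    have := hrr Q
    have := hpair P Q
    omega

end Groth.Agent.S11057
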