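import Groth.Statements.S11058
import Mathlib
import Groth.Agent.H23Proj.PlaneGenus

set_option autoImplicit false
open FunFld

namespace Groth.Agent.S11058

/-- Over an algebraically closed constant field, a birational projective map `φ = (φ₀, …, φₙ)` (the
ratios `φᵢ/φ₀` generate `K` over `k`) is nonsingular at all but finitely many places. Here a
projective map is nonsingular at a place when its local ring there (quotients of polynomials over
`k` in the ratios `φᵢ/φⱼ`, `φⱼ` of least order at the place, with denominator a unit there) is the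
whole valuation ring. -/
theorem result
    (k K : Type*) [Field k] [IsAlgClosed k] [Field K] [Algebra k K]
    (hK : FunFld.IsFunctionField k K) {n : ℕ} (hn : 1 ≤ n) (φ : Fin (n + 1) → K)
    (hφ : LinearIndependent k φ)
    (hbir : IntermediateField.adjoin k (Set.range fun i => φ i / φ 0) = ⊤) :
    {P : FunFld.Place k K | ¬ FunFld.IsNonsingularAt φ P}.Finite := by
  classical
  let ψ : Fin (n + 1) → K := fun i => φ i / φ 0
  have h0 : φ 0 ≠ 0 := hφ.ne_zero 0
  have hne : ∀ i, ψ i ≠ 0 := fun i => div_ne_zero (hφ.ne_zero i) h0
  refine (Groth.Agent.H23Proj.finite_singular hK (φ := ψ) (i₀ := 0) (div_self h0) hne hbir).subset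
    fun P hP hns => hP fun z hz => ?_
  obtain ⟨j, -, hj, u, hu, w, hw, hw1, e⟩ := hns z hz
  have hfun : (fun i => ψ i / ψ j) = fun i => φ i / φ j := by
    funext i
    exact div_div_div_cancel_right₀ h0 _ _
  rw [hfun] at hu hw
  refine ⟨j, hφ.ne_zero j, fun i => ?_, u, hu, w, hw, hw1, e⟩
  have h1 := hj i
  rwa [map_div₀, map_div₀,
    div_le_div_iff_of_pos_right (zero_lt_iff.2 (Groth.Agent.H23FunFld.val_ne_zero P h0))] at h1

end Groth.Agent.S11058
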