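import Groth.Statements.S11060
import Mathlib
import Groth.Agent.H23Proj.PlaneGenus

set_option autoImplicit false
open FunFld

namespace Groth.Agent.S11060

/-- Over an algebraically closed constant field, a function field of genus `g` with a nonsingular plane
model has `g` a triangular number. Here a projective map is nonsingular at a place when its local
ring there (quotients of polynomials over `k` in the ratios `φᵢ/φⱼ`, `φⱼ` of least order at the
place, with denominator a unit there) is the whole valuation ring. -/
theorem result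
    (k K : Type*) [Field k] [IsAlgClosed k] [Field K] [Algebra k K]
    (hK : FunFld.IsFunctionField k K)
    (h : ∃ x y : K, IntermediateField.adjoin k ({x, y} : Set K) = ⊤ ∧
      ∀ P : FunFld.Place k K, FunFld.IsNonsingularAt ![(1 : K), x, y] P) :
    ∃ m : ℕ, 2 * FunFld.genus k K = m * (m + 1) := by
  obtain ⟨x, y, hxy, hns⟩ := h
  obtain ⟨hdeg, -, hiff⟩ := Groth.Agent.H23Proj.plane_model hK x y hxy
  have heq := hiff.2 hns
  obtain ⟨f, hf, hfxy⟩ := Groth.Agent.H23Proj.exists_relation hK hxy
  rw [hdeg f hf hfxy] at heq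
  rcases lt_or_ge f.totalDegree 2 with hd | hd
  · refine ⟨0, ?_⟩
    rcases Nat.lt_succ_iff.1 hd |>.eq_or_lt with h1 | h1
    · rw [h1] at heq; norm_num at heq ⊢; omega
    · exfalso
      have h0 : f.totalDegree = 0 := by omega
      obtain ⟨c, rfl⟩ : ∃ c, f = MvPolynomial.C c := ⟨_, MvPolynomial.totalDegree_eq_zero_iff_eq_C.1 h0⟩
      rcases eq_or_ne c 0 with rfl | hc
      · exact hf.ne_zero (map_zero _)
      · exact hf.not_isUnit (isUnit_iff_ne_zero.2 hc |>.map MvPolynomial.C)
  · obtain ⟨m, hm⟩ := Nat.exists_eq_add_of_le hd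
    refine ⟨m, ?_⟩
    rw [hm] at heq
    push_cast at heq
    have : (2 : ℤ) * FunFld.genus k K = (m : ℤ) * (m + 1) := by rw [heq]; ring
    exact_mod_cast this

end Groth.Agent.S11060
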