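import Groth.Statements.S11062
import Mathlib
import Groth.Agent.H23Zeta.Descent

set_option autoImplicit false
open FunFld

namespace Groth.Agent.S11062

/-- With `L_K(t) = ∏ (1 - αᵢ t)` over a finite field with `q` elements, the number of degree-one places
of the constant-field extension `Kₙ/kₙ` of degree `n` is `1 + qⁿ - ∑ αᵢⁿ`. -/
theorem result
    (k K k' K' : Type*) [Field k] [Finite k] [Field K] [Algebra k K] [Field k'] [Finite k']
    [Field K'] [Algebra k k'] [Algebra K K'] [Algebra k' K'] (hK : FunFld.IsFunctionField k K)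
    (hK' : FunFld.IsFunctionField k' K') (hce : FunFld.IsConstExt k K k' K')
    (α : Fin (2 * FunFld.genus k K) → ℂ)
    (hα : PowerSeries.map (Int.castRingHom ℂ) (FunFld.numerZ k K) =
      ((∏ i, (1 - Polynomial.C (α i) * Polynomial.X) : Polynomial ℂ) : PowerSeries ℂ)) :
    (Nat.card {P : FunFld.Place k' K' // P.deg = 1} : ℂ) =
      1 + (Nat.card k : ℂ) ^ Module.finrank k k' - ∑ i, α i ^ Module.finrank k k' := by
  exact Groth.Agent.H23Zeta.card_places_deg_one_constExt hK hK' hce α hα

end Groth.Agent.S11062
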