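import Groth.Statements.S11063
import Groth.Agent.H23Curve.Basic

set_option autoImplicit false
open FunFld

namespace Groth.Agent.S11063

/-- Over an algebraically closed constant field, for a place `P` of a function field of genus `g` and `1
≤ l ≤ g`, the `l`-th gap number at `P` is at most `2l - 1`, i.e. at least `l` of the integers `1 ≤ m
≤ 2l - 1` satisfy `L(mP) = L((m-1)P)`. (The published statement bounds the `l`-th order of the
canonical map at `P` by `2l`; the orders of the canonical map at `P` are the gap numbers at `P` less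
one, which gives the form stated here.) -/
theorem result
    (k K : Type*) [Field k] [IsAlgClosed k] [Field K] [Algebra k K]
    (hK : FunFld.IsFunctionField k K) (P : FunFld.Place k K) (l : ℕ)
    (hl : 1 ≤ l) (hlg : l ≤ FunFld.genus k K) :
    l ≤ Set.ncard {m : ℕ | 1 ≤ m ∧ m ≤ 2 * l - 1 ∧
      FunFld.L (Finsupp.single P (m : ℤ)) = FunFld.L (Finsupp.single P ((m : ℤ) - 1))} := by
  classical
  obtain ⟨n, hn⟩ : ∃ n, 2 * l - 1 = n := ⟨_, rfl⟩
  have hset : {m : ℕ | 1 ≤ m ∧ m ≤ 2 * l - 1 ∧
      FunFld.L (Finsupp.single P (m : ℤ)) = FunFld.L (Finsupp.single P ((m : ℤ) - 1))} =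
      ↑((Finset.Icc 1 n).filter (fun m => Groth.Agent.H23Curve.IsGap P m)) := by
    ext m
    simp [hn, Groth.Agent.H23Curve.IsGap, and_assoc]
  rw [hset, Set.ncard_coe_finset]
  have hP := Groth.Agent.H23LinSer.deg_eq_one hK P
  have h1 := Groth.Agent.H23Curve.card_gaps hK hP n
  by_cases h : n + 2 ≤ 2 * FunFld.genus k K
  · have h2 : 2 * FunFld.ell (Finsupp.single P (n : ℤ)) ≤ n + 2 := by
      rcases Nat.eq_zero_or_pos (FunFld.ell (Finsupp.single P (n : ℤ))) with h0 | h0
      · omega
      have h3 := Groth.Agent.H23Curve.clifford hK h0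
        (by rw [Groth.Agent.H23FunFld.deg_single, hP]; omega)
      rw [Groth.Agent.H23FunFld.deg_single, hP] at h3
      omega
    omega
  · have h2 := Groth.Agent.H23FunFld.ell_of_deg_large hK (D := Finsupp.single P (n : ℤ))
      (by rw [Groth.Agent.H23FunFld.deg_single, hP]; omega)
    rw [Groth.Agent.H23FunFld.deg_single, hP] at h2
    omega

end Groth.Agent.S11063
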