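import Groth.Statements.S11064
import Mathlib
import Groth.Agent.H23FunFld.Degree

set_option autoImplicit false
open FunFld

namespace Groth.Agent.S11064

/-- Over an algebraically closed constant field, a projective map `φ = (φ₀, …, φₙ)` that is nonsingular
at some place is birational, i.e. the ratios `φᵢ/φ₀` generate `K` over `k`. Here the local ring of a
projective map at a place consists of the quotients of polynomials over `k` in the ratios `φᵢ/φⱼ`,
`φⱼ` of least order at the place, with denominator a unit there; the map is nonsingular at the place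
when this ring is the whole valuation ring. -/
theorem result
    (k K : Type*) [Field k] [IsAlgClosed k] [Field K] [Algebra k K]
    (hK : FunFld.IsFunctionField k K) {n : ℕ} (φ : Fin (n + 1) → K)
    (h0 : φ 0 ≠ 0) (P : FunFld.Place k K) (h : FunFld.IsNonsingularAt φ P) :
    IntermediateField.adjoin k (Set.range fun i => φ i / φ 0) = ⊤ := by
  set F := IntermediateField.adjoin k (Set.range fun i => φ i / φ 0)
  have hO : ∀ z : K, P.1 z ≤ 1 → z ∈ F := by
    intro z hz
    obtain ⟨j, hj0, -, u, hu, w, hw, hw1, e⟩ := h z hz
    have hA : Algebra.adjoin k (Set.range fun i => φ i / φ j) ≤ F.toSubalgebra := by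
      refine Algebra.adjoin_le ?_
      rintro _ ⟨i, rfl⟩
      have h1 : ∀ l, φ l / φ 0 ∈ F := fun l => IntermediateField.subset_adjoin _ _ ⟨l, rfl⟩
      have h2 := div_mem (h1 i) (h1 j)
      rwa [div_div_div_cancel_right₀ h0] at h2
    have hw0 : w ≠ 0 := fun h0' => by rw [h0', map_zero] at hw1; exact zero_ne_one hw1
    have h2 : z = u / w := by rw [← e, mul_div_cancel_right₀ _ hw0]
    exact h2 ▸ div_mem (hA hu) (hA hw)
  rw [eq_top_iff]
  intro z _
  rcases le_total (P.1 z) 1 with hz | hz
  · exact hO z hz
  · have h1 := hO z⁻¹ (by rw [map_inv₀]; exact inv_le_one_of_one_le₀ hz)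
    simpa using inv_mem h1

end Groth.Agent.S11064
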