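import Groth.Statements.S11065
import Mathlib
import Groth.Agent.H23Proj.LocalRing

set_option autoImplicit false
open FunFld

namespace Groth.Agent.S11065

/-- Over an algebraically closed constant field, a projective map `φ = (φ₀, …, φₙ)`, `n ≥ 1`, is
nonsingular at the place `P` if and only if its local ring at `P` lies in the valuation ring of no
place other than `P` and contains a local parameter at `P`. Here the local ring of a projective map
at a place consists of the quotients of polynomials over `k` in the ratios `φᵢ/φⱼ`, `φⱼ` of least
order at the place, with denominator a unit there; the map is nonsingular at the place when this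
ring is the whole valuation ring. (The published statement is for any projective map; the published
proof uses the finiteness property of the local ring that is established for birational maps, so `φ`
is taken birational here: the ratios `φᵢ/φ₀` generate `K` over `k`.) -/
theorem result
    (k K : Type*) [Field k] [IsAlgClosed k] [Field K] [Algebra k K]
    (hK : FunFld.IsFunctionField k K) {n : ℕ} (hn : 1 ≤ n)
    (φ : Fin (n + 1) → K) (hφ : LinearIndependent k φ)
    (hbir : IntermediateField.adjoin k (Set.range fun i => φ i / φ 0) = ⊤) (P : FunFld.Place k K) :
    FunFld.IsNonsingularAt φ P ↔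
      (∀ Q : FunFld.Place k K, (∀ z : K, FunFld.InLocRing φ P z → Q.1 z ≤ 1) → Q = P) ∧
        ∃ t : K, FunFld.InLocRing φ P t ∧ P.1 t = WithZero.exp (-1) := by
  have hne := hφ.ne_zero
  constructor
  · intro hns
    obtain ⟨t, -, ht⟩ := Groth.Agent.H23FunFld.exists_val_eq P (-1)
    refine ⟨fun Q hQ => (Groth.Agent.H23FunFld.place_eq_of_le fun z hz => hQ z (hns z hz)).symm,
      t, hns t ?_, ht⟩
    rw [ht, ← WithZero.exp_zero, WithZero.exp_le_exp]; omega
  · rintro ⟨huniq, t, hloc, ht⟩
    exact (Groth.Agent.H23Proj.isNonsingularAt_iff hK hne hn hφ hbir P).2
      ⟨fun Q hQ => huniq Q fun z hz => ((Groth.Agent.S11078.result k K hK hn φ hφ P Q).1 hQ z hz).1,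
        Groth.Agent.H23Proj.exists_order_one hK hne hloc ht⟩

end Groth.Agent.S11065
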