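import Groth.Statements.S11066
import Mathlib
import Groth.Agent.H23Proj.Basic

set_option autoImplicit false
open FunFld

namespace Groth.Agent.S11066

/-- Over an algebraically closed constant field, for an effective projective map `φ` normalized at the
place `P` (`1` in the span of the entries, all entries integral at `P`), the local ring of `φ` at
`P` has an element of order one at `P` (a local parameter) exactly when the span of the entries has
one. The local ring consists of the quotients of polynomials over `k` in the ratios `φᵢ/φⱼ`, `φⱼ` of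
least order at `P`, with denominator a unit at `P`. -/
theorem result
    (k K : Type*) [Field k] [IsAlgClosed k] [Field K] [Algebra k K]
    (hK : FunFld.IsFunctionField k K) {n : ℕ} (φ : Fin (n + 1) → K)
    (P : FunFld.Place k K) (heff : (1 : K) ∈ Submodule.span k (Set.range φ))
    (hnorm : ∀ i, P.1 (φ i) ≤ 1) :
    (∃ t : K, FunFld.InLocRing φ P t ∧ P.1 t = WithZero.exp (-1)) ↔
      ∃ t ∈ Submodule.span k (Set.range φ), P.1 t = WithZero.exp (-1) := by
  open Groth.Agent.H23Proj in
  have main : ∀ j, φ j ≠ 0 → (∀ i, P.1 (φ i) ≤ P.1 (φ j)) → P.1 (φ j) = 1 := by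
    intro j _ hj
    refine le_antisymm (hnorm j) ?_
    have : ∀ s ∈ Submodule.span k (Set.range φ), P.1 s ≤ P.1 (φ j) := by
      intro s hs
      induction hs using Submodule.span_induction with
      | mem x hx => obtain ⟨i, rfl⟩ := hx; exact hj i
      | zero => rw [map_zero]; exact zero_le
      | add x y _ _ hx hy => exact (P.1.map_add x y).trans (max_le hx hy)
      | smul c x _ hx => exact (Groth.Agent.H23FunFld.val_smul_le P c x).trans hx
    simpa using this 1 heff
  constructor
  · rintro ⟨t, ⟨j, hj0, hj, u, hu, w, hw, hw1, huw⟩, ht⟩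
    by_contra hno
    have hφ1 : ∀ i, φ i ∈ Groth.Agent.H23Proj.congConst P 1 := by
      intro i
      obtain ⟨c, hc⟩ := Groth.Agent.H23Proj.eq_one_of_isAlgClosed hK P (hnorm i)
      refine ⟨c, ?_⟩
      have h1 := Groth.Agent.H23FunFld.pow_le_exp_of_lt_one hc 1
      rw [pow_one] at h1
      rcases eq_or_ne (P.1 (φ i - algebraMap k K c)) 0 with h0 | h0
      · rw [h0]; exact zero_le
      obtain ⟨n, hn⟩ : ∃ n : ℤ, P.1 (φ i - algebraMap k K c) = WithZero.exp n :=
        ⟨_, (WithZero.exp_log h0).symm⟩
      rw [hn, WithZero.exp_le_exp] at h1 ⊢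
      rcases h1.lt_or_eq with h2 | h2
      · push_cast at h2 ⊢; omega
      · refine absurd ⟨φ i - algebraMap k K c, Submodule.sub_mem _ (Submodule.subset_span ⟨i, rfl⟩) ?_, ?_⟩ hno
        · rw [Algebra.algebraMap_eq_smul_one]; exact Submodule.smul_mem _ _ heff
        · rw [hn, h2]; push_cast; rfl
    obtain ⟨cj, hcj⟩ := hφ1 j
    have hcj0 : cj ≠ 0 := by
      rintro rfl
      rw [map_zero, sub_zero, main j hj0 hj, ← WithZero.exp_zero, WithZero.exp_le_exp] at hcj
      omega
    have hinv : ∀ i, φ i / φ j ∈ Groth.Agent.H23Proj.congConst P 1 := by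
      intro i
      obtain ⟨ci, hci⟩ := hφ1 i
      refine ⟨ci / cj, ?_⟩
      have hc0 : algebraMap k K cj ≠ 0 := by simpa using hcj0
      rw [map_div₀ (algebraMap k K), show φ i / φ j - algebraMap k K ci / algebraMap k K cj =
        ((φ i - algebraMap k K ci) * algebraMap k K cj - algebraMap k K ci * (φ j - algebraMap k K cj)) /
          (φ j * algebraMap k K cj) by field_simp; ring, map_div₀ P.1, map_mul P.1 (φ j),
        main j hj0 hj, Groth.Agent.H23FunFld.val_const P hcj0, one_mul, div_one]
      refine (P.1.map_sub _ _).trans (max_le ?_ ?_) <;> rw [map_mul]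
      · exact (mul_le_of_le_one_right zero_le (P.2.1 _)).trans hci
      · exact (mul_le_of_le_one_left zero_le (P.2.1 _)).trans hcj
    obtain ⟨c, hc⟩ := Algebra.adjoin_le (Set.range_subset_iff.2 hinv) hu
    have hut : P.1 u = WithZero.exp (-1) := by rw [← huw, map_mul, ht, hw1, mul_one]
    rcases eq_or_ne c 0 with rfl | hc0
    · rw [map_zero, sub_zero, hut, WithZero.exp_le_exp] at hc
      omega
    · have h1 : P.1 (algebraMap k K c) ≤ max (P.1 u) (P.1 (u - algebraMap k K c)) := by
        simpa using P.1.map_sub u (u - algebraMap k K c)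
      rw [Groth.Agent.H23FunFld.val_const P hc0, le_max_iff, hut] at h1
      rcases h1 with h1 | h1
      · rw [← WithZero.exp_zero, WithZero.exp_le_exp] at h1; omega
      · have h2 := h1.trans hc
        rw [← WithZero.exp_zero, WithZero.exp_le_exp] at h2; omega
  · rintro ⟨t, hts, ht⟩
    obtain ⟨j, hj⟩ := Groth.Agent.H23Proj.exists_max P φ
    have hj0 : φ j ≠ 0 := by
      intro h0
      have h1 : ∀ i, φ i = 0 := fun i => by
        have := hj i
        rw [h0, map_zero, le_zero_iff] at this
        exact (Valuation.zero_iff _).1 this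
      rw [show φ = 0 from funext h1, show Set.range (0 : Fin (n + 1) → K) = {0} from Set.range_const,
        Submodule.span_zero_singleton, Submodule.mem_bot] at heff
      exact one_ne_zero heff
    refine ⟨t / φ j, ⟨j, hj0, hj, t / φ j, ?_, 1, Subalgebra.one_mem _, map_one _, mul_one _⟩, ?_⟩
    · clear ht
      induction hts using Submodule.span_induction with
      | mem x hx => obtain ⟨i, rfl⟩ := hx; exact Algebra.subset_adjoin ⟨i, rfl⟩
      | zero => rw [zero_div]; exact Subalgebra.zero_mem _
      | add x y _ _ hx hy => rw [add_div]; exact Subalgebra.add_mem _ hx hy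
      | smul c x _ hx => rw [smul_div_assoc]; exact Subalgebra.smul_mem _ hx c
    · rw [map_div₀, main j hj0 hj, div_one, ht]

end Groth.Agent.S11066
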