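import Groth.Statements.S11067
import Mathlib
import Groth.Agent.H23Hyp.Basic
import Groth.Agent.H23Ext.Over

set_option autoImplicit false
open FunFld

namespace Groth.Agent.S11067

/-- Over an algebraically closed constant field, for a plane curve with natural map `(1 : x : y)` (so `K
= k(x, y)`) and `y` integral over `k[x]`, the ring `k[x, y]` is the intersection of the rings
`O_P[y]` over the places `P` of `k(x)` at which `x` is integral. -/
theorem result
    (k K : Type*) [Field k] [IsAlgClosed k] [Field K] [Algebra k K]
    (hK : FunFld.IsFunctionField k K) (x y : K) (hx : Transcendental k x)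
    (hxy : IntermediateField.adjoin k ({x, y} : Set K) = ⊤)
    (hy : IsIntegral (Algebra.adjoin k ({x} : Set K)) y) :
    (Algebra.adjoin k ({x, y} : Set K) : Set K) =
      ⋂ (P : FunFld.Place k (IntermediateField.adjoin k ({x} : Set K)))
        (_ : P.1 ⟨x, IntermediateField.mem_adjoin_simple_self k x⟩ ≤ 1),
        (Subring.closure
          ((algebraMap (IntermediateField.adjoin k ({x} : Set K)) K '' (P.O : Set _)) ∪ {y}) :
          Set K) := by
  classical
  set B := IntermediateField.adjoin k ({x} : Set K)
  set xB : B := ⟨x, IntermediateField.mem_adjoin_simple_self k x⟩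
  set A := Algebra.adjoin k ({x} : Set K)
  set E := Algebra.adjoin k ({x, y} : Set K)
  have hAB : ∀ a ∈ A, a ∈ B := fun a ha => IntermediateField.algebra_adjoin_le_adjoin k _ ha
  have hAE : ∀ a ∈ A, a ∈ E := fun a ha => Algebra.adjoin_mono (Set.singleton_subset_iff.2 (Set.mem_insert x _)) ha
  haveI : FiniteDimensional B K := Groth.Agent.H23FunFld.finiteDimensional_adjoin hK hx
  have hBfun : FunFld.IsFunctionField k B := by
    refine ⟨⟨xB, fun h => hx (h.algebraMap (A := K)), ?_⟩, fun r hr => ?_⟩
    · have htop : IntermediateField.adjoin k ({xB} : Set B) = ⊤ := by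
        refine IntermediateField.lift_injective B ?_
        rw [IntermediateField.lift_adjoin_simple, IntermediateField.lift_top]
      rw [htop]
      exact Module.Finite.of_surjective (Algebra.linearMap (⊤ : IntermediateField k B) B)
        (fun z => ⟨⟨z, trivial⟩, rfl⟩)
    · obtain ⟨c, hc⟩ := hK.2 (r : K) hr.algebraMap
      exact ⟨c, Subtype.ext hc⟩
  have hxBt : Transcendental k xB := fun h => hx (h.algebraMap (A := K))
  -- the finite places see exactly the polynomials
  have hpoly : ∀ r : B, (∀ P : FunFld.Place k B, P.1 xB ≤ 1 → P.1 r ≤ 1) → (r : K) ∈ A := by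
    intro r hr
    obtain ⟨hg, P, hd, hP, hother⟩ := Groth.Agent.H23FunFld.genus_zero_of_adjoin_top hBfun (x := xB)
      (IntermediateField.lift_injective B (by rw [IntermediateField.lift_adjoin_simple, IntermediateField.lift_top]))
    rcases eq_or_ne r 0 with rfl | hr0
    · exact A.zero_mem
    have hxB0 : xB ≠ 0 := fun h => hxBt (h ▸ isAlgebraic_zero)
    set n := (-P.ord r).toNat
    have hL : r ∈ FunFld.L (n • Groth.Agent.H23FunFld.poleDiv (k := k) xB) := by
      refine Groth.Agent.H23FunFld.mem_L.2 fun Q => ?_
      rw [Finsupp.smul_apply, Groth.Agent.H23FunFld.poleDiv_apply hBfun, nsmul_eq_mul,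
        Groth.Agent.H23FunFld.val_le_exp_iff Q hr0]
      rcases eq_or_ne Q P with rfl | hne
      · rw [hP]; simp [n]
      · have h1 := hother Q hne
        have h2 := (Groth.Agent.H23FunFld.val_le_one_iff Q hr0).1 (hr Q ((Groth.Agent.H23FunFld.val_le_one_iff Q hxB0).2 h1))
        rw [max_eq_left (by omega)]
        simp
        omega
    have hmem : r ∈ IntermediateField.adjoin k ({xB} : Set B) := by
      rw [IntermediateField.lift_injective B
        (show IntermediateField.lift (IntermediateField.adjoin k ({xB} : Set B)) = IntermediateField.lift ⊤ by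
          rw [IntermediateField.lift_adjoin_simple, IntermediateField.lift_top])]
      trivial
    obtain ⟨q, -, hq⟩ := Groth.Agent.H23Hyp.exists_poly_of_mem_L hBfun hxBt hmem hL
    rw [← hq, ← IntermediateField.aeval_coe]
    exact Polynomial.aeval_mem_adjoin_singleton k x
  -- a monic relation over `k[x]`
  obtain ⟨p, hpm, hp⟩ := hy
  let ι : A →+* B := (Subsemiring.subtype A.toSubsemiring).codRestrict B fun a => hAB _ a.2
  have hint : IsIntegral B y := IsIntegral.of_finite B y
  set m := minpoly B y with hm
  have hroot : Polynomial.aeval y (p.map ι) = 0 := by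
    rw [Polynomial.aeval_def, Polynomial.eval₂_map]
    exact hp
  have hdvd : m ∣ p.map ι := minpoly.dvd B y hroot
  have hmint : ∀ P : FunFld.Place k B, P.1 xB ≤ 1 → ∀ i, m.coeff i ∈ P.O := by
    intro P hP i
    have hι : ∀ a, ι a ∈ P.O := by
      intro a
      obtain ⟨q, hq⟩ := (Algebra.adjoin_singleton_eq_range_aeval k x ▸ a.2 : (a : K) ∈ (Polynomial.aeval (R := k) x).range)
      rw [show ι a = Polynomial.aeval xB q from Subtype.ext (by
        rw [← IntermediateField.aeval_coe]; exact hq.symm)]
      exact Groth.Agent.H23Hyp.val_aeval_le_one P hP q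
    let ιP : A →+* P.O := ι.codRestrict P.O hι
    have hfac : m ∣ (p.map ιP).map (algebraMap P.O B) := by
      rw [Polynomial.map_map]
      exact hdvd
    have hI : IsIntegral P.O (m.coeff i) :=
      Polynomial.isIntegral_coeff_of_dvd _ m (hpm.map _) (minpoly.monic hint) hfac i
    obtain ⟨c, hc⟩ := IsIntegrallyClosed.isIntegral_iff.1 hI
    exact hc ▸ c.2
  have hmA : ∀ i, (m.coeff i : K) ∈ A := fun i => hpoly _ fun P hP => hmint P hP i
  -- coordinates
  have htop : IntermediateField.adjoin B ({y} : Set K) = ⊤ := by
    refine IntermediateField.restrictScalars_injective k ?_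
    rw [IntermediateField.restrictScalars_top, IntermediateField.adjoin_adjoin_left, Set.singleton_union, hxy]
  let pb := (IntermediateField.adjoin.powerBasis hint).map
    ((IntermediateField.equivOfEq htop).trans IntermediateField.topEquiv)
  have hgen : pb.gen = y := rfl
  have hcoord : ∀ P : FunFld.Place k B, P.1 xB ≤ 1 → ∀ z ∈ Subring.closure (algebraMap B K '' (P.O : Set B) ∪ {y}),
      ∀ i, pb.basis.repr z i ∈ P.O := by
    intro P hP z hz
    have hmin : minpoly B pb.gen = m := by rw [hgen]
    have hyint : IsIntegral P.O y := by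
      refine ⟨p.map ((ι.codRestrict P.O fun a => ?_) : A →+* P.O), hpm.map _, ?_⟩
      · obtain ⟨q, hq⟩ := (Algebra.adjoin_singleton_eq_range_aeval k x ▸ a.2 : (a : K) ∈ (Polynomial.aeval (R := k) x).range)
        rw [show ι a = Polynomial.aeval xB q from Subtype.ext (by
          rw [← IntermediateField.aeval_coe]; exact hq.symm)]
        exact Groth.Agent.H23Hyp.val_aeval_le_one P hP q
      · rw [Polynomial.eval₂_map]
        exact hp
    -- the lattice spanned by the powers of `y`
    let L : Submodule P.O K := Submodule.span P.O (Set.range pb.basis)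
    have hcl : ∀ w, w ∈ Algebra.adjoin P.O ({y} : Set K) → w ∈ L := by
      intro w hw
      rw [Algebra.adjoin_singleton_eq_range_aeval] at hw
      obtain ⟨q, rfl⟩ := hw
      obtain ⟨mP, hmP, hdeg', hmonP⟩ := Polynomial.lifts_and_degree_eq_and_monic
        (show m ∈ Polynomial.lifts (algebraMap P.O B) from
          (Polynomial.lifts_iff_coeff_lifts m).2 fun i => ⟨⟨m.coeff i, hmint P hP i⟩, rfl⟩) (minpoly.monic hint)
      have hy0 : Polynomial.aeval y mP = 0 := by
        have h0 : Polynomial.aeval y (mP.map (algebraMap P.O B)) = 0 := by rw [hmP]; exact minpoly.aeval B y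
        rwa [Polynomial.aeval_map_algebraMap] at h0
      change Polynomial.aeval y q ∈ L
      rw [← Polynomial.modByMonic_add_div q mP, map_add, map_mul, hy0, zero_mul, add_zero]
      rcases eq_or_ne (q %ₘ mP) 0 with h0 | h0
      · rw [h0, map_zero]; exact L.zero_mem
      rw [Polynomial.aeval_eq_sum_range]
      refine L.sum_mem fun i hi => L.smul_mem _ (Submodule.subset_span ?_)
      have hlt : (q %ₘ mP).natDegree < pb.dim := by
        have h1 := Polynomial.degree_modByMonic_lt q hmonP
        rw [hdeg', Polynomial.degree_eq_natDegree h0, Polynomial.degree_eq_natDegree (minpoly.ne_zero hint), Nat.cast_lt] at h1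
        exact h1
      refine ⟨⟨i, lt_of_le_of_lt (Nat.lt_succ_iff.1 (Finset.mem_range.1 hi)) hlt⟩, ?_⟩
      rw [pb.basis_eq_pow, hgen]
    have hsub : z ∈ Algebra.adjoin P.O ({y} : Set K) := by
      refine Subring.closure_le (t := (Algebra.adjoin P.O ({y} : Set K)).toSubring) |>.2 ?_ hz
      rintro w (⟨c, hc, rfl⟩ | hw)
      · exact Subalgebra.algebraMap_mem _ (⟨c, hc⟩ : P.O)
      · exact Algebra.subset_adjoin hw
    intro i
    obtain ⟨c, hc⟩ := (Submodule.mem_span_range_iff_exists_fun P.O).1 (hcl z hsub)
    have e : z = ∑ j, ((c j : P.O) : B) • pb.basis j := by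
      rw [← hc]
      exact Finset.sum_congr rfl fun j _ => (IsScalarTower.algebraMap_smul B (c j) (pb.basis j)).symm
    rw [e, pb.basis.repr_sum_self]
    exact (c i).2
  ext z
  simp only [Set.mem_iInter, SetLike.mem_coe]
  constructor
  · intro hz P hP
    have hk : ∀ c : k, algebraMap k K c ∈ Subring.closure (algebraMap B K '' (P.O : Set B) ∪ {y}) := fun c =>
      Subring.subset_closure (Or.inl ⟨algebraMap k B c, P.2.1 c, rfl⟩)
    induction hz using Algebra.adjoin_induction with
    | mem v hv =>
      rcases hv with rfl | hv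
      · exact Subring.subset_closure (Or.inl ⟨xB, hP, rfl⟩)
      · exact Subring.subset_closure (Or.inr hv)
    | algebraMap c => exact hk c
    | add a b _ _ ha hb => exact add_mem ha hb
    | mul a b _ _ ha hb => exact mul_mem ha hb
  · intro hz
    rw [← pb.basis.sum_repr z]
    refine E.sum_mem fun i _ => ?_
    have h1 : ((pb.basis.repr z i : B) : K) ∈ E :=
      hAE _ (hpoly _ fun P hP => hcoord P hP z (hz P hP) i)
    have h2 : pb.basis i ∈ E := by
      rw [pb.basis_eq_pow, hgen]
      exact E.pow_mem (Algebra.subset_adjoin (Set.mem_insert_of_mem x (Set.mem_singleton y))) _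
    have e : pb.basis.repr z i • pb.basis i = ((pb.basis.repr z i : B) : K) * pb.basis i := rfl
    rw [e]
    exact E.mul_mem h1 h2

end Groth.Agent.S11067
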