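import Groth.Statements.S11068
import Mathlib
import Groth.Agent.H23FunFld.Degree
import Groth.Agent.H23FunFld.Places

set_option autoImplicit false
open FunFld

namespace Groth.Agent.S11068

/-- Over a finite constant field with `q` elements, let `K̄ = k̄ ⊗ K` be the constant-field extension to
an algebraic closure and `F` its Frobenius map (identity on `k̄`, `q`-th power on `K`). A place `Q`
of `K̄/k̄` satisfies `Q^F = Q` (the maximal ideal of `Q` is exactly the preimage of itself under
`F`) if and only if `Q` is defined over `k`, i.e. the place of `K` below `Q` has degree one. -/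
theorem result
    (k K kb Kb : Type*) [Field k] [Finite k] [Field K] [Algebra k K] [Field kb] [Algebra k kb]
    [IsAlgClosure k kb] [Field Kb] [Algebra K Kb] [Algebra kb Kb]
    (hK : FunFld.IsFunctionField k K)
    (hc : ∀ c : k, algebraMap K Kb (algebraMap k K c) = algebraMap kb Kb (algebraMap k kb c))
    (hgen : Algebra.adjoin K (Set.range (algebraMap kb Kb)) = ⊤)
    (F : Kb →+* Kb) (hF1 : ∀ c : kb, F (algebraMap kb Kb c) = algebraMap kb Kb c)
    (hF2 : ∀ x : K, F (algebraMap K Kb x) = algebraMap K Kb x ^ Nat.card k)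
    (Q : FunFld.Place kb Kb) :
    (∀ z : Kb, Q.1 (F z) < 1 ↔ Q.1 z < 1) ↔
      ∃ P : FunFld.Place k K, (∀ x : K, Q.1 (algebraMap K Kb x) ≤ 1 ↔ P.1 x ≤ 1) ∧ P.deg = 1 := by
  classical
  haveI : IsAlgClosed kb := IsAlgClosure.isAlgClosed k
  haveI : Algebra.IsAlgebraic k kb := IsAlgClosure.isAlgebraic
  letI : Algebra k Kb := ((algebraMap K Kb).comp (algebraMap k K)).toAlgebra
  haveI : IsScalarTower k K Kb := IsScalarTower.of_algebraMap_eq fun _ => rfl
  haveI : IsScalarTower k kb Kb := IsScalarTower.of_algebraMap_eq hc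
  letI : Fintype k := Fintype.ofFinite k
  set q := Nat.card k
  have hq : q = Fintype.card k := Nat.card_eq_fintype_card
  have hq1 : 1 < q := hq ▸ Fintype.one_lt_card
  obtain ⟨p, hp⟩ := CharP.exists k
  obtain ⟨n, hpp, hpn⟩ := FiniteField.card k p
  haveI : Fact p.Prime := ⟨hpp⟩
  haveI : CharP Kb p := charP_of_injective_algebraMap (algebraMap k Kb).injective p
  have hqp : q = p ^ (n : ℕ) := hq.trans hpn
  have hkb : ∀ c : kb, c ≠ 0 → Q.1 (algebraMap kb Kb c) = 1 := fun c hc0 =>
    Groth.Agent.H23FunFld.val_const Q hc0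
  constructor
  · intro hfix
    haveI : Algebra.IsIntegral K Kb := ⟨fun z => by
      have hz : z ∈ Algebra.adjoin K (Set.range (algebraMap kb Kb)) := by rw [hgen]; trivial
      refine (Algebra.adjoin_le (S := integralClosure K Kb) ?_) hz
      rintro _ ⟨c, rfl⟩
      exact ((Algebra.IsIntegral.isIntegral (R := k) c).map (IsScalarTower.toAlgHom k kb Kb)).tower_top⟩
    set O : ValuationSubring K := (Q.1.comap (algebraMap K Kb)).valuationSubring
    have hk : ∀ c : k, algebraMap k K c ∈ O := fun c => by
      change Q.1 (algebraMap K Kb (algebraMap k K c)) ≤ 1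
      rw [hc]; exact Q.2.1 _
    have hO : O ≠ ⊤ := by
      intro htop
      have hle : ∀ a : K, Q.1 (algebraMap K Kb a) ≤ 1 := fun a => by
        have : a ∈ O := htop ▸ ValuationSubring.mem_top a
        exact this
      obtain ⟨z, hz⟩ := Q.2.2 (WithZero.exp 1)
      have hgt : 1 < Q.1 z := by rw [hz, ← WithZero.exp_zero, WithZero.exp_lt_exp]; omega
      obtain ⟨f, hm, hf⟩ := Algebra.IsIntegral.isIntegral (R := K) z
      rw [Polynomial.eval₂_eq_sum_range, Finset.sum_range_succ, hm.coeff_natDegree, map_one, one_mul] at hf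
      have hlt : Q.1 (∑ i ∈ Finset.range f.natDegree, algebraMap K Kb (f.coeff i) * z ^ i) <
          Q.1 z ^ f.natDegree := by
        refine Q.1.map_sum_lt' (pow_pos (zero_lt_one.trans hgt) _) fun i hi => ?_
        rw [map_mul, map_pow]
        exact (mul_le_of_le_one_left zero_le (hle _)).trans_lt (pow_lt_pow_right₀ hgt (Finset.mem_range.1 hi))
      rw [eq_neg_of_add_eq_zero_left hf, Valuation.map_neg, map_pow] at hlt
      exact lt_irrefl _ hlt
    obtain ⟨P, hP⟩ := Groth.Agent.H23FunFld.exists_place_of_valuationSubring hK O hk hO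
    have hPQ : ∀ x : K, Q.1 (algebraMap K Kb x) ≤ 1 ↔ P.1 x ≤ 1 := fun x => (hP x).symm
    refine ⟨P, hPQ, ?_⟩
    have hPQ' : ∀ x : K, P.1 x < 1 → Q.1 (algebraMap K Kb x) < 1 := fun x hx => by
      rcases eq_or_ne x 0 with rfl | hx0
      · simp
      by_contra hge
      have h1 : Q.1 (algebraMap K Kb x⁻¹) ≤ 1 := by
        rw [map_inv₀, map_inv₀]; exact (inv_le_one₀ (zero_lt_one.trans_le (not_lt.1 hge))).2 (not_lt.1 hge)
      rw [hPQ, map_inv₀, inv_le_one₀ (zero_lt_iff.2 (Groth.Agent.H23FunFld.val_ne_zero P hx0))] at h1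
      exact not_lt.2 h1 hx
    letI : Module k (IsLocalRing.ResidueField P.O) := (FunFld.Place.algRes P).toModule
    haveI : Module.Finite k (IsLocalRing.ResidueField P.O) :=
      Module.finite_of_finrank_pos (Groth.Agent.H23FunFld.deg_pos hK P)
    have hsurj : Function.Surjective (algebraMap k (IsLocalRing.ResidueField P.O)) := by
      intro r
      obtain ⟨⟨x, hx⟩, rfl⟩ := IsLocalRing.residue_surjective r
      set r := IsLocalRing.residue P.O ⟨x, hx⟩
      have hint : IsIntegral k r := Algebra.IsIntegral.isIntegral r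
      have hres : ∀ (z : P.O), IsLocalRing.residue P.O z = 0 ↔ P.1 (z : K) < 1 := fun z => by
        rw [IsLocalRing.residue_eq_zero_iff, ValuationSubring.valuation_lt_one_iff,
          ← P.1.isEquiv_valuation_valuationSubring.lt_one_iff_lt_one]
      let res : P.O →ₐ[k] IsLocalRing.ResidueField P.O := { IsLocalRing.residue P.O with commutes' := fun _ => rfl }
      let inc : P.O →ₐ[k] K := { P.O.subtype with commutes' := fun _ => rfl }
      have hlt : Q.1 (Polynomial.aeval (algebraMap K Kb x) (minpoly k r)) < 1 := by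
        rw [Polynomial.aeval_algebraMap_apply]
        refine hPQ' _ ?_
        rw [show Polynomial.aeval x (minpoly k r) = ((Polynomial.aeval (⟨x, hx⟩ : P.O) (minpoly k r) : P.O) : K) from
          Polynomial.aeval_algHom_apply inc (⟨x, hx⟩ : P.O) (minpoly k r)]
        rw [← hres]
        have e2 := Polynomial.aeval_algHom_apply res (⟨x, hx⟩ : P.O) (minpoly k r)
        exact e2.symm.trans (minpoly.aeval k r)
      have hspl := IsAlgClosed.splits ((minpoly k r).map (algebraMap k kb))
      set m := (minpoly k r).map (algebraMap k kb)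
      have hm : m.Monic := (minpoly.monic hint).map _
      rw [← Polynomial.aeval_map_algebraMap kb] at hlt
      change Q.1 (Polynomial.aeval (algebraMap K Kb x) m) < 1 at hlt
      rw [hspl.eq_prod_roots_of_monic hm, map_multiset_prod, map_multiset_prod, Multiset.map_map, Multiset.map_map] at hlt
      obtain ⟨c, -, hcx⟩ : ∃ c ∈ m.roots, Q.1 (algebraMap K Kb x - algebraMap kb Kb c) < 1 := by
        by_contra hno
        push Not at hno
        refine not_le.2 hlt (Multiset.one_le_prod fun v hv => ?_)
        obtain ⟨c, hc', rfl⟩ := Multiset.mem_map.1 hv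
        simpa using hno c hc'
      have h1 := (hfix _).2 hcx
      rw [map_sub, hF1, hF2] at h1
      have h2 : Q.1 (algebraMap K Kb x ^ q - algebraMap kb Kb c ^ q) < 1 := by
        rw [hqp, ← sub_pow_char_pow, map_pow]
        exact pow_lt_one₀ zero_le hcx (pow_ne_zero _ hpp.ne_zero)
      have h3 : Q.1 (algebraMap kb Kb (c ^ q - c)) < 1 := by
        rw [map_sub, map_pow, show algebraMap kb Kb c ^ q - algebraMap kb Kb c =
          (algebraMap K Kb x ^ q - algebraMap kb Kb c) - (algebraMap K Kb x ^ q - algebraMap kb Kb c ^ q) by ring]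
        exact (Q.1.map_sub _ _).trans_lt (max_lt h1 h2)
      have hcq : c ^ q = c := by
        by_contra hne
        rw [hkb _ (sub_ne_zero.2 hne)] at h3
        exact lt_irrefl _ h3
      obtain ⟨a, rfl⟩ : ∃ a : k, algebraMap k kb a = c := by
        by_contra hno
        push Not at hno
        have hsub : insert c (Finset.univ.image (algebraMap k kb)) ⊆ (Polynomial.X ^ q - Polynomial.X : Polynomial kb).roots.toFinset := by
          intro b hb
          rw [Multiset.mem_toFinset, Polynomial.mem_roots (FiniteField.X_pow_card_sub_X_ne_zero kb hq1)]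
          rcases Finset.mem_insert.1 hb with rfl | hb
          · simp [hcq]
          · obtain ⟨a, -, rfl⟩ := Finset.mem_image.1 hb
            simp [← map_pow, hq, FiniteField.pow_card]
        have h4 := (Finset.card_le_card hsub).trans ((Multiset.toFinset_card_le _).trans (Polynomial.card_roots' _))
        rw [Finset.card_insert_of_notMem (by simpa using hno),
          Finset.card_image_of_injective _ (algebraMap k kb).injective, Finset.card_univ,
          FiniteField.X_pow_card_sub_X_natDegree_eq kb hq1, ← hq] at h4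
        omega
      refine ⟨a, ?_⟩
      rw [← hc, ← map_sub] at hcx
      have h5 : P.1 (x - algebraMap k K a) < 1 := by
        have hle : P.1 (x - algebraMap k K a) ≤ 1 := (hPQ _).1 hcx.le
        rcases eq_or_lt_of_le hle with he | he
        · exfalso
          have h6 : Q.1 (algebraMap K Kb (x - algebraMap k K a)⁻¹) ≤ 1 := (hPQ _).2 (by rw [map_inv₀, he, inv_one])
          have hne : x - algebraMap k K a ≠ 0 := fun h => by rw [h, map_zero] at he; exact zero_ne_one he
          rw [map_inv₀, map_inv₀, inv_le_one₀ (zero_lt_iff.2 (Groth.Agent.H23FunFld.val_ne_zero Q ((_root_.map_ne_zero _).2 hne)))] at h6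
          exact not_lt.2 h6 hcx
        · exact he
      have h7 : IsLocalRing.residue P.O (⟨x, hx⟩ - algebraMap k P.O a) = 0 := (hres _).2 h5
      rw [map_sub, sub_eq_zero] at h7
      exact h7.symm
    exact (Algebra.finrank_eq_of_equiv_equiv (RingEquiv.refl k)
      (RingEquiv.ofBijective (algebraMap k (IsLocalRing.ResidueField P.O)) ⟨(algebraMap k _).injective, hsurj⟩)
      (RingHom.ext fun _ => rfl)).symm.trans (Module.finrank_self k)
  · rintro ⟨P, hPQ, hdeg⟩
    letI : Module k (IsLocalRing.ResidueField P.O) := (FunFld.Place.algRes P).toModule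
    have hres : ∀ a : K, P.1 a ≤ 1 → ∃ e : k, Q.1 (algebraMap K Kb a - algebraMap K Kb (algebraMap k K e)) < 1 := by
      intro a ha
      obtain ⟨e, he⟩ := (finrank_eq_one_iff_of_nonzero' (1 : IsLocalRing.ResidueField P.O) one_ne_zero).1 hdeg
        (IsLocalRing.residue P.O ⟨a, ha⟩)
      refine ⟨e, ?_⟩
      replace he : algebraMap k (IsLocalRing.ResidueField P.O) e = IsLocalRing.residue P.O ⟨a, ha⟩ :=
        (Algebra.algebraMap_eq_smul_one e).trans he
      have h1 : IsLocalRing.residue P.O (⟨a, ha⟩ - algebraMap k P.O e) = 0 := by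
        rw [map_sub, sub_eq_zero]; exact he.symm
      rw [IsLocalRing.residue_eq_zero_iff, ValuationSubring.valuation_lt_one_iff,
        ← P.1.isEquiv_valuation_valuationSubring.lt_one_iff_lt_one] at h1
      change P.1 (a - algebraMap k K e) < 1 at h1
      rcases eq_or_ne (a - algebraMap k K e) 0 with h0 | h0
      · rw [← map_sub, h0, map_zero, map_zero]; exact zero_lt_one
      by_contra hge
      rw [not_lt, ← map_sub] at hge
      have h2 : P.1 (a - algebraMap k K e)⁻¹ ≤ 1 := (hPQ _).1 (by
        rw [map_inv₀, map_inv₀]; exact (inv_le_one₀ (zero_lt_one.trans_le hge)).2 hge)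
      rw [map_inv₀, inv_le_one₀ (zero_lt_iff.2 (Groth.Agent.H23FunFld.val_ne_zero P h0))] at h2
      exact not_lt.2 h2 h1
    let b := Module.Basis.ofVectorSpace k kb
    intro z
    have hz : z ∈ Submodule.span K (Set.range fun i => algebraMap kb Kb (b i)) := by
      have h1 : z ∈ Algebra.adjoin K (Set.range (algebraMap kb Kb)) := by rw [hgen]; trivial
      have h2 : z ∈ Submodule.span K (Set.range (algebraMap kb Kb)) := by
        rw [← Subalgebra.mem_toSubmodule, Algebra.adjoin_eq_span] at h1
        rwa [show (↑(Submonoid.closure (Set.range (algebraMap kb Kb))) : Set Kb) = Set.range (algebraMap kb Kb) by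
          exact congrArg (fun S : Submonoid Kb => (S : Set Kb)) (Submonoid.closure_eq (MonoidHom.mrange (algebraMap kb Kb).toMonoidHom))] at h1
      refine (Submodule.span_le.2 ?_) h2
      rintro _ ⟨c, rfl⟩
      rw [← b.linearCombination_repr c, Finsupp.linearCombination_apply, Finsupp.sum, map_sum]
      refine sum_mem fun i _ => ?_
      rw [Algebra.smul_def, map_mul, ← hc, ← Algebra.smul_def]
      exact Submodule.smul_mem _ _ (Submodule.subset_span ⟨i, rfl⟩)
    obtain ⟨a, rfl⟩ := (Finsupp.mem_span_range_iff_exists_finsupp).1 hz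
    rw [Finsupp.sum]
    simp only [Algebra.smul_def]
    rcases a.support.eq_empty_or_nonempty with he | hne
    · simp [he]
    obtain ⟨i₀, hi₀, hmax⟩ := a.support.exists_max_image (fun i => Q.1 (algebraMap K Kb (a i))) hne
    set A := algebraMap K Kb (a i₀)
    have hA0 : A ≠ 0 := (_root_.map_ne_zero _).2 (Finsupp.mem_support_iff.1 hi₀)
    have hAv : Q.1 A ≠ 0 := Groth.Agent.H23FunFld.val_ne_zero Q hA0
    have hdiv : ∀ i ∈ a.support, P.1 (a i / a i₀) ≤ 1 := fun i hi => (hPQ _).1 (by
      rw [map_div₀, map_div₀]; exact div_le_one_of_le₀ (hmax i hi) zero_le)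
    choose! e he using fun i (hi : i ∈ a.support) => hres _ (hdiv i hi)
    set C : kb := ∑ i ∈ a.support, e i • b i
    have he₀ : e i₀ ≠ 0 := by
      intro h0
      have h1 := he i₀ hi₀
      rw [h0, map_zero, map_zero, sub_zero, div_self (Finsupp.mem_support_iff.1 hi₀), map_one, map_one] at h1
      exact lt_irrefl _ h1
    have hC : C ≠ 0 := fun h0 => he₀ (linearIndependent_iff'.1 b.linearIndependent a.support e h0 i₀ hi₀)
    set z := ∑ i ∈ a.support, algebraMap K Kb (a i) * algebraMap kb Kb (b i)
    have hkb' : ∀ c : kb, Q.1 (algebraMap kb Kb c) ≤ 1 := Q.2.1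
    have key : ∀ (G : Kb →+* Kb), (∀ c, G (algebraMap kb Kb c) = algebraMap kb Kb c) →
        (∀ x : K, Q.1 (algebraMap K Kb x) < 1 → Q.1 (G (algebraMap K Kb x)) < 1) →
        Q.1 (G z) = Q.1 (G A) := by
      intro G hG1 hG2
      have h1 : Q.1 (G (z / A) - algebraMap kb Kb C) < 1 := by
        have e1 : z / A - algebraMap kb Kb C = ∑ i ∈ a.support, (algebraMap K Kb (a i / a i₀) -
            algebraMap K Kb (algebraMap k K (e i))) * algebraMap kb Kb (b i) := by
          simp only [z, C, Finset.sum_div, map_sum, ← Finset.sum_sub_distrib]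
          refine Finset.sum_congr rfl fun i _ => ?_
          rw [Algebra.smul_def, map_mul, ← hc, map_div₀]
          simp only [A]
          field_simp
        rw [← hG1 C, ← map_sub, e1, map_sum]
        refine Q.1.map_sum_lt one_ne_zero fun i hi => ?_
        rw [map_mul, hG1, map_mul]
        refine (mul_le_of_le_one_right zero_le (hkb' _)).trans_lt ?_
        rw [← map_sub]
        exact hG2 _ (by rw [map_sub]; exact he i hi)
      have h2 : Q.1 (G (z / A)) = 1 := by
        rw [Valuation.map_eq_of_sub_lt _ (h1.trans_eq (hkb C hC).symm), hkb C hC]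
      have hGA : Q.1 (G A) ≠ 0 := Groth.Agent.H23FunFld.val_ne_zero Q ((_root_.map_ne_zero G).2 hA0)
      rw [map_div₀, map_div₀, div_eq_one_iff_eq hGA] at h2
      exact h2
    have k1 : Q.1 z = Q.1 A := key (RingHom.id Kb) (fun _ => rfl) fun x hx => hx
    have k2 := key F hF1 fun x hx => by rw [hF2, map_pow]; exact pow_lt_one₀ zero_le hx (by omega)
    rw [k1, k2, show F A = A ^ q from hF2 _, map_pow]
    exact pow_lt_one_iff (by omega)

end Groth.Agent.S11068
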