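import Groth.Statements.S11069
import Mathlib
import Groth.Agent.H23Proj.Conorm

set_option autoImplicit false
open FunFld

namespace Groth.Agent.S11069

/-- Over an algebraically closed constant field, for function fields `K ⊇ K'` and a projective map `φ`
with entries in `K'`, the divisor of `φ` as a map of `K` is the conorm `N*_{K/K'}` of its divisor as
a map of `K'`. -/
theorem result
    (k K' K : Type*) [Field k] [IsAlgClosed k] [Field K'] [Field K] [Algebra k K'] [Algebra k K]
    [Algebra K' K] [IsScalarTower k K' K] [FiniteDimensional K' K]
    (hK : FunFld.IsFunctionField k K) (hK' : FunFld.IsFunctionField k K') {n : ℕ}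
    (φ : Fin (n + 1) → K') (hφ : LinearIndependent k φ) :
    FunFld.mapDiv k (fun i => algebraMap K' K (φ i)) = FunFld.conorm K (FunFld.mapDiv k φ) := by
  exact Groth.Agent.H23Proj.mapDiv_algebraMap (K := K') (K' := K) hK' φ

end Groth.Agent.S11069
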