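import Groth.Statements.S11071
import Mathlib
import Groth.Agent.H23Proj.Jacobian

set_option autoImplicit false
open FunFld

namespace Groth.Agent.S11071

/-- Over an algebraically closed constant field, let `φ = (φ₀, …, φₙ)`, `n ≥ 1`, be a birational
projective map, `f₁, …, f_r` homogeneous generators of its ideal of homogeneous relations (the ideal
of the image curve), and `P` a place at which all `φᵢ/φ₀` are integral, with image point `a`. Then
`φ` is nonsingular at `P` if and only if the matrix `(∂fᵢ/∂Xⱼ(a))`, `1 ≤ j ≤ n`, has rank `n - 1`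
(entries read in the residue field of `P`). Here the local ring of `φ` at `P` consists of the
quotients of polynomials over `k` in the ratios `φᵢ/φ₀` with denominator a unit at `P`; `φ` is
nonsingular at `P` when this ring is the whole valuation ring. -/
theorem result (k K : Type*) [Field k] [IsAlgClosed k] [Field K] [Algebra k K]
    (hK : FunFld.IsFunctionField k K) {n : ℕ} (hn : 1 ≤ n)
    (φ : Fin (n + 1) → K) (hφ : LinearIndependent k φ)
    (hbir : IntermediateField.adjoin k (Set.range fun i => φ i / φ 0) = ⊤)
    (P : FunFld.Place k K) (hP : ∀ i, P.1 (φ i) ≤ P.1 (φ 0)) {r : ℕ}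
    (f : Fin r → MvPolynomial (Fin (n + 1)) k)
    (hhom : ∀ i, (f i).IsHomogeneous (f i).totalDegree)
    (hgen : Ideal.span (Set.range f) =
      RingHom.ker (MvPolynomial.aeval fun i => Polynomial.C (φ i) * Polynomial.X))
    (M : Matrix (Fin r) (Fin n) P.O)
    (hM : ∀ i j, ((M i j : P.O) : K) =
      MvPolynomial.aeval (fun l => φ l / φ 0) (MvPolynomial.pderiv j.succ (f i))) :
    FunFld.IsNonsingularAt φ P ↔ (M.map (IsLocalRing.residue P.O)).rank = n - 1 := by
  classical
  open Groth.Agent.H23Proj Groth.Agent.H23FunFld MvPolynomial WithZero in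
  have h0 : φ 0 ≠ 0 := hφ.ne_zero 0
  obtain ⟨c, hc0, hc⟩ := exists_point hK h0 hP
  have hf0 : ∀ i, aeval (fun l => φ l / φ 0) (f i) = 0 := fun i => by
    have h1 : f i ∈ RingHom.ker (aeval fun l => Polynomial.C (φ l) * Polynomial.X) :=
      hgen ▸ Ideal.subset_span ⟨i, rfl⟩
    rw [RingHom.mem_ker, aeval_eq_zero_iff] at h1
    have h2 := h1 (f i).totalDegree
    rw [homogeneousComponent_of_mem (hhom i), if_pos rfl, aeval_eq_pow_mul h0 (hhom i)] at h2
    exact (mul_eq_zero.1 h2).resolve_left (pow_ne_zero _ h0)
  rw [isNonsingularAt_iff_grad hc hK h0 h0 hbir hP rfl (S := Set.range f)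
    (fun G e hG hGφ => hgen ▸ RingHom.mem_ker.2 (aeval_C_mul_X_eq_zero_of_isHomogeneous φ hG hGφ))
    (by rintro g ⟨i, rfl⟩; exact hf0 i), Fintype.card_fin, ← Set.range_comp]
  set N : Matrix (Fin r) (Fin n) k := fun i l => grad c (f i) l.succ
  have hMN : M.map (IsLocalRing.residue P.O) = N.map (algebraMap k (IsLocalRing.ResidueField P.O)) := by
    refine Matrix.ext fun i l => residue_eq_algebraMap P (M i l) (N i l) ?_
    rw [hM]
    exact val_sub_point_lt hc _
  have hrankN : (M.map (IsLocalRing.residue P.O)).rank = Module.finrank k (Submodule.span k (Set.range N)) := by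
    haveI : @Module.Finite k (IsLocalRing.ResidueField P.O) _ _ Algebra.toModule :=
      finiteDimensional_residueField hK P
    haveI : Algebra.IsAlgebraic k (IsLocalRing.ResidueField P.O) := Algebra.IsAlgebraic.of_finite _ _
    rw [hMN]
    exact rank_map_algebraMap IsAlgClosed.algebraMap_bijective_of_isIntegral N
  rw [hrankN]
  set G : Set (Fin (n + 1) → k) := Set.range (grad c ∘ f)
  set W := Submodule.span k (insert (Pi.single 0 1) G)
  let π : (Fin (n + 1) → k) →ₗ[k] (Fin n → k) := LinearMap.funLeft k k Fin.succ
  have hker : LinearMap.ker π = Submodule.span k {Pi.single 0 1} := by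
    refine le_antisymm (fun v hv => Submodule.mem_span_singleton.2 ⟨v 0, _root_.funext fun i => ?_⟩)
      (Submodule.span_le.2 ?_)
    · refine Fin.cases ?_ (fun l => ?_) i
      · simp
      · have hl : v l.succ = 0 := congrFun (LinearMap.mem_ker.1 hv) l
        rw [hl]; simp
    · rintro _ rfl
      exact _root_.funext fun l => by simp [π, LinearMap.funLeft]
  have hmap : W.map π = Submodule.span k (Set.range N) := by
    rw [Submodule.map_span, Set.image_insert_eq, show π (Pi.single 0 1) = 0 from
      _root_.funext fun l => by simp [π, LinearMap.funLeft], Submodule.span_insert_zero, ← Set.range_comp]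
    rfl
  have hrk := LinearMap.finrank_range_add_finrank_ker (π.domRestrict W)
  rw [LinearMap.range_domRestrict, hmap] at hrk
  have hk : Module.finrank k (LinearMap.ker (π.domRestrict W)) = 1 := by
    rw [show LinearMap.ker (π.domRestrict W) = (LinearMap.ker π).comap W.subtype from rfl,
      (Submodule.comapSubtypeEquivOfLe (hker ▸ Submodule.span_mono (Set.singleton_subset_iff.2
        (Set.mem_insert _ _)) : LinearMap.ker π ≤ W)).finrank_eq, hker]
    exact finrank_span_singleton (by simp)
  omega

end Groth.Agent.S11071
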