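import Groth.Statements.S11072
import Mathlib
import Groth.Agent.H23Proj.Jacobian

set_option autoImplicit false
open FunFld

namespace Groth.Agent.S11072

/-- Over an algebraically closed constant field, a plane curve with defining irreducible homogeneous
polynomial `f` and birational natural map `φ = (φ₀ : φ₁ : φ₂)` is singular at the point `a = φ(P)`
(coordinates `(φᵢ/φⱼ)(P)` for an entry `φⱼ` of least order at `P`, read in the residue field) if and
only if `∂f/∂Xᵢ(a) = 0` for `i = 0, 1, 2`. Here `φ` is nonsingular at `P` when its local ring there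
(quotients of polynomials over `k` in the `φᵢ/φⱼ` with denominator a unit at `P`) is the whole
valuation ring. -/
theorem result (k K : Type*) [Field k] [IsAlgClosed k] [Field K] [Algebra k K]
    (hK : FunFld.IsFunctionField k K) (φ : Fin 3 → K)
    (hφ : LinearIndependent k φ)
    (hbir : IntermediateField.adjoin k (Set.range fun i => φ i / φ 0) = ⊤)
    (f : MvPolynomial (Fin 3) k) (hf : Irreducible f) (hhom : f.IsHomogeneous f.totalDegree)
    (hfφ : MvPolynomial.aeval φ f = 0) (P : FunFld.Place k K) (j : Fin 3)
    (hj : ∀ i, P.1 (φ i) ≤ P.1 (φ j)) (a : Fin 3 → P.O) (ha : ∀ i, ((a i : P.O) : K) = φ i / φ j) :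
    ¬ FunFld.IsNonsingularAt φ P ↔
      ∀ l : Fin 3, MvPolynomial.aeval (fun i => IsLocalRing.residue P.O (a i))
        (MvPolynomial.pderiv l f) = 0 := by
  classical
  open Groth.Agent.H23Proj Groth.Agent.H23FunFld MvPolynomial WithZero in
  have hj0 : φ j ≠ 0 := max_ne_zero hj (hφ.ne_zero 0)
  obtain ⟨cp, hcj, hcp⟩ := exists_point hK hj0 hj
  have hfz : aeval (fun i => φ i / φ j) f = 0 := by
    have h0 := hfφ
    rw [aeval_eq_pow_mul hj0 hhom] at h0
    exact (mul_eq_zero.1 h0).resolve_left (pow_ne_zero _ hj0)
  have hfc : aeval cp f = 0 := aeval_point_eq_zero hcp (by rw [hfz, map_zero]; exact zero_lt_one)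
  have hres : (fun l => IsLocalRing.residue P.O (a l)) = fun l => Algebra.ofId k _ (cp l) :=
    funext fun l => residue_eq_algebraMap P (a l) (cp l) (by rw [ha]; exact hcp l)
  have hzero : (∀ l : Fin 3, aeval (fun i => IsLocalRing.residue P.O (a i)) (pderiv l f) = 0) ↔
      grad cp f = 0 := by
    simp only [hres, ← comp_aeval_apply cp (Algebra.ofId k _), funext_iff, grad_apply, Pi.zero_apply]
    exact forall_congr' fun l => map_eq_zero_iff _ (algebraMap k (IsLocalRing.ResidueField P.O)).injective
  rw [hzero, isNonsingularAt_iff_grad hcp hK (hφ.ne_zero 0) hj0 hbir hj rfl (S := {f})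
    (fun G e hG hGφ => Ideal.mem_span_singleton.2 (plane_dvd hK (hφ.ne_zero 0) hbir hf hhom hfφ hG hGφ))
    (by rintro g rfl; exact hfz), Set.image_singleton, Fintype.card_fin]
  constructor
  · intro h
    by_contra h0
    refine h ?_
    have hli : LinearIndependent k ![(Pi.single j 1 : Fin 3 → k), grad cp f] := by
      have hej : (Pi.single j 1 : Fin 3 → k) ≠ 0 := by simp
      rw [LinearIndependent.pair_iff' hej]
      intro r hr
      have h3 := euler_point hhom hfc
      rw [← hr] at h3
      simp [Pi.single_apply, hcj] at h3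
      exact h0 (by rw [← hr, h3, zero_smul])
    have := finrank_span_eq_card hli
    rw [Matrix.range_cons_cons_empty] at this
    simp only [Fintype.card_fin] at this
    exact congrArg (· + 1) this
  · intro h0 h
    rw [h0, show Submodule.span k (insert (Pi.single j 1) ({0} : Set (Fin 3 → k))) =
      Submodule.span k {Pi.single j 1} by rw [Set.pair_comm, Submodule.span_insert_zero]] at h
    rw [finrank_span_singleton (by simp)] at h
    norm_num at h

end Groth.Agent.S11072
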