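import Groth.Statements.S11076
import Mathlib
import Groth.Agent.H23Proj.LocalRing

set_option autoImplicit false
open FunFld

namespace Groth.Agent.S11076

/-- Over an algebraically closed constant field, a projective curve (given by a birational projective
map `φ = (φ₀, …, φₙ)`, `n ≥ 1`) is nonsingular at the point `a = φ(P)` if and only if some
hyperplane `∑ cᵢ Xᵢ` has intersection multiplicity `1` with it at `a`: the sum over the places `Q`
of the fibre of `a` of `[φ](Q) + ord_Q(∑ cᵢ φᵢ)` is `1`. Nonsingular at `P` means that the local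
ring of `φ` at `P` (quotients of polynomials over `k` in the `φᵢ/φⱼ`, `φⱼ` of least order at `P`,
denominator a unit at `P`) is the whole valuation ring. Two places have the same image point when
some entry `φⱼ` has least order at both and each `φᵢ/φⱼ` is congruent to one constant modulo both
maximal ideals. -/
theorem result (k K : Type*) [Field k] [IsAlgClosed k] [Field K] [Algebra k K]
    (hK : FunFld.IsFunctionField k K) {n : ℕ} (hn : 1 ≤ n)
    (φ : Fin (n + 1) → K) (hφ : LinearIndependent k φ)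
    (hbir : IntermediateField.adjoin k (Set.range fun i => φ i / φ 0) = ⊤)
    (P : FunFld.Place k K) :
    FunFld.IsNonsingularAt φ P ↔ ∃ c : Fin (n + 1) → k, ∑ i, c i • φ i ≠ 0 ∧
      ∑ᶠ Q ∈ {Q : FunFld.Place k K | FunFld.SameImage φ P Q},
        ((FunFld.mapDiv k φ) Q + Q.ord (∑ i, c i • φ i)) = 1 := by
  classical
  have hne := hφ.ne_zero
  set D := FunFld.mapDiv k φ
  have hfib := Groth.Agent.H23Proj.finite_fibre hK hne hn hφ P
  have hself := Groth.Agent.H23Proj.sameImage_self hK hne P
  have hmem : ∀ c : Fin (n + 1) → k, ∑ i, c i • φ i ∈ Submodule.span k (Set.range φ) := fun c =>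
    (Submodule.mem_span_range_iff_exists_fun k).2 ⟨c, rfl⟩
  have hterm : ∀ (Q : FunFld.Place k K) (v : K), v ∈ Submodule.span k (Set.range φ) → v ≠ 0 →
      0 ≤ D Q + Q.ord v ∧ (Q.1 v < WithZero.exp (D Q) ↔ 0 < D Q + Q.ord v) := by
    intro Q v hv hv0
    have h1 := Groth.Agent.H23Proj.val_le_of_mem hK hne hv Q
    rw [Groth.Agent.H23FunFld.val_le_exp_iff Q hv0] at h1
    rw [Groth.Agent.H23FunFld.val_eq_exp Q hv0, WithZero.exp_lt_exp]
    simp only [D] at *; constructor <;> omega
  rw [Groth.Agent.H23Proj.isNonsingularAt_iff hK hne hn hφ hbir]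
  constructor
  · rintro ⟨huniq, v, hv, hv1⟩
    obtain ⟨c, rfl⟩ := (Submodule.mem_span_range_iff_exists_fun k).1 hv
    have hv0 : ∑ i, c i • φ i ≠ 0 := fun h0 => by
      rw [h0, map_zero] at hv1
      exact WithZero.exp_ne_zero hv1.symm
    refine ⟨c, hv0, ?_⟩
    have hset : {Q : FunFld.Place k K | FunFld.SameImage φ P Q} = {P} :=
      Set.ext fun Q => ⟨fun h => huniq Q h, fun h => h ▸ hself⟩
    rw [hset, finsum_mem_singleton, FunFld.Place.ord, hv1, WithZero.log_exp]
    ring
  · rintro ⟨c, hc0, hsum⟩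
    set v := ∑ i, c i • φ i
    rw [finsum_mem_eq_finite_toFinset_sum _ hfib] at hsum
    have hnn : ∀ Q ∈ hfib.toFinset, 0 ≤ D Q + Q.ord v := fun Q _ => (hterm Q v (hmem c) hc0).1
    have hPmem : P ∈ hfib.toFinset := hfib.mem_toFinset.2 hself
    have hpos : 0 < D P + P.ord v := by
      by_contra hle
      have hz : ∀ Q ∈ hfib.toFinset, D Q + Q.ord v = 0 := fun Q hQ => by
        by_contra hQ0
        have h1 : Q.1 v < WithZero.exp (D Q) := (hterm Q v (hmem c) hc0).2.2 (by
          have := hnn Q hQ; omega)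
        exact hle ((hterm P v (hmem c) hc0).2.1
          ((Groth.Agent.H23Proj.vanish_iff_of_sameImage hK hne (hfib.mem_toFinset.1 hQ) (hmem c)).2 h1))
      rw [Finset.sum_eq_zero hz] at hsum
      exact zero_ne_one hsum
    have hall : ∀ Q ∈ hfib.toFinset, 1 ≤ D Q + Q.ord v := fun Q hQ =>
      (hterm Q v (hmem c) hc0).2.1
        ((Groth.Agent.H23Proj.vanish_iff_of_sameImage hK hne (hfib.mem_toFinset.1 hQ) (hmem c)).1
          ((hterm P v (hmem c) hc0).2.2 hpos))
    have hcard := Finset.sum_le_sum hall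
    rw [hsum, Finset.sum_const, nsmul_one] at hcard
    have hle1 : hfib.toFinset.card ≤ 1 := by exact_mod_cast hcard
    refine ⟨fun Q hQ => Finset.card_le_one.1 hle1 Q (hfib.mem_toFinset.2 hQ) P hPmem, v, hmem c, ?_⟩
    rw [show hfib.toFinset = {P} from Finset.eq_singleton_iff_unique_mem.2 ⟨hPmem, fun Q hQ =>
      Finset.card_le_one.1 hle1 Q hQ P hPmem⟩, Finset.sum_singleton] at hsum
    rw [Groth.Agent.H23FunFld.val_eq_exp P hc0]
    congr 1
    simp only [D] at *; omega

end Groth.Agent.S11076
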