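import Groth.Statements.S11077
import Mathlib
import Groth.Agent.H23Proj.Intersection

set_option autoImplicit false
open FunFld

namespace Groth.Agent.S11077

/-- Over an algebraically closed constant field, for a plane curve `V(f)` with natural map `(1 : x :
y)`, a polynomial `g` not vanishing on the curve and a finite point `a = (c₀, c₁)` of the curve
below the place `P`, the intersection multiplicity of `V(g)` with the curve at `a` (the sum of
`ord_Q g(x, y)` over the places `Q` with image point `a`) equals `dim_k A/(f, g)` with `A` the local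
ring of the plane at `a`. Two places have the same image point when some entry of `(1, x, y)` has
least order at both and the ratios are congruent to common constants modulo both maximal ideals. -/
theorem result
    (k K : Type*) [Field k] [IsAlgClosed k] [Field K] [Algebra k K]
    (hK : FunFld.IsFunctionField k K) (x y : K)
    (hxy : IntermediateField.adjoin k ({x, y} : Set K) = ⊤) (f g : MvPolynomial (Fin 2) k)
    (hf : Irreducible f) (hfxy : MvPolynomial.aeval ![x, y] f = 0)
    (hgxy : MvPolynomial.aeval ![x, y] g ≠ 0) (P : FunFld.Place k K) (c : Fin 2 → k)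
    (hc : ∀ i, P.1 (![x, y] i - algebraMap k K (c i)) < 1)
    (M : Ideal (MvPolynomial (Fin 2) k)) [M.IsMaximal]
    (hM : M = Ideal.span {MvPolynomial.X 0 - MvPolynomial.C (c 0),
      MvPolynomial.X 1 - MvPolynomial.C (c 1)}) :
    ∑ᶠ Q ∈ {Q : FunFld.Place k K | FunFld.SameImage ![(1 : K), x, y] P Q},
        Q.ord (MvPolynomial.aeval ![x, y] g) =
      (Module.finrank k (Localization.AtPrime M ⧸
        Ideal.map (algebraMap (MvPolynomial (Fin 2) k) (Localization.AtPrime M))
          (Ideal.span {f, g})) : ℤ) := by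
  classical
  open Groth.Agent.H23Proj Groth.Agent.H23FunFld MvPolynomial in
  have hv : IntermediateField.adjoin k (Set.range ![x, y]) = ⊤ := by
    rw [← hxy]; congr 1; simp [Set.pair_comm]
  set v : Fin 2 → K := ![x, y] with hvdef
  set G := aeval v g with hGdef
  have hGA : G ∈ locSub P v := adjoin_le_locSub P v (Algebra.adjoin_range_eq_range_aeval (R := k) v ▸ ⟨g, rfl⟩)
  have hset : {Q : FunFld.Place k K | FunFld.SameImage ![(1 : K), x, y] P Q} =
      {Q : FunFld.Place k K | ∀ i, Q.1 (v i - algebraMap k K (c i)) < 1} :=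
    Set.ext fun Q => sameImage_iff hc Q
  have hrel := relDim_mul_locSub hK hv hc hgxy hGA
  rw [hset]
  haveI := hrel.1
  rw [← hrel.2]
  refine congrArg Nat.cast ?_
  let u : Fin 2 → locSub P v := fun i => ⟨v i, adjoin_le_locSub P v (Algebra.subset_adjoin ⟨i, rfl⟩)⟩
  have hcoe : ∀ a, ((aeval u a : locSub P v) : K) = aeval v a := fun a => coe_aeval_lift a
  have hMc : ∀ a : MvPolynomial (Fin 2) k, a ∈ M ↔ aeval c a = 0 := by
    intro a
    have hspan : M = Ideal.span (Set.range fun i => X i - algebraMap k (MvPolynomial (Fin 2) k) (c i)) := by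
      rw [hM]; congr 1
      ext z
      simp [Fin.exists_fin_two, eq_comm, MvPolynomial.algebraMap_eq]
    constructor
    · intro ha
      have hle : M ≤ RingHom.ker (aeval c : MvPolynomial (Fin 2) k →ₐ[k] k) := by
        rw [hspan, Ideal.span_le]
        rintro _ ⟨i, rfl⟩
        simp
      exact hle ha
    · intro ha
      have h1 := taylor c (X : Fin 2 → MvPolynomial (Fin 2) k) a
      rw [ha, map_zero, sub_zero, aeval_X_left_apply, ← hspan] at h1
      have h2 : ∑ i, grad c a i • (X i - algebraMap k (MvPolynomial (Fin 2) k) (c i)) ∈ M :=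
        Ideal.sum_mem _ fun i _ => by
          rw [Algebra.smul_def]; exact M.mul_mem_left _ (hspan ▸ Ideal.subset_span ⟨i, rfl⟩)
      simpa using add_mem (Ideal.mul_le_left h1) h2
  have hunit : ∀ s : M.primeCompl, IsUnit (aeval u (s : MvPolynomial (Fin 2) k)) := by
    intro s
    have hsc : aeval c (s : MvPolynomial (Fin 2) k) ≠ 0 := fun h => s.2 ((hMc _).2 h)
    have h1 := P.1.map_add_eq_of_lt_right
      (show P.1 (aeval v (s : MvPolynomial (Fin 2) k) - algebraMap k K (aeval c (s : MvPolynomial (Fin 2) k))) <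
          P.1 (algebraMap k K (aeval c (s : MvPolynomial (Fin 2) k))) by
        rw [val_const P hsc]; exact val_sub_point_lt hc _)
    rw [sub_add_cancel, val_const P hsc, ← hcoe] at h1
    refine IsUnit.of_mul_eq_one ⟨_, inv_mem_locSub (aeval u (s : MvPolynomial (Fin 2) k)).2 h1⟩
      (Subtype.ext (mul_inv_cancel₀ fun h0 => ?_))
    rw [h0, map_zero] at h1
    exact zero_ne_one h1
  let Φ : Localization.AtPrime M →ₐ[k] locSub P v :=
    IsLocalization.liftAlgHom (M := M.primeCompl) (f := aeval u) hunit
  have hΦ : ∀ a, Φ (algebraMap _ (Localization.AtPrime M) a) = aeval u a := fun a =>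
    IsLocalization.lift_eq hunit a
  set I := Ideal.map (algebraMap (MvPolynomial (Fin 2) k) (Localization.AtPrime M)) (Ideal.span {f, g})
  have hker : ∀ z, Φ z = 0 → z ∈ I := by
    intro z hz
    obtain ⟨⟨a, s⟩, ha⟩ := IsLocalization.surj M.primeCompl z
    have h1 := congrArg Φ ha
    rw [map_mul, hz, zero_mul, hΦ] at h1
    have h2 : f ∣ a := ker_aeval hK hxy hf hfxy a (by rw [← hcoe, ← h1]; rfl)
    refine (Ideal.mul_unit_mem_iff_mem _ (IsLocalization.map_units _ s)).1 ?_
    rw [ha]
    refine Ideal.mem_map_of_mem _ ?_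
    obtain ⟨b, rfl⟩ := h2
    exact Ideal.mul_mem_right _ _ (Ideal.subset_span (Set.mem_insert _ _))
  have hsurj : Function.Surjective Φ := by
    intro r
    obtain ⟨a, ha, w, hw, hw1, hra⟩ := r.2
    rw [Algebra.adjoin_range_eq_range_aeval, AlgHom.mem_range] at ha hw
    obtain ⟨A, rfl⟩ := ha
    obtain ⟨W, rfl⟩ := hw
    have hW : W ∈ M.primeCompl := fun h => by
      have h1 := val_sub_point_lt hc W
      rw [(hMc W).1 h, map_zero, sub_zero, hw1] at h1
      exact lt_irrefl _ h1
    refine ⟨IsLocalization.mk' _ A ⟨W, hW⟩, (hunit ⟨W, hW⟩).mul_right_cancel ?_⟩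
    rw [← hΦ W, ← map_mul, IsLocalization.mk'_spec _ A ⟨W, hW⟩, hΦ, hΦ] <;>
    exact Subtype.ext (by rw [Subalgebra.coe_mul, hcoe, hcoe, hra])
  let J : Ideal (locSub P v) := Ideal.span {(⟨G, hGA⟩ : locSub P v)}
  let Ψ : Localization.AtPrime M →ₐ[k] (locSub P v ⧸ J) := (Ideal.Quotient.mkₐ k J).comp Φ
  have hΨ : I = RingHom.ker Ψ := by
    refine le_antisymm ?_ fun z hz => ?_
    · rw [Ideal.map_le_iff_le_comap, Ideal.span_le]
      have e : ∀ a, Ψ (algebraMap _ (Localization.AtPrime M) a) = Ideal.Quotient.mk J (aeval u a) :=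
        fun a => congrArg (Ideal.Quotient.mk J) (hΦ a)
      rintro a (rfl | rfl)
      · rw [SetLike.mem_coe, Ideal.mem_comap, RingHom.mem_ker, e,
          show aeval u a = 0 from Subtype.ext ((hcoe a).trans hfxy), map_zero]
      · rw [SetLike.mem_coe, Ideal.mem_comap, RingHom.mem_ker, e, Ideal.Quotient.eq_zero_iff_mem]
        exact Ideal.mem_span_singleton.2 (dvd_of_eq (Subtype.ext (hcoe a).symm))
    · rw [RingHom.mem_ker] at hz
      change Ideal.Quotient.mk J (Φ z) = 0 at hz
      rw [Ideal.Quotient.eq_zero_iff_mem, Ideal.mem_span_singleton'] at hz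
      obtain ⟨r, hr⟩ := hz
      obtain ⟨r', rfl⟩ := hsurj r
      have hG' : aeval u g = (⟨G, hGA⟩ : locSub P v) := Subtype.ext (hcoe g)
      have h1 := hker (z - r' * algebraMap _ (Localization.AtPrime M) g) (by
        rw [map_sub, map_mul, hΦ, hG', hr, sub_self])
      simpa using add_mem h1 (I.mul_mem_left r' (Ideal.mem_map_of_mem _
        (Ideal.subset_span (Set.mem_insert_of_mem _ rfl))))
  have hΨs : Function.Surjective Ψ := Ideal.Quotient.mk_surjective.comp hsurj
  rw [((Ideal.quotientEquivAlgOfEq k hΨ).trans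
    (Ideal.quotientKerAlgEquivOfSurjective hΨs)).toLinearEquiv.finrank_eq]
  have hJ : (Submodule.restrictScalars k J) = ((Subalgebra.toSubmodule (locSub P v)).map
      (LinearMap.mulLeft k G)).comap (Subalgebra.toSubmodule (locSub P v)).subtype := by
    ext z
    rw [Submodule.restrictScalars_mem, Ideal.mem_span_singleton', Submodule.mem_comap, Submodule.mem_map]
    constructor
    · rintro ⟨r, hr⟩
      exact ⟨r.1, r.2, (mul_comm G r.1).trans (congrArg Subtype.val hr)⟩
    · rintro ⟨r, hr, hz⟩
      exact ⟨⟨r, hr⟩, Subtype.ext ((mul_comm r G).trans hz)⟩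
  exact ((Submodule.quotEquivOfEq _ _ hJ).symm.trans (Submodule.Quotient.restrictScalarsEquiv k J)).finrank_eq

end Groth.Agent.S11077
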