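import Groth.Statements.S11079
import Mathlib.FieldTheory.Galois.Basic
import Mathlib.FieldTheory.Fixed
import Mathlib.LinearAlgebra.Matrix.GeneralLinearGroup.Defs
import Mathlib.LinearAlgebra.Matrix.ToLin
import Mathlib.LinearAlgebra.Matrix.Basis
import Mathlib.LinearAlgebra.Matrix.NonsingularInverse

set_option autoImplicit false
universe u
open CAlg

namespace Groth.Agent.S11079

/-- Let L/K be a finite Galois extension of fields, n a natural number, and B a map from the Galois
group of L over K to the invertible n × n matrices over L such that B(σ) · σ(B(τ)) = B(στ) for all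
σ, τ, where σ acts on matrices entrywise and στ is the automorphism applying τ first. Then there is
an invertible matrix A over L with B(σ) = A⁻¹ · σ(A) for every σ; that is, every 1-cocycle of the
Galois group with values in GL_n(L) is a coboundary. -/
theorem result (K L : Type u) [Field K] [Field L]
    [Algebra K L] [FiniteDimensional K L] [IsGalois K L] (n : ℕ)
    (B : (L ≃ₐ[K] L) → GL (Fin n) L)
    (hB : ∀ σ τ : L ≃ₐ[K] L,
      (B σ : Matrix (Fin n) (Fin n) L) * (B τ : Matrix (Fin n) (Fin n) L).map σ = (B (σ * τ) : Matrix (Fin n) (Fin n) L)) :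
    ∃ A : GL (Fin n) L, ∀ σ : L ≃ₐ[K] L,
      (B σ : Matrix (Fin n) (Fin n) L) = ((A⁻¹ : GL (Fin n) L) : Matrix (Fin n) (Fin n) L) * (A : Matrix (Fin n) (Fin n) L).map σ := by
  classical
  let P : (Fin n → L) → (Fin n → L) := fun v =>
    ∑ τ : L ≃ₐ[K] L, (B τ : Matrix (Fin n) (Fin n) L).mulVec (fun j => τ (v j))
  have hP : ∀ (σ : L ≃ₐ[K] L) v,
      (B σ : Matrix (Fin n) (Fin n) L).mulVec (fun j => σ (P v j)) = P v := by
    intro σ v
    have h1 : (fun j => σ (P v j)) = ∑ τ : L ≃ₐ[K] L,
        ((B τ : Matrix (Fin n) (Fin n) L).map σ).mulVec (fun j => (σ * τ) (v j)) := by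
      funext j
      simp [P, Finset.sum_apply, Matrix.mulVec, dotProduct, map_sum, Matrix.map_apply]
    rw [h1, Matrix.mulVec_sum]
    simp only [Matrix.mulVec_mulVec, hB]
    exact Fintype.sum_equiv (Equiv.mulLeft σ) _ _ (fun τ => rfl)
  have hspan : Submodule.span L (Set.range P) = ⊤ := by
    by_contra hne
    obtain ⟨f, hf, hker⟩ := Submodule.exists_le_ker_of_lt_top _ (lt_top_iff_ne_top.mpr hne)
    apply hf
    have key : ∀ j, ∀ τ : L ≃ₐ[K] L,
        f ((B τ : Matrix (Fin n) (Fin n) L).mulVec (Pi.single j 1)) = 0 := by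
      intro j
      have hlin := (linearIndependent_monoidHom L L).comp
        (fun τ : L ≃ₐ[K] L => ((τ : L →ₐ[K] L) : L →* L))
        (fun a b h => AlgEquiv.ext fun x => DFunLike.congr_fun h x)
      rw [Fintype.linearIndependent_iff] at hlin
      refine hlin (fun τ => f ((B τ : Matrix (Fin n) (Fin n) L).mulVec (Pi.single j 1))) ?_
      funext c
      have h0 : f (P (Pi.single j c)) = 0 :=
        LinearMap.mem_ker.mp (hker (Submodule.subset_span ⟨_, rfl⟩))
      simp only [P, map_sum] at h0
      simp only [Finset.sum_apply, Pi.smul_apply, Function.comp_apply, smul_eq_mul, Pi.zero_apply]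
      refine Eq.trans (Finset.sum_congr rfl fun τ _ => ?_) h0
      have hs : (fun i => τ ((Pi.single j c : Fin n → L) i)) = τ c • (Pi.single j 1 : Fin n → L) := by
        funext i
        rcases eq_or_ne i j with rfl | hij
        · simp
        · simp [Pi.single_eq_of_ne hij]
      rw [hs, Matrix.mulVec_smul, map_smul, smul_eq_mul]
      exact mul_comm _ _
    refine LinearMap.ext fun w => ?_
    have hw : w = (B 1 : Matrix (Fin n) (Fin n) L).mulVec
        (((B 1)⁻¹ : GL (Fin n) L).1.mulVec w) := by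
      rw [Matrix.mulVec_mulVec, Units.mul_inv, Matrix.one_mulVec]
    rw [LinearMap.zero_apply, hw, pi_eq_sum_univ' (((B 1)⁻¹ : GL (Fin n) L).1.mulVec w)]
    simp only [Matrix.mulVec_sum, Matrix.mulVec_smul, map_sum, map_smul]
    exact Finset.sum_eq_zero fun j _ => by rw [key j 1, smul_zero]
  obtain ⟨b, hb, hbspan, hbli⟩ := exists_linearIndependent L (Set.range P)
  let bb : Module.Basis b L (Fin n → L) :=
    Module.Basis.mk hbli (by rw [Subtype.range_coe_subtype, Set.setOf_mem_eq, hbspan, hspan])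
  let e : b ≃ Fin n := bb.indexEquiv (Pi.basisFun L (Fin n))
  let c : Module.Basis (Fin n) L (Fin n → L) := bb.reindex e
  have hc : ∀ i, ∃ v, P v = c i := fun i => by
    obtain ⟨v, hv⟩ := hb (e.symm i).2
    exact ⟨v, by rw [hv, Module.Basis.reindex_apply, Module.Basis.mk_apply]⟩
  let M : Matrix (Fin n) (Fin n) L := (Pi.basisFun L (Fin n)).toMatrix c
  have hM : IsUnit M := by
    haveI := (Pi.basisFun L (Fin n)).invertibleToMatrix c
    exact isUnit_of_invertible M
  obtain ⟨Mu, hMu⟩ := hM
  refine ⟨Mu⁻¹, fun σ => ?_⟩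
  have h1 : (B σ : Matrix (Fin n) (Fin n) L) * (Mu : Matrix (Fin n) (Fin n) L).map σ = Mu := by
    ext i j
    obtain ⟨v, hv⟩ := hc j
    have := congrFun (hP σ v) i
    rw [Matrix.mul_apply]
    simpa [hMu, M, Module.Basis.toMatrix_apply, ← hv, Matrix.mulVec, dotProduct, Matrix.map_apply] using this
  have h2 : (Mu : Matrix (Fin n) (Fin n) L).map σ * ((Mu⁻¹ : GL (Fin n) L) : Matrix (Fin n) (Fin n) L).map σ = 1 := by
    rw [← Matrix.map_mul, Units.mul_inv, Matrix.map_one _ (map_zero σ) (map_one σ)]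
  rw [inv_inv]
  calc (B σ : Matrix (Fin n) (Fin n) L)
      = B σ * ((Mu : Matrix (Fin n) (Fin n) L).map σ * ((Mu⁻¹ : GL (Fin n) L) : Matrix (Fin n) (Fin n) L).map σ) := by
        rw [h2, mul_one]
    _ = Mu * ((Mu⁻¹ : GL (Fin n) L) : Matrix (Fin n) (Fin n) L).map σ := by
        rw [← mul_assoc, h1]

end Groth.Agent.S11079
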