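import Groth.Statements.S11081
import Groth.Agent.H02CA.TraceFilt

set_option autoImplicit false
universe u
attribute [local instance] FractionRing.liftAlgebra
open CAlg

namespace Groth.Agent.S11081

/-- Let A be a Dedekind domain, B a Dedekind domain which is a finitely generated torsion-free A-algebra
whose fraction field is separable over that of A (B is the integral closure of A in a finite
separable extension), p a nonzero prime ideal of A and y an element of B. Then the class modulo p of
the trace of y from B to A is the sum over the primes Q of B lying over p of e(Q|p) times the trace,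
from B/Q to A/p, of the class of y modulo Q. -/
theorem result (A B : Type u) [CommRing A] [CommRing B]
    [IsDedekindDomain A] [IsDedekindDomain B] [Algebra A B] [Module.Finite A B] [Module.IsTorsionFree A B]
    [Algebra.IsSeparable (FractionRing A) (FractionRing B)]
    (p : Ideal A) [p.IsMaximal] (hp : p ≠ ⊥) (y : B) :
    Ideal.Quotient.mk p (Algebra.intTrace A B y) =
      ∑ᶠ Q : p.primesOver B,
        Q.1.ramificationIdx A •
          Algebra.trace (A ⧸ p) (B ⧸ Q.1) (Ideal.Quotient.mk Q.1 y) := by
  classical
  have hp' : p.map (algebraMap A B) ≠ ⊥ :=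
    (Ideal.map_eq_bot_iff_of_injective (FaithfulSMul.algebraMap_injective A B)).not.mpr hp
  have hle : p ≤ (p.map (algebraMap A B)).comap (algebraMap A B) := Ideal.le_comap_map
  rw [← Algebra.trace_quotient_eq_of_isDedekindDomain]
  have e0 : Algebra.trace (A ⧸ p) (B ⧸ p.map (algebraMap A B)) (Ideal.Quotient.mk _ y) =
      H02CA.TraceFilt.T p y (p.map (algebraMap A B)) := (H02CA.TraceFilt.T_def p y _ hle).symm
  rw [e0]
  let s := UniqueFactorizationMonoid.normalizedFactors (p.map (algebraMap A B))
  have hprod : s.prod = p.map (algebraMap A B) := by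
    rw [← associated_iff_eq]; exact UniqueFactorizationMonoid.prod_normalizedFactors hp'
  have hmax : ∀ Q ∈ s, Q.IsMaximal ∧ Q ≠ ⊥ := fun Q hQ => by
    have hprime := UniqueFactorizationMonoid.prime_of_normalized_factor Q hQ
    exact ⟨(Ideal.isPrime_of_prime hprime).isMaximal hprime.ne_zero, hprime.ne_zero⟩
  rw [← hprod, H02CA.TraceFilt.T_prod p y s hmax (hle.trans (le_of_eq (by rw [hprod]))),
    Finset.sum_multiset_map_count]
  have hset : (↑(s.toFinset) : Set (Ideal B)) = p.primesOver B := by
    rw [← IsDedekindDomain.coe_primesOverFinset hp B]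
    simp [IsDedekindDomain.primesOverFinset, s, UniqueFactorizationMonoid.factors_eq_normalizedFactors]
  rw [← finsum_mem_coe_finset, hset, ← finsum_set_coe_eq_finsum_mem]
  refine finsum_congr fun Q => ?_
  rw [H02CA.TraceFilt.T_def p y Q.1 (Ideal.LiesOver.over (P := Q.1) (p := p)).le,
    Ideal.IsDedekindDomain.ramificationIdx_eq_normalizedFactors_count p Q.1 hp']

end Groth.Agent.S11081
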