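import Groth.Statements.S11084
import Groth.Agent.H02CA.CurveValSubring
import Mathlib.FieldTheory.RatFunc.Valuation

set_option autoImplicit false
universe u
open CAlg

namespace Groth.Agent.S11084

open Polynomial in
/-- A valuation trivial on constants with `v X > 1` is given by the degree. -/
theorem valuation_polynomial {k : Type u} [Field k] {Γ : Type*} [LinearOrderedCommGroupWithZero Γ]
    (w : Valuation (RatFunc k) Γ) (hC : ∀ c : k, c ≠ 0 → w (algebraMap k (RatFunc k) c) = 1)
    (hX : 1 < w RatFunc.X) (p : Polynomial k) (hp : p ≠ 0) :
    w (algebraMap (Polynomial k) (RatFunc k) p) = w RatFunc.X ^ p.natDegree := by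
  induction hn : p.natDegree using Nat.strong_induction_on generalizing p with
  | _ n ih =>
    subst hn
    have hsum := p.eraseLead_add_C_mul_X_pow
    conv_lhs => rw [← hsum, map_add]
    have hlead : w (algebraMap (Polynomial k) (RatFunc k) (C p.leadingCoeff * X ^ p.natDegree)) =
        w RatFunc.X ^ p.natDegree := by
      rw [map_mul, map_mul, map_pow, map_pow, RatFunc.algebraMap_X,
        ← Polynomial.algebraMap_eq, ← IsScalarTower.algebraMap_apply,
        hC _ (leadingCoeff_ne_zero.mpr hp), one_mul]
    rw [← hlead]
    refine Valuation.map_add_eq_of_lt_right _ ?_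
    rw [hlead]
    rcases eraseLead_natDegree_lt_or_eraseLead_eq_zero p with hlt | h0
    · rcases eq_or_ne p.eraseLead 0 with h0 | h0
      · rw [h0, map_zero, map_zero]
        exact pow_pos (zero_lt_one.trans hX) _
      · rw [ih _ hlt _ h0 rfl]
        exact pow_lt_pow_right₀ hX hlt
    · rw [h0, map_zero, map_zero]
      exact pow_pos (zero_lt_one.trans hX) _

/-- Let k be a field and O a valuation subring of the field of rational functions k(x). Then O contains
the constants k and is different from k(x) if and only if O is the valuation ring of the P-adic
valuation at a nonzero prime P of the polynomial ring k[x], or O is the valuation ring of the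
valuation at infinity (given by the degree). (The published statement has k algebraically closed, so
that these valuation rings correspond to the points of the projective line; the published proof does
not use that k is algebraically closed. The published statement also asserts that distinct points
give distinct valuation rings, which this row does not state, and counts k(x) itself among the
valuation rings containing k; this row excludes it.) -/
theorem result (k : Type u) [Field k] [DecidableEq (RatFunc k)]
    (O : ValuationSubring (RatFunc k)) :
    ((algebraMap k (RatFunc k)).range ≤ O.toSubring ∧ O ≠ ⊤) ↔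
      ((∃ v : IsDedekindDomain.HeightOneSpectrum (Polynomial k), O = (v.valuation (RatFunc k)).valuationSubring) ∨
        O = (RatFunc.inftyValuation k).valuationSubring) := by
  constructor
  · rintro ⟨hk, hO⟩
    by_cases hX : RatFunc.X ∈ O
    · refine Or.inl ((H02CA.valuationSubring_ne_top_containing_iff O).mp ⟨?_, hO⟩)
      rintro _ ⟨p, rfl⟩
      induction p using Polynomial.induction_on' with
      | add a b ha hb => rw [map_add]; exact add_mem ha hb
      | monomial n a =>
        rw [← Polynomial.C_mul_X_pow_eq_monomial, map_mul, map_pow, RatFunc.algebraMap_X,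
          ← Polynomial.algebraMap_eq, ← IsScalarTower.algebraMap_apply]
        exact mul_mem (hk ⟨a, rfl⟩) (pow_mem hX n)
    · refine Or.inr ?_
      have hX1 : 1 < O.valuation RatFunc.X := by
        rw [← not_le, ValuationSubring.valuation_le_one_iff]; exact hX
      have hC : ∀ c : k, c ≠ 0 → O.valuation (algebraMap k (RatFunc k) c) = 1 := by
        intro c hc
        refine le_antisymm ((ValuationSubring.valuation_le_one_iff _ _).mpr (hk ⟨c, rfl⟩)) ?_
        rw [← inv_le_one₀ (zero_lt_iff.mpr ((map_ne_zero O.valuation).mpr (by simpa using hc))),
          ← map_inv₀, ← map_inv₀ (algebraMap k (RatFunc k))]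
        exact (ValuationSubring.valuation_le_one_iff _ _).mpr (hk ⟨c⁻¹, rfl⟩)
      ext f
      rw [Valuation.mem_valuationSubring_iff, ← ValuationSubring.valuation_le_one_iff]
      rcases eq_or_ne f 0 with rfl | hf
      · simp
      have h1 : O.valuation f = O.valuation RatFunc.X ^ f.intDegree := by
        conv_lhs => rw [← RatFunc.num_div_denom f]
        rw [map_div₀, valuation_polynomial _ hC hX1 _ (RatFunc.num_ne_zero hf),
          valuation_polynomial _ hC hX1 _ (RatFunc.denom_ne_zero f), RatFunc.intDegree,
          zpow_sub₀ (zero_lt_one.trans hX1).ne', zpow_natCast, zpow_natCast]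
      rw [h1, RatFunc.inftyValuation_apply, RatFunc.inftyValuation_of_nonzero _ hf,
        ← WithZero.exp_zero, WithZero.exp_le_exp]
      conv_lhs => rw [← zpow_zero (O.valuation RatFunc.X)]
      exact zpow_le_zpow_iff_right₀ hX1
  · rintro (h | h)
    · obtain ⟨hA, hO⟩ := (H02CA.valuationSubring_ne_top_containing_iff (A := Polynomial k) O).mpr h
      refine ⟨?_, hO⟩
      rintro _ ⟨c, rfl⟩
      exact hA ⟨Polynomial.C c, by rw [← Polynomial.algebraMap_eq, ← IsScalarTower.algebraMap_apply]⟩
    · subst h
      refine ⟨?_, fun h => ?_⟩
      · rintro _ ⟨c, rfl⟩
        rcases eq_or_ne c 0 with rfl | hc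
        · simp
        · change RatFunc.inftyValuation k _ ≤ 1
          rw [RatFunc.algebraMap_eq_C, RatFunc.inftyValuation.C _ hc]
      · have h1 : RatFunc.X ∈ (RatFunc.inftyValuation k).valuationSubring := h ▸ trivial
        rw [Valuation.mem_valuationSubring_iff, RatFunc.inftyValuation.X, ← WithZero.exp_zero,
          WithZero.exp_le_exp] at h1
        omega

end Groth.Agent.S11084
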