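import Groth.Statements.S11085
import Groth.Agent.H29Curve.Trdeg
import Groth.Agent.H02CA.CurveValSubring
import Mathlib.RingTheory.DedekindDomain.IntegralClosure
import Mathlib.RingTheory.QuasiFinite.Basic
import Mathlib.FieldTheory.PurelyInseparable.Basic
import Mathlib.RingTheory.AlgebraicIndependent.RankAndCardinality
import Mathlib.RingTheory.Valuation.ValuationSubring
import Mathlib.RingTheory.EssentialFiniteness

set_option autoImplicit false
universe u
open CAlg

namespace Groth.Agent.S11085
open Polynomial in
theorem fin_one (k F : Type u) [Field k] [Field F] [Algebra k F] (t : F) (ht : Transcendental k t)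
    [FiniteDimensional (IntermediateField.adjoin k {t}) F] :
    {O : ValuationSubring F | (algebraMap k F).range ≤ O.toSubring ∧ t ∈ O ∧ t⁻¹ ∉ O}.Finite := by
  let K := IntermediateField.adjoin k ({t} : Set F)
  let S := separableClosure K F
  let φ : k[X] →ₐ[k] K := aeval (⟨t, IntermediateField.mem_adjoin_simple_self k t⟩ : K)
  letI : Algebra k[X] K := φ.toRingHom.toAlgebra
  have hval : ∀ p : k[X], ((algebraMap k[X] K p : K) : F) = aeval t p := fun p => by
    show (IntermediateField.val K) (φ p) = _
    rw [← aeval_algHom_apply]
    rfl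
  haveI : FaithfulSMul k[X] K := (faithfulSMul_iff_algebraMap_injective _ _).mpr fun p q h => by
    apply transcendental_iff_injective.mp ht
    rw [← hval, ← hval, h]
  haveI : IsFractionRing k[X] K := IsFractionRing.of_field k[X] K fun z => by
    obtain ⟨r, s, h⟩ := (IntermediateField.mem_adjoin_simple_iff k (z : F)).mp z.2
    refine ⟨r, s, Subtype.ext ?_⟩
    rw [h, ← hval, ← hval]
    rfl
  letI : Algebra k[X] S := ((algebraMap K S).comp (algebraMap k[X] K)).toAlgebra
  haveI : IsScalarTower k[X] K S := IsScalarTower.of_algebraMap_eq fun _ => rfl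
  let B := integralClosure k[X] S
  haveI : IsDedekindDomain B := integralClosure.isDedekindDomain k[X] K S
  haveI : Module.Finite k[X] B := IsIntegralClosure.finite k[X] K S B
  haveI : IsFractionRing B S := IsIntegralClosure.isFractionRing_of_finite_extension k[X] K S B
  let P : Ideal k[X] := Ideal.span {X}
  haveI : P.IsMaximal := PrincipalIdealRing.isMaximal_of_irreducible irreducible_X
  have hfin : (P.primesOver B).Finite := Algebra.QuasiFinite.finite_primesOver P
  have hv : {v : IsDedekindDomain.HeightOneSpectrum B | v.asIdeal ∈ P.primesOver B}.Finite :=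
    hfin.preimage (fun a _ b _ h => IsDedekindDomain.HeightOneSpectrum.ext h)
  refine Set.Finite.of_finite_image ((hv.image fun v => (v.valuation S).valuationSubring).subset ?_) ?_
    (f := fun O : ValuationSubring F => O.comap (algebraMap S F))
  · rintro _ ⟨O, ⟨hk, htO, htinv⟩, rfl⟩
    let O' := O.comap (algebraMap S F)
    have hX : ∀ p : k[X], algebraMap k[X] S p ∈ O' := fun p => by
      show ((algebraMap k[X] K p : K) : F) ∈ O
      rw [hval, aeval_eq_sum_range]
      exact Subring.sum_mem O.toSubring fun i _ => by
        rw [Algebra.smul_def]; exact O.toSubring.mul_mem (hk ⟨_, rfl⟩) (O.toSubring.pow_mem htO i)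
    have hB : (algebraMap B S).range ≤ O'.toSubring := by
      rintro _ ⟨b, rfl⟩
      letI : Algebra k[X] O' := ((algebraMap k[X] S).codRestrict O'.toSubring hX).toAlgebra
      haveI : IsScalarTower k[X] O' S := IsScalarTower.of_algebraMap_eq fun _ => rfl
      obtain ⟨y, hy⟩ := IsIntegrallyClosed.isIntegral_iff.mp ((b.2 : IsIntegral k[X] (b : S)).tower_top (A := O'))
      show (b : S) ∈ O'
      rw [← hy]; exact y.2
    have hne : O' ≠ ⊤ := fun h => htinv (by
      have : ((algebraMap k[X] S X)⁻¹ : S) ∈ O' := h ▸ trivial
      rw [ValuationSubring.mem_comap, map_inv₀,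
        show algebraMap S F (algebraMap k[X] S X) = ((algebraMap k[X] K X : K) : F) from rfl, hval, aeval_X] at this
      exact this)
    obtain ⟨v, hv'⟩ := (Groth.Agent.H02CA.valuationSubring_ne_top_containing_iff (A := B) O').mp ⟨hB, hne⟩
    refine ⟨v, ⟨v.isPrime, ⟨?_⟩⟩, hv'.symm⟩
    refine Ideal.IsMaximal.eq_of_le inferInstance (Ideal.IsPrime.comap (algebraMap k[X] B) (K := v.asIdeal)).ne_top ?_
    rw [Ideal.span_singleton_le_iff_mem, Ideal.mem_comap]
    rw [← IsDedekindDomain.HeightOneSpectrum.valuation_lt_one_iff_mem (K := S)]
    by_contra hc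
    rw [not_lt] at hc
    have : ((algebraMap k[X] S X)⁻¹ : S) ∈ O' := by
      rw [hv', Valuation.mem_valuationSubring_iff, map_inv₀]
      exact inv_le_one_of_one_le₀ hc
    rw [ValuationSubring.mem_comap, map_inv₀,
        show algebraMap S F (algebraMap k[X] S X) = ((algebraMap k[X] K X : K) : F) from rfl, hval, aeval_X] at this
    exact htinv this
  · intro O₁ _ O₂ _ h
    let q := ringExpChar S
    have key : ∀ (O : ValuationSubring F) (x : F) (m : ℕ), 0 < m → (x ^ m ∈ O ↔ x ∈ O) := fun O x m hm => by
      rw [← ValuationSubring.valuation_le_one_iff, ← ValuationSubring.valuation_le_one_iff, map_pow,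
        pow_le_one_iff_of_nonneg zero_le' hm.ne']
    refine SetLike.ext fun x => ?_
    obtain ⟨n, y, hy⟩ := IsPurelyInseparable.pow_mem S q x
    have hq : 0 < q ^ n := pow_pos (expChar_pos S q) n
    rw [← key O₁ x _ hq, ← key O₂ x _ hq, ← hy]
    exact SetLike.ext_iff.mp h y


/-- Let k be a field, A a finitely generated k-algebra which is an integral domain of Krull dimension
one (the coordinate ring of an affine curve), and F its field of fractions. Then the set of
valuation subrings of F which contain k but do not contain A is finite. (The published statement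
speaks of all valuation rings of F different from F and not containing A, over an algebraically
closed k; valuation rings not containing k must be excluded — for k an algebraic closure of a
rational function field in one variable t over a finite field and F = k(x), the t-adic valuation of
k has infinitely many extensions to F, none of whose rings contains A — and the published proof,
through the valuation at infinity of k(x), treats valuation rings containing k; it does not use that
k is algebraically closed.) -/
theorem result (k A F : Type u) [Field k]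
    [CommRing A] [IsDomain A] [Algebra k A] [Algebra.FiniteType k A] (hA : ringKrullDim A = 1)
    [Field F] [Algebra A F] [IsFractionRing A F] [Algebra k F] [IsScalarTower k A F] :
    {O : ValuationSubring F | (algebraMap k F).range ≤ O.toSubring ∧
        ¬ (algebraMap A F).range ≤ O.toSubring}.Finite := by
  obtain ⟨G, hG⟩ : (⊤ : Subalgebra k A).FG := Algebra.FiniteType.out
  obtain ⟨T, hTc, hTa⟩ := Groth.Agent.H29Curve.exists_finset_isAlgebraic k A F 1 hA.le
  haveI : Algebra.EssFiniteType k F :=
    haveI : Algebra.EssFiniteType A F := Algebra.EssFiniteType.of_isLocalization F (nonZeroDivisors A)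
    Algebra.EssFiniteType.comp k A F
  have htd : Algebra.trdeg k F ≤ 1 := by
    haveI : Algebra.IsAlgebraic (Algebra.adjoin k (T : Set F)) F := IntermediateField.isAlgebraic_adjoin_iff_top.mp hTa
    refine (Algebra.IsAlgebraic.trdeg_le_cardinalMk k (T : Set F)).trans ?_
    simp only [Finset.coe_sort_coe, Cardinal.mk_coe_finset]
    exact_mod_cast hTc
  have hfd : ∀ t : F, Transcendental k t → FiniteDimensional (IntermediateField.adjoin k {t}) F := by
    intro t ht
    obtain ⟨B, htB, hB⟩ := exists_isTranscendenceBasis_superset (s := {t})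
      (show AlgebraicIndepOn k id ({t} : Set F) from (algebraicIndependent_unique_type_iff (ι := ({t} : Set F))).mpr ht)
    have hsub : B = {t} := by
      have h1 := hB.cardinalMk_eq_trdeg.trans_le htd
      rw [Cardinal.le_one_iff_subsingleton] at h1
      refine Set.Subset.antisymm (fun b hb => ?_) htB
      exact congrArg Subtype.val (Subsingleton.elim (⟨b, hb⟩ : B) ⟨t, htB rfl⟩)
    haveI : Algebra.IsAlgebraic (IntermediateField.adjoin k ({t} : Set F)) F := by
      have h2 := hB.isAlgebraic_field
      rwa [Subtype.range_coe, hsub] at h2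
    haveI : Algebra.EssFiniteType (IntermediateField.adjoin k ({t} : Set F)) F := Algebra.EssFiniteType.of_comp k _ _
    exact Algebra.finite_of_essFiniteType_of_isAlgebraic
  classical
  refine Set.Finite.subset (Set.Finite.biUnion (G.finite_toSet.subset (Set.sep_subset _ fun a => Transcendental k (algebraMap A F a)⁻¹))
    fun a ha => @fin_one k F _ _ _ _ ha.2 (hfd _ ha.2)) ?_
  rintro O ⟨hk, hAO⟩
  obtain ⟨a, haG, haO⟩ : ∃ a ∈ G, algebraMap A F a ∉ O := by
    by_contra hc
    push Not at hc
    refine hAO ?_
    rintro _ ⟨a, rfl⟩
    have ha : a ∈ Algebra.adjoin k (G : Set A) := hG ▸ Algebra.mem_top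
    induction ha using Algebra.adjoin_induction with
    | mem x hx => exact hc x hx
    | algebraMap r => rw [← IsScalarTower.algebraMap_apply]; exact hk ⟨r, rfl⟩
    | add x y _ _ hx hy => rw [map_add]; exact O.toSubring.add_mem hx hy
    | mul x y _ _ hx hy => rw [map_mul]; exact O.toSubring.mul_mem hx hy
  have hi : (algebraMap A F a)⁻¹ ∈ O := (O.mem_or_inv_mem _).resolve_left haO
  have htr : Transcendental k (algebraMap A F a)⁻¹ := fun halg => haO (by
    have h1 : IsIntegral k (algebraMap A F a) := by
      simpa using halg.isIntegral.inv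
    letI : Algebra k O := ((algebraMap k F).codRestrict O.toSubring fun r => hk ⟨r, rfl⟩).toAlgebra
    haveI : IsScalarTower k O F := IsScalarTower.of_algebraMap_eq fun _ => rfl
    obtain ⟨y, hy⟩ := IsIntegrallyClosed.isIntegral_iff.mp (h1.tower_top (A := O))
    exact hy ▸ y.2)
  refine Set.mem_biUnion (x := a) ⟨haG, htr⟩ ⟨hk, hi, ?_⟩
  rwa [inv_inv]

end Groth.Agent.S11085
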