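import Groth.Statements.S11086
import Mathlib.RingTheory.DedekindDomain.Different
import Mathlib.RingTheory.Localization.LocalizationLocalization
import Mathlib.RingTheory.Localization.Finiteness
import Mathlib.RingTheory.IntegralClosure.IntegrallyClosed

set_option autoImplicit false
universe u
attribute [local instance] FractionRing.liftAlgebra
open CAlg

namespace Groth.Agent.S11086
theorem mem_diff (A K B L : Type u) [CommRing A] [IsIntegrallyClosed A] [Field K] [Algebra A K] [IsFractionRing A K]
    [CommRing B] [IsDedekindDomain B] [Algebra A B] [Module.IsTorsionFree A B] [Field L] [Algebra B L] [IsFractionRing B L]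
    [Algebra K L] [Algebra A L] [IsScalarTower A K L] [IsScalarTower A B L] [FiniteDimensional K L]
    [Algebra.IsSeparable K L] [IsIntegralClosure B A L] [IsDomain A] (y : B) :
    y ∈ differentIdeal A B ↔ ∀ x : L, (∀ b : B, Algebra.trace K L (x * algebraMap B L b) ∈ (algebraMap A K).range) →
      algebraMap B L y * x ∈ (algebraMap B L).range := by
  have h : algebraMap B L y ∈ IsLocalization.coeSubmodule L (differentIdeal A B) ↔ y ∈ differentIdeal A B := by
    rw [IsLocalization.mem_coeSubmodule]
    exact ⟨fun ⟨z, hz, e⟩ => (IsFractionRing.injective B L e) ▸ hz, fun hy => ⟨y, hy, rfl⟩⟩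
  rw [← h, coeSubmodule_differentIdeal A K, Submodule.mem_div_iff_forall_mul_mem]
  refine forall_congr' fun x => ?_
  rw [Submodule.mem_traceDual, Submodule.one_eq_range]
  refine ⟨fun H hx => H fun a ⟨b, hb⟩ => hb ▸ hx b, fun H hx => H fun b => hx _ ⟨b, rfl⟩⟩


/-- Let A be a Dedekind domain, B a Dedekind domain which is a finitely generated torsion-free A-algebra
with fraction field separable over that of A (the integral closure of A in a finite separable
extension), and S a submonoid of A consisting of non-zero-divisors. Let A_S and B_S be localizations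
of A at S and of B at the image of S, with B_S an algebra over A_S compatibly with A and B (so A_S
is integrally closed and B_S is a Dedekind domain, torsion-free over A_S). Then the ideal of B_S
generated by the different of B over A is the different of B_S over A_S. -/
theorem result (A B : Type u) [CommRing A] [CommRing B]
    [IsDedekindDomain A] [IsDedekindDomain B] [Algebra A B] [Module.Finite A B] [Module.IsTorsionFree A B]
    [Algebra.IsSeparable (FractionRing A) (FractionRing B)]
    (S : Submonoid A) (hS : S ≤ nonZeroDivisors A)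
    (Aₛ Bₛ : Type u) [CommRing Aₛ] [CommRing Bₛ] [Algebra A Aₛ] [Algebra B Bₛ] [Algebra Aₛ Bₛ]
    [Algebra A Bₛ] [IsScalarTower A Aₛ Bₛ] [IsScalarTower A B Bₛ]
    [IsLocalization S Aₛ] [IsLocalization (Algebra.algebraMapSubmonoid B S) Bₛ]
    [IsDomain Aₛ] [IsIntegrallyClosed Aₛ] [IsDedekindDomain Bₛ] [Module.IsTorsionFree Aₛ Bₛ] :
    Ideal.map (algebraMap B Bₛ) (differentIdeal A B) = differentIdeal Aₛ Bₛ := by
  let K := FractionRing A
  let L := FractionRing B
  letI : Algebra K L := FractionRing.liftAlgebra A L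
  haveI : IsScalarTower A K L := inferInstance
  letI : Algebra Aₛ K := (IsLocalization.lift (M := S) (g := algebraMap A K)
    (fun y => IsLocalization.map_units K (⟨y.1, hS y.2⟩ : nonZeroDivisors A))).toAlgebra
  haveI : IsScalarTower A Aₛ K := IsScalarTower.of_algebraMap_eq fun x => (IsLocalization.lift_eq _ x).symm
  haveI : IsFractionRing Aₛ K := IsFractionRing.isFractionRing_of_isDomain_of_isLocalization S Aₛ K
  have hS' : Algebra.algebraMapSubmonoid B S ≤ nonZeroDivisors B :=
    map_le_nonZeroDivisors_of_injective _ (FaithfulSMul.algebraMap_injective A B) hS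
  letI : Algebra Bₛ L := (IsLocalization.lift (M := Algebra.algebraMapSubmonoid B S) (g := algebraMap B L)
    (fun y => IsLocalization.map_units L (⟨y.1, hS' y.2⟩ : nonZeroDivisors B))).toAlgebra
  haveI : IsScalarTower B Bₛ L := IsScalarTower.of_algebraMap_eq fun x => (IsLocalization.lift_eq _ x).symm
  haveI : IsFractionRing Bₛ L := IsFractionRing.isFractionRing_of_isDomain_of_isLocalization (Algebra.algebraMapSubmonoid B S) Bₛ L
  letI : Algebra Aₛ L := ((algebraMap Bₛ L).comp (algebraMap Aₛ Bₛ)).toAlgebra
  haveI : IsScalarTower Aₛ Bₛ L := IsScalarTower.of_algebraMap_eq fun _ => rfl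
  haveI : IsScalarTower Aₛ K L := IsScalarTower.of_algebraMap_eq' (IsLocalization.ringHom_ext S (RingHom.ext fun x => by
    simp only [RingHom.comp_apply]
    rw [← IsScalarTower.algebraMap_apply A Aₛ K, ← IsScalarTower.algebraMap_apply A K L,
      show algebraMap Aₛ L (algebraMap A Aₛ x) = algebraMap Bₛ L (algebraMap Aₛ Bₛ (algebraMap A Aₛ x)) from rfl,
      ← IsScalarTower.algebraMap_apply A Aₛ Bₛ, IsScalarTower.algebraMap_apply A B Bₛ,
      ← IsScalarTower.algebraMap_apply B Bₛ L, ← IsScalarTower.algebraMap_apply A B L]))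
  haveI : IsScalarTower A Aₛ L := IsScalarTower.of_algebraMap_eq fun x => by
    rw [IsScalarTower.algebraMap_apply A K L, IsScalarTower.algebraMap_apply A Aₛ K, ← IsScalarTower.algebraMap_apply Aₛ K L]
  haveI : Module.Finite Aₛ Bₛ := Module.Finite.of_isLocalization A B S
  haveI : FiniteDimensional K L := Module.Finite.of_isLocalization A B (nonZeroDivisors A)
  haveI : IsIntegralClosure Bₛ Aₛ L := IsIntegralClosure.of_isIntegrallyClosed Bₛ Aₛ L
  haveI : IsIntegralClosure B A L := IsIntegralClosure.of_isIntegrallyClosed B A L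
  have hsa : ∀ s : S, algebraMap B Bₛ (algebraMap A B s) = algebraMap Aₛ Bₛ (algebraMap A Aₛ s) := fun s => by
    rw [← IsScalarTower.algebraMap_apply A B Bₛ, ← IsScalarTower.algebraMap_apply A Aₛ Bₛ]
  have hmem : ∀ (x : L), (∀ b : B, Algebra.trace K L (x * algebraMap B L b) ∈ (algebraMap A K).range) →
      ∀ b' : Bₛ, Algebra.trace K L (x * algebraMap Bₛ L b') ∈ (algebraMap Aₛ K).range := by
    intro x hx b'
    obtain ⟨⟨b, ⟨_, s, hs, rfl⟩⟩, hb⟩ := IsLocalization.surj (Algebra.algebraMapSubmonoid B S) b'
    obtain ⟨a, ha⟩ := hx b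
    obtain ⟨u, hu⟩ := (IsLocalization.map_units Aₛ (⟨s, hs⟩ : S)).exists_right_inv
    have e : b' = algebraMap B Bₛ b * algebraMap Aₛ Bₛ u := by
      have : algebraMap B Bₛ (algebraMap A B s) * algebraMap Aₛ Bₛ u = 1 := by
        rw [hsa ⟨s, hs⟩, ← map_mul, hu, map_one]
      calc b' = b' * (algebraMap B Bₛ (algebraMap A B s) * algebraMap Aₛ Bₛ u) := by rw [this, mul_one]
        _ = _ := by rw [← mul_assoc]; exact congrArg (· * algebraMap Aₛ Bₛ u) hb
    refine ⟨algebraMap A Aₛ a * u, ?_⟩
    rw [e, map_mul (algebraMap Bₛ L), map_mul (algebraMap Aₛ K), ← IsScalarTower.algebraMap_apply B Bₛ L, ← IsScalarTower.algebraMap_apply Aₛ Bₛ L,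
      ← IsScalarTower.algebraMap_apply A Aₛ K, ha, IsScalarTower.algebraMap_apply Aₛ K L,
      show x * (algebraMap B L b * algebraMap K L (algebraMap Aₛ K u)) = algebraMap Aₛ K u • (x * algebraMap B L b) by
        rw [Algebra.smul_def]; ring, map_smul, smul_eq_mul, mul_comm]
  apply le_antisymm
  · rw [Ideal.map_le_iff_le_comap]
    intro d hd
    rw [Ideal.mem_comap, mem_diff Aₛ K Bₛ L]
    intro x hx
    obtain ⟨T, hT⟩ := (Module.Finite.fg_top : (⊤ : Submodule A B).FG)
    choose a ha using fun b : B => hx (algebraMap B Bₛ b)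
    classical
    obtain ⟨s, hs⟩ := IsLocalization.exist_integer_multiples S T a
    have htr : ∀ (a : A) (z : L), algebraMap A K a * Algebra.trace K L z = Algebra.trace K L (algebraMap A L a * z) := fun a z => by
      rw [IsScalarTower.algebraMap_apply A K L, ← Algebra.smul_def (algebraMap A K a) z, map_smul, smul_eq_mul]
    have hsx : ∀ b : B, Algebra.trace K L (algebraMap A L s * x * algebraMap B L b) ∈ (algebraMap A K).range := by
      intro b
      have hb : b ∈ Submodule.span A (T : Set B) := hT ▸ Submodule.mem_top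
      induction hb using Submodule.span_induction with
      | mem b hb =>
        obtain ⟨c, hc⟩ := hs b hb
        refine ⟨c, ?_⟩
        rw [IsScalarTower.algebraMap_apply A Aₛ K, hc, Algebra.smul_def, map_mul (algebraMap Aₛ K), ha,
          ← IsScalarTower.algebraMap_apply A Aₛ K, ← IsScalarTower.algebraMap_apply B Bₛ L, htr, mul_assoc]
      | zero => exact ⟨0, by simp⟩
      | add u v _ _ hu hv =>
        have := Subring.add_mem _ hu hv
        rwa [← map_add, ← mul_add, ← map_add] at this
      | smul c u _ hu =>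
        obtain ⟨z, hz⟩ := hu
        refine ⟨c * z, ?_⟩
        rw [map_mul (algebraMap A K), hz, htr, Algebra.smul_def c u, map_mul (algebraMap B L), ← IsScalarTower.algebraMap_apply A B L]
        congr 1; ring
    obtain ⟨b, hb⟩ := (mem_diff A K B L d).mp hd _ hsx
    obtain ⟨u, hu⟩ := (IsLocalization.map_units Aₛ s).exists_right_inv
    refine ⟨algebraMap B Bₛ b * algebraMap Aₛ Bₛ u, ?_⟩
    rw [map_mul, ← IsScalarTower.algebraMap_apply B Bₛ L, hb, ← IsScalarTower.algebraMap_apply B Bₛ L,
      IsScalarTower.algebraMap_apply A Aₛ L, ← IsScalarTower.algebraMap_apply Aₛ Bₛ L]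
    have h1 : algebraMap Aₛ L (algebraMap A Aₛ s) * algebraMap Aₛ L u = 1 := by rw [← map_mul, hu, map_one]
    linear_combination (algebraMap B L d * x) * h1
  · intro y hy
    obtain ⟨⟨b, ⟨_, s, hs, rfl⟩⟩, hb⟩ := IsLocalization.surj (Algebra.algebraMapSubmonoid B S) y
    have hby : algebraMap B Bₛ b ∈ differentIdeal Aₛ Bₛ := hb ▸ Ideal.mul_mem_right _ _ hy
    rw [mem_diff Aₛ K Bₛ L] at hby
    obtain ⟨T, hT⟩ : (Submodule.traceDual A K (1 : Submodule B L)).FG := by
      rw [← FractionalIdeal.coe_dual_one A K L (B := B)]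
      exact FractionalIdeal.isNoetherian _ |>.noetherian ⊤ |> (Submodule.fg_top _).mp
    have hD : ∀ x : L, x ∈ Submodule.traceDual A K (1 : Submodule B L) →
        ∀ b : B, Algebra.trace K L (x * algebraMap B L b) ∈ (algebraMap A K).range := fun x hx b => by
      rw [Submodule.mem_traceDual] at hx
      exact hx _ (Submodule.mem_one.mpr ⟨b, rfl⟩)
    choose c hc using fun x : {x // x ∈ T} => hby x (hmem _ (hD _ (hT ▸ Submodule.subset_span x.2)))
    classical
    obtain ⟨⟨_, t, ht, rfl⟩, hz⟩ := IsLocalization.exist_integer_multiples (Algebra.algebraMapSubmonoid B S) Finset.univ c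
    have htb : algebraMap A B t * b ∈ differentIdeal A B := by
      rw [mem_diff A K B L]
      intro x hx
      have hxD : x ∈ Submodule.span B (T : Set L) := by
        rw [hT, Submodule.mem_traceDual]
        rintro _ hm
        obtain ⟨b, rfl⟩ := Submodule.mem_one.mp hm
        exact hx b
      clear hx
      induction hxD using Submodule.span_induction with
      | mem x hx =>
        obtain ⟨z, hz⟩ := hz ⟨x, hx⟩ (Finset.mem_univ _)
        refine ⟨z, ?_⟩
        rw [IsScalarTower.algebraMap_apply B Bₛ L, hz, Algebra.smul_def, map_mul, hc, ← IsScalarTower.algebraMap_apply B Bₛ L,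
          ← IsScalarTower.algebraMap_apply B Bₛ L, map_mul (algebraMap B L), mul_assoc]
      | zero => exact ⟨0, by simp⟩
      | add u v _ _ hu hv => rw [mul_add]; exact Subring.add_mem _ hu hv
      | smul r u _ hu =>
        obtain ⟨z, hz⟩ := hu
        refine ⟨r * z, ?_⟩
        rw [map_mul, hz, Algebra.smul_def]; ring
    have hu : IsUnit (algebraMap B Bₛ (algebraMap A B (t * s))) :=
      IsLocalization.map_units Bₛ (⟨_, t * s, S.mul_mem ht hs, rfl⟩ : Algebra.algebraMapSubmonoid B S)
    have := Ideal.mem_map_of_mem (algebraMap B Bₛ) htb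
    rw [map_mul, ← hb] at this
    rw [← Ideal.unit_mul_mem_iff_mem _ hu, map_mul, map_mul]
    simpa [mul_comm, mul_left_comm, mul_assoc] using this

end Groth.Agent.S11086
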