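import Groth.Statements.S11087
import Groth.Agent.H02CA.DVRExt.Basic

set_option autoImplicit false
universe u
attribute [local instance] FractionRing.liftAlgebra
open CAlg

namespace Groth.Agent.S11087

/-- Let A be a complete discrete valuation ring and K a perfect field contained in A such that K → A →
A/m is bijective. Let B be a Dedekind domain which is a finite torsion-free A-algebra with fraction
field separable over that of A (the integral closure of A in a finite separable extension of its
fraction field). Then for every maximal ideal M of B and every b in B there is exactly one element c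
of B which is algebraic over K and congruent to b modulo M; in other words the algebraic closure of
K in B is a subfield mapping isomorphically onto B/M. -/
theorem result (K A B : Type u) [Field K]
    [PerfectField K] [CommRing A] [IsDomain A] [IsDiscreteValuationRing A]
    [IsAdicComplete (IsLocalRing.maximalIdeal A) A]
    [Algebra K A] (hK : Function.Bijective ((IsLocalRing.residue A).comp (algebraMap K A)))
    [CommRing B] [IsDedekindDomain B] [Algebra A B] [Module.Finite A B] [Module.IsTorsionFree A B]
    [Algebra.IsSeparable (FractionRing A) (FractionRing B)] [Algebra K B] [IsScalarTower K A B]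
    (M : Ideal B) [M.IsMaximal] (b : B) :
    ∃! c : B, IsAlgebraic K c ∧ b - c ∈ M := by
  classical
  haveI := H02CA.DVRExt.isLocalRing A B
  haveI := H02CA.DVRExt.henselian A B
  haveI := H02CA.DVRExt.liesOver A B
  obtain rfl : M = IsLocalRing.maximalIdeal B := IsLocalRing.eq_maximalIdeal inferInstance
  let κ := B ⧸ IsLocalRing.maximalIdeal B
  letI : Field κ := Ideal.Quotient.field _
  haveI : IsScalarTower K A κ := IsScalarTower.of_algebraMap_eq fun x =>
    congrArg (Ideal.Quotient.mk _) (IsScalarTower.algebraMap_apply K A B x)
  haveI : Module.Finite K κ := by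
    refine ⟨?_⟩
    obtain ⟨S, hS⟩ := Module.Finite.fg_top (R := A) (M := κ)
    refine ⟨S, eq_top_iff.2 fun z _ => ?_⟩
    have hz : z ∈ Submodule.span A (S : Set κ) := by rw [hS]; trivial
    induction hz using Submodule.span_induction with
    | mem z hz => exact Submodule.subset_span hz
    | zero => exact zero_mem _
    | add x y _ _ hx hy => exact add_mem (hx trivial) (hy trivial)
    | smul a z _ hz =>
      obtain ⟨k, hk⟩ := hK.2 (IsLocalRing.residue A a)
      have hdiff : algebraMap A κ (a - algebraMap K A k) = 0 := by
        refine Ideal.Quotient.eq_zero_iff_mem.2 (H02CA.DVRExt.map_max_le A B (Ideal.mem_map_of_mem _ ?_))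
        exact Ideal.Quotient.eq.1 hk.symm
      have e : a • z = k • z := by
        rw [map_sub, sub_eq_zero] at hdiff
        rw [Algebra.smul_def, Algebra.smul_def, IsScalarTower.algebraMap_apply K A κ, hdiff]
      rw [e]
      exact Submodule.smul_mem _ k (hz trivial)
  let bb : κ := Ideal.Quotient.mk _ b
  have hint : IsIntegral K bb := IsIntegral.of_finite K bb
  let g := minpoly K bb
  have hsep : g.Separable := PerfectField.separable_of_irreducible (minpoly.irreducible hint)
  let f : Polynomial B := g.map (algebraMap K B)
  have hev : ∀ (c : B) (q : Polynomial K), Ideal.Quotient.mk (IsLocalRing.maximalIdeal B) ((q.map (algebraMap K B)).eval c) =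
      Polynomial.aeval (Ideal.Quotient.mk (IsLocalRing.maximalIdeal B) c : κ) q := fun c q => by
    rw [Polynomial.eval_map_algebraMap]
    exact (Polynomial.aeval_algHom_apply (Ideal.Quotient.mkₐ K (IsLocalRing.maximalIdeal B)) c q).symm
  have h1 : f.eval b ∈ IsLocalRing.maximalIdeal B := by
    rw [← Ideal.Quotient.eq_zero_iff_mem, hev]
    exact minpoly.aeval K bb
  have h2 : IsUnit (f.derivative.eval b) := by
    rw [Polynomial.derivative_map, ← IsLocalRing.notMem_maximalIdeal, ← Ideal.Quotient.eq_zero_iff_mem, hev]
    exact hsep.aeval_derivative_ne_zero (minpoly.aeval K bb)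
  obtain ⟨c, hc, hcb⟩ := HenselianLocalRing.is_henselian f ((minpoly.monic hint).map _) b h1 h2
  refine ⟨c, ⟨⟨g, minpoly.ne_zero hint, ?_⟩, by simpa using neg_mem hcb⟩, ?_⟩
  · rw [← Polynomial.eval_map_algebraMap]; exact hc
  rintro d ⟨hd, hdb⟩
  have hdint : IsIntegral K d := hd.isIntegral
  have hdd : (Ideal.Quotient.mk (IsLocalRing.maximalIdeal B) d : κ) = bb := (Ideal.Quotient.eq.2 hdb).symm
  have hg : minpoly K d = g := by
    refine minpoly.eq_of_irreducible_of_monic (minpoly.irreducible hdint) ?_ (minpoly.monic hdint)
    have := hev d (minpoly K d)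
    rw [Polynomial.eval_map_algebraMap, minpoly.aeval, map_zero, hdd] at this
    exact this.symm
  have hd0 : f.eval d = 0 := by rw [Polynomial.eval_map_algebraMap, ← hg]; exact minpoly.aeval K d
  obtain ⟨r, hr⟩ := Polynomial.binomExpansion f c (d - c)
  rw [add_sub_cancel, hd0, hc.eq_zero, zero_add] at hr
  have hu : IsUnit (f.derivative.eval c + r * (d - c)) := by
    rw [Polynomial.derivative_map, ← IsLocalRing.notMem_maximalIdeal, ← Ideal.Quotient.eq_zero_iff_mem, map_add, hev]
    have e1 : (Ideal.Quotient.mk (IsLocalRing.maximalIdeal B) c : κ) = bb := Ideal.Quotient.eq.2 hcb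
    have e2 : Ideal.Quotient.mk (IsLocalRing.maximalIdeal B) (r * (d - c)) = 0 := by
      have e3 : (Ideal.Quotient.mk (IsLocalRing.maximalIdeal B) (d - c) : κ) = 0 := by rw [map_sub, hdd, e1, sub_self]
      rw [map_mul, e3, mul_zero]
    rw [e1, e2, add_zero]
    exact hsep.aeval_derivative_ne_zero (minpoly.aeval K bb)
  refine sub_eq_zero.1 (hu.mul_right_eq_zero.1 ?_)
  rw [hr]; ring

end Groth.Agent.S11087
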