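import Groth.Statements.S11088
import Groth.Agent.H9Ram.InertiaEtale
import Mathlib.RingTheory.RamificationInertia.Basic

set_option autoImplicit false
universe u
attribute [local instance] FractionRing.liftAlgebra
open CAlg

namespace Groth.Agent.S11088

/-- Let A be a complete discrete valuation ring with maximal ideal m and B a Dedekind domain which is a
finite torsion-free A-algebra with fraction field separable over that of A (the integral closure of
A in a finite separable extension). Then for every maximal ideal M of B, with f the degree of B/M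
over A/m, and every nonzero x in B, the multiplicity of m in the ideal generated by the norm of x
equals f times the multiplicity of M in the ideal generated by x: v(N(x)) = f · w(x). -/
theorem result (A B : Type u) [CommRing A] [IsDomain A] [IsDiscreteValuationRing A]
    [IsAdicComplete (IsLocalRing.maximalIdeal A) A]
    [CommRing B] [IsDedekindDomain B] [Algebra A B] [Module.Finite A B] [Module.IsTorsionFree A B]
    [Algebra.IsSeparable (FractionRing A) (FractionRing B)]
    (M : Ideal B) [M.IsMaximal] (x : B) (hx : x ≠ 0) :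
    emultiplicity (IsLocalRing.maximalIdeal A) (Ideal.span {Algebra.intNorm A B x}) =
      (M.inertiaDeg A : ℕ∞) * emultiplicity M (Ideal.span {x}) := by
  classical
  haveI : HenselianLocalRing A :=
    { is_henselian := fun f hf a₀ h₁ h₂ =>
        HenselianRing.is_henselian (I := IsLocalRing.maximalIdeal A) f hf a₀ h₁ (h₂.map _) }
  haveI : IsLocalRing B := H9Ram.isLocalRing_of_finite_of_henselian (R := A)
  obtain rfl : M = IsLocalRing.maximalIdeal B := IsLocalRing.eq_maximalIdeal inferInstance
  set m := IsLocalRing.maximalIdeal A with hm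
  have hm0 : m ≠ ⊥ := IsDiscreteValuationRing.not_a_field A
  have hmB : m.map (algebraMap A B) ≠ ⊥ :=
    (Ideal.map_eq_bot_iff_of_injective (FaithfulSMul.algebraMap_injective A B)).not.mpr hm0
  haveI : Algebra.IsIntegral A B := Algebra.IsIntegral.of_finite A B
  haveI : (IsLocalRing.maximalIdeal B).LiesOver m :=
    ⟨(IsLocalRing.eq_maximalIdeal (Ideal.isMaximal_comap_of_isIntegral_of_isMaximal _)).symm⟩
  have huniq : ∀ Q : Ideal B, Q.IsPrime → Q ≠ ⊥ → Q = IsLocalRing.maximalIdeal B := fun Q hQ h0 =>
    IsLocalRing.eq_maximalIdeal (hQ.isMaximal h0)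
  have hMne : IsLocalRing.maximalIdeal B ≠ ⊥ := fun h =>
    hmB (le_bot_iff.1 (h ▸ Ideal.map_le_iff_le_comap.2 (Ideal.LiesOver.over (P := IsLocalRing.maximalIdeal B) (p := m)).le))
  have hpow : ∀ I : Ideal B, I ≠ ⊥ → I = IsLocalRing.maximalIdeal B ^
      (UniqueFactorizationMonoid.normalizedFactors I).count (IsLocalRing.maximalIdeal B) := by
    intro I hI
    conv_lhs => rw [← associated_iff_eq.1 (UniqueFactorizationMonoid.prod_normalizedFactors hI)]
    refine Multiset.prod_eq_pow_single _ fun Q hne hQ => absurd (huniq Q ?_ ?_) hne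
    · exact Ideal.isPrime_of_prime (UniqueFactorizationMonoid.prime_of_normalized_factor Q hQ)
    · exact (UniqueFactorizationMonoid.prime_of_normalized_factor Q hQ).ne_zero
  obtain ⟨s, hs⟩ := Ideal.exists_relNorm_eq_pow_of_isPrime (IsLocalRing.maximalIdeal B) m
  let e := (IsLocalRing.maximalIdeal B).ramificationIdx A
  have he : m.map (algebraMap A B) = IsLocalRing.maximalIdeal B ^ e := by
    show _ = _ ^ (IsLocalRing.maximalIdeal B).ramificationIdx A
    rw [Ideal.IsDedekindDomain.ramificationIdx_eq_normalizedFactors_count m _ hmB]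
    exact hpow _ hmB
  haveI : Module.Free A B := inferInstance
  have hn : Module.finrank A B = e * (IsLocalRing.maximalIdeal B).inertiaDeg A := by
    letI : Fintype (m.primesOver B) := Fintype.ofFinite _
    letI : Unique (m.primesOver B) :=
      { default := ⟨IsLocalRing.maximalIdeal B, inferInstance, inferInstance⟩
        uniq := fun Q => Subtype.ext (huniq Q.1 Q.2.1 fun h0 => hm0 (by
          rw [Q.2.2.over, h0]; exact Ideal.comap_bot_of_injective _ (FaithfulSMul.algebraMap_injective A B))) }
    rw [← Ideal.sum_ramification_inertia_eq_finrank m B]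
    rw [Fintype.sum_unique]
    rfl
  have hes : e * (IsLocalRing.maximalIdeal B).inertiaDeg A = e * s := by
    have h := Ideal.relNorm_algebraMap (R := A) B m
    rw [he, map_pow, hs, ← pow_mul, hn] at h
    rw [mul_comm e s]
    exact ((IsLeftCancelMulZero.mul_left_cancel_of_ne_zero hm0).pow_injective
      (by rw [Ideal.one_eq_top]; exact (IsLocalRing.maximalIdeal.isMaximal A).ne_top) h).symm
  have he0 : e ≠ 0 := fun h0 => by
    rw [h0, pow_zero, Ideal.one_eq_top] at he
    exact (IsLocalRing.maximalIdeal.isMaximal B).ne_top (top_le_iff.1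
      (he ▸ Ideal.map_le_iff_le_comap.2 (Ideal.LiesOver.over (P := IsLocalRing.maximalIdeal B) (p := m)).le : (⊤ : Ideal B) ≤ IsLocalRing.maximalIdeal B))
  have hsf : s = (IsLocalRing.maximalIdeal B).inertiaDeg A := (Nat.eq_of_mul_eq_mul_left (Nat.pos_of_ne_zero he0) hes).symm
  have hx' : ¬ Ideal.span {x} = (⊥ : Ideal B) := fun h => hx (Ideal.span_singleton_eq_bot.1 h)
  rw [← Ideal.relNorm_singleton, hpow _ hx', map_pow, hs, hsf, ← pow_mul]
  rw [emultiplicity_pow_self hm0 (by rw [Ideal.isUnit_iff]; exact (IsLocalRing.maximalIdeal.isMaximal A).ne_top),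
    emultiplicity_pow_self hMne (by rw [Ideal.isUnit_iff]; exact (IsLocalRing.maximalIdeal.isMaximal B).ne_top)]
  push_cast
  rfl

end Groth.Agent.S11088
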