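import Groth.Statements.S11089
import Groth.Agent.H02CA.DVRExt.Basic

set_option autoImplicit false
universe u
attribute [local instance] FractionRing.liftAlgebra
open CAlg

namespace Groth.Agent.S11089

/-- Let A be a complete discrete valuation ring containing a field K with K → A → A/m bijective, and B a
Dedekind domain which is a finite torsion-free A-algebra of rank m with fraction field separable
over that of A (the integral closure of A in a finite separable extension E of F = Frac A). If the
extension is totally ramified — the maximal ideal M of B has ramification index m — and m is a unit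
in A, then some uniformizer u of B (an element of M not in M²) satisfies u^m ∈ A and generates E
over F: its minimal polynomial over A has degree m. -/
theorem result (K A B : Type u) [Field K]
    [CommRing A] [IsDomain A] [IsDiscreteValuationRing A]
    [IsAdicComplete (IsLocalRing.maximalIdeal A) A]
    [Algebra K A] (hK : Function.Bijective ((IsLocalRing.residue A).comp (algebraMap K A)))
    [CommRing B] [IsDedekindDomain B] [Algebra A B] [Module.Finite A B] [Module.IsTorsionFree A B]
    [Algebra.IsSeparable (FractionRing A) (FractionRing B)]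
    (M : Ideal B) [M.IsMaximal] (hram : M.ramificationIdx A = Module.finrank A B)
    (hm : IsUnit ((Module.finrank A B : ℕ) : A)) :
    ∃ u : B, u ∈ M ∧ u ∉ M ^ 2 ∧ u ^ Module.finrank A B ∈ (algebraMap A B).range ∧
      (minpoly A u).natDegree = Module.finrank A B := by
  classical
  haveI := H02CA.DVRExt.isLocalRing A B
  haveI := H02CA.DVRExt.henselian A B
  haveI := H02CA.DVRExt.liesOver A B
  haveI := H02CA.DVRExt.isLocalHom A B
  obtain rfl : M = IsLocalRing.maximalIdeal B := IsLocalRing.eq_maximalIdeal inferInstance
  set n := Module.finrank A B with hn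
  have hn0 : 0 < n := Module.finrank_pos
  set MB := IsLocalRing.maximalIdeal B with hMB
  have hMne : MB ≠ ⊥ := H02CA.DVRExt.max_ne_bot A B
  have hMprime : Prime MB := Ideal.prime_of_isPrime hMne inferInstance
  obtain ⟨π, hπ, hπ2⟩ := SetLike.exists_of_lt (Ideal.pow_right_strictAnti MB hMne
    (IsLocalRing.maximalIdeal.isMaximal B).ne_top (show 1 < 2 by norm_num))
  simp only [pow_one] at hπ hπ2
  obtain ⟨t, ht⟩ := IsDiscreteValuationRing.exists_irreducible A
  have htm : IsLocalRing.maximalIdeal A = Ideal.span {t} := ht.maximalIdeal_eq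
  have hmap : Ideal.span {algebraMap A B t} = MB ^ n := by
    rw [← Set.image_singleton, ← Ideal.map_span, ← htm, H02CA.DVRExt.map_max_eq A B, hram]
  -- MB is generated by π
  have hspan : Ideal.span {π} = MB := by
    have hπ0 : ¬ Ideal.span {π} = (⊥ : Ideal B) := fun h => hπ2 (by
      rw [Ideal.span_singleton_eq_bot.1 h]; exact zero_mem _)
    have e := H02CA.DVRExt.eq_max_pow B hπ0
    rw [← hMB] at e
    generalize (UniqueFactorizationMonoid.normalizedFactors (Ideal.span {π})).count MB = k at e
    rcases k with _ | _ | k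
    · rw [pow_zero, Ideal.one_eq_top, Ideal.span_singleton_eq_top] at e
      exact absurd hπ (fun h => (IsLocalRing.mem_maximalIdeal π).1 h e)
    · simpa using e
    · refine absurd ?_ hπ2
      have h3 : π ∈ MB ^ (k + 1 + 1) := by rw [← e]; exact Ideal.mem_span_singleton_self π
      exact Ideal.pow_le_pow_right (by omega) h3
  obtain ⟨w, hw⟩ : Associated (algebraMap A B t) (π ^ n) := by
    rw [← Ideal.span_singleton_eq_span_singleton, hmap, ← Ideal.span_singleton_pow, hspan]
  obtain ⟨a, ha⟩ := H02CA.DVRExt.residue_surjective_of_totally_ramified A B hram (w : B)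
  have haU : IsUnit a := by
    refine IsLocalRing.notMem_maximalIdeal.1 fun h => ?_
    have h2 := sub_mem (H02CA.DVRExt.map_max_le A B (Ideal.mem_map_of_mem _ h)) ha
    rw [sub_sub_cancel] at h2
    exact (IsLocalRing.mem_maximalIdeal _).1 h2 w.isUnit
  obtain ⟨au, rfl⟩ := haU
  let au' : Bˣ := Units.map (algebraMap A B).toMonoidHom au
  let w1 : Bˣ := w * au'⁻¹
  -- an n-th root of w1
  have hw1 : (1 : B) - (w1 : B) ∈ MB := by
    have : (1 : B) - (w1 : B) = (algebraMap A B au - w) * (au'⁻¹ : Bˣ) := by
      rw [sub_mul]; simp [w1, au', ← map_mul]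
    rw [this]; exact Ideal.mul_mem_right _ _ ha
  have hnB : IsUnit ((n : B)) := by
    have := hm.map (algebraMap A B)
    rwa [map_natCast] at this
  obtain ⟨v, hv, hv1⟩ := HenselianLocalRing.is_henselian (Polynomial.X ^ n - Polynomial.C (w1 : B))
    (Polynomial.monic_X_pow_sub_C _ hn0.ne') 1 (by rw [← hMB]; simpa only [Polynomial.eval_sub, Polynomial.eval_pow, Polynomial.eval_X, one_pow, Polynomial.eval_C] using hw1)
    (by simpa [Polynomial.derivative_X_pow] using hnB)
  have hvn : v ^ n = (w1 : B) := by simpa [Polynomial.IsRoot, sub_eq_zero] using hv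
  have hvU : IsUnit v := (isUnit_pow_iff hn0.ne').1 (hvn ▸ w1.isUnit)
  obtain ⟨vu, rfl⟩ := hvU
  let u : B := π * (vu⁻¹ : Bˣ)
  have hun : u ^ n = algebraMap A B (t * au) := by
    have : u ^ n * (vu : B) ^ n = algebraMap A B (t * au) * (vu : B) ^ n := by
      rw [← mul_pow]
      simp only [u, mul_assoc, Units.inv_mul, mul_one]
      rw [← hw, hvn, map_mul]
      simp [w1, au', mul_assoc, mul_comm, mul_left_comm, ← map_mul]
    exact (hvn ▸ w1.isUnit).mul_right_cancel this
  have hspanu : Ideal.span {u} = MB := by
    rw [Ideal.span_singleton_mul_right_unit (vu⁻¹).isUnit, hspan]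
  refine ⟨u, ?_, ?_, ⟨_, hun.symm⟩, ?_⟩
  · rw [← hspanu]; exact Ideal.mem_span_singleton_self u
  · intro h
    have h2 : MB ≤ MB ^ 2 := by
      conv_lhs => rw [← hspanu]
      exact (Ideal.span_singleton_le_iff_mem _).2 h
    exact (Ideal.pow_right_strictAnti MB hMne (IsLocalRing.maximalIdeal.isMaximal B).ne_top
      (show 1 < 2 by norm_num)).not_ge (by simpa using h2)
  · have hmem : t * au ∈ IsLocalRing.maximalIdeal A := by
      rw [htm]; exact Ideal.mul_mem_right _ _ (Ideal.mem_span_singleton_self t)
    have hsq : t * au ∉ IsLocalRing.maximalIdeal A ^ 2 := by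
      rw [htm, Ideal.span_singleton_pow, Ideal.mem_span_singleton]
      rintro ⟨c, hc⟩
      refine ht.not_isUnit (isUnit_of_dvd_unit (y := (au : A)) ⟨c, mul_left_cancel₀ ht.ne_zero ?_⟩ au.isUnit)
      rw [hc]; ring
    have hmon := Polynomial.monic_X_pow_sub_C (t * au) hn0.ne'
    have heis : (Polynomial.X ^ n - Polynomial.C (t * au)).IsEisensteinAt (IsLocalRing.maximalIdeal A) := by
      refine ⟨?_, fun {i} hi => ?_, ?_⟩
      · rw [hmon.leadingCoeff]; exact fun h => (IsLocalRing.mem_maximalIdeal _).1 h isUnit_one
      · rw [Polynomial.natDegree_X_pow_sub_C] at hi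
        rw [Polynomial.coeff_sub, Polynomial.coeff_X_pow, if_neg (ne_of_lt hi), Polynomial.coeff_C, zero_sub]
        split_ifs <;> simp [hmem]
      · rw [Polynomial.coeff_sub, Polynomial.coeff_X_pow, if_neg hn0.ne, Polynomial.coeff_C_zero, zero_sub]
        exact fun h => hsq (by simpa using h)
    have hirr := heis.irreducible inferInstance hmon.isPrimitive (by rw [Polynomial.natDegree_X_pow_sub_C]; exact hn0)
    have hint : IsIntegral A u := Algebra.IsIntegral.isIntegral u
    have hdvd : minpoly A u ∣ (Polynomial.X ^ n - Polynomial.C (t * au)) :=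
      minpoly.isIntegrallyClosed_dvd hint (by simp [hun])
    have e : minpoly A u = Polynomial.X ^ n - Polynomial.C (t * au) :=
      Polynomial.eq_of_monic_of_associated (minpoly.monic hint) hmon
        ((hirr.dvd_iff.1 hdvd).resolve_left (minpoly.not_isUnit A u)).symm
    rw [e, Polynomial.natDegree_X_pow_sub_C]

end Groth.Agent.S11089
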