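import Groth.Statements.S11090
import Groth.Agent.H25Rig.GroupMaps
import Groth.Agent.H19Grp.PointsEq
import Groth.Agent.H19Grp.ImageGroup
import Groth.Agent.H19Grp.AlgClosedGeom
import Mathlib

set_option autoImplicit false
universe u
open CategoryTheory CategoryTheory.Limits MonoidalCategory CartesianMonoidalCategory MonObj GrpObj AlgebraicGeometry
open AbVar

namespace Groth.Agent.S11090

/-- Let k be an algebraically closed field and E, E′, E″ elliptic curves over k, i.e. group schemes over
Spec k whose underlying schemes are proper, smooth, integral and one-dimensional. Let φ : E → E′ be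
a homomorphism which is finite, surjective and étale (a separable isogeny) and ψ : E → E″ a
homomorphism such that every k-valued point of E sent to the unit by φ is sent to the unit by ψ.
Then there is a unique homomorphism ρ : E′ → E″ with ψ = ρ ∘ φ. (The published statement prints ψ as
a map from E″ to E and calls it an isogeny; its proof treats ψ as a map from E to E″, as here, and
this row allows any homomorphism ψ, the extra case of trivial ψ being immediate.) -/
theorem result (k : Type u) [Field k] [IsAlgClosed k]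
    (E E' E'' : Over (Spec (CommRingCat.of k)))
    [GrpObj E] [IsProper E.hom] [Smooth E.hom] [IsIntegral E.left] (hE : topologicalKrullDim E.left = 1)
    [GrpObj E'] [IsProper E'.hom] [Smooth E'.hom] [IsIntegral E'.left] (hE' : topologicalKrullDim E'.left = 1)
    [GrpObj E''] [IsProper E''.hom] [Smooth E''.hom] [IsIntegral E''.left] (hE'' : topologicalKrullDim E''.left = 1)
    (φ : E ⟶ E') [IsMonHom φ] [IsFinite φ.left] [Surjective φ.left] [Etale φ.left]
    (ψ : E ⟶ E'') [IsMonHom ψ]
    (hker : ∀ P : 𝟙_ (Over (Spec (CommRingCat.of k))) ⟶ E, P ≫ φ = η[E'] → P ≫ ψ = η[E'']) :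
    ∃! ρ : E' ⟶ E'', IsMonHom ρ ∧ φ ≫ ρ = ψ := by
  let P : Over (Spec (CommRingCat.of k)) := Over.mk (Spec.map (CommRingCat.ofHom (algebraMap k k)))
  have hid : Spec.map (CommRingCat.ofHom (algebraMap k k)) = 𝟙 (Spec (CommRingCat.of k)) := by
    rw [show CommRingCat.ofHom (algebraMap k k) = 𝟙 (CommRingCat.of k) from rfl, Spec.map_id]
  haveI : IsLocallyNoetherian E'.left := LocallyOfFiniteType.isLocallyNoetherian E'.hom
  haveI : LocallyOfFinitePresentation φ.left := inferInstance
  let W : Over (Spec (CommRingCat.of k)) := Over.mk (pullback.fst φ.left φ.left ≫ E.hom)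
  haveI : Smooth W.hom := inferInstanceAs (Smooth (pullback.fst φ.left φ.left ≫ E.hom))
  let a : W ⟶ E := Over.homMk (pullback.fst φ.left φ.left)
  let b : W ⟶ E := Over.homMk (pullback.snd φ.left φ.left) (by
    show pullback.snd φ.left φ.left ≫ E.hom = pullback.fst φ.left φ.left ≫ E.hom
    rw [← Over.w φ, ← Category.assoc, ← Category.assoc, pullback.condition])
  have hab : a ≫ φ = b ≫ φ := Over.OverMorphism.ext pullback.condition
  have hψ : a ≫ ψ = b ≫ ψ := Groth.Agent.H19Grp.PointsDense.hom_eq (K := k) _ _ fun w => by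
    let e : 𝟙_ (Over (Spec (CommRingCat.of k))) ⟶ P :=
      Over.homMk (𝟙 _) (by show 𝟙 _ ≫ Spec.map _ = 𝟙 _; rw [hid, Category.id_comp])
    let e' : P ⟶ 𝟙_ (Over (Spec (CommRingCat.of k))) :=
      Over.homMk (𝟙 _) (by show 𝟙 _ ≫ 𝟙 _ = Spec.map _; rw [hid, Category.id_comp])
    have hee : e' ≫ e = 𝟙 P := Over.OverMorphism.ext (Category.id_comp _)
    let d := (e ≫ w ≫ a)⁻¹ * (e ≫ w ≫ b)
    have hd : d ≫ φ = η[E'] := by
      simp only [d, MonObj.mul_comp, GrpObj.inv_comp, Category.assoc, hab, inv_mul_cancel]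
      rw [Hom.one_def, toUnit_unit, Category.id_comp]
    have h2 := hker d hd
    simp only [d, MonObj.mul_comp, GrpObj.inv_comp, Category.assoc] at h2
    rw [show (η[E''] : 𝟙_ _ ⟶ E'') = 1 by rw [Hom.one_def, toUnit_unit, Category.id_comp], inv_mul_eq_one] at h2
    have h3 := congrArg (e' ≫ ·) h2
    simpa only [← Category.assoc e' e, hee, Category.id_comp] using h3
  have hdesc : ∀ {Z : Scheme.{u}} (g₁ g₂ : Z ⟶ E.left), g₁ ≫ φ.left = g₂ ≫ φ.left → g₁ ≫ ψ.left = g₂ ≫ ψ.left := by
    intro Z g₁ g₂ hg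
    rw [← pullback.lift_fst (f := φ.left) (g := φ.left) g₁ g₂ hg, Category.assoc,
      show pullback.fst φ.left φ.left ≫ ψ.left = pullback.snd φ.left φ.left ≫ ψ.left from congrArg (·.left) hψ,
      pullback.lift_snd_assoc]
  have hfac := EffectiveEpi.fac φ.left ψ.left hdesc
  let ρ₀ := EffectiveEpi.desc φ.left ψ.left hdesc
  haveI : Epi φ.left := inferInstance
  let ρ : E' ⟶ E'' := Over.homMk ρ₀ (by rw [← cancel_epi φ.left, ← Category.assoc, hfac, Over.w ψ, Over.w φ])
  have hρ : φ ≫ ρ = ψ := Over.OverMorphism.ext hfac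
  haveI : GeometricallyIntegral E'.hom := by
    haveI := Groth.Agent.H19Grp.geometricallyIrreducible_of_irreducibleSpace E'.hom
    haveI := Groth.Agent.H19Grp.geometricallyReduced_of_smooth E'.hom
    exact GeometricallyIntegral.of_geometricallyReduced_of_geometricallyIrreducible _
  refine ⟨ρ, ⟨Groth.Agent.H25Rig.isMonHom_of_one_hom ρ ?_, hρ⟩, fun ρ' hρ' => ?_⟩
  · rw [← IsMonHom.one_hom φ, Category.assoc, hρ, IsMonHom.one_hom]
  · refine Over.OverMorphism.ext ((cancel_epi φ.left).mp ?_)
    exact congrArg (·.left) (hρ'.2.trans hρ.symm)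

end Groth.Agent.S11090
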