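import Groth.Statements.S11091
import Groth.Agent.H9Hens.Pair
import Mathlib.RingTheory.Ideal.GoingUp
import Mathlib.RingTheory.Artinian.Module
import Mathlib.RingTheory.Artinian.Ring
import Mathlib.RingTheory.Finiteness.Quotient

set_option autoImplicit false
universe u
attribute [local instance] FractionRing.liftAlgebra
open CAlg

namespace Groth.Agent.S11091

/-- Let A be a complete discrete valuation ring and B a Dedekind domain which is a finite torsion-free
A-algebra whose fraction field is separable over that of A (the integral closure of A in a finite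
separable extension E of the fraction field F). Then B has exactly one maximal ideal; equivalently,
since the discrete valuations of E extending a multiple of the valuation of F correspond to the
nonzero primes of B, the valuation of F extends uniquely to E, and B is a complete discrete
valuation ring. -/
theorem result (A B : Type u) [CommRing A] [IsDomain A] [IsDiscreteValuationRing A]
    [IsAdicComplete (IsLocalRing.maximalIdeal A) A]
    [CommRing B] [IsDedekindDomain B] [Algebra A B] [Module.Finite A B] [Module.IsTorsionFree A B]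
    [Algebra.IsSeparable (FractionRing A) (FractionRing B)] :
    ∃! M : Ideal B, M.IsMaximal := by
  classical
  set m := IsLocalRing.maximalIdeal A with hm
  haveI : Algebra.IsIntegral A B := Algebra.IsIntegral.of_finite A B
  obtain ⟨M₁, hM₁⟩ := Ideal.exists_maximal B
  refine ⟨M₁, hM₁, fun M₂ hM₂ => ?_⟩
  by_contra hne
  have hover : ∀ M : Ideal B, M.IsMaximal → m.map (algebraMap A B) ≤ M := by
    intro M hM
    haveI := hM
    rw [Ideal.map_le_iff_le_comap]
    exact (IsLocalRing.eq_maximalIdeal (Ideal.isMaximal_comap_of_isIntegral_of_isMaximal M)).ge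
  obtain ⟨x, hx1, hx2⟩ : ∃ x, x ∈ M₁ ∧ x ∉ M₂ :=
    SetLike.not_le_iff_exists.mp fun hle => hne (hM₁.eq_of_le hM₂.ne_top hle).symm
  set I := m.map (algebraMap A B) with hI
  haveI : IsArtinianRing (A ⧸ m) := DivisionRing.instIsArtinianRing (K := IsLocalRing.ResidueField A)
  haveI : IsArtinianRing (B ⧸ I) := IsArtinianRing.of_finite (A ⧸ m) (B ⧸ I)
  obtain ⟨n, y, hy⟩ := IsArtinian.exists_pow_succ_smul_dvd (Ideal.Quotient.mk I x) (1 : B ⧸ I)
  simp only [smul_eq_mul, mul_one] at hy
  have hpow : ∀ k, ∃ c, (Ideal.Quotient.mk I x) ^ (n + k) * c = (Ideal.Quotient.mk I x) ^ n := by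
    intro k
    induction k with
    | zero => exact ⟨1, by simp⟩
    | succ k ih =>
      obtain ⟨c, hc⟩ := ih
      refine ⟨y * c, ?_⟩
      calc Ideal.Quotient.mk I x ^ (n + (k + 1)) * (y * c)
          = (Ideal.Quotient.mk I x) ^ k * ((Ideal.Quotient.mk I x) ^ n.succ * y) * c := by
            rw [Nat.succ_eq_add_one]; ring
        _ = (Ideal.Quotient.mk I x) ^ (n + k) * c := by rw [hy, pow_add]; ring
        _ = _ := hc
  obtain ⟨c, hc⟩ := hpow n
  obtain ⟨c, rfl⟩ := Ideal.Quotient.mk_surjective c
  have hc' : x ^ (n + n) * c - x ^ n ∈ I := by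
    rw [← Ideal.Quotient.eq, map_mul, map_pow, map_pow]; exact hc
  rcases Nat.eq_zero_or_pos n with hn | hn
  · subst hn
    obtain ⟨z, hz⟩ : ∃ z, x * z - 1 ∈ I := by
      obtain ⟨z, hz⟩ := Ideal.Quotient.mk_surjective y
      refine ⟨z, ?_⟩
      rw [← Ideal.Quotient.eq, map_mul, map_one, hz]
      simpa using hy
    have h1 := M₁.sub_mem (M₁.mul_mem_right z hx1) (hover M₁ hM₁ hz)
    rw [sub_sub_cancel] at h1
    exact hM₁.ne_top ((Ideal.eq_top_iff_one _).mpr h1)
  haveI : HenselianRing A m := inferInstance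
  obtain ⟨e, he, heb⟩ := Groth.Agent.H9Hens.exists_idem_lift_integral (I := m) (x ^ n * c) (by
    rw [show x ^ n * c * (x ^ n * c) - x ^ n * c = c * (x ^ (n + n) * c - x ^ n) by ring]
    exact I.mul_mem_left c hc')
  rcases IsIdempotentElem.iff_eq_zero_or_one.mp he with rfl | rfl
  · refine hx2 (hM₂.isPrime.mem_of_pow_mem n ?_)
    have h1 : x ^ n * c ∈ M₂ := by simpa using hover M₂ hM₂ (I.neg_mem heb)
    have h2 := M₂.sub_mem (M₂.mul_mem_left (x ^ n) h1) (hover M₂ hM₂ hc')
    rwa [show x ^ n * (x ^ n * c) - (x ^ (n + n) * c - x ^ n) = x ^ n by ring] at h2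
  · have h1 := hover M₁ hM₁ heb
    have h2 : x ^ n * c ∈ M₁ := M₁.mul_mem_right c (Ideal.pow_mem_of_mem _ hx1 n hn)
    have h3 := M₁.add_mem h1 h2
    rw [sub_add_cancel] at h3
    exact hM₁.ne_top ((Ideal.eq_top_iff_one _).mpr h3)

end Groth.Agent.S11091
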