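import Groth.Statements.S11092
import Groth.Agent.H02CA.SepBasis
import Mathlib.FieldTheory.SeparableClosure
import Mathlib.LinearAlgebra.FiniteDimensional.Basic

set_option autoImplicit false
universe u v
open CAlg

namespace Groth.Agent.S11092

/-- Let k be an algebraically closed field, K a field finitely generated over k admitting a one-element
transcendence basis over k (a function field of dimension one), and L a finite extension field of K
with the compatible k-algebra structure. Then the K-linear map from the Kähler differentials of K
over k to those of L over k induced by the inclusion is either the zero map or injective, and it is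
injective if and only if L is separable over K. (The published statement takes K ⊆ L to be the
function fields of two elliptic curves related by a nonzero homomorphism; its proof uses only that
they are function fields of dimension one over k.) -/
theorem result (k : Type u) (K L : Type v)
    [Field k] [IsAlgClosed k] [Field K] [Field L] [Algebra k K] [Algebra k L] [Algebra K L]
    [IsScalarTower k K L] (hK : (⊤ : IntermediateField k K).FG)
    (hx : ∃ x : K, IsTranscendenceBasis k (fun _ : Unit => x)) [FiniteDimensional K L] :
    (KaehlerDifferential.map k k K L = 0 ∨ Function.Injective (KaehlerDifferential.map k k K L)) ∧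
      (Function.Injective (KaehlerDifferential.map k k K L) ↔ Algebra.IsSeparable K L) := by
  haveI : Algebra.EssFiniteType k K := IntermediateField.fg_top_iff.mp hK
  haveI : Algebra.EssFiniteType k L := Algebra.EssFiniteType.comp k K L
  obtain ⟨x, hx⟩ := hx
  obtain ⟨s, hs, hsep⟩ := exists_isTranscendenceBasis_and_isSeparable_of_perfectField k K
  have hc := hx.lift_cardinalMk_eq hs
  simp at hc
  obtain ⟨y, rfl⟩ := Finset.card_eq_one.mp (show s.card = 1 by exact_mod_cast hc.symm)
  let v : Unit → K := fun _ => y
  have hr : Set.range ((↑) : ({y} : Finset K) → K) = Set.range v := by simp [v]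
  have hv : IsTranscendenceBasis k v := hs.comp_equiv (Equiv.ofUnique Unit ({y} : Finset K))
  haveI : Algebra.IsSeparable (IntermediateField.adjoin k (Set.range v)) K := by
    convert! hsep <;> simp [v]
  obtain ⟨bK, hbK⟩ := Groth.Agent.H02CA.exists_basis_D k K v hv.1
  let f := KaehlerDifferential.map k k K L
  have hspan : ∀ w : Ω[K⁄k], ∃ c : K, c • bK () = w := fun w => ⟨bK.repr w (), by
    conv_rhs => rw [← bK.sum_repr w, Fintype.sum_unique]⟩
  have hdich : f (bK ()) = 0 → f = 0 := fun h0 => LinearMap.ext fun w => by
    obtain ⟨c, rfl⟩ := hspan w
    rw [map_smul, h0, smul_zero, LinearMap.zero_apply]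
  have hinj : f (bK ()) ≠ 0 → Function.Injective f := fun h0 => by
    rw [injective_iff_map_eq_zero]
    intro w hw
    obtain ⟨c, rfl⟩ := hspan w
    rw [map_smul, smul_eq_zero] at hw
    rw [hw.resolve_right h0, zero_smul]
  refine ⟨(em (f (bK ()) = 0)).imp hdich hinj, fun h => ?_, fun h => hinj ?_⟩
  · have h0 : KaehlerDifferential.D k L (algebraMap K L y) ≠ 0 := fun h0 => bK.ne_zero () (h (by
      rw [map_zero (KaehlerDifferential.map k k K L), hbK, KaehlerDifferential.map_D]; exact h0))
    obtain ⟨t, ht, htsep⟩ := exists_isTranscendenceBasis_and_isSeparable_of_perfectField k L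
    haveI : Algebra.IsSeparable (IntermediateField.adjoin k (Set.range ((↑) : t → L))) L := by
      convert! htsep <;> simp
    obtain ⟨bL, -⟩ := Groth.Agent.H02CA.exists_basis_D k L _ ht.1
    haveI : Algebra.IsAlgebraic K L := Algebra.IsAlgebraic.of_finite K L
    have hai : AlgebraicIndependent k (algebraMap K L ∘ v) :=
      hv.1.map' (f := IsScalarTower.toAlgHom k K L) (algebraMap K L).injective
    have hL : IsTranscendenceBasis k (algebraMap K L ∘ v) := hv.algebraMap_comp
    have hc2 := hL.lift_cardinalMk_eq ht
    simp at hc2
    have hrk : Module.finrank L (Ω[L⁄k]) = 1 := by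
      rw [Module.finrank_eq_card_basis bL, Fintype.card_coe]
      exact_mod_cast hc2.symm
    haveI : FiniteDimensional L (Ω[L⁄k]) := .of_basis bL
    haveI : Algebra.EssFiniteType K L := Algebra.EssFiniteType.of_comp k K L
    rw [← Algebra.FormallyUnramified.iff_isSeparable]
    refine ⟨subsingleton_of_forall_eq 0 fun w => ?_⟩
    obtain ⟨w', rfl⟩ := KaehlerDifferential.map_surjective k K L w
    obtain ⟨c, rfl⟩ := (finrank_eq_one_iff_of_nonzero' _ h0).1 hrk w'
    rw [map_smul, KaehlerDifferential.map_D, Algebra.algebraMap_self, RingHom.id_apply, Derivation.map_algebraMap, smul_zero]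
  · let w : Unit → L := algebraMap K L ∘ v
    haveI hsL : Algebra.IsSeparable (IntermediateField.adjoin k (Set.range w)) L := by
      let E := IntermediateField.adjoin k (Set.range v)
      haveI : Algebra.IsSeparable E L := Algebra.IsSeparable.trans E K L
      let F' := IntermediateField.adjoin k (Set.range w)
      have hle : E ≤ F'.comap (IsScalarTower.toAlgHom k K L) := IntermediateField.adjoin_le_iff.mpr (by
        rintro _ ⟨i, rfl⟩
        exact IntermediateField.subset_adjoin k _ ⟨i, rfl⟩)
      letI : Algebra E F' := (((algebraMap K L).comp (algebraMap E K)).codRestrict F'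
        (fun e => hle e.2)).toAlgebra
      haveI : IsScalarTower E F' L := IsScalarTower.of_algebraMap_eq fun _ => rfl
      exact Algebra.isSeparable_tower_top_of_isSeparable E F' L
    obtain ⟨b, hb⟩ := Groth.Agent.H02CA.exists_basis_D k L w
      (hv.1.map' (f := IsScalarTower.toAlgHom k K L) (algebraMap K L).injective)
    rw [hbK, KaehlerDifferential.map_D]
    exact (hb ()) ▸ b.ne_zero ()

end Groth.Agent.S11092
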