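import Groth.Statements.S11093
import Groth.Agent.H02CA.ASNormal.Normal

set_option autoImplicit false
universe u
attribute [local instance] FractionRing.liftAlgebra
open CAlg

namespace Groth.Agent.S11093

/-- Second assertion: (Artin–Schreier normal form): let K be a perfect field of characteristic p > 0, A
= K[[t]] the power series ring with fraction field F, and B a Dedekind domain which is a finite
torsion-free A-algebra whose fraction field E is Galois of degree p over F and totally ramified:
some maximal ideal of B has ramification index p over A. Then there are x in E generating E over F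
and α in F with x^p − x + α = 0, where α = a / t^m for a power series a with nonzero constant term
and a positive integer m not divisible by p. -/
theorem result (p : ℕ) [Fact p.Prime] (K : Type u) [Field K]
    [CharP K p] [PerfectField K] (B : Type u) [CommRing B] [IsDedekindDomain B]
    [Algebra (PowerSeries K) B] [Module.Finite (PowerSeries K) B] [Module.IsTorsionFree (PowerSeries K) B]
    [IsGalois (FractionRing (PowerSeries K)) (FractionRing B)]
    (hdeg : Module.finrank (FractionRing (PowerSeries K)) (FractionRing B) = p)
    (M : Ideal B) [M.IsMaximal] (hram : M.ramificationIdx (PowerSeries K) = p) :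
    ∃ x : FractionRing B, ∃ m : ℕ, ∃ a : PowerSeries K,
      IntermediateField.adjoin (FractionRing (PowerSeries K)) {x} = ⊤ ∧ 0 < m ∧ ¬ p ∣ m ∧
      PowerSeries.constantCoeff a ≠ 0 ∧
      x ^ p - x + algebraMap (FractionRing (PowerSeries K)) (FractionRing B)
        (algebraMap (PowerSeries K) (FractionRing (PowerSeries K)) a /
          algebraMap (PowerSeries K) (FractionRing (PowerSeries K)) (PowerSeries.X ^ m)) = 0 := by
  haveI : Algebra.IsIntegral (PowerSeries K) B := Algebra.IsIntegral.of_finite _ _
  haveI : FiniteDimensional (FractionRing (PowerSeries K)) (FractionRing B) :=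
    FiniteDimensional.of_finrank_pos (hdeg ▸ (Fact.out : p.Prime).pos)
  haveI := H02CA.ASNormal.charP_powerSeries p (K := K)
  haveI : CharP (FractionRing (PowerSeries K)) p :=
    charP_of_injective_algebraMap (IsFractionRing.injective (PowerSeries K) (FractionRing (PowerSeries K))) p
  obtain ⟨x, α, -, hx, heq⟩ := H02CA.ASNormal.exists_generator p hdeg
  obtain ⟨a, s, hs, rfl⟩ := IsFractionRing.div_surjective (PowerSeries K) α
  have hs0 : s ≠ 0 := nonZeroDivisors.ne_zero hs
  obtain ⟨n, u, hu⟩ : ∃ (n : ℕ) (u : (PowerSeries K)ˣ), s = (u : PowerSeries K) * PowerSeries.X ^ n := by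
    have hu' : IsUnit s.divXPowOrder := by
      rw [PowerSeries.isUnit_iff_constantCoeff, isUnit_iff_ne_zero, PowerSeries.constantCoeff_divXPowOrder]
      exact PowerSeries.coeff_order hs0
    exact ⟨s.order.toNat, hu'.unit, by
      rw [IsUnit.unit_spec]
      rw [mul_comm, PowerSeries.X_pow_order_mul_divXPowOrder]⟩
  rw [hu] at heq
  have h0 : algebraMap (PowerSeries K) (FractionRing (PowerSeries K)) (u : PowerSeries K) ≠ 0 :=
    (u.isUnit.map _).ne_zero
  obtain ⟨x', m, a', hx', hm, hpm, ha, heq'⟩ := H02CA.ASNormal.exists_normal_form p hdeg M hram n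
    (a * ((u⁻¹ : (PowerSeries K)ˣ) : PowerSeries K)) x hx (by
      rw [← heq]
      congr 2
      simp only [map_mul, map_units_inv]
      rw [← div_eq_mul_inv, div_div])
  refine ⟨x', m, a', ?_, hm, hpm, ha, heq'⟩
  haveI := IntermediateField.isSimpleOrder_of_finrank_prime (FractionRing (PowerSeries K)) (FractionRing B)
    (hdeg ▸ (Fact.out : p.Prime))
  refine (eq_bot_or_eq_top _).resolve_left fun h => hx' ?_
  exact IntermediateField.mem_bot.1 (h ▸ IntermediateField.mem_adjoin_simple_self _ x')

end Groth.Agent.S11093
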