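import Groth.Statements.S11094
import Groth.Agent.S15003
import Groth.Agent.H19Grp.HomUnramified
import Groth.Agent.H22Alg.GeomRegularAt


set_option autoImplicit false
set_option linter.style.haveILetI false
set_option backward.isDefEq.respectTransparency false
set_option synthInstance.maxHeartbeats 200000
universe u
open CategoryTheory CategoryTheory.Limits MonoidalCategory CartesianMonoidalCategory MonObj GrpObj AlgebraicGeometry
open AbVar

namespace Groth.Agent.S11094

/-- Let k be an algebraically closed field, E and E′ elliptic curves over k — group schemes over Spec k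
whose underlying schemes are proper, smooth, integral and one-dimensional — and φ : E → E′ a
homomorphism which is finite, surjective and étale (a separable isogeny), sending the generic point
of E to that of E′, so that the function field of E′ maps into the function field of E. Then the
function field of E is a Galois extension of that of E′, and the number of its automorphisms over
the function field of E′ equals the number of k-valued points of E that φ sends to the unit of E′. -/
theorem result (k : Type u) [Field k] [IsAlgClosed k]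
    (E E' : Over (Spec (CommRingCat.of k)))
    [GrpObj E] [IsProper E.hom] [Smooth E.hom] [IsIntegral E.left] (hE : topologicalKrullDim E.left = 1)
    [GrpObj E'] [IsProper E'.hom] [Smooth E'.hom] [IsIntegral E'.left] (hE' : topologicalKrullDim E'.left = 1)
    (φ : E ⟶ E') [IsMonHom φ] [IsFinite φ.left] [Surjective φ.left] [Etale φ.left]
    (e : φ.left (genericPoint E.left) = genericPoint E'.left) :
    letI := ((E'.left.presheaf.stalkSpecializes (specializes_of_eq e) ≫
      φ.left.stalkMap (genericPoint E.left)).hom).toAlgebra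
    IsGalois E'.left.functionField E.left.functionField ∧
      Nat.card (E.left.functionField ≃ₐ[E'.left.functionField] E.left.functionField) =
        Nat.card {P : 𝟙_ (Over (Spec (CommRingCat.of k))) ⟶ E // P ≫ φ = η[E']} := by
  classical
  let η₁ := genericPoint E.left
  let η₂ := genericPoint E'.left
  let f : E'.left.presheaf.stalk η₂ ⟶ E.left.presheaf.stalk η₁ :=
    E'.left.presheaf.stalkSpecializes (specializes_of_eq e) ≫ φ.left.stalkMap η₁
  letI := f.hom.toAlgebra
  haveI : IsLocallyNoetherian E.left := LocallyOfFiniteType.isLocallyNoetherian E.hom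
  haveI : IsLocallyNoetherian E'.left := LocallyOfFiniteType.isLocallyNoetherian E'.hom
  have hf : Spec.map f ≫ E'.left.fromSpecStalk η₂ = E.left.fromSpecStalk η₁ ≫ φ.left := by
    rw [Spec.map_comp, Category.assoc, Scheme.SpecMap_stalkSpecializes_fromSpecStalk,
      Scheme.SpecMap_stalkMap_fromSpecStalk]
  -- the degree is the number of points of the kernel
  letI : E.left.Over (Spec (CommRingCat.of k)) := ⟨E.hom⟩
  letI : E'.left.Over (Spec (CommRingCat.of k)) := ⟨E'.hom⟩
  haveI : IsSeparated (E.left ↘ Spec (CommRingCat.of k)) := inferInstanceAs (IsSeparated E.hom)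
  haveI : IsSeparated (E'.left ↘ Spec (CommRingCat.of k)) := inferInstanceAs (IsSeparated E'.hom)
  haveI : LocallyOfFiniteType (E.left ↘ Spec (CommRingCat.of k)) := inferInstanceAs (LocallyOfFiniteType E.hom)
  haveI : LocallyOfFiniteType (E'.left ↘ Spec (CommRingCat.of k)) := inferInstanceAs (LocallyOfFiniteType E'.hom)
  haveI : QuasiCompact (E.left ↘ Spec (CommRingCat.of k)) := inferInstanceAs (QuasiCompact E.hom)
  haveI : QuasiCompact (E'.left ↘ Spec (CommRingCat.of k)) := inferInstanceAs (QuasiCompact E'.hom)
  haveI : Subsingleton (𝟙_ (Over (Spec (CommRingCat.of k)))).left := inferInstanceAs (Subsingleton (PrimeSpectrum k))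
  let o : E'.left := (η[E']).left (IsLocalRing.closedPoint k)
  have ho : IsClosed ({o} : Set E'.left) := by
    haveI := isClosedImmersion_of_comp_eq_id _ _ (Over.w η[E'])
    have h := ((η[E']).left).isClosedEmbedding.isClosed_range
    have h2 : Set.range (η[E']).left = {o} := by
      refine Set.eq_singleton_iff_unique_mem.2 ⟨⟨_, rfl⟩, ?_⟩
      rintro _ ⟨t, rfl⟩
      exact congrArg _ (Subsingleton.elim _ _)
    rwa [h2] at h
  have hdeg := Groth.Agent.S15003.result k E'.left E.left
    (fun x => H19Grp.isRegularLocalRing_stalk_of_smooth E'.hom x)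
    (fun x => H19Grp.isRegularLocalRing_stalk_of_smooth E.hom x) φ.left (Over.w φ) e o ho
  haveI : JacobsonSpace E.left := LocallyOfFiniteType.jacobsonSpace E.hom
  have hker : Nat.card {P : 𝟙_ (Over (Spec (CommRingCat.of k))) ⟶ E // P ≫ φ = η[E']} =
      Nat.card {q : E.left // φ.left.base q = o} := by
    refine Nat.card_eq_of_bijective (fun P => ⟨P.1.left (IsLocalRing.closedPoint k), ?_⟩) ⟨fun P Q h => ?_, fun q => ?_⟩
    · show φ.left (P.1.left _) = o
      rw [← Scheme.Hom.comp_apply, ← Over.comp_left, P.2]
    · refine Subtype.ext (Over.OverMorphism.ext ?_)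
      exact ext_of_apply_closedPoint_eq E.hom (Over.w P.1) (Over.w Q.1) (congrArg Subtype.val h)
    · have hqc : IsClosed ({q.1} : Set E.left) := by
        have hd := (φ.left.isDiscrete_preimage_singleton o).to_subtype
        have hcl : IsClosed (φ.left ⁻¹' {o}) := ho.preimage φ.left.continuous
        have h := hcl.isClosedEmbedding_subtypeVal.isClosedMap _ (isClosed_discrete ({⟨q.1, q.2⟩} : Set (φ.left ⁻¹' {o})))
        simpa using h
      let P : 𝟙_ (Over (Spec (CommRingCat.of k))) ⟶ E := Over.homMk _ ((pointEquivClosedPoint E.hom).symm ⟨q.1, hqc⟩).2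
      have hP : P.left (IsLocalRing.closedPoint k) = q.1 := pointOfClosedPoint_apply E.hom q.1 hqc _
      refine ⟨⟨P, Over.OverMorphism.ext ?_⟩, Subtype.ext hP⟩
      refine ext_of_apply_closedPoint_eq E'.hom (Over.w (P ≫ φ)) (Over.w η[E']) ?_
      exact (congrArg φ.left hP).trans q.2
  -- translations by the kernel
  let τ : (𝟙_ (Over (Spec (CommRingCat.of k))) ⟶ E) → (E ⟶ E) := fun P => 𝟙 E * (toUnit E ≫ P)
  have hτcomp : ∀ P Q, τ P ≫ τ Q = τ (P * Q) := fun P Q => by
    simp only [τ, MonObj.comp_mul, Category.comp_id]
    rw [← Category.assoc, comp_toUnit, _root_.mul_assoc, ← MonObj.comp_mul]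
  have hτ1 : τ 1 = 𝟙 E := by simp only [τ, MonObj.comp_one, _root_.mul_one]
  have hτpt : ∀ P, η[E] ≫ τ P = P := fun P => by
    simp only [τ, MonObj.comp_mul, Category.comp_id]
    rw [← Category.assoc, comp_toUnit, toUnit_unique (toUnit (𝟙_ _)) (𝟙 _), Category.id_comp,
      show (η[E] : 𝟙_ _ ⟶ E) = 1 by rw [Hom.one_def, toUnit_unique (toUnit (𝟙_ _)) (𝟙 _), Category.id_comp],
      _root_.one_mul]
  haveI hiso : ∀ P, IsIso (τ P).left := fun P => by
    haveI : IsIso (τ P) := ⟨τ P⁻¹, by rw [hτcomp, mul_inv_cancel, hτ1], by rw [hτcomp, inv_mul_cancel, hτ1]⟩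
    exact inferInstanceAs (IsIso ((Over.forget _).map (τ P)))
  have hgen : ∀ P, (τ P).left η₁ = η₁ := fun P => by
    have h := (genericPoint_spec E.left).image (τ P).left.continuous
    rw [Set.image_univ, (τ P).left.surjective.range_eq, closure_univ] at h
    exact h.eq (genericPoint_spec E.left)
  let σc : ∀ P, E.left.presheaf.stalk η₁ ⟶ E.left.presheaf.stalk η₁ := fun P =>
    E.left.presheaf.stalkSpecializes (specializes_of_eq (hgen P)) ≫ (τ P).left.stalkMap η₁
  have hσ : ∀ P, Spec.map (σc P) ≫ E.left.fromSpecStalk η₁ = E.left.fromSpecStalk η₁ ≫ (τ P).left := fun P => by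
    rw [Spec.map_comp, Category.assoc, Scheme.SpecMap_stalkSpecializes_fromSpecStalk,
      Scheme.SpecMap_stalkMap_fromSpecStalk]
  have hσbij : ∀ P, Function.Bijective (σc P) := fun P => by
    haveI : IsIso (E.left.presheaf.stalkSpecializes (specializes_of_eq (hgen P))) :=
      ⟨E.left.presheaf.stalkSpecializes (specializes_of_eq (hgen P).symm), by simp, by simp⟩
    exact ConcreteCategory.bijective_of_isIso _
  have hσf : ∀ P : {P : 𝟙_ (Over (Spec (CommRingCat.of k))) ⟶ E // P ≫ φ = η[E']}, f ≫ σc P.1 = f := fun P => by
    apply Spec.map_injective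
    rw [← cancel_mono (E'.left.fromSpecStalk η₂), Spec.map_comp, Category.assoc, hf, reassoc_of% hσ P.1,
      ← Over.comp_left]
    congr 2
    simp only [τ, MonObj.mul_comp, Category.id_comp, Category.assoc, P.2]
    rw [show (toUnit E ≫ η[E'] : E ⟶ E') = 1 from (Hom.one_def).symm, _root_.mul_one]
  let Ψ : {P : 𝟙_ (Over (Spec (CommRingCat.of k))) ⟶ E // P ≫ φ = η[E']} →
      (E.left.functionField ≃ₐ[E'.left.functionField] E.left.functionField) := fun P =>
    AlgEquiv.ofBijective { toRingHom := (σc P.1).hom, commutes' := fun r => ConcreteCategory.congr_hom (hσf P) r }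
      (hσbij P.1)
  have hΨ : Function.Injective Ψ := by
    intro P Q h
    have hc : σc P.1 = σc Q.1 := CommRingCat.hom_ext (RingHom.ext fun r => AlgEquiv.congr_fun h r)
    have h2 : (τ P.1).left = (τ Q.1).left := by
      haveI : IsDominant (E.left.fromSpecStalk η₁) := ⟨by
        refine Dense.mono ?_ (dense_iff_closure_eq.2 (genericPoint_spec E.left) : Dense ({η₁} : Set E.left))
        rintro _ rfl
        exact ⟨IsLocalRing.closedPoint _, Scheme.fromSpecStalk_closedPoint⟩⟩
      exact ext_of_isDominant_of_isSeparated E.hom ((Over.w _).trans (Over.w _).symm) (E.left.fromSpecStalk η₁)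
        (by rw [← hσ, hc, hσ])
    have h3 := congrArg (fun t : E.left ⟶ E.left => (η[E]).left ≫ t) h2
    refine Subtype.ext (Over.OverMorphism.ext ?_)
    simp only [← Over.comp_left, hτpt] at h3
    exact h3
  -- counting
  have hpos : 0 < Module.finrank E'.left.functionField E.left.functionField := by
    have h0 : Nat.card {q : E.left // φ.left.base q = o} = Module.finrank E'.left.functionField E.left.functionField := hdeg
    rw [← h0]
    obtain ⟨q, hq⟩ := φ.left.surjective o
    haveI : Finite {q : E.left // φ.left.base q = o} := (φ.left.finite_preimage_singleton o).to_subtype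
    haveI : Nonempty {q : E.left // φ.left.base q = o} := ⟨⟨q, hq⟩⟩
    exact Nat.card_pos
  haveI : FiniteDimensional E'.left.functionField E.left.functionField := Module.finite_of_finrank_pos hpos
  have hd : Nat.card {q : E.left // φ.left.base q = o} = Module.finrank E'.left.functionField E.left.functionField := hdeg
  have h1 := Nat.card_le_card_of_injective Ψ hΨ
  have h2 : Nat.card (E.left.functionField ≃ₐ[E'.left.functionField] E.left.functionField) ≤
      Module.finrank E'.left.functionField E.left.functionField := by
    rw [Nat.card_eq_fintype_card]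
    exact AlgEquiv.card_le
  rw [hker, hd] at h1
  have heq := le_antisymm h2 h1
  exact ⟨IsGalois.of_card_aut_eq_finrank _ _ heq, by rw [hker, hd, heq]⟩

end Groth.Agent.S11094
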