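import Groth.Statements.S11095
import Mathlib.FieldTheory.AlgebraicClosure
import Mathlib.RingTheory.Polynomial.GaussLemma
import Mathlib.FieldTheory.PrimitiveElement
import Mathlib.RingTheory.AdjoinRoot
import Mathlib.RingTheory.Flat.Basic
import Mathlib.FieldTheory.Perfect

set_option autoImplicit false
universe u
open CAlg

namespace Groth.Agent.S11095
open Polynomial in
theorem irred (K₀ F₀ : Type u) [Field K₀] [Field F₀] [Algebra K₀ F₀] (h : algebraicClosure K₀ F₀ = ⊥)
    (p : K₀[X]) (hp : p.Monic) (hirr : Irreducible p) : Irreducible (p.map (algebraMap K₀ F₀)) := by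
  rw [(hp.map _).irreducible_iff_natDegree]
  refine ⟨fun h1 => hirr.not_isUnit ?_, fun f g hf hg hfg => ?_⟩
  · have : p.natDegree = 0 := by
      have := congrArg natDegree h1
      rwa [natDegree_map, natDegree_one] at this
    rw [hp.natDegree_eq_zero.mp this]; exact isUnit_one
  · have low : ∀ q : F₀[X], q.Monic → q ∣ p.map (algebraMap K₀ F₀) → ∃ q₀ : K₀[X], q₀.map (algebraMap K₀ F₀) = q := by
      intro q hq hd
      obtain ⟨q', hq'⟩ := integralClosure.mem_lifts_of_monic_of_dvd_map F₀ hp hq hd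
      have : ∀ i, q.coeff i ∈ Set.range (algebraMap K₀ F₀) := fun i => by
        have h1 : q.coeff i ∈ algebraicClosure K₀ F₀ := by
          rw [mem_algebraicClosure_iff', ← hq', coe_mapRingHom, coeff_map]
          exact (q'.coeff i).2
        rwa [h, IntermediateField.mem_bot] at h1
      exact (mem_lifts q).mp ((lifts_iff_coeff_lifts q).mpr this)
    obtain ⟨f₀, hf₀⟩ := low f hf ⟨g, hfg.symm⟩
    obtain ⟨g₀, hg₀⟩ := low g hg ⟨f, by rw [← hfg, mul_comm]⟩
    have hinj := (algebraMap K₀ F₀).injective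
    have e : f₀ * g₀ = p := map_injective _ hinj (by rw [Polynomial.map_mul, hf₀, hg₀, hfg])
    rcases hirr.isUnit_or_isUnit e.symm with hu | hu
    · left; rw [← hf₀, natDegree_map, natDegree_eq_zero_of_isUnit hu]
    · right; rw [← hg₀, natDegree_map, natDegree_eq_zero_of_isUnit hu]

open Polynomial TensorProduct in
theorem fin_case (K₀ F₀ E : Type u) [Field K₀] [PerfectField K₀] [Field F₀] [Algebra K₀ F₀] [Field E] [Algebra K₀ E]
    [FiniteDimensional K₀ E] (h : algebraicClosure K₀ F₀ = ⊥) : IsField (F₀ ⊗[K₀] E) := by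
  obtain ⟨α, hα⟩ := Field.exists_primitive_element K₀ E
  have hi : IsIntegral K₀ α := Algebra.IsIntegral.isIntegral α
  have := irred K₀ F₀ h (minpoly K₀ α) (minpoly.monic hi) (minpoly.irreducible hi)
  have : Fact (Irreducible ((minpoly K₀ α).map (algebraMap K₀ F₀))) := ⟨this⟩
  let φ : AdjoinRoot ((minpoly K₀ α).map (algebraMap K₀ F₀)) →ₐ[F₀] F₀ ⊗[K₀] E :=
    AdjoinRoot.liftAlgHom _ (Algebra.ofId F₀ _) ((1 : F₀) ⊗ₜ α) (by
      rw [show (Algebra.ofId F₀ (F₀ ⊗[K₀] E) : F₀ →+* F₀ ⊗[K₀] E) = algebraMap F₀ _ from rfl, eval₂_map,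
        ← IsScalarTower.algebraMap_eq, ← aeval_def,
        show ((1 : F₀) ⊗ₜ[K₀] α) = (Algebra.TensorProduct.includeRight : E →ₐ[K₀] F₀ ⊗[K₀] E) α from rfl,
        aeval_algHom_apply, minpoly.aeval, map_zero])
  have hα' : Algebra.adjoin K₀ {α} = (⊤ : Subalgebra K₀ E) := by
    rw [← IntermediateField.adjoin_simple_toSubalgebra_of_isAlgebraic (Algebra.IsAlgebraic.isAlgebraic α), hα,
      IntermediateField.top_toSubalgebra]
  have hsurj : Function.Surjective φ := fun z => by
    induction z using TensorProduct.induction_on with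
    | zero => exact ⟨0, map_zero _⟩
    | add x y hx hy => obtain ⟨a, rfl⟩ := hx; obtain ⟨b, rfl⟩ := hy; exact ⟨a + b, map_add _ _ _⟩
    | tmul f e =>
      have he : e ∈ (Algebra.adjoin K₀ {α} : Subalgebra K₀ E) := hα' ▸ Algebra.mem_top
      rw [Algebra.adjoin_singleton_eq_range_aeval] at he
      obtain ⟨q, rfl⟩ := he
      refine ⟨algebraMap F₀ _ f * AdjoinRoot.mk _ (q.map (algebraMap K₀ F₀)), ?_⟩
      rw [map_mul, AlgHom.commutes, ← AdjoinRoot.aeval_eq, ← aeval_algHom_apply, AdjoinRoot.liftAlgHom_root,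
        aeval_map_algebraMap,
        show ((1 : F₀) ⊗ₜ[K₀] α) = (Algebra.TensorProduct.includeRight : E →ₐ[K₀] F₀ ⊗[K₀] E) α from rfl,
        aeval_algHom_apply, Algebra.TensorProduct.algebraMap_apply]
      simp
  have : Nontrivial (F₀ ⊗[K₀] E) :=
    (Algebra.TensorProduct.includeRight_injective (algebraMap K₀ F₀).injective : Function.Injective (Algebra.TensorProduct.includeRight : E →ₐ[K₀] F₀ ⊗[K₀] E)).nontrivial
  exact MulEquiv.isField (Field.toIsField (AdjoinRoot ((minpoly K₀ α).map (algebraMap K₀ F₀))))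
    (RingEquiv.ofBijective φ.toRingHom ⟨φ.toRingHom.injective, hsurj⟩).symm.toMulEquiv


/-- Let K₀ be a perfect field, K an algebraic extension of K₀ and F₀ a field extension of K₀ such that
K₀ is algebraically closed in F₀. Then the K₀-algebra F₀ ⊗ K is a field; consequently F₀ and K,
embedded in it by x ↦ x ⊗ 1 and y ↦ 1 ⊗ y, are linearly disjoint over K₀. -/
theorem result (K₀ F₀ K : Type u)
    [Field K₀] [PerfectField K₀] [Field F₀] [Algebra K₀ F₀] [Field K] [Algebra K₀ K]
    [Algebra.IsAlgebraic K₀ K] (h : algebraicClosure K₀ F₀ = ⊥) :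
    IsField (TensorProduct K₀ F₀ K) := by
  have : Nontrivial (TensorProduct K₀ F₀ K) :=
    (Algebra.TensorProduct.includeRight_injective (algebraMap K₀ F₀).injective : Function.Injective (Algebra.TensorProduct.includeRight : K →ₐ[K₀] TensorProduct K₀ F₀ K)).nontrivial
  refine ⟨exists_pair_ne _, mul_comm, fun {z} hz => ?_⟩
  obtain ⟨S, hS⟩ := TensorProduct.exists_finset z
  classical
  let E : IntermediateField K₀ K := IntermediateField.adjoin K₀ ((S.image Prod.snd : Finset K) : Set K)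
  have : FiniteDimensional K₀ E := IntermediateField.finiteDimensional_adjoin fun x _ => Algebra.IsIntegral.isIntegral x
  have hE := fin_case K₀ F₀ E h
  let ι : TensorProduct K₀ F₀ E →ₐ[K₀] TensorProduct K₀ F₀ K := Algebra.TensorProduct.map (AlgHom.id K₀ F₀) E.val
  let z' : TensorProduct K₀ F₀ E := ∑ i ∈ S.attach, i.1.1 ⊗ₜ[K₀] (⟨i.1.2, IntermediateField.subset_adjoin _ _
    (Finset.mem_coe.mpr (Finset.mem_image_of_mem _ i.2))⟩ : E)
  have hz' : ι z' = z := by
    rw [hS, map_sum, ← Finset.sum_attach S]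
    simp [ι]
  obtain ⟨w, hw⟩ := hE.mul_inv_cancel (fun h0 : z' = 0 => hz (by rw [← hz', h0, map_zero]))
  exact ⟨ι w, by rw [← hz', ← map_mul, hw]; exact ι.toRingHom.map_one⟩

end Groth.Agent.S11095
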