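import Groth.Statements.S11096

set_option autoImplicit false
universe u
open Neron

namespace Groth.Agent.S11096

/-- Let a Weierstrass equation have coefficients in a commutative ring R and let I be an ideal with a₃,
a₄, a₆ ∈ I. If the discriminant Δ does not lie in I ^ 2, then a₆ does not lie in I ^ 2 and b₂ does
not lie in I. (For a discrete valuation ring with maximal ideal (π): if π divides a₃, a₄, a₆ and
v(Δ) = 1, then v(a₆) = 1 and π does not divide b₂.) -/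
theorem result {R : Type u} [CommRing R] (W : WeierstrassCurve R)
    (I : Ideal R) (h3 : W.a₃ ∈ I) (h4 : W.a₄ ∈ I) (h6 : W.a₆ ∈ I) (hΔ : W.Δ ∉ I ^ 2) :
    W.a₆ ∉ I ^ 2 ∧ W.b₂ ∉ I := by
  have hb2 : W.b₂ = W.a₁ ^ 2 + 4 * W.a₂ := rfl
  have key : W.Δ + W.b₂ ^ 3 * W.a₆ ∈ I ^ 2 := by
    have m : ∀ {p q : R}, p ∈ I → q ∈ I → p * q ∈ I ^ 2 := fun hp hq => sq I ▸ Ideal.mul_mem_mul hp hq
    have hb4 : W.b₄ ∈ I := I.add_mem (I.mul_mem_left _ h4) (I.mul_mem_left _ h3)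
    have hb6 : W.b₆ ∈ I := I.add_mem (sq W.a₃ ▸ I.mul_mem_left _ h3) (I.mul_mem_left _ h6)
    have e : W.Δ + W.b₂ ^ 3 * W.a₆ = -W.b₂ ^ 2 * (-(W.a₁ * (W.a₃ * W.a₄)) + W.a₂ * (W.a₃ * W.a₃) - W.a₄ * W.a₄)
        + (-(8 * W.b₄) * (W.b₄ * W.b₄) - 27 * (W.b₆ * W.b₆) + 9 * W.b₂ * (W.b₄ * W.b₆)) := by
      simp only [WeierstrassCurve.Δ, WeierstrassCurve.b₈, hb2]
      ring
    rw [e]
    refine add_mem (Ideal.mul_mem_left _ _ (sub_mem (add_mem (neg_mem (Ideal.mul_mem_left _ _ (m h3 h4))) (Ideal.mul_mem_left _ _ (m h3 h3))) (m h4 h4)))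
      (add_mem (sub_mem (Ideal.mul_mem_left _ _ (m hb4 hb4)) (Ideal.mul_mem_left _ _ (m hb6 hb6))) (Ideal.mul_mem_left _ _ (m hb4 hb6)))
  have hD : ∀ {z : R}, W.Δ + z ∈ I ^ 2 → z ∈ I ^ 2 → W.Δ ∈ I ^ 2 := fun h1 h2 => by
    have := sub_mem h1 h2
    rwa [add_sub_cancel_right] at this
  refine ⟨fun h => hΔ ?_, fun h => hΔ ?_⟩
  · exact hD key (Ideal.mul_mem_left _ (W.b₂ ^ 3) h)
  · have : W.b₂ ^ 3 * W.a₆ ∈ I ^ 2 := by
      rw [sq I]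
      exact Ideal.mul_mem_mul (Ideal.pow_mem_of_mem I h 3 (by omega)) h6
    exact hD key this

end Groth.Agent.S11096
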