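import Groth.Statements.S11100
import Groth.Agent.H28Neron.SmoothPoint

set_option autoImplicit false
universe u
open CategoryTheory AlgebraicGeometry
open Neron

namespace Groth.Agent.S11100

/-- Let R be a Dedekind domain and p : X → Spec R flat and locally of finite presentation with X regular
(all local rings regular). Then every section s of p factors through the smooth locus of p: for
every point t of Spec R, p is smooth at s(t). (The published statement is for regular arithmetic
surfaces over a Dedekind domain with perfect residue fields; this row assumes only that X is flat,
locally of finite presentation and regular.) -/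
theorem result {R : Type u} [CommRing R] [IsDedekindDomain R]
    {X : Scheme.{u}} (p : X ⟶ Spec (CommRingCat.of R)) [Flat p] [LocallyOfFinitePresentation p]
    (hreg : ∀ x : X, IsRegularLocalRing (X.presheaf.stalk x))
    (s : Spec (CommRingCat.of R) ⟶ X) (hs : s ≫ p = 𝟙 _) (t : Spec (CommRingCat.of R)) :
    s.base t ∈ p.smoothLocus := by
  classical
  let q : PrimeSpectrum R := p.base (s.base t)
  let : Algebra R ((Spec (CommRingCat.of R)).presheaf.stalk q) := StructureSheaf.stalkAlgebra (CommRingCat.of R) q
  have : IsLocalization.AtPrime ((Spec (CommRingCat.of R)).presheaf.stalk q) q.asIdeal :=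
    StructureSheaf.IsLocalization.to_stalk (CommRingCat.of R) q
  have hd : IsDomain ((Spec (CommRingCat.of R)).presheaf.stalk q) :=
    IsLocalization.isDomain_of_atPrime _ q.asIdeal
  have hp : IsPrincipalIdealRing ((Spec (CommRingCat.of R)).presheaf.stalk q) := by
    by_cases h : q.asIdeal = ⊥
    · have : IsFractionRing R ((Spec (CommRingCat.of R)).presheaf.stalk q) := by
        have e : q.asIdeal.primeCompl = nonZeroDivisors R := by
          ext x; simp [Ideal.primeCompl, h]
        unfold IsFractionRing
        rw [← e]
        infer_instance
      let := IsFractionRing.toField R (K := ((Spec (CommRingCat.of R)).presheaf.stalk q))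
      infer_instance
    · have := IsLocalization.AtPrime.isDiscreteValuationRing_of_dedekind_domain R h ((Spec (CommRingCat.of R)).presheaf.stalk q)
      infer_instance
  exact @H28Neron.mem_smoothLocus_of_section _ _ p _ _ s hs t hd hp (hreg _)

end Groth.Agent.S11100
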