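import Groth.Statements.S11103
import Groth.Agent.H28Neron.Mapping
import Mathlib.RingTheory.Ideal.GoingUp
import Mathlib.RingTheory.Localization.BaseChange
import Mathlib.Algebra.Category.Ring.Constructions
import Mathlib.AlgebraicGeometry.Morphisms.Etale
import Groth.Agent.H28Neron.Ext

set_option autoImplicit false
universe u
open CategoryTheory CategoryTheory.Limits AlgebraicGeometry
open Neron CategoryTheory CategoryTheory.Limits AlgebraicGeometry

namespace Groth.Agent.S11103

/-- Let R be a Dedekind domain with fraction field K, let R' be a Dedekind domain finite étale over R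
(the integral closure of R in a finite unramified extension K' of K), and let N be a Néron model
over Spec R of its generic fibre N_K. Then the base change N' = N ×_R R' is a Néron model over Spec
R' of its generic fibre N'_{K'}: it is smooth, separated and of finite type over Spec R', and every
K'-morphism from the generic fibre of a smooth R'-scheme to N'_{K'} extends uniquely to an
R'-morphism into N'. (The published statement concerns the Néron model of an elliptic curve with the
mapping property for rational maps; this row allows any N and tests the mapping property on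
morphisms from smooth schemes. The property generally fails for ramified extensions.) -/
theorem result (R R' : Type u) [CommRing R] [IsDedekindDomain R]
    [CommRing R'] [IsDedekindDomain R'] [Algebra R R'] [Module.Finite R R'] [Algebra.Etale R R']
    (N : Over (Spec (CommRingCat.of R)))
    (hN : Neron.IsNeronModelOf R N ((Neron.genericFibre R).obj N) (Iso.refl _)) :
    Neron.IsNeronModelOf R'
      ((Over.pullback (Spec.map (CommRingCat.ofHom (algebraMap R R')))).obj N)
      ((Neron.genericFibre R').obj ((Over.pullback (Spec.map (CommRingCat.ofHom (algebraMap R R')))).obj N))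
      (Iso.refl _) := by
  obtain ⟨hsm, hsep, hft, hqc, hbij⟩ := hN
  haveI := hsm; haveI := hsep; haveI := hft; haveI := hqc
  let f : Spec (CommRingCat.of R') ⟶ Spec (CommRingCat.of R) := Spec.map (CommRingCat.ofHom (algebraMap R R'))
  haveI : Etale f := (HasRingHomProperty.Spec_iff (P := @Etale)).2 (RingHom.etale_algebraMap.2 ‹_›)
  haveI : Module.Flat R R' := inferInstance
  have hinj : Function.Injective (algebraMap R R') := (injective_iff_map_eq_zero _).2 fun r hr => by
    by_contra h0
    have h1 : IsSMulRegular R' (algebraMap R R' r) :=
      IsSMulRegular.of_flat (IsSMulRegular.of_right_eq_zero_of_smul (M := R) (fun x hx =>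
        (mul_eq_zero.1 (show r * x = 0 from hx)).resolve_left h0))
    exact one_ne_zero (h1 (show algebraMap R R' r • (1 : R') = algebraMap R R' r • (0 : R') by
      rw [smul_zero, hr, zero_smul]))
  let K := FractionRing R
  let K' := FractionRing R'
  haveI : FaithfulSMul R K' := (faithfulSMul_iff_algebraMap_injective R K').2 (by
    rw [IsScalarTower.algebraMap_eq R R' K']
    exact (IsFractionRing.injective R' K').comp hinj)
  letI := FractionRing.liftAlgebra R K'
  haveI : IsLocalization (Algebra.algebraMapSubmonoid R' (nonZeroDivisors R)) K' := by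
    rw [isLocalization_iff]
    refine ⟨?_, fun z => ?_, fun {x y} h => ⟨1, by simpa using IsFractionRing.injective R' K' h⟩⟩
    · rintro ⟨_, r, hr, rfl⟩
      exact IsUnit.mk0 _ (fun h => nonZeroDivisors.ne_zero hr (hinj (by
        rw [map_zero]; exact IsFractionRing.injective R' K' (by rw [h, map_zero]))))
    · obtain ⟨a, b, hb, rfl⟩ := IsFractionRing.div_surjective R' z
      have hb0 : b ≠ 0 := nonZeroDivisors.ne_zero hb
      obtain ⟨r, hr, hr0⟩ := Submodule.exists_mem_ne_zero_of_ne_bot
        (Ideal.comap_ne_bot_of_integral_mem (R := R) (I := Ideal.span {b}) hb0 (Ideal.mem_span_singleton_self b)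
          (Algebra.IsIntegral.isIntegral b))
      obtain ⟨c, hc⟩ := Ideal.mem_span_singleton.mp (Ideal.mem_comap.mp hr)
      refine ⟨⟨a * c, ⟨algebraMap R R' r, r, mem_nonZeroDivisors_of_ne_zero hr0, rfl⟩⟩, ?_⟩
      simp only [hc, map_mul]
      have : algebraMap R' K' b ≠ 0 := IsFractionRing.to_map_ne_zero_of_mem_nonZeroDivisors hb
      rw [← mul_assoc, div_mul_cancel₀ _ this]
  haveI := Algebra.isPushout_of_isLocalization (R := R) (T := R') (nonZeroDivisors R) K K'
  have sq := isPullback_SpecMap_of_isPushout _ _ _ _ (CommRingCat.isPushout_of_isPushout R R' K K')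
  haveI : Smooth ((Over.pullback f).obj N).hom := MorphismProperty.of_isPullback (IsPullback.of_hasPullback N.hom f) hsm
  haveI : IsSeparated ((Over.pullback f).obj N).hom := MorphismProperty.of_isPullback (IsPullback.of_hasPullback N.hom f) hsep
  haveI : LocallyOfFiniteType ((Over.pullback f).obj N).hom := MorphismProperty.of_isPullback (IsPullback.of_hasPullback N.hom f) hft
  haveI : QuasiCompact ((Over.pullback f).obj N).hom := MorphismProperty.of_isPullback (IsPullback.of_hasPullback N.hom f) hqc
  refine ⟨inferInstance, inferInstance, inferInstance, inferInstance, fun Y hY => ⟨fun a b hab => ?_, fun h => ?_⟩⟩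
  · exact Groth.Agent.H28Neron.hom_ext_genericFibre R' Y _ a b (by simpa using hab)
  · haveI := hY
    let Y₂ : Over (Spec (CommRingCat.of R)) := Over.mk (Y.hom ≫ f)
    haveI : Smooth Y₂.hom := inferInstanceAs (Smooth (Y.hom ≫ f))
    have big := (IsPullback.of_hasPullback Y.hom (Neron.genPt R')).paste_vert sq
    let c : pullback (Y.hom ≫ f) (Neron.genPt R) ⟶ pullback Y.hom (Neron.genPt R') := big.isoPullback.inv
    have hc1 : c ≫ pullback.fst Y.hom (Neron.genPt R') = pullback.fst (Y.hom ≫ f) (Neron.genPt R) :=
      big.isoPullback_inv_fst
    have hw := Over.w h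
    obtain ⟨g, hg⟩ := Groth.Agent.H28Neron.surjective_iff.1 (by simpa using (hbij Y₂ ‹_›).2)
      (c ≫ h.left ≫ pullback.fst _ (Neron.genPt R') ≫ pullback.fst N.hom f) (by
        show _ = pullback.fst (Y.hom ≫ f) (Neron.genPt R) ≫ Y.hom ≫ f
        simp only [Category.assoc]
        rw [pullback.condition]
        erw [pullback.condition_assoc, reassoc_of% hw, ← pullback.condition_assoc]
        rw [reassoc_of% hc1])
    have hgw : g.left ≫ N.hom = Y.hom ≫ f := Over.w g
    refine ⟨Over.homMk (U := Y) (V := (Over.pullback f).obj N) (pullback.lift g.left Y.hom hgw) (pullback.lift_snd _ _ _), ?_⟩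
    simp only [Iso.refl_hom, Category.comp_id]
    ext1
    apply pullback.hom_ext
    · erw [pullback.lift_fst]
      apply pullback.hom_ext
      · rw [Category.assoc]
        erw [pullback.lift_fst]
        rw [← cancel_epi c, reassoc_of% hc1]
        exact hg.trans (by simp only [Category.assoc]; rfl)
      · rw [Category.assoc]
        erw [pullback.lift_snd]
        rw [Category.assoc]
        erw [pullback.condition]
        exact ((reassoc_of% hw) (Neron.genPt R')).symm.trans (congrArg (h.left ≫ ·) pullback.condition.symm)
    · erw [pullback.lift_snd]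
      exact hw.symm

end Groth.Agent.S11103
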