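import Groth.Statements.S11105
import Groth.Agent.H9Ram.FixedHenselian
import Mathlib
-- import your own Groth.Agent.* helpers here

set_option autoImplicit false
universe u
open Hensel

namespace Groth.Agent.S11105

/-- Let R be a discrete valuation ring with fraction field K, K^s a separable closure of K, R^s the
integral closure of R in K^s and P^s a maximal ideal of R^s. Let D be the decomposition group of P^s
— the subgroup of automorphisms of K^s over K carrying P^s into (hence onto) itself — and L its
fixed field. Then the integral closure of R in L, localized at the prime Q = P^s ∩ L below P^s, is a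
Henselian local ring (this local ring is the Henselization of R). -/
theorem result (R K Ks : Type u) [CommRing R] [IsDomain R]
    [IsDiscreteValuationRing R] [Field K] [Algebra R K] [IsFractionRing R K]
    [Field Ks] [Algebra K Ks] [IsSepClosure K Ks] [Algebra R Ks] [IsScalarTower R K Ks]
    (Ps : Ideal (integralClosure R Ks)) [Ps.IsMaximal]
    (L : IntermediateField K Ks)
    (hL : L = IntermediateField.fixedField
      (Subgroup.closure {σ : Ks ≃ₐ[K] Ks | ∀ x : integralClosure R Ks, x ∈ Ps →
        ∃ h : σ (x : Ks) ∈ integralClosure R Ks, (⟨σ (x : Ks), h⟩ : integralClosure R Ks) ∈ Ps}))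
    (Q : Ideal (integralClosure R L)) [Q.IsPrime]
    (hQ : ∀ y : integralClosure R L, y ∈ Q ↔
      ∃ x : integralClosure R Ks, x ∈ Ps ∧ (x : Ks) = ((y : L) : Ks)) :
    HenselianLocalRing (Localization.AtPrime Q) := by
  subst hL
  haveI : IsSepClosed Ks := IsSepClosure.sep_closed K
  refine H9Ram.FixedHenselian.henselianLocalRing_localization _ Ps
    {σ : Ks ≃ₐ[K] Ks | ∀ x : integralClosure R Ks, x ∈ Ps →
      ∃ h : σ (x : Ks) ∈ integralClosure R Ks, (⟨σ (x : Ks), h⟩ : integralClosure R Ks) ∈ Ps}
    (fun x hx => ?_) (fun σ hσ x hx => ?_) ?_ Q hQ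
  · rw [IntermediateField.mem_fixedField_iff]
    intro σ hσ
    induction hσ using Subgroup.closure_induction with
    | mem τ hτ => exact hx τ hτ
    | one => rfl
    | mul a b _ _ ha hb => rw [AlgEquiv.mul_apply, hb, ha]
    | inv a _ ha => exact a.injective ((a.apply_symm_apply x).trans ha.symm)
  · exact (IntermediateField.mem_fixedField_iff _ _).mp hx σ (Subgroup.subset_closure hσ)
  · exact fun σ hσ x hx => hσ x hx

end Groth.Agent.S11105
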