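import Groth.Statements.S11108
import Groth.Agent.H9Hens.Newton

set_option autoImplicit false
universe u
open CategoryTheory AlgebraicGeometry
open Neron

namespace Groth.Agent.S11108

/-- Let R be a strictly Henselian discrete valuation ring — Henselian with algebraically closed residue
field — and p : X → Spec R a smooth morphism. Then the image of the reduction map from R-valued
points of X to the special fibre is dense in the special fibre: every point of X over the closed
point of Spec R lies in the closure of the set of points s(𝔪), s a section of p and 𝔪 the closed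
point. -/
theorem result (R : Type u) [CommRing R] [IsDomain R]
    [IsDiscreteValuationRing R] [HenselianLocalRing R] [IsAlgClosed (IsLocalRing.ResidueField R)]
    {X : Scheme.{u}} (p : X ⟶ Spec (CommRingCat.of R)) [Smooth p]
    (x : X) (hx : p.base x = IsLocalRing.closedPoint R) :
    x ∈ closure {y : X | ∃ s : Spec (CommRingCat.of R) ⟶ X, s ≫ p = 𝟙 _ ∧
      s.base (IsLocalRing.closedPoint R) = y} := by
  classical
  rw [mem_closure_iff]
  intro W hW hxW
  obtain ⟨_, ⟨(U : X.Opens), (hU : IsAffineOpen U), rfl⟩, hxU, hUW⟩ :=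
    X.isBasis_affineOpens.exists_subset_of_mem_open hxW hW
  let φ := Spec.preimage (hU.fromSpec ≫ p)
  have hφ : Spec.map φ = hU.fromSpec ≫ p := Spec.map_preimage _
  have hsm : φ.hom.Smooth := by
    have : Smooth (Spec.map φ) := by rw [hφ]; infer_instance
    exact (HasRingHomProperty.Spec_iff (P := @Smooth)).1 this
  let φR : R →+* Γ(X, U) := φ.hom
  let : Algebra R Γ(X, U) := φR.toAlgebra
  have : Algebra.Smooth R Γ(X, U) := hsm
  obtain ⟨P, hP⟩ : x ∈ Set.range hU.fromSpec.base := by rw [hU.range_fromSpec]; exact hxU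
  obtain ⟨M, hM, hPM⟩ := Ideal.exists_le_maximal P.asIdeal P.2.ne_top
  have hbase : P.asIdeal.comap φR = IsLocalRing.maximalIdeal R := by
    have : (p.base (hU.fromSpec.base P)).asIdeal = P.asIdeal.comap φR := by
      rw [← Scheme.Hom.comp_apply, ← hφ]
      rfl
    rw [← this, hP, hx]
    rfl
  have hmM : IsLocalRing.maximalIdeal R ≤ M.comap φR := hbase ▸ Ideal.comap_mono hPM
  -- the residue field at `M` is the residue field of `R`
  let g : Γ(X, U) →+* Γ(X, U) ⧸ M := Ideal.Quotient.mk M
  let ι : IsLocalRing.ResidueField R →+* Γ(X, U) ⧸ M :=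
    Ideal.Quotient.lift _ (g.comp φR) fun a ha => Ideal.Quotient.eq_zero_iff_mem.2 (hmM ha)
  let := Ideal.Quotient.field M
  let : Algebra (IsLocalRing.ResidueField R) (Γ(X, U) ⧸ M) := ι.toAlgebra
  have : IsScalarTower R (IsLocalRing.ResidueField R) (Γ(X, U) ⧸ M) := IsScalarTower.of_algebraMap_eq fun r => rfl
  have : Algebra.FiniteType (IsLocalRing.ResidueField R) (Γ(X, U) ⧸ M) := by
    have : Algebra.FiniteType R (Γ(X, U) ⧸ M) :=
      Algebra.FiniteType.of_surjective (Ideal.Quotient.mkₐ R M) Ideal.Quotient.mk_surjective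
    exact Algebra.FiniteType.of_restrictScalars_finiteType R _ _
  have : Module.Finite (IsLocalRing.ResidueField R) (Γ(X, U) ⧸ M) := finite_of_finite_type_of_isJacobsonRing _ _
  have hbij : Function.Bijective (algebraMap (IsLocalRing.ResidueField R) (Γ(X, U) ⧸ M)) :=
    IsAlgClosed.algebraMap_bijective_of_isIntegral
  let e : (R ⧸ IsLocalRing.maximalIdeal R) ≃ₐ[R] (Γ(X, U) ⧸ M) :=
    AlgEquiv.ofBijective (IsScalarTower.toAlgHom R (IsLocalRing.ResidueField R) (Γ(X, U) ⧸ M)) hbij
  let σ : Γ(X, U) →ₐ[R] R ⧸ IsLocalRing.maximalIdeal R := e.symm.toAlgHom.comp (Ideal.Quotient.mkₐ R M)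
  obtain ⟨τ, hτ⟩ := Groth.Agent.H9Hens.exists_algHom_lift_smooth σ
  let s : Spec (CommRingCat.of R) ⟶ X := Spec.map (CommRingCat.ofHom τ.toRingHom) ≫ hU.fromSpec
  refine ⟨s.base (IsLocalRing.closedPoint R), hUW ?_, s, ?_, rfl⟩
  · have : s.base (IsLocalRing.closedPoint R) ∈ Set.range hU.fromSpec.base := ⟨_, rfl⟩
    rw [hU.range_fromSpec] at this
    exact this
  · rw [Category.assoc, ← hφ, ← Spec.map_comp, ← Spec.map_id]
    congr 1
    ext r
    exact τ.commutes r

end Groth.Agent.S11108
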