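import Groth.Statements.S11110
import Groth.Agent.LeadBrown.BCAdjointPC
import Groth.Agent.H16Derived.BaseChange.TorChart
import Groth.Agent.H16Derived.TorTest.LpullGE

set_option autoImplicit false
universe u
open CategoryTheory CategoryTheory.Limits AlgebraicGeometry
attribute [local instance] HasDerivedCategory.standard
open Dual3

namespace Groth.Agent.S11110

/-- Consider a cartesian square of quasi-compact quasi-separated schemes X' = X ×_Y Y' with f : X ⟶ Y, g
: Y' ⟶ Y and projections f' : X' ⟶ Y', g' : X' ⟶ X, and suppose the square is tor-independent in the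
sense that for every affine open U of Y, every affine open U' of Y' mapped into U and every affine
open V of X mapped into U, the modules Tor_i over Γ(U, O_Y) of Γ(U', O_Y') and Γ(V, O_X) (computed
with a projective resolution of the second argument) vanish for all i > 0. Assume that f is locally
of finite presentation, that Rf_* and Rf'_* both carry pseudo-coherent complexes to pseudo-coherent
complexes (f and its base change are quasi-proper; the published statement derives the second from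
the first by a cited result, and this row assumes both), and that g has finite tor dimension (the
structure sheaf of Y' has finite tor amplitude over the local rings of Y). Let the derived direct
images on D_QCoh of the four maps, the derived pullbacks Lg^*, Lg'^* with adjunctions Lg^* ⊣ Rg_*,
Lg'^* ⊣ Rg'_*, and right adjoints a of Rf_* and a' of Rf'_* be given as data. Then there is an
identification e of Rf_* ∘ Rg'_* with Rg_* ∘ Rf'_* such that (1) the base-change map θ_K : Lg^* Rf_*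
K ⟶ Rf'_* Lg'^* K is an isomorphism for every K in D_QCoh(O_X), and (2) for every bounded below K in
D_QCoh(O_Y) the base-change map Lg'^* a(K) ⟶ a'(Lg^* K), namely the map adjoint under Rf'_* ⊣ a' to
the composite of the inverse of θ at a(K) with Lg^* applied to the counit Rf_* a(K) ⟶ K, is an
isomorphism. -/
theorem result (X Y X' Y' : Scheme.{u}) [CompactSpace X] [QuasiSeparatedSpace X] [CompactSpace Y] [QuasiSeparatedSpace Y] [CompactSpace X'] [QuasiSeparatedSpace X'] [CompactSpace Y'] [QuasiSeparatedSpace Y']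
    (f : X ⟶ Y) (g : Y' ⟶ Y) (f' : X' ⟶ Y') (g' : X' ⟶ X) (hsq : IsPullback g' f' f g)
    [LocallyOfFinitePresentation f] [DCoh.HasRpush f] [DCoh.HasRpush f'] [DCoh.HasRpush g] [DCoh.HasRpush g']
    (hqp : ∀ K : DCoh.D X, (∀ m : ℤ, DCoh.IsPseudoCoherentD m K) → ∀ m : ℤ, DCoh.IsPseudoCoherentD m ((DCoh.Rpush f).obj K))
    (hqp' : ∀ K : DCoh.D X', (∀ m : ℤ, DCoh.IsPseudoCoherentD m K) → ∀ m : ℤ, DCoh.IsPseudoCoherentD m ((DCoh.Rpush f').obj K))
    (htd : DerSch.HasFiniteTorDim g)
    (htor : ∀ (U : Y.Opens), IsAffineOpen U → ∀ (U' : Y'.Opens), IsAffineOpen U' → ∀ (hU' : U' ≤ g ⁻¹ᵁ U)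
      (V : X.Opens), IsAffineOpen V → ∀ (hV : V ≤ f ⁻¹ᵁ U) (i : ℕ), 0 < i →
      Subsingleton (@DRing.Tor Γ(Y, U) _ i Γ(Y', U') Γ(X, V) _ (g.appLE U U' hU').hom.toModule _ (f.appLE U V hV).hom.toModule))
    (hf : DCoh.RpushPreservesQCoh f) (hf' : DCoh.RpushPreservesQCoh f') (hg : DCoh.RpushPreservesQCoh g)
    (hg' : DCoh.RpushPreservesQCoh g') (a : DCoh.DQCoh Y ⥤ DCoh.DQCoh X) (a' : DCoh.DQCoh Y' ⥤ DCoh.DQCoh X')
    (adj : DCoh.RpushQ f hf ⊣ a) (adj' : DCoh.RpushQ f' hf' ⊣ a') [DCoh.HasLpull g] [DCoh.HasLpull g']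
    (hLg : Dual3.LpullPreservesQCoh g) (hLg' : Dual3.LpullPreservesQCoh g')
    (adjg : Dual3.LpullQ g hLg ⊣ DCoh.RpushQ g hg) (adjg' : Dual3.LpullQ g' hLg' ⊣ DCoh.RpushQ g' hg') :
    ∃ (e : (DCoh.RpushQ g' hg' ⋙ DCoh.RpushQ f hf ≅ DCoh.RpushQ f' hf' ⋙ DCoh.RpushQ g hg))
      (hθ : ∀ K : DCoh.DQCoh X, IsIso (Dual3.bcPush e adjg adjg' K)),
      ∀ (K : DCoh.DQCoh Y) (c : ℤ), (∀ i : ℤ, i < c → IsZero (DCoh.HD K.obj i)) →
        IsIso ((adj'.homEquiv ((Dual3.LpullQ g' hLg').obj (a.obj K)) ((Dual3.LpullQ g hLg).obj K))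
          (@inv _ _ _ _ (Dual3.bcPush e adjg adjg' (a.obj K)) (hθ (a.obj K)) ≫
            (Dual3.LpullQ g hLg).map (adj.counit.app K))) := by
  obtain ⟨d, hd⟩ := H16Derived.TorTest.exists_isGE_lpull g htd
  obtain ⟨e, hθ, -, hβ⟩ := LeadBrown.exists_bcAdjoint hsq (H16Derived.BaseChange.ti_of_opens f g htor) hf hf'
    adj adj' adjg adjg'
  refine ⟨e, hθ, fun K c hc => hβ K (fun Q hQ => LeadBrown.hw_of_pseudoCoherent d hd
    (fun E hE => hqp E ((H16Derived.KFlat.Stalk.isPerfect_iff_pc_torDim E).1 hE).1) K.property c hc Q hQ) _ ?_⟩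
  haveI := hθ (a.obj K)
  have h : (DCoh.RpushQ f' hf').map ((adj'.homEquiv ((Dual3.LpullQ g' hLg').obj (a.obj K)) ((Dual3.LpullQ g hLg).obj K))
      (inv (Dual3.bcPush e adjg adjg' (a.obj K)) ≫ (Dual3.LpullQ g hLg).map (adj.counit.app K))) ≫
      adj'.counit.app _ = inv (Dual3.bcPush e adjg adjg' (a.obj K)) ≫ (Dual3.LpullQ g hLg).map (adj.counit.app K) :=
    (adj'.homEquiv_counit _ _ _).symm.trans (Equiv.symm_apply_apply _ _)
  exact (congrArg (Dual3.bcPush e adjg adjg' (a.obj K) ≫ ·) h).trans (IsIso.hom_inv_id_assoc _ _)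

end Groth.Agent.S11110
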