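import Groth.Statements.S11111
import Groth.Agent.LeadBrown.AdjointLE
import Groth.Agent.H16Derived.BaseChange.TorChart

set_option autoImplicit false
universe u
open CategoryTheory CategoryTheory.Limits AlgebraicGeometry
attribute [local instance] HasDerivedCategory.standard
open Dual3

namespace Groth.Agent.S11111

/-- Consider a cartesian square of quasi-compact quasi-separated schemes X' = X ×_Y Y' with f : X ⟶ Y, g
: Y' ⟶ Y and projections f' : X' ⟶ Y', g' : X' ⟶ X, and suppose the square is tor-independent in the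
sense that for every affine open U of Y, every affine open U' of Y' mapped into U and every affine
open V of X mapped into U, the modules Tor_i over Γ(U, O_Y) of Γ(U', O_Y') and Γ(V, O_X) (computed
with a projective resolution of the second argument) vanish for all i > 0. Let the derived direct
images on D_QCoh of the four maps, the derived pullbacks Lg^*, Lg'^* with adjunctions Lg^* ⊣ Rg_*,
Lg'^* ⊣ Rg'_*, and right adjoints a of Rf_* and a' of Rf'_* on D_QCoh be given as data. If the
functor a is bounded above, meaning that there is an integer d such that a(K) has vanishing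
cohomology sheaves above degree n + d whenever K in D_QCoh(O_Y) has vanishing cohomology sheaves
above degree n, then a' is bounded above in the same sense. (The published statement is made for
every independent square, that is, every commutative square of quasi-compact quasi-separated schemes
for which the base-change map Lg^* Rf_* E ⟶ Rf'_* Lg'^* E is an isomorphism for all E in
D_QCoh(O_X); this row takes a tor-independent cartesian square, which is such a square.) -/
theorem result (X Y X' Y' : Scheme.{u}) [CompactSpace X] [QuasiSeparatedSpace X] [CompactSpace Y] [QuasiSeparatedSpace Y] [CompactSpace X'] [QuasiSeparatedSpace X'] [CompactSpace Y'] [QuasiSeparatedSpace Y']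
    (f : X ⟶ Y) (g : Y' ⟶ Y) (f' : X' ⟶ Y') (g' : X' ⟶ X) (hsq : IsPullback g' f' f g)
    [DCoh.HasRpush f] [DCoh.HasRpush f'] [DCoh.HasRpush g] [DCoh.HasRpush g']
    (htor : ∀ (U : Y.Opens), IsAffineOpen U → ∀ (U' : Y'.Opens), IsAffineOpen U' → ∀ (hU' : U' ≤ g ⁻¹ᵁ U)
      (V : X.Opens), IsAffineOpen V → ∀ (hV : V ≤ f ⁻¹ᵁ U) (i : ℕ), 0 < i →
      Subsingleton (@DRing.Tor Γ(Y, U) _ i Γ(Y', U') Γ(X, V) _ (g.appLE U U' hU').hom.toModule _ (f.appLE U V hV).hom.toModule))
    (hf : DCoh.RpushPreservesQCoh f) (hf' : DCoh.RpushPreservesQCoh f') (hg : DCoh.RpushPreservesQCoh g)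
    (hg' : DCoh.RpushPreservesQCoh g') (a : DCoh.DQCoh Y ⥤ DCoh.DQCoh X) (a' : DCoh.DQCoh Y' ⥤ DCoh.DQCoh X')
    (adj : DCoh.RpushQ f hf ⊣ a) (adj' : DCoh.RpushQ f' hf' ⊣ a') [DCoh.HasLpull g] [DCoh.HasLpull g']
    (hLg : Dual3.LpullPreservesQCoh g) (hLg' : Dual3.LpullPreservesQCoh g')
    (adjg : Dual3.LpullQ g hLg ⊣ DCoh.RpushQ g hg) (adjg' : Dual3.LpullQ g' hLg' ⊣ DCoh.RpushQ g' hg')
    (hbd : ∃ d : ℤ, ∀ (K : DCoh.DQCoh Y) (n : ℤ), K.obj.IsLE n → (a.obj K).obj.IsLE (n + d)) :
    ∃ d' : ℤ, ∀ (K' : DCoh.DQCoh Y') (n : ℤ), K'.obj.IsLE n → (a'.obj K').obj.IsLE (n + d') := by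
  exact LeadBrown.exists_bound_baseChange hsq
    (Groth.Agent.H16Derived.BaseChange.ti_of_opens f g htor) adj adj' hbd

end Groth.Agent.S11111
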