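import Groth.Statements.S11115
import Groth.Agent.H16Derived.KFlat.RestrictD

set_option autoImplicit false
universe u
open CategoryTheory CategoryTheory.Limits AlgebraicGeometry
attribute [local instance] HasDerivedCategory.standard
open Perf

namespace Groth.Agent.S11115

open Groth.Agent.H16Derived Groth.Agent.H16Derived.KFlat

/-- Let f : X ⟶ Y be a quasi-compact quasi-separated morphism of schemes and assume the unbounded
derived direct image Rf_* exists. If F in D(O_X) has cohomology sheaves vanishing below degree n,
then so has Rf_* F. (The published statement restricts F to complexes with quasi-coherent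
cohomology; this row allows any F.) -/
theorem result {X Y : Scheme.{u}} (f : X ⟶ Y) [QuasiCompact f] [QuasiSeparated f] [DCoh.HasRpush f]
    (F : DCoh.D X) (n : ℤ) [F.IsGE n] : ((DCoh.Rpush f).obj F).IsGE n := by
  exact Stalk.isGE_rpush f F n

end Groth.Agent.S11115
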