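import Groth.Statements.S11116
import Groth.Agent.H16Derived.ColimPush.Derived
import Groth.Agent.H16Derived.ColimPush.Sheaf
import Groth.Agent.H16Derived.AcyclicSums
import Groth.Agent.H16Derived.QCohD.CompactFree

set_option autoImplicit false
universe u
open CategoryTheory CategoryTheory.Limits AlgebraicGeometry
attribute [local instance] HasDerivedCategory.standard
open Perf

namespace Groth.Agent.S11116

open Groth.Agent.H16Derived Groth.Agent.H16Derived.KFlat.Stalk

theorem isZero_rpush_sum {X S : Scheme.{u}} (f : X ⟶ S) [QuasiCompact f] [QuasiSeparated f] {ι : Type u}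
    [HasInjectiveResolutions X.Modules] (D : Discrete ι ⥤ X.Modules) (c : Cocone D) (hc : IsColimit c)
    (hi : ∀ j, Injective (D.obj j)) (p : ℕ) : IsZero ((Coh.Rpush f (p + 1)).obj c.pt) := by
  classical
  haveI := isGrothendieckAbelian_modules (X := X)
  let g : ι → X.Modules := fun i => D.obj ⟨i⟩
  let hF := CoproductsFromFiniteFiltered.isColimitFiniteSubproductsCocone g
  haveI := hi
  have h := ColimPush.isZero_rpush_colimit_of_flasque f hF (fun s => by
    haveI : ∀ x : s, Injective ((Discrete.functor g).obj x.1) := fun x => hi ⟨x.1.as⟩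
    haveI : Injective ((CoproductsFromFiniteFiltered.liftToFinsetObj (Discrete.functor g)).obj s) :=
      Injective.of_iso (biproduct.isoCoproduct fun x : s => (Discrete.functor g).obj x.1) inferInstance
    exact Groth.Agent.H10Coh.flasque_sh_of_injective _) p
  exact h.of_iso ((Coh.Rpush f (p + 1)).mapIso
    (hc.coconePointUniqueUpToIso (colimit.isColimit D) ≪≫
      HasColimit.isoOfNatIso (Discrete.natIsoFunctor (F := D))))

/-- Let f : X ⟶ S be a quasi-compact quasi-separated morphism of schemes and assume the unbounded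
derived direct image Rf_* exists. For a family K_i of objects of D(O_X) indexed by a small type
whose cohomology sheaves all vanish below one fixed degree n, with direct sums ∐ K_i in D(O_X) and ∐
Rf_* K_i in D(O_S), the canonical map ∐ Rf_* K_i ⟶ Rf_*(∐ K_i) is an isomorphism. No quasi-coherence
is assumed. -/
theorem result {X S : Scheme.{u}} (f : X ⟶ S) [QuasiCompact f]
    [QuasiSeparated f] [DCoh.HasRpush f] {ι : Type u} (K : ι → DCoh.D X) (n : ℤ) (hK : ∀ i, (K i).IsGE n)
    [HasCoproduct K] [HasCoproduct (fun i => (DCoh.Rpush f).obj (K i))] :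
    IsIso (Sigma.desc (fun i => (DCoh.Rpush f).map (Sigma.ι K i))) := by
  classical
  haveI := isGrothendieckAbelian_modules (X := X)
  haveI := isGrothendieckAbelian_modules (X := S)
  haveI : PreservesFilteredColimitsOfSize.{u, u} (Scheme.Modules.pushforward f) :=
    ⟨fun J _ _ => ColimPush.preservesFilteredColimits_pushforward f J⟩
  haveI := AcyclicSums.preservesCoproducts_of_filtered (Scheme.Modules.pushforward f) ι
  choose L hL he using fun i => (haveI := hK i; DerivedCategory.exists_iso_Q_obj_of_isGE (K i) n)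
  let Q' : CochainComplex X.Modules ℤ ⥤ DCoh.D X := DerivedCategory.Q
  haveI : PreservesColimit (Discrete.functor L) Q' := QCoprod.preservesColimit_Q L
  haveI : HasCoproduct fun i => Q'.obj (L i) := ⟨⟨⟨_, isColimitOfHasCoproductOfPreservesColimit Q' L⟩⟩⟩
  let e : ∀ i, K i ≅ Q'.obj (L i) := fun i => (he i).some
  let β : Discrete.functor K ≅ Discrete.functor fun i => Q'.obj (L i) := Discrete.natIso fun j => e j.as
  let u : ∐ K ≅ Q'.obj (∐ L) := IsColimit.coconePointsIsoOfNatIso (colimit.isColimit (Discrete.functor K))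
    (isColimitOfHasCoproductOfPreservesColimit Q' L) β
  have hu : ∀ i, Sigma.ι K i ≫ u.hom = (e i).hom ≫ Q'.map (Sigma.ι L i) := fun i =>
    IsColimit.comp_coconePointsIsoOfNatIso_hom (colimit.isColimit (Discrete.functor K))
      (isColimitOfHasCoproductOfPreservesColimit Q' L) β ⟨i⟩
  rw [DerivedCategory.isIso_iff]
  intro m
  let H := DerivedCategory.homologyFunctor S.Modules m
  let φ := Sigma.desc (fun i => (DCoh.Rpush f).map (Sigma.ι K i))
  haveI : PreservesColimit (Discrete.functor fun i => (DCoh.Rpush f).obj (K i)) H :=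
    QCohD.preservesColimit_homology _ m
  obtain ⟨h₂⟩ := ColimPush.nonempty_isColimit (J := Discrete ι) f
    (fun D c hc hi p => isZero_rpush_sum f D c hc hi p) (Discrete.functor L)
    (coproductIsCoproduct L) n (fun j => haveI := hL j.as; inferInstanceAs ((L j.as).IsGE n)) m
  let h₁ := isColimitOfPreserves H (colimit.isColimit (Discrete.functor fun i => (DCoh.Rpush f).obj (K i)))
  let α : (Discrete.functor fun i => (DCoh.Rpush f).obj (K i)) ⋙ H ≅ Discrete.functor L ⋙ ColimPush.G₁ f m :=
    Discrete.natIso fun j => (DCoh.Rpush f ⋙ H).mapIso (e j.as)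
  have key : H.map φ ≫ (DCoh.Rpush f ⋙ H).map u.hom = (IsColimit.coconePointsIsoOfNatIso h₁ h₂ α).hom := by
    refine h₁.hom_ext fun j => ?_
    rw [IsColimit.comp_coconePointsIsoOfNatIso_hom]
    show H.map (Sigma.ι (fun i => (DCoh.Rpush f).obj (K i)) j.as) ≫ H.map φ ≫ H.map ((DCoh.Rpush f).map u.hom) =
      H.map ((DCoh.Rpush f).map (e j.as).hom) ≫ H.map ((DCoh.Rpush f).map (Q'.map (Sigma.ι L j.as)))
    simp only [← Functor.map_comp]
    refine congrArg H.map ?_
    rw [← Category.assoc]
    refine (congrArg (· ≫ (DCoh.Rpush f).map u.hom) (Sigma.ι_desc _ _)).trans ?_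
    rw [← Functor.map_comp, hu, Functor.map_comp]
  haveI : IsIso (H.map φ ≫ (DCoh.Rpush f ⋙ H).map u.hom) := by rw [key]; infer_instance
  exact IsIso.of_isIso_comp_right (H.map φ) ((DCoh.Rpush f ⋙ H).map u.hom)

end Groth.Agent.S11116
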