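import Groth.Statements.S11122
import Groth.Agent.H16Derived.QCohD.RpushUnb
import Groth.Agent.H16Derived.QCohD.AffineUnit
import Groth.Agent.H16Derived.KFlat.PerfNoeth
import Groth.Agent.H16Derived.KFlat.PerfSummand
import Groth.Agent.H8Props.FinLocFree.Sheaf

set_option autoImplicit false
set_option linter.style.haveILetI false
universe u
open CategoryTheory CategoryTheory.Limits AlgebraicGeometry
attribute [local instance] HasDerivedCategory.standard
open Perf

namespace Groth.Agent.S11122

open CategoryTheory.Pretriangulated DerivedCategory DerivedCategory.TStructure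
open Groth.Agent.H16Derived.KFlat.Stalk Groth.Agent.H16Derived.QCohD

theorem qcoh_of_pc {X : Scheme.{u}} (E : DCoh.D X) (h : ∀ m : ℤ, DCoh.IsPseudoCoherentD m E) :
    DCoh.IsQCohD E := fun i => by
  have hE := (isPseudoCoherentD_iff (i - 1) E).1 (h (i - 1))
  refine isQCoh_of_local _ fun x => ?_
  obtain ⟨V, hx, P, α, hP, h1, -⟩ := hE x
  haveI := h1 i (by omega)
  exact ⟨V, hx, Groth.Agent.H16Derived.QCohD.isQCoh_iso
    (asIso ((DerivedCategory.homologyFunctor _ i).map α) ≪≫ homologyRdIso V.ι E i)
    (Groth.Agent.H16Derived.QCohD.AffineUnit.isQCohD_Q P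
      (fun j => Groth.Agent.H8Props.FinLocFree.isQCoh_of_isFinLocFree _ (hP.2 j)) i)⟩

theorem exists_isLE_of_pc {X : Scheme.{u}} [CompactSpace X] (E : DCoh.D X) (m : ℤ)
    (h : DCoh.IsPseudoCoherentD m E) : ∃ b : ℤ, E.IsLE b := by
  have hE := (isPseudoCoherentD_iff m E).1 h
  refine exists_isLE_of_local fun x => ?_
  obtain ⟨V, hx, P, α, hP, h1, -⟩ := hE x
  obtain ⟨⟨a, b, hab⟩, -⟩ := hP
  refine ⟨V, max b m, hx, (DerivedCategory.isLE_iff _ _).2 fun i hi => ?_⟩
  haveI := h1 i (lt_of_le_of_lt (le_max_right _ _) hi)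
  refine IsZero.of_iso ?_ (asIso ((DerivedCategory.homologyFunctor _ i).map α)).symm
  haveI : CochainComplex.IsStrictlyLE P (max b m) :=
    (CochainComplex.isStrictlyLE_iff _ _).2 fun j hj => hab j (Or.inr (lt_of_le_of_lt (le_max_left _ _) hj))
  exact DerivedCategory.isZero_of_isLE _ (max b m) i hi

/-- Let f : X ⟶ Y be a quasi-compact quasi-separated morphism of schemes with Y quasi-compact, and
assume the unbounded derived direct image Rf_* exists. Suppose there is an integer k such that for
every integer n and every object F of D(O_X) with bounded cohomology that is n-pseudo-coherent, Rf_*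
F is (n + k)-pseudo-coherent. Then for every object F of D(O_X) that is n-pseudo-coherent for all n
(no boundedness assumed), Rf_* F is n-pseudo-coherent for all n. (The published statement obtains
the bound for proper pseudo-coherent f from a cited finiteness theorem; this row assumes the bound.) -/
theorem result {X Y : Scheme.{u}} (f : X ⟶ Y) [QuasiCompact f]
    [QuasiSeparated f] [CompactSpace Y] [DCoh.HasRpush f] (k : ℤ)
    (hK : ∀ (F : DCoh.D X) (n a b : ℤ), F.IsGE a → F.IsLE b → DCoh.IsPseudoCoherentD n F →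
      DCoh.IsPseudoCoherentD (n + k) ((DCoh.Rpush f).obj F))
    (F : DCoh.D X) (hF : ∀ m : ℤ, DCoh.IsPseudoCoherentD m F) (m : ℤ) :
    DCoh.IsPseudoCoherentD m ((DCoh.Rpush f).obj F) := by
  haveI : CompactSpace X := QuasiCompact.compactSpace_of_compactSpace f
  obtain ⟨N, hN⟩ := exists_bound f
  have hQ := qcoh_of_pc F hF
  obtain ⟨b, hb⟩ := exists_isLE_of_pc F 0 (hF 0)
  let a : ℤ := min (m - k) (m - N - 1)
  letI := rpushCommShift f
  haveI := rpush_isTriangulated f
  have hT := t.triangleLTGE_distinguished a F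
  haveI : DerivedCategory.IsLE ((t.truncLT a).obj F) (a - 1) := inferInstanceAs (t.IsLE _ (a - 1))
  haveI : DerivedCategory.IsGE ((t.truncGE a).obj F) a := inferInstanceAs (t.IsGE _ a)
  have hpc : DCoh.IsPseudoCoherentD a ((t.truncGE a).obj F) :=
    isPseudoCoherentD_obj₃ hT (isPseudoCoherentD_of_isLE (a - 1) (a + 1) (by omega)) (hF a)
  have h3 : DCoh.IsPseudoCoherentD m ((DCoh.Rpush f).obj ((t.truncGE a).obj F)) :=
    isPseudoCoherentD_mono (hK _ a a b inferInstance (Groth.Agent.H16Derived.DTrunc.isLE_truncGE F a b) hpc)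
      (by simp only [a]; omega)
  haveI : DerivedCategory.IsLE ((DCoh.Rpush f).obj ((t.truncLT a).obj F)) (m - 2) :=
    (DerivedCategory.isLE_iff _ _).2 fun i hi => isZero_rpush_of_isLE f hN _
      (homP_truncLT Coh.IsQCoh isQCoh_iso isQCoh_isZero hQ a) (a - 1) i (by simp only [a]; omega)
  exact isPseudoCoherentD_obj₃ (inv_rot_of_distTriang _ ((DCoh.Rpush f).map_distinguished _ hT))
    (isPseudoCoherentD_shift h3 (-1) (m + 1) (by omega))
    (@isPseudoCoherentD_of_isLE _ _ (m - 2) m (by assumption) (by omega))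

end Groth.Agent.S11122
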