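import Groth.Statements.S11128
import Groth.Agent.H16Derived.FaithfulGen
import Mathlib.CategoryTheory.Abelian.GrothendieckCategory.Basic
import Mathlib.CategoryTheory.Generator.Basic

set_option autoImplicit false
universe w u₁ u₂
open CategoryTheory CategoryTheory.Limits
open CohDer

namespace Groth.Agent.S11128

open CategoryTheory CategoryTheory.Limits Groth.Agent.H16Derived.FaithfulGen

/-- Suppose A is an abelian category that has small hom-sets and all small colimits, B is a Grothendieck
abelian category, and F : A ⥤ B is a faithful exact functor with a right adjoint G preserving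
filtered colimits. Then A is a Grothendieck abelian category. -/
theorem result
    {A : Type u₁} [Category.{w} A] [Abelian A] [HasColimitsOfSize.{w, w} A]
    {B : Type u₂} [Category.{w} B] [Abelian B] [IsGrothendieckAbelian.{w} B]
    (F : A ⥤ B) (G : B ⥤ A) (adj : F ⊣ G) [F.Additive] [F.Faithful]
    [PreservesFiniteLimits F] [PreservesFiniteColimits F] [PreservesFilteredColimitsOfSize.{w, w} G] :
    IsGrothendieckAbelian.{w} A := by
  have : HasColimitsOfSize.{w, w} B := inferInstance
  have := ab5 F adj
  let s : PUnit.{w + 1} → B := fun _ => separator B
  obtain ⟨κ, t, -, ht⟩ := exists_family F adj s (fun X Y f g h => (isSeparator_separator B).def f g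
    (fun u => h PUnit.unit u))
  have : HasSeparator A := ⟨⟨∐ t, (isSeparator_sigma t).2 fun X Y f g h =>
    ht f g fun x u => h (t x) ⟨x⟩ u⟩⟩
  exact {}

end Groth.Agent.S11128
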