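import Groth.Statements.S11129
import Groth.Agent.H17.QCohCat.Groth
import Groth.Agent.H17.CohSub
import Groth.Agent.LeadDev.Sub
import Groth.Agent.H22Alg.CohSupport
import Groth.Agent.H10Coh.SubMod
-- import your own Groth.Agent.* helpers here

set_option autoImplicit false
universe u
open CategoryTheory AlgebraicGeometry
open QCohCat

namespace Groth.Agent.S11129

/-- For a noetherian scheme Y, an object M of the category QCoh(O_Y) of quasi-coherent O_Y-modules (a
full subcategory of all O_Y-modules) is a noetherian object of that category if and only if M is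
coherent (quasi-coherent of finite type). (The published statement also records that QCoh(O_Y) is a
locally noetherian category; only the characterisation of its noetherian objects is stated here.) -/
theorem result (Y : Scheme.{u}) [IsNoetherian Y] (M : QCohCat.QCoh Y) :
    IsNoetherianObject M ↔ Coh.IsCoh M.obj := by
  classical
  haveI : M.obj.IsQuasicoherent := M.property
  -- subobjects with the same sections on an affine cover are equal
  haveI := (QCohCat.isQCoh Y).preservesMonomorphisms_ι_of_isNormalEpiCategory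
  have hmono : ∀ {A : QCohCat.QCoh Y} (a : A ⟶ M), Mono a → Mono a.hom := fun {A} a _ =>
    inferInstanceAs (Mono ((QCohCat.isQCoh Y).ι.map a))
  constructor
  · intro hM
    -- the coherent submodules
    have key : ∀ (H : Y.Modules) (k : H ⟶ M.obj), Mono k → Coh.IsCoh H →
        ∀ (U : Y.Opens) (_ : IsAffineOpen U) (s : Γ(M.obj, U)),
        ∃ (H' : Y.Modules) (k' : H' ⟶ M.obj) (a : H ⟶ H'), a ≫ k' = k ∧ Mono k' ∧ Coh.IsCoh H' ∧
          s ∈ Set.range (k'.app U) := by
      intro H k _ hH U hU s
      obtain ⟨G, l, _, hG, hl⟩ := Groth.Agent.H17.CohSub.exists_coh_sub M.obj M.property hU {s}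
      haveI : H.IsQuasicoherent := hH.1
      haveI : G.IsQuasicoherent := hG.1
      have hb : Coh.IsCoh (H ⊞ G) :=
        Groth.Agent.H10Coh.isCoh_X₂ (S := ShortComplex.mk (Limits.biprod.inl : H ⟶ H ⊞ G) Limits.biprod.snd (by simp))
          (ShortComplex.Splitting.ofHasBinaryBiproduct H G).shortExact hH hG
      haveI := hb.1
      let φ := Limits.biprod.desc k l
      haveI : (Limits.kernel φ).IsQuasicoherent := Groth.Agent.H10Coh.isQuasicoherent_kernel φ
      refine ⟨Abelian.coimage φ, Abelian.factorThruCoimage φ, Limits.biprod.inl ≫ Abelian.coimage.π φ, by simp [φ],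
        inferInstance, Groth.Agent.H10Coh.isCoh_cokernel _ (inferInstance : (Limits.kernel φ).IsQuasicoherent) hb, ?_⟩
      obtain ⟨t, ht⟩ := hl s (Finset.mem_singleton_self s)
      refine ⟨(Limits.biprod.inr ≫ Abelian.coimage.π φ).app U t, ?_⟩
      rw [← ht, ← CategoryTheory.ConcreteCategory.comp_apply, ← Scheme.Modules.Hom.comp_app]
      simp [φ]
    let 𝒞 : Set (Subobject M) := {P | Coh.IsCoh (P : QCohCat.QCoh Y).obj}
    have h𝒞 : ∀ (H : Y.Modules) (k : H ⟶ M.obj) (hk : Mono k) (hH : Coh.IsCoh H),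
        ∃ P ∈ 𝒞, ∃ e : (P : QCohCat.QCoh Y).obj ≅ H, e.hom ≫ k = P.arrow.hom := by
      intro H k hk hH
      let A : QCohCat.QCoh Y := ⟨H, hH.1⟩
      let k₁ : A ⟶ M := ObjectProperty.homMk k
      haveI : Mono k₁ := (QCohCat.isQCoh Y).ι.mono_of_mono_map (show Mono k from hk)
      let e := (QCohCat.isQCoh Y).ι.mapIso (Subobject.underlyingIso k₁)
      refine ⟨Subobject.mk k₁, Groth.Agent.H10Coh.isCoh_of_iso e.symm hH, e, ?_⟩
      exact congrArg InducedCategory.Hom.hom (Subobject.underlyingIso_hom_comp_eq_mk k₁)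
    obtain ⟨U₀, hU₀⟩ : ∃ U₀ : Y.Opens, IsAffineOpen U₀ := ⟨⊥, isAffineOpen_bot Y⟩
    obtain ⟨H₀, k₀, hk₀, hH₀, -⟩ := Groth.Agent.H17.CohSub.exists_coh_sub M.obj M.property hU₀ ∅
    obtain ⟨P₀, hP₀, -⟩ := h𝒞 H₀ k₀ hk₀ hH₀
    haveI : WellFoundedGT (Subobject M) := (isNoetherianObject (C := QCohCat.QCoh Y)).prop_of_is M
    obtain ⟨P, hP, hmax⟩ := (wellFounded_gt (α := Subobject M)).has_min 𝒞 ⟨P₀, hP₀⟩
    haveI := hmono P.arrow inferInstance
    have hsurj : ∀ (U : Y.Opens), IsAffineOpen U → Function.Surjective (P.arrow.hom.app U) := by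
      intro U hU s
      obtain ⟨H', k', a, ha, hk', hH', hs⟩ := key _ P.arrow.hom inferInstance hP U hU s
      obtain ⟨Q, hQ, e, he⟩ := h𝒞 H' k' hk' hH'
      have hPQ : P ≤ Q := Subobject.le_of_comm (ObjectProperty.homMk (a ≫ e.inv))
        (ObjectProperty.hom_ext _ (show (a ≫ e.inv) ≫ Q.arrow.hom = P.arrow.hom by
          rw [← he, Category.assoc, e.inv_hom_id_assoc, ha]))
      have hPQ' : P = Q := eq_of_le_of_not_lt hPQ (hmax Q hQ)
      obtain ⟨t, ht⟩ := hs
      subst hPQ'
      exact ⟨e.inv.app U t, by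
        rw [← ht, ← he, ← CategoryTheory.ConcreteCategory.comp_apply, ← Scheme.Modules.Hom.comp_app, e.inv_hom_id_assoc]⟩
    haveI : IsIso P.arrow.hom := Groth.Agent.LeadDev.isIso_of_bijective_affine _ hP.1 M.property fun U hU =>
      ⟨Groth.Agent.H10Coh.injective_app_of_mono' _ U, hsurj U hU⟩
    exact Groth.Agent.H10Coh.isCoh_of_iso (asIso P.arrow.hom) hP
  · intro hM
    rw [isNoetherianObject_iff_monotone_chain_condition]
    intro f
    obtain ⟨t, ht⟩ := isCompact_univ.elim_finite_subcover (fun U : Y.affineOpens => (U.1 : Set Y))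
      (fun U => U.1.isOpen) (fun x _ => by
        obtain ⟨U, hU, hxU, -⟩ := exists_isAffineOpen_mem_and_subset (X := Y) (x := x) (U := ⊤) trivial
        exact Set.mem_iUnion.2 ⟨⟨U, hU⟩, hxU⟩)
    let R : ∀ (U : Y.affineOpens), Subobject M → Submodule Γ(Y, U.1) Γ(M.obj, U.1) := fun U P =>
      { carrier := Set.range (P.arrow.hom.app U.1)
        add_mem' := by rintro _ _ ⟨a, rfl⟩ ⟨b, rfl⟩; exact ⟨a + b, map_add _ a b⟩
        zero_mem' := ⟨0, map_zero _⟩
        smul_mem' := by rintro r _ ⟨a, rfl⟩; exact ⟨r • a, Scheme.Modules.Hom.app_smul _ r a⟩ }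
    have hR : ∀ (U : Y.affineOpens) (P Q : Subobject M), P ≤ Q → R U P ≤ R U Q := by
      rintro U P Q h _ ⟨a, rfl⟩
      refine ⟨(Subobject.ofLE P Q h).hom.app U.1 a, ?_⟩
      rw [← CategoryTheory.ConcreteCategory.comp_apply, ← Scheme.Modules.Hom.comp_app]
      exact congr($(congr(Scheme.Modules.Hom.app $(congrArg InducedCategory.Hom.hom (Subobject.ofLE_arrow h)) U.1)) a)
    have hst : ∀ U : Y.affineOpens, ∃ n, ∀ m, n ≤ m → R U (f n) = R U (f m) := fun U => by
      haveI : IsNoetherianRing Γ(Y, U.1) := IsLocallyNoetherian.component_noetherian U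
      haveI : Module.Finite Γ(Y, U.1) Γ(M.obj, U.1) := Groth.Agent.H10Coh.finite_sections M.obj hM.2 U.2
      exact monotone_stabilizes_iff_noetherian.2 inferInstance ⟨fun n => R U (f n), fun a b h => hR U _ _ (f.mono h)⟩
    choose n hn using hst
    refine ⟨t.sup n, fun m hm => ?_⟩
    have hle := f.mono hm
    let j := Subobject.ofLE _ _ hle
    haveI : IsIso j := by
      haveI : ((f (t.sup n) : Subobject M) : QCohCat.QCoh Y).obj.IsQuasicoherent := ObjectProperty.FullSubcategory.property _
      haveI : ((f m : Subobject M) : QCohCat.QCoh Y).obj.IsQuasicoherent := ObjectProperty.FullSubcategory.property _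
      haveI : Mono j.hom := inferInstanceAs (Mono ((QCohCat.isQCoh Y).ι.map j))
      haveI : (Limits.cokernel j.hom).IsQuasicoherent := Groth.Agent.H10Coh.isQuasicoherent_cokernel j.hom
      suffices h0 : Limits.IsZero (Limits.cokernel j.hom) by
        haveI : Epi j.hom := Preadditive.epi_of_isZero_cokernel _ h0
        haveI : IsIso ((QCohCat.isQCoh Y).ι.map j) := isIso_of_mono_of_epi j.hom
        exact isIso_of_reflects_iso j (QCohCat.isQCoh Y).ι
      have hsub : ∀ y : Y, Subsingleton ((Limits.cokernel j.hom).presheaf.stalk y) := by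
        intro y
        obtain ⟨U, hUt, hyU⟩ := Set.mem_iUnion₂.1 (ht (Set.mem_univ y))
        haveI : Subsingleton Γ(Limits.cokernel j.hom, U.1) := by
          refine subsingleton_of_forall_eq 0 fun c => ?_
          obtain ⟨b, rfl⟩ := Groth.Agent.H10Coh.surjective_app_of_epi (Limits.cokernel.π j.hom) U.2 c
          have hU := hn U
          have e := (hU _ (Finset.le_sup hUt)).symm.trans (hU _ ((Finset.le_sup hUt).trans hm))
          obtain ⟨a, ha⟩ : (f m).arrow.hom.app U.1 b ∈ R U (f (t.sup n)) := e ▸ ⟨b, rfl⟩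
          haveI := hmono (f m).arrow inferInstance
          have hb : j.hom.app U.1 a = b := Groth.Agent.H10Coh.injective_app_of_mono' (f m).arrow.hom U.1 (by
            rw [← ha, ← CategoryTheory.ConcreteCategory.comp_apply, ← Scheme.Modules.Hom.comp_app]
            exact congr($(congr(Scheme.Modules.Hom.app $(congrArg InducedCategory.Hom.hom (Subobject.ofLE_arrow hle)) U.1)) a))
          rw [← hb]
          exact congr($(congr(Scheme.Modules.Hom.app $(Limits.cokernel.condition j.hom) U.1)) a)
        rw [← not_nontrivial_iff_subsingleton, Groth.Agent.H22Alg.CohSupport.nontrivial_stalk_iff _ inferInstance U.2 ⟨y, hyU⟩,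
          Module.support_eq_empty]
        exact fun h => h
      refine (Limits.IsZero.iff_id_eq_zero _).2 (Scheme.Modules.hom_ext _ _ fun V => ?_)
      ext σ
      exact TopCat.Presheaf.section_ext (⟨(Limits.cokernel j.hom).presheaf, (Limits.cokernel j.hom).isSheaf⟩ : TopCat.Sheaf Ab Y)
        V _ _ fun y _ => (hsub y).elim _ _
    exact le_antisymm hle (Subobject.le_of_comm (inv j) (by simp [j]))

end Groth.Agent.S11129
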