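import Groth.Statements.S1113
import Groth.Agent.H16Derived.DTrunc

set_option autoImplicit false
universe w v u
open CategoryTheory CategoryTheory.Limits
open CohDer

namespace Groth.Agent.S1113

open DerivedCategory.TStructure Opposite

/-- Let K : ℕᵒᵖ ⥤ CochainComplex A ℤ be a sequence of cochain maps … → K₂ → K₁ → K₀ in an abelian
category with Hⁱ(K₀) = 0 for i < 0 and such that for every j < n the map Hʲ(Kⱼ₊₁) → Hʲ(Kⱼ) is zero.
Then in the derived category the composite Kₙ → K₀ factors through the canonical truncation Kₙ →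
τ_{≥ n}Kₙ. -/
theorem result {A : Type u} [Category.{v} A] [Abelian A] [HasDerivedCategory.{w} A]
    (K : ℕᵒᵖ ⥤ CochainComplex A ℤ) (n : ℕ)
    (h0 : ∀ i : ℤ, i < 0 → IsZero ((K.obj (Opposite.op 0)).homology i))
    (hz : ∀ j : ℕ, j < n → HomologicalComplex.homologyMap (K.map (homOfLE (Nat.le_succ j)).op) (j : ℤ) = 0) :
    ∃ φ : DerivedCategory.Q.obj ((K.obj (Opposite.op n)).truncGE (n : ℤ)) ⟶ DerivedCategory.Q.obj (K.obj (Opposite.op 0)),
      DerivedCategory.Q.map ((K.obj (Opposite.op n)).πTruncGE (n : ℤ)) ≫ φ = DerivedCategory.Q.map (K.map (homOfLE (Nat.zero_le n)).op) := by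
  let L := K ⋙ DerivedCategory.Q
  have h00 : (L.obj (op 0)).IsGE 0 := (DerivedCategory.isGE_Q_obj_iff _ _).2
    ((CochainComplex.isGE_iff _ _).2 fun i hi =>
      (HomologicalComplex.exactAt_iff_isZero_homology _ _).2 (h0 i hi))
  have key : ∀ k : ℕ, k ≤ n → ∃ φ : (t.truncGE (k : ℤ)).obj (L.obj (op k)) ⟶ L.obj (op 0),
      (t.truncGEπ (k : ℤ)).app (L.obj (op k)) ≫ φ = L.map (homOfLE (Nat.zero_le k)).op := by
    intro k hk
    induction k with
    | zero =>
      have : t.IsGE (L.obj (op 0)) ((0 : ℕ) : ℤ) := h00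
      exact ⟨t.descTruncGE _ _, t.π_descTruncGE _ _⟩
    | succ k ih =>
      obtain ⟨φ, hφ⟩ := ih (by lia)
      have : DerivedCategory.IsGE ((t.truncGE (k : ℤ)).obj (L.obj (op k))) k :=
        inferInstanceAs (t.IsGE _ (k : ℤ))
      obtain ⟨ψ, hψ⟩ := Groth.Agent.H16Derived.DTrunc.exists_factor_truncGE
        (L.map (homOfLE (Nat.le_succ k)).op ≫ (t.truncGEπ (k : ℤ)).app (L.obj (op k))) (k : ℤ) (by
          have h : (DerivedCategory.homologyFunctor A (k : ℤ)).map
              (L.map (homOfLE (Nat.le_succ k)).op) = 0 := by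
            rw [← cancel_mono ((DerivedCategory.homologyFunctorFactors A _).hom.app _), zero_comp]
            exact (DerivedCategory.homologyFunctorFactors_hom_naturality
              (K.map (homOfLE (Nat.le_succ k)).op) _).trans (by rw [hz k (by lia)]; exact comp_zero)
          rw [Functor.map_comp, h, zero_comp])
      refine ⟨ψ ≫ φ, ?_⟩
      refine ((Category.assoc _ _ _).symm.trans (congrArg (· ≫ φ) hψ)).trans ?_
      rw [Category.assoc, hφ, ← Functor.map_comp]
      rfl
  obtain ⟨φ, hφ⟩ := key n le_rfl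
  have : DerivedCategory.IsGE ((t.truncGE (n : ℤ)).obj (L.obj (op n))) n :=
    inferInstanceAs (t.IsGE _ (n : ℤ))
  obtain ⟨ψ, hψ⟩ := Groth.Agent.H16Derived.DTrunc.exists_desc_Q_πTruncGE (K.obj (op n)) (n : ℤ)
    ((t.truncGEπ (n : ℤ)).app (L.obj (op n)))
  exact ⟨ψ ≫ φ, by rw [reassoc_of% hψ]; exact hφ⟩

end Groth.Agent.S1113
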