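import Groth.Statements.S11134
import Groth.Agent.H15Site.FreeOn

open CategoryTheory CategoryTheory.Limits Opposite Groth.Agent.H15Site Groth.Agent.H15Site.ModTensor Groth.Agent.H15Site.ModOver

attribute [local instance 10000] SiteInst.hasSheafifySite SiteInst.hasWeakSheafifySite

set_option linter.style.haveILetI false
open CategoryTheory CategoryTheory.Limits Opposite

set_option autoImplicit false
universe u
open CategoryTheory
open ModSite

namespace Groth.Agent.S11134

/-- On a small ringed site (C, J, O) with commutative O, for every object x of C the module O_x =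
j_{x!}(O restricted to C/x), placed in degree 0 as a cochain complex, is K-flat. -/
theorem result {C : Type u} [SmallCategory C] {J : GrothendieckTopology C}
    (O : Sheaf J CommRingCat.{u}) (x : C) :
    ModSite.IsKFlat ((CochainComplex.singleFunctor (ModSite.Mod O) 0).obj (ModSite.freeOn O x)) := by
  have := ModKFlat.countableAB4 (O := O)
  have := ModKFlat.hasExactColimitsOfShape_nat (O := O)
  rw [ModKFlat.isKFlat_iff]
  refine Groth.Agent.H16Derived.KFlat.isKFlat_of_boundedAbove _ 0
    (fun q hq => HomologicalComplex.isZero_single_obj_X _ _ _ _ (by omega)) (fun q => ?_)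
  rw [ModKFlat.isFlatObj_iff]
  by_cases hq : q = 0
  · subst hq
    exact isFlat_of_iso (HomologicalComplex.singleObjXSelf _ _ _).symm (isFlat_freeOn O x)
  · exact (ModKFlat.isFlatObj_iff _).1 (Groth.Agent.H16Derived.KFlat.isFlatObj_of_isZero
      (HomologicalComplex.isZero_single_obj_X _ _ _ _ hq))

end Groth.Agent.S11134
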