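import Groth.Statements.S11136
import Mathlib.RingTheory.Invariant.Basic
import Mathlib.RingTheory.Spectrum.Prime.Noetherian
import Mathlib.Topology.NoetherianSpace

set_option autoImplicit false
universe u v
open InvTh

namespace Groth.Agent.S11136
theorem isOpen_cc {X : Type*} [TopologicalSpace X] [TopologicalSpace.NoetherianSpace X] (x : X) :
    IsOpen (connectedComponent x) := by
  have e : (connectedComponent x)ᶜ = ⋃₀ {Z ∈ irreducibleComponents X | Disjoint Z (connectedComponent x)} := by
    ext w
    refine ⟨fun hw => ⟨irreducibleComponent w, ⟨irreducibleComponent_mem_irreducibleComponents w,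
      Set.disjoint_left.2 fun t ht htx => hw ?_⟩, mem_irreducibleComponent⟩,
      fun ⟨Z, ⟨_, hd⟩, hwZ⟩ hw => Set.disjoint_left.1 hd hwZ hw⟩
    have hsub := isIrreducible_irreducibleComponent.isConnected.isPreconnected.subset_connectedComponent ht
      (mem_irreducibleComponent (x := w))
    rwa [connectedComponent_eq htx]
  rw [← isClosed_compl_iff, e, Set.sUnion_eq_biUnion]
  exact Set.Finite.isClosed_biUnion
    ((TopologicalSpace.NoetherianSpace.finite_irreducibleComponents).subset fun Z hZ => hZ.1)
    fun Z hZ => isClosed_of_mem_irreducibleComponents Z hZ.1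


/-- Let a finite group G act on a Noetherian commutative ring R by ring automorphisms, with ring of
invariants A (A → R injective with image the fixed elements). When the prime spectrum of A is
connected, any two connected components of Spec R are exchanged by some element of G: for all points
x, y of Spec R there is g in G whose induced self-map of Spec R carries the connected component of x
onto the connected component of y. -/
theorem result
    (A : Type u) (R : Type v) [CommRing A] [CommRing R] [Algebra A R] [IsNoetherianRing R]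
    (G : Type u) [Group G] [Finite G] [MulSemiringAction G R] [SMulCommClass G A R]
    [Algebra.IsInvariant A R G] [FaithfulSMul A R]
    [ConnectedSpace (PrimeSpectrum A)] (x y : PrimeSpectrum R) :
    ∃ g : G, PrimeSpectrum.comap (MulSemiringAction.toRingHom G R g) '' connectedComponent x =
      connectedComponent y := by
  classical
  open scoped Pointwise in
  haveI : Algebra.IsIntegral A R := Algebra.IsInvariant.isIntegral A R G
  let σ : G → PrimeSpectrum R → PrimeSpectrum R := fun g => PrimeSpectrum.comap (MulSemiringAction.toRingHom G R g)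
  have hσ : ∀ g h p, σ g (σ h p) = σ (h * g) p := fun g h p => by
    ext r
    change h • g • r ∈ p.asIdeal ↔ (h * g) • r ∈ p.asIdeal
    rw [mul_smul]
  have hσ1 : ∀ p, σ 1 p = p := fun p => by
    ext r
    change (1 : G) • r ∈ p.asIdeal ↔ _
    rw [one_smul]
  have hσc : ∀ g, Continuous (σ g) := fun g => PrimeSpectrum.continuous_comap _
  have himage : ∀ g, σ g '' connectedComponent x = connectedComponent (σ g x) := by
    intro g
    refine subset_antisymm ((hσc g).image_connectedComponent_subset x) fun t ht => ⟨σ g⁻¹ t, ?_, ?_⟩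
    · have := (hσc g⁻¹).image_connectedComponent_subset (σ g x) ⟨t, ht, rfl⟩
      rwa [hσ, mul_inv_cancel, hσ1] at this
    · rw [hσ, inv_mul_cancel, hσ1]
  let U := ⋃ g : G, connectedComponent (σ g x)
  have hUo : IsOpen U := isOpen_iUnion fun g => isOpen_cc _
  have hUc : IsClosed U := isClosed_iUnion_of_finite fun g => isClosed_connectedComponent
  let f := PrimeSpectrum.comap (algebraMap A R)
  have hf : IsClosedMap f := PrimeSpectrum.isClosedMap_comap_of_isIntegral _
    (algebraMap_isIntegral_iff.mpr inferInstance)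
  have hfs : Function.Surjective f := fun p => by
    obtain ⟨Q, -, hQ, hQp⟩ := Ideal.exists_ideal_over_prime_of_isIntegral p.asIdeal (⊥ : Ideal R) (fun a ha => by
      rw [Ideal.mem_comap, Ideal.mem_bot] at ha
      rw [(map_eq_zero_iff _ (FaithfulSMul.algebraMap_injective A R)).1 ha]
      exact p.asIdeal.zero_mem)
    exact ⟨⟨Q, hQ⟩, PrimeSpectrum.ext hQp⟩
  have hstab : ∀ g t, t ∈ U → σ g t ∈ U := by
    intro g t ht
    obtain ⟨h, hh⟩ := Set.mem_iUnion.1 ht
    refine Set.mem_iUnion.2 ⟨h * g, ?_⟩
    rw [← hσ]
    exact (hσc g).image_connectedComponent_subset _ ⟨t, hh, rfl⟩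
  have hdisj : ∀ t w, f t = f w → t ∈ U → w ∈ U := by
    intro t w htw ht
    obtain ⟨g, hg⟩ := Algebra.IsInvariant.exists_smul_of_under_eq A R G t.asIdeal w.asIdeal
      (congrArg PrimeSpectrum.asIdeal htw)
    have : w = σ g⁻¹ t := by
      ext r
      rw [hg]
      change _ ↔ g⁻¹ • r ∈ t.asIdeal
      exact Ideal.mem_pointwise_smul_iff_inv_smul_mem
    rw [this]
    exact hstab _ _ ht
  have hcl : IsClopen (f '' U) := by
    refine ⟨hf U hUc, ?_⟩
    rw [← isClosed_compl_iff, show (f '' U)ᶜ = f '' Uᶜ from ?_]
    · exact hf _ hUo.isClosed_compl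
    · ext p
      obtain ⟨t, rfl⟩ := hfs p
      exact ⟨fun h => ⟨t, fun ht => h ⟨t, ht, rfl⟩, rfl⟩, fun ⟨w, hw, hwt⟩ ⟨u, hu, hut⟩ =>
        hw (hdisj u w (hut.trans hwt.symm) hu)⟩
  have hxU : x ∈ U := Set.mem_iUnion.2 ⟨1, by rw [hσ1]; exact mem_connectedComponent⟩
  have hall : f '' U = Set.univ := hcl.eq_univ ⟨f x, x, hxU, rfl⟩
  obtain ⟨u, hu, huy⟩ := hall.ge (Set.mem_univ (f y))
  obtain ⟨g, hg⟩ := Set.mem_iUnion.1 (hdisj u y huy hu)
  exact ⟨g, (himage g).trans (connectedComponent_eq hg)⟩

end Groth.Agent.S11136
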