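import Groth.Statements.S11137
import Mathlib.RingTheory.Invariant.Basic


set_option autoImplicit false
universe u v
open InvTh

namespace Groth.Agent.S11137

/-- Let G be a finite group acting by ring automorphisms on a Noetherian commutative ring R, and let A
be its ring of invariants (A → R injective with image the fixed elements), with R module-finite over
A. Then the going-down property holds for the extension A → R. (The published statement also asserts
that G acts transitively on the primes of R over a given prime of A; this row states only the
going-down assertion.) -/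
theorem result
    (A : Type u) (R : Type v) [CommRing A] [CommRing R] [Algebra A R] [IsNoetherianRing R]
    (G : Type u) [Group G] [Finite G] [MulSemiringAction G R] [SMulCommClass G A R]
    [Algebra.IsInvariant A R G] [FaithfulSMul A R] [Module.Finite A R] :
    Algebra.HasGoingDown A R := by
  open scoped Pointwise in
  haveI : Algebra.IsIntegral A R := Algebra.IsIntegral.of_finite A R
  refine ⟨fun {p} _ Q _ hlt => ?_⟩
  have hinj : Function.Injective (algebraMap A R) := FaithfulSMul.algebraMap_injective A R
  obtain ⟨P₀, -, hP₀, hP₀p⟩ := Ideal.exists_ideal_over_prime_of_isIntegral p (⊥ : Ideal R) (fun x hx => by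
    rw [Ideal.mem_comap, Ideal.mem_bot] at hx
    rw [(map_eq_zero_iff _ hinj).1 hx]
    exact p.zero_mem)
  haveI := hP₀
  haveI : (Q.under A).IsPrime := Ideal.IsPrime.under A Q
  obtain ⟨Q', hQ', hQ'p, hQ'c⟩ :=
    Ideal.exists_ideal_over_prime_of_isIntegral (Q.under A) P₀ (hP₀p.le.trans hlt.le)
  haveI := hQ'p
  obtain ⟨g, hg⟩ := Algebra.IsInvariant.exists_smul_of_under_eq A R G Q' Q hQ'c
  refine ⟨g • P₀, ?_, hP₀.smul g, ⟨?_⟩⟩
  · rw [hg]
    exact Ideal.map_mono hQ'
  · rw [Ideal.under_smul]
    exact hP₀p.symm

end Groth.Agent.S11137
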