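import Groth.Statements.S1114
import Groth.Agent.H16Derived.Dual.Main
import Groth.Agent.H16Derived.Dual.PerfQCoh

set_option autoImplicit false
universe u
open CategoryTheory CategoryTheory.Limits AlgebraicGeometry Opposite
attribute [local instance] HasDerivedCategory.standard
open Perf

namespace Groth.Agent.S1114

set_option linter.style.haveILetI false

/-- Let X be a scheme, K a cochain complex of O_X-modules whose image in D(O_X) is perfect, and L ∈
D(O_X) with quasi-coherent cohomology sheaves. Assuming - ⊗^L K and its right adjoint RHom(K, -)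
exist on D(O_X), RHom(K, L) has quasi-coherent cohomology sheaves. -/
theorem result (X : Scheme.{u}) (K : CochainComplex X.Modules ℤ) (hK : DCoh.IsPerfect (DCoh.toD X K)) [DCoh.HasLTensorCx K] [DCoh.HasRSheafHom K]
    (L : DCoh.D X) (hL : DCoh.IsQCohD L) : DCoh.IsQCohD ((DCoh.RSheafHom K).obj L) := by
  let k := DerivedCategory.Q.obj K
  let D := DerivedCategory.Q.objPreimage (H16Derived.Dual.ro k)
  let eD : DerivedCategory.Q.obj D ≅ H16Derived.Dual.ro k := DerivedCategory.Q.objObjPreimageIso _
  haveI := H16Derived.KFlat.Stalk.hasLTensorCx D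
  have hD : DCoh.IsQCohD (DCoh.toD X D) :=
    H16Derived.QCohD.isQCohD_iso eD.symm
      (H16Derived.Dual.isQCohD_of_isPerfect (H16Derived.Dual.isPerfect_ro (k := k) hK))
  exact H16Derived.QCohD.isQCohD_iso
    (((H16Derived.Dual.ltensorCxIsoT D).app L).symm ≪≫ ((H16Derived.Dual.T X).obj L).mapIso eD ≪≫
      H16Derived.Dual.θIso (k := k) hK L ≪≫ ((H16Derived.Dual.rsheafHomIso K).app L).symm)
    (H16Derived.QCohD.isQCohD_ltensorCx D hD hL)

end Groth.Agent.S1114
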