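import Groth.Statements.S11141
import Groth.Agent.H20Inv.EqLocus
import Groth.Agent.H20Comod.FiniteQuot

set_option autoImplicit false
universe u
open TensorProduct
open InvTh

namespace Groth.Agent.S11141

/-- Let k be a field, H a finitely generated commutative Hopf algebra over k (the coordinate ring of a
group scheme affine and of finite type over k), and S a commutative k-algebra which is
ring-isomorphic to a finite product of normal (integrally closed) domains and carries an H-comodule
structure whose coaction S → S ⊗ H is multiplicative and unital. Then the k-subalgebra of invariants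
of S, the elements s whose coaction is s ⊗ 1, is again ring-isomorphic to a finite product of normal
domains. -/
theorem result (k : Type u) [Field k]
    (H : Type u) [CommRing H] [HopfAlgebra k H] [Algebra.FiniteType k H]
    (S : Type u) [CommRing S] [Algebra k S] [HopfRep.Comod k H S]
    (hmul : ∀ x y : S, HopfRep.Comod.coact (k := k) (A := H) (x * y) =
        HopfRep.Comod.coact (k := k) (A := H) x * HopfRep.Comod.coact (k := k) (A := H) y)
    (hone : HopfRep.Comod.coact (k := k) (A := H) (1 : S) = 1)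
    {ι : Type u} [Fintype ι] (D : ι → Type u) [∀ i, CommRing (D i)] [∀ i, IsDomain (D i)]
    [∀ i, IsIntegrallyClosed (D i)] (e : S ≃+* Π i, D i)
    (A : Subalgebra k S)
    (hA : ∀ a : S, a ∈ A ↔ HopfRep.Comod.coact (k := k) (A := H) a = a ⊗ₜ[k] (1 : H)) :
    ∃ (κ : Type u) (_ : Fintype κ) (E : κ → Type u) (_ : ∀ j, CommRing (E j)) (_ : ∀ j, IsDomain (E j))
      (_ : ∀ j, IsIntegrallyClosed (E j)), Nonempty (A ≃+* Π j, E j) := by
  classical
  haveI : GLin.IsCoactAlg k H S := ⟨hone, hmul⟩
  let f₀ : (Π i, D i) →+* S ⊗[k] H := (GLin.coactAlgHom k H S).toRingHom.comp e.symm.toRingHom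
  let f₁ : (Π i, D i) →+* S ⊗[k] H :=
    (Algebra.TensorProduct.includeLeft : S →ₐ[k] S ⊗[k] H).toRingHom.comp e.symm.toRingHom
  have hincl : ∀ s ∈ nonZeroDivisors S,
      (Algebra.TensorProduct.includeLeft : S →ₐ[k] S ⊗[k] H) s ∈ nonZeroDivisors (S ⊗[k] H) := by
    intro s hs
    rw [mem_nonZeroDivisors_iff_right]
    intro z hz
    have hinj : Function.Injective (LinearMap.mulLeft k s) := fun a b h => by
      rw [← sub_eq_zero]
      refine (mem_nonZeroDivisors_iff_right.1 hs) _ ?_
      rw [sub_mul, sub_eq_zero, mul_comm a, mul_comm b]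
      exact h
    refine (Module.Flat.rTensor_preserves_injective_linearMap (M := H) _ hinj) ?_
    rw [map_zero, ← hz]
    clear hz
    induction z using TensorProduct.induction_on with
    | zero => simp
    | tmul p a => simp [mul_comm]
    | add u v hu hv => simp only [map_add, add_mul, hu, hv]
  have hshear : ∀ z ∈ nonZeroDivisors (S ⊗[k] H), H20Comod.shearAlg k H S z ∈ nonZeroDivisors (S ⊗[k] H) := by
    intro z hz
    rw [mem_nonZeroDivisors_iff_right]
    intro w hw
    obtain ⟨w, rfl⟩ := H20Comod.shearAlg_bijective.2 w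
    rw [← map_mul, ← map_zero (H20Comod.shearAlg k H S)] at hw
    rw [(mem_nonZeroDivisors_iff_right.1 hz) w (H20Comod.shearAlg_bijective.1 hw), map_zero]
  have he : ∀ s ∈ nonZeroDivisors (Π i, D i), e.symm s ∈ nonZeroDivisors S := by
    intro s hs
    rw [mem_nonZeroDivisors_iff_right]
    intro w hw
    have h : e w * s = 0 := by
      rw [← e.apply_symm_apply s, ← map_mul, hw, map_zero]
    exact (map_eq_zero_iff e e.injective).1 ((mem_nonZeroDivisors_iff_right.1 hs) _ h)
  have hF : ∀ f ∈ ({f₀, f₁} : Set _), ∀ s ∈ nonZeroDivisors (Π i, D i), f s ∈ nonZeroDivisors (S ⊗[k] H) := by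
    intro f hf s hs
    rcases hf with rfl | rfl
    · show GLin.coactAlgHom k H S (e.symm s) ∈ _
      rw [H20Comod.coactAlgHom_eq_shearAlg_comp]
      exact hshear _ (hincl _ (he s hs))
    · exact hincl _ (he s hs)
  let A' : Subring (Π i, D i) := A.toSubring.map e.toRingHom
  have hA' : ∀ a, a ∈ A' ↔ ∀ f ∈ ({f₀, f₁} : Set _), ∀ f' ∈ ({f₀, f₁} : Set _), f a = f' a := by
    intro a
    constructor
    · rintro ⟨b, hb, rfl⟩
      have h : f₀ (e b) = f₁ (e b) := by
        show GLin.coactAlgHom k H S (e.symm (e b)) = e.symm (e b) ⊗ₜ[k] (1 : H)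
        rw [e.symm_apply_apply, GLin.coactAlgHom_apply, (hA b).1 hb]
      intro f hf f' hf'
      rcases hf with rfl | rfl <;> rcases hf' with rfl | rfl
      exacts [rfl, h, h.symm, rfl]
    · intro h
      exact ⟨e.symm a, (hA _).2 (h f₀ (Or.inl rfl) f₁ (Or.inr rfl)), e.apply_symm_apply a⟩
  obtain ⟨κ, i1, E, i2, i3, i4, ⟨g⟩⟩ := H20Inv.exists_prod_normal_domains hF hA'
  exact ⟨κ, i1, E, i2, i3, i4, ⟨(A.toSubring.equivMapOfInjective e.toRingHom e.injective).trans g⟩⟩

end Groth.Agent.S11141
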