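import Groth.Statements.S11142
import Groth.Agent.H8Props.Generic

set_option autoImplicit false
universe u
open CategoryTheory AlgebraicGeometry
open FlatMor

namespace Groth.Agent.S11142

/-- For a flat morphism f : X → Y between locally Noetherian schemes, the preimage under f of any dense
open subset of Y is dense in X. -/
theorem result (X Y : Scheme.{u}) [IsLocallyNoetherian X]
    [IsLocallyNoetherian Y] (f : X ⟶ Y) [Flat f] (U : Y.Opens) (hU : Dense (U : Set Y)) :
    Dense ((f ⁻¹ᵁ U : X.Opens) : Set X) := by
  rw [dense_iff_closure_eq, Set.eq_univ_iff_forall]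
  intro x
  obtain ⟨η, hη, hηx⟩ := H8Props.exists_genericPoints_specializes x
  exact closure_minimal (Set.singleton_subset_iff.mpr (subset_closure
    (show η ∈ ((f ⁻¹ᵁ U : X.Opens) : Set X) from
      H8Props.genericPoints_subset_of_dense U.2 hU (H8Props.flat_map_genericPoints f hη))))
    isClosed_closure hηx.mem_closure

end Groth.Agent.S11142
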