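import Groth.Statements.S11146
import Groth.Agent.H19Grp.GroupCI
import Groth.Agent.H02CA.GorRing
import Groth.Agent.H28Top.Dim

set_option autoImplicit false
set_option maxHeartbeats 1000000
set_option synthInstance.maxHeartbeats 100000
set_option linter.style.haveILetI false
set_option backward.isDefEq.respectTransparency false
universe u
open CategoryTheory MonoidalCategory CartesianMonoidalCategory MonObj GrpObj AlgebraicGeometry
attribute [local instance] HasDerivedCategory.standard
open GrpSch

namespace Groth.Agent.S11146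

open IsLocalRing

theorem gor_of_isCI {A : Type u} [CommRing A] [IsLocalRing A] [IsNoetherianRing A]
    (h : Pi1.IsCompleteIntersection A) : LocCoh.IsGorensteinLocalRing A := by
  obtain ⟨B, i1, i2, rs, hmem, hreg, ⟨e⟩⟩ := h
  have hB := H4Goren.isGorensteinLocalRing_of_isRegularLocalRing B
  have hq := H02CA.GorFlat.gor_quot_list hB rs hmem hreg.toIsWeaklyRegular
  have hc : LocCoh.IsGorensteinLocalRing (AdicCompletion (maximalIdeal A) A) :=
    H02CA.GorFlat.gor_of_ringEquiv e.symm hq
  haveI := hc
  haveI : Module.Flat A (AdicCompletion (maximalIdeal A) A) := AdicCompletion.flat_of_isNoetherian _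
  haveI : IsLocalHom (algebraMap A (AdicCompletion (maximalIdeal A) A)) := inferInstance
  exact ((H02CA.GorFlat.gor_iff_of_flat_local A (AdicCompletion (maximalIdeal A) A)).mp hc).1


/-- Group schemes over Gorenstein rings: let R be a Gorenstein local ring and G a group scheme over Spec
R which is flat and of finite type over Spec R. Then G is a Gorenstein scheme (locally Noetherian
with all local rings Gorenstein) and has finite Krull dimension. (The published statement concerns
every member of the diagram Spec R ← G ⇇ G ×_R G of the action groupoid, each of which is Spec R or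
again a flat finite-type group scheme over Spec R, and adds that O_S[d], for S = Spec R and d the
dimension of R, is then an equivariant dualizing complex; this row states the first assertion for
G.) -/
theorem result (R : Type u) [CommRing R]
    [LocCoh.IsGorensteinLocalRing R] (G : Over (Spec (CommRingCat.of R))) [GrpObj G] [Flat G.hom]
    [LocallyOfFiniteType G.hom] [QuasiCompact G.hom] :
    Dual3.IsGorenstein G.left ∧ topologicalKrullDim G.left < ⊤ := by
  haveI : IsNoetherianRing (CommRingCat.of R) := inferInstanceAs (IsNoetherianRing R)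
  haveI : IsLocallyNoetherian (Spec (CommRingCat.of R)) := inferInstance
  haveI : IsLocallyNoetherian G.left := LocallyOfFiniteType.isLocallyNoetherian G.hom
  refine ⟨⟨inferInstance, fun x => ?_⟩, ?_⟩
  · let s := G.hom x
    haveI : LocCoh.IsGorensteinLocalRing ((Spec (CommRingCat.of R)).presheaf.stalk s) := by
      letI : Algebra R ((Spec (CommRingCat.of R)).presheaf.stalk s) := StructureSheaf.stalkAlgebra R s
      haveI : IsLocalization.AtPrime ((Spec (CommRingCat.of R)).presheaf.stalk s) s.asIdeal :=
        StructureSheaf.IsLocalization.to_stalk R s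
      exact H02CA.GorFlat.gor_of_ringEquiv (IsLocalization.algEquiv s.asIdeal.primeCompl
        (Localization.AtPrime s.asIdeal) ((Spec (CommRingCat.of R)).presheaf.stalk s)).toRingEquiv
        ((H02CA.GorFlat.isGorensteinRing_of_local R).isGorensteinLocalRing_localization s.asIdeal)
    letI := (G.hom.stalkMap x).hom.toAlgebra
    haveI : Module.Flat ((Spec (CommRingCat.of R)).presheaf.stalk s) (G.left.presheaf.stalk x) :=
      Flat.stalkMap G.hom x
    haveI : IsLocalHom (algebraMap ((Spec (CommRingCat.of R)).presheaf.stalk s) (G.left.presheaf.stalk x)) :=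
      inferInstanceAs (IsLocalHom (G.hom.stalkMap x).hom)
    haveI : IsLocalRing (G.left.presheaf.stalk x ⧸
        (maximalIdeal ((Spec (CommRingCat.of R)).presheaf.stalk s)).map (G.hom.stalkMap x).hom) := by
      haveI := Ideal.Quotient.nontrivial_iff.mpr (ne_top_of_le_ne_top (maximalIdeal.isMaximal _).ne_top
        (map_maximalIdeal_le (G.hom.stalkMap x).hom))
      exact .of_surjective' _ Ideal.Quotient.mk_surjective
    have hF := gor_of_isCI ((H13CI.isCI_fiberStalk_iff G.hom x).mpr (H19Grp.GroupCI.isCI_fiberStalk G x))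
    exact (H02CA.GorFlat.gor_iff_of_flat_local _ (G.left.presheaf.stalk x)).mpr ⟨inferInstance, hF⟩
  · haveI : CompactSpace G.left := QuasiCompact.compactSpace_of_compactSpace G.hom
    obtain ⟨d, hd⟩ := H4Depth.exists_nat_ringKrullDim_eq (R := R)
    let 𝒰 := G.left.affineCover.finiteSubcover
    haveI : ∀ i, IsAffine (𝒰.X i) := fun i => by dsimp [𝒰]; infer_instance
    let Y : 𝒰.I₀ → Set G.left := fun i => Set.range (𝒰.f i)
    have hN : ∀ i, ∃ n : ℕ, topologicalKrullDim (Y i) ≤ ((d + n : ℕ) : WithBot ℕ∞) := fun i => by
      have e : topologicalKrullDim (Y i) = ringKrullDim Γ(𝒰.X i, ⊤) := by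
        rw [← PrimeSpectrum.topologicalKrullDim_eq_ringKrullDim]
        exact ((𝒰.f i).isOpenEmbedding.toIsEmbedding.toHomeomorph.symm.trans
          (𝒰.X i).isoSpec.hom.homeomorph).isHomeomorph.topologicalKrullDim_eq
      letI : Algebra R Γ(𝒰.X i, ⊤) :=
        ((Scheme.ΓSpecIso (CommRingCat.of R)).inv ≫ (𝒰.f i ≫ G.hom).appTop).hom.toAlgebra
      have hft : (algebraMap R Γ(𝒰.X i, ⊤)).FiniteType := by
        have h2 := HasRingHomProperty.appTop @LocallyOfFiniteType (𝒰.f i ≫ G.hom) inferInstance
        exact RingHom.FiniteType.comp h2 (RingHom.FiniteType.of_surjective _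
          (Scheme.ΓSpecIso (CommRingCat.of R)).commRingCatIsoToRingEquiv.symm.surjective)
      haveI : Algebra.FiniteType R Γ(𝒰.X i, ⊤) := RingHom.finiteType_algebraMap.mp hft
      obtain ⟨n, φ, hφ⟩ := Algebra.FiniteType.iff_quotient_mvPolynomial''.mp ‹_›
      refine ⟨n, e.le.trans ((ringKrullDim_le_of_surjective φ.toRingHom hφ).trans (le_of_eq ?_))⟩
      rw [MvPolynomial.ringKrullDim_of_isNoetherianRing, hd]
      simp
    choose n hn using hN
    refine lt_of_le_of_lt (b := ((d + Finset.univ.sup n : ℕ) : WithBot ℕ∞)) (H28Top.dim_le_of_chains fun s => ?_) ?_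
    · obtain ⟨z, hz⟩ := s.head.isIrreducible.nonempty
      obtain ⟨i, w, rfl⟩ := 𝒰.exists_eq z
      exact (H28Top.chain_le_dim_of_isOpen s (𝒰.f i).isOpenEmbedding.isOpen_range ⟨_, hz, w, rfl⟩).trans
        ((hn i).trans (Nat.cast_le.mpr (Nat.add_le_add_left (Finset.le_sup (f := n) (Finset.mem_univ i)) d)))
    · exact WithBot.coe_lt_coe.mpr (WithTop.coe_lt_top _)

end Groth.Agent.S11146
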