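import Groth.Statements.S11148
import Groth.Agent.H8Props.Watanabe.Main
import Groth.Agent.H8Props.Watanabe.Grading
import Groth.Agent.H4GD.StarGor
import Groth.Agent.S2680

set_option autoImplicit false
universe u
open InvTh

namespace Groth.Agent.S11148

/-- Let k be a field, G a finite group whose order is invertible in k, and ρ : G → GL_n(k) a group
homomorphism all of whose values have determinant 1. Let G act on the polynomial ring k[X_1, …, X_n]
by ring automorphisms fixing k with g • X_i = Σ_j ρ(g)_{ji} X_j (the induced action on the symmetric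
algebra of the representation), and let A be the ring of invariants (A → k[X] injective with image
the fixed elements). Then A is a Gorenstein ring. (The published statement allows any linearly
reductive finite k-group scheme G with G → GL(V) factoring through SL(V), and also identifies the
canonical module of A with A; this row is the case of a constant group of order invertible in k and
keeps the Gorenstein conclusion.) -/
theorem result (k : Type u) [Field k] (n : ℕ)
    (G : Type u) [Group G] [Finite G] (hG : IsUnit ((Nat.card G : ℕ) : k))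
    (ρ : G →* Matrix.GeneralLinearGroup (Fin n) k)
    (hdet : ∀ g : G, Matrix.det ((ρ g : Matrix (Fin n) (Fin n) k)) = 1)
    [MulSemiringAction G (MvPolynomial (Fin n) k)]
    (hC : ∀ (g : G) (c : k), g • (MvPolynomial.C c : MvPolynomial (Fin n) k) = MvPolynomial.C c)
    (hX : ∀ (g : G) (i : Fin n), g • (MvPolynomial.X i : MvPolynomial (Fin n) k) =
      ∑ j : Fin n, (ρ g : Matrix (Fin n) (Fin n) k) j i • (MvPolynomial.X j : MvPolynomial (Fin n) k))
    (A : Type u) [CommRing A] [Algebra A (MvPolynomial (Fin n) k)]
    [SMulCommClass G A (MvPolynomial (Fin n) k)] [Algebra.IsInvariant A (MvPolynomial (Fin n) k) G]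
    [FaithfulSMul A (MvPolynomial (Fin n) k)] :
    LocCoh.IsGorensteinRing A := by
  classical
  let S := MvPolynomial (Fin n) k
  let P : Ideal S := MvPolynomial.idealOfVars (Fin n) k
  have hinj : Function.Injective (algebraMap A S) := FaithfulSMul.algebraMap_injective A S
  have hb : ∀ c : k, ∃ b : A, algebraMap A S b = MvPolynomial.C c := fun c =>
    Algebra.IsInvariant.isInvariant (A := A) (B := S) (G := G) _ fun g => hC g c
  choose φ₀ hφ₀ using hb
  let φ : k →+* A :=
    { toFun := φ₀
      map_one' := hinj (by simp [hφ₀])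
      map_zero' := hinj (by simp [hφ₀])
      map_add' := fun x y => hinj (by simp [hφ₀])
      map_mul' := fun x y => hinj (by simp [hφ₀]) }
  have hφ : ∀ c, algebraMap A S (φ c) = MvPolynomial.C c := hφ₀
  have hu : IsUnit ((Nat.card G : ℕ) : A) := by
    rw [← map_natCast φ]; exact hG.map φ
  let M : G → Matrix (Fin n) (Fin n) A := fun g => (ρ g : Matrix (Fin n) (Fin n) k).map φ
  have hmul : ∀ g h, M (g * h) = M g * M h := fun g h => by
    simp only [M, map_mul, Units.val_mul, Matrix.map_mul]
  have hdet' : ∀ g, (M g).det = 1 := fun g => by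
    show (φ.mapMatrix (ρ g : Matrix (Fin n) (Fin n) k)).det = 1
    rw [← RingHom.map_det, hdet, map_one]
  have hact : ∀ g i, g • (MvPolynomial.X i : S) = ∑ j, algebraMap A S (M g j i) * MvPolynomial.X j := fun g i => by
    rw [hX]
    exact Finset.sum_congr rfl fun j _ => by
      rw [MvPolynomial.smul_eq_C_mul, ← hφ]; rfl
  -- the maximal ideal of the origin
  have hPker : P = RingHom.ker (MvPolynomial.constantCoeff : S →+* k) := by
    ext p
    rw [RingHom.mem_ker, show p ∈ P ↔ p ∈ P ^ 1 by rw [pow_one], MvPolynomial.mem_pow_idealOfVars_iff',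
      MvPolynomial.constantCoeff_eq]
    exact ⟨fun h => h 0 (by simp), fun h x hx => by
      rw [(Finsupp.degree_eq_zero_iff x).1 (Nat.lt_one_iff.1 hx)]; exact h⟩
  haveI hPmax : P.IsMaximal := by
    rw [hPker]
    exact RingHom.ker_isMaximal_of_surjective _ fun c => ⟨MvPolynomial.C c, MvPolynomial.constantCoeff_C _ c⟩
  have hdim : ringKrullDim (Localization.AtPrime P) = n := by
    obtain ⟨d, -, hd, hloc⟩ := Groth.Agent.S2680.result k S
    rw [hloc P, ← hd, MvPolynomial.ringKrullDim_of_isNoetherianRing, ringKrullDim_eq_zero_of_field, zero_add]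
    simp
  haveI : IsRegularLocalRing (Localization.AtPrime P) :=
    isRegularRing_iff.mp (inferInstance : IsRegularRing S) P
  have hgor := H8Props.Watanabe.gor_atPrime_of_det hu P MvPolynomial.X rfl hdim M hmul hdet' hact
  -- the action is homogeneous
  let θ : G → S →ₐ[k] S := fun g =>
    { MulSemiringAction.toRingHom G S g with commutes' := fun c => hC g c }
  have hθ : ∀ g, θ g = MvPolynomial.aeval fun i => g • (MvPolynomial.X i : S) := fun g =>
    MvPolynomial.algHom_ext fun i => by
      rw [MvPolynomial.aeval_X]
      rfl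
  have hhom : ∀ (g : G) (e : ℕ) (f : S), f.IsHomogeneous e → (g • f).IsHomogeneous e := fun g e f hf => by
    show (θ g f).IsHomogeneous e
    rw [hθ]
    have h1 := hf.aeval (fun i => g • (MvPolynomial.X i : S)) (n := 1) fun i => by
      rw [hX]
      exact MvPolynomial.IsHomogeneous.sum _ _ _ fun j _ => by
        rw [MvPolynomial.smul_eq_C_mul]
        exact (MvPolynomial.isHomogeneous_X k j).C_mul _
    rwa [one_mul] at h1
  have hcomm : ∀ (g : G) (e : ℕ) (f : S),
      MvPolynomial.homogeneousComponent e (g • f) = g • MvPolynomial.homogeneousComponent e f := fun g e f => by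
    conv_lhs => rw [← MvPolynomial.sum_homogeneousComponent f, Finset.smul_sum, map_sum]
    rw [Finset.sum_congr rfl fun i _ => MvPolynomial.homogeneousComponent_of_mem
      (hhom g i _ (MvPolynomial.homogeneousComponent_isHomogeneous i f))]
    rw [Finset.sum_ite_eq]
    split_ifs with he
    · rfl
    · rw [MvPolynomial.homogeneousComponent_eq_zero e f (by simpa using he), smul_zero]
  have hcomp : ∀ (a : A) (e : ℕ), ∃ b : A,
      algebraMap A S b = MvPolynomial.homogeneousComponent e (algebraMap A S a) := fun a e =>
    Algebra.IsInvariant.isInvariant (A := A) (B := S) (G := G) _ fun g => by rw [← hcomm, smul_algebraMap]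
  obtain ⟨hGR, hzero⟩ := H8Props.Watanabe.exists_gradedRing hinj hcomp
  letI := hGR
  let 𝒜 := H8Props.Watanabe.pieces (A := A) (k := k) (σ := Fin n)
  have hmem : ∀ a : A, a ∈ P.under A ↔ (DirectSum.decompose 𝒜 a 0 : A) = 0 := fun a => by
    rw [Ideal.under, Ideal.mem_comap, hPker, RingHom.mem_ker, MvPolynomial.constantCoeff_eq]
    refine ⟨fun h => hinj ?_, fun h => ?_⟩
    · rw [← hzero a, MvPolynomial.homogeneousComponent_zero, h, map_zero, map_zero]
    · have := hzero a
      rw [h, map_zero, MvPolynomial.homogeneousComponent_zero] at this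
      exact (MvPolynomial.C_eq_zero).1 this
  let m : HomogeneousIdeal 𝒜 := ⟨P.under A, fun i a ha => by
    rw [hmem] at ha ⊢
    rcases eq_or_ne i 0 with rfl | hi
    · rw [DirectSum.decompose_coe, DirectSum.of_eq_same]
      exact ha
    · rw [DirectSum.decompose_coe, DirectSum.of_eq_of_ne _ _ _ hi.symm]
      simp⟩
  have hle : ∀ J : HomogeneousIdeal 𝒜, J ≠ ⊤ → J ≤ m := fun J hJ a ha => by
    show a ∈ P.under A
    rw [hmem]
    by_contra h0
    have h1 := J.isHomogeneous 0 ha
    have e := hzero a
    rw [MvPolynomial.homogeneousComponent_zero] at e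
    set c := MvPolynomial.coeff 0 (algebraMap A S a) with hc
    have e2 : (DirectSum.decompose 𝒜 a 0 : A) = φ c := hinj (by rw [← e, hφ])
    rw [e2] at h0 h1
    have hc0 : c ≠ 0 := fun h => h0 (by rw [h, map_zero])
    refine hJ (HomogeneousIdeal.toIdeal_injective ?_)
    rw [HomogeneousIdeal.toIdeal_top]
    exact Ideal.eq_top_of_isUnit_mem _ h1 ((isUnit_iff_ne_zero.2 hc0).map φ)
  have hmtop : m ≠ ⊤ := fun h => (inferInstance : (P.under A).IsPrime).ne_top
    ((congrArg HomogeneousIdeal.toIdeal h).trans HomogeneousIdeal.toIdeal_top)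
  have hm : GrLC.IsStarLocal 𝒜 m := by
    refine ⟨⟨hmtop, fun J hJ => by_contra fun h => hJ.not_ge (hle J h)⟩, fun J hJ => ?_⟩
    exact ((hJ.le_iff.1 (hle J hJ.1)).resolve_left hmtop).symm
  haveI : IsNoetherianRing A := by
    obtain ⟨π, hπ⟩ := H8Props.Watanabe.exists_average (A := A) (S := S) (G := G) hu
    exact H8Props.Watanabe.isNoetherianRing_of_retraction hπ
  haveI : m.toIdeal.IsPrime := (inferInstance : (P.under A).IsPrime)
  exact H4GD.isGorensteinRing_of_localization (m := m) hm hgor

end Groth.Agent.S11148
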