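import Groth.Statements.S11156
import Groth.Agent.H10Inj.Local
-- import your own Groth.Agent.* helpers here

set_option autoImplicit false
universe u
open CategoryTheory CategoryTheory.Limits AlgebraicGeometry
open Coherent

namespace Groth.Agent.S11156

open AlgebraicGeometry CategoryTheory

/-- Let X be a scheme and F an O_X-module. If every point of X has an open neighbourhood U such that
F|_U is an injective object of the category of O_U-modules, then F is an injective object of the
category of O_X-modules. -/
theorem result {X : Scheme.{u}} (F : X.Modules)
    (hF : ∀ x : X, ∃ U : X.Opens, x ∈ U ∧ Injective ((Scheme.Modules.restrictFunctor U.ι).obj F)) :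
    Injective F := by
  exact H10Inj.injective_of_locally F hF

end Groth.Agent.S11156
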