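import Groth.Statements.S1116
import Groth.Agent.H16Derived.Dual.PseudoCoh

set_option autoImplicit false
universe u
open CategoryTheory CategoryTheory.Limits AlgebraicGeometry Opposite
attribute [local instance] HasDerivedCategory.standard
open Perf

namespace Groth.Agent.S1116

open Groth.Agent.H16Derived DerivedCategory.TStructure

/-- Let X be a locally Noetherian scheme, K a cochain complex of O_X-modules whose image in D(O_X) is
bounded above with coherent cohomology sheaves, and L ∈ D(O_X) bounded below with coherent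
cohomology sheaves. Assuming - ⊗^L K and RHom(K, -) exist, RHom(K, L) is bounded below with coherent
cohomology sheaves. -/
theorem result (X : Scheme.{u}) [IsLocallyNoetherian X] (K : CochainComplex X.Modules ℤ) (b : ℤ) [(DCoh.toD X K).IsLE b]
    (hK : DCoh.IsCohD (DCoh.toD X K)) [DCoh.HasLTensorCx K] [DCoh.HasRSheafHom K] (L : DCoh.D X) (a : ℤ) [L.IsGE a] (hL : DCoh.IsCohD L) :
    DCoh.IsCohD ((DCoh.RSheafHom K).obj L) ∧ ∃ a' : ℤ, ((DCoh.RSheafHom K).obj L).IsGE a' := by
  have hk := Dual.isPseudoCoherentD_of_isCohD b hK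
  refine ⟨Dual.isCohD_iso ((Dual.rsheafHomIso K).app L).symm (Dual.isCohD_R hk hL a), a - b, ?_⟩
  haveI : ((Dual.R (DCoh.toD X K)).obj L).IsGE (a - b) := Dual.isGE_R b L a
  exact DerivedCategory.TStructure.t.isGE_of_iso ((Dual.rsheafHomIso K).app L).symm (a - b)

end Groth.Agent.S1116
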