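import Groth.Statements.S11160
import Groth.Agent.H16Derived.Res.ThickSub

set_option autoImplicit false
universe w w' v v' u u'
open CategoryTheory CategoryTheory.Limits
open CohDer

namespace Groth.Agent.S11160

/-- Let ι : A' ⥤ A be an exact fully faithful functor of abelian categories whose essential image is
closed under extensions (a thick abelian subcategory), and suppose every object of A' admits a
monomorphism into an object of A' whose image in A is injective (A' has enough A-injectives). Then
the induced triangulated functor D(A') ⥤ D(A) is fully faithful on cohomologically bounded below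
objects. -/
theorem result {A' : Type u'} [Category.{v'} A'] [Abelian A'] [HasDerivedCategory.{w'} A']
    {A : Type u} [Category.{v} A] [Abelian A] [HasDerivedCategory.{w} A]
    (ι : A' ⥤ A) [ι.Additive] [PreservesFiniteLimits ι] [PreservesFiniteColimits ι] [ι.Full] [ι.Faithful]
    (hext : ∀ S : ShortComplex A, S.ShortExact → ι.essImage S.X₁ → ι.essImage S.X₃ → ι.essImage S.X₂)
    (hinj : ∀ X' : A', ∃ (Y' : A') (i : X' ⟶ Y'), Mono i ∧ Injective (ι.obj Y'))
    (X Y : DerivedCategory A') (a b : ℤ) [X.IsGE a] [Y.IsGE b] :
    Function.Bijective (fun f : X ⟶ Y => ι.mapDerivedCategory.map f) := by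
  exact Groth.Agent.H16Derived.Res.bijective_mapDerivedCategory ι hext hinj X Y b

end Groth.Agent.S11160
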