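import Groth.Statements.S11166
import Groth.Agent.H16Derived.Res.ThickSub
import Groth.Agent.H10Inj.Embed
import Groth.Agent.H10Coh.QCohExt
import Groth.Agent.H10Coh.QCohOps
-- import your own Groth.Agent.* helpers here

set_option autoImplicit false
universe u
open CategoryTheory CategoryTheory.Limits AlgebraicGeometry
attribute [local instance] HasDerivedCategory.standard
open Coherent

namespace Groth.Agent.S11166

/-- For a locally Noetherian scheme X the natural functor D⁺(QCoh(X)) ⥤ D⁺_qc(O_X) is an equivalence:
granting that quasi-coherent modules form an abelian full subcategory of all O_X-modules with exact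
inclusion (instance hypotheses that always hold), the induced functor D(QCoh(X)) ⥤ D(O_X) is fully
faithful on cohomologically bounded below objects, and every object of D(O_X) with Hⁱ = 0 for i < a
and quasi-coherent cohomology sheaves is isomorphic to the image of an object of D(QCoh(X)) with Hⁱ
= 0 for i < a. -/
theorem result (X : Scheme.{u}) [IsLocallyNoetherian X]
    [ObjectProperty.ContainsZero (fun M : X.Modules => Coh.IsQCoh M)] [ObjectProperty.IsClosedUnderKernels (fun M : X.Modules => Coh.IsQCoh M)]
    [ObjectProperty.IsClosedUnderCokernels (fun M : X.Modules => Coh.IsQCoh M)] [ObjectProperty.IsClosedUnderFiniteProducts (fun M : X.Modules => Coh.IsQCoh M)]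
    [PreservesFiniteLimits (ObjectProperty.ι (fun M : X.Modules => Coh.IsQCoh M))] [PreservesFiniteColimits (ObjectProperty.ι (fun M : X.Modules => Coh.IsQCoh M))] :
    (∀ (M N : DerivedCategory (ObjectProperty.FullSubcategory (fun M : X.Modules => Coh.IsQCoh M))) (a b : ℤ), M.IsGE a → N.IsGE b →
        Function.Bijective (fun f : M ⟶ N => (ObjectProperty.ι (fun M : X.Modules => Coh.IsQCoh M)).mapDerivedCategory.map f)) ∧
      ∀ (K : DCoh.D X) (a : ℤ), K.IsGE a → DCoh.IsQCohD K →
        ∃ M : DerivedCategory (ObjectProperty.FullSubcategory (fun M : X.Modules => Coh.IsQCoh M)), M.IsGE a ∧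
          Nonempty ((ObjectProperty.ι (fun M : X.Modules => Coh.IsQCoh M)).mapDerivedCategory.obj M ≅ K) := by
  let P : ObjectProperty X.Modules := fun M => Coh.IsQCoh M
  have hess : ∀ M : X.Modules, (ObjectProperty.ι P).essImage M ↔ Coh.IsQCoh M := fun M =>
    ⟨fun ⟨M', ⟨e⟩⟩ => by
      haveI : ((ObjectProperty.ι P).obj M').IsQuasicoherent := M'.property
      exact H10Coh.isQuasicoherent_of_iso e, fun h => ⟨⟨M, h⟩, ⟨Iso.refl _⟩⟩⟩
  have hext : ∀ S : ShortComplex X.Modules, S.ShortExact → (ObjectProperty.ι P).essImage S.X₁ →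
      (ObjectProperty.ι P).essImage S.X₃ → (ObjectProperty.ι P).essImage S.X₂ := fun S hS h1 h3 => by
    haveI : S.X₁.IsQuasicoherent := (hess _).1 h1
    haveI : S.X₃.IsQuasicoherent := (hess _).1 h3
    exact (hess _).2 (H10Coh.isQuasicoherent_X₂ hS)
  have hinj : ∀ X' : ObjectProperty.FullSubcategory P, ∃ (Y' : ObjectProperty.FullSubcategory P) (i : X' ⟶ Y'),
      Mono i ∧ Injective ((ObjectProperty.ι P).obj Y') := fun X' => by
    haveI : X'.obj.IsQuasicoherent := X'.property
    obtain ⟨E, g, hg, hE, hEq⟩ := H10Inj.exists_mono_injective X'.obj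
    exact ⟨⟨E, hEq⟩, ObjectProperty.homMk g,
      (ObjectProperty.ι P).mono_of_mono_map (show Mono g from hg), hE⟩
  refine ⟨fun M N a b _ hN => ?_, fun K a hK hq => ?_⟩
  · haveI := hN
    exact H16Derived.Res.bijective_mapDerivedCategory (ObjectProperty.ι P) hext hinj M N b
  · haveI := hK
    obtain ⟨I, hI, -, e⟩ := H16Derived.Res.exists_iso_mapDerivedCategory (ObjectProperty.ι P) hext hinj K a
      fun i => (hess _).2 (hq i)
    haveI := hI
    haveI : I.IsGE a := inferInstance
    exact ⟨DerivedCategory.Q.obj I, inferInstance, e⟩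


end Groth.Agent.S11166
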