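import Groth.Statements.S11167
import Groth.Agent.H10Inj.StructureNoetherian
-- import your own Groth.Agent.* helpers here

set_option autoImplicit false
universe u
open CategoryTheory CategoryTheory.Limits AlgebraicGeometry
open Coherent

namespace Groth.Agent.S11167

/-- Let X be a Noetherian scheme and G ⟶ O_X a sub-O_X-module of the structure sheaf (a sheaf of ideals,
not necessarily quasi-coherent). Then there are finitely many opens U_i of X and finitely many
sections s_{ij} ∈ G(U_i) such that for every point x of X the germs at x of those s_{ij} with x ∈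
U_i generate the stalk G_x as an O_{X,x}-module. -/
theorem result {X : Scheme.{u}} [IsNoetherian X]
    (G : X.Modules) (ι : G ⟶ Coh.structureModule X) [Mono ι] :
    ∃ (m : ℕ) (U : Fin m → X.Opens) (k : Fin m → ℕ)
      (s : (i : Fin m) → Fin (k i) → (G.presheaf.obj (Opposite.op (U i)) : Type u)),
      ∀ x : X, Submodule.span (X.presheaf.stalk x)
          (Set.range (fun p : (Σ i : {i : Fin m // x ∈ U i}, Fin (k i.1)) =>
            (G.presheaf.germ (U p.1.1) x p.1.2) (s p.1.1 p.2))) = ⊤ := by
  classical
  obtain ⟨F, hF⟩ := Groth.Agent.H10Inj.exists_finset_span_eq_top G ι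
  let e := F.equivFin.symm
  refine ⟨F.card, fun i => (e i).1.1, fun _ => 1, fun i _ => (e i).1.2, fun x => ?_⟩
  refine eq_top_iff.2 ((hF x).ge.trans (Submodule.span_mono ?_))
  rintro _ ⟨⟨p, hp⟩, rfl⟩
  obtain ⟨i, rfl⟩ := e.surjective p
  exact ⟨⟨⟨i, hp⟩, (0 : Fin 1)⟩, rfl⟩

end Groth.Agent.S11167
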