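import Groth.Statements.S11168
import Groth.Agent.H16Derived.Res.Unbounded

set_option autoImplicit false
universe v u
open CategoryTheory CategoryTheory.Limits
open CohDer

namespace Groth.Agent.S11168

open scoped ZeroObject

/-- Let A be an abelian category and P a class of objects of A such that (i) every object admits a
monomorphism into an object of P; (ii) in a short exact sequence 0 → X → Y → Z → 0 with X in P, Y
lies in P if and only if Z does; (iii) for some n ≥ 1, whenever X⁰ → X¹ → ⋯ → Xⁿ → 0 is exact (a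
cochain complex indexed by ℕ, exact in degrees 1, …, n, zero beyond degree n, with surjective last
differential) and X⁰, …, Xⁿ⁻¹ lie in P, then Xⁿ lies in P. Then every cochain complex of objects of
A admits a quasi-isomorphism into a cochain complex whose terms all lie in P. -/
theorem result {A : Type u} [Category.{v} A] [Abelian A]
    (P : ObjectProperty A)
    (h1 : ∀ X : A, ∃ (Y : A) (i : X ⟶ Y), P Y ∧ Mono i)
    (h2 : ∀ S : ShortComplex A, S.ShortExact → P S.X₁ → (P S.X₂ ↔ P S.X₃))
    (n : ℕ) (hn : 1 ≤ n)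
    (h3 : ∀ K : CochainComplex A ℕ, (∀ i : ℕ, 1 ≤ i → i ≤ n → K.ExactAt i) → (∀ i : ℕ, n < i → IsZero (K.X i)) →
      Epi (K.d (n - 1) n) → (∀ i : ℕ, i < n → P (K.X i)) → P (K.X n))
    (X : CochainComplex A ℤ) :
    ∃ (I : CochainComplex A ℤ) (f : X ⟶ I), QuasiIso f ∧ ∀ k : ℤ, P (I.X k) := by
  have hP0 : P (0 : A) := by
    obtain ⟨Y, -, hY, -⟩ := h1 0
    have hS : (ShortComplex.mk (𝟙 Y) (0 : Y ⟶ (0 : A)) comp_zero).ShortExact :=
      { exact := ShortComplex.exact_of_g_is_cokernel _ (CokernelCofork.IsColimit.ofπ _ _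
          (fun h _ => 0) (fun {Z} h hh => by rw [comp_zero]; exact ((Category.id_comp h).symm.trans hh).symm)
          (fun h _ m _ => (isZero_zero A).eq_of_src _ _))
        epi_g := ⟨fun g h _ => (isZero_zero A).eq_of_src _ _⟩
        mono_f := inferInstance }
    exact (h2 _ hS hY).1 hY
  have hiso : ∀ {U V : A}, (U ≅ V) → P U → P V := fun {U V} e hU => by
    have hS : (ShortComplex.mk (0 : (0 : A) ⟶ U) e.hom zero_comp).ShortExact :=
      { exact := (ShortComplex.exact_iff_mono _ rfl).2 (inferInstanceAs (Mono e.hom))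
        mono_f := ⟨fun g h _ => (isZero_zero A).eq_of_tgt _ _⟩
        epi_g := inferInstanceAs (Epi e.hom) }
    exact (h2 _ hS hP0).1 hU
  exact Groth.Agent.H16Derived.Res.exists_quasiIso (fun Y => P Y) h1
    (fun U V hU hV => (h2 _ (ShortComplex.Splitting.ofHasBinaryBiproduct U V).shortExact hU).2 hV)
    hiso n h3 hn X

end Groth.Agent.S11168
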