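import Groth.Statements.S11169
import Groth.Agent.H10Coh.Untwist.Basic
import Groth.Agent.H22Alg.RegBundle
import Groth.Agent.H22Alg.RegSheaf
import Groth.Agent.H23KS.TwistEquiv
import Groth.Agent.H8Props.AmpleBatch
import Groth.Agent.H10Coh.QcqsPush
-- import your own Groth.Agent.* helpers here

set_option autoImplicit false
universe u
open CategoryTheory CategoryTheory.Limits AlgebraicGeometry
open Coherent

namespace Groth.Agent.S11169

/-- Let Y be a locally Noetherian scheme, f : P^n_Y ⟶ Y the projection and F a quasi-coherent module on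
P^n_Y. Then there are quasi-coherent O_Y-modules G_j, integers m_j > 0 and an epimorphism ∐_j
f^*(G_j) ⊗ O(-m_j) ⟶ F. -/
theorem result (Y : Scheme.{u}) [IsLocallyNoetherian Y]
    (n : ℕ) (F : (CohB1.ProjSpaceOver n Y).Modules) (hF : Coh.IsQCoh F) :
    ∃ (ι : Type u) (G : ι → Y.Modules) (m : ι → ℕ)
      (p : (∐ fun j => CohB1.tensorMod ((Scheme.Modules.pullback (CohB1.ProjSpaceOver.toBase n Y)).obj (G j))
        (Twist.twistOver n Y (-((m j : ℕ) : ℤ)))) ⟶ F),
      (∀ j, Coh.IsQCoh (G j)) ∧ (∀ j, 0 < m j) ∧ Epi p := by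
  let f := CohB1.ProjSpaceOver.toBase n Y
  let L := Twist.twistOver n Y 1
  have hA : RelAmple.IsRelAmple f L := H8Props.Ample.isRelAmple_twistOver n Y
  have hL : PicF.IsInvertible L := H11Ample.isInvertible_of_isRelAmple hA
  let B : ℕ → (CohB1.ProjSpaceOver n Y).Modules := fun k => Twist.twistOver n Y (-((k : ℕ) : ℤ))
  have hψ : ∀ k, Nonempty (CohB1.tensorMod (CohB1.tensorPow L k) (B k) ≅
      Coh.structureModule (CohB1.ProjSpaceOver n Y)) := fun k => by
    obtain ⟨a⟩ := H22Alg.RegBundle.nonempty_tensorPow_twist (n := n) (Y := Y) k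
    obtain ⟨b⟩ := H22Alg.RegSheaf.nonempty_twistOver_add (n := n) (T := Y) (k : ℤ) (-((k : ℕ) : ℤ)) 0 (by ring)
    obtain ⟨z⟩ := H23KS.TwistEquiv.nonempty_twistOver_zero n Y
    exact ⟨PicGrp.tensorModIso a (Iso.refl _) ≪≫ b ≪≫ z⟩
  let ψ := fun k => (hψ k).some
  refine ⟨ULift.{u} ℕ, fun j => (Scheme.Modules.pushforward f).obj (CohB1.tensorMod F (CohB1.tensorPow L (j.down + 1))),
    fun j => j.down + 1, Sigma.desc fun j => H10Coh.Untwist.untwist f F B ψ (j.down + 1), fun j => ?_,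
    fun j => Nat.succ_pos _, ?_⟩
  · haveI : (CohB1.tensorMod F (CohB1.tensorPow L (j.down + 1))).IsQuasicoherent :=
      H11Ample.isQCoh_tensor hF (H11Ample.isInvertible_tensorPow hL _)
    exact H10Coh.isQuasicoherent_pushforward f _
  · exact H10Coh.Untwist.epi_desc_untwist f F B ψ hA (fun k => H22Alg.RegSheaf.isInvertible_twistOver _) hF
      (fun j : ULift.{u} ℕ => j.down + 1) (fun N => ⟨⟨N⟩, Nat.le_succ N⟩)


end Groth.Agent.S11169
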