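import Groth.Statements.S11170
import Groth.Agent.H10Coh.PnTensor.Main
-- import your own Groth.Agent.* helpers here

set_option autoImplicit false
universe u
open CategoryTheory CategoryTheory.Limits AlgebraicGeometry
open Coherent

namespace Groth.Agent.S11170

/-- Let Y be a locally Noetherian scheme, f : P^n_Y ⟶ Y the projection, G_j quasi-coherent O_Y-modules
and m_j > 0. Then the direct sum L = ∐_j f^*(G_j) ⊗ O(-m_j) has R^i f_*(L) = 0 (higher direct images
of the underlying abelian sheaf) for every i ≠ n. -/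
theorem result (Y : Scheme.{u}) [IsLocallyNoetherian Y]
    (n : ℕ) {ι : Type u} (G : ι → Y.Modules) (hG : ∀ j, Coh.IsQCoh (G j)) (m : ι → ℕ) (hm : ∀ j, 0 < m j)
    (i : ℕ) (hi : i ≠ n) :
    IsZero ((Coh.RpushAb (CohB1.ProjSpaceOver.toBase n Y) i).obj (Coh.toAb
      (∐ fun j => CohB1.tensorMod ((Scheme.Modules.pullback (CohB1.ProjSpaceOver.toBase n Y)).obj (G j))
        (Twist.twistOver n Y (-((m j : ℕ) : ℤ)))))) := by
  exact H10Coh.PnTensor.isZero_rpushAb G hG (fun j => -((m j : ℕ) : ℤ)) (fun j => by have := hm j; omega) i hi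

end Groth.Agent.S11170
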