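import Groth.Statements.S11177
import Groth.Agent.H4DR.Dualizing.GorensteinFibre
import Groth.Agent.H02CA.GorRing
import Groth.Agent.H02CA.SmoothRegular

set_option autoImplicit false
universe u
open CategoryTheory
attribute [local instance] HasDerivedCategory.standard
open Dual

namespace Groth.Agent.S11177

/-- Let A be a Noetherian ring, A → B a smooth ring homomorphism (formally smooth and of finite
presentation), and ω a dualizing complex for A. Assuming the derived base change functor D(A) → D(B)
(the total left derived functor of extension of scalars) exists, the derived base change ω ⊗^L_A B
is a dualizing complex for B. (The published statement is for a smooth morphism of finite type to a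
Noetherian scheme and concludes that the pull-back of a dualizing complex twisted by the top
relative differentials, shifted by the relative dimension, is dualizing; removing that invertible
twist does not affect being dualizing.) -/
theorem result (A B : Type u) [CommRing A] [CommRing B] [Algebra A B] [IsNoetherianRing A] [Algebra.Smooth A B] [DRing.HasLBaseChange (algebraMap A B)] (ω : Dual.D A) (hω : Dual.IsDualizing A ω) : Dual.IsDualizing B ((DRing.LBaseChange (algebraMap A B)).obj ω) := by
  classical
  haveI : IsNoetherianRing B := Algebra.FiniteType.isNoetherianRing A B
  refine H4DR.Dualizing.isDualizing_of_iso (H4DR.FlatBC.lbaseIso ω).symm (H4DR.Dualizing.isDualizing_FD_of_fibres hω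
    (H4DR.Dualizing.ringKrullDim_lt_top_of_finiteType (H4DR.Dualizing.ringKrullDim_lt_top hω)) fun p => ?_)
  haveI : IsRegularRing (p.asIdeal.Fiber B) := H02CA.isRegularRing_of_smooth p.asIdeal.ResidueField (p.asIdeal.Fiber B)
  exact H02CA.GorFlat.isGorensteinRing_of_isRegularRing _

end Groth.Agent.S11177
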