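import Groth.Statements.S11179
import Groth.Agent.H4DR.Dualizing.Gorenstein

set_option autoImplicit false
universe u
open CategoryTheory
attribute [local instance] HasDerivedCategory.standard
open Goren

namespace Groth.Agent.S11179

/-- A Noetherian local ring A is Gorenstein (A has finite injective dimension as a module over itself)
if and only if the complex A[0] is a dualizing complex for A (finite injective dimension expressed
by vanishing of maps M[0] → A[i] in D(A) outside a bounded range, finite cohomology, A → End(A[0])
bijective and no self-maps of nonzero degree). -/
theorem result (A : Type u) [CommRing A] [IsLocalRing A] [IsNoetherianRing A] : LocCoh.IsGorensteinLocalRing A ↔ Dual.IsDualizing A (Dual.inD A A) := by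
  refine ⟨fun h => ?_, H4DR.Dualizing.isGorenstein_of_isDualizing_inD⟩
  obtain ⟨N, hN⟩ := h.exists_hasInjectiveDimensionLT
  exact H4DR.Dualizing.isDualizing_inD_self N

end Groth.Agent.S11179
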