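import Groth.Statements.S1118
import Groth.Agent.H16Derived.ProjFormula.DQc

set_option autoImplicit false
universe u
open CategoryTheory CategoryTheory.Limits AlgebraicGeometry Opposite
attribute [local instance] HasDerivedCategory.standard
open Perf

namespace Groth.Agent.S1118

open Groth.Agent.H16Derived Groth.Agent.H16Derived.KFlat.Stalk

/-- Let f : X ⟶ Y be quasi-compact and quasi-separated, E ∈ D(O_X) with quasi-coherent cohomology
sheaves, K a cochain complex of O_Y-modules whose image in D(O_Y) has quasi-coherent cohomology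
sheaves, and M a cochain complex of O_X-modules representing Lf^*K. Assuming the derived functors
involved exist, Rf_*(E) ⊗^L K and Rf_*(E ⊗^L M) are isomorphic in D(O_Y). (The source proves that
the canonical projection-formula map is an isomorphism; only the existence of an isomorphism is
asserted here.) -/
theorem result {X Y : Scheme.{u}} (f : X ⟶ Y) [QuasiCompact f] [QuasiSeparated f] [DCoh.HasRpush f] [DCoh.HasLpull f]
    (E : DCoh.D X) (hE : DCoh.IsQCohD E) (K : CochainComplex Y.Modules ℤ) (hK : DCoh.IsQCohD (DCoh.toD Y K)) [DCoh.HasLTensorCx K]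
    (M : CochainComplex X.Modules ℤ) (hM : Nonempty (DCoh.toD X M ≅ (DCoh.Lpull f).obj (DCoh.toD Y K))) [DCoh.HasLTensorCx M] :
    Nonempty ((DCoh.LTensorCx K).obj ((DCoh.Rpush f).obj E) ≅ (DCoh.Rpush f).obj ((DCoh.LTensorCx M).obj E)) := by
  haveI := isGrothendieckAbelian_modules (X := X)
  obtain ⟨N, j, hN⟩ := KInjRes.exists_resolution_functor (A := X.Modules)
  let C := DerivedCategory.Q.objPreimage E
  let I := N.obj C
  haveI : I.IsKInjective := (hN C).2.2.1
  haveI : IsIso (DerivedCategory.Q.map (j.app C)) := KFlat.Stalk.isIso_Q_map _ (hN C).2.1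
  let eI : DerivedCategory.Q.obj I ≅ E :=
    (asIso (DerivedCategory.Q.map (j.app C))).symm ≪≫ DerivedCategory.Q.objObjPreimageIso E
  have hI : DCoh.IsQCohD (DerivedCategory.Q.obj I) := QCohD.isQCohD_iso eI.symm hE
  haveI := ProjFormula.isIso_η₀ f I
  haveI := ProjFormula.isIso_θ_of_isQCohD f I hI (DCoh.toD Y K) hK
  obtain ⟨eM⟩ := hM
  exact ⟨(DCoh.LTensorCx K).mapIso ((DCoh.Rpush f).mapIso eI.symm ≪≫ (asIso ((ProjFormula.η₀ f).app I)).symm) ≪≫
    ((Dual.ltensorCxIsoT K).app _).symm ≪≫ asIso ((ProjFormula.θ f I).app (DCoh.toD Y K)) ≪≫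
    (DCoh.Rpush f).mapIso (((Dual.T X).obj _).mapIso eM.symm ≪≫ (Dual.ltensorCxIsoT M).app _ ≪≫
      (DCoh.LTensorCx M).mapIso eI)⟩

end Groth.Agent.S1118
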