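import Groth.Statements.S11180
import Groth.Agent.H05EGA4.Regular2
import Mathlib.RingTheory.AdicCompletion.LocalRing
import Mathlib.RingTheory.AdicCompletion.AsTensorProduct
import Mathlib.RingTheory.Localization.BaseChange
import Mathlib.RingTheory.Flat.FaithfullyFlat.Algebra

set_option autoImplicit false
universe u
open scoped TensorProduct
open CAlg

namespace Groth.Agent.S11180

open TensorProduct IsLocalRing

/-- Let A be a Noetherian ring and M an A-module. If an element m of M is such that 1 ⊗ m = 0 in B ⊗_A M
for every A-algebra B which is a complete Noetherian local ring, flat over A, then m = 0.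
(Equivalently the natural map from M to the limit of the modules B ⊗_A M over all such B is
injective.) -/
theorem result (A : Type u) [CommRing A] [IsNoetherianRing A] (M : Type u) [AddCommGroup M] [Module A M] (m : M) (h : ∀ (B : Type u) [CommRing B] [Algebra A B] [IsNoetherianRing B] [IsLocalRing B], IsAdicComplete (IsLocalRing.maximalIdeal B) B → Module.Flat A B → (1 : B) ⊗ₜ[A] m = 0) : m = 0 := by
  refine Module.eq_zero_of_localization_maximal (fun (P : Ideal A) [P.IsMaximal] => LocalizedModule P.primeCompl M)
    (fun P _ => LocalizedModule.mkLinearMap P.primeCompl M) _ fun P _ => ?_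
  let L := Localization.AtPrime P
  let B := AdicCompletion (maximalIdeal L) L
  haveI : IsNoetherianRing B := Groth.Agent.H05EGA4.isNoetherianRing_adicCompletion L _
  haveI : IsLocalHom (algebraMap L B) := ((local_hom_TFAE (algebraMap L B)).out 0 2 rfl rfl).mpr
    (by rw [← AdicCompletion.maximalIdeal_eq_map])
  haveI : Module.FaithfullyFlat L B := Module.FaithfullyFlat.of_flat_of_isLocalHom
  haveI : Module.Flat A B := Module.Flat.trans A L B
  have h1 : (1 : B) ⊗ₜ[A] m = 0 := h B inferInstance inferInstance
  let e := Algebra.TensorProduct.cancelBaseChange A L B B A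
  have h2 : (1 : B) ⊗ₜ[L] ((1 : L) ⊗ₜ[A] m) = 0 := by
    apply (TensorProduct.AlgebraTensorModule.cancelBaseChange A L B B M).injective
    rw [TensorProduct.AlgebraTensorModule.cancelBaseChange_tmul, one_smul, h1, map_zero]
  have h3 : (1 : L) ⊗ₜ[A] m = 0 :=
    Module.FaithfullyFlat.tensorProduct_mk_injective (A := L) (B := B) (L ⊗[A] M)
      (by simpa using h2)
  have hb := IsLocalizedModule.isBaseChange P.primeCompl L (LocalizedModule.mkLinearMap P.primeCompl M)
  have := congrArg hb.equiv h3
  rwa [map_zero, IsBaseChange.equiv_tmul, one_smul] at this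

end Groth.Agent.S11180
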