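import Groth.Statements.S11188
import Groth.Agent.H19Obs.RegRep

set_option autoImplicit false
universe u
open CategoryTheory MonoidalCategory CartesianMonoidalCategory MonObj GrpObj AlgebraicGeometry
open scoped TensorProduct
open AGF

namespace Groth.Agent.S11188

open CategoryTheory.Limits
open Groth.Agent.H27Witt Groth.Agent.H27Witt.Fn Groth.Agent.H19Obs


/-- (1) ⇔ (2) ⇔ (3): let k be an algebraically closed field, G a linear algebraic group over k (an
affine smooth group scheme over k) and H a closed subgroup of G (a smooth closed subgroup scheme, i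
: H → G). The following are equivalent: (i) H is observable in G, i.e. a rational point of G whose
right translation fixes every right-H-invariant global function on G lies in H; (ii) there are a
finite-dimensional rational G-module V and a vector v in V whose stabiliser, on rational points, is
H; (iii) there are finitely many right-H-invariant global functions on G which separate the cosets
gH: two rational points of G at which they all take the same values differ by right multiplication
by a rational point of H. -/
theorem result (k : Type u) [Field k] [IsAlgClosed k]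
    (G : Over (Spec (CommRingCat.of k))) [GrpObj G] [IsAffine G.left] [Smooth G.hom]
    (H : Over (Spec (CommRingCat.of k))) [GrpObj H] [Smooth H.hom] (i : H ⟶ G) [IsMonHom i]
    [IsClosedImmersion i.left] :
    List.TFAE [
      AGF.IsObservableIn k i,
      ∃ (V : Type u) (_ : AddCommGroup V) (_ : Module k V) (_ : Module.Finite k V) (ρ : VecGrp.GMod G V) (v : V),
        AGF.IsStabOnPts k i ρ v,
      ∃ s : Finset Γ(G.left, ⊤), (∀ f ∈ s, AGF.IsRTransInv i f) ∧
        ∀ g g' : VecGrp.pt k k ⟶ G, (∀ f ∈ s, g.left.appTop f = g'.left.appTop f) →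
          ∃ h : VecGrp.pt k k ⟶ H, g' = g * (h ≫ i)] := by
  classical
  haveI : IsAffine H.left := isAffine_of_isAffineHom i.left
  tfae_have 1 → 3 := fun hobs => by
    obtain ⟨s, hs, hsep⟩ := exists_separating (k := k) i
    refine ⟨s, hs, fun g g' h => ?_⟩
    have h1 := hull_of_sep i (hsep (e0 ≫ g) (e0 ≫ g') fun f hf => (appTop_eq_iff g g' f).1 (h f hf))
    obtain ⟨h', hh'⟩ := hobs _ h1
    refine ⟨h', e0_cancel ?_⟩
    rw [hh', MonObj.comp_mul, ← Category.assoc e0, e0_e1, Category.id_comp, mul_inv_cancel_left]
  tfae_have 3 → 1 := by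
    rintro ⟨s, hs, hsep⟩ g hg
    obtain ⟨h, hh⟩ := hsep 1 g fun f hf => by
      have h1 := (isRTransInv_pt_iff g f).1 (hg f (hs f hf)) 1
      rw [_root_.one_mul] at h1
      exact (appTop_eq_iff 1 g f).2 (by rw [MonObj.comp_one, h1])
    exact ⟨h, by rw [hh, _root_.one_mul]⟩
  tfae_have 1 → 2 := fun hobs => by
    obtain ⟨s, hs, hsep⟩ := exists_separating (k := k) i
    obtain ⟨V, hfin, hsV, hV⟩ := exists_stable_finset (G := G) s
    obtain ⟨ρ, hρ⟩ := exists_gmod_pi hV (↥s)
    refine ⟨↥s → V, inferInstance, inferInstance, inferInstance, ρ, fun f => ⟨f.1, hsV f.1 f.2⟩, fun g => ?_⟩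
    rw [hρ]
    constructor
    · intro hfix
      have h1 := hull_of_sep i (x := 1) (x' := e0 ≫ g) (hsep 1 (e0 ≫ g) fun f hf => by
        rw [← ev_one_R (e0 ≫ g) f]
        exact (congrArg (ev 1) (hfix ⟨f, hf⟩)).symm)
      obtain ⟨h', hh'⟩ := hobs _ h1
      refine ⟨h', e0_cancel ?_⟩
      rw [hh', inv_one, _root_.one_mul, ← Category.assoc e0, e0_e1, Category.id_comp]
    · rintro ⟨h, rfl⟩ f
      refine ext_points fun z => ?_
      rw [ev_R, ← Category.assoc]
      exact (isRTransInv_iff i f.1).1 (hs f.1 f.2) z (e0 ≫ h)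
  tfae_have 2 → 1 := by
    rintro ⟨V, _, _, _, ρ, v, hv⟩ g hg
    refine (hv g).1 (Groth.Agent.S11191.result k G H i V ρ g hg v ?_)
    refine mem_fixedUnder_of_points i ρ v fun y => ?_
    exact (hv _).2 ⟨e1 ≫ y, Category.assoc _ _ _⟩
  tfae_finish

end Groth.Agent.S11188
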