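import Groth.Statements.S11189
import Groth.Agent.H19Obs.FiniteIndex
import Groth.Agent.H20Borel.Sections
import Groth.Agent.H12AlgSp.DescentLQF

set_option autoImplicit false
universe u
open CategoryTheory MonoidalCategory CartesianMonoidalCategory MonObj GrpObj AlgebraicGeometry
open scoped TensorProduct
open AGF

namespace Groth.Agent.S11189

open CategoryTheory.Limits
open Groth.Agent.H27Witt Groth.Agent.H27Witt.Fn Groth.Agent.H19Obs Groth.Agent.H19Grp.QuotientDesc

attribute [local instance 2000] Hom.group Hom.monoid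

theorem lqf_of_closed_points {k : Type u} [Field k] {X Y : Over (Sk k)} [LocallyOfFiniteType X.hom]
    [LocallyOfFiniteType Y.hom] (f : X ⟶ Y) [LocallyOfFiniteType f.left] [QuasiCompact f.left]
    (hinj : ∀ x x' : X.left, IsClosed {x} → IsClosed {x'} → f.left x = f.left x' → x = x') :
    LocallyQuasiFinite f.left := by
  haveI := LocallyOfFiniteType.jacobsonSpace X.hom
  haveI := LocallyOfFiniteType.jacobsonSpace Y.hom
  rw [← Scheme.Hom.quasiFiniteLocus_eq_top_iff]
  by_contra hne
  obtain ⟨x, hx, hxc⟩ := nonempty_inter_closedPoints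
    (Z := ((f.left.quasiFiniteLocus : Set X.left))ᶜ)
    (Set.nonempty_compl.2 fun h => hne (TopologicalSpace.Opens.ext h))
    f.left.quasiFiniteLocus.2.isClosed_compl.isLocallyClosed
  refine hx (Scheme.Hom.mem_quasiFiniteLocus.2 (Scheme.Hom.quasiFiniteAt_iff_isOpen_singleton_asFiber.2 ?_))
  have hy : IsClosed ({f.left x} : Set Y.left) := by
    have hm := Scheme.Hom.closePoints_subset_preimage_closedPoints f.left hxc
    exact hm
  have hfib : f.left ⁻¹' {f.left x} ⊆ {x} := by
    intro z hz
    by_contra hne'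
    obtain ⟨w, ⟨hw1, hw2⟩, hwc⟩ := nonempty_inter_closedPoints
      (Z := f.left ⁻¹' {f.left x} \ {x}) ⟨z, hz, hne'⟩
      ((hy.preimage f.left.continuous).isLocallyClosed.inter hxc.isOpen_compl.isLocallyClosed)
    exact hw2 (hinj w x hwc hxc hw1)
  have hsub : Subsingleton ↥(f.left.fiber (f.left x)) := by
    refine ⟨fun a b => (f.left.fiberHomeo (f.left x)).injective (Subtype.ext ?_)⟩
    exact (hfib (f.left.fiberHomeo (f.left x) a).2).trans (hfib (f.left.fiberHomeo (f.left x) b).2).symm
  rw [show ({f.left.asFiber x} : Set _) = Set.univ from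
    Set.eq_univ_of_forall fun a => Set.mem_singleton_iff.2 (Subsingleton.elim a _)]
  exact isOpen_univ


/-- Let k be an algebraically closed field, G a linear algebraic group over k (an affine smooth group
scheme over k) and H a closed subgroup of G (a smooth closed subgroup scheme, i : H → G), and let X,
with G-action a and base point o, be the quotient G/H. Then H is observable in G if and only if X is
quasi-affine (quasi-compact and an open subscheme of an affine scheme). -/
theorem result (k : Type u) [Field k] [IsAlgClosed k]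
    (G : Over (Spec (CommRingCat.of k))) [GrpObj G] [IsAffine G.left] [Smooth G.hom]
    (H : Over (Spec (CommRingCat.of k))) [GrpObj H] [Smooth H.hom] (i : H ⟶ G) [IsMonHom i]
    [IsClosedImmersion i.left]
    (X : Over (Spec (CommRingCat.of k))) (a : AlgGrp.Action G X) (o : 𝟙_ (Over (Spec (CommRingCat.of k))) ⟶ X)
    (hX : AGF.IsQuotient i X a o) :
    AGF.IsObservableIn k i ↔ X.left.IsQuasiAffine := by
  classical
  haveI : IsAffine H.left := isAffine_of_isAffineHom i.left
  haveI := hX.1
  haveI := hX.2.2.1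
  haveI : LocallyOfFiniteType G.hom := inferInstance
  haveI := lfp_orbitMap a o
  haveI : CompactSpace X.left := (a.orbitMap o).left.surjective.compactSpace (a.orbitMap o).left.continuous
  have hinvq : ∀ F : Fn X, AGF.IsRTransInv i (pull (a.orbitMap o) F) := fun F => by
    refine (isRTransInv_iff i _).2 fun x y => ?_
    rw [ev_pull, ev_pull, (comp_orbitMap_eq_iff a o i hX x (x * (y ≫ i))).2 ⟨y, rfl⟩]
  constructor
  · intro hobs
    obtain ⟨s, hs, hsep⟩ := exists_separating (k := k) i
    let B := Algebra.adjoin k (s : Set (Fn G))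
    let Z : Over (Sk k) := Over.mk (Spec.map (CommRingCat.ofHom (algebraMap k B)))
    haveI : IsAffine Z.left := inferInstanceAs (IsAffine (Spec _))
    haveI : Algebra.FiniteType k B := ⟨(Subalgebra.fg_top B).2 ⟨s, rfl⟩⟩
    haveI : LocallyOfFiniteType Z.hom := (HasRingHomProperty.Spec_iff (P := @LocallyOfFiniteType)).2
      (RingHom.finiteType_algebraMap.2 inferInstance)
    obtain ⟨φ, hφ⟩ := exists_hom (X := G) (Y := Z) (B.val.comp (specAlg B).symm.toAlgHom)
    have hval : ∀ b : B, pull φ (specAlg B b) = (b : Fn G) := fun b => by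
      rw [hφ]
      exact congrArg Subtype.val ((specAlg (k := k) B).symm_apply_apply b)
    have hBinv : ∀ (T : Over (Sk k)) (g : T ⟶ G) (h : T ⟶ H), ∀ b ∈ B, pull (g * (h ≫ i)) b = pull g b := by
      intro T g h b hb
      induction hb using Algebra.adjoin_induction with
      | mem f hf =>
        have h1 : pull ((G ◁ i) ≫ μ[G]) f = pull (fst G H) f := hs f hf
        have h2 := congrArg (pull (lift g h)) h1
        rw [pull_pull, pull_pull, lift_fst, ← Category.assoc, lift_whiskerLeft, ← Hom.mul_def] at h2
        exact h2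
      | algebraMap c => rw [AlgHom.commutes, AlgHom.commutes]
      | add a b _ _ ha hb => rw [map_add, map_add, ha, hb]
      | mul a b _ _ ha hb => rw [map_mul, map_mul, ha, hb]
    obtain ⟨f, hf, -⟩ := existsUnique_of_isQuotient a o i hX φ fun T g h => Fn.hom_ext (AlgHom.ext fun z => by
      obtain ⟨b, rfl⟩ := (specAlg (k := k) B).surjective z
      rw [← pull_pull, ← pull_pull, hval]
      exact hBinv T g h _ b.2)
    haveI : IsSeparated X.hom := H20Borel.isSeparated_of_isQuotient i a o hX
    haveI : LocallyOfFiniteType (f.left ≫ Z.hom) := by rw [Over.w]; infer_instance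
    haveI : LocallyOfFiniteType f.left := locallyOfFiniteType_of_comp _ Z.hom
    haveI : IsSeparated (f.left ≫ Z.hom) := by rw [Over.w]; infer_instance
    haveI : IsSeparated f.left := IsSeparated.of_comp _ Z.hom
    haveI : QuasiCompact f.left := (quasiCompact_iff_compactSpace f.left).2 inferInstance
    haveI : LocallyQuasiFinite f.left := by
      refine lqf_of_closed_points f fun x x' hx hx' e => ?_
      obtain ⟨p, rfl⟩ := exists_img (k := k) hx
      obtain ⟨p', rfl⟩ := exists_img (k := k) hx'
      obtain ⟨g, rfl⟩ : ∃ g : T0 k ⟶ G, g ≫ a.orbitMap o = p := H20Borel.exists_pt_lift (a.orbitMap o) p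
      obtain ⟨g', rfl⟩ : ∃ g : T0 k ⟶ G, g ≫ a.orbitMap o = p' := H20Borel.exists_pt_lift (a.orbitMap o) p'
      rw [← img_comp, ← img_comp, Category.assoc, Category.assoc, hf] at e
      have he : g ≫ φ = g' ≫ φ := Over.OverMorphism.ext (ext_of_apply_closedPoint_eq Z.hom
        (Over.w (g ≫ φ)) (Over.w (g' ≫ φ)) e)
      have hall := hsep g g' fun F hF => by
        have h1 : pull (g ≫ φ) (specAlg B ⟨F, Algebra.subset_adjoin hF⟩) =
            pull (g' ≫ φ) (specAlg B ⟨F, Algebra.subset_adjoin hF⟩) := by rw [he]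
        rw [← pull_pull, ← pull_pull, hval] at h1
        exact congrArg gammaAlg h1
      obtain ⟨h', hh'⟩ := hobs _ (hull_of_sep i hall)
      have hg' : g' = g * ((e0 ≫ h') ≫ i) := by
        rw [Category.assoc, hh', ← Category.assoc, e0_e1, Category.id_comp, mul_inv_cancel_left]
      rw [(comp_orbitMap_eq_iff a o i hX g g').2 ⟨e0 ≫ h', hg'⟩]
    exact H12AlgSp.isQuasiAffine_of_lqf f.left
  · intro hqa g hg
    refine (exists_lift i g).2 ?_
    let x := e0 ≫ g
    have hev : ∀ F : Fn X, ev (x ≫ a.orbitMap o) F = ev ((1 : T0 k ⟶ G) ≫ a.orbitMap o) F := fun F => by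
      have h1 := (isRTransInv_pt_iff g _).1 (hg _ (hinvq F)) 1
      rwa [_root_.one_mul, ev_pull, ev_pull] at h1
    have heq : x ≫ a.orbitMap o = (1 : T0 k ⟶ G) ≫ a.orbitMap o := by
      refine Over.OverMorphism.ext ?_
      rw [← cancel_mono X.left.toSpecΓ, Scheme.toSpecΓ_naturality, Scheme.toSpecΓ_naturality]
      congr 2
      refine CommRingCat.hom_ext (RingHom.ext fun F => ?_)
      exact ((struct_gamma _).symm.trans (congrArg (struct (T0 k)) (hev F))).trans (struct_gamma _)
    obtain ⟨h', hh'⟩ := (comp_orbitMap_eq_iff a o i hX 1 x).1 heq.symm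
    exact ⟨h', by rw [show e0 ≫ g = 1 * (h' ≫ i) from hh', _root_.one_mul]⟩

end Groth.Agent.S11189
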