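import Groth.Statements.S11190
import Groth.Agent.H19Obs.Extend

set_option autoImplicit false
universe u
open CategoryTheory MonoidalCategory CartesianMonoidalCategory MonObj GrpObj AlgebraicGeometry
open scoped TensorProduct
open AGF

namespace Groth.Agent.S11190

open CategoryTheory.Limits
open Groth.Agent.H27Witt Groth.Agent.H19Obs


/-- Let k be an algebraically closed field, G a linear algebraic group over k (an affine smooth group
scheme over k) and H a closed subgroup of G (a smooth closed subgroup scheme, i : H → G). Then H is
observable in G if and only if each finite-dimensional rational H-module occurs as an H-submodule of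
some rational G-module of finite dimension (it embeds, H-equivariantly along i, into one). -/
theorem result (k : Type u) [Field k] [IsAlgClosed k]
    (G : Over (Spec (CommRingCat.of k))) [GrpObj G] [IsAffine G.left] [Smooth G.hom]
    (H : Over (Spec (CommRingCat.of k))) [GrpObj H] [Smooth H.hom] (i : H ⟶ G) [IsMonHom i]
    [IsClosedImmersion i.left] :
    AGF.IsObservableIn k i ↔
      ∀ (V : Type u) [AddCommGroup V] [Module k V] [Module.Finite k V] (σ : VecGrp.GMod H V), σ.ExtendsAlong i := by
  haveI : IsAffine H.left := isAffine_of_isAffineHom i.left
  exact ⟨fun h V _ _ _ σ => extendsAlong_of_observable i h σ, fun h => observable_of_extendsAlong i h⟩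

end Groth.Agent.S11190
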