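import Groth.Statements.S11194
import Groth.Agent.H19Obs.FiniteIndex

set_option autoImplicit false
universe u
open CategoryTheory MonoidalCategory CartesianMonoidalCategory MonObj GrpObj AlgebraicGeometry
open scoped TensorProduct
open AGF

namespace Groth.Agent.S11194

open CategoryTheory.Limits
open Groth.Agent.H27Witt Groth.Agent.H27Witt.Fn Groth.Agent.H19Obs

attribute [local instance 2000] Hom.group Hom.monoid

theorem closed_of_open {k : Type u} [Field k] [IsAlgClosed k] {H H₀ : Over (Sk k)} [GrpObj H] [Smooth H.hom]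
    [GrpObj H₀] (j : H₀ ⟶ H) [IsMonHom j] [IsOpenImmersion j.left] : IsClosedImmersion j.left :=
  IsClosedImmersion.of_isPreimmersion j.left (isClosed_range j)

theorem smooth_of_open {k : Type u} [Field k] {H H₀ : Over (Sk k)} [Smooth H.hom] (j : H₀ ⟶ H)
    [IsOpenImmersion j.left] : Smooth H₀.hom := by
  rw [← Over.w j]; infer_instance


/-- (i) ⇔ (iii): let k be an algebraically closed field, G a linear algebraic group over k (an affine
smooth group scheme over k) and H a closed subgroup of G (a smooth closed subgroup scheme, i : H →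
G); let G₀ ⊆ G and H₀ ⊆ H be the identity components (connected open subgroup schemes) and i₀ : H₀ →
G₀ the induced homomorphism. Then H is observable in G if and only if H₀ is observable in G₀. -/
theorem result (k : Type u) [Field k] [IsAlgClosed k]
    (G : Over (Spec (CommRingCat.of k))) [GrpObj G] [IsAffine G.left] [Smooth G.hom]
    (H : Over (Spec (CommRingCat.of k))) [GrpObj H] [Smooth H.hom] (i : H ⟶ G) [IsMonHom i]
    [IsClosedImmersion i.left]
    (G₀ : Over (Spec (CommRingCat.of k))) [GrpObj G₀] [ConnectedSpace G₀.left] (jG : G₀ ⟶ G) [IsMonHom jG]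
    [IsOpenImmersion jG.left]
    (H₀ : Over (Spec (CommRingCat.of k))) [GrpObj H₀] [ConnectedSpace H₀.left] (jH : H₀ ⟶ H) [IsMonHom jH]
    [IsOpenImmersion jH.left] (i₀ : H₀ ⟶ G₀) [IsMonHom i₀] (hc : i₀ ≫ jG = jH ≫ i) :
    AGF.IsObservableIn k i ↔ AGF.IsObservableIn k i₀ := by
  haveI : IsAffine H.left := isAffine_of_isAffineHom i.left
  haveI := closed_of_open jG
  haveI := closed_of_open jH
  haveI := smooth_of_open jG
  haveI := smooth_of_open jH
  haveI : IsAffine G₀.left := isAffine_of_isAffineHom jG.left
  haveI : IsAffine H₀.left := isAffine_of_isAffineHom jH.left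
  haveI : IsClosedImmersion i₀.left := by
    haveI : IsClosedImmersion (i₀.left ≫ jG.left) := by
      rw [← Over.comp_left, hc, Over.comp_left]; infer_instance
    exact IsClosedImmersion.of_comp i₀.left jG.left
  constructor
  · intro hobs
    have h0 : AGF.IsObservableIn k (jH ≫ i) :=
      Groth.Agent.S11195.result k G H i H₀ jH (isObservableIn_open jH) hobs
    refine isObservableIn_restrict (G := G) jG i₀ (fun x y h => ?_) (Set.range fun y : T0 k ⟶ H₀ => y ≫ jH ≫ i)
      (fun y => ⟨y, by rw [hc]⟩) fun x hx => ?_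
    · exact Over.OverMorphism.ext ((cancel_mono jG.left).1 (congrArg (·.left) h))
    · obtain ⟨z, hz⟩ := h0 _ (hull_of_sep (jH ≫ i) (x := 1) (x' := x ≫ jG) fun F hF =>
        (hx F (by rintro w _ ⟨y, rfl⟩; exact (isRTransInv_iff (jH ≫ i) F).1 hF w y)).symm)
      refine ⟨e0 ≫ z, ?_⟩
      rw [hc, Category.assoc, hz, ← Category.assoc, e0_e1, Category.id_comp, inv_one, _root_.one_mul]
  · intro hobs
    haveI : IsClosedImmersion (i₀ ≫ jG).left := by rw [Over.comp_left]; infer_instance
    have h0 : AGF.IsObservableIn k (i₀ ≫ jG) :=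
      Groth.Agent.S11195.result k G G₀ jG H₀ i₀ hobs (isObservableIn_open jG)
    exact isObservableIn_of_open jH i (hc ▸ h0)

end Groth.Agent.S11194
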