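import Groth.Statements.S11196
import Groth.Agent.H19Obs.Extend
import Groth.Agent.H19Obs.FiniteIndex
import Groth.Agent.H19Obs.GLHom
import Groth.Agent.H20Borel.LieKolchin
import Groth.Agent.H28Neron.SpecialFibreImage

set_option autoImplicit false
universe u
open CategoryTheory MonoidalCategory CartesianMonoidalCategory MonObj GrpObj AlgebraicGeometry
open scoped TensorProduct
open AGF

namespace Groth.Agent.S11196

open CategoryTheory.Limits
open Groth.Agent.H27Witt Groth.Agent.H27Witt.Fn Groth.Agent.H19Obs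

attribute [local instance 2000] Hom.group Hom.monoid

variable {k : Type u} [Field k] [IsAlgClosed k] {G : Over (Sk k)} [GrpObj G] [IsAffine G.left] [Smooth G.hom]

theorem exists_L_stable (φ : Fn G) :
    ∃ V : Submodule k (Fn G), FiniteDimensional k V ∧ φ ∈ V ∧ (∀ a : T0 k ⟶ G, ∀ v ∈ V, L a v ∈ V) ∧
      ∀ v ∈ V, ∀ (P : Submodule k (Fn G)), (∀ a : T0 k ⟶ G, L a φ ∈ P) → v ∈ P := by
  classical
  obtain ⟨n, b, c, h⟩ := exists_decomp_mul (G := G) φ
  let V : Submodule k (Fn G) := Submodule.span k (Set.range fun a : T0 k ⟶ G => L a φ)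
  haveI : FiniteDimensional k (Submodule.span k (Set.range c)) :=
    FiniteDimensional.span_of_finite k (Set.finite_range _)
  have hle : V ≤ Submodule.span k (Set.range c) := by
    refine Submodule.span_le.2 ?_
    rintro _ ⟨a, rfl⟩
    show L a φ ∈ Submodule.span k (Set.range c)
    rw [L, h G (toT0 G ≫ a) (𝟙 G)]
    refine Submodule.sum_mem _ fun m _ => ?_
    rw [pull_comp, AlgHom.comp_apply, pull_point, AlgHom.commutes, pull_id, AlgHom.id_apply,
      ← Algebra.smul_def]
    exact Submodule.smul_mem _ _ (Submodule.subset_span ⟨m, rfl⟩)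
  refine ⟨V, Submodule.finiteDimensional_of_le hle, Submodule.subset_span ⟨1, by
      show L 1 φ = φ
      rw [L_one, AlgHom.id_apply]⟩, fun a v hv => ?_,
    fun v hv P hP => Submodule.span_le.2 (by rintro _ ⟨a, rfl⟩; exact hP a) hv⟩
  have h2 : V ≤ V.comap (L a).toLinearMap := by
    refine Submodule.span_le.2 ?_
    rintro _ ⟨a', rfl⟩
    show L a (L a' φ) ∈ V
    rw [← AlgHom.comp_apply, L_comp]
    exact Submodule.subset_span ⟨_, rfl⟩
  exact h2 hv

/-- In a connected solvable group a semi-invariant has a companion of inverse weight. -/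
theorem exists_companion [ConnectedSpace G.left] (hs : Red.IsSolvableGrp G) {K : Over (Sk k)} (j : K ⟶ G)
    (φ : Fn G) (χ : (T0 k ⟶ K) → k) (hφ1 : ev (1 : T0 k ⟶ G) φ = 1)
    (hφ : ∀ x y, ev (x * (y ≫ j)) φ = χ y * ev x φ) :
    ∃ ψ : Fn G, ev (1 : T0 k ⟶ G) ψ ≠ 0 ∧ ∀ x y, χ y * ev (x * (y ≫ j)) ψ = ev x ψ := by
  classical
  haveI := H27Witt.Fn.isDomain G
  obtain ⟨n, hn⟩ := hs
  haveI : Group.IsSolvable (T0 k ⟶ G) := ⟨⟨n, hn (T0 k)⟩⟩
  let E : Fn G →ₐ[k] ((T0 k ⟶ G) → k) := Pi.algHom k (fun _ : T0 k ⟶ G => k) fun x => ev x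
  let R₀ : Subalgebra k ((T0 k ⟶ G) → k) := E.range
  have hR : H20Borel.IsIrredFn R₀ := by
    rintro _ ⟨a, rfl⟩ _ ⟨b, rfl⟩ h
    have h0 : a * b = 0 := ext_points fun x => by
      rw [map_zero, map_mul]
      exact congrFun h x
    rcases mul_eq_zero.1 h0 with rfl | rfl
    · exact Or.inl (map_zero E)
    · exact Or.inr (map_zero E)
  obtain ⟨V, hfin, hφV, hV, hgen⟩ := exists_L_stable φ
  let S : Set (Submodule k (Fn G)) := {P | P ≤ V ∧ P ≠ ⊥ ∧ ∀ a : T0 k ⟶ G, ∀ v ∈ P, L a v ∈ P}
  have hSne : ∃ d, ∃ P ∈ S, Module.finrank k P = d :=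
    ⟨_, V, ⟨le_rfl, fun h => by
      rw [h, Submodule.mem_bot] at hφV
      rw [hφV, map_zero] at hφ1
      exact zero_ne_one hφ1, hV⟩, rfl⟩
  obtain ⟨P, ⟨hPV, hP0, hP⟩, hPd⟩ := Nat.find_spec hSne
  haveI : FiniteDimensional k P := Submodule.finiteDimensional_of_le hPV
  haveI : Nontrivial P := Submodule.nontrivial_iff_ne_bot.2 hP0
  let ρ : (T0 k ⟶ G) →* Module.End k P :=
    { toFun := fun g => (L g⁻¹).toLinearMap.restrict (p := P) (q := P) (hP g⁻¹)
      map_one' := LinearMap.ext fun v => Subtype.ext (by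
        show L (1 : T0 k ⟶ G)⁻¹ (v : Fn G) = _
        rw [inv_one, L_one]
        rfl)
      map_mul' := fun g h => LinearMap.ext fun v => Subtype.ext (by
        show L (g * h)⁻¹ (v : Fn G) = L g⁻¹ (L h⁻¹ (v : Fn G))
        rw [_root_.mul_inv_rev, ← L_comp]
        rfl) }
  have hreg : H20Borel.IsRegRep R₀ ρ := by
    intro θ v
    obtain ⟨θ', hθ'⟩ := θ.exists_extend
    obtain ⟨m, b, c, hbc⟩ := exists_decomp_mul (G := G) (v : Fn G)
    let f : Fn G := ∑ i, θ' (c i) • b i
    have key : ∀ a, θ' (L a (v : Fn G)) = ev a f := fun a => by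
      rw [L, hbc G (toT0 G ≫ a) (𝟙 G)]
      simp only [map_sum, pull_comp, AlgHom.comp_apply, pull_point, AlgHom.commutes, pull_id, AlgHom.id_apply,
        ← Algebra.smul_def, map_smul, f, smul_eq_mul]
      exact Finset.sum_congr rfl fun i _ => _root_.mul_comm _ _
    have hval : ∀ g, θ (ρ g v) = ev g⁻¹ f := fun g => by
      rw [← key]
      exact (LinearMap.congr_fun hθ' (ρ g v)).symm
    refine ⟨⟨pull (𝟙 G)⁻¹ f, funext fun g => ?_⟩, ⟨f, funext fun g => ?_⟩⟩
    · show ev g (pull (𝟙 G)⁻¹ f) = θ (ρ g v)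
      rw [hval, ev_pull, GrpObj.comp_inv, Category.comp_id]
    · show ev g f = θ (ρ g⁻¹ v)
      rw [hval, _root_.inv_inv]
  obtain ⟨v, hv0, -, hv⟩ := H20Borel.exists_eigvec_of_simple hR hreg (fun U hU => by
    by_contra! hne
    have hmap : U.map P.subtype ∈ S := by
      refine ⟨(Submodule.map_subtype_le _ _).trans hPV, fun h => hne.1 ?_, ?_⟩
      · rw [eq_bot_iff]
        intro u hu
        exact (Submodule.mem_bot k).2 (Subtype.ext ((Submodule.mem_bot k).1 (h.le ⟨u, hu, rfl⟩)))
      · rintro a _ ⟨u, hu, rfl⟩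
        refine ⟨ρ a⁻¹ u, hU a⁻¹ u hu, ?_⟩
        show L a⁻¹⁻¹ (u : Fn G) = L a (u : Fn G)
        rw [_root_.inv_inv]
    have hlt : Module.finrank k U < Module.finrank k P := Submodule.finrank_lt (lt_top_iff_ne_top.2 hne.2).ne
    refine (Nat.find_min' hSne ⟨_, hmap, rfl⟩).not_gt ?_
    rw [← hPd, (Submodule.equivMapOfInjective P.subtype P.injective_subtype U).finrank_eq.symm]
    exact hlt)
  choose c hc using hv
  let ψ₀ : Fn G := v
  have hψ₀ : ∀ g z, ev (g⁻¹ * z) ψ₀ = c g * ev z ψ₀ := fun g z => by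
    have h := congrArg (fun u : P => ev z (u : Fn G)) (hc g)
    simp only [Submodule.coe_smul, map_smul, smul_eq_mul] at h
    rw [← ev_L]
    exact h
  have hb : ev (1 : T0 k ⟶ G) ψ₀ ≠ 0 := fun h => hv0 (Subtype.ext (ext_points fun z => by
    have h1 := hψ₀ z⁻¹ 1
    rw [_root_.inv_inv, _root_.mul_one, h, mul_zero] at h1
    rw [show ev z ((0 : P) : Fn G) = 0 from map_zero _]
    exact h1))
  have hsemi : ∀ x y, ev (x * (y ≫ j)) ψ₀ = χ y * ev x ψ₀ := by
    intro x y
    have hall : ∀ u ∈ V, ev (x * (y ≫ j)) u = χ y * ev x u := by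
      intro u hu
      let Q : Submodule k (Fn G) :=
        { carrier := {u | ev (x * (y ≫ j)) u = χ y * ev x u}
          add_mem' := fun {a b} ha hb => by
            simp only [Set.mem_ofPred_eq, map_add] at *
            rw [ha, hb]; ring
          zero_mem' := by simp
          smul_mem' := fun r a ha => by
            simp only [Set.mem_ofPred_eq, map_smul, smul_eq_mul] at *
            rw [ha]; ring }
      exact hgen u hu Q fun a => by
        show ev (x * (y ≫ j)) (L a φ) = χ y * ev x (L a φ)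
        rw [ev_L, ev_L, ← _root_.mul_assoc]
        exact hφ _ _
    exact hall _ (hPV v.2)
  refine ⟨pull (𝟙 G)⁻¹ ψ₀, ?_, fun x y => ?_⟩
  · rw [ev_pull, GrpObj.comp_inv, Category.comp_id, inv_one]
    exact hb
  · rw [ev_pull, ev_pull, GrpObj.comp_inv, Category.comp_id, GrpObj.comp_inv, Category.comp_id]
    have hA : ∀ z, ev z ψ₀ = c z⁻¹ * ev 1 ψ₀ := fun z => by
      have h1 := hψ₀ z⁻¹ 1
      rwa [_root_.inv_inv, _root_.mul_one] at h1
    have hcy : c (y ≫ j)⁻¹ = χ y := by
      have h1 := hsemi 1 y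
      rw [_root_.one_mul, hA] at h1
      exact mul_right_cancel₀ hb h1
    have hinv : c (y ≫ j) * c (y ≫ j)⁻¹ = 1 := by
      have h1 := hψ₀ (y ≫ j) (y ≫ j)
      rw [inv_mul_cancel, hA (y ≫ j), ← _root_.mul_assoc] at h1
      exact mul_right_cancel₀ hb (h1.symm.trans (_root_.one_mul _).symm)
    rw [_root_.mul_inv_rev, hψ₀, ← hcy, ← _root_.mul_assoc, _root_.mul_comm (c (y ≫ j)⁻¹), hinv, _root_.one_mul]

theorem obs_of_connected [ConnectedSpace G.left] (hs : Red.IsSolvableGrp G) {H : Over (Sk k)} [GrpObj H]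
    [IsAffine H.left] [Smooth H.hom] (i : H ⟶ G) [IsMonHom i] [IsClosedImmersion i.left] :
    AGF.IsObservableIn k i := by
  classical
  haveI := finiteType G
  haveI := Algebra.FiniteType.isNoetherianRing k (Fn G)
  obtain ⟨S, hS⟩ := (RingHom.ker (pull i)).fg_of_isNoetherianRing
  obtain ⟨W, hfin, hSW, hW⟩ := exists_stable_finset (G := G) S
  obtain ⟨D⟩ := exists_detData i W hW
  obtain ⟨ψ, hψ1, hψ⟩ := exists_companion hs i D.φ D.χ D.φ_one D.φ_weight
  intro g hg
  refine (exists_lift i g).2 ?_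
  let x := e0 ≫ g
  have hkey : ∀ q : D.κ → (T0 k ⟶ G),
      (valMat (fun a => q a * x) D.w).det * ev x ψ = (valMat q D.w).det * ev 1 ψ := by
    intro q
    let F : Fn G := (transMat q D.w).det * ψ
    have hF : AGF.IsRTransInv i F := by
      refine (isRTransInv_iff i F).2 fun z y => ?_
      simp only [F, map_mul, ev_det_transMat, ← _root_.mul_assoc]
      rw [D.weight (fun a => q a * z) y, mul_right_comm, hψ, _root_.mul_comm]
    have h1 := (isRTransInv_pt_iff g F).1 (hg F hF) 1
    simpa only [F, map_mul, ev_det_transMat, _root_.mul_one, _root_.one_mul] using h1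
  have hspan : ∀ c, R x (D.w c) ∈ Submodule.span k (Set.range D.w) := by
    intro c
    exact mem_span_of_det_proportional D.w D.p x _ _ hψ1 D.p_det hkey c
  have hker : ∀ f ∈ S, ev x f = 0 := by
    intro f hf
    obtain ⟨a, ha⟩ := D.span f ⟨hSW f hf, show pull i f = 0 from RingHom.mem_ker.1 (hS.le (Ideal.subset_span hf))⟩
    have hRx : R x f ∈ idl i W := by
      rw [ha, map_sum]
      refine Submodule.sum_mem _ fun c _ => ?_
      rw [map_smul]
      exact Submodule.smul_mem _ _ ((Submodule.span_le.2 (by rintro _ ⟨c, rfl⟩; exact D.mem c)) (hspan c))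
    have h0 : pull i (R x f) = 0 := hRx.2
    rw [← ev_one_R, ← MonObj.one_comp i, ← ev_pull, h0, map_zero]
  have hle : RingHom.ker (pull i) ≤ RingHom.ker (ev x) := hS ▸ Ideal.span_le.2 hker
  let τ : Fn H →ₐ[k] k := (Ideal.Quotient.liftₐ (RingHom.ker (pull i)) (ev x) hle).comp
    (Ideal.quotientKerAlgEquivOfSurjective (pull_surjective i)).symm.toAlgHom
  obtain ⟨y, hy⟩ := exists_point τ
  refine ⟨y, point_ext (AlgHom.ext fun f => ?_)⟩
  rw [← ev_pull, hy]
  show Ideal.Quotient.liftₐ _ (ev x) hle ((Ideal.quotientKerAlgEquivOfSurjective (pull_surjective i)).symm (pull i f)) = _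
  rw [Ideal.quotientKerAlgEquivOfSurjective_symm_apply (pull_surjective i)]
  rfl

theorem solvable_of_mono {G₀ : Over (Sk k)} [GrpObj G₀] (j : G₀ ⟶ G) [IsMonHom j] [Mono j]
    (hs : Red.IsSolvableGrp G) : Red.IsSolvableGrp G₀ := by
  obtain ⟨n, hn⟩ := hs
  refine ⟨n, fun X => ?_⟩
  let f : (X ⟶ G₀) →* (X ⟶ G) := MonoidHom.mk' (fun z => z ≫ j) fun a b => MonObj.mul_comp a b j
  have h1 : (derivedSeries (X ⟶ G₀) n).map f ≤ ⊥ := (hn X) ▸ map_derivedSeries_le_derivedSeries f n
  rw [le_bot_iff, Subgroup.map_eq_bot_iff] at h1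
  rw [← le_bot_iff]
  intro z hz
  rw [Subgroup.mem_bot]
  have h2 : z ≫ j = 1 := h1 hz
  exact (cancel_mono j).1 (h2.trans (MonObj.one_comp j).symm)


/-- Let k be an algebraically closed field, G a linear algebraic group over k (an affine smooth group
scheme over k) and H a closed subgroup of G (a smooth closed subgroup scheme, i : H → G), with G
solvable. Then H is observable in G. -/
theorem result (k : Type u) [Field k] [IsAlgClosed k]
    (G : Over (Spec (CommRingCat.of k))) [GrpObj G] [IsAffine G.left] [Smooth G.hom]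
    (H : Over (Spec (CommRingCat.of k))) [GrpObj H] [Smooth H.hom] (i : H ⟶ G) [IsMonHom i]
    [IsClosedImmersion i.left]
    (hs : Red.IsSolvableGrp G) :
    AGF.IsObservableIn k i := by
  haveI : IsAffine H.left := isAffine_of_isAffineHom i.left
  haveI : LocallyOfFiniteType G.hom := inferInstance
  haveI : LocallyOfFiniteType H.hom := inferInstance
  obtain ⟨_, hjG⟩ := H19Grp.exists_grpObj_idComp G
  obtain ⟨_, hjH⟩ := H19Grp.exists_grpObj_idComp H
  haveI := hjG
  haveI := hjH
  let jG := H19Grp.idCompι G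
  let jH := H19Grp.idCompι H
  haveI : IsOpenImmersion jG.left := inferInstance
  haveI : IsOpenImmersion jH.left := inferInstance
  haveI : Smooth (H19Grp.idComp G).hom := by rw [← Over.w jG]; infer_instance
  haveI : Smooth (H19Grp.idComp H).hom := by rw [← Over.w jH]; infer_instance
  haveI : IsAffine (H19Grp.idComp G).left := isAffine_of_isAffineHom jG.left
  haveI : IsAffine (H19Grp.idComp H).left := isAffine_of_isAffineHom jH.left
  haveI : ConnectedSpace (H19Grp.idComp G).left := by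
    rw [connectedSpace_iff_univ]
    refine ⟨⟨(η[H19Grp.idComp G]).left (IsLocalRing.closedPoint k), trivial⟩, ?_⟩
    refine (jG.left.isOpenEmbedding.isEmbedding.isInducing.isPreconnected_image).1 ?_
    rw [Set.image_univ, show Set.range jG.left = _ from H19Grp.range_idCompι_ept G]
    exact isPreconnected_connectedComponent
  obtain ⟨i₀, hi₀⟩ := H19Grp.idComp_lift G (jH ≫ i) (by
    rintro _ ⟨z, rfl⟩
    rw [Over.comp_left, Scheme.Hom.comp_apply]
    have hm : jH.left z ∈ connectedComponent (H19Grp.ept H) := H19Grp.range_idCompι_ept H ▸ ⟨z, rfl⟩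
    have h1 := i.left.continuous.image_connectedComponent_subset (H19Grp.ept H) ⟨_, hm, rfl⟩
    have e : i.left (H19Grp.ept H) = H19Grp.ept G := H19Grp.hom_one_apply_map i _
    rw [e] at h1
    exact h1)
  haveI : IsMonHom i₀ := isMonHom_of_mul i₀ fun Z x y => (cancel_mono jG).1 (by
    simp only [jG, Category.assoc, MonObj.mul_comp, hi₀])
  haveI : IsClosedImmersion i₀.left := by
    haveI : IsClosedImmersion (i₀.left ≫ jG.left) := by
      rw [← Over.comp_left, hi₀, Over.comp_left]; infer_instance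
    exact IsClosedImmersion.of_comp i₀.left jG.left
  haveI : IsClosedImmersion (i₀ ≫ jG).left := by rw [Over.comp_left]; infer_instance
  have h0 : AGF.IsObservableIn k (i₀ ≫ jG) :=
    Groth.Agent.S11195.result k G (H19Grp.idComp G) jG (H19Grp.idComp H) i₀
      (obs_of_connected (solvable_of_mono jG hs) i₀) (isObservableIn_open jG)
  exact isObservableIn_of_open jH i (hi₀ ▸ h0)

end Groth.Agent.S11196
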