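import Groth.Statements.S11198
import Groth.Agent.H27Witt.Fn
import Groth.Agent.H19Quot.GroupQuot
import Groth.Agent.H13Desc.Flat
import Groth.Agent.H13AlgSp.EtaleLocally

set_option autoImplicit false
set_option maxHeartbeats 1000000
set_option synthInstance.maxHeartbeats 100000
set_option linter.style.haveILetI false
set_option backward.isDefEq.respectTransparency false
universe u
open CategoryTheory MonoidalCategory CartesianMonoidalCategory MonObj GrpObj AlgebraicGeometry
open scoped TensorProduct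
open AGF

namespace Groth.Agent.S11198

open Groth.Agent Groth.Agent.H27Witt

/-- The affine line with a function as a morphism. -/
theorem exists_fn_hom {k : Type u} [Field k] {G : Over (Sk k)} (f : Fn G) :
    ∃ (A : Over (Sk k)) (_ : IsAffine A.left) (z : Fn A) (c : G ⟶ A), Fn.pull c z = f ∧
      ∀ {T : Over (Sk k)} (u v : T ⟶ A), Fn.pull u z = Fn.pull v z → u = v := by
  let A : Over (Sk k) := Over.mk (Spec.map (CommRingCat.ofHom (algebraMap k (Polynomial k))))
  haveI : IsAffine A.left := inferInstanceAs (IsAffine (Spec _))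
  let e : Polynomial k ≃ₐ[k] Fn A := Fn.specAlg (k := k) (Polynomial k)
  obtain ⟨c, hc⟩ := Fn.exists_hom (X := G) (Y := A) ((Polynomial.aeval f).comp e.symm.toAlgHom)
  refine ⟨A, inferInstance, e Polynomial.X, c, ?_, fun u v h => Fn.hom_ext ?_⟩
  · rw [hc]; simp
  · refine AlgHom.ext fun a => ?_
    obtain ⟨p, rfl⟩ := e.surjective a
    exact AlgHom.congr_fun (Polynomial.algHom_ext (f := (Fn.pull u).comp e.toAlgHom) (g := (Fn.pull v).comp e.toAlgHom) h) p

/-- Functions on a complete variety are constant. -/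
theorem exists_const {k : Type u} [Field k] [IsAlgClosed k] (X : Over (Sk k)) [IsIntegral X.left] [IsProper X.hom]
    (a : Fn X) : ∃ c : k, algebraMap k (Fn X) c = a := by
  have hF := finite_appTop_of_universallyClosed (K := k) X.hom
  have h' : RingHom.Finite (struct X) :=
    hF.comp (RingHom.Finite.of_surjective _
      (Scheme.ΓSpecIso (CommRingCat.of k)).commRingCatIsoToRingEquiv.symm.surjective)
  haveI : Module.Finite k (Fn X) := h'
  haveI : IsDomain (Fn X) := inferInstanceAs (IsDomain Γ(X.left, ⊤))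
  exact (IsAlgClosed.algebraMap_bijective_of_isIntegral (k := k) (K := Fn X)).2 a


/-- Let k be an algebraically closed field, G a linear algebraic group over k and H₁ ⊆ H₂ ⊆ G closed
subgroups (smooth closed subgroup schemes i₁ : H₁ → H₂, i₂ : H₂ → G), such that the quotient H₂/H₁
(the scheme X with H₂-action a and base point o) is proper over k and irreducible. Then a global
function on G is invariant under right translation by H₁ if and only if it is invariant under right
translation by H₂. -/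
theorem result (k : Type u) [Field k] [IsAlgClosed k]
    (G : Over (Spec (CommRingCat.of k))) [GrpObj G] [IsAffine G.left] [Smooth G.hom]
    (H₂ : Over (Spec (CommRingCat.of k))) [GrpObj H₂] [Smooth H₂.hom] (i₂ : H₂ ⟶ G) [IsMonHom i₂] [IsClosedImmersion i₂.left]
    (H₁ : Over (Spec (CommRingCat.of k))) [GrpObj H₁] [Smooth H₁.hom] (i₁ : H₁ ⟶ H₂) [IsMonHom i₁] [IsClosedImmersion i₁.left]
    (X : Over (Spec (CommRingCat.of k))) (a : AlgGrp.Action H₂ X) (o : 𝟙_ (Over (Spec (CommRingCat.of k))) ⟶ X) (hX : AGF.IsQuotient i₁ X a o)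
    [IsProper X.hom] [IrreducibleSpace X.left] :
    AGF.rTransInv (i₁ ≫ i₂) = AGF.rTransInv i₂ := by
  haveI : IsAffine H₂.left := isAffine_of_isAffineHom i₂.left
  obtain ⟨hXl, hflat, hsurj, hsq⟩ := hX
  haveI := hflat; haveI := hsurj
  haveI : IsReduced H₂.left := H13AlgSp.isReduced_of_smooth_mor H₂.hom
  haveI : IsReduced X.left := H13Desc.isReduced_of_flat_surjective (a.orbitMap o).left
  haveI : Nonempty X.left := ⟨o.left (IsLocalRing.closedPoint k)⟩
  haveI : IsIntegral X.left := isIntegral_of_irreducibleSpace_of_isReduced X.left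
  haveI : IsNoetherianRing (CommRingCat.of k) := inferInstanceAs (IsNoetherianRing k)
  haveI : IsLocallyNoetherian X.left := LocallyOfFiniteType.isLocallyNoetherian X.hom
  haveI : LocallyOfFiniteType (a.orbitMap o).left := by
    haveI : LocallyOfFiniteType ((a.orbitMap o).left ≫ X.hom) := by rw [Over.w (a.orbitMap o)]; infer_instance
    exact locallyOfFiniteType_of_comp (a.orbitMap o).left X.hom
  haveI : LocallyOfFinitePresentation (a.orbitMap o).left := inferInstance
  refine le_antisymm (fun f hf => ?_) (fun f hf => ?_)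
  · rw [AGF.mem_rTransInv_iff] at hf ⊢
    change Fn.pull ((G ◁ (i₁ ≫ i₂)) ≫ μ[G]) f = Fn.pull (fst G H₁) f at hf
    show Fn.pull ((G ◁ i₂) ≫ μ[G]) f = Fn.pull (fst G H₂) f
    obtain ⟨A, hA, z, c, hcz, hext⟩ := exists_fn_hom (k := k) (G := G) f
    haveI : IsAffine (G ⊗ H₂).left := inferInstanceAs (IsAffine (Limits.pullback G.hom H₂.hom))
    haveI : Smooth (G ⊗ H₂).hom := by
      haveI : Smooth (fst G H₂).left := MorphismProperty.pullback_fst (P := @Smooth) _ _ inferInstance
      rw [← Over.w (fst G H₂)]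
      infer_instance
    refine Fn.ext_points fun p => ?_
    rw [Fn.ev_pull, Fn.ev_pull]
    let g : T0 k ⟶ G := p ≫ fst G H₂
    let φ : H₂ ⟶ A := lift (toUnit H₂ ≫ g) i₂ ≫ μ[G] ≫ c
    have hinv : ∀ {T : Over (Sk k)} (s : T ⟶ G) (h : T ⟶ H₁), (s * (h ≫ i₁ ≫ i₂)) ≫ c = s ≫ c := by
      intro T s h
      refine hext _ _ ?_
      rw [← Fn.pull_pull, ← Fn.pull_pull, hcz]
      have := congrArg (Fn.pull (lift s h)) hf
      rw [Fn.pull_pull, Fn.pull_pull, lift_fst, ← Category.assoc, lift_whiskerLeft, ← Hom.mul_def] at this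
      exact this
    obtain ⟨ψ, hψ⟩ := (H19Quot.hasFpqcSection_of_lfp (a.orbitMap o)).desc φ fun T u v huv => by
      obtain ⟨l, hl1, hl2⟩ := hsq.exists_lift u v huv
      have hv : v = u * ((l ≫ snd H₂ H₁) ≫ i₁) := by
        rw [← hl2, ← hl1, Hom.mul_def, ← Category.assoc]
        congr 1
        apply CartesianMonoidalCategory.hom_ext <;> simp
      show u ≫ lift (toUnit H₂ ≫ g) i₂ ≫ μ[G] ≫ c = v ≫ lift (toUnit H₂ ≫ g) i₂ ≫ μ[G] ≫ c
      rw [hv]
      have hw : ∀ w : T ⟶ H₂, w ≫ lift (toUnit H₂ ≫ g) i₂ ≫ μ[G] ≫ c = ((toUnit T ≫ g) * (w ≫ i₂)) ≫ c := fun w => by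
        rw [← Category.assoc, comp_lift, ← Category.assoc w (toUnit H₂), toUnit_unique (w ≫ toUnit H₂) (toUnit T),
          ← Category.assoc, ← Hom.mul_def]
      rw [hw, hw, MonObj.mul_comp u _ i₂, ← _root_.mul_assoc, Category.assoc (l ≫ snd H₂ H₁) i₁ i₂, hinv]
    obtain ⟨cc, hcc⟩ := exists_const X (Fn.pull ψ z)
    have hconst : ∀ h : T0 k ⟶ H₂, Fn.ev ((g * (h ≫ i₂))) f = cc := by
      intro h
      have e1 : h ≫ φ = (g * (h ≫ i₂)) ≫ c := by
        show h ≫ lift (toUnit H₂ ≫ g) i₂ ≫ μ[G] ≫ c = _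
        rw [← Category.assoc, comp_lift, ← Category.assoc h (toUnit H₂), toUnit_unique (h ≫ toUnit H₂) (𝟙 _),
          Category.id_comp, ← Category.assoc, ← Hom.mul_def]
      have e2 : Fn.ev (h ≫ φ) z = cc := by
        rw [← hψ, ← Category.assoc, ← Fn.ev_pull, ← hcc, AlgHom.commutes]; rfl
      rw [e1, ← Fn.ev_pull, hcz] at e2
      exact e2
    have hp : p ≫ (G ◁ i₂) ≫ μ[G] = g * ((p ≫ snd G H₂) ≫ i₂) := by
      rw [Hom.mul_def, ← Category.assoc]
      congr 1
      apply CartesianMonoidalCategory.hom_ext <;> simp [g]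
    rw [hp, hconst]
    have h1 := hconst 1
    rw [MonObj.one_comp, _root_.mul_one] at h1
    exact h1.symm
  · rw [AGF.mem_rTransInv_iff] at hf ⊢
    change Fn.pull ((G ◁ i₂) ≫ μ[G]) f = Fn.pull (fst G H₂) f at hf
    show Fn.pull ((G ◁ (i₁ ≫ i₂)) ≫ μ[G]) f = Fn.pull (fst G H₁) f
    have := congrArg (Fn.pull (G ◁ i₁)) hf
    rw [Fn.pull_pull, Fn.pull_pull, whiskerLeft_fst, ← Category.assoc, ← MonoidalCategory.whiskerLeft_comp] at this
    exact this

end Groth.Agent.S11198
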