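import Groth.Statements.S11199
import Mathlib
import Groth.Agent.H19Grp.PointsEqClosed
import Groth.Agent.H13AlgSp.EtaleLocally

set_option autoImplicit false
set_option linter.style.haveILetI false
set_option backward.isDefEq.respectTransparency false
universe u
open CategoryTheory MonoidalCategory CartesianMonoidalCategory MonObj GrpObj AlgebraicGeometry
open scoped TensorProduct
open AGF

namespace Groth.Agent.S11199

/-- Let k be an algebraically closed field, G a linear algebraic group over k (an affine smooth group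
scheme over k) and H a closed subgroup of G (a smooth closed subgroup scheme, i : H → G). Then there
are finitely many right-H-invariant global functions f₁, ..., fₙ on G which already cut out the
observable hull of H: a rational point of G whose right translation fixes each fⱼ fixes every
right-H-invariant global function. -/
theorem result (k : Type u) [Field k] [IsAlgClosed k]
    (G : Over (Spec (CommRingCat.of k))) [GrpObj G] [IsAffine G.left] [Smooth G.hom]
    (H : Over (Spec (CommRingCat.of k))) [GrpObj H] [Smooth H.hom] (i : H ⟶ G) [IsMonHom i]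
    [IsClosedImmersion i.left] :
    ∃ s : Finset Γ(G.left, ⊤), (∀ f ∈ s, AGF.IsRTransInv i f) ∧
      ∀ g : VecGrp.pt k k ⟶ G, (∀ f ∈ s, AGF.IsRTransInv g f) →
        ∀ f : Γ(G.left, ⊤), AGF.IsRTransInv i f → AGF.IsRTransInv g f := by
  classical
  haveI : LocallyOfFiniteType G.hom := inferInstance
  haveI : IsReduced G.left := by
    haveI : IsReduced (Spec (CommRingCat.of k)) := inferInstance
    exact H13AlgSp.isReduced_of_smooth_mor G.hom
  haveI : IsLocallyNoetherian G.left := LocallyOfFiniteType.isLocallyNoetherian G.hom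
  haveI : IsNoetherianRing Γ(G.left, ⊤) :=
    IsLocallyNoetherian.component_noetherian ⟨⊤, isAffineOpen_top G.left⟩
  haveI := LocallyOfFiniteType.jacobsonSpace G.hom
  have hid : Spec.map (CommRingCat.ofHom (algebraMap k k)) = 𝟙 (Spec (CommRingCat.of k)) := by
    rw [← Spec.map_id]; rfl
  let P := VecGrp.pt k k
  have hP : P.hom = 𝟙 (Spec (CommRingCat.of k)) := hid
  let e : G ⟶ P := Over.homMk G.hom (by
    show G.hom ≫ P.hom = G.hom
    rw [hP]; exact Category.comp_id _)
  have hterm : ∀ {T : Over (Spec (CommRingCat.of k))} (a b : T ⟶ P), a = b := fun a b => by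
    ext1
    have ha := Over.w a
    have hb := Over.w b
    rw [hP] at ha hb
    erw [Category.comp_id] at ha hb
    exact ha.trans hb.symm
  let σ : G ⟶ G ⊗ P := lift (𝟙 G) e
  have hσ : σ ≫ fst G P = 𝟙 G := lift_fst _ _
  have hσ' : fst G P ≫ σ = 𝟙 (G ⊗ P) := by
    apply CartesianMonoidalCategory.hom_ext
    · rw [Category.assoc, hσ, Category.comp_id, Category.id_comp]
    · exact hterm _ _
  have hcomp : ∀ {A B C : Over (Spec (CommRingCat.of k))} (a : A ⟶ B) (b : B ⟶ C) (f : Γ(C.left, ⊤)),
      (a ≫ b).left.appTop f = a.left.appTop (b.left.appTop f) := fun a b f => rfl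
  have hzero : ∀ h : Γ(G.left, ⊤), (∀ x : P ⟶ G, x.left.appTop h = 0) → h = 0 := by
    intro h hh
    refine (AlgebraicGeometry.basicOpen_eq_bot_iff h).1 ?_
    by_contra hne
    obtain ⟨y, hy, hyc⟩ := nonempty_inter_closedPoints (Z := (G.left.basicOpen h : Set G.left))
      (Set.nonempty_iff_ne_empty.2 fun h' => hne (TopologicalSpace.Opens.ext h')) (G.left.basicOpen h).2.isLocallyClosed
    obtain ⟨w, hw⟩ := H19Grp.PointsDense.exists_point_closed (K := k) (W := G) hyc
    have h1 : (IsLocalRing.closedPoint k : Spec (CommRingCat.of k)) ∈ w.left ⁻¹ᵁ G.left.basicOpen h := by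
      show w.left _ ∈ G.left.basicOpen h
      rw [hw]; exact hy
    rw [Scheme.preimage_basicOpen, show w.left.app ⊤ h = 0 from hh w, Scheme.basicOpen_zero] at h1
    exact h1
  let F : Γ(G.left, ⊤) × (P ⟶ G) → Γ(G.left, ⊤) := fun p =>
    ((e ≫ p.2) * 𝟙 G).left.appTop p.1 - (e ≫ p.2).left.appTop p.1
  have key : ∀ (g : P ⟶ G) (f : Γ(G.left, ⊤)),
      AGF.IsRTransInv g f ↔ ∀ x : P ⟶ G, g.left.appTop (F (f, x)) = 0 := by
    intro g f
    have h1 : AGF.IsRTransInv g f ↔ ((𝟙 G) * (e ≫ g)).left.appTop f = f := by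
      have e1 : σ ≫ (G ◁ g) ≫ μ[G] = 𝟙 G * (e ≫ g) := by
        rw [← Category.assoc, lift_whiskerLeft, Hom.mul_def]
      have e2 : (G ◁ g) ≫ μ[G] = fst G P ≫ (𝟙 G * (e ≫ g)) := by
        rw [← e1, ← Category.assoc, hσ', Category.id_comp]
      unfold AGF.IsRTransInv
      rw [e2, hcomp]
      constructor
      · intro h
        have := congrArg σ.left.appTop h
        rw [← hcomp σ (fst G P ≫ (𝟙 G * (e ≫ g))) f |>.trans (congrArg σ.left.appTop (hcomp (fst G P) _ f)),
          ← Category.assoc, hσ, Category.id_comp, ← hcomp σ (fst G P), hσ] at this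
        exact this
      · intro h
        rw [h]
    have h2 : ∀ x : P ⟶ G, g.left.appTop (F (f, x)) = x.left.appTop (((𝟙 G) * (e ≫ g)).left.appTop f - f) := by
      intro x
      have e1 : g ≫ ((e ≫ x) * 𝟙 G) = x * g := by
        rw [MonObj.comp_mul, Category.comp_id, ← Category.assoc, hterm (g ≫ e) (𝟙 P), Category.id_comp]
      have e2 : x ≫ ((𝟙 G) * (e ≫ g)) = x * g := by
        rw [MonObj.comp_mul, Category.comp_id, ← Category.assoc, hterm (x ≫ e) (𝟙 P), Category.id_comp]
      have e3 : g ≫ e ≫ x = x := by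
        rw [← Category.assoc, hterm (g ≫ e) (𝟙 P), Category.id_comp]
      simp only [F, map_sub]
      rw [← hcomp, ← hcomp, ← hcomp, e1, e2, e3]
    rw [h1]
    constructor
    · intro h x
      rw [h2, h, sub_self, map_zero]
    · intro h
      exact sub_eq_zero.1 (hzero _ fun x => by rw [← h2]; exact h x)
  let I := Ideal.span (F '' {p | AGF.IsRTransInv i p.1})
  obtain ⟨t, ht, hspan⟩ := (Submodule.fg_span_iff_fg_span_finset_subset _).1 (IsNoetherian.noetherian I)
  choose! p hp hFp using fun a (ha : a ∈ t) => ht ha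
  refine ⟨t.image fun a => (p a).1, ?_, fun g hg f hf => (key g f).2 fun x => ?_⟩
  · intro f hf
    obtain ⟨a, ha, rfl⟩ := Finset.mem_image.1 hf
    exact hp a ha
  · have hmem : F (f, x) ∈ Submodule.span Γ(G.left, ⊤) (t : Set Γ(G.left, ⊤)) := by
      rw [← hspan]; exact Submodule.subset_span ⟨(f, x), hf, rfl⟩
    have hle : Ideal.span (t : Set Γ(G.left, ⊤)) ≤ RingHom.ker g.left.appTop.hom := by
      rw [Ideal.span_le]
      intro a ha
      have := (key g (p a).1).1 (hg _ (Finset.mem_image.2 ⟨a, ha, rfl⟩)) (p a).2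
      rw [show ((p a).1, (p a).2) = p a from rfl, hFp a ha] at this
      exact this
    exact hle hmem

end Groth.Agent.S11199
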