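import Groth.Statements.S11200
import Groth.Agent.H19Obs.Extend
import Groth.Agent.H19Obs.GLHom
import Groth.Agent.H20Mu.Values

set_option autoImplicit false
universe u
open CategoryTheory MonoidalCategory CartesianMonoidalCategory MonObj GrpObj AlgebraicGeometry
open scoped TensorProduct
open AGF

namespace Groth.Agent.S11200

open CategoryTheory.Limits
open Groth.Agent.H27Witt Groth.Agent.H27Witt.Fn Groth.Agent.H19Obs

attribute [local instance 2000] Hom.group Hom.monoid


/-- Let k be an algebraically closed field, G a linear algebraic group over k (an affine smooth group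
scheme over k) and H a closed subgroup of G (a smooth closed subgroup scheme, i : H → G). If H has
no non-trivial character (every homomorphism from H to the multiplicative group is trivial), then H
is observable in G. -/
theorem result (k : Type u) [Field k] [IsAlgClosed k]
    (G : Over (Spec (CommRingCat.of k))) [GrpObj G] [IsAffine G.left] [Smooth G.hom]
    (H : Over (Spec (CommRingCat.of k))) [GrpObj H] [Smooth H.hom] (i : H ⟶ G) [IsMonHom i]
    [IsClosedImmersion i.left]
    (hχ : ∀ (χ : H ⟶ Red.Gm (Spec (CommRingCat.of k))), IsMonHom χ → χ = 1) :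
    AGF.IsObservableIn k i := by
  classical
  haveI : IsAffine H.left := isAffine_of_isAffineHom i.left
  haveI := finiteType G
  haveI := Algebra.FiniteType.isNoetherianRing k (Fn G)
  obtain ⟨S, hS⟩ := (RingHom.ker (pull i)).fg_of_isNoetherianRing
  obtain ⟨W, hfin, hSW, hW⟩ := exists_stable_finset (G := G) S
  obtain ⟨D⟩ := exists_detData i W hW
  let η' : Fn H := pull i D.φ
  have hη : ∀ y : T0 k ⟶ H, ev y η' = D.χ y := fun y => by
    have h1 := D.φ_weight 1 y
    rwa [_root_.one_mul, D.φ_one, _root_.mul_one] at h1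
  have hmul : pull μ[H] η' = pull (fst H H) η' * pull (snd H H) η' := by
    refine ext_points fun z => ?_
    rw [ev_pull, map_mul, show z ≫ μ[H] = (z ≫ fst H H) * (z ≫ snd H H) by
      rw [Hom.mul_def, lift_comp_fst_snd], hη, D.χ_mul, ev_pull z (fst H H), ev_pull z (snd H H), hη, hη]
  have hχinv : ∀ y : T0 k ⟶ H, D.χ y * D.χ y⁻¹ = 1 := fun y => by
    rw [← D.χ_mul, mul_inv_cancel, ← hη, ev_pull, MonObj.one_comp, D.φ_one]
  let u : (Γ(H.left, ⊤))ˣ :=
    { val := η'
      inv := pull (𝟙 H)⁻¹ η'
      val_inv := by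
        refine ext_points (a := η' * pull (𝟙 H)⁻¹ η') (b := 1) fun y => ?_
        rw [map_mul, map_one, ev_pull y (𝟙 H)⁻¹ η', GrpObj.comp_inv, Category.comp_id, hη, hη, hχinv]
      inv_val := by
        refine ext_points (a := pull (𝟙 H)⁻¹ η' * η') (b := 1) fun y => ?_
        rw [map_mul, map_one, ev_pull y (𝟙 H)⁻¹ η', GrpObj.comp_inv, Category.comp_id, hη, hη, _root_.mul_comm,
          hχinv] }
  let c : H ⟶ Red.Gm (Spec (CommRingCat.of k)) := GmPts.ptOfUnit u
  haveI : IsMonHom c := isMonHom_of_mul c fun Z x y => by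
    have h : ∀ {T : Over (Sk k)} (x : T ⟶ H),
        (GmPts.unitOfPt (x ≫ c) : Γ(T.left, ⊤)) = (pull x η' : Fn T) := fun x => by
      rw [GmPts.unitOfPt_comp, GmPts.unitOfPt_ptOfUnit]
      rfl
    rw [← GmPts.ptOfUnit_unitOfPt ((x * y) ≫ c), ← GmPts.ptOfUnit_unitOfPt ((x ≫ c) * (y ≫ c))]
    congr 1
    refine Units.ext ?_
    rw [GmPts.unitOfPt_mul, Units.val_mul, h, h, h]
    have h1 : pull (x * y) η' = pull x η' * pull y η' := by
      rw [Hom.mul_def, ← pull_pull, hmul, map_mul, pull_pull _ (fst H H) η', pull_pull _ (snd H H) η', lift_fst, lift_snd]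
    exact h1
  have hone : η' = 1 := by
    have h := congrArg (fun p => (GmPts.unitOfPt p : Γ(H.left, ⊤))) (hχ c inferInstance)
    simp only [c, GmPts.unitOfPt_ptOfUnit, GmPts.unitOfPt_one, Units.val_one] at h
    exact h
  intro g hg
  refine (exists_lift i g).2 ?_
  let x := e0 ≫ g
  have hkey : ∀ q : D.κ → (T0 k ⟶ G),
      (valMat (fun a => q a * x) D.w).det * 1 = (valMat q D.w).det * 1 := by
    intro q
    have hF : AGF.IsRTransInv i (transMat q D.w).det := by
      refine (isRTransInv_iff i _).2 fun z y => ?_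
      simp only [ev_det_transMat, ← _root_.mul_assoc]
      rw [D.weight (fun a => q a * z) y, ← hη, hone, map_one, _root_.one_mul]
    have h1 := (isRTransInv_pt_iff g _).1 (hg _ hF) 1
    simpa only [ev_det_transMat, _root_.mul_one, _root_.one_mul] using h1
  have hspan : ∀ c, R x (D.w c) ∈ Submodule.span k (Set.range D.w) := by
    intro c
    exact mem_span_of_det_proportional D.w D.p x 1 1 one_ne_zero D.p_det hkey c
  have hker : ∀ f ∈ S, ev x f = 0 := by
    intro f hf
    obtain ⟨a, ha⟩ := D.span f ⟨hSW f hf, show pull i f = 0 from RingHom.mem_ker.1 (hS.le (Ideal.subset_span hf))⟩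
    have hRx : R x f ∈ idl i W := by
      rw [ha, map_sum]
      refine Submodule.sum_mem _ fun c _ => ?_
      rw [map_smul]
      exact Submodule.smul_mem _ _ ((Submodule.span_le.2 (by rintro _ ⟨c, rfl⟩; exact D.mem c)) (hspan c))
    have h0 : pull i (R x f) = 0 := hRx.2
    rw [← ev_one_R, ← MonObj.one_comp i, ← ev_pull, h0, map_zero]
  have hle : RingHom.ker (pull i) ≤ RingHom.ker (ev x) := hS ▸ Ideal.span_le.2 hker
  let τ : Fn H →ₐ[k] k := (Ideal.Quotient.liftₐ (RingHom.ker (pull i)) (ev x) hle).comp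
    (Ideal.quotientKerAlgEquivOfSurjective (pull_surjective i)).symm.toAlgHom
  obtain ⟨y, hy⟩ := exists_point τ
  refine ⟨y, point_ext (AlgHom.ext fun f => ?_)⟩
  rw [← ev_pull, hy]
  show Ideal.Quotient.liftₐ _ (ev x) hle ((Ideal.quotientKerAlgEquivOfSurjective (pull_surjective i)).symm (pull i f)) = _
  rw [Ideal.quotientKerAlgEquivOfSurjective_symm_apply (pull_surjective i)]
  rfl

end Groth.Agent.S11200
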