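import Groth.Statements.S11204
import Groth.Agent.H19Obs.Extend
import Groth.Agent.H19Obs.FiniteIndex

set_option autoImplicit false
universe u
open CategoryTheory MonoidalCategory CartesianMonoidalCategory MonObj GrpObj AlgebraicGeometry
open scoped TensorProduct
open AGF

namespace Groth.Agent.S11204

open CategoryTheory.Limits
open Groth.Agent.H27Witt Groth.Agent.H27Witt.Fn Groth.Agent.H19Obs

attribute [local instance 2000] Hom.group Hom.monoid

variable {k : Type u} [Field k] [IsAlgClosed k] {G H K : Over (Sk k)} [GrpObj G] [IsAffine G.left] [Smooth G.hom]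
  [GrpObj H] [IsAffine H.left] [Smooth H.hom]

/-- Invariant functions on an observable subgroup extend to invariant functions. -/
theorem exists_extension (i : H ⟶ G) [IsMonHom i] [IsClosedImmersion i.left] (hobs : AGF.IsObservableIn k i)
    [IsAffine K.left] [Smooth K.hom] (κ : K ⟶ H) (f : Fn H) (hf : AGF.IsRTransInv κ f) :
    ∃ F : Fn G, AGF.IsRTransInv (κ ≫ i) F ∧ pull i F = f := by
  classical
  obtain ⟨s, hs, hsep⟩ := exists_separating (k := k) i
  have hs' : ∀ f ∈ s, f ∈ invAlg i := fun f hf => (isRTransInv_iff i f).1 (hs f hf)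
  have hsep' : ∀ x x' : T0 k ⟶ G, (∀ f ∈ s, ev x f = ev x' f) → ∃ y : T0 k ⟶ H, x' = x * (y ≫ i) := by
    intro x x' h
    obtain ⟨h', hh'⟩ := hobs _ (hull_of_sep i (hsep x x' h))
    refine ⟨e0 ≫ h', ?_⟩
    rw [Category.assoc, hh', ← Category.assoc, e0_e1, Category.id_comp, mul_inv_cancel_left]
  obtain ⟨fh, rfl⟩ := pull_surjective i f
  obtain ⟨W, hfin, hfW, hW⟩ := exists_stable_finset (G := G) {fh}
  obtain ⟨D⟩ := exists_detData i W hW
  obtain ⟨ψ, hψ1, hψ⟩ := exists_semiInv i s hs' hsep' D.φ D.χ D.φ_one D.φ_weight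
  choose Δ hΔ using D.exists_linearMap (W := W)
  let fW : W := ⟨fh, hfW fh (Finset.mem_singleton_self _)⟩
  let A : (T0 k ⟶ H) → W := fun y => ⟨R (y ≫ i) fh, hW _ _ fW.2⟩
  let T : Submodule k (W →ₗ[k] k) :=
    { carrier := {θ | ∃ F : Fn G, AGF.IsRTransInv (κ ≫ i) F ∧ ∀ y, ev (y ≫ i) F = θ (A y)}
      add_mem' := by
        rintro θ θ' ⟨F, hF, hFy⟩ ⟨F', hF', hFy'⟩
        refine ⟨F + F', (isRTransInv_iff (κ ≫ i) _).2 fun x z => ?_, fun y => ?_⟩
        · rw [map_add, map_add, (isRTransInv_iff (κ ≫ i) F).1 hF, (isRTransInv_iff (κ ≫ i) F').1 hF']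
        · rw [map_add, hFy, hFy', LinearMap.add_apply]
      zero_mem' := ⟨0, (isRTransInv_iff (κ ≫ i) _).2 fun x z => by rw [map_zero, map_zero], fun y => by simp⟩
      smul_mem' := by
        rintro r θ ⟨F, hF, hFy⟩
        refine ⟨r • F, (isRTransInv_iff (κ ≫ i) _).2 fun x z => ?_, fun y => ?_⟩
        · rw [map_smul, map_smul, (isRTransInv_iff (κ ≫ i) F).1 hF]
        · rw [map_smul, hFy, LinearMap.smul_apply] }
  have hΔT : ∀ q, ((ev (1 : T0 k ⟶ G)).toLinearMap.comp ((Δ q).comp W.subtype)) ∈ T := by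
    intro q
    refine ⟨(ev (1 : T0 k ⟶ G) ψ)⁻¹ • (Δ q fh * ψ), (isRTransInv_iff (κ ≫ i) _).2 fun x z => ?_, fun y => ?_⟩
    · have hd : R ((z ≫ κ) ≫ i) fh - fh ∈ idl i W := by
        refine ⟨sub_mem (hW _ _ fW.2) fW.2, ?_⟩
        show pull i (R ((z ≫ κ) ≫ i) fh - fh) = 0
        rw [map_sub, pull_R, sub_eq_zero]
        exact ext_points fun w => by rw [ev_R]; exact (isRTransInv_iff κ _).1 hf w z
      simp only [map_smul, map_mul, hΔ, smul_eq_mul, ← _root_.mul_assoc]
      rw [← Category.assoc, D.block fh (z ≫ κ) fun a => q a * x, D.congr _ _ _ hd,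
        mul_left_comm (ev (1 : T0 k ⟶ G) ψ)⁻¹ (D.χ (z ≫ κ)), mul_right_comm (D.χ (z ≫ κ)), hψ, _root_.mul_comm]
    · show _ = ev (1 : T0 k ⟶ G) (Δ q (R (y ≫ i) fh))
      simp only [map_smul, map_mul, hΔ, smul_eq_mul, _root_.mul_one]
      rw [D.block fh y q]
      have h1 := hψ 1 y
      rw [_root_.one_mul] at h1
      rw [mul_right_comm (D.χ y), h1, ← _root_.mul_assoc, inv_mul_cancel₀ hψ1, _root_.one_mul]
  let θ : W →ₗ[k] k := (ev (1 : T0 k ⟶ G)).toLinearMap.comp W.subtype
  have hθ : θ ∈ T := by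
    by_contra hθ
    obtain ⟨Φ, hΦθ, hΦT⟩ := Submodule.exists_dual_map_eq_bot_of_notMem hθ inferInstance
    obtain ⟨v, rfl⟩ := (Module.evalEquiv k W).surjective Φ
    have hv : (v : Fn G) ∈ idl i W := D.sep _ fun q => by
      have h1 : (Module.evalEquiv k W v) ((ev (1 : T0 k ⟶ G)).toLinearMap.comp ((Δ q).comp W.subtype)) = 0 :=
        (Submodule.mem_bot k).1 (hΦT.le ⟨_, hΔT q, rfl⟩)
      change ev (1 : T0 k ⟶ G) (Δ q (v : Fn G)) = 0 at h1
      rw [hΔ] at h1
      simpa only [_root_.mul_one] using h1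
    apply hΦθ
    show ev (1 : T0 k ⟶ G) (v : Fn G) = 0
    rw [← MonObj.one_comp i, ← ev_pull, show pull i (v : Fn G) = 0 from hv.2, map_zero]
  obtain ⟨F, hF, hFy⟩ := hθ
  refine ⟨F, hF, ext_points fun y => ?_⟩
  rw [ev_pull, hFy, ev_pull]
  exact ev_one_R (y ≫ i) fh


/-- Let k be an algebraically closed field, G a linear algebraic group over k and K ⊆ H ⊆ G closed
subgroups (smooth closed subgroup schemes κ : K → H, i : H → G) with K and H observable in G. If
k[G]^K is finitely generated over the constants (K is a Grosshans subgroup of G), then K is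
observable in H and k[H]^K is finitely generated over the constants (K is a Grosshans subgroup of
H). -/
theorem result (k : Type u) [Field k] [IsAlgClosed k]
    (G : Over (Spec (CommRingCat.of k))) [GrpObj G] [IsAffine G.left] [Smooth G.hom]
    (H : Over (Spec (CommRingCat.of k))) [GrpObj H] [Smooth H.hom] (i : H ⟶ G) [IsMonHom i]
    [IsClosedImmersion i.left]
    (K : Over (Spec (CommRingCat.of k))) [GrpObj K] [Smooth K.hom] (κ : K ⟶ H) [IsMonHom κ] [IsClosedImmersion κ.left]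
    (hK : AGF.IsObservableIn k (κ ≫ i)) (hH : AGF.IsObservableIn k i)
    (hfg : AGF.SubringFGOver k G (AGF.rTransInv (κ ≫ i))) :
    AGF.IsObservableIn k κ ∧ AGF.SubringFGOver k H (AGF.rTransInv κ) := by
  classical
  haveI : IsAffine H.left := isAffine_of_isAffineHom i.left
  haveI : IsAffine K.left := isAffine_of_isAffineHom κ.left
  haveI : IsClosedImmersion (κ ≫ i).left := by rw [Over.comp_left]; infer_instance
  refine ⟨?_, ?_⟩
  · refine isObservableIn_restrict (G := G) i κ (fun x y h => ?_) (Set.range fun y : T0 k ⟶ K => y ≫ κ ≫ i)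
      (fun y => ⟨y, rfl⟩) fun x hx => ?_
    · exact Over.OverMorphism.ext ((cancel_mono i.left).1 (congrArg (·.left) h))
    · obtain ⟨z, hz⟩ := hK _ (hull_of_sep (κ ≫ i) (x := 1) (x' := x ≫ i) fun F hF =>
        (hx F (by rintro w _ ⟨y, rfl⟩; exact (isRTransInv_iff (κ ≫ i) F).1 hF w y)).symm)
      refine ⟨e0 ≫ z, ?_⟩
      rw [Category.assoc, hz, ← Category.assoc, e0_e1, Category.id_comp, inv_one, _root_.one_mul]
  · obtain ⟨s, hs, hle⟩ := hfg
    refine ⟨s.image i.left.appTop.hom, ?_, ?_⟩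
    · intro f hf
      obtain ⟨F, hF, rfl⟩ := Finset.mem_image.1 hf
      refine (isRTransInv_iff κ (pull i F)).2 fun x y => ?_
      refine (ev_pull _ i F).trans (Eq.trans ?_ (ev_pull x i F).symm)
      rw [MonObj.mul_comp, Category.assoc]
      exact (isRTransInv_iff (κ ≫ i) F).1 (hs hF) _ _
    · intro f hf
      obtain ⟨F, hF, rfl⟩ := exists_extension i hH κ f hf
      have h1 : pull i F ∈ (Subring.closure (Set.range (fun c : k => G.hom.appTop ((Scheme.ΓSpecIso (CommRingCat.of k)).inv c)) ∪ ↑s)).map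
          i.left.appTop.hom := ⟨F, hle hF, rfl⟩
      rw [RingHom.map_closure, Set.image_union, ← Set.range_comp, ← Finset.coe_image] at h1
      refine Subring.closure_mono (Set.union_subset_union_left _ ?_) h1
      rintro _ ⟨c, rfl⟩
      exact ⟨c, (AlgHom.commutes (pull i) c).symm⟩

end Groth.Agent.S11204
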