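import Groth.Statements.S1121
import Groth.Agent.H16Derived.KFlat.TildeStalk
import Groth.Agent.H16Derived.KFlat.StalkCriterion
import Groth.Agent.H16Derived.KFlat.BaseChange

set_option autoImplicit false
universe u
open CategoryTheory CategoryTheory.Limits AlgebraicGeometry Opposite
attribute [local instance] HasDerivedCategory.standard
open Perf

namespace Groth.Agent.S1121

open CategoryTheory CategoryTheory.Limits
open Groth.Agent.H16Derived.KFlat

open MonoidalCategory in
/-- Let R be a ring and K a K-flat cochain complex of R-modules (tensoring with K preserves acyclic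
complexes). Then the associated complex K~ of O_{Spec R}-modules is K-flat: for every acyclic
complex L of O_{Spec R}-modules the total tensor complex L ⊗ K~ is acyclic. -/
theorem result (R : CommRingCat.{u}) (K : DRing.Cx R)
    (hK : ∀ L : DRing.Cx R, (∀ i : ℤ, IsZero (L.homology i)) → ∀ i : ℤ, IsZero (((tensorRight K).obj L).homology i)) :
    DCoh.IsKFlat (((tilde.functor R).mapHomologicalComplex (ComplexShape.up ℤ)).obj K) := by
  refine (isKFlat_iff_homology (DCoh.tensorBi (X := AlgebraicGeometry.Spec R)) _).1 ((Stalk.isKFlat_iff_stalk _).2 fun x => ?_)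
  letI := TildeStalk.algebra (R := R) x
  exact BaseChange.isKFlat K _ (fun q => TildeStalk.stalkEquiv (K.X q) x)
    (fun q t => (TildeStalk.stalkLinMap_naturality (K.X q) x (K.d q (q + 1)) t).symm) hK

end Groth.Agent.S1121
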