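import Groth.Statements.S11212
import Groth.Agent.H19Obs.Char
import Groth.Agent.H19Obs.RightReg

set_option autoImplicit false
universe u
open CategoryTheory MonoidalCategory CartesianMonoidalCategory MonObj GrpObj AlgebraicGeometry
open scoped TensorProduct
open AGF

namespace Groth.Agent.S11212

open CategoryTheory.Limits
open Groth.Agent.H27Witt Groth.Agent.H27Witt.Fn Groth.Agent.H19Obs

attribute [local instance 2000] Hom.group Hom.monoid


/-- Let k be an algebraically closed field, G a linear algebraic group over k (an affine smooth group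
scheme over k) and H a closed subgroup of G (a smooth closed subgroup scheme, i : H → G), with the
identity component of H reductive. Assume the following standard results of geometric invariant
theory for groups with reductive identity component, carried as hypotheses: finite generation of
invariants on finitely generated algebras, and that for such a group acting on an affine variety the
quotient map sends disjoint closed invariant subsets to disjoint sets. Then H is observable in G. -/
theorem result (k : Type u) [Field k] [IsAlgClosed k]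
    (G : Over (Spec (CommRingCat.of k))) [GrpObj G] [IsAffine G.left] [Smooth G.hom]
    (H : Over (Spec (CommRingCat.of k))) [GrpObj H] [Smooth H.hom] (i : H ⟶ G) [IsMonHom i]
    [IsClosedImmersion i.left]
    (hH : VecGrp.IsReductiveGrp k H) (thmA : VecGrp.ReductiveInvariantsFG k)
    (thmAbiv : AGF.ReductiveQuotSeparates k) :
    AGF.IsObservableIn k i := by
  classical
  haveI : IsAffine H.left := isAffine_of_isAffineHom i.left
  haveI := finiteType G
  haveI := Fn.isReduced G
  haveI := Fn.isReduced H
  intro g hg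
  refine (exists_lift i g).2 ?_
  let x := e0 ≫ g
  have hfac : ∀ z : T0 k ⟶ G, (∀ f ∈ RingHom.ker (pull i), ev z f = 0) → ∃ y : T0 k ⟶ H, y ≫ i = z := by
    intro z hz
    have hle : RingHom.ker (pull i) ≤ RingHom.ker (ev z) := hz
    let τ : Fn H →ₐ[k] k := (Ideal.Quotient.liftₐ (RingHom.ker (pull i)) (ev z) hle).comp
      (Ideal.quotientKerAlgEquivOfSurjective (pull_surjective i)).symm.toAlgHom
    obtain ⟨y, hy⟩ := exists_point τ
    refine ⟨y, point_ext (AlgHom.ext fun f => ?_)⟩
    rw [← ev_pull, hy]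
    show Ideal.Quotient.liftₐ _ (ev z) hle ((Ideal.quotientKerAlgEquivOfSurjective (pull_surjective i)).symm (pull i f)) = _
    rw [Ideal.quotientKerAlgEquivOfSurjective_symm_apply (pull_surjective i)]
    rfl
  by_contra hx
  let t : H ⟶ G := (toT0 H ≫ x) * i
  have ht : ∀ (y : T0 k ⟶ H), y ≫ t = x * (y ≫ i) := fun y => by
    rw [MonObj.comp_mul, ← Category.assoc, comp_toT0, Category.id_comp]
  let I₁ : Ideal (Fn G) := RingHom.ker (pull i)
  let I₂ : Ideal (Fn G) := RingHom.ker (pull t)
  have hr : ∀ h : H ⟶ G, (RingHom.ker (pull h)).IsRadical := fun h f ⟨n, hn⟩ => by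
    rw [RingHom.mem_ker, map_pow] at hn
    exact RingHom.mem_ker.2 (IsReduced.eq_zero _ ⟨n, hn⟩)
  have hs₁ : (rightReg i).IsStable (𝟙 H) (I₁.restrictScalars k) := by
    refine isStable_rightReg i _ fun y f hf => ?_
    change pull i (R (y ≫ i) f) = 0
    refine ext_points fun z => ?_
    rw [map_zero, ev_pull, ev_R, ← MonObj.mul_comp, ← ev_pull, show pull i f = 0 from hf, map_zero]
  have hs₂ : (rightReg i).IsStable (𝟙 H) (I₂.restrictScalars k) := by
    refine isStable_rightReg i _ fun y f hf => ?_
    change pull t (R (y ≫ i) f) = 0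
    refine ext_points fun z => ?_
    rw [map_zero, ev_pull, ev_R, ht, _root_.mul_assoc, ← MonObj.mul_comp, ← ht, ← ev_pull,
      show pull t f = 0 from hf, map_zero]
  have htop : I₁ ⊔ I₂ = ⊤ := by
    by_contra hne
    obtain ⟨M, hM, hle⟩ := Ideal.exists_le_maximal _ hne
    obtain ⟨ψ, hψ, -⟩ := exists_point_of_notMem (k := k) M (hp := hM.isPrime) (a := 1)
      fun h => hM.ne_top ((Ideal.eq_top_iff_one _).2 h)
    obtain ⟨z, rfl⟩ := exists_pt_of_ker ψ
    obtain ⟨y₁, hy₁⟩ := hfac z fun f hf => hψ (hle (Ideal.mem_sup_left hf))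
    obtain ⟨y₂, hy₂⟩ := hfac (x⁻¹ * z) fun f hf => by
      have h2 : pull t (L x⁻¹ f) = 0 := ext_points fun y => by
        rw [map_zero, ev_pull, ev_L, ht, inv_mul_cancel_left, ← ev_pull, show pull i f = 0 from hf, map_zero]
      have h3 : ev z (L x⁻¹ f) = 0 := hψ (hle (Ideal.mem_sup_right h2))
      rwa [ev_L] at h3
    refine hx ⟨y₁ * y₂⁻¹, ?_⟩
    rw [MonObj.mul_comp, GrpObj.inv_comp, hy₁, hy₂, _root_.mul_inv_rev, _root_.inv_inv, mul_inv_cancel_left]
  have hsep := thmAbiv H hH (Fn G) (rightReg i) (rightReg_isMult i) inferInstance I₁ I₂ (hr i) (hr t) hs₁ hs₂ htop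
  have h1 : (1 : ((rightReg i).fixedSubalgebra (rightReg_isMult i) (𝟙 H))) ∈
      I₁.comap ((rightReg i).fixedSubalgebra (rightReg_isMult i) (𝟙 H)).val ⊔
        I₂.comap ((rightReg i).fixedSubalgebra (rightReg_isMult i) (𝟙 H)).val := by
    rw [hsep]; exact Submodule.mem_top
  obtain ⟨f₁, hf₁, f₂, hf₂, hsum⟩ := Submodule.mem_sup.1 h1
  have hinv : ∀ f : ((rightReg i).fixedSubalgebra (rightReg_isMult i) (𝟙 H)), ev x (f : Fn G) = ev 1 (f : Fn G) := by
    intro f
    have hI : AGF.IsRTransInv i (f : Fn G) :=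
      (isRTransInv_iff i _).2 ((mem_fixedUnder_rightReg i f.1).1 f.2)
    have := (isRTransInv_pt_iff g _).1 (hg _ hI) 1
    rwa [_root_.one_mul] at this
  have ha : ev (1 : T0 k ⟶ G) f₁.1 = 0 := by
    rw [← MonObj.one_comp i, ← ev_pull, show pull i f₁.1 = 0 from hf₁, map_zero]
  have hb : ev x f₂.1 = 0 := by
    have h0 : ev (1 : T0 k ⟶ H) (pull t f₂.1) = 0 := by rw [show pull t f₂.1 = 0 from hf₂, map_zero]
    rwa [ev_pull, ht, MonObj.one_comp, _root_.mul_one] at h0
  have hc := congrArg (fun f : ((rightReg i).fixedSubalgebra (rightReg_isMult i) (𝟙 H)) => ev x (f : Fn G)) hsum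
  simp only [Subalgebra.coe_add, map_add, Subalgebra.coe_one, map_one] at hc
  rw [hb, hinv, ha, add_zero] at hc
  exact zero_ne_one hc

end Groth.Agent.S11212
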