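import Groth.Statements.S11213
import Groth.Agent.H19Obs.Char
import Groth.Agent.H19Obs.RightReg
import Groth.Agent.S11189
import Groth.Agent.S11212

set_option autoImplicit false
universe u
open CategoryTheory MonoidalCategory CartesianMonoidalCategory MonObj GrpObj AlgebraicGeometry
open scoped TensorProduct
open AGF

namespace Groth.Agent.S11213

open CategoryTheory.Limits
open Groth.Agent.H27Witt Groth.Agent.H27Witt.Fn Groth.Agent.H19Obs Groth.Agent.H19Grp.QuotientDesc

attribute [local instance 2000] Hom.group Hom.monoid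


/-- Let k be an algebraically closed field, G a linear algebraic group over k (an affine smooth group
scheme over k) and H a closed subgroup of G (a smooth closed subgroup scheme, i : H → G), with the
identity component of H reductive, and let X (with action a, base point o) be the quotient G/H.
Assume the following standard results of geometric invariant theory for groups with reductive
identity component, carried as hypotheses: finite generation of invariants on finitely generated
algebras, and that the quotient map of an affine variety by such a group is surjective and separates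
disjoint closed invariant subsets. Then k[G]^H is finitely generated over the constants (H is a
Grosshans subgroup of G) and X is affine. -/
theorem result (k : Type u) [Field k] [IsAlgClosed k]
    (G : Over (Spec (CommRingCat.of k))) [GrpObj G] [IsAffine G.left] [Smooth G.hom]
    (H : Over (Spec (CommRingCat.of k))) [GrpObj H] [Smooth H.hom] (i : H ⟶ G) [IsMonHom i]
    [IsClosedImmersion i.left]
    (hH : VecGrp.IsReductiveGrp k H) (thmA : VecGrp.ReductiveInvariantsFG k)
    (thmAbi : AGF.ReductiveQuotSurj k) (thmAbiv : AGF.ReductiveQuotSeparates k)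
    (X : Over (Spec (CommRingCat.of k))) (a : AlgGrp.Action G X) (o : 𝟙_ (Over (Spec (CommRingCat.of k))) ⟶ X) (hX : AGF.IsQuotient i X a o) :
    AGF.SubringFGOver k G (AGF.rTransInv i) ∧ IsAffine X.left := by
  classical
  haveI : IsAffine H.left := isAffine_of_isAffineHom i.left
  haveI := finiteType G
  haveI := Fn.isReduced G
  let A := (rightReg i).fixedSubalgebra (rightReg_isMult i) (𝟙 H)
  have hA : ∀ f : Fn G, f ∈ A ↔ AGF.IsRTransInv i f := fun f =>
    Iff.trans (mem_fixedUnder_rightReg i f) (isRTransInv_iff i f).symm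
  obtain ⟨s, hs, hsA⟩ := thmA H hH (Fn G) (rightReg i) (rightReg_isMult i) inferInstance
  have hAeq : A = Algebra.adjoin k (s : Set (Fn G)) :=
    le_antisymm (fun f hf => hsA hf) (Algebra.adjoin_le fun f hf => hs hf)
  refine ⟨⟨s, fun f hf => (AGF.mem_rTransInv_iff i f).2 ((hA f).1 (hs hf)), fun f hf => ?_⟩, ?_⟩
  · have h1 : (f : Fn G) ∈ (Algebra.adjoin k (s : Set (Fn G))).toSubring := by
      rw [← hAeq]
      exact (hA f).2 ((AGF.mem_rTransInv_iff i f).1 hf)
    rw [Algebra.adjoin_eq_ring_closure] at h1
    exact h1
  · haveI : Algebra.FiniteType k A := by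
      rw [hAeq]; exact ⟨(Subalgebra.fg_top _).2 ⟨s, rfl⟩⟩
    haveI := hX.1
    haveI := hX.2.2.1
    haveI := lfp_orbitMap a o
    haveI : LocallyOfFiniteType G.hom := inferInstance
    let Z : Over (Sk k) := Over.mk (Spec.map (CommRingCat.ofHom (algebraMap k A)))
    haveI : IsAffine Z.left := inferInstanceAs (IsAffine (Spec _))
    obtain ⟨φ, hφ⟩ := exists_hom (X := G) (Y := Z) (A.val.comp (specAlg A).symm.toAlgHom)
    have hval : ∀ b : A, pull φ (specAlg A b) = (b : Fn G) := fun b => by
      rw [hφ]
      exact congrArg Subtype.val ((specAlg (k := k) A).symm_apply_apply b)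
    have hAinv : ∀ (T : Over (Sk k)) (g : T ⟶ G) (h : T ⟶ H) (b : A),
        pull (g * (h ≫ i)) (b : Fn G) = pull g (b : Fn G) := by
      intro T g h b
      have h1 : pull ((G ◁ i) ≫ μ[G]) (b : Fn G) = pull (fst G H) (b : Fn G) := (hA _).1 b.2
      have h2 := congrArg (pull (lift g h)) h1
      rw [pull_pull, pull_pull, lift_fst, ← Category.assoc, lift_whiskerLeft, ← Hom.mul_def] at h2
      exact h2
    obtain ⟨f, hf, -⟩ := existsUnique_of_isQuotient a o i hX φ fun T g h => Fn.hom_ext (AlgHom.ext fun z => by
      obtain ⟨b, rfl⟩ := (specAlg (k := k) A).surjective z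
      rw [← pull_pull, ← pull_pull, hval]
      exact hAinv T g h b)
    have hobs : AGF.IsObservableIn k i := S11212.result k G H i hH thmA thmAbiv
    haveI : X.left.IsQuasiAffine := (S11189.result k G H i X a o hX).1 hobs
    have hinvq : ∀ F : Fn X, AGF.IsRTransInv i (pull (a.orbitMap o) F) := fun F => by
      refine (isRTransInv_iff i _).2 fun x y => ?_
      rw [ev_pull, ev_pull, (comp_orbitMap_eq_iff a o i hX x (x * (y ≫ i))).2 ⟨y, rfl⟩]
    have hinj : Function.Injective (pull (a.orbitMap o)) := by
      intro F F' hFF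
      let A1 : Over (Sk k) := Over.mk (Spec.map (CommRingCat.ofHom (algebraMap k (ULift.{u} (Polynomial k)))))
      haveI : IsAffine A1.left := inferInstanceAs (IsAffine (Spec _))
      let e := specAlg (k := k) (ULift.{u} (Polynomial k))
      let ev' : Fn X → (Fn A1 →ₐ[k] Fn X) := fun F =>
        (Polynomial.aeval F).comp (ULift.algEquiv.toAlgHom.comp e.symm.toAlgHom)
      obtain ⟨l, hl⟩ := exists_hom (ev' F)
      obtain ⟨l', hl'⟩ := exists_hom (ev' F')
      have hev : ∀ F, ev' F (e ⟨Polynomial.X⟩) = F := fun F => by simp [ev']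
      have hcomp : a.orbitMap o ≫ l = a.orbitMap o ≫ l' := Fn.hom_ext (by
        rw [pull_comp, pull_comp, hl, hl']
        refine AlgHom.ext fun z => ?_
        show pull (a.orbitMap o) (Polynomial.aeval F _) = pull (a.orbitMap o) (Polynomial.aeval F' _)
        rw [← Polynomial.aeval_algHom_apply, ← Polynomial.aeval_algHom_apply, hFF])
      obtain ⟨m, -, hm⟩ := existsUnique_of_isQuotient a o i hX (a.orbitMap o ≫ l) fun T g h => by
        rw [← Category.assoc, ← Category.assoc, (comp_orbitMap_eq_iff a o i hX g (g * (h ≫ i))).2 ⟨h, rfl⟩]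
      have hll : l = l' := (hm l rfl).trans (hm l' hcomp.symm).symm
      have := congrArg (fun l => pull l (e ⟨Polynomial.X⟩)) hll
      simpa only [hl, hl', hev] using this
    have hsurjA : ∀ b : A, pull (a.orbitMap o) (pull f (specAlg A b)) = (b : Fn G) := fun b => by
      rw [pull_pull, hf, hval]
    let θ : Fn X →ₐ[k] A := (pull (a.orbitMap o)).codRestrict A fun F => (hA _).2 (hinvq F)
    have hθ : Function.Bijective θ :=
      ⟨fun F F' h => hinj (congrArg Subtype.val h), fun b => ⟨pull f (specAlg A b), Subtype.ext (hsurjA b)⟩⟩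
    haveI : LocallyOfFiniteType X.hom := hX.1
    haveI : Algebra.FiniteType k (Fn X) :=
      Algebra.FiniteType.equiv inferInstance (AlgEquiv.ofBijective θ hθ).symm
    haveI : Surjective X.left.toSpecΓ := by
      refine ⟨Set.range_eq_univ.1 ?_⟩
      by_contra hne
      haveI : IsJacobsonRing (Fn X) := isJacobsonRing_of_finiteType (A := k)
      haveI : JacobsonSpace ↑(Spec Γ(X.left, ⊤)) :=
        inferInstanceAs (JacobsonSpace (PrimeSpectrum (Fn X)))
      obtain ⟨m, hm, hmc⟩ := nonempty_inter_closedPoints
        (Z := (Set.range X.left.toSpecΓ)ᶜ) (Set.nonempty_compl.2 hne)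
        X.left.toSpecΓ.isOpenEmbedding.isOpen_range.isClosed_compl.isLocallyClosed
      let mI : Ideal (Fn X) := m.asIdeal
      have hmax : mI.IsMaximal := (PrimeSpectrum.isClosed_singleton_iff_isMaximal m).1 hmc
      haveI : mI.IsPrime := hmax.isPrime
      let q : Ideal A := mI.comap (AlgEquiv.ofBijective θ hθ).symm.toRingHom
      haveI : q.IsPrime := Ideal.comap_isPrime _ mI
      let pt0 : (T0 k).left := (⟨⊥, Ideal.isPrime_bot⟩ : PrimeSpectrum k)
      obtain ⟨p, hp, hpq⟩ := thmAbi H hH (Fn G) (rightReg i) (rightReg_isMult i) inferInstance q inferInstance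
      obtain ⟨ψ, hψ, -⟩ := exists_point_of_notMem (k := k) p (hp := hp) (a := 1)
        fun h => hp.ne_top ((Ideal.eq_top_iff_one _).2 h)
      obtain ⟨x, rfl⟩ := exists_pt_of_ker ψ
      let pX := (x ≫ a.orbitMap o).left pt0
      refine hm ⟨pX, ?_⟩
      have hle : mI ≤ (X.left.toSpecΓ pX).asIdeal := by
        intro (F : Fn X) hF
        have h1 : θ F ∈ q := by
          show (AlgEquiv.ofBijective θ hθ).symm (θ F) ∈ mI
          rw [show θ F = AlgEquiv.ofBijective θ hθ F from rfl, AlgEquiv.symm_apply_apply]
          exact hF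
        rw [← hpq] at h1
        have h2 : pull (x ≫ a.orbitMap o) F = 0 := by
          have h3 : ev x (pull (a.orbitMap o) F) = 0 := hψ h1
          rw [ev_pull] at h3
          rw [show pull (x ≫ a.orbitMap o) F = struct (T0 k) (ev (x ≫ a.orbitMap o) F) from (struct_gamma _).symm,
            h3, map_zero]
          rfl
        by_contra hF'
        let F0 : Γ(X.left, ⊤) := F
        have h4 : pX ∈ X.left.basicOpen F0 := by
          rw [← Scheme.toSpecΓ_preimage_basicOpen]; exact hF'
        have h5 : pt0 ∈ (x ≫ a.orbitMap o).left ⁻¹ᵁ X.left.basicOpen F0 := h4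
        rw [Scheme.preimage_basicOpen_top,
          show (x ≫ a.orbitMap o).left.appTop F0 = 0 from h2, Scheme.basicOpen_zero] at h5
        exact h5
      exact (PrimeSpectrum.ext (hmax.eq_of_le (X.left.toSpecΓ pX).isPrime.ne_top hle)).symm
    haveI : IsIso X.left.toSpecΓ := IsOpenImmersion.isIso X.left.toSpecΓ
    exact IsAffine.of_isIso X.left.toSpecΓ

end Groth.Agent.S11213
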