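import Groth.Statements.S11217
import Mathlib

set_option autoImplicit false
set_option linter.style.haveILetI false
universe u
open CategoryTheory MonoidalCategory CartesianMonoidalCategory MonObj GrpObj AlgebraicGeometry
open scoped TensorProduct
open AGF

namespace Groth.Agent.S11217

/-- Let k be a field of characteristic zero and m ≥ 2; in the polynomial ring k[x, y, z, s, t, u, v]
(variables 0, …, 6) let δ be the k-derivation with δ(x) = δ(y) = δ(z) = 0, δ(s) = x^(m+1), δ(t) =
y^(m+1), δ(u) = z^(m+1), δ(v) = (xyz)^m, and grade by total degree in s, t, u, v. If f is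
homogeneous of degree n ≥ 1 for this grading and δ(f) = 0, then every coefficient of f, as a
polynomial in s, t, u, v over k[x, y, z], lies in the ideal (x, y, z): every monomial of f has
positive degree in x, y, z. (The published statement allows n = 0, where the constant 1 is a
counterexample; this row assumes n ≥ 1. The published definition of the derivation gives δ(v) =
(xyz)^(m+1), for which the assertion fails: v − (yz)^(m+1)·s is killed by δ and has the monomial v
with coefficient 1; this row uses δ(v) = (xyz)^m, the exponent of the published action formula and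
of the published examples of invariants.) -/
theorem result (k : Type u) [Field k] [CharZero k] (m : ℕ) (hm : 2 ≤ m) (n : ℕ) (hn : 1 ≤ n)
    (f : MvPolynomial (Fin 7) k)
    (hf : MvPolynomial.IsWeightedHomogeneous (![0, 0, 0, 1, 1, 1, 1] : Fin 7 → ℕ) f n)
    (hδ : MvPolynomial.mkDerivation k
      (![0, 0, 0, MvPolynomial.X 0 ^ (m + 1), MvPolynomial.X 1 ^ (m + 1), MvPolynomial.X 2 ^ (m + 1),
        (MvPolynomial.X 0 * MvPolynomial.X 1 * MvPolynomial.X 2) ^ m] : Fin 7 → MvPolynomial (Fin 7) k) f = 0) :
    ∀ d ∈ f.support, 0 < d 0 + d 1 + d 2 := by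
  classical
  intro d hd
  by_contra hpos
  have h0 : d 0 = 0 ∧ d 1 = 0 ∧ d 2 = 0 := ⟨by omega, by omega, by omega⟩
  -- exponents of the coefficients of the derivation
  let a : Fin 4 → (Fin 7 →₀ ℕ) := ![Finsupp.single 0 (m + 1), Finsupp.single 1 (m + 1), Finsupp.single 2 (m + 1),
    Finsupp.single 0 m + Finsupp.single 1 m + Finsupp.single 2 m]
  let w : Fin 4 → Fin 7 := ![3, 4, 5, 6]
  let v : Fin 7 → MvPolynomial (Fin 7) k := ![0, 0, 0, MvPolynomial.X 0 ^ (m + 1), MvPolynomial.X 1 ^ (m + 1),
    MvPolynomial.X 2 ^ (m + 1), (MvPolynomial.X 0 * MvPolynomial.X 1 * MvPolynomial.X 2) ^ m]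
  have hv : ∀ j : Fin 4, MvPolynomial.monomial (a j) (1 : k) = v (w j) := by
    intro j
    fin_cases j <;> simp [a, v, w, MvPolynomial.X_pow_eq_monomial, mul_pow, MvPolynomial.monomial_mul]
  have hD : MvPolynomial.mkDerivation k v = ∑ j : Fin 4, v (w j) • MvPolynomial.pderiv (w j) := by
    apply MvPolynomial.derivation_ext
    intro i
    rw [MvPolynomial.mkDerivation_X]
    fin_cases i <;> simp [Fin.sum_univ_four, v, w, MvPolynomial.pderiv_X]
  -- some variable of weight one occurs
  have hdeg : d 3 + d 4 + d 5 + d 6 = n := by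
    have := hf (MvPolynomial.mem_support_iff.1 hd)
    simpa [Finsupp.weight_apply, Finsupp.sum_fintype, Fin.sum_univ_seven] using this
  obtain ⟨i, hi⟩ : ∃ i : Fin 4, 1 ≤ d (w i) := by
    by_contra hc
    push Not at hc
    have h3 := hc 0
    have h4 := hc 1
    have h5 := hc 2
    have h6 := hc 3
    simp [w] at h3 h4 h5 h6
    omega
  let d' := d - Finsupp.single (w i) 1
  have hdd : d' + Finsupp.single (w i) 1 = d := tsub_add_cancel_of_le (Finsupp.single_le_iff.2 hi)
  have hz : d' 0 = 0 ∧ d' 1 = 0 ∧ d' 2 = 0 := by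
    simp only [d', Finsupp.tsub_apply]
    omega
  have hle : ∀ j : Fin 4, a j ≤ a i + d' → j = i := by
    intro j hj
    have e0 := hj 0
    have e1 := hj 1
    have e2 := hj 2
    fin_cases i <;> fin_cases j <;>
      simp_all [a, Finsupp.single_apply]
    all_goals omega
  have key := congrArg (MvPolynomial.coeff (a i + d')) hδ
  change MvPolynomial.coeff (a i + d') (MvPolynomial.mkDerivation k v f) = _ at key
  rw [hD, MvPolynomial.coeff_zero] at key
  have hsum : (∑ j : Fin 4, v (w j) • MvPolynomial.pderiv (R := k) (w j)) f =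
      ∑ j : Fin 4, v (w j) * MvPolynomial.pderiv (w j) f := by
    simp [Fin.sum_univ_four]
  rw [hsum, MvPolynomial.coeff_sum, Finset.sum_eq_single i] at key
  · rw [← hv, MvPolynomial.coeff_monomial_mul', if_pos (by simp), add_tsub_cancel_left, _root_.one_mul,
      MvPolynomial.coeff_pderiv, hdd] at key
    rcases mul_eq_zero.1 key with h | h
    · exact MvPolynomial.mem_support_iff.1 hd h
    · exact Nat.cast_add_one_ne_zero _ h
  · intro j _ hj
    rw [← hv, MvPolynomial.coeff_monomial_mul', if_neg (fun h => hj (hle j h))]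
  · simp

end Groth.Agent.S11217
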