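import Groth.Statements.S11218
import Groth.Agent.H19Grp.GoodQuot
import Groth.Agent.H19Grp.OrbitSmooth
import Groth.Agent.H19Grp.QuotientDesc
import Groth.Agent.H19Quot.Field

set_option autoImplicit false
set_option maxHeartbeats 1000000
set_option synthInstance.maxHeartbeats 100000
set_option linter.style.haveILetI false
set_option backward.isDefEq.respectTransparency false
universe u
open CategoryTheory MonoidalCategory CartesianMonoidalCategory MonObj GrpObj AlgebraicGeometry
open scoped TensorProduct
open AGF

namespace Groth.Agent.S11218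

section
open CategoryTheory.Limits

variable {k : Type u} [Field k] {G H X Y : Over (Spec (CommRingCat.of k))} [GrpObj G] [GrpObj H]

noncomputable def restrictAct (i : H ⟶ G) [IsMonHom i] (a : AlgGrp.Action G X) : AlgGrp.Action H X where
  act := (i ▷ X) ≫ a.act
  one_act := by rw [← comp_whiskerRight_assoc, IsMonHom.one_hom, a.one_act]
  mul_act := by
    rw [← comp_whiskerRight_assoc, IsMonHom.mul_hom, comp_whiskerRight_assoc, a.mul_act]
    simp only [MonoidalCategory.whiskerLeft_comp, Category.assoc]
    rw [whisker_exchange_assoc, tensorHom_def']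
    simp

theorem lift_restrictAct (i : H ⟶ G) [IsMonHom i] (a : AlgGrp.Action G X) {T : Over (Spec (CommRingCat.of k))}
    (h : T ⟶ H) (z : T ⟶ X) : lift h z ≫ (restrictAct i a).act = lift (h ≫ i) z ≫ a.act := by
  show lift h z ≫ (i ▷ X) ≫ a.act = _
  rw [← Category.assoc, lift_whiskerRight]

theorem orbitMap_restrictAct (i : H ⟶ G) [IsMonHom i] (a : AlgGrp.Action G X)
    (x : 𝟙_ (Over (Spec (CommRingCat.of k))) ⟶ X) : (restrictAct i a).orbitMap x = i ≫ a.orbitMap x := by
  rw [← Category.id_comp ((restrictAct i a).orbitMap x), Groth.Agent.H19Grp.QuotientDesc.comp_orbitMap,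
    lift_restrictAct, Groth.Agent.H19Grp.QuotientDesc.comp_orbitMap, Category.id_comp]

theorem closure_orbit_eq (i : H ⟶ G) [IsMonHom i] [UniversallyOpen H.hom] [UniversallyOpen G.hom]
    (b : AlgGrp.Action G Y) (o' : 𝟙_ (Over (Spec (CommRingCat.of k))) ⟶ Y) (hY : AGF.IsQuotient i Y b o')
    [LocallyOfFinitePresentation (b.orbitMap o').left] [IsProper Y.hom]
    (a : AlgGrp.Action G X) (x : 𝟙_ (Over (Spec (CommRingCat.of k))) ⟶ X) :
    closure (Set.range ⇑(a.orbitMap x).left.base) =
      ⇑a.act.left.base '' (⇑(snd G X).left.base ⁻¹' closure (Set.range ⇑(i ≫ a.orbitMap x).left.base)) := by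
  let a' := restrictAct i a
  set Z := closure (Set.range ⇑(i ≫ a.orbitMap x).left.base) with hZ
  have hZinv : NRQuot.IsInvariantSet a' Z := by
    refine Groth.Agent.H19Grp.isInvariantSet_closure ?_
    rw [← orbitMap_restrictAct]
    exact Groth.Agent.H19Grp.isInvariantSet_range_orbitMap x
  have hGcl := Groth.Agent.H19Grp.isInvariantSet_closure
    (Groth.Agent.H19Grp.isInvariantSet_range_orbitMap (a := a) x)
  have hZsub : Z ⊆ closure (Set.range ⇑(a.orbitMap x).left.base) := by
    refine closure_mono ?_
    rintro _ ⟨h, rfl⟩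
    exact ⟨i.left h, rfl⟩
  let φ : G ⊗ X ⟶ X := lift (fst G X)⁻¹ (snd G X) ≫ a.act
  have himg : a.act.left.base '' ((snd G X).left.base ⁻¹' Z) = (snd G X).left.base '' (φ.left.base ⁻¹' Z) := by
    ext y
    constructor
    · rintro ⟨w, hw, rfl⟩
      refine ⟨(lift (fst G X) a.act).left w, ?_, ?_⟩
      · show φ.left ((lift (fst G X) a.act).left w) ∈ Z
        have h1 : lift (fst G X) a.act ≫ φ = snd G X := by
          show lift (fst G X) a.act ≫ lift (fst G X)⁻¹ (snd G X) ≫ a.act = _
          rw [← Category.assoc, comp_lift, GrpObj.comp_inv, lift_fst, lift_snd]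
          have h2 : a.act = lift (fst G X) (snd G X) ≫ a.act := by rw [lift_fst_snd, Category.id_comp]
          nth_rewrite 1 [h2]
          rw [← Groth.Agent.H19Grp.act_mul, inv_mul_cancel, Groth.Agent.H19Grp.act_one]
        rw [← Scheme.Hom.comp_apply, ← Over.comp_left, h1]
        exact hw
      · show (snd G X).left ((lift (fst G X) a.act).left w) = a.act.left w
        rw [← Scheme.Hom.comp_apply, ← Over.comp_left, lift_snd]
    · rintro ⟨w, hw, rfl⟩
      refine ⟨(lift (fst G X) φ).left w, ?_, ?_⟩
      · show (snd G X).left ((lift (fst G X) φ).left w) ∈ Z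
        rw [← Scheme.Hom.comp_apply, ← Over.comp_left, lift_snd]
        exact hw
      · show a.act.left ((lift (fst G X) φ).left w) = (snd G X).left w
        have h1 : lift (fst G X) φ ≫ a.act = snd G X := by
          show lift (fst G X) (lift (fst G X)⁻¹ (snd G X) ≫ a.act) ≫ a.act = _
          rw [← Groth.Agent.H19Grp.act_mul, mul_inv_cancel, Groth.Agent.H19Grp.act_one]
        rw [← Scheme.Hom.comp_apply, ← Over.comp_left, h1]
  refine Set.Subset.antisymm ?_ ?_
  · refine closure_minimal ?_ ?_
    · rintro _ ⟨g, rfl⟩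
      refine ⟨(lift (𝟙 G) (toUnit G ≫ x)).left g, ?_, ?_⟩
      · refine subset_closure ⟨(1 : 𝟙_ _ ⟶ H).left ((toUnit G).left g), ?_⟩
        show (i ≫ a.orbitMap x).left ((1 : 𝟙_ _ ⟶ H).left ((toUnit G).left g)) = (snd G X).left _
        rw [← Scheme.Hom.comp_apply, ← Over.comp_left, ← Scheme.Hom.comp_apply, ← Over.comp_left,
          ← Scheme.Hom.comp_apply (f := (lift (𝟙 G) (toUnit G ≫ x)).left), ← Over.comp_left, lift_snd]
        congr 1
        congr 1
        rw [← Category.assoc (1 : _ ⟶ H), MonObj.one_comp,
          Groth.Agent.H19Grp.QuotientDesc.one_comp_orbitMap, toUnit_unique (toUnit _) (𝟙 _), Category.id_comp]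
      · rfl
    · rw [himg]
      let q := b.orbitMap o'
      haveI := hY.2.1
      haveI := hY.2.2.1
      have sq := Groth.Agent.H19Quot.isPullback_whiskerRight q X
      haveI : Flat (q ▷ X).left := MorphismProperty.of_isPullback sq.flip inferInstance
      haveI : Surjective (q ▷ X).left := MorphismProperty.of_isPullback sq.flip inferInstance
      haveI : LocallyOfFinitePresentation (q ▷ X).left := MorphismProperty.of_isPullback sq.flip inferInstance
      set P := φ.left.base ⁻¹' Z with hP
      have hPc : IsClosed P := isClosed_closure.preimage φ.left.continuous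
      have hsat : ∀ p p', (q ▷ X).left p = (q ▷ X).left p' → p' ∈ P → p ∈ P := by
        intro p p' hpp hp'
        obtain ⟨w, hw1, hw2⟩ := Scheme.Pullback.exists_preimage_pullback (f := (q ▷ X).left)
          (g := (q ▷ X).left) p p' hpp
        let T : Over (Spec (CommRingCat.of k)) := Over.mk (pullback.fst (q ▷ X).left (q ▷ X).left ≫ (G ⊗ X).hom)
        let r₁ : T ⟶ G ⊗ X := Over.homMk (pullback.fst _ _) rfl
        let r₂ : T ⟶ G ⊗ X := Over.homMk (pullback.snd (q ▷ X).left (q ▷ X).left) (by
          show pullback.snd _ _ ≫ (G ⊗ X).hom = pullback.fst _ _ ≫ (G ⊗ X).hom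
          rw [← Over.w (q ▷ X), ← Category.assoc, ← pullback.condition, Category.assoc])
        have hr : r₁ ≫ (q ▷ X) = r₂ ≫ (q ▷ X) := Over.OverMorphism.ext pullback.condition
        have hr1 : (r₂ ≫ fst G X) ≫ q = (r₁ ≫ fst G X) ≫ q := by
          have := congrArg (· ≫ fst Y X) hr
          simpa using this.symm
        have hr2 : r₂ ≫ snd G X = r₁ ≫ snd G X := by
          have := congrArg (· ≫ snd Y X) hr
          simpa using this.symm
        obtain ⟨h, hh⟩ := (Groth.Agent.H19Grp.QuotientDesc.comp_orbitMap_eq_iff b o' i hY _ _).1 hr1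
        have key : r₁ ≫ φ = lift h⁻¹ (r₂ ≫ φ) ≫ a'.act := by
          show r₁ ≫ lift (fst G X)⁻¹ (snd G X) ≫ a.act =
            lift h⁻¹ (r₂ ≫ lift (fst G X)⁻¹ (snd G X) ≫ a.act) ≫ (restrictAct i a).act
          rw [lift_restrictAct, ← Category.assoc, comp_lift, GrpObj.comp_inv, hh, _root_.mul_inv_rev, ← hr2,
            ← Category.assoc r₂, comp_lift, GrpObj.comp_inv, GrpObj.inv_comp,
            Groth.Agent.H19Grp.act_mul]
        have h3 := hZinv ((lift h⁻¹ (r₂ ≫ φ)).left w) (show (snd H X).left _ ∈ Z by
          rw [← Scheme.Hom.comp_apply, ← Over.comp_left, lift_snd, Over.comp_left, Scheme.Hom.comp_apply]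
          show φ.left _ ∈ Z
          erw [hw2]
          exact hp')
        rw [← Scheme.Hom.comp_apply, ← Over.comp_left, ← key, Over.comp_left, Scheme.Hom.comp_apply] at h3
        show φ.left p ∈ Z
        erw [hw1] at h3
        exact h3
      have hQ : IsClosed ((q ▷ X).left.base '' P) := by
        have : (q ▷ X).left.base '' P = ((q ▷ X).left.base '' Pᶜ)ᶜ := by
          ext y
          constructor
          · rintro ⟨p, hp, rfl⟩ ⟨p', hp', he⟩
            exact hp' (hsat p' p he hp)
          · intro hy
            obtain ⟨p, rfl⟩ := (q ▷ X).left.surjective y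
            exact ⟨p, by_contra fun hp => hy ⟨p, hp, rfl⟩, rfl⟩
        rw [this]
        exact ((q ▷ X).left.isOpenMap _ hPc.isOpen_compl).isClosed_compl
      haveI : UniversallyClosed (snd Y X).left :=
        inferInstanceAs (UniversallyClosed (pullback.snd Y.hom X.hom))
      have h4 : (snd G X).left.base '' P = (snd Y X).left.base '' ((q ▷ X).left.base '' P) := by
        rw [Set.image_image]
        refine Set.image_congr fun p _ => ?_
        show (snd G X).left p = (snd Y X).left ((q ▷ X).left p)
        rw [← Scheme.Hom.comp_apply, ← Over.comp_left, whiskerRight_snd]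
      rw [h4]
      exact (snd Y X).left.isClosedMap _ hQ
  · rintro _ ⟨w, hw, rfl⟩
    exact hGcl w (hZsub hw)

end


/-- Let k be an algebraically closed field, G a linear algebraic group over k (an affine smooth group
scheme over k) and H a closed subgroup of G (a smooth closed subgroup scheme, i : H → G), such that
the quotient G/H (the scheme Y with action b and base point o′) is proper over k (complete). Let G
act on a variety X over k (separated, of finite type) and let x be a rational point of X; let Z ⊆ X
be the closure of the H-orbit of x. Then the closure of the G-orbit of x is G·Z, the image under the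
action map of the preimage of Z in G × X. (The published statement takes X affine; the argument does
not use this, and this row drops it.) -/
theorem result (k : Type u) [Field k] [IsAlgClosed k]
    (G : Over (Spec (CommRingCat.of k))) [GrpObj G] [IsAffine G.left] [Smooth G.hom]
    (H : Over (Spec (CommRingCat.of k))) [GrpObj H] [Smooth H.hom] (i : H ⟶ G) [IsMonHom i]
    [IsClosedImmersion i.left]
    (Y : Over (Spec (CommRingCat.of k))) (b : AlgGrp.Action G Y) (o' : 𝟙_ (Over (Spec (CommRingCat.of k))) ⟶ Y) (hY : AGF.IsQuotient i Y b o')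
    [IsProper Y.hom]
    (X : Over (Spec (CommRingCat.of k))) [IsSeparated X.hom] [LocallyOfFiniteType X.hom] [QuasiCompact X.hom]
    (a : AlgGrp.Action G X) (x : 𝟙_ (Over (Spec (CommRingCat.of k))) ⟶ X) :
    closure (Set.range ⇑(a.orbitMap x).left.base) =
      ⇑a.act.left.base '' (⇑(snd G X).left.base ⁻¹' closure (Set.range ⇑(i ≫ a.orbitMap x).left.base)) := by
  haveI : QuasiCompact G.hom := inferInstance
  haveI : LocallyOfFiniteType Y.hom := hY.1
  haveI := Groth.Agent.H19Grp.QuotientDesc.lfp_orbitMap b o'
  exact closure_orbit_eq i b o' hY a x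

end Groth.Agent.S11218
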