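import Groth.Statements.S11219
import Groth.Agent.H19Obs.Char

set_option autoImplicit false
universe u
open CategoryTheory MonoidalCategory CartesianMonoidalCategory MonObj GrpObj AlgebraicGeometry
open scoped TensorProduct
open AGF

namespace Groth.Agent.S11219

open CategoryTheory.Limits
open Groth.Agent.H27Witt Groth.Agent.H27Witt.Fn Groth.Agent.H19Obs

attribute [local instance 2000] Hom.group Hom.monoid


/-- Let k be an algebraically closed field, G a linear algebraic group over k (an affine smooth group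
scheme over k) and H a closed subgroup of G (a smooth closed subgroup scheme, i : H → G), with G
connected. Then H is observable in G if and only if every right-H-invariant rational function on G
is a quotient of two right-H-invariant global functions: whenever global functions a, b with b ≠ 0
satisfy a(xh)·b(x) = a(x)·b(xh) on G × H, there are right-H-invariant global functions a′, b′ with
b′ ≠ 0 and a·b′ = a′·b. (The published condition concerns the identity component of G and its
intersection with H; for connected G it reads as stated.) -/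
theorem result (k : Type u) [Field k] [IsAlgClosed k]
    (G : Over (Spec (CommRingCat.of k))) [GrpObj G] [IsAffine G.left] [Smooth G.hom]
    (H : Over (Spec (CommRingCat.of k))) [GrpObj H] [Smooth H.hom] (i : H ⟶ G) [IsMonHom i]
    [IsClosedImmersion i.left] [ConnectedSpace G.left] :
    AGF.IsObservableIn k i ↔
      ∀ a b : Γ(G.left, ⊤), b ≠ 0 →
        ((G ◁ i) ≫ μ[G]).left.appTop a * (fst G H).left.appTop b = (fst G H).left.appTop a * ((G ◁ i) ≫ μ[G]).left.appTop b →
        ∃ a' b' : Γ(G.left, ⊤), AGF.IsRTransInv i a' ∧ AGF.IsRTransInv i b' ∧ b' ≠ 0 ∧ a * b' = a' * b := by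
  classical
  haveI : IsAffine H.left := isAffine_of_isAffineHom i.left
  haveI := finiteType G
  haveI := Algebra.FiniteType.isNoetherianRing k (Fn G)
  haveI : IsDomain (Fn G) := Fn.isDomain G
  have e : ∀ (x : T0 k ⟶ G) (y : T0 k ⟶ H), lift x y ≫ (G ◁ i) ≫ μ[G] = x * (y ≫ i) := fun x y => by
    rw [← Category.assoc, lift_whiskerLeft, Hom.mul_def]
  have hRinj : ∀ (z : T0 k ⟶ G) (f : Fn G), R z f = 0 → f = 0 := fun z f h => ext_points fun x => by
    have := congrArg (ev (x * z⁻¹)) h
    rw [ev_R, map_zero, inv_mul_cancel_right] at this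
    rw [this, map_zero]
  constructor
  · intro hobs (a : Fn G) (b : Fn G) (hb : b ≠ (0 : Fn G)) hab
    have hfr : ∀ (y : T0 k ⟶ H), R (y ≫ i) (a : Fn G) * b = (a : Fn G) * R (y ≫ i) (b : Fn G) := fun y => by
      refine ext_points fun x => ?_
      rw [map_mul, map_mul, ev_R, ev_R]
      have h' := congrArg (ev (lift x y))
        (show pull ((G ◁ i) ≫ μ[G]) (a : Fn G) * pull (fst G H) (b : Fn G) =
          pull (fst G H) (a : Fn G) * pull ((G ◁ i) ≫ μ[G]) (b : Fn G) from hab)
      rwa [map_mul, map_mul, ev_pull, ev_pull, ev_pull, ev_pull, e, lift_fst] at h'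
    let I : Ideal (Fn G) := Submodule.comap (LinearMap.mulRight (Fn G) a) (Ideal.span {b})
    have hI : ∀ f, f ∈ I ↔ ∃ a', a' * (b : Fn G) = f * a := fun f => Ideal.mem_span_singleton'
    have hst : ∀ f ∈ I, ∀ y : T0 k ⟶ H, R (y ≫ i) f ∈ I := by
      intro f hf y
      obtain ⟨a', ha'⟩ := (hI f).1 hf
      refine (hI _).2 ⟨R (y ≫ i) a', mul_right_cancel₀ (b := R (y ≫ i) (b : Fn G))
        (fun h => hb (hRinj _ _ h)) ?_⟩
      have h1 := congrArg (R (y ≫ i)) ha'
      rw [map_mul, map_mul] at h1
      rw [mul_right_comm, h1, _root_.mul_assoc, hfr, ← _root_.mul_assoc]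
    let Inv := invAlg i
    obtain ⟨c, hcI, hc0, hcr⟩ : ∃ c ∈ Inv, c ≠ 0 ∧ c ∈ I.radical := by
      by_contra hno
      push Not at hno
      have hbot : I.comap Inv.val.toRingHom = ⊥ := (Submodule.eq_bot_iff _).2 fun c hc => Subtype.ext (by
        by_contra h0
        exact hno c.1 c.2 h0 (Ideal.le_radical hc))
      obtain ⟨Q, hQ, hIQ, hQbot⟩ := Ideal.exists_comap_eq_of_mem_minimalPrimes (I := I) Inv.val.toRingHom ⊥
        (by
          rw [hbot]
          show ⊥ ∈ minimalPrimes Inv
          rw [IsDomain.minimalPrimes_eq_singleton_bot]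
          exact rfl)
      obtain ⟨s, hs, hsep⟩ := exists_separating (k := k) i
      have hsI : Algebra.adjoin k (s : Set (Fn G)) ≤ Inv :=
        Algebra.adjoin_le fun f hf => (isRTransInv_iff i f).1 (hs f hf)
      let S := Algebra.adjoin k (s : Set (Fn G))
      haveI : Algebra.FiniteType k S := ⟨(Subalgebra.fg_top S).2 ⟨s, rfl⟩⟩
      haveI := hQ
      haveI : Algebra.FiniteType k (Fn G ⧸ Q) :=
        Algebra.FiniteType.of_surjective (Ideal.Quotient.mkₐ k Q) Ideal.Quotient.mk_surjective
      let g : S →ₐ[k] Fn G ⧸ Q := (Ideal.Quotient.mkₐ k Q).comp S.val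
      have hg : Function.Injective g := (injective_iff_map_eq_zero g).2 fun c hc => by
        have h0 : c.1 ∈ Q := (Ideal.Quotient.eq_zero_iff_mem (I := Q)).1 hc
        have h1 : (⟨c.1, hsI c.2⟩ : Inv) ∈ Q.comap Inv.val.toRingHom := h0
        rw [hQbot, Ideal.mem_bot] at h1
        exact Subtype.ext (show c.1 = (0 : Fn G) from congrArg Subtype.val h1)
      obtain ⟨d, hd, hlift⟩ := exists_ne_zero_lift (k := k) g hg
      obtain ⟨x₀, hx₀⟩ : ∃ x : T0 k ⟶ G, ev x ((b : Fn G) * d.1) ≠ 0 := by
        by_contra! h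
        refine mul_ne_zero hb (fun h0 => hd (Subtype.ext h0)) ?_
        exact ext_points fun x => by rw [h, map_zero]
      rw [map_mul, mul_ne_zero_iff] at hx₀
      obtain ⟨ζ, hζ⟩ := hlift ((ev x₀).comp S.val) hx₀.2
      obtain ⟨z, hz⟩ := exists_pt_of_ker (ζ.comp (Ideal.Quotient.mkₐ k Q))
      obtain ⟨h', hh'⟩ := hobs _ (hull_of_sep i (hsep x₀ z fun f hf => by
        have h1 := AlgHom.congr_fun hζ ⟨f, Algebra.subset_adjoin hf⟩
        rw [hz]
        exact h1.symm))
      have hy : x₀⁻¹ * z = (e0 ≫ h') ≫ i := by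
        rw [Category.assoc, hh', ← Category.assoc, e0_e1, Category.id_comp]
      have hbI : (b : Fn G) ∈ I := (hI _).2 ⟨(a : Fn G), _root_.mul_comm _ _⟩
      have h0 : ev z (R ((e0 ≫ h')⁻¹ ≫ i) (b : Fn G)) = 0 := by
        rw [hz, AlgHom.comp_apply, Ideal.Quotient.mkₐ_eq_mk, Ideal.Quotient.eq_zero_iff_mem.2 (hIQ (hst _ hbI _)),
          map_zero]
      rw [ev_R, GrpObj.inv_comp, ← hy, _root_.mul_inv_rev, _root_.inv_inv, mul_inv_cancel_left] at h0
      exact hx₀.1 h0
    obtain ⟨m, hm⟩ := hcr
    obtain ⟨a', ha'⟩ := (hI _).1 hm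
    have hcm : c ^ m ∈ Inv := Inv.pow_mem hcI m
    refine ⟨a', c ^ m, (isRTransInv_iff i _).2 fun x y => ?_, (isRTransInv_iff i _).2 hcm, (show c ^ m ≠ (0 : Fn G) from pow_ne_zero _ hc0),
      (_root_.mul_comm (a : Fn G) (c ^ m)).trans ha'.symm⟩
    have hRc : R (y ≫ i) (c ^ m) = c ^ m := ext_points fun z => by rw [ev_R]; exact hcm z y
    have h2 : R (y ≫ i) a' = a' := by
      have h1 := congrArg (R (y ≫ i)) ha'
      rw [map_mul, map_mul, hRc] at h1
      refine mul_right_cancel₀ (b := R (y ≫ i) (b : Fn G) * b) (mul_ne_zero (fun h => hb (hRinj _ _ h)) hb) ?_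
      rw [← _root_.mul_assoc, h1, _root_.mul_assoc, hfr, ← _root_.mul_assoc, ← ha']
      ring
    rw [← ev_R, h2]
  · intro hyp g hg
    refine (exists_lift i g).2 ?_
    obtain ⟨S, hS⟩ := (RingHom.ker (pull i)).fg_of_isNoetherianRing
    obtain ⟨W, hfin, hSW, hW⟩ := exists_stable_finset (G := G) S
    obtain ⟨D⟩ := exists_detData i W hW
    let x := e0 ≫ g
    have hinv : ∀ f : Fn G, AGF.IsRTransInv i f → R x f = f := fun f hf => ext_points fun z => by
      rw [ev_R]
      exact (isRTransInv_pt_iff g f).1 (hg f hf) z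
    have hφ0 : D.φ ≠ 0 := fun h => by
      have := D.φ_one
      rw [h, map_zero] at this
      exact zero_ne_one this
    have hkey : ∀ q : D.κ → (T0 k ⟶ G),
        (valMat (fun t => q t * x) D.w).det * 1 = (valMat q D.w).det * ev x D.φ := by
      intro q
      let Δ : Fn G := (transMat q D.w).det
      have hΔ : ∀ z, ev z Δ = (valMat (fun t => q t * z) D.w).det := fun z => ev_det_transMat _ _ _
      obtain ⟨(a' : Fn G), (b' : Fn G), ha', hb', hb0, heq⟩ := hyp Δ D.φ hφ0
        (show pull ((G ◁ i) ≫ μ[G]) Δ * pull (fst G H) D.φ = pull (fst G H) Δ * pull ((G ◁ i) ≫ μ[G]) D.φ from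
          ext_points fun z => by
            rw [map_mul, map_mul, ev_pull, ev_pull, ev_pull, ev_pull,
              show z = lift (z ≫ fst G H) (z ≫ snd G H) by ext <;> simp, e, lift_fst, hΔ, hΔ, D.φ_weight]
            simp only [← _root_.mul_assoc]
            rw [D.weight (fun t => q t * (z ≫ fst G H))]
            ring)
      have heq' : Δ * b' = a' * D.φ := heq
      have h1 : R x Δ * D.φ = Δ * R x D.φ := by
        refine mul_right_cancel₀ (b := (b' : Fn G)) hb0 ?_
        have h2 := congrArg (R x) heq'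
        rw [map_mul, map_mul, hinv _ ha', hinv _ hb'] at h2
        rw [mul_right_comm, h2, mul_right_comm Δ, heq']
        ring
      have h2 := congrArg (ev (1 : T0 k ⟶ G)) h1
      rw [map_mul, map_mul, ev_R, ev_R, hΔ, hΔ, D.φ_one] at h2
      simpa only [_root_.mul_one, _root_.one_mul] using h2
    have hb : ev x D.φ ≠ 0 := fun h => by
      have h2 := hkey (fun t => D.p t * x⁻¹)
      rw [h, mul_zero, _root_.mul_one] at h2
      simp only [inv_mul_cancel_right] at h2
      exact D.p_det h2
    exact exists_of_R_mem i S hS hSW D x fun c => mem_span_of_det_proportional D.w D.p x 1 _ hb D.p_det hkey c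

end Groth.Agent.S11219
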