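import Groth.Statements.S11220
import Groth.Agent.H19Obs.Char

set_option autoImplicit false
universe u
open CategoryTheory MonoidalCategory CartesianMonoidalCategory MonObj GrpObj AlgebraicGeometry
open scoped TensorProduct
open AGF

namespace Groth.Agent.S11220

open CategoryTheory.Limits
open Groth.Agent.H27Witt Groth.Agent.H27Witt.Fn Groth.Agent.H19Obs

attribute [local instance 2000] Hom.group Hom.monoid


/-- Let k be an algebraically closed field, G a linear algebraic group over k (an affine smooth group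
scheme over k) and H a closed subgroup of G (a smooth closed subgroup scheme, i : H → G). Then H is
observable in G if and only if, for every character χ of H which occurs on a nonzero
H-semi-invariant vector of some finite-dimensional rational G-module (h·v = χ(h)v), the inverse
character χ⁻¹ also occurs on a nonzero H-semi-invariant vector of some finite-dimensional rational
G-module (every one-dimensional H-module found inside a finite-dimensional G-module has its dual
inside one too). -/
theorem result (k : Type u) [Field k] [IsAlgClosed k]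
    (G : Over (Spec (CommRingCat.of k))) [GrpObj G] [IsAffine G.left] [Smooth G.hom]
    (H : Over (Spec (CommRingCat.of k))) [GrpObj H] [Smooth H.hom] (i : H ⟶ G) [IsMonHom i]
    [IsClosedImmersion i.left] :
    AGF.IsObservableIn k i ↔
      ∀ (χ : H ⟶ Red.Gm (Spec (CommRingCat.of k))), IsMonHom χ →
        (∃ (V : Type u) (_ : AddCommGroup V) (_ : Module k V) (_ : Module.Finite k V) (ρ : VecGrp.GMod G V) (v : V), v ≠ 0 ∧
          ∀ (B : Type u) [CommRing B] [Algebra k B] (h : VecGrp.pt k B ⟶ H),
            ρ.ρ B (h ≫ i) ((1 : B) ⊗ₜ[k] v) = VecGrp.chiVal χ h • ((1 : B) ⊗ₜ[k] v)) →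
        (∃ (V : Type u) (_ : AddCommGroup V) (_ : Module k V) (_ : Module.Finite k V) (ρ : VecGrp.GMod G V) (v : V), v ≠ 0 ∧
          ∀ (B : Type u) [CommRing B] [Algebra k B] (h : VecGrp.pt k B ⟶ H),
            ρ.ρ B (h ≫ i) ((1 : B) ⊗ₜ[k] v) = VecGrp.chiVal χ⁻¹ h • ((1 : B) ⊗ₜ[k] v)) := by
  classical
  haveI : IsAffine H.left := isAffine_of_isAffineHom i.left
  constructor
  · intro hobs χ hχ _
    haveI : IsMonHom χ⁻¹ := inferInstance
    obtain ⟨W, _, _, _, ρ, φ, hφ, heq⟩ := extendsAlong_of_observable i hobs (charMod χ⁻¹)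
    refine ⟨W, inferInstance, inferInstance, inferInstance, ρ, φ 1,
      fun h => one_ne_zero ((injective_iff_map_eq_zero φ).1 hφ _ h), ?_⟩
    intro B _ _ g
    have h := heq B g ((1 : B) ⊗ₜ[k] (1 : k))
    rw [charMod_apply, map_smul, LinearMap.baseChange_tmul] at h
    exact h.symm
  · intro hyp
    haveI := finiteType G
    haveI := Algebra.FiniteType.isNoetherianRing k (Fn G)
    obtain ⟨S, hS⟩ := (RingHom.ker (pull i)).fg_of_isNoetherianRing
    obtain ⟨W, hfin, hSW, hW⟩ := exists_stable_finset (G := G) S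
    obtain ⟨D⟩ := exists_detData i W hW
    have hFy : ∀ y : T0 k ⟶ H, ev y (pull i D.φ) = D.χ y := fun y => by
      have h0 := D.φ_weight 1 y
      rw [_root_.one_mul, D.φ_one, _root_.mul_one] at h0
      rw [ev_pull, h0]
    obtain ⟨c, hc, hcF⟩ := exists_char (pull i D.φ)
      (by rw [ev_pull, MonObj.one_comp, D.φ_one]) (fun y y' => by rw [hFy, hFy, hFy, D.χ_mul])
    obtain ⟨U, hfinU, hφU, hU⟩ := exists_stable_finset (G := G) {D.φ}
    have hφm : D.φ ∈ U := hφU _ (Finset.mem_singleton_self _)
    obtain ⟨ρ, hρ⟩ := exists_gmod_pi_apply hU PUnit.{u+1}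
    let v : PUnit.{u+1} → U := fun _ => ⟨D.φ, hφm⟩
    have hv : v ≠ 0 := fun h => by
      have h1 := congrArg (fun w : PUnit.{u+1} → U => ev (1 : T0 k ⟶ G) (w PUnit.unit : Fn G)) h
      simp [v, D.φ_one] at h1
    have hsemi := semiInvariant_of_points i ρ c v fun y => by
      rw [hρ, ← TensorProduct.tmul_smul]
      congr 1
      funext s
      refine Subtype.ext (ext_points fun x => ?_)
      simp only [v, Pi.smul_apply, Submodule.coe_smul, map_smul, smul_eq_mul, ev_R]
      rw [← Category.assoc e0, e0_e1, Category.id_comp, D.φ_weight, hcF, hFy]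
    obtain ⟨E, _, _, _, ρ', w, hw, hweq⟩ := hyp c hc ⟨_, inferInstance, inferInstance, inferInstance, ρ, v, hv, hsemi⟩
    obtain ⟨ℓ, hℓ⟩ : ∃ ℓ : E →ₗ[k] k, ℓ w ≠ 0 := by
      by_contra! h
      exact hw ((Module.forall_dual_apply_eq_zero_iff k w).1 h)
    refine observable_of_invWeight i S hS hSW D (coefFn ρ' ℓ w) (fun x y => ?_) ?_
    · rw [ev_coef_mul i ρ' c⁻¹ w ℓ hweq x y]
      congr 1
      have h1 : ev y (charFn c⁻¹) * D.χ y = 1 := by rw [← hFy, ← hcF, ev_charFn_inv]
      have h2 : D.χ y⁻¹ * D.χ y = 1 := by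
        rw [← D.χ_mul, inv_mul_cancel, ← hFy, ev_pull, MonObj.one_comp, D.φ_one]
      exact mul_right_cancel₀ (right_ne_zero_of_mul_eq_one h1) (h1.trans h2.symm)
    · rw [ev_coefFn, MonObj.comp_one, map_one]
      simpa using hℓ

end Groth.Agent.S11220
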