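import Groth.Statements.S11221
import Mathlib

set_option autoImplicit false
universe u
open CategoryTheory MonoidalCategory CartesianMonoidalCategory MonObj GrpObj AlgebraicGeometry
open scoped TensorProduct
open AGF

namespace Groth.Agent.S11221

/-- Let R be a Noetherian integrally closed domain with fraction field K and let p be a prime ideal of R
of height one. Then there is f ∈ K which is not in R but lies in the local ring R_q ⊆ K of every
height-one prime q ≠ p (f = a/b with b ∉ q): a rational function on Spec R with a pole along V(p)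
only. (The published statement is for the coordinate ring of a normal affine variety; this row is
for any Noetherian integrally closed domain, which is all the argument uses.) -/
theorem result (R : Type u) [CommRing R] [IsDomain R] [IsNoetherianRing R] [IsIntegrallyClosed R]
    (p : Ideal R) [p.IsPrime] (hp : p.height = 1) :
    ∃ f : FractionRing R, f ∉ Set.range ⇑(algebraMap R (FractionRing R)) ∧
      ∀ q : Ideal R, q.IsPrime → q.height = 1 → q ≠ p →
        ∃ a b : R, b ∉ q ∧ f * algebraMap R (FractionRing R) b = algebraMap R (FractionRing R) a := by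
  classical
  have hp0 : p ≠ ⊥ := fun h => by rw [h, Ideal.height_bot] at hp; exact zero_ne_one hp
  obtain ⟨a, ha, ha0⟩ := Submodule.exists_mem_ne_zero_of_ne_bot hp0
  have hmin : p ∈ (Ideal.span ({a} : Set R)).minimalPrimes := by
    refine Ideal.mem_minimalPrimes_of_height_le ((Ideal.span_singleton_le_iff_mem (I := p)).2 ha) ?_
    rw [hp]
    exact Ideal.one_le_height_span_singleton_of_mem_nonZeroDivisors (mem_nonZeroDivisors_of_ne_zero ha0)
  have hass : IsAssociatedPrime p (R ⧸ Ideal.span ({a} : Set R)) := by
    refine Module.associatedPrimes.minimalPrimes_annihilator_subset_associatedPrimes R (R ⧸ Ideal.span ({a} : Set R)) ?_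
    rw [Ideal.annihilator_quotient]
    exact hmin
  obtain ⟨-, x, hx⟩ := isAssociatedPrime_iff.1 hass
  obtain ⟨b, rfl⟩ := Ideal.Quotient.mk_surjective x
  have hmem : ∀ c : R, c ∈ p ↔ a ∣ c * b := fun c => by
    rw [hx, Submodule.mem_colon_singleton, Submodule.mem_bot, Algebra.smul_def,
      Ideal.Quotient.algebraMap_eq, ← map_mul, Ideal.Quotient.eq_zero_iff_mem, Ideal.mem_span_singleton]
  refine ⟨algebraMap R (FractionRing R) b / algebraMap R (FractionRing R) a, ?_, fun q hq hq1 hne => ?_⟩
  · rintro ⟨r, hr⟩
    have hb : b = r * a := by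
      apply IsFractionRing.injective R (FractionRing R)
      rw [map_mul, hr, div_mul_cancel₀]
      exact (map_ne_zero_iff _ (IsFractionRing.injective R (FractionRing R))).2 ha0
    exact (Ideal.IsPrime.ne_top ‹p.IsPrime›) ((Ideal.eq_top_iff_one p).2 ((hmem 1).2 ⟨r, by rw [_root_.one_mul, hb, mul_comm]⟩))
  · obtain ⟨c, hcp, hcq⟩ : ∃ c ∈ p, c ∉ q := by
      by_contra h
      push Not at h
      have hlt : p < q := lt_of_le_of_ne h (Ne.symm hne)
      have := Ideal.height_strict_mono_of_isPrime_of_isPrime hlt
      rw [hp, hq1] at this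
      exact lt_irrefl _ this
    obtain ⟨d, hd⟩ := (hmem c).1 hcp
    refine ⟨d, c, hcq, ?_⟩
    rw [div_mul_eq_mul_div, div_eq_iff ((map_ne_zero_iff _ (IsFractionRing.injective R (FractionRing R))).2 ha0),
      ← map_mul, ← map_mul, mul_comm b c, hd, mul_comm]

end Groth.Agent.S11221
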