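import Groth.Statements.S11223
import Mathlib.RingTheory.MvPolynomial.Homogeneous
import Mathlib.RingTheory.IntegralClosure.Algebra.Basic
import Mathlib.RingTheory.Finiteness.Basic

set_option autoImplicit false
universe u
open CAlg

namespace Groth.Agent.S11223

/-- Let k be a field, let z_1, ..., z_m be homogeneous polynomials of positive degree in the polynomial
ring k[x_1, ..., x_n], and suppose the radical of the ideal (z_1, ..., z_m) is the ideal (x_1, ...,
x_n) generated by the variables. Then the polynomial ring is integral over the subalgebra generated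
by z_1, ..., z_m. (The published statement is over an algebraically closed field; this row takes any
field, which its proof allows.) -/
theorem result (k : Type u) [Field k] (n m : ℕ)
    (z : Fin m → MvPolynomial (Fin n) k) (d : Fin m → ℕ) (hd : ∀ i, 0 < d i)
    (hz : ∀ i, (z i).IsHomogeneous (d i))
    (hrad : (Ideal.span (Set.range z)).radical =
      Ideal.span (Set.range (MvPolynomial.X : Fin n → MvPolynomial (Fin n) k))) :
    Algebra.IsIntegral (Algebra.adjoin k (Set.range z)) (MvPolynomial (Fin n) k) := by
  classical
  have hX : ∀ j : Fin n, ∃ e : ℕ, (MvPolynomial.X j : MvPolynomial (Fin n) k) ^ e ∈ Ideal.span (Set.range z) := by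
    intro j
    have : (MvPolynomial.X j : MvPolynomial (Fin n) k) ∈ (Ideal.span (Set.range z)).radical := by
      rw [hrad]; exact Ideal.subset_span ⟨j, rfl⟩
    exact this
  choose N0 hN0 using hX
  let N := Finset.univ.sup N0 + 1
  have hN : ∀ j, (MvPolynomial.X j : MvPolynomial (Fin n) k) ^ N ∈ Ideal.span (Set.range z) := fun j => by
    rw [show N = N0 j + (N - N0 j) by
      have := Finset.le_sup (f := N0) (Finset.mem_univ j); omega, pow_add]
    exact Ideal.mul_mem_right _ _ (hN0 j)
  -- homogeneous coefficients
  have hg : ∀ j, ∃ g : Fin m → MvPolynomial (Fin n) k,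
      (MvPolynomial.X j : MvPolynomial (Fin n) k) ^ N = ∑ i, g i * z i ∧
      ∀ i, g i ≠ 0 → (g i).IsHomogeneous (N - d i) ∧ d i ≤ N := by
    intro j
    obtain ⟨g, hg⟩ := Ideal.mem_span_range_iff_exists_fun.mp (hN j)
    refine ⟨fun i => if d i ≤ N then MvPolynomial.homogeneousComponent (N - d i) (g i) else 0, ?_,
      fun i hi => ?_⟩
    · have h1 := congrArg (MvPolynomial.homogeneousComponent N) hg
      rw [MvPolynomial.homogeneousComponent_eq_self (MvPolynomial.isHomogeneous_X_pow j N), map_sum] at h1
      rw [← h1]
      refine Finset.sum_congr rfl fun i _ => ?_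
      conv_lhs => rw [← MvPolynomial.sum_homogeneousComponent (g i), Finset.sum_mul, map_sum]
      have hterm : ∀ l, MvPolynomial.homogeneousComponent N
          (MvPolynomial.homogeneousComponent l (g i) * z i) =
          if N = l + d i then MvPolynomial.homogeneousComponent l (g i) * z i else 0 := fun l =>
        MvPolynomial.homogeneousComponent_of_mem
          ((MvPolynomial.homogeneousComponent_isHomogeneous l (g i)).mul (hz i))
      simp only [hterm]
      split_ifs with hdi
      · rw [Finset.sum_eq_single (N - d i)]
        · rw [if_pos (by omega)]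
        · intro l _ hl
          rw [if_neg (by omega)]
        · intro hl
          rw [Finset.mem_range, not_lt] at hl
          rw [MvPolynomial.homogeneousComponent_eq_zero _ _ (by omega)]
          simp
      · rw [zero_mul]
        exact Finset.sum_eq_zero fun l _ => by rw [if_neg (by omega)]
    · by_cases hdi : d i ≤ N
      · simp only [if_pos hdi]
        exact ⟨MvPolynomial.homogeneousComponent_isHomogeneous _ _, hdi⟩
      · simp [if_neg hdi] at hi
  choose g hg1 hg2 using hg
  let A := Algebra.adjoin k (Set.range z)
  let s : Set (Fin n →₀ ℕ) := {v | ∀ j, v j < N}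
  let M : Submodule A (MvPolynomial (Fin n) k) :=
    Submodule.span A ((fun v => MvPolynomial.monomial v (1 : k)) '' s)
  have hfin : s.Finite := by
    refine Set.Finite.subset (Finsupp.finite_of_degree_le (σ := Fin n) (n * N)) fun v hv => ?_
    simp only [Set.mem_setOf_eq]
    rw [Finsupp.degree_eq_sum]
    exact (Finset.sum_le_sum fun j _ => (hv j).le).trans (by simp)
  have hhom : ∀ e, ∀ f : MvPolynomial (Fin n) k, f.IsHomogeneous e → f ∈ M := by
    intro e
    induction e using Nat.strong_induction_on with
    | _ e ih =>
      intro f hf
      rw [f.as_sum]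
      refine sum_mem fun v hv => ?_
      have hve : v.degree = e := by
        have := hf (MvPolynomial.mem_support_iff.mp hv)
        rw [Finsupp.degree_eq_weight_one]; exact this
      by_cases hvs : v ∈ s
      · have : MvPolynomial.monomial v (f.coeff v) =
            (algebraMap k A (f.coeff v)) • MvPolynomial.monomial v (1 : k) := by
          rw [algebraMap_smul, MvPolynomial.smul_monomial]; simp
        rw [this]
        exact Submodule.smul_mem _ _ (Submodule.subset_span ⟨v, hvs, rfl⟩)
      · obtain ⟨j, hj⟩ : ∃ j, N ≤ v j := by simpa [s, not_lt] using hvs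
        have hle : Finsupp.single j N ≤ v := by rw [Finsupp.single_le_iff]; exact hj
        have hsplit : MvPolynomial.monomial v (f.coeff v) =
            MvPolynomial.monomial (v - Finsupp.single j N) (f.coeff v) *
              (MvPolynomial.X j : MvPolynomial (Fin n) k) ^ N := by
          rw [MvPolynomial.X_pow_eq_monomial, MvPolynomial.monomial_mul, mul_one,
            tsub_add_cancel_of_le hle]
        have hdeg : (v - Finsupp.single j N).degree + N = e := by
          rw [← hve]
          conv_rhs => rw [← tsub_add_cancel_of_le hle, map_add, Finsupp.degree_single]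
        rw [hsplit, hg1 j, Finset.mul_sum]
        refine sum_mem fun i _ => ?_
        by_cases hgi : g j i = 0
        · simp [hgi]
        obtain ⟨hgh, hdi⟩ := hg2 j i hgi
        have := hd i
        have hmem := ih _ (by omega)
          (MvPolynomial.monomial (v - Finsupp.single j N) (f.coeff v) * g j i)
          ((MvPolynomial.isHomogeneous_monomial _ rfl).mul hgh)
        rw [show MvPolynomial.monomial (v - Finsupp.single j N) (f.coeff v) * (g j i * z i) =
          (⟨z i, Algebra.subset_adjoin ⟨i, rfl⟩⟩ : A) •
            (MvPolynomial.monomial (v - Finsupp.single j N) (f.coeff v) * g j i) by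
          rw [Subalgebra.smul_def, smul_eq_mul]; ring]
        exact Submodule.smul_mem _ _ hmem
  haveI : Module.Finite A (MvPolynomial (Fin n) k) := by
    refine ⟨?_⟩
    have : M = ⊤ := eq_top_iff.mpr fun f _ => by
      rw [← MvPolynomial.sum_homogeneousComponent f]
      exact sum_mem fun l _ => hhom l _ (MvPolynomial.homogeneousComponent_isHomogeneous l f)
    rw [← this]
    exact Submodule.fg_span (hfin.image _)
  exact Algebra.IsIntegral.of_finite A _

end Groth.Agent.S11223
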