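import Groth.Statements.S11229
import Groth.Agent.H20Torus.Fixed
import Groth.Agent.H20Torus.Stable

set_option autoImplicit false
universe u
open CategoryTheory MonoidalCategory CartesianMonoidalCategory MonObj GrpObj AlgebraicGeometry
open scoped TensorProduct
open AGF

namespace Groth.Agent.S11229

/-- Let k an algebraically closed field, G a connected reductive linear algebraic group over k, B a
Borel subgroup of G with unipotent radical U (a maximal unipotent subgroup), and let A be a
commutative k-algebra with a rational action of G by algebra automorphisms. Then A has a nonzero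
nilpotent element if and only if A^U does; equivalently A is reduced if and only if A^U is reduced. -/
theorem result (k : Type u) [Field k] [IsAlgClosed k]
    (G : Over (Spec (CommRingCat.of k))) [GrpObj G] (hG : Red.IsReductiveOver k G)
    (Bo : Over (Spec (CommRingCat.of k))) [GrpObj Bo] (iB : Bo ⟶ G) (hB : Red.IsBorelOver k iB)
    (U : Over (Spec (CommRingCat.of k))) [GrpObj U] (u : U ⟶ Bo) (hU : Par.IsUnipotentRadical u)
    (A : Type u) [CommRing A] [Algebra k A] (ρ : VecGrp.GMod G A) (hρ : ρ.IsMult) :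
    IsReduced A ↔ IsReduced ↥(ρ.fixedSubalgebra hρ (u ≫ iB)) := by
  obtain ⟨hmB, hcB, -⟩ := hB
  haveI := hmB
  obtain ⟨hconn, hns⟩ := H20Torus.hasNoSubtorus_of_isUnipotentRadical hU
  obtain ⟨hmu, hcu, -, hsm, -⟩ := hU
  haveI := hmu; haveI := hcu; haveI := hcB; haveI := hsm; haveI := hconn
  haveI : IsAffine G.left := hG.1
  haveI : IsAffine Bo.left := isAffine_of_isAffineHom iB.left
  haveI : IsAffine U.left := isAffine_of_isAffineHom u.left
  let m := H20Torus.restrictAlong (u ≫ iB) ρ
  refine ⟨fun _ => isReduced_of_injective (ρ.fixedSubalgebra hρ (u ≫ iB)).val Subtype.val_injective, fun hred => ?_⟩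
  by_contra hA
  have hne : (nilradical A).restrictScalars k ≠ ⊥ := fun h => hA ⟨fun x hx =>
    (Submodule.mem_bot k).1 (h ▸ (mem_nilradical.2 hx : x ∈ (nilradical A).restrictScalars k))⟩
  obtain ⟨x, hx, hx0, hfix⟩ := H20Torus.exists_fixed hns m hne fun B _ _ _ _ h _ y hy =>
    H20Torus.mem_baseChange_of_forall_slice fun ℓ =>
      H20Torus.slice_mem_nilradical (H20Torus.isNilpotent_gmod ρ hρ (h ≫ u ≫ iB) (mem_nilradical.1 hy)) ℓ
  obtain ⟨n, hn⟩ := mem_nilradical.1 hx
  exact hx0 (congrArg Subtype.val (hred.eq_zero (⟨x, hfix⟩ : ↥(ρ.fixedSubalgebra hρ (u ≫ iB))) ⟨n, Subtype.ext hn⟩))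

end Groth.Agent.S11229
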