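import Groth.Statements.S11230
import Groth.Agent.H20Torus.Fixed
import Groth.Agent.H20Torus.Stable

set_option autoImplicit false
universe u
open CategoryTheory MonoidalCategory CartesianMonoidalCategory MonObj GrpObj AlgebraicGeometry
open scoped TensorProduct
open AGF

namespace Groth.Agent.S11230

/-- Let k an algebraically closed field, G a connected reductive linear algebraic group over k, B a
Borel subgroup of G with unipotent radical U (a maximal unipotent subgroup), and let A be a
commutative k-algebra with a rational action of G by algebra automorphisms. Then A has zero divisors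
(two nonzero elements with product zero) if and only if the algebra of invariants A^U does. -/
theorem result (k : Type u) [Field k] [IsAlgClosed k]
    (G : Over (Spec (CommRingCat.of k))) [GrpObj G] (hG : Red.IsReductiveOver k G)
    (Bo : Over (Spec (CommRingCat.of k))) [GrpObj Bo] (iB : Bo ⟶ G) (hB : Red.IsBorelOver k iB)
    (U : Over (Spec (CommRingCat.of k))) [GrpObj U] (u : U ⟶ Bo) (hU : Par.IsUnipotentRadical u)
    (A : Type u) [CommRing A] [Algebra k A] (ρ : VecGrp.GMod G A) (hρ : ρ.IsMult) :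
    (∃ a b : A, a ≠ 0 ∧ b ≠ 0 ∧ a * b = 0) ↔
      ∃ a b : ↥(ρ.fixedSubalgebra hρ (u ≫ iB)), a ≠ 0 ∧ b ≠ 0 ∧ a * b = 0 := by
  obtain ⟨hmB, hcB, -⟩ := hB
  haveI := hmB
  obtain ⟨hconn, hns⟩ := H20Torus.hasNoSubtorus_of_isUnipotentRadical hU
  obtain ⟨hmu, hcu, -, hsm, -⟩ := hU
  haveI := hmu; haveI := hcu; haveI := hcB; haveI := hsm; haveI := hconn
  haveI : IsAffine G.left := hG.1
  haveI : IsAffine Bo.left := isAffine_of_isAffineHom iB.left
  haveI : IsAffine U.left := isAffine_of_isAffineHom u.left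
  let m := H20Torus.restrictAlong (u ≫ iB) ρ
  let R := ρ.fixedSubalgebra hρ (u ≫ iB)
  refine ⟨fun hab => ?_, fun ⟨a, b, ha, hb, h⟩ => ⟨a, b, fun e => ha (Subtype.ext e), fun e => hb (Subtype.ext e),
    congrArg Subtype.val h⟩⟩
  by_cases hA : _root_.IsReduced A
  · obtain ⟨a, b, ha, hb, hab⟩ := hab
    have step : ∀ a b : A, a ≠ 0 → a * b = 0 → ∃ a' : A, a' ≠ 0 ∧ a' ∈ R ∧ a' * b = 0 := by
      intro a b ha hab
      let W : Submodule k A := LinearMap.ker (LinearMap.mulRight k b)
      obtain ⟨x, hx, hx0, hfix⟩ := H20Torus.exists_fixed hns m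
        (show W ≠ ⊥ from fun h => ha ((Submodule.mem_bot k).1 (h ▸ (hab : a ∈ W))))
        fun B _ _ _ _ h ⟨φ, hφ⟩ y hy => H20Torus.mem_baseChange_of_forall_slice fun ℓ => by
          show TensorProduct.lid k A (ℓ.rTensor A _) * b = 0
          rw [← H20Torus.slice_mul_one_tmul]
          exact (congrArg (fun t => TensorProduct.lid k A (ℓ.rTensor A t))
            (H20Torus.gmod_mul_one_tmul_eq_zero ρ hρ (h ≫ u ≫ iB) φ hφ (a := y) (b := b) hy)).trans (by simp)
      exact ⟨x, hx0, hfix, hx⟩
    obtain ⟨a', ha', haR, hab'⟩ := step a b ha hab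
    obtain ⟨b', hb', hbR, hab''⟩ := step b a' hb (by rw [_root_.mul_comm]; exact hab')
    exact ⟨⟨b', hbR⟩, ⟨a', haR⟩, fun e => hb' (congrArg Subtype.val e), fun e => ha' (congrArg Subtype.val e),
      Subtype.ext hab''⟩
  · have hne : (nilradical A).restrictScalars k ≠ ⊥ := fun h => hA ⟨fun x hx =>
      (Submodule.mem_bot k).1 (h ▸ (mem_nilradical.2 hx : x ∈ (nilradical A).restrictScalars k))⟩
    obtain ⟨x, hx, hx0, hfix⟩ := H20Torus.exists_fixed hns m hne fun B _ _ _ _ h _ y hy =>
      H20Torus.mem_baseChange_of_forall_slice fun ℓ =>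
        H20Torus.slice_mem_nilradical (H20Torus.isNilpotent_gmod ρ hρ (h ≫ u ≫ iB) (mem_nilradical.1 hy)) ℓ
    let x' : ↥R := ⟨x, hfix⟩
    have hnil : IsNilpotent x' := by
      obtain ⟨n, hn⟩ := mem_nilradical.1 hx
      exact ⟨n, Subtype.ext hn⟩
    have hne' : x' ≠ 0 := fun e => hx0 (congrArg Subtype.val e)
    haveI : Nontrivial ↥R := nontrivial_of_ne x' 0 hne'
    classical
    have hn0 : Nat.find hnil ≠ 0 := fun e => by
      have h := Nat.find_spec hnil
      rw [e, pow_zero] at h
      exact one_ne_zero (α := ↥R) h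
    obtain ⟨n, hn⟩ := Nat.exists_eq_succ_of_ne_zero hn0
    refine ⟨x', x' ^ n, hne', fun e => ?_, ?_⟩
    · exact Nat.find_min hnil (by omega : n < Nat.find hnil) e
    · rw [← pow_succ', ← Nat.succ_eq_add_one, ← hn]
      exact Nat.find_spec hnil

end Groth.Agent.S11230
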