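import Groth.Statements.S11231
import Groth.Agent.H20Torus.Fixed
import Groth.Agent.H20Torus.Stable

set_option autoImplicit false
universe u
open CategoryTheory MonoidalCategory CartesianMonoidalCategory MonObj GrpObj AlgebraicGeometry
open scoped TensorProduct
open AGF

namespace Groth.Agent.S11231

/-- Let k an algebraically closed field, G a connected reductive linear algebraic group over k, B a
Borel subgroup of G with unipotent radical U (a maximal unipotent subgroup), and let A be a
commutative k-algebra with a rational action of G by algebra automorphisms. If A is an integrally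
closed domain then so is A^U. (The published statement is for A normal; its proof reduces to the
case of a domain, which is the case stated here.) -/
theorem result (k : Type u) [Field k] [IsAlgClosed k]
    (G : Over (Spec (CommRingCat.of k))) [GrpObj G] (hG : Red.IsReductiveOver k G)
    (Bo : Over (Spec (CommRingCat.of k))) [GrpObj Bo] (iB : Bo ⟶ G) (hB : Red.IsBorelOver k iB)
    (U : Over (Spec (CommRingCat.of k))) [GrpObj U] (u : U ⟶ Bo) (hU : Par.IsUnipotentRadical u)
    (A : Type u) [CommRing A] [IsDomain A] [Algebra k A] [IsIntegrallyClosed A]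
    (ρ : VecGrp.GMod G A) (hρ : ρ.IsMult) :
    IsIntegrallyClosed ↥(ρ.fixedSubalgebra hρ (u ≫ iB)) := by
  let R := ρ.fixedSubalgebra hρ (u ≫ iB)
  refine (isIntegrallyClosed_iff (FractionRing ↥R)).2 fun {x} hx => ?_
  obtain ⟨⟨a, b⟩, hab⟩ := IsLocalization.surj (nonZeroDivisors ↥R) x
  have hinj : Function.Injective (algebraMap ↥R A) := Subtype.val_injective
  let f : FractionRing ↥R →+* FractionRing A := IsFractionRing.map hinj
  have hf : ∀ r : ↥R, f (algebraMap ↥R _ r) = algebraMap A _ (r : A) := fun r => IsLocalization.map_eq _ r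
  obtain ⟨c, hc⟩ : ∃ c, algebraMap A (FractionRing A) c = f x := by
    refine (isIntegrallyClosed_iff (FractionRing A)).1 inferInstance ?_
    obtain ⟨p, hp, hpx⟩ := hx
    refine ⟨p.map (algebraMap ↥R A), hp.map _, ?_⟩
    rw [Polynomial.eval₂_map]
    have h := congrArg f hpx
    rw [Polynomial.hom_eval₂, map_zero] at h
    rw [show (algebraMap A (FractionRing A)).comp (algebraMap ↥R A) = f.comp (algebraMap ↥R _) from
      RingHom.ext fun r => (hf r).symm]
    exact h
  have hcb : c * ((b : ↥R) : A) = (a : A) := by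
    refine IsFractionRing.injective A (FractionRing A) ?_
    rw [map_mul, hc, ← hf, ← map_mul]
    exact (congrArg f hab).trans (hf a)
  have hb0 : ((b : ↥R) : A) ≠ 0 := fun h => nonZeroDivisors.ne_zero b.2 (Subtype.ext h)
  have hcR : c ∈ R := by
    intro B _ _ h
    have e : ∀ y z : A, ((1 : B) ⊗ₜ[k] (y * z) : VecGrp.W k A B) = ((1 : B) ⊗ₜ[k] y) * ((1 : B) ⊗ₜ[k] z) :=
      fun y z => by rw [Algebra.TensorProduct.tmul_mul_tmul, _root_.one_mul]
    have h1 : ρ.ρ B (h ≫ u ≫ iB) ((1 : B) ⊗ₜ[k] c) * ((1 : B) ⊗ₜ[k] ((b : ↥R) : A)) =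
        ((1 : B) ⊗ₜ[k] c) * ((1 : B) ⊗ₜ[k] ((b : ↥R) : A)) := by
      conv_lhs => arg 2; rw [← (b : ↥R).2 B h]
      rw [← (hρ B _).1, ← e, hcb]
      exact a.2 B h
    let L : A →ₗ[k] A := LinearMap.mulRight k ((b : ↥R) : A)
    have hL : ∀ z : B ⊗[k] A, z * ((1 : B) ⊗ₜ[k] ((b : ↥R) : A)) = L.lTensor B z := by
      intro z
      induction z using TensorProduct.induction_on with
      | zero => simp
      | tmul p q => simp [L]
      | add p q hp hq => simp only [add_mul, map_add, hp, hq]
    refine Module.Flat.lTensor_preserves_injective_linearMap (M := B) L (mul_left_injective₀ hb0) ?_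
    rw [← hL, ← hL]
    exact h1
  exact ⟨⟨c, hcR⟩, f.injective ((hf _).trans hc)⟩

end Groth.Agent.S11231
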