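import Groth.Statements.S11232
import Groth.Agent.H8Props.CharFree

set_option autoImplicit false
universe u
open CategoryTheory MonoidalCategory CartesianMonoidalCategory MonObj GrpObj AlgebraicGeometry
open scoped TensorProduct
open AGF

namespace Groth.Agent.S11232

/-- Let k be an algebraically closed field, G a connected linear algebraic group over k (affine, smooth,
connected) admitting no nontrivial character (every homomorphism to the multiplicative group is
trivial), and A a commutative k-algebra which is a unique factorization domain whose group of units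
consists of the nonzero scalars, carrying a rational action of G by algebra automorphisms. Then the
algebra of invariants A^G is a unique factorization domain. -/
theorem result (k : Type u) [Field k] [IsAlgClosed k]
    (G : Over (Spec (CommRingCat.of k))) [GrpObj G] [IsAffine G.left] [Smooth G.hom] [ConnectedSpace G.left]
    (hχ : ∀ χ : G ⟶ Red.Gm (Spec (CommRingCat.of k)), IsMonHom χ → χ = 1)
    (A : Type u) [CommRing A] [IsDomain A] [Algebra k A] [UniqueFactorizationMonoid A]
    (hunits : ∀ x : Aˣ, (x : A) ∈ Set.range (algebraMap k A))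
    (ρ : VecGrp.GMod G A) (hρ : ρ.IsMult) :
    UniqueFactorizationMonoid ↥(ρ.fixedSubalgebra hρ (𝟙 G)) := by
  refine UniqueFactorizationMonoid.of_exists_prime_factors fun a ha => ?_
  obtain ⟨s, hs, c, hc, hfs⟩ := H8Props.CharFree.exists_fixed_primes hχ A hunits ρ hρ (a : A) a.2
    (fun h => ha (Subtype.ext h))
  let R := ρ.fixedSubalgebra hρ (𝟙 G)
  let t : Multiset ↥R := s.attach.map fun q => ⟨q.1, (hs q.1 q.2).2.1⟩
  refine ⟨t, fun q hq => ?_, ?_⟩
  · obtain ⟨⟨q', hq'⟩, -, rfl⟩ := Multiset.mem_map.1 hq
    obtain ⟨hp, -, hdiv⟩ := hs q' hq'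
    refine ⟨fun h => hp.ne_zero (congrArg Subtype.val h), fun h => hp.not_isUnit (h.map R.val), ?_⟩
    intro x y hxy
    obtain ⟨z, hz⟩ := hxy
    have hz' : (x : A) * y = q' * (z : A) := congrArg Subtype.val hz
    rcases hp.dvd_or_dvd ⟨(z : A), hz'⟩ with ⟨w, hw⟩ | ⟨w, hw⟩
    · exact Or.inl ⟨⟨w, hdiv _ w x.2 hw⟩, Subtype.ext hw⟩
    · exact Or.inr ⟨⟨w, hdiv _ w y.2 hw⟩, Subtype.ext hw⟩
  · refine ⟨((IsUnit.mk0 c hc).map (algebraMap k ↥R)).unit, Subtype.ext ?_⟩
    have hval : ((t.prod : ↥R) : A) = s.prod := by
      rw [show ((t.prod : ↥R) : A) = R.val t.prod from rfl, map_multiset_prod, Multiset.map_map]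
      exact congrArg Multiset.prod s.attach_map_val
    show ((t.prod : ↥R) : A) * algebraMap k A c = (a : A)
    rw [hval, hfs, _root_.mul_comm]

end Groth.Agent.S11232
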