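import Groth.Statements.S11233
import Mathlib

set_option autoImplicit false
universe u
open CAlg

namespace Groth.Agent.S11233

theorem eval_aeval {A σ τ : Type*} [CommRing A] (v : τ → A) (g : σ → MvPolynomial τ A)
    (p : MvPolynomial σ A) :
    MvPolynomial.eval v (MvPolynomial.aeval g p) = MvPolynomial.eval (MvPolynomial.eval v ∘ g) p := by
  induction p using MvPolynomial.induction_on with
  | C a => simp
  | add p q hp hq => simp only [map_add, hp, hq]
  | mul_X p i hp => simp only [map_mul, MvPolynomial.aeval_X, MvPolynomial.eval_X, hp, Function.comp_apply]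

/-- Let k be an algebraically closed field, A an integral domain which is a k-algebra, T an m by m
matrix over A with invertible determinant, and let the additive group k^m act on the polynomial ring
A[y_1, ..., y_m] by the A-algebra maps y_s ↦ y_s + Σ_r h_r T_rs. Then the only invariant polynomials
are the constants: a polynomial fixed by all these substitutions lies in A. -/
theorem result (k : Type u) [Field k] [IsAlgClosed k]
    (A : Type u) [CommRing A] [IsDomain A] [Algebra k A] (m : ℕ) (T : Matrix (Fin m) (Fin m) A)
    (hT : IsUnit T.det) (f : MvPolynomial (Fin m) A)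
    (hf : ∀ h : Fin m → k, MvPolynomial.aeval
      (fun s : Fin m => MvPolynomial.X s + MvPolynomial.C (∑ r : Fin m, algebraMap k A (h r) * T r s)) f = f) :
    ∃ a : A, f = MvPolynomial.C a := by
  classical
  haveI hinf : Infinite A := Infinite.of_injective _ (algebraMap k A).injective
  -- invariance at the origin
  have h0 : ∀ h : Fin m → k,
      MvPolynomial.eval (fun s => ∑ r : Fin m, algebraMap k A (h r) * T r s) f =
        MvPolynomial.eval (fun _ => (0 : A)) f := by
    intro h
    have := congrArg (MvPolynomial.eval (fun _ => (0 : A))) (hf h)
    rw [eval_aeval] at this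
    have e : (MvPolynomial.eval (fun _ => (0 : A)) ∘ fun s : Fin m => MvPolynomial.X s +
        MvPolynomial.C (∑ r : Fin m, algebraMap k A (h r) * T r s)) =
        fun s => ∑ r : Fin m, algebraMap k A (h r) * T r s := by funext s; simp
    rwa [e] at this
  let L : Fin m → MvPolynomial (Fin m) A := fun s => ∑ r, MvPolynomial.X r * MvPolynomial.C (T r s)
  have hL : ∀ v : Fin m → A, MvPolynomial.eval v (MvPolynomial.aeval L f) =
      MvPolynomial.eval (Matrix.vecMul v T) f := by
    intro v
    rw [eval_aeval]
    have e : MvPolynomial.eval v ∘ L = Matrix.vecMul v T := by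
      funext s; simp [L, Matrix.vecMul, dotProduct]
    rw [e]
  have hconst : MvPolynomial.aeval L f = MvPolynomial.C (MvPolynomial.eval (fun _ => (0 : A)) f) := by
    refine MvPolynomial.funext_set (fun _ => Set.range (algebraMap k A))
      (fun _ => Set.infinite_range_of_injective (algebraMap k A).injective) fun x hx => ?_
    choose h hh using fun i => hx i (Set.mem_univ i)
    rw [hL, MvPolynomial.eval_C, ← h0 h]
    congr 2
    funext s
    simp [Matrix.vecMul, dotProduct, hh]
  refine ⟨MvPolynomial.eval (fun _ => (0 : A)) f, MvPolynomial.funext fun v => ?_⟩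
  have := congrArg (MvPolynomial.eval (Matrix.vecMul v T⁻¹)) hconst
  rw [hL, Matrix.vecMul_vecMul, Matrix.nonsing_inv_mul T hT, Matrix.vecMul_one] at this
  simpa using this

end Groth.Agent.S11233
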