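import Groth.Statements.S11234
import Groth.Agent.H19Obs.GLHom

set_option autoImplicit false
universe u
open CategoryTheory MonoidalCategory CartesianMonoidalCategory MonObj GrpObj AlgebraicGeometry
open scoped TensorProduct
open AGF

namespace Groth.Agent.S11234

open CategoryTheory.Limits
open Groth.Agent.H27Witt Groth.Agent.H27Witt.Fn Groth.Agent.H19Obs

attribute [local instance 2000] Hom.group Hom.monoid

theorem const_of_ev {k : Type u} [Field k] [IsAlgClosed k] {G : Over (Sk k)} [GrpObj G] [IsAffine G.left] [Smooth G.hom]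
    (f : Fn G) (h : ∀ x : T0 k ⟶ G, ev x f = ev 1 f) :
    f = G.hom.appTop ((Scheme.ΓSpecIso (CommRingCat.of k)).inv (ev 1 f)) := by
  change f = algebraMap k (Fn G) (ev 1 f)
  refine ext_points fun x => ?_
  rw [h x, AlgHom.commutes]
  rfl

theorem fixed_of_epi {k : Type u} [Field k] [IsAlgClosed k]
    {G : Over (Sk k)} [GrpObj G] [IsAffine G.left] [Smooth G.hom]
    {H : Over (Sk k)} [GrpObj H] [IsAffine H.left] [Smooth H.hom] (i : H ⟶ G) [IsMonHom i]
    (he : ∀ (G' : Over (Sk k)) [GrpObj G'] [IsAffine G'.left] [Smooth G'.hom]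
      (r s : G ⟶ G') [IsMonHom r] [IsMonHom s], i ≫ r = i ≫ s → r = s)
    (f : Fn G) (hf : AGF.IsRTransInv i f) (x : T0 k ⟶ G) : R x f = f := by
  classical
  obtain ⟨V, hfin, hsV, hV⟩ := exists_stable_finset (G := G) {f}
  let κ := ULift.{u} (Fin (Module.finrank k V))
  let b : Module.Basis κ k V := (Module.finBasis k V).reindex Equiv.ulift.symm
  obtain ⟨A, hA⟩ := exists_fnMat hV b
  let v : V := ⟨f, hsV f (Finset.mem_singleton_self _)⟩
  let p : κ → k := fun c => b.repr v c
  let B : FnMat G (κ ⊕ PUnit.{u+1}) :=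
    { F := Matrix.fromBlocks (Matrix.of A.F) 0 0 1
      one := fun a c => by
        rcases a with a | a <;> rcases c with c | c <;> simp [A.one]
      mul := fun a c => by
        rcases a with a | a <;> rcases c with c | c <;> simp [A.mul] }
  let n := Fintype.card (κ ⊕ PUnit.{u+1})
  let e : κ ⊕ PUnit.{u+1} ≃ Fin n := Fintype.equivFin _
  obtain ⟨r, hr, hval⟩ := exists_hom_of_fnMat B e
  let Mx : (T0 k ⟶ G) → Matrix κ κ k := fun z => Matrix.of fun a c => ev z (A.F a c)
  have hrx : ∀ z, (glMat (z ≫ r)).val = Matrix.reindexAlgEquiv k k e (Matrix.fromBlocks (Mx z) 0 0 1) := by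
    intro z
    ext a c
    obtain ⟨a, rfl⟩ := e.surjective a
    obtain ⟨c, rfl⟩ := e.surjective c
    rw [hval]
    rcases a with a | a <;> rcases c with c | c <;> simp [B, Mx]
  let P : Matrix κ PUnit.{u+1} k := Matrix.of fun a _ => p a
  let W : Matrix (κ ⊕ PUnit.{u+1}) (κ ⊕ PUnit.{u+1}) k := Matrix.fromBlocks 1 P 0 1
  have hW : IsUnit (Matrix.reindexAlgEquiv k k e W) := by
    refine IsUnit.map _ ⟨⟨W, Matrix.fromBlocks 1 (-P) 0 1, ?_, ?_⟩, rfl⟩ <;>
      simp [W, Matrix.fromBlocks_multiply, Matrix.fromBlocks_one]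
  obtain ⟨U, hU⟩ := exists_glMat (k := k) hW.unit
  haveI : IsMonHom r := hr
  haveI := isMonHom_conj r U
  haveI : IsAffine (FrB.GLn n (Sk k)).left := by
    haveI := H19Quot.isAffineHom_GLn n (Sk k)
    exact isAffine_of_isAffineHom (FrB.GLn n (Sk k)).hom
  haveI := H19Obs.smooth_GLn n (Sk k)
  have key : ∀ z : T0 k ⟶ G, (z ≫ r = z ≫ ((toT0 G ≫ U) * r * (toT0 G ≫ U)⁻¹)) ↔ R z f = f := by
    intro z
    have hv : ∀ a, ∑ c, Mx z a c * p c = p a ↔ ∑ c, ev z (A.F a c) * p c = p a := fun a => Iff.rfl
    have hR : R z f = f ↔ Mx z * P = P := by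
      have h1 : R z f = ∑ a, (∑ c, ev z (A.F a c) * p c) • (b a : Fn G) := by
        have h2 : f = ∑ c, p c • (b c : Fn G) := by
          have h3 := congrArg V.subtype (b.sum_repr v)
          rw [map_sum] at h3
          exact h3.symm
        conv_lhs => rw [h2, map_sum]
        simp only [map_smul, hA, Finset.smul_sum, smul_smul, Finset.sum_smul]
        rw [Finset.sum_comm]
        exact Finset.sum_congr rfl fun a _ => Finset.sum_congr rfl fun c _ => by rw [_root_.mul_comm]
      rw [h1]
      constructor
      · intro h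
        have h4 : (∑ a, (∑ c, ev z (A.F a c) * p c) • b a) = v := Subtype.ext (by
          rw [Submodule.coe_sum]; exact h)
        ext a _
        simp only [Matrix.mul_apply, P, Matrix.of_apply, Mx]
        have h5 := congrArg (fun w => b.repr w a) h4
        simp [p, Finsupp.single_apply] at h5
        rw [Finset.sum_ite_eq'] at h5
        simpa [p] using h5
      · intro h
        have h2 : f = ∑ c, p c • (b c : Fn G) := by
          have h3 := congrArg V.subtype (b.sum_repr v)
          rw [map_sum] at h3
          exact h3.symm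
        conv_rhs => rw [h2]
        refine Finset.sum_congr rfl fun a _ => ?_
        congr 1
        exact congrFun (congrFun h a) PUnit.unit
    rw [hR, MonObj.comp_mul, MonObj.comp_mul, GrpObj.comp_inv, ← Category.assoc, comp_toT0, Category.id_comp,
      eq_mul_inv_iff_mul_eq, ← glMat_injective.eq_iff, glMat_mul, glMat_mul, hU, ← Units.val_inj,
      Units.val_mul, Units.val_mul, IsUnit.unit_spec, hrx, ← map_mul, ← map_mul, EmbeddingLike.apply_eq_iff_eq,
      Matrix.fromBlocks_multiply, Matrix.fromBlocks_multiply, Matrix.fromBlocks_inj]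
    simp
  have hagree : i ≫ r = i ≫ ((toT0 G ≫ U) * r * (toT0 G ≫ U)⁻¹) := by
    refine Fn.hom_ext (AlgHom.ext fun a => ext_points fun y => ?_)
    rw [ev_pull, ev_pull, ← Category.assoc, ← Category.assoc]
    rw [(key (y ≫ i)).2 (ext_points fun z => by rw [ev_R]; exact (isRTransInv_iff i f).1 hf z y)]
  exact (key x).1 (by rw [← he (FrB.GLn n (Sk k)) r _ hagree])


/-- Let k be an algebraically closed field, G a linear algebraic group over k (affine, smooth) and H a
smooth closed subgroup of G. The following are equivalent: (b) every global function on G invariant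
under right translation by H is a constant; (c) for every rational G-module E, the H-invariants of E
coincide with the G-invariants; (e) two homomorphisms from G to a linear algebraic group which agree
on H are equal. (The published list also contains the statement that H is epimorphic in the sense of
its hull under the stabilizer correspondence, and the statement that complementary H-stable
subspaces of a rational G-module are G-stable; this row states the other three.) -/
theorem result (k : Type u) [Field k] [IsAlgClosed k]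
    (G : Over (Spec (CommRingCat.of k))) [GrpObj G] [IsAffine G.left] [Smooth G.hom]
    (H : Over (Spec (CommRingCat.of k))) [GrpObj H] [Smooth H.hom] (i : H ⟶ G) [IsMonHom i]
    [IsClosedImmersion i.left] :
    List.TFAE [
      ∀ f : Γ(G.left, ⊤), ((G ◁ i) ≫ μ[G]).left.appTop f = (fst G H).left.appTop f →
        ∃ c : k, f = G.hom.appTop ((Scheme.ΓSpecIso (CommRingCat.of k)).inv c),
      ∀ (E : Type u) [AddCommGroup E] [Module k E] (ρ : VecGrp.GMod G E),
        ρ.fixedUnder i = ρ.fixedUnder (𝟙 G),
      ∀ (G' : Over (Spec (CommRingCat.of k))) [GrpObj G'] [IsAffine G'.left] [Smooth G'.hom]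
        (r s : G ⟶ G') [IsMonHom r] [IsMonHom s], i ≫ r = i ≫ s → r = s] := by
  haveI : IsAffine H.left := isAffine_of_isAffineHom i.left
  tfae_have 1 → 2 := fun hb E _ _ ρ => by
    refine le_antisymm (fun v hv => ?_) fun v hv B _ _ h => ?_
    · refine mem_fixedUnder_of_points (H := G) (𝟙 G) ρ v fun y => ?_
      rw [Category.comp_id]
      refine Groth.Agent.S11191.result k G H i E ρ (e1 ≫ y) (fun φ hφ => (isRTransInv_pt_iff _ φ).2 fun z => ?_) v hv
      obtain ⟨c, hc⟩ := hb φ hφ
      have hc' : ∀ w : T0 k ⟶ G, ev w φ = c := fun w => by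
        have : φ = algebraMap k (Fn G) c := hc
        exact this ▸ AlgHom.commutes _ c
      exact (hc' _).trans (hc' _).symm
    · have := hv B (h ≫ i)
      rwa [Category.comp_id] at this
  tfae_have 2 → 1 := fun hc f hf => by
    obtain ⟨V, hfin, hsV, hV⟩ := exists_stable_finset (G := G) {f}
    obtain ⟨ρ, hρ⟩ := exists_gmod_pi hV PUnit.{u+1}
    let v : PUnit.{u+1} → V := fun _ => ⟨f, hsV f (Finset.mem_singleton_self _)⟩
    have hv : v ∈ ρ.fixedUnder i := mem_fixedUnder_of_points i ρ v fun y => by
      rw [hρ]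
      intro _
      refine ext_points fun z => ?_
      rw [← Category.assoc e0, e0_e1, Category.id_comp, ev_R]
      exact (isRTransInv_iff i f).1 hf z y
    rw [hc] at hv
    refine ⟨ev 1 f, const_of_ev f fun x => ?_⟩
    have h1 := (hρ (e1 ≫ x) v).1 (by have := hv k (e1 ≫ x); rwa [Category.comp_id] at this) PUnit.unit
    rw [← Category.assoc, e0_e1, Category.id_comp] at h1
    rw [← ev_one_R x f]
    exact congrArg (ev 1) h1
  tfae_have 1 → 3 := fun hb G' _ _ _ r s _ _ hrs => by
    rw [← mul_inv_eq_one]
    refine Fn.hom_ext (AlgHom.ext fun f => ?_)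
    have hinv : AGF.IsRTransInv i (pull (r * s⁻¹) f) := by
      refine (isRTransInv_iff i _).2 fun x y => ?_
      rw [ev_pull, ev_pull, MonObj.comp_mul, MonObj.comp_mul, GrpObj.comp_inv, GrpObj.comp_inv, MonObj.mul_comp,
        MonObj.mul_comp, Category.assoc, Category.assoc, hrs]
      congr 1
      group
    obtain ⟨c, hc⟩ := hb _ hinv
    refine ext_points fun x => ?_
    have hc' : ∀ w : T0 k ⟶ G, ev w (pull (r * s⁻¹) f) = c := fun w => by
      have : pull (r * s⁻¹) f = algebraMap k (Fn G) c := hc
      rw [this, AlgHom.commutes]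
      rfl
    rw [hc', ev_pull, MonObj.comp_one, ← hc' 1, ev_pull, MonObj.comp_mul, GrpObj.comp_inv, MonObj.one_comp,
      MonObj.one_comp, inv_one, _root_.mul_one]
  tfae_have 3 → 1 := fun he f hf => by
    refine ⟨ev 1 f, const_of_ev f fun x => ?_⟩
    exact (ev_one_R x f).symm.trans (congrArg (ev 1) (fixed_of_epi i he f hf x))
  tfae_finish

end Groth.Agent.S11234
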