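import Groth.Statements.S11235
import Mathlib.RingTheory.Ideal.Quotient.Operations
import Mathlib.RingTheory.Polynomial.Quotient
import Mathlib.FieldTheory.IsAlgClosed.Basic
import Mathlib.Algebra.Polynomial.Roots

set_option autoImplicit false
universe u
open CAlg

namespace Groth.Agent.S11235

/-- Let k be an algebraically closed field, A a commutative k-algebra, α ∈ k, and M a maximal ideal of
the polynomial ring A[x] containing x - α. Let I ⊆ M be an ideal whose zero set in Spec A[x] is
invariant under the automorphisms x ↦ c·x, c ∈ k nonzero (equivalently: the image of I under each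
such A-algebra automorphism has the same radical as I). Then there is a maximal ideal of A[x]
containing I and x. -/
theorem result (k : Type u) [Field k] [IsAlgClosed k]
    (A : Type u) [CommRing A] [Algebra k A] (α : k)
    (M : Ideal (Polynomial A)) (hM : M.IsMaximal)
    (hα : Polynomial.X - Polynomial.C (algebraMap k A α) ∈ M)
    (I : Ideal (Polynomial A)) (hIM : I ≤ M)
    (hI : ∀ c : kˣ, (I.map (Polynomial.aeval (R := A)
      (algebraMap k A (c : k) • (Polynomial.X : Polynomial A)))).radical = I.radical) :
    ∃ N : Ideal (Polynomial A), N.IsMaximal ∧ I ≤ N ∧ Polynomial.X ∈ N := by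
  classical
  rcases eq_or_ne α 0 with rfl | hα0
  · exact ⟨M, hM, hIM, by simpa using hα⟩
  let n : Ideal A := M.comap Polynomial.C
  have hmem : ∀ f : Polynomial A, f ∈ M ↔ f.eval (algebraMap k A α) ∈ n := by
    intro f
    obtain ⟨g, hg⟩ := Polynomial.X_sub_C_dvd_sub_C_eval (a := algebraMap k A α) (p := f)
    have h1 : f - Polynomial.C (f.eval (algebraMap k A α)) ∈ M := hg ▸ M.mul_mem_right g hα
    exact ⟨fun h => show Polynomial.C _ ∈ M by simpa using sub_mem h h1, fun h => by simpa using add_mem h1 (show Polynomial.C _ ∈ M from h)⟩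
  haveI hn : n.IsMaximal := by
    rw [Ideal.Quotient.maximal_ideal_iff_isField_quotient]
    let ψ : A →+* Polynomial A ⧸ M := (Ideal.Quotient.mk M).comp Polynomial.C
    have hψ : Function.Surjective ψ := by
      intro z
      obtain ⟨f, rfl⟩ := Ideal.Quotient.mk_surjective z
      refine ⟨f.eval (algebraMap k A α), (Ideal.Quotient.eq.mpr ?_).symm⟩
      obtain ⟨g, hg⟩ := Polynomial.X_sub_C_dvd_sub_C_eval (a := algebraMap k A α) (p := f)
      exact hg ▸ M.mul_mem_right g hα
    have hker : RingHom.ker ψ = n := by ext; simp [ψ, n, Ideal.Quotient.eq_zero_iff_mem]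
    rw [← hker]
    exact (RingHom.quotientKerEquivOfSurjective hψ).toMulEquiv.isField
      ((Ideal.Quotient.maximal_ideal_iff_isField_quotient M).mp hM)
  letI := Ideal.Quotient.field n
  let ev : Polynomial A →+* A ⧸ n := (Ideal.Quotient.mk n).comp (Polynomial.evalRingHom 0)
  refine ⟨RingHom.ker ev, RingHom.ker_isMaximal_of_surjective ev (fun z => ?_), fun f hf => ?_, by simp [ev]⟩
  · obtain ⟨a, rfl⟩ := Ideal.Quotient.mk_surjective z
    exact ⟨Polynomial.C a, by simp [ev]⟩
  · have hroot : ∀ c : kˣ, (f.map (Ideal.Quotient.mk n)).IsRoot (algebraMap k (A ⧸ n) ((c : k) * α)) := by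
      intro c
      have h1 : Polynomial.aeval (algebraMap k A (c : k) • (Polynomial.X : Polynomial A)) f ∈ M := by
        have h2 := Ideal.le_radical (Ideal.mem_map_of_mem (Polynomial.aeval (R := A) (algebraMap k A (c : k) • (Polynomial.X : Polynomial A))) hf)
        rw [hI c] at h2
        exact hM.isPrime.radical_le_iff.mpr hIM h2
      rw [hmem, Polynomial.smul_eq_C_mul, ← Polynomial.comp_eq_aeval, Polynomial.eval_comp] at h1
      rw [Polynomial.IsRoot, IsScalarTower.algebraMap_apply k A (A ⧸ n), Polynomial.eval_map, Ideal.Quotient.algebraMap_eq,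
        Polynomial.eval₂_at_apply, Ideal.Quotient.eq_zero_iff_mem]
      simpa [map_mul] using h1
    have hzero : f.map (Ideal.Quotient.mk n) = 0 := by
      by_contra hne
      have hfin := Polynomial.finite_setOf_isRoot hne
      haveI : Infinite {c : k // c ≠ 0} := Set.infinite_coe_iff.mpr (Set.finite_singleton (0 : k)).infinite_compl
      haveI : Infinite kˣ := Infinite.of_injective (fun c : {c : k // c ≠ 0} => Units.mk0 c.1 c.2)
        fun c d h => Subtype.ext (congr_arg Units.val h)
      refine Set.infinite_of_injective_forall_mem (f := fun c : kˣ => algebraMap k (A ⧸ n) ((c : k) * α)) ?_ hroot hfin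
      intro c d h
      exact Units.ext (mul_right_cancel₀ hα0 ((algebraMap k (A ⧸ n)).injective h))
    rw [RingHom.mem_ker]
    have := congr_arg (Polynomial.eval 0) hzero
    simpa [ev, Polynomial.eval_map, Polynomial.eval₂_at_zero, ← Polynomial.coeff_zero_eq_eval_zero] using this

end Groth.Agent.S11235
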