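import Groth.Statements.S11237
-- import your own Groth.Agent.* helpers here

set_option autoImplicit false
universe u
open CategoryTheory MonoidalCategory CartesianMonoidalCategory MonObj GrpObj AlgebraicGeometry
open scoped TensorProduct
open AGF

set_option linter.style.haveILetI false

namespace Groth.Agent.S11237

open TrivSqZeroExt (inl inr fst snd)

variable {k : Type u} [Field k] {G : Over (Spec (CommRingCat.of k))} [GrpObj G]
  {A : Type u} [CommRing A] [Algebra k A] {M : Type u} [AddCommGroup M] [Module A M] [Module k M]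
  [IsScalarTower k A M] [Module Aᵐᵒᵖ M] [IsCentralScalar A M] [IsScalarTower k Aᵐᵒᵖ M]

/-- The underlying product. -/
def prodEquiv (R : Type u) [Semiring R] [Module R A] [Module R M] : TrivSqZeroExt A M ≃ₗ[R] A × M where
  toFun r := (r.fst, r.snd)
  map_add' _ _ := rfl
  map_smul' _ _ := rfl
  invFun p := inl p.1 + inr p.2
  left_inv r := TrivSqZeroExt.inl_fst_add_inr_snd_eq r
  right_inv p := by simp

/-- `B ⊗ (A ⊕ M) = (B ⊗ A) × (B ⊗ M)`. -/
noncomputable def splitW (B : Type u) [CommRing B] [Algebra k B] :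
    B ⊗[k] TrivSqZeroExt A M ≃ₗ[B] (B ⊗[k] A) × (B ⊗[k] M) :=
  (TensorProduct.AlgebraTensorModule.congr (LinearEquiv.refl B B)
    (prodEquiv k)).trans
    (TensorProduct.prodRight k B B A M)

theorem splitW_tmul (B : Type u) [CommRing B] [Algebra k B] (b : B) (r : TrivSqZeroExt A M) :
    splitW B (b ⊗ₜ[k] r) = (b ⊗ₜ r.fst, b ⊗ₜ r.snd) := rfl

theorem splitW_one (B : Type u) [CommRing B] [Algebra k B] :
    splitW B (1 : B ⊗[k] TrivSqZeroExt A M) = (1, 0) := by
  rw [Algebra.TensorProduct.one_def, splitW_tmul, Algebra.TensorProduct.one_def]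
  simp

theorem splitW_mul (B : Type u) [CommRing B] [Algebra k B] (z w : B ⊗[k] TrivSqZeroExt A M) :
    splitW B (z * w) = ((splitW B z).1 * (splitW B w).1,
      VecGrp.GMod.smulW k A M B (splitW B z).1 (splitW B w).2 + VecGrp.GMod.smulW k A M B (splitW B w).1 (splitW B z).2) := by
  induction z using TensorProduct.induction_on with
  | zero => simp [Prod.mk_zero_zero]
  | tmul b r =>
    induction w using TensorProduct.induction_on with
    | zero => simp [Prod.mk_zero_zero]
    | tmul c s =>
      rw [Algebra.TensorProduct.tmul_mul_tmul, splitW_tmul, splitW_tmul, splitW_tmul, TrivSqZeroExt.fst_mul,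
        TrivSqZeroExt.snd_mul, op_smul_eq_smul, TensorProduct.tmul_add]
      refine Prod.ext (Algebra.TensorProduct.tmul_mul_tmul b c r.fst s.fst).symm ?_
      show _ = (b * c) ⊗ₜ[k] (r.fst • s.snd) + (c * b) ⊗ₜ[k] (s.fst • r.snd)
      rw [mul_comm c b]
    | add x y hx hy =>
      simp only [mul_add, map_add, hx, hy, Prod.fst_add, Prod.snd_add, LinearMap.add_apply, Prod.mk_add_mk]
      congr 1
      abel
  | add x y hx hy =>
    simp only [add_mul, map_add, hx, hy, Prod.fst_add, Prod.snd_add, LinearMap.add_apply, Prod.mk_add_mk]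
    congr 1
    abel

theorem splitW_natural {B B' : Type u} [CommRing B] [Algebra k B] [CommRing B'] [Algebra k B'] (φ : B →ₐ[k] B')
    (z : B ⊗[k] TrivSqZeroExt A M) :
    splitW B' (VecGrp.Wmap φ z) = (VecGrp.Wmap φ (splitW B z).1, VecGrp.Wmap φ (splitW B z).2) := by
  induction z using TensorProduct.induction_on with
  | zero => simp [Prod.mk_zero_zero, Prod.ext_iff]
  | tmul b r => simp only [VecGrp.Wmap_tmul, splitW_tmul]
  | add x y hx hy => simp only [map_add, hx, hy, Prod.fst_add, Prod.snd_add, Prod.mk_add_mk]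

variable (ρA : VecGrp.GMod G A) (ρM : VecGrp.GMod G M)

/-- The action on the trivial square zero extension. -/
noncomputable def rhoR : VecGrp.GMod G (TrivSqZeroExt A M) where
  ρ B _ _ :=
    { toFun := fun g => ((splitW B).trans ((ρA.ρ B g).prodCongr (ρM.ρ B g))).trans (splitW B).symm
      map_one' := by
        refine LinearEquiv.ext fun z => ?_
        simp
      map_mul' := fun g h => by
        refine LinearEquiv.ext fun z => ?_
        simp }
  naturality {B B'} _ _ _ _ φ g z := by
    apply (splitW B').injective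
    simp [splitW_natural, ρA.naturality, ρM.naturality]

theorem splitW_rho (B : Type u) [CommRing B] [Algebra k B] (g : VecGrp.pt k B ⟶ G) (z : B ⊗[k] TrivSqZeroExt A M) :
    splitW B ((rhoR ρA ρM).ρ B g z) = (ρA.ρ B g (splitW B z).1, ρM.ρ B g (splitW B z).2) :=
  (splitW B).apply_symm_apply _

theorem rhoR_isMult (hρ : ρA.IsMult) (hc : VecGrp.GMod.IsCompat ρA ρM) : (rhoR ρA ρM).IsMult := by
  intro B _ _ g
  refine ⟨fun x y => (splitW B).injective ?_, (splitW B).injective ?_⟩
  · rw [splitW_rho, splitW_mul, splitW_mul, splitW_rho, splitW_rho]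
    simp only [(hρ B g).1, map_add, hc B g]
  · rw [splitW_rho, splitW_one]
    simp only [(hρ B g).2, map_zero]

theorem mem_fixed_iff (r : TrivSqZeroExt A M) :
    r ∈ (rhoR ρA ρM).fixedUnder (𝟙 G) ↔ r.fst ∈ ρA.fixedUnder (𝟙 G) ∧ r.snd ∈ ρM.fixedUnder (𝟙 G) := by
  constructor
  · intro h
    constructor <;> intro B _ _ g
    · simpa [splitW_rho, splitW_tmul] using congrArg (fun z => (splitW B z).1) (h B g)
    · simpa [splitW_rho, splitW_tmul] using congrArg (fun z => (splitW B z).2) (h B g)
  · intro h B _ _ g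
    apply (splitW B).injective
    rw [splitW_rho, splitW_tmul]
    exact Prod.ext (h.1 B g) (h.2 B g)

theorem main (hG : VecGrp.IsReductiveGrp k G) (thmA : VecGrp.ReductiveInvariantsFG k)
    [Algebra.FiniteType k A] [Module.Finite A M] (hρ : ρA.IsMult) (hc : VecGrp.GMod.IsCompat ρA ρM) :
    ∃ s : Finset M, (↑s : Set M) ⊆ ρM.fixedUnder (𝟙 G) ∧
      ρM.fixedUnder (𝟙 G) ≤ (Submodule.span ↥(ρA.fixedSubalgebra hρ (𝟙 G)) (↑s : Set M)).restrictScalars k := by
  classical
  haveI : Module.Finite A (TrivSqZeroExt A M) := Module.Finite.equiv (prodEquiv (A := A) (M := M) A).symm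
  haveI : Algebra.FiniteType k (TrivSqZeroExt A M) :=
    Algebra.FiniteType.trans (R := k) (S := A) (A := TrivSqZeroExt A M) inferInstance inferInstance
  obtain ⟨s₀, hs₀, hgen⟩ := thmA G hG (TrivSqZeroExt A M) (rhoR ρA ρM) (rhoR_isMult ρA ρM hρ hc) inferInstance
  refine ⟨s₀.image TrivSqZeroExt.snd, ?_, fun m hm => ?_⟩
  · intro x hx
    obtain ⟨r, hr, rfl⟩ := Finset.mem_image.1 (Finset.mem_coe.1 hx)
    exact ((mem_fixed_iff ρA ρM r).1 (hs₀ hr)).2
  · have h1 : (inr m : TrivSqZeroExt A M) ∈ Algebra.adjoin k (↑s₀ : Set (TrivSqZeroExt A M)) :=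
      hgen ((mem_fixed_iff ρA ρM _).2 ⟨by simp, by simpa using hm⟩)
    let S := ρA.fixedSubalgebra hρ (𝟙 G)
    let N := Submodule.span ↥S (↑(s₀.image TrivSqZeroExt.snd) : Set M)
    suffices h : ∀ r ∈ Algebra.adjoin k (↑s₀ : Set (TrivSqZeroExt A M)), r.fst ∈ S ∧ r.snd ∈ N by
      have h2 := (h _ h1).2
      rw [TrivSqZeroExt.snd_inr] at h2
      exact h2
    intro r hr
    induction hr using Algebra.adjoin_induction with
    | mem x hx =>
      exact ⟨((mem_fixed_iff ρA ρM x).1 (hs₀ hx)).1,
        Submodule.subset_span (Finset.mem_coe.2 (Finset.mem_image_of_mem _ (Finset.mem_coe.1 hx)))⟩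
    | algebraMap c =>
      refine ⟨?_, ?_⟩
      · simp [TrivSqZeroExt.algebraMap_eq_inl', S.algebraMap_mem c]
      · simp [TrivSqZeroExt.algebraMap_eq_inl']
    | add x y _ _ hx hy => exact ⟨S.add_mem hx.1 hy.1, N.add_mem hx.2 hy.2⟩
    | mul x y _ _ hx hy =>
      refine ⟨S.mul_mem hx.1 hy.1, ?_⟩
      rw [TrivSqZeroExt.snd_mul, op_smul_eq_smul]
      exact N.add_mem (N.smul_mem ⟨x.fst, hx.1⟩ hy.2) (N.smul_mem ⟨y.fst, hy.1⟩ hx.2)

end Groth.Agent.S11237

namespace Groth.Agent.S11237

/-- Let k be an algebraically closed field and G a linear algebraic group over k (affine, smooth) whose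
identity component is reductive. Assume finite generation of invariants of reductive groups over k
on finitely generated algebras (a true result which the published text assumes without proof,
carried here as a hypothesis). Let A be a finitely generated commutative k-algebra with a rational
action of G by algebra automorphisms and M a finitely generated A-module with a compatible rational
G-action. Then the invariants M^G form a finitely generated A^G-module (the A^G-span of finitely
many invariant elements). -/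
theorem result (k : Type u) [Field k] [IsAlgClosed k]
    (G : Over (Spec (CommRingCat.of k))) [GrpObj G] (hG : VecGrp.IsReductiveGrp k G)
    (thmA : VecGrp.ReductiveInvariantsFG k)
    (A : Type u) [CommRing A] [Algebra k A] [Algebra.FiniteType k A] (ρA : VecGrp.GMod G A) (hρ : ρA.IsMult)
    (M : Type u) [AddCommGroup M] [Module A M] [Module k M] [IsScalarTower k A M] [Module.Finite A M]
    (ρM : VecGrp.GMod G M) (hc : VecGrp.GMod.IsCompat ρA ρM) :
    ∃ s : Finset M, (↑s : Set M) ⊆ ρM.fixedUnder (𝟙 G) ∧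
      ρM.fixedUnder (𝟙 G) ≤ (Submodule.span ↥(ρA.fixedSubalgebra hρ (𝟙 G)) (↑s : Set M)).restrictScalars k := by
  letI : Module Aᵐᵒᵖ M := Module.compHom M ((RingHom.id A).fromOpposite mul_comm)
  haveI : IsCentralScalar A M := ⟨fun _ _ => rfl⟩
  haveI : IsScalarTower k Aᵐᵒᵖ M := ⟨fun c a m => smul_assoc c a.unop m⟩
  exact main ρA ρM hG thmA hρ hc

end Groth.Agent.S11237
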