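import Groth.Statements.S11238
import Mathlib.FieldTheory.RatFunc.Luroth
import Mathlib.RingTheory.Algebraic.Integral
import Mathlib.RingTheory.Localization.Away.Basic
import Mathlib.Algebra.MvPolynomial.Funext
import Mathlib.FieldTheory.IsAlgClosed.Basic

set_option autoImplicit false
universe u
open AGF

namespace Groth.Agent.S11238

/-- Over an algebraically closed field k, a unirational variety of dimension one is rational. Field
form: let K be a finitely generated field extension of k of transcendence degree one (K is algebraic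
over k(x) for some x ∈ K transcendental over k) admitting a k-embedding into a purely transcendental
extension k(t_1, ..., t_n). Then K = k(t) for some t ∈ K transcendental over k. -/
theorem result (k : Type u) [Field k] [IsAlgClosed k]
    (K : Type u) [Field K] [Algebra k K] (hfg : (⊤ : IntermediateField k K).FG)
    (x : K) (hx : Transcendental k x) (halg : Algebra.IsAlgebraic ↥(IntermediateField.adjoin k {x}) K)
    (n : ℕ) (φ : K →ₐ[k] FractionRing (MvPolynomial (Fin n) k)) :
    ∃ t : K, Transcendental k t ∧ IntermediateField.adjoin k {t} = ⊤ := by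
  classical
  obtain ⟨s, hs⟩ := hfg
  -- numerators and denominators
  choose num den hden hnd using fun g : K => IsFractionRing.div_surjective (A := (MvPolynomial (Fin n) k)) (φ g)
  have hden0 : ∀ g, den g ≠ 0 := fun g => nonZeroDivisors.ne_zero (hden g)
  let D : (MvPolynomial (Fin n) k) := den x * ∏ g ∈ s, den g
  have hD : D ≠ 0 := mul_ne_zero (hden0 x) (Finset.prod_ne_zero_iff.2 fun g _ => hden0 g)
  have hinjF : Function.Injective (algebraMap (MvPolynomial (Fin n) k) (FractionRing (MvPolynomial (Fin n) k))) := IsFractionRing.injective (MvPolynomial (Fin n) k) (FractionRing (MvPolynomial (Fin n) k))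
  -- a line on which `x` is not constant
  obtain ⟨a, ha⟩ : ∃ a : Fin n → k, MvPolynomial.eval a D ≠ 0 := by
    by_contra! h
    exact hD (MvPolynomial.funext fun a => by rw [h a, map_zero])
  have hax : MvPolynomial.eval a (den x) ≠ 0 := fun h => ha (by rw [map_mul, h, zero_mul])
  obtain ⟨c, hc⟩ : ∃ c : Fin n → k, MvPolynomial.eval c
      (num x * MvPolynomial.C (MvPolynomial.eval a (den x)) -
        den x * MvPolynomial.C (MvPolynomial.eval a (num x))) ≠ 0 := by
    by_contra! h
    have h0 : num x * MvPolynomial.C (MvPolynomial.eval a (den x)) -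
        den x * MvPolynomial.C (MvPolynomial.eval a (num x)) = 0 :=
      MvPolynomial.funext fun c => by rw [h c, map_zero]
    rw [sub_eq_zero] at h0
    have hq : algebraMap (MvPolynomial (Fin n) k) (FractionRing (MvPolynomial (Fin n) k)) (den x) ≠ 0 := (map_ne_zero_iff _ hinjF).2 (hden0 x)
    have hx' : φ x = algebraMap k (FractionRing (MvPolynomial (Fin n) k)) (MvPolynomial.eval a (num x) / MvPolynomial.eval a (den x)) := by
      rw [← hnd, div_eq_iff hq, IsScalarTower.algebraMap_apply k (MvPolynomial (Fin n) k) (FractionRing (MvPolynomial (Fin n) k)), ← map_mul]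
      congr 1
      have hC : (MvPolynomial.C (MvPolynomial.eval a (den x)) : (MvPolynomial (Fin n) k)) ≠ 0 := by simpa using hax
      refine mul_right_cancel₀ hC ?_
      rw [h0, MvPolynomial.algebraMap_eq, mul_comm (MvPolynomial.C (_ / _)) (den x), mul_assoc,
        ← map_mul, div_mul_cancel₀ _ hax]
    rw [← φ.commutes] at hx'
    exact hx (φ.injective hx' ▸ isAlgebraic_algebraMap _)
  let π : (MvPolynomial (Fin n) k) →ₐ[k] Polynomial k :=
    MvPolynomial.aeval fun i => Polynomial.C (a i) + Polynomial.C (c i - a i) * Polynomial.X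
  have hπ : ∀ (t : k) (G : (MvPolynomial (Fin n) k)), (π G).eval t = MvPolynomial.eval (fun i => a i + (c i - a i) * t) G := by
    intro t G
    induction G using MvPolynomial.induction_on with
    | C r => simp [π, MvPolynomial.aeval_C, Polynomial.algebraMap_apply]
    | add G G' h h' => simp [map_add, h, h']
    | mul_X G i h => rw [map_mul, map_mul, Polynomial.eval_mul, h]; simp [π]
  have hπ0 : ∀ G, (π G).eval 0 = MvPolynomial.eval a G := fun G => by simp [hπ]
  have hπ1 : ∀ G, (π G).eval 1 = MvPolynomial.eval c G := fun G => by simp [hπ]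
  have hπD : π D ≠ 0 := fun h => ha (by rw [← hπ0, h, Polynomial.eval_zero])
  let πR : (MvPolynomial (Fin n) k) →ₐ[k] RatFunc k := (IsScalarTower.toAlgHom k (Polynomial k) (RatFunc k)).comp π
  have hπR : IsUnit (πR D) :=
    isUnit_iff_ne_zero.2 ((map_ne_zero_iff _ (IsFractionRing.injective (Polynomial k) (RatFunc k))).2 hπD)
  let R := Localization.Away D
  have hDF : IsUnit (algebraMap (MvPolynomial (Fin n) k) (FractionRing (MvPolynomial (Fin n) k)) D) := isUnit_iff_ne_zero.2 ((map_ne_zero_iff _ hinjF).2 hD)
  let ι : R →ₐ[k] (FractionRing (MvPolynomial (Fin n) k)) :=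
    { IsLocalization.Away.lift D hDF with
      commutes' := fun r => by
        change IsLocalization.Away.lift D hDF (algebraMap k R r) = _
        rw [IsScalarTower.algebraMap_apply k (MvPolynomial (Fin n) k) R, IsLocalization.Away.lift_eq,
          ← IsScalarTower.algebraMap_apply] }
  let χ : R →ₐ[k] RatFunc k :=
    { IsLocalization.Away.lift (g := πR.toRingHom) D hπR with
      commutes' := fun r => by
        change IsLocalization.Away.lift (g := πR.toRingHom) D hπR (algebraMap k R r) = _
        rw [IsScalarTower.algebraMap_apply k (MvPolynomial (Fin n) k) R, IsLocalization.Away.lift_eq]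
        exact πR.commutes r }
  have hιe : ∀ G, ι (algebraMap (MvPolynomial (Fin n) k) R G) = algebraMap (MvPolynomial (Fin n) k) (FractionRing (MvPolynomial (Fin n) k)) G := fun G => IsLocalization.Away.lift_eq D hDF G
  have hχe : ∀ G, χ (algebraMap (MvPolynomial (Fin n) k) R G) = πR G := fun G => IsLocalization.Away.lift_eq D hπR G
  have hι : Function.Injective ι := by
    refine (injective_iff_map_eq_zero ι).2 fun z hz => ?_
    obtain ⟨⟨G, ⟨_, e, rfl⟩⟩, hG⟩ := IsLocalization.surj (Submonoid.powers D) z
    have h1 := congrArg ι hG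
    rw [map_mul, hz, zero_mul, hιe, eq_comm, map_eq_zero_iff _ hinjF] at h1
    rw [h1, map_zero] at hG
    exact (IsLocalization.map_units R (⟨_, e, rfl⟩ : Submonoid.powers D)).mul_left_eq_zero.1 hG
  have hmem : ∀ g : K, den g ∣ D → φ g ∈ ι.range := fun g hg => by
    have hu : IsUnit (algebraMap (MvPolynomial (Fin n) k) R (den g)) :=
      isUnit_of_dvd_unit (map_dvd _ hg) (IsLocalization.Away.algebraMap_isUnit D)
    obtain ⟨w, hw⟩ := hu.exists_right_inv
    refine ⟨algebraMap (MvPolynomial (Fin n) k) R (num g) * w, ?_⟩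
    rw [← hnd, eq_div_iff ((map_ne_zero_iff _ hinjF).2 (hden0 g)), ← hιe, ← hιe]
    change ι (algebraMap (MvPolynomial (Fin n) k) R (num g) * w) * _ = _
    rw [← map_mul, mul_assoc, mul_comm w, hw, mul_one]
  let B : Subalgebra k K := ι.range.comap φ
  have hxB : x ∈ B := hmem x (dvd_mul_right _ _)
  have hsB : (↑s : Set K) ⊆ B := fun g hg =>
    hmem g (dvd_mul_of_dvd_right (Finset.dvd_prod_of_mem _ hg) _)
  let φB : B →ₐ[k] ι.range := (φ.comp B.val).codRestrict ι.range fun z => z.2
  let θ : B →ₐ[k] RatFunc k := χ.comp ((AlgEquiv.ofInjective ι hι).symm.toAlgHom.comp φB)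
  have hθ : ∀ (z : B) (r : R), ι r = φ z → θ z = χ r := fun z r hr => by
    change χ ((AlgEquiv.ofInjective ι hι).symm (φB z)) = χ r
    congr 1
    rw [AlgEquiv.symm_apply_eq]
    exact Subtype.ext hr.symm
  have hθx : Transcendental k (θ ⟨x, hxB⟩) := by
    intro halgx
    haveI : Algebra.IsIntegral k (IntermediateField.adjoin k {θ ⟨x, hxB⟩}) :=
      (IntermediateField.isAlgebraic_adjoin_simple halgx.isIntegral).isIntegral
    obtain ⟨γ, hγ⟩ := IsAlgClosed.algebraMap_bijective_of_isIntegral
      (k := k) (K := IntermediateField.adjoin k {θ ⟨x, hxB⟩}).2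
      ⟨_, IntermediateField.mem_adjoin_simple_self k _⟩
    have hγ' : θ ⟨x, hxB⟩ = algebraMap k (RatFunc k) γ := (congrArg Subtype.val hγ).symm
    have hu : IsUnit (algebraMap (MvPolynomial (Fin n) k) R (den x)) :=
      isUnit_of_dvd_unit (map_dvd _ (dvd_mul_right _ _)) (IsLocalization.Away.algebraMap_isUnit D)
    obtain ⟨r, hr⟩ := hmem x (dvd_mul_right _ _)
    change ι r = φ x at hr
    have h1 : algebraMap (MvPolynomial (Fin n) k) R (num x) = r * algebraMap (MvPolynomial (Fin n) k) R (den x) := hι (by
      rw [map_mul, hιe, hιe, hr, ← hnd, div_mul_cancel₀ _ ((map_ne_zero_iff _ hinjF).2 (hden0 x))])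
    have h2 := congrArg χ h1
    rw [map_mul, hχe, hχe, ← hθ ⟨x, hxB⟩ r hr, hγ'] at h2
    have h3 : π (num x) = Polynomial.C γ * π (den x) :=
      IsFractionRing.injective (Polynomial k) (RatFunc k) (by
        rw [map_mul]
        refine h2.trans ?_
        rw [IsScalarTower.algebraMap_apply k (Polynomial k) (RatFunc k)]
        rfl)
    have e0 : MvPolynomial.eval a (num x) = γ * MvPolynomial.eval a (den x) := by
      have := congrArg (Polynomial.eval (0 : k)) h3
      simpa [hπ0] using this
    have e1 : MvPolynomial.eval c (num x) = γ * MvPolynomial.eval c (den x) := by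
      have := congrArg (Polynomial.eval (1 : k)) h3
      simpa [hπ1] using this
    apply hc
    simp [e0, e1]
    ring
  -- `θ` is injective
  letI : Algebra (Polynomial k) B := (Polynomial.aeval (⟨x, hxB⟩ : B)).toRingHom.toAlgebra
  letI : Algebra (Polynomial k) K := (Polynomial.aeval x).toRingHom.toAlgebra
  let E := IntermediateField.adjoin k {x}
  letI : Algebra (Polynomial k) E :=
    (Polynomial.aeval (IntermediateField.AdjoinSimple.gen k x)).toRingHom.toAlgebra
  haveI : IsScalarTower (Polynomial k) E K := IsScalarTower.of_algebraMap_eq' (RingHom.ext fun G => by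
    change Polynomial.aeval x G = E.val (Polynomial.aeval (IntermediateField.AdjoinSimple.gen k x) G)
    rw [← Polynomial.aeval_algHom_apply]
    rfl)
  haveI : FaithfulSMul (Polynomial k) E := (faithfulSMul_iff_algebraMap_injective _ _).2
    (transcendental_iff_injective.1 (fun h => hx (by
      simpa using h.algHom E.val)))
  haveI : Algebra.IsAlgebraic (Polynomial k) E := ⟨fun z => by
    obtain ⟨P', Q', hz⟩ := (IntermediateField.mem_adjoin_simple_iff k (z : K)).1 z.2
    by_cases hQ : Polynomial.aeval x Q' = 0
    · rw [hQ, div_zero] at hz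
      rw [show z = algebraMap (Polynomial k) E 0 by rw [map_zero]; exact Subtype.ext hz]
      exact isAlgebraic_algebraMap _
    refine ⟨Polynomial.C Q' * Polynomial.X - Polynomial.C P', fun h => hQ ?_, ?_⟩
    · have := congrArg (fun G : Polynomial (Polynomial k) => G.coeff 1) h
      simp at this
      simp [this]
    · apply Subtype.ext
      rw [map_sub, map_mul, Polynomial.aeval_C, Polynomial.aeval_X, Polynomial.aeval_C]
      change E.val (Polynomial.aeval (IntermediateField.AdjoinSimple.gen k x) Q') * (z : K) -
        E.val (Polynomial.aeval (IntermediateField.AdjoinSimple.gen k x) P') = 0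
      rw [← Polynomial.aeval_algHom_apply, ← Polynomial.aeval_algHom_apply]
      change Polynomial.aeval x Q' * (z : K) - Polynomial.aeval x P' = 0
      rw [hz, mul_div_cancel₀ _ hQ, sub_self]⟩
  haveI : Algebra.IsAlgebraic (Polynomial k) K := Algebra.IsAlgebraic.trans (Polynomial k) E K
  let vB : B →ₐ[Polynomial k] K :=
    { B.val.toRingHom with
      commutes' := fun G => (Polynomial.aeval_algHom_apply B.val (⟨x, hxB⟩ : B) G).symm }
  have hθi : Function.Injective θ := by
    refine (injective_iff_map_eq_zero θ).2 fun z hz => ?_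
    by_contra hne
    have hza : IsAlgebraic (Polynomial k) z :=
      (isAlgebraic_algHom_iff vB Subtype.val_injective).1 (Algebra.IsAlgebraic.isAlgebraic _)
    obtain ⟨G, hG, w, hw⟩ := hza.exists_nonzero_dvd (mem_nonZeroDivisors_of_ne_zero hne)
    refine hθx ⟨G, hG, ?_⟩
    rw [Polynomial.aeval_algHom_apply]
    have : θ (Polynomial.aeval (⟨x, hxB⟩ : B) G) = θ z * θ w := (congrArg θ hw).trans (map_mul θ z w)
    rw [this, hz, zero_mul]
  haveI : IsFractionRing B K := by
    refine IsFractionRing.of_field B K fun z => ?_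
    have hz : z ∈ IntermediateField.adjoin k (↑s : Set K) := by rw [hs]; trivial
    obtain ⟨r, hr, t, ht, hzrt⟩ := IntermediateField.mem_adjoin_iff_div.1 hz
    exact ⟨⟨r, Algebra.adjoin_le hsB hr⟩, ⟨t, Algebra.adjoin_le hsB ht⟩, hzrt⟩
  let Θ : K →ₐ[k] RatFunc k := IsFractionRing.liftAlgHom (A := B) hθi
  have hne : Θ.fieldRange ≠ ⊥ := fun h => by
    have h1 : Θ x ∈ Θ.fieldRange := ⟨x, rfl⟩
    rw [h, IntermediateField.mem_bot] at h1
    obtain ⟨γ, hγ⟩ := h1
    rw [← Θ.commutes] at hγ
    exact hx (Θ.toRingHom.injective hγ ▸ isAlgebraic_algebraMap _)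
  obtain ⟨t, ht⟩ : RatFunc.Luroth.generator Θ.fieldRange ∈ Θ.fieldRange :=
    RatFunc.Luroth.generator_mem
  have htr : Transcendental k (Θ t) := by
    rw [show Θ t = RatFunc.Luroth.generator Θ.fieldRange from ht]
    exact RatFunc.Luroth.transcendental_generator hne
  refine ⟨t, fun h => htr (h.algHom Θ), ?_⟩
  apply IntermediateField.map_injective Θ
  rw [IntermediateField.adjoin_map, Set.image_singleton, ← AlgHom.fieldRange_eq_map,
    show Θ t = RatFunc.Luroth.generator Θ.fieldRange from ht]
  exact RatFunc.Luroth.eq_adjoin_generator.symm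

end Groth.Agent.S11238
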