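import Groth.Statements.S11239
import Mathlib.LinearAlgebra.Matrix.Block
import Mathlib.LinearAlgebra.Matrix.Determinant.Basic

set_option autoImplicit false
universe u
open AGF

namespace Groth.Agent.S11239

/-- Let X be an m × n matrix over a commutative ring, u an upper triangular n × n matrix with ones on
the diagonal, t a diagonal n × n matrix and p ≤ n. For any choice of p rows, the minor of X·t·u
formed with these rows and the first p columns equals (t_11 ⋯ t_pp) times the corresponding minor of
X: the minors on the first p columns are semi-invariant of weight ω_p under right multiplication by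
the upper triangular group. (The published statement is for the generic matrix over an algebraically
closed field; this row states the identity over any commutative ring.) -/
theorem result (R : Type u) [CommRing R] (m n p : ℕ) (hp : p ≤ n)
    (X : Matrix (Fin m) (Fin n) R) (d : Fin n → R) (u : Matrix (Fin n) (Fin n) R)
    (hu1 : ∀ i, u i i = 1) (hu0 : ∀ i j, j < i → u i j = 0) (I : Fin p → Fin m) :
    ((X * Matrix.diagonal d * u).submatrix I (Fin.castLE hp)).det =
      (∏ i : Fin p, d (Fin.castLE hp i)) * (X.submatrix I (Fin.castLE hp)).det := by
  have h : (X * Matrix.diagonal d * u).submatrix I (Fin.castLE hp) =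
      (X.submatrix I (Fin.castLE hp) * Matrix.diagonal (fun i => d (Fin.castLE hp i))) *
        u.submatrix (Fin.castLE hp) (Fin.castLE hp) := by
    ext a b
    simp only [Matrix.submatrix_apply, Matrix.mul_apply, Matrix.mul_diagonal]
    refine (Finset.sum_of_injOn (Fin.castLE hp) ((Fin.castLE_injective hp).injOn) (fun _ _ => Finset.mem_coe.mpr (Finset.mem_univ _)) ?_ ?_).symm
    · intro j _ hj
      have : ¬ (j : ℕ) < p := fun h => hj ⟨⟨j, h⟩, Finset.mem_coe.mpr (Finset.mem_univ _), Fin.ext rfl⟩
      rw [hu0 j (Fin.castLE hp b) (by rw [Fin.lt_def, Fin.val_castLE]; omega), mul_zero]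
    · intro j _
      simp [Matrix.diagonal, Finset.sum_ite_eq']
  rw [h, Matrix.det_mul, Matrix.det_mul, Matrix.det_diagonal,
    Matrix.det_of_upperTriangular (M := u.submatrix (Fin.castLE hp) (Fin.castLE hp))
      (fun i j hij => hu0 _ _ hij)]
  simp [hu1, mul_comm]

end Groth.Agent.S11239
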