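import Groth.Statements.S1124
import Groth.Agent.H13Desc.Immersion

set_option autoImplicit false
open CategoryTheory CategoryTheory.Limits AlgebraicGeometry Opposite
universe u
open Desc

namespace Groth.Agent.S1124

/-- If the base change of a morphism of schemes along a quasi-compact, flat, surjective morphism is a
quasi-compact immersion, then the morphism itself is a quasi-compact immersion. (Stated for a single
quasi-compact flat surjective base change; together with Zariski-locality on the target this is fpqc
descent for quasi-compact immersions.) -/
theorem result :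
    MorphismProperty.DescendsAlong (@IsImmersion ⊓ @QuasiCompact : MorphismProperty Scheme.{u})
      (@Surjective ⊓ @Flat ⊓ @QuasiCompact : MorphismProperty Scheme.{u}) := by
  refine MorphismProperty.DescendsAlong.mk' fun {X Y Z} g f _ ⟨⟨hs, hf⟩, hq⟩ h => ?_
  have hQ : (@Surjective ⊓ @Flat ⊓ @QuasiCompact : MorphismProperty Scheme.{u}) g := ⟨⟨hs, hf⟩, hq⟩
  have : QuasiCompact f :=
    MorphismProperty.of_pullback_fst_of_descendsAlong (P := @QuasiCompact)
      (Q := Groth.Agent.H18Descent.fpqc) hQ h.2
  have : IsImmersion (pullback.snd f g) := by
    rw [← pullbackSymmetry_hom_comp_fst]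
    have := h.1
    infer_instance
  refine ⟨Groth.Agent.H13Desc.isImmersion_of_pullback f g (Groth.Agent.H13Desc.preimage_closure_range f g)
    (fun s => (Flat.isQuotientMap_of_surjective g).isOpen_preimage.mp) fun U hU => ?_, inferInstance⟩
  exact MorphismProperty.of_pullback_snd_of_descendsAlong (P := @IsClosedImmersion)
    (Q := Groth.Agent.H18Descent.fpqc)
    (MorphismProperty.of_isPullback (isPullback_morphismRestrict g U).flip hQ) hU

end Groth.Agent.S1124
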