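import Groth.Statements.S11240
import Mathlib.LinearAlgebra.Matrix.Transvection
import Mathlib.Algebra.MvPolynomial.Eval

set_option autoImplicit false
universe u
open AGF

namespace Groth.Agent.S11240

/-- For a single root subgroup: let k be an algebraically closed field and X = (x_ab) the generic n × m
matrix over the polynomial ring k[x_ab]. Let i ≠ j be row indices and let I (rows) and J (columns)
be strictly increasing sequences of length p. The minor of X with rows I and columns J is invariant
under replacing X by (1 + b·E_ij)·X for every b ∈ k (the one-parameter unipotent group adding b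
times row j to row i) if and only if j occurs in I whenever i does. (The published statement gives
the criterion for the group generated by several such root subgroups, which is the conjunction of
these.) -/
theorem result (k : Type u) [Field k] [IsAlgClosed k] (n m p : ℕ)
    (i j : Fin n) (hij : i ≠ j) (I : Fin p ↪o Fin n) (J : Fin p ↪o Fin m) :
    (∀ b : k, ((Matrix.transvection i j (MvPolynomial.C b) *
        (Matrix.of fun a c => (MvPolynomial.X (a, c) : MvPolynomial (Fin n × Fin m) k))).submatrix I J).det =
        ((Matrix.of fun a c => (MvPolynomial.X (a, c) : MvPolynomial (Fin n × Fin m) k)).submatrix I J).det) ↔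
      (i ∈ Set.range I → j ∈ Set.range I) := by
  classical
  set X : Matrix (Fin n) (Fin m) (MvPolynomial (Fin n × Fin m) k) :=
    Matrix.of fun a c => MvPolynomial.X (a, c) with hX
  have hmul : ∀ (b : k) (a : Fin n) (c : Fin m), ((Matrix.transvection i j (MvPolynomial.C b : MvPolynomial (Fin n × Fin m) k)) * X) a c =
      if a = i then X a c + MvPolynomial.C b * X j c else X a c := by
    intro b a c
    split_ifs with h
    · subst h
      simp
    · simp [h]
  by_cases hi : i ∈ Set.range I
  swap
  · refine ⟨fun _ h => absurd h hi, fun _ b => congrArg Matrix.det ?_⟩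
    refine Matrix.ext fun r c => ?_
    rw [Matrix.submatrix_apply, hmul, if_neg (fun h => hi ⟨r, h⟩)]
    rfl
  obtain ⟨r0, hr0⟩ := hi
  set M : Matrix (Fin p) (Fin p) (MvPolynomial (Fin n × Fin m) k) := X.submatrix I J with hM
  set w : Fin p → MvPolynomial (Fin n × Fin m) k := fun c => X j (J c) with hw
  have hdet : ∀ b : k, ((Matrix.transvection i j (MvPolynomial.C b) * X).submatrix I J).det =
      M.det + MvPolynomial.C b * (M.updateRow r0 w).det := by
    intro b
    have : (Matrix.transvection i j (MvPolynomial.C b) * X).submatrix I J =
        M.updateRow r0 (M r0 + (MvPolynomial.C b : MvPolynomial (Fin n × Fin m) k) • w) := by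
      refine Matrix.ext fun r c => ?_
      rw [Matrix.submatrix_apply, hmul, Matrix.updateRow_apply]
      by_cases h : r = r0
      · subst h
        simp [hr0, hM, hw]
      · rw [if_neg h, if_neg (fun hh => h (I.injective (hh.trans hr0.symm)))]
        rfl
    rw [this, Matrix.det_updateRow_add, Matrix.updateRow_eq_self, Matrix.det_updateRow_smul]
  have hrange : i ∈ Set.range I := ⟨r0, hr0⟩
  simp only [hrange, forall_const, hdet]
  constructor
  · intro h
    have h1 := h 1
    rw [map_one, one_mul, add_eq_left] at h1
    by_contra hj
    let P : Fin n × Fin m → k := fun x =>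
      if ∃ r, x.2 = J r ∧ x.1 = Function.update (⇑I) r0 j r then 1 else 0
    have hinj : Function.Injective (Function.update (⇑I) r0 j) := by
      intro r r' hrr
      rcases eq_or_ne r r0 with e | e <;> rcases eq_or_ne r' r0 with e' | e'
      · rw [e, e']
      · rw [e, Function.update_self, Function.update_of_ne e'] at hrr
        exact absurd ⟨r', hrr.symm⟩ hj
      · rw [e', Function.update_self, Function.update_of_ne e] at hrr
        exact absurd ⟨r, hrr⟩ hj
      · rw [Function.update_of_ne e, Function.update_of_ne e'] at hrr
        exact I.injective hrr
    have h2 : (M.updateRow r0 w).map (MvPolynomial.eval P) = 1 := by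
      refine Matrix.ext fun r c => ?_
      have hval : (M.updateRow r0 w) r c = MvPolynomial.X (Function.update (⇑I) r0 j r, J c) := by
        rw [Matrix.updateRow_apply]
        by_cases h : r = r0
        · subst h
          simp [hw, hX]
        · simp [h, hM, hX]
      rw [Matrix.map_apply, hval, MvPolynomial.eval_X, Matrix.one_apply]
      by_cases h : r = c
      · subst h
        simp [P]
      · rw [if_neg h]
        simp only [P]
        rw [if_neg]
        rintro ⟨r', h3, h4⟩
        exact h ((hinj h4).trans (J.injective h3).symm)
    have h3 := congrArg Matrix.det h2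
    rw [← RingHom.mapMatrix_apply, ← RingHom.map_det, h1, map_zero, Matrix.det_one] at h3
    exact zero_ne_one h3
  · rintro ⟨r1, hr1⟩ b
    have hne : r1 ≠ r0 := fun h => hij (by rw [← hr0, ← hr1, h])
    have : (M.updateRow r0 w).det = 0 := by
      apply Matrix.det_zero_of_row_eq hne
      funext c
      simp [Matrix.updateRow_apply, hne, hM, hw, hr1]
    rw [this, mul_zero, add_zero]

end Groth.Agent.S11240
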