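import Groth.Statements.S11241
import Groth.Agent.H20Torus.Fixed
import Groth.Agent.H20Torus.Stable

set_option autoImplicit false
universe u
open CategoryTheory MonoidalCategory CartesianMonoidalCategory MonObj GrpObj AlgebraicGeometry
open scoped TensorProduct
open AGF

namespace Groth.Agent.S11241

/-- Let k be an algebraically closed field and H a connected unipotent linear algebraic group over k
(affine, smooth, connected, with no nontrivial subtorus), acting rationally by algebra automorphisms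
on a commutative k-algebra A which is an integral domain. An H-invariant element of the fraction
field of A is a quotient of two H-invariant elements of A: if a₀, b₀ ∈ A with b₀ ≠ 0 satisfy
(h·a₀)·b₀ = a₀·(h·b₀) for every point h of H (invariance of a₀/b₀), then there are a, b ∈ A^H with b
≠ 0 and a·b₀ = b·a₀. (The published statement allows any unipotent H; this row takes H connected.) -/
theorem result (k : Type u) [Field k] [IsAlgClosed k]
    (H : Over (Spec (CommRingCat.of k))) [GrpObj H] [IsAffine H.left] [Smooth H.hom] [ConnectedSpace H.left]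
    (hH : Red.HasNoSubtorus k H)
    (A : Type u) [CommRing A] [IsDomain A] [Algebra k A] (ρ : VecGrp.GMod H A) (hρ : ρ.IsMult)
    (a₀ b₀ : A) (hb₀ : b₀ ≠ 0)
    (hinv : ∀ (B : Type u) [CommRing B] [Algebra k B] (h : VecGrp.pt k B ⟶ H),
      ρ.ρ B h ((1 : B) ⊗ₜ[k] a₀) * ((1 : B) ⊗ₜ[k] b₀) = ((1 : B) ⊗ₜ[k] a₀) * ρ.ρ B h ((1 : B) ⊗ₜ[k] b₀)) :
    ∃ a b : A, a ∈ ρ.fixedUnder (𝟙 H) ∧ b ∈ ρ.fixedUnder (𝟙 H) ∧ b ≠ 0 ∧ a * b₀ = b * a₀ := by
  let W : Submodule k A :=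
    { carrier := {b | ∃ c, b * a₀ = c * b₀}
      add_mem' := fun {x y} ⟨c, hc⟩ ⟨d, hd⟩ => ⟨c + d, by rw [add_mul, add_mul, hc, hd]⟩
      zero_mem' := ⟨0, by simp⟩
      smul_mem' := fun r x ⟨c, hc⟩ => ⟨r • c, by rw [smul_mul_assoc, smul_mul_assoc, hc]⟩ }
  have hne : W ≠ ⊥ := fun h => hb₀ ((Submodule.mem_bot k).1 (h ▸ (⟨a₀, _root_.mul_comm _ _⟩ : b₀ ∈ W)))
  obtain ⟨b, ⟨c, hc⟩, hb0, hfix⟩ := H20Torus.exists_fixed hH ρ hne fun B _ _ _ _ h ⟨φ, hφ⟩ y ⟨d, hd⟩ =>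
    H20Torus.mem_baseChange_of_forall_slice fun ℓ => ⟨TensorProduct.lid k A (ℓ.rTensor A (ρ.ρ B h ((1 : B) ⊗ₜ[k] d))), by
      rw [← H20Torus.slice_mul_one_tmul, ← H20Torus.slice_mul_one_tmul,
        H20Torus.gmod_mul_eq_of_invariant_fraction ρ hρ h φ hφ hb₀ hd (hinv B h)]⟩
  refine ⟨c, b, fun B _ _ h => ?_, fun B _ _ h => by rw [Category.comp_id]; exact hfix B h, hb0, hc.symm⟩
  rw [Category.comp_id]
  have e : ∀ y z : A, ((1 : B) ⊗ₜ[k] (y * z) : VecGrp.W k A B) = ((1 : B) ⊗ₜ[k] y) * ((1 : B) ⊗ₜ[k] z) :=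
    fun y z => by rw [Algebra.TensorProduct.tmul_mul_tmul, _root_.one_mul]
  let L : A →ₗ[k] A := LinearMap.mulRight k b₀
  have hL : ∀ z : B ⊗[k] A, z * ((1 : B) ⊗ₜ[k] b₀) = L.lTensor B z := by
    intro z
    induction z using TensorProduct.induction_on with
    | zero => simp
    | tmul p q => simp [L]
    | add p q hp hq => simp only [add_mul, map_add, hp, hq]
  have h1 : ρ.ρ B h ((1 : B) ⊗ₜ[k] c) * ρ.ρ B h ((1 : B) ⊗ₜ[k] b₀) * ((1 : B) ⊗ₜ[k] b₀) =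
      ((1 : B) ⊗ₜ[k] c) * ρ.ρ B h ((1 : B) ⊗ₜ[k] b₀) * ((1 : B) ⊗ₜ[k] b₀) := by
    rw [← (hρ B h).1, ← e, ← hc, e, (hρ B h).1, hfix B h, _root_.mul_assoc, hinv B h, ← _root_.mul_assoc, ← e, hc, e]
    ring
  have hcancel : ∀ z w : VecGrp.W k A B, z * ((1 : B) ⊗ₜ[k] b₀) = w * ((1 : B) ⊗ₜ[k] b₀) → z = w := by
    intro z w hzw
    exact Module.Flat.lTensor_preserves_injective_linearMap (M := B) L (mul_left_injective₀ hb₀)
      ((hL z).symm.trans (hzw.trans (hL w)))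
  have h2 := hcancel _ _ h1
  obtain ⟨t, ht⟩ := (ρ.ρ B h).surjective ((1 : B) ⊗ₜ[k] c)
  have h4 : ρ.ρ B h (((1 : B) ⊗ₜ[k] c) * ((1 : B) ⊗ₜ[k] b₀)) = ρ.ρ B h (t * ((1 : B) ⊗ₜ[k] b₀)) := by
    rw [(hρ B h).1, (hρ B h).1, ht]
    exact h2
  exact (congrArg (ρ.ρ B h) (hcancel _ _ ((ρ.ρ B h).injective h4))).trans ht

end Groth.Agent.S11241
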