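import Groth.Statements.S5491
import Groth.Agent.H21Root.Length

set_option autoImplicit false
open RootD

namespace Groth.Agent.S5491

open Groth.Agent.H21Root RootPairing

open Classical in
/-- With ρ^v the half-sum of the positive coroots, the order (height) of any root α relative to the
simple system equals (ρ^v, α); equivalently 2·height(α) = Σ_{β > 0} (β^v, α). -/
theorem result {ι M N : Type*} [AddCommGroup M] [AddCommGroup N]
    (P : RootPairing ι ℤ M N) [Finite ι] [Fintype ι] [P.IsReduced] (b : P.Base) (i : ι) :
    2 * b.height i = ∑ j, if b.IsPos j then P.pairing i j else 0 := by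
  classical
  have hZ := simpleZ_base b
  have hpos : ∀ j, b.IsPos j ↔ j ∈ RootD.posOf P (b.support : Set ι) := isPos_iff_mem_posOf b
  have hsimple : ∀ a ∈ b.support, (∑ j, if b.IsPos j then P.pairing a j else 0) = 2 := by
    intro a ha
    have hrefl : ∀ j, j ≠ a → b.IsPos j → b.IsPos (P.reflectionPerm a j) := fun j hj hp =>
      hp.reflectionPerm ha hj
    have h0 : ∑ j ∈ Finset.univ.filter (fun j => j ≠ a ∧ b.IsPos j), P.pairing a j = 0 := by
      have hsum : ∑ j ∈ Finset.univ.filter (fun j => j ≠ a ∧ b.IsPos j), P.pairing a j =
          ∑ j ∈ Finset.univ.filter (fun j => j ≠ a ∧ b.IsPos j), -P.pairing a j := by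
        refine Finset.sum_nbij' (fun j => P.reflectionPerm a j) (fun j => P.reflectionPerm a j)
          ?_ ?_ (fun j _ => by simp) (fun j _ => by simp) (fun j _ => by
            rw [← pairing_smul P (sr P a) a j, sr_smul, sr_smul]; simp) <;>
        · intro j hj
          rw [Finset.mem_filter] at hj ⊢
          replace hj := hj.2
          refine ⟨Finset.mem_univ _, ?_⟩
          refine ⟨fun e => ?_, hrefl j hj.1 hj.2⟩
          have : j = opp P a := by rw [← P.reflectionPerm_self a j, e]
          rw [this, hpos] at hj
          exact hZ.disjoint (subset_posOf P _ ha) hj.2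
      rw [Finset.sum_neg_distrib] at hsum
      lia
    rw [← Finset.sum_filter, ← Finset.sum_erase_add _ _ (Finset.mem_filter.mpr
      ⟨Finset.mem_univ a, Base.isPos_of_mem_support ha⟩)]
    rw [pairing_same]
    rw [show (Finset.univ.filter fun j => b.IsPos j).erase a =
      Finset.univ.filter (fun j => j ≠ a ∧ b.IsPos j) by ext j; simp [and_comm], h0, zero_add]
  refine Base.induction_add (b := b) (p := fun i => 2 * b.height i = ∑ j, if b.IsPos j then P.pairing i j else 0) i (fun k hk => ?_) (fun k hk => ?_) fun k l n h hk hl => ?_
  · have : b.height (P.reflectionPerm k k) = -b.height k := b.height_reflectionPerm_self k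
    rw [this, mul_neg, hk, ← Finset.sum_neg_distrib]
    refine Finset.sum_congr rfl fun j _ => ?_
    split_ifs <;> simp
  · rw [Base.height_one_of_mem_support hk, hsimple k hk, mul_one]
  · rw [b.height_add h, mul_add, hk, Base.height_one_of_mem_support hl, mul_one, ← hsimple l hl,
      ← Finset.sum_add_distrib]
    refine Finset.sum_congr rfl fun j _ => ?_
    split_ifs with hj
    · rw [RootPairing.pairing_eq_add_of_root_eq_add h]
    · rw [add_zero]

end Groth.Agent.S5491
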