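import Groth.Statements.S11243
import Groth.Agent.H21Root.Length
import Groth.Agent.S5491

set_option autoImplicit false
universe u v w
open RootD

namespace Groth.Agent.S11243

open Groth.Agent.H21Root RootPairing

/-- (b), for a connected group, as a statement about its root datum: let P be a finite reduced
crystallographic root pairing over ℤ with weight lattice M, and b a base of P (simple roots,
determining the positive roots). Then there is an additive map h : M → ℤ which is positive on every
positive root (so that h strictly increases along the dominance order) and non-negative on every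
dominant weight, i.e. on every ω ∈ M pairing non-negatively with all simple coroots. (Part (c),
invariance under the component group of a disconnected group, is not stated.) -/
theorem result {ι : Type u} {M : Type v} {N : Type w}
    [Fintype ι] [AddCommGroup M] [AddCommGroup N]
    (P : RootPairing ι ℤ M N) [P.IsReduced] [P.IsCrystallographic] (b : P.Base) :
    ∃ h : M →+ ℤ, (∀ i : ι, b.IsPos i → 0 < h (P.root i)) ∧
      ∀ ω : M, (∀ j ∈ b.support, 0 ≤ P.toLinearMap ω (P.coroot j)) → 0 ≤ h ω := by
  classical
  let h : M →+ ℤ := (∑ i ∈ Finset.univ.filter (fun i => b.IsPos i), P.coroot' i).toAddMonoidHom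
  have hh : ∀ x, h x = ∑ i ∈ Finset.univ.filter (fun i => b.IsPos i), P.coroot' i x := fun x => by
    simp [h, LinearMap.sum_apply]
  refine ⟨h, fun i hi => ?_, fun ω hω => ?_⟩
  · rw [hh, Finset.sum_filter]
    simp only [root_coroot'_eq_pairing]
    rw [← S5491.result P b i]
    exact mul_pos two_pos hi
  · rw [hh]
    refine Finset.sum_nonneg fun i hi => ?_
    have hS : RootD.IsPosSys P.flip (RootD.posOf P (b.support : Set ι)) :=
      isPosSys_flip P (simpleZ_base b).isPosSys
    have hi' : i ∈ RootD.posOf P (b.support : Set ι) :=
      (isPos_iff_mem_posOf b i).mp (Finset.mem_filter.mp hi).2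
    rw [(simpleZ_base b.flip).eq_posOf hS (subset_posOf P _)] at hi'
    obtain ⟨m, hm, he⟩ := (mem_natSpan_iff P.flip).mp hi'
    simp only [coroot', LinearMap.flip_apply]
    rw [show P.coroot i = rsum P.flip m from he.symm]
    clear he hi' hi
    induction m using Multiset.induction with
    | empty => simp
    | cons a m ih =>
      rw [rsum_cons, map_add]
      exact add_nonneg (hω a (hm a (Multiset.mem_cons_self a m))) (ih fun x hx => hm x (Multiset.mem_cons_of_mem hx))

end Groth.Agent.S11243
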