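import Groth.Statements.S16130
import Groth.Agent.H19Quot.OrbitDim
import Groth.Agent.H19Quot.FieldTop
import Groth.Agent.H19Quot.Homogeneous
import Groth.Agent.H13AlgSp.EtaleLocally
import Groth.Agent.H19Grp.Transporter

set_option autoImplicit false
set_option maxHeartbeats 1000000
set_option synthInstance.maxHeartbeats 100000
set_option linter.style.haveILetI false
set_option backward.isDefEq.respectTransparency false
universe u
open CategoryTheory MonoidalCategory CartesianMonoidalCategory MonObj GrpObj AlgebraicGeometry CategoryTheory.Limits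
open AlgGrp

namespace Groth.Agent.S16130

open CategoryTheory.Limits GrpObj in
theorem dim_orbit (k : Type u) [Field k] [IsAlgClosed k]
    (G X : Over (Spec (CommRingCat.of k))) [GrpObj G] [Smooth G.hom] [QuasiCompact G.hom]
    [IsSeparated X.hom] [LocallyOfFiniteType X.hom] [QuasiCompact X.hom]
    (a : AlgGrp.Action G X) (x : 𝟙_ (Over (Spec (CommRingCat.of k))) ⟶ X) :
    topologicalKrullDim ↥G.left =
      topologicalKrullDim ↥(Set.range (a.orbitMap x).left.base) +
        topologicalKrullDim ↥(Limits.pullback (a.orbitMap x).left x.left) := by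
  haveI : IsReduced G.left := Groth.Agent.H13AlgSp.isReduced_of_smooth_mor G.hom
  let F := pullback (a.orbitMap x) x
  let i : F ⟶ G := pullback.fst (a.orbitMap x) x
  have hF : IsPullback i (toUnit F) (a.orbitMap x) x := by
    rw [toUnit_unique (toUnit F) (pullback.snd (a.orbitMap x) x)]
    exact IsPullback.of_hasPullback _ _
  have ho : ∀ {T : Over (Spec (CommRingCat.of k))} (g : T ⟶ G),
      g ≫ a.orbitMap x = lift g (toUnit T ≫ x) ≫ a.act := fun {T} g => by
    show g ≫ lift (𝟙 G) (toUnit G ≫ x) ≫ a.act = _
    rw [← Category.assoc, comp_lift, Category.comp_id, ← Category.assoc g (toUnit G),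
      toUnit_unique (g ≫ toUnit G) (toUnit T)]
  have hfac : ∀ {T : Over (Spec (CommRingCat.of k))} (g : T ⟶ G), (∃ z, z ≫ i = g) ↔
      lift g (toUnit T ≫ x) ≫ a.act = toUnit T ≫ x := by
    intro T g
    rw [← ho]
    constructor
    · rintro ⟨z, rfl⟩
      rw [Category.assoc, hF.w, ← Category.assoc, toUnit_unique (z ≫ toUnit F) (toUnit T)]
    · intro h
      exact ⟨hF.lift g (toUnit T) h, hF.lift_fst _ _ _⟩
  haveI : IsClosedImmersion x.left := isClosedImmersion_of_comp_eq_id X.hom _ (Over.w x)
  haveI : IsClosedImmersion i.left :=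
    MorphismProperty.of_isPullback (hF.map (Over.forget _)).flip ‹IsClosedImmersion x.left›
  haveI : Mono i := Over.mono_of_mono_left _
  obtain ⟨instF, hi⟩ := Groth.Agent.H19Grp.exists_grpObj_of_closed i
    ((hfac (1 : 𝟙_ _ ⟶ G)).2 (Groth.Agent.H19Grp.act_one a _))
    (fun T g h => (hfac _).2 (by
      rw [Groth.Agent.H19Grp.act_mul, (hfac _).1 ⟨h, rfl⟩, (hfac _).1 ⟨g, rfl⟩]))
    (fun T g => (hfac _).2 (by
      conv_lhs => rw [← (hfac _).1 ⟨g, rfl⟩, ← Groth.Agent.H19Grp.act_mul, inv_mul_cancel,
        Groth.Agent.H19Grp.act_one]))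
  letI := instF
  haveI := hi
  haveI : QuasiCompact F.hom := by rw [← Over.w i]; infer_instance
  obtain ⟨Y, p, Q⟩ := Groth.Agent.H19Quot.exists_quotient i
  haveI := Q.flat; haveI := Q.surjective; haveI := Q.lfp
  haveI := Q.locallyOfFiniteType
  haveI : IsIso (ι[G] : G ⟶ G) := ⟨ι[G], GrpObj.inv_comp_inv G, GrpObj.inv_comp_inv G⟩
  haveI : IsIso (ι[G] : G ⟶ G).left := inferInstanceAs (IsIso ((Over.forget _).map (ι[G] : G ⟶ G)))
  haveI : Flat (ι[G] ≫ p).left := by rw [Over.comp_left]; infer_instance
  haveI : Surjective (ι[G] ≫ p).left := by rw [Over.comp_left]; infer_instance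
  haveI : LocallyOfFinitePresentation (ι[G] ≫ p).left := by rw [Over.comp_left]; infer_instance
  obtain ⟨b, o, hb, hsq⟩ := Groth.Agent.H19Quot.exists_action_of_rel
    (Groth.Agent.H19Quot.hasFpqcSection_of_lfp (ι[G] ≫ p)) (Groth.Agent.H19Quot.rel_right_of_left Q.rel_iff)
  have hY : AGF.IsQuotient i Y b o :=
    ⟨Q.locallyOfFiniteType, hb.symm ▸ ‹Flat (ι[G] ≫ p).left›,
      hb.symm ▸ ‹Surjective (ι[G] ≫ p).left›, hb.symm ▸ hsq⟩
  obtain ⟨Z, z, hz, hZr, hZc, hZn, hzr, hzd⟩ := Groth.Agent.H19Quot.exists_orbit a x
  haveI := hz; haveI := hZr; haveI := hZc; haveI := hZn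
  obtain ⟨e, -⟩ := Groth.Agent.H19Quot.exists_iso_quotient_orbit a x i hF b o hY z hzr
  let h : Y.left ≃ₜ Z.left := ((Over.forget _).mapIso e).hom.homeomorph
  haveI : CompactSpace Y.left := h.symm.compactSpace
  haveI : Nonempty Y.left := ⟨h.symm (Classical.arbitrary Z.left)⟩
  obtain ⟨y, hy⟩ := Groth.Agent.H19Quot.exists_cdim_eq_dim Y.hom
  obtain ⟨hirr, -, hsum⟩ := Groth.Agent.H19Quot.quotient_components i Q y
  have hcomp : topologicalKrullDim ↥(connectedComponent y) = topologicalKrullDim Y.left :=
    le_antisymm (topologicalKrullDim_subspace_le _ _) (hy.le.trans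
      (Groth.Agent.H8Props.FieldDim.dim_mono (closure_minimal
        (Set.singleton_subset_iff.2 mem_connectedComponent) isClosed_connectedComponent)))
  rw [← hzd, ← h.isHomeomorph.topologicalKrullDim_eq, ← hsum, hcomp]
  congr 1
  exact (hF.map (Over.forget _)).isoPullback.hom.homeomorph.isHomeomorph.topologicalKrullDim_eq


/-- Over an algebraically closed field k, let G be an algebraic group (a smooth k-group scheme of finite
type, not necessarily connected) acting on a variety X (a reduced separated k-scheme of finite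
type), and let x be a k-point of X with orbit map α_x : G → X. Then dim G = dim(G · x) + dim(G_x),
where G · x is the image of α_x with its subspace topology and G_x is the stabilizer, the fibre of
α_x over x; all dimensions are Krull dimensions of topological spaces. (The published statement also
asserts that the irreducible components of G · x are precisely the G⁰-orbits it contains, all of
that dimension; that clause is not stated here.) -/
theorem result (k : Type u) [Field k] [IsAlgClosed k]
    (G X : Over (Spec (CommRingCat.of k))) [GrpObj G] [Smooth G.hom] [QuasiCompact G.hom]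
    [IsReduced X.left] [IsSeparated X.hom] [LocallyOfFiniteType X.hom] [QuasiCompact X.hom]
    (a : AlgGrp.Action G X) (x : 𝟙_ (Over (Spec (CommRingCat.of k))) ⟶ X) :
    topologicalKrullDim ↥G.left =
      topologicalKrullDim ↥(Set.range (a.orbitMap x).left.base) +
        topologicalKrullDim ↥(Limits.pullback (a.orbitMap x).left x.left) := by
  exact dim_orbit k G X a x

end Groth.Agent.S16130
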