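import Groth.Statements.S11244
import Groth.Agent.S16130
import Groth.Agent.H8Props.FibreDimSemicont
import Groth.Agent.H8Props.Devissage.Points
import Groth.Agent.H19Grp.Dimension
import Groth.Agent.H17.QcImage
import Groth.Agent.H17.Reduced

set_option autoImplicit false
set_option maxHeartbeats 1000000
set_option synthInstance.maxHeartbeats 100000
set_option linter.style.haveILetI false
set_option backward.isDefEq.respectTransparency false
universe u
open CategoryTheory MonoidalCategory CartesianMonoidalCategory MonObj GrpObj AlgebraicGeometry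
open scoped TensorProduct
open AGF

namespace Groth.Agent.S11244

open Groth.Agent Groth.Agent.H8Props.FieldDim Topology
open CategoryTheory.Limits

/-- The fibre dimension at a point of a fibre. -/
theorem fibreDimAt_fiberι {S X : Scheme.{u}} (π : S ⟶ X) (p : X) (q : ↥(π.fiber p)) :
    FlatMor.fibreDimAt π (π.fiberι p q) = FlatMor.localDim ↥(π.fiber p) q := by
  obtain ⟨w, hw⟩ : ∃ w, π.fiberι p q = w := ⟨_, rfl⟩
  have hp : π w = p := by
    rw [← hw]
    have h : π.fiberι p q ∈ Set.range (π.fiberι p) := ⟨q, rfl⟩
    rw [Scheme.Hom.range_fiberι] at h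
    exact h
  subst hp
  rw [hw]
  show FlatMor.localDim _ (π.asFiber w) = _
  congr 1
  refine (π.fiberι (π w)).isEmbedding.injective ?_
  rw [Scheme.Hom.fiberι_asFiber, hw]

/-- The fibre dimension along a morphism at a point over a field-valued point is the local dimension of the base change. -/
theorem fibreDimAt_eq_localDim_pullback {S X : Scheme.{u}} {K : Type u} [Field K] (π : S ⟶ X) [LocallyOfFiniteType π]
    (y : Spec (CommRingCat.of K) ⟶ X) (z : ↥(pullback π y)) :
    FlatMor.fibreDimAt π (pullback.fst π y z) = FlatMor.localDim ↥(pullback π y) z := by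
  obtain ⟨⟨p, φ⟩, rfl⟩ := (Scheme.SpecToEquivOfField K X).symm.surjective y
  letI alg : Algebra ↥(X.residueField p) K := φ.hom.toAlgebra
  haveI : LocallyOfFiniteType (π.fiberToSpecResidueField p) := H8Props.FieldDim.locallyOfFiniteType_fiberToSpec π p
  let g : pullback π (Spec.map φ ≫ X.fromSpecResidueField p) ⟶ π.fiber p :=
    pullback.lift (pullback.fst _ _) (pullback.snd _ _ ≫ Spec.map φ) (by rw [Category.assoc]; exact pullback.condition)
  have hc : IsPullback g (pullback.snd π (Spec.map φ ≫ X.fromSpecResidueField p)) (π.fiberToSpecResidueField p)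
      (Spec.map φ) := by
    refine IsPullback.of_right ?_ (pullback.lift_snd _ _ _) (IsPullback.of_hasPullback π (X.fromSpecResidueField p))
    rw [pullback.lift_fst]
    exact IsPullback.of_hasPullback _ _
  have h1 : FlatMor.localDim ↥(pullback π (Spec.map φ ≫ X.fromSpecResidueField p)) z =
      FlatMor.localDim (π.fiber p) (g z) :=
    H8Props.FieldDim.localDim_baseChange (k := ↥(X.residueField p)) (K := K) (π.fiberToSpecResidueField p) g
      (pullback.snd π (Spec.map φ ≫ X.fromSpecResidueField p)) hc z
  refine Eq.trans ?_ h1.symm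
  rw [← fibreDimAt_fiberι π p (g z), ← Scheme.Hom.comp_apply]
  exact congrArg (fun m : pullback π (Spec.map φ ≫ X.fromSpecResidueField p) ⟶ S => FlatMor.fibreDimAt π (m z))
    (pullback.lift_fst _ _ _).symm

theorem closedPoint_unique {k : Type u} [Field k] (p : Spec (CommRingCat.of k)) :
    p = IsLocalRing.closedPoint k :=
  Subsingleton.elim _ _

/-- A group scheme over a field has constant local dimension. -/
theorem localDim_group {k : Type u} [Field k] (F : Over (Spec (CommRingCat.of k))) [GrpObj F]
    [LocallyOfFiniteType F.hom] (r : F.left) : FlatMor.localDim F.left r = topologicalKrullDim F.left := by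
  haveI : LocallyOfFiniteType (H19Grp.grpToGrpd F).s := inferInstanceAs (LocallyOfFiniteType F.hom)
  haveI : LocallyOfFiniteType (H19Grp.grpToGrpd F).t := inferInstanceAs (LocallyOfFiniteType F.hom)
  exact H19Grp.localDim_eq (H19Grp.grpToGrpd F) (Iso.refl _) r

/-- The dimension of a finite type scheme over a field is a natural number. -/
theorem exists_nat_dim {k : Type u} [Field k] {Z : Scheme.{u}} (f : Z ⟶ Spec (CommRingCat.of k)) [LocallyOfFiniteType f]
    [CompactSpace Z] [Nonempty Z] : ∃ n : ℕ, topologicalKrullDim Z = n := by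
  obtain ⟨z, hz⟩ := H19Quot.exists_cdim_eq_dim f
  obtain ⟨n, hn⟩ := exists_nat_cdim f z
  exact ⟨n, hz.trans hn⟩

/-- The closure of a constructible piece has the same dimension. -/
theorem dim_closure_range {k : Type u} [Field k] {X Z : Scheme.{u}} (f : X ⟶ Spec (CommRingCat.of k))
    [LocallyOfFiniteType f] (j : Z ⟶ X) [IsImmersion j] [CompactSpace Z] [QuasiSeparatedSpace X] :
    topologicalKrullDim ↥(closure (Set.range j)) = topologicalKrullDim Z := by
  refine le_antisymm ?_ ?_
  swap
  · rw [← dim_range j.isEmbedding]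
    exact dim_mono subset_closure
  obtain ⟨C, c, hc, -, hr⟩ := H17.exists_reduced_of_isLocallyClosed (isClosed_closure (s := Set.range j)).isLocallyClosed
  haveI := hc
  rw [← hr, dim_range c.isEmbedding, dim_eq_iSup_cdim]
  refine iSup_le fun y => ?_
  haveI : QuasiCompact j := quasiCompact_of_compactSpace j
  obtain ⟨w, hw⟩ := H17.exists_specializes_of_mem_closure_range j (y := c y) (by rw [← hr]; exact ⟨y, rfl⟩)
  rw [← H19Quot.cdim_immersion f c y]
  refine le_trans (dim_mono ?_) ((H19Quot.cdim_immersion f j w).trans_le (topologicalKrullDim_subspace_le _ _))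
  exact hw.closure_subset


/-- Let k be an algebraically closed field, G a linear algebraic group over k (affine, smooth) acting on
an irreducible variety X over k (reduced, separated, of finite type). For a rational point x of X
let dim G·x be the dimension of the closure of its orbit. Then for every r the set of rational
points x with dim G·x ≤ r is closed: there is a closed subset Z of X whose rational points are
exactly those x. (The second assertion, that the points of maximal orbit dimension form a dense open
subset, follows.) -/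
theorem result (k : Type u) [Field k] [IsAlgClosed k]
    (G : Over (Spec (CommRingCat.of k))) [GrpObj G] [IsAffine G.left] [Smooth G.hom]
    (X : Over (Spec (CommRingCat.of k))) [IrreducibleSpace ↥X.left] [IsReduced X.left]
    [IsSeparated X.hom] [LocallyOfFiniteType X.hom] [QuasiCompact X.hom]
    (a : AlgGrp.Action G X) (r : ℕ) :
    ∃ Z : Set ↥X.left, IsClosed Z ∧
      ∀ x : 𝟙_ (Over (Spec (CommRingCat.of k))) ⟶ X,
        topologicalKrullDim ↥(closure (Set.range ⇑(a.orbitMap x).left.base)) ≤ (r : WithBot ℕ∞) ↔
          Set.range ⇑x.left.base ⊆ Z := by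
  obtain ⟨gs, -⟩ : ∃ g : 𝟙_ (Over (Spec (CommRingCat.of k))) ⟶ G, True := ⟨η[G], trivial⟩
  haveI : CompactSpace G.left := QuasiCompact.compactSpace_of_compactSpace G.hom
  haveI : Nonempty G.left := ⟨gs.left (IsLocalRing.closedPoint k)⟩
  haveI : CompactSpace X.left := QuasiCompact.compactSpace_of_compactSpace X.hom
  haveI : QuasiSeparatedSpace X.left := quasiSeparatedSpace_of_quasiSeparated X.hom
  obtain ⟨n, hn⟩ := exists_nat_dim G.hom
  let D : X ⟶ X ⊗ X := lift (𝟙 X) (𝟙 X)
  let Φ : G ⊗ X ⟶ X ⊗ X := lift a.act (snd G X)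
  let St := pullback Φ D
  let π : St ⟶ X := pullback.snd Φ D
  obtain ⟨σ, hσ1, hσ2⟩ : ∃ σ : X ⟶ St, σ ≫ pullback.fst Φ D = lift (1 : X ⟶ G) (𝟙 X) ∧ σ ≫ π = 𝟙 X := by
    refine ⟨pullback.lift (lift 1 (𝟙 X)) (𝟙 X) ?_, pullback.lift_fst _ _ _, pullback.lift_snd _ _ _⟩
    simp only [Φ, D, comp_lift, lift_snd, H19Grp.act_one, Category.id_comp]
  haveI : IsClosedImmersion D.left := by
    show IsClosedImmersion (pullback.diagonal X.hom)
    infer_instance
  haveI : IsClosedImmersion (pullback.fst Φ D).left :=
    MorphismProperty.of_isPullback (((IsPullback.of_hasPullback Φ D).map (Over.forget _)).flip) ‹IsClosedImmersion D.left›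
  haveI : LocallyOfFiniteType (G ⊗ X).hom := by
    haveI : LocallyOfFiniteType (fst G X).left := MorphismProperty.pullback_fst (P := @LocallyOfFiniteType) _ _ inferInstance
    rw [← Over.w (fst G X)]; infer_instance
  haveI : LocallyOfFiniteType St.hom := by rw [← Over.w (pullback.fst Φ D)]; infer_instance
  haveI : LocallyOfFiniteType π.left := by
    haveI : LocallyOfFiniteType (π.left ≫ X.hom) := by rw [Over.w π]; infer_instance
    exact locallyOfFiniteType_of_comp π.left X.hom
  have key : ∀ x : 𝟙_ (Over (Spec (CommRingCat.of k))) ⟶ X, ∃ o s : ℕ,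
      topologicalKrullDim ↥(closure (Set.range ⇑(a.orbitMap x).left.base)) = o ∧
      n = o + s ∧ FlatMor.fibreDimAt π.left (σ.left (x.left (IsLocalRing.closedPoint k))) = s := by
    intro x
    let F := pullback (a.orbitMap x) x
    let i : F ⟶ G := pullback.fst (a.orbitMap x) x
    have hF : IsPullback i (toUnit F) (a.orbitMap x) x := by
      rw [toUnit_unique (toUnit F) (pullback.snd (a.orbitMap x) x)]
      exact IsPullback.of_hasPullback _ _
    have hfac : ∀ {T : Over (Spec (CommRingCat.of k))} (g : T ⟶ G), (∃ z, z ≫ i = g) ↔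
        lift g (toUnit T ≫ x) ≫ a.act = toUnit T ≫ x := by
      intro T g
      have ho : g ≫ a.orbitMap x = lift g (toUnit T ≫ x) ≫ a.act := by
        show g ≫ lift (𝟙 G) (toUnit G ≫ x) ≫ a.act = _
        rw [← Category.assoc, comp_lift, Category.comp_id, ← Category.assoc g (toUnit G),
          toUnit_unique (g ≫ toUnit G) (toUnit T)]
      rw [← ho]
      constructor
      · rintro ⟨z, rfl⟩
        rw [Category.assoc, hF.w, ← Category.assoc, toUnit_unique (z ≫ toUnit F) (toUnit T)]
      · intro h
        exact ⟨hF.lift g (toUnit T) h, hF.lift_fst _ _ _⟩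
    haveI : IsClosedImmersion x.left := isClosedImmersion_of_comp_eq_id X.hom _ (Over.w x)
    haveI : IsClosedImmersion i.left :=
      MorphismProperty.of_isPullback (hF.map (Over.forget _)).flip ‹IsClosedImmersion x.left›
    haveI : Mono i := Over.mono_of_mono_left _
    obtain ⟨instF, hi⟩ := Groth.Agent.H19Grp.exists_grpObj_of_closed i
      ((hfac (1 : 𝟙_ _ ⟶ G)).2 (Groth.Agent.H19Grp.act_one a _))
      (fun T g h => (hfac _).2 (by
        rw [Groth.Agent.H19Grp.act_mul, (hfac _).1 ⟨h, rfl⟩, (hfac _).1 ⟨g, rfl⟩]))
      (fun T g => (hfac _).2 (by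
        conv_lhs => rw [← (hfac _).1 ⟨g, rfl⟩, ← Groth.Agent.H19Grp.act_mul, inv_mul_cancel,
          Groth.Agent.H19Grp.act_one]))
    letI := instF
    haveI : LocallyOfFiniteType F.hom := by rw [← Over.w i]; infer_instance
    haveI : CompactSpace F.left := i.left.isClosedEmbedding.compactSpace
    haveI : Nonempty F.left := ⟨η[F].left (IsLocalRing.closedPoint k)⟩
    obtain ⟨s, hs⟩ := exists_nat_dim F.hom
    obtain ⟨Z, z, hz, -, hZc, hZn, hzr, hzd⟩ := H19Quot.exists_orbit a x
    haveI := hz; haveI := hZc; haveI := hZn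
    haveI : LocallyOfFiniteType Z.hom := by rw [← Over.w z]; infer_instance
    obtain ⟨o, ho⟩ := exists_nat_dim Z.hom
    have hdim := S16130.dim_orbit k G X a x
    have hFd : topologicalKrullDim ↥F.left = topologicalKrullDim ↥(Limits.pullback (a.orbitMap x).left x.left) :=
      ((Over.forget _).map_isPullback (IsPullback.of_hasPullback (a.orbitMap x) x)).isoPullback.hom.homeomorph.isHomeomorph.topologicalKrullDim_eq
    rw [← hzd, ho, ← hFd] at hdim
    rw [hn, hs] at hdim
    refine ⟨o, s, ?_, by exact_mod_cast hdim, ?_⟩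
    · rw [← hzr, dim_closure_range X.hom z.left, ho]
    -- the fibre of the stabiliser over x
    let P := pullback π x
    have hP := IsPullback.of_hasPullback π x
    have hSt := IsPullback.of_hasPullback Φ D
    obtain ⟨u, hu1, hu2⟩ := hSt.exists_lift (lift i (toUnit F ≫ x)) (toUnit F ≫ x) (by
      simp only [Φ, D, comp_lift, lift_snd, Category.comp_id]
      rw [(hfac i).1 ⟨𝟙 F, Category.id_comp i⟩])
    obtain ⟨v, hv1, -⟩ := hP.exists_lift u (toUnit F) (by assumption)
    obtain ⟨w, hw⟩ := (hfac (pullback.fst π x ≫ pullback.fst Φ D ≫ fst G X)).2 (by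
      have hc : pullback.fst π x ≫ π = toUnit P ≫ x := by
        rw [hP.w]; congr 1; exact Subsingleton.elim _ _
      have e1 : pullback.fst Φ D ≫ snd G X = π := by
        have := congrArg (· ≫ snd X X) hSt.w
        simpa [Φ, D, π] using this
      have e2 : pullback.fst Φ D ≫ a.act = π := by
        have := congrArg (· ≫ fst X X) hSt.w
        simpa [Φ, D, π] using this
      have hs' : pullback.fst π x ≫ pullback.fst Φ D ≫ snd G X = toUnit P ≫ x := by rw [e1, hc]
      have ha' : pullback.fst π x ≫ pullback.fst Φ D ≫ a.act = toUnit P ≫ x := by rw [e2, hc]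
      conv_lhs => rw [← hs']
      rw [← comp_lift, ← comp_lift, lift_fst_snd, Category.comp_id, Category.assoc, ha'])
    have e1 : pullback.fst Φ D ≫ snd G X = π := by
      have := congrArg (· ≫ snd X X) hSt.w
      simpa [Φ, D, π] using this
    have hc : pullback.fst π x ≫ π = toUnit P ≫ x := by
      rw [hP.w]; congr 1; exact Subsingleton.elim _ _
    have hwv : w ≫ v = 𝟙 P := by
      refine hP.hom_ext (hSt.hom_ext ?_ ?_) (Subsingleton.elim _ _)
      · simp only [Category.assoc, Category.id_comp]
        rw [reassoc_of% hv1, hu1, comp_lift]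
        apply CartesianMonoidalCategory.hom_ext
        · simp only [lift_fst, hw, Category.assoc]
          exact (Category.id_comp _).symm
        · rw [lift_snd, Category.assoc, Category.assoc, e1, hc, ← Category.assoc]
          congr 1; exact Subsingleton.elim _ _
      · simp only [Category.assoc, Category.id_comp]
        show w ≫ v ≫ pullback.fst π x ≫ π = pullback.fst π x ≫ π
        rw [hc, ← Category.assoc v, ← Category.assoc w]
        congr 1; exact Subsingleton.elim _ _
    have hvw : v ≫ w = 𝟙 F := by
      rw [← cancel_mono i, Category.assoc, hw, reassoc_of% hv1, reassoc_of% hu1, lift_fst, Category.id_comp]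
    let E : P ≅ F := ⟨w, v, hwv, hvw⟩
    haveI : IsIso E.hom.left := ((Over.forget (Spec (CommRingCat.of k))).mapIso E).isIso_hom
    have hsq : IsPullback (pullback.fst π x).left (pullback.snd π x).left π.left x.left :=
      (Over.forget _).map_isPullback hP
    let e := hsq.isoPullback
    obtain ⟨q, hq1, -⟩ := hP.exists_lift (x ≫ σ) (𝟙 _) (by rw [Category.assoc, hσ2, Category.comp_id, Category.id_comp])
    have hpt : Limits.pullback.fst π.left x.left (e.hom (q.left (IsLocalRing.closedPoint k))) =
        σ.left (x.left (IsLocalRing.closedPoint k)) := by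
      rw [← Scheme.Hom.comp_apply, hsq.isoPullback_hom_fst, ← Scheme.Hom.comp_apply, ← Over.comp_left, hq1]
      rfl
    rw [← hpt]
    erw [fibreDimAt_eq_localDim_pullback π.left x.left (e.hom (q.left (IsLocalRing.closedPoint k)))]
    refine (H8Props.Devissage.localDim_homeomorph (e.inv.homeomorph.trans E.hom.left.homeomorph) _).symm.trans ?_
    exact (localDim_group F _).trans hs
  rcases Nat.lt_or_ge r n with hrn | hrn
  · refine ⟨(σ.left ⁻¹' {y | FlatMor.fibreDimAt π.left y ≤ ((n - r - 1 : ℕ) : WithBot ℕ∞)})ᶜ,
      ((H8Props.FieldDim.isOpen_fibreDimAt_le π.left (n - r - 1)).preimage σ.left.continuous).isClosed_compl, fun x => ?_⟩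
    obtain ⟨o, s, ho, hos, hfs⟩ := key x
    rw [ho]
    constructor
    · rintro h _ ⟨t, rfl⟩ hm
      rw [closedPoint_unique t] at hm
      change FlatMor.fibreDimAt π.left (σ.left (x.left (IsLocalRing.closedPoint k))) ≤ _ at hm
      rw [hfs] at hm
      have h1 : o ≤ r := by exact_mod_cast h
      have h2 : s ≤ n - r - 1 := by exact_mod_cast hm
      omega
    · intro h
      have h3 := h ⟨IsLocalRing.closedPoint k, rfl⟩
      have h4 : ¬ s ≤ n - r - 1 := fun hle => h3 (by
        show FlatMor.fibreDimAt π.left (σ.left (x.left (IsLocalRing.closedPoint k))) ≤ _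
        rw [hfs]; exact_mod_cast hle)
      exact_mod_cast (show o ≤ r by omega)
  · refine ⟨Set.univ, isClosed_univ, fun x => ⟨fun _ => Set.subset_univ _, fun _ => ?_⟩⟩
    obtain ⟨o, s, ho, hos, -⟩ := key x
    rw [ho]
    exact_mod_cast (show o ≤ r by omega)

end Groth.Agent.S11244
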