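import Groth.Statements.S11249
import Groth.Agent.H26Grass.Minors

set_option autoImplicit false
universe u
open W4bk4grassmannian

namespace Groth.Agent.S11249

theorem key {K : Type u} [Field K] {d n : ℕ} (A A' : Matrix (Fin n) (Fin d) K) (hA : LinearIndependent K A.transpose)
    (c : K) (h : ∀ θ : W4bk4grassmannian.Idx d n, (A.submatrix θ.1 id).det = c * (A'.submatrix θ.1 id).det) :
    Submodule.span K (Set.range A.transpose) ≤ Submodule.span K (Set.range A'.transpose) := by
  classical
  obtain ⟨θ, hθ⟩ := H26Grass.exists_minor_ne_zero A hA
  have hall : ∀ a : Fin d → Fin n, (A.submatrix a id).det = c * (A'.submatrix a id).det := by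
    intro a
    rw [← H26Grass.ev_coord (K := K), ← H26Grass.ev_coord (K := K) A', coord]
    split_ifs with hh
    · simp only [map_mul, map_pow, map_neg, map_one, H26Grass.ev_X, h]; ring
    · simp
  have hcr : ∀ (M : Matrix (Fin n) (Fin d) K) (i : Fin n) (t : Fin d),
      (M * (M.submatrix θ.1 id).adjugate) i t = (M.submatrix (Function.update θ.1 t i) id).det := by
    intro M i t
    rw [show M.submatrix (Function.update θ.1 t i) id = (M.submatrix θ.1 id).updateRow t (M i) by
        ext s u
        rcases eq_or_ne s t with rfl | hs
        · simp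
        · simp [Matrix.updateRow_ne hs, Function.update_of_ne hs],
      ← Matrix.cramer_transpose_apply, Matrix.cramer_eq_adjugate_mulVec, ← Matrix.adjugate_transpose]
    simp [Matrix.mulVec, dotProduct, Matrix.mul_apply, mul_comm]
  have hadj : A * (A.submatrix θ.1 id).adjugate = c • (A' * (A'.submatrix θ.1 id).adjugate) := by
    ext i t; rw [Matrix.smul_apply, smul_eq_mul, hcr, hcr, hall]
  have hA'' : A = A' * ((A.submatrix θ.1 id).det⁻¹ • c • ((A'.submatrix θ.1 id).adjugate * A.submatrix θ.1 id)) := by
    rw [Matrix.mul_smul, Matrix.mul_smul, ← Matrix.mul_assoc, ← Matrix.smul_mul, ← hadj, Matrix.mul_assoc,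
      Matrix.adjugate_mul, Matrix.mul_smul, Matrix.mul_one, smul_smul, inv_mul_cancel₀ hθ, one_smul]
  rw [Submodule.span_le]
  rintro _ ⟨t, rfl⟩
  rw [SetLike.mem_coe]
  generalize (A.submatrix θ.1 id).det⁻¹ • c • ((A'.submatrix θ.1 id).adjugate * A.submatrix θ.1 id) = M at hA''
  have : A.transpose t = ∑ j, M j t • A'.transpose j := by
    funext i
    rw [Matrix.transpose_apply, hA'', Matrix.mul_apply, Finset.sum_apply]
    exact Finset.sum_congr rfl fun j _ => mul_comm _ _
  rw [this]
  exact Submodule.sum_mem _ fun j _ => Submodule.smul_mem _ _ (Submodule.subset_span ⟨j, rfl⟩)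

open W4bk4grassmannian in
/-- Injectivity of the Plücker map, in matrix form: let K be a field, A and A' two n × d matrices over K
with linearly independent columns, and suppose there is a nonzero scalar c with det A_θ = c · det
A'_θ for every strictly increasing d-tuple θ of row indices (A_θ the d × d submatrix on the rows θ).
Then the columns of A and of A' span the same subspace of K^n. (The published statement is over an
algebraically closed field; this row allows any field K.) -/
theorem result (K : Type u) [Field K] (d n : ℕ)
    (A A' : Matrix (Fin n) (Fin d) K) (hA : LinearIndependent K A.transpose)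
    (hA' : LinearIndependent K A'.transpose) (c : K) (hc : c ≠ 0)
    (h : ∀ θ : Idx d n, (A.submatrix θ.1 id).det = c * (A'.submatrix θ.1 id).det) :
    Submodule.span K (Set.range A.transpose) = Submodule.span K (Set.range A'.transpose) := by
  refine le_antisymm (key A A' hA c h) (key A' A hA' c⁻¹ fun θ => ?_)
  rw [h θ, ← mul_assoc, inv_mul_cancel₀ hc, one_mul]

end Groth.Agent.S11249
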