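import Groth.Statements.S1125
import Groth.Agent.H13Desc.Immersion

set_option autoImplicit false
open CategoryTheory CategoryTheory.Limits AlgebraicGeometry Opposite
universe u
open Desc

namespace Groth.Agent.S1125

/-- If the base change of a morphism along a flat, surjective morphism locally of finite presentation is
an immersion, then the morphism is an immersion. (Single-cover form of the fppf-local statement;
Zariski-locality on the target gives the covering form.) -/
theorem result :
    MorphismProperty.DescendsAlong (@IsImmersion : MorphismProperty Scheme.{u})
      (@Surjective ⊓ @Flat ⊓ @LocallyOfFinitePresentation : MorphismProperty Scheme.{u}) := by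
  refine MorphismProperty.DescendsAlong.mk' fun {X Y Z} g f _ ⟨⟨hs, hf⟩, hp⟩ h => ?_
  have hQ : (@Surjective ⊓ @Flat ⊓ @LocallyOfFinitePresentation : MorphismProperty Scheme.{u}) g :=
    ⟨⟨hs, hf⟩, hp⟩
  have : IsImmersion (pullback.snd f g) := by
    rw [← pullbackSymmetry_hom_comp_fst]
    infer_instance
  refine Groth.Agent.H13Desc.isImmersion_of_pullback f g
    (g.isOpenMap.preimage_closure_eq_closure_preimage g.continuous _)
    (fun s hs' => by
      have := g.isOpenMap _ hs'
      rwa [Set.image_preimage_eq _ g.surjective] at this) fun U hU => ?_
  exact MorphismProperty.of_pullback_snd_of_descendsAlong (P := @IsClosedImmersion)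
    (Q := (@Surjective ⊓ @Flat ⊓ @LocallyOfFinitePresentation : MorphismProperty Scheme.{u}))
    (MorphismProperty.of_isPullback (isPullback_morphismRestrict g U).flip hQ) hU

end Groth.Agent.S1125
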