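import Groth.Statements.S11253
import Groth.Agent.H26Grass.Basis

set_option autoImplicit false
universe u
open W4bk4grassmannian

namespace Groth.Agent.S11253

open W4bk4grassmannian in
/-- Intersections of Schubert varieties are reduced: let K be an algebraically closed field, 0 < d < n,
and I(d,n) the strictly increasing maps Fin d → Fin n ordered entrywise; S = K[X_θ : θ ∈ I(d,n)] is
the Plücker polynomial ring and, for τ ∈ I(d,n), J(τ) ⊆ S is the ideal of polynomials vanishing at
the d × d row-minors of every n × d matrix over K whose minors on rows φ ≰ τ are zero (the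
homogeneous ideal of the Schubert variety X(τ) ⊆ G(d,n)). Then for all w₁, w₂ ∈ I(d,n) the ideal
J(w₁) + J(w₂) of S is radical. -/
theorem result (K : Type u) [Field K] [IsAlgClosed K] (d n : ℕ)
    (hd : 0 < d) (hdn : d < n) (w₁ w₂ : Idx d n) :
    (schubertVanishing K d n w₁ ⊔ schubertVanishing K d n w₂).IsRadical := by
  haveI : Infinite K := IsAlgClosed.instInfinite
  have hrad : ∀ τ : Idx d n, (schubertVanishing K d n τ).IsRadical := fun τ p ⟨N, hN⟩ => by
    rw [H26Grass.mem_schubertVanishing_iff] at hN ⊢
    intro A hA
    have := hN A hA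
    rw [map_pow] at this
    exact eq_zero_of_pow_eq_zero this
  suffices h : schubertVanishing K d n w₁ ⊔ schubertVanishing K d n w₂ =
      schubertVanishing K d n (W4bk4grassmannian.inf w₁ w₂) by
    rw [h]; exact hrad _
  apply le_antisymm
  · exact sup_le (H26Grass.schubertVanishing_mono K fun t => min_le_left _ _)
      (H26Grass.schubertVanishing_mono K fun t => min_le_right _ _)
  · rw [← H26Grass.plIdeal_eq K hd (W4bk4grassmannian.inf w₁ w₂), plIdeal, Ideal.span_le]
    rintro f (hf | ⟨φ, hφ, rfl⟩)
    · exact Ideal.mem_sup_left (H26Grass.vanishing_le_schubertVanishing K _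
        (H26Grass.plIdealTop_le_vanishing K (Ideal.subset_span hf)))
    · by_cases h1 : φ ≤ w₁
      · refine Ideal.mem_sup_right (H26Grass.X_mem_schubertVanishing K fun h2 => hφ fun t => ?_)
        exact le_min (h1 t) (h2 t)
      · exact Ideal.mem_sup_left (H26Grass.X_mem_schubertVanishing K h1)

end Groth.Agent.S11253
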