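import Groth.Statements.S11255
import Groth.Agent.H26Grass.SchubertRing
import Groth.Agent.H26Grass.DimLemma

set_option autoImplicit false
universe u
open W4bk4grassmannian

namespace Groth.Agent.S11255

theorem card_fibre {d n : ℕ} (w : W4bk4grassmannian.Idx d n) (t : Fin d) :
    ((Finset.univ : Finset (Fin n)).filter fun i => i < w.1 t ∧ ∀ s, w.1 s ≠ i).card = (w.1 t).val - t.val := by
  classical
  have h1 : ((Finset.univ : Finset (Fin n)).filter fun i => i < w.1 t ∧ ∀ s, w.1 s ≠ i) =
      Finset.Iio (w.1 t) \ ((Finset.Iio t).map ⟨w.1, w.2.injective⟩) := by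
    ext i
    simp only [Finset.mem_filter, Finset.mem_univ, true_and, Finset.mem_sdiff, Finset.mem_Iio, Finset.mem_map,
      Function.Embedding.coeFn_mk, not_exists, not_and]
    refine ⟨fun h => ⟨h.1, fun s _ => h.2 s⟩, fun h => ⟨h.1, fun s hs => ?_⟩⟩
    rcases lt_or_ge s t with hst | hst
    · exact h.2 s hst hs
    · exact absurd h.1 (not_lt.2 (hs ▸ w.2.monotone hst))
  rw [h1, Finset.card_sdiff_of_subset, Finset.card_map, Fin.card_Iio, Fin.card_Iio]
  intro i hi
  obtain ⟨s, hs, rfl⟩ := Finset.mem_map.1 hi
  exact Finset.mem_Iio.2 (w.2 (Finset.mem_Iio.1 hs))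

theorem card_freeVar {d n : ℕ} (w : W4bk4grassmannian.Idx d n) :
    Fintype.card (H26Grass.FreeVar w) = W4bk4grassmannian.codeg w := by
  classical
  rw [Fintype.card_subtype, codeg, Finset.card_eq_sum_card_fiberwise (f := Prod.snd) (t := Finset.univ)
    (fun _ _ => Finset.mem_univ _)]
  refine Finset.sum_congr rfl fun t _ => ?_
  rw [← card_fibre w t]
  refine Finset.card_bij (fun p _ => p.1) ?_ ?_ ?_
  · rintro ⟨i, u⟩ hp
    simp only [Finset.mem_filter, Finset.mem_univ, true_and] at hp ⊢
    obtain ⟨h, rfl⟩ := hp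
    exact h
  · rintro ⟨i, u⟩ hp ⟨i', u'⟩ hp' (h : i = i')
    simp only [Finset.mem_filter, Finset.mem_univ, true_and] at hp hp'
    rw [h, hp.2, hp'.2]
  · intro i hi
    simp only [Finset.mem_filter, Finset.mem_univ, true_and] at hi
    exact ⟨(i, t), by simp [hi.1, hi.2], rfl⟩

open W4bk4grassmannian in
/-- Dimension of a Schubert variety, stated for its affine cone: let K be an algebraically closed field,
0 < d < n, and I(d,n) the strictly increasing maps Fin d → Fin n ordered entrywise; S = K[X_θ : θ ∈
I(d,n)] is the Plücker polynomial ring and, for τ ∈ I(d,n), J(τ) ⊆ S is the ideal of polynomials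
vanishing at the d × d row-minors of every n × d matrix over K whose minors on rows φ ≰ τ are zero
(the homogeneous ideal of the Schubert variety X(τ) ⊆ G(d,n)). Then for w ∈ I(d,n) the ring S/J(w),
the coordinate ring of the cone over X(w), has Krull dimension Σ_t (w_t - t) + 1 (0-indexed
entries), so that dim X(w) = Σ_t (w_t - t). (The published statement gives the dimension of the
projective variety X(w); this row states the Krull dimension of its affine cone, one more.) -/
theorem result (K : Type u) [Field K] [IsAlgClosed K] (d n : ℕ)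
    (hd : 0 < d) (hdn : d < n) (w : Idx d n) :
    ringKrullDim (PlRing K d n ⧸ schubertVanishing K d n w) = ((codeg w + 1 : ℕ) : WithBot ℕ∞) := by
  classical
  haveI : Infinite K := IsAlgClosed.instInfinite
  haveI := H26Grass.schubertVanishing_isPrime K hd w
  rw [H26Grass.ringKrullDim_of_birational K _ (Option (H26Grass.FreeVar w)) (H26Grass.paramQ K hd w)
    (H26Grass.paramQ_injective K hd w) (Ideal.Quotient.mk _ (MvPolynomial.X w)) ?_ ?_,
    Fintype.card_option, card_freeVar]
  · rw [H26Grass.paramQ_mk, H26Grass.param_X_self]; exact MvPolynomial.X_ne_zero none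
  · intro q
    obtain ⟨j, a, ha⟩ := H26Grass.exists_param_pow_mul K w q
    exact ⟨j, Ideal.Quotient.mk _ a, by rw [H26Grass.paramQ_mk, H26Grass.paramQ_mk, H26Grass.param_X_self, ha]⟩

end Groth.Agent.S11255
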