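import Groth.Statements.S11256
import Groth.Agent.H26Grass.Minors

set_option autoImplicit false
universe u
open W4bk4grassmannian

namespace Groth.Agent.S11256

theorem eval_eq_ev {K : Type u} [CommRing K] {d n : ℕ} (A : Matrix (Fin n) (Fin d) K)
    (q : W4bk4grassmannian.Idx d n → K) (hq : ∀ θ, q θ = (A.submatrix θ.1 id).det)
    (p : PlRing K d n) : MvPolynomial.eval q p = H26Grass.ev K A p := by
  rw [← MvPolynomial.aeval_eq_eval, H26Grass.ev, show q = fun θ : W4bk4grassmannian.Idx d n => (A.submatrix θ.1 id).det from funext hq]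

theorem quadric_minor {K : Type u} [CommRing K] {e n : ℕ} (A : Matrix (Fin n) (Fin (e + 1)) K)
    (i' : W4bk4grassmannian.Idx e n) (j' : W4bk4grassmannian.Idx (e + 2) n) :
    H26Grass.ev K A (quadric K i' j') = 0 := by
  classical
  set B := A.submatrix (Fin.snoc i'.1 (j'.1 0)) id with hB
  set γ : Fin (e + 1) → K := fun c => B.adjugate c (Fin.last e) with hγ
  have hlin : ∀ h : Fin (e + 2), (A.submatrix (Fin.snoc i'.1 (j'.1 h)) id).det = ∑ c, A (j'.1 h) c * γ c := by
    intro h
    rw [show A.submatrix (Fin.snoc i'.1 (j'.1 h)) id = B.updateRow (Fin.last e) (A (j'.1 h)) by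
        ext s u
        induction s using Fin.lastCases with
        | last => simp
        | cast s => simp [hB],
      ← Matrix.cramer_transpose_apply]
    simp [Matrix.cramer_eq_adjugate_mulVec, Matrix.mulVec, dotProduct, hγ,
      ← Matrix.adjugate_transpose, mul_comm]
  have hcol : ∀ c : Fin (e + 1), ∑ h : Fin (e + 2),
      (-1 : K) ^ h.val * A (j'.1 h) c * (A.submatrix (j'.1 ∘ h.succAbove) id).det = 0 := by
    intro c
    set M : Matrix (Fin (e + 2)) (Fin (e + 2)) K :=
      Matrix.of fun s u => Fin.cases (A (j'.1 s) c) (fun t => A (j'.1 s) t) u with hM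
    have h0 : M.det = 0 := Matrix.det_zero_of_column_eq (Fin.succ_ne_zero c).symm fun s => by simp [hM]
    rw [Matrix.det_succ_column_zero] at h0
    rw [← h0]
    refine Finset.sum_congr rfl fun h _ => ?_
    congr 1
  rw [quadric, map_sum]
  simp only [map_mul, map_pow, map_neg, map_one, H26Grass.ev_coord, hlin, Finset.sum_mul, Finset.mul_sum]
  rw [Finset.sum_comm]
  refine Finset.sum_eq_zero fun c _ => ?_
  calc _ = -γ c * ∑ h : Fin (e + 2),
      (-1 : K) ^ h.val * A (j'.1 h) c * (A.submatrix (j'.1 ∘ h.succAbove) id).det := by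
        rw [Finset.mul_sum]; exact Finset.sum_congr rfl fun h _ => by ring
    _ = 0 := by rw [hcol c, mul_zero]

open W4bk4grassmannian in
/-- The Grassmannian is cut out set-theoretically by the Plücker quadrics: let K be a field, e, n
natural numbers, and q : I(e+1,n) → K a nonzero vector (a point of the projective space of the
Plücker embedding of G(e+1,n)). Then q is the vector of (e+1) × (e+1) row-minors of some n × (e+1)
matrix over K if and only if all the quadrics attached to i' ∈ I(e,n), j' ∈ I(e+2,n) (the signed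
sums Σ_h (-1)^(h+1) [i', j'_h] [j' with j'_h removed], brackets of arbitrary tuples meaning signed
sorted coordinates, zero on repeated rows) vanish at q. (The published statement is over an
algebraically closed field; this row allows any field K.) -/
theorem result (K : Type u) [Field K] (e n : ℕ)
    (q : Idx (e + 1) n → K) (hq : q ≠ 0) :
    (∀ (i' : Idx e n) (j' : Idx (e + 2) n), MvPolynomial.eval q (quadric K i' j') = 0) ↔
      ∃ A : Matrix (Fin n) (Fin (e + 1)) K, ∀ θ : Idx (e + 1) n, q θ = (A.submatrix θ.1 id).det := by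
  classical
  constructor
  swap
  · rintro ⟨A, hA⟩ i' j'
    rw [eval_eq_ev A q hA, quadric_minor]
  intro hquad
  obtain ⟨θ₀, hθ₀⟩ := Function.ne_iff.1 hq
  simp only [Pi.zero_apply] at hθ₀
  set Q : (Fin (e + 1) → Fin n) → K := fun a => MvPolynomial.eval q (coord K (e + 1) n a) with hQ
  have hQθ : ∀ θ : Idx (e + 1) n, Q θ.1 = q θ := fun θ => by simp [hQ, H26Grass.coord_eq_X]
  have hQrep : ∀ a : Fin (e + 1) → Fin n, ¬ Function.Injective a → Q a = 0 := fun a ha => by
    have : ¬ (Finset.univ.image a).card = e + 1 := fun h => ha (H26Grass.injective_iff_card_image.1 h)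
    simp [hQ, coord, this]
  set A : Matrix (Fin n) (Fin (e + 1)) K := Matrix.of fun i t =>
    Q (Function.update θ₀.1 t i) * (if t = 0 then 1 else (q θ₀)⁻¹) with hA
  set δ : Fin (e + 1) → K := fun t => if t = 0 then q θ₀ else 1 with hδ
  have hA0 : A.submatrix θ₀.1 id = Matrix.diagonal δ := by
    ext s t
    rw [Matrix.submatrix_apply, hA, Matrix.of_apply, id]
    rcases eq_or_ne s t with rfl | hst
    · rw [Function.update_eq_self, hQθ, Matrix.diagonal_apply_eq]
      simp only [hδ]; split_ifs
      · rw [mul_one]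
      · exact mul_inv_cancel₀ hθ₀
    · rw [Matrix.diagonal_apply_ne _ hst, hQrep, zero_mul]
      intro hi
      exact hst (hi (by simp [Function.update_of_ne hst]))
  have hprod : ∏ t, δ t = q θ₀ := by simp [hδ]
  have hm : ∀ θ : Idx (e + 1) n, q θ = (A.submatrix θ.1 id).det := by
    intro θ
    induction hk : (Finset.univ.image θ.1 \ Finset.univ.image θ₀.1).card using Nat.strong_induction_on
      generalizing θ with
    | _ k ih =>
    set T := Finset.univ.image θ.1 with hT
    set T₀ := Finset.univ.image θ₀.1 with hT₀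
    have hcT : ∀ φ : Idx (e + 1) n, (Finset.univ.image φ.1).card = e + 1 := fun φ =>
      H26Grass.injective_iff_card_image.2 φ.2.injective
    rcases Nat.eq_zero_or_pos k with rfl | hkpos
    · rw [Finset.card_eq_zero, Finset.sdiff_eq_empty_iff_subset] at hk
      have heq : T = T₀ := Finset.eq_of_subset_of_card_le hk (by rw [hT₀, hcT, hT, hcT])
      have hθeq : θ = θ₀ := by
        obtain ⟨x, hx⟩ := H26Grass.coord_eq_of_image (K := ℚ) θ.1 θ₀ heq
        apply Subtype.ext
        have h1 := Finset.orderEmbOfFin_unique (hcT θ₀) (f := θ.1)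
          (fun x => by rw [← hT₀, ← heq, hT]; exact Finset.mem_image_of_mem _ (Finset.mem_univ x)) θ.2
        have h2 := Finset.orderEmbOfFin_unique (hcT θ₀) (f := θ₀.1)
          (fun x => Finset.mem_image_of_mem _ (Finset.mem_univ x)) θ₀.2
        exact h1.trans h2.symm
      rw [hθeq, hA0, Matrix.det_diagonal, hprod]
    obtain ⟨x, hx⟩ := Finset.card_pos.1 (hk ▸ hkpos)
    rw [Finset.mem_sdiff] at hx
    rcases Nat.lt_or_ge k 2 with hk2 | hk2
    · obtain rfl : k = 1 := by omega
      have hTx : T \ T₀ = {x} := by
        obtain ⟨z, hz⟩ := Finset.card_eq_one.1 hk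
        rw [hz, Finset.singleton_inj]
        have : x ∈ ({z} : Finset (Fin n)) := hz ▸ Finset.mem_sdiff.2 hx
        exact (Finset.mem_singleton.1 this).symm
      have hsdiff : (T₀ \ T).card = 1 := by
        have h1 := Finset.card_sdiff_add_card_inter T₀ T
        have h2 := Finset.card_sdiff_add_card_inter T T₀
        rw [hT₀, hcT, ← hT₀] at h1
        rw [hT, hcT, ← hT, hk, Finset.inter_comm] at h2
        omega
      obtain ⟨y, hy⟩ := Finset.card_eq_one.1 hsdiff
      have hy' : y ∈ T₀ \ T := hy ▸ Finset.mem_singleton_self y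
      rw [Finset.mem_sdiff] at hy'
      obtain ⟨t, -, rfl⟩ := Finset.mem_image.1 hy'.1
      have himg : Finset.univ.image (Function.update θ₀.1 t x) = T := by
        refine Finset.eq_of_subset_of_card_le ?_ ?_
        · intro z hz
          obtain ⟨s, -, rfl⟩ := Finset.mem_image.1 hz
          rcases eq_or_ne s t with rfl | hs
          · rw [Function.update_self]; exact hx.1
          · rw [Function.update_of_ne hs]
            by_contra hz'
            have : θ₀.1 s ∈ T₀ \ T := Finset.mem_sdiff.2 ⟨Finset.mem_image_of_mem _ (Finset.mem_univ s), hz'⟩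
            rw [hy, Finset.mem_singleton] at this
            exact hs (θ₀.2.injective this)
        · rw [hT, hcT, Finset.card_image_of_injective, Finset.card_univ, Fintype.card_fin]
          intro s s' h
          by_cases hs : s = t <;> by_cases hs' : s' = t
          · rw [hs, hs']
          · rw [hs, Function.update_self, Function.update_of_ne hs'] at h
            exact absurd (h ▸ Finset.mem_image_of_mem _ (Finset.mem_univ s') : x ∈ T₀) hx.2
          · rw [hs', Function.update_self, Function.update_of_ne hs] at h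
            exact absurd (h ▸ Finset.mem_image_of_mem _ (Finset.mem_univ s) : x ∈ T₀) hx.2
          · rw [Function.update_of_ne hs, Function.update_of_ne hs'] at h; exact θ₀.2.injective h
      obtain ⟨N, hN⟩ := H26Grass.coord_eq_of_image (K := K) (Function.update θ₀.1 t x) θ himg
      have hdet : (A.submatrix (Function.update θ₀.1 t x) id).det = Q (Function.update θ₀.1 t x) := by
        rw [show A.submatrix (Function.update θ₀.1 t x) id = (Matrix.diagonal δ).updateRow t (A x) by
          ext s u
          rcases eq_or_ne s t with rfl | hs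
          · simp
          · rw [Matrix.updateRow_ne hs, ← hA0]; simp [Function.update_of_ne hs],
          ← Matrix.cramer_transpose_apply, Matrix.diagonal_transpose, Matrix.cramer_eq_adjugate_mulVec,
          Matrix.adjugate_diagonal, Matrix.mulVec_diagonal]
        show (∏ j ∈ Finset.univ.erase t, δ j) * A x t = _
        rw [hA, Matrix.of_apply]
        rcases eq_or_ne t 0 with rfl | ht
        · simp [hδ, Finset.prod_ite_eq']
        · rw [if_neg ht, hδ, Finset.prod_ite_eq', if_pos (Finset.mem_erase.2 ⟨ht.symm, Finset.mem_univ _⟩)]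
          field_simp
      have h1 : Q (Function.update θ₀.1 t x) = (-1) ^ N * q θ := by simp [hQ, hN]
      have h2 : (A.submatrix (Function.update θ₀.1 t x) id).det = (-1) ^ N * (A.submatrix θ.1 id).det := by
        rw [← H26Grass.ev_coord (K := K), hN]; simp
      have h3 := h2.symm.trans (hdet.trans h1)
      exact (mul_left_cancel₀ (pow_ne_zero N (neg_ne_zero.2 one_ne_zero)) h3).symm
    -- induction step
    have hce : (T.erase x).card = e := by rw [Finset.card_erase_of_mem hx.1, hT, hcT]; rfl
    have hci : (insert x T₀).card = e + 2 := by rw [Finset.card_insert_of_notMem hx.2, hT₀, hcT]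
    set i' : Idx e n := ⟨(T.erase x).orderEmbOfFin hce, ((T.erase x).orderEmbOfFin hce).strictMono⟩
    set j' : Idx (e + 2) n := ⟨(insert x T₀).orderEmbOfFin hci, ((insert x T₀).orderEmbOfFin hci).strictMono⟩
    have hj'm : ∀ h, j'.1 h ∈ insert x T₀ := fun h => Finset.orderEmbOfFin_mem _ _ h
    have hi'm : Finset.univ.image i'.1 = T.erase x := Finset.image_orderEmbOfFin_univ _ _
    have hj'i : Finset.univ.image j'.1 = insert x T₀ := Finset.image_orderEmbOfFin_univ _ _
    have hsnoc : ∀ h, Finset.univ.image (Fin.snoc i'.1 (j'.1 h) : Fin (e + 1) → Fin n) =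
        insert (j'.1 h) (T.erase x) := by
      intro h; rw [← hi'm]; ext z
      simp [Fin.exists_fin_succ', eq_comm, or_comm]
    have hsucc : ∀ h, Finset.univ.image (j'.1 ∘ h.succAbove) = (insert x T₀).erase (j'.1 h) := by
      intro h; rw [← hj'i]; ext z
      simp only [Finset.mem_image, Finset.mem_univ, true_and, Function.comp_apply, Finset.mem_erase]
      constructor
      · rintro ⟨u, rfl⟩; exact ⟨fun he => Fin.succAbove_ne h u (j'.2.injective he), _, rfl⟩
      · rintro ⟨hne, v, rfl⟩
        obtain ⟨u, hu⟩ := Fin.exists_succAbove_eq (x := v) (y := h) fun he => hne (by rw [he])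
        exact ⟨u, by rw [hu]⟩
    obtain ⟨h₀, -, hh₀⟩ := Finset.mem_image.1 (hj'i ▸ Finset.mem_insert_self x T₀ : x ∈ Finset.univ.image j'.1)
    -- both families satisfy the relation
    have hrel : ∀ (p : Idx (e + 1) n → K), MvPolynomial.eval p (quadric K i' j') = 0 →
        MvPolynomial.eval p (coord K (e + 1) n (Fin.snoc i'.1 (j'.1 h₀))) *
          MvPolynomial.eval p (coord K (e + 1) n (j'.1 ∘ h₀.succAbove)) =
        -((-1 : K) ^ (h₀.val + 1)) * ∑ h ∈ Finset.univ.erase h₀, (-1 : K) ^ (h.val + 1) *
          MvPolynomial.eval p (coord K (e + 1) n (Fin.snoc i'.1 (j'.1 h))) *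
          MvPolynomial.eval p (coord K (e + 1) n (j'.1 ∘ h.succAbove)) := by
      intro p hp
      rw [quadric, map_sum, ← Finset.add_sum_erase _ _ (Finset.mem_univ h₀)] at hp
      simp only [map_mul, map_pow, map_neg, map_one] at hp ⊢
      have hsq : ((-1 : K) ^ (h₀.val + 1)) * (-1 : K) ^ (h₀.val + 1) = 1 := by
        rw [← pow_add, ← two_mul, pow_mul, neg_one_sq, one_pow]
      linear_combination ((-1 : K) ^ (h₀.val + 1)) * hp -
        (MvPolynomial.eval p (coord K (e + 1) n (Fin.snoc i'.1 (j'.1 h₀))) *
          MvPolynomial.eval p (coord K (e + 1) n (j'.1 ∘ h₀.succAbove))) * hsq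
    set m : Idx (e + 1) n → K := fun φ => (A.submatrix φ.1 id).det with hm
    have hagree : ∀ a : Fin (e + 1) → Fin n, (Finset.univ.image a \ T₀).card < k →
        MvPolynomial.eval q (coord K (e + 1) n a) = MvPolynomial.eval m (coord K (e + 1) n a) := by
      intro a ha
      unfold coord
      split_ifs with h
      · simp only [map_mul, map_pow, map_neg, map_one, MvPolynomial.eval_X]
        congr 1
        refine ih _ ha _ ?_
        have : Finset.univ.image (sortIdx (e + 1) n a h).1 = Finset.univ.image a := Finset.image_orderEmbOfFin_univ _ h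
        rw [this]
      · simp
    have e1 := hrel q (hquad i' j')
    have e2 := hrel m (by rw [eval_eq_ev A m (fun _ => rfl), quadric_minor])
    have hsum : (∑ h ∈ Finset.univ.erase h₀, (-1 : K) ^ (h.val + 1) *
          MvPolynomial.eval q (coord K (e + 1) n (Fin.snoc i'.1 (j'.1 h))) *
          MvPolynomial.eval q (coord K (e + 1) n (j'.1 ∘ h.succAbove))) =
        ∑ h ∈ Finset.univ.erase h₀, (-1 : K) ^ (h.val + 1) *
          MvPolynomial.eval m (coord K (e + 1) n (Fin.snoc i'.1 (j'.1 h))) *
          MvPolynomial.eval m (coord K (e + 1) n (j'.1 ∘ h.succAbove)) := by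
      refine Finset.sum_congr rfl fun h hh => ?_
      have hne : j'.1 h ≠ x := fun he => (Finset.ne_of_mem_erase hh) (j'.2.injective (he.trans hh₀.symm))
      have hyT : j'.1 h ∈ T₀ := (Finset.mem_insert.1 (hj'm h)).resolve_left hne
      rw [hagree, hagree]
      · rw [hsucc]
        refine lt_of_le_of_lt (Finset.card_le_card (t := {x}) ?_) (by rw [Finset.card_singleton]; omega)
        intro z hz
        simp only [Finset.mem_sdiff, Finset.mem_erase, Finset.mem_insert] at hz
        exact Finset.mem_singleton.2 (hz.1.2.resolve_right hz.2)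
      · rw [hsnoc, Finset.insert_sdiff_of_mem _ hyT,
          show T.erase x \ T₀ = (T \ T₀).erase x by ext z; simp; tauto,
          Finset.card_erase_of_mem (Finset.mem_sdiff.2 hx), hk]
        omega
    rw [hsum, ← e2] at e1
    -- identify the distinguished term
    obtain ⟨N₁, hN₁⟩ := H26Grass.coord_eq_of_image (K := K) (Fin.snoc i'.1 (j'.1 h₀)) θ
      (by rw [hsnoc, hh₀, Finset.insert_erase hx.1])
    obtain ⟨N₂, hN₂⟩ := H26Grass.coord_eq_of_image (K := K) (j'.1 ∘ h₀.succAbove) θ₀
      (by rw [hsucc, hh₀, Finset.erase_insert hx.2])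
    have hm0 : m θ₀ = q θ₀ := by simp only [hm, hA0, Matrix.det_diagonal, hprod]
    rw [hN₁, hN₂] at e1
    simp only [map_mul, map_pow, map_neg, map_one, MvPolynomial.eval_X, hm0] at e1
    exact mul_left_cancel₀ (pow_ne_zero N₁ (neg_ne_zero.2 one_ne_zero))
      (mul_right_cancel₀ (mul_ne_zero (pow_ne_zero N₂ (neg_ne_zero.2 one_ne_zero)) hθ₀) e1)
  exact ⟨A, hm⟩

end Groth.Agent.S11256
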