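import Groth.Statements.S11257
-- import your own Groth.Agent.* helpers here

set_option autoImplicit false
universe u
open W4bk4grassmannian

namespace Groth.Agent.S11257

open RingTheory.Sequence in
theorem weaklyRegular_mid {R : Type u} [CommRing R] : ∀ (rs : List R) (M' M M'' : Type u)
    [AddCommGroup M'] [Module R M'] [AddCommGroup M] [Module R M] [AddCommGroup M''] [Module R M'']
    (f : M' →ₗ[R] M) (g : M →ₗ[R] M'') (_ : Function.Injective f) (_ : Function.Surjective g)
    (_ : Function.Exact f g) (_ : IsWeaklyRegular M' rs) (_ : IsWeaklyRegular M'' rs),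
    IsWeaklyRegular M rs := by
  intro rs
  induction rs with
  | nil => intros; exact IsWeaklyRegular.nil _ _
  | cons x xs ih =>
    intro M' M M'' _ _ _ _ _ _ f g hf hg hfg h' h''
    rw [isWeaklyRegular_cons_iff] at h' h'' ⊢
    refine ⟨?_, ih _ _ _ (QuotSMulTop.map x f) (QuotSMulTop.map x g) ?_
      (QuotSMulTop.map_surjective x hg) (QuotSMulTop.map_exact x hfg hg) h'.2 h''.2⟩
    · rw [isSMulRegular_iff_right_eq_zero_of_smul]
      intro m (hm : x • m = 0)
      have : g m = 0 := h''.1.right_eq_zero_of_smul (by rw [← map_smul, hm, map_zero])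
      obtain ⟨m', rfl⟩ := (hfg m).mp this
      have hm' : x • m' = 0 := hf (by rw [map_smul, hm, map_zero])
      rw [h'.1.right_eq_zero_of_smul hm', map_zero]
    · have h0 : Function.Exact (0 : PUnit.{u+1} →ₗ[R] M') f :=
        (LinearMap.exact_zero_iff_injective _ f).mpr hf
      have := QuotSMulTop.map_first_exact_on_four_term_exact_of_isSMulRegular_last h0 hfg h''.1
      rw [map_zero, LinearMap.exact_zero_iff_injective] at this
      exact this

open RingTheory.Sequence in
theorem weaklyRegular_left {R : Type u} [CommRing R] : ∀ (rs : List R) (M' M M'' : Type u)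
    [AddCommGroup M'] [Module R M'] [AddCommGroup M] [Module R M] [AddCommGroup M''] [Module R M'']
    (f : M' →ₗ[R] M) (g : M →ₗ[R] M'') (_ : Function.Injective f) (_ : Function.Surjective g)
    (_ : Function.Exact f g) (_ : IsWeaklyRegular M rs) (_ : IsWeaklyRegular M'' rs.dropLast),
    IsWeaklyRegular M' rs := by
  intro rs
  induction rs with
  | nil => intros; exact IsWeaklyRegular.nil _ _
  | cons x xs ih =>
    intro M' M M'' _ _ _ _ _ _ f g hf hg hfg h h''
    rw [isWeaklyRegular_cons_iff] at h ⊢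
    refine ⟨h.1.of_injective f hf, ?_⟩
    rcases xs with _ | ⟨y, ys⟩
    · exact IsWeaklyRegular.nil _ _
    rw [List.dropLast_cons₂, isWeaklyRegular_cons_iff] at h''
    refine ih _ _ _ (QuotSMulTop.map x f) (QuotSMulTop.map x g) ?_
      (QuotSMulTop.map_surjective x hg) (QuotSMulTop.map_exact x hfg hg) h.2 h''.2
    have h0 : Function.Exact (0 : PUnit.{u+1} →ₗ[R] M') f :=
      (LinearMap.exact_zero_iff_injective _ f).mpr hf
    have := QuotSMulTop.map_first_exact_on_four_term_exact_of_isSMulRegular_last h0 hfg h''.1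
    rw [map_zero, LinearMap.exact_zero_iff_injective] at this
    exact this

/-- Let A be a Noetherian local integral domain with maximal ideal m, I and J ideals of A, d ≥ 1, and
f_1, …, f_d ∈ m. Assume depth A/(I+J) ≥ d - 1, depth A/I ≥ d and depth A/J ≥ d (depths of the
quotients as A-modules), that f_1, …, f_d is a regular sequence on A/I and on A/J, and that f_1, …,
f_{d-1} is a regular sequence on A/(I+J). Then f_1, …, f_d is a regular sequence on A/(I ∩ J). -/
theorem result (A : Type u) [CommRing A] [IsDomain A]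
    [IsNoetherianRing A] [IsLocalRing A] (I J : Ideal A) (d : ℕ) (hd : 0 < d) (f : Fin d → A)
    (hf : ∀ k, f k ∈ IsLocalRing.maximalIdeal A)
    (hIJd : ((d - 1 : ℕ) : ℕ∞) ≤ LocCoh.depth A (A ⧸ (I ⊔ J)))
    (hId : (d : ℕ∞) ≤ LocCoh.depth A (A ⧸ I)) (hJd : (d : ℕ∞) ≤ LocCoh.depth A (A ⧸ J))
    (hI : RingTheory.Sequence.IsRegular (A ⧸ I) (List.ofFn f))
    (hJ : RingTheory.Sequence.IsRegular (A ⧸ J) (List.ofFn f))
    (hIJ : RingTheory.Sequence.IsRegular (A ⧸ (I ⊔ J)) ((List.ofFn f).take (d - 1))) :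
    RingTheory.Sequence.IsRegular (A ⧸ (I ⊓ J)) (List.ofFn f) := by
  have hne : Nontrivial (A ⧸ (I ⊓ J)) := by
    rw [Ideal.Quotient.nontrivial_iff]
    intro h
    have := hI.nontrivial
    rw [Ideal.Quotient.nontrivial_iff] at this
    exact this (top_le_iff.mp (h ▸ inf_le_left))
  rw [IsLocalRing.isRegular_iff_isWeaklyRegular_of_subset_maximalIdeal (fun r hr => by
    obtain ⟨k, rfl⟩ := List.mem_ofFn.mp hr
    exact hf k)]
  have hp : RingTheory.Sequence.IsWeaklyRegular ((A ⧸ I) × (A ⧸ J)) (List.ofFn f) :=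
    weaklyRegular_mid _ _ _ _ (LinearMap.inl A _ _) (LinearMap.snd A _ _) LinearMap.inl_injective
      Prod.snd_surjective .inl_snd hI.toIsWeaklyRegular hJ.toIsWeaklyRegular
  refine weaklyRegular_left _ _ _ _
    (Submodule.liftQ (I ⊓ J) ((Submodule.mkQ I).prod (Submodule.mkQ J)) ?_)
    ((Submodule.factor (le_sup_left : I ≤ I ⊔ J)).comp (LinearMap.fst A _ _) -
      (Submodule.factor (le_sup_right : J ≤ I ⊔ J)).comp (LinearMap.snd A _ _)) ?_ ?_ ?_ hp ?_
  · intro a ha
    exact Prod.ext ((Submodule.Quotient.mk_eq_zero I).mpr ha.1)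
      ((Submodule.Quotient.mk_eq_zero J).mpr ha.2)
  · rw [← LinearMap.ker_eq_bot, Submodule.ker_liftQ_eq_bot _ _ _ (by simp [LinearMap.ker_prod])]
  · intro x
    obtain ⟨a, rfl⟩ := Submodule.mkQ_surjective _ x
    exact ⟨(Submodule.mkQ I a, 0), by simp⟩
  · rintro ⟨x, y⟩
    obtain ⟨a, rfl⟩ := Submodule.mkQ_surjective _ x
    obtain ⟨b, rfl⟩ := Submodule.mkQ_surjective _ y
    change (Submodule.Quotient.mk a : A ⧸ (I ⊔ J)) - Submodule.Quotient.mk b = 0 ↔ _
    rw [sub_eq_zero, Submodule.Quotient.eq]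
    constructor
    · intro h
      obtain ⟨i, hi, j, hj, hij⟩ := Submodule.mem_sup.mp h
      refine ⟨Submodule.Quotient.mk (a - i), Prod.ext ?_ ?_⟩
      · change (Submodule.Quotient.mk (a - i) : A ⧸ I) = Submodule.Quotient.mk a
        rw [Submodule.Quotient.eq]
        simpa using hi
      · change (Submodule.Quotient.mk (a - i) : A ⧸ J) = Submodule.Quotient.mk b
        rw [Submodule.Quotient.eq, show a - i - b = j by linear_combination -hij]
        exact hj
    · rintro ⟨c, hc⟩
      obtain ⟨c, rfl⟩ := Submodule.mkQ_surjective _ c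
      have h1 : (Submodule.Quotient.mk c : A ⧸ I) = Submodule.Quotient.mk a := congrArg Prod.fst hc
      have h2 : (Submodule.Quotient.mk c : A ⧸ J) = Submodule.Quotient.mk b := congrArg Prod.snd hc
      rw [Submodule.Quotient.eq] at h1 h2
      rw [show a - b = (c - b) - (c - a) by ring]
      exact sub_mem (Submodule.mem_sup_right h2) (Submodule.mem_sup_left h1)
  · rw [List.dropLast_eq_take, List.length_ofFn]
    exact hIJ.toIsWeaklyRegular

end Groth.Agent.S11257
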