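import Groth.Statements.S1126
import Mathlib.AlgebraicGeometry.Morphisms.FlatDescent

set_option autoImplicit false
open CategoryTheory CategoryTheory.Limits AlgebraicGeometry Opposite
universe u
open Desc

namespace Groth.Agent.S1126

/-- If the base change of a morphism along a quasi-compact flat surjective morphism to its target is a
universal homeomorphism, then the morphism is a universal homeomorphism. (Stated for a single
quasi-compact flat surjective base change; combined with Zariski-locality on the target this gives
the fpqc-local form.) -/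
theorem result :
    MorphismProperty.DescendsAlong (FlatMor.IsUnivHomeo.{u})
      (@Surjective ⊓ @Flat ⊓ @QuasiCompact : MorphismProperty Scheme.{u}) := by
  refine ⟨fun {A X Y Z fst snd g f} sq hQ h => ?_⟩
  obtain ⟨⟨_, _⟩, _⟩ := hQ
  have hQ : (@Surjective ⊓ @Flat ⊓ @QuasiCompact : MorphismProperty Scheme.{u}) g :=
    ⟨⟨inferInstance, inferInstance⟩, inferInstance⟩
  have h0 := h _ _ _ IsPullback.of_id_snd
  have : Surjective fst := ⟨h0.bijective.2⟩
  have : UniversallyInjective fst := ⟨fun _ _ i₁ i₂ f' hf' => (h i₁ i₂ f' hf').bijective.1⟩
  have : UniversallyOpen fst := ⟨fun _ _ i₁ i₂ f' hf' => (h i₁ i₂ f' hf').isOpenMap⟩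
  have hs : Surjective f := MorphismProperty.of_isPullback_of_descendsAlong (P := @Surjective) sq hQ ‹_›
  have hi : UniversallyInjective f :=
    MorphismProperty.of_isPullback_of_descendsAlong (P := @UniversallyInjective) sq hQ ‹_›
  have ho : UniversallyOpen f :=
    MorphismProperty.of_isPullback_of_descendsAlong (P := @UniversallyOpen) sq hQ ‹_›
  intro X' Y' i₁ i₂ f' hf'
  exact ⟨f'.continuous, ho.universally_isOpenMap _ _ _ hf',
    hi.universally_injective _ _ _ hf',
    (MorphismProperty.of_isPullback (P := @Surjective) hf'.flip hs).surj⟩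

end Groth.Agent.S1126
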