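import Groth.Statements.S11277
import Mathlib.RingTheory.Algebraic.Basic
import Mathlib.RingTheory.GradedAlgebra.HomogeneousLocalization
import Mathlib.Algebra.DirectSum.Decomposition
import Mathlib.RingTheory.Localization.Away.Basic

set_option autoImplicit false
universe u v
open W4bk4grassmannian

namespace Groth.Agent.S11277

/-- Let K be a field, R = ⊕_{i ≥ 0} R_i an ℕ-graded commutative K-algebra which is an integral domain,
and s ∈ R_e a homogeneous element of degree e > 0. Let R_(s) ⊆ R[1/s] be the homogeneous
localization (fractions f / s^k with f homogeneous of degree k e). Then the image of s in R[1/s] is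
transcendental over R_(s). -/
theorem result (K : Type u) [Field K] (R : Type v) [CommRing R]
    [IsDomain R] [Algebra K R] (𝒜 : ℕ → Submodule K R) [GradedAlgebra 𝒜] (e : ℕ) (he : 0 < e) (s : R)
    (hs : s ∈ 𝒜 e) :
    Transcendental (HomogeneousLocalization.Away 𝒜 s) (algebraMap R (Localization.Away s) s) := by
  classical
  intro halg
  obtain ⟨Q, hQ0, hQ⟩ := halg
  rcases eq_or_ne s 0 with rfl | hs0
  · have : Subsingleton (HomogeneousLocalization.Away 𝒜 (0 : R)) :=
      HomogeneousLocalization.subsingleton 𝒜 (x := Submonoid.powers (0 : R)) ⟨1, pow_one 0⟩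
    exact hQ0 (Subsingleton.elim _ _)
  have hinj : Function.Injective (algebraMap R (Localization.Away s)) :=
    IsLocalization.injective _ (powers_le_nonZeroDivisors_of_noZeroDivisors hs0)
  choose n a ha hmk using fun i => HomogeneousLocalization.Away.mk_surjective 𝒜 hs (Q.coeff i)
  set N := (Finset.range (Q.natDegree + 1)).sup n
  set t := algebraMap R (Localization.Away s) s with ht
  have hval : ∀ i, algebraMap _ (Localization.Away s) (Q.coeff i) * t ^ n i = algebraMap R (Localization.Away s) (a i) := by
    intro i
    rw [HomogeneousLocalization.algebraMap_apply, ← hmk i, HomogeneousLocalization.Away.val_mk, ht, ← map_pow,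
      Localization.mk_eq_mk']
    exact IsLocalization.mk'_spec _ _ _
  have hzero : ∑ i ∈ Finset.range (Q.natDegree + 1), a i * s ^ (i + (N - n i)) = 0 := by
    refine hinj ?_
    rw [map_sum, map_zero]
    have h : (∑ i ∈ Finset.range (Q.natDegree + 1), algebraMap _ (Localization.Away s) (Q.coeff i) * t ^ i) * t ^ N = 0 := by
      rw [Polynomial.aeval_eq_sum_range] at hQ
      simp only [Algebra.smul_def] at hQ
      rw [hQ, zero_mul]
    rw [Finset.sum_mul] at h
    rw [← h]
    refine Finset.sum_congr rfl fun i hi => ?_
    have hle : n i ≤ N := Finset.le_sup hi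
    rw [map_mul, map_pow, ← hval, mul_assoc, ← ht, mul_assoc, ← pow_add, ← pow_add]
    congr 2
    omega
  refine hQ0 (Polynomial.ext fun i => ?_)
  rw [Polynomial.coeff_zero]
  by_cases hi : i ∈ Finset.range (Q.natDegree + 1)
  swap
  · exact Polynomial.coeff_eq_zero_of_natDegree_lt (by simpa using hi)
  have hdeg : ∀ j ∈ Finset.range (Q.natDegree + 1), a j * s ^ (j + (N - n j)) ∈ 𝒜 ((j + N) * e) := by
    intro j hj
    have hle : n j ≤ N := Finset.le_sup hj
    have h := SetLike.mul_mem_graded (A := 𝒜) (ha j) (SetLike.pow_mem_graded (j + (N - n j)) hs)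
    rwa [show n j • e + (j + (N - n j)) • e = (j + N) * e by
      rw [← add_smul, smul_eq_mul]; congr 1; omega] at h
  have h := congrArg (fun x => ((DirectSum.decompose 𝒜 x) ((i + N) * e) : R)) hzero
  simp only [DirectSum.decompose_sum, DirectSum.decompose_zero, DirectSum.zero_apply, ZeroMemClass.coe_zero] at h
  rw [DFinsupp.finsetSum_apply, AddSubmonoidClass.coe_finset_sum, Finset.sum_eq_single i] at h
  · rw [DirectSum.decompose_of_mem_same 𝒜 (hdeg i hi)] at h
    have : a i = 0 := (mul_eq_zero.1 h).resolve_right (pow_ne_zero _ hs0)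
    rw [← hmk i]
    apply HomogeneousLocalization.val_injective
    simp [HomogeneousLocalization.Away.val_mk, this, Localization.mk_zero]
  · intro j hj hji
    exact DirectSum.decompose_of_mem_ne 𝒜 (hdeg j hj) fun hc => hji (by
      have := Nat.eq_of_mul_eq_mul_right he hc; omega)
  · intro h'; exact absurd hi h'

end Groth.Agent.S11277
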