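import Groth.Statements.S11278
import Groth.Agent.S11277
import Mathlib.RingTheory.UniqueFactorizationDomain.Kaplansky
import Mathlib.RingTheory.Polynomial.UniqueFactorization
import Mathlib.GroupTheory.MonoidLocalization.UniqueFactorization
import Mathlib.RingTheory.Localization.Ideal

set_option autoImplicit false
universe u v
open W4bk4grassmannian

namespace Groth.Agent.S11278

/-- Nagata's criterion. -/
theorem ufd_of_ufd_away {R : Type*} [CommRing R] [IsDomain R] [IsNoetherianRing R] {s : R} (hp : Prime s)
    (h : UniqueFactorizationMonoid (Localization.Away s)) : UniqueFactorizationMonoid R := by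
  classical
  have hs0 := hp.ne_zero
  have hM := powers_le_nonZeroDivisors_of_noZeroDivisors hs0
  haveI : IsDomain (Localization.Away s) := IsLocalization.isDomain_localization hM
  have hinj : Function.Injective (algebraMap R (Localization.Away s)) := IsLocalization.injective _ hM
  rw [UniqueFactorizationMonoid.iff_exists_prime_mem_of_isPrime]
  intro P hPbot hP
  haveI := hP
  by_cases hsP : s ∈ P
  · exact ⟨s, hsP, hp⟩
  have hdisj : Disjoint (Submonoid.powers s : Set R) (P : Set R) := by
    rw [Set.disjoint_left]
    rintro x ⟨k, rfl⟩ hx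
    exact hsP (hP.mem_of_pow_mem k hx)
  set P' := P.map (algebraMap R (Localization.Away s))
  haveI hP' : P'.IsPrime := IsLocalization.isPrime_of_isPrime_disjoint _ _ P hP hdisj
  have hP'bot : P' ≠ ⊥ := by
    rw [Ne, Ideal.map_eq_bot_iff_of_injective hinj]; exact hPbot
  obtain ⟨q, hqP, hq⟩ := UniqueFactorizationMonoid.iff_exists_prime_mem_of_isPrime.1 h P' hP'bot hP'
  obtain ⟨⟨a, ⟨_, k, rfl⟩⟩, ha⟩ := IsLocalization.surj (Submonoid.powers s) q
  have ha0 : a ≠ 0 := fun h0 => by
    rw [h0, map_zero] at ha
    exact hq.ne_zero ((mul_eq_zero.1 ha).resolve_right (fun h => pow_ne_zero k hs0 (hinj (h.trans (map_zero _).symm))))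
  obtain ⟨j, b, hsb, rfl⟩ := WfDvdMonoid.max_power_factor ha0 hp.irreducible
  have hu : ∀ m, IsUnit (algebraMap R (Localization.Away s) (s ^ m)) := fun m =>
    IsLocalization.map_units _ (⟨s ^ m, m, rfl⟩ : Submonoid.powers s)
  have hassoc : Associated q (algebraMap R (Localization.Away s) b) := by
    refine (associated_mul_unit_right q _ (hu k)).trans ?_
    rw [ha, map_mul]
    exact associated_unit_mul_left _ _ (hu j)
  have hbprime : Prime (algebraMap R (Localization.Away s) b) := hassoc.prime hq
  refine ⟨b, ?_, ?_⟩
  · have : algebraMap R (Localization.Away s) b ∈ P' := by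
      obtain ⟨u, hu'⟩ := hassoc
      rw [← hu']; exact P'.mul_mem_right _ hqP
    rwa [← Ideal.mem_comap, show Ideal.comap (algebraMap R (Localization.Away s)) P' = P from
      IsLocalization.comap_map_of_isPrime_disjoint (Submonoid.powers s) _ hP hdisj] at this
  · have hdvd : ∀ x, algebraMap R (Localization.Away s) b ∣ algebraMap R (Localization.Away s) x → b ∣ x := by
      intro x ⟨y, hy⟩
      obtain ⟨⟨c, ⟨_, m, rfl⟩⟩, hc⟩ := IsLocalization.surj (Submonoid.powers s) y
      have he : s ^ m * x = b * c := by
        refine hinj ?_
        rw [map_mul, map_mul, ← hc, hy]; ring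
      have hsc : s ^ m ∣ c := hp.pow_dvd_of_dvd_mul_left m hsb ⟨x, he.symm⟩
      obtain ⟨c', rfl⟩ := hsc
      exact ⟨c', mul_left_cancel₀ (pow_ne_zero m hs0) (by rw [he]; ring)⟩
    refine ⟨fun h0 => hbprime.ne_zero (by rw [h0, map_zero]), fun hub => hbprime.not_unit (hub.map _), ?_⟩
    intro x y hxy
    rcases hbprime.dvd_or_dvd (b := algebraMap R _ y) (a := algebraMap R _ x) (by rw [← map_mul]; exact map_dvd _ hxy) with h1 | h1
    · exact Or.inl (hdvd x h1)
    · exact Or.inr (hdvd y h1)

/-- Unique factorization lifts from the homogeneous localization at a prime element of degree one, in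
the generality of the published argument: let K be a field, R = ⊕_{i ≥ 0} R_i a Noetherian ℕ-graded
commutative K-algebra which is an integral domain, and s ∈ R_1 a homogeneous element of degree one
which is a prime element of R. If the homogeneous localization R_(s) (degree-zero part of R[1/s])
has unique factorization, then R is a unique factorization domain. (The published statement is the
case where R is the homogeneous coordinate ring of a Schubert variety, s the Plücker coordinate of
the least index, which is a prime element there, and R_(s) the coordinate ring of the opposite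
cell.) -/
theorem result (K : Type u) [Field K] (R : Type v)
    [CommRing R] [IsDomain R] [IsNoetherianRing R] [Algebra K R] (𝒜 : ℕ → Submodule K R) [GradedAlgebra 𝒜]
    (s : R) (hs : s ∈ 𝒜 1) (hp : Prime s)
    (h : UniqueFactorizationMonoid (HomogeneousLocalization.Away 𝒜 s)) :
    UniqueFactorizationMonoid R := by
  classical
  apply ufd_of_ufd_away hp
  haveI := h
  have hs0 := hp.ne_zero
  haveI : IsDomain (Localization.Away s) :=
    IsLocalization.isDomain_localization (powers_le_nonZeroDivisors_of_noZeroDivisors hs0)
  haveI : IsDomain (HomogeneousLocalization.Away 𝒜 s) :=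
    Function.Injective.isDomain (algebraMap (HomogeneousLocalization.Away 𝒜 s) (Localization.Away s))
      (HomogeneousLocalization.val_injective _)
  set t := algebraMap R (Localization.Away s) s with ht
  set Φ : Polynomial (HomogeneousLocalization.Away 𝒜 s) →ₐ[HomogeneousLocalization.Away 𝒜 s] Localization.Away s :=
    Polynomial.aeval t
  letI : Algebra (Polynomial (HomogeneousLocalization.Away 𝒜 s)) (Localization.Away s) := Φ.toRingHom.toAlgebra
  have hinj : Function.Injective Φ := transcendental_iff_injective.1 (Groth.Agent.S11277.result K R 𝒜 1 one_pos s hs)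
  have htu : IsUnit t := IsLocalization.map_units _ (⟨s, 1, pow_one s⟩ : Submonoid.powers s)
  haveI : IsLocalization (Submonoid.powers (Polynomial.X : Polynomial (HomogeneousLocalization.Away 𝒜 s))) (Localization.Away s) := by
    rw [isLocalization_iff]
    refine ⟨?_, ?_, ?_⟩
    · rintro ⟨_, m, rfl⟩
      show IsUnit (Φ (Polynomial.X ^ m))
      rw [map_pow, Polynomial.aeval_X]
      exact htu.pow m
    · intro z
      obtain ⟨⟨a, ⟨_, k, rfl⟩⟩, hz⟩ := IsLocalization.surj (Submonoid.powers s) z
      refine ⟨⟨∑ i ∈ (DirectSum.decompose 𝒜 a).support,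
        Polynomial.C (HomogeneousLocalization.Away.mk 𝒜 hs i (DirectSum.decompose 𝒜 a i : R)
          (by rw [smul_eq_mul, mul_one]; exact Subtype.prop _)) * Polynomial.X ^ i, ⟨Polynomial.X ^ k, k, rfl⟩⟩, ?_⟩
      show z * Φ (Polynomial.X ^ k) = Φ _
      rw [map_pow, Polynomial.aeval_X, ht, ← map_pow, hz, map_sum]
      conv_lhs => rw [← DirectSum.sum_support_decompose 𝒜 a, map_sum]
      refine Finset.sum_congr rfl fun i _ => ?_
      rw [map_mul, map_pow, Polynomial.aeval_X, Polynomial.aeval_C, HomogeneousLocalization.algebraMap_apply,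
        HomogeneousLocalization.Away.val_mk, ← map_pow, Localization.mk_eq_mk']
      exact (IsLocalization.mk'_spec _ _ _).symm
    · intro x y hxy
      exact ⟨1, by rw [hinj (hxy : Φ x = Φ y)]⟩
  exact UniqueFactorizationMonoid.of_isLocalization
    (Submonoid.powers (Polynomial.X : Polynomial (HomogeneousLocalization.Away 𝒜 s))) (Localization.Away s)

end Groth.Agent.S11278
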