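import Groth.Statements.S11260
import Groth.Agent.H26Grass.SchubertRing
import Groth.Agent.S11278
import Groth.Agent.S11268
import Mathlib.Algebra.MvPolynomial.Division
import Mathlib.Algebra.MvPolynomial.Nilpotent

set_option autoImplicit false
universe u
open W4bk4grassmannian

namespace Groth.Agent.S11260

section
variable {d n : ℕ}

theorem codeg_add (θ : W4bk4grassmannian.Idx d n) : codeg θ + ∑ t : Fin d, t.val = H26Grass.wt θ := by
  rw [codeg, ← Finset.sum_add_distrib]
  exact Finset.sum_congr rfl fun t _ => Nat.sub_add_cancel (H26Grass.idx_val_ge θ t)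

/-- `t` can be lowered by one -/
def Dec (τ : W4bk4grassmannian.Idx d n) (t : Fin d) : Prop :=
  0 < (τ.1 t).val ∧ ∀ u : Fin d, u < t → (τ.1 u).val + 1 < (τ.1 t).val

theorem exists_divisor_of_dec {τ : W4bk4grassmannian.Idx d n} {t : Fin d} (h : Dec τ t) :
    ∃ φ ∈ divisors τ, (φ.1 t).val + 1 = (τ.1 t).val := by
  classical
  obtain ⟨x, hx⟩ : ∃ x : Fin n, x.val + 1 = (τ.1 t).val :=
    ⟨⟨(τ.1 t).val - 1, by have := (τ.1 t).isLt; omega⟩, by have := h.1; simp; omega⟩
  have hmono : StrictMono (Function.update τ.1 t x) := by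
    intro a b hab
    rw [Fin.lt_def]
    rcases eq_or_ne a t with rfl | ha
    · rw [Function.update_self, Function.update_of_ne hab.ne']
      have := Fin.lt_def.1 (τ.2 hab); omega
    rcases eq_or_ne b t with rfl | hb
    · rw [Function.update_self, Function.update_of_ne ha]
      have := h.2 a hab; omega
    · rw [Function.update_of_ne ha, Function.update_of_ne hb]
      exact Fin.lt_def.1 (τ.2 hab)
  refine ⟨⟨_, hmono⟩, ⟨lt_of_le_not_ge ?_ ?_, ?_⟩, by simp only [Function.update_self]; omega⟩
  · intro u
    rcases eq_or_ne u t with rfl | hu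
    · simp only [Function.update_self, Fin.le_def]; omega
    · simp [Function.update_of_ne hu]
  · intro hle
    have := Fin.le_def.1 (hle t)
    simp only [Function.update_self] at this
    omega
  · have h1 := codeg_add (⟨_, hmono⟩ : W4bk4grassmannian.Idx d n)
    have h2 := codeg_add τ
    have h3 : H26Grass.wt (⟨_, hmono⟩ : W4bk4grassmannian.Idx d n) + 1 = H26Grass.wt τ := by
      unfold H26Grass.wt
      simp only
      rw [← Finset.add_sum_erase _ _ (Finset.mem_univ t),
        ← Finset.add_sum_erase Finset.univ (fun u => (τ.1 u).val) (Finset.mem_univ t),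
        Finset.sum_congr rfl fun u hu => by rw [Function.update_of_ne (Finset.ne_of_mem_erase hu)]]
      rw [Function.update_self]; omega
    omega

theorem dec_of_divisor {τ φ : W4bk4grassmannian.Idx d n} (hφ : φ ∈ divisors τ) :
    ∃ t, Dec τ t ∧ (φ.1 t).val + 1 = (τ.1 t).val ∧ ∀ u, u ≠ t → φ.1 u = τ.1 u := by
  classical
  obtain ⟨hlt, hc⟩ := hφ
  have h1 := codeg_add φ
  have h2 := codeg_add τ
  have hle : ∀ u, (φ.1 u).val ≤ (τ.1 u).val := fun u => Fin.le_def.1 (hlt.le u)
  obtain ⟨t, ht⟩ : ∃ t, (φ.1 t).val < (τ.1 t).val := by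
    by_contra hno; push Not at hno
    exact hlt.not_ge fun u => Fin.le_def.2 (hno u)
  have hs : H26Grass.wt φ + 1 = H26Grass.wt τ := by omega
  unfold H26Grass.wt at hs
  rw [← Finset.add_sum_erase Finset.univ (fun u => (φ.1 u).val) (Finset.mem_univ t),
    ← Finset.add_sum_erase Finset.univ (fun u => (τ.1 u).val) (Finset.mem_univ t)] at hs
  have hrest : ∑ u ∈ Finset.univ.erase t, (φ.1 u).val ≤ ∑ u ∈ Finset.univ.erase t, (τ.1 u).val :=
    Finset.sum_le_sum fun u _ => hle u
  have heq : ∑ u ∈ Finset.univ.erase t, (φ.1 u).val = ∑ u ∈ Finset.univ.erase t, (τ.1 u).val := by omega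
  have hsame := (Finset.sum_eq_sum_iff_of_le fun u _ => hle u).1 heq
  have hval : (φ.1 t).val + 1 = (τ.1 t).val := by omega
  refine ⟨t, ⟨by omega, fun u hu => ?_⟩, hval, fun u hu => Fin.ext (hsame u (Finset.mem_erase.2 ⟨hu, Finset.mem_univ u⟩))⟩
  have := Fin.lt_def.1 (φ.2 hu)
  rw [hsame u (Finset.mem_erase.2 ⟨hu.ne, Finset.mem_univ u⟩)] at this
  omega

theorem subsingleton_iff_dec (τ : W4bk4grassmannian.Idx d n) :
    (divisors τ).Subsingleton ↔ ∀ t t', Dec τ t → Dec τ t' → t = t' := by
  constructor
  · intro h t t' ht ht'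
    obtain ⟨φ, hφ, he⟩ := exists_divisor_of_dec ht
    obtain ⟨ψ, hψ, he'⟩ := exists_divisor_of_dec ht'
    obtain rfl := h hφ hψ
    by_contra hne
    obtain ⟨s, -, hs, hother⟩ := dec_of_divisor hφ
    rcases eq_or_ne s t with rfl | hst
    · rw [hother t' (Ne.symm hne)] at he'; omega
    · rw [hother t hst.symm] at he; omega
  · intro h φ hφ ψ hψ
    obtain ⟨t, ht, h1, h2⟩ := dec_of_divisor hφ
    obtain ⟨t', ht', h1', h2'⟩ := dec_of_divisor hψ
    obtain rfl := h t t' ht ht'
    apply Subtype.ext
    funext u
    rcases eq_or_ne u t with rfl | hu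
    · exact Fin.ext (by omega)
    · rw [h2 u hu, h2' u hu]

theorem dec_iff_shape (τ : W4bk4grassmannian.Idx d n) :
    (∀ t t', Dec τ t → Dec τ t' → t = t') ↔
      ∃ s : ℕ, (∀ t : Fin d, t.val < s → (τ.1 t).val = t.val) ∧
        ∀ t t' : Fin d, s ≤ t.val → t.val + 1 = t'.val → (τ.1 t).val + 1 = (τ.1 t').val := by
  classical
  have hstep : ∀ t t' : Fin d, t.val + 1 = t'.val → ¬ Dec τ t' → (τ.1 t).val + 1 = (τ.1 t').val := by
    intro t t' htt hnd
    have hlt := Fin.lt_def.1 (τ.2 (show t < t' from Fin.lt_def.2 (by omega)))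
    by_contra hne
    refine hnd ⟨by omega, fun u hu => ?_⟩
    have := Fin.le_def.1 (τ.2.monotone (show u ≤ t from Fin.le_def.2 (by rw [Fin.lt_def] at hu; omega)))
    omega
  constructor
  · intro h
    have hinit : ∀ s : ℕ, (∀ t : Fin d, Dec τ t → s ≤ t.val) → ∀ k, ∀ t : Fin d, t.val = k → k < s → (τ.1 t).val = k := by
      intro s hs k
      induction k with
      | zero =>
        intro t ht hk
        by_contra hne
        have := hs t ⟨by omega, fun u hu => by rw [Fin.lt_def] at hu; omega⟩
        omega
      | succ k ih =>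
        intro t ht hk
        have h0 := ih ⟨k, by omega⟩ rfl (by omega)
        have := hstep ⟨k, by omega⟩ t (by simp; omega) fun hd => by have := hs t hd; omega
        omega
    by_cases hex : ∃ t, Dec τ t
    · obtain ⟨t₀, ht₀⟩ := hex
      refine ⟨t₀.val, fun t ht => hinit t₀.val (fun u hu => (h u t₀ hu ht₀).symm ▸ le_rfl) _ t rfl ht, fun t t' hst htt => ?_⟩
      exact hstep t t' htt fun hd => by have := h t' t₀ hd ht₀; subst this; omega
    · push Not at hex
      exact ⟨d, fun t ht => hinit d (fun u hu => absurd hu (hex u)) _ t rfl ht, fun t t' hst _ => by have := t.isLt; omega⟩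
  · rintro ⟨s, h1, h2⟩
    have key : ∀ t, Dec τ t → t.val = s := by
      intro t ⟨hpos, hdec⟩
      by_contra hne
      rcases Nat.lt_or_ge t.val s with hlt | hge
      · rcases Nat.eq_zero_or_pos t.val with h0 | h0
        · have := h1 t hlt; omega
        · have := hdec ⟨t.val - 1, by omega⟩ (Fin.lt_def.2 (by simp; omega))
          rw [h1 t hlt, h1 ⟨t.val - 1, by omega⟩ (by simp; omega)] at this
          simp at this; omega
      · have := hdec ⟨t.val - 1, by omega⟩ (Fin.lt_def.2 (by simp; omega))
        have := h2 ⟨t.val - 1, by omega⟩ t (by simp; omega) (by simp; omega)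
        omega
    intro t t' ht ht'
    exact Fin.ext ((key t ht).trans (key t' ht').symm)

end

open W4bk4grassmannian in
/-- (2) ⇔ (3) ⇔ (4): let K be an algebraically closed field, 0 < d < n, and I(d,n) the strictly
increasing maps Fin d → Fin n ordered entrywise; S = K[X_θ : θ ∈ I(d,n)] is the Plücker polynomial
ring and, for τ ∈ I(d,n), J(τ) ⊆ S is the ideal of polynomials vanishing at the d × d row-minors of
every n × d matrix over K whose minors on rows φ ≰ τ are zero (the homogeneous ideal of the Schubert
variety X(τ) ⊆ G(d,n)). Let R = S/J(τ). The following are equivalent: (1) R is a unique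
factorization domain; (2) the class of X_τ is a prime element of R; (3) τ has at most one Schubert
divisor (φ < τ with Σ_t (φ_t - t) + 1 = Σ_t (τ_t - t)); (4) for some s, τ_t = t for all t < s and
the entries τ_t with t ≥ s are consecutive (0-indexed; τ is a single run of consecutive values, or
begins with 0, 1, …, s - 1 followed by a single run). (The published (3) reads: exactly one Schubert
divisor; for the zero-dimensional Schubert variety there is none while (1), (2), (4) hold, so (3) is
stated as: at most one.) -/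
theorem result (K : Type u) [Field K] [IsAlgClosed K] (d n : ℕ)
    (hd : 0 < d) (hdn : d < n) (τ : Idx d n) :
    (UniqueFactorizationMonoid (PlRing K d n ⧸ schubertVanishing K d n τ) ↔
        Prime (Ideal.Quotient.mk (schubertVanishing K d n τ) (MvPolynomial.X τ))) ∧
      (Prime (Ideal.Quotient.mk (schubertVanishing K d n τ) (MvPolynomial.X τ)) ↔
        (divisors τ).Subsingleton) ∧
      ((divisors τ).Subsingleton ↔
        ∃ s : ℕ, (∀ t : Fin d, t.val < s → (τ.1 t).val = t.val) ∧
          ∀ t t' : Fin d, s ≤ t.val → t.val + 1 = t'.val → (τ.1 t).val + 1 = (τ.1 t').val) := by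
  classical
  haveI : Infinite K := IsAlgClosed.instInfinite
  set J := schubertVanishing K d n τ with hJ
  haveI hJp : J.IsPrime := H26Grass.schubertVanishing_isPrime K hd τ
  set R := PlRing K d n ⧸ J
  set φ := H26Grass.paramQ K hd τ with hφdef
  have hφ : Function.Injective φ := H26Grass.paramQ_injective K hd τ
  set p : R := Ideal.Quotient.mk J (MvPolynomial.X τ) with hp
  have hpφ : φ p = MvPolynomial.X none := by
    rw [hφdef, hp, H26Grass.paramQ_mk, H26Grass.param_X_self]
  have hp0 : p ≠ 0 := fun h => by rw [h, map_zero] at hpφ; exact MvPolynomial.X_ne_zero none hpφ.symm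
  have hpunit : ¬ IsUnit p := fun hu => by
    have h := hu.map φ
    rw [hpφ] at h
    exact (MvPolynomial.X_prime (R := K) (σ := Option (H26Grass.FreeVar τ)) (i := none)).not_unit h
  -- (2) ↔ (3)
  have h23 : Prime p ↔ (divisors τ).Subsingleton := by
    have hspan : Ideal.span {p} = (J ⊔ Ideal.span {MvPolynomial.X τ}).map (Ideal.Quotient.mk J) := by
      rw [Ideal.map_sup, Ideal.map_quotient_self, bot_sup_eq, Ideal.map_span, Set.image_singleton]
    have hiff : Prime p ↔ (J ⊔ Ideal.span {MvPolynomial.X τ}).IsPrime := by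
      rw [← Ideal.span_singleton_prime hp0, hspan]
      constructor
      · intro h
        have h' := Ideal.IsPrime.comap (Ideal.Quotient.mk J) (K := Ideal.map (Ideal.Quotient.mk J) (J ⊔ Ideal.span {MvPolynomial.X τ}))
        rwa [Ideal.comap_map_of_surjective _ Ideal.Quotient.mk_surjective, ← RingHom.ker_eq_comap_bot, Ideal.mk_ker,
          sup_eq_left.2 (show J ≤ J ⊔ Ideal.span {MvPolynomial.X τ} from le_sup_left)] at h'
      · intro h
        exact Ideal.map_isPrime_of_surjective Ideal.Quotient.mk_surjective (by rw [Ideal.mk_ker]; exact le_sup_left)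
    rw [hiff]
    constructor
    · intro hprime χ hχ ψ hψ
      by_contra hne
      have hτ : ∃ θ, θ < τ := ⟨χ, hχ.1⟩
      rw [hJ, Groth.Agent.S11254.result K d n hd hdn τ hτ] at hprime
      have hmemχ : ∀ θ ∈ divisors τ, θ ≠ χ → ¬ χ ≤ θ := fun θ hθ hθχ hle => by
        have := H26Grass.wt_lt_of_lt (lt_of_le_of_ne hle (Ne.symm hθχ))
        have := codeg_add χ; have := codeg_add θ; have := hθ.2; have := hχ.2
        omega
      have hmemψ : ∀ θ ∈ divisors τ, θ ≠ ψ → ¬ ψ ≤ θ := fun θ hθ hθψ hle => by
        have := H26Grass.wt_lt_of_lt (lt_of_le_of_ne hle (Ne.symm hθψ))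
        have := codeg_add ψ; have := codeg_add θ; have := hθ.2; have := hψ.2
        omega
      have hmem : (MvPolynomial.X χ * MvPolynomial.X ψ : PlRing K d n) ∈ ⨅ θ ∈ divisors τ, schubertVanishing K d n θ := by
        simp only [Ideal.mem_iInf]
        intro θ hθ
        rcases eq_or_ne θ χ with rfl | h
        · exact Ideal.mul_mem_left _ _ (H26Grass.X_mem_schubertVanishing K (hmemψ _ hθ hne))
        · exact Ideal.mul_mem_right _ _ (H26Grass.X_mem_schubertVanishing K (hmemχ θ hθ h))
      rcases hprime.mem_or_mem hmem with h | h <;> simp only [Ideal.mem_iInf] at h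
      · exact H26Grass.X_self_notMem K hd χ (h χ hχ)
      · exact H26Grass.X_self_notMem K hd ψ (h ψ hψ)
    · intro hsub
      by_cases hτ : ∃ θ, θ < τ
      · rw [hJ, Groth.Agent.S11254.result K d n hd hdn τ hτ]
        obtain ⟨θ, hθ⟩ := hτ
        obtain ⟨χ, hχ, -⟩ := Groth.Agent.S11268.result d n θ τ hθ
        have : (⨅ θ ∈ divisors τ, schubertVanishing K d n θ) = schubertVanishing K d n χ :=
          le_antisymm (iInf₂_le χ hχ) (le_iInf₂ fun θ hθ => by rw [hsub hθ hχ])
        rw [this]
        exact H26Grass.schubertVanishing_isPrime K hd χ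
      · have hrad := H26Grass.isRadical_sup_X_top K hd hdn τ
        -- the top coordinate alone: the irrelevant ideal
        push Not at hτ
        have hle : RingHom.ker (MvPolynomial.constantCoeff : PlRing K d n →+* K) ≤ J ⊔ Ideal.span {MvPolynomial.X τ} := by
          intro q hq
          have h : q ∈ Ideal.span ((fun θ : Idx d n => (MvPolynomial.X θ : PlRing K d n)) '' Set.univ) := by
            rw [MvPolynomial.mem_ideal_span_X_image]
            intro m hm
            by_contra hcon
            push Not at hcon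
            have : m = 0 := Finsupp.ext fun θ => hcon θ (Set.mem_univ θ)
            subst this
            exact (MvPolynomial.mem_support_iff.1 hm) hq
          refine Ideal.span_le.2 ?_ h
          rintro _ ⟨θ, -, rfl⟩
          by_cases h' : θ = τ
          · exact h' ▸ Ideal.mem_sup_right (Ideal.mem_span_singleton_self _)
          · exact Ideal.mem_sup_left (H26Grass.X_mem_schubertVanishing K fun hle => hτ θ (lt_of_le_of_ne hle h'))
        haveI hmax : (RingHom.ker (MvPolynomial.constantCoeff : PlRing K d n →+* K)).IsMaximal :=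
          RingHom.ker_isMaximal_of_surjective _ fun c => ⟨MvPolynomial.C c, MvPolynomial.constantCoeff_C _ c⟩
        have hne : J ⊔ Ideal.span {MvPolynomial.X τ} ≠ ⊤ := fun htop => hpunit <| by
          rw [← Ideal.span_singleton_eq_top, hspan, htop, Ideal.map_top]
        rw [← hmax.eq_of_le hne hle]
        exact hmax.isPrime
  refine ⟨⟨fun hufd => ?_, fun hprime => ?_⟩, h23, (subsingleton_iff_dec τ).trans (dec_iff_shape τ)⟩
  · haveI := hufd
    refine UniqueFactorizationMonoid.irreducible_iff_prime.1 ⟨hpunit, fun a b hab => ?_⟩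
    have h := congrArg φ hab
    rw [hpφ, map_mul] at h
    have hirr := (MvPolynomial.X_prime (R := K) (σ := Option (H26Grass.FreeVar τ)) (i := none)).irreducible
    have lift : ∀ a : R, IsUnit (φ a) → IsUnit a := by
      intro a ha
      obtain ⟨r, hr, hra⟩ := MvPolynomial.isUnit_iff_eq_C_of_isReduced.1 ha
      have : a = algebraMap K R r := hφ (by rw [φ.commutes, hra]; rfl)
      rw [this]; exact hr.map _
    exact (hirr.isUnit_or_isUnit h).imp (lift a) (lift b)
  · -- Nagata
    apply Groth.Agent.S11278.ufd_of_ufd_away (R := R) hprime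
    set P := H26Grass.ParamRing K τ
    set T : P := MvPolynomial.X none
    have hT0 : T ≠ 0 := MvPolynomial.X_ne_zero none
    haveI : IsDomain (Localization.Away T) := IsLocalization.isDomain_localization (powers_le_nonZeroDivisors_of_noZeroDivisors hT0)
    haveI : UniqueFactorizationMonoid (Localization.Away T) :=
      UniqueFactorizationMonoid.of_isLocalization (Submonoid.powers T) (Localization.Away T)
    letI : Algebra R (Localization.Away T) := ((algebraMap P (Localization.Away T)).comp φ.toRingHom).toAlgebra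
    haveI : IsLocalization (Submonoid.powers p) (Localization.Away T) := by
      rw [isLocalization_iff]
      have hinjT : Function.Injective (algebraMap P (Localization.Away T)) :=
        IsLocalization.injective _ (powers_le_nonZeroDivisors_of_noZeroDivisors hT0)
      refine ⟨?_, ?_, ?_⟩
      · rintro ⟨_, k, rfl⟩
        show IsUnit (algebraMap P (Localization.Away T) (φ (p ^ k)))
        rw [map_pow φ, hpφ]
        exact IsLocalization.map_units _ (⟨T ^ k, k, rfl⟩ : Submonoid.powers T)
      · intro z
        obtain ⟨⟨q, ⟨_, k, rfl⟩⟩, hz⟩ := IsLocalization.surj (Submonoid.powers T) z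
        obtain ⟨j, a, ha⟩ := H26Grass.exists_param_pow_mul K τ q
        refine ⟨⟨Ideal.Quotient.mk J a, ⟨p ^ (k + j), k + j, rfl⟩⟩, ?_⟩
        show z * algebraMap P (Localization.Away T) (φ (p ^ (k + j))) = algebraMap P (Localization.Away T) (φ _)
        rw [map_pow φ, hpφ, hφdef, H26Grass.paramQ_mk, ha, pow_add, map_mul, map_mul, ← hz]
        ring
      · intro x y hxy
        exact ⟨1, by rw [hφ (hinjT hxy)]⟩
    exact MulEquiv.uniqueFactorizationMonoid
      (IsLocalization.algEquiv (Submonoid.powers p) (Localization.Away T) (Localization.Away p)).toMulEquiv inferInstance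

end Groth.Agent.S11260
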