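import Groth.Statements.S11261
import Groth.Agent.H26Grass.Basis

set_option autoImplicit false
universe u
open W4bk4grassmannian

namespace Groth.Agent.S11261

open W4bk4grassmannian in
/-- Shape of the straightening relations of a skew pair: let K be an algebraically closed field, 0 < d <
n, S = K[X_θ : θ ∈ I(d,n)] the Plücker polynomial ring on the strictly increasing maps Fin d → Fin n
ordered entrywise, and J ⊆ S the ideal of polynomials vanishing at the row-minors of every n × d
matrix over K (the homogeneous ideal of G(d,n)). Let τ, φ ∈ I(d,n) be incomparable, with entrywise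
maximum τ ∨ φ and minimum τ ∧ φ. Then there is a K-linear combination g of monomials X_α X_β with β
≤ α, τ ∨ φ < α and β < τ ∧ φ such that X_τ X_φ - X_{τ∨φ} X_{τ∧φ} - g lies in J. -/
theorem result (K : Type u) [Field K] [IsAlgClosed K] (d n : ℕ)
    (hd : 0 < d) (hdn : d < n) (τ φ : Idx d n) (h₁ : ¬ τ ≤ φ) (h₂ : ¬ φ ≤ τ) :
    ∃ g ∈ Submodule.span K {f : PlRing K d n | ∃ α β : Idx d n,
        β ≤ α ∧ W4bk4grassmannian.sup τ φ < α ∧ β < W4bk4grassmannian.inf τ φ ∧
          f = MvPolynomial.X α * MvPolynomial.X β},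
      MvPolynomial.X τ * MvPolynomial.X φ -
          MvPolynomial.X (W4bk4grassmannian.sup τ φ) * MvPolynomial.X (W4bk4grassmannian.inf τ φ) - g ∈
        vanishing K d n := by
  classical
  haveI : Infinite K := IsAlgClosed.instInfinite
  obtain ⟨a, ha, b, hb, hab⟩ := Submodule.mem_sup.1 (H26Grass.straighten (K := K) ({τ, φ} : Multiset (Idx d n)))
  have hmon : H26Grass.mon K ({τ, φ} : Multiset (Idx d n)) = MvPolynomial.X τ * MvPolynomial.X φ := by
    simp [H26Grass.mon]
  rw [hmon] at hab
  simp only [Multiset.insert_eq_cons, Multiset.card_cons, Multiset.card_singleton, Multiset.map_cons,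
    Multiset.map_singleton, Multiset.sum_cons, Multiset.sum_singleton] at ha
  set W := H26Grass.wt τ + H26Grass.wt φ with hW
  have hrange : H26Grass.stdSet K d n (1 + 1) W =
      Set.range fun c : {c : Fin 2 → Idx d n // Antitone c ∧ ∑ k, H26Grass.wt (c k) = W} => chainMon K c.1 := by
    ext f; constructor
    · rintro ⟨c, hc, hw, rfl⟩; exact ⟨⟨c, hc, hw⟩, rfl⟩
    · rintro ⟨⟨c, hc, hw⟩, rfl⟩; exact ⟨c, hc, hw, rfl⟩
  rw [hrange] at ha
  obtain ⟨g, rfl⟩ := Finsupp.mem_span_range_iff_exists_finsupp.1 ha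
  have hbvan : b ∈ vanishing K d n := H26Grass.plIdealTop_le_vanishing K hb
  have hinj : Function.Injective fun c : {c : Fin 2 → Idx d n // Antitone c ∧ ∑ k, H26Grass.wt (c k) = W} =>
      (⟨2, c.1⟩ : Σ m, Fin m → Idx d n) := fun x y h => by
    simp only [Sigma.mk.inj_iff, heq_eq_eq, true_and] at h; exact Subtype.ext h
  -- terms whose top is not above `τ` or `φ`, or bottom not below, die
  have key : ∀ (v : Option (Idx d n)) (σ : Idx d n),
      H26Grass.ev K (H26Grass.suppMat K (H26Grass.rangeP v σ)) (MvPolynomial.X τ * MvPolynomial.X φ) = 0 →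
      ∀ c ∈ g.support, (∀ k, c.1 k ≤ σ) → ¬ ∀ w ∈ v, ∀ k, w ≤ c.1 k := by
    intro v σ hz c hc hσ hv
    rw [← hab, map_add, H26Grass.ev_suppMat_eq_zero K (H26Grass.vanishing_le_schubertVanishing K σ hbvan) _
      (fun i t h => by simp [H26Grass.rangeP] at h; exact h.1), add_zero] at hz
    exact Finsupp.mem_support_iff.1 hc (H26Grass.coeff_eq_zero_of_ev K hd g.support (fun _ => 2)
      (fun c => c.1) (fun c => c.2.1) hinj g v hz c hc hσ hv)
  set S := W4bk4grassmannian.sup τ φ with hS
  set I := W4bk4grassmannian.inf τ φ with hI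
  have htop : ∀ c ∈ g.support, S ≤ c.1 0 := by
    intro c hc
    by_contra hcon
    have h' : ¬ τ ≤ c.1 0 ∨ ¬ φ ≤ c.1 0 := by
      by_contra h; push Not at h; exact hcon fun t => max_le (h.1 t) (h.2 t)
    refine key none (c.1 0) ?_ c hc (fun k => c.2.1 (Fin.zero_le k)) (by simp)
    rw [map_mul]
    rcases h' with h | h
    · rw [H26Grass.ev_rangeP_eq_zero K (fun h' => h h'.1), zero_mul]
    · rw [H26Grass.ev_rangeP_eq_zero K (fun h' => h h'.1), mul_zero]
  have hbot : ∀ c ∈ g.support, c.1 1 ≤ I := by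
    intro c hc
    by_contra hcon
    have h' : ¬ c.1 1 ≤ τ ∨ ¬ c.1 1 ≤ φ := by
      by_contra h; push Not at h; exact hcon fun t => le_min (h.1 t) (h.2 t)
    refine key (some (c.1 1)) (H26Grass.topIdx hdn.le) ?_ c hc (fun k => H26Grass.le_topIdx _ _)
      (by rintro w ⟨⟩ k; exact c.2.1 (Fin.le_last k))
    rw [map_mul]
    rcases h' with h | h
    · rw [H26Grass.ev_rangeP_eq_zero K (fun h' => h (h'.2 _ rfl)), zero_mul]
    · rw [H26Grass.ev_rangeP_eq_zero K (fun h' => h (h'.2 _ rfl)), mul_zero]
  have hWS : H26Grass.wt S + H26Grass.wt I = W := by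
    simp only [hW, H26Grass.wt, ← Finset.sum_add_distrib]
    refine Finset.sum_congr rfl fun t _ => ?_
    show (max (τ.1 t) (φ.1 t)).val + (min (τ.1 t) (φ.1 t)).val = _
    rcases le_total (τ.1 t) (φ.1 t) with h | h
    · rw [max_eq_right h, min_eq_left h, add_comm]
    · rw [max_eq_left h, min_eq_right h]
  have hIS : I ≤ S := fun t => min_le_max
  obtain ⟨cs, hcs⟩ : ∃ cs : {c : Fin 2 → Idx d n // Antitone c ∧ ∑ k, H26Grass.wt (c k) = W},
      cs.1 = ![S, I] := ⟨⟨![S, I], fun x y h => by fin_cases x <;> fin_cases y <;> simp_all,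
        by simp [Fin.sum_univ_two, hWS]⟩, rfl⟩
  have hstrict : ∀ c ∈ g.support, c ≠ cs → S < c.1 0 ∧ c.1 1 < I := by
    intro c hc hne
    have hw : H26Grass.wt (c.1 0) + H26Grass.wt (c.1 1) = W := by simpa [Fin.sum_univ_two] using c.2.2
    have h1 := H26Grass.wt_mono (htop c hc)
    have h2 := H26Grass.wt_mono (hbot c hc)
    refine ⟨(htop c hc).lt_of_ne fun he => hne (Subtype.ext ?_), (hbot c hc).lt_of_ne fun he => hne (Subtype.ext ?_)⟩
    · rw [hcs]; funext k; fin_cases k
      · exact he.symm
      · rcases (hbot c hc).lt_or_eq with h | h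
        · have := H26Grass.wt_lt_of_lt h; rw [← he] at hw; omega
        · exact h
    · rw [hcs]; funext k; fin_cases k
      · rcases (htop c hc).lt_or_eq with h | h
        · have := H26Grass.wt_lt_of_lt h; rw [he] at hw; omega
        · exact h.symm
      · exact he
  -- the coefficient of `X_S X_I` is one
  have hone : g cs = 1 := by
    set Y := H26Grass.suppMat K (H26Grass.rangeP (some I) S)
    have hev : H26Grass.ev K Y (MvPolynomial.X τ * MvPolynomial.X φ) = g cs • H26Grass.ev K Y (chainMon K cs.1) := by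
      rw [← hab, map_add, H26Grass.ev_suppMat_eq_zero K (H26Grass.vanishing_le_schubertVanishing K S hbvan) _
        (fun i t h => by simp [H26Grass.rangeP] at h; exact h.1), add_zero, Finsupp.sum, map_sum,
        Finset.sum_eq_single cs]
      · rw [map_smul]
      · intro c hc hne
        rw [map_smul, chainMon, map_prod, Finset.prod_eq_zero (Finset.mem_univ (0 : Fin 2)), smul_zero]
        exact H26Grass.ev_rangeP_eq_zero K fun h => (hstrict c hc hne).1.not_ge h.1
      · intro h; rw [Finsupp.notMem_support_iff.1 h, zero_smul, map_zero]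
    have hmem : ∀ θ : Idx d n, I ≤ θ → θ ≤ S → ∀ t, H26Grass.rangeP (some I) S (θ.1 t) t := fun θ h1 h2 t => by
      simp only [H26Grass.rangeP, decide_eq_true_eq]
      exact ⟨h2 t, by rintro w ⟨⟩; exact h1 t⟩
    have hL := (H26Grass.hasLead_minor (K := K) _ τ (hmem τ (fun t => min_le_left _ _) (fun t => le_max_left _ _))).mul
      (H26Grass.hasLead_minor (K := K) _ φ (hmem φ (fun t => min_le_right _ _) (fun t => le_max_right _ _)))
    have hR := (H26Grass.hasLead_minor (K := K) _ S (hmem S hIS le_rfl)).mul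
      (H26Grass.hasLead_minor (K := K) _ I (hmem I le_rfl hIS))
    have hexp : H26Grass.diagExp τ + H26Grass.diagExp φ = H26Grass.diagExp S + H26Grass.diagExp I := by
      simp only [H26Grass.diagExp, ← Finset.sum_add_distrib]
      refine Finset.sum_congr rfl fun t _ => ?_
      rcases le_total (τ.1 t) (φ.1 t) with h | h
      · rw [show S.1 t = φ.1 t from max_eq_right h, show I.1 t = τ.1 t from min_eq_left h, add_comm]
      · rw [show S.1 t = τ.1 t from max_eq_left h, show I.1 t = φ.1 t from min_eq_right h]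
    have h := congrArg (MvPolynomial.coeff (H26Grass.diagExp τ + H26Grass.diagExp φ)) hev
    rw [map_mul, H26Grass.ev_X, H26Grass.ev_X, hL.coeff_eq, MvPolynomial.coeff_smul, chainMon, map_prod,
      Fin.prod_univ_two, H26Grass.ev_X, H26Grass.ev_X, hcs, Matrix.cons_val_zero, Matrix.cons_val_one, Matrix.cons_val_zero,
      hexp, hR.coeff_eq, smul_eq_mul, mul_one] at h
    exact h.symm
  refine ⟨∑ c ∈ g.support.erase cs, g c • chainMon K c.1, ?_, ?_⟩
  · refine Submodule.sum_mem _ fun c hc => Submodule.smul_mem _ _ (Submodule.subset_span ?_)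
    obtain ⟨hne, hc⟩ := Finset.mem_erase.1 hc
    refine ⟨c.1 0, c.1 1, c.2.1 (Fin.zero_le 1), (hstrict c hc hne).1, (hstrict c hc hne).2, ?_⟩
    rw [chainMon, Fin.prod_univ_two]
  · have hsum : (g.sum fun c r => r • chainMon K c.1) =
        MvPolynomial.X S * MvPolynomial.X I + ∑ c ∈ g.support.erase cs, g c • chainMon K c.1 := by
      have hcsmem : cs ∈ g.support := Finsupp.mem_support_iff.2 (by rw [hone]; exact one_ne_zero)
      rw [Finsupp.sum, ← Finset.add_sum_erase _ _ hcsmem, hone, one_smul, chainMon, Fin.prod_univ_two, hcs]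
      rfl
    rw [← hab, hsum]
    convert hbvan using 1
    ring

end Groth.Agent.S11261
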