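import Groth.Statements.S11262
import Mathlib.RingTheory.MvPolynomial.Ideal
import Mathlib.RingTheory.MvPolynomial.Homogeneous
import Mathlib.Algebra.Order.Antidiag.FinsuppEquiv
import Mathlib.Order.Preorder.Chain
import Mathlib.LinearAlgebra.Dimension.Constructions

set_option autoImplicit false
universe u v
open W4bk4grassmannian

namespace Groth.Agent.S11262

theorem card_supp_eq {L : Type*} [DecidableEq L] [Fintype L] (C : Finset L) (hC : C.Nonempty) (m : ℕ) (hm : 1 ≤ m) :
    ((Finset.univ : Finset L).finsuppAntidiag m |>.filter fun s => s.support = C).card = (m - 1).choose (C.card - 1) := by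
  classical
  have hc : 0 < C.card := hC.card_pos
  rcases Nat.lt_or_ge m C.card with hlt | hge
  · rw [Nat.choose_eq_zero_of_lt (by omega), Finset.card_eq_zero, Finset.filter_eq_empty_iff]
    intro s hs he
    rw [Finset.mem_finsuppAntidiag] at hs
    have h1 : ∑ x ∈ C, 1 ≤ ∑ x ∈ C, s x := Finset.sum_le_sum fun x hx =>
      Nat.one_le_iff_ne_zero.2 (Finsupp.mem_support_iff.1 (he ▸ hx))
    have h2 : ∑ x ∈ C, s x ≤ ∑ x ∈ (Finset.univ : Finset L), s x :=
      Finset.sum_le_sum_of_subset (Finset.subset_univ C)
    rw [hs.1] at h2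
    simp at h1
    omega
  have hchoose : (m - 1).choose (C.card - 1) = (C.finsuppAntidiag (m - C.card)).card := by
    rw [Finset.card_finsuppAntidiag_nat_eq_choose, show C.card + (m - C.card) - 1 = m - 1 by omega]
    exact Nat.choose_symm_of_eq_add (by omega)
  rw [hchoose]
  set one : L →₀ ℕ := Finsupp.indicator C fun _ _ => 1
  have hone : ∀ x, one x = if x ∈ C then 1 else 0 := fun x => by
    simp [one, Finsupp.indicator_apply]
  have hsumone : ∑ x ∈ (Finset.univ : Finset L), one x = C.card := by
    simp [hone]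
  refine Finset.card_bij' (fun s _ => s - one) (fun s _ => s + one) ?_ ?_ ?_ ?_
  · intro s hs
    obtain ⟨hs, he⟩ := Finset.mem_filter.1 hs
    rw [Finset.mem_finsuppAntidiag] at hs ⊢
    refine ⟨?_, fun x hx => ?_⟩
    · have h1 : ∑ x ∈ C, ((s - one) x + 1) = ∑ x ∈ C, s x := Finset.sum_congr rfl fun x hx => by
        have := Finsupp.mem_support_iff.1 (he ▸ hx)
        simp [hone, hx]; omega
      have h2 : ∑ x ∈ C, s x = ∑ x ∈ (Finset.univ : Finset L), s x := Finset.sum_subset (Finset.subset_univ C)
        fun x _ hx => Finsupp.notMem_support_iff.1 (he ▸ hx)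
      rw [Finset.sum_add_distrib, h2, hs.1, Finset.sum_const, smul_eq_mul, mul_one] at h1
      show ∑ x ∈ C, (s - one) x = m - C.card
      omega
    · by_contra hC'
      rw [Finsupp.mem_support_iff] at hx
      have := Finsupp.notMem_support_iff.1 (he ▸ hC')
      simp [hone, hC', this] at hx
  · intro s hs
    rw [Finset.mem_finsuppAntidiag] at hs
    rw [Finset.mem_filter, Finset.mem_finsuppAntidiag]
    refine ⟨⟨?_, Finset.subset_univ _⟩, ?_⟩
    · show ∑ x ∈ (Finset.univ : Finset L), (s + one) x = m
      simp only [Finsupp.add_apply, Finset.sum_add_distrib, hsumone]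
      rw [← Finset.sum_subset (Finset.subset_univ C) fun x _ hx => Finsupp.notMem_support_iff.1 fun h => hx (hs.2 h), hs.1]
      omega
    · ext x
      rw [Finsupp.mem_support_iff, Finsupp.add_apply, hone]
      by_cases hx : x ∈ C
      · simp [hx]
      · simp [hx, Finsupp.notMem_support_iff.1 fun h => hx (hs.2 h)]
  · intro s hs
    obtain ⟨-, he⟩ := Finset.mem_filter.1 hs
    ext x
    rw [Finsupp.add_apply, Finsupp.tsub_apply, hone]
    by_cases hx : x ∈ C
    · have := Finsupp.mem_support_iff.1 (he ▸ hx)
      simp [hx]; omega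
    · simp [hx]
  · intro s _
    exact add_tsub_cancel_right s one

/-- Hilbert function of the Stanley–Reisner ring of a finite distributive lattice: let K be a field, L a
finite distributive lattice, R = K[x_α : α ∈ L], I ⊆ R the ideal generated by the products x_α x_β
over the incomparable (skew) pairs α, β, and m ≥ 1. Then the image in R/I of the homogeneous
polynomials of degree m has K-dimension equal to the sum, over the nonempty chains C ⊆ L, of the
binomial coefficient (m - 1 choose |C| - 1). (The published statement is that the degree of R/I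
equals the number of maximal chains of L; this row states the Hilbert function from which that
degree is read off.) -/
theorem result (K : Type u) [Field K] (L : Type v) [DistribLattice L]
    [Fintype L] (m : ℕ) (hm : 1 ≤ m) :
    Module.finrank K ((MvPolynomial.homogeneousSubmodule L K m).map
        (Ideal.Quotient.mkₐ K (Ideal.span {f : MvPolynomial L K | ∃ a b : L, ¬ a ≤ b ∧ ¬ b ≤ a ∧
          f = MvPolynomial.X a * MvPolynomial.X b})).toLinearMap) =
      ∑ᶠ C : {C : Finset L // C.Nonempty ∧ IsChain (fun a b : L => a ≤ b) (↑C : Set L)},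
        Nat.choose (m - 1) (C.1.card - 1) := by
  classical
  set Chn : (L →₀ ℕ) → Prop := fun s => IsChain (fun a b : L => a ≤ b) (↑s.support : Set L)
  set Bad : Set (L →₀ ℕ) := {s | ∃ a b : L, ¬ a ≤ b ∧ ¬ b ≤ a ∧ s = Finsupp.single a 1 + Finsupp.single b 1}
  set I := Ideal.span {f : MvPolynomial L K | ∃ a b : L, ¬ a ≤ b ∧ ¬ b ≤ a ∧
    f = MvPolynomial.X a * MvPolynomial.X b} with hI
  have hIB : I = Ideal.span ((fun s => MvPolynomial.monomial s (1 : K)) '' Bad) := by
    rw [hI]; congr 1; ext f; constructor
    · rintro ⟨a, b, h1, h2, rfl⟩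
      exact ⟨_, ⟨a, b, h1, h2, rfl⟩, by simp [MvPolynomial.X, MvPolynomial.monomial_mul]⟩
    · rintro ⟨_, ⟨a, b, h1, h2, rfl⟩, rfl⟩
      exact ⟨a, b, h1, h2, by simp [MvPolynomial.X, MvPolynomial.monomial_mul]⟩
  have hmemI : ∀ p : MvPolynomial L K, p ∈ I ↔ ∀ s ∈ p.support, ¬ Chn s := by
    intro p
    rw [hIB, MvPolynomial.mem_ideal_span_monomial_image]
    refine forall₂_congr fun s _ => ⟨?_, ?_⟩
    · rintro ⟨_, ⟨a, b, h1, h2, rfl⟩, hle⟩ hch
      have hne : a ≠ b := fun h => h1 (h ▸ le_rfl)
      have ha : a ∈ s.support := Finsupp.mem_support_iff.2 fun h => by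
        have := hle a; simp [h, Finsupp.single_apply, hne.symm] at this
      have hb : b ∈ s.support := Finsupp.mem_support_iff.2 fun h => by
        have := hle b; simp [h, Finsupp.single_apply, hne] at this
      rcases hch ha hb hne with h | h
      · exact h1 h
      · exact h2 h
    · intro hch
      simp only [Chn, IsChain, Set.Pairwise] at hch
      push Not at hch
      obtain ⟨a, ha, b, hb, hne, h1, h2⟩ := hch
      refine ⟨_, ⟨a, b, h1, h2, rfl⟩, fun x => ?_⟩
      rw [Finset.mem_coe, Finsupp.mem_support_iff] at ha hb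
      rcases eq_or_ne x a with rfl | hxa
      · simp [Finsupp.single_apply, hne.symm]; omega
      · rcases eq_or_ne x b with rfl | hxb
        · simp [Finsupp.single_apply, hne]; omega
        · simp [Finsupp.single_apply, hxa.symm, hxb.symm]
  set D := ((Finset.univ : Finset L).finsuppAntidiag m).filter Chn with hD
  have hdeg : ∀ s : L →₀ ℕ, s ∈ (Finset.univ : Finset L).finsuppAntidiag m ↔ s.degree = m := fun s => by
    rw [Finset.mem_finsuppAntidiag, Finsupp.degree_eq_sum]
    simp
  set v : D → MvPolynomial L K ⧸ I := fun s => Ideal.Quotient.mk I (MvPolynomial.monomial s.1 (1 : K))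
  have hsum : ∀ g : D → K, (∑ s, g s • v s) = Ideal.Quotient.mk I (∑ s : D, MvPolynomial.monomial s.1 (g s)) := by
    intro g
    rw [map_sum]
    refine Finset.sum_congr rfl fun s _ => ?_
    rw [← mul_one (g s), ← smul_eq_mul (g s) (1 : K), ← MvPolynomial.smul_monomial, smul_eq_mul, mul_one]
    exact ((Ideal.Quotient.mkₐ K I).toLinearMap.map_smul _ _).symm
  have hli : LinearIndependent K v := by
    rw [Fintype.linearIndependent_iff]
    intro g hg s
    rw [hsum, Ideal.Quotient.eq_zero_iff_mem, hmemI] at hg
    by_contra hne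
    refine hg s.1 ?_ (Finset.mem_filter.1 s.2).2
    rw [MvPolynomial.mem_support_iff, MvPolynomial.coeff_sum, Finset.sum_eq_single s]
    · simpa using hne
    · intro t _ ht; rw [MvPolynomial.coeff_monomial, if_neg fun h => ht (Subtype.ext h)]
    · simp
  have hspan : (MvPolynomial.homogeneousSubmodule L K m).map (Ideal.Quotient.mkₐ K I).toLinearMap =
      Submodule.span K (Set.range v) := by
    apply le_antisymm
    · rw [Submodule.map_le_iff_le_comap]
      intro p hp
      rw [Submodule.mem_comap, MvPolynomial.as_sum p, map_sum]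
      refine Submodule.sum_mem _ fun s hs => ?_
      by_cases hch : Chn s
      · have hsD : s ∈ D := Finset.mem_filter.2 ⟨(hdeg s).2 (((MvPolynomial.mem_homogeneousSubmodule m p).1 hp).degree_eq_sum_deg_support hs ▸ rfl), hch⟩
        rw [← mul_one (MvPolynomial.coeff s p), ← smul_eq_mul (MvPolynomial.coeff s p) (1 : K),
          ← MvPolynomial.smul_monomial, map_smul]
        exact Submodule.smul_mem _ _ (Submodule.subset_span ⟨⟨s, hsD⟩, rfl⟩)
      · show Ideal.Quotient.mk I _ ∈ _
        rw [Ideal.Quotient.eq_zero_iff_mem.2 ((hmemI _).2 fun t ht => by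
          rw [Finset.mem_singleton.1 (MvPolynomial.support_monomial_subset ht)]; exact hch)]
        exact Submodule.zero_mem _
    · rw [Submodule.span_le]
      rintro _ ⟨s, rfl⟩
      exact Submodule.mem_map_of_mem (f := (Ideal.Quotient.mkₐ K I).toLinearMap)
        ((MvPolynomial.mem_homogeneousSubmodule m _).2 (MvPolynomial.isHomogeneous_monomial _ ((hdeg _).1 (Finset.mem_filter.1 s.2).1)))
  rw [hspan, finrank_span_eq_card hli, Fintype.card_coe]
  rw [finsum_eq_sum_of_fintype]
  rw [Finset.card_eq_sum_card_fiberwise (f := fun s => s.support)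
    (t := (Finset.univ : Finset {C : Finset L // C.Nonempty ∧ IsChain (fun a b : L => a ≤ b) (↑C : Set L)}).map (Function.Embedding.subtype _))]
  · rw [Finset.sum_map]
    refine Finset.sum_congr rfl fun C _ => ?_
    rw [← card_supp_eq C.1 C.2.1 m hm, hD, Finset.filter_filter]
    congr 1
    refine Finset.filter_congr fun s _ => ⟨fun h => h.2, fun h => ⟨?_, h⟩⟩
    show IsChain _ _
    have h' : s.support = C.1 := h
    rw [h']; exact C.2.2
  · intro s hs
    obtain ⟨hs1, hs2⟩ := Finset.mem_filter.1 (Finset.mem_coe.1 hs)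
    refine Finset.mem_coe.2 (Finset.mem_map.2 ⟨⟨s.support, ?_, hs2⟩, Finset.mem_univ _, rfl⟩)
    rw [Finsupp.support_nonempty_iff]
    intro h0
    rw [hdeg, h0, map_zero] at hs1
    omega

end Groth.Agent.S11262
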