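import Groth.Statements.S11264
import Groth.Agent.H26Grass.Determinantal

set_option autoImplicit false
universe u
open W4bk4grassmannian

namespace Groth.Agent.S11264

open W4bk4grassmannian in
/-- Determinantal varieties are normal Cohen–Macaulay and integral, with their dimension: let K be an
algebraically closed field, m, n ≥ 1, 1 ≤ t ≤ min(m, n), R = K[x_{ij}] the coordinate ring of m × n
matrices and I_t ⊆ R the ideal generated by the t × t minors of the generic matrix. Then R/I_t is an
integral domain, integrally closed, Cohen–Macaulay, and of Krull dimension (t - 1)(m + n - t + 1). -/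
theorem result (K : Type u) [Field K] [IsAlgClosed K] (m n t : ℕ)
    (hm : 0 < m) (hn : 0 < n) (ht : 1 ≤ t) (htm : t ≤ m) (htn : t ≤ n) :
    IsDomain (MvPolynomial (Fin m × Fin n) K ⧸ CAlgX.minorIdeal (genMatrix K m n) t) ∧
      IsIntegrallyClosed (MvPolynomial (Fin m × Fin n) K ⧸ CAlgX.minorIdeal (genMatrix K m n) t) ∧
      LocCoh.IsCohenMacaulayRing (MvPolynomial (Fin m × Fin n) K ⧸ CAlgX.minorIdeal (genMatrix K m n) t) ∧
      ringKrullDim (MvPolynomial (Fin m × Fin n) K ⧸ CAlgX.minorIdeal (genMatrix K m n) t) =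
        (((t - 1) * (m + n - t + 1) : ℕ) : WithBot ℕ∞) := by
  haveI : Infinite K := IsAlgClosed.instInfinite
  obtain ⟨s, rfl⟩ : ∃ s, t = s + 1 := ⟨t - 1, by omega⟩
  have hd : s ≤ n := by omega
  have hr : s ≤ m := by omega
  haveI := H26Grass.minorIdeal_isPrime (d := n) (r := m) K hn hd hr
  refine ⟨Ideal.Quotient.isDomain _, H26Grass.isIntegrallyClosed_minorIdeal K hn hd hr hm,
    H26Grass.isCM_minorIdeal K hn hd hr hm, ?_⟩
  rw [H26Grass.ringKrullDim_minorIdeal K hn hd hr, show s + 1 - 1 = s by omega,
    show m + n - (s + 1) + 1 = m + n - s by omega]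

end Groth.Agent.S11264
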