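import Groth.Statements.S11265
import Groth.Agent.H26Grass.CellBasis

set_option autoImplicit false
universe u
open W4bk4grassmannian

namespace Groth.Agent.S11265

open Finset in
/-- row set -/
noncomputable def setA {m n : ℕ} (M : MinorIdx m n) : Finset (Fin m) := Finset.univ.image M.2.1.1
open Finset in
/-- column set -/
noncomputable def setB {m n : ℕ} (M : MinorIdx m n) : Finset (Fin n) := Finset.univ.image M.2.2.1

theorem card_set {m n : ℕ} (M : MinorIdx m n) : (setA M).card = M.1 + 1 ∧ (setB M).card = M.1 + 1 :=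
  ⟨by rw [setA, Finset.card_image_of_injective _ M.2.1.2.injective, Finset.card_univ, Fintype.card_fin],
    by rw [setB, Finset.card_image_of_injective _ M.2.2.2.injective, Finset.card_univ, Fintype.card_fin]⟩

/-- the Plücker index of a minor -/
noncomputable def toIdx {m n : ℕ} (M : MinorIdx m n) : Idx n (n + m) :=
  H26Grass.cellIdx (setA M) (setB M) (by rw [(card_set M).1, (card_set M).2])

theorem toIdx_le_iff {m n : ℕ} (M M' : MinorIdx m n) : toIdx M ≤ toIdx M' ↔ MinorGE M M' := by
  rw [toIdx, toIdx, H26Grass.cellIdx_le_iff]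
  simp only [setA, setB, H26Grass.scnt_image M.2.1.2.injective, H26Grass.scnt_image M'.2.1.2.injective,
    H26Grass.scnt_image M.2.2.2.injective, H26Grass.scnt_image M'.2.2.2.injective]
  rw [H26Grass.cnt_le_iff M.2.1.2 M'.2.1.2, H26Grass.cnt_le_iff M.2.2.2 M'.2.2.2, MinorGE]
  constructor
  · rintro ⟨⟨h, hA⟩, -, hB⟩
    exact ⟨by omega, fun j j' e => ⟨hA j j' e, hB j j' e⟩⟩
  · rintro ⟨h, hh⟩
    exact ⟨⟨by omega, fun j j' e => (hh j j' e).1⟩, by omega, fun j j' e => (hh j j' e).2⟩

theorem toIdx_injective {m n : ℕ} : Function.Injective (toIdx : MinorIdx m n → Idx n (n + m)) := by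
  intro M M' h
  have h1 := (toIdx_le_iff M M').1 h.le
  have h2 := (toIdx_le_iff M' M).1 h.ge
  obtain ⟨s, A, B⟩ := M
  obtain ⟨s', A', B'⟩ := M'
  obtain rfl : s = s' := le_antisymm h1.1 h2.1
  have hA : A = A' := Subtype.ext (funext fun j => le_antisymm (h2.2 j j rfl).1 (h1.2 j j rfl).1)
  have hB : B = B' := Subtype.ext (funext fun j => le_antisymm (h2.2 j j rfl).2 (h1.2 j j rfl).2)
  rw [hA, hB]

theorem exists_toIdx {m n : ℕ} (θ : Idx n (n + m)) (h : θ ≠ H26Grass.botIdx n m) : ∃ M, toIdx M = θ := by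
  obtain ⟨A, B, hAB, rfl⟩ := H26Grass.exists_cellIdx θ
  rcases Nat.eq_zero_or_pos A.card with h0 | h0
  · exfalso
    rw [Finset.card_eq_zero] at h0
    subst h0
    rw [Finset.card_empty, eq_comm, Finset.card_eq_zero] at hAB
    subst hAB
    exact h rfl
  obtain ⟨k, hk⟩ := Nat.exists_eq_add_of_le' (Nat.one_le_iff_ne_zero.2 h0.ne')
  refine ⟨⟨k, ⟨A.orderEmbOfFin hk, (A.orderEmbOfFin hk).strictMono⟩,
    ⟨B.orderEmbOfFin (hAB.symm.trans hk), (B.orderEmbOfFin _).strictMono⟩⟩, ?_⟩
  simp [toIdx, setA, setB]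

theorem cellMap_toIdx (K : Type u) [CommRing K] {m n : ℕ} (M : MinorIdx m n) :
    ∃ e : ℕ, H26Grass.cellMap K n m (MvPolynomial.X (toIdx M)) = (-1) ^ e * minorOf K M := by
  rw [H26Grass.cellMap, H26Grass.ev_X]
  exact H26Grass.det_cellIdx (genMatrix K m n) M.2.1.1 M.2.2.1 M.2.1.2.injective M.2.2.2.injective _ _ rfl rfl _

theorem cellMap_chain (K : Type u) [CommRing K] {m n k : ℕ} (c : Fin k → MinorIdx m n) :
    ∃ e : ℕ, (Finset.univ.prod fun i => minorOf K (c i)) =
      (-1) ^ e * H26Grass.cellMap K n m (chainMon K fun i => toIdx (c i.rev)) := by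
  choose e he using fun i => cellMap_toIdx K (c i)
  refine ⟨∑ i, e i, ?_⟩
  rw [chainMon, map_prod, show (∏ x : Fin k, H26Grass.cellMap K n m (MvPolynomial.X (toIdx (c x.rev)))) = _ from
      Equiv.prod_comp Fin.revPerm (fun i => H26Grass.cellMap K n m (MvPolynomial.X (toIdx (c i)))),
    ← Finset.prod_pow_eq_pow_sum, ← Finset.prod_mul_distrib]
  refine Finset.prod_congr rfl fun i _ => ?_
  rw [he i, ← mul_assoc, ← pow_add, ← two_mul, pow_mul, neg_one_sq, one_pow, one_mul]

open W4bk4grassmannian in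
/-- Standard monomial basis of a determinantal ring in bitableaux, which at the zero determinantal ideal
is the straightening basis of the polynomial ring: let K be an algebraically closed field, m, n ≥ 1,
1 ≤ t ≤ min(m, n) + 1, R = K[x_{ij}] the coordinate ring of m × n matrices, I_t the ideal of t × t
minors of the generic matrix. Order the minors of positive size by [A | B] ⪰ [A' | B'] when the size
of [A | B] is at most that of [A' | B'] and a_j ≥ a'_j, b_j ≥ b'_j for every j below the size of [A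
| B] (row and column indices listed increasingly). Then the classes in R/I_t of the products [A_1 |
B_1] ⋯ [A_k | B_k] (k ≥ 0) of minors of size at most t - 1 with [A_1 | B_1] ⪰ [A_2 | B_2] ⪰ ⋯ ⪰ [A_k
| B_k] are linearly independent over K and span R/I_t. -/
theorem result (K : Type u) [Field K] [IsAlgClosed K]
    (m n t : ℕ) (hm : 0 < m) (hn : 0 < n) (ht : 1 ≤ t) (htmn : t ≤ min m n + 1) :
    LinearIndependent K (fun c : (Σ k : ℕ, {c : Fin k → MinorIdx m n //
        (∀ i, (c i).1 + 1 ≤ t - 1) ∧ ∀ i j, i < j → MinorGE (c i) (c j)}) =>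
        Ideal.Quotient.mk (CAlgX.minorIdeal (genMatrix K m n) t)
          (Finset.univ.prod fun i => minorOf K (c.2.1 i))) ∧
      Submodule.span K (Set.range fun c : (Σ k : ℕ, {c : Fin k → MinorIdx m n //
        (∀ i, (c i).1 + 1 ≤ t - 1) ∧ ∀ i j, i < j → MinorGE (c i) (c j)}) =>
        Ideal.Quotient.mk (CAlgX.minorIdeal (genMatrix K m n) t)
          (Finset.univ.prod fun i => minorOf K (c.2.1 i))) = ⊤ := by
  classical
  haveI : Infinite K := IsAlgClosed.instInfinite
  obtain ⟨s, rfl⟩ := Nat.exists_eq_add_of_le' ht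
  have hsd : s ≤ n := by omega
  have hsr : s ≤ m := by omega
  set τ := H26Grass.rankIdx n m s hsd hsr
  have htle : ∀ M : MinorIdx m n, toIdx M ≤ τ ↔ M.1 + 1 ≤ s + 1 - 1 := fun M => by
    rw [toIdx, H26Grass.le_rankIdx_iff, (card_set M).1, Nat.add_sub_cancel]
  constructor
  · rw [linearIndependent_iff']
    intro S g hg a ha
    choose e he using fun c : (Σ k : ℕ, {c : Fin k → MinorIdx m n //
      (∀ i, (c i).1 + 1 ≤ s + 1 - 1) ∧ ∀ i j, i < j → MinorGE (c i) (c j)}) => cellMap_chain K c.2.1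
    have hz := H26Grass.cell_coeff_zero K hn S (fun c => c.1) (fun c i => toIdx (c.2.1 i.rev)) ?_ ?_ ?_
      (fun c => g c * (-1) ^ e c) τ ?_ a ha fun i => (htle _).2 (a.2.2.1 i.rev)
    · exact (mul_eq_zero.1 hz).resolve_right (pow_ne_zero _ (neg_ne_zero.2 one_ne_zero))
    · intro c x y hxy
      rcases hxy.lt_or_eq with h | h
      · exact (toIdx_le_iff _ _).2 (c.2.2.2 _ _ (Fin.rev_lt_rev.2 h))
      · rw [h]
    · intro c i
      refine H26Grass.cellIdx_ne_bot _ ?_
      rw [(card_set _).1]; omega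
    · rintro ⟨k, c, hc⟩ ⟨k', c', hc'⟩ h
      simp only [Sigma.mk.inj_iff] at h
      obtain ⟨rfl, h2⟩ := h
      have : c = c' := funext fun i => toIdx_injective (by simpa using congrFun (eq_of_heq h2) i.rev)
      subst this; rfl
    · intro Z hZ
      rw [H26Grass.minors_zero_iff] at hZ
      have hmem : (∑ c ∈ S, g c • Finset.univ.prod fun i => minorOf K (c.2.1 i)) ∈
          CAlgX.minorIdeal (genMatrix K m n) (s + 1) := by
        refine Ideal.Quotient.eq_zero_iff_mem.1 ?_
        rw [map_sum, ← hg]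
        refine Finset.sum_congr rfl fun c _ => ?_
        exact (Ideal.Quotient.mkₐ K _).toLinearMap.map_smul _ _
      have h0 := H26Grass.minorIdeal_le_ker_aeval K (fun x : Fin m × Fin n => Z x.1 x.2) hZ hmem
      rw [map_sum] at h0
      rw [map_sum, ← h0]
      refine Finset.sum_congr rfl fun c _ => ?_
      rw [map_smul, map_smul, he c, map_mul, map_pow, map_neg, map_one, H26Grass.aeval_cellMap, smul_eq_mul,
        smul_eq_mul, show (Matrix.of fun i j => Z i j) = Z from rfl, mul_assoc]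
  · rw [eq_top_iff]
    rintro x -
    obtain ⟨p, rfl⟩ := Ideal.Quotient.mk_surjective x
    obtain ⟨a, ha, b, hb, rfl⟩ := Submodule.mem_sup.1 (H26Grass.span_good K hsd hsr p)
    rw [map_add, Ideal.Quotient.eq_zero_iff_mem.2 hb, add_zero]
    have h := Submodule.mem_map_of_mem (f := (Ideal.Quotient.mkₐ K (CAlgX.minorIdeal (genMatrix K m n) (s + 1))).toLinearMap) ha
    rw [Submodule.map_span] at h
    refine Submodule.span_le.2 ?_ h
    rintro _ ⟨_, ⟨⟨k, c, hc, hgood⟩, rfl⟩, rfl⟩
    choose M hM using fun i => exists_toIdx (c i) (hgood i).2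
    obtain ⟨e, he⟩ := cellMap_chain K (fun i : Fin k => M i.rev)
    have hcM : (fun i : Fin k => toIdx ((fun j : Fin k => M j.rev) i.rev)) = c := funext fun i => by simp [hM]
    rw [hcM] at he
    have hin : Ideal.Quotient.mk (CAlgX.minorIdeal (genMatrix K m n) (s + 1))
        (H26Grass.cellMap K n m (chainMon K c)) = (-1 : K) ^ e • Ideal.Quotient.mk _
          (Finset.univ.prod fun i : Fin k => minorOf K (M i.rev)) := by
      rw [he, Algebra.smul_def, map_mul, map_pow, map_pow, map_neg, map_one, ← mul_assoc, map_neg, map_one,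
        ← pow_add, ← two_mul, pow_mul, neg_one_sq, one_pow, one_mul]
    show Ideal.Quotient.mk _ (H26Grass.cellMap K n m (chainMon K c)) ∈ _
    rw [hin]
    refine Submodule.smul_mem _ _ (Submodule.subset_span ⟨⟨k, fun i : Fin k => M i.rev, ⟨fun i => (htle _).1 ?_, ?_⟩⟩, rfl⟩)
    · rw [hM]; exact (hgood _).1
    · intro i j hij
      rw [← toIdx_le_iff, hM, hM]
      exact hc (Fin.rev_le_rev.2 hij.le)

end Groth.Agent.S11265
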