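import Groth.Statements.S11267
import Groth.Agent.H26Grass.CellBasis
import Groth.Agent.H26Grass.RankFactor

set_option autoImplicit false
universe u
open W4bk4grassmannian

namespace Groth.Agent.S11267

open W4bk4grassmannian in
/-- Second Fundamental Theorem of invariant theory for the general linear group acting on pairs of
matrices: let K be an algebraically closed field and m, n, q natural numbers. The kernel of the
K-algebra map K[y_{ij}] → K[u_{ik}, ξ_{kj}] (coordinate rings of M_{m,q} and of M_{m,n} × M_{n,q})
sending y_{ij} to Σ_k u_{ik} ξ_{kj}, the (i, j) entry of the product matrix, is the ideal generated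
by the (n + 1) × (n + 1) minors of the generic m × q matrix (y_{ij}). -/
theorem result (K : Type u) [Field K] [IsAlgClosed K] (m n q : ℕ) :
    RingHom.ker (pairingMap K n m q).toRingHom = CAlgX.minorIdeal (genMatrix K m q) (n + 1) := by
  haveI : Infinite K := IsAlgClosed.instInfinite
  apply le_antisymm
  swap
  · rw [CAlgX.minorIdeal, Ideal.span_le]
    rintro _ ⟨⟨f, g⟩, rfl⟩
    show pairingMap K n m q _ = 0
    rw [AlgHom.map_det]
    have h : (pairingMap K n m q).mapMatrix ((genMatrix K m q).submatrix f g) =
        ((Matrix.of fun i k => (MvPolynomial.X (Sum.inl (i, k)) : PairRing K n m q)) *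
          Matrix.of fun k j => MvPolynomial.X (Sum.inr (k, j))).submatrix f g := by
      ext i j; simp [genMatrix, pairingMap, Matrix.mul_apply]
    rw [h]
    exact H26Grass.minors_mul_eq_zero _ _ f g
  intro p hp
  rw [RingHom.mem_ker] at hp
  have hvan : ∀ Z : Matrix (Fin m) (Fin q) K,
      (∀ (f : Fin (n + 1) → Fin m) (g : Fin (n + 1) → Fin q), (Z.submatrix f g).det = 0) →
        MvPolynomial.eval (fun x : Fin m × Fin q => Z x.1 x.2) p = 0 := by
    intro Z hZ
    obtain ⟨U, W, rfl⟩ := H26Grass.exists_factor Z hZ
    have h := congrArg (MvPolynomial.aeval (R := K)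
      (Sum.elim (fun x : Fin m × Fin n => U x.1 x.2) (fun x : Fin n × Fin q => W x.1 x.2))) hp
    rw [show (pairingMap K n m q).toRingHom p = pairingMap K n m q p from rfl, pairingMap,
      MvPolynomial.comp_aeval_apply, map_zero] at h
    rw [← h, ← MvPolynomial.aeval_eq_eval]
    refine congrArg (fun x => MvPolynomial.aeval x p) (funext fun x => ?_)
    simp [Matrix.mul_apply]
  by_cases hsmall : n < m ∧ n < q
  · exact H26Grass.mem_minorIdeal_of_vanish K (by omega) (s := n) hsmall.2.le hsmall.1.le hvan
  · have : p = 0 := MvPolynomial.funext fun x => by
      rw [map_zero, show x = (fun y : Fin m × Fin q => (Matrix.of fun i j => x (i, j)) y.1 y.2) from rfl]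
      refine hvan _ fun f g => ?_
      rw [not_and_or, not_lt, not_lt] at hsmall
      rcases hsmall with h | h
      · have : ¬ Function.Injective f := fun hf => by
          have := Fintype.card_le_of_injective f hf; simp at this; omega
        rw [Function.not_injective_iff] at this
        obtain ⟨a, b, hab, hne⟩ := this
        exact Matrix.det_zero_of_row_eq hne (funext fun k => by simp [hab])
      · have : ¬ Function.Injective g := fun hg => by
          have := Fintype.card_le_of_injective g hg; simp at this; omega
        rw [Function.not_injective_iff] at this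
        obtain ⟨a, b, hab, hne⟩ := this
        exact Matrix.det_zero_of_column_eq hne fun k => by simp [hab]
    rw [this]; exact Ideal.zero_mem _

end Groth.Agent.S11267
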