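import Groth.Statements.S11269
import Groth.Agent.H4Depth.LocDepth
import Groth.Agent.H4Depth.SkFree

set_option autoImplicit false
universe u
open W4bk4grassmannian
open scoped Pointwise

namespace Groth.Agent.S11269

/-- Let R be a Noetherian integral domain. Then R satisfies Serre's condition (S_2) (depth R_P ≥ min(2,
dim R_P) for all primes P) if and only if, for every nonzero a ∈ R, every associated prime of the
R-module R/(a) has height one. -/
theorem result (R : Type u) [CommRing R] [IsDomain R]
    [IsNoetherianRing R] :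
    LocCoh.HasSk 2 R R ↔
      ∀ a : R, a ≠ 0 → ∀ P : Ideal R, P ∈ associatedPrimes R (R ⧸ Ideal.span {a}) → P.height = 1 := by
  have hsupp : ∀ (p : Ideal R) [p.IsPrime],
      Module.supportDim (Localization.AtPrime p) (LocalizedModule p.primeCompl R) =
        (p.height : WithBot ℕ∞) := fun p _ => by
    obtain ⟨e⟩ := H4Depth.exists_localizedModule_self_equiv p
    rw [Module.supportDim_eq_of_equiv e, Module.supportDim_self_eq_ringKrullDim,
      IsLocalization.AtPrime.ringKrullDim_eq_height p (Localization.AtPrime p)]
  have hideal : ∀ a : R, Ideal.ofList [a] • (⊤ : Submodule R R) = Ideal.span {a} := fun a => by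
    rw [Ideal.ofList_singleton, Ideal.smul_eq_mul, Ideal.mul_top]
  have hquot : ∀ a : R, a • (⊤ : Submodule R R) = Ideal.span {a} := fun a => by
    rw [← Submodule.ideal_span_singleton_smul, Ideal.smul_eq_mul, Ideal.mul_top]
  have hone : ∀ a : R, a ≠ 0 → RingTheory.Sequence.IsWeaklyRegular R [a] := fun a ha =>
    (RingTheory.Sequence.isWeaklyRegular_cons_iff _ a []).mpr
      ⟨IsSMulRegular.of_ne_zero ha, RingTheory.Sequence.IsWeaklyRegular.nil _ _⟩
  constructor
  · intro h a ha P hP
    have hPp : P.IsPrime := IsAssociatedPrime.isPrime hP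
    have haP : a ∈ P := by
      refine hP.annihilator_le ?_
      rw [Submodule.annihilator_top, Ideal.annihilator_quotient]
      exact Ideal.mem_span_singleton_self a
    have hass : P ∈ associatedPrimes R (R ⧸ Ideal.ofList [a] • (⊤ : Submodule R R)) := by
      rw [LinearEquiv.AssociatedPrimes.eq (Submodule.quotEquivOfEq _ _ (hideal a))]
      exact hP
    have hd := H4Depth.depth_localization_eq_length P [a] (hone a ha)
      (fun r hr => by simpa [List.mem_singleton.mp hr] using haP) hass
    have := h P
    rw [hd, hsupp] at this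
    rcases min_le_iff.mp this with h2 | h1
    · norm_num at h2
    · have h1' : P.height ≤ 1 := by simpa using WithBot.coe_le_coe.mp h1
      refine le_antisymm h1' (Order.one_le_iff_pos.mpr (pos_iff_ne_zero.mpr fun h0 => ha ?_))
      by_contra
      have hlt : (⊥ : Ideal R) < P := bot_lt_iff_ne_bot.mpr fun hb => ha (by simpa [hb] using haP)
      exact not_lt_zero (h0 ▸ Ideal.height_strict_mono_of_isPrime hlt)
  · intro h p _
    rw [hsupp]
    by_cases hp0 : p = ⊥
    · subst hp0
      simp
    obtain ⟨a, hap, ha⟩ := Submodule.exists_mem_ne_zero_of_ne_bot hp0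
    obtain ⟨e⟩ := H4Depth.exists_localizedModule_self_equiv p
    have key : ∀ rs : List R, RingTheory.Sequence.IsWeaklyRegular R rs → (∀ r ∈ rs, r ∈ p) →
        ((rs.length : ℕ∞)) ≤
          LocCoh.depth (Localization.AtPrime p) (LocalizedModule p.primeCompl R) :=
      fun rs hrs hmem => le_trans (H4Depth.length_le_idealDepth hrs hmem)
        (H4Depth.idealDepth_le_depth_localization p le_rfl)
    by_cases h2 : p.height ≤ 1
    · exact le_trans (min_le_right _ _) (WithBot.coe_le_coe.mpr
        (h2.trans (by simpa using key [a] (hone a ha) (by simp [hap]))))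
    · obtain ⟨x, hxp, hx⟩ : ∃ x ∈ p, IsSMulRegular (R ⧸ Ideal.span {a}) x := by
        by_contra hcon
        push Not at hcon
        obtain ⟨Q, hQ, hpQ⟩ := H4Depth.exists_associatedPrime_ge_of_no_regular hcon
        exact h2 ((Ideal.height_mono hpQ).trans (h a ha Q hQ).le)
      refine le_trans (min_le_left _ _) (le_trans ?_ (WithBot.coe_le_coe.mpr
        (key [a, x] ?_ (by simp [hap, hxp]))))
      · simp
      · refine (RingTheory.Sequence.isWeaklyRegular_cons_iff _ a [x]).mpr
          ⟨IsSMulRegular.of_ne_zero ha, (RingTheory.Sequence.isWeaklyRegular_cons_iff _ x []).mpr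
            ⟨?_, RingTheory.Sequence.IsWeaklyRegular.nil _ _⟩⟩
        exact ((Submodule.quotEquivOfEq _ _ (hquot a)).isSMulRegular_congr x).mpr hx

end Groth.Agent.S11269
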