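import Groth.Statements.S11270
import Groth.Agent.H26Grass.SchubertRing

set_option autoImplicit false
universe u
open W4bk4grassmannian

namespace Groth.Agent.S11270

open W4bk4grassmannian in
/-- The least Plücker coordinate is a prime element on every Schubert variety: let K be an algebraically
closed field, 0 < d < n, and I(d,n) the strictly increasing maps Fin d → Fin n ordered entrywise; S
= K[X_θ : θ ∈ I(d,n)] is the Plücker polynomial ring and, for τ ∈ I(d,n), J(τ) ⊆ S is the ideal of
polynomials vanishing at the d × d row-minors of every n × d matrix over K whose minors on rows φ ≰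
τ are zero (the homogeneous ideal of the Schubert variety X(τ) ⊆ G(d,n)). Let w ∈ I(d,n) and let ι =
(0, 1, …, d - 1) be the least element of I(d,n), written (1, …, d) in 1-based indexing. Then the
class of X_ι in S/J(w) is a prime element; it generates the kernel of the restriction to the section
of X(w) by the opposite Schubert divisor. -/
theorem result (K : Type u) [Field K] [IsAlgClosed K] (d n : ℕ)
    (hd : 0 < d) (hdn : d < n) (w : Idx d n) :
    Prime (Ideal.Quotient.mk (schubertVanishing K d n w)
      (MvPolynomial.X (⟨fun t => ⟨t.val, lt_trans t.isLt hdn⟩, fun a b h => h⟩ : Idx d n))) := by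
  classical
  haveI : Infinite K := IsAlgClosed.instInfinite
  set ι : Idx d n := ⟨fun t => ⟨t.val, lt_trans t.isLt hdn⟩, fun a b h => h⟩ with hι
  -- the unique cover of the least index
  have hv1 : StrictMono (fun t : Fin d => if t.val + 1 = d then (⟨d, hdn⟩ : Fin n) else ⟨t.val, lt_trans t.isLt hdn⟩) := by
    intro a b hab
    rw [Fin.lt_def] at hab ⊢
    have := a.isLt; have := b.isLt
    simp only
    split_ifs <;> simp <;> omega
  set v : Idx d n := ⟨_, hv1⟩ with hv
  have hge : ∀ θ : Idx d n, θ ≠ ι → v ≤ θ := by
    intro θ hne t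
    rw [Fin.le_def]
    simp only [hv]
    have h1 := H26Grass.idx_val_ge θ t
    split_ifs with h
    · by_contra hc
      simp only [not_le] at hc
      apply hne
      apply Subtype.ext
      funext s
      apply Fin.ext
      show (θ.1 s).val = s.val
      have h2 := H26Grass.idx_val_ge θ s
      by_contra hs
      have hlt : s.val < (θ.1 s).val := by omega
      -- everything after `s` moves up as well
      have key : ∀ k, ∀ u : Fin d, u.val = s.val + k → u.val < (θ.1 u).val := by
        intro k
        induction k with
        | zero => intro u hu; have : u = s := Fin.ext (by omega); subst this; exact hlt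
        | succ k ih =>
          intro u hu
          have := ih ⟨s.val + k, by have := u.isLt; omega⟩ rfl
          have hlt' := θ.2 (show (⟨s.val + k, by have := u.isLt; omega⟩ : Fin d) < u from Fin.lt_def.2 (by simp; omega))
          rw [Fin.lt_def] at hlt'
          simp only at this
          omega
      have hst : s.val ≤ t.val := by have := s.isLt; omega
      have := key (t.val - s.val) t (by omega)
      omega
    · exact h1
  have hnv : ¬ v ≤ ι := by
    intro h
    have := Fin.le_def.1 (h ⟨d - 1, by omega⟩)
    simp only [hv, hι] at this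
    rw [if_pos (by omega)] at this
    simp at this; omega
  set J := schubertVanishing K d n w with hJ
  set Y := H26Grass.suppMat K (H26Grass.rangeP (some v) w) with hY
  set ψ : PlRing K d n →ₐ[K] MatRing K d n := H26Grass.ev K Y with hψ
  have hψι : ψ (MvPolynomial.X ι) = 0 := H26Grass.ev_rangeP_eq_zero K fun h => hnv (h.2 v rfl)
  have hψJ : ∀ p ∈ J, ψ p = 0 := fun p hp => H26Grass.ev_suppMat_eq_zero K hp _ fun i t h => by
    simp [H26Grass.rangeP] at h; exact h.1
  have hker : RingHom.ker ψ.toRingHom = J ⊔ Ideal.span {MvPolynomial.X ι} := by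
    apply le_antisymm
    · intro p hp
      have hspan := H26Grass.span_std_eq_top K (I := J ⊔ Ideal.span {MvPolynomial.X ι})
        (((H26Grass.plIdealTop_le_plIdeal K w).trans (H26Grass.plIdeal_le_schubertVanishing K w)).trans le_sup_left)
        (fun m c => ∀ k, c k ≤ w ∧ c k ≠ ι) (fun m c _ h => by
          push Not at h
          obtain ⟨k, hk⟩ := h
          by_cases hkw : c k ≤ w
          · rw [chainMon, ← Finset.mul_prod_erase _ _ (Finset.mem_univ k), hk hkw]
            exact Ideal.mem_sup_right (Ideal.mul_mem_right _ _ (Ideal.mem_span_singleton_self _))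
          · exact Ideal.mem_sup_left (H26Grass.chainMon_mem_schubertVanishing K k hkw))
      obtain ⟨g, hg⟩ := (Finsupp.mem_span_range_iff_exists_finsupp).1
        (show Ideal.Quotient.mk (J ⊔ Ideal.span {MvPolynomial.X ι}) p ∈ _ from hspan ▸ Submodule.mem_top)
      rw [Finsupp.sum] at hg
      set F := ∑ a ∈ g.support, g a • chainMon K a.2.1 with hF
      have hFp : p - F ∈ J ⊔ Ideal.span {MvPolynomial.X ι} := by
        rw [← Ideal.Quotient.eq, ← hg, hF, map_sum]
        refine Finset.sum_congr rfl fun a _ => ?_
        exact ((Ideal.Quotient.mkₐ K _).toLinearMap.map_smul _ _).symm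
      have hψF : ψ F = 0 := by
        have h1 : ψ (p - F) = 0 := by
          obtain ⟨a, ha, b, hb, hab⟩ := Submodule.mem_sup.1 hFp
          obtain ⟨c, rfl⟩ := Ideal.mem_span_singleton.1 hb
          rw [← hab, map_add, hψJ a ha, map_mul, hψι, zero_mul, zero_add]
        rw [map_sub, show ψ p = 0 from hp, zero_sub, neg_eq_zero] at h1
        exact h1
      have hF0 : F = 0 := by
        rw [hF]
        refine Finset.sum_eq_zero fun a ha => ?_
        rw [H26Grass.coeff_eq_zero_of_ev K hd g.support (fun a => a.1) (fun a => a.2.1) (fun a => a.2.2.1) ?_ g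
          (some v) (τ := w) hψF a ha (fun k => (a.2.2.2 k).1)
          (by rintro u ⟨⟩ k; exact hge _ (a.2.2.2 k).2), zero_smul]
        rintro ⟨m, c, hc⟩ ⟨m', c', hc'⟩ h
        simp only [Sigma.mk.inj_iff] at h
        obtain ⟨rfl, h2⟩ := h
        simp at h2; subst h2; rfl
      rwa [hF0, sub_zero] at hFp
    · exact sup_le (fun p hp => hψJ p hp) ((Ideal.span_singleton_le_iff_mem _).2 hψι)
  haveI hprime : (J ⊔ Ideal.span {MvPolynomial.X ι}).IsPrime := hker ▸ RingHom.ker_isPrime _
  have hne : Ideal.Quotient.mk J (MvPolynomial.X ι) ≠ 0 := fun h => by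
    have := H26Grass.coeff_eq_zero_of_mem K hd ({()} : Finset Unit) (fun _ => 1) (fun _ _ => ι)
      (fun _ _ _ _ => le_rfl) (fun a b _ => Subsingleton.elim a b) (fun _ => (1 : K)) (τ := w)
      (by simpa [chainMon] using Ideal.Quotient.eq_zero_iff_mem.1 h) () (by simp)
      (fun _ => fun t => Fin.le_def.2 (H26Grass.idx_val_ge w t))
    exact one_ne_zero this
  have hspan_eq : Ideal.span {Ideal.Quotient.mk J (MvPolynomial.X ι)} =
      (J ⊔ Ideal.span {MvPolynomial.X ι}).map (Ideal.Quotient.mk J) := by
    rw [Ideal.map_sup, Ideal.map_quotient_self, bot_sup_eq, Ideal.map_span, Set.image_singleton]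
  rw [← Ideal.span_singleton_prime hne, hspan_eq]
  exact Ideal.map_isPrime_of_surjective Ideal.Quotient.mk_surjective (by rw [Ideal.mk_ker]; exact le_sup_left)

end Groth.Agent.S11270
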