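import Groth.Statements.S11271
import Groth.Agent.H26Grass.Minors

set_option autoImplicit false
universe u
open W4bk4grassmannian

namespace Groth.Agent.S11271

open W4bk4grassmannian in
/-- Semistable matrices are the matrices of full rank: let K be an algebraically closed field, 0 < d <
n, and let SL_d(K) act on n × d matrices by right multiplication; a matrix A is semistable when the
zero matrix is not in the Zariski closure of its orbit, i.e. when some polynomial in the entries
vanishes at A g for every g ∈ SL_d(K) but not at 0. Then A is semistable if and only if its columns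
are linearly independent. -/
theorem result (K : Type u) [Field K]
    [IsAlgClosed K] (d n : ℕ) (hd : 0 < d) (hdn : d < n) (A : Matrix (Fin n) (Fin d) K) :
    LinearIndependent K A.transpose ↔
      ∃ f : MatRing K d n, (∀ g : Matrix.SpecialLinearGroup (Fin d) K,
        MvPolynomial.eval (fun p : Fin n × Fin d => (A * (g : Matrix (Fin d) (Fin d) K)) p.1 p.2) f = 0) ∧
        MvPolynomial.eval (fun _ : Fin n × Fin d => (0 : K)) f ≠ 0 := by
  classical
  constructor
  · intro hA
    obtain ⟨θ, hθ⟩ := H26Grass.exists_minor_ne_zero A hA
    refine ⟨minor K d n θ.1 - MvPolynomial.C (A.submatrix θ.1 id).det, fun g => ?_, ?_⟩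
    · rw [map_sub, MvPolynomial.eval_C, minor, RingHom.map_det, sub_eq_zero]
      rw [show (MvPolynomial.eval fun p : Fin n × Fin d => (A * (g : Matrix (Fin d) (Fin d) K)) p.1 p.2).mapMatrix
          (Matrix.of fun s t : Fin d => (MvPolynomial.X (θ.1 s, t) : MatRing K d n))
        = (A.submatrix θ.1 id) * (g : Matrix (Fin d) (Fin d) K) by ext s t; simp [Matrix.mul_apply],
        Matrix.det_mul, g.2, mul_one]
    · rw [map_sub, MvPolynomial.eval_C, minor, RingHom.map_det]
      rw [show (MvPolynomial.eval fun _ : Fin n × Fin d => (0 : K)).mapMatrix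
          (Matrix.of fun s t : Fin d => (MvPolynomial.X (θ.1 s, t) : MatRing K d n)) = 0 by ext s t; simp,
        @Matrix.det_zero _ _ _ _ _ ⟨⟨0, hd⟩⟩, zero_sub, neg_ne_zero]
      exact hθ
  · rintro ⟨f, hf, hf0⟩
    by_contra hA
    rw [Fintype.linearIndependent_iff] at hA
    push Not at hA
    obtain ⟨v, hv, k, hk⟩ := hA
    haveI : Infinite K := IsAlgClosed.instInfinite
    set g₁ := (1 : Matrix (Fin d) (Fin d) K).updateCol k v with hg₁
    have hg₁det : g₁.det = v k := by
      rw [hg₁, ← Matrix.cramer_apply, Matrix.cramer_one]
      simp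
    set δ : K → Fin d → K := fun s t => if t = k then (v k * s ^ (d - 1))⁻¹ else s with hδ
    have hzero : ∀ i, (A * g₁) i k = 0 := fun i => by
      have := congrFun hv i
      simp only [Finset.sum_apply, Pi.smul_apply, Matrix.transpose_apply, smul_eq_mul, Pi.zero_apply] at this
      rw [Matrix.mul_apply, ← this]
      refine Finset.sum_congr rfl fun j _ => ?_
      simp [hg₁, mul_comm]
    set P : Polynomial K := MvPolynomial.aeval
      (fun p : Fin n × Fin d => Polynomial.C ((A * g₁) p.1 p.2) * Polynomial.X) f with hP
    have hev : ∀ s : K, P.eval s = MvPolynomial.eval (fun p : Fin n × Fin d => (A * g₁) p.1 p.2 * s) f := by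
      intro s
      rw [hP, ← Polynomial.coe_aeval_eq_eval, MvPolynomial.comp_aeval_apply, MvPolynomial.aeval_eq_eval]
      simp
    have hroot : ∀ s : K, s ≠ 0 → P.eval s = 0 := by
      intro s hs
      have hdet : (g₁ * Matrix.diagonal (δ s)).det = 1 := by
        rw [Matrix.det_mul, hg₁det, Matrix.det_diagonal, hδ, Finset.prod_ite, Finset.prod_const,
          Finset.prod_const, Finset.filter_eq' Finset.univ k, if_pos (Finset.mem_univ k), Finset.card_singleton,
          pow_one, Finset.filter_ne', Finset.card_erase_of_mem (Finset.mem_univ _), Finset.card_univ,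
          Fintype.card_fin]
        field_simp
      rw [hev, ← hf ⟨_, hdet⟩]
      refine congrArg (fun x => MvPolynomial.eval x f) (funext fun p => ?_)
      show _ = (A * (g₁ * Matrix.diagonal (δ s))) p.1 p.2
      rw [← Matrix.mul_assoc, Matrix.mul_diagonal]
      rcases eq_or_ne p.2 k with hpk | hpk
      · rw [hpk, hzero]; simp
      · simp [hδ, hpk]
    have hP0 : P = 0 := Polynomial.eq_zero_of_infinite_isRoot P
      (Set.Infinite.mono (fun s hs => hroot s hs) (Set.finite_singleton (0 : K)).infinite_compl)
    refine hf0 ?_
    have h := hev 0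
    rw [hP0, Polynomial.eval_zero] at h
    simpa using h.symm

end Groth.Agent.S11271
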