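import Groth.Statements.S11275
import Groth.Agent.H26Grass.CellBasis

set_option autoImplicit false
universe u
open W4bk4grassmannian

namespace Groth.Agent.S11275

theorem cellMinor_eq (K : Type u) [CommRing K] (d r : ℕ) (θ : W4bk4grassmannian.Idx d (d + r)) :
    cellMinor K d r θ = ((H26Grass.cellOf ((genMatrix K r d).submatrix Fin.rev id)).submatrix θ.1 id).det := by
  unfold cellMinor
  congr 2
  ext i t
  induction i using Fin.addCases with
  | left j => simp [cellMatrix, H26Grass.cellOf, Fin.ext_iff]
  | right k => simp [cellMatrix, H26Grass.cellOf, genMatrix]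

theorem large_iff {d r t : ℕ} (hd : 0 < d) (ht : 0 < t) (htd : t ≤ d) {A : Finset (Fin r)} {B : Finset (Fin d)}
    (h : A.card = B.card) :
    d ≤ ((H26Grass.cellIdx A B h).1 ⟨d - t, Nat.sub_lt hd ht⟩).val ↔ t ≤ A.card := by
  rw [← not_lt, H26Grass.lt_cnt_iff (H26Grass.cellIdx A B h).2]
  have h1 := (H26Grass.cnt_cellIdx A B h d).1 le_rfl
  rw [H26Grass.scnt_top B le_rfl, ← h] at h1
  simp only
  omega

open W4bk4grassmannian in
/-- Ideal-theoretic form; determinantal ideals as ideals of opposite cells of Schubert varieties: let K
be a commutative ring, d, r ≥ 1, 1 ≤ t ≤ min(d, r), Z the generic r × d matrix over K[z_{ij}] and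
[I_d ; Z] the (d + r) × d matrix with the identity block on top. For θ ∈ I(d, d + r) let q_θ be the
d × d minor of [I_d ; Z] on the rows θ (the Plücker coordinate p_θ on the opposite big cell). Then
the ideal generated by the q_θ with θ_{d-t} ≥ d (0-indexed; these are the θ not below the index φ =
(t-1, …, d-1, d+r+1-t, …, d+r-1) of the Schubert variety whose opposite cell is D_t) equals the
ideal generated by the t × t minors of Z. (The published statement is over an algebraically closed
field and identifies the determinantal variety D_t with the opposite cell of the Schubert variety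
X(φ); this row states the equality of ideals behind that identification, over any commutative ring
K.) -/
theorem result (K : Type u) [CommRing K] (d r t : ℕ) (hd : 0 < d)
    (ht : 0 < t) (htd : t ≤ d) (htr : t ≤ r) :
    Ideal.span {f : CellRing K d r | ∃ θ : Idx d (d + r),
        d ≤ (θ.1 ⟨d - t, Nat.sub_lt hd ht⟩).val ∧ f = cellMinor K d r θ} =
      CAlgX.minorIdeal (genMatrix K r d) t := by
  classical
  apply le_antisymm
  · rw [Ideal.span_le]
    rintro f ⟨θ, hθ, rfl⟩
    obtain ⟨A, B, hAB, rfl⟩ := H26Grass.exists_cellIdx θ
    rw [large_iff hd ht htd] at hθ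
    rw [cellMinor_eq]
    obtain ⟨e, he⟩ := H26Grass.det_cellIdx ((genMatrix K r d).submatrix Fin.rev id) (A.orderEmbOfFin rfl)
      (B.orderEmbOfFin hAB.symm) (A.orderEmbOfFin rfl).injective (B.orderEmbOfFin hAB.symm).injective A B
      (Finset.image_orderEmbOfFin_univ _ _) (Finset.image_orderEmbOfFin_univ _ _) hAB
    rw [he, Matrix.submatrix_submatrix]
    exact Ideal.mul_mem_left _ _ (H26Grass.det_submatrix_mem_minorIdeal' _ hθ _ _)
  · rw [CAlgX.minorIdeal, Ideal.span_le]
    rintro _ ⟨⟨f, g⟩, rfl⟩
    by_cases hf : Function.Injective f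
    · by_cases hg : Function.Injective g
      · have hfr : Function.Injective (Fin.rev ∘ f) := Fin.rev_injective.comp hf
        have hAB : (Finset.univ.image (Fin.rev ∘ f)).card = (Finset.univ.image g).card := by
          rw [Finset.card_image_of_injective _ hfr, Finset.card_image_of_injective _ hg]
        obtain ⟨e, he⟩ := H26Grass.det_cellIdx ((genMatrix K r d).submatrix Fin.rev id) (Fin.rev ∘ f) g hfr hg _ _ rfl rfl hAB
        rw [← cellMinor_eq, Matrix.submatrix_submatrix] at he
        have heq : ((genMatrix K r d).submatrix (Fin.rev ∘ Fin.rev ∘ f) (id ∘ g)) = (genMatrix K r d).submatrix f g := by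
          ext i j; simp
        rw [heq] at he
        have hsq : ((-1 : CellRing K d r) ^ e) * (-1) ^ e = 1 := by
          rw [← pow_add, ← two_mul, pow_mul, neg_one_sq, one_pow]
        show ((genMatrix K r d).submatrix f g).det ∈ _
        rw [← one_mul ((genMatrix K r d).submatrix f g).det, ← hsq, mul_assoc, ← he]
        refine Ideal.mul_mem_left _ _ (Ideal.subset_span ⟨_, ?_, rfl⟩)
        rw [large_iff hd ht htd, Finset.card_image_of_injective _ hfr, Finset.card_univ, Fintype.card_fin]
      · rw [Function.not_injective_iff] at hg
        obtain ⟨a, b, hab, hne⟩ := hg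
        show ((genMatrix K r d).submatrix f g).det ∈ _
        rw [Matrix.det_zero_of_column_eq hne fun k => by simp [hab]]
        exact Ideal.zero_mem _
    · rw [Function.not_injective_iff] at hf
      obtain ⟨a, b, hab, hne⟩ := hf
      show ((genMatrix K r d).submatrix f g).det ∈ _
      rw [Matrix.det_zero_of_row_eq hne (funext fun k => by simp [hab])]
      exact Ideal.zero_mem _

end Groth.Agent.S11275
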