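import Groth.Statements.S11276
import Groth.Agent.H26Grass.Graded
import Groth.Agent.H26Grass.LocQuot
import Groth.Agent.H4Depth.DepthLemmas
import Groth.Agent.H8Props.FlatDepth

set_option autoImplicit false
universe u v
open W4bk4grassmannian

namespace Groth.Agent.S11276

open IsLocalRing LocCoh in
theorem cm_of_two_pieces {L : Type v} [CommRing L] [IsLocalRing L] [IsNoetherianRing L]
    (I J : Ideal L) (hIJ : I ⊓ J = ⊥) (hIne : I ≠ ⊤) (e : ℕ)
    (hI : ringKrullDim (L ⧸ I) = (e : WithBot ℕ∞)) (hJ : ringKrullDim (L ⧸ J) ≤ (e : WithBot ℕ∞))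
    (dI : (e : ℕ∞) ≤ depth L (L ⧸ I)) (dJ : (e : ℕ∞) ≤ depth L (L ⧸ J))
    (dK : ((e - 1 : ℕ) : ℕ∞) ≤ depth L (L ⧸ (I ⊔ J))) :
    IsCohenMacaulayLocalRing L ∧ ringKrullDim L = (e : WithBot ℕ∞) := by
  have hdim : ringKrullDim L = (e : WithBot ℕ∞) := by
    refine le_antisymm ?_ (hI ▸ ringKrullDim_quotient_le I)
    refine iSup_le fun l => ?_
    have hl : I ≤ (l 0).asIdeal ∨ J ≤ (l 0).asIdeal :=
      (Ideal.IsPrime.inf_le (l 0).2).mp (hIJ ▸ bot_le)
    rcases hl with hl | hl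
    · refine le_trans ?_ hI.le
      rw [ringKrullDim_quotient]
      exact le_iSup_of_le (⟨l.length, fun i =>
        (⟨l i, hl.trans (l.monotone (Fin.zero_le i))⟩ : PrimeSpectrum.zeroLocus (I : Set L)),
        fun i => l.step i⟩) le_rfl
    · refine le_trans ?_ hJ
      rw [ringKrullDim_quotient]
      exact le_iSup_of_le (⟨l.length, fun i =>
        (⟨l i, hl.trans (l.monotone (Fin.zero_le i))⟩ : PrimeSpectrum.zeroLocus (J : Set L)),
        fun i => l.step i⟩) le_rfl
  refine ⟨(H8Props.FlatDepth.isCM_iff_dim L).mpr (le_antisymm ?_ ?_), hdim⟩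
  swap
  · have := H4Depth.depth_le_supportDim (R := L) (M := L)
    rwa [Module.supportDim_self_eq_ringKrullDim] at this
  rw [hdim]
  refine WithBot.coe_le_coe.mpr ?_
  have hpair : (e : ℕ∞) ≤ depth L ((L ⧸ I) × (L ⧸ J)) :=
    le_trans (le_min dI dJ) (H4Depth.min_le_idealDepth_mid (f := LinearMap.inl L (L ⧸ I) (L ⧸ J))
      (g := LinearMap.snd L (L ⧸ I) (L ⧸ J)) _ LinearMap.inl_injective Prod.snd_surjective .inl_snd)
  refine le_trans (le_min hpair ?_) (H4Depth.min_le_idealDepth_left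
    (f := (Submodule.mkQ I).prod (Submodule.mkQ J))
    (g := (Submodule.factor (le_sup_left : I ≤ I ⊔ J)).comp (LinearMap.fst L _ _) -
      (Submodule.factor (le_sup_right : J ≤ I ⊔ J)).comp (LinearMap.snd L _ _)) _ ?_ ?_ ?_)
  · refine le_trans ?_ (add_le_add_left dK 1)
    exact_mod_cast (by omega : e ≤ (e - 1) + 1)
  · rw [← LinearMap.ker_eq_bot, LinearMap.ker_prod, Submodule.ker_mkQ, Submodule.ker_mkQ, hIJ]
  · intro x
    obtain ⟨a, rfl⟩ := Submodule.mkQ_surjective _ x
    exact ⟨(Submodule.mkQ I a, 0), by simp⟩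
  · rintro ⟨x, y⟩
    obtain ⟨a, rfl⟩ := Submodule.mkQ_surjective _ x
    obtain ⟨b, rfl⟩ := Submodule.mkQ_surjective _ y
    change (Submodule.Quotient.mk a : L ⧸ (I ⊔ J)) - Submodule.Quotient.mk b = 0 ↔ _
    rw [sub_eq_zero, Submodule.Quotient.eq]
    constructor
    · intro h
      obtain ⟨i, hi, j, hj, hij⟩ := Submodule.mem_sup.mp h
      refine ⟨a - i, Prod.ext ?_ ?_⟩
      · change (Submodule.Quotient.mk (a - i) : L ⧸ I) = Submodule.Quotient.mk a
        rw [Submodule.Quotient.eq]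
        simpa using hi
      · change (Submodule.Quotient.mk (a - i) : L ⧸ J) = Submodule.Quotient.mk b
        rw [Submodule.Quotient.eq, show a - i - b = j by linear_combination -hij]
        exact hj
    · rintro ⟨c, hc⟩
      have h1 : (Submodule.Quotient.mk c : L ⧸ I) = Submodule.Quotient.mk a := congrArg Prod.fst hc
      have h2 : (Submodule.Quotient.mk c : L ⧸ J) = Submodule.Quotient.mk b := congrArg Prod.snd hc
      rw [Submodule.Quotient.eq] at h1 h2
      rw [show a - b = (c - b) - (c - a) by ring]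
      exact sub_mem (Submodule.mem_sup_right h2) (Submodule.mem_sup_left h1)

theorem piece {R C : Type v} [CommRing R] [CommRing C] [IsNoetherianRing R] (f : R →+* C)
    (hf : Function.Surjective f) (Q : Ideal C) [Q.IsPrime] (hC : LocCoh.IsCohenMacaulayRing C)
    (e : ℕ) (hdim : ringKrullDim C = (e : WithBot ℕ∞))
    (hQ : ringKrullDim C = (Q.height : WithBot ℕ∞)) (P : Ideal R) [P.IsPrime] (hP : P = Q.comap f) :
    ringKrullDim (Localization.AtPrime P ⧸ (RingHom.ker f).map (algebraMap R (Localization.AtPrime P)))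
        = (e : WithBot ℕ∞) ∧
      (e : ℕ∞) ≤ LocCoh.depth (Localization.AtPrime P)
        (Localization.AtPrime P ⧸ (RingHom.ker f).map (algebraMap R (Localization.AtPrime P))) := by
  subst hP
  rw [H26Grass.supportDim_quot_eq f hf Q, H26Grass.depth_quot_eq f hf Q]
  have hloc : ringKrullDim (Localization.AtPrime Q) = (e : WithBot ℕ∞) := by
    rw [IsLocalization.AtPrime.ringKrullDim_eq_height Q (Localization.AtPrime Q), ← hQ, hdim]
  refine ⟨hloc, ?_⟩
  have := (H8Props.FlatDepth.isCM_iff_dim _).mp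
    (hC.isCohenMacaulayLocalRing_localization Q)
  rw [hloc] at this
  exact (WithBot.coe_inj.mp this).le

/-- With the conclusion at the irrelevant ideal: let K be a field, A a commutative Noetherian K-algebra
graded by ℕ with degree-zero part K, I and J homogeneous ideals of A such that A/I and A/J are
Cohen–Macaulay rings of Krull dimension e and A/(I + J) is a Cohen–Macaulay ring of Krull dimension
e - 1, where e ≥ 1. Let m be the image in A/(I ∩ J) of the irrelevant ideal A_+ (assumed prime; it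
is maximal). Then the local ring (A/(I ∩ J))_m is Cohen–Macaulay of Krull dimension e. (The
published lemma concludes that A/(I ∩ J) itself is Cohen–Macaulay of dimension e; this row states
the conclusion at the irrelevant ideal only, from which the global one follows by the graded
local–global principle.) -/
theorem result (K : Type u) [Field K] (A : Type v) [CommRing A]
    [Algebra K A] [IsNoetherianRing A] (𝒜 : ℕ → Submodule K A) [GradedAlgebra 𝒜]
    (h0 : ∀ a ∈ 𝒜 0, ∃ c : K, algebraMap K A c = a) (I J : Ideal A) (hI : I.IsHomogeneous 𝒜)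
    (hJ : J.IsHomogeneous 𝒜) (e : ℕ) (he : 1 ≤ e)
    (hIcm : LocCoh.IsCohenMacaulayRing (A ⧸ I)) (hJcm : LocCoh.IsCohenMacaulayRing (A ⧸ J))
    (hIJcm : LocCoh.IsCohenMacaulayRing (A ⧸ (I ⊔ J)))
    (hIdim : ringKrullDim (A ⧸ I) = (e : WithBot ℕ∞)) (hJdim : ringKrullDim (A ⧸ J) = (e : WithBot ℕ∞))
    (hIJdim : ringKrullDim (A ⧸ (I ⊔ J)) = ((e - 1 : ℕ) : WithBot ℕ∞))
    [hm : ((HomogeneousIdeal.irrelevant 𝒜).toIdeal.map (Ideal.Quotient.mk (I ⊓ J))).IsPrime] :
    LocCoh.IsCohenMacaulayLocalRing (Localization.AtPrime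
        ((HomogeneousIdeal.irrelevant 𝒜).toIdeal.map (Ideal.Quotient.mk (I ⊓ J)))) ∧
      ringKrullDim (Localization.AtPrime
        ((HomogeneousIdeal.irrelevant 𝒜).toIdeal.map (Ideal.Quotient.mk (I ⊓ J)))) = (e : WithBot ℕ∞) := by
  have key : ∀ H : Ideal A, H.IsHomogeneous 𝒜 → H ≠ ⊤ →
      H ≤ (HomogeneousIdeal.irrelevant 𝒜).toIdeal := by
    intro H hH hne x hx
    show GradedRing.proj 𝒜 0 x = 0
    rw [GradedRing.proj_apply]
    obtain ⟨c, hc⟩ := h0 _ (DirectSum.decompose 𝒜 x 0).2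
    by_contra hne0
    refine hne (Ideal.eq_top_of_isUnit_mem _ (hH 0 hx) ?_)
    rw [← hc]
    exact IsUnit.map (algebraMap K A) (isUnit_iff_ne_zero.mpr fun hc0 => hne0 (by
      rw [← hc, hc0, map_zero]))
  have hne : ∀ (H : Ideal A) (k : ℕ), ringKrullDim (A ⧸ H) = (k : WithBot ℕ∞) → H ≠ ⊤ := by
    rintro H k hk rfl
    have : Subsingleton (A ⧸ (⊤ : Ideal A)) := Ideal.Quotient.subsingleton_iff.mpr rfl
    rw [ringKrullDim_eq_bot_of_subsingleton] at hk
    exact (by simp : (⊥ : WithBot ℕ∞) ≠ (k : WithBot ℕ∞)) hk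
  have hirr : (HomogeneousIdeal.irrelevant 𝒜).toIdeal.IsPrime := by
    have h := hm.comap (Ideal.Quotient.mk (I ⊓ J))
    rwa [Ideal.comap_map_of_surjective _ Ideal.Quotient.mk_surjective, ← RingHom.ker_eq_comap_bot,
      Ideal.mk_ker, sup_eq_left.mpr (inf_le_left.trans (key I hI (hne I e hIdim)))] at h
  set m := (HomogeneousIdeal.irrelevant 𝒜).toIdeal.map (Ideal.Quotient.mk (I ⊓ J)) with hmdef
  have hp : ∀ (H : Ideal A) (hH : H.IsHomogeneous 𝒜) (hle : I ⊓ J ≤ H)
      (_ : LocCoh.IsCohenMacaulayRing (A ⧸ H)) (k : ℕ)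
      (_ : ringKrullDim (A ⧸ H) = (k : WithBot ℕ∞)),
      ringKrullDim (Localization.AtPrime m ⧸ (H.map (Ideal.Quotient.mk (I ⊓ J))).map
          (algebraMap _ (Localization.AtPrime m))) = (k : WithBot ℕ∞) ∧
        (k : ℕ∞) ≤ LocCoh.depth (Localization.AtPrime m) (Localization.AtPrime m ⧸
          (H.map (Ideal.Quotient.mk (I ⊓ J))).map (algebraMap _ (Localization.AtPrime m))) := by
    intro H hH hle hcm k hk
    have hHle : H ≤ (HomogeneousIdeal.irrelevant 𝒜).toIdeal := key H hH (hne H k hk)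
    have : ((HomogeneousIdeal.irrelevant 𝒜).toIdeal.map (Ideal.Quotient.mk H)).IsPrime :=
      Ideal.map_isPrime_of_surjective Ideal.Quotient.mk_surjective (by rwa [Ideal.mk_ker])
    have hker : RingHom.ker (Ideal.Quotient.factor hle) = H.map (Ideal.Quotient.mk (I ⊓ J)) :=
      Ideal.Quotient.factor_ker hle
    rw [← hker]
    refine piece _ (Ideal.Quotient.factor_surjective hle)
      ((HomogeneousIdeal.irrelevant 𝒜).toIdeal.map (Ideal.Quotient.mk H)) hcm k hk
      (H26Grass.Graded.ringKrullDim_eq_height_irrelevant hH h0 (Field.toIsField K)) m ?_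
    rw [hmdef, ← Ideal.Quotient.factor_comp_mk hle, ← Ideal.map_map, Ideal.comap_map_of_surjective _
      (Ideal.Quotient.factor_surjective hle), ← RingHom.ker_eq_comap_bot, hker, eq_comm, sup_eq_left]
    exact Ideal.map_mono hHle
  obtain ⟨hI1, hI2⟩ := hp I hI inf_le_left hIcm e hIdim
  obtain ⟨hJ1, hJ2⟩ := hp J hJ inf_le_right hJcm e hJdim
  obtain ⟨-, hK2⟩ := hp (I ⊔ J) (hI.sup hJ) (inf_le_left.trans le_sup_left) hIJcm (e - 1) hIJdim
  rw [Ideal.map_sup, Ideal.map_sup] at hK2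
  refine cm_of_two_pieces _ _ ?_ ?_ e hI1 hJ1.le hI2 hJ2 hK2
  · rw [← IsLocalization.map_inf m.primeCompl]
    suffices hz : I.map (Ideal.Quotient.mk (I ⊓ J)) ⊓ J.map (Ideal.Quotient.mk (I ⊓ J)) = ⊥ by
      rw [hz, Ideal.map_bot]
    rw [eq_bot_iff]
    rintro z ⟨hz1, hz2⟩
    obtain ⟨a, rfl⟩ := Ideal.Quotient.mk_surjective z
    have h1 : a ∈ I := by
      have : a ∈ (I.map (Ideal.Quotient.mk (I ⊓ J))).comap (Ideal.Quotient.mk (I ⊓ J)) := hz1
      rwa [Ideal.comap_map_of_surjective _ Ideal.Quotient.mk_surjective, ← RingHom.ker_eq_comap_bot,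
        Ideal.mk_ker, sup_eq_left.mpr inf_le_left] at this
    have h2 : a ∈ J := by
      have : a ∈ (J.map (Ideal.Quotient.mk (I ⊓ J))).comap (Ideal.Quotient.mk (I ⊓ J)) := hz2
      rwa [Ideal.comap_map_of_surjective _ Ideal.Quotient.mk_surjective, ← RingHom.ker_eq_comap_bot,
        Ideal.mk_ker, sup_eq_left.mpr inf_le_right] at this
    exact Ideal.mem_bot.mpr (Ideal.Quotient.eq_zero_iff_mem.mpr ⟨h1, h2⟩)
  · intro htop
    rw [← Ideal.Quotient.subsingleton_iff] at htop
    rw [ringKrullDim_eq_bot_of_subsingleton] at hI1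
    exact (by simp : (⊥ : WithBot ℕ∞) ≠ (e : WithBot ℕ∞)) hI1

end Groth.Agent.S11276
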