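import Groth.Statements.S11280
import Groth.Agent.H24Def.FlatFS
import Mathlib.Tactic

set_option autoImplicit false
set_option linter.style.haveILetI false
universe u
open Deform

namespace Groth.Agent.S11280

/-- Let k be an algebraically closed field, A a local Artinian k-algebra with residue field k and t an
element of the maximal ideal of A annihilated by the maximal ideal, so that A is a small extension
of A/tA. Let B be a flat A-algebra whose closed fibre B/m_A B is a formally smooth k-algebra (an
infinitesimal deformation over A of a formally smooth k-algebra). Then every A-algebra automorphism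
of B/tB is induced by an A-algebra automorphism of B. (The published statement asks the automorphism
of B/tB to induce the identity on B/m_A B; this row does not. The published statement takes the
closed fibre smooth, that is formally smooth and essentially of finite type; this row asks the
closed fibre to be formally smooth over k in the sense of lifting along all square-zero surjections
of commutative k-algebras, with no finiteness condition.) -/
theorem result
    {k : Type u} [Field k] [IsAlgClosed k]
    {A : Type u} [CommRing A] [Algebra k A] [IsLocalRing A] [IsArtinianRing A]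
    (hres : ∀ a : A, ∃ c : k, a - algebraMap k A c ∈ IsLocalRing.maximalIdeal A)
    (t : A) (ht : t ∈ IsLocalRing.maximalIdeal A)
    (htm : ∀ a ∈ IsLocalRing.maximalIdeal A, a * t = 0)
    {B : Type u} [CommRing B] [Algebra A B] [Module.Flat A B] [Algebra k B] [IsScalarTower k A B]
    (hsm : Algebra.FormallySmooth k (B ⧸ (IsLocalRing.maximalIdeal A).map (algebraMap A B)))
    (σ : (B ⧸ Ideal.span {algebraMap A B t}) ≃ₐ[A] (B ⧸ Ideal.span {algebraMap A B t})) :
    ∃ τ : B ≃ₐ[A] B, ∀ b : B,
      Ideal.Quotient.mk (Ideal.span {algebraMap A B t}) (τ b) =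
        σ (Ideal.Quotient.mk (Ideal.span {algebraMap A B t}) b) := by
    classical
    let t' := algebraMap A B t
    have hmnil : IsNilpotent (IsLocalRing.maximalIdeal A) := by
      rw [← IsLocalRing.jacobson_eq_maximalIdeal ⊥ bot_ne_top]
      exact IsArtinianRing.isNilpotent_jacobson_bot
    haveI : Algebra.FormallyUnramified k (A ⧸ IsLocalRing.maximalIdeal A) :=
      Algebra.FormallyUnramified.of_surjective (Algebra.ofId k _) fun z => by
        obtain ⟨a, rfl⟩ := Ideal.Quotient.mk_surjective z
        obtain ⟨c, hc⟩ := hres a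
        exact ⟨c, ((IsScalarTower.algebraMap_apply k A (A ⧸ IsLocalRing.maximalIdeal A) c)).trans (Ideal.Quotient.eq.mpr hc).symm⟩
    haveI := hsm
    haveI : IsScalarTower k (A ⧸ IsLocalRing.maximalIdeal A) (B ⧸ (IsLocalRing.maximalIdeal A).map (algebraMap A B)) :=
      IsScalarTower.of_algebraMap_eq fun c => congrArg (Ideal.Quotient.mk _) (IsScalarTower.algebraMap_apply k A B c)
    haveI : Algebra.FormallySmooth A B := Groth.Agent.H24Def.formallySmooth_of_flat_of_nilpotent _ hmnil
      (Algebra.FormallySmooth.of_restrictScalars k (A ⧸ IsLocalRing.maximalIdeal A) _)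
    have ht2 : t' * t' = 0 := by rw [← map_mul, htm t ht, map_zero]
    have hnil : IsNilpotent (RingHom.ker (Ideal.Quotient.mkₐ A (Ideal.span {t'}))) :=
      ⟨2, by rw [show RingHom.ker (Ideal.Quotient.mkₐ A (Ideal.span {t'})) = Ideal.span {t'} from Ideal.mk_ker, Ideal.span_singleton_pow, pow_two, ht2, Ideal.span_singleton_eq_bot.mpr rfl, Ideal.zero_eq_bot]⟩
    let lift := fun (ρ : (B ⧸ Ideal.span {t'}) ≃ₐ[A] (B ⧸ Ideal.span {t'})) =>
      Algebra.FormallySmooth.liftOfSurjective (ρ.toAlgHom.comp (Ideal.Quotient.mkₐ A _)) (Ideal.Quotient.mkₐ A (Ideal.span {t'}))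
        Ideal.Quotient.mk_surjective hnil
    have hlift : ∀ ρ b, Ideal.Quotient.mk (Ideal.span {t'}) (lift ρ b) = ρ (Ideal.Quotient.mk (Ideal.span {t'}) b) :=
      fun ρ b => Algebra.FormallySmooth.liftOfSurjective_apply (ρ.toAlgHom.comp (Ideal.Quotient.mkₐ A _))
        (Ideal.Quotient.mkₐ A (Ideal.span {t'})) Ideal.Quotient.mk_surjective hnil b
    have hbij : ∀ g : B →ₐ[A] B, (∀ b, g b - b ∈ Ideal.span {t'}) → Function.Bijective g := by
      intro g hg
      have hgt : ∀ c, g (t' * c) = t' * c := fun c => by
        obtain ⟨d, hd⟩ := Ideal.mem_span_singleton'.mp (hg c)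
        rw [map_mul, show g t' = t' from g.commutes t, eq_add_of_sub_eq hd.symm, mul_add, mul_left_comm, ht2, mul_zero, zero_add]
      refine ⟨(injective_iff_map_eq_zero _).mpr fun b hb => ?_, fun b => ?_⟩
      · obtain ⟨d, hd⟩ := Ideal.mem_span_singleton'.mp (hg b)
        rw [hb, zero_sub] at hd
        have := hgt (-d)
        rw [mul_neg, mul_comm, hd, neg_neg, hb] at this
        exact this.symm
      · obtain ⟨d, hd⟩ := Ideal.mem_span_singleton'.mp (hg b)
        refine ⟨b - t' * d, ?_⟩
        rw [map_sub, hgt, eq_add_of_sub_eq hd.symm]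
        ring
    have h12 : Function.Bijective ((lift σ).comp (lift σ.symm)) := hbij _ fun b => Ideal.Quotient.eq.mp (by
      rw [AlgHom.comp_apply, hlift, hlift, AlgEquiv.apply_symm_apply])
    have h21 : Function.Bijective ((lift σ.symm).comp (lift σ)) := hbij _ fun b => Ideal.Quotient.eq.mp (by
      rw [AlgHom.comp_apply, hlift, hlift, AlgEquiv.symm_apply_apply])
    exact ⟨AlgEquiv.ofBijective (lift σ) ⟨Function.Injective.of_comp (f := lift σ.symm) h21.1, Function.Surjective.of_comp (g := lift σ.symm) h12.2⟩, fun b => hlift σ b⟩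

end Groth.Agent.S11280
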