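import Groth.Statements.S11282
import Groth.Agent.H02CA.PowerSeries
import Groth.Agent.H02CA.AdicSmooth
import Groth.Agent.H24Art.PowerSeries
import Groth.Agent.H24Cot.SmallLift
import Groth.Agent.H05EGA4.FlatPresentation

set_option autoImplicit false
set_option linter.style.haveILetI false
universe u
open Deform

namespace Groth.Agent.S11282Aux

open IsLocalRing Groth.Agent

variable {P : Type u} [CommRing P] [IsLocalRing P] [IsNoetherianRing P] [IsAdicComplete (maximalIdeal P) P]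

/-- Compatible kernels are close to their intersection. -/
theorem le_iInf_sup (K : ℕ → Ideal P) (hmono : Antitone K) (hpow : ∀ N, maximalIdeal P ^ (N + 1) ≤ K N)
    (hstep : ∀ N, K N ≤ K (N + 1) ⊔ maximalIdeal P ^ (N + 1)) (N : ℕ) :
    K N ≤ (⨅ j, K j) ⊔ maximalIdeal P ^ (N + 1) := by
  intro p hp
  have hex : ∀ (M : ℕ) (x : P), x ∈ K M → ∃ y ∈ K (M + 1), x - y ∈ maximalIdeal P ^ (M + 1) := by
    intro M x hx
    obtain ⟨y, hy, q, hq, rfl⟩ := Submodule.mem_sup.mp (hstep M hx)
    exact ⟨y, hy, by simpa using hq⟩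
  choose f hf1 hf2 using hex
  let seq : ∀ i : ℕ, {x : P // x ∈ K (N + i)} := fun i => by
    induction i with
    | zero => exact ⟨p, hp⟩
    | succ i ih => exact ⟨f _ ih.1 ih.2, hf1 _ ih.1 ih.2⟩
  have hstep' : ∀ i, (seq i).1 - (seq (i + 1)).1 ∈ maximalIdeal P ^ (N + i + 1) := fun i => hf2 _ _ _
  have hdiff : ∀ i j, i ≤ j → (seq i).1 - (seq j).1 ∈ maximalIdeal P ^ (N + i + 1) := by
    intro i j hij
    induction j, hij using Nat.le_induction with
    | base => simp
    | succ j hij ih =>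
      have h1 := Ideal.pow_le_pow_right (show N + i + 1 ≤ N + j + 1 by omega) (hstep' j)
      simpa using Ideal.add_mem _ ih h1
  have hcauchy : ∀ {m n : ℕ}, m ≤ n → (seq m).1 ≡ (seq n).1 [SMOD (maximalIdeal P ^ m • ⊤ : Submodule P P)] := by
    intro m n hmn
    rw [SModEq.sub_mem, smul_eq_mul, Ideal.mul_top]
    exact Ideal.pow_le_pow_right (by omega) (hdiff m n hmn)
  obtain ⟨L, hL⟩ := IsPrecomplete.prec (inferInstance : IsPrecomplete (maximalIdeal P) P) hcauchy
  have hL' : ∀ i, (seq i).1 - L ∈ maximalIdeal P ^ i := fun i => by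
    have := hL i
    rwa [SModEq.sub_mem, smul_eq_mul, Ideal.mul_top] at this
  have hLmem : L ∈ ⨅ j, K j := by
    refine Ideal.mem_iInf.mpr fun j => ?_
    have h1 : (seq (j + 1)).1 - L ∈ K j := hpow j (hL' (j + 1))
    have h2 : (seq (j + 1)).1 ∈ K j := hmono (show j ≤ N + (j + 1) by omega) (seq (j + 1)).2
    simpa using sub_mem h2 h1
  refine Submodule.mem_sup.mpr ⟨L, hLmem, p - L, ?_, by ring⟩
  have h1 := Ideal.add_mem _ (Ideal.pow_le_pow_right (show N + 1 ≤ N + 0 + 1 by omega) (hdiff 0 (N + 1) (Nat.zero_le _)))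
    (hL' (N + 1))
  simpa [seq] using h1

variable {Λ R : Type u} [CommRing Λ] [IsLocalRing Λ] [IsNoetherianRing Λ] [IsAdicComplete (maximalIdeal Λ) Λ]
  [CommRing R] [Algebra Λ R] [IsLocalRing R] [IsNoetherianRing R] [IsLocalHom (algebraMap Λ R)]

theorem exists_uniform (hR : ∀ r : R, ∃ a : Λ, r - algebraMap Λ R a ∈ maximalIdeal R) :
    ∃ n : ℕ, ∀ X : Exal.Ext Λ R (ResidueField R),
      ∃ I : Ideal X.E, (∀ x ∈ I, X.proj x = 0 → x = 0) ∧ Ideal.map X.proj I = maximalIdeal R ^ (n + 1) := by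
  obtain ⟨d, g, hg⟩ := Submodule.fg_iff_exists_fin_generating_family.mp
    (IsNoetherian.noetherian (maximalIdeal R))
  let P := MvPowerSeries (Fin d) Λ
  haveI hP : IsAdicComplete (maximalIdeal P) P := H24Art.isAdicComplete_mvPowerSeries
  have hgm : ∀ i, g i ∈ maximalIdeal R := fun i => hg.le (Submodule.subset_span ⟨i, rfl⟩)
  let Q : ℕ → Type u := fun N => R ⧸ maximalIdeal R ^ (N + 1)
  let mQ : ∀ N, Ideal (Q N) := fun N => (maximalIdeal R).map (Ideal.Quotient.mk (maximalIdeal R ^ (N + 1)))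
  have hmQ : ∀ N, mQ N ^ (N + 1) = ⊥ := fun N => by
    simp only [mQ]
    rw [← Ideal.map_pow, Ideal.map_quotient_self]
  haveI : ∀ N, IsAdicComplete (mQ N) (Q N) := fun N => H02CA.AdicSmooth.isAdicComplete_of_pow_eq_bot (hmQ N)
  have hexφ : ∀ N, ∃ φ : P →ₐ[Λ] Q N, ∀ i, φ (MvPowerSeries.X i) = Ideal.Quotient.mk _ (g i) := fun N =>
    H02CA.PS.exists_algHom (mQ N) _ fun i => Ideal.mem_map_of_mem _ (hgm i)
  choose φ hφ using hexφ
  have hsurj : ∀ N, Function.Surjective (φ N) := by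
    intro N x
    obtain ⟨r, rfl⟩ := Ideal.Quotient.mk_surjective x
    let S : Subalgebra Λ (Q N) := (φ N).range
    have hlift : ∀ r : R, ∃ a : Λ, Ideal.Quotient.mk (maximalIdeal R ^ (N + 1)) r -
        algebraMap Λ (Q N) a ∈ mQ N := fun r => by
      obtain ⟨a, ha⟩ := hR r
      refine ⟨a, ?_⟩
      have h1 := Ideal.mem_map_of_mem (Ideal.Quotient.mk (maximalIdeal R ^ (N + 1))) ha
      rwa [map_sub] at h1
    have hall : ∀ j, ∀ y : Q N, ∃ s ∈ S, y - s ∈ mQ N ^ j := by
      intro j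
      induction j with
      | zero => exact fun y => ⟨0, S.zero_mem, by simp⟩
      | succ j ih =>
        intro y
        obtain ⟨r, rfl⟩ := Ideal.Quotient.mk_surjective y
        obtain ⟨a, ha⟩ := hlift r
        have hspan : mQ N = Ideal.span (Set.range fun i => φ N (MvPowerSeries.X i)) := by
          refine ((congrArg (Ideal.map (Ideal.Quotient.mk (maximalIdeal R ^ (N + 1)))) hg.symm).trans
            (Ideal.map_span _ _)).trans (congrArg Ideal.span ?_)
          rw [← Set.range_comp]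
          exact congrArg Set.range (funext fun i => (hφ N i).symm)
        rw [hspan] at ha
        obtain ⟨c, hc⟩ := (Submodule.mem_span_range_iff_exists_fun _).mp ha
        choose s hs hs' using fun i => ih (c i)
        refine ⟨algebraMap Λ (Q N) a + ∑ i, s i * φ N (MvPowerSeries.X i),
          S.add_mem (S.algebraMap_mem a) (Subalgebra.sum_mem _ fun i _ => S.mul_mem (hs i) ⟨_, rfl⟩), ?_⟩
        have e : Ideal.Quotient.mk (maximalIdeal R ^ (N + 1)) r -
            (algebraMap Λ (Q N) a + ∑ i, s i * φ N (MvPowerSeries.X i)) =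
            ∑ i, (c i - s i) * φ N (MvPowerSeries.X i) := by
          rw [← sub_sub, ← hc]
          simp only [smul_eq_mul, sub_mul, Finset.sum_sub_distrib]
        rw [e]
        refine Ideal.sum_mem _ fun i _ => ?_
        rw [pow_succ (mQ N) j]
        exact Ideal.mul_mem_mul (hs' i) (hφ N i ▸ Ideal.mem_map_of_mem _ (hgm i))
    obtain ⟨s, hs, hsr⟩ := hall (N + 1) (Ideal.Quotient.mk _ r)
    rw [hmQ N, Ideal.mem_bot, sub_eq_zero] at hsr
    exact hsr ▸ hs
  haveI : ∀ N, Nontrivial (Q N) := fun N => Ideal.Quotient.nontrivial_iff.mpr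
    (ne_top_of_le_ne_top (maximalIdeal.isMaximal R).ne_top (Ideal.pow_le_self N.succ_ne_zero))
  haveI : ∀ N, IsLocalRing (Q N) := fun N => IsLocalRing.of_surjective' _ Ideal.Quotient.mk_surjective
  have hmax : ∀ N, (maximalIdeal P).map (φ N).toRingHom = mQ N := fun N =>
    (IsLocalRing.map_maximalIdeal_of_surjective (φ N).toRingHom (hsurj N)).trans
      (IsLocalRing.map_maximalIdeal_of_surjective (Ideal.Quotient.mk (maximalIdeal R ^ (N + 1)))
        Ideal.Quotient.mk_surjective).symm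
  let π : ∀ {M N : ℕ}, M ≤ N → (Q N →ₐ[Λ] Q M) := fun {M N} h =>
    Ideal.Quotient.factorₐ Λ (Ideal.pow_le_pow_right (Nat.succ_le_succ h))
  have hcompat : ∀ {M N : ℕ} (h : M ≤ N), (π h).comp (φ N) = φ M := fun {M N} h =>
    H02CA.PS.algHom_ext (mQ M) (fun i => by
      rw [AlgHom.comp_apply, hφ]
      exact Ideal.mem_map_of_mem _ (hgm i)) (fun i => by rw [AlgHom.comp_apply, hφ, hφ]; rfl)
  let K : ℕ → Ideal P := fun N => RingHom.ker (φ N).toRingHom
  have hmono : Antitone K := fun M N h p hp => by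
    change φ M p = 0
    rw [← hcompat h, AlgHom.comp_apply, show φ N p = 0 from hp, map_zero]
  have hpow : ∀ N, maximalIdeal P ^ (N + 1) ≤ K N := fun N p hp => by
    have h1 := Ideal.mem_map_of_mem (φ N).toRingHom hp
    rw [Ideal.map_pow, hmax, hmQ] at h1
    exact h1
  have hstep : ∀ N, K N ≤ K (N + 1) ⊔ maximalIdeal P ^ (N + 1) := fun N p hp => by
    obtain ⟨r, hr⟩ := Ideal.Quotient.mk_surjective (φ (N + 1) p)
    have hr0 : r ∈ maximalIdeal R ^ (N + 1) := by
      rw [← Ideal.Quotient.eq_zero_iff_mem]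
      have h0 : φ N p = 0 := hp
      rw [← hcompat (Nat.le_succ N), AlgHom.comp_apply, ← hr] at h0
      exact h0
    have h1 : φ (N + 1) p ∈ (maximalIdeal P ^ (N + 1)).map (φ (N + 1)).toRingHom := by
      rw [Ideal.map_pow, hmax, show mQ (N + 1) ^ (N + 1) = (maximalIdeal R ^ (N + 1)).map
        (Ideal.Quotient.mk (maximalIdeal R ^ (N + 1 + 1))) from (Ideal.map_pow _ _ _).symm, ← hr]
      exact Ideal.mem_map_of_mem _ hr0
    obtain ⟨q, hq, hqp⟩ := (Ideal.mem_map_iff_of_surjective (φ (N + 1)).toRingHom (hsurj _)).mp h1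
    exact Submodule.mem_sup.mpr ⟨p - q, by
      change φ (N + 1) (p - q) = 0
      rw [map_sub, sub_eq_zero]; exact hqp.symm, q, hq, sub_add_cancel p q⟩
  obtain ⟨k, hk⟩ := (maximalIdeal P).exists_pow_inf_eq_pow_smul (⨅ j, K j : Ideal P)
  refine ⟨k + 1, fun X => ?_⟩
  haveI := H24Cot.SmallLift.isLocalRing_E X
  haveI := H24Cot.SmallLift.isNoetherianRing_E X
  set mE := maximalIdeal X.E
  refine ⟨mE ^ (k + 1 + 1), ?_, ?_⟩
  swap
  · change Ideal.map X.proj.toRingHom _ = _
    rw [Ideal.map_pow, IsLocalRing.map_maximalIdeal_of_surjective X.proj.toRingHom X.isExtension.proj_surjective]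
  intro x hx hx0
  obtain ⟨z, rfl⟩ := (X.isExtension.exact x).mp hx0
  by_contra hne
  have hz : z ≠ 0 := fun h => hne (by rw [h, map_zero])
  have hεI : X.incl 1 ∈ mE ^ (k + 1 + 1) := H24Cot.SmallLift.eps_mem_of_incl_mem X hx hz
  set ε := X.incl 1
  have hε0 : ε ≠ 0 := fun h => one_ne_zero (α := ResidueField R)
    (X.isExtension.incl_injective (h.trans (map_zero _).symm))
  obtain ⟨N0, hN0⟩ : ∃ N, ε ∉ mE ^ (N + 1) := by
    by_contra h
    push Not at h
    refine hε0 ?_
    rw [← Ideal.mem_bot, ← Ideal.iInf_pow_eq_bot_of_isLocalRing mE (maximalIdeal.isMaximal _).ne_top]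
    refine Ideal.mem_iInf.mpr fun i => Ideal.pow_le_pow_right (Nat.le_succ i) (h i)
  obtain ⟨N, hN, hkN⟩ : ∃ N, ε ∉ mE ^ (N + 1) ∧ k + 1 ≤ N :=
    ⟨max N0 (k + 1), fun h => hN0 (Ideal.pow_le_pow_right (by omega) h), le_max_right _ _⟩
  apply hN
  let E' := X.E ⧸ mE ^ (N + 1)
  haveI : Nontrivial E' := Ideal.Quotient.nontrivial_iff.mpr
    (ne_top_of_le_ne_top (maximalIdeal.isMaximal X.E).ne_top (Ideal.pow_le_self N.succ_ne_zero))
  let mk : X.E →ₐ[Λ] E' := Ideal.Quotient.mkₐ Λ (mE ^ (N + 1))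
  let m' : Ideal E' := mE.map mk.toRingHom
  have hm'pow : m' ^ (N + 1) = ⊥ := by
    rw [← Ideal.map_pow]
    exact Ideal.map_quotient_self _
  haveI : IsAdicComplete m' E' := H02CA.AdicSmooth.isAdicComplete_of_pow_eq_bot hm'pow
  choose y hy using fun i => X.isExtension.proj_surjective (g i)
  have hym : ∀ i, y i ∈ mE := fun i => (mem_maximalIdeal _).mpr fun hu =>
    (mem_maximalIdeal _).mp (hgm i) (hy i ▸ hu.map X.proj)
  obtain ⟨u, hu⟩ := H02CA.PS.exists_algHom (R := Λ) m' (fun i => mk (y i)) fun i => Ideal.mem_map_of_mem _ (hym i)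
  have hpr : ∀ e ∈ mE ^ (N + 1), X.proj e ∈ maximalIdeal R ^ (N + 1) := fun e he => by
    have h1 := Ideal.mem_map_of_mem X.proj.toRingHom he
    rw [Ideal.map_pow, IsLocalRing.map_maximalIdeal_of_surjective X.proj.toRingHom X.isExtension.proj_surjective]
      at h1
    exact h1
  let pr : E' →ₐ[Λ] Q N := Ideal.Quotient.liftₐ _ ((Ideal.Quotient.mkₐ Λ (maximalIdeal R ^ (N + 1))).comp X.proj)
    fun e he => Ideal.Quotient.eq_zero_iff_mem.mpr (hpr e he)
  have hprmk : ∀ e, pr (mk e) = Ideal.Quotient.mk _ (X.proj e) := fun e => rfl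
  have hpru : pr.comp u = φ N := H02CA.PS.algHom_ext (mQ N)
    (fun i => by rw [AlgHom.comp_apply, hu, hprmk, hy]; exact Ideal.mem_map_of_mem _ (hgm i))
    (fun i => by rw [AlgHom.comp_apply, hu, hprmk, hy, hφ])
  set ε' := mk ε
  have hεann : ∀ e ∈ m', e * ε' = 0 := fun e he => by
    obtain ⟨e0, he0, rfl⟩ := (Ideal.mem_map_iff_of_surjective mk.toRingHom Ideal.Quotient.mk_surjective).mp he
    change mk e0 * mk ε = 0
    rw [← map_mul, X.isExtension.mul_incl, Algebra.smul_def, mul_one, IsLocalRing.ResidueField.algebraMap_eq,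
      (residue_eq_zero_iff _).mpr ((mem_maximalIdeal _).mpr fun hu => (mem_maximalIdeal e0).mp he0
        (H24Cot.SmallLift.isUnit_of_isUnit_proj X hu)), map_zero, map_zero]
  have hker : ∀ e', pr e' = 0 → e' ∈ Ideal.span {ε'} := fun e' he' => by
    obtain ⟨e, rfl⟩ := Ideal.Quotient.mk_surjective e'
    have h1 : X.proj e ∈ maximalIdeal R ^ (N + 1) := Ideal.Quotient.eq_zero_iff_mem.mp he'
    rw [← IsLocalRing.map_maximalIdeal_of_surjective X.proj.toRingHom X.isExtension.proj_surjective,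
      ← Ideal.map_pow] at h1
    obtain ⟨e2, he2, heq⟩ := (Ideal.mem_map_iff_of_surjective X.proj.toRingHom X.isExtension.proj_surjective).mp h1
    obtain ⟨w, hw⟩ := (X.isExtension.exact (e - e2)).mp (by
      rw [map_sub, sub_eq_zero]; exact heq.symm)
    obtain ⟨c, hc⟩ := H24Cot.SmallLift.exists_mul_eps X w
    refine Ideal.mem_span_singleton'.mpr ⟨mk c, ?_⟩
    rw [← map_mul, ← hc, hw, map_sub, show mk e2 = 0 from Ideal.Quotient.eq_zero_iff_mem.mpr he2, sub_zero]
    rfl
  have hum : ∀ p ∈ maximalIdeal P, u p ∈ m' := fun p hp => by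
    have h1 := Ideal.mem_map_of_mem (φ N).toRingHom hp
    rw [hmax] at h1
    obtain ⟨r, hr, hrp⟩ := (Ideal.mem_map_iff_of_surjective _ Ideal.Quotient.mk_surjective).mp h1
    obtain ⟨e, rfl⟩ := X.isExtension.proj_surjective r
    have h2 : pr (u p - mk e) = 0 := by
      rw [map_sub, hprmk, hrp]
      exact sub_eq_zero.mpr (AlgHom.congr_fun hpru p)
    have he : e ∈ mE := (mem_maximalIdeal _).mpr fun hu => (mem_maximalIdeal _).mp hr (hu.map X.proj)
    have hle : Ideal.span {ε'} ≤ m' := (Ideal.span_singleton_le_iff_mem _).mpr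
      (Ideal.mem_map_of_mem _ (Ideal.pow_le_self (Nat.succ_ne_zero _) hεI))
    have := Ideal.add_mem _ (hle (hker _ h2)) (Ideal.mem_map_of_mem mk.toRingHom he)
    simpa using this
  have hgen : m' ≤ (maximalIdeal P).map u.toRingHom ⊔ Ideal.span {ε'} := fun e' he' => by
    obtain ⟨e, he, rfl⟩ := (Ideal.mem_map_iff_of_surjective mk.toRingHom Ideal.Quotient.mk_surjective).mp he'
    obtain ⟨p, hp⟩ := hsurj N (Ideal.Quotient.mk _ (X.proj e))
    have h2 : pr (mk e - u p) = 0 := by
      rw [map_sub, hprmk, ← hp]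
      exact sub_eq_zero.mpr (AlgHom.congr_fun hpru p).symm
    have hpm : p ∈ maximalIdeal P := (mem_maximalIdeal _).mpr fun hup => by
      have h3 := hup.map (φ N)
      rw [hp] at h3
      haveI : IsLocalHom (Ideal.Quotient.mk (maximalIdeal R ^ (N + 1))) :=
        IsLocalHom.of_surjective _ Ideal.Quotient.mk_surjective
      exact (mem_maximalIdeal e).mp he (H24Cot.SmallLift.isUnit_of_isUnit_proj X
        ((isUnit_map_iff _ _).mp h3))
    exact Submodule.mem_sup.mpr ⟨u p, Ideal.mem_map_of_mem _ hpm, mk e - u p, hker _ h2, add_sub_cancel _ _⟩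
  have hεm : Ideal.span {ε'} * m' = ⊥ := by
    rw [eq_bot_iff, Ideal.mul_le]
    intro a ha b hb
    obtain ⟨c, rfl⟩ := Ideal.mem_span_singleton'.mp ha
    rw [Ideal.mem_bot, mul_assoc, mul_comm ε', hεann b hb, mul_zero]
  have hpowle : ∀ j : ℕ, m' ^ (j + 2) ≤ (maximalIdeal P ^ (j + 2)).map u.toRingHom := by
    have hum' : (maximalIdeal P).map u.toRingHom ≤ m' := Ideal.map_le_iff_le_comap.mpr hum
    intro j
    induction j with
    | zero =>
      rw [Ideal.map_pow, pow_two, pow_two]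
      refine (Ideal.mul_mono hgen le_rfl).trans ?_
      rw [Ideal.sup_mul, hεm, sup_bot_eq]
      refine (Ideal.mul_mono le_rfl hgen).trans ?_
      rw [Ideal.mul_sup]
      refine sup_le le_rfl ?_
      rw [mul_comm]
      exact ((Ideal.mul_mono le_rfl hum').trans hεm.le).trans bot_le
    | succ j ih =>
      rw [pow_succ m' (j + 2), pow_succ (maximalIdeal P) (j + 2), Ideal.map_mul]
      refine (Ideal.mul_mono ih hgen).trans ?_
      rw [Ideal.mul_sup]
      refine sup_le le_rfl ?_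
      rw [mul_comm]
      refine ((Ideal.mul_mono le_rfl ?_).trans hεm.le).trans bot_le
      exact (Ideal.map_mono (Ideal.pow_le_self (by omega))).trans hum'
  have hεu : ∃ p ∈ maximalIdeal P ^ (k + 1 + 1), ε' = u p := by
    have h1 : ε' ∈ (maximalIdeal P ^ (k + 1 + 1)).map u.toRingHom := by
      refine hpowle k ?_
      rw [show k + 2 = k + 1 + 1 from rfl, ← Ideal.map_pow]
      exact Ideal.mem_map_of_mem _ hεI
    refine Submodule.span_induction (p := fun x _ => ∃ p ∈ maximalIdeal P ^ (k + 1 + 1), x = u p)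
      ?_ ?_ ?_ ?_ h1
    · rintro _ ⟨p, hp, rfl⟩; exact ⟨p, hp, rfl⟩
    · exact ⟨0, Ideal.zero_mem _, (map_zero u).symm⟩
    · rintro _ _ _ _ ⟨p, hp, rfl⟩ ⟨q, hq, rfl⟩
      exact ⟨p + q, Ideal.add_mem _ hp hq, (map_add u p q).symm⟩
    · rintro c _ _ ⟨p, hp, rfl⟩
      obtain ⟨q, hq⟩ := hsurj N (pr c)
      have h2 : pr (c - u q) = 0 := by
        rw [map_sub, ← hq]
        exact sub_eq_zero.mpr (AlgHom.congr_fun hpru q).symm
      obtain ⟨w, hw⟩ := Ideal.mem_span_singleton'.mp (hker _ h2)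
      refine ⟨q * p, Ideal.mul_mem_left _ _ hp, ?_⟩
      rw [smul_eq_mul, map_mul]
      have h3 : ε' * u p = 0 := by
        rw [mul_comm]; exact hεann _ (hum p (Ideal.pow_le_self (by omega) hp))
      linear_combination -(u p) * hw + w * h3
  obtain ⟨p, hp, hεp⟩ := hεu
  have hεpr : pr ε' = 0 := by
    rw [hprmk, (X.isExtension.exact _).mpr ⟨1, rfl⟩, map_zero]
  have hpK : p ∈ K N := by
    have h1 := AlgHom.congr_fun hpru p
    rw [AlgHom.comp_apply, ← hεp, hεpr] at h1
    exact h1.symm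
  obtain ⟨j, hj, q, hq, hjq⟩ := Submodule.mem_sup.mp (le_iInf_sup K hmono hpow hstep N hpK)
  have huq : u q = 0 := by
    have h1 := Ideal.mem_map_of_mem u.toRingHom hq
    have h2 : (maximalIdeal P ^ (N + 1)).map u.toRingHom ≤ ⊥ := by
      rw [Ideal.map_pow, ← hm'pow]
      exact Ideal.pow_right_mono (Ideal.map_le_iff_le_comap.mpr hum) _
    exact h2 h1
  have hjpow : j ∈ maximalIdeal P ^ (k + 1 + 1) := by
    have h1 : p - q ∈ maximalIdeal P ^ (k + 1 + 1) :=
      Ideal.sub_mem _ hp (Ideal.pow_le_pow_right (by omega) hq)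
    rwa [← hjq, add_sub_cancel_right] at h1
  have huj : u j = 0 := by
    have h1 : j ∈ maximalIdeal P ^ (k + 1 + 1) • (⊤ : Submodule P P) ⊓ (⨅ i, K i) :=
      ⟨by rw [smul_eq_mul, Ideal.mul_top]; exact hjpow, hj⟩
    rw [hk _ (by omega), show k + 1 + 1 - k = 1 + 1 by omega] at h1
    refine Submodule.smul_induction_on h1 (fun a ha b hb => ?_) fun a b ha hb => by rw [map_add, ha, hb, add_zero]
    have hbK : b ∈ K N := (iInf_le K N) hb.2
    have hb' : u b ∈ Ideal.span {ε'} := hker _ ((AlgHom.congr_fun hpru b).trans hbK)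
    obtain ⟨c, hc⟩ := Ideal.mem_span_singleton'.mp hb'
    have h4 := hεann _ (hum a (Ideal.pow_le_self (by omega) ha))
    rw [smul_eq_mul, map_mul, ← hc]
    linear_combination c * h4
  have : ε' = 0 := by rw [hεp, ← hjq, map_add, huj, huq, add_zero]
  exact Ideal.Quotient.eq_zero_iff_mem.mp this

end Groth.Agent.S11282Aux

open Groth.Agent
namespace Groth.Agent.S11282

/-- Let k be an algebraically closed field, Λ a complete local Noetherian k-algebra with residue field
k, and R a local Noetherian Λ-algebra with local structure map, residue field k and maximal ideal m.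
Then for some n the pull-back map o((R/m^(n+1))/Λ) → o(R/Λ) on obstruction spaces is onto: every
Λ-extension 0 → k → E → R → 0 of R by its residue field is the inverse image of a Λ-extension of
R/m^(n+1) by k. Concretely, the middle ring E of every such extension contains an ideal I which
meets the kernel k only in 0 and whose image in R is exactly m^(n+1) (then E/I is an extension of
R/m^(n+1) by k whose inverse image along R → R/m^(n+1) is E). -/
theorem result
    {k : Type u} [Field k] [IsAlgClosed k]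
    {Λ : Type u} [CommRing Λ] [Algebra k Λ] [IsLocalRing Λ] [IsNoetherianRing Λ]
    [IsAdicComplete (IsLocalRing.maximalIdeal Λ) Λ]
    (hΛ : ∀ a : Λ, ∃ c : k, a - algebraMap k Λ c ∈ IsLocalRing.maximalIdeal Λ)
    {R : Type u} [CommRing R] [Algebra Λ R] [IsLocalRing R] [IsNoetherianRing R]
    [IsLocalHom (algebraMap Λ R)]
    (hR : ∀ r : R, ∃ c : k, r - algebraMap Λ R (algebraMap k Λ c) ∈ IsLocalRing.maximalIdeal R) :
    ∃ n : ℕ, ∀ X : Exal.Ext Λ R (IsLocalRing.ResidueField R),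
      ∃ I : Ideal X.E, (∀ x ∈ I, X.proj x = 0 → x = 0) ∧
        Ideal.map X.proj I = IsLocalRing.maximalIdeal R ^ (n + 1) := by
  exact S11282Aux.exists_uniform (fun r => by
    obtain ⟨c, hc⟩ := hR r
    exact ⟨_, hc⟩)

end Groth.Agent.S11282
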