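import Groth.Statements.S11283
import Groth.Agent.H3CAlg.SqZeroComplete
import Groth.Agent.H05EGA4.CTensor
import Groth.Agent.H24Adic.CompletionNoetherian

set_option autoImplicit false
set_option linter.style.haveILetI false
universe u
open Deform

namespace Groth.Agent.S11283Aux

open IsLocalRing Groth.Agent

section Ext

variable {A B L : Type u} [CommRing A] [CommRing B] [Algebra A B] [IsLocalRing B] [IsNoetherianRing B]
  [AddCommGroup L] [Module B L] [IsSimpleModule B L]

theorem smul_eq_zero_of_mem {b : B} (hb : b ∈ maximalIdeal B) (z : L) : b • z = 0 := by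
  rw [← IsLocalRing.eq_maximalIdeal (IsSimpleModule.annihilator_isMaximal (R := B) (M := L)),
    Module.mem_annihilator] at hb
  exact hb z

variable (X : Exal.Ext A B L)

theorem proj_incl (z : L) : X.proj (X.incl z) = 0 := (X.isExtension.exact _).mpr ⟨z, rfl⟩

theorem ker_sq : RingHom.ker X.proj.toRingHom ^ 2 = ⊥ := by
  rw [eq_bot_iff, pow_two, Ideal.mul_le]
  intro a ha b hb
  obtain ⟨z, rfl⟩ := (X.isExtension.exact a).mp ha
  obtain ⟨w, rfl⟩ := (X.isExtension.exact b).mp hb
  rw [Ideal.mem_bot, X.isExtension.mul_incl, proj_incl]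
  exact (congrArg X.incl (zero_smul B w)).trans (map_zero _)

theorem ker_fg : (RingHom.ker X.proj.toRingHom).FG := by
  haveI := IsSimpleModule.nontrivial B L
  obtain ⟨l, hl⟩ := exists_ne (0 : L)
  refine ⟨{X.incl l}, le_antisymm ?_ fun a ha => ?_⟩
  · simpa [Ideal.span_singleton_le_iff_mem] using proj_incl X l
  · obtain ⟨z, rfl⟩ := (X.isExtension.exact a).mp ha
    obtain ⟨r, hr⟩ := IsSimpleModule.toSpanSingleton_surjective B hl z
    obtain ⟨e, rfl⟩ := X.isExtension.proj_surjective r
    rw [← hr, LinearMap.toSpanSingleton_apply, ← X.isExtension.mul_incl]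
    exact Ideal.mul_mem_left _ _ (by simp)

theorem isLocalRing_E : IsLocalRing X.E := by
  haveI : Nontrivial X.E := X.isExtension.proj_surjective.nontrivial
  refine IsLocalRing.of_isUnit_or_isUnit_one_sub_self fun e => ?_
  rcases IsLocalRing.isUnit_or_isUnit_one_sub_self (X.proj e) with h | h
  · exact Or.inl ((H3CAlg.SqZeroComplete.isUnit_iff X.proj.toRingHom X.isExtension.proj_surjective (ker_sq X) e).mp h)
  · refine Or.inr ((H3CAlg.SqZeroComplete.isUnit_iff X.proj.toRingHom X.isExtension.proj_surjective (ker_sq X) _).mp ?_)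
    change IsUnit (X.proj (1 - e))
    rwa [map_sub, map_one]

theorem isNoetherianRing_E : IsNoetherianRing X.E :=
  H3CAlg.SqZeroComplete.isNoetherianRing X.proj.toRingHom X.isExtension.proj_surjective (ker_sq X) (ker_fg X)

theorem mem_max_iff [IsLocalRing X.E] {e : X.E} : e ∈ maximalIdeal X.E ↔ X.proj e ∈ maximalIdeal B := by
  rw [mem_maximalIdeal, mem_maximalIdeal, mem_nonunits_iff, mem_nonunits_iff]
  exact not_congr (H3CAlg.SqZeroComplete.isUnit_iff X.proj.toRingHom X.isExtension.proj_surjective (ker_sq X) e).symm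

theorem map_pow [IsLocalRing X.E] (n : ℕ) :
    (maximalIdeal X.E ^ n).map X.proj.toRingHom = maximalIdeal B ^ n := by
  rw [Ideal.map_pow, IsLocalRing.map_maximalIdeal_of_surjective X.proj.toRingHom X.isExtension.proj_surjective]

theorem proj_mem_pow [IsLocalRing X.E] {n : ℕ} {e : X.E} (he : e ∈ maximalIdeal X.E ^ n) :
    X.proj e ∈ maximalIdeal B ^ n := (map_pow X n).le (Ideal.mem_map_of_mem X.proj.toRingHom he)

theorem exists_mem_pow [IsLocalRing X.E] {n : ℕ} {b : B} (hb : b ∈ maximalIdeal B ^ n) :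
    ∃ e ∈ maximalIdeal X.E ^ n, X.proj e = b :=
  (Ideal.mem_map_iff_of_surjective X.proj.toRingHom X.isExtension.proj_surjective).mp ((map_pow X n).ge hb)

/-- High powers of the maximal ideal miss the kernel. -/
theorem exists_sep [IsLocalRing X.E] :
    ∃ n₀ : ℕ, ∀ n, n₀ ≤ n → ∀ z : L, X.incl z ∈ maximalIdeal X.E ^ n → z = 0 := by
  haveI := isNoetherianRing_E X
  haveI := IsSimpleModule.nontrivial B L
  obtain ⟨l, hl⟩ := exists_ne (0 : L)
  have hne : X.incl l ≠ 0 := fun h => hl (X.isExtension.incl_injective (h.trans (map_zero _).symm))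
  obtain ⟨n₀, hn₀⟩ : ∃ n, X.incl l ∉ maximalIdeal X.E ^ n := by
    by_contra h
    push Not at h
    refine hne ?_
    rw [← Ideal.mem_bot, ← Ideal.iInf_pow_eq_bot_of_isLocalRing (maximalIdeal X.E) (maximalIdeal.isMaximal _).ne_top]
    exact Ideal.mem_iInf.mpr h
  refine ⟨n₀, fun n hn z hz => by_contra fun hz0 => hn₀ (Ideal.pow_le_pow_right hn ?_)⟩
  obtain ⟨r, hr⟩ := IsSimpleModule.toSpanSingleton_surjective B hz0 l
  obtain ⟨e, rfl⟩ := X.isExtension.proj_surjective r
  rw [← hr, LinearMap.toSpanSingleton_apply, ← X.isExtension.mul_incl]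
  exact Ideal.mul_mem_left _ _ hz

end Ext

variable {Λ : Type u} [CommRing Λ] {R : Type u} [CommRing R] [Algebra Λ R] [IsLocalRing R] [IsNoetherianRing R]


theorem isNoetherianRing_Rh : IsNoetherianRing (AdicCompletion (maximalIdeal R) R) := H24Adic.isNoetherianRing_adicCompletion _

theorem mem_pow_iff (n : ℕ) (c : (AdicCompletion (maximalIdeal R) R)) :
    c ∈ maximalIdeal (AdicCompletion (maximalIdeal R) R) ^ n ↔ AdicCompletion.evalₐ (maximalIdeal R) n c = 0 := by
  rw [AdicCompletion.maximalIdeal_eq_map]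
  exact (H05EGA4.AdicLim.ker_evalₐ (IsNoetherian.noetherian _) n c).symm

theorem evalₐ_algebraMap (n : ℕ) (r : R) :
    AdicCompletion.evalₐ (maximalIdeal R) n (algebraMap R (AdicCompletion (maximalIdeal R) R) r) = Ideal.Quotient.mk _ r :=
  AdicCompletion.evalₐ_of _ n r

theorem exists_approx (n : ℕ) (c : (AdicCompletion (maximalIdeal R) R)) : ∃ r : R, c - algebraMap R (AdicCompletion (maximalIdeal R) R) r ∈ maximalIdeal (AdicCompletion (maximalIdeal R) R) ^ n := by
  obtain ⟨r, hr⟩ := Ideal.Quotient.mk_surjective (AdicCompletion.evalₐ (maximalIdeal R) n c)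
  exact ⟨r, by rw [mem_pow_iff, map_sub, evalₐ_algebraMap, hr, sub_self]⟩

variable (L : Type u) [AddCommGroup L] [Module (AdicCompletion (maximalIdeal R) R) L] [Module R L] [IsScalarTower R (AdicCompletion (maximalIdeal R) R) L]

theorem isSimpleModule_completion [IsSimpleModule R L] : IsSimpleModule (AdicCompletion (maximalIdeal R) R) L := by
  refine isSimpleModule_iff_toSpanSingleton_surjective.mpr ⟨IsSimpleModule.nontrivial R L, fun z hz w => ?_⟩
  obtain ⟨r, hr⟩ := IsSimpleModule.toSpanSingleton_surjective R hz w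
  exact ⟨algebraMap R (AdicCompletion (maximalIdeal R) R) r, by rw [LinearMap.toSpanSingleton_apply, algebraMap_smul]; exact hr⟩

variable {L} [IsSimpleModule (AdicCompletion (maximalIdeal R) R) L] [IsSimpleModule R L]

theorem equiv_of_pullback (X X' : Exal.Ext Λ (AdicCompletion (maximalIdeal R) R) L) (h : Nonempty ((X.pullback R).Equiv (X'.pullback R))) :
    Nonempty (X.Equiv X') := by
  obtain ⟨ε⟩ := h
  haveI := isNoetherianRing_Rh (R := R)
  haveI := isLocalRing_E X
  haveI := isLocalRing_E X'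
  haveI := isLocalRing_E (X.pullback R)
  haveI := isLocalRing_E (X'.pullback R)
  obtain ⟨n1, hn1⟩ := exists_sep X
  obtain ⟨n2, hn2⟩ := exists_sep X'
  set n := max n1 n2
  have hn : ∀ z, X.incl z ∈ maximalIdeal X.E ^ n → z = 0 := hn1 n (le_max_left _ _)
  have hn' : ∀ z, X'.incl z ∈ maximalIdeal X'.E ^ n → z = 0 := hn2 n (le_max_right _ _)
  let ι : (X.pullback R).E →ₐ[Λ] X.E := (AlgHom.fst Λ X.E R).comp (X.fiberProd R).val
  let ι' : (X'.pullback R).E →ₐ[Λ] X'.E := (AlgHom.fst Λ X'.E R).comp (X'.fiberProd R).val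
  have hι : ∀ y, X.proj (ι y) = algebraMap R (AdicCompletion (maximalIdeal R) R) ((X.pullback R).proj y) := fun y => y.2
  have hι' : ∀ y, X'.proj (ι' y) = algebraMap R (AdicCompletion (maximalIdeal R) R) ((X'.pullback R).proj y) := fun y => y.2
  have hιi : ∀ z, ι ((X.pullback R).incl z) = X.incl z := fun z => rfl
  have hι'i : ∀ z, ι' ((X'.pullback R).incl z) = X'.incl z := fun z => rfl
  have hpow : ∀ y, ι y ∈ maximalIdeal X.E ^ n → ι' (ε.toAlgEquiv y) ∈ maximalIdeal X'.E ^ n := by
    intro y hy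
    have h1 : (X.pullback R).proj y ∈ maximalIdeal R ^ n := by
      have h2 := (mem_pow_iff n _).mp (hι y ▸ proj_mem_pow X hy)
      rwa [evalₐ_algebraMap, Ideal.Quotient.eq_zero_iff_mem] at h2
    obtain ⟨y2, hy2, hy2p⟩ := exists_mem_pow (X.pullback R) h1
    have hloc : (maximalIdeal (X.pullback R).E).map ι.toRingHom ≤ maximalIdeal X.E :=
      Ideal.map_le_iff_le_comap.mpr fun e he => by
        rw [Ideal.mem_comap]
        refine (mem_max_iff X).mpr ?_
        change X.proj (ι e) ∈ _
        rw [hι, AdicCompletion.maximalIdeal_eq_map]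
        exact Ideal.mem_map_of_mem _ ((mem_max_iff (X.pullback R)).mp he)
    have hloc' : (maximalIdeal (X.pullback R).E).map (ι'.comp ε.toAlgEquiv.toAlgHom).toRingHom ≤ maximalIdeal X'.E :=
      Ideal.map_le_iff_le_comap.mpr fun e he => by
        rw [Ideal.mem_comap]
        refine (mem_max_iff X').mpr ?_
        change X'.proj (ι' (ε.toAlgEquiv e)) ∈ _
        rw [hι', ε.proj_apply, AdicCompletion.maximalIdeal_eq_map]
        exact Ideal.mem_map_of_mem _ ((mem_max_iff (X.pullback R)).mp he)
    obtain ⟨z, hz⟩ := ((X.pullback R).isExtension.exact (y - y2)).mp (by rw [_root_.map_sub, hy2p, sub_self])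
    have hy2' : ι y2 ∈ maximalIdeal X.E ^ n := by
      have h2 := Ideal.mem_map_of_mem ι.toRingHom hy2
      rw [Ideal.map_pow] at h2
      exact Ideal.pow_right_mono hloc n h2
    have hz0 : z = 0 := hn z (by rw [← hιi, hz, _root_.map_sub]; exact Ideal.sub_mem _ hy hy2')
    rw [hz0, map_zero, eq_comm, sub_eq_zero] at hz
    subst hz
    have h2 := Ideal.mem_map_of_mem (ι'.comp ε.toAlgEquiv.toAlgHom).toRingHom hy2
    rw [Ideal.map_pow] at h2
    exact Ideal.pow_right_mono hloc' n h2
  let S : Subalgebra Λ (X.E × X'.E) :=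
    { carrier := {p | X.proj p.1 = X'.proj p.2 ∧ ∃ y, ι y - p.1 ∈ maximalIdeal X.E ^ n ∧
        ι' (ε.toAlgEquiv y) - p.2 ∈ maximalIdeal X'.E ^ n}
      mul_mem' := fun {a b} ⟨ha, ya, ha1, ha2⟩ ⟨hb, yb, hb1, hb2⟩ => ⟨by
          change X.proj (a.1 * b.1) = X'.proj (a.2 * b.2)
          rw [map_mul, map_mul, ha, hb], ya * yb, by
          change ι (ya * yb) - a.1 * b.1 ∈ _
          rw [map_mul, show ι ya * ι yb - a.1 * b.1 = (ι ya - a.1) * ι yb + a.1 * (ι yb - b.1) by ring]
          exact Ideal.add_mem _ (Ideal.mul_mem_right _ _ ha1) (Ideal.mul_mem_left _ _ hb1), by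
          change ι' (ε.toAlgEquiv (ya * yb)) - a.2 * b.2 ∈ _
          rw [map_mul, map_mul, show ι' (ε.toAlgEquiv ya) * ι' (ε.toAlgEquiv yb) - a.2 * b.2 =
            (ι' (ε.toAlgEquiv ya) - a.2) * ι' (ε.toAlgEquiv yb) + a.2 * (ι' (ε.toAlgEquiv yb) - b.2) by ring]
          exact Ideal.add_mem _ (Ideal.mul_mem_right _ _ ha2) (Ideal.mul_mem_left _ _ hb2)⟩
      add_mem' := fun {a b} ⟨ha, ya, ha1, ha2⟩ ⟨hb, yb, hb1, hb2⟩ => ⟨by
          change X.proj (a.1 + b.1) = X'.proj (a.2 + b.2)
          rw [map_add, map_add, ha, hb], ya + yb, by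
          change ι (ya + yb) - (a.1 + b.1) ∈ _
          rw [map_add, add_sub_add_comm]
          exact Ideal.add_mem _ ha1 hb1, by
          change ι' (ε.toAlgEquiv (ya + yb)) - (a.2 + b.2) ∈ _
          rw [map_add, map_add, add_sub_add_comm]
          exact Ideal.add_mem _ ha2 hb2⟩
      algebraMap_mem' := fun c => ⟨by
          change X.proj (algebraMap Λ X.E c) = X'.proj (algebraMap Λ X'.E c)
          rw [AlgHom.commutes, AlgHom.commutes], algebraMap Λ _ c,
        by simp, by simp⟩ }
  have hS : ∀ p : X.E × X'.E, p ∈ S ↔ X.proj p.1 = X'.proj p.2 ∧ ∃ y, ι y - p.1 ∈ maximalIdeal X.E ^ n ∧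
      ι' (ε.toAlgEquiv y) - p.2 ∈ maximalIdeal X'.E ^ n := fun p => Iff.rfl
  have hdense : ∀ x : X.E, ∃ y, ι y - x ∈ maximalIdeal X.E ^ n := by
    intro x
    obtain ⟨r, hr⟩ := exists_approx n (X.proj x)
    obtain ⟨y0, hy0⟩ := (X.pullback R).isExtension.proj_surjective r
    obtain ⟨w, hw, hwp⟩ := exists_mem_pow X hr
    obtain ⟨z, hz⟩ := (X.isExtension.exact (x - w - ι y0)).mp (by
      rw [_root_.map_sub, _root_.map_sub, hwp, hι, hy0]; ring)
    refine ⟨y0 + (X.pullback R).incl z, ?_⟩
    rw [map_add, hιi, hz, show ι y0 + (x - w - ι y0) - x = -w by ring]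
    exact neg_mem hw
  have hbij : Function.Bijective ((AlgHom.fst Λ X.E X'.E).comp S.val) := by
    refine ⟨(injective_iff_map_eq_zero _).mpr fun p hp => ?_, fun x => ?_⟩
    · obtain ⟨⟨x, x'⟩, hp2⟩ := p
      obtain ⟨hproj, y, hy1, hy2⟩ := (hS _).mp hp2
      change x = 0 at hp
      subst hp
      simp only [sub_zero, map_zero] at hy1 hproj
      obtain ⟨z, hz⟩ := (X'.isExtension.exact x').mp hproj.symm
      have hz0 : z = 0 := hn' z (by
        have h1 := Ideal.sub_mem _ (hpow y hy1) hy2
        simpa [hz] using h1)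
      rw [hz0, map_zero] at hz
      exact Subtype.ext (Prod.ext rfl hz.symm)
    · obtain ⟨y, hy⟩ := hdense x
      have hd : X.proj x - X'.proj (ι' (ε.toAlgEquiv y)) ∈ maximalIdeal (AdicCompletion (maximalIdeal R) R) ^ n := by
        rw [hι', ε.proj_apply, ← hι, ← _root_.map_sub]
        exact proj_mem_pow X (neg_sub (ι y) x ▸ neg_mem hy)
      obtain ⟨c, hc, hcp⟩ := exists_mem_pow X' hd
      exact ⟨⟨(x, ι' (ε.toAlgEquiv y) + c), ⟨by
        change X.proj x = X'.proj _
        rw [map_add, hcp, add_sub_cancel], y, hy, by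
        change ι' (ε.toAlgEquiv y) - (ι' (ε.toAlgEquiv y) + c) ∈ _
        rw [sub_add_cancel_left]
        exact neg_mem hc⟩⟩, rfl⟩
  let e1 : S ≃ₐ[Λ] X.E := AlgEquiv.ofBijective _ hbij
  let F : X.E →ₐ[Λ] X'.E := ((AlgHom.snd Λ X.E X'.E).comp S.val).comp e1.symm.toAlgHom
  have hF : ∀ p : S, F p.1.1 = p.1.2 := fun p => by
    change (e1.symm (e1 p)).1.2 = _
    rw [e1.symm_apply_apply]
  have hFp : ∀ x, X'.proj (F x) = X.proj x := fun x => by
    obtain ⟨p, rfl⟩ := hbij.2 x
    exact (congrArg X'.proj (hF p)).trans p.2.1.symm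
  have hFi : ∀ z, F (X.incl z) = X'.incl z := fun z =>
    hF ⟨(X.incl z, X'.incl z), by rw [proj_incl, proj_incl], (X.pullback R).incl z,
      by change ι _ - X.incl z ∈ _; rw [hιi, sub_self]; exact Ideal.zero_mem _,
      by change ι' _ - X'.incl z ∈ _; rw [ε.apply_incl, hι'i, sub_self]; exact Ideal.zero_mem _⟩
  refine ⟨⟨AlgEquiv.ofBijective F ⟨(injective_iff_map_eq_zero F).mpr fun x hx => ?_, fun y => ?_⟩, hFp, hFi⟩⟩
  · obtain ⟨z, rfl⟩ := (X.isExtension.exact x).mp (by rw [← hFp, hx, map_zero])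
    rw [hFi] at hx
    rw [show z = 0 from X'.isExtension.incl_injective (hx.trans (map_zero _).symm), map_zero]
  · obtain ⟨x, hx⟩ := X.isExtension.proj_surjective (X'.proj y)
    obtain ⟨z, hz⟩ := (X'.isExtension.exact (y - F x)).mp (by rw [_root_.map_sub, hFp, hx, sub_self])
    exact ⟨x + X.incl z, by rw [map_add, hFi, hz, add_sub_cancel]⟩

theorem exists_pullback_equiv (Y : Exal.Ext Λ R L) :
    ∃ X : Exal.Ext Λ (AdicCompletion (maximalIdeal R) R) L, Nonempty ((X.pullback R).Equiv Y) := by
  haveI := isNoetherianRing_Rh (R := R)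
  haveI := isLocalRing_E Y
  obtain ⟨n0, hn0⟩ := exists_sep Y
  set n := n0 + 1
  have hsep : ∀ z, Y.incl z ∈ maximalIdeal Y.E ^ n → z = 0 := hn0 n (Nat.le_succ _)
  let En := Y.E ⧸ maximalIdeal Y.E ^ n
  let q : Y.E →ₐ[Λ] En := Ideal.Quotient.mkₐ Λ _
  let pr : En →ₐ[Λ] R ⧸ maximalIdeal R ^ n :=
    Ideal.Quotient.liftₐ _ ((Ideal.Quotient.mkₐ Λ (maximalIdeal R ^ n)).comp Y.proj) fun e he =>
      Ideal.Quotient.eq_zero_iff_mem.mpr (proj_mem_pow Y he)
  let ev : (AdicCompletion (maximalIdeal R) R) →ₐ[Λ] R ⧸ maximalIdeal R ^ n := (AdicCompletion.evalₐ (maximalIdeal R) n).restrictScalars Λ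
  let S : Subalgebra Λ ((AdicCompletion (maximalIdeal R) R) × En) :=
    AlgHom.equalizer (ev.comp (AlgHom.fst Λ (AdicCompletion (maximalIdeal R) R) En)) (pr.comp (AlgHom.snd Λ (AdicCompletion (maximalIdeal R) R) En))
  have hS : ∀ s : S, ev s.1.1 = pr s.1.2 := fun s => s.2
  let incl : L →+ S :=
    AddMonoidHom.mk' (fun z => ⟨((0 : (AdicCompletion (maximalIdeal R) R)), q (Y.incl z)), by
      change ev 0 = Ideal.Quotient.mk _ (Y.proj (Y.incl z))
      rw [map_zero, proj_incl, map_zero]⟩)
      fun z w => Subtype.ext (Prod.ext (zero_add (0 : (AdicCompletion (maximalIdeal R) R))).symm (by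
        change q (Y.incl (z + w)) = q (Y.incl z) + q (Y.incl w)
        rw [map_add, map_add]))
  let X : Exal.Ext Λ (AdicCompletion (maximalIdeal R) R) L :=
    { E := S
      proj := (AlgHom.fst Λ (AdicCompletion (maximalIdeal R) R) En).comp S.val
      incl := incl
      isExtension := ⟨fun c => by
          obtain ⟨r, hr⟩ := exists_approx n c
          obtain ⟨y, rfl⟩ := Y.isExtension.proj_surjective r
          refine ⟨⟨(c, q y), ?_⟩, rfl⟩
          change ev c = Ideal.Quotient.mk _ (Y.proj y)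
          rw [mem_pow_iff, _root_.map_sub, evalₐ_algebraMap, sub_eq_zero] at hr
          exact hr,
        (injective_iff_map_eq_zero incl).mpr fun z hz =>
          hsep z (Ideal.Quotient.eq_zero_iff_mem.mp (congrArg (fun s : S => s.1.2) hz)),
        fun s => by
          constructor
          · intro hs
            change s.1.1 = 0 at hs
            obtain ⟨y, hy⟩ := Ideal.Quotient.mk_surjective s.1.2
            have h1 : Y.proj y ∈ maximalIdeal R ^ n := by
              have h2 := hS s
              rw [hs, map_zero, ← hy] at h2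
              exact Ideal.Quotient.eq_zero_iff_mem.mp h2.symm
            obtain ⟨w, hw, hwp⟩ := exists_mem_pow Y h1
            obtain ⟨z, hz⟩ := (Y.isExtension.exact (y - w)).mp (by rw [_root_.map_sub, hwp, sub_self])
            refine ⟨z, Subtype.ext (Prod.ext hs.symm ?_)⟩
            change q (Y.incl z) = s.1.2
            rw [hz, _root_.map_sub, show q w = 0 from Ideal.Quotient.eq_zero_iff_mem.mpr hw, sub_zero]
            exact hy
          · rintro ⟨z, rfl⟩; rfl,
        fun s z => by
          obtain ⟨y, hy⟩ := Ideal.Quotient.mk_surjective s.1.2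
          refine Subtype.ext (Prod.ext ?_ ?_)
          · change s.1.1 * 0 = 0
            exact mul_zero _
          · change s.1.2 * q (Y.incl z) = q (Y.incl (s.1.1 • z))
            rw [← hy, show Ideal.Quotient.mk _ y = q y from rfl, ← map_mul, Y.isExtension.mul_incl]
            have h2 : s.1.1 - algebraMap R (AdicCompletion (maximalIdeal R) R) (Y.proj y) ∈ maximalIdeal (AdicCompletion (maximalIdeal R) R) ^ n := by
              rw [mem_pow_iff, _root_.map_sub, evalₐ_algebraMap, sub_eq_zero]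
              have h3 := hS s
              rw [← hy] at h3
              exact h3
            have h4 := smul_eq_zero_of_mem (B := (AdicCompletion (maximalIdeal R) R)) (L := L) (Ideal.pow_le_self (Nat.succ_ne_zero n0) h2) z
            rw [sub_smul, algebraMap_smul, sub_eq_zero] at h4
            rw [h4]⟩ }
  refine ⟨X, ⟨?_⟩⟩
  let g : Y.E →ₐ[Λ] (X.pullback R).E :=
    (((AlgHom.prod ((IsScalarTower.toAlgHom Λ R (AdicCompletion (maximalIdeal R) R)).comp Y.proj) q).codRestrict S fun y => by
      change ev (algebraMap R (AdicCompletion (maximalIdeal R) R) (Y.proj y)) = Ideal.Quotient.mk _ (Y.proj y)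
      exact evalₐ_algebraMap n _).prod Y.proj).codRestrict (X.fiberProd R) fun y => rfl
  have hgp : ∀ y, (X.pullback R).proj (g y) = Y.proj y := fun y => rfl
  have hgi : ∀ z, g (Y.incl z) = (X.pullback R).incl z := fun z => by
    refine Subtype.ext (Prod.ext (Subtype.ext (Prod.ext ?_ rfl)) ?_)
    · change algebraMap R (AdicCompletion (maximalIdeal R) R) (Y.proj (Y.incl z)) = 0
      rw [proj_incl, map_zero]
    · exact proj_incl Y z
  have hg : Function.Bijective g := by
    refine ⟨(injective_iff_map_eq_zero g).mpr fun y hy => ?_, fun w => ?_⟩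
    · obtain ⟨z, rfl⟩ := (Y.isExtension.exact y).mp (by rw [← hgp, hy, map_zero])
      rw [hgi] at hy
      rw [show z = 0 from (X.pullback R).isExtension.incl_injective (hy.trans (map_zero _).symm), map_zero]
    · obtain ⟨y, hy⟩ := Y.isExtension.proj_surjective ((X.pullback R).proj w)
      obtain ⟨z, hz⟩ := ((X.pullback R).isExtension.exact (w - g y)).mp (by rw [_root_.map_sub, hgp, hy, sub_self])
      exact ⟨y + Y.incl z, by rw [map_add, hgi, hz, add_sub_cancel]⟩
  exact
    { toAlgEquiv := (AlgEquiv.ofBijective g hg).symm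
      proj_apply := fun w => by
        obtain ⟨y, rfl⟩ := hg.2 w
        rw [show (AlgEquiv.ofBijective g hg).symm (g y) = y from (AlgEquiv.ofBijective g hg).symm_apply_apply y, hgp]
      apply_incl := fun z => by
        rw [← hgi]
        exact (AlgEquiv.ofBijective g hg).symm_apply_apply _ }

end Groth.Agent.S11283Aux

open Groth.Agent
namespace Groth.Agent.S11283

/-- Let k be an algebraically closed field, Λ a complete local Noetherian k-algebra with residue field
k, R a local Noetherian Λ-algebra with local structure map and residue field k, and R̂ the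
completion of R at its maximal ideal. Let L be a simple R-module (a one-dimensional k-vector space
on which R acts through its residue field) carrying a compatible R̂-module structure. Then inverse
image of Λ-extensions along R → R̂ induces a bijection o(R̂/Λ) → o(R/Λ) on classes of Λ-extensions
by L: two Λ-extensions of R̂ by L whose inverse images over R are equivalent are equivalent, and
every Λ-extension of R by L is equivalent to the inverse image of one of R̂. -/
theorem result
    {k : Type u} [Field k] [IsAlgClosed k]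
    {Λ : Type u} [CommRing Λ] [Algebra k Λ] [IsLocalRing Λ] [IsNoetherianRing Λ]
    [IsAdicComplete (IsLocalRing.maximalIdeal Λ) Λ]
    (hΛ : ∀ a : Λ, ∃ c : k, a - algebraMap k Λ c ∈ IsLocalRing.maximalIdeal Λ)
    {R : Type u} [CommRing R] [Algebra Λ R] [IsLocalRing R] [IsNoetherianRing R]
    [IsLocalHom (algebraMap Λ R)]
    (hR : ∀ r : R, ∃ c : k, r - algebraMap Λ R (algebraMap k Λ c) ∈ IsLocalRing.maximalIdeal R)
    (L : Type u) [AddCommGroup L] [Module (AdicCompletion (IsLocalRing.maximalIdeal R) R) L] [Module R L]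
    [IsScalarTower R (AdicCompletion (IsLocalRing.maximalIdeal R) R) L] [IsSimpleModule R L] :
    (∀ X X' : Exal.Ext Λ (AdicCompletion (IsLocalRing.maximalIdeal R) R) L,
        Nonempty ((X.pullback R).Equiv (X'.pullback R)) → Nonempty (X.Equiv X')) ∧
    (∀ Y : Exal.Ext Λ R L, ∃ X : Exal.Ext Λ (AdicCompletion (IsLocalRing.maximalIdeal R) R) L,
        Nonempty ((X.pullback R).Equiv Y)) := by
  haveI := S11283Aux.isSimpleModule_completion (R := R) L
  exact ⟨fun X X' h => S11283Aux.equiv_of_pullback X X' h, fun Y => S11283Aux.exists_pullback_equiv Y⟩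

end Groth.Agent.S11283
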