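import Groth.Statements.S11287
import Groth.Agent.S16982
import Groth.Agent.H24Art.PowerSeries
import Groth.Agent.H24Adic.Rig

set_option autoImplicit false
set_option linter.style.haveILetI false
universe u
open Deform

namespace Groth.Agent.S11287Aux

open Groth.Agent

variable {Λ : Type u} [CommRing Λ] {d : ℕ} (J : Ideal (MvPowerSeries (Fin d) Λ))

theorem X_mem_max [IsLocalRing Λ] (i : Fin d) :
    (MvPowerSeries.X i : MvPowerSeries (Fin d) Λ) ∈ IsLocalRing.maximalIdeal (MvPowerSeries (Fin d) Λ) := by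
  intro hu
  have h0 := hu.map (MvPowerSeries.constantCoeff (σ := Fin d) (R := Λ))
  rw [MvPowerSeries.constantCoeff_X] at h0
  exact not_isUnit_zero h0

variable {L : Type u} [AddCommGroup L] [Module (MvPowerSeries (Fin d) Λ ⧸ J) L]

theorem exists_lift [IsNoetherianRing Λ] [IsLocalRing (MvPowerSeries (Fin d) Λ ⧸ J)]
    [IsAdicComplete (IsLocalRing.maximalIdeal (MvPowerSeries (Fin d) Λ ⧸ J)) (MvPowerSeries (Fin d) Λ ⧸ J)]
    [IsSimpleModule (MvPowerSeries (Fin d) Λ ⧸ J) L] (X : Exal.Ext Λ (MvPowerSeries (Fin d) Λ ⧸ J) L) :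
    ∃ u : MvPowerSeries (Fin d) Λ →ₐ[Λ] X.E, ∀ p, X.proj (u p) = Ideal.Quotient.mk J p := by
  haveI := IsSimpleModule.nontrivial (MvPowerSeries (Fin d) Λ ⧸ J) L
  obtain ⟨l, hl⟩ := exists_ne (0 : L)
  have hsq : RingHom.ker X.proj.toRingHom ^ 2 = ⊥ := by
    rw [eq_bot_iff, pow_two, Ideal.mul_le]
    intro a ha b hb
    obtain ⟨z, rfl⟩ := (X.isExtension.exact a).mp ha
    obtain ⟨w, rfl⟩ := (X.isExtension.exact b).mp hb
    rw [Ideal.mem_bot, X.isExtension.mul_incl, show X.proj (X.incl z) = 0 from ha]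
    exact (congrArg X.incl (zero_smul (MvPowerSeries (Fin d) Λ ⧸ J) w)).trans (map_zero _)
  have hker : RingHom.ker X.proj.toRingHom = Ideal.span {X.incl l} := by
    refine le_antisymm (fun a ha => ?_) ((Ideal.span_singleton_le_iff_mem _).mpr ((X.isExtension.exact _).mpr ⟨l, rfl⟩))
    obtain ⟨z, rfl⟩ := (X.isExtension.exact a).mp ha
    obtain ⟨r, hr⟩ := IsSimpleModule.toSpanSingleton_surjective (MvPowerSeries (Fin d) Λ ⧸ J) hl z
    obtain ⟨e, rfl⟩ := X.isExtension.proj_surjective r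
    rw [← hr, LinearMap.toSpanSingleton_apply, ← X.isExtension.mul_incl]
    exact Ideal.mul_mem_left _ _ (Ideal.mem_span_singleton_self _)
  obtain ⟨u, hu⟩ := S16982.result (Ideal.Quotient.mkₐ Λ J) Ideal.Quotient.mk_surjective X.proj
    X.isExtension.proj_surjective hsq (hker ▸ Submodule.fg_span_singleton _)
  exact ⟨u, fun p => AlgHom.congr_fun hu p⟩

variable [Module (MvPowerSeries (Fin d) Λ) L]
  [IsScalarTower (MvPowerSeries (Fin d) Λ) (MvPowerSeries (Fin d) Λ ⧸ J) L]

theorem mk_smul (p : MvPowerSeries (Fin d) Λ) (z : L) : Ideal.Quotient.mk J p • z = p • z := by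
  rw [← Ideal.Quotient.algebraMap_eq, algebraMap_smul]

theorem mul_incl (X : Exal.Ext Λ (MvPowerSeries (Fin d) Λ ⧸ J) L) (u : MvPowerSeries (Fin d) Λ →ₐ[Λ] X.E)
    (hu : ∀ p, X.proj (u p) = Ideal.Quotient.mk J p) (p : MvPowerSeries (Fin d) Λ) (z : L) :
    u p * X.incl z = X.incl (p • z) := by
  rw [X.isExtension.mul_incl, hu, mk_smul]

theorem incl_mul_incl (X : Exal.Ext Λ (MvPowerSeries (Fin d) Λ ⧸ J) L) (z w : L) : X.incl z * X.incl w = 0 := by
  rw [X.isExtension.mul_incl, (X.isExtension.exact _).mpr ⟨z, rfl⟩]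
  exact (congrArg X.incl (zero_smul (MvPowerSeries (Fin d) Λ ⧸ J) w)).trans (map_zero _)

theorem X_smul [IsLocalRing Λ] [IsLocalRing (MvPowerSeries (Fin d) Λ ⧸ J)]
    [IsSimpleModule (MvPowerSeries (Fin d) Λ ⧸ J) L] {p : MvPowerSeries (Fin d) Λ}
    (hp : p ∈ IsLocalRing.maximalIdeal (MvPowerSeries (Fin d) Λ)) (z : L) : p • z = 0 := by
  have h : IsLocalRing.maximalIdeal (MvPowerSeries (Fin d) Λ ⧸ J) = Module.annihilator _ L :=
    (IsLocalRing.eq_maximalIdeal IsSimpleModule.annihilator_isMaximal).symm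
  have hp' : Ideal.Quotient.mk J p ∈ IsLocalRing.maximalIdeal (MvPowerSeries (Fin d) Λ ⧸ J) := by
    rw [← IsLocalRing.map_maximalIdeal_of_surjective _ (Ideal.Quotient.mk_surjective (I := J))]
    exact Ideal.mem_map_of_mem _ hp
  rw [h, Module.mem_annihilator] at hp'
  rw [← mk_smul J]
  exact hp' z

theorem equiv_iff [IsLocalRing Λ] [IsLocalRing (MvPowerSeries (Fin d) Λ ⧸ J)]
    [IsSimpleModule (MvPowerSeries (Fin d) Λ ⧸ J) L]
    (hJ : J ≤ Ideal.span (Set.range (MvPowerSeries.X : Fin d → MvPowerSeries (Fin d) Λ)) ^ 2)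
    (X X' : Exal.Ext Λ (MvPowerSeries (Fin d) Λ ⧸ J) L) (u : MvPowerSeries (Fin d) Λ →ₐ[Λ] X.E)
    (u' : MvPowerSeries (Fin d) Λ →ₐ[Λ] X'.E)
    (hu : ∀ p, X.proj (u p) = Ideal.Quotient.mk J p) (hu' : ∀ p, X'.proj (u' p) = Ideal.Quotient.mk J p) :
    Nonempty (X.Equiv X') ↔ ∀ j ∈ J, ∃ z : L, X.incl z = u j ∧ X'.incl z = u' j := by
  constructor
  · rintro ⟨e⟩ j hj
    let M := Ideal.span (Set.range (MvPowerSeries.X : Fin d → MvPowerSeries (Fin d) Λ))
    have hD : ∀ p, ∃ z, X'.incl z = e.toAlgEquiv (u p) - u' p := fun p =>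
      (X'.isExtension.exact _).mp (by rw [map_sub, e.proj_apply, hu, hu', sub_self])
    have hMm : ∀ p ∈ M, p ∈ IsLocalRing.maximalIdeal (MvPowerSeries (Fin d) Λ) :=
      Ideal.span_le.mpr (by rintro _ ⟨i, rfl⟩; exact X_mem_max i)
    have hzero : ∀ p ∈ M ^ 2, e.toAlgEquiv (u p) = u' p := by
      intro p hp
      rw [pow_two] at hp
      induction hp using Submodule.mul_induction_on' with
      | mem_mul_mem a ha b hb =>
        obtain ⟨za, hza⟩ := hD a
        obtain ⟨zb, hzb⟩ := hD b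
        have h1 : u' a * X'.incl zb = 0 := by rw [mul_incl J X' u' hu', X_smul J (hMm a ha), map_zero]
        have h2 : u' b * X'.incl za = 0 := by rw [mul_incl J X' u' hu', X_smul J (hMm b hb), map_zero]
        have h3 := incl_mul_incl J X' za zb
        rw [map_mul, map_mul, map_mul]
        linear_combination h1 + h2 + h3 - e.toAlgEquiv (u b) * hza - (X'.incl za + u' a) * hzb
      | add a _ b _ ha hb => rw [map_add, map_add, map_add, ha, hb]
    obtain ⟨z, hz⟩ := (X.isExtension.exact (u j)).mp (by rw [hu, Ideal.Quotient.eq_zero_iff_mem]; exact hj)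
    exact ⟨z, hz, by rw [← e.apply_incl, hz, hzero j (hJ hj)]⟩
  · intro h
    have hrep : ∀ x : X.E, ∃ p z, x = u p + X.incl z := fun x => by
      obtain ⟨p, hp⟩ := Ideal.Quotient.mk_surjective (X.proj x)
      obtain ⟨z, hz⟩ := (X.isExtension.exact (x - u p)).mp (by rw [map_sub, hu, hp, sub_self])
      exact ⟨p, z, by rw [hz, add_sub_cancel]⟩
    choose rp rz hr using hrep
    have hwd : ∀ p z, u' (rp (u p + X.incl z)) + X'.incl (rz (u p + X.incl z)) = u' p + X'.incl z := by
      intro p z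
      set p1 := rp (u p + X.incl z)
      set z1 := rz (u p + X.incl z)
      have h1 : u p + X.incl z = u p1 + X.incl z1 := hr _
      have hmem : p - p1 ∈ J := by
        rw [← Ideal.Quotient.eq_zero_iff_mem, map_sub]
        have h2 := congrArg X.proj h1
        rw [map_add, map_add, (X.isExtension.exact _).mpr ⟨z, rfl⟩, (X.isExtension.exact _).mpr ⟨z1, rfl⟩,
          hu, hu, add_zero, add_zero] at h2
        rw [h2, sub_self]
      obtain ⟨w, hw, hw'⟩ := h _ hmem
      rw [map_sub] at hw hw'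
      have h3 : z1 = z + w := X.isExtension.incl_injective (by
        rw [map_add]; linear_combination -h1 - hw)
      rw [h3, map_add]
      linear_combination hw'
    let F : X.E →ₐ[Λ] X'.E :=
      { toFun := fun x => u' (rp x) + X'.incl (rz x)
        map_one' := by
          have h1 := hwd 1 0
          simpa using h1
        map_mul' := fun x y => by
          have hxy : x * y = u (rp x * rp y) + X.incl (rp x • rz y + rp y • rz x) := by
            rw [map_mul, map_add, ← mul_incl J X u hu, ← mul_incl J X u hu]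
            linear_combination (y) * hr x + (u (rp x) + X.incl (rz x)) * hr y + incl_mul_incl J X (rz x) (rz y)
          rw [hxy, hwd, map_mul, map_add, ← mul_incl J X' u' hu', ← mul_incl J X' u' hu']
          linear_combination -incl_mul_incl J X' (rz x) (rz y)
        map_zero' := by
          have h1 := hwd 0 0
          simpa using h1
        map_add' := fun x y => by
          have hxy : x + y = u (rp x + rp y) + X.incl (rz x + rz y) := by
            rw [map_add, map_add]
            linear_combination hr x + hr y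
          rw [hxy, hwd, map_add, map_add]
          abel
        commutes' := fun c => by
          have h1 := hwd (algebraMap Λ _ c) 0
          simpa using h1 }
    have hFp : ∀ x, X'.proj (F x) = X.proj x := fun x => by
      conv_rhs => rw [hr x, map_add, hu, (X.isExtension.exact _).mpr ⟨_, rfl⟩]
      change X'.proj (u' (rp x) + X'.incl (rz x)) = _
      rw [map_add, hu', (X'.isExtension.exact _).mpr ⟨_, rfl⟩]
    have hFi : ∀ z, F (X.incl z) = X'.incl z := fun z => by
      have h1 := hwd 0 z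
      rw [map_zero, zero_add, map_zero, zero_add] at h1
      exact h1
    refine ⟨⟨AlgEquiv.ofBijective F ⟨(injective_iff_map_eq_zero F).mpr fun x hx => ?_, fun y => ?_⟩, hFp, hFi⟩⟩
    · obtain ⟨z, rfl⟩ := (X.isExtension.exact x).mp (by rw [← hFp, hx, map_zero])
      rw [hFi] at hx
      rw [show z = 0 from X'.isExtension.incl_injective (hx.trans (map_zero _).symm), map_zero]
    · obtain ⟨x, hx⟩ := X.isExtension.proj_surjective (X'.proj y)
      obtain ⟨z, hz⟩ := (X'.isExtension.exact (y - F x)).mp (by rw [map_sub, hFp, hx, sub_self])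
      exact ⟨x + X.incl z, by rw [map_add, hFi, hz, add_sub_cancel]⟩

theorem exists_ext (δ : J →ₗ[MvPowerSeries (Fin d) Λ] L) :
    ∃ (X : Exal.Ext Λ (MvPowerSeries (Fin d) Λ ⧸ J) L) (u : MvPowerSeries (Fin d) Λ →ₐ[Λ] X.E),
      (∀ p, X.proj (u p) = Ideal.Quotient.mk J p) ∧ ∀ j : J, X.incl (δ j) = u j := by
  let T := Exal.Ext.trivial Λ (MvPowerSeries (Fin d) Λ) L
  let j0 : MvPowerSeries (Fin d) Λ →ₐ[Λ] T.E :=
    { toFun := fun r => TrivSqZeroExt.inl r
      map_one' := TrivSqZeroExt.inl_one L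
      map_mul' := fun a b => (letI := Exal.opModule (MvPowerSeries (Fin d) Λ) L;
        haveI := Exal.isCentralScalar_opModule (MvPowerSeries (Fin d) Λ) L; TrivSqZeroExt.inl_mul L a b)
      map_zero' := TrivSqZeroExt.inl_zero L
      map_add' := fun a b => TrivSqZeroExt.inl_add L a b
      commutes' := fun a => rfl }
  have hj : ∀ r, T.proj (j0 r) = r := fun r => rfl
  have hrep : ∀ x : T.E, ∃ n, x = j0 (T.proj x) + T.incl n := fun x => by
    obtain ⟨n, hn⟩ := (T.isExtension.exact (x - j0 (T.proj x))).mp (by rw [map_sub, hj, sub_self])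
    exact ⟨n, by rw [hn, add_sub_cancel]⟩
  have hJ0 : ∀ (x : J) (n : L), (x : MvPowerSeries (Fin d) Λ) • n = 0 := fun x n => by
    rw [← mk_smul J, Ideal.Quotient.eq_zero_iff_mem.mpr x.2]
    exact zero_smul (MvPowerSeries (Fin d) Λ ⧸ J) n
  have hji : ∀ (x : J) (n : L), j0 x * T.incl n = 0 := fun x n => by
    rw [T.isExtension.mul_incl, hj, hJ0, map_zero]
  let K : Ideal T.E :=
    { carrier := {e | ∃ x : J, e = j0 x - T.incl (δ x)}
      zero_mem' := ⟨0, by simp⟩
      add_mem' := by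
        rintro _ _ ⟨x, rfl⟩ ⟨y, rfl⟩
        exact ⟨x + y, by rw [Submodule.coe_add, map_add, map_add, map_add]; abel⟩
      smul_mem' := by
        rintro c _ ⟨x, rfl⟩
        obtain ⟨n, hn⟩ := hrep c
        refine ⟨T.proj c • x, ?_⟩
        rw [Submodule.coe_smul, smul_eq_mul, smul_eq_mul, LinearMap.map_smul, map_mul,
          ← T.isExtension.mul_incl c (δ x)]
        conv_lhs => rw [mul_sub]; arg 1; rw [hn]
        linear_combination hji x n }
  have hK : ∀ e, e ∈ K ↔ ∃ x : J, e = j0 x - T.incl (δ x) := fun e => Iff.rfl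
  let p0 : T.E →ₐ[Λ] MvPowerSeries (Fin d) Λ ⧸ J := (Ideal.Quotient.mkₐ Λ J).comp T.proj
  let p : (T.E ⧸ K) →ₐ[Λ] MvPowerSeries (Fin d) Λ ⧸ J := Ideal.Quotient.liftₐ K p0 fun e he => by
    obtain ⟨x, rfl⟩ := (hK e).mp he
    change Ideal.Quotient.mk J (T.proj (j0 x - T.incl (δ x))) = 0
    rw [map_sub, hj, (T.isExtension.exact _).mpr ⟨_, rfl⟩, sub_zero, Ideal.Quotient.eq_zero_iff_mem]
    exact x.2
  let i : L →+ T.E ⧸ K := (Ideal.Quotient.mk K).toAddMonoidHom.comp T.incl
  refine ⟨⟨T.E ⧸ K, p, i, ⟨fun b => ?_, ?_, fun e => ?_, fun e z => ?_⟩⟩,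
    (Ideal.Quotient.mkₐ Λ K).comp j0, fun r => rfl, fun x => ?_⟩
  · obtain ⟨r, hr⟩ := Ideal.Quotient.mk_surjective b
    exact ⟨Ideal.Quotient.mk K (j0 r), hr⟩
  · refine (injective_iff_map_eq_zero i).mpr fun z hz => ?_
    obtain ⟨x, hx⟩ := (hK _).mp (Ideal.Quotient.eq_zero_iff_mem.mp hz)
    have hx' := congrArg T.proj hx
    rw [map_sub, hj, (T.isExtension.exact _).mpr ⟨_, rfl⟩, (T.isExtension.exact _).mpr ⟨_, rfl⟩, sub_zero] at hx'
    have hx0 : x = 0 := Subtype.ext hx'.symm
    rw [hx0, Submodule.coe_zero, map_zero, map_zero, map_zero, sub_zero] at hx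
    exact T.isExtension.incl_injective (hx.trans (map_zero T.incl).symm)
  · obtain ⟨e, rfl⟩ := Ideal.Quotient.mk_surjective e
    constructor
    · intro he
      obtain ⟨n, hn⟩ := hrep e
      have hmem : T.proj e ∈ J := Ideal.Quotient.eq_zero_iff_mem.mp he
      refine ⟨δ ⟨_, hmem⟩ + n, Ideal.Quotient.eq.mpr ((hK _).mpr ⟨-⟨_, hmem⟩, ?_⟩)⟩
      conv_lhs => arg 2; rw [hn]
      rw [Submodule.coe_neg, map_neg, map_neg, map_neg, map_add]
      abel
    · rintro ⟨z, hz⟩
      rw [← hz]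
      change Ideal.Quotient.mk J (T.proj (T.incl z)) = 0
      rw [(T.isExtension.exact _).mpr ⟨_, rfl⟩, map_zero]
  · obtain ⟨e, rfl⟩ := Ideal.Quotient.mk_surjective e
    change Ideal.Quotient.mk K e * Ideal.Quotient.mk K (T.incl z) =
      Ideal.Quotient.mk K (T.incl (Ideal.Quotient.mk J (T.proj e) • z))
    rw [← map_mul, T.isExtension.mul_incl, mk_smul]
  · exact (Ideal.Quotient.eq.mpr ((hK _).mpr ⟨x, rfl⟩)).symm

end Groth.Agent.S11287Aux

open Groth.Agent
namespace Groth.Agent.S11287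

/-- Let k be an algebraically closed field, Λ a complete local Noetherian k-algebra with residue field
k, P = Λ[[X_1, …, X_d]] the power series ring, J an ideal of P contained in (X_1, …, X_d)^2, R =
P/J, and L a simple R-module (a copy of the residue field k). Then: (a) for every Λ-extension 0 → L
→ E → R → 0 the quotient map P → R lifts to a Λ-algebra map u : P → E; (b) for two such extensions
E, E' with lifts u, u', the extensions are equivalent if and only if u and u' send every element of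
J to the images of the same element of L (the restrictions J → L of the lifts agree); (c) every
P-linear map J → L is the restriction of a lift for some extension. Thus the classes of Λ-extensions
of R by L correspond bijectively to Hom_P(J, L), the dual of J/m_P J; this is the identification of
the obstruction space o(R/Λ) for a complete R (the general case reduces to it by passing to the
completion). -/
theorem result
    {k : Type u} [Field k] [IsAlgClosed k]
    {Λ : Type u} [CommRing Λ] [Algebra k Λ] [IsLocalRing Λ] [IsNoetherianRing Λ]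
    [IsAdicComplete (IsLocalRing.maximalIdeal Λ) Λ]
    (hΛ : ∀ a : Λ, ∃ c : k, a - algebraMap k Λ c ∈ IsLocalRing.maximalIdeal Λ)
    (d : ℕ) (J : Ideal (MvPowerSeries (Fin d) Λ))
    (hJ : J ≤ Ideal.span (Set.range (MvPowerSeries.X : Fin d → MvPowerSeries (Fin d) Λ)) ^ 2)
    (L : Type u) [AddCommGroup L] [Module (MvPowerSeries (Fin d) Λ ⧸ J) L] [Module (MvPowerSeries (Fin d) Λ) L]
    [IsScalarTower (MvPowerSeries (Fin d) Λ) (MvPowerSeries (Fin d) Λ ⧸ J) L] [IsSimpleModule (MvPowerSeries (Fin d) Λ ⧸ J) L] :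
    (∀ X : Exal.Ext Λ (MvPowerSeries (Fin d) Λ ⧸ J) L,
        ∃ u : MvPowerSeries (Fin d) Λ →ₐ[Λ] X.E, ∀ p, X.proj (u p) = Ideal.Quotient.mk J p) ∧
    (∀ (X X' : Exal.Ext Λ (MvPowerSeries (Fin d) Λ ⧸ J) L) (u : MvPowerSeries (Fin d) Λ →ₐ[Λ] X.E) (u' : MvPowerSeries (Fin d) Λ →ₐ[Λ] X'.E),
        (∀ p, X.proj (u p) = Ideal.Quotient.mk J p) → (∀ p, X'.proj (u' p) = Ideal.Quotient.mk J p) →
        (Nonempty (X.Equiv X') ↔ ∀ j ∈ J, ∃ z : L, X.incl z = u j ∧ X'.incl z = u' j)) ∧
    (∀ δ : J →ₗ[MvPowerSeries (Fin d) Λ] L, ∃ (X : Exal.Ext Λ (MvPowerSeries (Fin d) Λ ⧸ J) L) (u : MvPowerSeries (Fin d) Λ →ₐ[Λ] X.E),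
        (∀ p, X.proj (u p) = Ideal.Quotient.mk J p) ∧ ∀ j : J, X.incl (δ j) = u j) := by
  have hJm : J ≤ IsLocalRing.maximalIdeal (MvPowerSeries (Fin d) Λ) :=
    hJ.trans ((Ideal.pow_le_self two_ne_zero).trans (Ideal.span_le.mpr (by
      rintro _ ⟨i, rfl⟩
      exact S11287Aux.X_mem_max i)))
  haveI : Nontrivial (MvPowerSeries (Fin d) Λ ⧸ J) :=
    Ideal.Quotient.nontrivial_iff.mpr (ne_top_of_le_ne_top (IsLocalRing.maximalIdeal.isMaximal _).ne_top hJm)
  haveI : IsLocalRing (MvPowerSeries (Fin d) Λ ⧸ J) := IsLocalRing.of_surjective' _ Ideal.Quotient.mk_surjective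
  haveI : IsAdicComplete (IsLocalRing.maximalIdeal (MvPowerSeries (Fin d) Λ ⧸ J)) (MvPowerSeries (Fin d) Λ ⧸ J) := by
    haveI := H24Art.isAdicComplete_mvPowerSeries (R := Λ) (n := d)
    rw [← IsLocalRing.map_maximalIdeal_of_surjective _ (Ideal.Quotient.mk_surjective (I := J))]
    exact H24Adic.isAdicComplete_map_quotient J
  exact ⟨fun X => S11287Aux.exists_lift J X, fun X X' u u' hu hu' => S11287Aux.equiv_iff J hJ X X' u u' hu hu',
    fun δ => S11287Aux.exists_ext J δ⟩

end Groth.Agent.S11287
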