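import Groth.Statements.S11288
import Groth.Agent.H24Cot.NonTrivial
import Mathlib.Tactic

set_option autoImplicit false
set_option linter.style.haveILetI false
universe u
open Deform

namespace Groth.Agent.S11288

/-- Let K be a field, R' a local Artinian K-algebra with residue field K, and t a nonzero element of the
maximal ideal m' of R' with m' t = 0, so that R' → R = R'/(t) is a small extension of R. Then the
extension is trivial, i.e. the projection admits a section which is a K-algebra map, if and only if
t is not in m'^2; equivalently, iff the surjection m'/m'^2 → m_R/m_R^2 induced on cotangent spaces,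
whose kernel is spanned by the class of t, is not bijective. For instance K[t]/(t^(n+1)) →
K[t]/(t^n) is a non-trivial small extension for n ≥ 2. (The published example allows any local
K-algebra with residue field K; the row takes R' Artinian, the case in which the subalgebra
generated by lifts of a basis of the cotangent space maps onto R.) -/
theorem result
    {K : Type u} [Field K]
    {R' : Type u} [CommRing R'] [Algebra K R'] [IsLocalRing R'] [IsArtinianRing R']
    (hres : ∀ a : R', ∃ c : K, a - algebraMap K R' c ∈ IsLocalRing.maximalIdeal R')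
    (t : R') (ht : t ∈ IsLocalRing.maximalIdeal R') (ht0 : t ≠ 0)
    (htm : ∀ a ∈ IsLocalRing.maximalIdeal R', a * t = 0) :
    (∃ s : (R' ⧸ Ideal.span {t}) →ₐ[K] R', ∀ x, Ideal.Quotient.mk (Ideal.span {t}) (s x) = x) ↔
      t ∉ IsLocalRing.maximalIdeal R' ^ 2 := by
    classical
    open IsLocalRing in
    constructor
    · rintro ⟨s, hs⟩ ht2
      let e : R' →ₐ[K] R' := s.comp (Ideal.Quotient.mkₐ K _)
      have he : ∀ x, ∃ c, e x = x + c * t := fun x => by
        obtain ⟨c, hc⟩ := Ideal.mem_span_singleton'.mp (Ideal.Quotient.eq.mp (hs (Ideal.Quotient.mk _ x)))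
        exact ⟨c, by change s (Ideal.Quotient.mk _ x) = _; rw [hc]; ring⟩
      have hfix : ∀ z ∈ maximalIdeal R' ^ 2, e z = z := by
        intro z hz
        rw [pow_two] at hz
        refine Submodule.mul_induction_on hz (fun x hx y hy => ?_) (fun x y hx hy => by rw [map_add, hx, hy])
        obtain ⟨c, hc⟩ := he x
        obtain ⟨d, hd⟩ := he y
        rw [map_mul, hc, hd]
        linear_combination c * htm y hy + d * htm x hx + c * d * htm t ht
      refine ht0 ((hfix t ht2).symm.trans ?_)
      change s (Ideal.Quotient.mk _ t) = 0
      rw [Ideal.Quotient.eq_zero_iff_mem.mpr (Ideal.mem_span_singleton_self t), map_zero]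
    · intro ht2
      obtain ⟨δ, hδ⟩ := Groth.Agent.H24Cot.exists_residue_derivation hres
      have hv : (maximalIdeal R').toCotangent ⟨t, ht⟩ ≠ 0 := fun h => ht2 (Ideal.toCotangent_eq_zero _ ⟨t, ht⟩ |>.mp h)
      obtain ⟨l, hl⟩ : ∃ l : (maximalIdeal R').Cotangent →ₗ[K] K, l ((maximalIdeal R').toCotangent ⟨t, ht⟩) = 1 := by
        obtain ⟨g, hg⟩ := (LinearMap.toSpanSingleton K _ ((maximalIdeal R').toCotangent ⟨t, ht⟩)).exists_leftInverse_of_injective
          (LinearMap.ker_toSpanSingleton K hv)
        refine ⟨g, ?_⟩
        have := LinearMap.congr_fun hg 1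
        simpa using this
      have hlsmul : ∀ (a : R') (w : (maximalIdeal R').Cotangent), algebraMap K R' (l (a • w)) * t = a * (algebraMap K R' (l w) * t) := by
        intro a w
        obtain ⟨c, hc⟩ := hres a
        obtain ⟨⟨x, hx⟩, rfl⟩ := Ideal.toCotangent_surjective _ w
        have h0 : a • (maximalIdeal R').toCotangent ⟨x, hx⟩ = c • (maximalIdeal R').toCotangent ⟨x, hx⟩ := by
          rw [← algebraMap_smul R' c, ← sub_eq_zero, ← sub_smul, ← map_smul]
          refine (Ideal.toCotangent_eq_zero _ _).mpr ?_
          rw [pow_two]; exact Ideal.mul_mem_mul hc hx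
        rw [h0, map_smul, smul_eq_mul, map_mul]
        linear_combination -(algebraMap K R' (l ((maximalIdeal R').toCotangent ⟨x, hx⟩))) * htm _ hc
      let f : R' →ₐ[K] R' :=
        { toFun := fun a => a - algebraMap K R' (l (δ a)) * t
          map_one' := by simp
          map_mul' := fun a b => by
            rw [δ.leibniz, map_add, map_add, add_mul, hlsmul, hlsmul]
            linear_combination -(algebraMap K R' (l (δ a)) * algebraMap K R' (l (δ b))) * htm t ht
          map_zero' := by simp
          map_add' := fun a b => by simp only [map_add]; ring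
          commutes' := fun c => by simp }
      refine ⟨Ideal.Quotient.liftₐ _ f (fun a ha => ?_), fun x => ?_⟩
      · obtain ⟨c, rfl⟩ := Ideal.mem_span_singleton'.mp ha
        have hft : f t = 0 := by
          change t - algebraMap K R' (l (δ t)) * t = 0
          rw [hδ ⟨t, ht⟩, hl, map_one, one_mul, sub_self]
        rw [map_mul, hft, mul_zero]
      · obtain ⟨a, rfl⟩ := Ideal.Quotient.mk_surjective x
        rw [Ideal.Quotient.eq]
        change (a - algebraMap K R' (l (δ a)) * t) - a ∈ _
        rw [sub_sub_cancel_left]
        exact neg_mem (Ideal.mul_mem_left _ _ (Ideal.mem_span_singleton_self t))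

end Groth.Agent.S11288
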