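import Groth.Statements.S11293

set_option autoImplicit false
universe u v
open CAlg

namespace Groth.Agent.S11293

/-- Let P be a commutative ring, F a P-module and j : F → P a P-linear map, with image the ideal J and
kernel the relation module R. The trivial (Koszul) relations are the P-span of the elements j(u) • v
- j(v) • u. Then J • R is contained in the trivial relations: for a in J and x in R the element a •
x is a P-combination of trivial relations, so that R modulo the trivial relations is a module over
P/J. (The published statement takes F finitely generated free over a smooth algebra; this row allows
any module F.) -/
theorem result (P : Type u) [CommRing P] (F : Type v) [AddCommGroup F]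
    [Module P F] (j : F →ₗ[P] P) (a : P) (ha : a ∈ LinearMap.range j) (x : F) (hx : x ∈ LinearMap.ker j) :
    a • x ∈ Submodule.span P {y : F | ∃ u v : F, y = j u • v - j v • u} := by
  obtain ⟨u, rfl⟩ := ha
  refine Submodule.subset_span ⟨u, x, ?_⟩
  rw [LinearMap.mem_ker.mp hx]
  simp

end Groth.Agent.S11293
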