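import Groth.Statements.S11294
import Mathlib.Tactic
import Mathlib.RingTheory.AdicCompletion.Basic
import Mathlib.RingTheory.Finiteness.Projective

set_option autoImplicit false
set_option linter.style.haveILetI false
universe u
open Deform

namespace Groth.Agent.S11294

open TrivSqZeroExt in
/-- Let P be a commutative ring, J an ideal, and P[ε] the ring of dual numbers over P. First-order
embedded deformations of Spec(P/J) in Spec P, namely ideals J' of P[ε] lifting J (the image of J'
under ε ↦ 0 is J) with P[ε]/J' flat over the dual numbers — flatness being replaced by the condition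
that every element of P[ε]/J' annihilated by ε is a multiple of ε (equivalent to flatness over k[ε]
when P is an algebra over a field k) — are in canonical bijection with Hom_P(J, P/J) =
Hom_{P/J}(J/J^2, P/J), the normal module: to φ corresponds the ideal of all a + εb with a in J and b
reducing to φ(a) modulo J. The first clause says this rule defines exactly one ideal for each φ; the
second says an ideal J' is a flat lift of J precisely when its membership is given by this rule for
some φ. (The published statement is the global one, identifying first-order deformations of a closed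
subscheme X of an algebraic scheme Y with H^0(X, N_{X/Y}); this row is the affine computation in its
proof, valid for every commutative ring P.) -/
theorem result (P : Type u) [CommRing P] (J : Ideal P) :
    (∀ φ : J →ₗ[P] (P ⧸ J), ∃! J' : Ideal (DualNumber P),
        ∀ a b : P, (inl a + inr b : DualNumber P) ∈ J' ↔ ∃ h : a ∈ J, Ideal.Quotient.mk J b = φ ⟨a, h⟩) ∧
    (∀ J' : Ideal (DualNumber P),
      (J'.map (TrivSqZeroExt.fstHom P P P) = J ∧
        ∀ m : DualNumber P ⧸ J', Ideal.Quotient.mk J' DualNumber.eps * m = 0 →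
          ∃ m' : DualNumber P ⧸ J', m = Ideal.Quotient.mk J' DualNumber.eps * m') ↔
      ∃ φ : J →ₗ[P] (P ⧸ J), ∀ a b : P,
        (inl a + inr b : DualNumber P) ∈ J' ↔ ∃ h : a ∈ J, Ideal.Quotient.mk J b = φ ⟨a, h⟩) := by
    classical
    have hε : ∀ a : P, (inl a : DualNumber P) * DualNumber.eps = inr a := fun a => TrivSqZeroExt.ext (by simp) (by simp)
    have hdec : ∀ z : DualNumber P, (inl z.fst + inr z.snd : DualNumber P) = z := inl_fst_add_inr_snd_eq
    refine ⟨fun φ => ?_, fun J' => ⟨fun ⟨hmap, hflat⟩ => ?_, ?_⟩⟩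
    · let L : Ideal (DualNumber P) :=
        { carrier := {z | ∃ h : z.fst ∈ J, Ideal.Quotient.mk J z.snd = φ ⟨z.fst, h⟩}
          add_mem' := fun {z w} ⟨hz, hz'⟩ ⟨hw, hw'⟩ => ⟨by rw [fst_add]; exact add_mem hz hw, by
            rw [snd_add, map_add, hz', hw', ← map_add]; rfl⟩
          zero_mem' := ⟨by simp, by
            rw [show (⟨(0 : DualNumber P).fst, _⟩ : ↥J) = 0 from Subtype.ext rfl, map_zero]; simp⟩
          smul_mem' := fun r z ⟨hz, hz'⟩ => ⟨by rw [smul_eq_mul, fst_mul]; exact J.mul_mem_left _ hz, by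
            rw [show (⟨(r • z).fst, _⟩ : ↥J) = r.fst • ⟨z.fst, hz⟩ from Subtype.ext (fst_mul r z),
              map_smul, ← hz', Algebra.smul_def, Ideal.Quotient.algebraMap_eq, ← map_mul]
            refine Ideal.Quotient.eq.mpr ?_
            rw [smul_eq_mul, DualNumber.snd_mul, add_sub_cancel_left]
            exact J.mul_mem_left _ hz⟩ }
      refine ⟨L, fun a b => ?_, fun L' hL' => Ideal.ext fun z => ?_⟩
      · constructor
        · rintro ⟨h, h'⟩; exact ⟨by simpa using h, by simpa using h'⟩
        · rintro ⟨h, h'⟩; exact ⟨by simpa using h, by simpa using h'⟩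
      · conv_lhs => rw [← hdec z]
        exact hL' _ _
    · have hsurj : Function.Surjective (fstHom P P P : DualNumber P →ₐ[P] P) := fun p => ⟨(inl p : DualNumber P), TrivSqZeroExt.fst_inl P p⟩
      have hmem : ∀ a, a ∈ J ↔ ∃ b, (inl a + inr b : DualNumber P) ∈ J' := fun a => by
        rw [← hmap, Ideal.mem_map_iff_of_surjective _ hsurj]
        exact ⟨fun ⟨z, hz, ha⟩ => ⟨z.snd, by subst ha; rw [show (fstHom P P P) z = z.fst from rfl, hdec]; exact hz⟩,
          fun ⟨b, hb⟩ => ⟨_, hb, by simp⟩⟩
      have h0 : ∀ b, (inr b : DualNumber P) ∈ J' → b ∈ J := fun b hb => by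
        obtain ⟨m', hm'⟩ := hflat (Ideal.Quotient.mk J' (inl b)) (by
          rw [← map_mul, Ideal.Quotient.eq_zero_iff_mem, mul_comm, hε]
          exact hb)
        obtain ⟨w, rfl⟩ := Ideal.Quotient.mk_surjective m'
        rw [← map_mul, Ideal.Quotient.eq] at hm'
        rw [← hmap, Ideal.mem_map_iff_of_surjective _ hsurj]
        exact ⟨_, hm', by simp⟩
      choose β hβ using fun a : ↥J => (hmem a.1).mp a.2
      have hchar : ∀ a : ↥J, ∀ b, (inl a.1 + inr b : DualNumber P) ∈ J' → Ideal.Quotient.mk J b = Ideal.Quotient.mk J (β a) := by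
        intro a b hb
        have h1 := J'.sub_mem hb (hβ a)
        rw [add_sub_add_left_eq_sub, ← inr_sub] at h1
        exact Ideal.Quotient.eq.mpr (h0 _ h1)
      let φ : ↥J →ₗ[P] (P ⧸ J) :=
        { toFun := fun a => Ideal.Quotient.mk J (β a)
          map_add' := fun a a' => by
            refine ((hchar (a + a') (β a + β a') ?_).symm.trans (by simp))
            rw [Submodule.coe_add, inl_add, inr_add, add_add_add_comm]
            exact J'.add_mem (hβ a) (hβ a')
          map_smul' := fun c a => by
            refine ((hchar (c • a) (c • β a) ?_).symm.trans (by simp [Algebra.smul_def]))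
            have := J'.mul_mem_left (inl c) (hβ a)
            rwa [mul_add, ← inl_mul, inl_mul_inr] at this }
      refine ⟨φ, fun a b => ⟨fun h => ⟨(hmem a).mpr ⟨b, h⟩, hchar ⟨a, (hmem a).mpr ⟨b, h⟩⟩ b h⟩, fun ⟨h, h'⟩ => ?_⟩⟩
      have h1 : (inr (b - β ⟨a, h⟩) : DualNumber P) ∈ J' := by
        obtain ⟨c, hc⟩ := (hmem _).mp (Ideal.Quotient.eq.mp h')
        have := J'.mul_mem_right (DualNumber.eps) hc
        rwa [add_mul, hε, show (inr _ : DualNumber P) * DualNumber.eps = 0 from inr_mul_inr _ _ _, add_zero] at this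
      have := J'.add_mem (hβ ⟨a, h⟩) h1
      rwa [add_assoc, ← inr_add, add_sub_cancel] at this
    · rintro ⟨φ, hφ⟩
      refine ⟨le_antisymm (Ideal.map_le_iff_le_comap.mpr fun z hz => ?_) fun a ha => ?_, fun m hm => ?_⟩
      · exact ((hφ z.fst z.snd).mp (by rwa [hdec])).1
      · obtain ⟨b, hb⟩ := Ideal.Quotient.mk_surjective (φ ⟨a, ha⟩)
        rw [show a = fstHom P P P (inl a + inr b) by simp]
        exact Ideal.mem_map_of_mem _ ((hφ a b).mpr ⟨ha, hb⟩)
      · obtain ⟨z, rfl⟩ := Ideal.Quotient.mk_surjective m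
        rw [← map_mul, Ideal.Quotient.eq_zero_iff_mem,
          show DualNumber.eps * z = inl 0 + inr z.fst from TrivSqZeroExt.ext (by simp) (by simp)] at hm
        obtain ⟨h0, h0'⟩ := (hφ _ _).mp hm
        rw [show (⟨(0 : P), h0⟩ : ↥J) = 0 from rfl, map_zero, Ideal.Quotient.eq_zero_iff_mem] at h0'
        obtain ⟨b, hb⟩ := Ideal.Quotient.mk_surjective (φ ⟨_, h0'⟩)
        refine ⟨Ideal.Quotient.mk J' (inl (z.snd - b)), ?_⟩
        rw [← map_mul, Ideal.Quotient.eq, mul_comm, hε]
        rw [show z - inr (z.snd - b) = (inl z.fst + inr b : DualNumber P) from TrivSqZeroExt.ext (by simp) (by simp)]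
        exact (hφ _ _).mpr ⟨h0', hb⟩

end Groth.Agent.S11294
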