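import Groth.Statements.S11299
import Mathlib.Algebra.Module.Projective
import Mathlib.LinearAlgebra.Quotient.Basic

set_option autoImplicit false
universe u
open CAlg

namespace Groth.Agent.S11299

variable {P : Type u} [CommRing P] {J : Ideal P} {F F' : Type u} [AddCommGroup F] [Module P F]
    [AddCommGroup F'] [Module P F'] (j : F →ₗ[P] P) (j' : F' →ₗ[P] P)

abbrev relR : Submodule P F := LinearMap.ker j

abbrev trivR : Submodule P ↥(relR j) :=
  Submodule.comap (LinearMap.ker j).subtype
    (Submodule.span P {y : F | ∃ u v : F, y = j u • v - j v • u})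

abbrev kerT (J : Ideal P) : Submodule P (↥(relR j) →ₗ[P] P ⧸ J) :=
  LinearMap.ker (LinearMap.lcomp P (P ⧸ J) (trivR j).subtype)

abbrev ranE (J : Ideal P) : Submodule P (↥(relR j) →ₗ[P] P ⧸ J) :=
  LinearMap.range (LinearMap.lcomp P (P ⧸ J) (LinearMap.ker j).subtype)

abbrev t2 (J : Ideal P) : Submodule P ((↥(relR j) →ₗ[P] P ⧸ J) ⧸ ranE j J) :=
  Submodule.map (ranE j J).mkQ (kerT j J)

section
variable (α : F →ₗ[P] F') (hα : ∀ x, j' (α x) = j x)

/-- `α` on relations. -/
noncomputable def relMap : ↥(relR j) →ₗ[P] ↥(relR j') :=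
  (α ∘ₗ (relR j).subtype).codRestrict (relR j') fun x => by
    show j' (α x) = 0
    rw [hα]; exact x.2

lemma map_trivR (x : ↥(relR j)) (hx : x ∈ trivR j) : relMap j j' α hα x ∈ trivR j' := by
  show α x.1 ∈ Submodule.span P {y : F' | ∃ u v : F', y = j' u • v - j' v • u}
  have h : x.1 ∈ Submodule.span P {y : F | ∃ u v : F, y = j u • v - j v • u} := hx
  refine (Submodule.span_le (p := Submodule.comap α
    (Submodule.span P {y : F' | ∃ u v : F', y = j' u • v - j' v • u}))).mpr ?_ h
  rintro _ ⟨u, v, rfl⟩
  exact Submodule.subset_span ⟨α u, α v, by rw [hα, hα, map_sub, map_smul, map_smul]⟩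

lemma ranE_le : ranE j' J ≤ (ranE j J).comap (LinearMap.lcomp P (P ⧸ J) (relMap j j' α hα)) := by
  rintro _ ⟨ψ, rfl⟩
  exact ⟨ψ ∘ₗ α, rfl⟩

noncomputable def t2Map : ↥(t2 j' J) →ₗ[P] ↥(t2 j J) :=
  LinearMap.restrict ((ranE j' J).mapQ (ranE j J) (LinearMap.lcomp P (P ⧸ J) (relMap j j' α hα))
    (ranE_le j j' α hα)) (by
    rintro _ ⟨φ, hφ, rfl⟩
    refine ⟨φ ∘ₗ relMap j j' α hα, ?_, rfl⟩
    rw [SetLike.mem_coe, LinearMap.mem_ker] at hφ ⊢
    ext x
    exact LinearMap.congr_fun hφ ⟨_, map_trivR j j' α hα x.1 x.2⟩)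

lemma t2Map_comp (β : F' →ₗ[P] F) (hβ : ∀ x, j (β x) = j' x) (y : ↥(t2 j J)) :
    t2Map j j' α hα (t2Map j' j β hβ y) = y := by
  obtain ⟨_, φ, hφ, rfl⟩ := y
  refine Subtype.ext ((Submodule.Quotient.eq _).mpr ?_)
  have hd : ∀ x : F, (β ∘ₗ α - LinearMap.id : F →ₗ[P] F) x ∈ relR j := fun x => by
    rw [LinearMap.mem_ker]
    simp [hα, hβ]
  refine ⟨φ ∘ₗ (β ∘ₗ α - LinearMap.id : F →ₗ[P] F).codRestrict (relR j) hd, ?_⟩
  ext x
  show φ ((β ∘ₗ α - LinearMap.id : F →ₗ[P] F).codRestrict (relR j) hd x.1) =
    φ (relMap j' j β hβ (relMap j j' α hα x)) - φ x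
  rw [← map_sub]
  congr 1

noncomputable def t2Equiv (β : F' →ₗ[P] F) (hβ : ∀ x, j (β x) = j' x) : ↥(t2 j J) ≃ₗ[P] ↥(t2 j' J) :=
  LinearEquiv.ofLinearMap (t2Map j' j β hβ) (t2Map j j' α hα)
    (LinearMap.ext fun y => t2Map_comp j' j β hβ α hα y)
    (LinearMap.ext fun y => t2Map_comp j j' α hα β hβ y)

end

theorem t2_iso [Module.Free P F] [Module.Free P F']
    (hj : LinearMap.range j = J) (hj' : LinearMap.range j' = J) :
    Nonempty (↥(Submodule.map
          (LinearMap.range (LinearMap.lcomp P (P ⧸ J) (LinearMap.ker j).subtype)).mkQ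
          (LinearMap.ker (LinearMap.lcomp P (P ⧸ J)
            (Submodule.comap (LinearMap.ker j).subtype
              (Submodule.span P {y : F | ∃ u v : F, y = j u • v - j v • u})).subtype))) ≃ₗ[P]
      ↥(Submodule.map
          (LinearMap.range (LinearMap.lcomp P (P ⧸ J) (LinearMap.ker j').subtype)).mkQ
          (LinearMap.ker (LinearMap.lcomp P (P ⧸ J)
            (Submodule.comap (LinearMap.ker j').subtype
              (Submodule.span P {y : F' | ∃ u v : F', y = j' u • v - j' v • u})).subtype)))) := by
  obtain ⟨α, hα⟩ := Module.projective_lifting_property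
    (j'.codRestrict J fun x => hj' ▸ LinearMap.mem_range_self j' x)
    (j.codRestrict J fun x => hj ▸ LinearMap.mem_range_self j x)
    (fun x => by
      obtain ⟨y, hy⟩ : (x : P) ∈ LinearMap.range j' := by rw [hj']; exact x.2
      exact ⟨y, Subtype.ext hy⟩)
  obtain ⟨β, hβ⟩ := Module.projective_lifting_property
    (j.codRestrict J fun x => hj ▸ LinearMap.mem_range_self j x)
    (j'.codRestrict J fun x => hj' ▸ LinearMap.mem_range_self j' x)
    (fun x => by
      obtain ⟨y, hy⟩ : (x : P) ∈ LinearMap.range j := by rw [hj]; exact x.2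
      exact ⟨y, Subtype.ext hy⟩)
  have hα' : ∀ x, j' (α x) = j x := fun x => congrArg Subtype.val (LinearMap.congr_fun hα x)
  have hβ' : ∀ x, j (β x) = j' x := fun x => congrArg Subtype.val (LinearMap.congr_fun hβ x)
  exact ⟨t2Equiv j j' α hα' β hβ'⟩

/-- The second cotangent module does not depend on the presentation: let P be a commutative ring, J an
ideal and B = P/J. For a presentation of J, i.e. a finitely generated free P-module F with a
P-linear map j : F → P with image J, let R = ker j be the relation module and R^tr ⊆ R the span of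
the trivial relations j(u) • v - j(v) • u; the module T^2 of the presentation is the quotient of
Hom_B(R/R^tr, B), realised as the P-linear maps R → P/J vanishing on R^tr, by the restrictions to R
of the P-linear maps F → P/J (here: the image of that submodule in the quotient of Hom_P(R, P/J) by
the restrictions). Then for two presentations (F, j) and (F', j') of the same ideal J the two
modules T^2 are isomorphic as P-modules (existence of an isomorphism; the comparison maps depend on
expressing one system of generators through the other). (The published statement takes B essentially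
of finite type over a field and P smooth; this row allows any commutative ring P and ideal J.) -/
theorem result (P : Type u) [CommRing P] (J : Ideal P)
    (F : Type u) [AddCommGroup F] [Module P F] [Module.Free P F] [Module.Finite P F]
    (F' : Type u) [AddCommGroup F'] [Module P F'] [Module.Free P F'] [Module.Finite P F']
    (j : F →ₗ[P] P) (j' : F' →ₗ[P] P) (hj : LinearMap.range j = J) (hj' : LinearMap.range j' = J) :
    Nonempty (↥(Submodule.map
          (LinearMap.range (LinearMap.lcomp P (P ⧸ J) (LinearMap.ker j).subtype)).mkQ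
          (LinearMap.ker (LinearMap.lcomp P (P ⧸ J)
            (Submodule.comap (LinearMap.ker j).subtype
              (Submodule.span P {y : F | ∃ u v : F, y = j u • v - j v • u})).subtype))) ≃ₗ[P]
      ↥(Submodule.map
          (LinearMap.range (LinearMap.lcomp P (P ⧸ J) (LinearMap.ker j').subtype)).mkQ
          (LinearMap.ker (LinearMap.lcomp P (P ⧸ J)
            (Submodule.comap (LinearMap.ker j').subtype
              (Submodule.span P {y : F' | ∃ u v : F', y = j' u • v - j' v • u})).subtype)))) := by
  exact t2_iso j j' hj hj'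

end Groth.Agent.S11299
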