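import Groth.Statements.S11302
import Groth.Agent.H24Cot.Regular

set_option autoImplicit false
set_option linter.style.haveILetI false
universe u
open Deform

namespace Groth.Agent.S11302

open MvPolynomial in
/-- T^1 of a complete intersection; the hypersurface case P/(f, ∂f/∂X_1, ..., ∂f/∂X_d) is n = 1: let k
be an algebraically closed field, P = k[X_1, ..., X_d], f_1, ..., f_n a regular sequence in P (each
f_i a non-zero-divisor modulo the preceding ones), J the ideal they generate and B = P/J. The first
cotangent module T^1_B — the cokernel of Der_k(P, B) → Hom_P(J, B), a derivation being restricted to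
J — is isomorphic, as a P-module, to B^n modulo the B-submodule generated by the d columns
(∂f_1/∂X_j, ..., ∂f_n/∂X_j), j = 1, ..., d, of the Jacobian matrix reduced modulo J, through the map
sending the class of φ : J → B to the class of (φ(f_1), ..., φ(f_n)). (The published formula allows
P to be a localisation of the polynomial ring; this row takes the polynomial ring.) -/
theorem result (k : Type u) [Field k] [IsAlgClosed k] (d n : ℕ)
    (f : Fin n → MvPolynomial (Fin d) k) (hreg : RingTheory.Sequence.IsWeaklyRegular (MvPolynomial (Fin d) k) (List.ofFn f)) :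
    ∃ e : ((↥(Ideal.span (Set.range f)) →ₗ[MvPolynomial (Fin d) k] (MvPolynomial (Fin d) k ⧸ Ideal.span (Set.range f))) ⧸
            Submodule.span (MvPolynomial (Fin d) k)
              {ψ : ↥(Ideal.span (Set.range f)) →ₗ[MvPolynomial (Fin d) k] (MvPolynomial (Fin d) k ⧸ Ideal.span (Set.range f)) |
                ∃ D : Derivation k (MvPolynomial (Fin d) k) (MvPolynomial (Fin d) k ⧸ Ideal.span (Set.range f)), ∀ a : ↥(Ideal.span (Set.range f)), ψ a = D (a : MvPolynomial (Fin d) k)}) ≃ₗ[MvPolynomial (Fin d) k]
          ((Fin n → MvPolynomial (Fin d) k ⧸ Ideal.span (Set.range f)) ⧸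
            Submodule.span (MvPolynomial (Fin d) k ⧸ Ideal.span (Set.range f))
              (Set.range fun j : Fin d => fun i : Fin n => Ideal.Quotient.mk (Ideal.span (Set.range f)) (pderiv j (f i)))),
      ∀ φ : ↥(Ideal.span (Set.range f)) →ₗ[MvPolynomial (Fin d) k] (MvPolynomial (Fin d) k ⧸ Ideal.span (Set.range f)),
        e (Submodule.Quotient.mk φ) =
          Submodule.Quotient.mk (fun i : Fin n => φ ⟨f i, Ideal.subset_span (Set.mem_range_self i)⟩) := by
  let P := MvPolynomial (Fin d) k
  let J := Ideal.span (Set.range f)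
  have hfJ : ∀ i, f i ∈ J := fun i => Ideal.subset_span (Set.mem_range_self i)
  let g : Fin n → ↥J := fun i => ⟨f i, hfJ i⟩
  let E : (↥J →ₗ[P] P ⧸ J) →ₗ[P] (Fin n → P ⧸ J) :=
    { toFun := fun ψ i => ψ (g i)
      map_add' := fun _ _ => rfl
      map_smul' := fun _ _ => rfl }
  let π : (Fin n → P) →ₗ[P] ↥J :=
    (Fintype.linearCombination P f).codRestrict J (fun c => by
      rw [Fintype.linearCombination_apply]
      exact sum_mem fun i _ => J.mul_mem_left _ (hfJ i))
  have hπ : Function.Surjective π := fun x => by
    obtain ⟨c, hc⟩ := Ideal.mem_span_range_iff_exists_fun.mp x.2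
    exact ⟨c, Subtype.ext (by simpa [π, Fintype.linearCombination_apply] using hc)⟩
  have hπ1 : ∀ i, π (Pi.single i 1) = g i := fun i => Subtype.ext (by simp [π, g, Fintype.linearCombination_apply_single])
  have hJ0 : ∀ a ∈ J, ∀ b : P ⧸ J, a • b = 0 := fun a ha b => by
    obtain ⟨b, rfl⟩ := Ideal.Quotient.mk_surjective b
    exact Ideal.Quotient.eq_zero_iff_mem.mpr (J.mul_mem_right b ha)
  have hc : ∀ c : Fin n → P, ∑ i, c i * f i = 0 → ∀ i, c i ∈ J := fun c hc i => by
    have h := Groth.Agent.H24Cot.relationsTrivial_ofFn f hreg c hc (P ⧸ J) (Pi.single i 1) (fun a b => by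
      rw [hJ0 _ (hfJ a), hJ0 _ (hfJ b)])
    rw [Finset.sum_eq_single i (fun j _ hj => by rw [Pi.single_eq_of_ne hj, smul_zero])
      (fun h => absurd (Finset.mem_univ i) h), Pi.single_eq_same] at h
    exact Ideal.Quotient.eq_zero_iff_mem.mp (((mul_one (Ideal.Quotient.mk J (c i))).symm.trans h :))
  have hEinj : Function.Injective E := fun ψ ψ' h => by
    have : ψ.comp π = ψ'.comp π := by
      refine (Pi.basisFun P (Fin n)).ext fun i => ?_
      simp only [LinearMap.comp_apply, Pi.basisFun_apply, hπ1]
      exact congrFun h i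
    exact LinearMap.ext fun x => by
      obtain ⟨c, rfl⟩ := hπ x
      exact LinearMap.congr_fun this c
  have hEsurj : Function.Surjective E := fun v => by
    let L : (Fin n → P) →ₗ[P] P ⧸ J := Fintype.linearCombination P v
    have hker : LinearMap.ker π ≤ LinearMap.ker L := fun c hcc => by
      have h0 : ∑ i, c i * f i = 0 := by
        have := congrArg Subtype.val (LinearMap.mem_ker.mp hcc)
        simpa [π, Fintype.linearCombination_apply] using this
      rw [LinearMap.mem_ker, Fintype.linearCombination_apply]
      refine Finset.sum_eq_zero fun i _ => ?_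
      exact hJ0 _ (hc c h0 i) _
    refine ⟨((LinearMap.ker π).liftQ L hker).comp (π.quotKerEquivOfSurjective hπ).symm.toLinearMap, funext fun i => ?_⟩
    have : (π.quotKerEquivOfSurjective hπ).symm (g i) = Submodule.Quotient.mk (Pi.single i 1) := by
      rw [LinearEquiv.symm_apply_eq, ← hπ1]; rfl
    change (LinearMap.ker π).liftQ L hker ((π.quotKerEquivOfSurjective hπ).symm (g i)) = v i
    rw [this, Submodule.liftQ_apply, Fintype.linearCombination_apply_single, one_smul]
  have hder : ∀ (D : Derivation k P (P ⧸ J)) (a : P), D a = ∑ j, MvPolynomial.pderiv j a • D (MvPolynomial.X j) := by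
    intro D a
    induction a using MvPolynomial.induction_on with
    | C c =>
      refine (D.map_algebraMap c).trans (Finset.sum_eq_zero fun j _ => ?_).symm
      rw [MvPolynomial.pderiv_C, zero_smul]
    | add a b ha hb => simp [map_add, ha, hb, add_smul, Finset.sum_add_distrib]
    | mul_X a i ha =>
      rw [D.leibniz, ha]
      simp [Pi.single_apply, add_smul, Finset.sum_add_distrib, Finset.smul_sum, smul_smul, apply_ite,
        mul_comm, ite_smul]
  let col : Fin d → (Fin n → P ⧸ J) := fun j i => Ideal.Quotient.mk J (MvPolynomial.pderiv j (f i))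
  let Ee := LinearEquiv.ofBijective E ⟨hEinj, hEsurj⟩
  let S := Submodule.span P {ψ : ↥J →ₗ[P] (P ⧸ J) | ∃ D : Derivation k P (P ⧸ J), ∀ a : ↥J, ψ a = D (a : P)}
  let T := Submodule.span (P ⧸ J) (Set.range col)
  have hST : S.map Ee.toLinearMap = T.restrictScalars P := by
    refine le_antisymm (Submodule.map_le_iff_le_comap.mpr (Submodule.span_le.mpr ?_)) ?_
    · rintro ψ ⟨D, hD⟩
      change (fun i => ψ (g i)) ∈ T
      have : (fun i => ψ (g i)) = ∑ j, D (MvPolynomial.X j) • col j := funext fun i => by
        rw [hD, hder, Finset.sum_apply]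
        refine Finset.sum_congr rfl fun j _ => ?_
        change MvPolynomial.pderiv j (f i) • D (MvPolynomial.X j) = D (MvPolynomial.X j) * Ideal.Quotient.mk J (MvPolynomial.pderiv j (f i))
        obtain ⟨b, hb⟩ := Ideal.Quotient.mk_surjective (D (MvPolynomial.X j))
        rw [← hb]
        exact congrArg (Ideal.Quotient.mk J) (mul_comm _ b)
      rw [this]
      exact sum_mem fun j _ => Submodule.smul_mem _ _ (Submodule.subset_span ⟨j, rfl⟩)
    · rw [Submodule.restrictScalars_span P (P ⧸ J) Ideal.Quotient.mk_surjective, Submodule.span_le]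
      rintro _ ⟨j, rfl⟩
      let D : Derivation k P (P ⧸ J) := (Submodule.mkQ J).compDer (MvPolynomial.pderiv j)
      let ψ : ↥J →ₗ[P] P ⧸ J :=
        { toFun := fun a => D a.1
          map_add' := fun a b => map_add D _ _
          map_smul' := fun r a => by
            change D (r * a.1) = r • D a.1
            rw [D.leibniz, hJ0 _ a.2, add_zero] }
      exact ⟨ψ, Submodule.subset_span ⟨D, fun a => rfl⟩, rfl⟩
  refine ⟨Submodule.Quotient.equiv _ _ Ee hST ≪≫ₗ Submodule.Quotient.restrictScalarsEquiv P T, fun φ => ?_⟩
  rfl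

end Groth.Agent.S11302
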