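import Groth.Statements.S11304
import Groth.Agent.H17.QuotSch.Flag
-- import your own Groth.Agent.* helpers here

set_option autoImplicit false
universe u
open CategoryTheory CategoryTheory.Limits AlgebraicGeometry
open FGA

namespace Groth.Agent.S11304

/-- Flag Hilbert schemes: the case of flags of length two: let k be an algebraically closed field and r
≥ 1. The functor sending a k-scheme T to the set of pairs X_1 ⊆ X_2 of closed subschemes of P^r_T,
each flat and proper over T, is representable by a k-scheme which is a disjoint union of projective
k-schemes, with a universal nested pair. Stated here on locally Noetherian test schemes and with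
closed subschemes given by their quasi-coherent ideal sheaves (X_1 ⊆ X_2 meaning I_{X_2} ≤ I_{X_1}):
there are a locally Noetherian k-scheme H, a nested pair (W_1, W_2) over H through which every
nested pair over a locally Noetherian k-scheme T is pulled back along a unique k-morphism T → H, and
a decomposition of H into pieces each admitting a closed immersion over k into some projective
space. (The published statement treats flags of any length, each piece indexed by a tuple of Hilbert
polynomials; this row states length two and does not record the indexing.) -/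
theorem result (k : Type u) [Field k] [IsAlgClosed k] (r : ℕ) (hr : 1 ≤ r) :
    ∃ (H : Over (Spec (CommRingCat.of k))) (W₁ W₂ : FGA.HilbSet (CohB1.ProjSpaceOver.toBase r (Spec (CommRingCat.of k))) H),
      W₂.1 ≤ W₁.1 ∧ IsLocallyNoetherian H.left ∧
      (∀ (T : Over (Spec (CommRingCat.of k))) [IsLocallyNoetherian T.left] (Y₁ Y₂ : FGA.HilbSet (CohB1.ProjSpaceOver.toBase r (Spec (CommRingCat.of k))) T),
          Y₂.1 ≤ Y₁.1 →
          ∃! g : T ⟶ H, FGA.hilbPull (CohB1.ProjSpaceOver.toBase r (Spec (CommRingCat.of k))) g W₁.1 = Y₁.1 ∧ FGA.hilbPull (CohB1.ProjSpaceOver.toBase r (Spec (CommRingCat.of k))) g W₂.1 = Y₂.1) ∧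
      ∃ (ι : Type u) (P : ι → Scheme.{u}) (e : (∐ P) ≅ H.left) (m : ι → ℕ)
        (c : ∀ a, P a ⟶ CohB1.ProjSpaceOver (m a) (Spec (CommRingCat.of k))),
        ∀ a, IsClosedImmersion (c a) ∧
          c a ≫ CohB1.ProjSpaceOver.toBase (m a) (Spec (CommRingCat.of k)) = Limits.Sigma.ι P a ≫ e.hom ≫ H.hom := by
  exact Groth.Agent.H17.QuotSch.exists_flag _ r

end Groth.Agent.S11304
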