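import Groth.Statements.S11306
import Mathlib.RingTheory.Nakayama
import Mathlib.LinearAlgebra.Dimension.FreeAndStrongRankCondition
import Mathlib.RingTheory.LocalRing.Module
import Mathlib.LinearAlgebra.Dimension.OrzechProperty

set_option autoImplicit false
universe u
open TensorProduct
open CAlg

namespace Groth.Agent.S11306

/-- Take a Noetherian local domain A, with residue field k and fraction field K, and let M be a finitely
generated A-module. If k ⊗_A M and K ⊗_A M have the same dimension r (over k and over K
respectively), then M is a free A-module of rank r. -/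
theorem result (A : Type u) [CommRing A] [IsDomain A]
    [IsNoetherianRing A] [IsLocalRing A] (M : Type u) [AddCommGroup M] [Module A M] [Module.Finite A M] (r : ℕ)
    (hk : Module.finrank (IsLocalRing.ResidueField A) (IsLocalRing.ResidueField A ⊗[A] M) = r)
    (hK : Module.finrank (FractionRing A) (FractionRing A ⊗[A] M) = r) :
    Module.Free A M ∧ Module.finrank A M = r := by
  classical
  let k := IsLocalRing.ResidueField A
  let K := FractionRing A
  let b : Module.Basis (Fin r) k (k ⊗[A] M) := Module.finBasisOfFinrankEq k (k ⊗[A] M) hk
  have hsurj : Function.Surjective (TensorProduct.mk A k M 1) :=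
    TensorProduct.mk_surjective A M k IsLocalRing.residue_surjective
  choose m hm using fun i => hsurj (b i)
  have hspan : Submodule.span A (Set.range m) = ⊤ := by
    apply IsLocalRing.span_eq_top_of_tmul_eq_basis (fun i => m i) b
    exact hm
  have hli : LinearIndependent A m := by
    have hKspan : Submodule.span K (Set.range fun i => (1 : K) ⊗ₜ[A] m i) = ⊤ := by
      rw [eq_top_iff]
      rintro z -
      induction z using TensorProduct.induction_on with
      | zero => exact Submodule.zero_mem _
      | add u v h1 h2 => exact Submodule.add_mem _ h1 h2
      | tmul c x =>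
        have hx : (1 : K) ⊗ₜ[A] x ∈ Submodule.map (TensorProduct.mk A K M 1) (Submodule.span A (Set.range m)) :=
          ⟨x, hspan ▸ Submodule.mem_top, rfl⟩
        rw [Submodule.map_span, ← Set.range_comp] at hx
        have hc : c ⊗ₜ[A] x = c • ((1 : K) ⊗ₜ[A] x) := by rw [TensorProduct.smul_tmul', smul_eq_mul, mul_one]
        rw [hc]
        exact Submodule.smul_mem _ c (Submodule.span_le_restrictScalars A K _ hx)
    have hliK : LinearIndependent K (fun i => (1 : K) ⊗ₜ[A] m i) :=
      linearIndependent_of_top_le_span_of_card_eq_finrank hKspan.ge (by rw [Fintype.card_fin]; exact hK.symm)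
    have h2 : LinearIndependent A (fun i => (1 : K) ⊗ₜ[A] m i) := hliK.restrict_scalars (fun x y h => by
      simpa [Algebra.smul_def] using h)
    exact LinearIndependent.of_comp (TensorProduct.mk A K M 1) h2
  let B := Module.Basis.mk hli hspan.ge
  exact ⟨Module.Free.of_basis B, by rw [Module.finrank_eq_card_basis B, Fintype.card_fin]⟩

end Groth.Agent.S11306
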