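import Groth.Statements.S1131
import Groth.Agent.H13Desc.SchDD

set_option autoImplicit false
open CategoryTheory CategoryTheory.Limits AlgebraicGeometry Opposite
universe u
open Desc

namespace Groth.Agent.S1131

/-- If p : X ⟶ S is surjective, flat and quasi-compact, then the functor sending a scheme over S to its
canonical descent datum relative to p is full. (Faithfulness, which needs no quasi-compactness, is a
companion statement.) (Descent data are taken in functor-of-points form, equivalent by the Yoneda
lemma to the usual form of an isomorphism over X ×_S X satisfying the cocycle condition.) -/
theorem result {X S : Scheme.{u}} (p : X ⟶ S) [Surjective p] [Flat p] [QuasiCompact p] :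
    (Desc.toDD p).Full := by
  exact Groth.Agent.H13Desc.toDD_full_of_fpqc p

end Groth.Agent.S1131
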