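import Groth.Statements.S11310
import Groth.Agent.H17.FLI.Adjunction
import Groth.Agent.H29RR.SmoothRegular
import Groth.Agent.H27CurveDiv.RelDim
import Groth.Agent.H11Ample.UnitIso
-- import your own Groth.Agent.* helpers here

set_option autoImplicit false
universe u
open CategoryTheory CategoryTheory.Limits AlgebraicGeometry
open NonsingVar

namespace Groth.Agent.S11310

/-- Let k be an algebraically closed field, X a nonsingular variety over k (integral, separated and of
finite type over k, all local rings regular) of dimension m + r, and i : Y → X a nonsingular closed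
subvariety (integral closed subscheme with regular local rings) of dimension m, so of codimension r,
with conormal sheaf I/I². Let ω_X be an (m + r)-th exterior power of the sheaf of differentials of X
over k, ω_Y an m-th exterior power of that of Y over k, and L an r-th exterior power of the conormal
sheaf. Then i^*ω_X and ω_Y ⊗ L are isomorphic O_Y-modules (existence of an isomorphism only; the
published statement also names no map). Since L is invertible with dual the r-th exterior power of
the normal sheaf N = (I/I²)^∨, this is the adjunction formula ω_Y ≅ ω_X ⊗ ∧^r N; for r = 1 it reads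
ω_Y ≅ ω_X ⊗ L(Y) ⊗ O_Y. -/
theorem result (k : Type u) [Field k] [IsAlgClosed k]
    (m r : ℕ) (X : Scheme.{u}) [X.Over (Spec (CommRingCat.of k))] [IsIntegral X] [IsSeparated (X ↘ (Spec (CommRingCat.of k)))]
    [LocallyOfFiniteType (X ↘ (Spec (CommRingCat.of k)))] [QuasiCompact (X ↘ (Spec (CommRingCat.of k)))]
    (hreg : ∀ x : ↥X, IsRegularLocalRing ↑(X.presheaf.stalk x))
    (hX : topologicalKrullDim ↥X = ((m + r : ℕ) : WithBot ℕ∞))
    (Y : Scheme.{u}) (i : Y ⟶ X) [IsClosedImmersion i] [IsIntegral Y]
    (hregY : ∀ y : ↥Y, IsRegularLocalRing ↑(Y.presheaf.stalk y))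
    (hY : topologicalKrullDim ↥Y = (m : WithBot ℕ∞))
    (ωX : X.Modules) (hωX : ExtPow.IsExtPow (m + r) (Omega.sheaf (X ↘ (Spec (CommRingCat.of k)))) ωX)
    (ωY : Y.Modules) (hωY : ExtPow.IsExtPow m (Omega.sheaf (i ≫ (X ↘ (Spec (CommRingCat.of k))))) ωY)
    (L : Y.Modules) (hL : ExtPow.IsExtPow r (Omega.conormal i) L) :
    Nonempty ((Scheme.Modules.pullback i).obj ωX ≅ CohB1.tensorMod ωY L) := by
  haveI : Smooth (X ↘ Spec (CommRingCat.of k)) := Groth.Agent.H29RR.smooth_of_regular k X hreg
  haveI : SmoothOfRelativeDimension (m + r) (X ↘ Spec (CommRingCat.of k)) :=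
    Groth.Agent.H27CurveDiv.smoothOfRelativeDimension_of_dim _ _ hX
  let g := i ≫ (X ↘ Spec (CommRingCat.of k))
  letI : Y.Over (Spec (CommRingCat.of k)) := ⟨g⟩
  haveI : LocallyOfFiniteType (Y ↘ Spec (CommRingCat.of k)) := (inferInstance : LocallyOfFiniteType g)
  haveI : Smooth g := Groth.Agent.H29RR.smooth_of_regular k Y hregY
  haveI : SmoothOfRelativeDimension m g := Groth.Agent.H27CurveDiv.smoothOfRelativeDimension_of_dim _ _ hY
  obtain ⟨e⟩ := Groth.Agent.H17.FLI.nonempty_adjunction_iso (X ↘ Spec (CommRingCat.of k)) g i rfl (m + r) m hωX hωY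
    (L := L) (by rwa [Nat.add_sub_cancel_left])
  exact ⟨e.symm ≪≫ Groth.Agent.H11Ample.tensorCommIso L ωY⟩

end Groth.Agent.S11310
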