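import Groth.Statements.S11311
import Groth.Agent.H02CA.DerivationCriterion
import Groth.Agent.H02CA.EssFTSmooth
import Groth.Agent.H05EGA4.FieldSmooth
import Mathlib.RingTheory.Localization.Submodule

set_option autoImplicit false
universe u
open CAlg

namespace Groth.Agent.S11311

/-- Let k be a field and B a local ring containing k whose residue field is k (the composite k → B → B/m
is bijective), and which is a localization of a finitely generated k-algebra (essentially of finite
type over k); let d = dim B. If the module of differentials Ω_{B/k} is free of rank d then B is a
regular local ring. Conversely, if k is perfect and B is a regular local ring, then Ω_{B/k} is free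
of rank d. (The published statement assumes k perfect as one of its hypotheses and asserts the
equivalence; its proof of the first implication does not use perfectness, so that hypothesis is
placed on the converse only.) -/
theorem result (k B : Type u) [Field k] [CommRing B] [Algebra k B]
    [IsLocalRing B] [Algebra.EssFiniteType k B]
    (hres : Function.Bijective (algebraMap k (IsLocalRing.ResidueField B)))
    (d : ℕ) (hd : ringKrullDim B = (d : WithBot ℕ∞)) :
    ((Module.Free B (KaehlerDifferential k B) ∧ Module.finrank B (KaehlerDifferential k B) = d) →
        IsRegularLocalRing B) ∧
      (PerfectField k → IsRegularLocalRing B →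
        Module.Free B (KaehlerDifferential k B) ∧ Module.finrank B (KaehlerDifferential k B) = d) := by
  haveI : IsNoetherianRing B := Algebra.EssFiniteType.isNoetherianRing k B
  obtain ⟨E⟩ := H02CA.DerivationCriterion.nonempty_kaehler_equiv_cotangent k B hres.2
  have hE : ∀ [Module.Free B (KaehlerDifferential k B)], Module.finrank (IsLocalRing.ResidueField B)
      (IsLocalRing.CotangentSpace B) = Module.finrank B (KaehlerDifferential k B) := by
    intro _
    rw [← E.finrank_eq, Module.finrank_baseChange]
  refine ⟨fun ⟨_, hr⟩ => ?_, fun _ hreg => ?_⟩
  · rw [IsRegularLocalRing.iff_finrank_cotangentSpace, hE, hr, hd]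
  · haveI : Algebra.FormallySmooth k B :=
      H02CA.EssFTSmooth.formallySmooth_of_isAdicFormallySmooth (H05EGA4.isAdicFormallySmooth_of_perfectField k B)
    haveI : Module.Free B (KaehlerDifferential k B) := Module.free_of_flat_of_isLocalRing
    refine ⟨inferInstance, ?_⟩
    have h := (IsRegularLocalRing.iff_finrank_cotangentSpace B).mp hreg
    rw [hE, hd] at h
    exact_mod_cast h

end Groth.Agent.S11311
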