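import Groth.Statements.S11320
import Groth.Agent.H15Site.QcColim
import Mathlib.Topology.NoetherianSpace

open TopologicalSpace Groth.Agent.H15Site Groth.Agent.H15Site.CechTop Groth.Agent.H10Coh
attribute [local instance 10000] Groth.Agent.H10Coh.hasSheafifyAb Groth.Agent.H10Coh.hasWeakSheafifyAb Groth.Agent.H10Coh.hasExtAb Groth.Agent.H10Coh.enoughInjAb

set_option linter.style.haveILetI false
open CategoryTheory CategoryTheory.Limits Opposite

set_option autoImplicit false
universe u
open CategoryTheory CategoryTheory.Limits
open CohTop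

namespace Groth.Agent.S11320

/-- On a Noetherian topological space X, the direct limit, in the category of abelian sheaves, of a
directed system (F_i) of flasque abelian sheaves indexed by a nonempty directed preorder is flasque
(all its restriction maps are surjective). -/
theorem result {X : TopCat.{u}} [TopologicalSpace.NoetherianSpace X]
    (ι : Type u) [Preorder ι] [IsDirected ι (· ≤ ·)] [Nonempty ι]
    (D : ι ⥤ CohTop.Ab X) (hD : ∀ i : ι, TopCat.Sheaf.IsFlasque (D.obj i)) :
    TopCat.Sheaf.IsFlasque (colimit D : CohTop.Ab X) := by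
  have : PrespectralSpace X := ⟨TopologicalSpace.isTopologicalBasis_of_isOpen_of_nhds
    (fun _ h => h.1) (fun x U hxU hU => ⟨U, ⟨hU, NoetherianSpace.isCompact U⟩, hxU, subset_rfl⟩)⟩
  have : QuasiSeparatedSpace X := ⟨fun U V _ _ _ _ => NoetherianSpace.isCompact _⟩
  have h : QcColim.QcFlasque (colimit D : CohTop.Ab X) :=
    QcColim.qcFlasque_colimit (colimit.isColimit D) fun i _ _ h _ _ => (flasque_iff _).2 (hD i) h
  exact (flasque_iff _).1 fun U V hVU => h hVU (NoetherianSpace.isCompact _) (NoetherianSpace.isCompact _)

end Groth.Agent.S11320
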