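import Groth.Statements.S11324
import Groth.Agent.H17.EdgeIso.Codim
-- import your own Groth.Agent.* helpers here

set_option autoImplicit false
universe u
open CategoryTheory CategoryTheory.Limits AlgebraicGeometry
open ProjDual

namespace Groth.Agent.S11324

/-- Let k be a field, P = P^N_k, ι : X → P a closed immersion, r a natural number with dim X + r ≤ N (so
X has codimension at least r in P), and ω_P = O_P(-N-1). Then for every i < r the Ext sheaf
Ext^i_{O_P}(ι_* O_X, ω_P) — the i-th right derived functor of the internal Hom functor Hom(ι_* O_X,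
-) on O_P-modules (its existence and that of injective resolutions are the stated instance
hypotheses, both true), evaluated at ω_P — is zero. -/
theorem result (k : Type u) [Field k] (N : ℕ)
    {X : Scheme.{u}} (ι : X ⟶ CohB1.ProjSpace N k) [IsClosedImmersion ι] (r : ℕ)
    (hr : topologicalKrullDim ↥X + (r : WithBot ℕ∞) ≤ (N : WithBot ℕ∞))
    [ModSite.HasSheafHom (O := (CohB1.ProjSpace N k).sheaf) ((Scheme.Modules.pushforward ι).obj (Coh.structureModule X))]
    [HasInjectiveResolutions (ModSite.Mod (CohB1.ProjSpace N k).sheaf)] (i : ℕ) (hi : i < r) :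
    IsZero ((ModSite.extSh (O := (CohB1.ProjSpace N k).sheaf)
      ((Scheme.Modules.pushforward ι).obj (Coh.structureModule X)) i).obj
        (Twist.twistProjSpace N k (-((N : ℤ) + 1)))) := by
  exact Groth.Agent.H17.EdgeIso.isZero_extSh_below ι hr hi (fun x => by
    obtain ⟨U, hxU, ⟨e⟩⟩ := Groth.Agent.H22Alg.RegSheaf.isInvertible_twistProjSpace N k (-((N : ℤ) + 1)) x
    exact ⟨U, 1, hxU, ⟨e ≪≫ (Limits.coproductUniqueIso fun _ : Fin 1 => Coh.structureModule (U : Scheme.{u})).symm⟩⟩)

end Groth.Agent.S11324
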