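import Groth.Statements.S11331
import Groth.Agent.H29CurveDual.EmbeddingDeg
import Groth.Agent.H29RR.SmoothRegular

set_option autoImplicit false
universe u
open CategoryTheory CategoryTheory.Limits AlgebraicGeometry
open Curves

namespace Groth.Agent.S11331

/-- Let k be an algebraically closed field and X a curve over k (an integral scheme, proper over k, of
dimension one, with all local rings regular), and L an invertible O_X-module. Then L is very ample
(isomorphic to the pullback of O(1) along some closed immersion of X into a projective space P^n_k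
over k) if and only if for every two closed points P, Q of X, possibly equal, with ideal sheaves
I_P, I_Q ⊆ O_X, dim_k H^0(X, L ⊗ I_P ⊗ I_Q) = dim_k H^0(X, L) - 2. -/
theorem result (k : Type u) [Field k] [IsAlgClosed k] (X : Scheme.{u}) [X.Over (Spec (CommRingCat.of k))]
    [IsIntegral X] [IsProper (X ↘ (Spec (CommRingCat.of k)))] (hdim : topologicalKrullDim X = 1)
    (hreg : ∀ x : X, IsRegularLocalRing (X.presheaf.stalk x)) (L : X.Modules) (hL : PicF.IsInvertible L) :
    (∃ (n : ℕ) (i : X ⟶ CohB1.ProjSpace n k), IsClosedImmersion i ∧ i ≫ CohB1.ProjSpace.toSpec n k = (X ↘ (Spec (CommRingCat.of k))) ∧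
        Nonempty ((Scheme.Modules.pullback i).obj (Twist.twistProjSpace n k 1) ≅ L)) ↔
      ∀ (P Q : X) (hP : IsClosed ({P} : Set X)) (hQ : IsClosed ({Q} : Set X)),
        Module.finrank k (Coh.HH X (CohB1.tensorMod L (CohB1.tensorMod (ClSub.idealMod (Scheme.IdealSheafData.vanishingIdeal ⟨{P}, hP⟩)) (ClSub.idealMod (Scheme.IdealSheafData.vanishingIdeal ⟨{Q}, hQ⟩)))) 0) + 2 = Module.finrank k (Coh.HH X L 0) := by
  haveI := H29RR.smooth_of_regular k X hreg
  have e : ∀ A B : X.Modules, CohB1.tensorMod L (CohB1.tensorMod A B) ≅ CohB1.tensorMod A (CohB1.tensorMod B L) :=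
    fun A B => H10Coh.Tw.commIso L (CohB1.tensorMod A B) ≪≫ H10Coh.Tw.assoc A B L
  constructor
  · rintro ⟨n, r, hcl, hr, ⟨τ⟩⟩ P Q hP hQ
    rw [← H29RR.ptIdeal_eq_vanishingIdeal hP, ← H29RR.ptIdeal_eq_vanishingIdeal hQ,
      H29CurveDual.finrank_h0_congr (k := k) (e _ _) 0]
    exact H29CurveDual.h0_drop_of_closedImmersion hdim hL hcl hr τ hP hQ
  · intro h
    refine H29CurveDual.exists_closedImmersion_of_h0 hdim hL fun P Q hP hQ => ?_
    have h' := h P Q hP hQ
    rw [← H29RR.ptIdeal_eq_vanishingIdeal hP, ← H29RR.ptIdeal_eq_vanishingIdeal hQ,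
      H29CurveDual.finrank_h0_congr (k := k) (e _ _) 0] at h'
    exact h'

end Groth.Agent.S11331
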