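import Groth.Statements.S11332
import Groth.Agent.H29CurveDual.Hurwitz
import Groth.Agent.H29RR.SmoothRegular

set_option autoImplicit false
universe u
open CategoryTheory CategoryTheory.Limits AlgebraicGeometry
open Curves

namespace Groth.Agent.S11332

/-- Let f : X → Y be a finite morphism over k of curves over an algebraically closed field k (integral,
proper over k, of dimension one, all local rings regular), sending the generic point of X to that of
Y, such that the function field extension K(X)/K(Y) is separable; let n = [K(X) : K(Y)] be its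
degree. Then 2 g(X) - 2 = n (2 g(Y) - 2) + deg R, where g denotes the genus dim_k H^1(O) and the
degree of the ramification divisor R = Σ_P length(Ω_{X/Y,P}) · P is written as dim_k H^0(X,
Ω_{X/Y}), Ω_{X/Y} being the (torsion) sheaf of relative differentials of f. -/
theorem result (k : Type u) [Field k] [IsAlgClosed k] (X : Scheme.{u}) [X.Over (Spec (CommRingCat.of k))]
    [IsIntegral X] [IsProper (X ↘ (Spec (CommRingCat.of k)))] (hdimX : topologicalKrullDim X = 1)
    (hregX : ∀ x : X, IsRegularLocalRing (X.presheaf.stalk x))
    (Y : Scheme.{u}) [Y.Over (Spec (CommRingCat.of k))]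
    [IsIntegral Y] [IsProper (Y ↘ (Spec (CommRingCat.of k)))] (hdimY : topologicalKrullDim Y = 1)
    (hregY : ∀ x : Y, IsRegularLocalRing (Y.presheaf.stalk x))
    (f : X ⟶ Y) [IsFinite f] (hf : f ≫ (Y ↘ (Spec (CommRingCat.of k))) = X ↘ (Spec (CommRingCat.of k)))
    (e : f (genericPoint X) = genericPoint Y) :
    letI := ((Y.presheaf.stalkSpecializes (specializes_of_eq e) ≫ f.stalkMap (genericPoint X)).hom).toAlgebra
    Algebra.IsSeparable Y.functionField X.functionField →
      2 * (Curv2.genus k X : ℤ) - 2 =
        (f.residueDegree (genericPoint X) : ℤ) * (2 * (Curv2.genus k Y : ℤ) - 2) +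
          (Module.finrank k (Coh.HH X (Omega.sheaf f) 0) : ℤ) := by
  intro hsep
  haveI := H29RR.smooth_of_regular k X hregX
  haveI := H29RR.smooth_of_regular k Y hregY
  have h := H29CurveDual.deg_omega_eq_add (k := k) hdimX hdimY f hf e
    (H29CurveDual.formallyUnramified_stalkMap_generic f e hsep)
  rw [H29CurveDual.deg_omega_of_h0 hdimX (H29RR.finrank_h0_structure k X),
    H29CurveDual.deg_omega_of_h0 hdimY (H29RR.finrank_h0_structure k Y)] at h
  exact h

end Groth.Agent.S11332
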