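import Groth.Statements.S11334
import Groth.Agent.H29CurveDual.CanonAux
import Groth.Agent.H29RR.SmoothRegular
import Groth.Agent.H29RR.Generation
import Groth.Agent.H29RR.PointAux

set_option autoImplicit false
universe u
open CategoryTheory CategoryTheory.Limits AlgebraicGeometry
open Curves

namespace Groth.Agent.S11334

/-- Let k be an algebraically closed field and X a curve over k (an integral scheme, proper over k, of
dimension one, with all local rings regular), of genus g = dim_k H^1(X, O_X) ≥ 2. Then the canonical
sheaf Ω_{X/k} is generated by its global sections (the canonical linear system has no base points). -/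
theorem result (k : Type u) [Field k] [IsAlgClosed k] (X : Scheme.{u}) [X.Over (Spec (CommRingCat.of k))]
    [IsIntegral X] [IsProper (X ↘ (Spec (CommRingCat.of k)))] (hdim : topologicalKrullDim X = 1)
    (hreg : ∀ x : X, IsRegularLocalRing (X.presheaf.stalk x)) (hg : 2 ≤ Curv2.genus k X) :
    Curv2.IsGloballyGenerated (Omega.sheaf (X ↘ (Spec (CommRingCat.of k)))) := by
  haveI := H29RR.smooth_of_regular k X hreg
  have h00 := H29RR.finrank_h0_structure k X
  have hΩ := H29CurveDual.isInvertible_omega_curve (k := k) hdim
  refine (H29RR.isGloballyGenerated_iff_h0 (k := k) hΩ).2 fun x hx => ?_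
  haveI := hreg x
  have hI := H29RR.isInvertible_pt_of_regular (k := k) hdim hx
  obtain ⟨-, h2, h3⟩ := H29RR.twist_point (k := k) hx hΩ (H29CurveDual.isCoh_of_isInvertible hI)
  rw [H29RR.finrank_residue_eq_one (k := k) hx] at h2 h3
  have hT := H11Ample.isInvertible_tensor hI hΩ
  obtain ⟨N, hN, ⟨e⟩⟩ := H29RR.exists_inverse_comm hT
  have hd1 : Curv2.deg k X (CohB1.tensorMod (Omega.sheaf (X ↘ Spec (CommRingCat.of k))) N) 1 = 1 := by
    rw [H29CurveDual.deg_quot (k := k) hdim.le hT hΩ hN e, H29RR.deg_def, H29RR.deg_def]
    omega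
  have h4 := H29CurveDual.h0_le_one_of_deg_one (k := k) hdim.le (by omega) h00
    (H11Ample.isInvertible_tensor hΩ hN) hd1
  have hrr := H29RR.riemann_roch (k := k) hdim.le (CohB1.tensorMod (ClSub.idealMod (H29RR.ptIdeal x))
    (Omega.sheaf (X ↘ Spec (CommRingCat.of k))))
  rw [h00, H29CurveDual.finrank_h1_invertible hdim hT hN e, H29RR.deg_def] at hrr
  have hdΩ := H29CurveDual.deg_omega_of_h0 (k := k) hdim h00
  rw [H29RR.deg_def] at hdΩ
  have hg' := H29CurveDual.finrank_h1_structure (k := k) hdim
  omega

end Groth.Agent.S11334
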