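import Groth.Statements.S11337
import Groth.Agent.H29Clifford.Equality
import Groth.Agent.H29RR.SmoothRegular

set_option autoImplicit false
universe u
open CategoryTheory CategoryTheory.Limits AlgebraicGeometry
open Curves

namespace Groth.Agent.S11337

/-- Let k be an algebraically closed field and X a curve over k (an integral scheme, proper over k, of
dimension one, with all local rings regular), and L an invertible O_X-module with an inverse M such
that H^0(X, L) ≠ 0, H^0(X, Ω_{X/k} ⊗ M) ≠ 0, L is isomorphic neither to O_X nor to Ω_{X/k}, and 2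
(dim_k H^0(X, L) - 1) = deg L. Then X is hyperelliptic and L is a multiple of the g^1_2: there is an
invertible module N of degree 2 with two k-linearly independent global sections (a g^1_2) such that
L ≅ N^{⊗ r} with r = dim_k H^0(X, L) - 1. (Only the implication from equality is stated here; the
converse, that on a hyperelliptic curve the effective special multiples of the g^1_2 attain
equality, is not part of this statement.) -/
theorem result (k : Type u) [Field k] [IsAlgClosed k] (X : Scheme.{u}) [X.Over (Spec (CommRingCat.of k))]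
    [IsIntegral X] [IsProper (X ↘ (Spec (CommRingCat.of k)))] (hdim : topologicalKrullDim X = 1)
    (hreg : ∀ x : X, IsRegularLocalRing (X.presheaf.stalk x))
    (L M : X.Modules) (hL : PicF.IsInvertible L) (hM : ClSub.IsInverseOf L M)
    (hs : Nontrivial (Coh.HH X L 0)) (hsp : Nontrivial (Coh.HH X (CohB1.tensorMod (Omega.sheaf (X ↘ (Spec (CommRingCat.of k)))) M) 0))
    (h0 : IsEmpty (L ≅ Coh.structureModule X)) (hK : IsEmpty (L ≅ (Omega.sheaf (X ↘ (Spec (CommRingCat.of k))))))
    (heq : 2 * (Module.finrank k (Coh.HH X L 0) : ℤ) = Curv2.deg k X L 1 + 2) :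
    ∃ (N : X.Modules) (s : Fin 2 → LinSer.Sect X N), LinSer.IsLinSer k X N 2 1 s ∧
      Nonempty (L ≅ CohB1.tensorPow N (Module.finrank k (Coh.HH X L 0) - 1)) := by
  haveI := H29RR.smooth_of_regular k X hreg
  have hb := (H29RR.bounds_of_section (k := k) hdim.le hL hs)
  obtain ⟨eM⟩ := hM
  have hMi := H29CurveDual.isInvertible_of_isInverseOf hL ⟨eM⟩
  have hΩ := H29CurveDual.isInvertible_omega_curve (k := k) (X := X) hdim
  have hD := H11Ample.isInvertible_tensor hΩ hMi
  have hb' := (H29RR.bounds_of_section (k := k) hdim.le hD hsp)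
  have h00 := H29RR.finrank_h0_structure k X
  rw [H29CurveDual.deg_quot (k := k) hdim.le hL hΩ hMi eM, H29CurveDual.deg_omega_of_h0 hdim h00] at hb'
  have hrr := H29RR.riemann_roch (k := k) hdim.le L
  rw [h00, H29CurveDual.finrank_h1_invertible (k := k) hdim hL hMi eM] at hrr
  haveI := H29RR.finite_HH (k := k) _ hD 0
  have hpos := Module.finrank_pos (R := k) (M := Coh.HH X (CohB1.tensorMod (Omega.sheaf (X ↘ Spec (CommRingCat.of k))) M) 0)
  have hd1 : Curv2.deg k X L 1 < 2 * (Curv2.genus k X : ℤ) - 2 := by
    refine lt_of_le_of_ne (by have := hb'.1; omega) fun h => hK.elim ?_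
    exact (H29Clifford.nonempty_iso_omega (k := k) hdim hL h (by omega)).some
  have hd0 : 0 < Curv2.deg k X L 1 := lt_of_le_of_ne hb.1 fun h => h0.elim (hb.2.2.2 h.symm).some
  obtain ⟨N, hN, hdN, h2⟩ := H29Clifford.exists_g12 (k := k) hdim (Curv2.deg k X L 1).toNat hL (by omega) hd0 hd1 heq
  haveI := H29RR.finite_HH (k := k) N hN 0
  let β := Module.finBasis k (Coh.HH X N 0)
  obtain ⟨r, hr⟩ : ∃ r, Module.finrank k (Coh.HH X L 0) = r + 1 := ⟨_, (Nat.succ_pred (by omega)).symm⟩
  refine ⟨N, _, ⟨hN, hdN, H29CurveDual.linIndep_sec (k := k) (L := N)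
    (v := fun i => β (Fin.castLE h2 i)) (β.linearIndependent.comp (Fin.castLE h2) (Fin.castLE_injective _))⟩, ?_⟩
  have := H29Clifford.nonempty_iso_pow (k := k) hdim hN hdN h2 hL hr (by omega) (by omega)
  rwa [hr, Nat.add_sub_cancel]

end Groth.Agent.S11337
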