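import Groth.Statements.S1134
import Groth.Agent.H13Desc.Eff.Glue
import Groth.Agent.H13Desc.Eff.Affine
import Groth.Agent.H13Desc.QuasiAffineDescent

set_option autoImplicit false
open CategoryTheory CategoryTheory.Limits AlgebraicGeometry Opposite
universe u
open Desc

namespace Groth.Agent.S1134

open CategoryTheory AlgebraicGeometry

/-- Let p : X → S be a surjective, flat and quasi-compact morphism of schemes. Every descent datum
relative to p whose underlying scheme is quasi-affine over X is effective: it is isomorphic to the
canonical descent datum of some scheme over S. Descent data are taken in functor-of-points form,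
equivalent by the Yoneda lemma to the usual form of an isomorphism over X ×_S X satisfying the
cocycle condition. -/
theorem result {X S : Scheme.{u}} (p : X ⟶ S) [Surjective p] [Flat p] [QuasiCompact p]
    (D : Desc.SchDD p) (hD : Mor2.IsQuasiAffine D.obj.hom) : ∃ U : Over S, Nonempty ((Desc.toDD p).obj U ≅ D) := by
  refine Groth.Agent.H13Desc.Eff.isEffective_of_charts fun v => ?_
  obtain ⟨V, hV, hv, -⟩ := TopologicalSpace.Opens.isBasis_iff_nbhd.mp S.isBasis_affineOpens
    (TopologicalSpace.Opens.mem_top ((D.obj.hom ≫ p) v))
  obtain ⟨C, hC⟩ := Groth.Agent.H13Desc.Eff.exists_chart_of_affine_over D hV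
    (fun π _ => Groth.Agent.H13Desc.QuasiAffineDescent.isQuasiAffine_top _
      (MorphismProperty.pullback_snd (P := Groth.Agent.H13Desc.QuasiAffineDescent.qAff) D.obj.hom π hD))
  exact ⟨C, hC hv⟩

end Groth.Agent.S1134
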