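import Groth.Statements.S11340
import Groth.Agent.H28Surf.ProperInter
import Groth.Agent.H27Weil.Geometry
import Groth.Agent.H4Depth.Regular

set_option autoImplicit false
universe u
open CategoryTheory CategoryTheory.Limits AlgebraicGeometry
open Surf

namespace Groth.Agent.S11340

/-- Let X be a surface over an algebraically closed field k (an integral scheme of dimension two with
all local rings regular, admitting a closed immersion into some P^n_k over k), and let C, D be
curves on X (effective Cartier divisors, given by quasi-coherent ideals I_C, I_D locally generated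
by a single nonzerodivisor) with no common irreducible component, i.e. C ∩ D is a finite set. Then
C.D = Σ_{P ∈ C ∩ D} (C.D)_P: the intersection number, here the alternating sum χ(O_X) - χ(I_C) -
χ(I_D) + χ(I_C ⊗ I_D) packaged as FGA.intNum, equals dim_k H^0(X, O_X/(I_C + I_D)), the total length
of the scheme-theoretic intersection. -/
theorem result (k : Type u) [Field k] [IsAlgClosed k] (X : Scheme.{u}) [X.Over (Spec (CommRingCat.of k))]
    [IsIntegral X] (hdim : topologicalKrullDim X = 2) (hreg : ∀ x : X, IsRegularLocalRing (X.presheaf.stalk x))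
    (hproj : ∃ (n : ℕ) (ι : X ⟶ CohB1.ProjSpace n k), IsClosedImmersion ι ∧ ι ≫ CohB1.ProjSpace.toSpec n k = (X ↘ (Spec (CommRingCat.of k))))
    (IC ID : X.IdealSheafData) (hC : FGA.IsEffCartier IC) (hD : FGA.IsEffCartier ID)
    (hfin : ((IC ⊔ ID).support : Set X).Finite) :
    FGA.intNum k X 2 ![ClSub.idealMod IC, ClSub.idealMod ID] (Coh.structureModule X) =
      (Module.finrank k (Coh.HH X (ClSub.quotMod (IC ⊔ ID)) 0) : ℤ) := by
  haveI : IsProper (X ↘ Spec (CommRingCat.of k)) := by
    obtain ⟨n, ι, hι, e⟩ := hproj
    haveI := hι
    haveI := Groth.Agent.H27Weil.isProper_toSpec n k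
    rw [← e]
    infer_instance
  refine Groth.Agent.H28Surf.intNum_eq_finrank k (fun Z hZ => ?_) (fun x => ?_) IC ID hC hD hfin
  · rw [irreducibleComponents_eq_singleton] at hZ
    rw [hZ]
    exact (IsHomeomorph.topologicalKrullDim_eq _ (Homeomorph.Set.univ X).isHomeomorph).trans hdim
  · haveI := hreg x
    exact Groth.Agent.H4Depth.isCohenMacaulayLocalRing_of_regular _

end Groth.Agent.S11340
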