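import Groth.Statements.S11342
import Groth.Agent.H28RR.RR
import Groth.Agent.H28Bertini.Regular

set_option autoImplicit false
universe u
open CategoryTheory CategoryTheory.Limits AlgebraicGeometry
open Groth.Agent
open Surf

namespace Groth.Agent.S11342

/-- Let X be a surface over an algebraically closed field k (an integral scheme of dimension two with
all local rings regular, admitting a closed immersion into some P^n_k over k), W its canonical sheaf
(a second exterior power of Ω_{X/k}), and L an invertible O_X-module (the sheaf of a divisor D).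
Then l(D) - s(D) + l(K - D) = (1/2) D.(D - K) + 1 + p_a; since the left side is χ(L) by Serre
duality and 1 + p_a = χ(O_X), this reads 2 χ(L) = (L·L) - (L·W) + 2 χ(O_X), where (L·M) = χ(O_X) -
χ(L) - χ(M) + χ(L ⊗ M) is the intersection number (packaged as FGA.intNum). -/
theorem result (k : Type u) [Field k] [IsAlgClosed k] (X : Scheme.{u}) [X.Over (Spec (CommRingCat.of k))]
    [IsIntegral X] (hdim : topologicalKrullDim X = 2) (hreg : ∀ x : X, IsRegularLocalRing (X.presheaf.stalk x))
    (hproj : ∃ (n : ℕ) (ι : X ⟶ CohB1.ProjSpace n k), IsClosedImmersion ι ∧ ι ≫ CohB1.ProjSpace.toSpec n k = (X ↘ (Spec (CommRingCat.of k))))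
    (W : X.Modules) (hW : ExtPow.IsExtPow 2 (Omega.sheaf (X ↘ (Spec (CommRingCat.of k)))) W)
    (L : X.Modules) (hL : PicF.IsInvertible L) :
    2 * Curv2.euler k X L = FGA.intNum k X 2 ![L, L] (Coh.structureModule X) - FGA.intNum k X 2 ![L, W] (Coh.structureModule X) + 2 * Curv2.euler k X (Coh.structureModule X) := by
  obtain ⟨n, ι, hι, hιk⟩ := hproj
  haveI := hι
  haveI : IsProper (X ↘ Spec (CommRingCat.of k)) := hιk ▸ inferInstanceAs (IsProper (ι ≫ CohB1.ProjSpace.toSpec n k))
  haveI : Smooth (X ↘ Spec (CommRingCat.of k)) := H28Bertini.smooth_of_regular _ hreg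
  have hWi := H28RR.isInvertible_canonical k hdim hW
  rw [H28Surf.intNum_eq_pr k hdim hL hL, H28Surf.intNum_eq_pr k hdim hL hWi]
  exact H28RR.riemann_roch k hdim (H11Ample.isAmple_pullback_of_isAffineHom ι (H11Ample.isAmple_twistProjSpace n k)) hW hL

end Groth.Agent.S11342
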