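import Groth.Statements.S11345
import Groth.Agent.H28RR.BlowCanon
import Groth.Agent.H28Bertini.Regular

set_option autoImplicit false
universe u
open CategoryTheory CategoryTheory.Limits AlgebraicGeometry
open Groth.Agent
open Surf

namespace Groth.Agent.S11345

/-- Let X be a surface over an algebraically closed field k (an integral scheme of dimension two with
all local rings regular, admitting a closed immersion into some P^n_k over k), P a closed point of X
with ideal sheaf m_P, and π : X' → X the monoidal transformation with centre P (a blowing up of X in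
m_P, characterised by its universal property), with exceptional curve E of ideal I_E = m_P · O_{X'};
let W and W' be canonical sheaves of X and X' (second exterior powers of the sheaves of
differentials), X' being again a surface of the same kind. Then K_{X'} = π^* K_X + E in Pic X', i.e.
W' ⊗ I_E ≅ π^* W (existence of an isomorphism), and K_{X'}^2 = K_X^2 - 1, intersection numbers being
(L·M) = χ(O) - χ(L) - χ(M) + χ(L ⊗ M) (packaged as FGA.intNum). -/
theorem result (k : Type u) [Field k] [IsAlgClosed k] (X : Scheme.{u}) [X.Over (Spec (CommRingCat.of k))]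
    [IsIntegral X] (hdim : topologicalKrullDim X = 2) (hreg : ∀ x : X, IsRegularLocalRing (X.presheaf.stalk x))
    (hproj : ∃ (n : ℕ) (ι : X ⟶ CohB1.ProjSpace n k), IsClosedImmersion ι ∧ ι ≫ CohB1.ProjSpace.toSpec n k = (X ↘ (Spec (CommRingCat.of k))))
    (W : X.Modules) (hW : ExtPow.IsExtPow 2 (Omega.sheaf (X ↘ (Spec (CommRingCat.of k)))) W)
    (P : X) (hP : IsClosed ({P} : Set X))
    (X' : Scheme.{u}) (π : X' ⟶ X) (hπ : BlowUp.IsBlowUp π (Scheme.IdealSheafData.vanishingIdeal ⟨{P}, hP⟩))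
    [IsIntegral X'] (hdim' : topologicalKrullDim X' = 2) (hreg' : ∀ x : X', IsRegularLocalRing (X'.presheaf.stalk x))
    (hproj' : ∃ (n : ℕ) (ι : X' ⟶ CohB1.ProjSpace n k), IsClosedImmersion ι ∧ ι ≫ CohB1.ProjSpace.toSpec n k = π ≫ (X ↘ (Spec (CommRingCat.of k))))
    (W' : X'.Modules) (hW' : ExtPow.IsExtPow 2 (Omega.sheaf (π ≫ (X ↘ (Spec (CommRingCat.of k))))) W') :
    letI : X'.Over (Spec (CommRingCat.of k)) := ⟨π ≫ (X ↘ (Spec (CommRingCat.of k)))⟩
    Nonempty (CohB1.tensorMod W' (ClSub.idealMod (BlowUp.exceptional π (Scheme.IdealSheafData.vanishingIdeal ⟨{P}, hP⟩))) ≅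
        (Scheme.Modules.pullback π).obj W) ∧
      FGA.intNum k X' 2 ![W', W'] (Coh.structureModule X') = FGA.intNum k X 2 ![W, W] (Coh.structureModule X) - 1 := by
  letI : X'.Over (Spec (CommRingCat.of k)) := ⟨π ≫ (X ↘ (Spec (CommRingCat.of k)))⟩
  obtain ⟨n, ι, hι, hιk⟩ := hproj
  haveI := hι
  haveI : IsProper (X ↘ Spec (CommRingCat.of k)) := hιk ▸ inferInstanceAs (IsProper (ι ≫ CohB1.ProjSpace.toSpec n k))
  haveI : Smooth (X ↘ Spec (CommRingCat.of k)) := H28Bertini.smooth_of_regular _ hreg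
  obtain ⟨n', ι', hι', hιk'⟩ := hproj'
  haveI := hι'
  haveI : IsProper (X' ↘ Spec (CommRingCat.of k)) := show IsProper (π ≫ _) from hιk' ▸ inferInstanceAs (IsProper (ι' ≫ CohB1.ProjSpace.toSpec n' k))
  haveI : Smooth (X' ↘ Spec (CommRingCat.of k)) := H28Bertini.smooth_of_regular _ hreg'
  obtain ⟨φ⟩ := H28RR.canonical_blowup k hdim hdim' rfl hπ hW hW'
  refine ⟨⟨φ⟩, ?_⟩
  have hWi := H28RR.isInvertible_canonical k hdim hW
  have hWi' := H28RR.isInvertible_canonical k hdim' hW'
  have hI := H28Surf.isInvertible_ideal k (H28Surf.isEffCartier_curve k hdim' (H28RR.exc_isCurve k hdim hπ))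
  rw [H28Surf.intNum_eq_pr k hdim' hWi' hWi', H28Surf.intNum_eq_pr k hdim hWi hWi]
  have hA := H11Ample.isInvertible_tensor hWi' hI
  have h1 := H28RR.pr_pullback k hdim hdim' rfl hπ hWi hWi
  have h2 := H28RR.pr_pullback_exc k hdim hdim' rfl hπ hWi
  have h3 := H28RR.pr_exc_self k hdim hdim' hπ
  have e1 := H28Surf.pr_congr_left k (H11Ample.isInvertible_pullback π hWi) φ
  have e2 := H28Surf.pr_congr_left k hA φ
  have e3 := H28Surf.pr_congr_left k hI φ
  have e4 := H28Surf.pr_symm k ((Scheme.Modules.pullback π).obj W) (CohB1.tensorMod W' (ClSub.idealMod (BlowUp.exceptional π (Scheme.IdealSheafData.vanishingIdeal ⟨{P}, hP⟩))))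
  rw [H28Surf.pr_tensor_left k hdim' hWi' hI hA, H28Surf.pr_symm k W' (CohB1.tensorMod _ _),
    H28Surf.pr_symm k (ClSub.idealMod _) (CohB1.tensorMod _ _),
    H28Surf.pr_tensor_left k hdim' hWi' hI hWi', H28Surf.pr_tensor_left k hdim' hWi' hI hI] at e2
  rw [H28Surf.pr_tensor_left k hdim' hWi' hI hI] at e3
  have e5 := H28Surf.pr_symm k (ClSub.idealMod (BlowUp.exceptional π (Scheme.IdealSheafData.vanishingIdeal ⟨{P}, hP⟩))) W'
  omega

end Groth.Agent.S11345
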