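import Groth.Statements.S11346
import Groth.Agent.H28RR.RuledPush
import Groth.Agent.H29RR.SmoothRegular

set_option autoImplicit false
set_option backward.isDefEq.respectTransparency.types false
universe u
open CategoryTheory CategoryTheory.Limits AlgebraicGeometry
open Groth.Agent
open Surf

namespace Groth.Agent.S11346

/-- Let π : X → C be a ruled surface over an algebraically closed field k: X a surface (integral, of
dimension two, all local rings regular, with a closed immersion into some P^n_k over k), C a curve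
(integral, proper over k, of dimension one, all local rings regular), π : X → C a surjective
k-morphism whose fibre over every closed point is isomorphic to P^1_k and which admits a section σ.
If C has genus g, then p_a(X) = -g, p_g(X) = 0 and q(X) = g; that is, dim_k H^1(X, O_X) = g = dim_k
H^1(C, O_C) and H^2(X, O_X) = 0. -/
theorem result (k : Type u) [Field k] [IsAlgClosed k] (X : Scheme.{u}) [X.Over (Spec (CommRingCat.of k))]
    [IsIntegral X] (hdim : topologicalKrullDim X = 2) (hreg : ∀ x : X, IsRegularLocalRing (X.presheaf.stalk x))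
    (hproj : ∃ (n : ℕ) (ι : X ⟶ CohB1.ProjSpace n k), IsClosedImmersion ι ∧ ι ≫ CohB1.ProjSpace.toSpec n k = (X ↘ (Spec (CommRingCat.of k))))
    (C : Scheme.{u}) [C.Over (Spec (CommRingCat.of k))]
    [IsIntegral C] [IsProper (C ↘ (Spec (CommRingCat.of k)))] (hdimC : topologicalKrullDim C = 1)
    (hregC : ∀ x : C, IsRegularLocalRing (C.presheaf.stalk x))
    (π : X ⟶ C) (hπ : π ≫ (C ↘ (Spec (CommRingCat.of k))) = (X ↘ (Spec (CommRingCat.of k)))) (hsurj : Function.Surjective π)
    (hfib : ∀ y : C, IsClosed ({y} : Set C) → Nonempty (pullback π (C.fromSpecResidueField y) ≅ CohB1.ProjSpace 1 k))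
    (σ : C ⟶ X) (hσ : σ ≫ π = 𝟙 C) :
    Module.finrank k (Coh.HH X (Coh.structureModule X) 1) = Curv2.genus k C ∧ Subsingleton (Coh.HH X (Coh.structureModule X) 2) := by
  haveI : IsProper (X ↘ Spec (CommRingCat.of k)) := by
    obtain ⟨m, ι, hι, hιc⟩ := hproj
    haveI := hι
    rw [← hιc]; infer_instance
  haveI : Smooth (X ↘ Spec (CommRingCat.of k)) := H29RR.smooth_of_regular k X hreg
  haveI : Smooth (C ↘ Spec (CommRingCat.of k)) := H29RR.smooth_of_regular k C hregC
  haveI : Surjective π := ⟨hsurj⟩
  haveI := H10Coh.enoughInjMod X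
  haveI := H28Int.isNoetherian k (X := C)
  haveI := H10Coh.Stab.isSeparated_of_proper (Z := C) k
  have hR := fun p hp => H28RR.Ruled.isZero_rpush k π hdim hdimC hπ hfib (H28Int.isInvertible_structureModule X)
    (fun y hy => (H28RR.Ruled.intNum_structure_fibre k π hdim hdimC hπ hfib hy).le) p hp
  haveI : IsIso (ClSub.unitToPush π) := Scheme.Modules.Hom.isIso_iff_isIso_app.2 fun U =>
    (ConcreteCategory.isIso_iff_bijective _).2 (H28RR.Ruled.app_bijective k π hdim hdimC hπ hfib U :)
  let e : Coh.structureModule C ≅ (Coh.push π).obj (Coh.structureModule X) := asIso (ClSub.unitToPush π)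
  refine ⟨?_, ?_⟩
  · obtain ⟨E⟩ := H28RR.Ruled.nonempty_push_equiv k π hπ _ hR 1
    rw [E.finrank_eq, ← (H29RR.hhIso (k := k) e 1).finrank_eq]
    rfl
  · obtain ⟨E⟩ := H28RR.Ruled.nonempty_push_equiv k π hπ _ hR 2
    haveI : Subsingleton (Coh.HH C (Coh.structureModule C) 2) :=
      @Equiv.subsingleton _ _ (H10Coh.HHEquiv _ _).toEquiv
        (H28Int.subsingleton_HnM_of_support ⊤ 1
          ((Topology.IsInducing.subtypeVal.topologicalKrullDim_le).trans hdimC.le) _
          (H10Coh.isCoh_structureModule' C).1 (Set.subset_univ _) _ (by norm_num))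
    haveI := (H29RR.hhIso (k := k) e 2).symm.toEquiv.subsingleton
    exact E.toEquiv.subsingleton

end Groth.Agent.S11346
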