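import Groth.Statements.S11347
import Groth.Agent.H29RR.RankTwo
import Groth.Agent.H29RR.SmoothRegular

set_option autoImplicit false
universe u
open CategoryTheory CategoryTheory.Limits AlgebraicGeometry
open Curves

namespace Groth.Agent.S11347

/-- Let C be a genus-g curve over an algebraically closed field k (integral, proper over k, of dimension
one, all local rings regular), and E a locally free O_C-module of rank 2 which is normalized —
H^0(C, E) ≠ 0 while H^0(C, E ⊗ M) = 0 for every invertible M with deg M < 0 — and indecomposable —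
not isomorphic to a direct sum of two invertible modules. Then the invariant e = -deg E of the ruled
surface P(E) satisfies -2g ≤ e ≤ 2g - 2; here deg E = χ(E) - 2 χ(O_C). -/
theorem result (k : Type u) [Field k] [IsAlgClosed k] (C : Scheme.{u}) [C.Over (Spec (CommRingCat.of k))]
    [IsIntegral C] [IsProper (C ↘ (Spec (CommRingCat.of k)))] (hdimC : topologicalKrullDim C = 1)
    (hregC : ∀ x : C, IsRegularLocalRing (C.presheaf.stalk x))
    (E : C.Modules) (hE : FlatMod.IsFinLocFreeOfRank 2 E)
    (hn0 : Nontrivial (Coh.HH C E 0))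
    (hneg : ∀ M : C.Modules, PicF.IsInvertible M → Curv2.deg k C M 1 < 0 → Subsingleton (Coh.HH C (CohB1.tensorMod E M) 0))
    (hind : ∀ L₁ L₂ : C.Modules, PicF.IsInvertible L₁ → PicF.IsInvertible L₂ → IsEmpty (E ≅ L₁ ⊞ L₂)) :
    2 - 2 * (Curv2.genus k C : ℤ) ≤ Curv2.deg k C E 2 ∧ Curv2.deg k C E 2 ≤ 2 * (Curv2.genus k C : ℤ) := by
  haveI := H29RR.isNoetherian_of_proper (k := k) (X := C)
  haveI := H29RR.smooth_of_regular k C hregC
  have h00 := H29RR.finrank_h0_structure k C
  have hsub : ∀ (L : C.Modules) (i : L ⟶ E), Mono i → PicF.IsInvertible L → Curv2.deg k C L 1 ≤ 0 := by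
    intro L i hi hL
    haveI := hi
    by_contra hpos
    obtain ⟨M, hM, ⟨e⟩⟩ := H29RR.exists_inverse_comm hL
    have hd := H29RR.deg_tensor (k := k) hdimC.le hL hM
    rw [H29RR.deg_congr (k := k) e, H29RR.deg_structureModule] at hd
    haveI := hneg M hM (by omega)
    let T := (DCoh.tensorBi (X := C)).flip.obj M
    haveI : Mono (T.map i) :=
      (H16Derived.KFlat.Stalk.isFlatObj_of_isFlat
        (H16Derived.KFlat.Stalk.isFlat_of_isFinLocFree (H28Pinch.isFinLocFree_of_isInvertible hM))
        (ShortComplex.mk i (cokernel.π i) (cokernel.condition i))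
        { exact := ShortComplex.exact_cokernel _ }).mono_f
    haveI : Subsingleton (Coh.HH C (CohB1.tensorMod L M) 0) :=
      ⟨fun a b => H29RR.hhlin_zero_injective (k := k) (T.map i)
        (@Subsingleton.elim (Coh.HH C (CohB1.tensorMod E M) 0) _ _ _)⟩
    rw [← (H29RR.hhIso (k := k) e 0).finrank_eq, Module.finrank_zero_of_subsingleton] at h00
    omega
  have hns : ∀ (G : C.Modules) (j : G ⟶ E), Mono j → PicF.IsInvertible G → PicF.IsInvertible (cokernel j) →
      ¬ IsSplitEpi (cokernel.π j) := fun G j hj hG hq hsp => by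
    haveI := hj
    obtain ⟨e⟩ := H29RR.nonempty_iso_of_split j hsp
    exact (hind _ _ hG hq).elim' e
  refine ⟨?_, ?_⟩
  · obtain ⟨g, hg⟩ := H29RR.exists_global_ne_zero E hn0
    let s : Coh.structureModule C ⟶ E := H11Tilde.homOfGlobal E g
    have hs : s ≠ 0 := fun h0 => hg (by
      have h := congrArg (fun φ : Coh.structureModule C ⟶ E => φ.app ⊤ (1 : Γ(C, ⊤))) h0
      simpa [s, H11Tilde.homOfGlobal_app] using h)
    have hO := H11Ample.isInvertible_structureModule (X := C)
    obtain ⟨a, n, -, -, han, -, hn, hmono, -⟩ :=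
      H29RR.exists_image_data (k := k) hdimC.le (H29RR.rank_one_of_isInvertible hO) hE s
    have := hn hs
    haveI := hmono (by omega)
    have h := H29RR.two_deg_le_of_nonsplit (k := k) hdimC.le hE hO s hns
    rw [H29RR.deg_structureModule] at h
    omega
  · obtain ⟨L, i, hL, hi, hle⟩ := H29RR.exists_sub_deg_ge (k := k) hdimC hE
    have := hsub L i hi hL
    omega

end Groth.Agent.S11347
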