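import Groth.Statements.S11348
import Groth.Agent.H29RR.SectionPair
import Groth.Agent.H29RR.PointAux
import Groth.Agent.H29RR.SmoothRegular

set_option autoImplicit false
universe u
open CategoryTheory CategoryTheory.Limits AlgebraicGeometry
open Curves

namespace Groth.Agent.S11348

/-- Let C be an elliptic curve over an algebraically closed field k — integral, proper over k, of
dimension one, all local rings regular, of genus dim_k H^1(C, O_C) = 1 — and E a locally free
O_C-module of rank 2 which is normalized (H^0(C, E) ≠ 0 while H^0(C, E ⊗ M) = 0 for every invertible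
M of negative degree) and indecomposable (not isomorphic to a direct sum of two invertible modules).
Then the invariant e = -deg E is 0 or -1, i.e. deg E ∈ {0, 1}, with deg E = χ(E) - 2 χ(O_C). -/
theorem result (k : Type u) [Field k] [IsAlgClosed k] (C : Scheme.{u}) [C.Over (Spec (CommRingCat.of k))]
    [IsIntegral C] [IsProper (C ↘ (Spec (CommRingCat.of k)))] (hdimC : topologicalKrullDim C = 1)
    (hregC : ∀ x : C, IsRegularLocalRing (C.presheaf.stalk x)) (hg : Curv2.genus k C = 1)
    (E : C.Modules) (hE : FlatMod.IsFinLocFreeOfRank 2 E)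
    (hn0 : Nontrivial (Coh.HH C E 0))
    (hneg : ∀ M : C.Modules, PicF.IsInvertible M → Curv2.deg k C M 1 < 0 → Subsingleton (Coh.HH C (CohB1.tensorMod E M) 0))
    (hind : ∀ L₁ L₂ : C.Modules, PicF.IsInvertible L₁ → PicF.IsInvertible L₂ → IsEmpty (E ≅ L₁ ⊞ L₂)) :
    Curv2.deg k C E 2 = 0 ∨ Curv2.deg k C E 2 = 1 := by
  haveI := H29RR.isNoetherian_of_proper (k := k) (X := C)
  haveI := H29RR.smooth_of_regular k C hregC
  have hsub : ∀ (L : C.Modules) (i : L ⟶ E), Mono i → PicF.IsInvertible L → Curv2.deg k C L 1 ≤ 0 :=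
    fun L i hi hL => by
      haveI := hi
      exact H29RR.deg_sub_nonpos (k := k) hdimC.le hneg hL i
  have hns : ∀ (G : C.Modules) (j : G ⟶ E), Mono j → PicF.IsInvertible G → PicF.IsInvertible (cokernel j) →
      ¬ IsSplitEpi (cokernel.π j) := fun G j hj hG hq hsp => by
    haveI := hj
    obtain ⟨e⟩ := H29RR.nonempty_iso_of_split j hsp
    exact (hind _ _ hG hq).elim' e
  have hlow : 0 ≤ Curv2.deg k C E 2 := by
    obtain ⟨g, hg⟩ := H29RR.exists_global_ne_zero E hn0
    have hO := H11Ample.isInvertible_structureModule (X := C)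
    haveI := H29RR.mono_of_invertible (k := k) hdimC.le hO hE (H29RR.homOfGlobal_ne_zero' hg)
    have h := H29RR.two_deg_le_of_nonsplit (k := k) hdimC.le hE hO (H11Tilde.homOfGlobal E g) hns
    rw [H29RR.deg_structureModule] at h
    omega
  have hup : Curv2.deg k C E 2 ≤ 2 := by
    obtain ⟨L, i, hL, hi, hle⟩ := H29RR.exists_sub_deg_ge (k := k) hdimC hE
    have := hsub L i hi hL
    rw [hg] at hle
    omega
  by_contra hne
  have hd : Curv2.deg k C E 2 = 2 := by omega
  have h00 := H29RR.finrank_h0_structure k C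
  have hO0 := H29RR.euler_eq_sub (k := k) hdimC.le (Coh.structureModule C)
  rw [h00, show Module.finrank k (Coh.HH C (Coh.structureModule C) 1) = Curv2.genus k C from rfl, hg] at hO0
  have hχ := H29RR.euler_eq_sub (k := k) hdimC.le E
  have hd2 : Curv2.euler k C E = Curv2.deg k C E 2 + 2 * Curv2.euler k C (Coh.structureModule C) := by
    simp [Curv2.deg]
  have h2 : 2 ≤ Module.finrank k (Coh.HH C E 0) := by omega
  obtain ⟨φ, hφ⟩ := H29RR.exists_pair_mono (k := k) hdimC.le hE hn0 fun L i hi hL => by
    rcases subsingleton_or_nontrivial (Coh.HH C L 0) with h | h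
    · rw [Module.finrank_zero_of_subsingleton (M := Coh.HH C L 0)]
      omega
    · have := (H29RR.bounds_of_section (k := k) hdimC.le hL h).2.1
      have := hsub L i hi hL
      omega
  haveI := hφ
  obtain ⟨hB, hdB⟩ := H29RR.rank_two_trivial (k := k) (X := C) hdimC.le
  have hC := H10Coh.isCoh_cokernel φ (H29RR.isCoh_of_rank hB).1 (H29RR.isCoh_of_rank hE)
  have hfin := H25Par.finite_of_isClosed_of_notMem hdimC.le (H10Coh.isClosed_support _ hC.2)
    (H25Par.notMem_support_coker hB hE φ)
  obtain ⟨p, hp⟩ : (CohB1.support (cokernel φ)).Nonempty := by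
    by_contra hemp
    rw [Set.not_nonempty_iff_eq_empty] at hemp
    haveI : Epi φ := Preadditive.epi_of_cokernel_zero
      ((H16Derived.KFlat.Stalk.isZero_of_stalk fun y =>
        (H25Euler.notMem_support_iff _ y).1 (hemp ▸ Set.notMem_empty y)).eq_of_tgt _ _)
    haveI : IsIso φ := isIso_of_mono_of_epi φ
    have := H25Euler.euler_congr (k := k) (asIso φ)
    simp only [Curv2.deg] at hdB hd
    omega
  have hpc := hfin.2 p hp
  haveI := hregC p
  obtain ⟨I, hI, hdI, hsec⟩ : ∃ I : C.Modules, PicF.IsInvertible I ∧ Curv2.deg k C I 1 < 0 ∧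
      0 < Module.finrank k (Coh.HH C (CohB1.tensorMod E I) 0) := by
    have h1 := H29RR.finrank_residue_eq_one (k := k) hpc
    have hI := H29RR.isInvertible_pt_of_regular (k := k) hdimC hpc
    obtain ⟨-, -, he⟩ := H29RR.twist_point (k := k) hpc (H11Ample.isInvertible_structureModule (X := C))
      (H16Derived.KFlat.Stalk.isCoh_of_isFinLocFree (H28Pinch.isFinLocFree_of_isInvertible hI))
    rw [H25Euler.euler_congr (k := k) (H10Coh.Tw.rightUnitIso (ClSub.idealMod (H29RR.ptIdeal p))), h1] at he
    refine ⟨_, hI, by rw [H29RR.deg_def]; omega, ?_⟩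
    rw [← (H29RR.hhIso (k := k) (H10Coh.Tw.commIso (ClSub.idealMod (H29RR.ptIdeal p)) E) 0).finrank_eq]
    have hiff := H29RR.h0_twist_point_eq_iff (k := k) hpc h1 hE
    have hle := H29RR.h0_le_twist_point (k := k) hpc hE
      (H16Derived.KFlat.Stalk.isCoh_of_isFinLocFree (H28Pinch.isFinLocFree_of_isInvertible hI))
    rw [h1] at hle
    by_contra hz
    have hz' : Module.finrank k (Coh.HH C (CohB1.tensorMod (ClSub.idealMod (H29RR.ptIdeal p)) E) 0) = 0 := by omega
    have hspan := hiff.1 (by omega)
    have hHB : Module.finrank k (Coh.HH C (Coh.structureModule C ⊞ Coh.structureModule C) 0) = 2 := by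
      haveI := H10Coh.finite_HH_proper k C _ (H10Coh.isCoh_structureModule' C) 0
      rw [H29RR.finrank_hh_biprod, h00]
    haveI := H10Coh.finite_HH_proper k C _ (H29RR.isCoh_of_rank hE) 0
    haveI := H10Coh.finite_HH_proper k C _ (H29RR.isCoh_of_rank hB) 0
    have hs : Function.Surjective (Canon.HHlin k φ 0) :=
      (LinearMap.injective_iff_surjective_of_finrank_eq_finrank (by omega)).1 (H29RR.hhlin_zero_injective (k := k) φ)
    have hsurj := H29RR.surjective_of_spansAt φ hspan fun g => by
      obtain ⟨v, hv⟩ := hs ((H29RR.sec E).symm g)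
      exact ⟨H29RR.sec _ v, by rw [← H29RR.sec_natural (k := k), hv, AddEquiv.apply_symm_apply]⟩
    exact H29RR.notMem_support_of_surjective (k := k) φ hsurj hp
  exact Nat.lt_irrefl _ (hsec.trans_le (by
    haveI := hneg I hI hdI
    rw [Module.finrank_zero_of_subsingleton (M := Coh.HH C (CohB1.tensorMod E I) 0)]))

end Groth.Agent.S11348
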