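import Groth.Statements.S11349
import Groth.Agent.H29DoubleCover.FibreDivisor
import Groth.Agent.H29DoubleCover.Swap
import Groth.Agent.H29RR.SmoothRegular

set_option autoImplicit false
universe u
open CategoryTheory CategoryTheory.Limits AlgebraicGeometry
open Curves

namespace Groth.Agent.S11349

attribute [local instance 10000] H10Coh.hasSheafifyAb H10Coh.hasWeakSheafifyAb H10Coh.hasExtAb H10Coh.enoughInjAb


/-- Take an algebraically closed field k of characteristic different from 2 and an elliptic curve X over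
k — an integral scheme, proper over k, of dimension one, all local rings regular, of genus dim_k
H^1(X, O_X) = 1 — and let P, Q be closed points of X, possibly equal. Then there is an automorphism
σ of X over k with σ² = id and σ(P) = Q such that R + σ(R) is linearly equivalent to P + Q for every
closed point R; the last condition is written on ideal sheaves of points: I_R ⊗ I_{σ(R)} ≅ I_P ⊗
I_Q. -/
theorem result (k : Type u) [Field k] [IsAlgClosed k] (X : Scheme.{u}) [X.Over (Spec (CommRingCat.of k))]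
    [IsIntegral X] [IsProper (X ↘ (Spec (CommRingCat.of k)))] (hdim : topologicalKrullDim X = 1)
    (hreg : ∀ x : X, IsRegularLocalRing (X.presheaf.stalk x)) (hchar : ringChar k ≠ 2) (hg : Curv2.genus k X = 1)
    (P Q : X) (hP : IsClosed ({P} : Set X)) (hQ : IsClosed ({Q} : Set X)) :
    ∃ σ : X ≅ X, σ.hom ≫ (X ↘ (Spec (CommRingCat.of k))) = (X ↘ (Spec (CommRingCat.of k))) ∧ σ.hom ≫ σ.hom = 𝟙 X ∧ σ.hom P = Q ∧
      ∀ (R R' : X) (hR : IsClosed ({R} : Set X)) (hR' : IsClosed ({R'} : Set X)), σ.hom R = R' →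
        Nonempty (CohB1.tensorMod (ClSub.idealMod (Scheme.IdealSheafData.vanishingIdeal ⟨{R}, hR⟩)) (ClSub.idealMod (Scheme.IdealSheafData.vanishingIdeal ⟨{R'}, hR'⟩)) ≅ CohB1.tensorMod (ClSub.idealMod (Scheme.IdealSheafData.vanishingIdeal ⟨{P}, hP⟩)) (ClSub.idealMod (Scheme.IdealSheafData.vanishingIdeal ⟨{Q}, hQ⟩))) := by
  haveI := H29RR.isNoetherian_of_proper (k := k) (X := X)
  haveI : Smooth (X ↘ Spec (CommRingCat.of k)) := H29RR.smooth_of_regular k X hreg
  haveI : IsProper (CohB1.ProjSpace.toSpec 1 k) := H27Weil.isProper_toSpec 1 k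
  haveI : IsLocallyNoetherian (CohB1.ProjSpace 1 k) :=
    LocallyOfFiniteType.isLocallyNoetherian (CohB1.ProjSpace.toSpec 1 k)
  obtain ⟨f, hf, hfin, hfl, hη, hr, hsep, hPQ, hfib⟩ :=
    H29DoubleCover.exists_double_cover_through (k := k) hdim hg hP hQ
  haveI := hfin
  haveI := hfl
  obtain ⟨hrk, -⟩ := H29DoubleCover.rank_and_etale (k := k) f hdim hf hη hr hsep
  obtain ⟨σ, hσ, hσσ, hswap⟩ := H29DoubleCover.exists_swap f hrk
  have hfσ : ∀ x, f (σ.hom x) = f x := fun x => by rw [← Scheme.Hom.comp_apply, hσ]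
  have hσPQ : σ.hom P = Q := by
    by_cases h : P = Q
    · rcases hfib _ (hfσ P) with h' | h'
      · rw [h', h]
      · exact h'
    · exact hswap P Q hQ h hPQ
  let L := (Scheme.Modules.pullback f).obj (Twist.twistProjSpace 1 k 1)
  have hL : PicF.IsInvertible L :=
    H11Ample.isInvertible_pullback f ((H10Coh.Stab.isTwistFamily_projSpace 1 k).inv 1)
  have key : ∀ R R' : X, IsClosed ({R} : Set X) → σ.hom R = R' →
      Nonempty (CohB1.tensorMod (CohB1.tensorMod (ClSub.idealMod (H29RR.ptIdeal R)) (ClSub.idealMod (H29RR.ptIdeal R'))) L ≅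
        Coh.structureModule X) := by
    intro R R' hR hRR'
    obtain ⟨S, hS, hfS, hfib', e⟩ := H29DoubleCover.fibre_pair (k := k) hdim hg f hf hrk hR
    suffices R' = S by rw [this]; exact e
    by_cases h : R = S
    · rcases hfib' R' (by rw [← hRR', hfσ]) with h' | h'
      · exact h'.trans h
      · exact h'
    · rw [← hRR']; exact hswap R S hS h hfS.symm
  refine ⟨σ, by rw [← hf, ← Category.assoc, hσ], hσσ, hσPQ, fun R R' hR hR' hRR' => ?_⟩
  obtain ⟨e₁⟩ := key R R' hR hRR'
  obtain ⟨e₂⟩ := key P Q hP hσPQ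
  rw [← H29RR.ptIdeal_eq_vanishingIdeal hR, ← H29RR.ptIdeal_eq_vanishingIdeal hR',
    ← H29RR.ptIdeal_eq_vanishingIdeal hP, ← H29RR.ptIdeal_eq_vanishingIdeal hQ]
  exact H29DoubleCover.nonempty_iso_of_tensor_eq hL e₁ e₂

end Groth.Agent.S11349
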