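import Groth.Statements.S11351
import Groth.Agent.S11349
import Groth.Agent.S18900
import Groth.Agent.H18Quot.Categorical
import Groth.Agent.H29DoubleCover.Deck
import Groth.Agent.H29DoubleCover.Ramification
import Groth.Agent.H29DoubleCover.Separable

set_option autoImplicit false
universe u
open CategoryTheory CategoryTheory.Limits AlgebraicGeometry
open Curves

namespace Groth.Agent.S11351

attribute [local instance 10000] H10Coh.hasSheafifyAb H10Coh.hasWeakSheafifyAb H10Coh.hasExtAb H10Coh.enoughInjAb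

theorem exists_alone {k : Type u} [Field k] [IsAlgClosed k] {X : Scheme.{u}} [X.Over (Spec (CommRingCat.of k))]
    [IsIntegral X] [IsProper (X ↘ (Spec (CommRingCat.of k)))] [Smooth (X ↘ (Spec (CommRingCat.of k)))]
    (h2 : (2 : k) ≠ 0) (hdim : topologicalKrullDim X = 1) (hg : Curv2.genus k X = 1)
    (f : X ⟶ CohB1.ProjSpace 1 k) [IsFinite f] [Flat f]
    (hf : f ≫ CohB1.ProjSpace.toSpec 1 k = X ↘ Spec (CommRingCat.of k)) (hr : ∀ y, f.finrank y = 2) :
    ∃ P : X, IsClosed ({P} : Set X) ∧ f ⁻¹' {f P} = {P} := by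
  letI := H29RR.PnPic.overSpec 1 k
  haveI : IsProper (CohB1.ProjSpace 1 k ↘ Spec (CommRingCat.of k)) := H27Weil.isProper_toSpec 1 k
  haveI : Smooth (CohB1.ProjSpace 1 k ↘ Spec (CommRingCat.of k)) := H26Smooth.smooth_toSpec 1 k
  obtain ⟨-, -, hPd⟩ := H28Curve.projLine_facts k
  obtain ⟨-, hη⟩ := H29DoubleCover.residueDegree_of_finrank (k := k) hdim f hf hr
  have h := H29DoubleCover.hurwitz_double (k := k) f h2 hdim hPd hf hη hr
  rw [hg, show Curv2.genus k (CohB1.ProjSpace 1 k) = 0 from H29DoubleCover.genus_projLine k] at h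
  have hpos : 0 < Nat.card {x : X // IsClosed ({x} : Set X) ∧ f ⁻¹' {f x} = {x}} := by omega
  obtain ⟨⟨⟨P, hP⟩⟩, -⟩ := Nat.card_pos_iff.1 hpos
  exact ⟨P, hP⟩

theorem exists_factor {k : Type u} [Field k] [IsAlgClosed k] {X : Scheme.{u}} [X.Over (Spec (CommRingCat.of k))]
    [IsIntegral X] [IsProper (X ↘ (Spec (CommRingCat.of k)))] [Smooth (X ↘ (Spec (CommRingCat.of k)))]
    (h2 : (2 : k) ≠ 0) (hdim : topologicalKrullDim X = 1) (hg : Curv2.genus k X = 1)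
    (f g : X ⟶ CohB1.ProjSpace 1 k) [IsFinite f] [Flat f] [IsFinite g] [Flat g]
    (hf : f ≫ CohB1.ProjSpace.toSpec 1 k = X ↘ Spec (CommRingCat.of k)) (hrf : ∀ y, f.finrank y = 2)
    (hgk : g ≫ CohB1.ProjSpace.toSpec 1 k = X ↘ Spec (CommRingCat.of k)) (hrg : ∀ y, g.finrank y = 2)
    (φ : (Scheme.Modules.pullback g).obj (Twist.twistProjSpace 1 k 1) ≅
      (Scheme.Modules.pullback f).obj (Twist.twistProjSpace 1 k 1)) :
    ∃! τ : CohB1.ProjSpace 1 k ⟶ CohB1.ProjSpace 1 k, f ≫ τ = g := by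
  haveI : IsProper (CohB1.ProjSpace.toSpec 1 k) := H27Weil.isProper_toSpec 1 k
  haveI : IsLocallyNoetherian (CohB1.ProjSpace 1 k) :=
    LocallyOfFiniteType.isLocallyNoetherian (CohB1.ProjSpace.toSpec 1 k)
  haveI : LocallyOfFinitePresentation f := inferInstance
  have h2' : IsUnit (2 : Γ(CohB1.ProjSpace 1 k, ⊤)) := by
    have := (isUnit_iff_ne_zero.2 h2).map (ProjUP.toGlobal (CohB1.ProjSpace.toSpec 1 k))
    rwa [map_ofNat] at this
  obtain ⟨σ, hσ, hσσ, hquot⟩ := S18900.result f hrf h2'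
  have hpow : ∀ γ : Subgroup.zpowers σ, (γ : Aut X) = 1 ∨ (γ : Aut X) = σ := fun γ => by
    obtain ⟨n, hn⟩ := γ.2
    rw [← hn]
    obtain ⟨m, rfl | rfl⟩ := Int.even_or_odd' n
    · left
      show σ ^ (2 * m) = 1
      rw [zpow_mul, zpow_two, hσσ, one_zpow]
    · right
      show σ ^ (2 * m + 1) = σ
      rw [zpow_add, zpow_mul, zpow_two, hσσ, one_zpow, one_mul, zpow_one]
  haveI : Finite (Subgroup.zpowers σ) :=
    ((({1, σ} : Set (Aut X)).toFinite).subset fun a ha => by simpa using hpow ⟨a, ha⟩).to_subtype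
  have h00 := H29RR.finrank_h0_structure k X
  obtain ⟨-, -, hs⟩ := H29DoubleCover.pull_surjective (k := k) hdim h00 hg.ge f hf hrf
  have hO1 : PicF.IsInvertible (Twist.twistProjSpace 1 k 1) := (H10Coh.Stab.isTwistFamily_projSpace 1 k).inv 1
  have hcl : ∀ z : X, IsClosed ({z} : Set X) → IsClosed ({g z} : Set ↥(CohB1.ProjSpace 1 k)) := fun z hz =>
    Set.image_singleton ▸ g.isClosedMap _ hz
  have hσp : σ.hom ≫ (X ↘ Spec (CommRingCat.of k)) = X ↘ Spec (CommRingCat.of k) := by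
    rw [← hf, ← Category.assoc, hσ]
  haveI : JacobsonSpace X := LocallyOfFiniteType.jacobsonSpace (X ↘ Spec (CommRingCat.of k))
  haveI : LocallyOfFiniteType ((σ.hom ≫ g) ≫ CohB1.ProjSpace.toSpec 1 k) := by
    rw [Category.assoc, hgk, hσp]; infer_instance
  have hσg : σ.hom ≫ g = g := by
    refine H29DoubleCover.eq_of_eqOn_closed (CohB1.ProjSpace.toSpec 1 k) (closedPoints X)
      (dense_iff_closure_eq.2 closure_closedPoints) (fun _ h => h) (fun x hx => ?_)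
      (by rw [Category.assoc, hgk, hσp])
    have hσx : IsClosed ({σ.hom x} : Set X) := Set.image_singleton ▸ σ.hom.isClosedMap _ hx
    show g (σ.hom x) = g x
    refine H29DoubleCover.eq_of_gen_iff (hcl _ hσx) (hcl _ hx) fun w => ?_
    obtain ⟨w', hw'⟩ := hs (φ.hom.app ⊤ (H11Ample.pullTop g w))
    have key : ∀ z : X, g z ∈ H11Ample.gen _ w ↔ f z ∈ H11Ample.gen _ w' := fun z => by
      have e1 := H11P1n.gen_pullTop g hO1 w
      have e2 := H11P1n.gen_pullTop f hO1 w'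
      rw [hw', H11Ample.gen_iso, e1] at e2
      exact Eq.to_iff (congrArg (fun U : X.Opens => z ∈ U) e2)
    rw [key, key, ← Scheme.Hom.comp_apply, hσ]
  haveI : Surjective f := f.one_le_finrank_iff_surjective.1 fun y => by rw [hrf]; norm_num
  haveI := Flat.epi_of_flat_of_surjective f
  suffices hh : ∀ γ : Subgroup.zpowers σ, ((Subgroup.zpowers σ).subtype γ).hom ≫ g = g by
    obtain ⟨τ, hτ⟩ := H18Quot.exists_desc (h := g) (hh := hh) hquot
    exact ⟨τ, hτ, fun τ' hτ' => (cancel_epi f).1 (hτ'.trans hτ.symm)⟩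
  intro γ
  show (γ : Aut X).hom ≫ g = g
  rcases hpow γ with h | h
  · rw [h]; exact Category.id_comp g
  · rw [h]; exact hσg


/-- Take an algebraically closed field k of characteristic different from 2 and an elliptic curve X over
k (integral, proper over k, of dimension one, all local rings regular, of genus dim_k H^1(X, O_X) =
1), and let f₁, f₂ : X → P^1_k be two finite morphisms over k of degree 2 (the direct image of O_X
is locally free of rank 2). Then there are an automorphism σ of X over k and an automorphism τ of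
P^1_k over k such that f₂ ∘ σ = τ ∘ f₁. -/
theorem result (k : Type u) [Field k] [IsAlgClosed k] (X : Scheme.{u}) [X.Over (Spec (CommRingCat.of k))]
    [IsIntegral X] [IsProper (X ↘ (Spec (CommRingCat.of k)))] (hdim : topologicalKrullDim X = 1)
    (hreg : ∀ x : X, IsRegularLocalRing (X.presheaf.stalk x)) (hchar : ringChar k ≠ 2) (hg : Curv2.genus k X = 1)
    (f₁ f₂ : X ⟶ (CohB1.ProjSpace 1 k)) [IsFinite f₁] [IsFinite f₂]
    (hf₁ : f₁ ≫ CohB1.ProjSpace.toSpec 1 k = (X ↘ (Spec (CommRingCat.of k)))) (hf₂ : f₂ ≫ CohB1.ProjSpace.toSpec 1 k = (X ↘ (Spec (CommRingCat.of k))))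
    (hd₁ : FlatMod.IsFinLocFreeOfRank 2 ((Scheme.Modules.pushforward f₁).obj (Coh.structureModule X)))
    (hd₂ : FlatMod.IsFinLocFreeOfRank 2 ((Scheme.Modules.pushforward f₂).obj (Coh.structureModule X))) :
    ∃ (σ : X ≅ X) (τ : (CohB1.ProjSpace 1 k) ≅ (CohB1.ProjSpace 1 k)), σ.hom ≫ (X ↘ (Spec (CommRingCat.of k))) = (X ↘ (Spec (CommRingCat.of k))) ∧
      τ.hom ≫ CohB1.ProjSpace.toSpec 1 k = CohB1.ProjSpace.toSpec 1 k ∧ σ.hom ≫ f₂ = f₁ ≫ τ.hom := by
  haveI := H29RR.isNoetherian_of_proper (k := k) (X := X)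
  haveI : Smooth (X ↘ Spec (CommRingCat.of k)) := H29RR.smooth_of_regular k X hreg
  haveI : IsProper (CohB1.ProjSpace.toSpec 1 k) := H27Weil.isProper_toSpec 1 k
  haveI : IsLocallyNoetherian (CohB1.ProjSpace 1 k) :=
    LocallyOfFiniteType.isLocallyNoetherian (CohB1.ProjSpace.toSpec 1 k)
  have h2 : (2 : k) ≠ 0 := Ring.two_ne_zero hchar
  obtain ⟨⟨-, hfl₁, -⟩, hr₁⟩ := H25FinCov.isCover_of_isFinLocFreeOfRank f₁ 2 hd₁
  obtain ⟨⟨-, hfl₂, -⟩, hr₂⟩ := H25FinCov.isCover_of_isFinLocFreeOfRank f₂ 2 hd₂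
  haveI := hfl₁
  haveI := hfl₂
  obtain ⟨P, hP, hP1⟩ := exists_alone h2 hdim hg f₁ hf₁ hr₁
  obtain ⟨Q, hQ, hQ2⟩ := exists_alone h2 hdim hg f₂ hf₂ hr₂
  obtain ⟨σ, hσk, -, hσPQ, -⟩ := S11349.result k X hdim hreg hchar hg P Q hP hQ
  have hrg : ∀ y, (σ.hom ≫ f₂).finrank y = 2 := fun y => by rw [Scheme.Hom.finrank_comp_left_of_isIso, hr₂]
  have hgk : (σ.hom ≫ f₂) ≫ CohB1.ProjSpace.toSpec 1 k = X ↘ Spec (CommRingCat.of k) := by
    rw [Category.assoc, hf₂, hσk]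
  obtain ⟨S, hS, hfS, -, ⟨e₁⟩⟩ := H29DoubleCover.fibre_pair (k := k) hdim hg f₁ hf₁ hr₁ hP
  obtain rfl : S = P := hP1.le (show f₁ S = f₁ P from hfS)
  obtain ⟨S', hS', hfS', -, ⟨e₂⟩⟩ := H29DoubleCover.fibre_pair (k := k) hdim hg (σ.hom ≫ f₂) hgk hrg hP
  obtain rfl : S' = S := by
    rw [Scheme.Hom.comp_apply, Scheme.Hom.comp_apply, hσPQ] at hfS'
    have h1 : σ.hom S' = Q := hQ2.le hfS'
    exact σ.hom.homeomorph.injective (h1.trans hσPQ.symm)
  have hA := H11Ample.isInvertible_tensor (H29CurveDual.isInvertible_pt (k := k) hdim hP)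
    (H29CurveDual.isInvertible_pt (k := k) hdim hP)
  obtain ⟨φ⟩ := H29DoubleCover.nonempty_iso_of_tensor_eq hA (H10Coh.Tw.commIso _ _ ≪≫ e₂) (H10Coh.Tw.commIso _ _ ≪≫ e₁)
  obtain ⟨τ, hτ, -⟩ := exists_factor h2 hdim hg f₁ (σ.hom ≫ f₂) hf₁ hr₁ hgk hrg φ
  obtain ⟨τ', hτ', -⟩ := exists_factor h2 hdim hg (σ.hom ≫ f₂) f₁ hgk hrg hf₁ hr₁ φ.symm
  obtain ⟨a, -, ha⟩ := exists_factor h2 hdim hg f₁ f₁ hf₁ hr₁ hf₁ hr₁ (Iso.refl _)
  obtain ⟨b, -, hb⟩ := exists_factor h2 hdim hg (σ.hom ≫ f₂) (σ.hom ≫ f₂) hgk hrg hgk hrg (Iso.refl _)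
  have hinv : τ ≫ τ' = 𝟙 _ := (ha _ (by dsimp only; rw [← Category.assoc, hτ, hτ'])).trans (ha _ (Category.comp_id _)).symm
  have hinv' : τ' ≫ τ = 𝟙 _ := (hb _ (by dsimp only; rw [← Category.assoc, hτ', hτ])).trans (hb _ (Category.comp_id _)).symm
  refine ⟨σ, ⟨τ, τ', hinv, hinv'⟩, hσk, ?_, hτ.symm⟩
  show τ ≫ CohB1.ProjSpace.toSpec 1 k = CohB1.ProjSpace.toSpec 1 k
  haveI : Epi f₁ := by
    haveI : Surjective f₁ := f₁.one_le_finrank_iff_surjective.1 fun y => by rw [hr₁]; norm_num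
    exact Flat.epi_of_flat_of_surjective f₁
  rw [← cancel_epi f₁, ← Category.assoc, hτ, hgk, hf₁]

end Groth.Agent.S11351
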