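import Groth.Statements.S11352
import Groth.Agent.H29RR.Clifford
import Groth.Agent.H28Pinch.EssSurj

set_option autoImplicit false
universe u
open CategoryTheory CategoryTheory.Limits AlgebraicGeometry
open Curves

namespace Groth.Agent.S11352

open H16Derived.KFlat.Stalk in
theorem sum_le {k : Type u} [Field k] [IsAlgClosed k] {X : Scheme.{u}} [X.Over (Spec (CommRingCat.of k))]
    [IsProper (X ↘ Spec (CommRingCat.of k))] [IsIntegral X]
    (L L' : X.Modules) (hL : PicF.IsInvertible L) (hL' : PicF.IsInvertible L')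
    (hs : Nontrivial (Coh.HH X L 0)) (hs' : Nontrivial (Coh.HH X L' 0)) :
    Module.finrank k (Coh.HH X L 0) + Module.finrank k (Coh.HH X L' 0) ≤
      Module.finrank k (Coh.HH X (CohB1.tensorMod L L') 0) + 1 := by
  haveI := H29RR.isNoetherian_of_proper (k := k) (X := X)
  have hT := H11Ample.isInvertible_tensor hL hL'
  haveI := H29RR.finite_HH (k := k) L hL 0
  haveI := H29RR.finite_HH (k := k) L' hL' 0
  haveI := H29RR.finite_HH (k := k) _ hT 0
  let m : Coh.HH X L 0 → Coh.HH X L' 0 → Coh.HH X (CohB1.tensorMod L L') 0 := fun v w =>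
    (H29RR.sec (CohB1.tensorMod L L')).symm (tensorSect ⊤ (H29RR.sec L v) (H29RR.sec L' w))
  have hm : ∀ v w, H29RR.sec (CohB1.tensorMod L L') (m v w) = tensorSect ⊤ (H29RR.sec L v) (H29RR.sec L' w) :=
    fun v w => AddEquiv.apply_symm_apply _ _
  let B : Coh.HH X L 0 →ₗ[k] Coh.HH X L' 0 →ₗ[k] Coh.HH X (CohB1.tensorMod L L') 0 :=
    LinearMap.mk₂ k m
      (fun v v' w => (H29RR.sec _).injective (by
        rw [hm, map_add, map_add, hm, hm]; exact tensorSect_add_left _ _ _))
      (fun c v w => (H29RR.sec _).injective (by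
        rw [hm, H29RR.sec_smul, H29RR.sec_smul, hm]; exact tensorSect_smul_left _ _ _))
      (fun v w w' => (H29RR.sec _).injective (by
        rw [hm, map_add, map_add, hm, hm]; exact tensorSect_add_right _ _ _))
      (fun c v w => (H29RR.sec _).injective (by
        rw [hm, H29RR.sec_smul, H29RR.sec_smul, hm]; exact tensorSect_smul_right _ _ _))
  refine H29RR.hopf B (fun v w h => ?_) Module.finrank_pos Module.finrank_pos
  by_contra hvw
  obtain ⟨hv, hw⟩ := not_or.1 hvw
  have hne : ∀ {M : X.Modules}, PicF.IsInvertible M → ∀ {u : Coh.HH X M 0}, u ≠ 0 →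
      M.presheaf.germ ⊤ (genericPoint X) trivial (H29RR.sec M u) ≠ 0 := fun {M} hM {u} hu =>
    H29RR.germ_ne_zero (H16Derived.KFlat.Stalk.isCoh_of_isFinLocFree (H28Pinch.isFinLocFree_of_isInvertible hM)).1
      (H25Par.isTorsionFree_of_locFree (H28Pinch.isFinLocFree_of_isInvertible hM))
      fun h0 => hu ((H29RR.sec M).injective (h0.trans (map_zero _).symm))
  letI : Field (X.presheaf.stalk (genericPoint X)) := inferInstanceAs (Field X.functionField)
  have h0 : tensorSect ⊤ (H29RR.sec L v) (H29RR.sec L' w) = 0 := by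
    rw [← hm]
    show H29RR.sec _ (B v w) = 0
    rw [h, map_zero]
  have h1 := pair_germ L L' (genericPoint X) (⊤ : X.Opens) trivial (H29RR.sec L v) (H29RR.sec L' w)
  rw [h0, map_zero, ← toStalk_tmul] at h1
  have h3 := (toStalk_bijective L L' (genericPoint X)).1 (h1.trans (map_zero _).symm)
  obtain ⟨φ, hφ⟩ := not_forall.1 (mt (Module.forall_dual_apply_eq_zero_iff (X.presheaf.stalk (genericPoint X)) _).1 (hne hL hv))
  obtain ⟨ψ, hψ⟩ := not_forall.1 (mt (Module.forall_dual_apply_eq_zero_iff (X.presheaf.stalk (genericPoint X)) _).1 (hne hL' hw))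
  have h4 := congrArg (TensorProduct.lift ((LinearMap.mul _ _).compl₁₂ φ ψ)) h3
  rw [map_zero, TensorProduct.lift.tmul] at h4
  exact mul_ne_zero hφ hψ h4



/-- Let k be an algebraically closed field and X a curve over k (an integral scheme, proper over k, of
dimension one, with all local rings regular), and L, L' invertible O_X-modules each with a nonzero
global section (the sheaves of effective divisors D and E). Then dim |D| + dim |E| ≤ dim |D + E|; in
terms of sections, dim_k H^0(X, L) + dim_k H^0(X, L') ≤ dim_k H^0(X, L ⊗ L') + 1. -/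
theorem result (k : Type u) [Field k] [IsAlgClosed k] (X : Scheme.{u}) [X.Over (Spec (CommRingCat.of k))]
    [IsIntegral X] [IsProper (X ↘ (Spec (CommRingCat.of k)))] (hdim : topologicalKrullDim X = 1)
    (hreg : ∀ x : X, IsRegularLocalRing (X.presheaf.stalk x))
    (L L' : X.Modules) (hL : PicF.IsInvertible L) (hL' : PicF.IsInvertible L')
    (hs : Nontrivial (Coh.HH X L 0)) (hs' : Nontrivial (Coh.HH X L' 0)) :
    Module.finrank k (Coh.HH X L 0) + Module.finrank k (Coh.HH X L' 0) ≤ Module.finrank k (Coh.HH X (CohB1.tensorMod L L') 0) + 1 := by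
  exact sum_le L L' hL hL' hs hs'

end Groth.Agent.S11352
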