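import Groth.Statements.S11353
import Groth.Agent.H29RR.Pencil
import Groth.Agent.H29RR.Consts

set_option autoImplicit false
universe u
open CategoryTheory CategoryTheory.Limits AlgebraicGeometry
open Curves

namespace Groth.Agent.S11353

/-- Let C be a curve over an algebraically closed field k (integral, proper over k, of dimension one,
all local rings regular) and E a decomposable locally free sheaf of rank 2 — E ≅ L₁ ⊕ L₂ with L₁, L₂
invertible — which is normalized: H^0(C, E) ≠ 0 while H^0(C, E ⊗ M) = 0 for every invertible M of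
negative degree. Then E ≅ O_C ⊕ L for an invertible L with deg L ≤ 0; in particular e = -deg E ≥ 0. -/
theorem result (k : Type u) [Field k] [IsAlgClosed k] (C : Scheme.{u}) [C.Over (Spec (CommRingCat.of k))]
    [IsIntegral C] [IsProper (C ↘ (Spec (CommRingCat.of k)))] (hdimC : topologicalKrullDim C = 1)
    (hregC : ∀ x : C, IsRegularLocalRing (C.presheaf.stalk x))
    (E L₁ L₂ : C.Modules) (hL₁ : PicF.IsInvertible L₁) (hL₂ : PicF.IsInvertible L₂) (hE : Nonempty (E ≅ L₁ ⊞ L₂))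
    (hn0 : Nontrivial (Coh.HH C E 0))
    (hneg : ∀ M : C.Modules, PicF.IsInvertible M → Curv2.deg k C M 1 < 0 → Subsingleton (Coh.HH C (CohB1.tensorMod E M) 0)) :
    ∃ L : C.Modules, PicF.IsInvertible L ∧ Curv2.deg k C L 1 ≤ 0 ∧ Nonempty (E ≅ Coh.structureModule C ⊞ L) := by
  obtain ⟨e⟩ := hE
  have key : ∀ (L : C.Modules) (ι : L ⟶ E) (π : E ⟶ L), PicF.IsInvertible L → ι ≫ π = 𝟙 L →
      Curv2.deg k C L 1 ≤ 0 := by
    intro L ι π hL hιπ
    by_contra hd
    obtain ⟨M, hM, ⟨eM⟩⟩ := H11Sym.exists_inverse hL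
    let eM' : CohB1.tensorMod L M ≅ Coh.structureModule C := H10Coh.Tw.commIso L M ≪≫ eM
    have hsum := H29RR.deg_tensor (k := k) hdimC.le hL hM
    rw [H29RR.deg_congr (k := k) eM', H29RR.deg_structureModule] at hsum
    haveI := hneg M hM (by omega)
    have h0 := H29RR.finrank_h0_structure k C
    let T := (DCoh.tensorBi (X := C)).flip.obj M
    let ι' : Coh.structureModule C ⟶ CohB1.tensorMod E M := eM'.inv ≫ T.map ι
    let π' : CohB1.tensorMod E M ⟶ Coh.structureModule C := T.map π ≫ eM'.hom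
    have hid : ι' ≫ π' = 𝟙 _ := by
      show (eM'.inv ≫ T.map ι) ≫ T.map π ≫ eM'.hom = _
      have hT : T.map ι ≫ T.map π = 𝟙 (T.obj L) := by rw [← Functor.map_comp, hιπ, CategoryTheory.Functor.map_id]
      refine (Category.assoc _ _ _).trans ((congrArg (eM'.inv ≫ ·) ((Category.assoc _ _ _).symm.trans
        ((congrArg (· ≫ eM'.hom) hT).trans (Category.id_comp _)))).trans eM'.inv_hom_id)
    haveI : Subsingleton (Coh.HH C (Coh.structureModule C) 0) := by
      refine subsingleton_of_forall_eq 0 fun x => ?_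
      have h1 := H29RR.hhlin_comp (k := k) ι' π' 0 x
      rw [hid, H29RR.hhlin_id, Subsingleton.elim (Canon.HHlin k ι' 0 x) 0, map_zero] at h1
      exact h1
    rw [Module.finrank_zero_of_subsingleton] at h0
    exact zero_ne_one h0
  have hd1 := key L₁ (biprod.inl ≫ e.inv) (e.hom ≫ biprod.fst) hL₁ (by simp)
  have hd2 := key L₂ (biprod.inr ≫ e.inv) (e.hom ≫ biprod.snd) hL₂ (by simp)
  have hor : Nontrivial (Coh.HH C L₁ 0) ∨ Nontrivial (Coh.HH C L₂ 0) := by
    by_contra! hno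
    obtain ⟨h1, h2⟩ := hno
    obtain ⟨x, hx⟩ := exists_ne (0 : Coh.HH C E 0)
    refine hx ?_
    have hx1 : Canon.HHlin k (e.hom ≫ biprod.fst) 0 x = 0 := @Subsingleton.elim _ h1 _ _
    have hx2 : Canon.HHlin k (e.hom ≫ biprod.snd) 0 x = 0 := @Subsingleton.elim _ h2 _ _
    have htot : (e.hom ≫ biprod.fst) ≫ biprod.inl ≫ e.inv + (e.hom ≫ biprod.snd) ≫ biprod.inr ≫ e.inv = 𝟙 E := by
      simp only [Category.assoc, ← Preadditive.comp_add]
      rw [← Category.assoc biprod.fst, ← Category.assoc biprod.snd, ← Preadditive.add_comp, biprod.total,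
        Category.id_comp, Iso.hom_inv_id]
    rw [← H29RR.hhlin_id (k := k) E 0 x, ← htot, H29RR.hhlin_add, H29RR.hhlin_comp (k := k) (e.hom ≫ biprod.fst),
      H29RR.hhlin_comp (k := k) (e.hom ≫ biprod.snd), hx1, hx2,
      map_zero, map_zero, add_zero]
  rcases hor with h | h
  · obtain ⟨hnn, -, -, htriv⟩ := H29RR.bounds_of_section (k := k) hdimC.le hL₁ h
    obtain ⟨i⟩ := htriv (le_antisymm hd1 hnn)
    exact ⟨L₂, hL₂, hd2, ⟨e ≪≫ biprod.mapIso i (Iso.refl _)⟩⟩
  · obtain ⟨hnn, -, -, htriv⟩ := H29RR.bounds_of_section (k := k) hdimC.le hL₂ h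
    obtain ⟨i⟩ := htriv (le_antisymm hd2 hnn)
    exact ⟨L₁, hL₁, hd1, ⟨e ≪≫ biprod.mapIso (Iso.refl _) i ≪≫ biprod.braiding _ _⟩⟩

end Groth.Agent.S11353
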