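import Groth.Statements.S11354
import Groth.Agent.H28RR.Blow
import Groth.Agent.H28Bertini.Regular

set_option autoImplicit false
universe u
open CategoryTheory CategoryTheory.Limits AlgebraicGeometry
open Groth.Agent
open Surf

namespace Groth.Agent.S11354

/-- Let X be a surface over an algebraically closed field k (an integral scheme of dimension two with
all local rings regular, admitting a closed immersion into some P^n_k over k), P a closed point and
π : X' → X the monoidal transformation with centre P (a blowing up of X in the ideal of P, by its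
universal property), with exceptional curve E of ideal I_E, X' being again such a surface, regarded
over k through π. Writing (L·M) = χ(O) - χ(L) - χ(M) + χ(L ⊗ M) for the intersection number of
invertible modules (packaged as FGA.intNum) on X and on X': (a) (π^*L · π^*M) = (L · M) for
invertible L, M on X; (b) (π^*L · E) = 0, i.e. (π^*L · I_E) = 0; (c) E² = (I_E · I_E) = -1. -/
theorem result (k : Type u) [Field k] [IsAlgClosed k] (X : Scheme.{u}) [X.Over (Spec (CommRingCat.of k))]
    [IsIntegral X] (hdim : topologicalKrullDim X = 2) (hreg : ∀ x : X, IsRegularLocalRing (X.presheaf.stalk x))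
    (hproj : ∃ (n : ℕ) (ι : X ⟶ CohB1.ProjSpace n k), IsClosedImmersion ι ∧ ι ≫ CohB1.ProjSpace.toSpec n k = (X ↘ (Spec (CommRingCat.of k))))
    (P : X) (hP : IsClosed ({P} : Set X))
    (X' : Scheme.{u}) (π : X' ⟶ X) (hπ : BlowUp.IsBlowUp π (Scheme.IdealSheafData.vanishingIdeal ⟨{P}, hP⟩))
    [IsIntegral X'] (hdim' : topologicalKrullDim X' = 2) (hreg' : ∀ x : X', IsRegularLocalRing (X'.presheaf.stalk x))
    (hproj' : ∃ (n : ℕ) (ι : X' ⟶ CohB1.ProjSpace n k), IsClosedImmersion ι ∧ ι ≫ CohB1.ProjSpace.toSpec n k = π ≫ (X ↘ (Spec (CommRingCat.of k))))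
    (L M : X.Modules) (hL : PicF.IsInvertible L) (hM : PicF.IsInvertible M) :
    letI : X'.Over (Spec (CommRingCat.of k)) := ⟨π ≫ (X ↘ (Spec (CommRingCat.of k)))⟩
    FGA.intNum k X' 2 ![(Scheme.Modules.pullback π).obj L, (Scheme.Modules.pullback π).obj M] (Coh.structureModule X') = FGA.intNum k X 2 ![L, M] (Coh.structureModule X) ∧
      FGA.intNum k X' 2 ![(Scheme.Modules.pullback π).obj L, (ClSub.idealMod (BlowUp.exceptional π (Scheme.IdealSheafData.vanishingIdeal ⟨{P}, hP⟩)))] (Coh.structureModule X') = 0 ∧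
      FGA.intNum k X' 2 ![(ClSub.idealMod (BlowUp.exceptional π (Scheme.IdealSheafData.vanishingIdeal ⟨{P}, hP⟩))), (ClSub.idealMod (BlowUp.exceptional π (Scheme.IdealSheafData.vanishingIdeal ⟨{P}, hP⟩)))] (Coh.structureModule X') = -1 := by
  letI : X'.Over (Spec (CommRingCat.of k)) := ⟨π ≫ (X ↘ (Spec (CommRingCat.of k)))⟩
  obtain ⟨n, ι, hι, hιk⟩ := hproj
  obtain ⟨n', ι', hι', hιk'⟩ := hproj'
  haveI := hι
  haveI := hι'
  haveI : IsProper (X ↘ Spec (CommRingCat.of k)) :=
    hιk ▸ inferInstanceAs (IsProper (ι ≫ CohB1.ProjSpace.toSpec n k))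
  haveI : IsProper (X' ↘ Spec (CommRingCat.of k)) := by
    show IsProper (π ≫ (X ↘ Spec (CommRingCat.of k)))
    exact hιk' ▸ inferInstanceAs (IsProper (ι' ≫ CohB1.ProjSpace.toSpec n' k))
  haveI : Smooth (X ↘ Spec (CommRingCat.of k)) := H28Bertini.smooth_of_regular _ hreg
  haveI : Smooth (X' ↘ Spec (CommRingCat.of k)) := H28Bertini.smooth_of_regular _ hreg'
  have hL' := H11Ample.isInvertible_pullback π hL
  have hM' := H11Ample.isInvertible_pullback π hM
  have hI := H28Surf.isInvertible_ideal k (H28Surf.isEffCartier_curve k hdim' (H28RR.exc_isCurve k hdim hπ))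
  rw [H28Surf.intNum_eq_pr k hdim' hL' hM', H28Surf.intNum_eq_pr k hdim hL hM,
    H28Surf.intNum_eq_pr k hdim' hL' hI, H28Surf.intNum_eq_pr k hdim' hI hI]
  exact ⟨H28RR.pr_pullback k hdim hdim' rfl hπ hL hM, H28RR.pr_pullback_exc k hdim hdim' rfl hπ hL,
    H28RR.pr_exc_self k hdim hdim' hπ⟩

end Groth.Agent.S11354
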