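import Groth.Statements.S11359
import Groth.Agent.H4Matlis.BaseChangeHull

set_option autoImplicit false
universe u
open InjHull

namespace Groth.Agent.S11359

/-- For a flat homomorphism A → B of Noetherian local rings whose fibre ring B/m_A B is an Artinian
Gorenstein local ring, tensoring an injective hull of the residue field of A with B gives an
injective hull of the residue field of B. -/
theorem result (A : Type u) [CommRing A] [IsLocalRing A] [IsNoetherianRing A] (B : Type u) [CommRing B] [IsLocalRing B] [IsNoetherianRing B] [Algebra A B] [Module.Flat A B] (hG : LocCoh.IsGorensteinLocalRing (B ⧸ (IsLocalRing.maximalIdeal A).map (algebraMap A B))) (hArt : IsArtinianRing (B ⧸ (IsLocalRing.maximalIdeal A).map (algebraMap A B))) (E : Type u) [AddCommGroup E] [Module A E] (f : IsLocalRing.ResidueField A →ₗ[A] E) (hf : InjHull.IsInjectiveHull f) : ∃ g : IsLocalRing.ResidueField B →ₗ[B] TensorProduct A B E, InjHull.IsInjectiveHull g := by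
  haveI := hG
  let mB := (IsLocalRing.maximalIdeal A).map (algebraMap A B)
  have hne : mB ≠ ⊤ := fun h => one_ne_zero (α := B ⧸ mB) (Ideal.Quotient.eq_zero_iff_mem.2 (h ▸ Submodule.mem_top : (1 : B) ∈ mB))
  haveI : IsLocalHom (algebraMap A B) := ⟨fun a ha => by
    by_contra hu
    exact (IsLocalRing.mem_maximalIdeal _).1 (IsLocalRing.le_maximalIdeal hne
      (Ideal.mem_map_of_mem (algebraMap A B) ((IsLocalRing.mem_maximalIdeal a).2 hu))) ha⟩
  let π := Ideal.Quotient.mk mB
  have hmax : (IsLocalRing.maximalIdeal (B ⧸ mB)) = (IsLocalRing.maximalIdeal B).map π :=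
    (IsLocalRing.map_maximalIdeal_of_surjective π Ideal.Quotient.mk_surjective).symm
  haveI := hArt
  have h0 : ringKrullDim (B ⧸ mB) = 0 := ringKrullDimZero_iff_ringKrullDim_eq_zero.1 inferInstance
  obtain ⟨zb, hzb, hzy⟩ := Groth.Agent.H02CA.GorFlat.socleCyclic_of_gor h0 hG
  obtain ⟨w, hw0, hw⟩ := Groth.Agent.H02CA.GorFlat.exists_socle_ne_zero (A := B ⧸ mB) h0
  obtain ⟨z, rfl⟩ := Ideal.Quotient.mk_surjective zb
  obtain ⟨N, hN⟩ := IsArtinianRing.isNilpotent_jacobson_bot (R := B ⧸ mB)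
  rw [IsLocalRing.jacobson_eq_maximalIdeal ⊥ bot_ne_top, hmax, ← Ideal.map_pow, Ideal.zero_eq_bot, Ideal.map_eq_bot_iff_le_ker, Ideal.mk_ker] at hN
  refine Groth.Agent.H4Matlis.exists_hull_baseChange A B N hN z (fun a ha => ?_) (fun y hy => ?_) ?_ hf
  · rw [← Ideal.Quotient.eq_zero_iff_mem, map_mul]
    exact hzb _ (hmax ▸ Ideal.mem_map_of_mem π ha)
  · obtain ⟨rb, hrb⟩ := hzy (π y) fun a ha => by
      rw [hmax, Ideal.mem_map_iff_of_surjective π Ideal.Quotient.mk_surjective] at ha
      obtain ⟨a, ha, rfl⟩ := ha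
      rw [← map_mul]
      exact Ideal.Quotient.eq_zero_iff_mem.2 (hy a ha)
    obtain ⟨r, rfl⟩ := Ideal.Quotient.mk_surjective rb
    exact ⟨r, by rw [← Ideal.Quotient.eq, map_mul, hrb]⟩
  · intro h
    obtain ⟨r, hr⟩ := hzy w hw
    exact hw0 (by rw [← hr, Ideal.Quotient.eq_zero_iff_mem.2 h, mul_zero])

end Groth.Agent.S11359
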