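import Groth.Statements.S11364
import Groth.Agent.H4DR.PtwiseFID.Basic

set_option autoImplicit false
universe u
open CategoryTheory
attribute [local instance] HasDerivedCategory.standard
open Dual

namespace Groth.Agent.S11364

/-- Let A be a Noetherian ring and R an object of D(A) with finite cohomology modules vanishing outside
a bounded range, such that for every prime p of A the derived base change of R to A_p (total left
derived functor of extension of scalars, assumed to exist) has finite injective dimension over A_p.
Then for every finite A-module M, the groups Hom_{D(A)}(M, R[i]) vanish for all sufficiently large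
i. (The published statement is for a locally Noetherian scheme, complexes with coherent locally
bounded cohomology, and local boundedness of the internal RHom; this row is the affine case with the
first argument a single finite module, to which the published proof reduces.) -/
theorem result (A : Type u) [CommRing A] [IsNoetherianRing A] (R : Dual.D A) (hfin : ∀ i : ℤ, Module.Finite A (Dual.HD A R i)) (hbdd : ∃ a b : ℤ, ∀ i : ℤ, (i < a ∨ b < i) → Subsingleton (Dual.HD A R i)) [∀ p : PrimeSpectrum A, DRing.HasLBaseChange (algebraMap A (Localization.AtPrime p.asIdeal))] (hpw : ∀ p : PrimeSpectrum A, DRing.HasFiniteInjDim (Localization.AtPrime p.asIdeal) ((DRing.LBaseChange (algebraMap A (Localization.AtPrime p.asIdeal))).obj R)) (M : Type u) [AddCommGroup M] [Module A M] [Module.Finite A M] : ∃ N : ℤ, ∀ i : ℤ, N < i → Subsingleton (Dual.inD A M ⟶ R⟦i⟧) := by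
  obtain ⟨a, b, hab⟩ := hbdd
  exact Groth.Agent.H4DR.PtwiseFID.exists_bound R hab hpw M

end Groth.Agent.S11364
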