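import Groth.Statements.S11365
import Groth.Agent.H02CA.ExtFib.GorFinal

set_option autoImplicit false
universe u
open CategoryTheory
open scoped TensorProduct
open Dual

namespace Groth.Agent.S11365

/-- Let A be a Noetherian ring, n ≤ N, P = A[t_1, …, t_N], I an ideal of P with B = P/I flat over A, and
suppose Ext^j_P(B, P) vanishes for j ≠ N − n while Ext^{N−n}_P(B, P) is A-flat. Then Ext^{N−n}_P(B,
P) is P-isomorphic to an invertible B-module if and only if all fibre rings B ⊗_A κ(p) are
Gorenstein. (The published statement is for the degree −n cohomology of f^! of the structure sheaf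
of a CM morphism of locally Noetherian schemes with pure relative dimension n; this row is the
affine case of a closed subscheme of affine N-space.) -/
theorem result (A : Type u) [CommRing A] [IsNoetherianRing A] (N n : ℕ) (hnN : n ≤ N) (I : Ideal (MvPolynomial (Fin N) A)) [Module.Flat A (MvPolynomial (Fin N) A ⧸ I)] (hvan : ∀ j : ℕ, j ≠ N - n → Subsingleton (Abelian.Ext (ModuleCat.of (MvPolynomial (Fin N) A) (MvPolynomial (Fin N) A ⧸ I)) (ModuleCat.of (MvPolynomial (Fin N) A) (MvPolynomial (Fin N) A)) j)) (hflat : Module.Flat A (RestrictScalars A (MvPolynomial (Fin N) A) (Abelian.Ext (ModuleCat.of (MvPolynomial (Fin N) A) (MvPolynomial (Fin N) A ⧸ I)) (ModuleCat.of (MvPolynomial (Fin N) A) (MvPolynomial (Fin N) A)) (N - n)))) : (∃ (L : Type u) (_ : AddCommGroup L) (_ : Module (MvPolynomial (Fin N) A ⧸ I) L), Module.Invertible (MvPolynomial (Fin N) A ⧸ I) L ∧ Nonempty (RestrictScalars (MvPolynomial (Fin N) A) (MvPolynomial (Fin N) A ⧸ I) L ≃ₗ[(MvPolynomial (Fin N) A)] Abelian.Ext (ModuleCat.of (MvPolynomial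 (Fin N) A) (MvPolynomial (Fin N) A ⧸ I)) (ModuleCat.of (MvPolynomial (Fin N) A) (MvPolynomial (Fin N) A)) (N - n))) ↔ ∀ p : PrimeSpectrum A, LocCoh.IsGorensteinRing ((MvPolynomial (Fin N) A ⧸ I) ⊗[A] p.asIdeal.ResidueField) := by
  exact Groth.Agent.H02CA.ExtFib.GorFinal.iff_gorenstein N (N - n) n (Nat.sub_add_cancel hnN) I hvan hflat

end Groth.Agent.S11365
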