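import Groth.Statements.S11368
import Mathlib
import Groth.Agent.H10Coh.AmpleDevissage

set_option autoImplicit false
universe u
open CategoryTheory CategoryTheory.Limits AlgebraicGeometry TopologicalSpace
open Variety

namespace Groth.Agent.S11368

/-- For X proper over an algebraically closed field k and L an invertible O_X-module, L is ample on X if
and only if for every irreducible component X_i of X, with its reduced closed subscheme structure
(the vanishing ideal of the closed set X_i), the pullback of L to X_i is ample. -/
theorem result (k : Type u) [Field k] [IsAlgClosed k] (X : Scheme.{u})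
    [X.Over (Spec (CommRingCat.of k))] [IsProper (X ↘ (Spec (CommRingCat.of k)))]
    (L : X.Modules) (hL : PicF.IsInvertible L) :
    CohB1.IsAmple L ↔
      ∀ Z : Closeds X, (Z : Set X) ∈ irreducibleComponents X →
        CohB1.IsAmple ((Scheme.Modules.pullback
          (Scheme.IdealSheafData.vanishingIdeal Z).subschemeι).obj L) := by
  refine ⟨fun h Z _ => H11Ample.isAmple_pullback_of_isAffineHom _ h, fun h => ?_⟩
  refine H10Coh.Tw.isAmple_of_closed_cover (X ↘ (Spec (CommRingCat.of k))) hL
    (fun Z : {Z : TopologicalSpace.Closeds X // (Z : Set X) ∈ irreducibleComponents X} =>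
      (Scheme.IdealSheafData.vanishingIdeal Z.1).subscheme)
    (fun Z => (Scheme.IdealSheafData.vanishingIdeal Z.1).subschemeι) (fun x => ?_) fun Z => h Z.1 Z.2
  refine ⟨⟨⟨irreducibleComponent x, isClosed_irreducibleComponent⟩,
    irreducibleComponent_mem_irreducibleComponents x⟩, ?_⟩
  rw [Scheme.IdealSheafData.range_subschemeι, Scheme.IdealSheafData.coe_support_vanishingIdeal]
  exact mem_irreducibleComponent

end Groth.Agent.S11368
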