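import Groth.Statements.S11369
import Mathlib
import Groth.Agent.H22Alg.GenCurves
import Groth.Agent.H11Ample.Converse
import Groth.Agent.H11Ample.ToPn

set_option autoImplicit false
universe u
open CategoryTheory CategoryTheory.Limits AlgebraicGeometry TopologicalSpace
open Variety

namespace Groth.Agent.S11369

/-- Let X be proper over an algebraically closed field k and L an invertible O_X-module generated by its
global sections. If for every integral closed subscheme C of X of dimension one the pullback of L to
C is ample, then L is ample. -/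
theorem result (k : Type u) [Field k] [IsAlgClosed k] (X : Scheme.{u})
    [X.Over (Spec (CommRingCat.of k))] [IsProper (X ↘ (Spec (CommRingCat.of k)))]
    (L : X.Modules) (hL : PicF.IsInvertible L) (hgen : Curv2.IsGloballyGenerated L)
    (hcurves : ∀ C : X.IdealSheafData, IsIntegral C.subscheme →
      topologicalKrullDim (C.support : Set X) = 1 →
        CohB1.IsAmple ((Scheme.Modules.pullback C.subschemeι).obj L)) :
    CohB1.IsAmple L := by
  haveI := H28Int.isNoetherian k (X := X)
  haveI : IsLocallyNoetherian X := inferInstance
  obtain ⟨n, v, hv⟩ : ∃ (n : ℕ) (v : Fin (n + 1) → Γ(L, ⊤)), ∀ x, ∃ i, x ∈ H11Ample.gen L (v i) :=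
    H22Alg.GenCurves.exists_fin_gen hL hgen
  haveI : IsProper (CohB1.ProjSpace n k ↘ Spec (CommRingCat.of k)) :=
    inferInstanceAs (IsProper (CohB1.ProjSpace.toSpec n k))
  obtain ⟨r, hr, ⟨τ⟩, -⟩ := H11Ample.exists_toPn (X ↘ (Spec (CommRingCat.of k))) hL v hv
  haveI : IsFinite r := H22Alg.GenCurves.isFinite_of_curves k r hr
    (H11Ample.isInvertible_twist (n := n) (R := k)) τ hcurves
  exact H11Ample.isAmple_of_iso τ
    (H11Ample.isAmple_pullback_of_isAffineHom r (H11Ample.isAmple_twistProjSpace n k))

end Groth.Agent.S11369
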