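import Groth.Statements.S1137
import Groth.Agent.H11LefFEt.CplDescent
import Groth.Agent.H05EGA4.Regular2

set_option autoImplicit false
set_option linter.style.haveILetI false
universe u
open Pi1

namespace Groth.Agent.S1137

open AlgebraicGeometry CategoryTheory CategoryTheory.Limits in
/-- Let A be a Noetherian local ring, f an element of the maximal ideal with (A, (f)) a henselian pair,
and A' the adic completion of A. Let U and U₀ be the punctured spectra of A and of A/fA, and U', U'₀
their base changes along Spec A' ⟶ Spec A. If restriction of finite etale covers from U' to U'₀ is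
fully faithful, then restriction from U to U₀ is fully faithful. -/
theorem result (A : Type u) [CommRing A] [IsNoetherianRing A] [IsLocalRing A] (f : A) (hf : f ∈ IsLocalRing.maximalIdeal A) [HenselianRing A (Ideal.span {f})]
    (h : (FEt.restrict (pullback.fst (pullback.fst (FEt.puncturedSpec A).ι (Spec.map (CommRingCat.ofHom (algebraMap A (AdicCompletion (IsLocalRing.maximalIdeal A) A))))) (pullback.fst (FEt.puncturedSpec A).ι (Spec.map (CommRingCat.ofHom (Ideal.Quotient.mk (Ideal.span {f}))))))).Full ∧ (FEt.restrict (pullback.fst (pullback.fst (FEt.puncturedSpec A).ι (Spec.map (CommRingCat.ofHom (algebraMap A (AdicCompletion (IsLocalRing.maximalIdeal A) A))))) (pullback.fst (FEt.puncturedSpec A).ι (Spec.map (CommRingCat.ofHom (Ideal.Quotient.mk (Ideal.span {f}))))))).Faithful) :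
    (FEt.restrict (pullback.fst (FEt.puncturedSpec A).ι (Spec.map (CommRingCat.ofHom (Ideal.Quotient.mk (Ideal.span {f})))))).Full ∧ (FEt.restrict (pullback.fst (FEt.puncturedSpec A).ι (Spec.map (CommRingCat.ofHom (Ideal.Quotient.mk (Ideal.span {f})))))).Faithful := by
  let S := AdicCompletion (IsLocalRing.maximalIdeal A) A
  let φ := Spec.map (CommRingCat.ofHom (algebraMap A S))
  let U := FEt.puncturedSpec A
  haveI : IsNoetherianRing S := Groth.Agent.H05EGA4.isNoetherianRing_adicCompletion A _
  have hS := Groth.Agent.H4LC.isComplLike_adicCompletion (A := A)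
  haveI := hS.flat
  haveI := hS.isLocalHom
  haveI : Module.FaithfullyFlat A S := Module.FaithfullyFlat.of_flat_of_isLocalHom
  haveI : Surjective φ := ⟨PrimeSpectrum.comap_surjective_of_faithfullyFlat⟩
  haveI : Surjective (pullback.fst U.ι φ) := MorphismProperty.pullback_fst (P := @Surjective) _ _ inferInstance
  have hm' := Groth.Agent.H11LefFEt.FullClopens.meetsClopens_of_faithful
    (pullback.fst U.ι φ ≫ U.ι) _ h.2
  have hU : ∀ a ∈ IsLocalRing.maximalIdeal A, PrimeSpectrum.basicOpen a ≤ U := fun a ha p hp h' => by
    rw [Set.mem_singleton_iff] at h'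
    exact hp (h' ▸ ha)
  have hd := Groth.Agent.H11LefFEt.CplDescent.clopensDescend hS hf U hU
    (Groth.Agent.H11LefFEt.FullClopens.clopensDescend_of_full (pullback.fst U.ι φ ≫ U.ι) _ h.1)
  have hm : Groth.Agent.H18Et.FEtRestrict.MeetsClopens
      (pullback.fst U.ι (Spec.map (CommRingCat.ofHom (Ideal.Quotient.mk (Ideal.span {f}))))) := fun W hW hne => by
    obtain ⟨z, hzW, y, rfl⟩ := hm' _ (hW.preimage (pullback.fst U.ι φ).continuous)
      (hne.preimage (pullback.fst U.ι φ).surjective)
    exact ⟨_, hzW, pullback.snd (pullback.fst U.ι φ) _ y, congr($(pullback.condition (f := pullback.fst U.ι φ)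
      (g := pullback.fst U.ι (Spec.map (CommRingCat.ofHom (Ideal.Quotient.mk (Ideal.span {f})))))) y).symm⟩
  exact ⟨Groth.Agent.H18Et.FEtRestrict.full _ hm hd, Groth.Agent.H18Et.FEtRestrict.faithful _ hm⟩

end Groth.Agent.S1137
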