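import Groth.Statements.S11375
import Groth.Agent.S1109
import Groth.Agent.H10Coh.AffineAmple
import Groth.Agent.H10Coh.Bounded
import Groth.Agent.H10Coh.HHSeq
-- import your own Groth.Agent.* helpers here

set_option autoImplicit false
set_option linter.style.haveILetI false
universe u
open CategoryTheory CategoryTheory.Limits AlgebraicGeometry TopologicalSpace
open CohDim

namespace Groth.Agent.S11375


theorem exists_seq (k : Type u) [Field k] (S : Scheme.{u})
    [S.Over (Spec (CommRingCat.of k))] [IsSeparated (S ↘ (Spec (CommRingCat.of k)))]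
    [LocallyOfFiniteType (S ↘ (Spec (CommRingCat.of k)))] [CompactSpace S] [IsLocallyNoetherian S]
    (hreg : ∀ x : S, IsRegularLocalRing (S.presheaf.stalk x)) (F : S.Modules) (hF : Coh.IsCoh F) :
    ∃ E K : S.Modules, FlatMod.IsFinLocFree E ∧ Coh.IsCoh K ∧
      ∃ (f : K ⟶ E) (g : E ⟶ F) (w : f ≫ g = 0), (ShortComplex.mk f g w).ShortExact := by
  haveI : S.IsSeparated := ⟨by rw [← terminal.comp_from (S ↘ (Spec (CommRingCat.of k)))]; infer_instance⟩
  obtain ⟨E, π, hE, hπ⟩ := Groth.Agent.S1109.result S hreg (fun U V hU hV => hU.inf hV) F hF.1 hF.2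
  exact ⟨E, kernel π, hE, Groth.Agent.H10Coh.isCoh_kernel π (Groth.Agent.H10Coh.Tw.isCoh_of_vb hE) hF.1,
    kernel.ι π, π, kernel.condition π, Groth.Agent.H10Coh.shortExact_kernel π⟩


/-- Let S be an integral scheme, separated and of finite type over an algebraically closed field k, with
all local rings regular, and let r ≥ 0. If H^i(S, E) = 0 for every i > r and every finite locally
free O_S-module E, then H^i(S, F) = 0 for every i > r and every coherent O_S-module F, i.e. the
cohomological dimension of S is at most r. -/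
theorem result (k : Type u) [Field k] [IsAlgClosed k] (S : Scheme.{u})
    [S.Over (Spec (CommRingCat.of k))] [IsSeparated (S ↘ (Spec (CommRingCat.of k)))]
    [LocallyOfFiniteType (S ↘ (Spec (CommRingCat.of k)))] [QuasiCompact (S ↘ (Spec (CommRingCat.of k)))]
    [IsIntegral S] (hreg : ∀ x : S, IsRegularLocalRing (S.presheaf.stalk x)) (r : ℕ)
    (hlf : ∀ E : S.Modules, FlatMod.IsFinLocFree E → ∀ i : ℕ, r < i → Subsingleton (Coh.HH S E i))
    (F : S.Modules) (hF : Coh.IsCoh F) (i : ℕ) (hi : r < i) :
    Subsingleton (Coh.HH S F i) := by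
  haveI : CompactSpace S := by
    haveI : CompactSpace ↥(Spec (CommRingCat.of k)) := inferInstance
    exact QuasiCompact.compactSpace_of_compactSpace (S ↘ (Spec (CommRingCat.of k)))
  haveI : IsLocallyNoetherian S := LocallyOfFiniteType.isLocallyNoetherian (S ↘ Spec (CommRingCat.of k))
  haveI : QuasiSeparatedSpace S := quasiSeparatedSpace_of_quasiSeparated (S ↘ Spec (CommRingCat.of k))
  obtain ⟨d, hd⟩ := Groth.Agent.H10Coh.exists_bound (X := S)
  suffices ∀ j (G : S.Modules), Coh.IsCoh G → ∀ p, r < p → d ≤ p + j → Subsingleton (Coh.HH S G p) from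
    this d F hF i hi (Nat.le_add_left _ _)
  intro j
  induction j with
  | zero => exact fun G hG p _ hdp => hd G hG.1 p hdp
  | succ j ih =>
    intro G hG p hp hdp
    obtain ⟨E, K, hE, hK, f, g, w, hS⟩ := exists_seq k S hreg G hG
    exact Groth.Agent.H10Coh.HHSeq.subsingleton₃ hS (hlf E hE p hp) (ih K hK (p + 1) (by omega) (by omega))

end Groth.Agent.S11375
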