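import Groth.Statements.S11376
import Groth.Agent.S1109
import Groth.Agent.H10Coh.AffineAmple
import Groth.Agent.H10Coh.Bounded
import Groth.Agent.H10Coh.HHSeq
-- import your own Groth.Agent.* helpers here

set_option autoImplicit false
set_option linter.style.haveILetI false
universe u
open CategoryTheory CategoryTheory.Limits AlgebraicGeometry TopologicalSpace
open CohDim

namespace Groth.Agent.S11376


theorem exists_seq (k : Type u) [Field k] (S : Scheme.{u})
    [S.Over (Spec (CommRingCat.of k))] [IsSeparated (S ↘ (Spec (CommRingCat.of k)))]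
    [LocallyOfFiniteType (S ↘ (Spec (CommRingCat.of k)))] [CompactSpace S] [IsLocallyNoetherian S]
    (hreg : ∀ x : S, IsRegularLocalRing (S.presheaf.stalk x)) (F : S.Modules) (hF : Coh.IsCoh F) :
    ∃ E K : S.Modules, FlatMod.IsFinLocFree E ∧ Coh.IsCoh K ∧
      ∃ (f : K ⟶ E) (g : E ⟶ F) (w : f ≫ g = 0), (ShortComplex.mk f g w).ShortExact := by
  haveI : S.IsSeparated := ⟨by rw [← terminal.comp_from (S ↘ (Spec (CommRingCat.of k)))]; infer_instance⟩
  obtain ⟨E, π, hE, hπ⟩ := Groth.Agent.S1109.result S hreg (fun U V hU hV => hU.inf hV) F hF.1 hF.2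
  exact ⟨E, kernel π, hE, Groth.Agent.H10Coh.isCoh_kernel π (Groth.Agent.H10Coh.Tw.isCoh_of_vb hE) hF.1,
    kernel.ι π, π, kernel.condition π, Groth.Agent.H10Coh.shortExact_kernel π⟩


theorem finite₃ (k : Type u) [Field k] {S : Scheme.{u}} [S.Over (Spec (CommRingCat.of k))]
    {T : ShortComplex S.Modules} (hT : T.ShortExact) (p : ℕ)
    (h2 : Module.Finite k (Coh.HH S T.X₂ p)) (h1 : Module.Finite k (Coh.HH S T.X₁ (p + 1))) :
    Module.Finite k (Coh.HH S T.X₃ p) := by
  let g : Coh.HH S T.X₂ p →ₗ[k] Coh.HH S T.X₃ p :=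
    { toFun := LeadFF.Hm T.g p
      map_add' := map_add _
      map_smul' := fun a x => by
        rw [RingHom.id_apply, ← LeadFF.Hm_smulMod, ← LeadFF.Hm_smulMod, ← LeadFF.Hm_comp, ← LeadFF.Hm_comp,
          LeadFF.smulMod_natural] }
  let δ := Groth.Agent.H10Coh.HHSeq.dlₗ (A := k) hT p
  constructor
  apply Submodule.fg_of_fg_map_of_fg_inf_ker δ
  · exact IsNoetherian.noetherian _
  · have hle : LinearMap.ker δ ≤ LinearMap.range g := fun x hx =>
      Groth.Agent.LeadFF.exists_Hm_g hT p x hx
    haveI : IsNoetherian k ↥(LinearMap.range g) := inferInstance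
    rw [top_inf_eq]
    haveI : Module.Finite k ↥(LinearMap.range g) := inferInstance
    haveI : IsNoetherian k ↥(LinearMap.ker δ) := isNoetherian_of_le hle
    exact Module.Finite.iff_fg.1 inferInstance

/-- Let S be an integral scheme, separated and of finite type over an algebraically closed field k, with
all local rings regular, and let r ≥ 0. If H^i(S, E) is finite-dimensional over k for every i > r
and every finite locally free O_S-module E, then H^i(S, F) is finite-dimensional over k for every i
> r and every coherent O_S-module F. -/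
theorem result (k : Type u) [Field k] [IsAlgClosed k] (S : Scheme.{u})
    [S.Over (Spec (CommRingCat.of k))] [IsSeparated (S ↘ (Spec (CommRingCat.of k)))]
    [LocallyOfFiniteType (S ↘ (Spec (CommRingCat.of k)))] [QuasiCompact (S ↘ (Spec (CommRingCat.of k)))]
    [IsIntegral S] (hreg : ∀ x : S, IsRegularLocalRing (S.presheaf.stalk x)) (r : ℕ)
    (hlf : ∀ E : S.Modules, FlatMod.IsFinLocFree E → ∀ i : ℕ, r < i → Module.Finite k (Coh.HH S E i))
    (F : S.Modules) (hF : Coh.IsCoh F) (i : ℕ) (hi : r < i) :
    Module.Finite k (Coh.HH S F i) := by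
  haveI : CompactSpace S := by
    haveI : CompactSpace ↥(Spec (CommRingCat.of k)) := inferInstance
    exact QuasiCompact.compactSpace_of_compactSpace (S ↘ (Spec (CommRingCat.of k)))
  haveI : IsLocallyNoetherian S := LocallyOfFiniteType.isLocallyNoetherian (S ↘ Spec (CommRingCat.of k))
  haveI : QuasiSeparatedSpace S := quasiSeparatedSpace_of_quasiSeparated (S ↘ Spec (CommRingCat.of k))
  obtain ⟨d, hd⟩ := Groth.Agent.H10Coh.exists_bound (X := S)
  suffices ∀ j (G : S.Modules), Coh.IsCoh G → ∀ p, r < p → d ≤ p + j → Module.Finite k (Coh.HH S G p) from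
    this d F hF i hi (Nat.le_add_left _ _)
  intro j
  induction j with
  | zero =>
    intro G hG p _ hdp
    haveI := hd G hG.1 p hdp
    infer_instance
  | succ j ih =>
    intro G hG p hp hdp
    obtain ⟨E, K, hE, hK, f, g, w, hS⟩ := exists_seq k S hreg G hG
    haveI h1 := ih K hK (p + 1) (by omega) (by omega)
    haveI h2 := hlf E hE p hp
    exact finite₃ k hS p h2 h1

end Groth.Agent.S11376
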