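import Groth.Statements.S11378
-- import your own Groth.Agent.* helpers here
import Groth.Agent.H3Lich.Main
import Groth.Agent.S1618
import Groth.Agent.H10Coh.SchemeH
import Mathlib.Topology.Sheaves.MayerVietoris


set_option autoImplicit false
universe u
open CategoryTheory CategoryTheory.Limits AlgebraicGeometry TopologicalSpace
open CohDim

namespace Groth.Agent.S11378

section
open Groth.Agent.H10Coh TopologicalSpace Abelian Opposite
attribute [local instance 10000] hasSheafifyAb hasWeakSheafifyAb hasExtAb enoughInjAb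
set_option backward.isDefEq.respectTransparency false

/-- Mayer–Vietoris vanishing. -/
theorem subsingleton_Hn_sup {X : TopCat.{u}} (F : CohTop.Ab X) (n : ℕ) (U V : Opens X)
    (hU : Subsingleton (Hn F (n + 1) U)) (hV : Subsingleton (Hn F (n + 1) V))
    (hUV : Subsingleton (Hn F n (U ⊓ V))) : Subsingleton (Hn F (n + 1) (U ⊔ V)) := by
  let S := Opens.mayerVietorisSquare U V
  have hS := S.shortComplex_shortExact
  haveI : Subsingleton (Ext.{u} S.shortComplex.X₁ F n) := hUV
  haveI : Subsingleton (Ext.{u} S.shortComplex.X₂ F (n + 1)) := by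
    refine (Ext.biprodAddEquiv (X₁ := Zsh U) (X₂ := Zsh V)).toEquiv.subsingleton_congr.2 ?_
    haveI := hU; haveI := hV
    infer_instance
  refine subsingleton_of_forall_eq (0 : Ext.{u} S.shortComplex.X₃ F (n + 1)) fun x => ?_
  obtain ⟨y, hy⟩ := Ext.contravariant_sequence_exact₃ hS F x (Subsingleton.elim _ _) (show 1 + n = n + 1 by omega)
  rw [← hy, Subsingleton.elim y 0, Ext.comp_zero]

end


/-- Let X be proper and integral over an algebraically closed field k, of dimension n ≥ 2, with all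
local rings regular, and let U ≠ X be an open subscheme whose cohomological dimension is at most n -
2: H^i(U, F) = 0 for every coherent O_U-module F and every i with n - 2 < i. Then Y = X ∖ U is
connected. -/
theorem result (k : Type u) [Field k] [IsAlgClosed k] (X : Scheme.{u})
    [X.Over (Spec (CommRingCat.of k))] [IsProper (X ↘ (Spec (CommRingCat.of k)))] [IsIntegral X]
    (hreg : ∀ x : X, IsRegularLocalRing (X.presheaf.stalk x))
    (n : ℕ) (hn : 2 ≤ n) (hdim : topologicalKrullDim X = n)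
    (U : X.Opens) (hUX : U ≠ ⊤)
    (hcd : ∀ F : (U : Scheme.{u}).Modules, Coh.IsCoh F → ∀ i : ℕ, n - 2 < i → Subsingleton (Coh.HH (U : Scheme.{u}) F i)) :
    _root_.IsConnected ((U : Set X)ᶜ) := by
  let f : X ⟶ Spec (CommRingCat.of k) := X ↘ Spec (CommRingCat.of k)
  refine ⟨Set.nonempty_compl.2 fun h => hUX (TopologicalSpace.Opens.ext h), ?_⟩
  rw [isPreconnected_iff_subset_of_disjoint_closed]
  intro A B hA hB hsub hdis
  by_contra hcon
  push Not at hcon
  obtain ⟨hnA, hnB⟩ := hcon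
  obtain ⟨b, hbY, hbA⟩ := Set.not_subset.1 hnA
  obtain ⟨a, haY, haB⟩ := Set.not_subset.1 hnB
  let U₁ : X.Opens := ⟨(((U : Set X)ᶜ) ∩ A)ᶜ, (U.isOpen.isClosed_compl.inter hA).isOpen_compl⟩
  let U₂ : X.Opens := ⟨(((U : Set X)ᶜ) ∩ B)ᶜ, (U.isOpen.isClosed_compl.inter hB).isOpen_compl⟩
  have hsup : U₁ ⊔ U₂ = ⊤ := by
    refine top_le_iff.1 fun x _ => ?_
    by_contra hx
    rw [TopologicalSpace.Opens.mem_sup, not_or] at hx
    obtain ⟨h1, h2⟩ : x ∈ ((U : Set X)ᶜ) ∩ A ∧ x ∈ ((U : Set X)ᶜ) ∩ B := ⟨not_not.1 hx.1, not_not.1 hx.2⟩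
    exact Set.eq_empty_iff_forall_notMem.1 hdis x ⟨h1.1, h1.2, h2.2⟩
  have hinf : U₁ ⊓ U₂ = U := by
    refine TopologicalSpace.Opens.ext (Set.ext fun x => ⟨fun hx => ?_, fun hx => ⟨fun h => h.1 hx, fun h => h.1 hx⟩⟩)
    by_contra hxU
    rcases hsub hxU with hxA | hxB
    exacts [hx.1 ⟨hxU, hxA⟩, hx.2 ⟨hxU, hxB⟩]
  obtain ⟨F, hF, hne⟩ := Groth.Agent.H3Lich.exists_nontrivial_top f n hdim
  obtain ⟨m, rfl⟩ : ∃ m, n = m + 1 := ⟨n - 1, by omega⟩
  have key : ∀ V : X.Opens, (V : Set X).Nonempty → V ≠ ⊤ →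
      Subsingleton (Groth.Agent.H10Coh.HnM F (m + 1) V) := by
    intro V hV hVX
    haveI : Nonempty (V : Scheme.{u}) := ⟨⟨_, hV.some_mem⟩⟩
    haveI : IsIntegral (V : Scheme.{u}) := isIntegral_of_isOpenImmersion V.ι
    have hdV : topologicalKrullDim (V : Scheme.{u}) = (m + 1 : ℕ) :=
      (Groth.Agent.S1618.result k X V hV).trans hdim
    haveI : IsLocallyNoetherian X := LocallyOfFiniteType.isLocallyNoetherian f
    haveI : CompactSpace X := QuasiCompact.compactSpace_of_compactSpace f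
    haveI : IsNoetherian X := {}
    haveI : QuasiCompact V.ι := inferInstance
    have hnp : ¬ IsProper (V.ι ≫ f) := fun hp => by
      haveI := hp
      haveI : IsProper V.ι := IsProper.of_comp V.ι f
      have hcl : IsClopen (V : Set X) := ⟨by
        rw [← Scheme.Opens.range_ι V]; exact V.ι.isClosedMap.isClosed_range, V.isOpen⟩
      exact hVX (TopologicalSpace.Opens.ext (hcl.eq_univ hV))
    have hsub := Groth.Agent.H3Lich.subsingleton_top (V.ι ≫ f) (m + 1) hdV
      (fun Z i _ _ hZ => Groth.Agent.H3Lich.not_isProper_of_integral (V.ι ≫ f) hnp (m + 1) hdV Z i hZ)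
      (F.restrict V.ι) (Groth.Agent.H10Coh.isCoh_restrict V.ι F hF).1
    exact Groth.Agent.H10Coh.subsingleton_HnM_image V.ι F (m + 1) ⊤ V (by simp)
      ((Groth.Agent.H10Coh.HHEquiv (F.restrict V.ι) (m + 1)).symm.toEquiv.subsingleton)
  have h1 := key U₁ ⟨b, fun h => hbA h.2⟩ fun h => by
    have : a ∈ (U₁ : Set X) := by rw [h]; trivial
    exact this ⟨haY, (hsub haY).resolve_right haB⟩
  have h2 := key U₂ ⟨a, fun h => haB h.2⟩ fun h => by
    have : b ∈ (U₂ : Set X) := by rw [h]; trivial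
    exact this ⟨hbY, (hsub hbY).resolve_left hbA⟩
  have h3 : Subsingleton (Groth.Agent.H10Coh.HnM F m (U₁ ⊓ U₂)) := by
    rw [hinf]
    haveI := hcd (F.restrict U.ι) (Groth.Agent.H10Coh.isCoh_restrict U.ι F hF) m (by omega)
    exact Groth.Agent.H10Coh.subsingleton_HnM_image U.ι F m ⊤ U (by simp)
      ((Groth.Agent.H10Coh.HHEquiv (F.restrict U.ι) m).symm.toEquiv.subsingleton)
  have h4 := subsingleton_Hn_sup (Groth.Agent.H10Coh.sh F) m U₁ U₂ h1 h2 h3
  rw [hsup] at h4
  haveI : Subsingleton (Coh.HH X F (m + 1)) := @Equiv.subsingleton _ _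
    (Groth.Agent.H10Coh.HHEquiv F (m + 1)).toEquiv h4
  exact not_nontrivial_iff_subsingleton.2 ‹_› hne

end Groth.Agent.S11378
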