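import Groth.Statements.S11393
import Groth.Agent.H22Alg.GlobalFunctions
import Groth.Agent.H8Props.Reduced

set_option autoImplicit false
universe u
open CategoryTheory CategoryTheory.Limits AlgebraicGeometry TopologicalSpace
open Variety

namespace Groth.Agent.S11393

theorem exists_const {k : Type u} [Field k] [IsAlgClosed k] {Z : Scheme.{u}} (f : Z ⟶ Spec (CommRingCat.of k))
    [IsProper f] [ConnectedSpace Z] (a : Γ(Z, ⊤)) :
    ∃ c : k, IsNilpotent (a - f.appTop.hom ((Scheme.ΓSpecIso (CommRingCat.of k)).inv.hom c)) := by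
  haveI : CompactSpace Z := (quasiCompact_iff_compactSpace f).mp inferInstance
  haveI hred : AlgebraicGeometry.IsReduced Z.nilradical.subscheme := H8Props.isReduced_nilradical_subscheme Z
  let ι := Z.nilradical.subschemeι
  haveI hsurj : Surjective ι := ⟨fun z => by
    have : z ∈ Set.range ι := by
      show z ∈ Set.range Z.nilradical.subschemeι
      rw [Scheme.IdealSheafData.range_subschemeι, Scheme.support_nilradical]
      exact Set.mem_univ z
    exact this⟩
  haveI : ConnectedSpace Z.nilradical.subscheme := by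
    have hhom : IsHomeomorph ι := ⟨ι.continuous, ι.isClosedEmbedding.isOpenEmbedding_of_surjective hsurj.surj |>.isOpenMap,
      ι.isClosedEmbedding.injective, hsurj.surj⟩
    exact hhom.homeomorph.connectedSpace_iff.mpr inferInstance
  letI := H22Alg.GlobalFunctions.algΓ (ι ≫ f)
  haveI := H22Alg.GlobalFunctions.isIntegral_algΓ (ι ≫ f)
  letI := (H22Alg.GlobalFunctions.isField_of_universallyClosed (ι ≫ f)).toField
  obtain ⟨c, hc⟩ := (IsAlgClosed.ringHom_bijective_of_isIntegral (algebraMap k Γ(Z.nilradical.subscheme, ⊤))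
    (algebraMap_isIntegral_iff.mpr inferInstance)).2 (ι.appTop.hom a)
  refine ⟨c, (Scheme.isNilpotent_iff_basicOpen_eq_bot _).2 ?_⟩
  set b := a - f.appTop.hom ((Scheme.ΓSpecIso (CommRingCat.of k)).inv.hom c)
  have h0 : ι.appTop.hom b = 0 := by
    show ι.appTop.hom (a - _) = 0
    rw [map_sub, sub_eq_zero]
    exact hc.symm
  refine TopologicalSpace.Opens.ext (Set.eq_empty_of_forall_notMem fun z hz => ?_)
  obtain ⟨w, rfl⟩ := hsurj.surj z
  have h1 : w ∈ ι ⁻¹ᵁ Z.basicOpen b := hz
  rw [Scheme.preimage_basicOpen_top, h0, Scheme.basicOpen_zero] at h1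
  exact h1

theorem exists_of_compatible {J : Type} [SmallCategory J] (F : J ⥤ CommRingCat.{u}) [HasLimit F]
    [PreservesLimit F (forget CommRingCat.{u})] (b : ∀ j, F.obj j) (hb : ∀ (i j : J) (g : i ⟶ j), (F.map g).hom (b i) = b j) :
    ∃ x : ↑(limit F), ∀ j, (limit.π F j).hom x = b j := by
  have hl := isLimitOfPreserves (forget CommRingCat.{u}) (limit.isLimit F)
  refine ⟨(Types.isLimitEquivSections hl).symm ⟨fun j => b j, fun {i j} g => hb i j g⟩, fun j => ?_⟩
  exact Types.isLimitEquivSections_symm_apply hl _ j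

theorem isUnit_of_forall {J : Type} [SmallCategory J] (F : J ⥤ CommRingCat.{u}) [HasLimit F]
    [PreservesLimit F (forget CommRingCat.{u})] (a : ↑(limit F)) (h : ∀ j, IsUnit ((limit.π F j).hom a)) : IsUnit a := by
  choose v hv using fun j => (h j).exists_right_inv
  obtain ⟨x, hx⟩ := exists_of_compatible F v fun i j g => by
    have h1 : (limit.π F j).hom a * (F.map g).hom (v i) = 1 := by
      rw [← limit.w F g]
      show (F.map g).hom ((limit.π F i).hom a) * (F.map g).hom (v i) = 1
      rw [← map_mul, hv, map_one]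
    have h2 := hv j
    calc (F.map g).hom (v i) = (F.map g).hom (v i) * ((limit.π F j).hom a * v j) := by rw [h2, mul_one]
      _ = ((limit.π F j).hom a * (F.map g).hom (v i)) * v j := by ring
      _ = v j := by rw [h1, one_mul]
  exact IsUnit.of_mul_eq_one x (Concrete.limit_ext _ _ _ fun j => by
    show (limit.π F j).hom (a * x) = (limit.π F j).hom 1
    rw [map_mul, hx, hv, map_one])

/-- Let X be proper over an algebraically closed field k and 𝓘 a quasi-coherent ideal whose closed
subscheme Y is connected (and nonempty); let Y_m be the closed subscheme of 𝓘^{m+1} and A = lim_m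
Γ(Y_m, O_{Y_m}) the ring of formal-regular functions along Y (global sections of the structure sheaf
of the formal completion), formed as the limit in commutative rings along the restriction maps
Γ(Y_{m+1}, O) → Γ(Y_m, O). Then A is a local ring, and every element a of A differs from the image
of some constant c ∈ k by an element whose image in each Γ(Y_m, O_{Y_m}) is nilpotent (so the
residue field of A is k through the structure map). (The published statement also asserts that A is
a complete local ring; that clause is not included here.) -/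
theorem result (k : Type u) [Field k] [IsAlgClosed k] (X : Scheme.{u})
    [X.Over (Spec (CommRingCat.of k))] [IsProper (X ↘ (Spec (CommRingCat.of k)))]
    (𝓘 : X.IdealSheafData) (hY : _root_.IsConnected (𝓘.support : Set X)) :
    IsLocalRing ↑(limit (Functor.ofOpSequence
        (X := fun m : ℕ => Γ((𝓘 ^ (m + 1)).subscheme, ⊤))
        (fun m : ℕ => (Scheme.IdealSheafData.inclusion (Lef.pow_succ_le 𝓘 m)).appTop))) ∧
      ∀ a : ↑(limit (Functor.ofOpSequence
        (X := fun m : ℕ => Γ((𝓘 ^ (m + 1)).subscheme, ⊤))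
        (fun m : ℕ => (Scheme.IdealSheafData.inclusion (Lef.pow_succ_le 𝓘 m)).appTop))),
        ∃ c : k, ∀ m : ℕ, IsNilpotent (Sub.sub (α := ↑Γ((𝓘 ^ (m + 1)).subscheme, ⊤))
          ((limit.π (Functor.ofOpSequence
              (X := fun m : ℕ => Γ((𝓘 ^ (m + 1)).subscheme, ⊤))
              (fun m : ℕ => (Scheme.IdealSheafData.inclusion (Lef.pow_succ_le 𝓘 m)).appTop)) (Opposite.op m)).hom a)
          (((𝓘 ^ (m + 1)).subschemeι ≫ (X ↘ Spec (CommRingCat.of k))).appTop.hom
            ((Scheme.ΓSpecIso (CommRingCat.of k)).inv.hom c))) := by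
  set F := Functor.ofOpSequence (X := fun m : ℕ => Γ((𝓘 ^ (m + 1)).subscheme, ⊤))
    (fun m : ℕ => (Scheme.IdealSheafData.inclusion (Lef.pow_succ_le 𝓘 m)).appTop) with hF
  let f : ∀ m : ℕ, (𝓘 ^ (m + 1)).subscheme ⟶ Spec (CommRingCat.of k) := fun m =>
    (𝓘 ^ (m + 1)).subschemeι ≫ (X ↘ Spec (CommRingCat.of k))
  have hconn : ∀ m : ℕ, ConnectedSpace ↥((𝓘 ^ (m + 1)).subscheme) := fun m => by
    have hr : Set.range (𝓘 ^ (m + 1)).subschemeι = (𝓘.support : Set X) := by
      rw [Scheme.IdealSheafData.range_subschemeι, Scheme.IdealSheafData.support_pow_succ]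
    haveI := isConnected_iff_connectedSpace.1 hY
    exact (((𝓘 ^ (m + 1)).subschemeι.isEmbedding.toHomeomorph).trans (Homeomorph.setCongr hr)).connectedSpace_iff.mpr
      inferInstance
  let κ : ∀ m : ℕ, k →+* Γ((𝓘 ^ (m + 1)).subscheme, ⊤) := fun m =>
    (f m).appTop.hom.comp (Scheme.ΓSpecIso (CommRingCat.of k)).inv.hom
  let r : ∀ m : ℕ, Γ((𝓘 ^ (m + 1 + 1)).subscheme, ⊤) →+* Γ((𝓘 ^ (m + 1)).subscheme, ⊤) := fun m =>
    (Scheme.IdealSheafData.inclusion (Lef.pow_succ_le 𝓘 m)).appTop.hom
  have hr : ∀ m c, r m (κ (m + 1) c) = κ m c := fun m c => by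
    have e : Scheme.IdealSheafData.inclusion (Lef.pow_succ_le 𝓘 m) ≫ f (m + 1) = f m := by
      show Scheme.IdealSheafData.inclusion (Lef.pow_succ_le 𝓘 m) ≫ (𝓘 ^ (m + 1 + 1)).subschemeι ≫ _ = _
      rw [← Category.assoc, Scheme.IdealSheafData.inclusion_subschemeι]
    show _ = (f m).appTop.hom _
    rw [← e, Scheme.Hom.comp_appTop]
    rfl
  have hnt : ∀ m, Nontrivial Γ((𝓘 ^ (m + 1)).subscheme, ⊤) := fun m => by
    haveI := hconn m
    haveI : Nonempty ((⊤ : ((𝓘 ^ (m + 1)).subscheme).Opens) : Scheme.{u}) := ⟨⟨Nonempty.some inferInstance, trivial⟩⟩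
    exact ((𝓘 ^ (m + 1)).subscheme).component_nontrivial ⊤
  have huniq : ∀ m c c', IsNilpotent (κ m c - κ m c') → c = c' := fun m c c' h => by
    haveI := hnt m
    by_contra hne
    rw [← map_sub] at h
    exact h.not_isUnit (((sub_ne_zero.2 hne).isUnit).map (κ m))
  let π' : ∀ m : ℕ, ↑(limit F) →+* Γ((𝓘 ^ (m + 1)).subscheme, ⊤) := fun m => (limit.π F (Opposite.op m)).hom
  have hw : ∀ (m : ℕ) (a : ↑(limit F)), r m (π' (m + 1) a) = π' m a := by
    intro m a
    have h : limit.π F (Opposite.op (m + 1)) ≫ (Scheme.IdealSheafData.inclusion (Lef.pow_succ_le 𝓘 m)).appTop =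
        limit.π F (Opposite.op m) := by
      have := limit.w F (homOfLE (Nat.le_add_right m 1)).op
      rwa [hF, Functor.ofOpSequence_map_homOfLE_succ] at this
    exact congrArg (fun g => g.hom a) h
  have key : ∀ a : ↑(limit F), ∃ c : k, ∀ m : ℕ, IsNilpotent (π' m a - κ m c) := by
    intro a
    choose c hc using fun m => @exists_const k _ _ _ (f m) (by infer_instance) (hconn m) (π' m a)
    have hcm : ∀ m, c m = c 0 := by
      intro m
      induction m with
      | zero => rfl
      | succ m ih =>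
        rw [← ih]
        refine huniq m _ _ ?_
        have h1 : IsNilpotent (r m (π' (m + 1) a - κ (m + 1) (c (m + 1)))) := (hc (m + 1)).map (r m)
        rw [map_sub, hw, hr] at h1
        have h2 := (Commute.all _ _).isNilpotent_sub (hc m) h1
        have e : (π' m a - κ m (c m)) - (π' m a - κ m (c (m + 1))) =
            κ m (c (m + 1)) - κ m (c m) := by ring
        rw [← e]
        exact h2
    exact ⟨c 0, fun m => hcm m ▸ hc m⟩
  refine ⟨?_, key⟩
  have hlim : Nontrivial ↑(limit F) := by
    refine ⟨0, 1, fun h => ?_⟩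
    haveI := hnt 0
    have h' := congrArg (π' 0) h
    rw [map_zero, map_one] at h'
    exact zero_ne_one (α := Γ((𝓘 ^ (0 + 1)).subscheme, ⊤)) h'
  haveI := hlim
  refine IsLocalRing.of_isUnit_or_isUnit_one_sub_self fun a => ?_
  obtain ⟨c, hc⟩ := key a
  by_cases h0 : c = 0
  · refine Or.inr (isUnit_of_forall F _ fun j => ?_)
    obtain ⟨m⟩ := j
    have h := hc m
    rw [h0, map_zero, sub_zero] at h
    show IsUnit (π' m (1 - a))
    rw [map_sub, map_one]
    exact h.isUnit_one_sub
  · refine Or.inl (isUnit_of_forall F _ fun j => ?_)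
    obtain ⟨m⟩ := j
    have e : π' m a = κ m c + (π' m a - κ m c) := by ring
    show IsUnit (π' m a)
    rw [e]
    exact (hc m).isUnit_add_left_of_commute ((Ne.isUnit h0).map (κ m)) (Commute.all _ _)

end Groth.Agent.S11393
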