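import Groth.Statements.S11394
import Groth.Agent.H19Grp.Blanchard

set_option autoImplicit false
set_option maxHeartbeats 1000000
set_option synthInstance.maxHeartbeats 100000
set_option linter.style.haveILetI false
set_option backward.isDefEq.respectTransparency false
universe u
open CategoryTheory MonoidalCategory CartesianMonoidalCategory MonObj GrpObj AlgebraicGeometry CategoryTheory.Limits
open AlgGrp

namespace Groth.Agent.S11394

open Groth.Agent.H19Grp


/-- Over an algebraically closed field k, let f : X → Y be a proper morphism of k-schemes of finite type
such that the induced map from sections of O_Y to sections of O_X is bijective over every open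
subset of Y, and let G be a connected k-group scheme of finite type acting on X. Then there is
exactly one action of G on Y for which f is G-equivariant. -/
theorem result (k : Type u) [Field k] [IsAlgClosed k]
    (G X Y : Over (Spec (CommRingCat.of k))) [GrpObj G] [LocallyOfFiniteType G.hom] [QuasiCompact G.hom]
    [ConnectedSpace ↥G.left] [LocallyOfFiniteType X.hom] [QuasiCompact X.hom]
    [LocallyOfFiniteType Y.hom] [QuasiCompact Y.hom]
    (f : X ⟶ Y) [IsProper f.left] (hf : ∀ U : Y.left.Opens, IsIso (f.left.app U))
    (a : AlgGrp.Action G X) :
    ∃! b : AlgGrp.Action G Y, (G ◁ f) ≫ b.act = a.act ≫ f := by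
  haveI : IsLocallyNoetherian Y.left := LocallyOfFiniteType.isLocallyNoetherian Y.hom
  haveI := (Groth.Agent.S2431.result f.left hf).2
  obtain ⟨b, hb⟩ := Blanchard.exists_action f hf a (Blanchard.const_of_field_points f a
    fun K _ _ s g x₁ x₂ hx => Blanchard.eq_of_connected f a s g x₁ x₂ hx)
  exact ⟨b, hb, fun b' hb' => Blanchard.unique_action f hf (hb'.trans hb.symm)⟩

end Groth.Agent.S11394
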