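import Groth.Statements.S11395
import Groth.Agent.H19Grp.AntiAffineRigidGlobal

set_option autoImplicit false
set_option maxHeartbeats 1000000
set_option synthInstance.maxHeartbeats 100000
set_option linter.style.haveILetI false
set_option backward.isDefEq.respectTransparency false
universe u
open CategoryTheory MonoidalCategory CartesianMonoidalCategory MonObj GrpObj AlgebraicGeometry CategoryTheory.Limits
open AlgGrp

namespace Groth.Agent.S11395

open Groth.Agent.H19Grp.AntiAffineRigid in
theorem exists_pt {k : Type u} [Field k] [IsAlgClosed k] (X : Over (Spec (CommRingCat.of k))) [LocallyOfFiniteType X.hom]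
    [IsIso X.hom.appTop] : Nonempty (𝟙_ (Over (Spec (CommRingCat.of k))) ⟶ X) := by
  haveI : Nonempty X.left := by
    by_contra h
    haveI : IsEmpty X.left := not_nonempty_iff.mp h
    haveI : Subsingleton Γ(X.left, ⊤) := by
      rw [show (⊤ : X.left.Opens) = ⊥ from TopologicalSpace.Opens.ext (Set.ext fun x => (IsEmpty.false x).elim)]
      infer_instance
    haveI : Nontrivial Γ(Spec (CommRingCat.of k), ⊤) :=
      (Scheme.ΓSpecIso (CommRingCat.of k)).commRingCatIsoToRingEquiv.toEquiv.nontrivial
    exact not_subsingleton _ (Function.Injective.subsingleton (ConcreteCategory.bijective_of_isIso X.hom.appTop).1)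
  haveI := LocallyOfFiniteType.jacobsonSpace X.hom
  obtain ⟨x, -, hx⟩ := nonempty_inter_closedPoints (Z := (Set.univ : Set X.left)) Set.univ_nonempty isClosed_univ.isLocallyClosed
  obtain ⟨b, -⟩ := (pointEquivClosedPoint X.hom).surjective ⟨x, hx⟩
  exact ⟨Over.homMk b.1 b.2⟩


/-- Over an algebraically closed field k, let X, Y and Z be k-schemes of finite type such that the only
global functions on X are the constants, Y is connected and Z is separated over k. Let f : X × Y → Z
be a k-morphism and y₀, z₀ rational points of Y, Z such that the restriction of f to X × y₀ is the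
constant morphism with value z₀ (as a morphism of schemes; for reduced X this is the condition on
closed points). Then there is a unique morphism g : Y → Z with f = g ∘ pr₂. -/
theorem result (k : Type u) [Field k] [IsAlgClosed k]
    (X Y Z : Over (Spec (CommRingCat.of k))) [LocallyOfFiniteType X.hom] [QuasiCompact X.hom]
    [LocallyOfFiniteType Y.hom] [QuasiCompact Y.hom] [LocallyOfFiniteType Z.hom] [QuasiCompact Z.hom]
    (hX : Function.Bijective ((Scheme.ΓSpecIso (CommRingCat.of k)).inv ≫ X.hom.appTop).hom)
    [ConnectedSpace ↥Y.left] [IsSeparated Z.hom]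
    (f : X ⊗ Y ⟶ Z) (y₀ : 𝟙_ (Over (Spec (CommRingCat.of k))) ⟶ Y) (z₀ : 𝟙_ (Over (Spec (CommRingCat.of k))) ⟶ Z)
    (hf : (X ◁ y₀) ≫ f = toUnit _ ≫ z₀) :
    ∃! g : Y ⟶ Z, f = snd X Y ≫ g := by
  haveI : IsIso X.hom.appTop := (Groth.Agent.H19Grp.AntiAffine.isIso_appTop_iff X.hom).mpr hX
  haveI : IsNoetherianRing (CommRingCat.of k) := inferInstanceAs (IsNoetherianRing k)
  haveI : IsLocallyNoetherian X.left := LocallyOfFiniteType.isLocallyNoetherian X.hom
  haveI : QuasiSeparated X.hom := inferInstance
  obtain ⟨x₀⟩ := exists_pt X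
  refine ⟨lift (toUnit Y ≫ x₀) (𝟙 Y) ≫ f,
    Groth.Agent.H19Grp.AntiAffineRigid.eq_of_connected x₀ y₀ z₀ f hf, fun g' hg' => ?_⟩
  conv_rhs => rw [hg']
  rw [lift_snd_assoc, Category.id_comp]

end Groth.Agent.S11395
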