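import Groth.Statements.S11397
import Groth.Agent.H19Chev.IdComp

set_option autoImplicit false
set_option maxHeartbeats 1000000
set_option synthInstance.maxHeartbeats 100000
set_option linter.style.haveILetI false
set_option backward.isDefEq.respectTransparency false
universe u
open CategoryTheory MonoidalCategory CartesianMonoidalCategory MonObj GrpObj AlgebraicGeometry CategoryTheory.Limits
open AlgGrp

namespace Groth.Agent.S11397

open CategoryTheory.Limits MonObj
open Groth.Agent Groth.Agent.H25AbCube Groth.Agent.H19Quot


/-- Over an algebraically closed field k, let G be an algebraic group (a smooth k-group scheme of finite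
type) which is not proper over k. Then G has a smooth closed subgroup scheme which is affine and of
positive dimension. -/
theorem result (k : Type u) [Field k] [IsAlgClosed k]
    (G : Over (Spec (CommRingCat.of k))) [GrpObj G] [Smooth G.hom] [QuasiCompact G.hom] (hG : ¬ IsProper G.hom) :
    ∃ (H : Over (Spec (CommRingCat.of k))) (_ : GrpObj H) (j : H ⟶ G), IsMonHom j ∧ IsClosedImmersion j.left ∧
      Smooth H.hom ∧ IsAffine H.left ∧ 0 < topologicalKrullDim ↥H.left := by
  obtain ⟨G₀, gG₀, j, hj, hjc, hjo, hconn, hsm, hqc, h1⟩ := H19Chev.exists_smooth_idComp G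
  haveI := hj; haveI := hjc; haveI := hjo; haveI := hconn; haveI := hsm; haveI := hqc
  obtain ⟨L, gL, l, Q, gQ, q, hl, hlc, hLa, hLs, hLn, -, hq, -, -, -, hk, hQp, hQs, hQn⟩ := H19Chev.exists_chevalley G₀
  haveI := hl; haveI := hlc; haveI := hLa; haveI := hLs; haveI := hLn; haveI := hq; haveI := hQp
  refine ⟨L, gL, l ≫ j, inferInstance, by rw [Over.comp_left]; infer_instance, hLs, hLa, lt_of_not_ge fun h0 => hG ?_⟩
  haveI := H19Chev.geometricallyIntegral_grp L
  haveI : AlgebraicGeometry.IsIntegral L.left := GeometricallyIntegral.isIntegral_of_subsingleton L.hom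
  haveI := H19Chev.subsingleton_of_dim_nonpos h0
  haveI : QuasiCompact Q.hom := inferInstance
  haveI : IsFinite q.left := by
    refine H19Chev.isFinite_of_finite_ker q ((Set.finite_singleton (1 : 𝟙_ _ ⟶ G₀)).subset fun g hg => ?_)
    obtain ⟨x, hx⟩ := H19Grp.kernel_lift hk g hg
    rw [Set.mem_singleton_iff, ← hx, show x = 1 from Stab.pnt_injective (Subsingleton.elim _ _), MonObj.one_comp]
  haveI : IsProper G₀.hom := by rw [← Over.w q]; infer_instance
  exact H19Chev.isProper_of_open_subgroup j h1

end Groth.Agent.S11397
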