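import Groth.Statements.S11398
import Groth.Agent.S8004
import Groth.Agent.H19Grp.AffineQuotient
import Groth.Agent.H19Quot.Factor
import Groth.Agent.H19Quot.AbelianCat

set_option autoImplicit false
set_option maxHeartbeats 1000000
set_option synthInstance.maxHeartbeats 100000
set_option linter.style.haveILetI false
set_option backward.isDefEq.respectTransparency false
universe u
open CategoryTheory MonoidalCategory CartesianMonoidalCategory MonObj GrpObj AlgebraicGeometry CategoryTheory.Limits
open AlgGrp

namespace Groth.Agent.S11398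

/-- Over an algebraically closed field k, every algebraic group G (a smooth k-group scheme of finite
type) has a largest connected affine normal algebraic subgroup G_aff: a homomorphism and closed
immersion i : N → G from a smooth, connected, affine k-group scheme, normal in G, through which
every other such subgroup factors. Moreover the quotient G/G_aff has trivial G_aff: for every flat
surjective homomorphism q : G → Q of k-group schemes of finite type with kernel i, every smooth
connected affine normal closed subgroup of Q is the trivial group. -/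
theorem result (k : Type u) [Field k] [IsAlgClosed k]
    (G : Over (Spec (CommRingCat.of k))) [GrpObj G] [Smooth G.hom] [QuasiCompact G.hom] :
    ∃ (N : Over (Spec (CommRingCat.of k))) (_ : GrpObj N) (i : N ⟶ G), (IsMonHom i ∧ IsClosedImmersion i.left ∧ Smooth N.hom ∧
      ConnectedSpace ↥N.left ∧ IsAffine N.left ∧ AlgGrp.IsNormalHom i) ∧
      (∀ (N' : Over (Spec (CommRingCat.of k))) [GrpObj N'] (i' : N' ⟶ G) [IsMonHom i'] [IsClosedImmersion i'.left]
        [Smooth N'.hom] [ConnectedSpace ↥N'.left] [IsAffine N'.left], AlgGrp.IsNormalHom i' → ∃ f : N' ⟶ N, f ≫ i = i') ∧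
      (∀ (Q : Over (Spec (CommRingCat.of k))) [GrpObj Q] [LocallyOfFiniteType Q.hom] [QuasiCompact Q.hom] (q : G ⟶ Q) [IsMonHom q]
        [Surjective q.left] [Flat q.left], AlgGrp.IsKernel i q →
        ∀ (N'' : Over (Spec (CommRingCat.of k))) [GrpObj N''] (i'' : N'' ⟶ Q) [IsMonHom i''] [IsClosedImmersion i''.left]
          [Smooth N''.hom] [ConnectedSpace ↥N''.left] [IsAffine N''.left], AlgGrp.IsNormalHom i'' → IsIso N''.hom) := by
  haveI : IsSeparated G.hom := Groth.Agent.H19Grp.AffineQuotient.isSeparated_of_grp G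
  have hcl : IsClosedImmersion (η[G] : 𝟙_ (Over (Spec (CommRingCat.of k))) ⟶ G).left :=
    isClosedImmersion_of_comp_eq_id G.hom _ (Over.w η[G])
  have hU : (𝟙_ (Over (Spec (CommRingCat.of k)))).hom = 𝟙 (Spec (CommRingCat.of k)) := rfl
  have hnorm : AlgGrp.IsNormalHom (η[G] : 𝟙_ (Over (Spec (CommRingCat.of k))) ⟶ G) := fun T g n => ⟨n, by
    rw [show n ≫ η[G] = (1 : T ⟶ G) by rw [Hom.one_def, toUnit_unique n (toUnit T)], _root_.mul_one, mul_inv_cancel]⟩
  obtain ⟨N, gN, j, h1, h2, h3, h4, h5, h6, h7, h8⟩ := Groth.Agent.S8004.result k (fun E _ => IsAffine E.left)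
    (fun N E Q _ _ _ _ _ _ _ _ _ i q _ _ _ _ hK hNa hQa => by
      haveI := Groth.Agent.H19Grp.kernel_mono hK
      haveI : IsAffineHom N.hom := by haveI := hNa; infer_instance
      have e : (E ◁ i) ≫ μ[E] = fst E N * (snd E N ≫ i) := by rw [Hom.mul_def]; congr 1
      have hsq' : IsPullback ((E ◁ i) ≫ μ[E]) (fst E N) q q := by
        rw [e]; exact (Groth.Agent.H19Grp.isPullback_kernel q i hK).flip
      haveI : LocallyOfFinitePresentation q.left :=
        (Groth.Agent.H19Quot.AbelianCat.props_hom q ⟨inferInstance, inferInstance⟩ ⟨inferInstance, inferInstance⟩).2.2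
      haveI : IsAffineHom q.left := Groth.Agent.H19Quot.descend_proj (P := @IsAffineHom)
        (Groth.Agent.H19Quot.hasFpqcSection_of_lfp q) hsq' ‹IsAffineHom N.hom›
      haveI := hQa
      exact isAffine_of_isAffineHom q.left)
    (fun E Q _ _ _ _ _ _ q _ _ _ hE => by
      haveI := hE
      exact Groth.Agent.H19Grp.AffineQuotient.isAffine_of_flat_surjective E Q q)
    G ⟨𝟙_ _, inferInstance, η[G], inferInstance, hcl, show Smooth (𝟙 (Spec (CommRingCat.of k))) from (MorphismProperty.id_mem (@Smooth) (Spec (CommRingCat.of k))),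
      inferInstanceAs (ConnectedSpace (Spec (CommRingCat.of k))), hnorm, inferInstanceAs (IsAffine (Spec (CommRingCat.of k)))⟩
  refine ⟨N, gN, j, ⟨h1, h2, h3, h4, h6, h5⟩,
    fun N' _ i' _ _ _ _ _ hn => h7 N' i' inferInstance inferInstance inferInstance hn inferInstance, ?_⟩
  intro Q _ _ _ q _ _ _ hK N'' _ i'' _ _ _ _ _ hn
  haveI := h8 Q q hK N'' i'' inferInstance inferInstance inferInstance hn inferInstance
  haveI : IsIso (η[N''] : 𝟙_ (Over (Spec (CommRingCat.of k))) ⟶ N'').left := inferInstanceAs (IsIso ((Over.forget _).map η[N'']))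
  exact by
    have e := Over.w (η[N''] : 𝟙_ (Over (Spec (CommRingCat.of k))) ⟶ N'')
    rw [hU] at e
    rw [(IsIso.inv_eq_of_hom_inv_id e).symm]
    infer_instance

end Groth.Agent.S11398
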