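import Groth.Statements.S11399
import Groth.Agent.H19Chev.FieldBasic
import Groth.Agent.H19Chev.StructureField

set_option autoImplicit false
set_option maxHeartbeats 1000000
set_option synthInstance.maxHeartbeats 100000
set_option linter.style.haveILetI false
set_option backward.isDefEq.respectTransparency false
universe u
open CategoryTheory MonoidalCategory CartesianMonoidalCategory MonObj GrpObj AlgebraicGeometry CategoryTheory.Limits
open AlgGrp

namespace Groth.Agent.S11399

open Groth.Agent


/-- Over an algebraically closed field k, let G be a connected algebraic group (smooth k-group scheme of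
finite type) and let i : N → G be its largest connected affine normal algebraic subgroup G_aff (a
homomorphism and closed immersion from a smooth, connected, affine k-group scheme, normal in G,
through which every other such subgroup factors). Then G_aff is the largest connected affine
algebraic subgroup of G: every homomorphism and closed immersion from a smooth, connected, affine
k-group scheme into G factors through i. -/
theorem result (k : Type u) [Field k] [IsAlgClosed k]
    (G : Over (Spec (CommRingCat.of k))) [GrpObj G] [Smooth G.hom] [QuasiCompact G.hom] [ConnectedSpace ↥G.left]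
    (N : Over (Spec (CommRingCat.of k))) [GrpObj N] (i : N ⟶ G) [IsMonHom i] [IsClosedImmersion i.left]
    [Smooth N.hom] [ConnectedSpace ↥N.left] [IsAffine N.left] (hN : AlgGrp.IsNormalHom i)
    (hNmax : ∀ (N' : Over (Spec (CommRingCat.of k))) [GrpObj N'] (i' : N' ⟶ G) [IsMonHom i'] [IsClosedImmersion i'.left]
      [Smooth N'.hom] [ConnectedSpace ↥N'.left] [IsAffine N'.left], AlgGrp.IsNormalHom i' → ∃ f : N' ⟶ N, f ≫ i = i')
    (H : Over (Spec (CommRingCat.of k))) [GrpObj H] (h : H ⟶ G) [IsMonHom h] [IsClosedImmersion h.left]
    [Smooth H.hom] [ConnectedSpace ↥H.left] [IsAffine H.left] :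
    ∃ f : H ⟶ N, f ≫ i = h := by
  haveI : IsSeparated G.hom := H19Grp.AffineQuotient.isSeparated_of_grp G
  obtain ⟨L, gL, l, A, gA, q, hl, hlc, hLa, hLn, hnorm, hq, hqs, hqf, hqp, hk, hAp, hAs, hAc, hLs⟩ :=
    H19Chev.exists_chevalley_field G
  haveI := hl; haveI := hlc; haveI := hLa; haveI := hLn; haveI := hq; haveI := hAp
  haveI : Smooth L.hom := hLs inferInstance
  obtain ⟨a, ha⟩ := hNmax L l hnorm
  obtain ⟨f, hf⟩ := H19Grp.kernel_lift hk h (H19Chev.eq_one_of_affine_to_proper_field (h ≫ q))
  exact ⟨f ≫ a, by rw [Category.assoc, ha, hf]⟩

end Groth.Agent.S11399
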