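import Groth.Statements.S1140
import Groth.Agent.H11LefFEt.ExtendCompletion
import Groth.Agent.H11LefFEt.DualKill

set_option autoImplicit false
universe u
attribute [local instance] HasDerivedCategory.standard
open Pi1

namespace Groth.Agent.S1140

open AlgebraicGeometry CategoryTheory CategoryTheory.Limits in
/-- Let A be a Noetherian local ring with a dualizing complex, f an element of the maximal ideal with
(A, (f)) a henselian pair, and assume either that the ring A_f satisfies (S_2) while all irreducible
components of Spec A meeting the locus f ≠ 0 have dimension at least 3, or that depth(A_p) +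
dim(A/p) > 2 for every prime p not containing f. If V is a finite etale cover of the punctured
spectrum of A whose restriction to the punctured spectrum of A/fA is the restriction of a finite
etale cover of Spec(A/fA), then V is the restriction of a finite etale cover of Spec A. -/
theorem result (A : Type u) [CommRing A] [IsNoetherianRing A] [IsLocalRing A] (f : A) (hf : f ∈ IsLocalRing.maximalIdeal A) (hd : ∃ ω : Dual.D A, Dual.IsDualizing A ω)
    [HenselianRing A (Ideal.span {f})]
    (hc : ((LocCoh.HasSk 2 (Localization.Away f) (Localization.Away f) ∧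
        ∀ p : Ideal A, p ∈ minimalPrimes A → f ∉ p → (3 : WithBot ℕ∞) ≤ ringKrullDim (A ⧸ p)) ∨
      (∀ p : Ideal A, ∀ _ : p.IsPrime, f ∉ p →
        (2 : WithBot ℕ∞) < (LocCoh.depth (Localization.AtPrime p) (Localization.AtPrime p) : WithBot ℕ∞) + ringKrullDim (A ⧸ p))))
    (V : FEt.Cat (FEt.puncturedSpec A : Scheme.{u})) (hV : (∃ Y₀ : FEt.Cat (Spec (CommRingCat.of (A ⧸ Ideal.span {f}))),
      Nonempty ((FEt.restrict (pullback.snd (FEt.puncturedSpec A).ι (Spec.map (CommRingCat.ofHom (Ideal.Quotient.mk (Ideal.span {f})))))).obj Y₀ ≅ (FEt.restrict (pullback.fst (FEt.puncturedSpec A).ι (Spec.map (CommRingCat.ofHom (Ideal.Quotient.mk (Ideal.span {f})))))).obj V))) :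
    ∃ Y : FEt.Cat (Spec (CommRingCat.of A)), Nonempty ((FEt.restrict (FEt.puncturedSpec A).ι).obj Y ≅ V) := by
  obtain ⟨n, hn⟩ := Groth.Agent.H11LefFEt.DualKill.exists_pow_kill hd f hf fun p hp hfp =>
    hc.elim (fun h => Groth.Agent.H11LefFEt.DualKill.depth_condition hd f hf h.1 h.2 p hfp) fun h => h p hp hfp
  exact Groth.Agent.H11LefFEt.Ext.exists_extension A f hf ⟨n, hn 1 (by norm_num)⟩ ⟨n, hn 2 le_rfl⟩ V hV

end Groth.Agent.S1140
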