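import Groth.Statements.S11400
import Groth.Agent.H19Chev.MulSurjective
import Groth.Agent.H19Chev.QuasiComplement
import Groth.Agent.H21Quot.Basic

set_option autoImplicit false
set_option maxHeartbeats 1000000
set_option synthInstance.maxHeartbeats 100000
set_option linter.style.haveILetI false
set_option backward.isDefEq.respectTransparency false
universe u
open CategoryTheory MonoidalCategory CartesianMonoidalCategory MonObj GrpObj AlgebraicGeometry CategoryTheory.Limits
open AlgGrp

namespace Groth.Agent.S11400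

open Groth.Agent Groth.Agent.H19Quot


/-- Over an algebraically closed field k, let G be a connected algebraic group (smooth k-group scheme of
finite type), let i : N → G be its largest connected affine normal algebraic subgroup G_aff (a
homomorphism and closed immersion from a smooth, connected, affine k-group scheme, normal in G,
through which every other such subgroup factors), and let j : Z → G be the scheme-theoretic centre
of G. Then G = Z · G_aff, in the sense that the multiplication morphism Z × G_aff → G is surjective,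
and G is commutative exactly when G_aff is. (The published statement also gives G = Z⁰_red · G_aff
and identifies the scheme-theoretic intersection Z ∩ G_aff with the centre of G_aff; those clauses
are not stated here.) -/
theorem result (k : Type u) [Field k] [IsAlgClosed k]
    (G : Over (Spec (CommRingCat.of k))) [GrpObj G] [Smooth G.hom] [QuasiCompact G.hom] [ConnectedSpace ↥G.left]
    (N : Over (Spec (CommRingCat.of k))) [GrpObj N] (i : N ⟶ G) [IsMonHom i] [IsClosedImmersion i.left]
    [Smooth N.hom] [ConnectedSpace ↥N.left] [IsAffine N.left] (hN : AlgGrp.IsNormalHom i)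
    (hNmax : ∀ (N' : Over (Spec (CommRingCat.of k))) [GrpObj N'] (i' : N' ⟶ G) [IsMonHom i'] [IsClosedImmersion i'.left]
      [Smooth N'.hom] [ConnectedSpace ↥N'.left] [IsAffine N'.left], AlgGrp.IsNormalHom i' → ∃ f : N' ⟶ N, f ≫ i = i')
    (Z : Over (Spec (CommRingCat.of k))) [GrpObj Z] (j : Z ⟶ G) (hZ : Red.IsCentre j) :
    Surjective ((j ⊗ₘ i) ≫ μ[G]).left ∧ (IsCommMonObj G ↔ IsCommMonObj N) := by
  haveI : IsSeparated G.hom := H19Grp.AffineQuotient.isSeparated_of_grp G
  obtain ⟨L, gL, l, A, gA, q, hl, hlc, hLa, hLn, hnorm, hq, hqs, hqf, hqp, hk, hAp, hAs, hAc, hLs⟩ :=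
    H19Chev.exists_chevalley_field G
  haveI := hl; haveI := hlc; haveI := hLa; haveI := hLn; haveI := hq; haveI := hqs; haveI := hqf; haveI := hAp
  haveI : Smooth L.hom := hLs inferInstance
  obtain ⟨a, ha⟩ := hNmax L l hnorm
  obtain ⟨gM, hm⟩ := H19Grp.AffinizationKernel.exists_grpObj G
  obtain ⟨hM1, hM2, hM3⟩ := H19Grp.AffinizationKernel.smooth_and_connected G
  let M := H19Grp.AffinizationKernel.N G
  let m : M ⟶ G := H19Grp.AffinizationKernel.incl G
  haveI : IsMonHom m := hm
  haveI := hM1; haveI := hM2
  haveI : IsClosedImmersion m.left := by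
    show IsClosedImmersion (H19Grp.AffinizationKernel.incl G).left
    infer_instance
  haveI : LocallyOfFiniteType M.hom := by rw [← Over.w m]; infer_instance
  haveI : QuasiCompact M.hom := by rw [← Over.w m]; infer_instance
  obtain ⟨z, hz⟩ := (hZ.2.2 M m).2 fun X' x h => by
    rw [Category.comp_id]
    exact H19Grp.AntiAffineGroup.central m x h
  haveI := H19Chev.surjective_incl_comp q
  haveI hml : Surjective ((m ⊗ₘ l) ≫ μ[G]).left := H19Chev.surjective_mul_left l q hk m
  refine ⟨?_, fun hG => ?_, fun hN' => ?_⟩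
  · have h := hml
    have he : (m ⊗ₘ l) ≫ μ[G] = (z ⊗ₘ a) ≫ (j ⊗ₘ i) ≫ μ[G] := by
      rw [← hz, ← ha, ← tensorHom_comp_tensorHom, Category.assoc]
    rw [he, Over.comp_left] at h
    exact Surjective.of_comp (z ⊗ₘ a).left _
  · haveI := hG
    haveI : Mono i := Over.mono_of_mono_left _
    refine ⟨(cancel_mono i).1 ?_⟩
    rw [Category.assoc, IsMonHom.mul_hom, ← BraidedCategory.braiding_naturality_assoc, IsCommMonObj.mul_comm]
  · haveI := hN'
    haveI : IsCommMonObj M := H19Grp.AntiAffineGroup.isCommMonObj M
    haveI : Mono l := Over.mono_of_mono_left _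
    let φ : M ⊗ N ⟶ G := (m ⊗ₘ i) ≫ μ[G]
    haveI hφ : Surjective φ.left := by
      have h := hml
      have he : (m ⊗ₘ l) ≫ μ[G] = (M ◁ a) ≫ φ := by
        rw [← ha, ← Category.assoc]; congr 1
        rw [← id_tensorHom, tensorHom_comp_tensorHom, Category.id_comp]
      rw [he, Over.comp_left] at h
      exact Surjective.of_comp (M ◁ a).left _
    haveI : IsMonHom φ := H19Chev.isMonHom_mul_map m i fun T x y => H19Grp.AntiAffineGroup.central m x (y ≫ i)
    haveI : Surjective (φ ⊗ₘ φ).left := H21Quot.surjective_tensorHom φ φ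
    have hc : ∀ {T : Over (Spec (CommRingCat.of k))} (x y : T ⟶ M ⊗ N), (x ≫ φ) * (y ≫ φ) = (y ≫ φ) * (x ≫ φ) := by
      intro T x y
      rw [← MonObj.mul_comp, ← MonObj.mul_comp, mul_comm]
    haveI : G.left.IsSeparated := ⟨by rw [← terminal.comp_from G.hom]; infer_instance⟩
    haveI : Smooth (G ⊗ G).hom := by show Smooth (pullback.fst G.hom G.hom ≫ G.hom); infer_instance
    haveI : IsReduced (G ⊗ G).left := H19Chev.isReduced_smooth
    haveI : IsDominant (φ ⊗ₘ φ).left := inferInstance
    refine ⟨Over.OverMorphism.ext (ext_of_isDominant (φ ⊗ₘ φ).left ?_)⟩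
    rw [← Over.comp_left, ← Over.comp_left]
    refine congrArg (fun f : (M ⊗ N) ⊗ (M ⊗ N) ⟶ G => f.left) ?_
    have hl : (φ ⊗ₘ φ) ≫ μ[G] = (fst _ _ ≫ φ) * (snd _ _ ≫ φ) := by
      rw [Hom.mul_def, lift_fst_comp_snd_comp]
    rw [BraidedCategory.braiding_naturality_assoc, hl, MonObj.comp_mul, reassoc_of% (braiding_hom_fst (M ⊗ N) (M ⊗ N)),
      reassoc_of% (braiding_hom_snd (M ⊗ N) (M ⊗ N))]
    exact hc _ _

end Groth.Agent.S11400
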