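import Groth.Statements.S11402
import Groth.Agent.H19Chev.IdComp

set_option autoImplicit false
set_option maxHeartbeats 1000000
set_option synthInstance.maxHeartbeats 100000
set_option linter.style.haveILetI false
set_option backward.isDefEq.respectTransparency false
universe u
open CategoryTheory MonoidalCategory CartesianMonoidalCategory MonObj GrpObj AlgebraicGeometry CategoryTheory.Limits
open AlgGrp

namespace Groth.Agent.S11402

open CategoryTheory.Limits MonObj
open Groth.Agent Groth.Agent.H25AbCube Groth.Agent.H19Quot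


/-- Over an algebraically closed field k, let G be a connected algebraic group (smooth k-group scheme of
finite type), let i : N → G be its largest connected affine normal algebraic subgroup G_aff (a
homomorphism and closed immersion from a smooth, connected, affine k-group scheme, normal in G,
through which every other such subgroup factors), and let α : G → A be a flat surjective
homomorphism with kernel i onto a proper smooth k-group scheme A (so A = G/G_aff is an abelian
variety). Then α is the Albanese morphism of G: every k-morphism (not necessarily a homomorphism)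
from G to an abelian variety B (a proper, smooth, connected k-group scheme) factors uniquely through
α. -/
theorem result (k : Type u) [Field k] [IsAlgClosed k]
    (G : Over (Spec (CommRingCat.of k))) [GrpObj G] [Smooth G.hom] [QuasiCompact G.hom] [ConnectedSpace ↥G.left]
    (N : Over (Spec (CommRingCat.of k))) [GrpObj N] (i : N ⟶ G) [IsMonHom i] [IsClosedImmersion i.left]
    [Smooth N.hom] [ConnectedSpace ↥N.left] [IsAffine N.left] (hN : AlgGrp.IsNormalHom i)
    (hNmax : ∀ (N' : Over (Spec (CommRingCat.of k))) [GrpObj N'] (i' : N' ⟶ G) [IsMonHom i'] [IsClosedImmersion i'.left]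
      [Smooth N'.hom] [ConnectedSpace ↥N'.left] [IsAffine N'.left], AlgGrp.IsNormalHom i' → ∃ f : N' ⟶ N, f ≫ i = i')
    (A : Over (Spec (CommRingCat.of k))) [GrpObj A] [IsProper A.hom] [Smooth A.hom] (α : G ⟶ A) [IsMonHom α]
    [Surjective α.left] [Flat α.left] (hker : AlgGrp.IsKernel i α)
    (B : Over (Spec (CommRingCat.of k))) [GrpObj B] [IsProper B.hom] [Smooth B.hom] [ConnectedSpace ↥B.left] (f : G ⟶ B) :
    ∃! g : A ⟶ B, α ≫ g = f := by
  obtain ⟨hlft, -, -⟩ := AbelianCat.props_hom α ⟨inferInstance, inferInstance⟩ ⟨inferInstance, inferInstance⟩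
  haveI := hlft
  haveI : IsNoetherianRing (CommRingCat.of k) := inferInstanceAs (IsNoetherianRing k)
  haveI : IsLocallyNoetherian A.left := LocallyOfFiniteType.isLocallyNoetherian A.hom
  haveI : LocallyOfFinitePresentation α.left := inferInstance
  let b : 𝟙_ _ ⟶ B := η[G] ≫ f
  let φ : G ⟶ B := f * (toUnit G ≫ b⁻¹)
  have hη : (1 : 𝟙_ _ ⟶ G) = η[G] := by
    rw [Hom.one_def, toUnit_unique (toUnit _) (𝟙 _), Category.id_comp]
  haveI : IsMonHom φ := H19Chev.isMonHom_to_av φ (by
    rw [MonObj.comp_mul, H19Chev.pts_comp_toUnit, mul_inv_cancel, Hom.one_def, toUnit_unique (toUnit _) (𝟙 _),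
      Category.id_comp])
  have hiφ : i ≫ φ = 1 := H19Chev.eq_one_of_affine_to_proper (i ≫ φ)
  obtain ⟨g₀, hg₀, huniq⟩ := H19Grp.QuotientDesc.existsUnique_desc α φ fun T a c hac => by
    obtain ⟨x, hx⟩ := H19Grp.kernel_lift hker (a * c⁻¹) (by
      rw [MonObj.mul_comp, GrpObj.inv_comp, hac, mul_inv_cancel])
    have h1 : (a * c⁻¹) ≫ φ = 1 := by rw [← hx, Category.assoc, hiφ, MonObj.comp_one]
    rwa [MonObj.mul_comp, GrpObj.inv_comp, mul_inv_eq_one] at h1
  have hback : ∀ {X : Over (Spec (CommRingCat.of k))} (h : X ⟶ B), (h * (toUnit X ≫ b⁻¹)) * (toUnit X ≫ b) = h :=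
    fun {X} h => by
      rw [_root_.mul_assoc, ← MonObj.comp_mul, inv_mul_cancel, MonObj.comp_one, _root_.mul_one]
  refine ⟨g₀ * (toUnit A ≫ b), ?_, fun g hg => ?_⟩
  · show α ≫ (g₀ * (toUnit A ≫ b)) = f
    rw [MonObj.comp_mul, hg₀, ← Category.assoc, comp_toUnit]
    exact hback f
  · rw [← huniq (g * (toUnit A ≫ b⁻¹)) (by
      show α ≫ (g * (toUnit A ≫ b⁻¹)) = φ
      rw [MonObj.comp_mul, hg, ← Category.assoc, comp_toUnit])]
    exact (hback g).symm

end Groth.Agent.S11402
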