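import Groth.Statements.S11403
import Groth.Agent.H19Chev.AntiAffineImage

set_option autoImplicit false
set_option maxHeartbeats 1000000
set_option synthInstance.maxHeartbeats 100000
set_option linter.style.haveILetI false
set_option backward.isDefEq.respectTransparency false
universe u
open CategoryTheory MonoidalCategory CartesianMonoidalCategory MonObj GrpObj AlgebraicGeometry CategoryTheory.Limits
open AlgGrp

namespace Groth.Agent.S11403

open CategoryTheory.Limits MonObj
open Groth.Agent Groth.Agent.H25AbCube Groth.Agent.H19Quot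


/-- Over an algebraically closed field k, let G be a connected algebraic group (smooth k-group scheme of
finite type), let i : N → G be its largest connected affine normal algebraic subgroup G_aff (a
homomorphism and closed immersion from a smooth, connected, affine k-group scheme, normal in G,
through which every other such subgroup factors), and let j : M → G be its largest anti-affine
subgroup scheme G_ant (a homomorphism and closed immersion from a k-group scheme M whose only global
functions are the constants, through which every other such subgroup scheme factors). Then G = G_aff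
· G_ant, in the sense that the multiplication morphism G_aff × G_ant → G is surjective, and G_ant is
the smallest closed subgroup scheme H of G with G = G_aff · H: every such H contains G_ant. (The
published statement adds that the scheme-theoretic intersection of G_aff and G_ant contains
(G_ant)_aff as a normal subgroup of finite index; that clause is not stated here.) -/
theorem result (k : Type u) [Field k] [IsAlgClosed k]
    (G : Over (Spec (CommRingCat.of k))) [GrpObj G] [Smooth G.hom] [QuasiCompact G.hom] [ConnectedSpace ↥G.left]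
    (N : Over (Spec (CommRingCat.of k))) [GrpObj N] (i : N ⟶ G) [IsMonHom i] [IsClosedImmersion i.left]
    [Smooth N.hom] [ConnectedSpace ↥N.left] [IsAffine N.left] (hN : AlgGrp.IsNormalHom i)
    (hNmax : ∀ (N' : Over (Spec (CommRingCat.of k))) [GrpObj N'] (i' : N' ⟶ G) [IsMonHom i'] [IsClosedImmersion i'.left]
      [Smooth N'.hom] [ConnectedSpace ↥N'.left] [IsAffine N'.left], AlgGrp.IsNormalHom i' → ∃ f : N' ⟶ N, f ≫ i = i')
    (M : Over (Spec (CommRingCat.of k))) [GrpObj M] (j : M ⟶ G) [IsMonHom j] [IsClosedImmersion j.left]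
    (hM : Function.Bijective ((Scheme.ΓSpecIso (CommRingCat.of k)).inv ≫ M.hom.appTop).hom)
    (hMmax : ∀ (M' : Over (Spec (CommRingCat.of k))) [GrpObj M'] (j' : M' ⟶ G) [IsMonHom j'] [IsClosedImmersion j'.left],
      Function.Bijective ((Scheme.ΓSpecIso (CommRingCat.of k)).inv ≫ M'.hom.appTop).hom → ∃ f : M' ⟶ M, f ≫ j = j') :
    Surjective ((i ⊗ₘ j) ≫ μ[G]).left ∧
      ∀ (H : Over (Spec (CommRingCat.of k))) [GrpObj H] (h : H ⟶ G) [IsMonHom h] [IsClosedImmersion h.left],
        Surjective ((i ⊗ₘ h) ≫ μ[G]).left → ∃ f : M ⟶ H, f ≫ h = j := by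
  classical
  have hiff : ∀ (X : Over (Spec (CommRingCat.of k))),
      Function.Bijective ((Scheme.ΓSpecIso (CommRingCat.of k)).inv ≫ X.hom.appTop).hom ↔ IsIso X.hom.appTop := fun X =>
    ⟨fun hb => by
      haveI : IsIso ((Scheme.ΓSpecIso (CommRingCat.of k)).inv ≫ X.hom.appTop) :=
        (ConcreteCategory.isIso_iff_bijective _).2 hb
      exact IsIso.of_isIso_comp_left (Scheme.ΓSpecIso (CommRingCat.of k)).inv _,
    fun _ => ConcreteCategory.bijective_of_isIso ((Scheme.ΓSpecIso (CommRingCat.of k)).inv ≫ X.hom.appTop)⟩
  haveI : IsSeparated G.hom := H19Grp.AffineQuotient.isSeparated_of_grp G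
  haveI : IsIso M.hom.appTop := (hiff M).1 hM
  refine ⟨?_, fun H gH h hh hhc hsurj => ?_⟩
  · haveI : LocallyOfFiniteType M.hom := by rw [← Over.w j]; infer_instance
    haveI : QuasiCompact M.hom := by rw [← Over.w j]; infer_instance
    haveI : LocallyOfFiniteType (N ⊗ M).hom := by
      show LocallyOfFiniteType (pullback.fst N.hom M.hom ≫ N.hom); infer_instance
    haveI : QuasiCompact (N ⊗ M).hom := by
      show QuasiCompact (pullback.fst N.hom M.hom ≫ N.hom); infer_instance
    obtain ⟨h1, h2, h3⟩ := AbelianCat.props_hom ((i ⊗ₘ j) ≫ μ[G]) ⟨inferInstance, inferInstance⟩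
      ⟨inferInstance, inferInstance⟩
    haveI := h2; haveI := h3
    refine H19Chev.surjective_of_pts _ fun g => ?_
    obtain ⟨L, gL, l, hl, hlc, hLa, hLs, hLn, hnorm, hdec⟩ := H19Chev.pts_decomp G
    haveI := hl; haveI := hlc; haveI := hLa; haveI := hLs; haveI := hLn
    obtain ⟨a, ha⟩ := hNmax L l hnorm
    obtain ⟨gM, hm⟩ := H19Grp.AffinizationKernel.exists_grpObj G
    haveI := hm
    obtain ⟨b, hb⟩ := hMmax _ (H19Grp.AffinizationKernel.incl G)
      ((hiff _).2 (H19Grp.AffinizationKernel.smooth_and_connected G).1)
    obtain ⟨x, m, rfl⟩ := hdec g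
    refine ⟨lift (x ≫ a) (m ≫ b), ?_⟩
    rw [← Category.assoc, lift_map, Category.assoc, Category.assoc, ha, hb, Hom.mul_def]
  · haveI := hh; haveI := hhc; haveI := hsurj
    obtain ⟨L, gL, l, Q, gQ, q, hl, hlc, hLa, hLs, hLn, -, hq, -, -, -, hk, hQp, hQs, hQn⟩ :=
      H19Chev.exists_chevalley G
    haveI := hl; haveI := hlc; haveI := hLa; haveI := hq; haveI := hQp
    have hiq : i ≫ q = 1 := H19Chev.eq_one_of_affine_to_proper (i ≫ q)
    haveI : LocallyOfFiniteType H.hom := by rw [← Over.w h]; infer_instance
    haveI : LocallyOfFiniteType (N ⊗ H).hom := by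
      show LocallyOfFiniteType (pullback.fst N.hom H.hom ≫ N.hom); infer_instance
    refine H19Chev.antiAffine_le l q hk j
      (fun M' gM' j' hj' hjc' hi' => by
        haveI := hi'
        exact hMmax M' j' ((hiff M').2 hi')) h fun g => ?_
    obtain ⟨w, hw⟩ := H19Chev.exists_pt_lift ((i ⊗ₘ h) ≫ μ[G]) g
    refine ⟨w ≫ snd N H, ?_⟩
    have hp : (i ⊗ₘ h) ≫ μ[G] = (fst N H ≫ i) * (snd N H ≫ h) := by
      rw [Hom.mul_def, lift_fst_comp_snd_comp]
    rw [← hw, Category.assoc, hp, MonObj.mul_comp, Category.assoc, hiq, MonObj.comp_one, _root_.one_mul]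
    simp only [Category.assoc]

end Groth.Agent.S11403
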