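import Groth.Statements.S11404
import Groth.Agent.H19Grp.ClopenTrivial
import Groth.Agent.H19Grp.UnitsProd

set_option autoImplicit false
set_option maxHeartbeats 1000000
set_option synthInstance.maxHeartbeats 100000
set_option linter.style.haveILetI false
set_option backward.isDefEq.respectTransparency false
universe u
open CategoryTheory MonoidalCategory CartesianMonoidalCategory MonObj GrpObj AlgebraicGeometry CategoryTheory.Limits
open AlgGrp

namespace Groth.Agent.S11404

open CategoryTheory CategoryTheory.Limits MonoidalCategory CartesianMonoidalCategory MonObj GrpObj AlgebraicGeometry in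
theorem main (k : Type u) [Field k] [IsAlgClosed k]
    (A S : Over (Spec (CommRingCat.of k))) [GrpObj A] [IsProper A.hom] [Smooth A.hom] [ConnectedSpace ↥A.left]
    [LocallyOfFiniteType S.hom] [QuasiCompact S.hom] [ConnectedSpace ↥S.left]
    (f : A ⊗ S ≅ A ⊗ S) (hf : f.hom ≫ snd A S = snd A S) :
    ∃ (g : S ⟶ A) (h : A ⟶ A), IsMonHom h ∧ IsIso h ∧
      f.hom ≫ fst A S = (snd A S ≫ g) * (fst A S ≫ h) ∧
      ∀ (g' : S ⟶ A) (h' : A ⟶ A), IsMonHom h' →
        f.hom ≫ fst A S = (snd A S ≫ g') * (fst A S ≫ h') → g' = g ∧ h' = h := by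
  have hfib : ∀ (X : Over (Spec (CommRingCat.of k))) [ConnectedSpace ↥X.left] (s : ↥(Spec (CommRingCat.of k))),
      ConnectedSpace ↥(X.hom.fiber s) := by
    intro X _ s
    have h1 : _root_.IsConnected (X.hom ⁻¹' {s}) := by
      rw [show X.hom ⁻¹' {s} = Set.univ from
        Set.eq_univ_of_forall fun x => Subsingleton.elim (α := PrimeSpectrum k) (X.hom x) s]
      exact isConnected_univ
    haveI := isConnected_iff_connectedSpace.mp h1
    exact (X.hom.fiberHomeo s).symm.surjective.connectedSpace (X.hom.fiberHomeo s).symm.continuous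
  haveI := H19Grp.geometricallyIntegral_of_connected_fibres A (hfib A)
  haveI : Nonempty S.left := inferInstance
  obtain ⟨s₀⟩ := H19Grp.UnitsProd.exists_point S
  let e : S ⟶ A ⊗ S := lift (toUnit S ≫ η[A]) (𝟙 S)
  let σ : A ⟶ A ⊗ S := lift (𝟙 A) (toUnit A ≫ s₀)
  have heq : ∀ {T : Over (Spec (CommRingCat.of k))} (p : T ⟶ 𝟙_ _) {Z : Over (Spec (CommRingCat.of k))} (q : T ⟶ Z), q ≫ toUnit Z = p :=
    fun p _ q => toUnit_unique _ _
  let g : S ⟶ A := e ≫ f.hom ≫ fst A S
  let φ : A ⟶ A := σ ≫ f.hom ≫ fst A S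
  let a : 𝟙_ (Over (Spec (CommRingCat.of k))) ⟶ A := s₀ ≫ g
  let h : A ⟶ A := (toUnit A ≫ a)⁻¹ * φ
  let u : A ⊗ S ⟶ A := (snd A S ≫ g)⁻¹ * (f.hom ≫ fst A S)
  have hσs : σ ≫ snd A S = toUnit A ≫ s₀ := lift_snd _ _
  have hσu : σ ≫ u = h := by
    show σ ≫ ((snd A S ≫ g)⁻¹ * (f.hom ≫ fst A S)) = (toUnit A ≫ a)⁻¹ * φ
    rw [MonObj.comp_mul, GrpObj.comp_inv, ← Category.assoc, hσs, Category.assoc]
  have heu : e ≫ u = 1 := by
    show e ≫ ((snd A S ≫ g)⁻¹ * (f.hom ≫ fst A S)) = 1
    rw [MonObj.comp_mul, GrpObj.comp_inv, ← Category.assoc, show e ≫ snd A S = 𝟙 S from lift_snd _ _,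
      Category.id_comp]
    exact inv_mul_cancel g
  have hηh : η[A] ≫ h = η[A] := by
    have e1 : η[A] ≫ σ = s₀ ≫ e := by
      apply CartesianMonoidalCategory.hom_ext
      · simp only [σ, e, Category.assoc, lift_fst, Category.comp_id]
        rw [← Category.assoc, heq (𝟙 _) s₀, Category.id_comp]
      · simp only [σ, e, Category.assoc, lift_snd, Category.comp_id]
        rw [← Category.assoc, heq (𝟙 _) η[A], Category.id_comp]
    rw [← hσu, ← Category.assoc, e1, Category.assoc, heu, MonObj.comp_one, Hom.one_def,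
      toUnit_unit, Category.id_comp]
  haveI hmh : IsMonHom h := H19Grp.isMonHom_of_one_hom_scheme h hηh
  have hd : u * (fst A S ≫ h)⁻¹ = 1 := by
    refine H19Grp.eq_one_of_axes η[A] s₀ (hfib S) _ ?_ ?_
    · show e ≫ _ = 1
      rw [MonObj.comp_mul, heu, GrpObj.comp_inv, ← Category.assoc, show e ≫ fst A S = toUnit S ≫ η[A] from lift_fst _ _,
        Category.assoc, hηh, ← Hom.one_def, inv_one, _root_.one_mul]
    · show σ ≫ _ = 1
      rw [MonObj.comp_mul, hσu, GrpObj.comp_inv, ← Category.assoc, show σ ≫ fst A S = 𝟙 A from lift_fst _ _,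
        Category.id_comp]
      exact mul_inv_cancel h
  have hu : u = fst A S ≫ h := mul_inv_eq_one.mp hd
  have hform : f.hom ≫ fst A S = (snd A S ≫ g) * (fst A S ≫ h) := by
    rw [← hu]
    exact (mul_inv_cancel_left _ _).symm
  refine ⟨g, h, hmh, ?_, hform, fun g' h' hm heq' => ?_⟩
  · let ψ : A ⟶ A := σ ≫ f.inv ≫ fst A S
    have hfi : f.inv ≫ snd A S = snd A S := by
      rw [Iso.inv_comp_eq, hf]
    have hsplit : ∀ (t : A ⊗ S ⟶ A ⊗ S), t ≫ snd A S = snd A S → σ ≫ t = (σ ≫ t ≫ fst A S) ≫ σ := by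
      intro t ht
      apply CartesianMonoidalCategory.hom_ext
      · simp [σ]
      · rw [Category.assoc σ t, ht, hσs, Category.assoc _ σ, hσs, ← Category.assoc, heq (toUnit A) (σ ≫ t ≫ fst A S)]
    have h1 : φ ≫ ψ = 𝟙 A := by
      show (σ ≫ f.hom ≫ fst A S) ≫ σ ≫ f.inv ≫ fst A S = 𝟙 A
      rw [← Category.assoc _ σ, ← hsplit f.hom hf, Category.assoc, Iso.hom_inv_id_assoc]
      exact lift_fst _ _
    have h2 : ψ ≫ φ = 𝟙 A := by
      show (σ ≫ f.inv ≫ fst A S) ≫ σ ≫ f.hom ≫ fst A S = 𝟙 A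
      rw [← Category.assoc _ σ, ← hsplit f.inv hfi, Category.assoc, Iso.inv_hom_id_assoc]
      exact lift_fst _ _
    haveI : IsIso φ := ⟨ψ, h1, h2⟩
    let τ : A ⟶ A := (toUnit A ≫ a)⁻¹ * 𝟙 A
    haveI : IsIso τ := by
      refine ⟨(toUnit A ≫ a) * 𝟙 A, ?_, ?_⟩
      · rw [MonObj.comp_mul, Category.comp_id, ← Category.assoc, heq (toUnit A) τ]
        exact mul_inv_cancel_left _ _
      · rw [MonObj.comp_mul, Category.comp_id, GrpObj.comp_inv, ← Category.assoc, heq (toUnit A) _]
        exact inv_mul_cancel_left _ _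
    have : h = φ ≫ τ := by
      show _ = φ ≫ ((toUnit A ≫ a)⁻¹ * 𝟙 A)
      rw [MonObj.comp_mul, Category.comp_id, GrpObj.comp_inv, ← Category.assoc, heq (toUnit A) φ]
    rw [this]
    infer_instance
  · haveI := hm
    have e2 : ∀ (g₁ : S ⟶ A) (h₁ : A ⟶ A) [IsMonHom h₁], e ≫ ((snd A S ≫ g₁) * (fst A S ≫ h₁)) = g₁ := by
      intro g₁ h₁ _
      rw [MonObj.comp_mul, ← Category.assoc, ← Category.assoc, show e ≫ snd A S = 𝟙 S from lift_snd _ _,
        show e ≫ fst A S = toUnit S ≫ η[A] from lift_fst _ _, Category.id_comp, Category.assoc,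
        IsMonHom.one_hom h₁, ← Hom.one_def, _root_.mul_one]
    have hg : g' = g := by
      have := congrArg (e ≫ ·) (heq'.symm.trans hform)
      simpa only [e2] using this
    refine ⟨hg, ?_⟩
    subst hg
    have h3 := congrArg (σ ≫ ·) (mul_left_cancel (heq'.symm.trans hform))
    simpa only [σ, lift_fst_assoc, Category.id_comp] using h3


/-- Over an algebraically closed field k, let A be an abelian variety (a proper, smooth, connected
k-group scheme) and S a connected k-scheme of finite type. For every automorphism f of A × S over S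
there are a unique k-morphism g : S → A and a unique group automorphism h of A with f(a, s) = (g(s)
· h(a), s) on points. (This is the functor-of-points form, over a connected base, of the
identification of the automorphism group scheme of A with the semidirect product of A, acting by
translations, and the constant group of group automorphisms; in particular the neutral component is
A.) -/
theorem result (k : Type u) [Field k] [IsAlgClosed k]
    (A S : Over (Spec (CommRingCat.of k))) [GrpObj A] [IsProper A.hom] [Smooth A.hom] [ConnectedSpace ↥A.left]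
    [LocallyOfFiniteType S.hom] [QuasiCompact S.hom] [ConnectedSpace ↥S.left]
    (f : A ⊗ S ≅ A ⊗ S) (hf : f.hom ≫ snd A S = snd A S) :
    ∃ (g : S ⟶ A) (h : A ⟶ A), IsMonHom h ∧ IsIso h ∧
      f.hom ≫ fst A S = (snd A S ≫ g) * (fst A S ≫ h) ∧
      ∀ (g' : S ⟶ A) (h' : A ⟶ A), IsMonHom h' →
        f.hom ≫ fst A S = (snd A S ≫ g') * (fst A S ≫ h') → g' = g ∧ h' = h := by
  exact main k A S f hf

end Groth.Agent.S11404
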