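import Groth.Statements.S11405
import Groth.Agent.H19Quot.GModHom
import Groth.Agent.H19Quot.VecAction
import Groth.Agent.H19Quot.AntiAffineAct

set_option autoImplicit false
set_option maxHeartbeats 1000000
set_option synthInstance.maxHeartbeats 400000
set_option linter.style.haveILetI false
set_option backward.isDefEq.respectTransparency.types false
universe u
open CategoryTheory MonoidalCategory CartesianMonoidalCategory MonObj GrpObj AlgebraicGeometry CategoryTheory.Limits
open AlgGrp

namespace Groth.Agent.S11405

/-- Anti-affine groups fixing a point act trivially. -/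
theorem act_eq_snd {k : Type u} [Field k] {G X : Over (Spec (CommRingCat.of k))} [GrpObj G]
    [LocallyOfFiniteType G.hom] [QuasiCompact G.hom] [IsIso G.hom.appTop] [IsSeparated X.hom] [IsIntegral X.left]
    [LocallyOfFiniteType X.hom] (a : AlgGrp.Action G X) (x : 𝟙_ (Over (Spec (CommRingCat.of k))) ⟶ X)
    (hx : a.IsFixedPt x) : a.act = snd G X := by
  haveI : IsLocallyNoetherian X.left := LocallyOfFiniteType.isLocallyNoetherian X.hom
  have h := Groth.Agent.H19Quot.antiAffine_act_trivial a (𝟙 G) x
    (fun T m => by rw [Category.comp_id]; exact hx T m) (fst G X) (snd G X)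
  simpa using h

/-- Only anti-affine groups act trivially whenever they fix a point. -/
theorem isIso_of_forall_act {k : Type u} [Field k] {G : Over (Spec (CommRingCat.of k))} [GrpObj G]
    [LocallyOfFiniteType G.hom] [QuasiCompact G.hom]
    (h : ∀ (X : Over (Spec (CommRingCat.of k))) [LocallyOfFiniteType X.hom] [QuasiCompact X.hom] [IsSeparated X.hom]
      [GeometricallyIntegral X.hom] (a : AlgGrp.Action G X) (x : 𝟙_ (Over (Spec (CommRingCat.of k))) ⟶ X),
      a.IsFixedPt x → a.act = snd G X) : IsIso G.hom.appTop := by
  refine Groth.Agent.H19Quot.isIso_appTop_of_forall_hom_GLn G fun n ρ hρ => ?_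
  haveI := hρ
  haveI : IsAffineHom (Groth.Agent.H19Quot.vecSpace k n).hom :=
    inferInstanceAs (IsAffineHom (𝔸(ULift.{u} (Fin n); Spec (CommRingCat.of k)) ↘ Spec (CommRingCat.of k)))
  haveI : LocallyOfFiniteType (Groth.Agent.H19Quot.vecSpace k n).hom :=
    inferInstanceAs (LocallyOfFiniteType (𝔸(ULift.{u} (Fin n); Spec (CommRingCat.of k)) ↘ Spec (CommRingCat.of k)))
  haveI : GeometricallyIntegral (Groth.Agent.H19Quot.vecSpace k n).hom :=
    inferInstanceAs (GeometricallyIntegral (𝔸(ULift.{u} (Fin n); Spec (CommRingCat.of k)) ↘ Spec (CommRingCat.of k)))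
  exact Groth.Agent.H19Quot.eq_one_of_repAction_trivial ρ
    (h _ (Groth.Agent.H19Quot.repAction ρ) _ (Groth.Agent.H19Quot.isFixedPt_vecOrigin ρ))


/-- Over an algebraically closed field k, the following are equivalent for an algebraic group G (a
smooth k-group scheme of finite type): (i) the only global functions on G are the constants; (ii)
every finite-dimensional linear representation of G is trivial (every point of G with values in a
k-algebra B acts as the identity on B ⊗ M, for every G-module structure on a finite-dimensional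
k-vector space M); (iii) every action of G on a variety (integral, separated k-scheme of finite
type) with a fixed rational point is the trivial action. Stated as (i) ⇔ (ii) and (i) ⇔ (iii). -/
theorem result (k : Type u) [Field k] [IsAlgClosed k]
    (G : Over (Spec (CommRingCat.of k))) [GrpObj G] [Smooth G.hom] [QuasiCompact G.hom] :
    (Function.Bijective ((Scheme.ΓSpecIso (CommRingCat.of k)).inv ≫ G.hom.appTop).hom ↔
      ∀ (M : Type u) [AddCommGroup M] [Module k M] [Module.Finite k M] (m : VecGrp.GMod G M)
        (B : Type u) [CommRing B] [Algebra k B] (g : VecGrp.pt k B ⟶ G), m.ρ B g = 1) ∧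
    (Function.Bijective ((Scheme.ΓSpecIso (CommRingCat.of k)).inv ≫ G.hom.appTop).hom ↔
      ∀ (X : Over (Spec (CommRingCat.of k))) [LocallyOfFiniteType X.hom] [QuasiCompact X.hom] [IsSeparated X.hom]
        [IsIntegral X.left] (a : AlgGrp.Action G X) (x : 𝟙_ (Over (Spec (CommRingCat.of k))) ⟶ X), a.IsFixedPt x → a.act = snd G X) := by
  have hiff := Groth.Agent.H19Grp.AntiAffine.isIso_appTop_iff G.hom
  refine ⟨⟨fun hG M _ _ _ m B _ _ g => ?_, fun h => hiff.mp ?_⟩, ⟨fun hG X _ _ _ _ a x hx => ?_, fun h => hiff.mp ?_⟩⟩
  · haveI : IsIso G.hom.appTop := hiff.mpr hG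
    exact Groth.Agent.H19Quot.gmod_eq_one m B g
  · refine Groth.Agent.H19Quot.isIso_appTop_of_forall_hom_GLn G fun n ρ hρ => ?_
    haveI := hρ
    exact Groth.Agent.H19Quot.eq_one_of_gmodOfHom ρ (fun B _ _ g => h (Fin n → k) (Groth.Agent.H19Quot.gmodOfHom ρ) B g)
  · haveI : IsIso G.hom.appTop := hiff.mpr hG
    exact act_eq_snd a x hx
  · refine isIso_of_forall_act fun X _ _ _ _ a x hx => ?_
    haveI : IsIntegral X.left := GeometricallyIntegral.isIntegral_of_subsingleton X.hom
    exact h X a x hx

end Groth.Agent.S11405
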