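import Groth.Statements.S11406
import Groth.Agent.H19Grp.AntiAffineGroup
import Groth.Agent.H19Grp.QuotientDesc
import Groth.Agent.H19Grp.Kernel

set_option autoImplicit false
set_option maxHeartbeats 1000000
set_option synthInstance.maxHeartbeats 100000
set_option linter.style.haveILetI false
set_option backward.isDefEq.respectTransparency false
universe u
open CategoryTheory MonoidalCategory CartesianMonoidalCategory MonObj GrpObj AlgebraicGeometry CategoryTheory.Limits
open AlgGrp

namespace Groth.Agent.S11406

/-- Over an algebraically closed field k, let G be an algebraic group (smooth k-group scheme of finite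
type) whose only global functions are the constants, let H be a connected algebraic group, let i : N
→ H be the largest connected affine normal algebraic subgroup H_aff of H (a homomorphism and closed
immersion from a smooth, connected, affine k-group scheme, normal in H, through which every other
such subgroup factors), and let α : H → A be a flat surjective homomorphism with kernel i onto a
proper smooth k-group scheme A (so A = H/H_aff). If two morphisms of k-schemes f, f′ : G → H both
send e_G to e_H and have the same composite with α, then f = f′. (The published assertion is that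
such a morphism f is determined by the homomorphism from G/G_aff to H/H_aff which it induces; two
such morphisms induce the same homomorphism exactly when their composites with α agree, because the
quotient morphism of G is an epimorphism, so the assertion is stated in that form. The remaining
assertions, that f is a homomorphism and that its image is central, are not stated here.) -/
theorem result (k : Type u) [Field k] [IsAlgClosed k]
    (G H : Over (Spec (CommRingCat.of k))) [GrpObj G] [Smooth G.hom] [QuasiCompact G.hom]
    (hG : Function.Bijective ((Scheme.ΓSpecIso (CommRingCat.of k)).inv ≫ G.hom.appTop).hom)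
    [GrpObj H] [Smooth H.hom] [QuasiCompact H.hom] [ConnectedSpace ↥H.left]
    (N : Over (Spec (CommRingCat.of k))) [GrpObj N] (i : N ⟶ H) [IsMonHom i] [IsClosedImmersion i.left]
    [Smooth N.hom] [ConnectedSpace ↥N.left] [IsAffine N.left] (hN : AlgGrp.IsNormalHom i)
    (hNmax : ∀ (N' : Over (Spec (CommRingCat.of k))) [GrpObj N'] (i' : N' ⟶ H) [IsMonHom i'] [IsClosedImmersion i'.left]
      [Smooth N'.hom] [ConnectedSpace ↥N'.left] [IsAffine N'.left], AlgGrp.IsNormalHom i' → ∃ g : N' ⟶ N, g ≫ i = i')
    (A : Over (Spec (CommRingCat.of k))) [GrpObj A] [IsProper A.hom] [Smooth A.hom] (α : H ⟶ A) [IsMonHom α]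
    [Surjective α.left] [Flat α.left] (hker : AlgGrp.IsKernel i α)
    (f f' : G ⟶ H) (hf : η[G] ≫ f = η[H]) (hf' : η[G] ≫ f' = η[H]) (hα : f ≫ α = f' ≫ α) :
    f = f' := by
  haveI : IsIso G.hom.appTop := (Groth.Agent.H19Grp.AntiAffine.isIso_appTop_iff G.hom).mpr hG
  have h1 : (f * f'⁻¹) ≫ α = 1 := by rw [MonObj.mul_comp, GrpObj.inv_comp, hα, mul_inv_cancel]
  obtain ⟨y, hy⟩ := Groth.Agent.H19Grp.kernel_lift hker _ h1
  haveI : IsAffine N.left := inferInstance
  have hy1 : η[G] ≫ y = η[N] := by
    haveI : Mono i := Over.mono_of_mono_left _
    rw [← cancel_mono i, Category.assoc, hy, MonObj.comp_mul, GrpObj.comp_inv, hf, hf', mul_inv_cancel, IsMonHom.one_hom i,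
      Hom.one_def, toUnit_unique (toUnit (𝟙_ _)) (𝟙 _), Category.id_comp]
  have h2 := Groth.Agent.H19Grp.AntiAffineGroup.eq_one_of_isAffine y hy1
  rw [h2, MonObj.one_comp] at hy
  exact mul_inv_eq_one.mp hy.symm

end Groth.Agent.S11406
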