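import Groth.Statements.S11408
import Groth.Agent.H19Chev.QuasiComplement

set_option autoImplicit false
set_option maxHeartbeats 1000000
set_option synthInstance.maxHeartbeats 100000
set_option linter.style.haveILetI false
set_option backward.isDefEq.respectTransparency false
universe u
open CategoryTheory MonoidalCategory CartesianMonoidalCategory MonObj GrpObj AlgebraicGeometry CategoryTheory.Limits
open AlgGrp

namespace Groth.Agent.S11408

open CategoryTheory.Limits MonObj
open Groth.Agent Groth.Agent.H25AbCube Groth.Agent.H19Quot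


/-- Over an algebraically closed field k, let G be a connected algebraic group (smooth k-group scheme of
finite type) and i : A → G a homomorphism and closed immersion from an abelian variety A (a proper,
smooth, connected k-group scheme). Then A has a quasi-complement: a smooth, connected, normal closed
subgroup H of G with G = A · H, in the sense that the multiplication A × H → G is surjective, and
with the scheme-theoretic intersection A ∩ H finite over k. (The published statement first records
that A is central in G; that clause is not restated here.) -/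
theorem result (k : Type u) [Field k] [IsAlgClosed k]
    (G : Over (Spec (CommRingCat.of k))) [GrpObj G] [Smooth G.hom] [QuasiCompact G.hom] [ConnectedSpace ↥G.left]
    (A : Over (Spec (CommRingCat.of k))) [GrpObj A] [IsProper A.hom] [Smooth A.hom] [ConnectedSpace ↥A.left]
    (i : A ⟶ G) [IsMonHom i] [IsClosedImmersion i.left] :
    ∃ (H : Over (Spec (CommRingCat.of k))) (_ : GrpObj H) (h : H ⟶ G), IsMonHom h ∧ IsClosedImmersion h.left ∧ Smooth H.hom ∧
      ConnectedSpace ↥H.left ∧ AlgGrp.IsNormalHom h ∧ Surjective ((i ⊗ₘ h) ≫ μ[G]).left ∧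
      IsFinite (pullback.fst i.left h.left ≫ A.hom) := by
  haveI : IsSeparated G.hom := H19Grp.AffineQuotient.isSeparated_of_grp G
  obtain ⟨N, gN, j, hj, hjc, hjn, hc, -, hsurj, hfin, hNs⟩ := H19Chev.exists_quasiComplement G A i
  haveI := hj; haveI := hjc; haveI := hsurj
  haveI : Smooth N.hom := hNs inferInstance
  haveI : QuasiCompact N.hom := by rw [← Over.w j]; infer_instance
  haveI : CompactSpace N.left := QuasiCompact.compactSpace_of_compactSpace N.hom
  obtain ⟨H, gH, e, he, hec, heo, hHc, hHs, hHq, h1⟩ := H19Chev.exists_smooth_idComp N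
  haveI := he; haveI := hec; haveI := heo; haveI := hHc; haveI := hHs; haveI := hHq
  let h : H ⟶ G := e ≫ j
  haveI : IsClosedImmersion h.left := by rw [Over.comp_left]; infer_instance
  haveI : Mono j := Over.mono_of_mono_left _
  haveI : Mono e := Over.mono_of_mono_left _
  -- normality
  have hrange : IsClosed (Set.range e.left) := e.left.isClosedEmbedding.isClosed_range
  have hnorm : AlgGrp.IsNormalHom h := by
    haveI := H19Chev.geometricallyIntegral_grp G
    haveI := H19Chev.geometricallyIntegral_grp H
    haveI : IsNoetherianRing (CommRingCat.of k) := inferInstanceAs (IsNoetherianRing k)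
    haveI : IsLocallyNoetherian H.left := LocallyOfFiniteType.isLocallyNoetherian H.hom
    haveI : IsLocallyNoetherian G.left := LocallyOfFiniteType.isLocallyNoetherian G.hom
    haveI : IsIntegral G.left := GeometricallyIntegral.isIntegral_of_subsingleton G.hom
    haveI : IsIntegral H.left := GeometricallyIntegral.isIntegral_of_subsingleton H.hom
    haveI : IsIntegral (G ⊗ H).left := inferInstanceAs (IsIntegral (pullback G.hom H.hom))
    obtain ⟨y, hy⟩ := hjn (G ⊗ H) (fst G H) (snd G H ≫ e)
    rw [Category.assoc] at hy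
    have hy1 : lift (1 : 𝟙_ _ ⟶ G) (1 : 𝟙_ _ ⟶ H) ≫ y = 1 := by
      rw [← cancel_mono j, Category.assoc, ← hy, MonObj.comp_mul, MonObj.comp_mul, GrpObj.comp_inv, lift_fst,
        lift_snd_assoc, MonObj.one_comp, MonObj.one_comp, inv_one, _root_.mul_one, _root_.mul_one]
    have hsub : Set.range y.left ⊆ Set.range e.left := by
      have hclo : IsClopen (Set.range e.left) := ⟨hrange, e.left.isOpenEmbedding.isOpen_range⟩
      have hconn : _root_.IsPreconnected (Set.range y.left) :=
        Set.image_univ ▸ isPreconnected_univ.image y.left y.left.continuous.continuousOn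
      exact hconn.subset_isClopen hclo ⟨Stab.pnt (1 : 𝟙_ _ ⟶ N),
        ⟨Stab.pnt (lift (1 : 𝟙_ _ ⟶ G) (1 : 𝟙_ _ ⟶ H)), congrArg Stab.pnt hy1⟩, h1⟩
    intro T g x
    have hlo : IsOpenImmersion.lift e.left y.left hsub ≫ e.left = y.left := IsOpenImmersion.lift_fac _ _ _
    let z : G ⊗ H ⟶ H := Over.homMk (IsOpenImmersion.lift e.left y.left hsub) (by
      rw [← Over.w e, ← Category.assoc, hlo, Over.w y])
    have hz : z ≫ e = y := Over.OverMorphism.ext hlo
    refine ⟨lift g x ≫ z, ?_⟩
    rw [Category.assoc, ← Category.assoc z, hz, ← hy, MonObj.comp_mul, MonObj.comp_mul, GrpObj.comp_inv, lift_fst,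
      lift_snd_assoc]
  have hc' : ∀ (T : Over (Spec (CommRingCat.of k))) (a : T ⟶ A) (x : T ⟶ H),
      (a ≫ i) * (x ≫ h) = (x ≫ h) * (a ≫ i) := fun T a x => H19Chev.central_av i a (x ≫ h)
  refine ⟨H, gH, h, inferInstance, inferInstance, hHs, hHc, hnorm, ?_, ?_⟩
  · haveI := H19Chev.isMonHom_mul_map i h hc'
    haveI : LocallyOfFiniteType (A ⊗ H).hom := by
      show LocallyOfFiniteType (pullback.fst A.hom H.hom ≫ A.hom); infer_instance
    haveI : QuasiCompact (A ⊗ H).hom := by
      show QuasiCompact (pullback.fst A.hom H.hom ≫ A.hom); infer_instance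
    haveI : LocallyOfFiniteType (A ⊗ N).hom := by
      show LocallyOfFiniteType (pullback.fst A.hom N.hom ≫ A.hom); infer_instance
    obtain ⟨C, gC, p, iC, hp, hiC, hpi, hpf, hps, hpp, hiCc⟩ :=
      AbelianCat.exists_image ((i ⊗ₘ h) ≫ μ[G]) ⟨inferInstance, inferInstance⟩ ⟨inferInstance, inferInstance⟩
    haveI := hp; haveI := hiC; haveI := hpf; haveI := hps; haveI := hpp; haveI := hiCc
    rw [← hpi, Over.comp_left]
    suffices hs : Surjective iC.left by infer_instance
    obtain ⟨s, hs⟩ := H19Chev.finite_classes e h1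
    let τ : (𝟙_ (Over (Spec (CommRingCat.of k))) ⟶ N) → (G ⟶ G) := fun g => 𝟙 G * (toUnit G ≫ (g ≫ j))
    haveI : JacobsonSpace G.left := LocallyOfFiniteType.jacobsonSpace G.hom
    have hτi : ∀ g, IsIso (τ g) := fun g =>
      ⟨𝟙 G * (toUnit G ≫ (g ≫ j)⁻¹), by
        rw [MonObj.comp_mul, Category.comp_id, ← Category.assoc (τ g), comp_toUnit, _root_.mul_assoc,
          ← MonObj.comp_mul, mul_inv_cancel, MonObj.comp_one, _root_.mul_one], by
        rw [MonObj.comp_mul, Category.comp_id, ← Category.assoc, comp_toUnit, _root_.mul_assoc,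
          ← MonObj.comp_mul, inv_mul_cancel, MonObj.comp_one, _root_.mul_one]⟩
    have hτc : ∀ g, IsClosed (Set.range (iC ≫ τ g).left) := fun g => by
      haveI := hτi g
      haveI : IsIso (τ g).left := inferInstanceAs (IsIso ((Over.forget _).map (τ g)))
      haveI : IsClosedImmersion (iC ≫ τ g).left := by rw [Over.comp_left]; infer_instance
      exact (iC ≫ τ g).left.isClosedEmbedding.isClosed_range
    have hcl : IsClosed (⋃ g ∈ s, Set.range (iC ≫ τ g).left) :=
      s.finite_toSet.isClosed_biUnion fun g _ => hτc g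
    have hall : (Set.univ : Set G.left) ⊆ ⋃ g ∈ s, Set.range (iC ≫ τ g).left := by
      rw [← closure_closedPoints]
      refine closure_minimal (fun z hz => ?_) hcl
      obtain ⟨b, rfl⟩ := Stab.exists_pnt hz
      obtain ⟨w, rfl⟩ := H19Chev.exists_pt_lift ((i ⊗ₘ j) ≫ μ[G]) b
      obtain ⟨g, hg, x, hx⟩ := hs (w ≫ snd A N)
      have hmul : ∀ {T : Over (Spec (CommRingCat.of k))} {B : Over (Spec (CommRingCat.of k))} (u : T ⟶ A) (v : T ⟶ B)
          (f : B ⟶ G), lift u v ≫ (i ⊗ₘ f) ≫ μ[G] = (u ≫ i) * (v ≫ f) := fun u v f => by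
        rw [← Category.assoc, lift_map, Hom.mul_def]
      have hw : w ≫ (i ⊗ₘ j) ≫ μ[G] = ((w ≫ fst A N) ≫ i) * ((w ≫ snd A N) ≫ j) := by
        rw [← hmul, ← comp_lift, lift_fst_snd, Category.comp_id]
      have e1 : (lift (w ≫ fst A N) x ≫ p) ≫ iC ≫ τ g = w ≫ (i ⊗ₘ j) ≫ μ[G] := by
        rw [Category.assoc _ p, reassoc_of% hpi, ← Category.assoc _ μ[G], ← Category.assoc (lift _ _)]
        rw [MonObj.comp_mul, Category.comp_id, ← Category.assoc _ (toUnit G), comp_toUnit,
          toUnit_unique (toUnit (𝟙_ _)) (𝟙 _), Category.id_comp, hmul, hw,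
          show x ≫ h = (x ≫ e) ≫ j from (Category.assoc _ _ _).symm, hx, MonObj.mul_comp, GrpObj.inv_comp,
          _root_.mul_assoc, inv_mul_cancel_right]
      refine Set.mem_biUnion hg ⟨Stab.pnt (lift (w ≫ fst A N) x ≫ p), ?_⟩
      show _ = Stab.pnt (w ≫ (i ⊗ₘ j) ≫ μ[G])
      rw [← e1]
      rfl
    haveI : IrreducibleSpace G.left := by
      haveI := H19Chev.geometricallyIntegral_grp G
      haveI : AlgebraicGeometry.IsIntegral G.left := GeometricallyIntegral.isIntegral_of_subsingleton G.hom
      infer_instance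
    have hirr : IsPreirreducible (Set.univ : Set G.left) := PreirreducibleSpace.isPreirreducible_univ
    classical
    obtain ⟨_, hmem, hg'⟩ := (isIrreducible_iff_sUnion_isClosed.1 (IrreducibleSpace.isIrreducible_univ G.left))
      (s.image fun g => Set.range (iC ≫ τ g).left) (fun t ht => by
        obtain ⟨g, -, rfl⟩ := Finset.mem_image.1 ht
        exact hτc g) (fun z hz => by
        obtain ⟨g, hg, hzg⟩ := Set.mem_iUnion₂.1 (hall hz)
        exact ⟨_, Finset.mem_coe.2 (Finset.mem_image_of_mem _ hg), hzg⟩)
    obtain ⟨g, -, rfl⟩ := Finset.mem_image.1 hmem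
    haveI : IsIso (τ g) := hτi g
    haveI : IsIso (τ g).left := inferInstanceAs (IsIso ((Over.forget _).map (τ g)))
    refine ⟨fun z => ?_⟩
    obtain ⟨c, hc₂⟩ := hg' (Set.mem_univ ((τ g).left z))
    rw [Over.comp_left, Scheme.Hom.comp_apply] at hc₂
    exact ⟨c, (τ g).left.isOpenEmbedding.injective hc₂⟩
  · -- the intersection
    let ι₁ : pullback i.left h.left ⟶ pullback i.left j.left :=
      pullback.lift (pullback.fst i.left h.left) (pullback.snd i.left h.left ≫ e.left) (by
        rw [Category.assoc, ← Over.comp_left]; exact pullback.condition)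
    have hι : ι₁ ≫ pullback.fst i.left j.left = pullback.fst i.left h.left := pullback.lift_fst _ _ _
    haveI : IsClosedImmersion (pullback.fst i.left h.left) :=
      MorphismProperty.pullback_fst (P := @IsClosedImmersion) _ _ inferInstance
    haveI : IsClosedImmersion (pullback.fst i.left j.left) :=
      MorphismProperty.pullback_fst (P := @IsClosedImmersion) _ _ inferInstance
    haveI : IsClosedImmersion (ι₁ ≫ pullback.fst i.left j.left) := by rw [hι]; infer_instance
    haveI : IsClosedImmersion ι₁ := IsClosedImmersion.of_comp ι₁ (pullback.fst i.left j.left)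
    rw [← hι, Category.assoc]
    haveI := hfin
    infer_instance

end Groth.Agent.S11408
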