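import Groth.Statements.S11410
import Groth.Agent.H19Quot.AntiAffineAct
import Groth.Agent.H19Quot.AffineQuot
import Groth.Agent.H19Grp.AffineCriteria
import Groth.Agent.H19Grp.Kernel
import Groth.Agent.H19Grp.PointsEq

set_option autoImplicit false
set_option maxHeartbeats 1000000
set_option synthInstance.maxHeartbeats 100000
set_option linter.style.haveILetI false
set_option backward.isDefEq.respectTransparency false
universe u
open CategoryTheory MonoidalCategory CartesianMonoidalCategory MonObj GrpObj AlgebraicGeometry CategoryTheory.Limits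
open AlgGrp CategoryTheory.Limits

namespace Groth.Agent.S11410

open Groth.Agent.H19Grp in
/-- The anti-affine part of a group fixing a point acts trivially. -/
theorem incl_act {k : Type u} [Field k] {G X : Over (Spec (CommRingCat.of k))} [GrpObj G]
    [LocallyOfFiniteType G.hom] [QuasiCompact G.hom] [IsSeparated X.hom] [IsIntegral X.left]
    [IsLocallyNoetherian X.left] (a : AlgGrp.Action G X) (x : 𝟙_ (Over (Spec (CommRingCat.of k))) ⟶ X)
    {H : Over (Spec (CommRingCat.of k))} [GrpObj H] [LocallyOfFiniteType H.hom] [QuasiCompact H.hom]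
    (s : H ⟶ G) [IsMonHom s]
    (hx : ∀ (T : Over (Spec (CommRingCat.of k))) (g : T ⟶ H), lift (g ≫ s) (toUnit T ≫ x) ≫ a.act = toUnit T ≫ x)
    {T : Over (Spec (CommRingCat.of k))} (m : T ⟶ AffinizationKernel.N H) (y : T ⟶ X) :
    lift (m ≫ AffinizationKernel.incl H ≫ s) y ≫ a.act = y := by
  haveI : IsNoetherianRing (CommRingCat.of k) := inferInstanceAs (IsNoetherianRing k)
  haveI : IsLocallyNoetherian H.left := LocallyOfFiniteType.isLocallyNoetherian H.hom
  obtain ⟨gM, hl⟩ := AffinizationKernel.exists_grpObj H
  letI := gM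
  haveI := hl
  obtain ⟨hiso, -, -⟩ := AffinizationKernel.smooth_and_connected H
  haveI := hiso
  haveI : LocallyOfFiniteType (AffinizationKernel.N H).hom := by rw [← Over.w (AffinizationKernel.incl H)]; infer_instance
  haveI : QuasiCompact (AffinizationKernel.N H).hom := by rw [← Over.w (AffinizationKernel.incl H)]; infer_instance
  exact H19Quot.antiAffine_act_trivial a (AffinizationKernel.incl H ≫ s) x
    (fun T m => by rw [← Category.assoc]; exact hx T _) m y


/-- Over an algebraically closed field k, let G be an algebraic group (a smooth k-group scheme of finite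
type) acting on a variety X (an integral, separated k-scheme of finite type), faithfully in the
sense that every rational point of G acting as the identity of X is the identity element. Then for
every rational point x of X, the isotropy subgroup scheme of x (a closed subgroup scheme of G whose
points are exactly the points of G fixing x) is affine. -/
theorem result (k : Type u) [Field k] [IsAlgClosed k]
    (G X : Over (Spec (CommRingCat.of k))) [GrpObj G] [Smooth G.hom] [QuasiCompact G.hom]
    [LocallyOfFiniteType X.hom] [QuasiCompact X.hom] [IsSeparated X.hom] [IsIntegral X.left]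
    (a : AlgGrp.Action G X)
    (hfaith : ∀ g : 𝟙_ (Over (Spec (CommRingCat.of k))) ⟶ G, lift (toUnit X ≫ g) (𝟙 X) ≫ a.act = 𝟙 X → g = η[G])
    (x : 𝟙_ (Over (Spec (CommRingCat.of k))) ⟶ X) (St : Over (Spec (CommRingCat.of k))) [GrpObj St] (s : St ⟶ G) [IsMonHom s] [IsClosedImmersion s.left]
    (hs : ∀ (T : Over (Spec (CommRingCat.of k))) (g : T ⟶ G), (∃ t : T ⟶ St, t ≫ s = g) ↔ lift g (toUnit T ≫ x) ≫ a.act = toUnit T ≫ x) :
    IsAffine St.left := by
  haveI : IsLocallyNoetherian X.left := LocallyOfFiniteType.isLocallyNoetherian X.hom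
  haveI : IsSeparated G.hom := Groth.Agent.H19Grp.AffineQuotient.isSeparated_of_grp G
  haveI : LocallyOfFiniteType St.hom := by rw [← Over.w s]; infer_instance
  haveI : QuasiCompact St.hom := by rw [← Over.w s]; infer_instance
  haveI : Mono s := Over.mono_of_mono_left _
  refine Groth.Agent.H19Grp.AffineCriteria.isAffine_of_incl_eq_one St ?_
  haveI : IsSeparated St.hom := Groth.Agent.H19Grp.AffineQuotient.isSeparated_of_grp St
  obtain ⟨-, hsm, -⟩ := Groth.Agent.H19Grp.AffinizationKernel.smooth_and_connected St
  haveI := hsm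
  refine Groth.Agent.H19Grp.PointsDense.hom_eq (K := k) _ _ fun w => ?_
  let e : 𝟙_ (Over (Spec (CommRingCat.of k))) ⟶ Over.mk (Spec.map (CommRingCat.ofHom (algebraMap k k))) :=
    Over.homMk (𝟙 _) (by simp)
  let e' : Over.mk (Spec.map (CommRingCat.ofHom (algebraMap k k))) ⟶ 𝟙_ (Over (Spec (CommRingCat.of k))) := toUnit _
  have he : e' ≫ e = 𝟙 _ := Over.OverMorphism.ext (by simp [e, e'])
  have h1 : ((e ≫ w) ≫ Groth.Agent.H19Grp.AffinizationKernel.incl St) ≫ s = η[G] := by
    refine hfaith _ ?_
    have h := incl_act a x s (fun T g => (hs T _).1 ⟨g, rfl⟩) (toUnit X ≫ e ≫ w) (𝟙 X)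
    simpa only [Category.assoc] using h
  have h2 : (e ≫ w) ≫ Groth.Agent.H19Grp.AffinizationKernel.incl St = η[St] := by
    rw [← cancel_mono s, h1, IsMonHom.one_hom]
  rw [MonObj.comp_one, ← Category.id_comp w, ← he, Category.assoc, Category.assoc, ← Category.assoc e, h2,
    Hom.one_def, toUnit_unique e' (toUnit _)]

end Groth.Agent.S11410
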