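import Groth.Statements.S11411
import Groth.Agent.H19Grp.AntiAffineGroup
import Groth.Agent.H19Grp.QuotientDesc
import Groth.Agent.H19Grp.Kernel

set_option autoImplicit false
set_option maxHeartbeats 1000000
set_option synthInstance.maxHeartbeats 100000
set_option linter.style.haveILetI false
set_option backward.isDefEq.respectTransparency false
universe u
open CategoryTheory MonoidalCategory CartesianMonoidalCategory MonObj GrpObj AlgebraicGeometry CategoryTheory.Limits
open AlgGrp

namespace Groth.Agent.S11411

/-- Over an algebraically closed field k, let G be an algebraic group (a smooth k-group scheme of finite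
type) and N the kernel of the canonical morphism ρ : G → Spec O(G), i.e. the fibre of ρ over the
image of the unit. Then N is the smallest normal subgroup scheme of G with affine quotient: for
every closed normal subgroup scheme H of G with a flat surjective homomorphism G → Q of k-group
schemes of finite type with kernel H and Q affine, the inclusion of N factors through H. And N is
the largest anti-affine subgroup scheme: every homomorphism and closed immersion into G from a
k-group scheme whose only global functions are the constants factors through N. (The published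
statement also asserts O(N) = k, that N is a connected algebraic group central in G⁰, and O(G/N) =
O(G) finitely generated; those parts are not restated here.) -/
theorem result (k : Type u) [Field k] [IsAlgClosed k]
    (G : Over (Spec (CommRingCat.of k))) [GrpObj G] [Smooth G.hom] [QuasiCompact G.hom] :
    (∀ (H Q : Over (Spec (CommRingCat.of k))) [GrpObj H] [GrpObj Q] (h : H ⟶ G) [IsMonHom h] [IsClosedImmersion h.left]
        [LocallyOfFiniteType Q.hom] [QuasiCompact Q.hom] (q : G ⟶ Q) [IsMonHom q] [Surjective q.left] [Flat q.left],
        AlgGrp.IsKernel h q → IsAffine Q.left →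
        ∃ f : pullback G.left.toSpecΓ (η[G].left ≫ G.left.toSpecΓ) ⟶ H.left, f ≫ h.left = pullback.fst G.left.toSpecΓ (η[G].left ≫ G.left.toSpecΓ)) ∧
    (∀ (M : Over (Spec (CommRingCat.of k))) [GrpObj M] (j : M ⟶ G) [IsMonHom j] [IsClosedImmersion j.left],
        Function.Bijective ((Scheme.ΓSpecIso (CommRingCat.of k)).inv ≫ M.hom.appTop).hom →
        ∃ f : M.left ⟶ pullback G.left.toSpecΓ (η[G].left ≫ G.left.toSpecΓ), f ≫ pullback.fst G.left.toSpecΓ (η[G].left ≫ G.left.toSpecΓ) = j.left) := by
  obtain ⟨gN, hj⟩ := Groth.Agent.H19Grp.AffinizationKernel.exists_grpObj G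
  haveI : IsIso (Groth.Agent.H19Grp.AffinizationKernel.N G).hom.appTop :=
    (Groth.Agent.H19Grp.AffinizationKernel.smooth_and_connected G).1
  haveI : LocallyOfFiniteType (Groth.Agent.H19Grp.AffinizationKernel.N G).hom := by
    rw [← Over.w (Groth.Agent.H19Grp.AffinizationKernel.incl G)]; infer_instance
  haveI : QuasiCompact (Groth.Agent.H19Grp.AffinizationKernel.N G).hom := by
    rw [← Over.w (Groth.Agent.H19Grp.AffinizationKernel.incl G)]; infer_instance
  refine ⟨?_, ?_⟩
  · intro H Q _ _ h _ _ _ _ q _ _ _ hker hQ
    haveI := hQ
    haveI := hj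
    have h1 : Groth.Agent.H19Grp.AffinizationKernel.incl G ≫ q = 1 :=
      Groth.Agent.H19Grp.AntiAffineGroup.eq_one_of_isAffine _ (IsMonHom.one_hom _)
    obtain ⟨y, hy⟩ := Groth.Agent.H19Grp.kernel_lift hker _ h1
    exact ⟨y.left, congrArg (·.left) hy⟩
  · intro M _ j _ _ hM
    haveI : IsIso M.hom.appTop := (Groth.Agent.H19Grp.AntiAffine.isIso_appTop_iff M.hom).mpr hM
    haveI : IsAffine (𝟙_ (Over (Spec (CommRingCat.of k)))).left := inferInstanceAs (IsAffine (Spec _))
    obtain ⟨c, hc⟩ := Groth.Agent.H19Grp.AntiAffineSmooth.exists_eq_toUnit (j ≫ Groth.Agent.H19Grp.Affinization.rho G)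
    have hc' : c = η[G] ≫ Groth.Agent.H19Grp.Affinization.rho G := by
      have := congrArg (η[M] ≫ ·) hc
      simp only [← Category.assoc, IsMonHom.one_hom j] at this
      rw [toUnit_unique (η[M] ≫ toUnit M) (𝟙 _), Category.id_comp] at this
      exact this.symm
    obtain ⟨y, hy⟩ := Groth.Agent.H19Grp.AffinizationKernel.lift_rho G j (hc.trans (by rw [hc']))
    exact ⟨y.left, congrArg (·.left) hy⟩

end Groth.Agent.S11411
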