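import Groth.Statements.S11412
import Groth.Agent.H19Grp.AntiAffineGroup
import Groth.Agent.H19Grp.QuotientDesc
import Groth.Agent.H19Grp.Kernel

set_option autoImplicit false
set_option maxHeartbeats 1000000
set_option synthInstance.maxHeartbeats 100000
set_option linter.style.haveILetI false
set_option backward.isDefEq.respectTransparency false
universe u
open CategoryTheory MonoidalCategory CartesianMonoidalCategory MonObj GrpObj AlgebraicGeometry CategoryTheory.Limits
open AlgGrp

namespace Groth.Agent.S11412

/-- Over an algebraically closed field k, let G be a k-group scheme of finite type whose only global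
functions are the constants. Then G is reduced, i.e. smooth over k, and for every closed subgroup
scheme H of G and every quotient G/H (a k-scheme X of locally finite type with a G-action and a
rational point o whose orbit map is flat and surjective and identifies G × H with G ×_X G), the only
global functions on X are the constants. (The published statement also records that G is connected
and commutative.) -/
theorem result (k : Type u) [Field k] [IsAlgClosed k]
    (G : Over (Spec (CommRingCat.of k))) [GrpObj G] [LocallyOfFiniteType G.hom] [QuasiCompact G.hom]
    (hG : Function.Bijective ((Scheme.ΓSpecIso (CommRingCat.of k)).inv ≫ G.hom.appTop).hom) :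
    Smooth G.hom ∧
      ∀ (H : Over (Spec (CommRingCat.of k))) [GrpObj H] (h : H ⟶ G) [IsMonHom h] [IsClosedImmersion h.left]
        (X : Over (Spec (CommRingCat.of k))) (a : AlgGrp.Action G X) (o : 𝟙_ (Over (Spec (CommRingCat.of k))) ⟶ X), AGF.IsQuotient h X a o →
        Function.Bijective ((Scheme.ΓSpecIso (CommRingCat.of k)).inv ≫ X.hom.appTop).hom := by
  haveI : IsIso G.hom.appTop := (Groth.Agent.H19Grp.AntiAffine.isIso_appTop_iff G.hom).mpr hG
  refine ⟨Groth.Agent.H19Grp.AntiAffineSmooth.smooth G, ?_⟩
  intro H _ h _ _ X a o hX
  haveI := hX.2.1
  haveI := hX.2.2.1
  exact (Groth.Agent.H19Grp.AntiAffine.isIso_appTop_iff X.hom).mp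
    (Groth.Agent.H19Grp.AntiAffineGroup.isIso_appTop_of_flat_surjective (a.orbitMap o))

end Groth.Agent.S11412
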