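import Groth.Statements.S11413
import Groth.Agent.H19Chev.AntiAffineAlgebraicFp

set_option autoImplicit false
set_option maxHeartbeats 1000000
set_option synthInstance.maxHeartbeats 100000
set_option linter.style.haveILetI false
set_option backward.isDefEq.respectTransparency false
universe u
open CategoryTheory MonoidalCategory CartesianMonoidalCategory MonObj GrpObj AlgebraicGeometry CategoryTheory.Limits
open AlgGrp

namespace Groth.Agent.S11413

/-- Let k be an algebraically closed field of characteristic p > 0 which is algebraic over its prime
field (every element x satisfies x^(p^n) = x for some n ≥ 1), so that k is an algebraic closure of a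
finite field. Over such a field k, anti-affine algebraic groups are abelian varieties: every smooth
k-group scheme of finite type whose only global functions are the constants is proper over k. -/
theorem result (k : Type u) [Field k] [IsAlgClosed k]
    (p : ℕ) [Fact p.Prime] [CharP k p] (halg : ∀ x : k, ∃ n : ℕ, 0 < n ∧ x ^ p ^ n = x)
    (G : Over (Spec (CommRingCat.of k))) [GrpObj G] [Smooth G.hom] [QuasiCompact G.hom]
    (hG : Function.Bijective ((Scheme.ΓSpecIso (CommRingCat.of k)).inv ≫ G.hom.appTop).hom) : IsProper G.hom := by
  haveI : IsIso G.hom.appTop := by
    haveI : IsIso ((Scheme.ΓSpecIso (CommRingCat.of k)).inv ≫ G.hom.appTop) :=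
      (ConcreteCategory.isIso_iff_bijective _).2 hG
    exact IsIso.of_isIso_comp_left (Scheme.ΓSpecIso (CommRingCat.of k)).inv _
  exact Groth.Agent.H19Chev.isProper_of_antiAffine_fixed p halg G

end Groth.Agent.S11413
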