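import Groth.Statements.S11416
import Groth.Agent.H19Quot.GModHom
import Groth.Agent.H19Grp.AffineCriteria
import Groth.Agent.H19Grp.PointsEq

set_option autoImplicit false
set_option maxHeartbeats 1000000
set_option synthInstance.maxHeartbeats 400000
set_option linter.style.haveILetI false
set_option backward.isDefEq.respectTransparency.types false
universe u
open CategoryTheory MonoidalCategory CartesianMonoidalCategory MonObj GrpObj AlgebraicGeometry CategoryTheory.Limits
open AlgGrp CategoryTheory.Limits TensorProduct

namespace Groth.Agent.S11416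

open Groth.Agent.H19Grp in
/-- The group of rational points with values in the field itself. -/
theorem unit_pt {k : Type u} [Field k] (G : Over (Spec (CommRingCat.of k))) [GrpObj G] :
    ∃ (a : 𝟙_ (Over (Spec (CommRingCat.of k))) ⟶ VecGrp.pt k k) (b : VecGrp.pt k k ⟶ 𝟙_ (Over (Spec (CommRingCat.of k)))),
      b ≫ a = 𝟙 _ := by
  refine ⟨Over.homMk (𝟙 _) (by simp), toUnit _, Over.OverMorphism.ext ?_⟩
  simp

variable {k : Type u} [Field k] {M : Type u} [AddCommGroup M] [Module k M]
  {K G : Over (Spec (CommRingCat.of k))} [GrpObj K] [GrpObj G] (l : K ⟶ G) [IsMonHom l]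

/-- Restriction of a module to a stable submodule and along a homomorphism. -/
theorem exists_restrict (m : VecGrp.GMod G M) (N : Submodule k M)
    (hN : ∀ (B : Type u) [CommRing B] [Algebra k B] (g : VecGrp.pt k B ⟶ G) (x : VecGrp.W k M B),
        x ∈ Submodule.baseChange B N → m.ρ B g x ∈ Submodule.baseChange B N) :
    ∃ mN : VecGrp.GMod K N, ∀ (B : Type u) [CommRing B] [Algebra k B] (g : VecGrp.pt k B ⟶ K) (x : VecGrp.W k N B),
      (N.subtype.baseChange B) (mN.ρ B g x) = m.ρ B (g ≫ l) (N.subtype.baseChange B x) := by
  classical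
  have hinj : ∀ (B : Type u) [CommRing B] [Algebra k B], Function.Injective (N.subtype.baseChange B) :=
    fun B _ _ => Module.Flat.lTensor_preserves_injective_linearMap (M := B) _ N.injective_subtype
  have hex : ∀ (B : Type u) [CommRing B] [Algebra k B] (g : VecGrp.pt k B ⟶ K) (x : VecGrp.W k N B),
      ∃ y : VecGrp.W k N B, N.subtype.baseChange B y = m.ρ B (g ≫ l) (N.subtype.baseChange B x) :=
    fun B _ _ g x => by
      have h := hN B (g ≫ l) (N.subtype.baseChange B x) ⟨x, rfl⟩
      obtain ⟨y, hy⟩ := h
      exact ⟨y, hy⟩
  choose r hr using hex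
  let e : ∀ (B : Type u) [CommRing B] [Algebra k B], (VecGrp.pt k B ⟶ K) → (VecGrp.W k N B ≃ₗ[B] VecGrp.W k N B) :=
    fun B _ _ g =>
    { toFun := r B g
      map_add' := fun x y => hinj B (by simp only [map_add, hr])
      map_smul' := fun c x => hinj B (by simp only [map_smul, hr, RingHom.id_apply])
      invFun := r B g⁻¹
      left_inv := fun x => hinj B (by
        rw [hr, hr, ← LinearEquiv.mul_apply, ← map_mul, ← MonObj.mul_comp, inv_mul_cancel, MonObj.one_comp, map_one]
        rfl)
      right_inv := fun x => hinj B (by
        rw [hr, hr, ← LinearEquiv.mul_apply, ← map_mul, ← MonObj.mul_comp, mul_inv_cancel, MonObj.one_comp, map_one]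
        rfl) }
  refine ⟨{
    ρ := fun B _ _ =>
      { toFun := e B
        map_one' := LinearEquiv.ext fun x => hinj B (by
          show N.subtype.baseChange B (r B 1 x) = _
          rw [hr, MonObj.one_comp, map_one]
          rfl)
        map_mul' := fun g h => LinearEquiv.ext fun x => hinj B (by
          show N.subtype.baseChange B (r B (g * h) x) = N.subtype.baseChange B (r B g (r B h x))
          rw [hr, hr, hr, MonObj.mul_comp, map_mul]
          rfl) }
    naturality := ?_ }, fun B _ _ g x => hr B g x⟩
  intro B B' _ _ _ _ φ g x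
  refine hinj B' ?_
  show N.subtype.baseChange B' (VecGrp.Wmap φ (r B g x)) = N.subtype.baseChange B' (r B' (VecGrp.ptMap φ ≫ g) (VecGrp.Wmap φ x))
  rw [hr, ← VecGrp.baseChange_natural, hr, m.naturality, Category.assoc, VecGrp.baseChange_natural]


/-- Over an algebraically closed field k, let G be an algebraic group (a smooth k-group scheme of finite
type) and M a rational G-module, not necessarily finite-dimensional: a k-vector space with a
G-module structure (points of G with values in a k-algebra B act B-linearly on B ⊗ M, naturally in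
B) such that every vector lies in a finite-dimensional subspace N with B ⊗ N stable under all
B-points of G. If the representation is faithful, in the sense that every rational point of G acting
as the identity on M is the identity element, then G is affine. -/
theorem result (k : Type u) [Field k] [IsAlgClosed k]
    (G : Over (Spec (CommRingCat.of k))) [GrpObj G] [Smooth G.hom] [QuasiCompact G.hom]
    (M : Type u) [AddCommGroup M] [Module k M] (m : VecGrp.GMod G M)
    (hlf : ∀ v : M, ∃ N : Submodule k M, v ∈ N ∧ Module.Finite k ↥N ∧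
      ∀ (B : Type u) [CommRing B] [Algebra k B] (g : VecGrp.pt k B ⟶ G) (x : VecGrp.W k M B),
        x ∈ Submodule.baseChange B N → m.ρ B g x ∈ Submodule.baseChange B N)
    (hfaith : ∀ g : VecGrp.pt k k ⟶ G, m.ρ k g = 1 → g = 1) :
    IsAffine G.left := by
  haveI : IsNoetherianRing (CommRingCat.of k) := inferInstanceAs (IsNoetherianRing k)
  haveI : IsLocallyNoetherian G.left := LocallyOfFiniteType.isLocallyNoetherian G.hom
  haveI : IsSeparated G.hom := Groth.Agent.H19Grp.AffineQuotient.isSeparated_of_grp G
  obtain ⟨gM, hl⟩ := Groth.Agent.H19Grp.AffinizationKernel.exists_grpObj G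
  letI := gM
  haveI := hl
  obtain ⟨hiso, hsm, -⟩ := Groth.Agent.H19Grp.AffinizationKernel.smooth_and_connected G
  haveI := hiso; haveI := hsm
  let l := Groth.Agent.H19Grp.AffinizationKernel.incl G
  haveI : IsClosedImmersion l.left := Groth.Agent.H19Grp.AffinizationKernel.isClosedImmersion_incl G
  haveI : QuasiCompact (Groth.Agent.H19Grp.AffinizationKernel.N G).hom := by rw [← Over.w l]; infer_instance
  have hfix : ∀ g : VecGrp.pt k k ⟶ Groth.Agent.H19Grp.AffinizationKernel.N G, g ≫ l = 1 := by
    intro g
    refine hfaith _ (LinearEquiv.ext fun x => ?_)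
    show m.ρ k (g ≫ l) x = x
    induction x using TensorProduct.induction_on with
    | zero => simp
    | tmul c v =>
      obtain ⟨N, hv, hfin, hst⟩ := hlf v
      haveI := hfin
      obtain ⟨mN, hmN⟩ := exists_restrict l m N hst
      have h := hmN k g (c ⊗ₜ ⟨v, hv⟩)
      rw [Groth.Agent.H19Quot.gmod_eq_one mN k g] at h
      simpa using h.symm
    | add x y hx hy => rw [map_add, hx, hy]
  refine Groth.Agent.H19Grp.AffineCriteria.isAffine_of_incl_eq_one G ?_
  refine Groth.Agent.H19Grp.PointsDense.hom_eq (K := k) _ _ fun w => ?_
  rw [MonObj.comp_one]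
  exact hfix w

end Groth.Agent.S11416
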