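import Groth.Statements.S11420
import Groth.Agent.H19Grp.Blanchard
import Groth.Agent.H25AbCube.AlgEquiv

set_option autoImplicit false
set_option maxHeartbeats 1000000
set_option synthInstance.maxHeartbeats 100000
set_option linter.style.haveILetI false
set_option backward.isDefEq.respectTransparency false
universe u
open CategoryTheory MonoidalCategory CartesianMonoidalCategory MonObj GrpObj AlgebraicGeometry CategoryTheory.Limits
open AlgGrp

namespace Groth.Agent.S11420

open Groth.Agent.H19Grp

/-- The functions on a product with a proper variety are those of the other factor. -/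
theorem isIso_app_fst {k : Type u} [Field k] (X Y : Over (Spec (CommRingCat.of k))) [IsProper Y.hom]
    [GeometricallyIntegral Y.hom] (U : X.left.Opens) : IsIso ((fst X Y).left.app U) := by
  let t : Y ⟶ 𝟙_ _ := toUnit Y
  haveI : IsProper t.left := inferInstanceAs (IsProper Y.hom)
  have ht : ∀ V : (𝟙_ (Over (Spec (CommRingCat.of k)))).left.Opens, IsIso (t.left.app V) := by
    intro V
    show IsIso (Y.hom.app (show (Spec (CommRingCat.of k)).Opens from V))
    generalize (show (Spec (CommRingCat.of k)).Opens from V) = V
    have hV : V = ⊥ ∨ V = ⊤ := by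
      rcases Set.eq_empty_or_nonempty (V : Set (Spec (CommRingCat.of k))) with h | ⟨x, hx⟩
      · exact Or.inl (TopologicalSpace.Opens.ext h)
      · exact Or.inr (top_unique fun z _ => Subsingleton.elim (α := PrimeSpectrum k) x z ▸ hx)
    rcases hV with rfl | rfl
    · refine (ConcreteCategory.isIso_iff_bijective _).2 ⟨fun _ _ _ => Subsingleton.elim _ _, fun z => ⟨0, ?_⟩⟩
      haveI : Subsingleton Γ(Y.left, Y.hom ⁻¹ᵁ ⊥) := inferInstanceAs (Subsingleton Γ(Y.left, ⊥))
      exact Subsingleton.elim _ _
    · exact (ConcreteCategory.isIso_iff_bijective _).2 (Groth.Agent.H25Rig.bijective_appTop Y.hom)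
  rw [Scheme.Hom.congr_app (show (fst X Y).left = (X ◁ t).left ≫ (ρ_ X).hom.left by
    rw [← Over.comp_left, rightUnitor_hom, whiskerLeft_fst]) U, Scheme.Hom.comp_app]
  haveI := (ConcreteCategory.isIso_iff_bijective _).2
    (Blanchard.bijective_app_whisker t ht X ((ρ_ X).hom.left ⁻¹ᵁ U))
  infer_instance

/-- Blanchard for a projection of a product. -/
theorem exists_action_fst {k : Type u} [Field k] {G : Over (Spec (CommRingCat.of k))} [GrpObj G]
    [LocallyOfFiniteType G.hom] [ConnectedSpace G.left] {X Z : Over (Spec (CommRingCat.of k))}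
    [LocallyOfFiniteType Z.hom] (f : X ⟶ Z) [IsProper f.left] (hf : ∀ U, IsIso (f.left.app U))
    (a : AlgGrp.Action G X) : ∃ b : AlgGrp.Action G Z, (G ◁ f) ≫ b.act = a.act ≫ f ∧
      ∀ b' : AlgGrp.Action G Z, (G ◁ f) ≫ b'.act = a.act ≫ f → b' = b := by
  haveI : IsLocallyNoetherian Z.left := LocallyOfFiniteType.isLocallyNoetherian Z.hom
  haveI := (Groth.Agent.S2431.result f.left hf).2
  obtain ⟨b, hb⟩ := Blanchard.exists_action f hf a (Blanchard.const_of_field_points f a
    fun K _ _ s g x₁ x₂ hx => Blanchard.eq_of_connected f a s g x₁ x₂ hx)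
  exact ⟨b, hb, fun b' hb' => Blanchard.unique_action f hf (hb'.trans hb.symm)⟩


/-- Over an algebraically closed field k, let X and Y be complete varieties (proper, integral, separated
k-schemes of finite type) and let a connected k-group scheme of finite type G act on X × Y. Then
there are unique actions of G on X and on Y such that the given action is the product action g·(x,
y) = (g·x, g·y). (This is the form, for actions of connected group schemes, of the identification of
the neutral component of the automorphism group scheme of X × Y with the product of those of X and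
Y; the representability of these group schemes is not asserted here.) -/
theorem result (k : Type u) [Field k] [IsAlgClosed k]
    (G X Y : Over (Spec (CommRingCat.of k))) [GrpObj G] [LocallyOfFiniteType G.hom] [QuasiCompact G.hom] [ConnectedSpace ↥G.left]
    [IsProper X.hom] [IsIntegral X.left]
    [IsProper Y.hom] [IsIntegral Y.left]
    (a : AlgGrp.Action G (X ⊗ Y)) :
    ∃ (b : AlgGrp.Action G X) (c : AlgGrp.Action G Y),
      a.act = lift ((G ◁ fst X Y) ≫ b.act) ((G ◁ snd X Y) ≫ c.act) ∧
      ∀ (b' : AlgGrp.Action G X) (c' : AlgGrp.Action G Y),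
        a.act = lift ((G ◁ fst X Y) ≫ b'.act) ((G ◁ snd X Y) ≫ c'.act) → b' = b ∧ c' = c := by
  haveI : GeometricallyIntegral X.hom := Groth.Agent.H25AbCube.geometricallyIntegral_of_isIntegral X
  haveI : GeometricallyIntegral Y.hom := Groth.Agent.H25AbCube.geometricallyIntegral_of_isIntegral Y
  haveI : IsProper (fst X Y).left := MorphismProperty.pullback_fst (P := @IsProper) X.hom Y.hom inferInstance
  haveI : IsProper (snd X Y).left := MorphismProperty.pullback_snd (P := @IsProper) X.hom Y.hom inferInstance
  have hs : ∀ U, IsIso ((snd X Y).left.app U) := by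
    intro U
    rw [Scheme.Hom.congr_app (show (snd X Y).left = (β_ X Y).hom.left ≫ (fst Y X).left by
      rw [← Over.comp_left, CartesianMonoidalCategory.braiding_hom_fst X Y]) U, Scheme.Hom.comp_app]
    haveI := isIso_app_fst Y X U
    infer_instance
  obtain ⟨b, hb, hbu⟩ := exists_action_fst (fst X Y) (isIso_app_fst X Y) a
  obtain ⟨c, hc, hcu⟩ := exists_action_fst (snd X Y) hs a
  refine ⟨b, c, CartesianMonoidalCategory.hom_ext _ _ (by rw [lift_fst, hb]) (by rw [lift_snd, hc]),
    fun b' c' h => ⟨hbu b' ?_, hcu c' ?_⟩⟩
  · rw [h, lift_fst]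
  · rw [h, lift_snd]

end Groth.Agent.S11420
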