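import Groth.Statements.S11421
import Groth.Agent.H19Grp.AntiAffineGroup
import Groth.Agent.H19Grp.QuotientDesc
import Groth.Agent.H19Grp.Kernel

set_option autoImplicit false
set_option maxHeartbeats 1000000
set_option synthInstance.maxHeartbeats 100000
set_option linter.style.haveILetI false
set_option backward.isDefEq.respectTransparency false
universe u
open CategoryTheory MonoidalCategory CartesianMonoidalCategory MonObj GrpObj AlgebraicGeometry CategoryTheory.Limits
open AlgGrp

namespace Groth.Agent.S11421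

/-- Over an algebraically closed field k, let G be an algebraic group (smooth k-group scheme of finite
type) whose only global functions are the constants, H a connected algebraic group, S a connected
k-scheme of finite type and f : G × S → H a morphism of k-schemes. Then there are a unique
k-morphism φ : S → H and a unique homomorphism ψ : G → H with f(g, s) = φ(s) · ψ(g) on points. (This
is the decomposition, over a connected base, behind the identification of the functor of morphisms
from G to H with H × Hom_gp(G, H); the published statement is the equivalence of representability of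
that functor with anti-affineness of G, whose converse direction is not stated here.) -/
theorem result (k : Type u) [Field k] [IsAlgClosed k]
    (G H S : Over (Spec (CommRingCat.of k))) [GrpObj G] [Smooth G.hom] [QuasiCompact G.hom]
    (hG : Function.Bijective ((Scheme.ΓSpecIso (CommRingCat.of k)).inv ≫ G.hom.appTop).hom)
    [GrpObj H] [Smooth H.hom] [QuasiCompact H.hom] [ConnectedSpace ↥H.left]
    [LocallyOfFiniteType S.hom] [QuasiCompact S.hom] [ConnectedSpace ↥S.left]
    (f : G ⊗ S ⟶ H) :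
    ∃ (φ : S ⟶ H) (ψ : G ⟶ H), IsMonHom ψ ∧ f = (snd G S ≫ φ) * (fst G S ≫ ψ) ∧
      ∀ (φ' : S ⟶ H) (ψ' : G ⟶ H), IsMonHom ψ' → f = (snd G S ≫ φ') * (fst G S ≫ ψ') → φ' = φ ∧ ψ' = ψ := by
  haveI : IsIso G.hom.appTop := (Groth.Agent.H19Grp.AntiAffine.isIso_appTop_iff G.hom).mpr hG
  haveI := LocallyOfFiniteType.jacobsonSpace S.hom
  obtain ⟨z, -, hz⟩ := nonempty_inter_closedPoints (Z := (Set.univ : Set S.left)) Set.univ_nonempty isClosed_univ.isLocallyClosed
  obtain ⟨b, -⟩ := (pointEquivClosedPoint S.hom).surjective ⟨z, hz⟩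
  let s₀ : 𝟙_ (Over (Spec (CommRingCat.of k))) ⟶ S := Over.homMk b.1 b.2
  haveI := Groth.Agent.H19Grp.PointsDense.isSeparated_grp H
  let φ : S ⟶ H := lift (toUnit S ≫ η[G]) (𝟙 S) ≫ f
  have hφ : ∀ {T : Over (Spec (CommRingCat.of k))} (s : T ⟶ S), s ≫ φ = lift (toUnit T ≫ η[G]) s ≫ f := fun {T} s => by
    simp only [φ, ← Category.assoc, comp_lift, Category.comp_id, toUnit_unique (s ≫ toUnit S) (toUnit T)]
  let ψ : G ⟶ H := (toUnit G ≫ s₀ ≫ φ)⁻¹ * (lift (𝟙 G) (toUnit G ≫ s₀) ≫ f)
  have hψ : ∀ {T : Over (Spec (CommRingCat.of k))} (g : T ⟶ G),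
      g ≫ ψ = (toUnit T ≫ s₀ ≫ φ)⁻¹ * (lift g (toUnit T ≫ s₀) ≫ f) := fun {T} g => by
    simp only [ψ, MonObj.comp_mul, GrpObj.comp_inv, ← Category.assoc, comp_lift, Category.comp_id,
      toUnit_unique (g ≫ toUnit G) (toUnit T)]
  have hψ1 : η[G] ≫ ψ = η[H] := by
    rw [hψ, ← Category.assoc, hφ, toUnit_unique (toUnit (𝟙_ (Over (Spec (CommRingCat.of k))))) (𝟙 _), Category.id_comp,
      Category.id_comp, inv_mul_cancel, Hom.one_def, toUnit_unique (toUnit (𝟙_ (Over (Spec (CommRingCat.of k))))) (𝟙 _),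
      Category.id_comp]
  haveI := Groth.Agent.H19Grp.AntiAffineGroup.isMonHom_of_one_hom ψ hψ1
  let F : G ⊗ S ⟶ H := (snd G S ≫ φ)⁻¹ * f * (fst G S ≫ ψ)⁻¹
  have hF : ∀ {T : Over (Spec (CommRingCat.of k))} (g : T ⟶ G) (s : T ⟶ S),
      lift g s ≫ F = (s ≫ φ)⁻¹ * (lift g s ≫ f) * (g ≫ ψ)⁻¹ := fun g s => by
    simp only [F, MonObj.comp_mul, GrpObj.comp_inv, lift_fst_assoc, lift_snd_assoc]
  have hone : ∀ T : Over (Spec (CommRingCat.of k)), (1 : T ⟶ G) ≫ ψ = 1 := fun T => MonObj.one_comp ψ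
  have key := Groth.Agent.H19Grp.AntiAffineGroup.pt_eq η[G] s₀ η[H] F (fun {T} g => by
    rw [hF, hψ, Category.assoc, _root_.mul_inv_rev, _root_.inv_inv]
    rw [← _root_.mul_assoc, mul_inv_cancel_right, inv_mul_cancel, Hom.one_def]) (fst G S) (snd G S)
  rw [hF, hF, ← Hom.one_def, hone, inv_one, _root_.mul_one, hφ, ← Hom.one_def, inv_mul_cancel, lift_fst_snd,
    Category.id_comp, mul_inv_eq_one, inv_mul_eq_iff_eq_mul] at key
  refine ⟨φ, ψ, inferInstance, ?_, ?_⟩
  · rw [key, hφ, ← Hom.one_def]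
  · intro φ' ψ' hψ' he
    haveI := hψ'
    have e : ∀ {T : Over (Spec (CommRingCat.of k))} (g : T ⟶ G) (s : T ⟶ S), lift g s ≫ f = (s ≫ φ') * (g ≫ ψ') := fun g s => by
      simp only [he, MonObj.comp_mul, lift_fst_assoc, lift_snd_assoc]
    have h1 : φ' = φ := by
      show _ = lift (toUnit S ≫ η[G]) (𝟙 S) ≫ f
      rw [e, Category.id_comp, ← Hom.one_def, MonObj.one_comp, _root_.mul_one]
    refine ⟨h1, ?_⟩
    have h2 := hψ (𝟙 G)
    rw [Category.id_comp, e, Category.id_comp, h1, Category.assoc, inv_mul_cancel_left] at h2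
    exact h2.symm

end Groth.Agent.S11421
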