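import Groth.Statements.S11424
import Groth.Agent.H19Grp.KernelSquare
import Groth.Agent.H19Quot.Generic
import Groth.Agent.H18Descent.Basic

set_option autoImplicit false
set_option maxHeartbeats 1000000
set_option synthInstance.maxHeartbeats 100000
set_option linter.style.haveILetI false
set_option backward.isDefEq.respectTransparency false
universe u
open CategoryTheory MonoidalCategory CartesianMonoidalCategory MonObj GrpObj AlgebraicGeometry CategoryTheory.Limits
open AlgGrp CategoryTheory.Limits

namespace Groth.Agent.S11424

/-- Over an algebraically closed field k, let G be an algebraic group (a smooth k-group scheme of finite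
type), h : H → G a smooth affine closed normal subgroup, and q : G → Q a flat surjective
homomorphism of k-group schemes of finite type with kernel h (so Q = G/H). Then the quotient
morphism q is affine. (The published statement is the equivalence between affineness of G and of
both H and G/H; this row states that the quotient morphism G → G/H is affine.) -/
theorem result (k : Type u) [Field k] [IsAlgClosed k]
    (G H Q : Over (Spec (CommRingCat.of k))) [GrpObj G] [Smooth G.hom] [QuasiCompact G.hom]
    [GrpObj H] (h : H ⟶ G) [IsMonHom h] [IsClosedImmersion h.left] [Smooth H.hom] [IsAffine H.left]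
    [GrpObj Q] [LocallyOfFiniteType Q.hom] [QuasiCompact Q.hom]
    (q : G ⟶ Q) [IsMonHom q] [Surjective q.left] [Flat q.left] (hk : AlgGrp.IsKernel h q) :
    IsAffineHom q.left := by
  haveI : IsNoetherianRing (CommRingCat.of k) := inferInstanceAs (IsNoetherianRing k)
  haveI : IsLocallyNoetherian Q.left := LocallyOfFiniteType.isLocallyNoetherian Q.hom
  haveI : LocallyOfFiniteType (q.left ≫ Q.hom) := by rw [Over.w q]; infer_instance
  haveI : LocallyOfFiniteType q.left := locallyOfFiniteType_of_comp q.left Q.hom
  haveI : LocallyOfFinitePresentation q.left := inferInstance
  have sq := (H19Grp.isPullback_kernel q h hk).map (Over.forget _)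
  haveI : IsAffineHom H.hom := by
    rw [HasAffineProperty.iff_of_isAffine (P := @IsAffineHom)]
    infer_instance
  have hf : IsAffineHom (fst G H).left := MorphismProperty.pullback_fst (P := @IsAffineHom) G.hom H.hom ‹_›
  exact MorphismProperty.of_isPullback_of_descendsAlong (P := @IsAffineHom) (Q := H12AlgSp.fppfMor.{u}) sq
    ⟨⟨‹Surjective q.left›, ‹Flat q.left›⟩, ‹LocallyOfFinitePresentation q.left›⟩ hf

end Groth.Agent.S11424
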