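import Groth.Statements.S1143
import Mathlib
import Groth.Agent.H11NormSplit.Core
import Groth.Agent.S2748

set_option autoImplicit false
universe u
open Pi1

namespace Groth.Agent.S1143

open AlgebraicGeometry CategoryTheory CategoryTheory.Limits
open scoped TensorProduct

/-- An algebra over a field all of whose points are rational is split. -/
theorem exists_algEquiv_pi_of_points (L E : Type u) [Field L] [CommRing E] [Algebra L E] [IsArtinianRing E]
    [IsReduced E] (h : ∀ m : MaximalSpectrum E, ∃ χ : E →ₐ[L] L, RingHom.ker χ = m.asIdeal) :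
    Nonempty (E ≃ₐ[L] (MaximalSpectrum E → L)) := by
  have hbij : ∀ m : MaximalSpectrum E, Function.Bijective (Algebra.ofId L (E ⧸ m.asIdeal)) := fun m => by
    haveI := m.isMaximal
    refine ⟨(Algebra.ofId L (E ⧸ m.asIdeal)).toRingHom.injective, fun q => ?_⟩
    obtain ⟨z, rfl⟩ := Ideal.Quotient.mk_surjective q
    obtain ⟨χ, hχ⟩ := h m
    refine ⟨χ z, ?_⟩
    rw [Algebra.ofId_apply, IsScalarTower.algebraMap_apply L E (E ⧸ m.asIdeal),
      Ideal.Quotient.algebraMap_eq, Ideal.Quotient.eq, ← hχ, RingHom.mem_ker]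
    simp
  exact ⟨((IsArtinianRing.equivPi E).restrictScalars L).trans
    (AlgEquiv.piCongrRight fun m => (AlgEquiv.ofBijective _ (hbij m)).symm)⟩

theorem result (A : Type u) [CommRing A] [IsDomain A]
    [IsLocalRing A] [IsIntegrallyClosed A] (R : Type u) [CommRing R] [IsLocalRing R] [Algebra A R] [IsLocalHom (algebraMap A R)] [Hensel.IsStrictHenselization A R]
    (K L : Type u) [Field K] [Field L] [Algebra A K] [IsFractionRing A K] [Algebra R L] [IsFractionRing R L]
    [Algebra K L] [Algebra A L] [IsScalarTower A K L] [IsScalarTower A R L]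
    (V : FEt.Cat (Spec (CommRingCat.of K)))
    (hV : Pi1.IsSplit ((FEt.restrict (Spec.map (CommRingCat.ofHom (algebraMap K L)))).obj V)) :
    ∃ Y : FEt.Cat (Spec (CommRingCat.of A)),
      Nonempty ((FEt.restrict (Spec.map (CommRingCat.ofHom (algebraMap A K)))).obj Y ≅ V) := by
  obtain ⟨k, _, _, _, _, _, π, hπ⟩ := H9Hens.exists_isPtColim_of_isStrictHenselization (R := A) R
  obtain ⟨hRdom, hRnormal⟩ := (S2748.result A R).2 ⟨inferInstance, inferInstance⟩
  haveI := hπ.flat
  haveI : Module.FaithfullyFlat A R := Module.FaithfullyFlat.of_flat_of_isLocalHom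
  let p : V.left ⟶ Spec (CommRingCat.of K) := V.hom
  haveI : IsFinite p := V.prop.1
  haveI : Etale p := V.prop.2
  haveI : IsAffine V.left := isAffine_of_isAffineHom p
  -- the algebra
  let E := Γ(V.left, ⊤)
  let φ : CommRingCat.of K ⟶ E := (Scheme.ΓSpecIso (CommRingCat.of K)).inv ≫ p.appTop
  letI : Algebra K E := φ.hom.toAlgebra
  letI : Algebra A E := ((algebraMap K E).comp (algebraMap A K)).toAlgebra
  haveI : IsScalarTower A K E := .of_algebraMap_eq fun _ => rfl
  have hw : V.left.isoSpec.inv ≫ p = Spec.map φ := by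
    rw [Iso.inv_comp_eq, Spec.map_comp, show V.left.isoSpec.hom = V.left.toSpecΓ from rfl,
      ← Category.assoc, ← Scheme.toSpecΓ_naturality, Category.assoc, toSpecΓ_SpecMap_ΓSpecIso_inv,
      Category.comp_id]
  have hprop : (FEt.prop.{u}) (Spec.map φ) := by
    rw [← hw]
    exact MorphismProperty.RespectsIso.precomp (P := FEt.prop.{u}) _ _ V.prop
  haveI : Module.Finite K E := (IsFinite.SpecMap_iff _).mp hprop.1
  haveI : Algebra.Etale K E := (HasRingHomProperty.Spec_iff (P := @AlgebraicGeometry.Etale)).mp hprop.2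
  haveI : IsReduced E := Algebra.FormallyUnramified.isReduced_of_field K E
  -- split
  obtain ⟨ι, _, e, he⟩ := hV
  let E' := L ⊗[K] E
  haveI : Module.Finite L E' := inferInstance
  haveI : IsArtinianRing E' := isArtinian_of_tower L inferInstance
  haveI : IsReduced E' := Algebra.FormallyUnramified.isReduced_of_field L E'
  let q : Spec (CommRingCat.of L) ⟶ Spec (CommRingCat.of K) := Spec.map (CommRingCat.ofHom (algebraMap K L))
  let mp := pullback.map q (Spec.map φ) q p (𝟙 _) V.left.isoSpec.inv (𝟙 _) (by simp) (by simp [hw])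
  haveI : IsIso mp := inferInstance
  let iso : Spec (CommRingCat.of E') ≅ ((FEt.restrict q).obj V).left :=
    (pullbackSpecIso K L E).symm ≪≫
      asIso mp ≪≫
      pullbackSymmetry q p
  have hiso : iso.hom ≫ ((FEt.restrict q).obj V).hom = Spec.map (CommRingCat.ofHom (algebraMap L E')) := by
    show ((pullbackSpecIso K L E).inv ≫ _ ≫ (pullbackSymmetry q p).hom) ≫ pullback.snd p q = _
    simp only [Category.assoc, pullbackSymmetry_hom_comp_snd, asIso_hom, mp, pullback.map,
      pullback.lift_fst, Category.comp_id]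
    exact pullbackSpecIso_inv_fst K L E
  obtain ⟨Ψ⟩ := exists_algEquiv_pi_of_points L E' fun m => by
    haveI := m.isMaximal
    obtain ⟨⟨i, z⟩, hz⟩ := (sigmaMk (fun _ : ι => Spec (CommRingCat.of L))).surjective
      (e.hom.base (iso.hom.base ⟨m.asIdeal, inferInstance⟩))
    let σ : Spec (CommRingCat.of L) ⟶ Spec (CommRingCat.of E') :=
      Sigma.ι (fun _ : ι => Spec (CommRingCat.of L)) i ≫ e.inv ≫ iso.inv
    have hσ : σ ≫ Spec.map (CommRingCat.ofHom (algebraMap L E')) = 𝟙 _ := by
      rw [← hiso]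
      simp only [σ, Category.assoc, Iso.inv_hom_id_assoc]
      exact he i
    obtain ⟨χ, hχ⟩ := Spec.map_surjective σ
    have hχL : CommRingCat.ofHom (algebraMap L E') ≫ χ = 𝟙 _ :=
      Spec.map_injective (by rw [Spec.map_comp, hχ, hσ, Spec.map_id])
    refine ⟨{ χ.hom with commutes' := fun l => congr($hχL l) }, ?_⟩
    have hpt : σ.base z = (⟨m.asIdeal, inferInstance⟩ : PrimeSpectrum E') := by
      simp only [σ, Scheme.Hom.comp_base, TopCat.comp_app]
      rw [sigmaMk_mk] at hz
      erw [hz]
      simp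
    rw [← hχ] at hpt
    have hz0 : (z : PrimeSpectrum L).asIdeal = ⊥ :=
      Ideal.eq_bot_of_prime (I := (z : PrimeSpectrum L).asIdeal)
    have := congrArg PrimeSpectrum.asIdeal hpt
    change Ideal.comap χ.hom _ = _ at this
    rw [hz0] at this
    exact this
  haveI : Finite (MaximalSpectrum E') := inferInstance
  obtain ⟨hfin, het⟩ := H11NormSplit.finite_etale (A := A) (R := R) (K := K) (L := L) (E := E) hπ Ψ
  -- the cover
  let B := integralClosure A E
  let b : Spec (CommRingCat.of B) ⟶ Spec (CommRingCat.of A) := Spec.map (CommRingCat.ofHom (algebraMap A B))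
  have hb : (FEt.prop.{u}) b :=
    ⟨(IsFinite.SpecMap_iff _).mpr (RingHom.finite_algebraMap.mpr hfin),
      (HasRingHomProperty.Spec_iff (P := @AlgebraicGeometry.Etale)).mpr (RingHom.etale_algebraMap.mpr het)⟩
  haveI : IsLocalization ((nonZeroDivisors A).map (algebraMap A B)) E := by
    refine (isLocalization_iff _ _).mpr ⟨?_, ?_, ?_⟩
    · rintro ⟨_, a, ha, rfl⟩
      exact ((H11NormSplit.algebraMap_ne_zero (K := K) (nonZeroDivisors.ne_zero ha)).isUnit.map (algebraMap K E))
    · intro z
      obtain ⟨⟨a, ha⟩, hz⟩ :=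
        (Algebra.IsIntegral.isIntegral (R := K) z).exists_multiple_integral_of_isLocalization
          (nonZeroDivisors A) z
      refine ⟨⟨⟨_, hz⟩, ⟨_, a, ha, rfl⟩⟩, ?_⟩
      show z * algebraMap A E a = a • z
      rw [Algebra.smul_def, mul_comm]
    · intro x y h
      exact ⟨1, by rw [Subtype.coe_injective h]⟩
  let Y : FEt.Cat (Spec (CommRingCat.of A)) := MorphismProperty.Over.mk _ b hb
  have hpo := CommRingCat.isPushout_of_isLocalization (Rₘ := K) (Sₘ := E) (algebraMap A B) (algebraMap K E)
    (RingHom.ext fun _ => rfl) (nonZeroDivisors A)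
  have hpb : IsPullback (Spec.map (CommRingCat.ofHom B.val.toRingHom)) (Spec.map φ) b
      (Spec.map (CommRingCat.ofHom (algebraMap A K))) :=
    isPullback_SpecMap_of_isPushout _ _ _ _ hpo
  refine ⟨Y, ⟨MorphismProperty.Over.isoMk (hpb.isoPullback.symm ≪≫ V.left.isoSpec.symm) ?_⟩⟩
  show (hpb.isoPullback.inv ≫ V.left.isoSpec.inv) ≫ V.hom = pullback.snd b _
  rw [Category.assoc]
  erw [hw]
  exact hpb.isoPullback_inv_snd

end Groth.Agent.S1143
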