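import Groth.Statements.S11431
import Groth.Agent.H20LRQ.Affine
-- import your own Groth.Agent.* helpers here

set_option autoImplicit false
set_option backward.isDefEq.respectTransparency false
universe u
open CategoryTheory MonoidalCategory CartesianMonoidalCategory MonObj GrpObj AlgebraicGeometry Topology
open GIT

namespace Groth.Agent.S11431

/-- Let k be a field of characteristic zero, G a connected reductive algebraic group over k and σ an
action of G on an affine scheme X over k. Then there are an affine scheme Y over k and an invariant
φ : X → Y identifying Γ(Y, O_Y) with the ring of invariant global functions on X, such that (Y, φ)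
is a universal categorical quotient of X by G and φ is universally submersive; moreover Y is
Noetherian if X is, and Y is of finite type over k if X is. (The published statement covers every
characteristic, with a uniform categorical quotient in positive characteristic, and any reductive G;
this row is the characteristic-zero case with G connected, where reductive groups are linearly
reductive.) -/
theorem result (k : Type u) [Field k] [CharZero k]
    (G X : Over (Spec (CommRingCat.of k))) [GrpObj G] (hG : Red.IsReductive G) [IsAffine X.left]
    (a : AlgGrp.Action G X) :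
    ∃ (Y : Over (Spec (CommRingCat.of k))) (φ : X ⟶ Y), IsAffine Y.left ∧
      Function.Injective φ.left.appTop ∧
      Set.range φ.left.appTop = {f : Γ(X.left, ⊤) | a.act.left.appTop f = (snd G X).left.appTop f} ∧
      GIT.IsUnivCatQuot a φ ∧ GIT.IsUnivSubmersive φ.left ∧
      (IsNoetherian X.left → IsNoetherian Y.left) ∧
      (LocallyOfFiniteType X.hom → LocallyOfFiniteType Y.hom) := by
  haveI : IsAffine G.left := by
    haveI := hG.1
    exact isAffine_of_isAffineHom G.hom
  obtain ⟨A, _, _, v, _, _⟩ := Groth.Agent.H20LRQ.exists_grp_model G
  obtain ⟨B, _, _, ⟨u⟩⟩ := Groth.Agent.H20LRQ.exists_affine_model X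
  obtain ⟨c, hc, hr⟩ := Groth.Agent.H20LRQ.exists_coaction_of_action a v u
  letI := c
  haveI := hc
  obtain ⟨α, hα, h1⟩ := Groth.Agent.H20Comod.isLinearlyReductive_iff_exists_isIntegral.1
    (Groth.Agent.H20Red.isLinearlyReductive_of_iso_isReductive hG v)
  have hC : Groth.Agent.H20LRQ.IsInvRing k A B (GLin.invariants k A B) :=
    Groth.Agent.H20LRQ.isInvRing_invariants
  refine ⟨CoactBr.sp k (GLin.invariants k A B), Groth.Agent.H20LRQ.quotMap u, inferInstanceAs (IsAffine (Spec _)),
    Groth.Agent.H20LRQ.injective_appTop_quotMap u hC, Groth.Agent.H20LRQ.range_appTop_quotMap a v u hr hC,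
    Groth.Agent.H20LRQ.isUnivCatQuot_quotMap a v u hr hC hα h1, ?_, fun h => ?_, fun h => ?_⟩
  · haveI : IsIso u.hom.left := inferInstanceAs (IsIso ((Over.forget _).map u.hom))
    exact (MorphismProperty.cancel_left_of_respectsIso
      (MorphismProperty.universally (topologically @IsQuotientMap)) u.hom.left _).2
      (Groth.Agent.H20LRQ.isUnivSubmersive_specMap hC hα h1)
  · haveI := h
    haveI : IsIso u.inv.left := inferInstanceAs (IsIso ((Over.forget _).map u.inv))
    haveI : IsLocallyNoetherian (Spec (CommRingCat.of B)) := isLocallyNoetherian_of_isOpenImmersion u.inv.left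
    haveI : IsNoetherian (Spec (CommRingCat.of B)) := {}
    haveI : IsNoetherianRing B := (isNoetherian_Spec (R := CommRingCat.of B)).1 inferInstance
    haveI := Groth.Agent.H20Comod.isNoetherianRing_invariants (R := B) hα h1
    exact (isNoetherian_Spec (R := CommRingCat.of (GLin.invariants k A B))).2 inferInstance
  · haveI := h
    haveI : IsIso u.inv.left := inferInstanceAs (IsIso ((Over.forget _).map u.inv))
    have hB : LocallyOfFiniteType (Spec.map (CommRingCat.ofHom (algebraMap k B))) := by
      have : LocallyOfFiniteType (CoactBr.sp k B).hom := by rw [← Over.w u.inv]; infer_instance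
      exact this
    haveI : Algebra.FiniteType k B :=
      RingHom.finiteType_algebraMap.1 ((HasRingHomProperty.Spec_iff (P := @LocallyOfFiniteType)).1 hB)
    obtain ⟨s, hs⟩ := Groth.Agent.H20Comod.exists_finset_invariants_adjoin (R := B) hα h1
    haveI : Algebra.FiniteType k (GLin.invariants k A B) := (Subalgebra.fg_iff_finiteType _).1 ⟨s, hs.symm⟩
    exact (HasRingHomProperty.Spec_iff (P := @LocallyOfFiniteType)).2
      (RingHom.finiteType_algebraMap.2 inferInstance)

end Groth.Agent.S11431
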