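import Groth.Statements.S11432
import Groth.Agent.H20LRQ.Affine
-- import your own Groth.Agent.* helpers here

set_option autoImplicit false
set_option backward.isDefEq.respectTransparency false
universe u
open CategoryTheory MonoidalCategory CartesianMonoidalCategory MonObj GrpObj AlgebraicGeometry Topology
open GIT

namespace Groth.Agent.S11432

/-- Let k be a field of characteristic zero, G a connected reductive algebraic group over k acting on an
affine scheme X over k, and W₁, W₂ disjoint closed invariant subsets of X. Then there is an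
invariant f ∈ Γ(X, O_X) which is 0 at every point of W₁ and 1 at every point of W₂. (The published
statement is for any reductive G in any characteristic; this row is the characteristic-zero case
with G connected.) -/
theorem result (k : Type u) [Field k] [CharZero k]
    (G X : Over (Spec (CommRingCat.of k))) [GrpObj G] (hG : Red.IsReductive G) [IsAffine X.left]
    (a : AlgGrp.Action G X) (W₁ W₂ : Set X.left) (h₁ : IsClosed W₁) (h₂ : IsClosed W₂)
    (hi₁ : a.act.left.base '' ((snd G X).left.base ⁻¹' W₁) ⊆ W₁)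
    (hi₂ : a.act.left.base '' ((snd G X).left.base ⁻¹' W₂) ⊆ W₂) (hd : Disjoint W₁ W₂) :
    ∃ f : Γ(X.left, ⊤), a.act.left.appTop f = (snd G X).left.appTop f ∧
      W₁ ⊆ X.left.zeroLocus (U := ⊤) {f} ∧ W₂ ⊆ X.left.zeroLocus (U := ⊤) {1 - f} := by
  haveI : IsAffine G.left := by
    haveI := hG.1
    exact isAffine_of_isAffineHom G.hom
  obtain ⟨A, _, _, v, _, _⟩ := Groth.Agent.H20LRQ.exists_grp_model G
  obtain ⟨B, _, _, ⟨u⟩⟩ := Groth.Agent.H20LRQ.exists_affine_model X
  obtain ⟨c, hc, hr⟩ := Groth.Agent.H20LRQ.exists_coaction_of_action a v u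
  letI := c
  haveI := hc
  obtain ⟨α, hα, h1⟩ := Groth.Agent.H20Comod.isLinearlyReductive_iff_exists_isIntegral.1
    (Groth.Agent.H20Red.isLinearlyReductive_of_iso_isReductive hG v)
  have hu : Continuous u.inv.left.base := u.inv.left.continuous
  obtain ⟨b, hb, hb₁, hb₂⟩ := Groth.Agent.H20LRQ.exists_invariant_separating (k := k) (A := A) (B := B) hα h1
    (h₁.preimage hu) (h₂.preimage hu) (hd.preimage _)
    (fun P => Groth.Agent.H20LRQ.comap_coact_mem a v u hr hi₁ P)
    (fun P => Groth.Agent.H20LRQ.comap_coact_mem a v u hr hi₂ P)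
  refine ⟨(Groth.Agent.H20LRQ.fnMap u).hom b, (Groth.Agent.H20LRQ.invariant_fn_iff a v u hr b).2 hb, ?_, ?_⟩
  · intro x hx
    exact Groth.Agent.H20LRQ.mem_zeroLocus_fnMap u hb₁ hx
  · intro x hx
    rw [← map_one (Groth.Agent.H20LRQ.fnMap u).hom, ← map_sub]
    exact Groth.Agent.H20LRQ.mem_zeroLocus_fnMap u hb₂ hx

end Groth.Agent.S11432
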