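import Groth.Statements.S11433
import Groth.Agent.H20LRQ.Affine
import Groth.Agent.H20LRQ.Orbit
import Groth.Agent.H20GQ.Univ
import Groth.Agent.H20GQ.Orbit

set_option autoImplicit false
set_option backward.isDefEq.respectTransparency false
universe u
open CategoryTheory MonoidalCategory CartesianMonoidalCategory MonObj GrpObj AlgebraicGeometry Topology
open GIT

namespace Groth.Agent.S11433

open Groth.Agent

theorem transfer_univCatQuot {S : Scheme.{u}} {G X Y Y₀ : Over S} [GrpObj G] {a : AlgGrp.Action G X} {φ : X ⟶ Y}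
    {φ₀ : X ⟶ Y₀} (e : Y ≅ Y₀) (he : φ ≫ e.hom = φ₀) (h : GIT.IsUnivCatQuot a φ₀) (hq : GIT.IsCatQuot a φ) :
    GIT.IsUnivCatQuot a φ := by
  refine ⟨hq, fun X' Y' pr φ' g hg hpb a' ha hi => h.2 pr φ' (g ≫ e.hom) hg ?_ a' ha hi⟩
  refine hpb.of_iso (Iso.refl _) (Iso.refl _) (Iso.refl _) e ?_ ?_ ?_ ?_ <;> simp [he]

/-- Let k be a field of characteristic zero, G a connected reductive algebraic group over k acting on an
affine scheme X over k, and (Y, φ) a categorical quotient of X by G. Then (Y, φ) is a geometric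
quotient exactly when every orbit of a geometric point is closed, and in that case (Y, φ) is even a
universal geometric quotient. (The published statement is for any reductive G, the universal
conclusion being stated in characteristic zero; this row is the characteristic-zero case with G
connected.) -/
theorem result (k : Type u) [Field k] [CharZero k]
    (G X Y : Over (Spec (CommRingCat.of k))) [GrpObj G] (hG : Red.IsReductive G) [IsAffine X.left]
    (a : AlgGrp.Action G X) (φ : X ⟶ Y) (hq : GIT.IsCatQuot a φ) :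
    (GIT.IsGeomQuot a φ ↔ GIT.IsClosedAction a) ∧ (GIT.IsClosedAction a → GIT.IsUnivGeomQuot a φ) := by
  haveI : IsAffine G.left := by
    haveI := hG.1
    exact isAffine_of_isAffineHom G.hom
  obtain ⟨A, _, _, v, _, _⟩ := H20LRQ.exists_grp_model G
  obtain ⟨B, _, _, ⟨u⟩⟩ := H20LRQ.exists_affine_model X
  obtain ⟨c, hc, hr⟩ := H20LRQ.exists_coaction_of_action a v u
  letI := c
  haveI := hc
  obtain ⟨α, hα, h1⟩ := H20Comod.isLinearlyReductive_iff_exists_isIntegral.1
    (H20Red.isLinearlyReductive_of_iso_isReductive hG v)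
  have hC : H20LRQ.IsInvRing k A B (GLin.invariants k A B) := H20LRQ.isInvRing_invariants
  have huq := H20LRQ.isUnivCatQuot_quotMap a v u hr hC hα h1
  obtain ⟨χ, hχ, -⟩ := hq.2 _ _ huq.1.1
  obtain ⟨χ', hχ', -⟩ := huq.1.2 _ φ hq.1
  have e1 : χ ≫ χ' = 𝟙 Y := by
    obtain ⟨m, -, hu⟩ := hq.2 _ φ hq.1
    exact (hu _ (show φ ≫ χ ≫ χ' = φ by rw [reassoc_of% hχ, hχ'])).trans (hu _ (Category.comp_id φ)).symm
  have e2 : χ' ≫ χ = 𝟙 _ := by
    obtain ⟨m, -, hu⟩ := huq.1.2 _ _ huq.1.1
    exact (hu _ (show H20LRQ.quotMap u ≫ χ' ≫ χ = H20LRQ.quotMap u by rw [reassoc_of% hχ', hχ])).trans (hu _ (Category.comp_id _)).symm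
  let e : Y ≅ _ := ⟨χ, χ', e1, e2⟩
  have hu : GIT.IsUnivCatQuot a φ := transfer_univCatQuot e hχ huq hq
  have hs : GIT.IsUnivSubmersive φ.left := by
    haveI : IsIso χ.left := ((Over.forget _).mapIso e).isIso_hom
    haveI : IsIso u.hom.left := inferInstanceAs (IsIso ((Over.forget _).map u.hom))
    refine (MorphismProperty.cancel_right_of_respectsIso
      (MorphismProperty.universally (topologically @IsQuotientMap)) φ.left χ.left).1 ?_
    rw [← Over.comp_left, hχ]
    exact (MorphismProperty.cancel_left_of_respectsIso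
      (MorphismProperty.universally (topologically @IsQuotientMap)) u.hom.left _).2
      (H20LRQ.isUnivSubmersive_specMap hC hα h1)
  have key : GIT.IsClosedAction a → GIT.IsUnivGeomQuot a φ := fun hcl =>
    (H20GQ.isUnivGeomQuot_iff hu).2
      ⟨hs, H20LRQ.surjective_psiY_of_isClosedAction a v u hr hC hα h1 hu.1.1 χ hχ hcl⟩
  exact ⟨⟨fun h => H20GQ.isClosedAction_of_orbit h.inv h.orbit, fun h => (key h).1⟩, key⟩

end Groth.Agent.S11433
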