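import Groth.Statements.S11435
import Groth.Prelude.Def_ChGrp
import Groth.Agent.H19Quot.OrbitFlat
import Groth.Agent.H19Grp.GroupCI
import Groth.Agent.H19Grp.AffineQuotient
import Groth.Agent.H21Desc.OrbitQuotient
import Groth.Agent.H20GIT.Stab
import Groth.Agent.H17.Image
import Groth.Agent.H17.ConsPropBasic
import Mathlib.AlgebraicGeometry.Morphisms.FlatDescent

set_option autoImplicit false
universe u
open CategoryTheory MonoidalCategory CartesianMonoidalCategory MonObj GrpObj AlgebraicGeometry Topology
open GIT


set_option backward.isDefEq.respectTransparency false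
open CategoryTheory.Limits

noncomputable section

namespace Groth.Agent.S11435

variable {k : Type u} [Field k] {G X : Over (Spec (CommRingCat.of k))} [GrpObj G]

open Groth.Agent.H19Grp in
/-- the kernel pair of an orbit map is given by the cosets of the stabiliser -/
theorem isPullback_orbit {H : Over (Spec (CommRingCat.of k))} (a : AlgGrp.Action G X) (ξ : 𝟙_ (Over (Spec (CommRingCat.of k))) ⟶ X) (h : H ⟶ G)
    (hH : IsPullback h (toUnit H) (a.orbitMap ξ) ξ) :
    IsPullback (fst G H) ((G ◁ h) ≫ μ[G]) (a.orbitMap ξ) (a.orbitMap ξ) := by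
  have orb : ∀ {T : Over (Spec (CommRingCat.of k))} (g : T ⟶ G), g ≫ a.orbitMap ξ = lift g (toUnit T ≫ ξ) ≫ a.act := fun {T} g => by
    rw [AlgGrp.Action.orbitMap, ← Category.assoc, comp_lift, Category.comp_id, ← Category.assoc,
      toUnit_unique (g ≫ toUnit G) (toUnit T)]
  have hmu : ∀ {T : Over (Spec (CommRingCat.of k))} (k : T ⟶ G ⊗ H), k ≫ (G ◁ h) ≫ μ[G] = (k ≫ fst G H) * (k ≫ snd G H ≫ h) :=
    fun {T} k => by
      rw [Hom.mul_def, ← Category.assoc]
      congr 1
      apply CartesianMonoidalCategory.hom_ext <;> simp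
  have hst : ∀ {T : Over (Spec (CommRingCat.of k))} (g : T ⟶ G) (z : T ⟶ H), (g * (z ≫ h)) ≫ a.orbitMap ξ = g ≫ a.orbitMap ξ :=
    fun {T} g z => by
      rw [orb, act_mul, ← orb, orb (T := T) g, Category.assoc, hH.w, ← Category.assoc,
        toUnit_unique (z ≫ toUnit H) (toUnit T)]
  have w : fst G H ≫ a.orbitMap ξ = ((G ◁ h) ≫ μ[G]) ≫ a.orbitMap ξ := by
    have e := hmu (𝟙 (G ⊗ H))
    simp only [Category.id_comp] at e
    rw [e, hst]
  refine ⟨⟨w⟩, ⟨PullbackCone.IsLimit.mk _ (fun z => lift z.fst (hH.lift (z.fst⁻¹ * z.snd) (toUnit _) ?_))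
    (fun z => lift_fst _ _) (fun z => ?_) (fun z k h1 h2 => ?_)⟩⟩
  · have hc : lift z.fst (toUnit _ ≫ ξ) ≫ a.act = lift z.snd (toUnit _ ≫ ξ) ≫ a.act := by
      rw [← orb, ← orb]; exact z.condition
    rw [orb, act_mul, ← hc, ← act_mul, inv_mul_cancel, act_one]
  · rw [hmu]
    simp only [lift_fst, lift_snd_assoc, IsPullback.lift_fst, mul_inv_cancel_left]
  · apply CartesianMonoidalCategory.hom_ext
    · rw [lift_fst, h1]
    · rw [lift_snd]
      refine hH.hom_ext ?_ (toUnit_unique _ _)
      rw [hH.lift_fst, Category.assoc, ← h1, ← h2, hmu, inv_mul_cancel_left]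


/-- An orbit map with closed image and proper stabiliser is universally closed. -/
theorem universallyClosed_orbitMap [PerfectField k] [LocallyOfFiniteType G.hom] [QuasiCompact G.hom]
    [LocallyOfFiniteType X.hom] (a : AlgGrp.Action G X) (x : 𝟙_ (Over (Spec (CommRingCat.of k))) ⟶ X)
    (hcl : IsClosed (Set.range (a.orbitMap x).left.base))
    (hst : IsProper (pullback.snd (a.orbitMap x).left x.left)) :
    UniversallyClosed (a.orbitMap x).left := by
  let f := (a.orbitMap x).left
  let T : Over (Spec (CommRingCat.of k)) := 𝟙_ (Over (Spec (CommRingCat.of k)))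
  -- the stabiliser and the kernel pair of the orbit map
  let Go : Over (Spec (CommRingCat.of k)) := Over.mk (pullback.snd f x.left)
  let h : Go ⟶ G := Over.homMk (pullback.fst f x.left) (by
    show pullback.fst f x.left ≫ G.hom = pullback.snd f x.left
    rw [← Over.w (a.orbitMap x), pullback.condition_assoc, Over.w x]
    exact Category.comp_id _)
  have htu : (toUnit Go).left = pullback.snd f x.left := (Category.comp_id _).symm.trans (Over.w (toUnit Go))
  have hw : h ≫ a.orbitMap x = toUnit Go ≫ x := Over.OverMorphism.ext (by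
    show pullback.fst f x.left ≫ f = (toUnit Go).left ≫ x.left
    rw [htu, pullback.condition])
  have hH : IsPullback h (toUnit Go) (a.orbitMap x) x := IsPullback.of_map_of_faithful (Over.forget _) (by
    show IsPullback (pullback.fst f x.left) (toUnit Go).left f x.left
    rw [htu]
    exact IsPullback.of_hasPullback _ _)
  haveI : IsProper Go.hom := hst
  haveI hkp : IsProper (pullback.snd f f) := by
    have hsq := ((isPullback_orbit a x h hH).map (Over.forget _)).flip
    haveI : IsProper (fst G Go).left := inferInstanceAs (IsProper (pullback.fst G.hom Go.hom))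
    have e : pullback.snd f f = hsq.isoPullback.inv ≫ (fst G Go).left := hsq.isoPullback_inv_snd.symm
    rw [e]
    infer_instance
  -- the reduced subgroup and the reduced orbit
  obtain ⟨inst, hr⟩ := H19Grp.GroupCI.exists_grpObj_reduced G
  let Gr : Over (Spec (CommRingCat.of k)) := Over.mk (G.left.nilradical.subschemeι ≫ G.hom)
  letI : GrpObj Gr := inst
  let r : Gr ⟶ G := Over.homMk G.left.nilradical.subschemeι rfl
  haveI : IsMonHom r := hr
  haveI : IsClosedImmersion r.left := inferInstanceAs (IsClosedImmersion G.left.nilradical.subschemeι)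
  haveI : IsReduced Gr.left := inferInstanceAs (IsReduced G.left.nilradical.subscheme)
  haveI : Surjective r.left := ⟨fun z => by
    have hs : Set.range G.left.nilradical.subschemeι = Set.univ := by
      rw [Scheme.IdealSheafData.range_subschemeι]; rfl
    exact hs.ge (Set.mem_univ z)⟩
  haveI : LocallyOfFiniteType Gr.hom := inferInstanceAs (LocallyOfFiniteType (G.left.nilradical.subschemeι ≫ G.hom))
  haveI : QuasiCompact Gr.hom := inferInstanceAs (QuasiCompact (G.left.nilradical.subschemeι ≫ G.hom))
  have horb : (a.restrict r).orbitMap x = r ≫ a.orbitMap x := by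
    simp only [AlgGrp.Action.orbitMap, AlgGrp.Action.restrict_act, lift_whiskerRight_assoc, Category.id_comp,
      comp_lift_assoc, Category.comp_id]
    rw [← Category.assoc r, comp_toUnit]
  let I := Scheme.IdealSheafData.vanishingIdeal (⟨Set.range f.base, hcl⟩ : TopologicalSpace.Closeds X.left)
  let Z : Over (Spec (CommRingCat.of k)) := Over.mk (I.subschemeι ≫ X.hom)
  let z : Z ⟶ X := Over.homMk I.subschemeι rfl
  haveI : IsReduced Z.left := H17.isReduced_vanishingIdeal_subscheme _
  haveI : IsClosedImmersion z.left := inferInstanceAs (IsClosedImmersion I.subschemeι)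
  haveI : LocallyOfFiniteType Z.hom := inferInstanceAs (LocallyOfFiniteType (I.subschemeι ≫ X.hom))
  have hzr : Set.range z.left = Set.range f := by
    show Set.range I.subschemeι = _
    rw [Scheme.IdealSheafData.range_subschemeι, Scheme.IdealSheafData.coe_support_vanishingIdeal]
    rfl
  obtain ⟨g, hg⟩ := H17.exists_lift_of_range_subset ((r ≫ a.orbitMap x).left) z.left (by
    rintro _ ⟨w, rfl⟩
    exact hzr.ge ⟨r.left w, rfl⟩)
  let g₀ : Gr ⟶ Z := Over.homMk g (by rw [← Over.w z, ← Category.assoc, hg, Over.w])
  have hg₀ : g₀ ≫ z = (a.restrict r).orbitMap x := horb ▸ Over.OverMorphism.ext hg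
  haveI : Surjective g₀.left := ⟨fun w => by
    obtain ⟨v, hv⟩ := hzr.le ⟨w, rfl⟩
    obtain ⟨v', rfl⟩ := r.left.surjective v
    refine ⟨v', z.left.isEmbedding.injective ?_⟩
    rw [← hv]
    exact congrArg (fun m : Gr.left ⟶ X.left => m v') hg⟩
  haveI : QuasiCompact g₀.left := by
    haveI : QuasiCompact (g₀.left ≫ Z.hom) := by rw [Over.w]; infer_instance
    haveI : IsLocallyNoetherian Z.left := LocallyOfFiniteType.isLocallyNoetherian Z.hom
    exact QuasiCompact.of_comp g₀.left Z.hom
  haveI : Flat g₀.left := H19Quot.flat_orbit_reduced (a.restrict r) x Z z g₀ hg₀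
  -- descent
  haveI : UniversallyClosed (pullback.snd f z.left) := by
    refine MorphismProperty.of_pullback_fst_of_descendsAlong (P := @UniversallyClosed)
      (Q := @Surjective ⊓ @Flat ⊓ @QuasiCompact) (f := g₀.left) (g := pullback.snd f z.left)
      ⟨⟨inferInstance, inferInstance⟩, inferInstance⟩ ?_
    have h1 : IsPullback (pullback.fst g₀.left (pullback.snd f z.left))
        (pullback.snd g₀.left (pullback.snd f z.left) ≫ pullback.fst f z.left) (r.left ≫ f) f := by
      have := (IsPullback.of_hasPullback g₀.left (pullback.snd f z.left)).paste_vert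
        (IsPullback.of_hasPullback f z.left).flip
      rwa [show g₀.left ≫ z.left = r.left ≫ f from hg] at this
    have h2 := IsPullback.of_right' h1.flip (IsPullback.of_hasPullback f f)
    exact MorphismProperty.of_isPullback (P := @UniversallyClosed) h2 inferInstance
  haveI : Surjective (pullback.fst f z.left) := ⟨fun v => by
    obtain ⟨w, hw⟩ := hzr.ge ⟨v, rfl⟩
    obtain ⟨p, hp, -⟩ := Scheme.Pullback.exists_preimage_pullback (f := f) (g := z.left) v w hw.symm
    exact ⟨p, hp⟩⟩
  haveI : UniversallyClosed (pullback.fst f z.left ≫ f) := by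
    rw [pullback.condition]
    infer_instance
  exact UniversallyClosed.of_comp_surjective (pullback.fst f z.left) f

end Groth.Agent.S11435

namespace Groth.Agent.S11435

/-- Over an algebraically closed field k, let a group scheme G of finite type act on a scheme X of
finite type and let x be a k-rational point of X. Then the orbit morphism ψ_x : G × Spec k → X ×
Spec k, g ↦ (g · x, pt), is proper if and only if the orbit of x (the image of ψ_x) is closed and
the stabilizer of x (the fibre of ψ_x over (x, pt)) is proper over k. -/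
theorem result (k : Type u) [Field k] [IsAlgClosed k]
    (G X : Over (Spec (CommRingCat.of k))) [GrpObj G] [LocallyOfFiniteType G.hom] [QuasiCompact G.hom]
    [LocallyOfFiniteType X.hom] [QuasiCompact X.hom] (a : AlgGrp.Action G X)
    (x : 𝟙_ (Over (Spec (CommRingCat.of k))) ⟶ X) :
    IsProper (GIT.psi a x).left ↔
      IsClosed (Set.range (GIT.psi a x).left.base) ∧
        IsProper (Limits.pullback.snd (GIT.psi a x).left (lift x (𝟙 (𝟙_ (Over (Spec (CommRingCat.of k)))))).left ≫
          (𝟙_ (Over (Spec (CommRingCat.of k)))).hom) := by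
  haveI : IsSeparated G.hom := H19Grp.AffineQuotient.isSeparated_of_grp G
  haveI : IsIso (fst G (𝟙_ (Over (Spec (CommRingCat.of k))))).left :=
    inferInstanceAs (IsIso (pullback.fst G.hom (𝟙 (Spec (CommRingCat.of k)))))
  haveI : IsIso (fst X (𝟙_ (Over (Spec (CommRingCat.of k))))).left :=
    inferInstanceAs (IsIso (pullback.fst X.hom (𝟙 (Spec (CommRingCat.of k)))))
  set eG := asIso (fst G (𝟙_ (Over (Spec (CommRingCat.of k))))).left
  set eX := asIso (fst X (𝟙_ (Over (Spec (CommRingCat.of k))))).left
  have hsq : (GIT.psi a x).left ≫ eX.hom = eG.hom ≫ (a.orbitMap x).left := by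
    show (GIT.psi a x ≫ fst X _).left = (fst G _ ≫ a.orbitMap x).left
    refine congrArg (fun m : G ⊗ 𝟙_ (Over (Spec (CommRingCat.of k))) ⟶ X => m.left) ?_
    simp only [GIT.psi, AlgGrp.Action.orbitMap, lift_fst, comp_lift_assoc, Category.comp_id]
    congr 1
    apply CartesianMonoidalCategory.hom_ext
    · simp
    · rw [lift_snd, whiskerLeft_snd, ← Category.assoc, comp_toUnit]
      exact congrArg (· ≫ x) (toUnit_unique _ _)
  have hlx : (lift x (𝟙 (𝟙_ (Over (Spec (CommRingCat.of k)))))).left ≫ eX.hom = x.left := by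
    show (lift x _ ≫ fst X _).left = x.left
    rw [lift_fst]
  have hP := (IsPullback.of_hasPullback (GIT.psi a x).left
      (lift x (𝟙 (𝟙_ (Over (Spec (CommRingCat.of k)))))).left).of_iso
      (Iso.refl _) eG (Iso.refl _) eX
      (by simp : pullback.fst _ _ ≫ eG.hom = (Iso.refl _).hom ≫ (pullback.fst (GIT.psi a x).left
        (lift x (𝟙 (𝟙_ (Over (Spec (CommRingCat.of k)))))).left ≫ eG.hom))
      (by simp : pullback.snd _ _ ≫ (Iso.refl _).hom = (Iso.refl _).hom ≫ pullback.snd (GIT.psi a x).left
        (lift x (𝟙 (𝟙_ (Over (Spec (CommRingCat.of k)))))).left)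
      hsq (by rw [hlx]; simp : _ = (Iso.refl _).hom ≫ x.left)
  constructor
  · intro hp
    refine ⟨(GIT.psi a x).left.isClosedMap.isClosed_range, ?_⟩
    rw [show (𝟙_ (Over (Spec (CommRingCat.of k)))).hom = 𝟙 _ from rfl, Category.comp_id]
    exact MorphismProperty.pullback_snd (P := @IsProper) _ _ hp
  rintro ⟨hcl, hst⟩
  rw [show (𝟙_ (Over (Spec (CommRingCat.of k)))).hom = 𝟙 _ from rfl, Category.comp_id] at hst
  have hcl' : IsClosed (Set.range (a.orbitMap x).left.base) := by
    have e : Set.range (a.orbitMap x).left = eX.hom '' Set.range (GIT.psi a x).left := by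
      rw [← Set.range_comp, ← eG.hom.surjective.range_comp (a.orbitMap x).left]
      exact congrArg (fun m : (G ⊗ 𝟙_ _).left ⟶ X.left => Set.range m) hsq.symm
    exact e ▸ eX.hom.isClosedEmbedding.isClosedMap _ hcl
  haveI : UniversallyClosed (a.orbitMap x).left := by
    refine universallyClosed_orbitMap a x hcl' ?_
    rw [← hP.isoPullback_inv_snd]
    infer_instance
  haveI : IsSeparated (a.orbitMap x).left := by
    haveI : IsSeparated ((a.orbitMap x).left ≫ X.hom) := by rw [Over.w]; infer_instance
    exact IsSeparated.of_comp _ X.hom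
  haveI : LocallyOfFiniteType (a.orbitMap x).left := by
    haveI : LocallyOfFiniteType ((a.orbitMap x).left ≫ X.hom) := by rw [Over.w]; infer_instance
    exact locallyOfFiniteType_of_comp _ X.hom
  haveI : IsProper (a.orbitMap x).left := {}
  rw [show (GIT.psi a x).left = eG.hom ≫ (a.orbitMap x).left ≫ eX.inv by
    rw [← reassoc_of% hsq, eX.hom_inv_id, Category.comp_id]]
  infer_instance

end Groth.Agent.S11435
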