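import Groth.Statements.S11437
import Groth.Agent.H20Prop.Local

set_option autoImplicit false
set_option backward.isDefEq.respectTransparency false
universe u
open CategoryTheory MonoidalCategory CartesianMonoidalCategory MonObj GrpObj AlgebraicGeometry Topology
open GIT

namespace Groth.Agent.S11437

open Groth.Agent
open Groth.Agent.H20GQ (resObj resIncl)

/-- Over a field k of characteristic zero, let G be a connected reductive algebraic group, X and Y
separated schemes of finite type, σ an action of G on X such that the stabilizers of geometric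
points of X are finite (the stabilizer group scheme over X is locally quasi-finite), and (Y, φ) a
geometric quotient of X by G. If φ is affine, then the action is proper. (The published statement is
for any reductive G over any field; this row is the characteristic-zero case with G connected.) -/
theorem result (k : Type u) [Field k] [CharZero k]
    (G X Y : Over (Spec (CommRingCat.of k))) [GrpObj G] (hG : Red.IsReductive G)
    [LocallyOfFiniteType X.hom] [QuasiCompact X.hom] [IsSeparated X.hom]
    [LocallyOfFiniteType Y.hom] [QuasiCompact Y.hom] [IsSeparated Y.hom]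
    (a : AlgGrp.Action G X)
    [LocallyQuasiFinite (Limits.pullback.snd (GIT.psi a (𝟙 X)).left (lift (𝟙 X) (𝟙 X)).left)]
    (φ : X ⟶ Y) (h : GIT.IsGeomQuot a φ) [IsAffineHom φ.left] :
    IsProper (GIT.psi a (𝟙 X)).left := by
  haveI : IsAffineHom G.hom := hG.1
  haveI : Smooth G.hom := hG.2.1
  haveI : LocallyQuasiFinite (GLinSh.stabTo a (𝟙 X)) :=
    ‹LocallyQuasiFinite (Limits.pullback.snd (GIT.psi a (𝟙 X)).left (lift (𝟙 X) (𝟙 X)).left)›
  have hcl : GIT.IsClosedAction a := H20GQ.isClosedAction_of_orbit h.inv h.orbit
  haveI : IsFinite (GIT.psi a (𝟙 X)).left := by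
    refine H20Prop.isFinite_psi_of_cover φ h.inv (fun V : Y.left.affineOpens => V.1) (fun x => ?_) fun V => ?_
    · obtain ⟨_, ⟨V, hV, rfl⟩, hx, -⟩ :=
        Y.left.isBasis_affineOpens.exists_subset_of_mem_open (Set.mem_univ (φ.left x)) isOpen_univ
      exact ⟨⟨V, hV⟩, hx⟩
    · obtain ⟨aV, haV, -⟩ := H20GQ.exists_action h.inv (H20GQ.isPullback_resHom φ V.1)
      haveI : IsAffine (resObj X (φ.left ⁻¹ᵁ V.1)).left := V.2.preimage φ.left
      haveI : LocallyOfFiniteType (resObj X (φ.left ⁻¹ᵁ V.1)).hom :=
        inferInstanceAs (LocallyOfFiniteType ((φ.left ⁻¹ᵁ V.1).ι ≫ X.hom))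
      haveI : IsOpenImmersion (resIncl X (φ.left ⁻¹ᵁ V.1)).left :=
        inferInstanceAs (IsOpenImmersion (φ.left ⁻¹ᵁ V.1).ι)
      exact ⟨aV, haV, H20Prop.isFinite_psi_of_closed aV hG (H20Prop.isClosedAction_of_open _ aV haV hcl)
        fun Ω _ _ T e f => H20Prop.finite_fibre_of_mono (resIncl X _) aV haV f
          (H20Prop.finite_fibre_of_stab a e (f ≫ resIncl X (φ.left ⁻¹ᵁ V.1)))⟩
  infer_instance

end Groth.Agent.S11437
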