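import Groth.Statements.S11438
import Groth.Agent.H20GIT.Rigidity

set_option autoImplicit false
set_option linter.style.haveILetI false
set_option backward.isDefEq.respectTransparency false
universe u
open CategoryTheory MonoidalCategory CartesianMonoidalCategory MonObj GrpObj AlgebraicGeometry Topology
open GIT

namespace Groth.Agent.S11438

/-- Let S be connected and locally Noetherian, G a locally Noetherian group scheme separated over S, X →
S proper and flat with κ(s) → H⁰(X_s, O_{X_s}) bijective for every s, and f, g : X → G morphisms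
over S which agree on one fibre X_s. Then there is a section t of G over S with f = (t ∘ p) · g, the
product taken in the group of X-valued points of G. -/
theorem result (S : Scheme.{u}) [IsLocallyNoetherian S] [ConnectedSpace S]
    (X G : Over S) [GrpObj G] [IsLocallyNoetherian G.left] [IsSeparated G.hom] [IsProper X.hom] [Flat X.hom]
    (h0 : ∀ s : S, Function.Bijective (Limits.pullback.snd X.hom (S.fromSpecResidueField s)).appTop)
    (f g : X ⟶ G) (s : S)
    (hs : Limits.pullback.fst X.hom (S.fromSpecResidueField s) ≫ f.left =
      Limits.pullback.fst X.hom (S.fromSpecResidueField s) ≫ g.left) :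
    ∃ t : 𝟙_ (Over S) ⟶ G, f = (toUnit X ≫ t) * g := by
  haveI : IsLocallyNoetherian X.left := LocallyOfFiniteType.isLocallyNoetherian X.hom
  let j : Over.mk (Limits.pullback.fst X.hom (S.fromSpecResidueField s) ≫ X.hom) ⟶ X :=
    Over.homMk (Limits.pullback.fst X.hom (S.fromSpecResidueField s)) rfl
  have hj : j ≫ (f * g⁻¹) = 1 := by
    have : j ≫ f = j ≫ g := Over.OverMorphism.ext hs
    rw [MonObj.comp_mul, this, ← MonObj.comp_mul, mul_inv_cancel, MonObj.comp_one]
  have hcol : ∀ x : X.left, X.hom x = s → (f * g⁻¹).left x = η[G].left s := by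
    intro x hx
    obtain ⟨z, hz, -⟩ := Scheme.Pullback.exists_preimage_pullback (f := X.hom) (g := S.fromSpecResidueField s) x
      (IsLocalRing.closedPoint (S.residueField s)) (by rw [Scheme.fromSpecResidueField_apply]; exact hx)
    have h1 : (j ≫ (f * g⁻¹)).left z = η[G].left ((j.left ≫ X.hom) z) := by
      rw [hj, Hom.one_def]; rfl
    rw [Over.comp_left, Scheme.Hom.comp_apply, Scheme.Hom.comp_apply, show j.left z = x from hz, hx] at h1
    exact h1
  obtain ⟨t, ht, hft⟩ := H20GIT.exists_section_of_collapse X.hom G.hom (f * g⁻¹).left (Over.w _) h0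
    (.inl inferInstance) s (fun x x' hx hx' => (hcol x hx).trans (hcol x' hx').symm)
  refine ⟨Over.homMk t ht, ?_⟩
  have : f * g⁻¹ = toUnit X ≫ Over.homMk t ht := Over.OverMorphism.ext hft
  rw [← this, inv_mul_cancel_right]

end Groth.Agent.S11438
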