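import Groth.Statements.S11439
import Groth.Agent.H20GIT.Rigidity

set_option autoImplicit false
set_option linter.style.haveILetI false
set_option backward.isDefEq.respectTransparency false
universe u
open CategoryTheory MonoidalCategory CartesianMonoidalCategory MonObj GrpObj AlgebraicGeometry Topology
open GIT

namespace Groth.Agent.S11439

/-- Constancy of global functions on a fibre is stable under base change. -/
theorem bijective_appTop_snd_bc {S Z T : Scheme.{u}} (p : Z ⟶ S) [IsProper p] (r : T ⟶ S) (y : T)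
    (h0 : Function.Bijective (Limits.pullback.snd p (S.fromSpecResidueField (r y))).appTop) :
    Function.Bijective (Limits.pullback.snd (Limits.pullback.snd p r) (T.fromSpecResidueField y)).appTop := by
  let f₁ := Limits.pullback.snd p (S.fromSpecResidueField (r y))
  haveI : IsProper f₁ := MorphismProperty.pullback_snd _ _ inferInstance
  haveI h1 : IsIso (Limits.pullback.snd f₁ (Spec.map (r.residueFieldMap y))).appTop :=
    H25Rig.isIso_appTop_of_isPullback (k := S.residueField (r y)) (IsPullback.of_hasPullback _ _) h0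
  rw [← Limits.pullbackLeftPullbackSndIso_hom_snd p, Scheme.Hom.comp_appTop] at h1
  haveI h2 : IsIso (Limits.pullback.snd p
      (Spec.map (r.residueFieldMap y) ≫ S.fromSpecResidueField (r y))).appTop := IsIso.of_isIso_comp_right _
      (Limits.pullbackLeftPullbackSndIso p (S.fromSpecResidueField (r y)) (Spec.map (r.residueFieldMap y))).hom.appTop
  rw [Scheme.Hom.SpecMap_residueFieldMap_fromSpecResidueField] at h2
  rw [← Limits.pullbackLeftPullbackSndIso_hom_snd p r, Scheme.Hom.comp_appTop]
  exact ConcreteCategory.bijective_of_isIso _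


/-- Let S be locally Noetherian, G a locally Noetherian group scheme separated over S, X → S proper and
flat with κ(s) → H⁰(X_s, O_{X_s}) bijective for every s, and Y connected, locally Noetherian,
separated over S with a section over S. Then every morphism f : X ×_S Y → G over S factors as f = (g
∘ p₁) · (h ∘ p₂) with g : X → G and h : Y → G. -/
theorem result (S : Scheme.{u}) [IsLocallyNoetherian S]
    (X Y G : Over S) [GrpObj G] [IsLocallyNoetherian G.left] [IsSeparated G.hom] [IsProper X.hom] [Flat X.hom]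
    (h0 : ∀ s : S, Function.Bijective (Limits.pullback.snd X.hom (S.fromSpecResidueField s)).appTop)
    [IsLocallyNoetherian Y.left] [IsSeparated Y.hom] [ConnectedSpace Y.left] (e : 𝟙_ (Over S) ⟶ Y)
    (f : X ⊗ Y ⟶ G) :
    ∃ (g : X ⟶ G) (h : Y ⟶ G), f = (fst X Y ≫ g) * (snd X Y ≫ h) := by
  let g : X ⟶ G := lift (𝟙 X) (toUnit X ≫ e) ≫ f
  let h' : X ⊗ Y ⟶ G := (fst X Y ≫ g)⁻¹ * f
  have hσ : lift (𝟙 X) (toUnit X ≫ e) ≫ h' = 1 := by
    show lift (𝟙 X) (toUnit X ≫ e) ≫ ((fst X Y ≫ g)⁻¹ * f) = 1
    rw [MonObj.comp_mul, GrpObj.comp_inv, ← Category.assoc, lift_fst, Category.id_comp]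
    exact inv_mul_cancel g
  let π : (X ⊗ Y).left ⟶ Y.left := (snd X Y).left
  haveI : IsProper π := MorphismProperty.pullback_snd X.hom Y.hom inferInstance
  haveI : Flat π := MorphismProperty.pullback_snd X.hom Y.hom inferInstance
  haveI : IsLocallyNoetherian (X ⊗ Y).left := LocallyOfFiniteType.isLocallyNoetherian π
  haveI : IsSeparated (Limits.pullback.fst Y.hom G.hom) := MorphismProperty.pullback_fst Y.hom G.hom inferInstance
  let F : (X ⊗ Y).left ⟶ Limits.pullback Y.hom G.hom :=
    Limits.pullback.lift π h'.left ((Over.w (snd X Y)).trans (Over.w h').symm)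
  have hh0 : ∀ y : Y.left, Function.Bijective (Limits.pullback.snd π (Y.left.fromSpecResidueField y)).appTop :=
    fun y => bijective_appTop_snd_bc X.hom Y.hom y (h0 (Y.hom y))
  let s₀ : S := Y.hom (Classical.arbitrary Y.left)
  let σ : X.left ⟶ (X ⊗ Y).left := (lift (𝟙 X) (toUnit X ≫ e)).left
  have hσπ : σ ≫ π = X.hom ≫ e.left := by
    show (lift (𝟙 X) (toUnit X ≫ e) ≫ snd X Y).left = _
    rw [lift_snd]; rfl
  have hσf : σ ≫ (fst X Y).left = 𝟙 X.left := by
    show (lift (𝟙 X) (toUnit X ≫ e) ≫ fst X Y).left = _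
    rw [lift_fst]; rfl
  have hpb : IsPullback σ X.hom π e.left := by
    refine IsPullback.of_right (h₁₂ := (fst X Y).left) (v₁₃ := X.hom) (h₂₂ := Y.hom) ?_ hσπ
      (IsPullback.of_hasPullback X.hom Y.hom).flip.flip
    rw [hσf, Over.w e]
    show IsPullback (𝟙 X.left) X.hom X.hom (𝟙 S)
    exact IsPullback.of_horiz_isIso ⟨(Category.id_comp _).trans (Category.comp_id _).symm⟩
  have hcol : ∀ z : (X ⊗ Y).left, π z = e.left s₀ → ∃ x, X.hom x = s₀ ∧ σ x = z := by
    intro z hz
    obtain ⟨w, hw, hw'⟩ := Scheme.Pullback.exists_preimage_pullback (f := π) (g := e.left) z s₀ hz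
    refine ⟨hpb.isoPullback.inv w, ?_, ?_⟩
    · rw [← Scheme.Hom.comp_apply, hpb.isoPullback_inv_snd]; exact hw'
    · rw [← Scheme.Hom.comp_apply, hpb.isoPullback_inv_fst]; exact hw
  have hσF : σ ≫ F = X.hom ≫ Limits.pullback.lift e.left η[G].left ((Over.w e).trans (Over.w η[G]).symm) := by
    apply Limits.pullback.hom_ext
    · simp only [F, Category.assoc, Limits.pullback.lift_fst]; exact hσπ
    · simp only [F, Category.assoc, Limits.pullback.lift_snd]
      show (lift (𝟙 X) (toUnit X ≫ e) ≫ h').left = _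
      rw [hσ, Hom.one_def]; rfl
  obtain ⟨t, ht, hFt⟩ := H20GIT.exists_section_of_collapse π (Limits.pullback.fst Y.hom G.hom) F
    (Limits.pullback.lift_fst _ _ _) hh0 (.inl inferInstance) (e.left s₀) (fun z z' hz hz' => by
      obtain ⟨x, hx, rfl⟩ := hcol z hz
      obtain ⟨x', hx', rfl⟩ := hcol z' hz'
      rw [← Scheme.Hom.comp_apply, ← Scheme.Hom.comp_apply σ F, hσF, Scheme.Hom.comp_apply,
        Scheme.Hom.comp_apply, hx, hx'])
  refine ⟨g, Over.homMk (t ≫ Limits.pullback.snd Y.hom G.hom) (by
    rw [Category.assoc, ← Limits.pullback.condition, ← Category.assoc, ht, Category.id_comp]), ?_⟩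
  have hw : (t ≫ Limits.pullback.snd Y.hom G.hom) ≫ G.hom = Y.hom := by
    rw [Category.assoc, ← Limits.pullback.condition, ← Category.assoc, ht, Category.id_comp]
  have key : h' = snd X Y ≫ Over.homMk (t ≫ Limits.pullback.snd Y.hom G.hom) hw := by
    apply Over.OverMorphism.ext
    show h'.left = π ≫ (t ≫ Limits.pullback.snd Y.hom G.hom)
    rw [← Category.assoc]
    exact (Limits.pullback.lift_snd _ _ _).symm.trans (congrArg (· ≫ Limits.pullback.snd Y.hom G.hom) hFt)
  rw [← key, mul_inv_cancel_left]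

end Groth.Agent.S11439
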