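import Groth.Statements.S11440
import Groth.Agent.H19Grp.AbSchemeRigid
import Groth.Agent.H19Grp.AlgClosedGeom
import Groth.Agent.H06Desc.Geom

set_option autoImplicit false
universe u
open CategoryTheory MonoidalCategory CartesianMonoidalCategory MonObj GrpObj AlgebraicGeometry Topology
open GIT

namespace Groth.Agent.S11440

/-- Let S be Noetherian, X an abelian scheme over S (smooth proper group scheme with connected geometric
fibres), G any locally Noetherian group scheme separated over S, and f : X → G a morphism over S
carrying the unit of X to the unit of G. Then f is a homomorphism. -/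
theorem result (S : Scheme.{u}) [IsNoetherian S]
    (X G : Over S) [GrpObj X] [GrpObj G] [Smooth X.hom] [IsProper X.hom]
    (hc : ∀ s : S, ConnectedSpace (Red.geomFibre s X).left)
    [IsLocallyNoetherian G.left] [IsSeparated G.hom] (f : X ⟶ G) (hf : η[X] ≫ f = η[G]) :
    IsMonHom f := by
  haveI := H19Grp.geometricallyReduced_of_smooth_hom X.hom
  haveI : GeometricallyConnected X.hom := by
    rw [GeometricallyConnected.iff_geometricallyConnected_fiber]
    intro s
    haveI := hc s
    let sp := Spec.map (CommRingCat.ofHom (algebraMap (S.residueField s) (AlgebraicClosure (S.residueField s))))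
    haveI : Surjective sp := ⟨fun x => ⟨IsLocalRing.closedPoint _, Subsingleton.elim _ _⟩⟩
    haveI : ConnectedSpace ↥(Limits.pullback (X.hom.fiberToSpecResidueField s) sp) :=
      (Limits.pullbackLeftPullbackSndIso X.hom (S.fromSpecResidueField s) sp).hom.homeomorph.connectedSpace_iff.mpr
        (hc s)
    haveI := H19Grp.geometricallyConnected_of_connectedSpace (Limits.pullback.snd (X.hom.fiberToSpecResidueField s) sp)
    exact H06Desc.geometricallyConnected_of_pullback_snd _ sp
  haveI := H19Grp.geometricallyIntegral_of_abScheme X
  exact H19Grp.isMonHom_of_one_hom_scheme f hf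

end Groth.Agent.S11440
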