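import Groth.Statements.S11444
import Groth.Agent.H8Props.PseudoCoh.SmoothCancel
import Groth.Agent.H16Derived.TorTest.PushStalkAmp
import Groth.Agent.H8Props.PerfectStalks
import Groth.Agent.H16Derived.TorTest.RelFlatRel
import Groth.Agent.H16Derived.KFlat.PerfCoh
import Groth.Agent.H16Derived.KFlat.FinLocFree

set_option autoImplicit false
set_option backward.isDefEq.respectTransparency false
set_option linter.style.haveILetI false
universe u
open CategoryTheory MonoidalCategory CartesianMonoidalCategory MonObj GrpObj AlgebraicGeometry Topology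
open GIT

attribute [local instance] HasDerivedCategory.standard

namespace Groth.Agent.S11444

open H8Props

/-- `A → C` flat and `A → B` standard smooth of relative dimension `n`: `B → C` has tor dimension `≤ n`. -/
theorem tdr_of_flat_comp {A B C : Type u} [CommRing A] [CommRing B] [CommRing C] {α : A →+* B} {β : B →+* C}
    {n : ℕ} (hα : α.IsStandardSmoothOfRelativeDimension n) (hflat : (β.comp α).Flat) :
    PseudoCoh.TDR β n := by
  obtain ⟨ψ, hψ, het⟩ := hα.exists_etale_mvPolynomial
  let a₁ := (β.comp α).toAlgebra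
  haveI : Module.Flat A C := hflat
  let φ : MvPolynomial (Fin n) A →ₐ[A] C :=
    { β.comp ψ with commutes' := fun a => congrArg β (congrArg (fun k : A →+* B => k a) hψ) }
  have h1 : PseudoCoh.TDR φ.toRingHom (0 + n) :=
    PseudoCoh.tdr_presentation (A := A) (B := C) (PseudoCoh.hasTorDimLE_of_flat 0 C) n φ
  let a₂ := ψ.toAlgebra
  let a₃ := φ.toRingHom.toAlgebra
  let a₄ := β.toAlgebra
  haveI : IsScalarTower (MvPolynomial (Fin n) A) B C := IsScalarTower.of_algebraMap_eq fun _ => rfl
  haveI : Algebra.Etale (MvPolynomial (Fin n) A) B := het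
  rw [Nat.zero_add] at h1
  exact PseudoCoh.hasTorDimLE_of_unramified (A := MvPolynomial (Fin n) A) (B := B) (C := C) h1

/-- Let X → Y → S be morphisms of finite type of Noetherian schemes with Y → S smooth with all fibres of
dimension n and X → S flat. Then X → Y has Tor-dimension at most n. -/
theorem result (S X Y : Scheme.{u}) [IsNoetherian S] [IsNoetherian X] [IsNoetherian Y]
    (p : X ⟶ S) (q : Y ⟶ S) (f : X ⟶ Y) (hf : f ≫ q = p) [LocallyOfFiniteType f] (n : ℕ)
    [SmoothOfRelativeDimension n q] [Flat p] : DerSch.HasTorDimLE f n := by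
  intro x
  obtain ⟨V, hV, W, hW, hxW, eW, hstd⟩ :=
    SmoothOfRelativeDimension.exists_isStandardSmoothOfRelativeDimension (f := q) (n := n) (f.base x)
  obtain ⟨U, hU, hxU, hUW⟩ := exists_isAffineOpen_mem_and_subset (x := x) (U := f ⁻¹ᵁ W) hxW
  have e : U ≤ f ⁻¹ᵁ W := hUW
  have e' : U ≤ (f ≫ q) ⁻¹ᵁ V := fun z hz => eW (e hz)
  haveI : Flat (f ≫ q) := hf ▸ inferInstance
  have hflat : ((f.appLE W U e).hom.comp (q.appLE V W eW).hom).Flat := by
    rw [← CommRingCat.hom_comp, Scheme.Hom.appLE_comp_appLE]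
    exact (f ≫ q).flat_appLE hV hU _
  have hTD := tdr_of_flat_comp hstd hflat
  have hd : (letI := (f.stalkMap x).hom.toAlgebra
      DRing.HasTorDimLE ↑(Y.presheaf.stalk (f x)) n ↑(X.presheaf.stalk x)) := by
    refine (PerfectStalks.torDim_stalk_iff f hW hxW n).2 ?_
    rw [PerfectStalks.germ_stalkMap_eq f e hxU]
    let T := X.presheaf.stalk x
    letI aW : Algebra Γ(Y, W) Γ(X, U) := (f.appLE W U e).hom.toAlgebra
    letI aT : Algebra Γ(X, U) T := TopCat.Presheaf.algebra_section_stalk X.presheaf (⟨x, hxU⟩ : U)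
    haveI : IsLocalization.AtPrime T (hU.primeIdealOf ⟨x, hxU⟩).asIdeal :=
      hU.isLocalization_stalk ⟨x, hxU⟩
    haveI : Module.Flat Γ(X, U) T := IsLocalization.flat T (hU.primeIdealOf ⟨x, hxU⟩).asIdeal.primeCompl
    letI : Algebra Γ(Y, W) T := (f.appLE W U e ≫ X.presheaf.germ U x hxU).hom.toAlgebra
    haveI : IsScalarTower Γ(Y, W) Γ(X, U) T := IsScalarTower.of_algebraMap_eq fun _ => rfl
    exact PseudoCoh.hasTorDimLE_of_flat_algebra hTD T
  have h0 : DerSch.HasTorAmplitudeAt (𝟙 X) 0 0 (DerSch.unitCx X) x :=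
    (H16Derived.TorTest.isFlatOverAt_iff_ta (𝟙 X) _ x).1
      (H16Derived.KFlat.Stalk.isFlatOver_id H16Derived.KFlat.Stalk.isFlat_structureModule x)
  simpa only [zero_sub] using (H16Derived.TorTest.at_congr (Category.id_comp f) _ _ _ x).1
    (H16Derived.TorTest.at_comp_torDim (𝟙 X) f h0 hd)

end Groth.Agent.S11444
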