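import Groth.Statements.S11445
import Groth.Agent.H20GQ.Quot

set_option autoImplicit false
universe u
open CategoryTheory MonoidalCategory CartesianMonoidalCategory MonObj GrpObj AlgebraicGeometry Topology
open GIT

namespace Groth.Agent.S11445

/-- Let G act on X over S and let φ : X → Y over S satisfy (i) φ ∘ σ = φ ∘ p₂, (ii) O_Y is the sheaf of
invariant functions (each Γ(U, O_Y) → Γ(φ⁻¹U, O_X) injective with image the invariant sections),
(iii) the image of every closed invariant subset of X is closed and φ(⋂ W_i) = ⋂ φ(W_i) for every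
family of closed invariant subsets. Then (Y, φ) is a categorical quotient of X by G, and φ is
submersive. -/
theorem result (S : Scheme.{u}) (G X Y : Over S) [GrpObj G]
    (a : AlgGrp.Action G X) (φ : X ⟶ Y) (hi : GIT.IsInvariant a φ)
    (hii : ∀ U : Y.left.Opens,
      Function.Injective (φ.left.app U) ∧ Set.range (φ.left.app U) = {f | GIT.IsInvSection a φ U f})
    (hiii : ∀ W : Set X.left, IsClosed W → a.act.left.base '' ((snd G X).left.base ⁻¹' W) ⊆ W →
      IsClosed (φ.left.base '' W))
    (hiii' : ∀ (J : Type u) (W : J → Set X.left),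
      (∀ i, IsClosed (W i) ∧ a.act.left.base '' ((snd G X).left.base ⁻¹' W i) ⊆ W i) →
      φ.left.base '' (⋂ i, W i) = ⋂ i, φ.left.base '' W i) :
    GIT.IsCatQuot a φ ∧ IsQuotientMap φ.left.base := by
  have hsurj : Function.Surjective φ.left.base := fun y => by
    have h0 := hiii' PEmpty.{u + 1} (fun i => i.elim) (fun i => i.elim)
    rw [Set.iInter_of_empty, Set.iInter_of_empty, Set.image_univ] at h0
    exact h0.symm.le (Set.mem_univ y)
  have hinvset : ∀ (T : Over S) (ψ : X ⟶ T), GIT.IsInvariant a ψ → ∀ A : Set T.left,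
      a.act.left.base '' ((snd G X).left.base ⁻¹' (ψ.left.base ⁻¹' A)) ⊆ ψ.left.base ⁻¹' A := by
    rintro T ψ hψ A _ ⟨w, hw, rfl⟩
    have := congrArg (fun m : (G ⊗ X).left ⟶ T.left => m w) hψ.left
    simp only [Scheme.Hom.comp_apply] at this
    show ψ.left (a.act.left w) ∈ A
    rw [this]; exact hw
  have hq : IsQuotientMap φ.left.base := by
    refine Topology.isQuotientMap_iff_isClosed.2 ⟨hsurj, fun A => ⟨fun hA => hA.preimage φ.left.continuous, fun hA => ?_⟩⟩
    have := hiii _ hA (hinvset Y φ hi A)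
    rwa [Set.image_preimage_eq A hsurj] at this
  refine ⟨Groth.Agent.H20GQ.isCatQuot_of_sections hi hq hii fun Z ψ hψ => ?_, hq⟩
  refine Groth.Agent.H20GQ.fib_of_affine hii hψ fun y => ?_
  let W : Z.left → Set X.left := fun z =>
    ψ.left.base ⁻¹' ((exists_isAffineOpen_mem_and_subset (Set.mem_univ z) (U := (⊤ : Z.left.Opens))).choose : Set Z.left)ᶜ
  have hW : ∀ z, IsClosed (W z) ∧ a.act.left.base '' ((snd G X).left.base ⁻¹' W z) ⊆ W z := fun z =>
    ⟨((exists_isAffineOpen_mem_and_subset (Set.mem_univ z) (U := (⊤ : Z.left.Opens))).choose.2.isClosed_compl).preimage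
      ψ.left.continuous, hinvset Z ψ hψ _⟩
  have hempty : (⋂ z, W z) = ∅ := Set.eq_empty_of_forall_notMem fun x hx =>
    Set.mem_iInter.1 hx (ψ.left x)
      (exists_isAffineOpen_mem_and_subset (Set.mem_univ (ψ.left x)) (U := (⊤ : Z.left.Opens))).choose_spec.2.1
  have hall := hiii' Z.left W hW
  rw [hempty, Set.image_empty] at hall
  have hy : y ∉ ⋂ z, φ.left.base '' W z := by rw [← hall]; exact Set.notMem_empty y
  obtain ⟨z, hz⟩ := not_forall.1 fun hh => hy (Set.mem_iInter.2 hh)
  refine ⟨⟨(φ.left.base '' W z)ᶜ, (hiii _ (hW z).1 (hW z).2).isOpen_compl⟩, _, hz,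
    (exists_isAffineOpen_mem_and_subset (Set.mem_univ z) (U := (⊤ : Z.left.Opens))).choose_spec.1, fun x hx => ?_⟩
  by_contra hxW
  exact hx ⟨x, hxW, rfl⟩

end Groth.Agent.S11445
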