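import Groth.Statements.S11450
import Groth.Agent.H1CAlg.Tor
import Groth.Agent.H3CAlg.TorLES
import Groth.Agent.H3CAlg.TorBasic
import Mathlib.RingTheory.Ideal.AssociatedPrime.Finiteness
import Mathlib.RingTheory.Flat.Tensor

set_option autoImplicit false
universe u
open CategoryTheory
open DefT

namespace Groth.Agent.S11450

/-- A module M over a Noetherian commutative ring A is flat if and only if Tor_1^A(M, A/p) vanishes for
every prime ideal p of A. -/
theorem result (A : Type u) [CommRing A]
    [IsNoetherianRing A] (M : Type u) [AddCommGroup M] [Module A M] :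
    Module.Flat A M ↔ ∀ p : Ideal A, p.IsPrime →
      Limits.IsZero (((CategoryTheory.Tor (ModuleCat.{u} A) 1).obj (ModuleCat.of A M)).obj (ModuleCat.of A (A ⧸ p))) := by
  constructor
  · intro hflat p _
    exact Groth.Agent.H1CAlg.isZero_Tor_of_flat (ModuleCat.of A M) _ 0
  intro h
  let T := (CategoryTheory.Tor (ModuleCat.{u} A) 1).obj (ModuleCat.of A M)
  have key : ∀ (L : Type u) [AddCommGroup L] [Module A L] [Module.Finite A L],
      Limits.IsZero (T.obj (ModuleCat.of A L)) := by
    intro L _ _ hL
    refine IsNoetherianRing.induction_on_isQuotientEquivQuotientPrime (A := A) hL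
      (motive := fun N _ _ _ => Limits.IsZero (T.obj (ModuleCat.of A N))) ?_ ?_ ?_
    · intro N _ _ _ _
      haveI : Projective (ModuleCat.of A N) := Projective.zero_projective.of_iso ?_
      · exact isZero_Tor_succ_of_projective _ (ModuleCat.of A M) (ModuleCat.of A N) 0
      · exact ((Limits.isZero_zero _).iso (ModuleCat.isZero_of_subsingleton _))
    · intro N _ _ _ p e
      exact Limits.IsZero.of_iso (h p.1 p.2) (T.mapIso e.toModuleIso)
    · intro N₁ _ _ _ N₂ _ _ _ N₃ _ _ _ f g hf hg hfg h₁ h₃
      let S : ShortComplex (ModuleCat.{u} A) := ShortComplex.mk (ModuleCat.ofHom f) (ModuleCat.ofHom g)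
        (ModuleCat.hom_ext (LinearMap.ext fun x => hfg.apply_apply_eq_zero x))
      have hS : S.ShortExact :=
        { exact := (ShortComplex.ShortExact.moduleCat_exact_iff_function_exact S).mpr hfg
          mono_f := (ModuleCat.mono_iff_injective _).mpr hf
          epi_g := (ModuleCat.epi_iff_surjective _).mpr hg }
      obtain ⟨⟨w₀, hex⟩, -⟩ := Groth.Agent.H3CAlg.Tor.les₂ (ModuleCat.of A M) S hS 1
      exact hex.isZero_X₂ (h₁.eq_of_src _ _) (h₃.eq_of_tgt _ _)
  rw [Module.Flat.iff_lTensor_injective]
  intro I hI
  haveI : Module.Finite A (A ⧸ I) := inferInstance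
  let S : ShortComplex (ModuleCat.{u} A) := ShortComplex.mk (ModuleCat.ofHom I.subtype)
    (ModuleCat.ofHom (Submodule.mkQ I)) (ModuleCat.hom_ext (LinearMap.ext fun x => (Submodule.Quotient.mk_eq_zero _).mpr x.2))
  have hS : S.ShortExact :=
    { exact := (ShortComplex.ShortExact.moduleCat_exact_iff_function_exact S).mpr
        (LinearMap.exact_subtype_mkQ I)
      mono_f := (ModuleCat.mono_iff_injective _).mpr I.subtype_injective
      epi_g := (ModuleCat.epi_iff_surjective _).mpr (Submodule.mkQ_surjective I) }
  haveI : Module.Projective A (S.X₂ : Type u) := inferInstanceAs (Module.Projective A A)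
  haveI : Projective S.X₂ := ModuleCat.projective_of_categoryTheory_projective _
  exact (Groth.Agent.H3CAlg.Tor.isZero_one_iff_injective (ModuleCat.of A M) S hS).mp (key (A ⧸ I))

end Groth.Agent.S11450
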