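import Groth.Statements.S11451
import Groth.Agent.H24Obs.Lifting

set_option autoImplicit false
universe u
open DefT

namespace Groth.Agent.S11451

/-- Let k be an algebraically closed field and A a local k-algebra essentially of finite type over k
with residue field k. Then regularity of A as a local ring is equivalent to the following: for every
local k-algebra B' of finite dimension over k, every ideal J of B' of square zero and every
k-algebra homomorphism f : A → B'/J, there is a k-algebra homomorphism g : A → B' lifting f. (Local
k-algebras of finite k-dimension are exactly the local Artin rings finite over k; lifting against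
square-zero kernels is equivalent to lifting against nilpotent ones by induction.) -/
theorem result (k : Type u) [Field k] [IsAlgClosed k]
    (A : Type u) [CommRing A] [IsLocalRing A] [Algebra k A] [Algebra.EssFiniteType k A]
    (hres : Function.Surjective (algebraMap k (IsLocalRing.ResidueField A))) :
    IsRegularLocalRing A ↔
      ∀ (B' : Type u) [CommRing B'] [IsLocalRing B'] [Algebra k B'] [Module.Finite k B']
        (J : Ideal B'), J ^ 2 = ⊥ → ∀ f : A →ₐ[k] B' ⧸ J,
          ∃ g : A →ₐ[k] B', (Ideal.Quotient.mkₐ k J).comp g = f := by
  constructor
  · intro hreg B' _ _ _ _ J hJ f
    haveI := Groth.Agent.H24Obs.formallySmooth_of_regular (k := k) (A := A) hres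
    exact Algebra.FormallySmooth.exists_lift J ⟨2, hJ⟩ f
  · exact fun H => Groth.Agent.H24Obs.isRegularLocalRing_of_lift hres H

end Groth.Agent.S11451
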