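import Groth.Statements.S11452
import Groth.Agent.H24Def.Rigid
import Groth.Agent.H24Cot.Regular

set_option autoImplicit false
set_option linter.style.haveILetI false
universe u
open CategoryTheory AlgebraicGeometry
open DefT

namespace Groth.Agent.S11452

/-- Let k be an algebraically closed field, X an affine scheme of finite type over k whose local rings
are all regular, A a local Artin k-algebra with a k-algebra augmentation e : A → k, and g : X' →
Spec A a flat morphism whose fibre over the k-point Spec k → Spec A given by e is X (with its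
structure map to Spec k). Then there is an isomorphism from X' to the trivial deformation X ×_{Spec
k} Spec A compatible with the projections to Spec A. -/
theorem result (k : Type u) [Field k]
    [IsAlgClosed k] (X : Scheme.{u}) (hX : X ⟶ Spec (CommRingCat.of k)) [IsAffine X]
    [LocallyOfFiniteType hX] (hreg : ∀ x : X, IsRegularLocalRing (X.presheaf.stalk x))
    (A : Type u) [CommRing A] [IsLocalRing A] [IsArtinianRing A] [Algebra k A] (e : A →ₐ[k] k)
    (X' : Scheme.{u}) (g : X' ⟶ Spec (CommRingCat.of A)) [Flat g] (i : X ⟶ X')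
    (hsq : IsPullback i hX g (Spec.map (CommRingCat.ofHom e.toRingHom))) :
    ∃ φ : X' ≅ Limits.pullback hX (Spec.map (CommRingCat.ofHom (algebraMap k A))),
      φ.hom ≫ Limits.pullback.snd hX (Spec.map (CommRingCat.ofHom (algebraMap k A))) = g := by
  let B₀ := Γ(X, ⊤)
  let φ : CommRingCat.of k ⟶ B₀ := Spec.preimage (X.isoSpec.inv ≫ hX)
  letI : Algebra k B₀ := φ.hom.toAlgebra
  have hB : (Spec.map φ : Spec B₀ ⟶ _) = X.isoSpec.inv ≫ hX := Spec.map_preimage _
  haveI : Algebra.FiniteType k B₀ := by
    have h : LocallyOfFiniteType (Spec.map φ) := by rw [hB]; infer_instance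
    exact (HasRingHomProperty.Spec_iff (P := @LocallyOfFiniteType)).mp h
  have hloc : ∀ (p : Ideal B₀) [p.IsPrime], IsRegularLocalRing (Localization.AtPrime p) := fun p hp => by
    let P : ↑(Spec B₀) := (⟨p, hp⟩ : PrimeSpectrum B₀)
    haveI := hreg (X.isoSpec.inv P)
    haveI : IsLocalHom (X.isoSpec.inv.stalkMap P).hom := inferInstance
    haveI : IsRegularLocalRing ((Spec B₀).presheaf.stalk P) :=
      IsRegularLocalRing.of_ringEquiv (CategoryTheory.asIso (X.isoSpec.inv.stalkMap P)).commRingCatIsoToRingEquiv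
    letI : Algebra B₀ ((Spec B₀).presheaf.stalk P) := StructureSheaf.stalkAlgebra B₀ P
    haveI : IsLocalization.AtPrime ((Spec B₀).presheaf.stalk P) p := StructureSheaf.IsLocalization.to_stalk B₀ P
    exact IsRegularLocalRing.of_ringEquiv
      (IsLocalization.algEquiv p.primeCompl ((Spec B₀).presheaf.stalk P) (Localization.AtPrime p)).toRingEquiv
  haveI : Algebra.FormallySmooth k B₀ := (Groth.Agent.H24Cot.formallySmooth_iff_regular k B₀).mpr hloc
  have hT : ∀ E : Exal.Ext k B₀ B₀, E.IsTrivial := fun E => by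
    have hnil : IsNilpotent (RingHom.ker (E.proj : E.E →+* B₀)) := ⟨2, by
      rw [pow_two, Ideal.zero_eq_bot, ← le_bot_iff, Ideal.mul_le]
      intro a ha b hb
      obtain ⟨z, rfl⟩ := (E.isExtension.exact b).mp hb
      rw [E.isExtension.mul_incl, (show E.proj a = 0 from ha), zero_smul, map_zero]
      exact Submodule.zero_mem _⟩
    exact ⟨Algebra.FormallySmooth.liftOfSurjective (AlgHom.id k B₀) E.proj E.isExtension.proj_surjective hnil,
      fun b => Algebra.FormallySmooth.liftOfSurjective_apply _ _ _ _ b⟩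
  let Aart : ArtFun.Art k k := ArtFun.Art.of A e fun c => ⟨algebraMap k A c, e.commutes c⟩
  have hsq' : IsPullback (X.isoSpec.inv ≫ i) (Groth.Agent.H24Def.affPt k B₀) g
      (Spec.map (CommRingCat.ofHom e.toRingHom)) :=
    IsPullback.of_iso hsq X.isoSpec (Iso.refl _) (Iso.refl _) (Iso.refl _) (by simp)
      (by rw [Iso.refl_hom, Category.comp_id]; exact ((Iso.inv_comp_eq _).mp hB.symm))
      (by simp) (by simp)
  let ξ : ArtFun.DefSch (Spec (CommRingCat.of B₀)) (Groth.Agent.H24Def.affPt k B₀) Aart :=
    { total := X', f := g, flat := ‹Flat g›, i := X.isoSpec.inv ≫ i, isPullback := hsq' }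
  obtain ⟨f⟩ := Groth.Agent.H24Def.nonempty_iso_of_forall_isTrivial hT ξ
    (ArtFun.DefSch.trivial (Spec (CommRingCat.of B₀)) (Groth.Agent.H24Def.affPt k B₀) inferInstance Aart)
  have hpt : Groth.Agent.H24Def.affPt k B₀ = X.isoSpec.inv ≫ hX := hB
  let ψ : (ArtFun.DefSch.trivial (Spec (CommRingCat.of B₀)) (Groth.Agent.H24Def.affPt k B₀) inferInstance Aart).total ⟶
      Limits.pullback hX (Spec.map (CommRingCat.ofHom (algebraMap k A))) :=
    Limits.pullback.map _ _ _ _ X.isoSpec.inv (𝟙 _) (𝟙 _) ((Category.comp_id _).trans hpt) ((Category.comp_id _).trans (Category.id_comp _).symm)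
  have hψ : IsIso ψ := by
    apply (config := {allowSynthFailures := true}) Limits.pullback.map_isIso
    all_goals first | exact (inferInstance : IsIso X.isoSpec.inv) | exact (inferInstance : IsIso (𝟙 (Spec (CommRingCat.of A)))) | exact (inferInstance : IsIso (𝟙 (Spec (CommRingCat.of k))))
  refine ⟨f.iso ≪≫ @asIso _ _ _ _ ψ hψ, ?_⟩
  change (f.iso.hom ≫ ψ) ≫ _ = g
  rw [Category.assoc]
  refine Eq.trans ?_ f.hom_f
  congr 1
  exact (Limits.pullback.lift_snd _ _ _).trans (Category.comp_id _)

end Groth.Agent.S11452
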