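import Groth.Statements.S11455
import Groth.Agent.H24Lim.Tower
import Mathlib.RingTheory.Flat.EquationalCriterion
import Mathlib.CategoryTheory.Functor.OfSequence
import Mathlib.Tactic

set_option autoImplicit false
set_option linter.style.haveILetI false
universe u
open DefT

namespace Groth.Agent.S11455

/-- Let C' be a local Artin ring, J ⊊ C' a proper ideal annihilated by the maximal ideal, C = C'/J, A' a
flat C'-algebra whose reduction modulo the maximal ideal of C' is a Cohen–Macaulay local ring, A =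
A'/JA', and a_1, …, a_r a regular sequence on A with A/(a_1, …, a_r) flat over C. Then every ideal
I' of A' with A'/I' flat over C' and with image (a_1, …, a_r) in A is generated by some lifts a'_1,
…, a'_r of the a_i. -/
theorem result (C' : Type u) [CommRing C'] [IsLocalRing C'] [IsArtinianRing C'] (J : Ideal C')
    (hJ : IsLocalRing.maximalIdeal C' * J = ⊥) (hJne : J ≠ ⊤) (A' : Type u) [CommRing A'] [Algebra C' A'] [Module.Flat C' A']
    [LocCoh.IsCohenMacaulayLocalRing (A' ⧸ (IsLocalRing.maximalIdeal C').map (algebraMap C' A'))]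
    (r : ℕ) (a : Fin r → A' ⧸ J.map (algebraMap C' A'))
    (hreg : RingTheory.Sequence.IsRegular (A' ⧸ J.map (algebraMap C' A')) (List.ofFn a))
    [Module.Flat (C' ⧸ J) ((A' ⧸ J.map (algebraMap C' A')) ⧸ Ideal.span (Set.range a))]
    (I' : Ideal A') [Module.Flat C' (A' ⧸ I')]
    (hI' : I'.map (Ideal.Quotient.mk (J.map (algebraMap C' A'))) = Ideal.span (Set.range a)) :
    ∃ a' : Fin r → A', (∀ i, Ideal.Quotient.mk (J.map (algebraMap C' A')) (a' i) = a i) ∧
      I' = Ideal.span (Set.range a') := by
    classical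
    let K := J.map (algebraMap C' A')
    have hK : K = J.map (algebraMap C' A') := rfl
    have hlift : ∀ i, ∃ b ∈ I', Ideal.Quotient.mk K b = a i := fun i =>
      (Ideal.mem_map_iff_of_surjective _ Ideal.Quotient.mk_surjective).mp (by rw [hI']; exact Ideal.subset_span ⟨i, rfl⟩)
    choose b hbI hb using hlift
    refine ⟨b, hb, le_antisymm ?_ (Ideal.span_le.mpr (by rintro _ ⟨i, rfl⟩; exact hbI i))⟩
    have hJK : ∀ y ∈ K, ∃ (n : ℕ) (j : Fin n → C') (c : Fin n → A'), (∀ l, j l ∈ J) ∧ y = ∑ l, j l • c l := by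
      intro y hy
      have hy' : y ∈ Submodule.span A' (algebraMap C' A' '' (J : Set C')) := hy
      rw [Submodule.mem_span_set'] at hy'
      obtain ⟨n, f, g, rfl⟩ := hy'
      choose j hj hjg using fun l => (g l).2
      exact ⟨n, j, f, hj, Finset.sum_congr rfl fun l _ => by rw [← hjg, smul_eq_mul, mul_comm, ← Algebra.smul_def]⟩
    have hinf : ∀ y ∈ I', y ∈ K → y ∈ K * I' := by
      intro y hyI hyK
      obtain ⟨n, j, c, hj, rfl⟩ := hJK y hyK
      have h0 : ∑ l, j l • Ideal.Quotient.mk I' (c l) = 0 := by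
        have hq : (Ideal.Quotient.mkₐ C' I') (∑ l, j l • c l) = 0 := Ideal.Quotient.eq_zero_iff_mem.mpr hyI
        rw [map_sum] at hq
        simpa only [map_smul, Ideal.Quotient.mkₐ_eq_mk] using hq
      obtain ⟨κ, cc, z, hz, hcc⟩ := Module.Flat.isTrivialRelation_of_sum_smul_eq_zero (R := C') (M := A' ⧸ I') (f := j) (x := fun l => Ideal.Quotient.mk I' (c l)) h0
      choose z' hz' using fun m => Ideal.Quotient.mk_surjective (z m)
      have hmem : ∀ l, c l - ∑ m, cc l m • z' m ∈ I' := fun l => Ideal.Quotient.eq.mp (by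
        refine (hz l).trans ?_
        rw [map_sum]
        refine Finset.sum_congr rfl fun m _ => ?_
        rw [← hz' m]
        exact (map_smul (Ideal.Quotient.mkₐ C' I') _ _).symm)
      have hy : ∑ l, j l • c l = ∑ l, algebraMap C' A' (j l) * (c l - ∑ m, cc l m • z' m) := by
        simp only [mul_sub, Finset.sum_sub_distrib, ← Algebra.smul_def, Finset.smul_sum, smul_smul]
        rw [Finset.sum_comm]
        simp only [← Finset.sum_smul, hcc, zero_smul, Finset.sum_const_zero, sub_zero]
      rw [hy]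
      exact Ideal.sum_mem _ fun l _ => Ideal.mul_mem_mul (Ideal.mem_map_of_mem _ (hj l)) (hmem l)
    have hstep : I' ≤ Ideal.span (Set.range b) ⊔ K * I' := by
      intro y hy
      have h1 : Ideal.Quotient.mk K y ∈ (Ideal.span (Set.range b)).map (Ideal.Quotient.mk K) := by
        have h2 := Ideal.mem_map_of_mem (Ideal.Quotient.mk K) hy
        rw [hI', ← show Ideal.Quotient.mk K ∘ b = a from funext hb, Set.range_comp, ← Ideal.map_span] at h2
        exact h2
      obtain ⟨s, hs, r, hr, rfl⟩ := Submodule.mem_sup.mp (Ideal.mem_quotient_iff_mem_sup.mp h1)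
      refine Submodule.add_mem_sup hs (hinf r ?_ hr)
      have hsI : s ∈ I' := (Ideal.span_le.mpr (by rintro _ ⟨i, rfl⟩; exact hbI i)) hs
      simpa using sub_mem hy hsI
    have hJ2 : J * J = ⊥ := le_bot_iff.mp (hJ ▸ Ideal.mul_mono_left (IsLocalRing.le_maximalIdeal hJne))
    have hK2 : K * K = ⊥ := by rw [hK, ← Ideal.map_mul, hJ2, Ideal.map_bot]
    refine hstep.trans (sup_le le_rfl ?_)
    refine (Ideal.mul_mono_right hstep).trans ?_
    rw [Ideal.mul_sup, ← mul_assoc, hK2, Ideal.bot_mul, sup_bot_eq]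
    exact Ideal.mul_le_right

end Groth.Agent.S11455
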