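import Groth.Statements.S11456
import Groth.Agent.H24Def.ArtinCI

set_option autoImplicit false
set_option linter.style.haveILetI false
universe u
open DefT

namespace Groth.Agent.S11456

/-- Let C be a local Artin ring with maximal ideal m, A a flat C-algebra such that A₀ = A/mA is a
Cohen–Macaulay local ring, and I ⊆ A an ideal with A/I flat over C whose image in A₀ is generated by
a regular sequence b_1, …, b_r on A₀. Then I is generated by r elements a_1, …, a_r forming a
regular sequence on A (so the Koszul complex on the a_i resolves A/I). -/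
theorem result (C : Type u) [CommRing C]
    [IsLocalRing C] [IsArtinianRing C] (A : Type u) [CommRing A] [Algebra C A] [Module.Flat C A]
    [LocCoh.IsCohenMacaulayLocalRing (A ⧸ (IsLocalRing.maximalIdeal C).map (algebraMap C A))]
    (I : Ideal A) [Module.Flat C (A ⧸ I)] (r : ℕ)
    (b : Fin r → A ⧸ (IsLocalRing.maximalIdeal C).map (algebraMap C A))
    (hb : RingTheory.Sequence.IsRegular (A ⧸ (IsLocalRing.maximalIdeal C).map (algebraMap C A)) (List.ofFn b))
    (hI : I.map (Ideal.Quotient.mk ((IsLocalRing.maximalIdeal C).map (algebraMap C A))) = Ideal.span (Set.range b)) :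
    ∃ a : Fin r → A, RingTheory.Sequence.IsRegular A (List.ofFn a) ∧ I = Ideal.span (Set.range a) := by
  let q := Ideal.Quotient.mk ((IsLocalRing.maximalIdeal C).map (algebraMap C A))
  have hmem : ∀ i, ∃ x ∈ I, q x = b i := fun i => by
    refine (Ideal.mem_map_iff_of_surjective q Ideal.Quotient.mk_surjective).mp ?_
    rw [hI]
    exact Ideal.subset_span ⟨i, rfl⟩
  choose a haI ha using hmem
  have hofl : Ideal.span (Set.range a) = Ideal.ofList (List.ofFn a) := by
    simp [Ideal.ofList, List.mem_ofFn, Set.range]
  obtain ⟨h1, h2⟩ := Groth.Agent.H24Def.isRegular_of_map_quotient (IsLocalRing.maximalIdeal C)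
    (IsLocalRing.maximalIdeal.isMaximal C).ne_top (List.ofFn a) (by rwa [List.map_ofFn, show ⇑q ∘ a = b from funext ha])
  refine ⟨a, h1, (Groth.Agent.H24Def.eq_of_le_of_le_sup (C := C) I (Ideal.span (Set.range a))
    (Ideal.span_le.mpr (by rintro _ ⟨i, rfl⟩; exact haI i)) ?_).symm⟩
  have h3 : I ≤ (I.map q).comap q := Ideal.le_comap_map
  rw [hI, show b = q ∘ a from (funext ha).symm, Set.range_comp, ← Ideal.map_span,
    Ideal.comap_map_of_surjective q Ideal.Quotient.mk_surjective] at h3
  rwa [← RingHom.ker_eq_comap_bot, Ideal.mk_ker] at h3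

end Groth.Agent.S11456
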