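import Groth.Statements.S11457
import Groth.Agent.H24Def.BurchLift
import Groth.Agent.H24Def.FlatFS
import Groth.Agent.H3CAlg.ArtinFlat
import Groth.Agent.H7Flat.InjectiveModMax

set_option autoImplicit false
set_option linter.style.haveILetI false
universe u
open DefT

namespace Groth.Agent.S11457

/-- Let C' be a local Artin ring, J ⊊ C' a proper ideal annihilated by the maximal ideal, C = C'/J, A' a
flat C'-algebra of finite type with smooth special fibre, and A = A'/JA'. Let φ be an (r+1) × r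
matrix over A such that 0 → A^r → A^{r+1} → A is exact, the second map sending v to Σ_i v_i f_i with
f_i = (−1)^i det(φ with row i removed), and such that A/(f_0, …, f_r) is flat over C. Then every
matrix φ' over A' lifting φ has the same property over A': multiplication by φ' is injective, its
image is the kernel of the map given by the signed maximal minors f'_i of φ', and A'/(f'_0, …, f'_r)
is flat over C' (its reduction to A is A/(f_0, …, f_r) since minors commute with reduction). -/
theorem result (C' : Type u) [CommRing C'] [IsLocalRing C'] [IsArtinianRing C'] (J : Ideal C')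
    (hJ : IsLocalRing.maximalIdeal C' * J = ⊥) (hJne : J ≠ ⊤) (A' : Type u) [CommRing A'] [Algebra C' A'] [Module.Flat C' A']
    [Algebra.FiniteType C' A']
    [Algebra.Smooth (C' ⧸ IsLocalRing.maximalIdeal C') (A' ⧸ (IsLocalRing.maximalIdeal C').map (algebraMap C' A'))]
    (r : ℕ) (φ' : Matrix (Fin (r + 1)) (Fin r) A')
    (hφ : (Function.Injective (φ'.map (Ideal.Quotient.mk (J.map (algebraMap C' A')))).mulVecLin ∧
        LinearMap.range (φ'.map (Ideal.Quotient.mk (J.map (algebraMap C' A')))).mulVecLin = LinearMap.ker (Fintype.linearCombination (A' ⧸ J.map (algebraMap C' A')) (fun i : Fin (r + 1) => (-1 : (A' ⧸ J.map (algebraMap C' A'))) ^ (i : ℕ) * ((φ'.map (Ideal.Quotient.mk (J.map (algebraMap C' A')))).submatrix i.succAbove id).det))))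
    [Module.Flat (C' ⧸ J) ((A' ⧸ J.map (algebraMap C' A')) ⧸ Ideal.span (Set.range (fun i : Fin (r + 1) => (-1 : (A' ⧸ J.map (algebraMap C' A'))) ^ (i : ℕ) * ((φ'.map (Ideal.Quotient.mk (J.map (algebraMap C' A')))).submatrix i.succAbove id).det)))] :
    Function.Injective φ'.mulVecLin ∧
      LinearMap.range φ'.mulVecLin = LinearMap.ker (Fintype.linearCombination A' (fun i : Fin (r + 1) => (-1 : A') ^ (i : ℕ) * ((φ').submatrix i.succAbove id).det)) ∧
      Module.Flat C' (A' ⧸ Ideal.span (Set.range (fun i : Fin (r + 1) => (-1 : A') ^ (i : ℕ) * ((φ').submatrix i.succAbove id).det))) := by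
  classical
  let m := IsLocalRing.maximalIdeal C'
  let K : Ideal A' := J.map (algebraMap C' A')
  let q : A' →+* A' ⧸ K := Ideal.Quotient.mk K
  let mb : Ideal (C' ⧸ J) := m.map (Ideal.Quotient.mk J)
  have hJm : J ≤ m := IsLocalRing.le_maximalIdeal hJne
  have hKm : K ≤ m.map (algebraMap C' A') := Ideal.map_mono hJm
  have hmb : mb.map (algebraMap (C' ⧸ J) (A' ⧸ K)) = (m.map (algebraMap C' A')).map q := by
    rw [Ideal.map_map, Ideal.map_map]
    rfl
  have hcrit : ∀ {M N : Type u} [AddCommGroup M] [Module C' M] [AddCommGroup N] [Module C' N] [Module.Flat C' N]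
      (h : M →ₗ[C'] N), (∀ x, h x ∈ m • (⊤ : Submodule C' N) → x ∈ m • (⊤ : Submodule C' M)) →
      Function.Injective h ∧ Module.Flat C' (N ⧸ LinearMap.range h) := by
    intro M N _ _ _ _ _ h hh
    obtain ⟨⟨ρ, hρ⟩, hM⟩ := Groth.Agent.H3CAlg.exists_leftInverse_and_flat h
      (Groth.Agent.H7Flat.lTensor_residueField_injective h hh)
    have hρ' : ∀ x, ρ (h x) = x := fun x => LinearMap.congr_fun hρ x
    refine ⟨Function.LeftInverse.injective hρ', ?_⟩
    haveI := hM
    haveI : Module.Flat C' (LinearMap.ker ρ) := Groth.Agent.H24Def.flat_ker ρ (fun x => ⟨h x, hρ' x⟩)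
    let pr : N →ₗ[C'] LinearMap.ker ρ := LinearMap.codRestrict _ (LinearMap.id - h ∘ₗ ρ) fun x => by
      simp [hρ']
    refine Module.Flat.of_linearEquiv ((Submodule.quotEquivOfEq _ (LinearMap.ker pr) ?_).trans
      (pr.quotKerEquivOfSurjective fun ⟨y, hy⟩ => ⟨y, Subtype.ext (by simp [pr, LinearMap.mem_ker.mp hy])⟩))
    ext x
    rw [LinearMap.mem_ker, ← Subtype.coe_inj, Submodule.coe_zero]
    simp only [pr, LinearMap.codRestrict_apply, LinearMap.sub_apply, LinearMap.id_apply, LinearMap.comp_apply, sub_eq_zero]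
    exact ⟨fun ⟨y, hy⟩ => by rw [← hy, hρ'], fun hx => ⟨_, hx.symm⟩⟩
  let φb : Matrix (Fin (r + 1)) (Fin r) (A' ⧸ K) := φ'.map q
  let cb : Fin (r + 1) → A' ⧸ K := Groth.Agent.H3CAlg.HilbertBurch.cof φb
  let c' : Fin (r + 1) → A' := Groth.Agent.H3CAlg.HilbertBurch.cof φ'
  have hcof : ∀ i, q (c' i) = cb i := fun i => by
    simp only [c', cb, φb, Groth.Agent.H3CAlg.HilbertBurch.cof, map_mul, map_pow, map_neg, map_one, RingHom.map_det,
      RingHom.mapMatrix_apply, Matrix.submatrix_map]
  let Ib : Ideal (A' ⧸ K) := Ideal.span (Set.range cb)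
  haveI : Module.Flat (C' ⧸ J) ((A' ⧸ K) ⧸ Ib) := ‹_›
  haveI : Module.Flat (C' ⧸ J) (A' ⧸ K) := Groth.Agent.H24Def.flat_quotient_map J
  let πb : (Fin (r + 1) → A' ⧸ K) →ₗ[A' ⧸ K] A' ⧸ K := Fintype.linearCombination (A' ⧸ K) cb
  have hπb : LinearMap.range πb = Ib := Fintype.range_linearCombination _ _
  have hexb : LinearMap.range φb.mulVecLin = LinearMap.ker πb := hφ.2
  haveI : Module.Flat (C' ⧸ J) Ib := by
    haveI := Groth.Agent.H24Def.flat_ker ((Submodule.mkQ (Ib : Submodule (A' ⧸ K) (A' ⧸ K))).restrictScalars (C' ⧸ J))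
      (Submodule.mkQ_surjective _)
    exact Module.Flat.of_linearEquiv (LinearEquiv.ofEq _ _ (by rw [LinearMap.ker_restrictScalars, Submodule.ker_mkQ])
      : ↥((Ib : Submodule (A' ⧸ K) (A' ⧸ K)).restrictScalars (C' ⧸ J)) ≃ₗ[C' ⧸ J]
        LinearMap.ker ((Submodule.mkQ (Ib : Submodule (A' ⧸ K) (A' ⧸ K))).restrictScalars (C' ⧸ J)))
  let πb' : (Fin (r + 1) → A' ⧸ K) →ₗ[A' ⧸ K] Ib := πb.codRestrict Ib fun v => hπb ▸ LinearMap.mem_range_self πb v
  have hπb's : Function.Surjective πb' := fun ⟨x, hx⟩ => by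
    obtain ⟨v, hv⟩ := (hπb.symm ▸ hx : x ∈ LinearMap.range πb)
    exact ⟨v, Subtype.ext hv⟩
  have hmemtop : ∀ (n : ℕ) (v : Fin n → A'), v ∈ m • (⊤ : Submodule C' (Fin n → A')) ↔
      ∀ i, v i ∈ m.map (algebraMap C' A') := fun n v => by
    rw [Groth.Agent.H24Def.smul_top_eq_restrictScalars (A := A'), Submodule.restrictScalars_mem,
      Groth.Agent.H24Def.mem_smul_top_pi_iff]
  have hqm : ∀ x : A', q x ∈ (m.map (algebraMap C' A')).map q ↔ x ∈ m.map (algebraMap C' A') := fun x => by
    rw [← Ideal.mem_comap, Ideal.comap_map_of_surjective q Ideal.Quotient.mk_surjective, ← RingHom.ker_eq_comap_bot,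
      Ideal.mk_ker, sup_eq_left.mpr hKm]
  have hqmul : ∀ a i, q (φ'.mulVecLin a i) = φb.mulVecLin (fun j => q (a j)) i := fun a i => by
    simp [φb, Matrix.mulVec, dotProduct, map_sum]
  have hqπ : ∀ v, q (Fintype.linearCombination A' c' v) = πb (fun i => q (v i)) := fun v => by
    simp [πb, Fintype.linearCombination_apply, map_sum, hcof]
  haveI : Module.Flat C' (Fin (r + 1) → A') :=
    Module.Flat.of_linearEquiv (TensorProduct.piScalarRight C' C' A' (Fin (r + 1))).symm
  -- the first map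
  obtain ⟨hinj', hflat1⟩ := hcrit (φ'.mulVecLin.restrictScalars C') (fun a ha => by
    rw [hmemtop] at ha ⊢
    have h1 : φb.mulVecLin (fun j => q (a j)) ∈ (mb.map (algebraMap (C' ⧸ J) (A' ⧸ K))) • (⊤ : Submodule (A' ⧸ K) (Fin (r + 1) → A' ⧸ K)) := by
      rw [Groth.Agent.H24Def.mem_smul_top_pi_iff]
      intro i
      rw [← hqmul, hmb]
      exact Ideal.mem_map_of_mem q (ha i)
    have h2 := Groth.Agent.H24Def.mem_smul_ker mb πb' hπb's h1 (Subtype.ext (LinearMap.mem_ker.mp
      (hexb ▸ LinearMap.mem_range_self φb.mulVecLin _)))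
    rw [LinearMap.ker_codRestrict, ← hexb, LinearMap.range_eq_map, ← Submodule.map_smul''] at h2
    obtain ⟨b, hb, hbe⟩ := h2
    have h3 := (Groth.Agent.H24Def.mem_smul_top_pi_iff _ _).mp hb
    intro j
    rw [← hqm, ← hmb, ← congrFun (hφ.1 hbe) j]
    exact h3 j)
  -- the second map
  let R1 : Submodule C' (Fin (r + 1) → A') := LinearMap.range (φ'.mulVecLin.restrictScalars C')
  haveI : Module.Flat C' ((Fin (r + 1) → A') ⧸ R1) := hflat1
  have hR1 : R1 ≤ LinearMap.ker ((Fintype.linearCombination A' c').restrictScalars C') := by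
    rintro _ ⟨a, rfl⟩
    rw [LinearMap.mem_ker, LinearMap.restrictScalars_apply, LinearMap.restrictScalars_apply, Fintype.linearCombination_apply]
    simpa [smul_eq_mul, mul_comm, c'] using Groth.Agent.H3CAlg.HilbertBurch.cof_dotProduct_mulVec φ' a
  obtain ⟨hinj2, hflat2⟩ := hcrit (R1.liftQ _ hR1) (fun x hx => by
    obtain ⟨v, rfl⟩ := Submodule.mkQ_surjective _ x
    rw [Submodule.mkQ_apply, Submodule.liftQ_apply, LinearMap.restrictScalars_apply,
      Groth.Agent.H24Def.smul_top_eq_restrictScalars (A := A'), Submodule.restrictScalars_mem, smul_eq_mul,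
      Ideal.mul_top] at hx
    have h1 : πb (fun i => q (v i)) ∈ mb.map (algebraMap (C' ⧸ J) (A' ⧸ K)) := by
      rw [← hqπ, hmb]; exact Ideal.mem_map_of_mem q hx
    have h2 : πb (fun i => q (v i)) ∈ (mb.map (algebraMap (C' ⧸ J) (A' ⧸ K))) • LinearMap.range πb := by
      have := Groth.Agent.H24Def.mem_smul_ker mb (Submodule.mkQ (Ib : Submodule (A' ⧸ K) (A' ⧸ K)))
        (Submodule.mkQ_surjective _) (x := πb (fun i => q (v i))) (by rw [smul_eq_mul, Ideal.mul_top]; exact h1)
        ((Submodule.Quotient.mk_eq_zero _).mpr (hπb ▸ LinearMap.mem_range_self πb _))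
      rwa [Submodule.ker_mkQ, ← hπb] at this
    rw [LinearMap.range_eq_map, ← Submodule.map_smul''] at h2
    obtain ⟨w, hw, hwe⟩ := h2
    obtain ⟨ab, hab⟩ : (fun i => q (v i)) - w ∈ LinearMap.range φb.mulVecLin := by
      rw [hexb, LinearMap.mem_ker, map_sub, hwe, sub_self]
    choose a ha using fun j => Ideal.Quotient.mk_surjective (ab j)
    have hvm : v - φ'.mulVecLin a ∈ m • (⊤ : Submodule C' (Fin (r + 1) → A')) := by
      rw [hmemtop]
      intro i
      rw [← hqm, Pi.sub_apply, map_sub, hqmul, show (fun j => q (a j)) = ab from funext ha, hab, Pi.sub_apply,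
        sub_sub_cancel, ← hmb]
      exact (Groth.Agent.H24Def.mem_smul_top_pi_iff _ _).mp hw i
    have h3 := Submodule.mem_map_of_mem (f := R1.mkQ) hvm
    rw [Submodule.map_smul'', map_sub, show R1.mkQ (φ'.mulVecLin a) = 0 from
      (Submodule.Quotient.mk_eq_zero _).mpr ⟨a, rfl⟩, sub_zero] at h3
    exact Submodule.smul_mono le_rfl le_top h3)
  refine ⟨hinj', le_antisymm (fun v ⟨a, ha⟩ => ha ▸ hR1 ⟨a, rfl⟩) (fun v hv => ?_), ?_⟩
  · have : R1.mkQ v = 0 := hinj2 (by rw [map_zero, Submodule.mkQ_apply, Submodule.liftQ_apply]; exact hv)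
    exact (Submodule.Quotient.mk_eq_zero _).mp this
  · have hr2 : LinearMap.range (R1.liftQ _ hR1) = (Ideal.span (Set.range c') : Submodule A' A').restrictScalars C' := by
      rw [Submodule.range_liftQ, LinearMap.range_restrictScalars, Fintype.range_linearCombination]
    exact Module.Flat.of_linearEquiv ((Submodule.quotEquivOfEq _ _ hr2).trans
      (Submodule.Quotient.restrictScalarsEquiv C' (Ideal.span (Set.range c') : Submodule A' A'))).symm

end Groth.Agent.S11457
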