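import Groth.Statements.S11459
import Groth.Agent.H24Def.BurchLift
import Mathlib.RingTheory.HopkinsLevitzki

set_option autoImplicit false
set_option linter.style.haveILetI false
universe u
open DefT

namespace Groth.Agent.S11459

/-- Let C' be a local Artin ring, J ⊊ C' a proper ideal annihilated by the maximal ideal, C = C'/J, A' a
flat C'-algebra of finite type with smooth special fibre, A = A'/JA', and φ an (r+1) × r matrix over
A with 0 → A^r → A^{r+1} → A exact (matrix, then signed maximal minors f_i) A/(f_0, …, f_r) flat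
over C, and every prime of A containing (f_0, …, f_r) of height ≥ 2 (codimension 2). Then any ideal
I' ⊆ A' such that A'/I' is flat over C' and the image of I' in A is (f_0, …, f_r) is generated by
the signed maximal minors of some matrix φ' over A' reducing to φ. -/
theorem result (C' : Type u) [CommRing C'] [IsLocalRing C'] [IsArtinianRing C'] (J : Ideal C')
    (hJ : IsLocalRing.maximalIdeal C' * J = ⊥) (hJne : J ≠ ⊤) (A' : Type u) [CommRing A'] [Algebra C' A'] [Module.Flat C' A']
    [Algebra.FiniteType C' A']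
    [Algebra.Smooth (C' ⧸ IsLocalRing.maximalIdeal C') (A' ⧸ (IsLocalRing.maximalIdeal C').map (algebraMap C' A'))]
    (r : ℕ) (φ : Matrix (Fin (r + 1)) (Fin r) (A' ⧸ J.map (algebraMap C' A')))
    (hφ : Function.Injective φ.mulVecLin ∧
      LinearMap.range φ.mulVecLin = LinearMap.ker (Fintype.linearCombination (A' ⧸ J.map (algebraMap C' A')) (fun i : Fin (r + 1) => (-1 : (A' ⧸ J.map (algebraMap C' A'))) ^ (i : ℕ) * ((φ).submatrix i.succAbove id).det)))
    [Module.Flat (C' ⧸ J) ((A' ⧸ J.map (algebraMap C' A')) ⧸ Ideal.span (Set.range (fun i : Fin (r + 1) => (-1 : (A' ⧸ J.map (algebraMap C' A'))) ^ (i : ℕ) * ((φ).submatrix i.succAbove id).det)))]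
    (hcodim : ∀ p : Ideal (A' ⧸ J.map (algebraMap C' A')), p.IsPrime →
      Ideal.span (Set.range (fun i : Fin (r + 1) => (-1 : (A' ⧸ J.map (algebraMap C' A'))) ^ (i : ℕ) * ((φ).submatrix i.succAbove id).det)) ≤ p → (2 : ℕ∞) ≤ p.height)
    (I' : Ideal A') [Module.Flat C' (A' ⧸ I')]
    (hI' : I'.map (Ideal.Quotient.mk (J.map (algebraMap C' A'))) = Ideal.span (Set.range (fun i : Fin (r + 1) => (-1 : (A' ⧸ J.map (algebraMap C' A'))) ^ (i : ℕ) * ((φ).submatrix i.succAbove id).det))) :
    ∃ φ' : Matrix (Fin (r + 1)) (Fin r) A', φ'.map (Ideal.Quotient.mk (J.map (algebraMap C' A'))) = φ ∧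
      I' = Ideal.span (Set.range (fun i : Fin (r + 1) => (-1 : A') ^ (i : ℕ) * ((φ').submatrix i.succAbove id).det)) := by
  haveI : IsNoetherianRing A' := Algebra.FiniteType.isNoetherianRing C' A'
  have hJnil : IsNilpotent J := by
    obtain ⟨n, hn⟩ := (isArtinianRing_iff_isNilpotent_maximalIdeal C').mp inferInstance
    refine ⟨n, ?_⟩
    rw [Ideal.zero_eq_bot, eq_bot_iff, ← Ideal.zero_eq_bot, ← hn]
    exact Ideal.pow_right_mono (IsLocalRing.le_maximalIdeal hJne) n
  obtain ⟨φ', h0, h1, -, -⟩ := Groth.Agent.H24Def.exists_lift_resolution J hJnil I' φ hI'.symm hφ.1 hφ.2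
  exact ⟨φ', h0, h1.symm⟩

end Groth.Agent.S11459
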