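import Groth.Statements.S1146
import Groth.Agent.H17.Dim
import Groth.Agent.H06Unram.SmoothQF

set_option autoImplicit false
open CategoryTheory CategoryTheory.Limits AlgebraicGeometry Opposite
universe u
open Desc

namespace Groth.Agent.S1146

/-- Let f : U ⟶ V be an etale morphism of schemes and u a point of U. Then the local dimension of U at u
(the infimum of the Krull dimensions of open neighbourhoods) equals the local dimension of V at
f(u). -/
theorem result {U V : Scheme.{u}} (f : U ⟶ V) [Etale f] (u : U) :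
    FlatMor.localDim U u = FlatMor.localDim V (f.base u) := by
  haveI : LocallyQuasiFinite f :=
    ((Groth.Agent.H06Unram.etale_iff_smooth_and_locallyQuasiFinite f).mp inferInstance).2
  have hno : ∀ x y : U, x ⤳ y → f x = f y → x = y := by
    intro x y hxy he
    have hd := (f.isDiscrete_preimage_singleton (f x))
    obtain ⟨O, hO, hOS⟩ := isDiscrete_iff_forall_mem_exists_isOpen.1 hd y he.symm
    have hy : y ∈ O := (hOS.ge (Set.mem_singleton y)).1
    exact hOS.le ⟨hxy.mem_open hO hy, rfl⟩
  have hgen : GeneralizingMap f := Flat.generalizingMap f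
  have key : ∀ W : U.Opens, topologicalKrullDim (W : Set U) =
      topologicalKrullDim (f '' W : Set V) := by
    intro W
    haveI : QuasiSober (W : Set U) := W.2.isOpenEmbedding_subtypeVal.quasiSober
    have hopen : IsOpen (f '' W) := f.isOpenMap _ W.2
    haveI : QuasiSober (f '' W : Set V) := hopen.isOpenEmbedding_subtypeVal.quasiSober
    let g : ↥(W : Set U) → ↥(f '' (W : Set U)) := Set.MapsTo.restrict f _ _ (Set.mapsTo_image f (W : Set U))
    have hg : Continuous g := f.continuous.restrict (Set.mapsTo_image f (W : Set U))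
    refine le_antisymm
      (Groth.Agent.H17.topologicalKrullDim_le_of_noSpecializationsInFibres g hg fun x y hxy he =>
        Subtype.ext (hno _ _ (hxy.map continuous_subtype_val) (congrArg Subtype.val he)))
      (Groth.Agent.H17.topologicalKrullDim_le_of_generalizingMap g (fun a b hb => ?_) ?_)
    · obtain ⟨c, hc, hcb⟩ := hgen (a := a.1) (b := b.1) (hb.map continuous_subtype_val)
      refine ⟨⟨c, hc.mem_open W.2 a.2⟩, ?_, Subtype.ext hcb⟩
      exact Topology.IsInducing.subtypeVal.specializes_iff.1 hc
    · rintro ⟨_, x, hx, rfl⟩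
      exact ⟨⟨x, hx⟩, rfl⟩
  refine le_antisymm (le_iInf fun V₀ => ?_) (le_iInf fun W => ?_)
  · refine iInf_le_of_le ⟨f ⁻¹ᵁ V₀.1, V₀.2⟩ ((key _).le.trans ?_)
    have hsub : (f '' (f ⁻¹ᵁ V₀.1 : U.Opens) : Set V) ⊆ (V₀.1 : Set V) := by
      rintro _ ⟨x, hx, rfl⟩; exact hx
    exact (Topology.IsEmbedding.inclusion hsub).isInducing.topologicalKrullDim_le
  · refine iInf_le_of_le ⟨⟨f '' W.1, f.isOpenMap _ W.1.2⟩, u, W.2, rfl⟩ ?_
    exact (key W.1).ge

end Groth.Agent.S1146
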