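import Groth.Statements.S11461
import Mathlib.RingTheory.Ideal.AssociatedPrime.Finiteness
import Mathlib.Algebra.Homology.ShortComplex.ModuleCat
import Mathlib.RingTheory.Nakayama

set_option autoImplicit false
universe u
open CategoryTheory
open DefT

namespace Groth.Agent.S11461

/-- Let B be a Noetherian ring and F an additive, B-linear endofunctor of B-modules which preserves
finite generation and is semi-exact on short exact sequences of finitely generated modules (the
image sequence is exact in the middle). If F kills B/m for every maximal ideal m, then F kills every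
finitely generated B-module. (The published statement assumes F only additive; this row assumes F
B-linear, and takes the functor on all B-modules with the hypotheses and the conclusion on the
finitely generated ones.) -/
theorem result (B : Type u) [CommRing B]
    [IsNoetherianRing B] (F : ModuleCat.{u} B ⥤ ModuleCat.{u} B) [F.Additive] [F.Linear B]
    (hfg : ∀ M : ModuleCat.{u} B, Module.Finite B M → Module.Finite B (F.obj M))
    (hex : ∀ S : ShortComplex (ModuleCat.{u} B), S.ShortExact → Module.Finite B S.X₂ → (S.map F).Exact)
    (h0 : ∀ m : Ideal B, m.IsMaximal → Limits.IsZero (F.obj (ModuleCat.of B (B ⧸ m))))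
    (M : ModuleCat.{u} B) (hM : Module.Finite B M) : Limits.IsZero (F.obj M) := by
  have hzero : ∀ N : ModuleCat.{u} B, Subsingleton N → Limits.IsZero (F.obj N) := fun N _ =>
    F.map_isZero (ModuleCat.isZero_of_subsingleton N)
  suffices key : ∀ I : Ideal B, ∀ (N : Type u) [AddCommGroup N] [Module B N], Module.Finite B N →
      I ≤ Module.annihilator B N → Limits.IsZero (F.obj (ModuleCat.of B N)) from
    key ⊥ M hM bot_le
  intro I
  induction I using WellFoundedGT.induction with
  | ind I ih =>
  intro N _ _ hN
  refine IsNoetherianRing.induction_on_isQuotientEquivQuotientPrime B hN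
    (motive := fun N _ _ _ => I ≤ Module.annihilator B N → Limits.IsZero (F.obj (ModuleCat.of B N)))
    ?_ ?_ ?_
  · intro N _ _ _ _ _
    exact hzero _ ‹_›
  · intro N _ _ _ q e hIN
    have hIq : I ≤ q.asIdeal := by
      refine hIN.trans ?_
      rw [e.annihilator_eq, Ideal.annihilator_quotient]
    refine Limits.IsZero.of_iso ?_ (F.mapIso e.toModuleIso)
    by_cases hlt : I < q.asIdeal
    · exact ih _ hlt (B ⧸ q.asIdeal) inferInstance (by rw [Ideal.annihilator_quotient])
    · obtain rfl : q.asIdeal = I := le_antisymm (by
        by_contra h; exact hlt (lt_of_le_of_ne hIq fun h' => h (h'.ge))) hIq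
      set p := q.asIdeal
      set G := F.obj (ModuleCat.of B (B ⧸ p))
      haveI : Module.Finite B G := hfg _ inferInstance
      have hann : ∀ m : Ideal B, m.IsMaximal → ¬ Module.annihilator B G ≤ m := by
        intro m hm hle
        have hpm : p ≤ m := by
          intro a ha
          refine hle (Module.mem_annihilator.mpr fun g => ?_)
          have h0' : (a • 𝟙 (ModuleCat.of B (B ⧸ p))) = 0 := by
            refine ModuleCat.hom_ext (LinearMap.ext fun (x : B ⧸ p) => ?_)
            obtain ⟨x, rfl⟩ := Ideal.Quotient.mk_surjective x
            change a • (Submodule.Quotient.mk x : B ⧸ p) = 0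
            rw [← Submodule.Quotient.mk_smul, Submodule.Quotient.mk_eq_zero]
            exact p.mul_mem_right _ ha
          have h1 := congrArg (fun φ => (F.map φ).hom g) h0'
          simpa using h1
        rcases eq_or_lt_of_le hpm with heq | hlt'
        · subst heq
          haveI := ModuleCat.subsingleton_of_isZero (h0 p hm)
          exact hm.ne_top (eq_top_iff.mpr (le_trans (Module.annihilator_eq_top_iff.mpr inferInstance).ge hle))
        · obtain ⟨x, hxm, hxp⟩ := SetLike.exists_of_lt hlt'
          let φ : ModuleCat.of B (B ⧸ p) ⟶ ModuleCat.of B (B ⧸ p) := x • 𝟙 _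
          let ψ : ModuleCat.of B (B ⧸ p) ⟶ ModuleCat.of B (B ⧸ (p ⊔ Ideal.span {x})) :=
            ModuleCat.ofHom (Submodule.factor le_sup_left)
          have hw : φ ≫ ψ = 0 := by
            refine ModuleCat.hom_ext (LinearMap.ext fun (y : B ⧸ p) => ?_)
            obtain ⟨y, rfl⟩ := Ideal.Quotient.mk_surjective y
            change Submodule.factor le_sup_left (x • (Submodule.Quotient.mk y : B ⧸ p)) = 0
            rw [← Submodule.Quotient.mk_smul]
            erw [Submodule.factor_mk, Submodule.Quotient.mk_eq_zero]
            exact Ideal.mem_sup_right (Ideal.mul_mem_right _ _ (Ideal.mem_span_singleton_self x))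
          have hS : (ShortComplex.mk φ ψ hw).ShortExact := by
            refine { exact := ?_, mono_f := ?_, epi_g := ?_ }
            · rw [ShortComplex.moduleCat_exact_iff]
              intro (y : B ⧸ p) hy
              obtain ⟨y, rfl⟩ := Ideal.Quotient.mk_surjective y
              change Submodule.factor le_sup_left (Submodule.Quotient.mk y : B ⧸ p) = 0 at hy
              erw [Submodule.factor_mk, Submodule.Quotient.mk_eq_zero, Submodule.mem_sup] at hy
              obtain ⟨a, ha, b, hb, rfl⟩ := hy
              obtain ⟨c, rfl⟩ := Ideal.mem_span_singleton'.mp hb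
              refine ⟨Submodule.Quotient.mk c, ?_⟩
              change x • (Submodule.Quotient.mk c : B ⧸ p) = Submodule.Quotient.mk (a + c * x)
              rw [← Submodule.Quotient.mk_smul, Submodule.Quotient.eq, smul_eq_mul]
              ring_nf
              exact p.neg_mem ha
            · rw [ModuleCat.mono_iff_injective, injective_iff_map_eq_zero]
              intro (y : B ⧸ p) hy
              obtain ⟨y, rfl⟩ := Ideal.Quotient.mk_surjective y
              change x • (Submodule.Quotient.mk y : B ⧸ p) = 0 at hy
              rw [← Submodule.Quotient.mk_smul, Submodule.Quotient.mk_eq_zero] at hy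
              exact Ideal.Quotient.eq_zero_iff_mem.mpr ((q.isPrime.mem_or_mem hy).resolve_left hxp)
            · rw [ModuleCat.epi_iff_surjective]
              exact Submodule.factor_surjective le_sup_left
          have hz : Limits.IsZero (F.obj (ModuleCat.of B (B ⧸ (p ⊔ Ideal.span {x})))) :=
            ih _ (Submodule.lt_sup_iff_notMem.mpr hxp) _ inferInstance (by rw [Ideal.annihilator_quotient])
          have hex' := (ShortComplex.moduleCat_exact_iff _).mp (hex _ hS inferInstance)
          have hsurj : (⊤ : Submodule B G) ≤ Ideal.span {x} • ⊤ := by
            intro g _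
            haveI := ModuleCat.subsingleton_of_isZero hz
            obtain ⟨g', hg'⟩ := hex' g (@Subsingleton.elim _ (ModuleCat.subsingleton_of_isZero hz) _ _)
            have : x • g' = g := by
              change (F.map φ).hom g' = g at hg'
              simp [φ] at hg'
              exact hg'
            rw [← this]
            exact Submodule.smul_mem_smul (Ideal.mem_span_singleton_self x) trivial
          obtain ⟨r, hr, hr0⟩ := Submodule.exists_sub_one_mem_and_smul_eq_zero_of_fg_of_le_smul
            _ (⊤ : Submodule B G) Module.Finite.fg_top hsurj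
          have hrm : r ∈ m := hle (Module.mem_annihilator.mpr fun g => hr0 g trivial)
          have h1m : r - 1 ∈ m := (Ideal.span_le.mpr (Set.singleton_subset_iff.mpr hxm)) hr
          exact hm.ne_top ((Ideal.eq_top_iff_one m).mpr (by simpa using m.sub_mem hrm h1m))
      have htop : Module.annihilator B G = ⊤ := by
        by_contra h
        obtain ⟨m, hm, hle⟩ := Ideal.exists_le_maximal _ h
        exact hann m hm hle
      haveI := Module.annihilator_eq_top_iff.mp htop
      exact ModuleCat.isZero_of_subsingleton G
  · intro N₁ _ _ _ N₂ _ _ _ N₃ _ _ _ f g hf hg hfg ih₁ ih₃ hI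
    have h1 := ih₁ (hI.trans (f.annihilator_le_of_injective hf))
    have h3 := ih₃ (hI.trans (g.annihilator_le_of_surjective hg))
    have hw : ModuleCat.ofHom f ≫ ModuleCat.ofHom g = 0 :=
      ModuleCat.hom_ext hfg.linearMap_comp_eq_zero
    have hS : (ShortComplex.mk (ModuleCat.ofHom f) (ModuleCat.ofHom g) hw).ShortExact :=
      { exact := (ShortComplex.moduleCat_exact_iff _).mpr fun y hy => (hfg y).mp hy
        mono_f := (ModuleCat.mono_iff_injective _).mpr hf
        epi_g := (ModuleCat.epi_iff_surjective _).mpr hg }
    exact (hex _ hS (by assumption)).isZero_of_both_zeros (h1.eq_of_src _ _) (h3.eq_of_tgt _ _)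

end Groth.Agent.S11461
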