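import Groth.Statements.S11462
import Groth.Agent.H24Def.Hartogs
import Mathlib.RingTheory.HopkinsLevitzki

set_option autoImplicit false
set_option linter.style.haveILetI false
universe u
open CategoryTheory AlgebraicGeometry Opposite
open DefT

namespace Groth.Agent.S11462

/-- Let C be a local Artin ring with maximal ideal m, A a Noetherian C-algebra flat over C such that
Spec(A/mA) is a normal scheme, and U ⊆ X = Spec A an open subset whose closed complement has
codimension ≥ 2, i.e. every prime of A not in U has height at least 2. Then the restriction map Γ(X,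
O_X) → Γ(U, O_X) is bijective. (The published statement assumes only that A is flat over C with
normal special fibre; this row also assumes A Noetherian: for a valuation ring of rank two over a
field, which is normal and flat, the functions on the complement of the closed point are not all
global.) -/
theorem result (C : Type u) [CommRing C]
    [IsLocalRing C] [IsArtinianRing C] (A : Type u) [CommRing A] [IsNoetherianRing A] [Algebra C A]
    [Module.Flat C A]
    (hnorm : Pi1.IsNormalScheme (Spec (CommRingCat.of (A ⧸ (IsLocalRing.maximalIdeal C).map (algebraMap C A)))))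
    (U : (Spec (CommRingCat.of A)).Opens)
    (hU : ∀ p : ↥(Spec (CommRingCat.of A)), p ∉ U → (2 : ℕ∞) ≤ p.asIdeal.height) :
    Function.Bijective ((Spec (CommRingCat.of A)).presheaf.map (homOfLE (le_top : U ≤ ⊤)).op) := by
  classical
  let K : Ideal A := (IsLocalRing.maximalIdeal C).map (algebraMap C A)
  let q : A →+* A ⧸ K := Ideal.Quotient.mk K
  have hn : ∀ (p : Ideal (A ⧸ K)) [p.IsPrime], IsDomain (Localization.AtPrime p) ∧
      IsIntegrallyClosed (Localization.AtPrime p) := fun p hp => by
    let e : Localization.AtPrime p ≃+* (Spec (CommRingCat.of (A ⧸ K))).presheaf.stalk (⟨p, hp⟩ : PrimeSpectrum (A ⧸ K)) :=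
      (StructureSheaf.stalkIso (A ⧸ K) (⟨p, hp⟩ : PrimeSpectrum (A ⧸ K))).toRingEquiv
    haveI h1 : IsDomain ((Spec (CommRingCat.of (A ⧸ K))).presheaf.stalk (⟨p, hp⟩ : PrimeSpectrum (A ⧸ K))) := (hnorm _).1
    haveI h2 : IsIntegrallyClosed ((Spec (CommRingCat.of (A ⧸ K))).presheaf.stalk (⟨p, hp⟩ : PrimeSpectrum (A ⧸ K))) := (hnorm _).2
    haveI : IsDomain ((Spec (CommRingCat.of (A ⧸ K))).presheaf.stalk (⟨p, hp⟩ : PrimeSpectrum (A ⧸ K))) := h1
    exact ⟨MulEquiv.isDomain _ e.toMulEquiv, IsIntegrallyClosed.of_equiv e.symm⟩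
  let I : Ideal A := PrimeSpectrum.vanishingIdeal ((U.carrier : Set (PrimeSpectrum A))ᶜ)
  have hIU : ∀ p : PrimeSpectrum A, I ≤ p.asIdeal → p ∉ U := fun p hp => by
    have : p ∈ PrimeSpectrum.zeroLocus (I : Set A) := hp
    erw [PrimeSpectrum.zeroLocus_vanishingIdeal_eq_closure, U.isOpen.isClosed_compl.closure_eq] at this
    exact this
  have hKnil : IsNilpotent K := by
    obtain ⟨n, hn⟩ := (isArtinianRing_iff_isNilpotent_maximalIdeal C).mp inferInstance
    exact ⟨n, by rw [← Ideal.map_pow, hn, Ideal.zero_eq_bot, Ideal.map_bot]; rfl⟩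
  obtain ⟨x0, hx0, y0, hy0, hxr, hyr⟩ := Groth.Agent.H24Def.exists_regular_pair hn (I.map q) fun p hp hle => by
    have h2 : (2 : ℕ∞) ≤ (p.comap q).height :=
      hU ⟨p.comap q, Ideal.IsPrime.comap q⟩ (hIU _ (Ideal.map_le_iff_le_comap.mp hle))
    let e : PrimeSpectrum (A ⧸ K) ↪o PrimeSpectrum A :=
      OrderEmbedding.ofMapLEIff (PrimeSpectrum.comap q) fun a b =>
        (Ideal.comap_le_comap_iff_of_surjective q Ideal.Quotient.mk_surjective a.asIdeal b.asIdeal)
    have hes : Function.Surjective e := fun a => by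
      have hle' : K ≤ a.asIdeal := fun z hz => by
        obtain ⟨n, hn⟩ := hKnil
        refine a.isPrime.mem_of_pow_mem n ?_
        have := Ideal.pow_mem_pow hz n
        rw [hn, Ideal.zero_eq_bot, Ideal.mem_bot] at this
        rw [this]
        exact zero_mem _
      haveI := Ideal.isPrime_map_quotientMk_of_isPrime hle'
      refine ⟨⟨a.asIdeal.map q, inferInstance⟩, PrimeSpectrum.ext ?_⟩
      show (a.asIdeal.map q).comap q = a.asIdeal
      rw [Ideal.comap_map_of_surjective q Ideal.Quotient.mk_surjective, ← RingHom.ker_eq_comap_bot, Ideal.mk_ker,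
        sup_eq_left.mpr hle']
    have h3 := Order.height_orderIso (RelIso.ofSurjective e hes) (⟨p, hp⟩ : PrimeSpectrum (A ⧸ K))
    haveI : (p.comap q).IsPrime := Ideal.IsPrime.comap q
    change (2 : ℕ∞) ≤ (e (⟨p, hp⟩ : PrimeSpectrum (A ⧸ K))).asIdeal.height at h2
    change (2 : ℕ∞) ≤ (⟨p, hp⟩ : PrimeSpectrum (A ⧸ K)).asIdeal.height
    rw [PrimeSpectrum.height_eq_orderHeight] at h2 ⊢
    rw [← h3]
    exact h2
  obtain ⟨x, hxI, rfl⟩ := (Ideal.mem_map_iff_of_surjective q Ideal.Quotient.mk_surjective).mp hx0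
  obtain ⟨y, hyI, rfl⟩ := (Ideal.mem_map_iff_of_surjective q Ideal.Quotient.mk_surjective).mp hy0
  obtain ⟨hx, hy⟩ := Groth.Agent.H24Def.regular_pair_lift (R := C) x y hxr hyr
  let e : Γ(Spec (CommRingCat.of A), ⊤) ≃+* A := (Scheme.ΓSpecIso (CommRingCat.of A)).commRingCatIsoToRingEquiv
  refine Groth.Agent.H24Def.bijective_restrict_of_regular_pair (e.symm x) (e.symm y) ?_ ?_ U ?_ ?_
  · refine isLeftRegular_iff_isRegular.mp fun a b hab => e.injective (hx.left ?_)
    simpa using congrArg e hab
  · intro z hz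
    have := hy (e z) (by simpa using map_dvd e hz)
    simpa using map_dvd e.symm this
  all_goals
    intro p hp
    rw [show e.symm _ = (Scheme.ΓSpecIso (CommRingCat.of A)).inv _ from rfl, basicOpen_eq_of_affine] at hp
    by_contra hpU
  · exact hp ((PrimeSpectrum.mem_vanishingIdeal _ _).mp hxI p hpU)
  · exact hp ((PrimeSpectrum.mem_vanishingIdeal _ _).mp hyI p hpU)

end Groth.Agent.S11462
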