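import Groth.Statements.S11463
import Groth.Agent.H27Fogarty.Regular
import Groth.Agent.H19Grp.AlgClosedGeom
import Groth.Agent.H17.FLI.ProjTop
import Groth.Agent.H21Taylor.GeomInt
import Groth.Agent.H22Alg.PnBC

set_option linter.style.haveILetI false
set_option backward.isDefEq.respectTransparency false
set_option backward.isDefEq.respectTransparency.types false

set_option autoImplicit false
universe u
open CategoryTheory AlgebraicGeometry
open DefT

namespace Groth.Agent.S11463

/-- For k algebraically closed and every n > 0, the Hilbert scheme Hilb^n(P²_k) of zero-dimensional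
closed subschemes of length n of the projective plane is irreducible: any k-scheme H representing
the functor Hilb^n of P²_k over Spec k (with universal family Z) has irreducible underlying space. -/
theorem result (k : Type u) [Field k] [IsAlgClosed k]
    (n : ℕ) (hn : 0 < n) (H : Over (Spec (CommRingCat.of k)))
    (Z : HilbD.Obj (CohB1.ProjSpace.toSpec 2 k) n H)
    (hH : HilbD.IsUniversal (CohB1.ProjSpace.toSpec 2 k) n H Z) :
    IrreducibleSpace H.left := by
  haveI : IsIntegral (CohB1.ProjSpace 2 k) := LeadPic.PnRel.isIntegral_projSpace (n := 2) k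
  haveI := SmoothOfRelativeDimension.smooth 2 (CohB1.ProjSpace.toSpec 2 k)
  haveI := H27Weil.isProper_toSpec 2 k
  have hdim : topologicalKrullDim (CohB1.ProjSpace 2 k) = 2 := by
    obtain ⟨x⟩ := (inferInstance : Nonempty (CohB1.ProjSpace 2 k))
    rw [← H8Props.FieldDim.localDim_eq_dim_of_irreducible (CohB1.ProjSpace.toSpec 2 k) x,
      H8Props.FieldDim.localDim_eq_of_smooth (CohB1.ProjSpace.toSpec 2 k) 2]
    rfl
  have hqp : RelProj.IsHQuasiProjective (CohB1.ProjSpace.toSpec 2 k) := by
    obtain ⟨φ, hφ⟩ := H22Alg.PnBC.isPullback_projSpaceOver 2 k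
    exact ⟨2, φ.inv, inferInstance, inferInstance, by rw [← hφ, Iso.inv_hom_id_assoc]⟩
  obtain ⟨hc, hreg, -⟩ := H27Fogarty.fogarty hqp
    (H27Fogarty.twoGen_of_regular (fun y => H19Grp.isRegularLocalRing_stalk_of_smooth (CohB1.ProjSpace.toSpec 2 k) y)
      hdim.le) hdim.ge n H Z hH
  haveI := hc
  haveI : LocallyOfFiniteType H.hom := H27Fogarty.locallyOfFiniteType (CohB1.ProjSpace.toSpec 2 k)
    (fun x => H27Fogarty.exists_affine_of_isHQuasiProjective hqp x) H Z hH
  haveI : IsLocallyNoetherian H.left := LocallyOfFiniteType.isLocallyNoetherian H.hom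
  exact H21Taylor.irreducibleSpace_of_connected_of_domain_stalks H.left fun t =>
    haveI := hreg t
    H4Depth.isDomain_of_isRegularLocalRing _

end Groth.Agent.S11463
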