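import Groth.Statements.S11469
import Mathlib.RingTheory.Flat.Basic

set_option autoImplicit false
set_option linter.style.haveILetI false
universe u
open scoped TensorProduct
open DefT

namespace Groth.Agent.S11469

/-- Let C' be a local Artin ring with maximal ideal m, J ⊊ C' a proper ideal with mJ = 0, A' a
C'-algebra, M' an A'-module flat over C', and M₀ = M'/mM'. Then (1) every A'-linear endomorphism σ
of M' that is the identity modulo JM' is bijective, and there is exactly one A'-linear τ : M₀ → M₀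
⊗_{C'} J such that, for all x ∈ M' and all z ∈ M' ⊗_{C'} J mapping to σ(x) − x in M', the image of z
in M₀ ⊗_{C'} J is τ applied to the class of x; and (2) every A'-linear τ : M₀ → M₀ ⊗_{C'} J comes in
this way from some such σ. Thus the automorphisms of the extension M' inducing the identity on
M'/JM' correspond to Hom(M₀, M₀ ⊗ J). -/
theorem result (C' : Type u) [CommRing C'] [IsLocalRing C']
    [IsArtinianRing C'] (J : Ideal C') (hJ : IsLocalRing.maximalIdeal C' * J = ⊥) (hJne : J ≠ ⊤)
    (A' : Type u) [CommRing A'] [Algebra C' A'] (M' : Type u) [AddCommGroup M'] [Module A' M'] [Module C' M']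
    [IsScalarTower C' A' M'] [Module.Flat C' M'] :
    (∀ σ : M' →ₗ[A'] M', (∀ x : M', σ x - x ∈ (J.map (algebraMap C' A')) • (⊤ : Submodule A' M')) →
      Function.Bijective σ ∧
        ∃! τ : (M' ⧸ ((IsLocalRing.maximalIdeal C').map (algebraMap C' A')) • (⊤ : Submodule A' M')) →ₗ[A'] ((M' ⧸ ((IsLocalRing.maximalIdeal C').map (algebraMap C' A')) • (⊤ : Submodule A' M')) ⊗[C'] ↥J),
          (∀ (x : M') (z : M' ⊗[C'] ↥J), TensorProduct.rid C' M' (LinearMap.lTensor M' (Submodule.subtype J) z) = σ x - x →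
            LinearMap.rTensor ↥J ((Submodule.mkQ (((IsLocalRing.maximalIdeal C').map (algebraMap C' A')) • (⊤ : Submodule A' M'))).restrictScalars C') z =
              τ (Submodule.mkQ _ x))) ∧
    (∀ τ : (M' ⧸ ((IsLocalRing.maximalIdeal C').map (algebraMap C' A')) • (⊤ : Submodule A' M')) →ₗ[A'] ((M' ⧸ ((IsLocalRing.maximalIdeal C').map (algebraMap C' A')) • (⊤ : Submodule A' M')) ⊗[C'] ↥J),
      ∃ σ : M' →ₗ[A'] M', (∀ x : M', σ x - x ∈ (J.map (algebraMap C' A')) • (⊤ : Submodule A' M')) ∧
          (∀ (x : M') (z : M' ⊗[C'] ↥J), TensorProduct.rid C' M' (LinearMap.lTensor M' (Submodule.subtype J) z) = σ x - x →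
            LinearMap.rTensor ↥J ((Submodule.mkQ (((IsLocalRing.maximalIdeal C').map (algebraMap C' A')) • (⊤ : Submodule A' M'))).restrictScalars C') z =
              τ (Submodule.mkQ _ x))) := by
  classical
  let m : Ideal C' := IsLocalRing.maximalIdeal C'
  let P : Submodule A' M' := (m.map (algebraMap C' A')) • (⊤ : Submodule A' M')
  let N : Submodule A' M' := (J.map (algebraMap C' A')) • (⊤ : Submodule A' M')
  let q : M' →ₗ[A'] M' ⧸ P := P.mkQ
  let ι : M' ⊗[C'] ↥J →ₗ[A'] M' :=
    (TensorProduct.AlgebraTensorModule.rid C' A' M').toLinearMap ∘ₗ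
      TensorProduct.AlgebraTensorModule.map (LinearMap.id : M' →ₗ[A'] M') J.subtype
  have hι : ∀ z, ι z = TensorProduct.rid C' M' (LinearMap.lTensor M' (Submodule.subtype J) z) := by
    intro z
    induction z with
    | zero => simp
    | tmul x j => simp [ι]
    | add a b ha hb => simp [ha, hb]
  have hιinj : Function.Injective ι := by
    intro a b hab
    rw [hι, hι] at hab
    exact Module.Flat.lTensor_preserves_injective_linearMap (M := M') J.subtype J.subtype_injective
      ((TensorProduct.rid C' M').injective hab)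
  have hrange : LinearMap.range ι = N := by
    apply le_antisymm
    · rintro _ ⟨z, rfl⟩
      induction z with
      | zero => simp
      | tmul x j =>
        have : ι (x ⊗ₜ[C'] j) = algebraMap C' A' (j : C') • x := by simp [ι]
        rw [this]
        exact Submodule.smul_mem_smul (Ideal.mem_map_of_mem _ j.2) trivial
      | add a b ha hb => rw [map_add]; exact add_mem ha hb
    · refine Submodule.smul_le.mpr fun r hr x _ => ?_
      refine Submodule.span_induction (p := fun r _ => r • x ∈ LinearMap.range ι) ?_ ?_ ?_ ?_ hr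
      · rintro _ ⟨j, hj, rfl⟩
        exact ⟨x ⊗ₜ[C'] ⟨j, hj⟩, by simp [ι]⟩
      · simp
      · intro a b _ _ ha hb
        rw [add_smul]; exact add_mem ha hb
      · intro a b _ hb
        rw [smul_assoc]; exact Submodule.smul_mem _ a hb
  let qT : M' ⊗[C'] ↥J →ₗ[A'] (M' ⧸ P) ⊗[C'] ↥J :=
    TensorProduct.AlgebraTensorModule.map q (LinearMap.id : ↥J →ₗ[C'] ↥J)
  have hqT : ∀ z, qT z = LinearMap.rTensor ↥J (q.restrictScalars C') z := by
    intro z
    induction z with
    | zero => simp
    | tmul x j => simp [qT]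
    | add a b ha hb => simp only [map_add, ha, hb]
  have hP0 : ∀ (r : A'), r ∈ m.map (algebraMap C' A') → ∀ (x : M') (j : ↥J),
      (r • x) ⊗ₜ[C'] j = (0 : M' ⊗[C'] ↥J) := by
    intro r hr
    refine Submodule.span_induction (p := fun r _ => ∀ (x : M') (j : ↥J), (r • x) ⊗ₜ[C'] j = (0 : M' ⊗[C'] ↥J))
      ?_ ?_ ?_ ?_ hr
    · rintro _ ⟨c, hc, rfl⟩ x j
      have h0 : c • j = 0 := by
        apply Subtype.ext
        have : c * (j : C') ∈ m * J := Ideal.mul_mem_mul hc j.2
        rw [hJ] at this
        simpa using this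
      rw [algebraMap_smul, TensorProduct.smul_tmul, h0, TensorProduct.tmul_zero]
    · intro x j; simp
    · intro a b _ _ ha hb x j
      rw [add_smul, TensorProduct.add_tmul, ha, hb, add_zero]
    · intro a b _ hb x j
      rw [smul_eq_mul, mul_comm, mul_smul, hb]
  have hqTbij : Function.Bijective qT := by
    refine ⟨?_, ?_⟩
    · rw [injective_iff_map_eq_zero]
      intro z hz
      rw [hqT] at hz
      have hex : Function.Exact (P.subtype.restrictScalars C') (q.restrictScalars C') :=
        LinearMap.exact_subtype_mkQ P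
      obtain ⟨w, rfl⟩ := (rTensor_exact ↥J hex (Submodule.mkQ_surjective P) z).mp hz
      clear hz
      induction w with
      | zero => simp
      | tmul p j =>
        rw [LinearMap.rTensor_tmul]
        show (p : M') ⊗ₜ[C'] j = 0
        refine Submodule.smul_induction_on (p := fun y : M' => y ⊗ₜ[C'] j = (0 : M' ⊗[C'] ↥J)) p.2
          (fun r hr x _ => hP0 r hr x j) (fun a b ha hb => ?_)
        rw [TensorProduct.add_tmul, ha, hb, add_zero]
      | add a b ha hb => rw [map_add, ha, hb, add_zero]
    · intro z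
      obtain ⟨w, hw⟩ := LinearMap.rTensor_surjective ↥J (g := q.restrictScalars C') (Submodule.mkQ_surjective P) z
      exact ⟨w, (hqT w).trans hw⟩
  have hJm : J ≤ m := IsLocalRing.le_maximalIdeal hJne
  have hmJ0 : ∀ (r : A'), r ∈ m.map (algebraMap C' A') → ∀ y ∈ N, r • y = 0 := by
    intro r hr y hy
    refine Submodule.smul_induction_on (p := fun y => r • y = 0) hy ?_ ?_
    · intro s hs x _
      have : r * s ∈ m.map (algebraMap C' A') * J.map (algebraMap C' A') := Ideal.mul_mem_mul hr hs
      rw [← Ideal.map_mul, hJ, Ideal.map_bot, Ideal.mem_bot] at this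
      rw [← mul_smul, this, zero_smul]
    · intro a b ha hb
      rw [smul_add, ha, hb, add_zero]
  have hP_N : ∀ (δ : M' →ₗ[A'] M'), (∀ x, δ x ∈ N) → ∀ p ∈ P, δ p = 0 := by
    intro δ hδ p hp
    refine Submodule.smul_induction_on (p := fun y => δ y = 0) hp ?_ ?_
    · intro r hr x _
      rw [map_smul]; exact hmJ0 r hr _ (hδ x)
    · intro a b ha hb
      rw [map_add, ha, hb, add_zero]
  have hNP : N ≤ P := Submodule.smul_mono_left (Ideal.map_mono hJm)
  refine ⟨fun σ hσ => ⟨?_, ?_⟩, fun τ => ?_⟩
  · let δ : M' →ₗ[A'] M' := σ - LinearMap.id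
    have hδ0 : ∀ x, δ (δ x) = 0 := fun x => hP_N δ hσ _ (hNP (hσ x))
    refine Function.bijective_iff_has_inverse.mpr ⟨fun x => x - δ x, fun x => ?_, fun x => ?_⟩
    · have := hδ0 x
      simp only [δ, LinearMap.sub_apply, LinearMap.id_apply, map_sub] at this ⊢
      rw [← sub_eq_zero, ← neg_eq_zero, ← this]
      abel
    · have := hδ0 x
      simp only [δ, LinearMap.sub_apply, LinearMap.id_apply, map_sub] at this ⊢
      rw [← sub_eq_zero, ← neg_eq_zero, ← this]
      abel
  · let δ : M' →ₗ[A'] M' := σ - LinearMap.id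
    have hδN : ∀ x, δ x ∈ LinearMap.range ι := fun x => hrange ▸ hσ x
    let e := LinearEquiv.ofInjective ι hιinj
    let τ' : M' →ₗ[A'] (M' ⧸ P) ⊗[C'] ↥J :=
      qT ∘ₗ e.symm.toLinearMap ∘ₗ δ.codRestrict (LinearMap.range ι) hδN
    have hτ' : ∀ (x : M') (z : M' ⊗[C'] ↥J), ι z = δ x → τ' x = qT z := by
      intro x z hz
      show qT (e.symm (δ.codRestrict (LinearMap.range ι) hδN x)) = qT z
      congr 1
      rw [LinearEquiv.symm_apply_eq]
      exact Subtype.ext hz.symm
    have hker : P ≤ LinearMap.ker τ' := by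
      intro p hp
      rw [LinearMap.mem_ker, hτ' p 0 (by rw [map_zero, hP_N δ hσ p hp]), map_zero]
    refine ⟨P.liftQ τ' hker, ?_, ?_⟩
    · intro x z hz
      rw [← hqT, Submodule.mkQ_apply, Submodule.liftQ_apply]
      exact (hτ' x z ((hι z).trans hz)).symm
    · intro τ₂ h₂
      apply Submodule.linearMap_qext
      ext x
      obtain ⟨z, hz⟩ := hδN x
      have h3 := h₂ x z ((hι z).symm.trans hz)
      rw [← hqT] at h3
      exact h3.symm.trans (hτ' x z hz).symm
  · let eT := LinearEquiv.ofBijective qT hqTbij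
    let σ₀ : M' →ₗ[A'] M' := LinearMap.id + ι ∘ₗ eT.symm.toLinearMap ∘ₗ τ ∘ₗ q
    have hσ₀ : ∀ x, σ₀ x - x = ι (eT.symm (τ (q x))) := fun x => by simp [σ₀]
    refine ⟨σ₀, fun x => ?_, fun x z hz => ?_⟩
    · have : σ₀ x - x ∈ LinearMap.range ι := ⟨_, (hσ₀ x).symm⟩
      rwa [hrange] at this
    · rw [← hι] at hz
      rw [← hqT]
      have hz' : z = eT.symm (τ (q x)) := hιinj (hz.trans (hσ₀ x))
      rw [hz']
      exact eT.apply_symm_apply _

end Groth.Agent.S11469
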