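import Groth.Statements.S1147
import Groth.Agent.H8Props.FlatQFSlice
import Mathlib.RingTheory.Spectrum.Prime.Jacobson
import Mathlib.AlgebraicGeometry.Morphisms.QuasiFinite
import Mathlib.AlgebraicGeometry.Morphisms.FiniteType

set_option autoImplicit false
universe u
open Desc

namespace Groth.Agent.S1147

open CategoryTheory AlgebraicGeometry

/-- Let A → B be a faithfully flat ring map of finite presentation. If B is a Jacobson ring then so is
A. (This is the affine descent direction of the statement that the Jacobson property is fppf local.) -/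
theorem result (A B : Type u) [CommRing A] [CommRing B] [Algebra A B]
    [Module.FaithfullyFlat A B] [Algebra.FinitePresentation A B] [IsJacobsonRing B] : IsJacobsonRing A := by
  rw [PrimeSpectrum.isJacobsonRing_iff_jacobsonSpace, jacobsonSpace_iff_locallyClosed]
  rintro Z ⟨z, hz⟩ ⟨O, F, hO, hF, rfl⟩
  obtain ⟨_, ⟨f, rfl⟩, hzf, hfO⟩ := PrimeSpectrum.isTopologicalBasis_basic_opens.exists_subset_of_mem_open hz.1 hO
  obtain ⟨J, rfl⟩ := (PrimeSpectrum.isClosed_iff_zeroLocus_ideal _).1 hF
  obtain ⟨q, hq⟩ : ∃ q : Ideal (Localization.Away f), q.IsMaximal ∧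
      J.map (algebraMap A (Localization.Away f)) ≤ q := by
    obtain ⟨z', rfl⟩ : z ∈ Set.range (PrimeSpectrum.comap (algebraMap A (Localization.Away f))) := by
      rw [PrimeSpectrum.localization_away_comap_range (Localization.Away f) f]; exact hzf
    obtain ⟨q, hq, hle⟩ := Ideal.exists_le_maximal z'.asIdeal z'.2.ne_top
    exact ⟨q, hq, (Ideal.map_le_iff_le_comap.2 (show J ≤ (PrimeSpectrum.comap _ z').asIdeal from hz.2)).trans hle⟩
  have := hq.1
  let p : PrimeSpectrum A := PrimeSpectrum.comap (algebraMap A (Localization.Away f)) ⟨q, hq.1.isPrime⟩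
  have hpf : p ∈ (PrimeSpectrum.basicOpen f : Set (PrimeSpectrum A)) := by
    rw [← PrimeSpectrum.localization_away_comap_range (Localization.Away f) f]; exact ⟨_, rfl⟩
  have hpJ : J ≤ p.asIdeal := Ideal.map_le_iff_le_comap.1 hq.2
  have hlc : IsLocallyClosed ({p} : Set (PrimeSpectrum A)) := by
    have he := PrimeSpectrum.localization_away_isOpenEmbedding (Localization.Away f) f
    have hc : IsClosed ({⟨q, hq.1.isPrime⟩} : Set (PrimeSpectrum (Localization.Away f))) :=
      (PrimeSpectrum.isClosed_singleton_iff_isMaximal _).2 hq.1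
    have := hc.isLocallyClosed.image he.isInducing he.isOpen_range.isLocallyClosed
    rwa [Set.image_singleton] at this
  refine ⟨p, ⟨hfO hpf, hpJ⟩, ?_⟩
  rw [mem_closedPoints_iff, PrimeSpectrum.isClosed_singleton_iff_isMaximal]
  obtain ⟨m, hm, hle⟩ := Ideal.exists_le_maximal p.asIdeal p.2.ne_top
  suffices p.asIdeal = m by rwa [this]
  obtain ⟨q₀, hq₀⟩ := PrimeSpectrum.comap_surjective_of_faithfullyFlat (A := A) (B := B) ⟨m, hm.isPrime⟩
  obtain ⟨W, g, hW, hflat, hfp, hqf, hmem⟩ := H8Props.QFSlice.exists_flat_slice (A := A) q₀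
  set k : W ⟶ Spec (.of A) := g ≫ Spec.map (CommRingCat.ofHom (algebraMap A B)) with hk
  obtain ⟨w, hw⟩ : (⟨m, hm.isPrime⟩ : PrimeSpectrum A) ∈ Set.range k := by rw [← hq₀]; exact hmem
  have : LocallyOfFiniteType g := locallyOfFiniteType_of_comp g (Spec.map (CommRingCat.ofHom (algebraMap A B)))
  have := LocallyOfFiniteType.jacobsonSpace g
  obtain ⟨w', hw', hsp⟩ : ∃ w', k w' = p ∧ w' ⤳ w := by
    obtain ⟨w', hsp, hw'⟩ := (Flat.generalizingMap k) (show (p : Spec (.of A)) ⤳ k w by
      rw [hw]; exact (PrimeSpectrum.le_iff_specializes p ⟨m, hm.isPrime⟩).1 hle)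
    exact ⟨w', hw', hsp⟩
  have hd : _root_.IsDiscrete (k ⁻¹' {(p : Spec (.of A))}) := k.isDiscrete_preimage_singleton p
  have hlc' : IsLocallyClosed (k ⁻¹' {(p : Spec (.of A))}) :=
    (show IsLocallyClosed ({(p : Spec (.of A))} : Set (Spec (.of A))) from hlc).preimage k.continuous
  obtain ⟨U, hU, hUw⟩ := isDiscrete_iff_forall_mem_exists_isOpen.1 hd w' hw'
  obtain ⟨y, hy, hyc⟩ := nonempty_inter_closedPoints (Z := ({w'} : Set W)) (Set.singleton_nonempty _)
    (hUw ▸ hU.isLocallyClosed.inter hlc')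
  obtain rfl := Set.mem_singleton_iff.1 hy
  have : w = y := hsp.mem_closed hyc (Set.mem_singleton _)
  exact congrArg PrimeSpectrum.asIdeal ((hw'.symm.trans ((congrArg k this.symm).trans hw)))

end Groth.Agent.S1147
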