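import Groth.Statements.S11470
import Mathlib

set_option autoImplicit false
universe u
open Curves

namespace Groth.Agent.S11470

open Polynomial

variable {k : Type u} [Field k] [IsAlgClosed k]

/-- The `j`-function. -/
noncomputable def jj (k : Type u) [Field k] : RatFunc k :=
  (256 : RatFunc k) * ((RatFunc.X : RatFunc k) ^ 2 - RatFunc.X + 1) ^ 3 /
    ((RatFunc.X : RatFunc k) ^ 2 * ((RatFunc.X : RatFunc k) - 1) ^ 2)

lemma X_sub_one_ne : (RatFunc.X : RatFunc k) - 1 ≠ 0 := by
  intro h
  have h' : algebraMap k[X] (RatFunc k) (X - 1) = algebraMap k[X] (RatFunc k) 0 := by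
    rw [map_sub, map_one, RatFunc.algebraMap_X, h, map_zero]
  exact X_sub_C_ne_zero (1 : k) (by rw [C_1]; exact RatFunc.algebraMap_injective k h')

lemma jj_mul : jj k * ((RatFunc.X : RatFunc k) ^ 2 * ((RatFunc.X : RatFunc k) - 1) ^ 2) =
    256 * ((RatFunc.X : RatFunc k) ^ 2 - RatFunc.X + 1) ^ 3 :=
  div_mul_cancel₀ _ (mul_ne_zero (pow_ne_zero _ RatFunc.X_ne_zero) (pow_ne_zero _ X_sub_one_ne))

lemma n256 (h2 : (2 : k) ≠ 0) : (256 : k) ≠ 0 := by
  have h : (256 : k) = 2 ^ 8 := by norm_num
  rw [h]; exact pow_ne_zero _ h2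

lemma exists_num {b : RatFunc k} (hb : b ∈ Algebra.adjoin k
    ({RatFunc.X, (RatFunc.X : RatFunc k)⁻¹, ((RatFunc.X : RatFunc k) - 1)⁻¹} : Set (RatFunc k))) :
    ∃ (n : ℕ) (P : k[X]),
      b * ((RatFunc.X : RatFunc k) * (RatFunc.X - 1)) ^ n = algebraMap k[X] (RatFunc k) P := by
  have hX : (RatFunc.X : RatFunc k) ≠ 0 := RatFunc.X_ne_zero
  have hX1 := X_sub_one_ne (k := k)
  induction hb using Algebra.adjoin_induction with
  | mem y hy =>
    rcases hy with rfl | rfl | rfl
    · exact ⟨0, X, by simp⟩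
    · exact ⟨1, X - 1, by rw [pow_one, map_sub, map_one, RatFunc.algebraMap_X]; field_simp⟩
    · exact ⟨1, X, by rw [pow_one, RatFunc.algebraMap_X]; field_simp⟩
  | algebraMap r => exact ⟨0, C r, by rw [pow_zero, mul_one, RatFunc.algebraMap_C, RatFunc.algebraMap_eq_C]⟩
  | add x y _ _ hx hy =>
    obtain ⟨n, P, hP⟩ := hx
    obtain ⟨m, Q, hQ⟩ := hy
    refine ⟨n + m, P * (X * (X - 1)) ^ m + Q * (X * (X - 1)) ^ n, ?_⟩
    rw [map_add, map_mul, map_mul, ← hP, ← hQ]
    simp only [map_pow, map_mul, map_sub, map_one, RatFunc.algebraMap_X, pow_add]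
    ring
  | mul x y _ _ hx hy =>
    obtain ⟨n, P, hP⟩ := hx
    obtain ⟨m, Q, hQ⟩ := hy
    refine ⟨n + m, P * Q, ?_⟩
    rw [map_mul, ← hP, ← hQ, pow_add]; ring

lemma jj_sub_not_unit (h2 : (2 : k) ≠ 0) (c : k) (r : RatFunc k)
    (hr : r ∈ Algebra.adjoin k
      ({RatFunc.X, (RatFunc.X : RatFunc k)⁻¹, ((RatFunc.X : RatFunc k) - 1)⁻¹} : Set (RatFunc k))) :
    (jj k - algebraMap k (RatFunc k) c) * r ≠ 1 := by
  intro h
  obtain ⟨n, P, hP⟩ := exists_num hr
  let Np : k[X] := C 256 * (X ^ 2 - X + 1) ^ 3 - C c * (X ^ 2 * (X - 1) ^ 2)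
  have hN : algebraMap k[X] (RatFunc k) Np =
      (jj k - algebraMap k (RatFunc k) c) * ((RatFunc.X : RatFunc k) ^ 2 * (RatFunc.X - 1) ^ 2) := by
    rw [sub_mul, jj_mul]
    simp [Np, RatFunc.algebraMap_eq_C, map_ofNat]
  have hkey : Np * P = (X * (X - 1)) ^ (n + 2) := by
    apply RatFunc.algebraMap_injective k
    rw [map_mul, hN, ← hP]
    simp only [map_pow, map_mul, map_sub, map_one, RatFunc.algebraMap_X]
    linear_combination ((RatFunc.X : RatFunc k) ^ 2 * (RatFunc.X - 1) ^ 2 *
      ((RatFunc.X : RatFunc k) * (RatFunc.X - 1)) ^ n) * h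
  have hdeg : Np.degree ≠ 0 := by
    intro hd
    have h6 : Np.coeff 6 = 256 := by
      simp only [Np]
      rw [show (X ^ 2 - X + 1 : k[X]) ^ 3 = X ^ 6 - C 3 * X ^ 5 + C 6 * X ^ 4 - C 7 * X ^ 3 + C 6 * X ^ 2 -
          C 3 * X ^ 1 + C 1 * X ^ 0 by simp only [map_ofNat, map_one]; ring,
        show (X ^ 2 * (X - 1) ^ 2 : k[X]) = X ^ 4 - C 2 * X ^ 3 + X ^ 2 by simp only [map_ofNat]; ring]
      simp only [coeff_sub, coeff_add, coeff_C_mul, coeff_X_pow]
      norm_num
    rw [Polynomial.coeff_eq_zero_of_degree_lt (by rw [hd]; norm_num)] at h6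
    exact n256 h2 h6.symm
  obtain ⟨a, ha⟩ := IsAlgClosed.exists_root Np hdeg
  have ha' : a * (a - 1) = 0 := by
    have := congrArg (eval a) hkey
    rw [eval_mul, ha.eq_zero, zero_mul] at this
    exact mul_eq_zero.2 (by simpa using this.symm)
  have h0 : eval a Np = 256 := by
    rcases mul_eq_zero.1 ha' with h | h
    · subst h; simp [Np]
    · rw [sub_eq_zero] at h; subst h; simp [Np]
  exact n256 h2 (h0.symm.trans ha.eq_zero)

/-- The six numerators and denominators. -/
noncomputable def orb (k : Type u) [Field k] : Fin 6 → k[X] × k[X] :=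
  ![(X, 1), (1, X), (1 - X, 1), (X - 1, X), (1, 1 - X), (X, X - 1)]

lemma orb_cross (i j : Fin 6) (h : (orb k i).1 * (orb k j).2 = (orb k j).1 * (orb k i).2) : i = j := by
  have h0 := congrArg (eval (0 : k)) h
  have h1 := congrArg (eval (1 : k)) h
  fin_cases i <;> fin_cases j <;> first | rfl | (simp [orb] at h0 h1)

lemma orb_den (i : Fin 6) : algebraMap k[X] (RatFunc k) (orb k i).2 ≠ 0 := by
  rw [Ne, map_eq_zero_iff _ (RatFunc.algebraMap_injective k)]
  intro h
  have h0 := congrArg (eval (0 : k)) h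
  have h1 := congrArg (eval (1 : k)) h
  fin_cases i <;> simp [orb] at h0 h1

/-- The six values. -/
noncomputable def orbv (k : Type u) [Field k] (i : Fin 6) : RatFunc k :=
  algebraMap k[X] (RatFunc k) (orb k i).1 / algebraMap k[X] (RatFunc k) (orb k i).2

lemma orbv_inj : Function.Injective (orbv k) := by
  intro i j h
  refine orb_cross i j (RatFunc.algebraMap_injective k ?_)
  rw [map_mul, map_mul]
  exact (div_eq_div_iff (orb_den i) (orb_den j)).1 h

section

variable (σ τ : RatFunc k ≃ₐ[k] RatFunc k) (hσ : σ RatFunc.X = (RatFunc.X : RatFunc k)⁻¹)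
    (hτ : τ RatFunc.X = 1 - (RatFunc.X : RatFunc k))

include hσ in
lemma σ_jj : σ (jj k) = jj k := by
  rw [jj, map_div₀, map_mul, map_mul, map_pow, map_pow, map_pow, map_add, map_sub, map_sub, map_pow, hσ,
    map_ofNat, map_one]
  have hX : (RatFunc.X : RatFunc k) ≠ 0 := RatFunc.X_ne_zero
  have hX1 := X_sub_one_ne (k := k)
  have h2 : (1 : RatFunc k) - RatFunc.X ≠ 0 := fun h => hX1 (by linear_combination -h)
  field_simp
  ring

include hτ in
lemma τ_jj : τ (jj k) = jj k := by
  rw [jj, map_div₀, map_mul, map_mul, map_pow, map_pow, map_pow, map_add, map_sub, map_sub, map_pow, hτ,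
    map_ofNat, map_one]
  ring

/-- The six automorphisms. -/
noncomputable def auts : Fin 6 → (RatFunc k ≃ₐ[k] RatFunc k) :=
  ![AlgEquiv.refl, σ, τ, τ.trans σ, σ.trans τ, (σ.trans τ).trans σ]

include hσ hτ in
lemma auts_X (i : Fin 6) : auts σ τ i RatFunc.X = orbv k i := by
  have hX : (RatFunc.X : RatFunc k) ≠ 0 := RatFunc.X_ne_zero
  have hX1 := X_sub_one_ne (k := k)
  have h2 : (1 : RatFunc k) - RatFunc.X ≠ 0 := fun h => hX1 (by linear_combination -h)
  fin_cases i <;> simp [auts, orbv, orb, hσ, hτ, map_sub, map_inv₀] <;> field_simp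

include hσ hτ in
lemma mem_adjoin_jj (h2 : (2 : k) ≠ 0) {b : RatFunc k}
    (hbR : b ∈ Algebra.adjoin k
      ({RatFunc.X, (RatFunc.X : RatFunc k)⁻¹, ((RatFunc.X : RatFunc k) - 1)⁻¹} : Set (RatFunc k)))
    (hsb : σ b = b) (htb : τ b = b) : b ∈ Algebra.adjoin k ({jj k} : Set (RatFunc k)) := by
  let R := Algebra.adjoin k
    ({RatFunc.X, (RatFunc.X : RatFunc k)⁻¹, ((RatFunc.X : RatFunc k) - 1)⁻¹} : Set (RatFunc k))
  let K := IntermediateField.adjoin k ({jj k} : Set (RatFunc k))
  let J : K := ⟨jj k, IntermediateField.subset_adjoin k _ rfl⟩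
  let f : K[X] := C (256 : K) * (X ^ 2 - X + 1) ^ 3 - C J * (X ^ 2 * (X - 1) ^ 2)
  have hfX : aeval (RatFunc.X : RatFunc k) f = 0 := by
    simp only [f, map_sub, map_mul, map_pow, aeval_C, map_add, aeval_X, map_one]
    rw [show algebraMap K (RatFunc k) J = jj k from rfl, jj_mul, map_ofNat, sub_self]
  have h256 : (256 : K) ≠ 0 := by
    intro h
    have h' := congrArg (algebraMap K (RatFunc k)) h
    rw [map_ofNat, map_zero, ← map_ofNat (algebraMap k (RatFunc k)), map_eq_zero] at h'
    exact n256 h2 h'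
  have hf0 : f ≠ 0 := by
    intro h
    have h' := congrArg (eval 0) h
    simp [f] at h'
    exact h256 h'
  have hfdeg : f.natDegree ≤ 6 := by simp only [f]; compute_degree
  have hint : IsIntegral K (RatFunc.X : RatFunc k) := isAlgebraic_iff_isIntegral.1 ⟨f, hf0, hfX⟩
  have htop : IntermediateField.adjoin K ({RatFunc.X} : Set (RatFunc k)) = ⊤ := by
    rw [eq_top_iff]
    intro z _
    rw [← RatFunc.num_div_denom z]
    have : ∀ p : k[X], algebraMap k[X] (RatFunc k) p ∈ IntermediateField.adjoin K ({RatFunc.X} : Set (RatFunc k)) := by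
      intro p
      induction p using Polynomial.induction_on' with
      | add a b ha hb => rw [map_add]; exact add_mem ha hb
      | monomial n a =>
        rw [← C_mul_X_pow_eq_monomial, map_mul, map_pow, RatFunc.algebraMap_X, RatFunc.algebraMap_C]
        refine mul_mem ?_ (pow_mem (IntermediateField.mem_adjoin_simple_self K (RatFunc.X : RatFunc k)) n)
        have hmem : RatFunc.C a ∈ K := by
          rw [← RatFunc.algebraMap_eq_C]; exact K.algebraMap_mem a
        exact IntermediateField.algebraMap_mem (IntermediateField.adjoin K ({RatFunc.X} : Set (RatFunc k)))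
          (⟨RatFunc.C a, hmem⟩ : K)
    exact div_mem (this _) (this _)
  haveI : FiniteDimensional K (RatFunc k) := by
    haveI := IntermediateField.adjoin.finiteDimensional hint
    rw [htop] at this
    exact IntermediateField.topEquiv.toLinearEquiv.finiteDimensional
  have hle : Module.finrank K (RatFunc k) ≤ 6 := by
    rw [← IntermediateField.finrank_top', ← htop, IntermediateField.adjoin.finrank hint]
    exact (natDegree_le_of_degree_le ((minpoly.degree_le_of_ne_zero K _ hf0 hfX).trans degree_le_natDegree)).trans hfdeg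
  let K' := IntermediateField.adjoin K ({b} : Set (RatFunc k))
  -- the automorphisms fix `K'`
  have hfix : ∀ i, ∀ z : K', auts σ τ i (algebraMap K' (RatFunc k) z) = algebraMap K' (RatFunc k) z := by
    intro i
    have hj : auts σ τ i (jj k) = jj k := by
      fin_cases i <;> simp [auts, σ_jj σ hσ, τ_jj τ hτ]
    have hb' : auts σ τ i b = b := by fin_cases i <;> simp [auts, hsb, htb]
    have hK : ∀ z ∈ K, auts σ τ i z = z := by
      intro z hz
      induction hz using IntermediateField.adjoin_induction with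
      | mem x hx => rw [Set.mem_singleton_iff.1 hx, hj]
      | algebraMap x => exact AlgEquiv.commutes _ x
      | add x y _ _ hx hy => rw [map_add, hx, hy]
      | inv x _ hx => rw [map_inv₀, hx]
      | mul x y _ _ hx hy => rw [map_mul, hx, hy]
    rintro ⟨z, hz⟩
    show auts σ τ i z = z
    induction hz using IntermediateField.adjoin_induction with
    | mem x hx => rw [Set.mem_singleton_iff.1 hx, hb']
    | algebraMap x => exact hK _ x.2
    | add x y _ _ hx hy => rw [map_add, hx, hy]
    | inv x _ hx => rw [map_inv₀, hx]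
    | mul x y _ _ hx hy => rw [map_mul, hx, hy]
  let F : Fin 6 → (RatFunc k →ₐ[K'] RatFunc k) := fun i =>
    { (auts σ τ i).toRingEquiv.toRingHom with commutes' := hfix i }
  have hF : Function.Injective F := fun i j h => orbv_inj (by
    rw [← auts_X σ τ hσ hτ i, ← auts_X σ τ hσ hτ j]
    exact DFunLike.congr_fun h RatFunc.X)
  haveI : FiniteDimensional K' (RatFunc k) := Module.Finite.of_restrictScalars_finite K K' _
  have h6 : 6 ≤ Module.finrank K' (RatFunc k) := by
    have h := (Fintype.card_le_of_injective F hF).trans AlgHom.card_le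
    simpa using h
  have hK' : Module.finrank K K' = 1 := by
    have hmul := Module.finrank_mul_finrank K K' (RatFunc k)
    have hpos : 0 < Module.finrank K K' := Module.finrank_pos
    nlinarith
  have hbK : b ∈ K := by
    rw [IntermediateField.finrank_adjoin_simple_eq_one_iff] at hK'
    obtain ⟨w, hw⟩ := IntermediateField.mem_bot.1 hK'
    rw [← hw]; exact w.2
  obtain ⟨p, q, hb⟩ := (IntermediateField.mem_adjoin_simple_iff k b).1 hbK
  by_cases hq0 : aeval (jj k) q = 0
  · rw [hb, hq0, div_zero]; exact zero_mem _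
  -- reduce to a coprime fraction
  have key : ∀ q : k[X], aeval (jj k) q ≠ 0 → ∀ p : k[X], b = aeval (jj k) p / aeval (jj k) q →
      b ∈ Algebra.adjoin k ({jj k} : Set (RatFunc k)) := by
    intro q
    induction hn : q.natDegree using Nat.strong_induction_on generalizing q with
    | _ n ih =>
      intro hq p hp
      by_cases hd : q.natDegree = 0
      · rw [eq_C_of_natDegree_eq_zero hd, aeval_C] at hp
        rw [hp, div_eq_mul_inv, ← map_inv₀]
        exact Subalgebra.mul_mem _ (aeval_mem_adjoin_singleton k _) (Subalgebra.algebraMap_mem _ _)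
      · obtain ⟨c, hc⟩ := IsAlgClosed.exists_root q (fun h => hd (natDegree_eq_zero_iff_degree_le_zero.2 h.le))
        obtain ⟨q', rfl⟩ := dvd_iff_isRoot.2 hc
        have hq' : aeval (jj k) q' ≠ 0 := fun h => hq (by rw [map_mul, h, mul_zero])
        by_cases hpc : p.IsRoot c
        · obtain ⟨p', rfl⟩ := dvd_iff_isRoot.2 hpc
          have hlt : q'.natDegree < n := by
            have hq0' : q' ≠ 0 := fun h => hq' (by rw [h, map_zero])
            rw [natDegree_mul (X_sub_C_ne_zero c) hq0', natDegree_X_sub_C] at hn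
            omega
          refine ih _ hlt q' rfl hq' p' ?_
          rw [hp, map_mul, map_mul, mul_div_mul_left]
          intro h
          exact hq (by rw [map_mul, h, zero_mul])
        · exfalso
          obtain ⟨p', hp'⟩ := X_sub_C_dvd_sub_C_eval (a := c) (p := p)
          have he : p.eval c ≠ 0 := hpc
          let r : RatFunc k := (b * aeval (jj k) q' - aeval (jj k) p') * algebraMap k (RatFunc k) (p.eval c)⁻¹
          have hjR : jj k ∈ R := by
            have h1 : (RatFunc.X : RatFunc k) ∈ R := Algebra.subset_adjoin (by simp)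
            have h2 : (RatFunc.X : RatFunc k)⁻¹ ∈ R := Algebra.subset_adjoin (by simp)
            have h3 : ((RatFunc.X : RatFunc k) - 1)⁻¹ ∈ R := Algebra.subset_adjoin (by simp)
            rw [jj, div_eq_mul_inv, mul_inv, ← inv_pow, ← inv_pow]
            exact mul_mem (mul_mem (natCast_mem R 256) (pow_mem (add_mem (sub_mem (pow_mem h1 _) h1)
              (one_mem _)) _)) (mul_mem (pow_mem h2 _) (pow_mem h3 _))
          have haev : ∀ s : k[X], aeval (jj k) s ∈ R := fun s =>
            (Algebra.adjoin_le (Set.singleton_subset_iff.2 hjR)) (aeval_mem_adjoin_singleton k _)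
          have hr : r ∈ R := mul_mem (sub_mem (mul_mem hbR (haev _)) (haev _)) (Subalgebra.algebraMap_mem _ _)
          refine jj_sub_not_unit h2 c r hr ?_
          have h' := congrArg (aeval (jj k)) hp'
          rw [map_sub, map_mul, map_sub, aeval_X, aeval_C, aeval_C] at h'
          have hbq : b * ((jj k - algebraMap k (RatFunc k) c) * aeval (jj k) q') = aeval (jj k) p := by
            rw [map_mul, map_sub, aeval_X, aeval_C] at hp hq
            rw [hp, div_mul_cancel₀ _ hq]
          have hinv : algebraMap k (RatFunc k) (p.eval c) * algebraMap k (RatFunc k) (p.eval c)⁻¹ = 1 := by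
            rw [← map_mul, mul_inv_cancel₀ he, map_one]
          simp only [r]
          linear_combination algebraMap k (RatFunc k) (p.eval c)⁻¹ * hbq +
            algebraMap k (RatFunc k) (p.eval c)⁻¹ * h' + hinv
  exact key q hq0 p hb

end



/-- The algebraic step of its proof: Fix an algebraically closed field k whose characteristic is neither
2 nor 3, let B ⊆ k(λ) be the k-subalgebra generated by λ, λ⁻¹ and (λ - 1)⁻¹ (the coordinate ring of
the λ-line with 0 and 1 removed), and let σ and τ be the k-algebra automorphisms of k(λ) determined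
by σ(λ) = λ⁻¹ and τ(λ) = 1 - λ (they generate the group of order six permuting λ, 1/λ, 1-λ, 1/(1-λ),
λ/(λ-1), (λ-1)/λ). Then the elements of B fixed by σ and τ are exactly the elements of the
k-subalgebra generated by j = 256 (λ² - λ + 1)³ / (λ² (λ - 1)²); in other words the ring of
invariants of B is the polynomial ring k[j]. -/
theorem result (k : Type u) [Field k] [IsAlgClosed k]
    (h2 : (2 : k) ≠ 0) (h3 : (3 : k) ≠ 0)
    (σ τ : RatFunc k ≃ₐ[k] RatFunc k) (hσ : σ RatFunc.X = (RatFunc.X : RatFunc k)⁻¹)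
    (hτ : τ RatFunc.X = 1 - (RatFunc.X : RatFunc k)) (b : RatFunc k) :
    (b ∈ Algebra.adjoin k ({RatFunc.X, (RatFunc.X : RatFunc k)⁻¹, ((RatFunc.X : RatFunc k) - 1)⁻¹} : Set (RatFunc k)) ∧
        σ b = b ∧ τ b = b) ↔
      b ∈ Algebra.adjoin k ({(256 : RatFunc k) * ((RatFunc.X : RatFunc k) ^ 2 - RatFunc.X + 1) ^ 3 /
        ((RatFunc.X : RatFunc k) ^ 2 * ((RatFunc.X : RatFunc k) - 1) ^ 2)} : Set (RatFunc k)) := by
  refine ⟨fun ⟨hb, hsb, htb⟩ => mem_adjoin_jj σ τ hσ hτ h2 hb hsb htb, fun hb => ?_⟩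
  have hj : jj k ∈ Algebra.adjoin k
      ({RatFunc.X, (RatFunc.X : RatFunc k)⁻¹, ((RatFunc.X : RatFunc k) - 1)⁻¹} : Set (RatFunc k)) := by
    have h1 : (RatFunc.X : RatFunc k) ∈ Algebra.adjoin k
        ({RatFunc.X, (RatFunc.X : RatFunc k)⁻¹, ((RatFunc.X : RatFunc k) - 1)⁻¹} : Set (RatFunc k)) :=
      Algebra.subset_adjoin (by simp)
    rw [jj, div_eq_mul_inv, mul_inv, ← inv_pow, ← inv_pow]
    exact mul_mem (mul_mem (natCast_mem _ 256) (pow_mem (add_mem (sub_mem (pow_mem h1 _) h1)
      (one_mem _)) _)) (mul_mem (pow_mem (Algebra.subset_adjoin (by simp)) _)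
        (pow_mem (Algebra.subset_adjoin (by simp)) _))
  refine ⟨Algebra.adjoin_le (Set.singleton_subset_iff.2 hj) hb, ?_, ?_⟩
  · induction hb using Algebra.adjoin_induction with
    | mem y hy => rw [Set.mem_singleton_iff.1 hy]; exact σ_jj σ hσ
    | algebraMap r => exact AlgEquiv.commutes _ r
    | add x y _ _ hx hy => rw [map_add, hx, hy]
    | mul x y _ _ hx hy => rw [map_mul, hx, hy]
  · induction hb using Algebra.adjoin_induction with
    | mem y hy => rw [Set.mem_singleton_iff.1 hy]; exact τ_jj τ hτ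
    | algebraMap r => exact AlgEquiv.commutes _ r
    | add x y _ _ hx hy => rw [map_add, hx, hy]
    | mul x y _ _ hx hy => rw [map_mul, hx, hy]

end Groth.Agent.S11470
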