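import Groth.Statements.S11473
import Groth.Agent.H17.FibProj.GenusFam
import Groth.Agent.H13AlgSp.SmoothLift

set_option autoImplicit false
universe u
open CategoryTheory CategoryTheory.Limits AlgebraicGeometry
open Curves

namespace Groth.Agent.S11473

/-- Let C be an Artinian local ring whose residue field k is algebraically closed, and let f : X → Spec
C be a family of curves of genus zero: f is smooth and proper and its closed fibre X ×_C k is an
integral k-scheme of dimension one with H¹(O) = 0 (over the algebraically closed field k this is the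
condition on the one geometric fibre). Then the family is trivial: X is C-isomorphic to P¹_C. -/
theorem result (C : Type u) [CommRing C] [IsArtinianRing C] [IsLocalRing C]
    [IsAlgClosed (IsLocalRing.ResidueField C)] {X : Scheme.{u}} (f : X ⟶ Spec (CommRingCat.of C)) [Smooth f] [IsProper f]
    (hint : IsIntegral (pullback f (Spec.map (CommRingCat.ofHom (IsLocalRing.residue C)))))
    (hdim : topologicalKrullDim ↥(pullback f (Spec.map (CommRingCat.ofHom (IsLocalRing.residue C)))) = 1)
    (hg : @Curv2.genus (IsLocalRing.ResidueField C) _ (pullback f (Spec.map (CommRingCat.ofHom (IsLocalRing.residue C))))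
        ⟨pullback.snd f (Spec.map (CommRingCat.ofHom (IsLocalRing.residue C)))⟩ = 0) :
    ∃ e : X ≅ CohB1.ProjSpace 1 C, e.hom ≫ CohB1.ProjSpace.toSpec 1 C = f := by
  let k := IsLocalRing.ResidueField C
  let c : Spec (CommRingCat.of k) ⟶ Spec (CommRingCat.of C) := Spec.map (CommRingCat.ofHom (IsLocalRing.residue C))
  haveI : Subsingleton ↥(Spec (CommRingCat.of C)) := inferInstanceAs (Subsingleton (PrimeSpectrum C))
  haveI : Surjective c := ⟨fun x => ⟨IsLocalRing.closedPoint k, Subsingleton.elim _ _⟩⟩
  haveI : IsClosedImmersion c := IsClosedImmersion.spec_of_surjective _ IsLocalRing.residue_surjective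
  -- a section
  obtain ⟨σ, hσ⟩ : ∃ σ : Spec (CommRingCat.of C) ⟶ X, σ ≫ f = 𝟙 _ := by
    let Z := pullback f c
    haveI : IsIntegral Z := hint
    haveI : CompactSpace ↥Z := QuasiCompact.compactSpace_of_compactSpace (pullback.snd f c)
    obtain ⟨x, -, hx⟩ := IsClosed.exists_closed_singleton (X := (Z : Scheme.{u})) isClosed_univ Set.univ_nonempty
    let p := pointOfClosedPoint (pullback.snd f c) x hx
    have hp : p ≫ pullback.snd f c = 𝟙 _ := pointOfClosedPoint_comp _ x hx
    obtain ⟨E₀, l, hmem, hl, -⟩ := Groth.Agent.H13AlgSp.SmoothLift.exists_lift_opens c (p ≫ pullback.fst f c)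
      (𝟙 _) f (by rw [Category.assoc, pullback.condition, ← Category.assoc, hp, Category.id_comp, Category.comp_id])
      (IsLocalRing.closedPoint k)
    have hE : E₀ = ⊤ := top_le_iff.1 fun y _ => Subsingleton.elim (c (IsLocalRing.closedPoint k)) y ▸ hmem
    subst hE
    refine ⟨(Scheme.topIso _).inv ≫ l, ?_⟩
    rw [Category.assoc, hl, Category.comp_id]
    exact (Scheme.topIso _).inv_hom_id
  obtain ⟨L, hL, h⟩ := Groth.Agent.H17.FibProj.exists_fibTwist_of_genus_zero f (fun b => by
    obtain rfl : c (IsLocalRing.closedPoint k) = b := Subsingleton.elim _ _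
    letI := (Scheme.descResidueField (Scheme.stalkClosedPointTo c)).hom.toAlgebra
    exact Groth.Agent.H17.FibProj.fibre_facts_point f _ k c
      (Scheme.descResidueField_stalkClosedPointTo_fromSpecResidueField k _ c) hint hdim hg) σ hσ
  obtain ⟨U, hbU, ⟨e⟩⟩ := Groth.Agent.H17.FibProj.rank_push hL h (IsLocalRing.closedPoint C)
  obtain ⟨e', he'⟩ := Groth.Agent.H17.FibProj.exists_iso_projSpace_of_le hL h e C (𝟙 _)
    (fun z => Subsingleton.elim (IsLocalRing.closedPoint C) z ▸ hbU)
  refine ⟨(asIso (pullback.fst f (𝟙 _))).symm ≪≫ e', ?_⟩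
  rw [Iso.trans_hom, Category.assoc, he', Iso.symm_hom, asIso_inv, IsIso.inv_comp_eq]
  simpa using (pullback.condition (f := f) (g := 𝟙 (Spec (CommRingCat.of C)))).symm

end Groth.Agent.S11473
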