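import Groth.Statements.S1148
import Mathlib.RingTheory.Ideal.GoingDown
import Mathlib.RingTheory.LocalRing.ResidueField.Fiber
import Mathlib.RingTheory.Ideal.MinimalPrime.Noetherian
import Mathlib.RingTheory.Flat.Stability
import Mathlib.RingTheory.FiniteStability

set_option autoImplicit false
universe u
open Desc

namespace Groth.Agent.S1148

/-- Affine form (finiteness of irreducible components of quasi-compact opens is fppf local; this is the
ascent direction for a morphism of affine schemes). Let A → B be a flat ring map of finite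
presentation. If Spec A has finitely many irreducible components, then so does Spec B. -/
theorem result (A B : Type u) [CommRing A] [CommRing B] [Algebra A B]
    [Module.Flat A B] [Algebra.FinitePresentation A B] (h : (irreducibleComponents (PrimeSpectrum A)).Finite) :
    (irreducibleComponents (PrimeSpectrum B)).Finite := by
  haveI : Algebra.HasGoingDown A B := Algebra.HasGoingDown.of_flat
  have hA : (minimalPrimes A).Finite := by
    rw [← PrimeSpectrum.vanishingIdeal_irreducibleComponents]; exact h.image _
  have hB : (minimalPrimes B).Finite := by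
    have key : ∀ Q : Ideal B, Q ∈ minimalPrimes B → Q.comap (algebraMap A B) ∈ minimalPrimes A := by
      intro Q hQ
      haveI := Ideal.minimalPrimes_isPrime hQ
      rw [minimalPrimes_eq_minimals] at hQ ⊢
      refine ⟨Ideal.IsPrime.comap _, fun p hp hle => ?_⟩
      by_contra hne
      haveI := hp
      haveI : Q.LiesOver (Q.comap (algebraMap A B)) := ⟨rfl⟩
      obtain ⟨P, hPQ, hP, -⟩ := Ideal.exists_ideal_lt_liesOver_of_lt (p := p)
        (q := Q.comap (algebraMap A B)) Q (lt_of_le_not_ge hle hne)
      exact hPQ.not_ge (hQ.2 hP hPQ.le)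
    refine (hA.biUnion (t := fun p => {Q | Q ∈ minimalPrimes B ∧ Q.comap (algebraMap A B) = p}) ?_).subset
      fun Q hQ => Set.mem_biUnion (key Q hQ) ⟨hQ, rfl⟩
    intro p hp
    haveI := Ideal.minimalPrimes_isPrime hp
    let P : PrimeSpectrum A := ⟨p, inferInstance⟩
    haveI : Algebra.FiniteType A B := inferInstance
    haveI : IsNoetherianRing (P.asIdeal.Fiber B) :=
      Algebra.FiniteType.isNoetherianRing P.asIdeal.ResidueField _
    have hfin : {x : PrimeSpectrum.comap (algebraMap A B) ⁻¹' {P} | Minimal Ideal.IsPrime x.1.asIdeal}.Finite := by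
      refine ((((minimalPrimes.finite_of_isNoetherianRing (P.asIdeal.Fiber B)).preimage
        (f := fun y : PrimeSpectrum (P.asIdeal.Fiber B) => y.asIdeal)
        (fun a _ b _ h => PrimeSpectrum.ext h))).preimage
        (f := PrimeSpectrum.preimageOrderIsoFiber A B P) (OrderIso.injective _).injOn).subset ?_
      intro x hx
      show _ ∈ minimalPrimes _
      rw [minimalPrimes_eq_minimals]
      refine ⟨(PrimeSpectrum.preimageOrderIsoFiber A B P x).2, fun q hq hle => ?_⟩
      obtain ⟨y, hy⟩ := (PrimeSpectrum.preimageOrderIsoFiber A B P).surjective ⟨q, hq⟩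
      have hyx : y ≤ x := (PrimeSpectrum.preimageOrderIsoFiber A B P).le_iff_le.1 (by rw [hy]; exact hle)
      have hxy : x ≤ y := hx.2 y.1.2 hyx
      have := (PrimeSpectrum.preimageOrderIsoFiber A B P).monotone hxy
      rw [hy] at this
      exact this
    refine (hfin.image fun x => x.1.asIdeal).subset fun Q hQ => ?_
    haveI := Ideal.minimalPrimes_isPrime hQ.1
    exact ⟨⟨⟨Q, inferInstance⟩, PrimeSpectrum.ext hQ.2⟩, (minimalPrimes_eq_minimals (R := B)).le hQ.1, rfl⟩
  rw [← PrimeSpectrum.zeroLocus_minimalPrimes]
  exact hB.image _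

end Groth.Agent.S1148
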