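import Groth.Statements.S11482
import Groth.Agent.H29RR.RankTwo

set_option autoImplicit false
universe u
open CategoryTheory CategoryTheory.Limits AlgebraicGeometry
open Curves

namespace Groth.Agent.S11482

/-- Fix an algebraically closed field k and a nonsingular projective curve X over k of genus g (smooth,
proper, integral, of dimension one, g = dim H¹(X, O_X)) and E a locally free sheaf of rank 2 and
degree d (degree = χ(E) − 2χ(O_X)) that is indecomposable: in any decomposition E ≅ E₁ ⊕ E₂ one
summand is zero. Then (a) every invertible subsheaf L ⊆ E has 2·deg L ≤ d + 2g − 2, and (b) there is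
an invertible subsheaf L ⊆ E with d − 2g ≤ 2·deg L. (The published statement is that indecomposable
bundles of fixed rank and degree form a bounded family; this row states, in rank two, the degree
bounds for invertible subsheaves on which its proof rests.) -/
theorem result (k : Type u) [Field k] [IsAlgClosed k]
    (X : Scheme.{u}) [X.Over (Spec (CommRingCat.of k))] (hX : Curve.IsSmoothProperCurve k X (X ↘ Spec (CommRingCat.of k)))
    (E : X.Modules) (hE : FlatMod.IsFinLocFreeOfRank 2 E)
    (hind : ∀ (E₁ E₂ : X.Modules), Nonempty (E ≅ E₁ ⊞ E₂) → IsZero E₁ ∨ IsZero E₂) :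
    (∀ (L : X.Modules) (ι : L ⟶ E), PicF.IsInvertible L → Mono ι →
        2 * Curv2.deg k X L 1 ≤ Curv2.deg k X E 2 + 2 * (Curv2.genus k X : ℤ) - 2) ∧
      ∃ (L : X.Modules) (ι : L ⟶ E), PicF.IsInvertible L ∧ Mono ι ∧
        Curv2.deg k X E 2 - 2 * (Curv2.genus k X : ℤ) ≤ 2 * Curv2.deg k X L 1 := by
  obtain ⟨h1, h2, h3, h4⟩ := hX
  refine ⟨fun L ι hL hι => ?_, H29RR.exists_sub_deg_ge (k := k) h4 hE⟩
  haveI := hι
  refine H29RR.two_deg_le_of_nonsplit (k := k) h4.le hE hL ι fun G j hj hG hq hsp => ?_
  haveI := hj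
  obtain ⟨e⟩ := H29RR.nonempty_iso_of_split j hsp
  rcases hind _ _ ⟨e⟩ with h | h
  · exact H29RR.not_isZero_of_rank (k := k) (H29RR.rank_one_of_isInvertible hG) Nat.one_pos h
  · exact H29RR.not_isZero_of_rank (k := k) (H29RR.rank_one_of_isInvertible hq) Nat.one_pos h

end Groth.Agent.S11482
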