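import Groth.Statements.S11486
import Groth.Agent.H02CA.VBPn.Linear
import Groth.Agent.H26Def.AdicPic
import Groth.Agent.H11Proj.ProjSpace

set_option autoImplicit false
universe u
open VBPn

namespace Groth.Agent.S11486

open CategoryTheory CategoryTheory.Limits AlgebraicGeometry in
/-- Let k be a characteristic-zero algebraically closed field and E a finite locally free O-module of
rank r on P^n_k. Then E splits as a direct sum of twisting sheaves O(a_1) ⊕ ⋯ ⊕ O(a_r) if and only
if H^i(P^n_k, E ⊗ O(d)) = 0 for every 0 < i < n and every integer d. -/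
theorem result (k : Type u) [Field k] [IsAlgClosed k] [CharZero k]
    (n r : ℕ) (E : (CohB1.ProjSpace n k).Modules) (hE : FlatMod.IsFinLocFreeOfRank r E) :
    (∃ a : Fin r → ℤ, Nonempty (E ≅ ∐ fun j : Fin r => Twist.twistProjSpace n k (a j))) ↔
      ∀ (i : ℕ) (d : ℤ), 0 < i → i < n →
        Subsingleton (Coh.HH (CohB1.ProjSpace n k) (CohB1.tensorMod E (Twist.twistProjSpace n k d)) i) := by
  refine ⟨fun ⟨a, ⟨e⟩⟩ q d h1 h2 => Groth.Agent.H02CA.VBPn.noMid_of_split a e q d h1 h2, fun h => ?_⟩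
  rcases Nat.eq_zero_or_pos n with rfl | hn
  · haveI : IsIso (CohB1.ProjSpace.toSpec 0 k) := Groth.Agent.H11Proj.ProjSpace.isIso_toSpec_zero (R := k)
    haveI := Groth.Agent.H22Alg.CMHyper.noetherian k 0
    haveI : IsIntegral (CohB1.ProjSpace 0 k) := Groth.Agent.LeadPic.PnRel.isIntegral_projSpace (n := 0) k
    let t := CohB1.ProjSpace.toSpec 0 k
    have hflf : FlatMod.IsFinLocFree E := fun x => let ⟨U, hx, he⟩ := hE x; ⟨U, r, hx, he⟩
    obtain ⟨r', ⟨u⟩⟩ := Groth.Agent.H26Def.exists_iso_freeMod_of_field k ((Scheme.Modules.pullback (inv t)).obj E)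
      (Groth.Agent.H16Derived.KFlat.Stalk.isCoh_of_isFinLocFree
        (Groth.Agent.H16Derived.KFlat.Stalk.isFinLocFree_pullback _ hflf))
    obtain ⟨z⟩ := (Groth.Agent.H10Coh.Stab.isTwistFamily_projSpace 0 k).zero
    let e : E ≅ ∐ fun _ : Fin r' => Twist.twistProjSpace 0 k 0 :=
      ((Scheme.Modules.pullbackId _).app E).symm ≪≫
        ((Scheme.Modules.pullbackCongr (IsIso.hom_inv_id t)).app E).symm ≪≫
        ((Scheme.Modules.pullbackComp t (inv t)).app E).symm ≪≫ (Scheme.Modules.pullback t).mapIso u ≪≫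
        Groth.Agent.H16Derived.KFlat.Stalk.freeModPullbackIso t r' ≪≫ Sigma.mapIso fun _ => z.symm
    obtain rfl := Groth.Agent.H02CA.VBPn.rank_sum_eq _
      (fun _ => (Groth.Agent.H10Coh.Stab.isTwistFamily_projSpace 0 k).inv 0) hE e
    exact ⟨fun _ => 0, ⟨e⟩⟩
  · exact Groth.Agent.H02CA.VBPn.exists_split hn hE h

end Groth.Agent.S11486
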