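import Groth.Statements.S11488
import Groth.Agent.H02CA.VBPn.Trivial

set_option autoImplicit false
universe u
open VBPn

namespace Groth.Agent.S11488

open CategoryTheory CategoryTheory.Limits AlgebraicGeometry in
/-- Let k be an algebraically closed field of characteristic zero, E a finite locally free O-module of
rank r on P^n_k and x a closed point of P^n_k. If i^*E ≅ O^r for every line through x, that is for
every closed immersion of k-schemes i : P^1_k → P^n_k along which O(1) pulls back to O(1) and whose
image contains x, then E ≅ O^r. -/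
theorem result (k : Type u) [Field k] [IsAlgClosed k] [CharZero k]
    (n r : ℕ) (E : (CohB1.ProjSpace n k).Modules) (hE : FlatMod.IsFinLocFreeOfRank r E) (x : ↥(CohB1.ProjSpace n k))
    (hx : IsClosed ({x} : Set ↥(CohB1.ProjSpace n k)))
    (h : ∀ (i : CohB1.ProjSpace 1 k ⟶ CohB1.ProjSpace n k) [IsClosedImmersion i],
      i ≫ CohB1.ProjSpace.toSpec n k = CohB1.ProjSpace.toSpec 1 k →
      Nonempty ((Scheme.Modules.pullback i).obj (Twist.twistProjSpace n k 1) ≅ Twist.twistProjSpace 1 k 1) →
      x ∈ Set.range i.base →
      Nonempty ((Scheme.Modules.pullback i).obj E ≅ FlatMod.freeMod (CohB1.ProjSpace 1 k) r)) :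
    Nonempty (E ≅ FlatMod.freeMod (CohB1.ProjSpace n k) r) := by
  exact Groth.Agent.H02CA.VBPn.free_of_lines n r E hE x hx h

end Groth.Agent.S11488
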