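import Groth.Statements.S1149
import Groth.Agent.H18PBC.InternalHom

set_option autoImplicit false
universe u
open Pi1

namespace Groth.Agent.S1149

open AlgebraicGeometry CategoryTheory CategoryTheory.Limits in
/-- Let U and V be finite etale over a scheme X. Then some W finite etale over X has the following
property: for every morphism g : T ⟶ X the X-morphisms T ⟶ W are in bijection with the T-morphisms
U_T ⟶ V_T between the base changes. (The source's identification is moreover compatible with base
change; only the bijections are asserted here.) -/
theorem result {X : Scheme.{u}} (U V : FEt.Cat X) :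
    ∃ W : FEt.Cat X, ∀ (T : Scheme.{u}) (g : T ⟶ X),
      Nonempty ({s : T ⟶ W.left // s ≫ W.hom = g} ≃ ((FEt.restrict g).obj U ⟶ (FEt.restrict g).obj V)) := by
  exact Groth.Agent.H18PBC.InternalHom.exists_internalHom U V

end Groth.Agent.S1149
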