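import Groth.Statements.S11491
import Groth.Agent.H29RR.GenBundle
import Groth.Agent.LeadPic.PnRel
import Groth.Agent.H19Grp.ProjPoint
import Groth.Agent.H11Ample.Converse
import Groth.Agent.S10829

set_option autoImplicit false
universe u
open VBPn

namespace Groth.Agent.S11491

open CategoryTheory CategoryTheory.Limits AlgebraicGeometry in
/-- Let k be a characteristic-zero algebraically closed field and E a globally generated finite locally
free O-module of rank r > n on P^n_k (globally generated: an epimorphic image of some O^N). Then E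
sits in a short exact sequence of vector bundles 0 → O^(r−n) → E → F → 0 with F of rank n: a
monomorphism O^(r−n) → E whose cokernel is finite locally free of rank n. -/
theorem result (k : Type u) [Field k] [IsAlgClosed k] [CharZero k]
    (n r : ℕ) (hrn : n < r) (E : (CohB1.ProjSpace n k).Modules) (hE : FlatMod.IsFinLocFreeOfRank r E)
    (hgen : ∃ (N : ℕ) (ψ : FlatMod.freeMod (CohB1.ProjSpace n k) N ⟶ E), Epi ψ) :
    ∃ φ : FlatMod.freeMod (CohB1.ProjSpace n k) (r - n) ⟶ E,
      Mono φ ∧ FlatMod.IsFinLocFreeOfRank n (cokernel φ) := by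
  obtain ⟨N, ψ, hψ⟩ := hgen
  haveI := hψ
  haveI : IsIntegral (CohB1.ProjSpace n k) := LeadPic.PnRel.isIntegral_projSpace (n := n) k
  haveI := H19Grp.ProjPoint.lft_toSpec (K := k) n
  haveI : IsLocallyNoetherian (CohB1.ProjSpace n k) :=
    LocallyOfFiniteType.isLocallyNoetherian (CohB1.ProjSpace.toSpec n k)
  haveI := H11Ample.compactSpace_projSpace n k
  obtain ⟨c, hm, hq⟩ := H29RR.exists_trivial_sub (CohB1.ProjSpace.toSpec n k) (Groth.Agent.S10829.result k n).le
    (r - n) hE (by omega) _ (H29RR.spansStalks_of_epi ψ)
  rw [show r - (r - n) = n by omega] at hq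
  exact ⟨_, hm, hq⟩

end Groth.Agent.S11491
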