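import Groth.Statements.S11492
import Groth.Agent.H29RR.FiniteGen
import Groth.Agent.H29RR.TwistBack
import Groth.Agent.LeadPic.PnRel
import Groth.Agent.H19Grp.ProjPoint
import Groth.Agent.H11Ample.Converse
import Groth.Agent.S10829
import Groth.Agent.H10Coh.Stab.TwistInt
import Groth.Agent.S2325

set_option autoImplicit false
universe u
open VBPn

namespace Groth.Agent.S11492

open CategoryTheory CategoryTheory.Limits AlgebraicGeometry in
/-- Let k be a characteristic-zero algebraically closed field and E a finite locally free O-module of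
rank r > n on P^n_k. Then for some integer a, E sits in a short exact sequence of vector bundles 0 →
O(a)^(r−n) → E → F → 0 with F of rank n: a monomorphism from the direct sum of r − n copies of O(a)
into E whose cokernel is finite locally free of rank n. -/
theorem result (k : Type u) [Field k] [IsAlgClosed k] [CharZero k]
    (n r : ℕ) (hrn : n < r) (E : (CohB1.ProjSpace n k).Modules) (hE : FlatMod.IsFinLocFreeOfRank r E) :
    ∃ (a : ℤ) (φ : (∐ fun _ : Fin (r - n) => Twist.twistProjSpace n k a) ⟶ E),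
      Mono φ ∧ FlatMod.IsFinLocFreeOfRank n (cokernel φ) := by
  haveI : IsIntegral (CohB1.ProjSpace n k) := LeadPic.PnRel.isIntegral_projSpace (n := n) k
  haveI := H19Grp.ProjPoint.lft_toSpec (K := k) n
  haveI : IsLocallyNoetherian (CohB1.ProjSpace n k) :=
    LocallyOfFiniteType.isLocallyNoetherian (CohB1.ProjSpace.toSpec n k)
  haveI := H11Ample.compactSpace_projSpace n k
  haveI : (CohB1.ProjSpace n k).IsSeparated := inferInstanceAs (Scheme.IsSeparated (Proj (CohB1.polyGrading n k)))
  obtain ⟨m, hm⟩ := H11Ample.eventually_globallyGenerated (H11Ample.isAmple_twistProjSpace n k) (H29RR.isCoh_of_rank hE)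
  have hgg := hm m le_rfl
  have hT := H10Coh.Stab.isTwistFamily_projSpace n k
  have hL : PicF.IsInvertible (CohB1.tensorPow (Twist.twistProjSpace n k 1) m) :=
    H11Ample.isInvertible_tensorPow (hT.inv 1) m
  have hE' := H29RR.rank_tensor hE hL
  obtain ⟨N, g, hg⟩ := H29RR.exists_spansStalks (H29RR.isCoh_of_rank hE') (H29RR.spansAt_of_globallyGenerated hgg)
  obtain ⟨c, hmono, hq⟩ := H29RR.exists_trivial_sub (CohB1.ProjSpace.toSpec n k) (Groth.Agent.S10829.result k n).le
    (r - n) hE' (by omega) g hg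
  rw [show r - (r - n) = n by omega] at hq
  haveI := hmono
  obtain ⟨e1⟩ := hT.nonempty_tensorPow m
  obtain ⟨e2⟩ := hT.add (m : ℤ) (-(m : ℤ))
  obtain ⟨e3⟩ := hT.zero
  obtain ⟨ψ, hψ, hψq⟩ := H29RR.exists_twist_back (hT.inv (-(m : ℤ)))
    (PicGrp.tensorModIso e1 (Iso.refl (Twist.twistProjSpace n k (-(m : ℤ)))) ≪≫ e2 ≪≫
      eqToIso (congrArg (fun a => Twist.twistProjSpace n k a) (add_neg_cancel (m : ℤ))) ≪≫ e3) _ hq
  exact ⟨-(m : ℤ), ψ, hψ, hψq⟩

end Groth.Agent.S11492
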