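import Groth.Statements.S11495
import Groth.Agent.H05EGA4.Regular

set_option autoImplicit false
universe u
open CategoryTheory
open VBPn

namespace Groth.Agent.S11495

open Abelian Groth.Agent in
theorem free_vanish (A : Type u) [CommRing A] (M : ModuleCat.{u} A) (r i : ℕ)
    [Subsingleton (Ext M (ModuleCat.of A A) i)] :
    Subsingleton (Ext M (ModuleCat.of A (Fin r → A)) i) := by
  refine subsingleton_of_forall_eq 0 fun x => ?_
  let π : Fin r → (ModuleCat.of A (Fin r → A) ⟶ ModuleCat.of A A) := fun j => ModuleCat.ofHom (LinearMap.proj j)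
  let ι : Fin r → (ModuleCat.of A A ⟶ ModuleCat.of A (Fin r → A)) := fun j =>
    ModuleCat.ofHom (LinearMap.single A (fun _ : Fin r => A) j)
  have hid : 𝟙 (ModuleCat.of A (Fin r → A)) = ∑ j, π j ≫ ι j := by
    ext f j
    simp [π, ι, ModuleCat.hom_sum, LinearMap.sum_apply, Finset.sum_apply, Pi.single_apply]
  rw [← x.comp_mk₀_id, hid, Ext.mk₀_sum, Ext.comp_sum]
  refine Finset.sum_eq_zero fun j _ => ?_
  rw [← Ext.mk₀_comp_mk₀, ← Ext.comp_assoc_of_second_deg_zero,
    Subsingleton.elim (x.comp (Ext.mk₀ (π j)) (add_zero i)) 0, Ext.zero_comp]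


/-- Let A be a regular local ring and M a finitely generated A-module. For every q ≥ 0, the projective
(homological) dimension of M is at most q if and only if Ext^i_A(M, A) = 0 for all i > q. The
published statement is for stalks of coherent analytic sheaves on a complex manifold; this row is
stated for any regular local ring. -/
theorem result (A : Type u) [CommRing A] [IsRegularLocalRing A]
    (M : Type u) [AddCommGroup M] [Module A M] [Module.Finite A M] (q : ℕ) :
    HasProjectiveDimensionLT (ModuleCat.of A M) (q + 1) ↔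
      ∀ i : ℕ, q < i → Subsingleton (Abelian.Ext (ModuleCat.of A M) (ModuleCat.of A A) i) := by
  refine ⟨fun h i hi => HasProjectiveDimensionLT.subsingleton _ (q + 1) i hi _, fun h => ?_⟩
  obtain ⟨d, -, hk⟩ := H05EGA4.exists_pd_residueField A
  have key : ∀ j : ℕ, ∀ (N : ModuleCat.{u} A) [Module.Finite A N], ∀ i, q < i → d < i + j →
      Subsingleton (Abelian.Ext (ModuleCat.of A M) N i) := by
    intro j
    induction j with
    | zero =>
      intro N _ i _ hi
      haveI := H05EGA4.hasProjectiveDimensionLT_of_residueField d hk (ModuleCat.of A M)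
      exact HasProjectiveDimensionLT.subsingleton _ (d + 1) i hi _
    | succ j ih =>
      intro N _ i hi hij
      obtain ⟨r, p, hp⟩ := Module.Finite.exists_fin' A N
      have hS : (ShortComplex.mk (ModuleCat.ofHom (LinearMap.ker p).subtype) (ModuleCat.ofHom p)
          (ModuleCat.hom_ext (LinearMap.comp_ker_subtype p))).ShortExact :=
        ModuleCat.shortComplex_shortExact _ (LinearMap.exact_subtype_ker_map p) Subtype.val_injective hp
      have h1 : Subsingleton (Abelian.Ext (ModuleCat.of A M) (ModuleCat.of A ↥(LinearMap.ker p)) (i + 1)) :=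
        ih _ (i + 1) (by omega) (by omega)
      haveI := h i hi
      have h2 := free_vanish A (ModuleCat.of A M) r i
      refine subsingleton_of_forall_eq 0 fun x => ?_
      obtain ⟨y, hy⟩ := Abelian.Ext.covariant_sequence_exact₃ (ModuleCat.of A M) hS x (n₁ := i + 1) rfl (h1.elim _ _)
      rw [← hy, show y = 0 from h2.elim _ _, Abelian.Ext.zero_comp]
  exact ModuleCat.hasProjectiveDimensionLT_of_forall_finite _ _ fun L _ =>
    key (d + 1) L (q + 1) (Nat.lt_succ_self q) (by omega)

end Groth.Agent.S11495
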