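import Groth.Statements.S11493
import Groth.Agent.S11495
import Mathlib

set_option autoImplicit false
universe u
open CategoryTheory
open VBPn

namespace Groth.Agent.S11493

/-- Let A be a Noetherian local ring and I an ideal with a free resolution of length 1, 0 → A^p → A^q →
I → 0 (equivalently: a surjection A^q → I with free kernel). Let 0 → A → M → I → 0 be an extension
with class e ∈ Ext^1(I, A). Then M is free if and only if e generates the A-module Ext^1(I, A); the
A-module structure being through End(A) = A, this says every element of Ext^1(I, A) is the composite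
of e with an endomorphism of A. -/
theorem result (A : Type u) [CommRing A] [IsNoetherianRing A] [IsLocalRing A]
    (I : Ideal A)
    (hres : ∃ (q : ℕ) (φ : (Fin q → A) →ₗ[A] ↥I), Function.Surjective φ ∧ Module.Free A ↥(LinearMap.ker φ))
    (S : ShortComplex (ModuleCat.{u} A)) (hS : S.ShortExact)
    (h₁ : Nonempty (S.X₁ ≅ ModuleCat.of A A)) (h₃ : Nonempty (S.X₃ ≅ ModuleCat.of A ↥I)) :
    Module.Free A S.X₂ ↔
      ∀ x : Abelian.Ext S.X₃ S.X₁ 1, ∃ f : S.X₁ ⟶ S.X₁, hS.extClass.comp (Abelian.Ext.mk₀ f) (add_zero 1) = x := by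
  obtain ⟨e₁⟩ := h₁
  obtain ⟨e₃⟩ := h₃
  obtain ⟨q, φ, hφ, hker⟩ := hres
  haveI : Projective (ModuleCat.of A A) := (IsProjective.iff_projective _).mp inferInstance
  haveI : Projective S.X₁ := Projective.of_iso e₁.symm inferInstance
  constructor
  · intro hfree x
    haveI : Projective S.X₂ := (IsProjective.iff_projective S.X₂).mp inferInstance
    obtain ⟨y, hy⟩ := Abelian.Ext.contravariant_sequence_exact₃ hS S.X₁ x
      (Abelian.Ext.eq_zero_of_projective _) (n₀ := 0) rfl
    obtain ⟨f, rfl⟩ := (Abelian.Ext.mk₀_bijective _ _).2 y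
    exact ⟨f, hy⟩
  intro hgen
  have h2 : ∀ x : Abelian.Ext S.X₂ S.X₁ 1, x = 0 := by
    intro x
    obtain ⟨y, rfl⟩ := Abelian.Ext.contravariant_sequence_exact₂ hS S.X₁ x (Abelian.Ext.eq_zero_of_projective _)
    obtain ⟨f, rfl⟩ := hgen y
    rw [hS.comp_extClass_assoc]
  haveI h2A : Subsingleton (Abelian.Ext S.X₂ (ModuleCat.of A A) 1) := subsingleton_of_forall_eq 0 fun x => by
    rw [← x.comp_mk₀_id, ← e₁.inv_hom_id, ← Abelian.Ext.mk₀_comp_mk₀, ← Abelian.Ext.comp_assoc_of_second_deg_zero,
      h2 (x.comp _ _), Abelian.Ext.zero_comp]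
  have hI2 : HasProjectiveDimensionLT (ModuleCat.of A ↥I) 2 := by
    have hT : (ShortComplex.mk (ModuleCat.ofHom (LinearMap.ker φ).subtype) (ModuleCat.ofHom φ)
        (ModuleCat.hom_ext (LinearMap.comp_ker_subtype φ))).ShortExact :=
      ModuleCat.shortComplex_shortExact _ (LinearMap.exact_subtype_ker_map φ) Subtype.val_injective hφ
    haveI : Projective (ModuleCat.of A ↥(LinearMap.ker φ)) := (IsProjective.iff_projective _).mp inferInstance
    haveI : Projective (ModuleCat.of A (Fin q → A)) := (IsProjective.iff_projective _).mp inferInstance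
    exact hT.hasProjectiveDimensionLT_X₃ 1 inferInstance inferInstance
  haveI : HasProjectiveDimensionLT S.X₂ 2 :=
    hS.hasProjectiveDimensionLT_X₂ 2 inferInstance (hasProjectiveDimensionLT_of_iso e₃.symm 2)
  haveI : Module.Finite A S.X₁ := Module.Finite.equiv e₁.toLinearEquiv.symm
  haveI : Module.Finite A S.X₃ := Module.Finite.equiv e₃.toLinearEquiv.symm
  haveI : Module.Finite A S.X₂ := by
    refine ⟨Submodule.fg_of_fg_map_of_fg_inf_ker S.g.hom (IsNoetherian.noetherian _) ?_⟩
    rw [top_inf_eq, ← hS.exact.moduleCat_range_eq_ker, LinearMap.range_eq_map]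
    exact Submodule.FG.map _ Module.Finite.fg_top
  haveI : HasProjectiveDimensionLT S.X₂ 1 := ModuleCat.hasProjectiveDimensionLT_of_forall_finite S.X₂ 1 fun L _ => by
    obtain ⟨r, p, hp⟩ := Module.Finite.exists_fin' A L
    have hT : (ShortComplex.mk (ModuleCat.ofHom (LinearMap.ker p).subtype) (ModuleCat.ofHom p)
        (ModuleCat.hom_ext (LinearMap.comp_ker_subtype p))).ShortExact :=
      ModuleCat.shortComplex_shortExact _ (LinearMap.exact_subtype_ker_map p) Subtype.val_injective hp
    have h1 := HasProjectiveDimensionLT.subsingleton S.X₂ 2 2 le_rfl (ModuleCat.of A ↥(LinearMap.ker p))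
    have h3 := Groth.Agent.S11495.free_vanish A S.X₂ r 1
    refine subsingleton_of_forall_eq 0 fun x => ?_
    obtain ⟨y, hy⟩ := Abelian.Ext.covariant_sequence_exact₃ S.X₂ hT x (n₁ := 2) rfl (h1.elim _ _)
    rw [← hy, show y = 0 from h3.elim _ _, Abelian.Ext.zero_comp]
  haveI : Module.Projective A S.X₂ := (IsProjective.iff_projective S.X₂).mpr
    ((projective_iff_hasProjectiveDimensionLT_one (X := S.X₂)).mpr inferInstance)
  exact Module.free_of_flat_of_isLocalRing

end Groth.Agent.S11493
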