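import Groth.Statements.S11496
import Groth.Agent.H05EGA4.Regular
import Groth.Agent.H4Depth.CM

set_option autoImplicit false
universe u
open CategoryTheory
open VBPn

namespace Groth.Agent.S11496

/-- Let A be a regular local ring, M a finitely generated A-module and i ≥ 0. The support of Ext^i_A(M,
A) has dimension at most dim A − i: for every prime ideal p of A such that Ext^i over the
localization A_p of M_p into A_p is nonzero (this Ext group is the localization at p of Ext^i_A(M,
A)), one has dim(A/p) + i ≤ dim A. The published statement is for coherent analytic sheaves on an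
n-dimensional complex manifold; this row is stated for any regular local ring. -/
theorem result (A : Type u) [CommRing A] [IsRegularLocalRing A]
    (M : Type u) [AddCommGroup M] [Module A M] [Module.Finite A M] (i : ℕ) (p : Ideal A) [p.IsPrime]
    (h : Nontrivial (Abelian.Ext
      (ModuleCat.of (Localization.AtPrime p) (LocalizedModule p.primeCompl M))
      (ModuleCat.of (Localization.AtPrime p) (Localization.AtPrime p)) i)) :
    ringKrullDim (A ⧸ p) + (i : WithBot ℕ∞) ≤ ringKrullDim A := by
  haveI := Groth.Agent.H05EGA4.isRegularLocalRing_localization A p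
  obtain ⟨d, hd, hk⟩ := Groth.Agent.H05EGA4.exists_pd_residueField (Localization.AtPrime p)
  haveI := Groth.Agent.H05EGA4.hasProjectiveDimensionLT_of_residueField d hk
    (ModuleCat.of (Localization.AtPrime p) (LocalizedModule p.primeCompl M))
  have hid : i ≤ d := by
    by_contra hlt
    exact not_subsingleton_iff_nontrivial.mpr h
      (HasProjectiveDimensionLT.subsingleton _ (d + 1) i (by omega) _)
  rw [IsLocalization.AtPrime.ringKrullDim_eq_height p (Localization.AtPrime p)] at hd
  let x : PrimeSpectrum A := ⟨p, ‹_›⟩
  have h1 : ringKrullDim (A ⧸ p) ≤ (Order.coheight x : ℕ∞) := by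
    rw [ringKrullDim_quotient, Order.coheight_eq_krullDim_Ici]
    exact Order.krullDim_le_of_strictMono (fun Q => (⟨Q.1, fun a ha => Q.2 ha⟩ : Set.Ici x)) fun _ _ h => h
  calc ringKrullDim (A ⧸ p) + (i : WithBot ℕ∞) ≤ (Order.coheight x : ℕ∞) + (p.height : WithBot ℕ∞) := by
        refine add_le_add h1 ?_
        rw [hd]; exact_mod_cast hid
    _ ≤ ringKrullDim A := by
        rw [add_comm, show p.height = Order.height x from PrimeSpectrum.height_eq_orderHeight x]
        exact Groth.Agent.H4Depth.height_add_coheight_le x

end Groth.Agent.S11496
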