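import Groth.Statements.S11497
import Mathlib

set_option autoImplicit false
universe w v u
open CategoryTheory
open VBPn

namespace Groth.Agent.S11497

open Abelian CategoryTheory.Limits

theorem exists_extend {C : Type u} [Category.{v} C] [Abelian C] [HasExt.{w} C] {S : ShortComplex C}
    (hS : S.ShortExact) {Y : C} [Subsingleton (Ext S.X₃ Y 1)] (u : S.X₁ ⟶ Y) :
    ∃ t : S.X₂ ⟶ Y, S.f ≫ t = u := by
  obtain ⟨x, hx⟩ := Ext.contravariant_sequence_exact₁ hS Y (Ext.mk₀ u) (n₁ := 1) rfl (Subsingleton.elim _ _)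
  obtain ⟨t, rfl⟩ := Ext.mk₀_bijective _ _ |>.2 x
  exact ⟨t, (Ext.mk₀_bijective _ _).1 (by rw [← hx, Ext.mk₀_comp_mk₀])⟩

theorem exists_lift {C : Type u} [Category.{v} C] [Abelian C] [HasExt.{w} C] {S : ShortComplex C}
    (hS : S.ShortExact) {X : C} [Subsingleton (Ext X S.X₁ 1)] (u : X ⟶ S.X₃) :
    ∃ t : X ⟶ S.X₂, t ≫ S.g = u := by
  obtain ⟨x, hx⟩ := Ext.covariant_sequence_exact₃ X hS (Ext.mk₀ u) (n₁ := 1) rfl (Subsingleton.elim _ _)
  obtain ⟨t, rfl⟩ := Ext.mk₀_bijective _ _ |>.2 x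
  exact ⟨t, (Ext.mk₀_bijective _ _).1 (by rw [← hx, Ext.mk₀_comp_mk₀])⟩

theorem subsingleton_ext_fst {C : Type u} [Category.{v} C] [Abelian C] [HasExt.{w} C] {S : ShortComplex C}
    (hS : S.ShortExact) {Y : C} [Subsingleton (Ext S.X₂ Y 1)] [Subsingleton (Ext S.X₃ Y 2)] :
    Subsingleton (Ext S.X₁ Y 1) := by
  refine subsingleton_of_forall_eq 0 fun x₁ => ?_
  obtain ⟨x₂, rfl⟩ := Ext.contravariant_sequence_exact₁ hS Y x₁ (n₁ := 2) rfl (Subsingleton.elim _ _)
  rw [Subsingleton.elim x₂ 0, Ext.comp_zero]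


/-- In an abelian category, let M : A → B → C and M' : A' → B' → C' be monads, i.e. short complexes
whose first map is a monomorphism and whose second map is an epimorphism, with cohomology (homology)
objects E and E'. Suppose Hom(B, A') = 0, Hom(C, B') = 0 and Ext^1(C, A') = Ext^1(B, A') = Ext^1(C,
B') = Ext^2(C, A') = 0. Then the map sending a morphism of monads M → M' to the induced morphism E →
E' is bijective. The published statement is for monads of vector bundles on a complex manifold X,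
with Ext^i(C, A') written H^i(X, C^* ⊗ A'); this row is stated in any abelian category. -/
theorem result {C : Type u} [Category.{v} C] [Abelian C] [HasExt.{w} C]
    (M M' : ShortComplex C) [Mono M.f] [Epi M.g] [Mono M'.f] [Epi M'.g]
    (hBA : ∀ f : M.X₂ ⟶ M'.X₁, f = 0) (hCB : ∀ f : M.X₃ ⟶ M'.X₂, f = 0)
    (hCA₁ : Subsingleton (Abelian.Ext M.X₃ M'.X₁ 1)) (hBA₁ : Subsingleton (Abelian.Ext M.X₂ M'.X₁ 1))
    (hCB₁ : Subsingleton (Abelian.Ext M.X₃ M'.X₂ 1)) (hCA₂ : Subsingleton (Abelian.Ext M.X₃ M'.X₁ 2)) :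
    Function.Bijective (fun φ : M ⟶ M' => ShortComplex.homologyMap φ) := by
  let KB := ShortComplex.mk M.iCycles M.g M.iCycles_g
  let AK := ShortComplex.mk M'.toCycles M'.homologyπ M'.toCycles_comp_homologyπ
  have hKB : KB.ShortExact := { exact := ShortComplex.exact_of_f_is_kernel _ M.cyclesIsKernel }
  haveI : Mono AK.f := mono_of_mono_fac M'.toCycles_i
  have hAK : AK.ShortExact := { exact := ShortComplex.exact_of_g_is_cokernel _ M'.homologyIsCokernel }
  haveI : Subsingleton (Abelian.Ext KB.X₃ M'.X₁ 1) := hCA₁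
  haveI : Subsingleton (Abelian.Ext KB.X₃ M'.X₂ 1) := hCB₁
  haveI : Subsingleton (Abelian.Ext KB.X₂ M'.X₁ 1) := hBA₁
  haveI : Subsingleton (Abelian.Ext KB.X₃ M'.X₁ 2) := hCA₂
  haveI : Subsingleton (Abelian.Ext M.cycles AK.X₁ 1) := subsingleton_ext_fst hKB
  have hKA : ∀ u : M.cycles ⟶ M'.X₁, u = 0 := fun u => by
    obtain ⟨t, rfl⟩ := exists_extend hKB u
    rw [hBA t, Limits.comp_zero]
  refine ⟨fun φ ψ hφψ => ?_, fun h => ?_⟩
  · rw [← sub_eq_zero]
    set χ := φ - ψ with hχ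
    have h0 : ShortComplex.homologyMap χ = 0 := by
      rw [hχ, ShortComplex.homologyMap_sub, sub_eq_zero]; exact hφψ
    have h1 : ShortComplex.cyclesMap χ ≫ M'.homologyπ = 0 := by
      rw [← ShortComplex.homologyπ_naturality, h0, Limits.comp_zero]
    have h2 : ShortComplex.cyclesMap χ = 0 := by
      rw [← hAK.exact.lift_f (ShortComplex.cyclesMap χ) h1, hKA (hAK.exact.lift _ h1), Limits.zero_comp]
    have h3 : M.iCycles ≫ χ.τ₂ = 0 := by
      rw [← ShortComplex.cyclesMap_i, h2, Limits.zero_comp]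
    have h4 : χ.τ₂ = 0 := by
      haveI : Epi KB.g := inferInstanceAs (Epi M.g)
      rw [← hKB.exact.g_desc χ.τ₂ h3, hCB (hKB.exact.desc _ h3), Limits.comp_zero]
    refine ShortComplex.hom_ext _ _ ?_ h4 ?_
    · rw [← cancel_mono M'.f, χ.comm₁₂, h4, Limits.comp_zero]; simp
    · rw [← cancel_epi M.g, ← χ.comm₂₃, h4, Limits.zero_comp]; simp
  · obtain ⟨k, hk⟩ := exists_lift hAK (M.homologyπ ≫ h)
    obtain ⟨b, hb⟩ := exists_extend hKB (k ≫ M'.iCycles)
    change k ≫ M'.homologyπ = M.homologyπ ≫ h at hk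
    change M.iCycles ≫ b = k ≫ M'.iCycles at hb
    have hA : (M.toCycles ≫ k) ≫ M'.homologyπ = 0 := by
      rw [Category.assoc, hk, ShortComplex.toCycles_comp_homologyπ_assoc, Limits.zero_comp]
    have hg : M.iCycles ≫ b ≫ M'.g = 0 := by
      rw [reassoc_of% hb, ShortComplex.iCycles_g, Limits.comp_zero]
    haveI : Epi KB.g := inferInstanceAs (Epi M.g)
    let φ : M ⟶ M' :=
      { τ₁ := hAK.exact.lift _ hA
        τ₂ := b
        τ₃ := hKB.exact.desc _ hg
        comm₁₂ := by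
          conv_lhs => rw [← M'.toCycles_i, ← Category.assoc, show hAK.exact.lift _ hA ≫ M'.toCycles = M.toCycles ≫ k from hAK.exact.lift_f _ hA]
          rw [Category.assoc, ← hb, ShortComplex.toCycles_i_assoc]
        comm₂₃ := (hKB.exact.g_desc _ hg).symm }
    refine ⟨φ, ?_⟩
    have hc : ShortComplex.cyclesMap φ = k := by
      rw [← cancel_mono M'.iCycles, ShortComplex.cyclesMap_i]; exact hb
    change ShortComplex.homologyMap φ = h
    rw [← cancel_epi M.homologyπ, ShortComplex.homologyπ_naturality, hc, hk]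

end Groth.Agent.S11497
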