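import Groth.Statements.S11498
import Groth.Agent.H02CA.VBPn.Linear

set_option autoImplicit false
universe u
open VBPn

namespace Groth.Agent.S11498

open CategoryTheory CategoryTheory.Limits AlgebraicGeometry in
/-- Let k be a characteristic-zero algebraically closed field and E a rank-2 vector bundle (finite
locally free O-module of rank 2) on P^n_k which is trivial on some line, i.e. i^*E ≅ O ⊕ O for some
closed immersion of k-schemes i : P^1_k → P^n_k along which O(1) pulls back to O(1). Then H^0(P^n_k,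
E ⊗ O(−d)) = 0 for all d ≥ 1. The published statement assumes generic splitting type (0, 0) and
concludes semistability; this row assumes triviality on one line and concludes the vanishing of
H^0(E(−d)) for d ≥ 1, which for rank 2 with c_1 = 0 is semistability and is what the published proof
obtains from one such line. -/
theorem result (k : Type u) [Field k] [IsAlgClosed k] [CharZero k]
    (n : ℕ) (E : (CohB1.ProjSpace n k).Modules) (hE : FlatMod.IsFinLocFreeOfRank 2 E)
    (i : CohB1.ProjSpace 1 k ⟶ CohB1.ProjSpace n k) [IsClosedImmersion i]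
    (hi : i ≫ CohB1.ProjSpace.toSpec n k = CohB1.ProjSpace.toSpec 1 k)
    (hO : Nonempty ((Scheme.Modules.pullback i).obj (Twist.twistProjSpace n k 1) ≅ Twist.twistProjSpace 1 k 1))
    (htriv : Nonempty ((Scheme.Modules.pullback i).obj E ≅ FlatMod.freeMod (CohB1.ProjSpace 1 k) 2))
    (d : ℤ) (hd : 1 ≤ d) :
    Subsingleton (Coh.HH (CohB1.ProjSpace n k) (CohB1.tensorMod E (Twist.twistProjSpace n k (-d))) 0) := by
  obtain ⟨t⟩ := htriv
  obtain ⟨z⟩ := (Groth.Agent.H10Coh.Stab.isTwistFamily_projSpace 1 k).zero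
  let e : (Scheme.Modules.pullback i).obj E ≅ ∐ fun _ : Fin 2 => Twist.twistProjSpace 1 k 0 :=
    t ≪≫ Sigma.mapIso fun _ => z.symm
  refine Groth.Agent.H02CA.VBPn.h0_neg_of_linear le_rfl n E i inferInstance hi hO
    (fun x => let ⟨U, hx, he⟩ := hE x; ⟨U, 2, hx, he⟩) (-1) (fun l hl => ?_) (-d) (by omega)
  obtain ⟨w⟩ := Groth.Agent.H29RR.PnPic.nonempty_tensor_sum (n := 1) (k := k) (fun _ : Fin 2 => (0 : ℤ)) l
  refine Groth.Agent.H10Coh.subsingleton_HH_of_iso
    (PicGrp.tensorModIso e (Iso.refl _) ≪≫ w).symm 0 ?_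
  exact Groth.Agent.H17.Horrocks.subsingleton_map_sigma _ (𝟭 _) 0 fun j =>
    Groth.Agent.H29RR.PnPic.subsingleton_h0_neg one_ne_zero (by omega)

end Groth.Agent.S11498
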