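import Groth.Statements.S11499
import Mathlib.RingTheory.Localization.BaseChange
import Mathlib.LinearAlgebra.FreeModule.Finite.Basic
import Mathlib.RingTheory.Localization.Integer
import Mathlib.LinearAlgebra.Dimension.Free
import Mathlib.LinearAlgebra.Basis.VectorSpace
import Mathlib.RingTheory.TensorProduct.Finite

set_option autoImplicit false
universe u
open TensorProduct
open VBPn

namespace Groth.Agent.S11499

/-- Let A be an integral domain with fraction field K and M a finitely generated torsion-free A-module
of rank r (K ⊗_A M is r-dimensional over K). Then there is an injective A-linear map M → A^r. The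
published statement is for torsion-free coherent sheaves on a complex manifold, locally near a
point; this row is its statement for one stalk, over any domain. -/
theorem result (A : Type u) [CommRing A] [IsDomain A]
    (M : Type u) [AddCommGroup M] [Module A M] [Module.Finite A M] [NoZeroSMulDivisors A M] (r : ℕ)
    (hr : Module.finrank (FractionRing A) (FractionRing A ⊗[A] M) = r) :
    ∃ f : M →ₗ[A] (Fin r → A), Function.Injective f := by
  classical
  set K := FractionRing A
  let ι : M →ₗ[A] K ⊗[A] M := TensorProduct.mk A K M 1
  haveI : IsLocalizedModule (nonZeroDivisors A) ι :=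
    (isLocalizedModule_iff_isBaseChange (nonZeroDivisors A) K ι).mpr (TensorProduct.isBaseChange A M K)
  have hι : Function.Injective ι := by
    intro x y h
    obtain ⟨c, hc⟩ := (IsLocalizedModule.eq_iff_exists (nonZeroDivisors A) ι).mp h
    exact smul_right_injective M (nonZeroDivisors.ne_zero c.2) hc
  let e : K ⊗[A] M ≃ₗ[K] (Fin r → K) :=
    (Module.finBasisOfFinrankEq K (K ⊗[A] M) hr).equivFun
  obtain ⟨S, hS⟩ := Module.Finite.fg_top (R := A) (M := M)
  obtain ⟨b, hb⟩ := IsLocalization.exist_integer_multiples_of_finset (nonZeroDivisors A)
    ((S ×ˢ (Finset.univ : Finset (Fin r))).image fun p => e (ι p.1) p.2)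
  let g : M →ₗ[A] (Fin r → K) := (b : A) • ((e.toLinearMap.restrictScalars A).comp ι)
  let c : (Fin r → A) →ₗ[A] (Fin r → K) :=
    LinearMap.pi fun i => (Algebra.linearMap A K).comp (LinearMap.proj i)
  have hc : Function.Injective c := fun x y h => funext fun i =>
    IsFractionRing.injective A K (congrFun h i)
  have hrange : ∀ m : M, g m ∈ LinearMap.range c := by
    intro m
    have hm : m ∈ Submodule.span A (S : Set M) := by rw [hS]; trivial
    induction hm using Submodule.span_induction with
    | mem x hx =>
      have : ∀ i, ∃ a : A, algebraMap A K a = (b : A) • e (ι x) i := fun i =>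
        hb _ (Finset.mem_image.mpr ⟨(x, i), Finset.mem_product.mpr ⟨hx, Finset.mem_univ _⟩, rfl⟩)
      choose a ha using this
      exact ⟨a, funext fun i => ha i⟩
    | zero => simp
    | add x y _ _ hx hy => rw [map_add]; exact add_mem hx hy
    | smul a x _ hx => rw [map_smul]; exact Submodule.smul_mem _ a hx
  refine ⟨(LinearEquiv.ofInjective c hc).symm.toLinearMap.comp (g.codRestrict _ hrange), ?_⟩
  rw [LinearMap.coe_comp]
  refine (LinearEquiv.injective _).comp ?_
  intro x y h
  have h' : g x = g y := congrArg Subtype.val h
  have hg : Function.Injective g := by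
    refine (smul_right_injective (Fin r → K) (nonZeroDivisors.ne_zero b.2)).comp ?_
    exact e.injective.comp hι
  exact hg h'

end Groth.Agent.S11499
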