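import Groth.Statements.S11501
import Groth.Agent.H7Serre.Main
import Groth.Agent.LeadPic.PnRel
import Groth.Agent.H22Alg.DetSections
import Groth.Agent.H22Alg.ExtPowSheaf
-- import your own Groth.Agent.* helpers here

set_option autoImplicit false
universe u
open VBPn

namespace Groth.Agent.S11501

open CategoryTheory CategoryTheory.Limits AlgebraicGeometry in
/-- Let k be an algebraically closed field of characteristic zero, n ≥ 3, and i : Y → P^n_k a closed
immersion which is a local complete intersection of codimension 2 (a regular immersion of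
codimension 2), with ideal sheaf J_Y. Assume the determinant of the normal bundle extends to P^n_k:
some second exterior power of the conormal sheaf of i is isomorphic to i^*O(−c) for an integer c.
Then there is a rank-2 vector bundle E on P^n_k (finite locally free of rank 2), with a second
exterior power isomorphic to O(c), and a short exact sequence 0 → O → E → J_Y ⊗ O(c) → 0; the first
map is a section of E whose zero scheme is Y. The published statement also gives c_2(E) = deg Y;
this row does not state it. -/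
theorem result (k : Type u) [Field k] [IsAlgClosed k] [CharZero k]
    (n : ℕ) (hn : 3 ≤ n) {Y : Scheme.{u}} (i : Y ⟶ CohB1.ProjSpace n k) [IsClosedImmersion i]
    (hlci : RegImm.IsRegularImmersionOfCodim RegImm.Kind.regular 2 i) (c : ℤ)
    (hdet : ∃ L : Y.Modules, ExtPow.IsExtPow 2 (Omega.conormal i) L ∧
      Nonempty (L ≅ (Scheme.Modules.pullback i).obj (Twist.twistProjSpace n k (-c)))) :
    ∃ S : ShortComplex (CohB1.ProjSpace n k).Modules, S.ShortExact ∧ FlatMod.IsFinLocFreeOfRank 2 S.X₂ ∧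
      Nonempty (S.X₁ ≅ Coh.structureModule (CohB1.ProjSpace n k)) ∧
      Nonempty (S.X₃ ≅ CohB1.tensorMod (ClSub.idealMod i.ker) (Twist.twistProjSpace n k c)) ∧
      ∃ D : (CohB1.ProjSpace n k).Modules, ExtPow.IsExtPow 2 S.X₂ D ∧ Nonempty (D ≅ Twist.twistProjSpace n k c) := by
  haveI : IsNoetherian (CohB1.ProjSpace n k) := H10Coh.ProjQ.isNoetherian_proj (H10Coh.Pn.Gr n k)
  haveI : IsIntegral (CohB1.ProjSpace n k) := LeadPic.PnRel.isIntegral_projSpace (n := n) k
  obtain ⟨L, hL, ⟨eL⟩⟩ := hdet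
  obtain ⟨F, a, b, w, hT, hF, hst⟩ := H7Serre.exists_extension hn i hlci c hL eL
  have hFr : FlatMod.IsFinLocFreeOfRank 2 F := by
    haveI : ConnectedSpace ↥(CohB1.ProjSpace n k) := inferInstance
    obtain ⟨m, hm⟩ := H22Alg.KModel.exists_rank hF
    let x := genericPoint (CohB1.ProjSpace n k)
    obtain ⟨e⟩ := hst x
    have h1 : H22Alg.KExists.rk x F = m := H22Alg.KExists.rk_of_rank hm x
    have h2 : H22Alg.KExists.rk x F = 2 := e.finrank_eq.trans (Module.finrank_fin_fun _)
    exact h1.symm.trans h2 ▸ hm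
  have hM := H22Alg.RegSheaf.isInvertible_twistProjSpace n k (-c)
  have hB := H22Alg.RegSheaf.isInvertible_twistProjSpace n k c
  obtain ⟨D, hD⟩ := H22Alg.ExtPowSheaf.exists_isExtPow 2
    (H8Props.FinLocFree.isQCoh_of_isFinLocFree _ hF)
  haveI : Mono (ClSub.idealModι i.ker) := (H7Serre.shortExact_idealSeq i).mono_f
  obtain ⟨eD⟩ := H7Serre.nonempty_det_iso (S := ShortComplex.mk a b w) hT hM hFr
    (H11Proj.isInvertible_structureModule (X := CohB1.ProjSpace n k)) (ClSub.idealModι i.ker) (fun x r h => by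
      have hdvd : ∀ q, ∃ t, H29Omega.idealStalk i.ker x q = r * t := fun q => by
        obtain ⟨v, hv⟩ := h q
        obtain ⟨t, rfl⟩ := (H29Ref.bijective_smul_oneStalk x).2 v
        refine ⟨t, (H29Ref.bijective_smul_oneStalk x).1 ?_⟩
        simp only [LinearMap.toSpanSingleton_apply, ← smul_smul] at hv ⊢
        rw [← H7Serre.stalkLin_idealModι]
        exact hv
      by_cases hx : x ∈ Set.range i.base
      · obtain ⟨y, rfl⟩ := hx
        obtain ⟨f, hf, -, hspan, hrange⟩ := H7Serre.exists_regular_pair i hlci y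
        refine H7Serre.isUnit_of_dvd hf r fun j => ?_
        obtain ⟨q, hq⟩ : f j ∈ LinearMap.range (H29Omega.idealStalk i.ker (i.base y)) := by
          rw [hrange, ← hspan]; exact Ideal.subset_span ⟨j, rfl⟩
        exact hq ▸ hdvd q
      · obtain ⟨q, hq⟩ := H7Serre.idealStalk_surjective_of_not_mem i x hx 1
        obtain ⟨t, ht⟩ := hdvd q
        exact IsUnit.of_mul_eq_one t (ht.symm.trans hq)) hD
  let E := CohB1.tensorMod F (Twist.twistProjSpace n k c)
  have hE : FlatMod.IsFinLocFreeOfRank 2 E := H22Alg.DetSections.rank_tensor hFr hB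
  obtain ⟨D', hD'⟩ := H22Alg.ExtPowSheaf.exists_isExtPow 2
    (H8Props.FinLocFree.isQCoh_of_isFinLocFree _ (H22Alg.KModel.finLocFree_of_rank hE))
  obtain ⟨eD'⟩ := H22Alg.ExtPowTwist.nonempty_iso (H8Props.FinLocFree.isQCoh_of_isFinLocFree _ hF) hB hD hD'
  obtain ⟨e0⟩ := H17.PnExt.nonempty_tensor_od n k (p := -c) (q := c) (r := 0) (by ring)
  obtain ⟨e00⟩ := H11Tilde.nonempty_twist_zero_iso (H10Coh.Pn.Gr n k)
  let eO : CohB1.tensorMod (Twist.twistProjSpace n k (-c)) (Twist.twistProjSpace n k c) ≅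
      Coh.structureModule (CohB1.ProjSpace n k) := e0 ≪≫ e00
  refine ⟨_, H10Coh.Tw.shortExact_seq hT hB, hE, ⟨eO⟩, ⟨Iso.refl _⟩, D', hD', ⟨eD' ≪≫ ?_⟩⟩
  exact PicGrp.tensorModIso (eD ≪≫ H11Ample.tensorCommIso _ _ ≪≫ H11Ample.tensorLeftUnitIso _)
      (PicGrp.tensorModIso (H11Ample.tensorLeftUnitIso _) (Iso.refl _)) ≪≫
    (H11Ample.tensorAssocIso _ _ _).symm ≪≫ PicGrp.tensorModIso eO (Iso.refl _) ≪≫ H11Ample.tensorLeftUnitIso _

end Groth.Agent.S11501
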