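import Groth.Statements.S11502
import Groth.Agent.H02CA.CI.Main
import Groth.Agent.H11Ample.UnitIso
import Groth.Agent.H10Coh.TensorBasics

set_option autoImplicit false
universe u
open VBPn

namespace Groth.Agent.S11502

open CategoryTheory CategoryTheory.Limits AlgebraicGeometry Groth.Agent in
/-- Twisting a sum of two twisting sheaves. -/
theorem twist_biprod {X : Scheme.{u}} {O : ℤ → X.Modules} (hT : H10Coh.Stab.IsTwistFamily O) (d a b a' b' : ℤ)
    (ha : d + a = a') (hb : d + b = b') :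
    Nonempty (((DCoh.tensorBi (X := X)).obj (O d)).obj (O a ⊞ O b) ≅ O a' ⊞ O b') := by
  let T := (DCoh.tensorBi (X := X)).obj (O d)
  haveI : PreservesBinaryBiproduct (O a) (O b) T :=
    haveI := preservesColimitsOfSize_shrink.{0, u, 0, u} T
    preservesBinaryBiproduct_of_preservesBinaryCoproduct T
  obtain ⟨x⟩ := hT.add d a
  obtain ⟨y⟩ := hT.add d b
  exact ⟨T.mapBiprod (O a) (O b) ≪≫ biprod.mapIso (x ≪≫ eqToIso (congrArg O ha)) (y ≪≫ eqToIso (congrArg O hb))⟩

open CategoryTheory CategoryTheory.Limits AlgebraicGeometry in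
open Groth.Agent in
set_option maxHeartbeats 1000000 in
/-- Let k be an algebraically closed field of characteristic zero, n ≥ 3, i : Y → P^n_k a closed
immersion which is a local complete intersection of codimension 2 (regular immersion of codimension
2) with ideal sheaf J_Y, and E a rank-2 vector bundle belonging to Y, that is a finite locally free
O-module of rank 2 with a short exact sequence 0 → O → E → J_Y ⊗ O(c) → 0 for some integer c. Then E
splits as O(a') ⊕ O(b') for some integers a', b' if and only if Y is a global complete intersection: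
J_Y is an epimorphic image of O(−a) ⊕ O(−b) for some integers a, b (Y is cut out
scheme-theoretically by two hypersurfaces). -/
theorem result (k : Type u) [Field k] [IsAlgClosed k] [CharZero k]
    (n : ℕ) (hn : 3 ≤ n) {Y : Scheme.{u}} (i : Y ⟶ CohB1.ProjSpace n k) [IsClosedImmersion i]
    (hlci : RegImm.IsRegularImmersionOfCodim RegImm.Kind.regular 2 i) (c : ℤ)
    (S : ShortComplex (CohB1.ProjSpace n k).Modules) (hS : S.ShortExact) (hE : FlatMod.IsFinLocFreeOfRank 2 S.X₂)
    (h₁ : Nonempty (S.X₁ ≅ Coh.structureModule (CohB1.ProjSpace n k)))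
    (h₃ : Nonempty (S.X₃ ≅ CohB1.tensorMod (ClSub.idealMod i.ker) (Twist.twistProjSpace n k c))) :
    (∃ a' b' : ℤ, Nonempty (S.X₂ ≅ Twist.twistProjSpace n k a' ⊞ Twist.twistProjSpace n k b')) ↔
      ∃ (a b : ℤ) (ψ : Twist.twistProjSpace n k (-a) ⊞ Twist.twistProjSpace n k (-b) ⟶ ClSub.idealMod i.ker),
        Epi ψ := by
  letI : (CohB1.ProjSpace n k).Over (Spec (CommRingCat.of k)) := ⟨CohB1.ProjSpace.toSpec n k⟩
  haveI : IsProper (CohB1.ProjSpace n k ↘ Spec (CommRingCat.of k)) := H27Weil.isProper_toSpec n k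
  have hT := H10Coh.Stab.isTwistFamily_projSpace n k
  let O : ℤ → (CohB1.ProjSpace n k).Modules := fun a => Twist.twistProjSpace n k a
  obtain ⟨i₁⟩ := h₁
  obtain ⟨i₃⟩ := h₃
  let J := ClSub.idealMod i.ker
  obtain ⟨z⟩ := hT.zero
  haveI := hS.epi_g
  haveI := hS.mono_f
  constructor
  · rintro ⟨a', b', ⟨e⟩⟩
    obtain ⟨d⟩ := twist_biprod hT (-c) a' b' (-(c - a')) (-(c - b')) (by omega) (by omega)
    obtain ⟨u⟩ := hT.add (-c) c
    let T := (DCoh.tensorBi (X := CohB1.ProjSpace n k)).obj (O (-c))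
    let χ : O a' ⊞ O b' ⟶ CohB1.tensorMod (O c) J := e.inv ≫ S.g ≫ (i₃ ≪≫ H10Coh.Tw.commIso _ _).hom
    haveI : Epi χ := epi_comp _ _
    haveI : PreservesColimitsOfSize.{0, 0} T := preservesColimitsOfSize_shrink.{0, u, 0, u} T
    haveI : Epi (T.map χ) := inferInstance
    let r : CohB1.tensorMod (O (-c)) (CohB1.tensorMod (O c) J) ≅ J :=
      (H11Ample.tensorAssocIso _ _ _).symm ≪≫
        PicGrp.tensorModIso (u ≪≫ eqToIso (congrArg O (by omega)) ≪≫ z) (Iso.refl J) ≪≫ H10Coh.Tw.leftUnitIso J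
    exact ⟨c - a', c - b', d.inv ≫ T.map χ ≫ r.hom, epi_comp _ _⟩
  · rintro ⟨a, b, ψ, hψ⟩
    haveI := hψ
    obtain ⟨d⟩ := twist_biprod hT c (-a) (-b) (c - a) (c - b) (by omega) (by omega)
    let T := (DCoh.tensorBi (X := CohB1.ProjSpace n k)).obj (O c)
    haveI : PreservesColimitsOfSize.{0, 0} T := preservesColimitsOfSize_shrink.{0, u, 0, u} T
    haveI : Epi (T.map ψ) := inferInstance
    let χ : O (c - a) ⊞ O (c - b) ⟶ S.X₃ := d.inv ≫ T.map ψ ≫ (H10Coh.Tw.commIso _ _ ≪≫ i₃.symm).hom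
    haveI : Epi χ := epi_comp _ _
    have hlift : ∀ m : ℤ, ∀ f : O m ⟶ S.X₃, ∃ g : O m ⟶ S.X₂, g ≫ S.g = f := fun m f => by
      obtain ⟨x⟩ := hT.add m (-m)
      refine Groth.Agent.H02CA.VBPn.exists_lift_of_h1 (k := k) hS (hT.inv (-m))
        (x ≪≫ eqToIso (congrArg O (by omega)) ≪≫ z) ?_ f
      exact H10Coh.subsingleton_HH_of_iso (PicGrp.tensorModIso i₁ (Iso.refl _) ≪≫ H10Coh.Tw.leftUnitIso _).symm 1
        (H10Coh.Pn.subsingleton_HH_Od 1 (by omega) (by omega))
    obtain ⟨g₁, hg₁⟩ := hlift _ (biprod.inl ≫ χ)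
    obtain ⟨g₂, hg₂⟩ := hlift _ (biprod.inr ≫ χ)
    let q : O 0 ⊞ (O (c - a) ⊞ O (c - b)) ⟶ S.X₂ := biprod.desc (z.hom ≫ i₁.inv ≫ S.f) (biprod.desc g₁ g₂)
    haveI : Epi q := Preadditive.epi_of_cancel_zero _ fun {W} w hw => by
      have h0 : S.f ≫ w = 0 := by
        have := congrArg (fun t => biprod.inl ≫ t) hw
        simp only [q, biprod.inl_desc_assoc, comp_zero, Category.assoc] at this
        rwa [← cancel_epi i₁.inv, ← cancel_epi z.hom, comp_zero, comp_zero]
      have hw' : S.g ≫ hS.exact.desc w h0 = w := hS.exact.g_desc _ _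
      have h1 : χ ≫ hS.exact.desc w h0 = 0 := by
        have e := congrArg (fun t => biprod.inr ≫ t) hw
        simp only [q, biprod.inr_desc_assoc, comp_zero] at e
        refine biprod.hom_ext' _ _ ?_ ?_
        · rw [reassoc_of% hg₁.symm, hw', comp_zero]
          simpa using congrArg (fun t => biprod.inl ≫ t) e
        · rw [reassoc_of% hg₂.symm, hw', comp_zero]
          simpa using congrArg (fun t => biprod.inr ≫ t) e
      rw [← hw', (cancel_epi χ).1 (h1.trans comp_zero.symm), comp_zero]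
    exact Groth.Agent.H02CA.CI.splits_of_three hn 0 (c - a) (c - b) S.X₂ hE q

end Groth.Agent.S11502
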