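import Groth.Statements.S11503
import Groth.Agent.H29RR.RankTwo
import Groth.Agent.LeadPic.PnRel
import Groth.Agent.H19Grp.ProjPoint

set_option autoImplicit false
universe u
open CategoryTheory CategoryTheory.Limits AlgebraicGeometry Opposite
open VBPn

namespace Groth.Agent.S11503

theorem stalk_generic_ne_zero {X : Scheme.{u}} [IsIntegral X] [IsLocallyNoetherian X] {F G : X.Modules}
    (hG : FlatMod.IsFinLocFree G) {φ : F ⟶ G} (hφ : φ ≠ 0) :
    (DerSch.stalkFunctor X (genericPoint X)).map φ ≠ 0 := by
  have hGc := H16Derived.KFlat.Stalk.isCoh_of_isFinLocFree hG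
  have hGt := H25Par.isTorsionFree_of_locFree hG
  intro h0
  refine hφ (Scheme.Modules.hom_ext _ _ fun W => ConcreteCategory.hom_ext _ _ fun t => H29Ref.sec_ext G fun y hy => ?_)
  have hW : genericPoint X ∈ W := H29Ref.genericPoint_mem hy
  have h1 : G.presheaf.germ W (genericPoint X) hW (φ.app W t) = 0 := by
    refine (TopCat.Presheaf.stalkFunctor_map_germ_apply W _ hW φ.mapPresheaf t).symm.trans ?_
    exact congrArg (fun f : (DerSch.stalkFunctor X (genericPoint X)).obj F ⟶ _ =>
      f.hom (F.presheaf.germ W (genericPoint X) hW t)) h0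
  have h2 : φ.app W t = 0 := H29Ref.germ_generic_injective G hGc.1 hGt hW (h1.trans (map_zero _).symm)
  exact congrArg _ h2


open CategoryTheory CategoryTheory.Limits AlgebraicGeometry in
/-- Let k be a characteristic-zero algebraically closed field and E a finite locally free O-module of
rank r > 1 on P^n_k. If E has a nonzero section (a nonzero morphism O → E) and its dual has a
nonzero section (a nonzero morphism E → O), then E is not simple: there is an endomorphism of E
which is not a homothety, i.e. whose underlying map of abelian sheaves is not multiplication by any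
scalar c ∈ k. -/
theorem result (k : Type u) [Field k] [IsAlgClosed k] [CharZero k]
    (n r : ℕ) (hr : 1 < r) (E : (CohB1.ProjSpace n k).Modules) (hE : FlatMod.IsFinLocFreeOfRank r E)
    (s : Coh.structureModule (CohB1.ProjSpace n k) ⟶ E) (hs : s ≠ 0)
    (t : E ⟶ Coh.structureModule (CohB1.ProjSpace n k)) (ht : t ≠ 0) :
    ∃ φ : E ⟶ E, ∀ c : k, (SheafOfModules.toSheaf (CohB1.ProjSpace n k).ringCatSheaf).map φ ≠
      Coh.smulAb E (Coh.toGlobal (CohB1.ProjSpace.toSpec n k) c) := by
  haveI : IsIntegral (CohB1.ProjSpace n k) := LeadPic.PnRel.isIntegral_projSpace (n := n) k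
  haveI : IsLocallyNoetherian (CohB1.ProjSpace n k) :=
    haveI := H19Grp.ProjPoint.lft_toSpec (K := k) n
    LocallyOfFiniteType.isLocallyNoetherian (CohB1.ProjSpace.toSpec n k)
  refine ⟨t ≫ s, fun c hc => ?_⟩
  have hEf := H29RR.locFree_of_rank hE
  let η := genericPoint (CohB1.ProjSpace n k)
  letI : Field ((CohB1.ProjSpace n k).presheaf.stalk η) := inferInstanceAs (Field (CohB1.ProjSpace n k).functionField)
  let T := DerSch.stalkFunctor (CohB1.ProjSpace n k) η
  have hO := H29RR.rank_one_of_isInvertible (H11Ample.isInvertible_structureModule (X := CohB1.ProjSpace n k))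
  obtain ⟨-, hfE, hrE⟩ := H25Par.finrank_stalk hE η
  obtain ⟨-, hfO, hrO⟩ := H25Par.finrank_stalk hO η
  haveI : Module.Finite ((CohB1.ProjSpace n k).presheaf.stalk η) (T.obj E) := hfE
  haveI : Module.Finite ((CohB1.ProjSpace n k).presheaf.stalk η) (T.obj (Coh.structureModule _)) := hfO
  have hsn := stalk_generic_ne_zero hEf hs
  have htn := stalk_generic_ne_zero (H29RR.locFree_of_rank hO) ht
  have hsinj : Function.Injective (T.map s).hom := by
    rw [injective_iff_map_eq_zero]
    intro v hv
    by_contra hv0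
    refine hsn (ModuleCat.hom_ext (LinearMap.ext fun w => ?_))
    obtain ⟨a, rfl⟩ := exists_smul_eq_of_finrank_eq_one (show Module.finrank _ (T.obj (Coh.structureModule _)) = 1 from hrO) hv0 w
    rw [map_smul, hv, smul_zero]; rfl
  let cη : (CohB1.ProjSpace n k).presheaf.stalk η :=
    (CohB1.ProjSpace n k).presheaf.germ ⊤ η trivial (Coh.toGlobal (CohB1.ProjSpace.toSpec n k) c)
  have key : ∀ v : T.obj E, (T.map s).hom ((T.map t).hom v) = cη • v := by
    intro v
    obtain ⟨W, hW, x, rfl⟩ := E.presheaf.exists_germ_eq v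
    have h1 : (T.map t).hom (E.presheaf.germ W η hW x) = (Coh.structureModule _).presheaf.germ W η hW (t.app W x) :=
      TopCat.Presheaf.stalkFunctor_map_germ_apply W _ hW t.mapPresheaf x
    rw [h1]
    refine (TopCat.Presheaf.stalkFunctor_map_germ_apply W _ hW s.mapPresheaf (t.app W x)).trans ?_
    have h2 : s.app W (t.app W x) =
        (CohB1.ProjSpace n k).presheaf.map (homOfLE (le_top : W ≤ ⊤)).op (Coh.toGlobal (CohB1.ProjSpace.toSpec n k) c) • x :=
      congrArg (fun f : Coh.toAb E ⟶ Coh.toAb E => f.hom.app (op W) x) hc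
    refine (congrArg (E.presheaf.germ W η hW) h2).trans ?_
    refine (H06Mod.germ_smul E W hW _ x).trans (congrArg (· • (E.presheaf.germ W η hW x)) ?_)
    exact TopCat.Presheaf.germ_res_apply (CohB1.ProjSpace n k).presheaf (homOfLE (le_top : W ≤ ⊤)) η hW _
  by_cases hc0 : cη = 0
  · exact htn (ModuleCat.hom_ext (LinearMap.ext fun v => hsinj ((key v).trans (by rw [hc0, zero_smul]; exact (map_zero _).symm))))
  · have hsurj : Function.Surjective (T.map s).hom := fun v =>
      ⟨(T.map t).hom (cη⁻¹ • v), by rw [key, smul_inv_smul₀ hc0]⟩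
    have := LinearMap.finrank_le_finrank_of_surjective hsurj
    have hE' : Module.finrank ((CohB1.ProjSpace n k).presheaf.stalk η) (T.obj E) = r := hrE
    have hO' : Module.finrank ((CohB1.ProjSpace n k).presheaf.stalk η) (T.obj (Coh.structureModule _)) = 1 := hrO
    omega

end Groth.Agent.S11503
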