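import Groth.Statements.S11510
import Groth.Agent.H02CA.Euler.Restrict
import Groth.Agent.H02CA.VBPn.Extend
import Groth.Agent.H02CA.VBPn.SerreSeq
import Groth.Agent.H17.PnExt.Main

set_option autoImplicit false
universe u
open VBPn

namespace Groth.Agent.S11510

attribute [local instance 10000] H10Coh.hasSheafifyAb H10Coh.hasWeakSheafifyAb H10Coh.hasExtAb H10Coh.enoughInjAb

attribute [local instance] H29RR.PnPic.overSpec in
set_option maxHeartbeats 1600000 in
open CategoryTheory CategoryTheory.Limits AlgebraicGeometry in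
/-- The pullback of the differentials to a linear subspace has no sections. -/
theorem subsingleton_pullback_omega {k : Type u} [Field k] {m N : ℕ} [QuasiSeparated (CohB1.ProjSpace.toSpec (N + 1) k)]
    (i : CohB1.ProjSpace (m + 1) k ⟶ CohB1.ProjSpace (N + 1) k)
    (e : (Scheme.Modules.pullback i).obj (Twist.twistProjSpace (N + 1) k (-1)) ≅ Twist.twistProjSpace (m + 1) k (-1)) :
    Subsingleton Γ((Scheme.Modules.pullback i).obj (Omega.sheaf (CohB1.ProjSpace.toSpec (N + 1) k)), ⊤) := by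
  haveI : PreservesColimitsOfSize.{0, 0} (Scheme.Modules.pullback i) :=
    (Scheme.Modules.pullbackPushforwardAdjunction i).leftAdjoint_preservesColimits
  have hE := H22Alg.KModel.shortExact_pullback i (H02CA.Euler.eulerSeq_shortExact (N + 1) k)
    (H28Pinch.isFinLocFree_of_isInvertible ((H10Coh.Stab.isTwistFamily_projSpace (N + 1) k).inv 0))
  let e' : ((H02CA.Euler.eulerSeq (N + 1) k).map (Scheme.Modules.pullback i)).X₂ ≅
      ∐ fun _ : Fin (N + 1 + 1) => Twist.twistProjSpace (m + 1) k (-1) :=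
    PreservesCoproduct.iso (Scheme.Modules.pullback i)
      (fun _ : Fin (N + 1 + 1) => Twist.twistProjSpace (N + 1) k (-1)) ≪≫ Sigma.mapIso fun _ => e
  haveI := hE.mono_f
  let v := ((H02CA.Euler.eulerSeq (N + 1) k).map (Scheme.Modules.pullback i)).f ≫ e'.hom
  haveI : Mono v := mono_comp _ _
  haveI : Subsingleton Γ(∐ fun _ : Fin (N + 1 + 1) => Twist.twistProjSpace (m + 1) k (-1), ⊤) :=
    @Equiv.subsingleton _ _ (H29RR.sec _).symm.toEquiv (H17.PnExt.subsingleton_HH_sigma (k := k) _ 0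
      fun _ => H10Coh.Pn.subsingleton_HH_Od 0 (by omega) (by omega))
  exact (H10Coh.injective_app_of_mono' v ⊤).subsingleton

open CategoryTheory CategoryTheory.Limits AlgebraicGeometry in
/-- Let k be an algebraically closed field of characteristic zero, u : O(−1) → Ω^1 ⊗ O(1) a monomorphism
of O-modules on P^3_k with cokernel M finite locally free of rank 2 (the dual of a null-correlation
bundle N; N|H ≅ M|H as c_1 = 0), and i : P^2_k → P^3_k a closed immersion of k-schemes along which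
O(1) pulls back to O(1), the embedding of a plane H. Then H^0(P^2_k, i^*M ⊗ O(−1)) = 0 while
H^0(P^2_k, i^*M) ≠ 0. The published statement says N|H is semistable but not stable; for rank 2 with
c_1 = 0 this is the pair of conditions stated here. -/
theorem result (k : Type u) [Field k] [IsAlgClosed k] [CharZero k]
    (u : Twist.twistProjSpace 3 k (-1) ⟶
      CohB1.tensorMod (Omega.sheaf (CohB1.ProjSpace.toSpec 3 k)) (Twist.twistProjSpace 3 k 1))
    [Mono u] (hM : FlatMod.IsFinLocFreeOfRank 2 (cokernel u))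
    (i : CohB1.ProjSpace 2 k ⟶ CohB1.ProjSpace 3 k) [IsClosedImmersion i]
    (hi : i ≫ CohB1.ProjSpace.toSpec 3 k = CohB1.ProjSpace.toSpec 2 k)
    (hO : Nonempty ((Scheme.Modules.pullback i).obj (Twist.twistProjSpace 3 k 1) ≅ Twist.twistProjSpace 2 k 1)) :
    Subsingleton (Coh.HH (CohB1.ProjSpace 2 k)
        (CohB1.tensorMod ((Scheme.Modules.pullback i).obj (cokernel u)) (Twist.twistProjSpace 2 k (-1))) 0) ∧
      Nontrivial (Coh.HH (CohB1.ProjSpace 2 k) ((Scheme.Modules.pullback i).obj (cokernel u)) 0) := by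
  letI := H29RR.PnPic.overSpec (k := k) (n := 2)
  have hT := H10Coh.Stab.isTwistFamily_projSpace 2 k
  obtain ⟨eO⟩ := hO
  obtain ⟨e₁⟩ := H02CA.Euler.nonempty_pullback_neg_one i eO
  obtain ⟨j⟩ := H02CA.Euler.nonempty_pullback_omega_iso (k := k) (m := 2) (N := 3) i ⟨eO⟩
  obtain ⟨t⟩ := hT.add (-1) 1
  obtain ⟨t'⟩ := hT.add 1 (-1)
  obtain ⟨t2⟩ := hT.add (-1) (-1)
  obtain ⟨z⟩ := hT.zero
  let F := Scheme.Modules.pullback i
  have hS : (ShortComplex.mk u (cokernel.π u) (cokernel.condition u)).ShortExact :=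
    { exact := ShortComplex.exact_cokernel _ }
  have hP := H22Alg.KModel.shortExact_pullback i hS (H29RR.locFree_of_rank hM)
  let eM : F.obj (CohB1.tensorMod (Omega.sheaf (CohB1.ProjSpace.toSpec 3 k)) (Twist.twistProjSpace 3 k 1)) ≅
      CohB1.tensorMod (F.obj (Omega.sheaf (CohB1.ProjSpace.toSpec 3 k))) (Twist.twistProjSpace 2 k 1) :=
    ((H16Derived.KFlat.Stalk.pullTensorLIso i (Twist.twistProjSpace 3 k 1)).app
      (Omega.sheaf (CohB1.ProjSpace.toSpec 3 k))) ≪≫ PicGrp.tensorModIso (Iso.refl _) eO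
  let e10 : CohB1.tensorMod (Twist.twistProjSpace 2 k 1) (Twist.twistProjSpace 2 k (-1)) ≅ Coh.structureModule _ :=
    t' ≪≫ eqToIso (congrArg _ (add_neg_cancel (1 : ℤ))) ≪≫ z
  refine ⟨?_, ?_⟩
  · have hS' := H16Derived.KFlat.Stalk.isFlatObj_of_isFlat (H16Derived.KFlat.Stalk.isFlat_of_isFinLocFree
      (H28Pinch.isFinLocFree_of_isInvertible (hT.inv (-1)))) _ hP
    refine ((H02CA.VBPn.subsingleton_HH0_mid_iff k hS' (H10Coh.subsingleton_HH_of_iso
      (PicGrp.tensorModIso e₁ (Iso.refl _) ≪≫ t2).symm 1 (H10Coh.Pn.subsingleton_HH_Od 1 (by omega) (by omega)))).1 ?_).2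
    refine H10Coh.subsingleton_HH_of_iso (PicGrp.tensorModIso eM (Iso.refl _) ≪≫
      (H29RR.twistInv e10).app (F.obj (Omega.sheaf (CohB1.ProjSpace.toSpec 3 k)))).symm 0 ?_
    haveI := subsingleton_pullback_omega i e₁
    exact (H29RR.sec (X := CohB1.ProjSpace 2 k) (F.obj (Omega.sheaf (CohB1.ProjSpace.toSpec 3 k)))).toEquiv.subsingleton
  · by_contra hne
    rw [not_nontrivial_iff_subsingleton] at hne
    have hmid := (H02CA.VBPn.subsingleton_HH0_mid_iff k hP (H10Coh.subsingleton_HH_of_iso e₁.symm 1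
      (H10Coh.Pn.subsingleton_HH_Od 1 (by omega) (by omega)))).2
      ⟨H10Coh.subsingleton_HH_of_iso e₁.symm 0 ((H02CA.VBPn.subsingleton_h0_twist_iff (k := k) (by omega) (-1)).2
        (by omega)), hne⟩
    let w : Twist.twistProjSpace 2 k (-1) ⟶ F.obj (Omega.sheaf (CohB1.ProjSpace.toSpec 3 k)) :=
      Sigma.ι (fun _ : Fin (3 - 2) => Twist.twistProjSpace 2 k (-1)) ⟨0, by omega⟩ ≫ biprod.inr ≫ j.inv
    haveI : Mono w := mono_comp _ _
    haveI := H02CA.VBPn.mono_twist_map (hT.inv 1) w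
    let v : Coh.structureModule _ ⟶ F.obj (CohB1.tensorMod (Omega.sheaf (CohB1.ProjSpace.toSpec 3 k))
        (Twist.twistProjSpace 3 k 1)) :=
      (t ≪≫ eqToIso (congrArg _ (neg_add_cancel (1 : ℤ))) ≪≫ z).inv ≫ H02CA.VBPn.tw _ w ≫ eM.inv
    haveI : Mono v := mono_comp _ _
    haveI : Subsingleton Γ(F.obj (CohB1.tensorMod (Omega.sheaf (CohB1.ProjSpace.toSpec 3 k))
        (Twist.twistProjSpace 3 k 1)), ⊤) := @Equiv.subsingleton _ _ (H29RR.sec _).symm.toEquiv hmid
    haveI := (H10Coh.injective_app_of_mono' v ⊤).subsingleton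
    haveI := H29RR.PnPic.nontrivial_structure (R := k) (n := 2)
    exact not_subsingleton _ ‹Subsingleton Γ(Coh.structureModule (CohB1.ProjSpace 2 k), ⊤)›

end Groth.Agent.S11510
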