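import Groth.Statements.S11517
import Groth.Agent.H02CA.Euler.Restrict
import Groth.Agent.H29CurveDual.OmegaP1
import Groth.Agent.H27CurveDiv.RelDim
import Groth.Agent.H28Curve.ProjLine

set_option autoImplicit false
universe u
open VBPn

namespace Groth.Agent.S11517

open CategoryTheory CategoryTheory.Limits AlgebraicGeometry in
/-- Let k be an algebraically closed field of characteristic zero, n ≥ 1, and i : P^1_k → P^n_k a closed
immersion of k-schemes along which O(1) pulls back to O(1), the embedding of a line L. Then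
i^*Ω^1_{P^n_k} ≅ O(−2) ⊕ O(−1)^{⊕(n−1)} (Ω^1 the sheaf of differentials over k); dually T_{P^n}|L ≅
O(2) ⊕ O(1)^{⊕(n−1)} on every line, i.e. the tangent bundle of P^n_k is uniform of splitting type
(2, 1, …, 1). -/
theorem result (k : Type u) [Field k] [IsAlgClosed k] [CharZero k]
    (n : ℕ) (hn : 1 ≤ n) (i : CohB1.ProjSpace 1 k ⟶ CohB1.ProjSpace n k) [IsClosedImmersion i]
    (hi : i ≫ CohB1.ProjSpace.toSpec n k = CohB1.ProjSpace.toSpec 1 k)
    (hO : Nonempty ((Scheme.Modules.pullback i).obj (Twist.twistProjSpace n k 1) ≅ Twist.twistProjSpace 1 k 1)) :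
    Nonempty ((Scheme.Modules.pullback i).obj (Omega.sheaf (CohB1.ProjSpace.toSpec n k)) ≅
      Twist.twistProjSpace 1 k (-2) ⊞ ∐ fun _ : Fin (n - 1) => Twist.twistProjSpace 1 k (-1)) := by
  obtain ⟨hint, -, hPdim⟩ := H28Curve.projLine_facts k
  haveI : IsIntegral (Proj (H10Coh.Pn.Gr 1 k)) := hint
  haveI : Smooth (H10Coh.Pn.toS 1 k) := H26Smooth.smooth_toSpec 1 k
  haveI : IsProper (H10Coh.Pn.toS 1 k) := H27Weil.isProper_toSpec 1 k
  haveI : IsLocallyNoetherian (Proj (H10Coh.Pn.Gr 1 k)) :=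
    LocallyOfFiniteType.isLocallyNoetherian (H10Coh.Pn.toS 1 k)
  haveI : SmoothOfRelativeDimension 1 (H10Coh.Pn.toS 1 k) :=
    H27CurveDiv.smoothOfRelativeDimension_of_dim (H10Coh.Pn.toS 1 k) 1 hPdim
  obtain ⟨eΩ⟩ := H29CurveDual.nonempty_omega_line_iso k
  obtain ⟨e⟩ := H02CA.Euler.nonempty_pullback_omega_iso (k := k) (m := 1) (N := n) i hO
  exact ⟨e ≪≫ biprod.mapIso (eΩ.symm ≪≫ eqToIso (congrArg (fun d : ℤ => Twist.twistProjSpace 1 k d) (by norm_num)))
    (Iso.refl _)⟩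

end Groth.Agent.S11517
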