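import Groth.Statements.S11511
import Groth.Agent.H02CA.GM.VdV
import Groth.Agent.S11517

set_option autoImplicit false
set_option linter.style.haveILetI false
set_option maxHeartbeats 800000
universe u
open VBPn

namespace Groth.Agent.S11511

attribute [local instance 10000] H10Coh.hasSheafifyAb H10Coh.hasWeakSheafifyAb H10Coh.hasExtAb H10Coh.enoughInjAb

open CategoryTheory CategoryTheory.Limits AlgebraicGeometry in
/-- Let k be a characteristic-zero algebraically closed field and E a uniform rank-2 vector bundle on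
P^2_k — a finite locally free O-module of rank 2 such that, for one fixed pair of integers a_1, a_2,
i^*E ≅ O(a_1) ⊕ O(a_2) for every closed immersion of k-schemes i : P^1_k → P^2_k along which O(1)
pulls back to O(1) — which does not split as a direct sum of two twisting sheaves. Then E ≅ Ω^1 ⊗
O(b) for some integer b, Ω^1 the sheaf of differentials of P^2_k over k; equivalently E is a twist
T_{P^2}(a) of the tangent bundle. (Over P^n_k with n ≥ 3 uniform 2-bundles split.) -/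
theorem result (k : Type u) [Field k] [IsAlgClosed k] [CharZero k]
    (E : (CohB1.ProjSpace 2 k).Modules) (hE : FlatMod.IsFinLocFreeOfRank 2 E) (a : Fin 2 → ℤ)
    (huniform : ∀ (i : CohB1.ProjSpace 1 k ⟶ CohB1.ProjSpace 2 k) [IsClosedImmersion i],
      i ≫ CohB1.ProjSpace.toSpec 2 k = CohB1.ProjSpace.toSpec 1 k →
      Nonempty ((Scheme.Modules.pullback i).obj (Twist.twistProjSpace 2 k 1) ≅ Twist.twistProjSpace 1 k 1) →
      Nonempty ((Scheme.Modules.pullback i).obj E ≅ ∐ fun j : Fin 2 => Twist.twistProjSpace 1 k (a j)))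
    (hns : ¬ ∃ b : Fin 2 → ℤ, Nonempty (E ≅ ∐ fun j : Fin 2 => Twist.twistProjSpace 2 k (b j))) :
    ∃ b : ℤ, Nonempty (E ≅ CohB1.tensorMod (Omega.sheaf (CohB1.ProjSpace.toSpec 2 k)) (Twist.twistProjSpace 2 k b)) := by
  haveI : IsIntegral (CohB1.ProjSpace 2 k) := LeadPic.PnRel.isIntegral_projSpace (n := 2) k
  haveI := H22Alg.CMHyper.noetherian k 2
  haveI : IsProper (CohB1.ProjSpace.toSpec 2 k) := H27Weil.isProper_toSpec 2 k
  have hT := H10Coh.Stab.isTwistFamily_projSpace 2 k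
  obtain ⟨α, β, hβα, hu⟩ : ∃ α β : ℤ, β ≤ α ∧ H02CA.GM.Uniform E ![α, β] := by
    have hu : H02CA.GM.Uniform E a := fun i _ hi hO => huniform i hi hO
    rcases le_total (a 1) (a 0) with h | h
    · refine ⟨a 0, a 1, h, ?_⟩
      rwa [show ![a 0, a 1] = a from funext fun j => by fin_cases j <;> rfl]
    · exact ⟨a 1, a 0, h, H02CA.GM.uniform_swap hu⟩
  obtain ⟨δ, hδ⟩ : ∃ δ : ℕ, α - β = (δ : ℤ) := Int.eq_ofNat_of_zero_le (by omega)
  let G := CohB1.tensorMod E (Twist.twistProjSpace 2 k (-α))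
  have hG : FlatMod.IsFinLocFreeOfRank 2 G := H29RR.rank_tensor hE (hT.inv (-α))
  have hUG : H02CA.GM.Uniform G ![0, -(δ : ℤ)] := H02CA.GM.uniform_twist hu (-α) fun j => by
    fin_cases j <;> simp <;> omega
  have back : ∀ {M : (CohB1.ProjSpace 2 k).Modules}, (G ≅ M) →
      Nonempty (E ≅ CohB1.tensorMod M (Twist.twistProjSpace 2 k α)) := fun {M} e => by
    obtain ⟨t⟩ := hT.add (-α) α
    obtain ⟨z⟩ := hT.zero
    exact ⟨(SecTwist.unitorR E).symm ≪≫
      PicGrp.tensorModIso (Iso.refl E) (t ≪≫ eqToIso (congrArg _ (neg_add_cancel α)) ≪≫ z).symm ≪≫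
      (H10Coh.Tw.assoc E _ _).symm ≪≫ PicGrp.tensorModIso e (Iso.refl _)⟩
  have nosplit : ¬ ∃ b : Fin 2 → ℤ, Nonempty (G ≅ ∐ fun j => Twist.twistProjSpace 2 k (b j)) := fun ⟨b, ⟨e⟩⟩ => by
    obtain ⟨e'⟩ := back e
    obtain ⟨w⟩ := H29RR.PnPic.nonempty_tensor_sum (n := 2) (k := k) b α
    exact hns ⟨fun j => b j + α, ⟨e' ≪≫ w⟩⟩
  have hsec : δ ≠ 0 ∧ Subsingleton (Coh.HH (CohB1.ProjSpace 2 k) G 0) := by
    by_contra hc
    exact nosplit (H02CA.GM.split_of_section hG hUG (by tauto))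
  obtain rfl : δ = 1 := by
    by_contra hne
    exact H02CA.GM.not_subsingleton_of_two_le hG hUG (by omega) hsec.2
  let Ω := Omega.sheaf (CohB1.ProjSpace.toSpec 2 k)
  let G' := CohB1.tensorMod Ω (Twist.twistProjSpace 2 k 1)
  haveI : SmoothOfRelativeDimension 2 (CohB1.ProjSpace.toSpec 2 k) := inferInstance
  have hG' : FlatMod.IsFinLocFreeOfRank 2 G' :=
    H29RR.rank_tensor (H28RR.isFinLocFreeOfRank_omega _ 2) (hT.inv 1)
  have hUΩ : H02CA.GM.Uniform Ω ![-2, -1] := fun i _ hi hO => by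
    obtain ⟨e⟩ := S11517.result k 2 one_le_two i hi hO
    let e1 : (∐ fun _ : Fin (2 - 1) => Twist.twistProjSpace 1 k (-1)) ≅ Twist.twistProjSpace 1 k (-1) :=
      { hom := Sigma.desc fun _ => 𝟙 _
        inv := Sigma.ι (fun _ : Fin (2 - 1) => Twist.twistProjSpace 1 k (-1)) ⟨0, by norm_num⟩
        hom_inv_id := Sigma.hom_ext _ _ fun j => by
          rw [Sigma.ι_desc_assoc, Category.id_comp, Category.comp_id]
          congr 1
          exact Fin.ext (by omega)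
        inv_hom_id := Sigma.ι_desc _ _ }
    exact ⟨e ≪≫ biprod.mapIso (eqToIso (congrArg _ (by simp))) (e1 ≪≫ eqToIso (congrArg _ (by simp))) ≪≫
      (H02CA.GM.coprodTwoIso fun j => Twist.twistProjSpace 1 k (![(-2 : ℤ), -1] j)).symm⟩
  have hUG' : H02CA.GM.Uniform G' ![0, -((1 : ℕ) : ℤ)] :=
    H02CA.GM.uniform_twist (H02CA.GM.uniform_swap hUΩ) 1 fun j => by fin_cases j <;> simp
  obtain ⟨eG⟩ := H02CA.GM.nonempty_iso_coker' hG hUG hsec.2
  obtain ⟨eG'⟩ := H02CA.GM.nonempty_iso_coker' hG' hUG' H02CA.VBPn.subsingleton_h0_omega_one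
  obtain ⟨t⟩ := hT.add 1 (-1)
  obtain ⟨z⟩ := hT.zero
  let can : CohB1.tensorMod (Twist.twistProjSpace 2 k 1) (Twist.twistProjSpace 2 k (-1)) ≅
      Coh.structureModule (CohB1.ProjSpace 2 k) := t ≪≫ eqToIso (congrArg _ (add_neg_cancel (1 : ℤ))) ≪≫ z
  let eGG : G ≅ G' :=
    (SecTwist.unitorR G).symm ≪≫ PicGrp.tensorModIso (Iso.refl G) can.symm ≪≫ (H10Coh.Tw.assoc G _ _).symm ≪≫
      PicGrp.tensorModIso (eG ≪≫ eG'.symm) (Iso.refl _) ≪≫ H10Coh.Tw.assoc G' _ _ ≪≫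
      PicGrp.tensorModIso (Iso.refl G') can ≪≫ SecTwist.unitorR G'
  obtain ⟨e⟩ := back eGG
  obtain ⟨t2⟩ := hT.add 1 α
  exact ⟨1 + α, ⟨e ≪≫ H10Coh.Tw.assoc Ω _ _ ≪≫ PicGrp.tensorModIso (Iso.refl Ω) t2⟩⟩

end Groth.Agent.S11511
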