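import Groth.Statements.S11515
import Groth.Agent.H02CA.VBPn.SerreSeq

set_option autoImplicit false
universe u
open VBPn

namespace Groth.Agent.S11515

open CategoryTheory CategoryTheory.Limits AlgebraicGeometry in
/-- Let k be an algebraically closed field of characteristic zero, n ≥ 2, i : Y → P^n_k a closed
immersion which is a local complete intersection of codimension 2 with ideal sheaf J_Y, and E a
finite locally free O-module of rank 2 with a short exact sequence 0 → O → E → J_Y ⊗ O(2m) → 0 (the
case of an even twist c = 2m). Then H^0(P^n_k, E ⊗ O(−m − 1)) = 0 if and only if m ≥ 0 and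
H^0(P^n_k, J_Y ⊗ O(d)) = 0 for all integers d ≤ m − 1, i.e. Y lies on no hypersurface of degree at
most m − 1. The published statement speaks of semistability of E; for rank 2 this is the vanishing
of H^0 stated here. -/
theorem result (k : Type u) [Field k] [IsAlgClosed k] [CharZero k]
    (n : ℕ) (hn : 2 ≤ n) {Y : Scheme.{u}} (i : Y ⟶ CohB1.ProjSpace n k) [IsClosedImmersion i]
    (hlci : RegImm.IsRegularImmersionOfCodim RegImm.Kind.regular 2 i) (m : ℤ)
    (S : ShortComplex (CohB1.ProjSpace n k).Modules) (hS : S.ShortExact) (hE : FlatMod.IsFinLocFreeOfRank 2 S.X₂)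
    (h₁ : Nonempty (S.X₁ ≅ Coh.structureModule (CohB1.ProjSpace n k)))
    (h₃ : Nonempty (S.X₃ ≅ CohB1.tensorMod (ClSub.idealMod i.ker) (Twist.twistProjSpace n k (2 * m)))) :
    Subsingleton (Coh.HH (CohB1.ProjSpace n k) (CohB1.tensorMod S.X₂ (Twist.twistProjSpace n k (-m - 1))) 0) ↔
      (0 ≤ m ∧ ∀ d : ℤ, d ≤ m - 1 →
        Subsingleton (Coh.HH (CohB1.ProjSpace n k)
          (CohB1.tensorMod (ClSub.idealMod i.ker) (Twist.twistProjSpace n k d)) 0)) := by
  rw [H02CA.VBPn.subsingleton_h0_mid_iff hn i.ker (2 * m) (-m - 1) S hS h₁ h₃]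
  exact ⟨fun h => ⟨by have := h.1; omega, fun d hd => h.2 d (by omega)⟩,
    fun h => ⟨by have := h.1; omega, fun d hd => h.2 d (by omega)⟩⟩

end Groth.Agent.S11515
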