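import Groth.Statements.S11518
import Groth.Agent.H02CA.Tango.Simple

set_option autoImplicit false
universe u
open VBPn

namespace Groth.Agent.S11518

open CategoryTheory CategoryTheory.Limits AlgebraicGeometry in
/-- Let k be an algebraically closed field of characteristic zero. For every n there is a finite locally
free O-module F of rank n − 1 on P^n_k which is simple, i.e. every endomorphism of F is a homothety
(its underlying map of abelian sheaves is multiplication by a scalar in k); in particular F is
indecomposable. (For n ≤ 2 the assertion is trivial. The published statement also gives the total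
Chern class (1 − 2h)/(1 − h)^{n+1}; this row does not state it.) -/
theorem result (k : Type u) [Field k] [IsAlgClosed k] [CharZero k] (n : ℕ) :
    ∃ F : (CohB1.ProjSpace n k).Modules, FlatMod.IsFinLocFreeOfRank (n - 1) F ∧
      ∀ φ : F ⟶ F, ∃ c : k, (SheafOfModules.toSheaf (CohB1.ProjSpace n k).ringCatSheaf).map φ =
        Coh.smulAb F (Coh.toGlobal (CohB1.ProjSpace.toSpec n k) c) := by
  refine ⟨cokernel (H02CA.Tango.lamBar k n), H02CA.Tango.rank_quotient.2.2, fun φ => ?_⟩
  suffices h : ∃ c : k, φ = Formal.smulModΓ (cokernel (H02CA.Tango.lamBar k n))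
      (Coh.toGlobal (H10Coh.Pn.toS n k) c) by
    obtain ⟨c, hc⟩ := h
    exact ⟨c, by rw [hc]; rfl⟩
  rcases Nat.eq_zero_or_pos n with rfl | hn
  · exact ⟨0, (cancel_epi (cokernel.π (H02CA.Tango.lamBar k 0))).1
      (Sigma.hom_ext _ _ fun b => by obtain ⟨v, hv⟩ := b; omega)⟩
  · exact H02CA.Tango.exists_scalar hn φ

end Groth.Agent.S11518
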