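import Groth.Statements.S11519
import Groth.Agent.H02CA.VBPn.NullSimple
import Groth.Agent.H02CA.Euler.Matrix
import Groth.Agent.H25Par.Rank
import Groth.Agent.H17.PnExt.Shape

set_option autoImplicit false
set_option maxHeartbeats 1600000
set_option backward.isDefEq.respectTransparency false
universe u
open VBPn

namespace Groth.Agent.S11519

open CategoryTheory AlgebraicGeometry in
theorem exists_end_neg_one {k : Type u} [Field k] {n : ℕ}
    (f : Twist.twistProjSpace n k (-1) ⟶ Twist.twistProjSpace n k (-1)) :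
    ∃ e : k, f = Formal.smulModΓ (Twist.twistProjSpace n k (-1)) (Coh.toGlobal (CohB1.ProjSpace.toSpec n k) e) := by
  have key : ∀ M : (CohB1.ProjSpace n k).Modules, M = H10Coh.Pn.Od n k (-1) → ∀ f : M ⟶ M,
      ∃ e : k, f = Formal.smulModΓ M (Coh.toGlobal (CohB1.ProjSpace.toSpec n k) e) := by
    rintro M rfl f
    exact H02CA.Euler.exists_end_eq_smul f
  exact key _ (H17.PnExt.od_eq n k (-1)) f

open CategoryTheory CategoryTheory.Limits AlgebraicGeometry in
/-- Maps differing by an invertible scalar have isomorphic cokernels. -/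
theorem nonempty_iso_of_smul {X : Scheme.{u}} {L M : X.Modules} (a a' : L ⟶ M) (r r' : Coh.Γtop X)
    (h₁ : r' * r = 1) (h₂ : r * r' = 1)
    (h : (SheafOfModules.toSheaf X.ringCatSheaf).map a' =
      (SheafOfModules.toSheaf X.ringCatSheaf).map a ≫ Coh.smulAb M r) :
    Nonempty (cokernel a ≅ cokernel a') := by
  have h' : a' = a ≫ Formal.smulModΓ M r :=
    (SheafOfModules.toSheaf X.ringCatSheaf).map_injective
      (h.trans ((SheafOfModules.toSheaf X.ringCatSheaf).map_comp a (Formal.smulModΓ M r)).symm)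
  let s : M ≅ M := ⟨Formal.smulModΓ M r, Formal.smulModΓ M r',
    by rw [← H02CA.Euler.smulModΓ_mul, h₁, H02CA.Euler.smulModΓ_one],
    by rw [← H02CA.Euler.smulModΓ_mul, h₂, H02CA.Euler.smulModΓ_one]⟩
  exact ⟨cokernel.mapIso a a' (Iso.refl _) s (h'.symm.trans (Category.id_comp a').symm)⟩

open CategoryTheory CategoryTheory.Limits AlgebraicGeometry in
theorem iso_iff_proportional {k : Type u} [Field k] {n : ℕ} [QuasiSeparated (CohB1.ProjSpace.toSpec n k)]
    (a a' : Twist.twistProjSpace n k (-1) ⟶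
      CohB1.tensorMod (Omega.sheaf (CohB1.ProjSpace.toSpec n k)) (Twist.twistProjSpace n k 1))
    [Mono a] [Mono a'] {r : ℕ} (hr0 : r ≠ 0) (hE' : FlatMod.IsFinLocFreeOfRank r (cokernel a')) :
    Nonempty (cokernel a ≅ cokernel a') ↔
      ∃ c : k, c ≠ 0 ∧ (SheafOfModules.toSheaf (CohB1.ProjSpace n k).ringCatSheaf).map a' =
        (SheafOfModules.toSheaf (CohB1.ProjSpace n k).ringCatSheaf).map a ≫
          Coh.smulAb (CohB1.tensorMod (Omega.sheaf (CohB1.ProjSpace.toSpec n k)) (Twist.twistProjSpace n k 1))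
            (Coh.toGlobal (CohB1.ProjSpace.toSpec n k) c) := by
  let X := CohB1.ProjSpace n k
  let Ω1 := CohB1.tensorMod (Omega.sheaf (CohB1.ProjSpace.toSpec n k)) (Twist.twistProjSpace n k 1)
  let g := Coh.toGlobal (CohB1.ProjSpace.toSpec n k)
  haveI : IsIntegral X := LeadPic.PnRel.isIntegral_projSpace (n := n) k
  let T := SheafOfModules.toSheaf.{u} X.ringCatSheaf
  haveI := H19Grp.ProjPoint.lft_toSpec (K := k) n
  haveI : IsLocallyNoetherian X := LocallyOfFiniteType.isLocallyNoetherian (CohB1.ProjSpace.toSpec n k)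
  constructor
  · rintro ⟨φ⟩
    obtain ⟨c, hc⟩ := H02CA.VBPn.exists_scalar_hom_coker a' (cokernel.π a ≫ φ.hom)
    have hc0 : c ≠ 0 := by
      rintro rfl
      rw [map_zero, H02CA.Euler.smulModΓ_zero, zero_comp] at hc
      have hφ : φ.hom = 0 := (cancel_epi (cokernel.π a)).1 (hc.trans comp_zero.symm)
      have hz : IsZero (cokernel a') := (IsZero.iff_id_eq_zero _).2 (by rw [← φ.inv_hom_id, hφ, comp_zero])
      let y : X := genericPoint X
      obtain ⟨-, -, hr⟩ := H25Par.finrank_stalk hE' y
      haveI : Subsingleton ((cokernel a').presheaf.stalk y) :=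
        AddCommGrpCat.subsingleton_of_isZero
          ((Scheme.Modules.toPresheaf X ⋙ TopCat.Presheaf.stalkFunctor AddCommGrpCat.{u} y).map_isZero hz)
      rw [Module.finrank_zero_of_subsingleton] at hr
      omega
    have h0 : (a ≫ Formal.smulModΓ Ω1 (g c)) ≫ cokernel.π a' = 0 := by
      rw [Category.assoc, ← hc, cokernel.condition_assoc, zero_comp]
    have hS' : (ShortComplex.mk a' (cokernel.π a') (cokernel.condition a')).ShortExact :=
      { exact := ShortComplex.exact_cokernel _ }
    obtain ⟨e, he⟩ := exists_end_neg_one (hS'.exact.lift _ h0)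
    have hrel : Formal.smulModΓ _ (g e) ≫ a' = a ≫ Formal.smulModΓ Ω1 (g c) :=
      (congrArg (· ≫ a') he.symm).trans (hS'.exact.lift_f _ h0)
    rw [H02CA.Euler.smulModΓ_natural] at hrel
    have hinv : ∀ (M : X.Modules) (b : k), b ≠ 0 → Formal.smulModΓ M (g b) ≫ Formal.smulModΓ M (g b⁻¹) = 𝟙 M :=
      fun M b hb => by
        rw [← H02CA.Euler.smulModΓ_mul, ← map_mul, inv_mul_cancel₀ hb, map_one, H02CA.Euler.smulModΓ_one]
    have he0 : e ≠ 0 := by
      rintro rfl
      rw [map_zero, H02CA.Euler.smulModΓ_zero, comp_zero] at hrel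
      have ha : a = 0 := by
        rw [← Category.comp_id a, ← hinv Ω1 c hc0, ← Category.assoc, ← hrel, zero_comp]
      have hid : 𝟙 (Twist.twistProjSpace n k (-1)) = 0 := (cancel_mono a).1 (by simp [ha])
      have hz : IsZero (Twist.twistProjSpace n k (-1)) := (IsZero.iff_id_eq_zero _).2 hid
      have hT := H10Coh.Stab.isTwistFamily_projSpace n k
      obtain ⟨t⟩ := hT.add (-1) 1
      obtain ⟨z⟩ := hT.zero
      have hz' : IsZero (Coh.structureModule X) :=
        (Functor.map_isZero (H29RR.twist (Twist.twistProjSpace n k 1)) hz).of_iso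
          (t ≪≫ eqToIso (congrArg _ (neg_add_cancel (1 : ℤ))) ≪≫ z).symm
      haveI := H29RR.PnPic.nontrivial_structure (R := k) (n := n)
      haveI : Subsingleton Γ(Coh.structureModule X, ⊤) :=
        (subsingleton_of_forall_eq 0 fun v => by
          have h := congrArg (fun f : Coh.structureModule X ⟶ Coh.structureModule X => f.app ⊤ v) ((IsZero.iff_id_eq_zero _).1 hz')
          exact h)
      exact not_subsingleton _ ‹Subsingleton Γ(Coh.structureModule X, ⊤)›
    refine ⟨c * e⁻¹, mul_ne_zero hc0 (inv_ne_zero he0), ?_⟩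
    rw [← H02CA.Euler.toSheaf_smulModΓ, ← Functor.map_comp]
    refine congrArg _ ?_
    rw [mul_comm, map_mul, H02CA.Euler.smulModΓ_mul, ← Category.assoc, ← hrel, Category.assoc, hinv Ω1 e he0,
      Category.comp_id]
  · rintro ⟨c, hc, h⟩
    exact nonempty_iso_of_smul a a' (g c) (g c⁻¹) (by rw [← map_mul, inv_mul_cancel₀ hc, map_one])
      (by rw [← map_mul, mul_inv_cancel₀ hc, map_one]) h
open CategoryTheory CategoryTheory.Limits AlgebraicGeometry in
/-- Let k be an algebraically closed field of characteristic zero and a, a' : O(−1) → Ω^1 ⊗ O(1) two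
bundle monomorphisms of O-modules on P^3_k, i.e. monomorphisms whose cokernels E, E' are finite
locally free of rank 2 (null-correlation bundles up to duality). Then E ≅ E' if and only if a' = c·a
for a nonzero constant c ∈ k: the underlying map of abelian sheaves of a' equals that of a followed
by multiplication by c on Ω^1 ⊗ O(1). -/
theorem result (k : Type u) [Field k] [IsAlgClosed k] [CharZero k]
    (a a' : Twist.twistProjSpace 3 k (-1) ⟶
      CohB1.tensorMod (Omega.sheaf (CohB1.ProjSpace.toSpec 3 k)) (Twist.twistProjSpace 3 k 1))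
    [Mono a] [Mono a'] (hE : FlatMod.IsFinLocFreeOfRank 2 (cokernel a)) (hE' : FlatMod.IsFinLocFreeOfRank 2 (cokernel a')) :
    Nonempty (cokernel a ≅ cokernel a') ↔
      ∃ c : k, c ≠ 0 ∧ (SheafOfModules.toSheaf (CohB1.ProjSpace 3 k).ringCatSheaf).map a' =
        (SheafOfModules.toSheaf (CohB1.ProjSpace 3 k).ringCatSheaf).map a ≫
          Coh.smulAb (CohB1.tensorMod (Omega.sheaf (CohB1.ProjSpace.toSpec 3 k)) (Twist.twistProjSpace 3 k 1))
            (Coh.toGlobal (CohB1.ProjSpace.toSpec 3 k) c) := by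
  exact iso_iff_proportional a a' two_ne_zero hE'

end Groth.Agent.S11519
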