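import Groth.Statements.S11520
import Groth.Agent.H16Derived.Heart

set_option autoImplicit false
universe v u v' u'
open CategoryTheory CategoryTheory.Limits CategoryTheory.Pretriangulated CategoryTheory.Triangulated
open PervT

namespace Groth.Agent.S11520

/-- Let `C` be a triangulated category (octahedron axiom included) with a t-structure `t`, and let `H`
be an additive category identified with the heart of `t` (the objects that are both `≤ 0` and `≥ 0`)
through a fully faithful additive functor whose essential image is the heart. Then `H` is an abelian
category: there is an abelian category structure on `H` whose underlying additive structure is the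
given one. -/
theorem result {C : Type u} [Category.{v} C] [Preadditive C] [HasZeroObject C] [HasShift C ℤ] [∀ n : ℤ, (shiftFunctor C n).Additive] [Pretriangulated C] [IsTriangulated C] (t : TStructure C) {H : Type u'} [Category.{v'} H] [inst : Preadditive H] [t.Heart H] :
    ∃ a : Abelian H, @Abelian.toPreadditive H _ a = inst := by
  exact ⟨Groth.Agent.H16Derived.heartAbelian t H, rfl⟩

end Groth.Agent.S11520
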