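import Groth.Statements.S11521
import Groth.Agent.H16Derived.Heart

set_option autoImplicit false
universe v u v' u'
open CategoryTheory CategoryTheory.Limits CategoryTheory.Pretriangulated CategoryTheory.Triangulated
open PervT

namespace Groth.Agent.S11521

/-- Let `C` be a triangulated category (octahedron axiom included) with a t-structure `t`, and let `H`
be an abelian category identified with the heart of `t` through a fully faithful additive functor
`ι` whose essential image is the heart. For morphisms `u : X ⟶ Y` and `v : Y ⟶ Z` in `H`, the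
sequence `0 ⟶ X ⟶ Y ⟶ Z ⟶ 0` is a complex and is short exact if and only if there is a morphism `w :
ι Z ⟶ (ι X)⟦1⟧` such that `(ι u, ι v, w)` is a distinguished triangle of `C`. -/
theorem result {C : Type u} [Category.{v} C] [Preadditive C] [HasZeroObject C] [HasShift C ℤ] [∀ n : ℤ, (shiftFunctor C n).Additive] [Pretriangulated C] [IsTriangulated C] (t : TStructure C) {H : Type u'} [Category.{v'} H] [Abelian H] [t.Heart H] {X Y Z : H} (u : X ⟶ Y) (v : Y ⟶ Z) :
    (∃ huv : u ≫ v = 0, (ShortComplex.mk u v huv).ShortExact) ↔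
      ∃ (w : t.ιHeart.obj Z ⟶ (t.ιHeart.obj X)⟦(1 : ℤ)⟧),
        Triangle.mk (t.ιHeart.map u) (t.ιHeart.map v) w ∈ distTriang C := by
  have hι := Groth.Agent.H16Derived.heart_hom_shift_eq_zero t (H := H)
  have := Groth.Agent.H16Derived.heart_hasFiniteProducts t (H := H)
  constructor
  · rintro ⟨huv, hS⟩
    have := hS.epi_g
    obtain ⟨X', i, δ, hT⟩ := Triangulated.AbelianSubcategory.exists_distinguished_triangle_of_epi
      hι (Groth.Agent.H16Derived.heart_admissible t) v
    let e : X ≅ X' := IsLimit.conePointUniqueUpToIso hS.fIsKernel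
      (Triangulated.AbelianSubcategory.isLimitKernelForkOfDistTriang hι i v δ hT)
    have he : e.hom ≫ i = u := IsLimit.conePointUniqueUpToIso_hom_comp _ _ WalkingParallelPair.zero
    refine ⟨δ ≫ (t.ιHeart.map e.inv)⟦(1 : ℤ)⟧', isomorphic_distinguished _ hT _ ?_⟩
    refine Triangle.isoMk _ _ (t.ιHeart.mapIso e) (Iso.refl _) (Iso.refl _) ?_ ?_ ?_
    · change t.ιHeart.map u ≫ 𝟙 _ = t.ιHeart.map e.hom ≫ t.ιHeart.map i
      rw [Category.comp_id, ← Functor.map_comp, he]
    · exact (Category.comp_id (t.ιHeart.map v)).trans (Category.id_comp (t.ιHeart.map v)).symm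
    · change (δ ≫ (t.ιHeart.map e.inv)⟦(1 : ℤ)⟧') ≫ (t.ιHeart.map e.hom)⟦(1 : ℤ)⟧' = 𝟙 _ ≫ δ
      rw [Category.id_comp, Category.assoc, ← Functor.map_comp, ← Functor.map_comp, e.inv_hom_id,
        CategoryTheory.Functor.map_id, CategoryTheory.Functor.map_id, Category.comp_id]
  · rintro ⟨w, hT⟩
    have huv : u ≫ v = 0 := t.ιHeart.map_injective (by
      rw [Functor.map_comp, Functor.map_zero]; exact comp_distTriang_mor_zero₁₂ _ hT)
    have hk := Triangulated.AbelianSubcategory.isLimitKernelForkOfDistTriang hι u v w hT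
    have hc := Triangulated.AbelianSubcategory.isColimitCokernelCoforkOfDistTriang hι u v w hT
    refine ⟨huv, ?_⟩
    have : Mono u := Fork.IsLimit.mono hk
    have : Epi v := Cofork.IsColimit.epi hc
    exact { exact := ShortComplex.exact_of_f_is_kernel (ShortComplex.mk u v huv) hk }

end Groth.Agent.S11521
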