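import Groth.Statements.S11523
import Groth.Agent.H16Derived.SubLattice
import Mathlib.CategoryTheory.Abelian.Exact
import Mathlib.CategoryTheory.Subobject.ArtinianObject
import Mathlib.CategoryTheory.Subobject.NoetherianObject
import Mathlib.Algebra.Homology.ShortComplex.ExactFunctor

set_option autoImplicit false
universe v u v' u'
open CategoryTheory CategoryTheory.Limits
open PervT

namespace Groth.Agent.S11523

open CategoryTheory CategoryTheory.Limits

lemma exists_mem {A : Type u} [Category.{v} A] [Abelian A] {B : Type u'} [Category.{v'} B]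
    [Abelian B] (u : A ⥤ B) [u.Full] [u.Faithful] [PreservesFiniteLimits u]
    [PreservesFiniteColimits u] (X : A) (hart : IsArtinianObject X) (hnoe : IsNoetherianObject X)
    (hsimple : ∀ X : A, Simple X → Simple (u.obj X)) (U : Subobject X) :
    ∀ ⦃K : B⦄ (g : K ⟶ u.obj (U : A)) [Mono g], g ≠ 0 →
      ∃ (s : A) (h : s ⟶ (U : A)) (w : u.obj s ⟶ K), h ≠ 0 ∧ w ≫ g = u.map h := by
  have : u.Additive := Functor.additive_of_preserves_binary_products u
  have := hart
  have := hnoe
  induction U using WellFoundedLT.induction with
  | ind U ih =>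
    intro K g _ hg
    by_cases hU : U = ⊥
    · refine absurd ?_ hg
      subst hU
      have : u.obj ((⊥ : Subobject X) : A) ≅ u.obj (⊥_ A) := u.mapIso Subobject.botCoeIsoInitial
      exact ((u.map_isZero (IsZero.of_iso (IsInitial.isZero initialIsInitial)
        Subobject.botCoeIsoInitial))).eq_of_tgt _ _
    obtain ⟨U', hU'⟩ : ∃ U' : Subobject X, U' ⋖ U := by
      obtain ⟨M, hM, hMmax⟩ := (wellFounded_gt : WellFounded (α := Subobject X) (· > ·)).has_min
        {W | W < U} ⟨⊥, bot_lt_iff_ne_bot.2 hU⟩
      exact ⟨M, hM, fun c hc hcU => hMmax c hcU hc⟩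
    have hQ := Groth.Agent.H16Derived.SubLattice.simple_cokernel_of_covBy (U := U') (V := U) hU'
    let j := Subobject.ofLE U' U hU'.le
    have := hsimple _ hQ
    let k : K ⟶ u.obj (cokernel j) := g ≫ u.map (cokernel.π j)
    have hex : ((ShortComplex.mk j (cokernel.π j) (cokernel.condition _)).map u).Exact :=
      (ShortComplex.exact_cokernel j).map u
    have : Mono ((ShortComplex.mk j (cokernel.π j) (cokernel.condition _)).map u).f :=
      inferInstanceAs (Mono (u.map j))
    by_cases hk : Mono k
    · have hk0 : k ≠ 0 := fun h0 => hg (by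
        have : IsZero K := by
          rw [IsZero.iff_id_eq_zero, ← cancel_mono k, h0, comp_zero, comp_zero]
        exact this.eq_of_src _ _)
      have := isIso_of_mono_of_nonzero hk0
      refine ⟨cokernel j, u.preimage (inv k ≫ g), inv k, fun h0 => hk0 ?_, by simp⟩
      have h1 : inv k ≫ g = 0 := by rw [← u.map_preimage (inv k ≫ g), h0, u.map_zero]
      have h2 : g = 0 := by rw [← IsIso.hom_inv_id_assoc k g, h1, comp_zero]
      exact absurd h2 hg
    · have hne : kernel.ι k ≠ 0 := fun h0 => hk (Preadditive.mono_of_kernel_zero h0)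
      have hw : (kernel.ι k ≫ g) ≫ u.map (cokernel.π j) = 0 := by
        rw [Category.assoc]; exact kernel.condition k
      let g' : kernel k ⟶ u.obj (U' : A) := hex.lift (kernel.ι k ≫ g) hw
      have hg' : g' ≫ u.map j = kernel.ι k ≫ g := hex.lift_f (kernel.ι k ≫ g) hw
      have : Mono g' := mono_of_mono_fac hg'
      have hg0 : g' ≠ 0 := fun h0 => hne (by
        rw [← cancel_mono g, ← hg', h0, zero_comp, zero_comp])
      obtain ⟨s, h, w, hh, hw'⟩ := ih U' hU'.lt g' hg0
      refine ⟨s, h ≫ j, w ≫ kernel.ι k, fun h0 => hh ?_, ?_⟩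
      · rw [← cancel_mono j, h0, zero_comp]
      · rw [Category.assoc, ← hg', reassoc_of% hw', ← u.map_comp]

/-- Let `u : A ⥤ B` be a fully faithful exact functor of abelian categories admitting a left adjoint and
a right adjoint `uStar`. Suppose every object of `A` has finite length (it is both an artinian and a
noetherian object) and that `u` sends simple objects to simple objects. Then for every object `Y` of
`B` the counit `u (uStar Y) ⟶ Y` of the adjunction `u ⊣ uStar` is a monomorphism. (The published
statement also lists two further conditions equivalent to this one: that for every object `Y` of `B`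
the unit `Y ⟶ u (L Y)` of the adjunction `L ⊣ u` of the left adjoint `L` is an epimorphism, and that
the essential image of `u` is stable under subobjects and quotients; this row states only the counit
condition.) -/
theorem result {A : Type u} [Category.{v} A] [Abelian A] {B : Type u'} [Category.{v'} B] [Abelian B]
    (u : A ⥤ B) [u.Full] [u.Faithful] [PreservesFiniteLimits u] [PreservesFiniteColimits u] [u.IsRightAdjoint]
    (uStar : B ⥤ A) (adj : u ⊣ uStar)
    (hlen : ∀ X : A, IsArtinianObject X ∧ IsNoetherianObject X)
    (hsimple : ∀ X : A, Simple X → Simple (u.obj X)) (Y : B) :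
    Mono (adj.counit.app Y) := by
  have : u.Additive := Functor.additive_of_preserves_binary_products u
  refine Preadditive.mono_of_kernel_zero ?_
  by_contra hne
  let X := uStar.obj Y
  have hne' : kernel.ι (adj.counit.app Y) ≫ u.map (inv (⊤ : Subobject X).arrow) ≠ 0 := fun h0 =>
    hne (by rw [← cancel_mono (u.map (inv (⊤ : Subobject X).arrow)), h0, zero_comp])
  obtain ⟨s, h, w, hh, hw⟩ := exists_mem u X (hlen X).1 (hlen X).2 hsimple ⊤
    (kernel.ι (adj.counit.app Y) ≫ u.map (inv (⊤ : Subobject X).arrow)) hne'
  have h1 : u.map (h ≫ (⊤ : Subobject X).arrow) = w ≫ kernel.ι (adj.counit.app Y) := by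
    rw [u.map_comp, ← hw, Category.assoc, Category.assoc, ← u.map_comp, IsIso.inv_hom_id,
      CategoryTheory.Functor.map_id]
    erw [Category.comp_id]
  have h2 : u.map (h ≫ (⊤ : Subobject X).arrow) ≫ adj.counit.app Y = 0 := by
    rw [h1, Category.assoc, kernel.condition, comp_zero]
  have h3 : (adj.homEquiv s Y).symm (h ≫ (⊤ : Subobject X).arrow) =
      (adj.homEquiv s Y).symm 0 := by
    rw [Adjunction.homEquiv_counit, Adjunction.homEquiv_counit, h2, u.map_zero, zero_comp]
  have h4 := (adj.homEquiv s Y).symm.injective h3
  exact hh (by rw [← cancel_mono (⊤ : Subobject X).arrow, h4, zero_comp])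

end Groth.Agent.S11523
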