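import Groth.Statements.S1153
import Groth.Agent.H17.Separated
import Groth.Agent.H17.Reduced
import Groth.Agent.H18Descent.Basic

set_option autoImplicit false
open CategoryTheory CategoryTheory.Limits AlgebraicGeometry Opposite
universe u
open Desc

namespace Groth.Agent.S1153

/-- Let f : X ⟶ Y be locally of finite type, Z a closed subset of X and g : Y' ⟶ Y quasi-compact, flat
and surjective. If the preimage of Z in X ×_Y Y' is proper over Y', then Z is proper over Y. -/
theorem result {X Y Y' : Scheme.{u}} (f : X ⟶ Y) [LocallyOfFiniteType f] (Z : Set X) (hZ : IsClosed Z)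
    (g : Y' ⟶ Y) [QuasiCompact g] [Flat g] [Surjective g]
    (h : ClSub.IsProperOver (pullback.snd f g) ((pullback.fst f g).base ⁻¹' Z)) :
    ClSub.IsProperOver f Z := by
  obtain ⟨hZ', hprop⟩ := h
  refine ⟨hZ, ?_⟩
  set I := Scheme.IdealSheafData.vanishingIdeal ⟨Z, hZ⟩
  set q := I.subschemeι ≫ f with hq
  let i' : pullback q g ⟶ pullback f g :=
    pullback.map q g f g I.subschemeι (𝟙 _) (𝟙 _) (by simp [hq]) (by simp)
  have hpb : IsPullback (pullback.fst q g) i' I.subschemeι (pullback.fst f g) := by
    refine IsPullback.of_bot ?_ (pullback.lift_fst _ _ _).symm (IsPullback.of_hasPullback f g)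
    have : i' ≫ pullback.snd f g = pullback.snd q g :=
      (pullback.lift_snd _ _ _).trans (Category.comp_id _)
    rw [this, ← hq]
    exact IsPullback.of_hasPullback q g
  haveI : IsClosedImmersion i' := MorphismProperty.of_isPullback (P := @IsClosedImmersion) hpb inferInstance
  have hrange : Set.range i' = (pullback.fst f g).base ⁻¹' Z := by
    rw [← hpb.isoPullback_hom_snd, Scheme.Hom.comp_base, TopCat.coe_comp, Set.range_comp,
      hpb.isoPullback.hom.surjective.range_eq, Set.image_univ, Scheme.Pullback.range_snd,
      Groth.Agent.H17.range_vanishingIdeal_subschemeι]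
    rfl
  set Z' : TopologicalSpace.Closeds (pullback f g : Scheme.{u}) := ⟨_, hZ'⟩ with hZ'def
  set iW := (Scheme.IdealSheafData.vanishingIdeal Z').subschemeι with hiW
  have hle : i'.ker ≤ iW.ker := by
    rw [hiW, Scheme.IdealSheafData.ker_subschemeι, ← Scheme.IdealSheafData.le_support_iff_le_vanishingIdeal]
    intro x hx
    have : x ∈ Set.range i' := hrange ▸ hx
    exact i'.range_subset_ker_support this
  let w := IsClosedImmersion.lift i' iW hle
  have hw : w ≫ i' = iW := IsClosedImmersion.lift_fac _ _ _
  haveI : IsClosedImmersion (w ≫ i') := hw ▸ inferInstance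
  haveI : IsClosedImmersion w := IsClosedImmersion.of_comp w i'
  haveI : Surjective w := by
    refine ⟨fun p => ?_⟩
    have : i' p ∈ Set.range iW := by
      rw [Groth.Agent.H17.range_vanishingIdeal_subschemeι]
      exact hrange.le ⟨p, rfl⟩
    obtain ⟨t, ht⟩ := this
    exact ⟨t, i'.isClosedEmbedding.injective (by rw [← Scheme.Hom.comp_apply, hw, ht])⟩
  have hsnd : pullback.snd q g = i' ≫ pullback.snd f g :=
    ((pullback.lift_snd _ _ _).trans (Category.comp_id _)).symm
  haveI : IsProper (w ≫ pullback.snd q g) := by
    rw [hsnd, ← Category.assoc, hw]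
    exact hprop
  haveI : UniversallyClosed (pullback.snd q g) := UniversallyClosed.of_comp_surjective w _
  haveI : IsSeparated (pullback.snd q g) := Groth.Agent.H17.isSeparated_of_surjective_universallyClosed w _
  haveI : LocallyOfFiniteType (pullback.snd q g) := by rw [hsnd]; infer_instance
  have hP : IsProper (pullback.snd q g) := ⟨⟩
  exact MorphismProperty.of_isPullback_of_descendsAlong (P := @IsProper) (Q := Groth.Agent.H18Descent.fpqc.{u})
    (IsPullback.of_hasPullback q g).flip ⟨⟨inferInstance, inferInstance⟩, inferInstance⟩ hP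

end Groth.Agent.S1153
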