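import Groth.Statements.S11533
import Groth.Agent.H24Val.CLocFlat
import Mathlib.Algebra.DirectSum.Module

set_option autoImplicit false
universe u
open AdicRing

namespace Groth.Agent.S11533

/-- Let R be a base ring of class (N) or (V) for the ideal I, A an R-algebra topologically of finite
type and f_1, ..., f_r elements of A generating the unit ideal. Then every complete localization
A⟨f_i⁻¹⟩ is flat over A, and the product of the A⟨f_i⁻¹⟩ is faithfully flat over A. -/
theorem result
    (R : Type u) [CommRing R] (I : Ideal R) (hR : AdicRing.IsBase R I)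
    (A : Type u) [CommRing A] [Algebra R A] (hA : AdicRing.TopFiniteType R I A)
    (r : ℕ) (f : Fin r → A) (hf : Ideal.span (Set.range f) = ⊤) :
    (∀ i, Module.Flat A (AdicRing.CLoc I (f i))) ∧
      Module.FaithfullyFlat A (∀ i, AdicRing.CLoc I (f i)) := by
  classical
  have hI := Groth.Agent.H24Val.fg_of_isBase hR
  haveI hfl : ∀ i, Module.Flat A (CLoc I (f i)) := fun i => Groth.Agent.H24Val.flat_cLoc hR hA (f i)
  refine ⟨hfl, ?_⟩
  haveI : Module.Flat A (∀ i, CLoc I (f i)) :=
    Module.Flat.of_linearEquiv (DirectSum.linearEquivFunOnFintype A (Fin r) (fun i => CLoc I (f i))).symm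
  refine { submodule_ne_top := fun P hP hPtop => ?_ }
  obtain ⟨i, hi⟩ : ∃ i, f i ∉ P := by
    by_contra h
    push Not at h
    exact hP.ne_top (top_le_iff.mp (hf ▸ Ideal.span_le.mpr (by rintro _ ⟨j, rfl⟩; exact h j)))
  haveI : IsAdicComplete (I.map (algebraMap R A)) A :=
    (IsAdicComplete.map_algebraMap_iff _ _).2
      (Groth.Agent.H24Val.isAdicComplete_topFinite (A := A) (M := A) hR hA)
  have hIP : I.map (algebraMap R A) ≤ P :=
    (IsAdicComplete.le_jacobson_bot _).trans (sInf_le ⟨bot_le, hP⟩)
  letI := Ideal.Quotient.field P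
  have hu : IsUnit (Ideal.Quotient.mk P (f i)) :=
    isUnit_iff_ne_zero.mpr fun h => hi (Ideal.Quotient.eq_zero_iff_mem.mp h)
  let θ₀ : Localization.Away (f i) →+* A ⧸ P := IsLocalization.Away.lift (f i) hu
  let θ : CLoc I (f i) →+* A ⧸ P :=
    (Ideal.Quotient.lift (I.map (algebraMap R (Localization.Away (f i)))) θ₀ (fun x hx => by
      have h2 : I.map (algebraMap R (Localization.Away (f i))) ≤ RingHom.ker θ₀ := by
        rw [IsScalarTower.algebraMap_eq R A (Localization.Away (f i)), ← Ideal.map_map, Ideal.map_le_iff_le_comap]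
        intro a ha
        rw [Ideal.mem_comap, RingHom.mem_ker]
        rw [show θ₀ (algebraMap A _ a) = Ideal.Quotient.mk P a from IsLocalization.Away.lift_eq _ hu a]
        exact Ideal.Quotient.eq_zero_iff_mem.mpr (hIP ha)
      exact h2 hx)).comp (AdicCompletion.evalOneₐ _).toRingHom
  have hθ : ∀ a : A, θ (algebraMap A (CLoc I (f i)) a) = Ideal.Quotient.mk P a := fun a =>
    IsLocalization.Away.lift_eq _ hu a
  have h1 : (Function.update (0 : ∀ j, CLoc I (f j)) i 1) ∈ P • (⊤ : Submodule A (∀ j, CLoc I (f j))) :=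
    hPtop.symm ▸ Submodule.mem_top
  have key : ∀ z ∈ P • (⊤ : Submodule A (∀ j, CLoc I (f j))), θ (z i) = 0 := fun z hz => by
    refine Submodule.smul_induction_on hz (fun a ha b _ => ?_) fun a b ha hb => ?_
    · rw [Pi.smul_apply, Algebra.smul_def, map_mul, hθ, Ideal.Quotient.eq_zero_iff_mem.mpr ha, zero_mul]
    · rw [Pi.add_apply, map_add, ha, hb, add_zero]
  have h2 := key _ h1
  rw [Function.update_self, map_one] at h2
  exact one_ne_zero h2

end Groth.Agent.S11533
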