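import Groth.Statements.S11536
import Groth.Agent.H24Val.TruncFP
import Groth.Agent.S11533
import Mathlib.LinearAlgebra.TensorProduct.Pi

set_option autoImplicit false
set_option linter.style.haveILetI false
universe u
open AdicRing

namespace Groth.Agent.S11536

/-- Let R be a base ring of class (N) or (V) for the ideal I, A an R-algebra which is complete and
separated for the I-adic topology, and f_1, ..., f_r elements generating the unit ideal of A. Then A
is admissible over R if and only if each complete localization A⟨f_i⁻¹⟩ is. -/
theorem result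
    (R : Type u) [CommRing R] (I : Ideal R) (hR : AdicRing.IsBase R I)
    (A : Type u) [CommRing A] [Algebra R A] [IsAdicComplete (I.map (algebraMap R A)) A]
    (r : ℕ) (f : Fin r → A) (hf : Ideal.span (Set.range f) = ⊤) :
    AdicRing.Admissible R I A ↔ ∀ i, AdicRing.Admissible R I (AdicRing.CLoc I (f i)) := by
  classical
  have hI := Groth.Agent.H24Val.fg_of_isBase hR
  have key := Groth.Agent.H24Val.topFinitePresentation_iff_cLoc (A := A) hR hf
  constructor
  · rintro ⟨hP, hT⟩ i
    refine ⟨key.mp hP i, ?_⟩
    have hA : TopFiniteType R I A := by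
      obtain ⟨l, ψ, hψ, -⟩ := hP
      exact ⟨l, ψ, hψ⟩
    haveI := Groth.Agent.H24Val.flat_cLoc hR hA (f i)
    intro x n hx
    obtain ⟨l, b, hb⟩ := Submodule.fg_iff_exists_fin_generating_family.mp (Submodule.FG.pow hI n)
    let L : A →ₗ[A] (Fin l → A) := LinearMap.pi fun q => LinearMap.mulLeft A (algebraMap R A (b q))
    have hL : Function.Injective L := (injective_iff_map_eq_zero L).mpr fun a ha => hT a n fun r hr => by
      rw [← hb] at hr
      induction hr using Submodule.span_induction with
      | mem r hr =>
        obtain ⟨q, rfl⟩ := hr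
        rw [Algebra.smul_def]
        exact congrFun ha q
      | zero => rw [zero_smul]
      | add u v _ _ hu hv => rw [add_smul, hu, hv, add_zero]
      | smul c u _ hu => rw [smul_assoc, hu, smul_zero]
    have h1 : L.lTensor (CLoc I (f i)) (TensorProduct.tmul A x 1) = 0 := by
      refine (TensorProduct.piScalarRight A A (CLoc I (f i)) (Fin l)).injective (funext fun q => ?_)
      rw [LinearMap.lTensor_tmul, map_zero, Pi.zero_apply]
      change (algebraMap R A (b q) * 1) • x = 0
      rw [mul_one, algebraMap_smul]
      exact hx (b q) (hb ▸ Submodule.subset_span ⟨q, rfl⟩)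
    have h2 := (injective_iff_map_eq_zero _).mp
      (Module.Flat.lTensor_preserves_injective_linearMap (M := CLoc I (f i)) L hL) _ h1
    have h3 := congrArg (TensorProduct.rid A (CLoc I (f i))) h2
    rwa [TensorProduct.rid_tmul, one_smul, map_zero] at h3
  · intro h
    have hP := key.mpr fun i => (h i).1
    refine ⟨hP, fun x n hx => ?_⟩
    have hA : TopFiniteType R I A := by
      obtain ⟨l, ψ, hψ, -⟩ := hP
      exact ⟨l, ψ, hψ⟩
    haveI : ∀ i, Module.Flat A (CLoc I (f i)) := fun i => Groth.Agent.H24Val.flat_cLoc hR hA (f i)
    haveI := (Groth.Agent.S11533.result R I hR A hA r f hf).2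
    have hinj := FaithfulSMul.algebraMap_injective A (∀ i, CLoc I (f i))
    refine hinj ?_
    rw [map_zero]
    funext i
    refine (h i).2 _ n fun a ha => ?_
    rw [Pi.algebraMap_apply, Algebra.smul_def, IsScalarTower.algebraMap_apply R A (CLoc I (f i)), ← map_mul,
      ← Algebra.smul_def, hx a ha, map_zero]

end Groth.Agent.S11536
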