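import Groth.Statements.S11540
import Groth.Agent.H24Val.PolyCompletion
import Mathlib.LinearAlgebra.TensorProduct.Pi
import Mathlib.RingTheory.Localization.Away.Basic

set_option autoImplicit false
set_option linter.style.haveILetI false
set_option maxHeartbeats 1000000
universe u
open AdicRing

namespace Groth.Agent.S11540

/-- Let R be a base ring of class (N) or (V) for the ideal I, A an admissible R-algebra and f_0, ...,
f_r elements of A generating an open ideal, i.e. one containing I^k A for some k. Fix i and let C_i
be the I-adic completion of the chart algebra A[ζ_j ; j ≠ i]/(f_i ζ_j − f_j ; j ≠ i). Then the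
I-power torsion of C_i coincides with its f_i-power torsion. (That f_i-power torsion is I-power
torsion is elementary; the content is the converse.) -/
theorem result
    (R : Type u) [CommRing R] (I : Ideal R) (hR : AdicRing.IsBase R I)
    (A : Type u) [CommRing A] [Algebra R A] (hA : AdicRing.Admissible R I A)
    (r : ℕ) (f : Fin (r + 1) → A) (k : ℕ)
    (hopen : (I ^ k).map (algebraMap R A) ≤ Ideal.span (Set.range f)) (i : Fin (r + 1))
    (x : AdicRing.chartCompl I f i) :
    (∃ n : ℕ, ∀ a ∈ I ^ n, a • x = 0) ↔
      ∃ n : ℕ, algebraMap A (AdicRing.chartCompl I f i) (f i) ^ n * x = 0 := by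
  classical
  have hI : I.FG := Groth.Agent.H24Val.fg_of_isBase hR
  obtain ⟨⟨nA, φA, hφA, hkA⟩, hT⟩ := hA
  let C' := chartAlg f i
  let fi : chartCompl I f i := algebraMap A (chartCompl I f i) (f i)
  have hcomm : ∀ a : R, algebraMap R (chartCompl I f i) a =
      algebraMap C' (chartCompl I f i) (algebraMap A C' (algebraMap R A a)) := fun a => by
    rw [← IsScalarTower.algebraMap_apply R A C', ← IsScalarTower.algebraMap_apply R C' (chartCompl I f i)]
  have hrel : ∀ j : {j // j ≠ i}, algebraMap A C' (f i) * Ideal.Quotient.mk _ (MvPolynomial.X j) =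
      algebraMap A C' (f j.1) := fun j => by
    rw [show ∀ a : A, algebraMap A C' a = Ideal.Quotient.mk _ (MvPolynomial.C a) from fun a => rfl,
      show ∀ a : A, algebraMap A C' a = Ideal.Quotient.mk _ (MvPolynomial.C a) from fun a => rfl,
      ← map_mul, Ideal.Quotient.eq]
    exact Ideal.subset_span ⟨j, rfl⟩
  constructor
  · rintro ⟨n, hn⟩
    haveI : Module.Flat C' (chartCompl I f i) :=
      (Groth.Agent.H24Val.completion_finiteType hR ⟨nA, φA, hφA⟩ C').1
    obtain ⟨l, b, hb⟩ := Submodule.fg_iff_exists_fin_generating_family.mp (Submodule.FG.pow hI n)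
    have hbm : ∀ q, b q ∈ I ^ n := fun q => hb ▸ Submodule.subset_span ⟨q, rfl⟩
    let L : C' →ₗ[C'] (Fin l → C') :=
      LinearMap.pi fun q => LinearMap.mulLeft C' (algebraMap R C' (b q))
    have hex := Module.Flat.lTensor_exact (chartCompl I f i) (LinearMap.exact_subtype_ker_map L)
    have hx0 : L.lTensor (chartCompl I f i) (TensorProduct.tmul C' x 1) = 0 := by
      refine (TensorProduct.piScalarRight C' C' (chartCompl I f i) (Fin l)).injective (funext fun q => ?_)
      rw [LinearMap.lTensor_tmul, map_zero, Pi.zero_apply]
      change (algebraMap R C' (b q) * 1) • x = 0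
      rw [mul_one, algebraMap_smul]
      exact hn (b q) (hbm q)
    obtain ⟨w, hw⟩ := (hex _).mp hx0
    have hκ : ∀ κ : LinearMap.ker L, ∃ m : ℕ, algebraMap A C' (f i) ^ m * (κ : C') = 0 := by
      rintro ⟨κ, hκ⟩
      have hgen : ∀ y : C', ∃ (M : ℕ) (a : A), algebraMap A C' (f i) ^ M * y = algebraMap A C' a := by
        intro y
        obtain ⟨p, rfl⟩ := Ideal.Quotient.mk_surjective y
        induction p using MvPolynomial.induction_on with
        | C a => exact ⟨0, a, by rw [pow_zero, one_mul]; rfl⟩
        | add p q hp hq =>
          obtain ⟨M, a, ha⟩ := hp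
          obtain ⟨M', a', ha'⟩ := hq
          refine ⟨M + M', f i ^ M' * a + f i ^ M * a', ?_⟩
          rw [map_add, map_add, map_mul, map_mul, map_pow, map_pow, ← ha, ← ha', mul_add, pow_add]
          ring
        | mul_X p j hp =>
          obtain ⟨M, a, ha⟩ := hp
          refine ⟨M + 1, a * f j.1, ?_⟩
          rw [map_mul, map_mul, ← ha, ← hrel j, pow_succ]
          ring
      obtain ⟨M, a, ha⟩ := hgen κ
      let ρ : C' →ₐ[A] Localization.Away (f i) := Ideal.Quotient.liftₐ _
        (MvPolynomial.aeval fun j => algebraMap A _ (f j.1) * IsLocalization.Away.invSelf (f i))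
        (fun y hy => by
          induction hy using Submodule.span_induction with
          | mem y hy =>
            obtain ⟨j, rfl⟩ := hy
            rw [map_sub, map_mul, MvPolynomial.aeval_C, MvPolynomial.aeval_C, MvPolynomial.aeval_X,
              mul_left_comm, IsLocalization.Away.mul_invSelf, mul_one, sub_self]
          | zero => rw [map_zero]
          | add y z _ _ hy hz => rw [map_add, hy, hz, add_zero]
          | smul c y _ hy => rw [smul_eq_mul, map_mul, hy, mul_zero])
      have hq : ∀ q, ∃ p : ℕ, f i ^ p * (algebraMap R A (b q) * a) = 0 := by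
        intro q
        have h1 : algebraMap A C' (algebraMap R A (b q) * a) = 0 := by
          rw [map_mul, ← ha, ← IsScalarTower.algebraMap_apply R A C', mul_left_comm,
            show algebraMap R C' (b q) * κ = 0 from congrFun (LinearMap.mem_ker.mp hκ) q, mul_zero]
        have h2 := congrArg ρ h1
        rw [AlgHom.commutes, map_zero, IsLocalization.map_eq_zero_iff (Submonoid.powers (f i))] at h2
        obtain ⟨⟨_, p, rfl⟩, hp⟩ := h2
        exact ⟨p, hp⟩
      choose p hp using hq
      let P := Finset.univ.sup p
      have h3 : f i ^ P * a = 0 := hT _ n fun r hr => by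
        rw [← hb] at hr
        induction hr using Submodule.span_induction with
        | mem r hr =>
          obtain ⟨q, rfl⟩ := hr
          obtain ⟨d, hd⟩ := Nat.exists_eq_add_of_le (Finset.le_sup (f := p) (Finset.mem_univ q))
          rw [Algebra.smul_def, mul_left_comm, show P = p q + d from hd, pow_add, mul_comm (f i ^ p q),
            mul_assoc, hp q, mul_zero]
        | zero => rw [zero_smul]
        | add u v _ _ hu hv => rw [add_smul, hu, hv, add_zero]
        | smul c u _ hu => rw [smul_assoc, hu, smul_zero]
      refine ⟨P + M, ?_⟩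
      rw [pow_add, mul_assoc, ha, ← map_pow, ← map_mul, h3, map_zero]
    have key : ∀ w : TensorProduct C' (chartCompl I f i) (LinearMap.ker L), ∃ m : ℕ,
        fi ^ m * (TensorProduct.rid C' (chartCompl I f i) ((LinearMap.ker L).subtype.lTensor _ w)) = 0 := by
      intro w
      induction w using TensorProduct.induction_on with
      | zero => exact ⟨0, by simp⟩
      | tmul c κ =>
        obtain ⟨m, hm⟩ := hκ κ
        refine ⟨m, ?_⟩
        rw [LinearMap.lTensor_tmul, TensorProduct.rid_tmul, Submodule.subtype_apply,
          show (κ : C') • c = algebraMap C' (chartCompl I f i) (κ : C') * c from by rw [Algebra.algebraMap_eq_smul_one, smul_mul_assoc, one_mul],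
          ← mul_assoc, show fi = algebraMap C' (chartCompl I f i) (algebraMap A C' (f i)) from
            IsScalarTower.algebraMap_apply A C' (chartCompl I f i) (f i), ← map_pow, ← map_mul, hm,
          map_zero, zero_mul]
      | add u v hu hv =>
        obtain ⟨m, hm⟩ := hu
        obtain ⟨m', hm'⟩ := hv
        refine ⟨m + m', ?_⟩
        rw [map_add, map_add, mul_add, pow_add]
        simp only [mul_assoc, hm', mul_zero, mul_left_comm (fi ^ m) (fi ^ m'), hm, add_zero]
    obtain ⟨m, hm⟩ := key w
    refine ⟨m, ?_⟩
    rwa [hw, TensorProduct.rid_tmul, one_smul] at hm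
  · rintro ⟨n, hn⟩
    refine ⟨k * n, fun a ha => ?_⟩
    have h1 : (I ^ k).map (algebraMap R (chartCompl I f i)) ≤ Ideal.span {fi} := by
      refine le_trans (le_of_eq ?_) ((Ideal.map_mono hopen (f := algebraMap A (chartCompl I f i))).trans ?_)
      · rw [Ideal.map_map]
        congr 1
      · rw [Ideal.map_span, Ideal.span_le]
        rintro _ ⟨_, ⟨j, rfl⟩, rfl⟩
        rw [SetLike.mem_coe, Ideal.mem_span_singleton]
        by_cases hj : j = i
        · subst hj; exact dvd_rfl
        · refine ⟨algebraMap C' (chartCompl I f i) (Ideal.Quotient.mk _ (MvPolynomial.X ⟨j, hj⟩)), ?_⟩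
          simp only [fi]
          rw [IsScalarTower.algebraMap_apply A C' (chartCompl I f i),
            IsScalarTower.algebraMap_apply A C' (chartCompl I f i) (f i), ← map_mul, hrel]
    have h2 : algebraMap R (chartCompl I f i) a ∈ Ideal.span {fi} ^ n := by
      have h := Ideal.mem_map_of_mem (algebraMap R (chartCompl I f i)) ha
      rw [pow_mul, Ideal.map_pow] at h
      exact Ideal.pow_right_mono h1 n h
    rw [Ideal.span_singleton_pow, Ideal.mem_span_singleton'] at h2
    obtain ⟨c, hc⟩ := h2
    rw [Algebra.smul_def, ← hc, mul_assoc, hn, mul_zero]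

end Groth.Agent.S11540
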