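import Groth.Statements.S11542
import Groth.Agent.H24Adic.CompletionMap
import Groth.Agent.H24Adic.Basic
import Mathlib.RingTheory.Jacobson.Ring
import Mathlib.FieldTheory.Minpoly.Field
import Mathlib.RingTheory.AdicCompletion.LocalRing
import Mathlib.Algebra.Polynomial.Inductions

set_option autoImplicit false
universe u
open AdicRing

namespace Groth.Agent.S11542

set_option maxHeartbeats 1000000 in
/-- Let R be a complete valuation ring of height one with t a nonzero element generating an ideal of
definition, A and B admissible R-algebras with B a local integral domain of Krull dimension one, f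
an element of A and u a surjective R-algebra homomorphism from the complete localization A⟨f⁻¹⟩ onto
B. Then the composite of u with the canonical map A → A⟨f⁻¹⟩ is surjective. -/
theorem result
    (R : Type u) [CommRing R] [IsDomain R] [ValuationRing R] [Ring.KrullDimLE 1 R]
    (t : R) (ht : t ≠ 0) [IsAdicComplete (Ideal.span {t}) R]
    (A : Type u) [CommRing A] [Algebra R A] (hA : AdicRing.Admissible R (Ideal.span {t}) A) (f : A)
    (B : Type u) [CommRing B] [Algebra R B] [IsDomain B] [IsLocalRing B]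
    (hB : AdicRing.Admissible R (Ideal.span {t}) B) (hdim : ringKrullDim B = 1)
    (u : AdicRing.CLoc (Ideal.span {t}) f →ₐ[R] B) (hu : Function.Surjective u) :
    Function.Surjective
      (u.toRingHom.comp (algebraMap A (AdicRing.CLoc (Ideal.span {t}) f))) := by
  classical
  set v : A →+* B := u.toRingHom.comp (algebraMap A (AdicRing.CLoc (Ideal.span {t}) f)) with hv
  set tB : B := algebraMap R B t with htB
  obtain ⟨n, φB, hφB, -⟩ := hB.1
  obtain ⟨nA, φA, hφA, -⟩ := hA.1
  -- `t` is a nonzero element of the maximal ideal of `B`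
  have htmem : tB ∈ IsLocalRing.maximalIdeal B := by
    rw [IsLocalRing.mem_maximalIdeal]
    intro hu'
    obtain ⟨c, hc⟩ := isUnit_iff_exists_inv.mp hu'
    obtain ⟨s, hs⟩ := hφB c
    have hfg : ((Ideal.span {t}).map (MvPolynomial.C : R →+* MvPolynomial (Fin n) R)).FG :=
      Ideal.FG.map (show (Ideal.span {t}).FG from Submodule.fg_span_singleton t) _
    haveI := AdicCompletion.isAdicComplete_self _ hfg
    have hj : algebraMap R (AdicRing.RPow R (Ideal.span {t}) n) t ∈
        (⊥ : Ideal (AdicRing.RPow R (Ideal.span {t}) n)).jacobson := by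
      refine IsAdicComplete.le_jacobson_bot (((Ideal.span {t}).map (MvPolynomial.C : R →+* MvPolynomial (Fin n) R)).map
        (algebraMap (MvPolynomial (Fin n) R) (AdicRing.RPow R (Ideal.span {t}) n))) ?_
      exact Ideal.mem_map_of_mem _ (Ideal.mem_map_of_mem _ (Ideal.mem_span_singleton_self t))
    have h1 := (Ideal.mem_jacobson_bot.mp hj (-s)).map φB
    rw [map_add, map_mul, map_neg, hs, φB.commutes, map_one, mul_neg, hc, neg_add_cancel] at h1
    exact not_isUnit_zero h1
  have ht0 : tB ≠ 0 := by
    intro h0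
    refine one_ne_zero (hB.2 (1 : B) 1 fun a ha => ?_)
    rw [pow_one, Ideal.mem_span_singleton'] at ha
    obtain ⟨b, rfl⟩ := ha
    rw [Algebra.smul_def, mul_one, map_mul, ← htB, h0, mul_zero]
  haveI : Ring.KrullDimLE 1 B := Ring.krullDimLE_iff.mpr hdim.le
  have hprime : ∀ P : Ideal B, P.IsPrime → P ≠ ⊥ → P = IsLocalRing.maximalIdeal B := fun P hP hP0 =>
    IsLocalRing.eq_maximalIdeal ((Ring.krullDimLE_one_iff_of_noZeroDivisors.mp inferInstance) P hP0 hP)
  have hrad : ∀ x : B, x ≠ 0 → ∀ y ∈ IsLocalRing.maximalIdeal B, y ∈ (Ideal.span {x}).radical := by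
    intro x hx y hy
    rw [Ideal.radical_eq_sInf, Submodule.mem_sInf]
    rintro P ⟨hle, hP⟩
    rw [hprime P hP fun h => hx (by
      have := hle (Ideal.mem_span_singleton_self x)
      rwa [h, Ideal.mem_bot] at this)]
    exact hy
  haveI : IsHausdorff ((Ideal.span {algebraMap R A t}).map v) B := by
    refine ⟨fun x hx => ?_⟩
    by_contra hx0
    obtain ⟨N, hN⟩ := hrad x hx0 tB htmem
    have h1 := hx (N + 1)
    have hvt : v (algebraMap R A t) = tB := by
      rw [hv, RingHom.comp_apply, ← IsScalarTower.algebraMap_apply R A]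
      exact u.commutes t
    rw [SModEq.sub_mem, sub_zero, smul_eq_mul, Ideal.mul_top, Ideal.map_span, Set.image_singleton,
      hvt, Ideal.span_singleton_pow, Ideal.mem_span_singleton'] at h1
    obtain ⟨e, he⟩ := h1
    rw [Ideal.mem_span_singleton'] at hN
    obtain ⟨d, hd⟩ := hN
    rw [← he, pow_succ] at hd
    have hd' : tB ^ N * (1 - d * e * tB) = 0 := by linear_combination -hd
    have hu1 : IsUnit (1 - d * e * tB) := by
      refine IsLocalRing.notMem_maximalIdeal.mp fun hm => ?_
      have h2 := add_mem hm (Ideal.mul_mem_left _ (d * e) htmem)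
      rw [sub_add_cancel] at h2
      exact (IsLocalRing.maximalIdeal.isMaximal B).ne_top ((Ideal.eq_top_iff_one _).mpr h2)
    exact ht0 (pow_eq_zero_iff'.mp (hu1.mul_left_eq_zero.mp hd')).1
  haveI : IsPrecomplete (Ideal.span {algebraMap R A t}) A := by
    letI : Algebra (AdicRing.RPow R (Ideal.span {t}) nA) A := φA.toRingHom.toAlgebra
    haveI : Module.Finite (AdicRing.RPow R (Ideal.span {t}) nA) A :=
      Module.Finite.of_surjective (Algebra.linearMap _ A) hφA
    have hfg : ((Ideal.span {t}).map (MvPolynomial.C : R →+* MvPolynomial (Fin nA) R)).FG :=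
      Ideal.FG.map (show (Ideal.span {t}).FG from Submodule.fg_span_singleton t) _
    haveI := AdicCompletion.isAdicComplete_self _ hfg
    have hJ := Groth.Agent.H24Adic.isPrecomplete_of_finite (((Ideal.span {t}).map (MvPolynomial.C : R →+* MvPolynomial (Fin nA) R)).map
      (algebraMap (MvPolynomial (Fin nA) R) (AdicRing.RPow R (Ideal.span {t}) nA))) (M := A)
    have hJ' := (IsPrecomplete.map_algebraMap_iff (S := A) (M := A)).mpr hJ
    have e : algebraMap (AdicRing.RPow R (Ideal.span {t}) nA) A
        (algebraMap (MvPolynomial (Fin nA) R) (AdicRing.RPow R (Ideal.span {t}) nA) (MvPolynomial.C t)) =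
          algebraMap R A t := φA.commutes t
    have heq : (((Ideal.span {t}).map (MvPolynomial.C : R →+* MvPolynomial (Fin nA) R)).map
      (algebraMap (MvPolynomial (Fin nA) R) (AdicRing.RPow R (Ideal.span {t}) nA))).map
      (algebraMap (AdicRing.RPow R (Ideal.span {t}) nA) A) = Ideal.span {algebraMap R A t} := by
      rw [Ideal.map_map, Ideal.map_map, Ideal.map_span, Set.image_singleton]
      exact congrArg (fun z => Ideal.span {z}) e
    rwa [heq] at hJ'
  -- the inverse of `f` modulo `t`
  have hfu : IsUnit (v f) := by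
    rw [hv, RingHom.comp_apply, IsScalarTower.algebraMap_apply A (Localization.Away f)]
    exact ((IsLocalization.Away.algebraMap_isUnit f).map _).map u.toRingHom
  have hCdense : ∀ (w : AdicRing.CLoc (Ideal.span {t}) f), ∃ p : Localization.Away f,
      u w - u (algebraMap _ _ p) ∈ Ideal.span {tB} := by
    intro w
    obtain ⟨p, hp⟩ := Groth.Agent.H24Adic.exists_sub_of_mem (Ideal.FG.map (show (Ideal.span {t}).FG from Submodule.fg_span_singleton t)
      (algebraMap R (Localization.Away f))) 1 w
    refine ⟨p, ?_⟩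
    rw [pow_one] at hp
    have h1 := Ideal.mem_map_of_mem u.toRingHom hp
    rw [Ideal.map_map, Ideal.map_map, Ideal.map_span, Set.image_singleton] at h1
    have e : (u.toRingHom.comp (algebraMap (Localization.Away f) (AdicRing.CLoc (Ideal.span {t}) f))).comp
        (algebraMap R (Localization.Away f)) = algebraMap R B :=
      RingHom.ext fun r => u.commutes r
    rw [RingHom.comp_apply, ← RingHom.comp_apply _ (algebraMap R (Localization.Away f))] at h1
    rw [e, ← htB] at h1
    change u (w - algebraMap _ _ p) ∈ _ at h1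
    rwa [map_sub] at h1
  -- the residue field of `B` is finite over that of `R`
  let m := IsLocalRing.maximalIdeal B
  let k₀ : Ideal R := m.comap (algebraMap R B)
  haveI hk₀ : k₀.IsMaximal := by
    refine (Ring.krullDimLE_one_iff_of_noZeroDivisors.mp (inferInstance : Ring.KrullDimLE 1 R)) k₀ ?_ inferInstance
    exact fun h => ht (Ideal.mem_bot.mp (h ▸ (Ideal.mem_comap.mpr htmem : t ∈ k₀)))
  letI := Ideal.Quotient.field k₀
  letI := Ideal.Quotient.field m
  letI : Algebra (R ⧸ k₀) (B ⧸ m) := (Ideal.quotientMap m (algebraMap R B) le_rfl).toAlgebra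
  let θ : MvPolynomial (Fin n) R →ₐ[R] B ⧸ m :=
    (Ideal.Quotient.mkₐ R m).comp (φB.comp (IsScalarTower.toAlgHom R (MvPolynomial (Fin n) R) _))
  haveI : IsScalarTower R (R ⧸ k₀) (B ⧸ m) := IsScalarTower.of_algebraMap_eq fun r => rfl
  haveI : Algebra.FiniteType R (B ⧸ m) := by
    refine Algebra.FiniteType.of_surjective θ fun z => ?_
    obtain ⟨b, rfl⟩ := Ideal.Quotient.mk_surjective z
    obtain ⟨x, rfl⟩ := hφB b
    obtain ⟨p, hp⟩ := Groth.Agent.H24Adic.exists_sub_of_mem (Ideal.FG.map (show (Ideal.span {t}).FG from Submodule.fg_span_singleton t)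
      (MvPolynomial.C : R →+* MvPolynomial (Fin n) R)) 1 x
    refine ⟨p, (Ideal.Quotient.eq.mpr ?_).symm⟩
    rw [pow_one] at hp
    have h1 := Ideal.mem_map_of_mem φB.toRingHom hp
    rw [Ideal.map_map, Ideal.map_map, Ideal.map_span, Set.image_singleton] at h1
    have h2 : Ideal.span {tB} ≤ m := (Ideal.span_singleton_le_iff_mem _).mpr htmem
    have e : (φB.toRingHom.comp (algebraMap (MvPolynomial (Fin n) R) (AdicRing.RPow R (Ideal.span {t}) n))).comp
        MvPolynomial.C t = tB := φB.commutes t
    rw [e] at h1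
    have h3 := h2 h1
    change φB (x - algebraMap _ _ p) ∈ m at h3
    rwa [map_sub] at h3
  haveI : Algebra.FiniteType (R ⧸ k₀) (B ⧸ m) := Algebra.FiniteType.of_restrictScalars_finiteType R _ _
  haveI := finite_of_finite_type_of_isJacobsonRing (R ⧸ k₀) (B ⧸ m)
  set g0 : B ⧸ m := Ideal.Quotient.mk m (v f)
  have hg0 : g0 ≠ 0 := (hfu.map (Ideal.Quotient.mk m)).ne_zero
  have hint : IsIntegral (R ⧸ k₀) g0 := Algebra.IsIntegral.isIntegral g0
  obtain ⟨p, hp⟩ := Polynomial.map_surjective (Ideal.Quotient.mk k₀) Ideal.Quotient.mk_surjective (minpoly (R ⧸ k₀) g0)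
  have hc : IsUnit (algebraMap R B (p.coeff 0)) := by
    refine IsLocalRing.notMem_maximalIdeal.mp fun hm => minpoly.coeff_zero_ne_zero hint hg0 ?_
    rw [← hp, Polynomial.coeff_map]
    exact Ideal.Quotient.eq_zero_iff_mem.mpr hm
  have hpm : Polynomial.aeval (v f) p ∈ m := by
    rw [← Ideal.Quotient.eq_zero_iff_mem, ← Ideal.Quotient.mkₐ_eq_mk R, ← Polynomial.aeval_algHom_apply,
      ← Polynomial.aeval_map_algebraMap (R ⧸ k₀)]
    change Polynomial.aeval g0 (p.map (Ideal.Quotient.mk k₀)) = 0
    rw [hp, minpoly.aeval]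
  obtain ⟨N, hN⟩ := hrad tB ht0 _ hpm
  have hc' : IsUnit (algebraMap R B ((p ^ N).coeff 0)) := by
    rw [Polynomial.coeff_zero_eq_eval_zero, Polynomial.eval_pow, ← Polynomial.coeff_zero_eq_eval_zero, map_pow]
    exact hc.pow N
  haveI hRl : IsLocalRing R := inferInstance
  have hcR : IsUnit ((p ^ N).coeff 0) := by
    refine IsLocalRing.notMem_maximalIdeal.mp fun hm => ?_
    rw [← IsLocalRing.eq_maximalIdeal hk₀] at hm
    exact (IsLocalRing.mem_maximalIdeal _).mp hm hc'
  obtain ⟨c, hcc⟩ := isUnit_iff_exists_inv.mp hcR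
  have hvR : ∀ r, v (algebraMap R A r) = algebraMap R B r := fun r => by
    rw [hv, RingHom.comp_apply, ← IsScalarTower.algebraMap_apply R A]
    exact u.commutes r
  let vA : A →ₐ[R] B := { v with commutes' := hvR }
  obtain ⟨g, hg⟩ : ∃ g : A, v f * v g - 1 ∈ Ideal.span {tB} := by
    refine ⟨-(algebraMap R A c * Polynomial.aeval f (p ^ N).divX), ?_⟩
    rw [map_neg, map_mul v, hvR, show v (Polynomial.aeval f (p ^ N).divX) = Polynomial.aeval (v f) (p ^ N).divX from
      (Polynomial.aeval_algHom_apply vA f _).symm]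
    have h1 := congrArg (Polynomial.aeval (v f)) (Polynomial.X_mul_divX_add (p ^ N))
    rw [map_add, map_mul, Polynomial.aeval_X, Polynomial.aeval_C] at h1
    have h2 : algebraMap R B ((p ^ N).coeff 0) * algebraMap R B c = 1 := by rw [← map_mul, hcc, map_one]
    rw [← map_pow, ← h1] at hN
    have h3 := Ideal.mul_mem_left _ (-algebraMap R B c) hN
    convert h3 using 1
    linear_combination h2
  refine surjective_of_mk_map_comp_surjective (I := Ideal.span {algebraMap R A t}) v fun z => ?_
  obtain ⟨b, rfl⟩ := Ideal.Quotient.mk_surjective z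
  obtain ⟨w, rfl⟩ := hu b
  obtain ⟨q, hq⟩ := hCdense w
  obtain ⟨⟨a, ⟨_, j, rfl⟩⟩, hj⟩ := IsLocalization.surj (Submonoid.powers f) q
  refine ⟨a * g ^ j, ?_⟩
  rw [RingHom.comp_apply, Ideal.Quotient.eq, Ideal.map_span, Set.image_singleton, hvR, ← htB]
  have hj' : u (algebraMap _ _ q) * v f ^ j = v a := by
    have h := congrArg (fun y => u (algebraMap (Localization.Away f) (AdicRing.CLoc (Ideal.span {t}) f) y)) hj
    simp only [map_mul] at h
    rw [← IsScalarTower.algebraMap_apply, ← IsScalarTower.algebraMap_apply, map_pow, map_pow] at h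
    exact h
  rw [map_mul, map_pow, ← hj']
  have h4 : (v f * v g) ^ j - 1 ^ j ∈ Ideal.span {tB} := Ideal.mem_of_dvd _ (sub_dvd_pow_sub_pow (v f * v g) 1 j) hg
  have h5 := sub_mem (Ideal.mul_mem_left _ (u (algebraMap _ _ q)) h4) hq
  convert h5 using 1
  ring

end Groth.Agent.S11542
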