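import Groth.Statements.S11543
import Groth.Agent.H24Val.Points
import Mathlib.RingTheory.Localization.BaseChange
import Mathlib.RingTheory.Localization.Ideal

set_option autoImplicit false
set_option linter.style.haveILetI false
universe u
open scoped TensorProduct
open AdicRing

namespace Groth.Agent.S11543

/-- Let R be a complete valuation ring of height one with t a nonzero element generating an ideal of
definition and K its field of fractions, and let A be an admissible R-algebra. Then the non-open
prime ideals p of A (those not containing t) with A/p of Krull dimension one correspond bijectively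
to the maximal ideals of A ⊗_R K: the extension of such a p along A → A ⊗_R K is maximal and
contracts back to p, and every maximal ideal of A ⊗_R K contracts to such a prime and is the
extension of its contraction. -/
theorem result
    (R : Type u) [CommRing R] [IsDomain R] [ValuationRing R] [Ring.KrullDimLE 1 R]
    (t : R) (ht : t ≠ 0) [IsAdicComplete (Ideal.span {t}) R]
    (A : Type u) [CommRing A] [Algebra R A] (hA : AdicRing.Admissible R (Ideal.span {t}) A) :
    (∀ p : Ideal A, p.IsPrime → algebraMap R A t ∉ p → ringKrullDim (A ⧸ p) = 1 →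
        (p.map (Algebra.TensorProduct.includeLeftRingHom :
          A →+* A ⊗[R] FractionRing R)).IsMaximal ∧
        (p.map (Algebra.TensorProduct.includeLeftRingHom :
          A →+* A ⊗[R] FractionRing R)).comap (Algebra.TensorProduct.includeLeftRingHom :
          A →+* A ⊗[R] FractionRing R) = p) ∧
      (∀ m : Ideal (A ⊗[R] FractionRing R), m.IsMaximal →
        algebraMap R A t ∉ m.comap (Algebra.TensorProduct.includeLeftRingHom :
            A →+* A ⊗[R] FractionRing R) ∧
          ringKrullDim (A ⧸ m.comap (Algebra.TensorProduct.includeLeftRingHom :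
            A →+* A ⊗[R] FractionRing R)) = 1 ∧
          (m.comap (Algebra.TensorProduct.includeLeftRingHom :
            A →+* A ⊗[R] FractionRing R)).map (Algebra.TensorProduct.includeLeftRingHom :
            A →+* A ⊗[R] FractionRing R) = m) := by
  haveI : IsLocalRing R := Groth.Agent.H24Val.isLocalRing_of_pre R
  have hbase : IsBase R (Ideal.span {t}) :=
    ⟨‹_›, Or.inr ⟨‹_›, inferInstance, ‹_›, t, ht, rfl⟩⟩
  have hAft : TopFiniteType R (Ideal.span {t}) A := by
    obtain ⟨n, ψ, hψ, -⟩ := hA.1
    exact ⟨n, ψ, hψ⟩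
  let f : A →+* A ⊗[R] FractionRing R := Algebra.TensorProduct.includeLeftRingHom
  haveI : IsLocalization (Submonoid.powers t) (FractionRing R) := by
    refine (IsLocalization.iff_of_le_of_exists_dvd (M := Submonoid.powers t) (S := FractionRing R) (nonZeroDivisors R) ?_ ?_).mpr
      inferInstance
    · rw [Submonoid.powers_le]
      exact mem_nonZeroDivisors_of_ne_zero ht
    · intro n hn
      obtain ⟨N, hN⟩ := Groth.Agent.H24Val.exists_pow_dvd (nonZeroDivisors.ne_zero hn)
        (Groth.Agent.H24Val.t_mem_maximalIdeal (R := R) (t := t))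
      exact ⟨t ^ N, ⟨N, rfl⟩, hN⟩
  haveI hloc : IsLocalization (Algebra.algebraMapSubmonoid A (Submonoid.powers t)) (A ⊗[R] FractionRing R) :=
    inferInstance
  let S := Algebra.algebraMapSubmonoid A (Submonoid.powers t)
  have hdisj : ∀ p : Ideal A, p.IsPrime → algebraMap R A t ∉ p → Disjoint (S : Set A) p := by
    intro p hp htp
    rw [Set.disjoint_left]
    rintro x ⟨y, ⟨k, rfl⟩, rfl⟩ hx
    exact htp (hp.mem_of_pow_mem k (by rw [← map_pow]; exact hx))
  haveI : IsAdicComplete ((Ideal.span {t}).map (algebraMap R A)) A :=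
    (IsAdicComplete.map_algebraMap_iff _ _).2
      (Groth.Agent.H24Val.isAdicComplete_topFinite (A := A) (M := A) hbase hAft)
  constructor
  · intro p hp htp hdim
    have hPp : (p.map f).comap f = p :=
      IsLocalization.under_map_of_isPrime_disjoint S (A ⊗[R] FractionRing R) hp (hdisj p hp htp)
    have hP : (p.map f).IsPrime :=
      IsLocalization.isPrime_of_isPrime_disjoint S (A ⊗[R] FractionRing R) p hp (hdisj p hp htp)
    refine ⟨?_, hPp⟩
    obtain ⟨Q, hQ, hle⟩ := Ideal.exists_le_maximal _ hP.ne_top
    have hq := (IsLocalization.isPrime_iff_isPrime_disjoint S (A ⊗[R] FractionRing R) Q).mp hQ.isPrime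
    have hpq : p ≤ Q.comap f := hPp ▸ Ideal.comap_mono hle
    by_cases heq : p = Q.comap f
    · have hQP : p.map f = Q := (congrArg (Ideal.map f) heq).trans (IsLocalization.map_under S (A ⊗[R] FractionRing R) Q)
      exact hQP.symm ▸ hQ
    exfalso
    haveI : (Q.comap f).IsPrime := hq.1
    haveI : Ring.KrullDimLE 1 (A ⧸ p) := Ring.krullDimLE_iff.mpr hdim.le
    have hker : RingHom.ker (Ideal.Quotient.mk p) ≤ Q.comap f := by rwa [Ideal.mk_ker]
    haveI hprime := Ideal.map_isPrime_of_surjective Ideal.Quotient.mk_surjective hker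
    have hne : (Q.comap f).map (Ideal.Quotient.mk p) ≠ ⊥ := fun h => heq <| le_antisymm hpq fun x hx => by
      rw [← Ideal.Quotient.eq_zero_iff_mem, ← Ideal.mem_bot, ← h]
      exact Ideal.mem_map_of_mem _ hx
    haveI : p.IsPrime := hp
    have hmax := (Ring.krullDimLE_one_iff_of_noZeroDivisors.mp
      (inferInstance : Ring.KrullDimLE 1 (A ⧸ p))) _ hne hprime
    haveI := hmax
    have hqmax : (Q.comap f).IsMaximal := by
      have h1 := Ideal.comap_isMaximal_of_surjective (Ideal.Quotient.mk p) Ideal.Quotient.mk_surjective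
        (K := (Q.comap f).map (Ideal.Quotient.mk p))
      rwa [Ideal.comap_map_of_surjective _ Ideal.Quotient.mk_surjective, ← RingHom.ker_eq_comap_bot,
        Ideal.mk_ker, sup_of_le_left hpq] at h1
    have htq : algebraMap R A t ∈ Q.comap f :=
      (sInf_le ⟨bot_le, hqmax⟩ : (⊥ : Ideal A).jacobson ≤ Q.comap f)
        (IsAdicComplete.le_jacobson_bot _ (Ideal.mem_map_of_mem _ (Ideal.mem_span_singleton_self t)))
    exact Set.disjoint_left.mp hq.2 ⟨t, ⟨1, pow_one t⟩, rfl⟩ htq
  · intro m hm
    have hq := (IsLocalization.isPrime_iff_isPrime_disjoint S (A ⊗[R] FractionRing R) m).mp hm.isPrime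
    have htp : algebraMap R A t ∉ m.comap f := fun h =>
      Set.disjoint_left.mp hq.2 ⟨t, ⟨1, pow_one t⟩, rfl⟩ h
    refine ⟨htp, ?_, IsLocalization.map_under S (A ⊗[R] FractionRing R) m⟩
    haveI : (m.comap f).IsPrime := hq.1
    have hBft : TopFiniteType R (Ideal.span {t}) (A ⧸ m.comap f) := by
      obtain ⟨n, ψ, hψ⟩ := hAft
      exact ⟨n, (Ideal.Quotient.mkₐ R _).comp ψ, Ideal.Quotient.mk_surjective.comp hψ⟩
    have htB : algebraMap R (A ⧸ m.comap f) t ≠ 0 := fun h =>
      htp (Ideal.Quotient.eq_zero_iff_mem.mp h)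
    have hT : NoPowTorsion (Ideal.span {t}) (A ⧸ m.comap f) := fun x k hx => by
      have h := hx (t ^ k) (by rw [Ideal.span_singleton_pow]; exact Ideal.mem_span_singleton_self _)
      rw [Algebra.smul_def, map_pow] at h
      exact (mul_eq_zero.mp h).resolve_left (pow_ne_zero _ htB)
    haveI : Module.Finite R (A ⧸ m.comap f) := by
      refine Groth.Agent.H24Val.finite_of_localization_field ht hBft hT fun b hb => ?_
      obtain ⟨a, rfl⟩ := Ideal.Quotient.mk_surjective b
      have ha : f a ∉ m := fun h => hb (Ideal.Quotient.eq_zero_iff_mem.mpr h)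
      obtain ⟨y, i, hi, hy⟩ := hm.exists_inv ha
      obtain ⟨c, ⟨_, _, ⟨N, rfl⟩, rfl⟩, rfl⟩ := IsLocalization.exists_mk'_eq S y
      refine ⟨N, Ideal.Quotient.mk _ c, ?_⟩
      rw [← map_mul, show algebraMap R (A ⧸ m.comap f) t ^ N =
        Ideal.Quotient.mk (m.comap f) (algebraMap R A (t ^ N)) from (map_pow _ _ _).symm, Ideal.Quotient.eq]
      change f (a * c - algebraMap R A (t ^ N)) ∈ m
      have hmul : ∀ z, f (algebraMap R A (t ^ N)) * z ∈ m → z ∈ m := fun z hz =>
        (hm.isPrime.mem_or_mem hz).resolve_left fun h => hm.ne_top (Ideal.eq_top_of_isUnit_mem _ h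
          (IsLocalization.map_units (A ⊗[R] FractionRing R) (⟨_, t ^ N, ⟨N, rfl⟩, rfl⟩ : S)))
      have h2 := IsLocalization.mk'_spec' (A ⊗[R] FractionRing R) c (⟨_, t ^ N, ⟨N, rfl⟩, rfl⟩ : S)
      change f (algebraMap R A (t ^ N)) * _ = f c at h2
      rw [map_sub, map_mul, ← h2]
      have h3 := m.mul_mem_left (f (algebraMap R A (t ^ N))) hi
      rw [eq_sub_of_add_eq' hy, ← neg_mem_iff] at h3
      convert h3 using 1
      ring
    exact Groth.Agent.H24Val.ringKrullDim_eq_one_of_isIntegral
      (Groth.Agent.H24Val.injective_algebraMap (R := R) (t := t) hT) (Groth.Agent.H24Val.not_isField_base ht)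

end Groth.Agent.S11543
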