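import Groth.Statements.S11544
import Groth.Agent.H24Val.DimOne
import Mathlib.RingTheory.Norm.Basic
import Mathlib.FieldTheory.IntermediateField.Adjoin.Basic
import Mathlib.RingTheory.Bezout
import Mathlib.Algebra.GCDMonoid.IntegrallyClosed
import Mathlib.RingTheory.Valuation.ValuationRing

set_option autoImplicit false
universe u
open AdicRing

namespace Groth.Agent.S11544

/-- Let R be a complete valuation ring of height one with t a nonzero element generating an ideal of
definition, K its field of fractions, L an algebraic extension field of K and α an element of L.
Then α is integral over R if and only if the norm of α from K(α) down to K lies in R. -/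
theorem result
    (R : Type u) [CommRing R] [IsDomain R] [ValuationRing R] [Ring.KrullDimLE 1 R]
    (t : R) (ht : t ≠ 0) [IsAdicComplete (Ideal.span {t}) R]
    (L : Type u) [Field L] [Algebra R L] [Algebra (FractionRing R) L]
    [IsScalarTower R (FractionRing R) L] [Algebra.IsAlgebraic (FractionRing R) L] (α : L) :
    IsIntegral R α ↔
      Algebra.norm (FractionRing R) (IntermediateField.AdjoinSimple.gen (FractionRing R) α) ∈
        (algebraMap R (FractionRing R)).range := by
  have hα : IsIntegral (FractionRing R) α := Algebra.IsIntegral.isIntegral α
  let pb := IntermediateField.adjoin.powerBasis hα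
  have hnorm : Algebra.norm (FractionRing R) (IntermediateField.AdjoinSimple.gen (FractionRing R) α) =
      (-1) ^ pb.dim * (minpoly (FractionRing R) α).coeff 0 := by
    have h := Algebra.PowerBasis.norm_gen_eq_coeff_zero_minpoly pb
    rw [IntermediateField.adjoin.powerBasis_gen] at h
    rw [h, IntermediateField.minpoly_gen]
  rw [hnorm]
  have hu : ((-1 : FractionRing R) ^ pb.dim) ∈ (algebraMap R (FractionRing R)).range := ⟨(-1) ^ pb.dim, by simp⟩
  constructor
  · intro hint
    refine mul_mem hu ?_
    rw [minpoly.isIntegrallyClosed_eq_field_fractions' (FractionRing R) hint, Polynomial.coeff_map]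
    exact ⟨_, rfl⟩
  · intro h
    refine Groth.Agent.H24Val.isIntegral_of_coeff_zero (t := t) ht hα ?_
    have h2 := mul_mem hu h
    rwa [← mul_assoc, ← mul_pow, neg_one_mul, neg_neg, one_pow, one_mul] at h2

end Groth.Agent.S11544
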