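import Groth.Statements.S11545
import Groth.Agent.H24Adic.CompletionMap

set_option autoImplicit false
universe u
open AdicRing

namespace Groth.Agent.S11545

/-- Let R be a base ring of class (N) or (V) for the ideal I, A an admissible R-algebra, f_0, ..., f_r
elements generating an open ideal 𝔞 of A, and A_i = C_i/(f_i-power torsion) the i-th chart algebra
of the formal blowing-up of 𝔞. Let B be an R-algebra complete and separated for the I-adic topology
and φ : A → B an R-algebra homomorphism such that the ideal 𝔞B is generated by φ(f_i), a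
non-zero-divisor of B. Then there is exactly one R-algebra homomorphism A_i → B whose composite with
A → A_i is φ. -/
theorem result
    (R : Type u) [CommRing R] (I : Ideal R) (hR : AdicRing.IsBase R I)
    (A : Type u) [CommRing A] [Algebra R A] (hA : AdicRing.Admissible R I A)
    (r : ℕ) (f : Fin (r + 1) → A) (k : ℕ)
    (hopen : (I ^ k).map (algebraMap R A) ≤ Ideal.span (Set.range f)) (i : Fin (r + 1))
    (B : Type u) [CommRing B] [Algebra R B] [IsAdicComplete (I.map (algebraMap R B)) B]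
    (φ : A →ₐ[R] B) (hnzd : φ (f i) ∈ nonZeroDivisors B)
    (hgen : (Ideal.span (Set.range f)).map φ = Ideal.span {φ (f i)}) :
    ∃! ψ : AdicRing.chartAdm I f i →ₐ[R] B,
      ψ.comp (IsScalarTower.toAlgHom R A (AdicRing.chartAdm I f i)) = φ := by
  classical
  have hIfg : I.FG := by
    rcases hR.2 with ⟨hN, -⟩ | ⟨-, -, -, t, -, rfl⟩
    · exact IsNoetherian.noetherian I
    · exact Submodule.fg_span_singleton t
  have hfg : (I.map (algebraMap R (AdicRing.chartAlg f i))).FG := hIfg.map _
  have hb : ∀ j : {j : Fin (r + 1) // j ≠ i}, ∃ b : B, b * φ (f i) = φ (f j.1) := fun j =>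
    Ideal.mem_span_singleton'.mp (hgen ▸ Ideal.mem_map_of_mem φ (Ideal.subset_span ⟨j.1, rfl⟩))
  choose b hb using hb
  let g₀ : MvPolynomial {j : Fin (r + 1) // j ≠ i} A →+* B := MvPolynomial.eval₂Hom φ.toRingHom b
  have hg₀ : ∀ x ∈ Ideal.span (Set.range fun j : {j : Fin (r + 1) // j ≠ i} =>
      MvPolynomial.C (f i) * MvPolynomial.X j - MvPolynomial.C (f j.1)), g₀ x = 0 := by
    intro x hx
    refine RingHom.mem_ker.mp ((Ideal.span_le.mpr fun y hy => ?_ : _ ≤ RingHom.ker g₀) hx)
    obtain ⟨j, rfl⟩ := hy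
    rw [SetLike.mem_coe, RingHom.mem_ker, map_sub, map_mul, sub_eq_zero]
    simp only [g₀, MvPolynomial.eval₂Hom_C, MvPolynomial.eval₂Hom_X']
    rw [mul_comm]
    exact hb j
  let g : AdicRing.chartAlg f i →ₐ[R] B :=
    { Ideal.Quotient.lift _ g₀ hg₀ with
      commutes' := fun a => by
        change Ideal.Quotient.lift _ g₀ hg₀ (Ideal.Quotient.mk _ (MvPolynomial.C (algebraMap R A a))) = algebraMap R B a
        rw [Ideal.Quotient.lift_mk]
        exact (MvPolynomial.eval₂Hom_C _ _ _).trans (φ.commutes a) }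
  have hgA : ∀ a, g (algebraMap A (AdicRing.chartAlg f i) a) = φ a := fun a => MvPolynomial.eval₂Hom_C _ _ a
  obtain ⟨ψ₀, hψ₀⟩ := Groth.Agent.H24Adic.exists_algHom I g
  have hψA : ∀ a, ψ₀ (algebraMap A (AdicRing.chartCompl I f i) a) = φ a := fun a => by
    rw [IsScalarTower.algebraMap_apply A (AdicRing.chartAlg f i) (AdicRing.chartCompl I f i), hψ₀, hgA]
  have htors : (⨆ n : ℕ, Submodule.torsionBy (AdicRing.chartCompl I f i) (AdicRing.chartCompl I f i)
      (algebraMap A (AdicRing.chartCompl I f i) (f i) ^ n) : Ideal (AdicRing.chartCompl I f i)) ≤ RingHom.ker ψ₀ := by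
    refine iSup_le fun n x hx => ?_
    rw [Submodule.mem_torsionBy_iff, smul_eq_mul] at hx
    have h := congrArg ψ₀ hx
    rw [map_mul, map_pow, hψA, map_zero] at h
    exact RingHom.mem_ker.mpr (((pow_mem hnzd n).1 _ h))
  refine ⟨Ideal.Quotient.liftₐ _ ψ₀ (fun x hx => htors hx), AlgHom.ext fun a => hψA a, fun ψ hψ => ?_⟩
  refine AlgHom.ext fun x => ?_
  obtain ⟨x, rfl⟩ := Ideal.Quotient.mk_surjective x
  have hψ' : ∀ a, ψ (Ideal.Quotient.mk _ (algebraMap A (AdicRing.chartCompl I f i) a)) = φ a :=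
    fun a => congrArg (fun t : A →ₐ[R] B => t a) hψ
  have key : ψ.comp (Ideal.Quotient.mkₐ R _) = ψ₀ := by
    refine Groth.Agent.H24Adic.algHom_ext I hfg fun p => ?_
    obtain ⟨p, rfl⟩ := Ideal.Quotient.mk_surjective p
    rw [hψ₀]
    let h₁ : MvPolynomial {j : Fin (r + 1) // j ≠ i} A →+* B :=
      ((ψ.comp (Ideal.Quotient.mkₐ R _)).toRingHom.comp
        (algebraMap (AdicRing.chartAlg f i) (AdicRing.chartCompl I f i))).comp (Ideal.Quotient.mk _)
    change h₁ p = g₀ p
    refine congrArg (fun t : MvPolynomial {j : Fin (r + 1) // j ≠ i} A →+* B => t p)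
      (MvPolynomial.ringHom_ext (f := h₁) (g := g₀) (fun a => ?_) fun j => ?_)
    · rw [show g₀ (MvPolynomial.C a) = φ a from MvPolynomial.eval₂Hom_C _ _ a, ← hψ' a]
      rfl
    · have hrel : Ideal.Quotient.mk (Ideal.span (Set.range fun j : {j : Fin (r + 1) // j ≠ i} =>
          MvPolynomial.C (f i) * MvPolynomial.X j - MvPolynomial.C (f j.1)))
          (MvPolynomial.C (f i) * MvPolynomial.X j) = Ideal.Quotient.mk _ (MvPolynomial.C (f j.1)) :=
        Ideal.Quotient.eq.mpr (Ideal.subset_span ⟨j, rfl⟩)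
      have h := congrArg ((ψ.comp (Ideal.Quotient.mkₐ R _)).toRingHom.comp
        (algebraMap (AdicRing.chartAlg f i) (AdicRing.chartCompl I f i))) hrel
      change h₁ (MvPolynomial.C (f i) * MvPolynomial.X j) = h₁ (MvPolynomial.C (f j.1)) at h
      have hC : ∀ a, h₁ (MvPolynomial.C a) = φ a := fun a => hψ' a
      rw [map_mul, hC, hC, ← hb j, mul_comm] at h
      rw [show g₀ (MvPolynomial.X j) = b j from MvPolynomial.eval₂Hom_X' _ _ j]
      refine sub_eq_zero.mp (hnzd.2 _ ?_)
      rw [sub_mul, sub_eq_zero]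
      exact h
  exact congrArg (fun t : AdicRing.chartCompl I f i →ₐ[R] B => t x) key

end Groth.Agent.S11545
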