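import Groth.Statements.S11547
import Groth.Agent.H24Val.Points

set_option autoImplicit false
set_option linter.style.haveILetI false
universe u
open AdicRing

namespace Groth.Agent.S11547

/-- Let R be a complete valuation ring of height one with t a nonzero element generating an ideal of
definition, φ : A → A' a homomorphism of admissible R-algebras, and u' : A' → B' a surjective
R-algebra homomorphism onto an admissible R-algebra B' which is a local integral domain of Krull
dimension one. Then the image of A in B' is an admissible R-algebra and a local integral domain of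
Krull dimension one. -/
theorem result
    (R : Type u) [CommRing R] [IsDomain R] [ValuationRing R] [Ring.KrullDimLE 1 R]
    (t : R) (ht : t ≠ 0) [IsAdicComplete (Ideal.span {t}) R]
    (A : Type u) [CommRing A] [Algebra R A] (hA : AdicRing.Admissible R (Ideal.span {t}) A)
    (A' : Type u) [CommRing A'] [Algebra R A'] (hA' : AdicRing.Admissible R (Ideal.span {t}) A')
    (φ : A →ₐ[R] A')
    (B' : Type u) [CommRing B'] [Algebra R B'] [IsDomain B'] [IsLocalRing B']
    (hB' : AdicRing.Admissible R (Ideal.span {t}) B') (hdim : ringKrullDim B' = 1)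
    (u' : A' →ₐ[R] B') (hu' : Function.Surjective u') :
    AdicRing.Admissible R (Ideal.span {t}) ((u'.comp φ).range) ∧
      IsLocalRing ((u'.comp φ).range) ∧ ringKrullDim ((u'.comp φ).range) = 1 := by
  haveI : IsLocalRing R := Groth.Agent.H24Val.isLocalRing_of_pre R
  have hbase : IsBase R (Ideal.span {t}) :=
    ⟨‹_›, Or.inr ⟨‹_›, inferInstance, ‹_›, t, ht, rfl⟩⟩
  have hBft : TopFiniteType R (Ideal.span {t}) B' := by
    obtain ⟨n, ψ, hψ, -⟩ := hB'.1
    exact ⟨n, ψ, hψ⟩
  haveI : Module.Finite R B' :=
    Groth.Agent.H24Val.finite_of_admissible_local ht hBft hB'.2 hdim.le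
  let B := (u'.comp φ).range
  haveI : Algebra.IsIntegral R B := Algebra.IsIntegral.of_injective B.val Subtype.val_injective
  haveI : Algebra.IsIntegral B B' := Algebra.IsIntegral.tower_top (R := R)
  have hinj : Function.Injective (algebraMap R B) := fun a b h =>
    Groth.Agent.H24Val.injective_algebraMap (R := R) (t := t) hB'.2 (congrArg Subtype.val h)
  have hT : NoPowTorsion (Ideal.span {t}) B := fun x m hx =>
    Subtype.ext (hB'.2 (x : B') m fun a ha => congrArg Subtype.val (hx a ha))
  refine ⟨⟨?_, hT⟩, ?_, ?_⟩
  · obtain ⟨n, ψ, hψ, -⟩ := hA.1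
    refine ⟨n, (u'.comp φ).rangeRestrict.comp ψ,
      ((u'.comp φ).rangeRestrict_surjective).comp hψ, ?_⟩
    refine Groth.Agent.H24Val.fg_of_saturated hbase _ fun x m hx => ?_
    refine hT _ m fun a ha => ?_
    have h : ((u'.comp φ).rangeRestrict.comp ψ) (a • x) = 0 := hx a ha
    rw [map_smul] at h
    exact h
  · refine IsLocalRing.of_unique_max_ideal ?_
    refine ⟨(IsLocalRing.maximalIdeal B').comap (algebraMap B B'),
      Ideal.isMaximal_comap_of_isIntegral_of_isMaximal _, fun M hM => ?_⟩
    obtain ⟨Q, hQ, hQM⟩ := Ideal.exists_ideal_over_maximal_of_isIntegral (S := B') M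
      (fun x hx => by
        have : x = 0 := Subtype.ext hx
        rw [this]
        exact zero_mem M)
    rw [← hQM, IsLocalRing.eq_maximalIdeal hQ]
  · exact Groth.Agent.H24Val.ringKrullDim_eq_one_of_isIntegral hinj
      (Groth.Agent.H24Val.not_isField_base ht)

end Groth.Agent.S11547
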