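import Groth.Statements.S11548
import Groth.Agent.H24Val.Points
import Mathlib.FieldTheory.IsAlgClosed.AlgebraicClosure
import Mathlib.RingTheory.IntegralClosure.IntegralRestrict

set_option autoImplicit false
set_option linter.style.haveILetI false
universe u
open AdicRing

namespace Groth.Agent.S11548

/-- Let R be a complete valuation ring of height one with t a nonzero element generating an ideal of
definition, and m a maximal ideal of R⟨ζ_1, ..., ζ_n⟩ containing t (a closed point of the special
fibre). Then there is a prime ideal p contained in m and not containing t such that R⟨ζ_1, ...,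
ζ_n⟩/p has Krull dimension one. (This is the affine content of the surjectivity of the
specialization map onto closed points, for the formal affine space.) -/
theorem result
    (R : Type u) [CommRing R] [IsDomain R] [ValuationRing R] [Ring.KrullDimLE 1 R]
    (t : R) (ht : t ≠ 0) [IsAdicComplete (Ideal.span {t}) R]
    (n : ℕ) (m : Ideal (AdicRing.RPow R (Ideal.span {t}) n)) [m.IsMaximal]
    (hm : algebraMap R (AdicRing.RPow R (Ideal.span {t}) n) t ∈ m) :
    ∃ p : Ideal (AdicRing.RPow R (Ideal.span {t}) n), p.IsPrime ∧ p ≤ m ∧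
      algebraMap R (AdicRing.RPow R (Ideal.span {t}) n) t ∉ p ∧
      ringKrullDim (AdicRing.RPow R (Ideal.span {t}) n ⧸ p) = 1 := by
  classical
  haveI : IsLocalRing R := Groth.Agent.H24Val.isLocalRing_of_pre R
  have hbase : IsBase R (Ideal.span {t}) :=
    ⟨‹_›, Or.inr ⟨‹_›, inferInstance, ‹_›, t, ht, rfl⟩⟩
  let M₀ := IsLocalRing.maximalIdeal R
  have htM₀ : t ∈ M₀ := Groth.Agent.H24Val.t_mem_maximalIdeal
  letI := Ideal.Quotient.field M₀
  have hcomap : m.comap (algebraMap R (RPow R (Ideal.span {t}) n)) = M₀ :=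
    IsLocalRing.eq_maximalIdeal ((Ring.krullDimLE_one_iff_of_noZeroDivisors.mp
      (inferInstance : Ring.KrullDimLE 1 R)) _ (fun h => ht (Ideal.mem_bot.mp (h ▸ Ideal.mem_comap.mpr hm)))
      inferInstance)
  letI : Algebra (R ⧸ M₀) (RPow R (Ideal.span {t}) n ⧸ m) :=
    (Ideal.quotientMap m (algebraMap R _) hcomap.ge).toAlgebra
  haveI : IsScalarTower R (R ⧸ M₀) (RPow R (Ideal.span {t}) n ⧸ m) :=
    IsScalarTower.of_algebraMap_eq fun r => rfl
  letI := Ideal.Quotient.field m
  let θ : MvPolynomial (Fin n) R →ₐ[R] RPow R (Ideal.span {t}) n ⧸ m :=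
    (Ideal.Quotient.mkₐ R m).comp (IsScalarTower.toAlgHom R (MvPolynomial (Fin n) R) _)
  have hθ : Function.Surjective θ := by
    intro z
    obtain ⟨x, rfl⟩ := Ideal.Quotient.mk_surjective z
    obtain ⟨p, y, hp⟩ := Groth.Agent.H24Val.exists_poly_approx x 1
    refine ⟨p, Ideal.Quotient.eq.mpr ?_⟩
    change algebraMap _ _ p - x ∈ m
    rw [← neg_mem_iff, neg_sub, hp, pow_one, Algebra.smul_def]
    exact m.mul_mem_right _ hm
  haveI : Algebra.FiniteType R (RPow R (Ideal.span {t}) n ⧸ m) := Algebra.FiniteType.of_surjective θ hθ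
  haveI : Algebra.FiniteType (R ⧸ M₀) (RPow R (Ideal.span {t}) n ⧸ m) :=
    Algebra.FiniteType.of_restrictScalars_finiteType R _ _
  haveI := finite_of_finite_type_of_isJacobsonRing (R ⧸ M₀) (RPow R (Ideal.span {t}) n ⧸ m)
  -- the valuation ring of an algebraic closure
  let L := AlgebraicClosure (FractionRing R)
  let V := integralClosure R L
  have hRL : Function.Injective (algebraMap R L) := by
    rw [IsScalarTower.algebraMap_eq R (FractionRing R) L]
    exact (algebraMap (FractionRing R) L).injective.comp (IsFractionRing.injective R (FractionRing R))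
  have hRV : Function.Injective (algebraMap R V) := fun a b h => hRL (congrArg Subtype.val h)
  obtain ⟨MV, hMV, hMVc⟩ := Ideal.exists_ideal_over_maximal_of_isIntegral (S := V) M₀
    (by rw [(RingHom.injective_iff_ker_eq_bot _).mp hRV]; exact bot_le)
  letI := Ideal.Quotient.field MV
  letI : Algebra (R ⧸ M₀) (V ⧸ MV) := (Ideal.quotientMap MV (algebraMap R V) hMVc.ge).toAlgebra
  haveI : IsAlgClosed (V ⧸ MV) := by
    refine IsAlgClosed.of_exists_root _ fun p hpm hirr => ?_
    obtain ⟨P, hP, hdeg, hPm⟩ := Polynomial.lifts_and_degree_eq_and_monic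
      ((Polynomial.lifts_iff_coeff_lifts (f := Ideal.Quotient.mk MV) p).mpr fun i =>
        Ideal.Quotient.mk_surjective (p.coeff i)) hpm
    have hdeg' : (P.map (algebraMap V L)).degree ≠ 0 := by
      rw [hPm.degree_map, hdeg]
      exact ne_of_gt hirr.degree_pos
    obtain ⟨x, hx⟩ := IsAlgClosed.exists_root _ hdeg'
    have hxV : IsIntegral V x := ⟨P, hPm, by rwa [Polynomial.IsRoot.def, Polynomial.eval_map] at hx⟩
    let xV : V := ⟨x, isIntegral_trans (R := R) x hxV⟩
    refine ⟨Ideal.Quotient.mk MV xV, ?_⟩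
    rw [← hP, Polynomial.eval_map, Polynomial.eval₂_at_apply]
    have h0 : P.eval xV = 0 := by
      apply Subtype.val_injective
      rw [Polynomial.IsRoot.def, Polynomial.eval_map, show x = algebraMap V L xV from rfl,
        Polynomial.eval₂_at_apply] at hx
      exact hx
    rw [h0, map_zero]
  let ψ : (RPow R (Ideal.span {t}) n ⧸ m) →ₐ[R ⧸ M₀] V ⧸ MV := IsAlgClosed.lift
  choose z hz using fun i => Ideal.Quotient.mk_surjective (ψ (θ (MvPolynomial.X i)))
  let B := (MvPolynomial.aeval z : MvPolynomial (Fin n) R →ₐ[R] V).range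
  haveI : Algebra.IsIntegral R B := Algebra.IsIntegral.of_injective B.val Subtype.val_injective
  haveI : Algebra.FiniteType R B := Algebra.FiniteType.of_surjective _
    (MvPolynomial.aeval z : MvPolynomial (Fin n) R →ₐ[R] V).rangeRestrict_surjective
  haveI : Module.Finite R B := Algebra.IsIntegral.finite
  have hRB : Function.Injective (algebraMap R B) := fun a b h => hRV (congrArg Subtype.val h)
  have hRft : TopFiniteType R (Ideal.span {t}) R := by
    haveI : IsAdicComplete ((Ideal.span {t}).map (algebraMap R R)) R := by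
      rw [Algebra.algebraMap_self, Ideal.map_id]; infer_instance
    obtain ⟨ε, -⟩ : ∃ ε : RPow R (Ideal.span {t}) 0 →ₐ[R] R,
        ∀ p, ε (algebraMap (MvPolynomial (Fin 0) R) _ p) = MvPolynomial.aeval (fun _ => (0 : R)) p :=
      Groth.Agent.H24Adic.exists_algHom _ (MvPolynomial.aeval fun _ => (0 : R))
    exact ⟨0, ε, fun r => ⟨algebraMap R _ r, ε.commutes r⟩⟩
  haveI : IsAdicComplete ((Ideal.span {t}).map (algebraMap R B)) B :=
    (IsAdicComplete.map_algebraMap_iff _ _).2
      (Groth.Agent.H24Val.isAdicComplete_topFinite (A := R) (M := B) hbase hRft)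
  let g := (MvPolynomial.aeval z : MvPolynomial (Fin n) R →ₐ[R] V).rangeRestrict
  obtain ⟨φ, hφ⟩ : ∃ φ : RPow R (Ideal.span {t}) n →ₐ[R] B,
      ∀ p, φ (algebraMap (MvPolynomial (Fin n) R) _ p) = g p := Groth.Agent.H24Adic.exists_algHom _ g
  have hφs : Function.Surjective φ := fun b => by
    obtain ⟨p, rfl⟩ := AlgHom.rangeRestrict_surjective _ b
    exact ⟨algebraMap _ _ p, hφ p⟩
  refine ⟨RingHom.ker φ.toRingHom, RingHom.ker_isPrime _, fun x hx => ?_, fun h => ?_, ?_⟩
  · obtain ⟨p, y, hp⟩ := Groth.Agent.H24Val.exists_poly_approx x 1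
    rw [pow_one] at hp
    have htV : algebraMap R V t ∈ MV := by
      rw [← Ideal.mem_comap, hMVc]; exact htM₀
    have h1 : ((φ (x - algebraMap _ _ p)) : V) ∈ MV := by
      rw [hp, map_smul, Algebra.smul_def]
      exact MV.mul_mem_right _ htV
    rw [map_sub, show φ x = 0 from hx, zero_sub, hφ] at h1
    have hkey : (Ideal.Quotient.mk MV).comp (MvPolynomial.aeval z).toRingHom =
        ψ.toRingHom.comp θ.toRingHom := by
      refine MvPolynomial.ringHom_ext (fun r => ?_) (fun i => ?_)
      · change Ideal.Quotient.mk MV (MvPolynomial.aeval z (MvPolynomial.C r)) = ψ (θ (MvPolynomial.C r))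
        rw [MvPolynomial.aeval_C, show θ (MvPolynomial.C r) = algebraMap R _ r from θ.commutes r,
          IsScalarTower.algebraMap_apply R (R ⧸ M₀) (RPow R (Ideal.span {t}) n ⧸ m), ψ.commutes]
        rfl
      · change Ideal.Quotient.mk MV (MvPolynomial.aeval z (MvPolynomial.X i)) = ψ (θ (MvPolynomial.X i))
        rw [MvPolynomial.aeval_X, hz]
    have h2 : ψ (θ p) = 0 := by
      refine ((RingHom.congr_fun hkey p).symm.trans ?_)
      refine Ideal.Quotient.eq_zero_iff_mem.mpr ?_
      rw [← neg_mem_iff]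
      exact h1
    have h3 : θ p = 0 := (injective_iff_map_eq_zero ψ).mp ψ.toRingHom.injective _ h2
    rw [show x = algebraMap _ _ p + t • y from eq_add_of_sub_eq' hp, Algebra.smul_def]
    exact add_mem (Ideal.Quotient.eq_zero_iff_mem.mp h3) (m.mul_mem_right _ hm)
  · exact ht (hRB ((φ.commutes t).symm.trans (h.trans (map_zero _).symm)))
  · rw [ringKrullDim_eq_of_ringEquiv (RingHom.quotientKerEquivOfSurjective (f := φ.toRingHom) hφs)]
    exact Groth.Agent.H24Val.ringKrullDim_eq_one_of_isIntegral hRB
      (Groth.Agent.H24Val.not_isField_base ht)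

end Groth.Agent.S11548
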