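import Groth.Statements.S5022
import Groth.Agent.H06Unram.SmoothRank
import Groth.Agent.S5019
import Groth.Agent.H16Derived.KFlat.FinLocFree

set_option autoImplicit false
universe u
open CategoryTheory CategoryTheory.Limits AlgebraicGeometry TopologicalSpace
open Unram17

namespace Groth.Agent.S5022

set_option linter.style.haveILetI false

/-- Let f : X ⟶ Y be locally of finite presentation, (Ω', d) a sheaf of differentials of X over Y (d
universal) and x a point of X. Then f is smooth at x if and only if the stalk map at x is flat and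
there are an open neighbourhood U of x and an integer n with Ω' free of rank n on U and n equal to
the local dimension at x of the fibre of f through x. -/
theorem result {X Y : Scheme.{u}} (f : X ⟶ Y)
    [LocallyOfFinitePresentation f] (Ω' : X.Modules) (d : OmegaSh.Der f Ω') (hd : OmegaSh.IsUniversal d) (x : ↥X) :
    x ∈ f.smoothLocus ↔
      (f.stalkMap x).hom.Flat ∧
        ∃ (U : X.Opens) (n : ℕ), x ∈ U ∧ Nonempty (Ω'.restrict U.ι ≅ FlatMod.freeMod (↑U) n) ∧
          FlatMor.fibreDimAt f x = (n : WithBot ℕ∞) := by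
  refine ⟨fun hx => ⟨H17.LocusBC.flat_stalkMap_of_mem_smoothLocus f hx, ?_⟩,
    fun ⟨hflat, U, n, hxU, ⟨e⟩, hdim⟩ => H06Unram.SmoothRank.mem_smoothLocus_of_free f hd e hxU hflat hdim⟩
  obtain ⟨U₁, hxU₁, hsm⟩ := (H17.LocusBC.mem_smoothLocus_iff_exists f x).mp hx
  haveI := hsm
  let z : U₁.toScheme := ⟨x, hxU₁⟩
  obtain ⟨U, n, hzU, ⟨e⟩, hdim⟩ := S5019.result (U₁.ι ≫ f) _ _ (H29Omega.isUniversal_restrDer U₁.ι d hd) z
  refine ⟨U₁.ι ''ᵁ U, n, ⟨z, hzU, rfl⟩, ?_, ?_⟩
  · have hr : Set.range (U₁.ι ''ᵁ U).ι ⊆ Set.range (U.ι ≫ U₁.ι) := by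
      rintro _ ⟨⟨_, w, hw, rfl⟩, rfl⟩
      exact ⟨⟨w, hw⟩, rfl⟩
    let k := IsOpenImmersion.lift (U.ι ≫ U₁.ι) (U₁.ι ''ᵁ U).ι hr
    have hk : k ≫ U.ι ≫ U₁.ι = (U₁.ι ''ᵁ U).ι := IsOpenImmersion.lift_fac _ _ hr
    haveI : IsOpenImmersion k := by
      haveI : IsOpenImmersion (k ≫ U.ι ≫ U₁.ι) := hk ▸ inferInstance
      exact IsOpenImmersion.of_comp k (U.ι ≫ U₁.ι)
    refine ⟨(Scheme.Modules.restrictFunctorCongr hk.symm ≪≫
      Scheme.Modules.restrictFunctorComp k (U.ι ≫ U₁.ι)).app Ω' ≪≫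
      (Scheme.Modules.restrictFunctor k).mapIso
        ((Scheme.Modules.restrictFunctorComp U.ι U₁.ι).app Ω' ≪≫ e) ≪≫
      (Scheme.Modules.restrictFunctorIsoPullback k).app _ ≪≫ H16Derived.KFlat.Stalk.freeModPullbackIso k n⟩
  · rw [show x = U₁.ι z from rfl, ← H8Props.FieldDim.fibreDimAt_openImmersion_comp U₁.ι f z]
    exact hdim

end Groth.Agent.S5022
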