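import Groth.Statements.S1159
import Groth.Agent.H18Pur.PS.FullFaithful

set_option autoImplicit false
universe u
open Pi1

namespace Groth.Agent.S1159

open AlgebraicGeometry CategoryTheory CategoryTheory.Limits in
/-- Let A be a Noetherian local ring of depth at least 2, d ≥ 1, B = A[[x_1, ..., x_d]] (assumed local,
as it is), Y = Spec B and Y₀ = V(x_1, ..., x_d), identified with Spec A via the quotient map. Let V
be an open subscheme of Y whose intersection with Y₀ is Y₀ minus the closed point. Then restriction
of finite etale covers from V to V ×_Y Y₀ is fully faithful. -/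
theorem result (A : Type u) [CommRing A] [IsNoetherianRing A] [IsLocalRing A]
    (hA : (2 : ℕ∞) ≤ LocCoh.depth A A) (d : ℕ) (hd : 1 ≤ d)
    [IsLocalRing (MvPowerSeries (Fin d) A)]
    (V : (Spec (CommRingCat.of (MvPowerSeries (Fin d) A))).Opens)
    (hV : ∀ y : Spec (CommRingCat.of (MvPowerSeries (Fin d) A)),
      (∀ i : Fin d, MvPowerSeries.X i ∈ (y : PrimeSpectrum (MvPowerSeries (Fin d) A)).asIdeal) →
      (y ∈ V ↔ y ≠ IsLocalRing.closedPoint (MvPowerSeries (Fin d) A))) :
    (FEt.restrict (pullback.fst V.ι (Spec.map (CommRingCat.ofHom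
      (MvPowerSeries.constantCoeff : MvPowerSeries (Fin d) A →+* A))))).Full ∧
    (FEt.restrict (pullback.fst V.ι (Spec.map (CommRingCat.ofHom
      (MvPowerSeries.constantCoeff : MvPowerSeries (Fin d) A →+* A))))).Faithful := by
  exact Groth.Agent.H18Pur.Formal.full_faithful_powerSeries A hA d V hV

end Groth.Agent.S1159
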