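import Groth.Statements.S1160
import Groth.Agent.H13Desc.ModDescPure

set_option autoImplicit false
open CategoryTheory Opposite
universe u
open Desc

namespace Groth.Agent.S1160

/-- For a ring map R → S the following are equivalent: the functor M ↦ S ⊗_R M from R-modules to descent
data relative to R → S is fully faithful; it is an equivalence; R → S is universally injective.
Stated as: universal injectivity is equivalent to the functor being an equivalence, and full
faithfulness already implies universal injectivity. (Descent data are Mathlib's for the
pseudofunctor R ↦ Mod_R with extension of scalars, relative to the single morphism Spec S → Spec R;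
by the usual Yoneda argument these are the classical pairs (N, φ) with N an S-module and φ : N ⊗_R S
≅ S ⊗_R N satisfying the cocycle condition.) -/
theorem result (R S : Type u) [CommRing R] [CommRing S] [Algebra R S] :
    (Pi1.UnivInjective R S ↔ (Desc.ringModPF.{u}.toDescentData (fun _ : PUnit.{u + 1} => (CommRingCat.ofHom (algebraMap R S)).op)).IsEquivalence) ∧
    (Nonempty (Desc.ringModPF.{u}.toDescentData (fun _ : PUnit.{u + 1} => (CommRingCat.ofHom (algebraMap R S)).op)).FullyFaithful → Pi1.UnivInjective R S) := by
  have e : (algebraMap R S).toAlgebra = ‹Algebra R S› := Algebra.algebra_ext _ _ fun r => rfl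
  refine ⟨⟨fun h => Groth.Agent.H13Desc.ModDesc.isEquivalence_toDescentData (algebraMap R S) (by rw [e]; exact h),
    fun hE => ?_⟩, fun ⟨hF⟩ => ?_⟩
  · have := Groth.Agent.H13Desc.ModDesc.univInjective_of_faithful (algebraMap R S) hE.faithful
    rwa [e] at this
  · have := Groth.Agent.H13Desc.ModDesc.univInjective_of_faithful (algebraMap R S) hF.faithful
    rwa [e] at this

end Groth.Agent.S1160
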