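import Groth.Statements.S1161
import Groth.Agent.H13Desc.ModDesc

set_option autoImplicit false
open CategoryTheory Opposite
universe u
open Desc

namespace Groth.Agent.S1161

/-- Let R → S be a faithfully flat ring map. Then every descent datum for modules relative to R → S is
effective: it is isomorphic to the canonical descent datum of some R-module M. (Descent data are
Mathlib's, for the pseudofunctor R ↦ Mod_R with extension of scalars, relative to the single
morphism Spec S ⟶ Spec R; by the usual Yoneda argument they amount to pairs (N, φ) of an S-module N
and an isomorphism φ : N ⊗_R S ≅ S ⊗_R N satisfying the cocycle condition.) -/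
theorem result (R S : Type u) [CommRing R] [CommRing S] [Algebra R S]
    [Module.FaithfullyFlat R S] (D : Desc.ringModPF.{u}.DescentData (fun _ : PUnit.{u + 1} => (CommRingCat.ofHom (algebraMap R S)).op)) :
    ∃ M : ModuleCat.{u} R, Nonempty ((Desc.ringModPF.{u}.toDescentData (fun _ : PUnit.{u + 1} => (CommRingCat.ofHom (algebraMap R S)).op)).obj M ≅ D) := by
  exact Groth.Agent.H13Desc.ModDesc.isEffective (algebraMap R S)
    (RingHom.flat_algebraMap_iff.mpr inferInstance) D

end Groth.Agent.S1161
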