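import Groth.Statements.S1162
import Groth.Agent.H13Desc.GenericInj

set_option autoImplicit false
open CategoryTheory CategoryTheory.Limits AlgebraicGeometry Opposite
universe u
open Desc

namespace Groth.Agent.S1162

/-- Let f : X ⟶ Y be flat and separated. Write X⁰ for the generic points of the irreducible components
of X. If for every ξ in X⁰ the residue field extension κ(f ξ) ⊆ κ(ξ) is trivial and f is injective
on X⁰, then f is universally injective. -/
theorem result {X Y : Scheme.{u}} (f : X ⟶ Y) [Flat f] [IsSeparated f]
    (h2 : ∀ ξ : X, closure ({ξ} : Set X) ∈ irreducibleComponents (X : Type u) →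
      Function.Surjective (f.residueFieldMap ξ).hom)
    (h3 : Set.InjOn f.base {ξ : X | closure ({ξ} : Set X) ∈ irreducibleComponents (X : Type u)}) :
    UniversallyInjective f := by
  rw [UniversallyInjective.iff_diagonal]
  refine ⟨fun z => ?_⟩
  let Z : Scheme.{u} := pullback f f
  have hC : irreducibleComponent z ∈ irreducibleComponents (Z : Type u) := irreducibleComponent_mem_irreducibleComponents z
  let w := hC.1.genericPoint
  have hwC : closure ({w} : Set Z) = irreducibleComponent z := by
    rw [hC.1.closure_genericPoint isClosed_irreducibleComponent]
  have hmax : closure ({w} : Set Z) ∈ irreducibleComponents (Z : Type u) := hwC ▸ hC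
  have hwz : w ⤳ z := specializes_iff_mem_closure.mpr (hwC ▸ mem_irreducibleComponent)
  have gen : ∀ {A : Scheme.{u}} (pr : A ⟶ X) [Flat pr] (v : A), closure ({v} : Set A) ∈ irreducibleComponents (A : Type u) →
      closure ({pr v} : Set X) ∈ irreducibleComponents (X : Type u) := by
    intro A pr _ v hv
    refine ⟨isIrreducible_singleton.closure, fun T hT hle => ?_⟩
    have hT' := hT.isPreirreducible.closure
    let g := (hT.closure).genericPoint
    have hgv : g ⤳ pr v := specializes_iff_mem_closure.mpr (by
      rw [hT.closure.closure_genericPoint isClosed_closure]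
      exact subset_closure (hle (subset_closure rfl)))
    obtain ⟨v', hv', hpr⟩ := Groth.Agent.H13Desc.flat_generalizing pr v g hgv
    have hsub : closure ({v'} : Set A) ≤ closure ({v} : Set A) :=
      hv.2 isIrreducible_singleton.closure (closure_minimal
        (Set.singleton_subset_iff.mpr (specializes_iff_mem_closure.mp hv')) isClosed_closure)
    have hg : g ∈ closure ({pr v} : Set X) := by
      rw [← hpr]
      exact specializes_iff_mem_closure.mp ((specializes_iff_mem_closure.mpr (hsub (subset_closure rfl))).map pr.continuous)
    intro t ht
    refine closure_minimal (Set.singleton_subset_iff.mpr hg) isClosed_closure ?_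
    rw [hT.closure.closure_genericPoint isClosed_closure]
    exact subset_closure ht
  have h₁ := gen (pullback.fst f f) w hmax
  have h₂ := gen (pullback.snd f f) w hmax
  let a := Z.fromSpecResidueField w ≫ pullback.fst f f
  let b := Z.fromSpecResidueField w ≫ pullback.snd f f
  have hab : a = b := Groth.Agent.H13Desc.point_eq_of_surjective_residue f (h2 := h2) (h3 := h3) w h₁ h₂
  have hw : w ∈ Set.range (pullback.diagonal f) := by
    have e : Z.fromSpecResidueField w = a ≫ pullback.diagonal f := by
      apply pullback.hom_ext
      · rw [Category.assoc, pullback.diagonal_fst, Category.comp_id]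
      · rw [Category.assoc, pullback.diagonal_snd, Category.comp_id]
        exact hab.symm
    obtain ⟨pt⟩ : Nonempty (Spec (Z.residueField w)) := inferInstance
    refine ⟨a pt, ?_⟩
    rw [← Scheme.Hom.comp_apply, ← e, Scheme.fromSpecResidueField_apply]
  have hcl : IsClosed (Set.range (pullback.diagonal f)) := (pullback.diagonal f).isClosedEmbedding.isClosed_range
  exact hcl.stableUnderSpecialization hwz hw

end Groth.Agent.S1162
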