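import Groth.Statements.S1172
import Groth.Agent.H27CurveDiv.SumDiff

set_option autoImplicit false
open CategoryTheory CategoryTheory.Limits AlgebraicGeometry
universe u
open HilbD

namespace Groth.Agent.S1172

/-- Let f : X ⟶ S be smooth of relative dimension 1 and let D₁ ⊆ D₂ be closed subschemes of X (ideal
sheaves I₂ ≤ I₁) which are finite locally free over S of degrees d₁ and d₂. Then there is a closed
subscheme D (ideal sheaf I), finite locally free over S of degree d₂ - d₁, with D₂ = D₁ + D, i.e. I₂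
= I₁I. -/
theorem result {X S : Scheme.{u}} (f : X ⟶ S) [SmoothOfRelativeDimension 1 f]
    (I₁ I₂ : X.IdealSheafData) (hle : I₂ ≤ I₁) (d₁ d₂ : ℕ) (h₁ : Mor2.IsFinLocFreeOfDeg d₁ (I₁.subschemeι ≫ f))
    (h₂ : Mor2.IsFinLocFreeOfDeg d₂ (I₂.subschemeι ≫ f)) :
    ∃ I : X.IdealSheafData, Mor2.IsFinLocFreeOfDeg (d₂ - d₁) (I.subschemeι ≫ f) ∧ I₂ = I₁ * I := by
  exact H27CurveDiv.exists_finLocFreeOfDeg_sub f hle h₁ h₂

end Groth.Agent.S1172
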