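import Groth.Statements.S3461
import Groth.Agent.H06Proper.GeomConnectedProper

set_option autoImplicit false
open CategoryTheory AlgebraicGeometry
universe u
open EGA43

namespace Groth.Agent.S3461

open CategoryTheory.Limits in
/-- Let f : X ⟶ Y be separated and of finite presentation. Suppose there is a surjective morphism of
finite presentation g : Y' ⟶ Y which is proper or flat, together with a Y-morphism Y' ⟶ X, and
suppose every fibre of f is geometrically connected. Then the set U of points y of Y whose fibre X_y
is proper over κ(y) is open in Y, and the restriction of f over U is proper. -/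
theorem result {X Y Y' : Scheme.{u}} (f : X ⟶ Y)
    [IsSeparated f] [LocallyOfFinitePresentation f] [QuasiCompact f] [QuasiSeparated f]
    (g : Y' ⟶ Y) [Surjective g] [LocallyOfFinitePresentation g] [QuasiCompact g] [QuasiSeparated g]
    (hg : IsProper g ∨ Flat g) (σ : Y' ⟶ X) (hσ : σ ≫ f = g)
    (hconn : ∀ y : Y, MoreMor.nGeomConnComp f y ≤ 1) :
    ∃ U : Y.Opens, (U : Set Y) = {y : Y | IsProper (f.fiberToSpecResidueField y)} ∧ IsProper (f ∣_ U) := by
  exact Groth.Agent.H06Proper.exists_properLocus f g hg σ hσ hconn

end Groth.Agent.S3461
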