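import Groth.Statements.S1178
import Groth.Agent.H29Omega.SheafFinite
import Groth.Agent.H8Props.FinLocFree.Sheaf

set_option autoImplicit false
open CategoryTheory CategoryTheory.Limits AlgebraicGeometry Opposite
universe u
open Desc

namespace Groth.Agent.S1178

theorem fp_tower_iff {A B M : Type u} [CommRing A] [CommRing B] [Algebra A B] [AddCommGroup M] [Module A M]
    [Module B M] [IsScalarTower A B M] [Module.Finite A B] [Algebra.FinitePresentation A B] :
    Module.FinitePresentation B M ↔ Module.FinitePresentation A M := by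
  haveI : Module.FinitePresentation A B := Module.FinitePresentation.of_finite_of_finitePresentation A B
  constructor
  · intro h
    exact Module.FinitePresentation.trans A M B
  · intro h
    haveI : Module.Finite B M := Module.Finite.of_restrictScalars_finite A B M
    obtain ⟨n, π, hπ⟩ := Module.Finite.exists_fin' B M
    haveI : Module.Finite A (LinearMap.ker (π.restrictScalars A)) :=
      Module.Finite.iff_fg.2 (Module.FinitePresentation.fg_ker (π.restrictScalars A) hπ)
    haveI : Module.Finite A (LinearMap.ker π) :=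
      inferInstanceAs (Module.Finite A (LinearMap.ker (π.restrictScalars A)))
    haveI : Module.Finite B (LinearMap.ker π) := Module.Finite.of_restrictScalars_finite A B _
    exact Module.finitePresentation_of_surjective π hπ (Module.Finite.iff_fg.1 inferInstance)

theorem sections_iff {X Y : Scheme.{u}} (f : X ⟶ Y) [IsFinite f] [LocallyOfFinitePresentation f]
    (F : X.Modules) {V : Y.Opens} (hV : IsAffineOpen V) :
    Module.FinitePresentation Γ(X, f ⁻¹ᵁ V) Γ(F, f ⁻¹ᵁ V) ↔
      Module.FinitePresentation Γ(Y, V) Γ((Scheme.Modules.pushforward f).obj F, V) := by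
  let φ := (f.app V).hom
  letI : Algebra Γ(Y, V) Γ(X, f ⁻¹ᵁ V) := φ.toAlgebra
  letI : Module Γ(Y, V) Γ(F, f ⁻¹ᵁ V) := Module.compHom _ φ
  haveI : IsScalarTower Γ(Y, V) Γ(X, f ⁻¹ᵁ V) Γ(F, f ⁻¹ᵁ V) := .of_algebraMap_smul fun _ _ => rfl
  haveI : Module.Finite Γ(Y, V) Γ(X, f ⁻¹ᵁ V) := IsFinite.finite_app f V hV
  haveI : Algebra.FinitePresentation Γ(Y, V) Γ(X, f ⁻¹ᵁ V) := by
    have := HasRingHomProperty.appLE @LocallyOfFinitePresentation f inferInstance ⟨V, hV⟩
      ⟨f ⁻¹ᵁ V, hV.preimage f⟩ le_rfl
    rw [Scheme.Hom.appLE_eq_app] at this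
    exact this
  refine (fp_tower_iff (A := Γ(Y, V))).trans ⟨fun h => ?_, fun h => ?_⟩
  · exact Groth.Agent.H29Fitt.finitePresentation_of_semilinear (M := Γ(F, f ⁻¹ᵁ V)) (RingHom.id _)
      Function.bijective_id (AddMonoidHom.id _) (fun _ _ => rfl) Function.bijective_id
  · exact Groth.Agent.H29Fitt.finitePresentation_of_semilinear (M := Γ((Scheme.Modules.pushforward f).obj F, V))
      (RingHom.id _) Function.bijective_id (AddMonoidHom.id _) (fun _ _ => rfl) Function.bijective_id


/-- Let f : X ⟶ Y be finite and locally of finite presentation and F a quasi-coherent O_X-module. Then F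
is finitely presented exactly when its pushforward f_*F is a finitely presented O_Y-module. -/
theorem result {X Y : Scheme.{u}} (f : X ⟶ Y) [IsFinite f] [LocallyOfFinitePresentation f]
    (F : X.Modules) [F.IsQuasicoherent] :
    CohB1.IsFP F ↔ CohB1.IsFP ((Scheme.Modules.pushforward f).obj F) := by
  haveI : ((Scheme.Modules.pushforward f).obj F).IsQuasicoherent :=
    Groth.Agent.H10Coh.isQuasicoherent_pushforward_of_isAffineHom _ _
  have hcov : TopologicalSpace.IsOpenCover fun V : Y.affineOpens => f ⁻¹ᵁ V.1 :=
    eq_top_iff.2 fun x _ => by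
      obtain ⟨V, hV, hxV, -⟩ := exists_isAffineOpen_mem_and_subset (X := Y) (x := f x) (U := ⊤) trivial
      exact TopologicalSpace.Opens.mem_iSup.2 ⟨⟨V, hV⟩, hxV⟩
  have hcov' : TopologicalSpace.IsOpenCover fun V : Y.affineOpens => V.1 := iSup_affineOpens_eq_top Y
  constructor
  · intro h
    refine Groth.Agent.H29Omega.isFP_of_affineCover _ (fun V : Y.affineOpens => V.1) hcov' (fun V => V.2) fun V => ?_
    exact (sections_iff f F V.2).1 (Groth.Agent.H8Props.FinLocFree.finitePresentation_sections F h (V.2.preimage f))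
  · intro h
    refine Groth.Agent.H29Omega.isFP_of_affineCover _ (fun V : Y.affineOpens => f ⁻¹ᵁ V.1) hcov
      (fun V => V.2.preimage f) fun V => ?_
    exact (sections_iff f F V.2).2 (Groth.Agent.H8Props.FinLocFree.finitePresentation_sections _ h V.2)

end Groth.Agent.S1178
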