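import Groth.Statements.S1181
import Groth.Agent.H27HilbOps.Basic
import Groth.Agent.H13Desc.Eff.Closed
import Groth.Agent.H13Desc.Eff.Cover
import Groth.Agent.H18Torsor.Basic
import Groth.Agent.S0084

set_option autoImplicit false
open CategoryTheory CategoryTheory.Limits AlgebraicGeometry
universe u
open HilbD

namespace Groth.Agent.S1181

/-- Let f : X ⟶ S, d a natural number, T an S-scheme and g : T' ⟶ T quasi-compact, flat and surjective,
viewed over S. Let Z' be a closed subscheme of X ×_S T' finite locally free of degree d over T'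
whose two pullbacks to X ×_S (T' ×_T T') coincide. Then there is exactly one closed subscheme of X
×_S T, finite locally free of degree d over T, pulling back to Z'. -/
theorem result {X S : Scheme.{u}} (f : X ⟶ S) (d : ℕ) (T : Over S) {T' : Scheme.{u}} (g : T' ⟶ T.left)
    [QuasiCompact g] [Flat g] [Surjective g] (Z' : HilbD.Obj f d (HilbD.coverOver T g))
    (hZ' : HilbD.pull f (HilbD.overlapFst T g) Z'.1 = HilbD.pull f (HilbD.overlapSnd T g) Z'.1) :
    ∃! I : (PicF.XT f T).IdealSheafData, Mor2.IsFinLocFreeOfDeg d (I.subschemeι ≫ PicF.XTproj f T) ∧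
      HilbD.pull f (HilbD.coverHom T g) I = Z'.1 := by
  haveI hd1 := Groth.Agent.S0084.result.{u}
  let q := PicF.XTmap f (HilbD.coverHom T g)
  have hq : IsPullback q (PicF.XTproj f (HilbD.coverOver T g)) (PicF.XTproj f T) g :=
    Groth.Agent.H27HilbOps.isPullback_XTmap f (HilbD.coverHom T g)
  haveI : Groth.Agent.H13Desc.Eff.IsCover g := inferInstance
  haveI : Groth.Agent.H13Desc.Eff.IsCover q := Groth.Agent.H13Desc.Eff.IsCover.of_isPullback g hq.flip
  have htop : IsPullback (PicF.XTmap f (HilbD.overlapSnd T g)) (PicF.XTmap f (HilbD.overlapFst T g)) q q := by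
    have hA := (Groth.Agent.H27HilbOps.isPullback_XTmap f (HilbD.overlapSnd T g)).paste_vert
      (IsPullback.of_hasPullback g g).flip
    refine IsPullback.of_bot ?_ ?_ hq
    · convert hA using 1 <;> first
        | rfl
        | exact (Groth.Agent.H27HilbOps.isPullback_XTmap f (HilbD.overlapFst T g)).w
        | exact hq.w
    · rw [← Groth.Agent.H27HilbOps.XTmap_comp, ← Groth.Agent.H27HilbOps.XTmap_comp]
      congr 1
      apply Over.OverMorphism.ext
      simp [HilbD.overlapFst, HilbD.overlapSnd, HilbD.coverHom, pullback.condition]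
  have hcomp : Z'.1.comap (pullback.fst q q) = Z'.1.comap (pullback.snd q q) := by
    rw [← htop.flip.isoPullback_inv_fst, ← htop.flip.isoPullback_inv_snd,
      Scheme.IdealSheafData.comap_comp, Scheme.IdealSheafData.comap_comp,
      ← Groth.Agent.H27HilbOne.pull_eq_comap, ← Groth.Agent.H27HilbOne.pull_eq_comap, hZ']
  obtain ⟨I, hI, hI'⟩ := Groth.Agent.H13Desc.Eff.existsUnique_ideal
    (Groth.Agent.H13Desc.Eff.IsCover.ofArrows q) (fun _ => Z'.1) (fun _ _ => hcomp)
  have hpull : HilbD.pull f (HilbD.coverHom T g) I = Z'.1 := by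
    rw [Groth.Agent.H27HilbOne.pull_eq_comap]
    exact hI PUnit.unit
  refine ⟨I, ⟨?_, hpull⟩, fun J hJ => hI' J fun _ => ?_⟩
  · obtain ⟨a, ha⟩ := Groth.Agent.H27HilbOps.exists_isPullback_pull_proj f (HilbD.coverHom T g) I
    have h : Mor2.IsFinLocFreeOfDeg d
        ((HilbD.pull f (HilbD.coverHom T g) I).subschemeι ≫ PicF.XTproj f (HilbD.coverOver T g)) := by
      rw [hpull]; exact Z'.2
    obtain ⟨⟨h1, h2, h3⟩, h4⟩ := h
    change IsPullback _ _ _ g at ha
    have k1 := Groth.Agent.H13Desc.Eff.IsCover.descend g @IsFinite ha.flip h1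
    have k2 := Groth.Agent.H13Desc.Eff.IsCover.descend g @Flat ha.flip h2
    have k3 := Groth.Agent.H13Desc.Eff.IsCover.descend g @LocallyOfFinitePresentation ha.flip h3
    refine ⟨⟨k1, k2, k3⟩, fun y => ?_⟩
    obtain ⟨y', rfl⟩ := g.surjective y
    haveI := k1; haveI := k2
    rw [← Scheme.Hom.finrank_of_isPullback _ _ _ _ ha, h4]
  · rw [← Groth.Agent.H27HilbOne.pull_eq_comap]
    exact hJ.2

end Groth.Agent.S1181
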