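import Groth.Statements.S1183
import Groth.Agent.S2608
import Groth.Agent.S2609
import Groth.Agent.H05EGA4.NormalAscent

set_option autoImplicit false
universe u
open Desc

namespace Groth.Agent.S1183

/-- Let A → B be a smooth ring map of Noetherian rings and k a natural number. If A satisfies (R_k) then
so does B; and if moreover A → B is faithfully flat and B satisfies (R_k), then A does. -/
theorem result (A B : Type u) [CommRing A] [CommRing B] [IsNoetherianRing A] [IsNoetherianRing B]
    [Algebra A B] [Algebra.Smooth A B] (k : ℕ) :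
    (LocCoh.HasRk k A → LocCoh.HasRk k B) ∧
    (Module.FaithfullyFlat A B → LocCoh.HasRk k B → LocCoh.HasRk k A) := by
  constructor
  · intro hA p _ hk
    have hfib : ∀ (q : Ideal B) [q.IsPrime], LocCoh.HasRk k (EGA4.FibLocRing A B q) := by
      intro q _ Q _ _
      have := Groth.Agent.H05EGA4.isRegularLocalRing_fibLocRing_of_smooth A B q
      exact Groth.Agent.H05EGA4.isRegularLocalRing_localization _ Q
    have hAat : EGA4.HasRkAt k A (p.comap (algebraMap A B)) :=
      Groth.Agent.H05EGA4.hasRkAt_iff.2 fun r _ _ hr => hA r hr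
    exact Groth.Agent.H05EGA4.hasRkAt_iff.1 (Groth.Agent.S2609.result k A B hfib p hAat) p le_rfl hk
  · intro _ hB p _ hk
    obtain ⟨Q, hQ⟩ := PrimeSpectrum.comap_surjective_of_faithfullyFlat (B := B) (⟨p, inferInstance⟩ : PrimeSpectrum A)
    have hBat : EGA4.HasRkAt k B Q.asIdeal :=
      Groth.Agent.H05EGA4.hasRkAt_iff.2 fun r _ _ hr => hB r hr
    have e : Q.asIdeal.comap (algebraMap A B) = p := congrArg PrimeSpectrum.asIdeal hQ
    exact Groth.Agent.H05EGA4.hasRkAt_iff.1 (Groth.Agent.S2608.result k A B Q.asIdeal hBat) p e.ge hk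

end Groth.Agent.S1183
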