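import Groth.Statements.S1185
import Groth.Agent.H18Pur.PuncturedSections
import Groth.Agent.H18Pur.PuncturedExtend
import Groth.Agent.H8Props.NormalLowDim
import Groth.Agent.S0263

set_option autoImplicit false
universe u
open Pi1

namespace Groth.Agent.S1185

open AlgebraicGeometry CategoryTheory CategoryTheory.Limits in
/-- Finiteness of the sections and the extension criterion; the normality of the sections and the
equivalence of categories are not asserted: Let A be a normal Noetherian local domain of Krull
dimension at least 2 with punctured spectrum U, and V a finite etale cover of U. Then the ring of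
global sections of V is finite over A (through the map induced by V ⟶ U ⟶ Spec A), and V is the
restriction of a finite etale cover of Spec A if and only if that ring is etale over A. -/
theorem result (A : Type u) [CommRing A] [IsDomain A] [IsNoetherianRing A]
    [IsLocalRing A] [IsIntegrallyClosed A] (hdim : (2 : WithBot ℕ∞) ≤ ringKrullDim A)
    (V : FEt.Cat (FEt.puncturedSpec A : Scheme.{u})) :
    (((V.hom ≫ (FEt.puncturedSpec A).ι).appTop).hom.comp (Scheme.ΓSpecIso (CommRingCat.of A)).inv.hom).Finite ∧
    ((∃ Y : FEt.Cat (Spec (CommRingCat.of A)), Nonempty ((FEt.restrict (FEt.puncturedSpec A).ι).obj Y ≅ V)) ↔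
      (((V.hom ≫ (FEt.puncturedSpec A).ι).appTop).hom.comp (Scheme.ΓSpecIso (CommRingCat.of A)).inv.hom).Etale) := by
  have hA : (2 : ℕ∞) ≤ LocCoh.depth A A := Groth.Agent.H8Props.NormalLowDim.two_le_depth A fun h =>
    absurd (le_trans hdim h) (by decide)
  let φ := (Scheme.ΓSpecIso (CommRingCat.of A)).inv ≫ (V.hom ≫ (FEt.puncturedSpec A).ι).appTop
  let e : A ≃+* Γ(Spec (CommRingCat.of A), ⊤) :=
    (Scheme.ΓSpecIso (CommRingCat.of A)).symm.commRingCatIsoToRingEquiv
  haveI : IsNoetherianRing Γ(Spec (CommRingCat.of A), ⊤) := isNoetherianRing_of_ringEquiv A e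
  haveI : IsDomain Γ(Spec (CommRingCat.of A), ⊤) := e.symm.injective.isDomain e.symm.toRingHom
  haveI : IsLocalRing Γ(Spec (CommRingCat.of A), ⊤) := e.isLocalRing
  have hbasic : ∀ c : A, (Spec (CommRingCat.of A)).basicOpen (e c) = PrimeSpectrum.basicOpen c := fun c =>
    (AlgebraicGeometry.basicOpen_eq_of_affine' (e c)).trans
      (congrArg PrimeSpectrum.basicOpen (e.symm_apply_apply c))
  haveI : IsFinite V.hom := V.prop.1
  haveI : Etale V.hom := V.prop.2
  have hI : (2 : ℕ∞) ≤ LocCoh.idealDepth (IsLocalRing.maximalIdeal Γ(Spec (CommRingCat.of A), ⊤))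
      Γ(Spec (CommRingCat.of A), ⊤) := by
    show (2 : ℕ∞) ≤ LocCoh.depth _ _
    rw [← Groth.Agent.H05EGA4.depth_eq_of_ringEquiv e]
    exact hA
  have hfin : ((V.hom ≫ (FEt.puncturedSpec A).ι).appTop).hom.Finite := by
    refine Groth.Agent.H18Pur.appTop_finite_of_depth_two _ _ hI (fun c hc => ?_) (fun x hx => ?_) _
    · obtain ⟨d, rfl⟩ := e.surjective c
      rw [hbasic d]
      intro p hp hpm
      have hd : d ∈ IsLocalRing.maximalIdeal A := fun hu => hc (hu.map e)
      exact hp (by rw [show p = IsLocalRing.closedPoint A from hpm]; exact hd)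
    · have hne : x.asIdeal ≠ IsLocalRing.maximalIdeal A := fun he => hx (PrimeSpectrum.ext he)
      obtain ⟨d, hd, hdx⟩ : ∃ d ∈ IsLocalRing.maximalIdeal A, d ∉ x.asIdeal := by
        by_contra! hc
        exact hne ((IsLocalRing.maximalIdeal.isMaximal A).eq_of_le x.isPrime.ne_top hc).symm
      refine ⟨e d, fun hu => hd ?_, ?_⟩
      · simpa using hu.map e.symm
      · rw [hbasic d]; exact hdx
  have hφ : φ.hom.Finite := RingHom.Finite.comp hfin (RingHom.Finite.of_surjective _ e.surjective)
  refine ⟨hφ, fun hV => (Groth.Agent.S0263.result A hA V hV).2, fun het => ?_⟩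
  exact Groth.Agent.H18Pur.exists_extension_of_etale_sections A hA V hφ het

end Groth.Agent.S1185
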