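import Groth.Statements.S1189
import Groth.Agent.H18Et.GalExact

set_option autoImplicit false
universe u v w
open CategoryTheory PreGaloisCategory
open Pi1

namespace Groth.Agent.S1189

/-- Let H : C ⥤ C' and H' : C' ⥤ C'' be exact functors between Galois categories and F'' a fibre functor
on C'' such that F'' ∘ H' and F'' ∘ H' ∘ H are fibre functors; let h' : π_1(C'', F'') → π_1(C', F''
∘ H') and h : π_1(C', F'' ∘ H') → π_1(C, F'' ∘ H' ∘ H) be the induced homomorphisms. Then h ∘ h' is
trivial if and only if for every object X of C the object H'(H(X)) is isomorphic to a finite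
coproduct of copies of the final object. -/
theorem result {C C' C'' : Type u} [Category.{v} C] [Category.{v} C'] [Category.{v} C'']
    [GaloisCategory C] [GaloisCategory C'] [GaloisCategory C'']
    (H : C ⥤ C') [Limits.PreservesFiniteLimits H] [Limits.PreservesFiniteColimits H]
    (H' : C' ⥤ C'') [Limits.PreservesFiniteLimits H'] [Limits.PreservesFiniteColimits H']
    (F'' : C'' ⥤ FintypeCat.{w}) [FiberFunctor F''] [FiberFunctor (H' ⋙ F'')] [FiberFunctor (H ⋙ (H' ⋙ F''))] :
    (∀ σ : Aut F'', Pi1X.autWhisker H (H' ⋙ F'') (Pi1X.autWhisker H' F'' σ) = 1) ↔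
      ∀ X : C, ∃ n : ℕ, Nonempty (H'.obj (H.obj X) ≅ ∐ fun _ : Fin n => ⊤_ C'') := by
  exact Groth.Agent.H18Et.GalExact.comp_trivial_iff H H' F''

end Groth.Agent.S1189
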