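import Groth.Statements.S1190
import Groth.Agent.H18Et.GalExact

set_option autoImplicit false
universe u v w
open CategoryTheory PreGaloisCategory
open Pi1

namespace Groth.Agent.S1190

/-- Let H : C ⥤ C' and H' : C' ⥤ C'' be exact functors between Galois categories, F'' a fibre functor on
C'' with F'' ∘ H' and F'' ∘ H' ∘ H fibre functors, and h', h the induced homomorphisms of
fundamental groups. Then: h is surjective, h ∘ h' is trivial and the kernel of h is the closed
normal subgroup generated by the image of h', if and only if H is fully faithful and its essential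
image consists exactly of those X' in C' for which H'(X') is a finite coproduct of copies of the
final object. -/
theorem result {C C' C'' : Type u} [Category.{v} C] [Category.{v} C'] [Category.{v} C'']
    [GaloisCategory C] [GaloisCategory C'] [GaloisCategory C'']
    (H : C ⥤ C') [Limits.PreservesFiniteLimits H] [Limits.PreservesFiniteColimits H]
    (H' : C' ⥤ C'') [Limits.PreservesFiniteLimits H'] [Limits.PreservesFiniteColimits H']
    (F'' : C'' ⥤ FintypeCat.{w}) [FiberFunctor F''] [FiberFunctor (H' ⋙ F'')] [FiberFunctor (H ⋙ (H' ⋙ F''))] :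
    (Function.Surjective (Pi1X.autWhisker H (H' ⋙ F'')) ∧
      (∀ σ : Aut F'', Pi1X.autWhisker H (H' ⋙ F'') (Pi1X.autWhisker H' F'' σ) = 1) ∧
      (Pi1X.autWhisker H (H' ⋙ F'')).ker = (Subgroup.normalClosure (Set.range (Pi1X.autWhisker H' F''))).topologicalClosure) ↔
    ((H.Full ∧ H.Faithful) ∧
      ∀ X' : C', (∃ X : C, Nonempty (H.obj X ≅ X')) ↔ ∃ n : ℕ, Nonempty (H'.obj X' ≅ ∐ fun _ : Fin n => ⊤_ C'')) := by
  exact Groth.Agent.H18Et.GalExact.exact_iff H H' F''

end Groth.Agent.S1190
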