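-- statement FlatMor.GrothFrozen.S1191 (Groth/Statements/S1191.lean; the theorem FlatMor.exists_nonmem_mem_assoc_fiber_not_le);
import Groth.Statements.S1191
import Mathlib.RingTheory.Ideal.AssociatedPrime.Finiteness
import Mathlib.RingTheory.FiniteStability

set_option autoImplicit false
universe u
open FlatMor

namespace Groth.Agent.S1191
attribute [local instance] Algebra.TensorProduct.rightAlgebra
set_option backward.isDefEq.respectTransparency false

open TensorProduct in
/-- For a finitely presented algebra S over R, a finitely presented S-module N and a prime q of S over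
p, some element of S outside q maps into every associated prime of the fibre module of N over p that
is not contained in the extension of q to the fibre ring. -/
theorem result {R S : Type u} [CommRing R] [CommRing S] [Algebra R S] [Algebra.FinitePresentation R S]
    (N : Type u) [AddCommGroup N] [Module S N] [Module R N] [IsScalarTower R S N] [Module.FinitePresentation S N]
    (p : Ideal R) [p.IsPrime] (q : Ideal S) [q.IsPrime] [q.LiesOver p] :
    ∃ g : S, g ∉ q ∧ ∀ r ∈ associatedPrimes (p.Fiber S) (FlatCA.fiberMod p S N),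
      ¬ r ≤ FlatCA.fiberIdeal p q → (1 : p.ResidueField) ⊗ₜ[R] g ∈ r := by
  classical
  haveI : IsNoetherianRing (p.Fiber S) := Algebra.FiniteType.isNoetherianRing p.ResidueField _
  haveI : Module.Finite S N := inferInstance
  haveI : Module.Finite (p.Fiber S) (FlatCA.fiberMod p S N) :=
    inferInstanceAs (Module.Finite (p.Fiber S) ((p.Fiber S) ⊗[S] N))
  set Q := FlatCA.fiberIdeal p q
  let T := (associatedPrimes.finite (p.Fiber S) (FlatCA.fiberMod p S N)).toFinset.filter fun r => ¬ r ≤ Q
  -- `1 ⊗ s` detects membership in prime ideals of the fibre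
  have key : ∀ r : Ideal (p.Fiber S), r.IsPrime → ¬ r ≤ Q →
      ∃ g : S, g ∉ q ∧ (1 : p.ResidueField) ⊗ₜ[R] g ∈ r := by
    intro r hr hle
    obtain ⟨x, hxr, hxQ⟩ := SetLike.not_le_iff_exists.mp hle
    obtain ⟨a, ha, s, hs⟩ := Ideal.Fiber.exists_smul_eq_one_tmul p x
    refine ⟨s, fun hsq => hxQ ?_, ?_⟩
    · have h1 : (1 : p.ResidueField) ⊗ₜ[R] s ∈ Q := Ideal.mem_map_of_mem _ hsq
      have hu : IsUnit (algebraMap R (p.Fiber S) a) := by
        rw [IsScalarTower.algebraMap_apply R p.ResidueField (p.Fiber S)]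
        exact (IsUnit.mk0 _ (mt Ideal.algebraMap_residueField_eq_zero.mp ha)).map _
      rw [← hs, Algebra.smul_def] at h1
      exact (Ideal.unit_mul_mem_iff_mem Q hu).mp h1
    · rw [← hs, Algebra.smul_def]
      exact r.mul_mem_left _ hxr
  choose g hgq hgr using fun r : T => key r.1
    ((Set.Finite.mem_toFinset _).mp (Finset.mem_filter.mp r.2).1).isPrime (Finset.mem_filter.mp r.2).2
  refine ⟨∏ r : T, g r, fun h => ?_, fun r hr hle => ?_⟩
  · obtain ⟨r, -, hr⟩ := (Ideal.IsPrime.prod_mem_iff).mp h
    exact hgq r hr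
  · have hrT : r ∈ T := Finset.mem_filter.mpr ⟨(Set.Finite.mem_toFinset _).mpr hr, hle⟩
    have e : (1 : p.ResidueField) ⊗ₜ[R] (∏ r : T, g r) =
        ∏ r : T, ((1 : p.ResidueField) ⊗ₜ[R] g r : p.Fiber S) :=
      map_prod (Algebra.TensorProduct.includeRight : S →ₐ[R] p.Fiber S) g _
    rw [e, ← Finset.mul_prod_erase Finset.univ _ (Finset.mem_univ ⟨r, hrT⟩)]
    exact r.mul_mem_right _ (hgr ⟨r, hrT⟩)

end Groth.Agent.S1191
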