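-- statement FlatMor.GrothFrozen.S1193 (Groth/Statements/S1193.lean; the theorem FlatMor.primes_localization_nzd_closed_fiber);
import Groth.Statements.S1193
import Groth.Agent.H02CA.FibreAss

set_option autoImplicit false
universe u
open FlatMor

namespace Groth.Agent.S1193

open IsLocalRing in
/-- Let R be a local ring, S an R-algebra whose closed fibre ring is Noetherian and N an S-module whose
closed fibre module N/𝔪N is finite. Let Σ be the set of elements of S acting injectively on N/𝔪N.
Then a prime of S is disjoint from Σ exactly when it lies inside an associated prime of N/𝔪N (the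
primes of the localization at Σ), the localization of S at Σ has finitely many maximal ideals, and
an ideal of that localization is maximal exactly when it is prime and contracts to a maximal member
of the set of associated primes of N/𝔪N. -/
theorem result {R S : Type u} [CommRing R] [IsLocalRing R] [CommRing S] [Algebra R S]
    (N : Type u) [AddCommGroup N] [Module S N] [Module R N] [IsScalarTower R S N]
    [IsNoetherianRing ((maximalIdeal R).Fiber S)]
    [Module.Finite ((maximalIdeal R).Fiber S) (FlatCA.fiberMod (maximalIdeal R) S N)] :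
    (∀ (q : Ideal S) [q.IsPrime], Disjoint (q : Set S) (FlatCA.nzdFiber R S N) ↔
        ∃ q' ∈ associatedPrimes S (FlatCA.fiberMod (maximalIdeal R) S N), q ≤ q') ∧
    {Q : Ideal (Localization (FlatCA.nzdFiber R S N)) | Q.IsMaximal}.Finite ∧
    (∀ Q : Ideal (Localization (FlatCA.nzdFiber R S N)), Q.IsMaximal ↔ (Q.IsPrime ∧
        Maximal (fun r => r ∈ associatedPrimes S (FlatCA.fiberMod (maximalIdeal R) S N))
          (Q.comap (algebraMap S (Localization (FlatCA.nzdFiber R S N)))))) := by
  classical
  set p := maximalIdeal R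
  let F := p.Fiber S
  let M := FlatCA.fiberMod p S N
  let φ : S →+* F :=
    (Algebra.TensorProduct.includeRight (R := R) (A := p.ResidueField) (B := S)).toRingHom
  have hsm : ∀ (s : S) (x : M), s • x = φ s • x := fun s x =>
    Groth.Agent.H02CA.FibreAss.fiber_smul p s x
  have hφ : Function.Surjective φ :=
    Algebra.TensorProduct.includeRight_surjective _ p.algebraMap_residueField_surjective
  have hann : ∀ x : M, (⊥ : Submodule S M).colon {x} = ((⊥ : Submodule F M).colon {x}).comap φ := by
    intro x
    ext s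
    simp only [Ideal.mem_comap, Submodule.mem_colon_singleton, Submodule.mem_bot, hsm]
  have hass : associatedPrimes S M = Ideal.comap φ '' associatedPrimes F M := by
    ext P
    constructor
    · rintro ⟨hP, x, hx⟩
      refine ⟨((⊥ : Submodule F M).colon {x}).radical, ⟨?_, x, rfl⟩, ?_⟩
      · have : ((⊥ : Submodule F M).colon {x}).radical = P.map φ := by
          rw [hx, hann, ← Ideal.comap_radical, Ideal.map_comap_of_surjective φ hφ]
        rw [this]
        refine Ideal.map_isPrime_of_surjective (H := hP) hφ ?_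
        rw [hx, hann, ← Ideal.comap_radical]
        exact fun a ha => by rw [Ideal.mem_comap, RingHom.mem_ker.mp ha]; exact zero_mem _
      · rw [hx, hann, ← Ideal.comap_radical]
    · rintro ⟨Q, ⟨hQ, x, rfl⟩, rfl⟩
      exact ⟨Ideal.comap_isPrime φ _, x, by rw [hann, ← Ideal.comap_radical]⟩
  have hfin : (associatedPrimes F M).Finite := associatedPrimes.finite F M
  have hzd : ∀ s : S, s ∉ FlatCA.nzdFiber R S N ↔ ∃ Q ∈ associatedPrimes F M, φ s ∈ Q := by
    intro s
    have h := Set.ext_iff.mp (biUnion_associatedPrimes_eq_zero_divisors F M) (φ s)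
    simp only [Set.mem_iUnion, SetLike.mem_coe, Set.mem_ofPred_eq, exists_prop] at h
    rw [h, mem_nonZeroSMulDivisors_iff]
    push Not
    exact ⟨fun ⟨m, h1, h2⟩ => ⟨m, h2, (hsm s m).symm.trans h1⟩,
      fun ⟨m, h1, h2⟩ => ⟨m, (hsm s m).trans h2, h1⟩⟩
  have hmem : ∀ q' ∈ associatedPrimes S M, Disjoint (q' : Set S) (FlatCA.nzdFiber R S N) := by
    intro q' hq'
    rw [hass] at hq'
    obtain ⟨Q, hQ, rfl⟩ := hq'
    exact Set.disjoint_left.mpr fun s hs hs' => (hzd s).mpr ⟨Q, hQ, hs⟩ hs'
  have h1 : ∀ (q : Ideal S) [q.IsPrime], Disjoint (q : Set S) (FlatCA.nzdFiber R S N) ↔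
        ∃ q' ∈ associatedPrimes S M, q ≤ q' := by
    intro q hq
    constructor
    · intro hd
      have hsub : (q : Set S) ⊆ ⋃ Q ∈ (hfin.toFinset : Set (Ideal F)), (Q.comap φ : Set S) := by
        intro s hs
        obtain ⟨Q, hQ, hsQ⟩ := (hzd s).mp (Set.disjoint_left.mp hd hs)
        exact Set.mem_biUnion (by simpa using hQ) hsQ
      obtain ⟨Q, hQ, hle⟩ := (Ideal.subset_union_prime (f := fun Q : Ideal F => Q.comap φ) ⊤ ⊤
        (fun Q hQ _ _ => by
          have : Q.IsPrime := (hfin.mem_toFinset.mp hQ).1
          exact Ideal.comap_isPrime φ Q)).mp hsub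
      exact ⟨Q.comap φ, hass ▸ ⟨Q, hfin.mem_toFinset.mp hQ, rfl⟩, hle⟩
    · rintro ⟨q', hq', hle⟩
      exact (hmem q' hq').mono_left hle
  let L := Localization (FlatCA.nzdFiber R S N)
  have hmax : ∀ Q : Ideal L, Q.IsMaximal ↔ (Q.IsPrime ∧
        Maximal (fun r => r ∈ associatedPrimes S M) (Q.comap (algebraMap S L))) := by
    intro Q
    constructor
    · intro hQ
      have hp := hQ.isPrime
      refine ⟨hp, ?_⟩
      obtain ⟨hpr, hdis⟩ := (IsLocalization.isPrime_iff_isPrime_disjoint (FlatCA.nzdFiber R S N) L Q).mp hp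
      have := hpr
      obtain ⟨q', hq', hle⟩ := (h1 (Q.comap (algebraMap S L))).mp hdis.symm
      have hup : ∀ r ∈ associatedPrimes S M, Q.comap (algebraMap S L) ≤ r →
          r ≤ Q.comap (algebraMap S L) := by
        intro r hr hle'
        have : r.IsPrime := hr.1
        have hr' := IsLocalization.isPrime_of_isPrime_disjoint (FlatCA.nzdFiber R S N) L r
          inferInstance (hmem r hr).symm
        have hc := IsLocalization.comap_map_of_isPrime_disjoint (FlatCA.nzdFiber R S N) L
          inferInstance (hmem r hr).symm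
        have hQle : Q ≤ r.map (algebraMap S L) := by
          rw [← IsLocalization.map_comap (FlatCA.nzdFiber R S N) L Q]
          exact Ideal.map_mono hle'
        rw [hQ.eq_of_le hr'.ne_top hQle]
        exact hc.ge
      have heq : Q.comap (algebraMap S L) = q' := le_antisymm hle (hup q' hq' hle)
      refine ⟨heq ▸ hq', fun r hr hle' => hup r hr hle'⟩
    · rintro ⟨hp, hm, hmaxl⟩
      obtain ⟨J, hJ, hle⟩ := Ideal.exists_le_maximal Q hp.ne_top
      obtain ⟨hpr, hdis⟩ := (IsLocalization.isPrime_iff_isPrime_disjoint (FlatCA.nzdFiber R S N) L J).mp hJ.isPrime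
      have := hpr
      obtain ⟨q', hq', hle'⟩ := (h1 (J.comap (algebraMap S L))).mp hdis.symm
      have hJQ : J ≤ Q := by
        rw [← IsLocalization.map_comap (FlatCA.nzdFiber R S N) L J,
          ← IsLocalization.map_comap (FlatCA.nzdFiber R S N) L Q]
        exact Ideal.map_mono (hle'.trans (hmaxl hq' ((Ideal.comap_mono hle).trans hle')))
      rwa [le_antisymm hle hJQ]
  refine ⟨h1, ?_, hmax⟩
  refine Set.Finite.subset (Set.Finite.image (fun P : Ideal S => P.map (algebraMap S L))
    (hass ▸ hfin.image (Ideal.comap φ) : (associatedPrimes S M).Finite)) ?_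
  intro Q hQ
  exact ⟨_, ((hmax Q).mp hQ).2.1, IsLocalization.map_comap (FlatCA.nzdFiber R S N) L Q⟩

end Groth.Agent.S1193
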