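-- statement FlatMor.GrothFrozen.S1196 (Groth/Statements/S1196.lean; the theorem FlatMor.univInj_baseChange_of_flat_covering_assoc_closed_fiber);
import Groth.Statements.S1196
import Groth.Agent.H7Flat.ClosedFibreRegular

set_option autoImplicit false
universe u
open FlatMor

namespace Groth.Agent.S1196

open TensorProduct IsLocalRing in
/-- Let R → S be a local homomorphism of local rings, essentially of finite presentation, N a finitely
presented S-module flat over R, and S' a flat S-algebra such that every prime of S which is an
associated prime of N/𝔪_R N is the contraction of a prime of S'. Then N → S' ⊗_S N is universally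
injective as a map of R-modules. -/
theorem result {R S S' : Type u} [CommRing R] [IsLocalRing R] [CommRing S] [IsLocalRing S] [CommRing S'] [Algebra R S] [IsLocalHom (algebraMap R S)] [Algebra S S'] [Algebra R S'] [IsScalarTower R S S']
    (hS : FlatCA.EssFinitePresentation R S) [Module.Flat S S']
    (N : Type u) [AddCommGroup N] [Module S N] [Module R N] [IsScalarTower R S N] [Module.FinitePresentation S N] [Module.Flat R N]
    (h : ∀ q ∈ associatedPrimes S (FlatCA.fiberMod (maximalIdeal R) S N),
      ∃ q' : Ideal S', q'.IsPrime ∧ q'.comap (algebraMap S S') = q) :
    FlatCA.UnivInj R ((TensorProduct.mk S S' N 1).restrictScalars R) := by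
  exact H7Flat.ClosedFibreRegular.univInj_of_cover_closed hS h

end Groth.Agent.S1196
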