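-- statement FlatMor.GrothFrozen.S1200 (Groth/Statements/S1200.lean; the theorem FlatMor.univInj_toAdicCompletion_of_flat_assoc_fibers_meet);
import Groth.Statements.S1200
import Groth.Agent.H7Flat.CompletionUnivInj
import Groth.Agent.H7Flat.ImpurityDescend

set_option autoImplicit false
universe u
open FlatMor

namespace Groth.Agent.S1200
open scoped TensorProduct
attribute [local instance] Algebra.TensorProduct.rightAlgebra
set_option backward.isDefEq.respectTransparency false

/-- Let R → S be a map of Noetherian rings, I an ideal of R and N a finite S-module which is flat over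
R. Assume that for every prime q of S, over p in R, whose extension to the fibre ring over p is an
associated prime of the fibre module of N, the ideal IS + q is proper. Then the canonical map from N
to its I-adic completion is universally injective as a map of R-modules. -/
theorem result {R S : Type u} [CommRing R] [CommRing S] [Algebra R S] [IsNoetherianRing R] [IsNoetherianRing S] (I : Ideal R)
    (N : Type u) [AddCommGroup N] [Module S N] [Module R N] [IsScalarTower R S N] [Module.Finite S N] [Module.Flat R N]
    (h : ∀ (p : Ideal R) (q : Ideal S) [p.IsPrime] [q.IsPrime] [q.LiesOver p],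
      FlatCA.fiberIdeal p q ∈ associatedPrimes (p.Fiber S) (FlatCA.fiberMod p S N) → I.map (algebraMap R S) ⊔ q ≠ ⊤) :
    FlatCA.UnivInj R (AdicCompletion.of I N) := by
  refine H7Flat.CompletionUnivInj.univInj_of_assoc_meet (S := S) I N fun Q _ _ _ q hq => ?_
  obtain ⟨hqp, x, hx⟩ := isAssociatedPrime_iff.mp hq
  have hq' : q ∈ FlatCA.ass S (N ⊗[R] Q) := ⟨hqp, x, by
    rw [hx]; ext a; rw [Submodule.mem_colon_singleton, Submodule.mem_annihilator_span_singleton,
      Submodule.mem_bot]⟩
  let p := q.comap (algebraMap R S)
  have : q.LiesOver p := ⟨rfl⟩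
  have h1 := H02CA.FibreAss.ass_fiber_of_ass_quot (R := R) p q rfl
    (H02CA.FibreAss.ass_tensor_finite q hq')
  obtain ⟨P, ⟨hPp, y, hy⟩, hPq⟩ := (H02CA.FibreAss.ass_fiber_iff p q).mp h1
  refine h p q ?_
  have hP : FlatCA.fiberIdeal p q = P := by
    refine (congrArg (FlatCA.fiberIdeal p) hPq.symm).trans ?_
    exact H7Flat.ImpurityDescend.fiberIdeal_comap p P
  rw [hP]
  refine ⟨hPp, y, ?_⟩
  rw [← hPp.radical, hy]
  congr 1
  ext a
  rw [Submodule.mem_colon_singleton, Submodule.mem_annihilator_span_singleton, Submodule.mem_bot]

end Groth.Agent.S1200
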