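-- statement FlatMor.GrothFrozen.S1201 (Groth/Statements/S1201.lean; the theorem FlatMor.flatAt_iff_flatAt_assoc_of_fiber_below);
import Groth.Statements.S1201
import Groth.Agent.H7Flat.FlatAtAssoc
import Groth.Agent.H06EGA11.BaseChange

set_option autoImplicit false
universe u
open FlatMor

namespace Groth.Agent.S1201

/-- Ring form: X = Spec S, S = Spec R: for a finite type R-algebra S, a finite S-module N and a prime q
of S lying over p, the localization N_q is flat over R if and only if N_{q'} is flat over R for
every prime q' ⊆ q lying over p whose extension to the fibre ring over p is an associated prime of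
the fibre module of N (the associated points of the fibre which specialize to q). -/
theorem result {R S : Type u} [CommRing R] [CommRing S] [Algebra R S] [Algebra.FiniteType R S]
    (N : Type u) [AddCommGroup N] [Module S N] [Module R N] [IsScalarTower R S N] [Module.Finite S N]
    (p : Ideal R) [p.IsPrime] (q : Ideal S) [q.IsPrime] [q.LiesOver p] :
    FlatCA.FlatAt R q N ↔ ∀ (q' : Ideal S) [q'.IsPrime], q' ≤ q → q'.LiesOver p →
      FlatCA.fiberIdeal p q' ∈ associatedPrimes (p.Fiber S) (FlatCA.fiberMod p S N) → FlatCA.FlatAt R q' N := by
  refine ⟨fun h q' _ hq' _ _ => ?_, fun h => H7Flat.FlatAtAssoc.flatAt_of_assoc N p q h⟩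
  have : Module.Flat R (LocalizedModule q.primeCompl N) := h
  exact H06EGA11.flat_localizedModule_of_le q.primeCompl q'.primeCompl fun x hx hxq => hx (hq' hxq)

end Groth.Agent.S1201
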