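import Groth.Statements.S4344
import Mathlib.AlgebraicGeometry.Birational.RationalMap
import Mathlib.AlgebraicGeometry.PullbackCarrier

set_option autoImplicit false
universe u
open RatMapD

namespace Groth.Agent.S4344

open AlgebraicGeometry in
open CategoryTheory in
/-- Let X be a reduced S-scheme, Y an S-scheme separated over S and f an S-rational map from X to Y.
There is a representative g of f which is an S-morphism and of which every S-morphism representing f
is a restriction; in particular g is the unique S-morphism of the class of f defined on the largest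
open where some S-representative is defined. (The published statement speaks of the domain of
definition among all representatives; over a base that is not separated that domain can be larger
than the one on which an S-representative exists, and this row takes the latter.) -/
theorem result
    (S X Y : Scheme.{u}) [X.Over S] [Y.Over S] [IsReduced X] [IsSeparated (Y ↘ S)]
    (f : X ⤏ Y) [f.IsOver S] :
    ∃ g : X.PartialMap Y, g.IsOver S ∧ g.toRationalMap = f ∧
      ∀ h : X.PartialMap Y, h.IsOver S → h.toRationalMap = f →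
        ∃ hle : h.domain ≤ g.domain, h = g.restrict h.domain h.dense_domain hle := by
  let I := { g : X.PartialMap Y // g.IsOver S ∧ g.toRationalMap = f }
  have : ∀ g : I, g.1.IsOver S := fun g => g.2.1
  obtain ⟨g₀, hg₀, hf₀⟩ := f.exists_partialMap_over S
  let D : X.Opens := ⨆ g : I, g.1.domain
  have hle : ∀ g : I, g.1.domain ≤ D := le_iSup fun g : I => g.1.domain
  have hD : Dense (D : Set X) := g₀.dense_domain.mono (hle ⟨g₀, hg₀, hf₀⟩)
  let cov : D.toScheme.OpenCover :=
    { I₀ := I
      X := fun g => g.1.domain.toScheme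
      f := fun g => X.homOfLE (hle g)
      mem₀ := by
        rw [Scheme.presieve₀_mem_precoverage_iff]
        refine ⟨fun x => ?_, inferInstance⟩
        obtain ⟨g, hg⟩ := TopologicalSpace.Opens.mem_iSup.mp x.2
        exact ⟨g, ⟨⟨x.1, hg⟩, Subtype.ext (by simp)⟩⟩ }
  have hcomp : ∀ a b : I, CategoryTheory.Limits.pullback.fst (cov.f a) (cov.f b) ≫ a.1.hom =
      CategoryTheory.Limits.pullback.snd (cov.f a) (cov.f b) ≫ b.1.hom := by
    intro a b
    refine (cancel_epi (isPullback_opens_inf_le (hle a) (hle b)).isoPullback.hom).mp ?_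
    simp only [cov, IsPullback.isoPullback_hom_fst_assoc, IsPullback.isoPullback_hom_snd_assoc]
    exact (Scheme.PartialMap.equiv_iff_of_isSeparated (S := S) (f := a.1) (g := b.1)).mp
      (Scheme.PartialMap.toRationalMap_eq_iff.mp (a.2.2.trans b.2.2.symm))
  let m : D.toScheme ⟶ Y := cov.glueMorphisms (fun g => g.1.hom) hcomp
  have hm : ∀ g : I, X.homOfLE (hle g) ≫ m = g.1.hom := fun g => cov.ι_glueMorphisms _ hcomp g
  let G : X.PartialMap Y := ⟨D, hD, m⟩
  have hG : ∀ g : I, g.1 = G.restrict g.1.domain g.1.dense_domain (hle g) := fun g =>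
    Scheme.PartialMap.ext _ _ rfl (by
      show g.1.hom = (X.isoOfEq (rfl : g.1.domain = g.1.domain)).hom ≫ X.homOfLE (hle g) ≫ m
      rw [hm, Scheme.isoOfEq_rfl, Iso.refl_hom, Category.id_comp])
  refine ⟨G, ?_, ?_, fun h h1 h2 => ⟨hle ⟨h, h1, h2⟩, hG ⟨h, h1, h2⟩⟩⟩
  · rw [Scheme.PartialMap.isOver_iff]
    show m ≫ (Y ↘ S) = D.ι ≫ (X ↘ S)
    refine cov.hom_ext _ _ fun g => ?_
    show X.homOfLE (hle g) ≫ m ≫ (Y ↘ S) = X.homOfLE (hle g) ≫ D.ι ≫ (X ↘ S)
    rw [← Category.assoc, hm, Scheme.homOfLE_ι_assoc]
    exact Scheme.PartialMap.isOver_iff.mp g.2.1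
  · rw [← hf₀, ← Scheme.PartialMap.restrict_toRationalMap G g₀.domain g₀.dense_domain (hle ⟨g₀, hg₀, hf₀⟩),
      ← hG ⟨g₀, hg₀, hf₀⟩]

end Groth.Agent.S4344
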