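-- statement FlatMor.GrothFrozen.S1203 (Groth/Statements/S1203.lean; the theorem FlatMor.projective_of_flat_over_adicComplete_of_fibers);
import Groth.Statements.S1203
import Groth.Agent.H7Flat.CompletionML
import Groth.Agent.S1200
import Groth.Agent.H1CAlg.CountableML

set_option autoImplicit false
universe u
open FlatMor

namespace Groth.Agent.S1203

/-- Let R be a Noetherian ring complete with respect to an ideal I, S a finite type R-algebra and N a
finite S-module which is flat over R, such that N/IN is a projective R/I-module and such that for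
every prime q of S, over p in R, whose extension to the fibre ring over p is an associated prime of
the fibre module of N, the ideal IS + q is proper. Then N is a projective R-module. -/
theorem result {R S : Type u} [CommRing R] [CommRing S] [Algebra R S] [IsNoetherianRing R] (I : Ideal R) [IsAdicComplete I R]
    [Algebra.FiniteType R S]
    (N : Type u) [AddCommGroup N] [Module S N] [Module R N] [IsScalarTower R S N] [Module.Finite S N] [Module.Flat R N]
    [Module.Projective (R ⧸ I) (N ⧸ (I • ⊤ : Submodule R N))]
    (h : ∀ (p : Ideal R) (q : Ideal S) [p.IsPrime] [q.IsPrime] [q.LiesOver p],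
      FlatCA.fiberIdeal p q ∈ associatedPrimes (p.Fiber S) (FlatCA.fiberMod p S N) → I.map (algebraMap R S) ⊔ q ≠ ⊤) :
    Module.Projective R N := by
  have : IsNoetherianRing S := Algebra.FiniteType.isNoetherianRing R S
  obtain ⟨-, hML⟩ := H7Flat.CompletionML.flat_and_mittagLeffler_of_quotient_projective I N
  have hu : FlatCA.UnivInj R (AdicCompletion.of I N) := S1200.result I N h
  have hN : CAlg.IsMittagLeffler R N := by
    refine H1CAlg.isMittagLeffler_of_universallyInjective (AdicCompletion.of I N) (fun Q _ _ => ?_) hML
    rw [← LinearMap.lTensor_inj_iff_rTensor_inj]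
    exact hu Q
  refine H1CAlg.projective_of_countablyGenerated hN ?_
  obtain ⟨n, π, hπ⟩ := Algebra.FiniteType.iff_quotient_mvPolynomial''.mp ‹Algebra.FiniteType R S›
  obtain ⟨k, g, hg⟩ := Module.Finite.exists_fin (R := S) (M := N)
  refine ⟨Set.range fun x : (Fin n →₀ ℕ) × Fin k => π (MvPolynomial.monomial x.1 1) • g x.2,
    Set.countable_range _, Submodule.eq_top_iff'.mpr fun y => ?_⟩
  obtain ⟨c, rfl⟩ := (Submodule.mem_span_range_iff_exists_fun S).mp (hg ▸ Submodule.mem_top (x := y))
  refine Submodule.sum_mem _ fun i _ => ?_
  obtain ⟨P, hP⟩ := hπ (c i)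
  rw [← hP, MvPolynomial.as_sum P, map_sum, Finset.sum_smul]
  refine Submodule.sum_mem _ fun m _ => ?_
  rw [show MvPolynomial.monomial m (P.coeff m) = P.coeff m • MvPolynomial.monomial m 1 by
    rw [MvPolynomial.smul_monomial, smul_eq_mul, mul_one], map_smul, smul_assoc]
  exact Submodule.smul_mem _ _ (Submodule.subset_span ⟨(m, i), rfl⟩)

end Groth.Agent.S1203
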