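-- statement FlatMor.GrothFrozen.S1205 (Groth/Statements/S1205.lean; the theorem FlatMor.tfae_flatAt_of_fiber_basis);
import Groth.Statements.S1205
import Groth.Agent.H7Flat.FiberBasis
import Groth.Agent.H7Flat.DevissageLoc

set_option autoImplicit false
universe u
open FlatMor

namespace Groth.Agent.S1205

open TensorProduct in
/-- Let S be a finitely presented flat R-algebra with geometrically integral fibres, q a prime of S over
the prime 𝔯 of R, so that 𝔭 = 𝔯S is a prime of S, and N a finitely presented S-module. Then there is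
an S-linear map α from a finite free module S^r to N inducing a bijection after base change to κ(𝔭);
and for any such α the following are equivalent: N_q is flat over R; for some f ∈ R outside 𝔯 the
localization α_f is universally injective over R and for some g ∈ S outside q the localization of
the cokernel at g is flat over R; α localized at (the image of) 𝔯 is universally injective over R
and the cokernel is flat over R at q; α localized at 𝔯 is injective and the cokernel is flat at q; α
localized at 𝔭 is bijective and the cokernel is flat at q; α localized at q is injective and the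
cokernel is flat at q. (Universal injectivity over R_f or R_𝔯 of a map of modules over these
localizations is the same as over R, which is how it is written.) -/
theorem result {R S : Type u} [CommRing R] [CommRing S] [Algebra R S] [Algebra.FinitePresentation R S] [Module.Flat R S]
    (hgi : FlatCA.GeomIntegralFibres R S) (rr : Ideal R) [rr.IsPrime] [(rr.map (algebraMap R S)).IsPrime]
    (q : Ideal S) [q.IsPrime] [q.LiesOver rr]
    (N : Type u) [AddCommGroup N] [Module S N] [Module R N] [IsScalarTower R S N] [Module.FinitePresentation S N] :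
    (∃ (r : ℕ) (α : (Fin r → S) →ₗ[S] N), Function.Bijective (α.baseChange (rr.map (algebraMap R S)).ResidueField)) ∧
    ∀ (r : ℕ) (α : (Fin r → S) →ₗ[S] N), Function.Bijective (α.baseChange (rr.map (algebraMap R S)).ResidueField) →
      [FlatCA.FlatAt R q N,
       (∃ f : R, f ∉ rr ∧ FlatCA.UnivInj R ((LocalizedModule.map (Submonoid.powers (algebraMap R S f)) α).restrictScalars R)) ∧
         (∃ g : S, g ∉ q ∧ Module.Flat R (LocalizedModule (Submonoid.powers g) (N ⧸ LinearMap.range α))),
       FlatCA.UnivInj R ((LocalizedModule.map (Algebra.algebraMapSubmonoid S rr.primeCompl) α).restrictScalars R) ∧ FlatCA.FlatAt R q (N ⧸ LinearMap.range α),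
       Function.Injective (LocalizedModule.map (Algebra.algebraMapSubmonoid S rr.primeCompl) α) ∧ FlatCA.FlatAt R q (N ⧸ LinearMap.range α),
       Function.Bijective (LocalizedModule.map (rr.map (algebraMap R S)).primeCompl α) ∧ FlatCA.FlatAt R q (N ⧸ LinearMap.range α),
       Function.Injective (LocalizedModule.map q.primeCompl α) ∧ FlatCA.FlatAt R q (N ⧸ LinearMap.range α)].TFAE := by
  classical
  let P := rr.map (algebraMap R S)
  refine ⟨Groth.Agent.H7Flat.FiberBasis.exists_basis P, fun r α hα => ?_⟩
  have hqr : q.comap (algebraMap R S) = rr := (Ideal.LiesOver.over (p := rr) (P := q)).symm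
  have hPq : P ≤ q := Ideal.map_le_iff_le_comap.mpr hqr.ge
  let T₀ := Algebra.algebraMapSubmonoid S rr.primeCompl
  have hT₀q : T₀ ≤ q.primeCompl := by
    rintro _ ⟨x, hx, rfl⟩ h
    exact hx (hqr ▸ Ideal.mem_comap.mpr h)
  haveI : Module.Flat R (Fin r → S) := Module.Flat.trans R S (Fin r → S)
  haveI : Module.FinitePresentation S (N ⧸ LinearMap.range α) :=
    Module.finitePresentation_of_surjective (LinearMap.range α).mkQ (LinearMap.range α).mkQ_surjective
      (by rw [Submodule.ker_mkQ, LinearMap.range_eq_map]; exact Module.Finite.fg_top.map α)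
  have hmono : ∀ T : Submonoid S, T ≤ q.primeCompl → Function.Injective (LocalizedModule.map T α) →
      Function.Injective (LocalizedModule.map q.primeCompl α) := fun T hT h => by
    rw [Groth.Agent.H7Flat.FiberBasis.injective_map_iff] at h ⊢
    intro x hx
    obtain ⟨t, ht, htx⟩ := h x hx
    exact ⟨t, hT ht, htx⟩
  tfae_have 1 → 3 := fun hN => by
    have hk := Groth.Agent.H7Flat.FiberBasis.kills_of_flatAt rr q α hα.1 hN
    refine ⟨(Groth.Agent.H7Flat.FiberBasis.univInj_iff T₀ α).mpr
      (Groth.Agent.H7Flat.FiberBasis.kills_of_kills hgi T₀ q.primeCompl (fun p hp _ hpc hd => ?_) α hk),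
      Groth.Agent.H7Flat.FiberBasis.flatAt_coker q α hN hk⟩
    refine Set.disjoint_left.mpr fun x hx h => hx (hPq (Ideal.map_mono (fun y hy => ?_) h))
    by_contra hyr
    exact Set.disjoint_left.mp hd ⟨y, hyr, rfl⟩ (Ideal.mem_map_of_mem _ hy)
  tfae_have 1 → 2 := fun hN => by
    have hk := Groth.Agent.H7Flat.FiberBasis.kills_of_flatAt rr q α hα.1 hN
    have hC := Groth.Agent.H7Flat.FiberBasis.flatAt_coker q α hN hk
    have ho := (Groth.Agent.H8Props.FlatLocus.isOpen_setOf_flat_localizedModule R S N).inter
      (Groth.Agent.H8Props.FlatLocus.isOpen_setOf_flat_localizedModule R S (N ⧸ LinearMap.range α))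
    obtain ⟨_, ⟨_, ⟨g₀, rfl⟩, rfl⟩, hg₀, hle⟩ :=
      PrimeSpectrum.isBasis_basic_opens.exists_subset_of_mem_open
        (a := (⟨q, inferInstance⟩ : PrimeSpectrum S)) (by exact ⟨hN, hC⟩) ho
    let G := LocalizedModule (Submonoid.powers g₀) N
    let M := LocalizedModule (Submonoid.powers g₀) (N ⧸ LinearMap.range α)
    let B := Localization.Away g₀
    haveI : Algebra.FinitePresentation S B := IsLocalization.Away.finitePresentation g₀
    haveI : Algebra.FinitePresentation R B := Algebra.FinitePresentation.trans R S B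
    haveI : Module.FinitePresentation B G :=
      Module.FinitePresentation.of_equiv (IsLocalizedModule.isBaseChange (Submonoid.powers g₀) B
        (LocalizedModule.mkLinearMap (Submonoid.powers g₀) N)).equiv
    haveI : Module.FinitePresentation B M :=
      Module.FinitePresentation.of_equiv (IsLocalizedModule.isBaseChange (Submonoid.powers g₀) B
        (LocalizedModule.mkLinearMap (Submonoid.powers g₀) (N ⧸ LinearMap.range α))).equiv
    haveI : Module.Flat R M :=
      (Groth.Agent.H7Flat.DevissageLoc.flat_away_iff g₀ _).mpr fun Q hQ hg => (hle (show (⟨Q, hQ⟩ : PrimeSpectrum S) ∈ PrimeSpectrum.basicOpen g₀ from hg)).2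
    let π := LocalizedModule.map (Submonoid.powers g₀) (LinearMap.range α).mkQ
    let v := LocalizedModule.map (Submonoid.powers g₀) α
    have hfp : Module.FinitePresentation B (LinearMap.ker π) :=
      Groth.Agent.H06EGA11.finitePresentation_ker (A := R) π
        (LocalizedModule.map_surjective _ _ (LinearMap.range α).mkQ_surjective)
    have hex : Function.Exact v π :=
      LocalizedModule.map_exact (Submonoid.powers g₀) α _ (LinearMap.exact_map_mkQ_range α)
    haveI : Module.FinitePresentation B (LinearMap.range v) :=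
      Module.FinitePresentation.of_equiv (LinearEquiv.ofEq _ _ (LinearMap.exact_iff.mp hex))
    haveI : Module.Finite B (LocalizedModule (Submonoid.powers g₀) (Fin r → S)) :=
      Module.Finite.equiv (IsLocalizedModule.isBaseChange (Submonoid.powers g₀) B
        (LocalizedModule.mkLinearMap (Submonoid.powers g₀) (Fin r → S))).equiv
    have hfg : (LinearMap.ker v).FG := by
      rw [← LinearMap.ker_rangeRestrict]
      exact Module.FinitePresentation.fg_ker _ v.surjective_rangeRestrict
    obtain ⟨K, hK⟩ := hfg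
    have hq0 := (Groth.Agent.H7Flat.FiberBasis.injective_map_iff q.primeCompl α).mp
      (Groth.Agent.H7Flat.FiberBasis.kills_injective q.primeCompl α hk)
    have hgen : ∀ z ∈ K, ∃ c ∉ q, c • z = 0 := fun z hz => by
      have hv : v z = 0 := LinearMap.mem_ker.mp (hK ▸ Submodule.subset_span hz)
      induction z using LocalizedModule.induction_on with
      | _ m s =>
        rw [LocalizedModule.map_mk, ← LocalizedModule.zero_mk (1 : Submonoid.powers g₀), LocalizedModule.mk_eq] at hv
        obtain ⟨c, hc⟩ := hv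
        obtain ⟨d, hd, hdm⟩ := hq0 ((c : S) • m) (by simpa [map_smul, Submonoid.smul_def] using hc)
        obtain ⟨k, hk'⟩ := c.2
        refine ⟨d * c, fun h => (Ideal.IsPrime.mem_or_mem inferInstance h).elim hd
          fun h => hg₀ (Ideal.IsPrime.mem_of_pow_mem inferInstance k ((show g₀ ^ k = (c : S) from hk') ▸ h)), ?_⟩
        rw [LocalizedModule.smul'_mk, mul_smul, hdm, LocalizedModule.zero_mk]
    choose c hc hcz using hgen
    let d := ∏ z ∈ K.attach, c z.1 z.2
    have hd : d ∉ q := fun h => by
      obtain ⟨z, -, hz⟩ := Ideal.IsPrime.prod_mem_iff.mp h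
      exact hc z.1 z.2 hz
    have hkill : ∀ z ∈ LinearMap.ker v, d • z = 0 := fun z hz => by
      rw [← hK] at hz
      induction hz using Submodule.span_induction with
      | mem x hx =>
        obtain ⟨e, he⟩ := Finset.dvd_prod_of_mem (fun z : {z // z ∈ K} => c z.1 z.2) (Finset.mem_attach K ⟨x, hx⟩)
        show d • x = 0
        rw [show d = c x hx * e from he, mul_comm, mul_smul, hcz, smul_zero]
      | zero => rw [smul_zero]
      | add _ _ _ _ ha hb => rw [smul_add, ha, hb, add_zero]
      | smul b x _ hx => rw [smul_comm, hx, smul_zero]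
    let g := g₀ * d
    have hg : g ∉ q := fun h => (Ideal.IsPrime.mem_or_mem inferInstance h).elim hg₀ hd
    haveI : Module.Flat R (LocalizedModule (Submonoid.powers g) (N ⧸ LinearMap.range α)) :=
      (Groth.Agent.H7Flat.DevissageLoc.flat_away_iff g _).mpr fun Q hQ hgQ =>
        (hle (show (⟨Q, hQ⟩ : PrimeSpectrum S) ∈ PrimeSpectrum.basicOpen g₀ from
          fun h => hgQ (Ideal.mul_mem_right _ _ h))).2
    have hkg : Groth.Agent.H7Flat.FiberBasis.Kills R (Submonoid.powers g) α := by
      refine Groth.Agent.H7Flat.FiberBasis.kills_of_flat_coker _ α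
        ((Groth.Agent.H7Flat.FiberBasis.injective_map_iff _ α).mpr fun x hx => ?_)
      have h0 := hkill (LocalizedModule.mkLinearMap (Submonoid.powers g₀) (Fin r → S) x) (by
        rw [LinearMap.mem_ker, LocalizedModule.mkLinearMap_apply, LocalizedModule.map_mk, hx]
        exact LocalizedModule.zero_mk 1)
      rw [← map_smul] at h0
      obtain ⟨⟨_, k, rfl⟩, hk'⟩ := (IsLocalizedModule.eq_zero_iff (Submonoid.powers g₀) _).mp h0
      refine ⟨g ^ (k + 1), ⟨k + 1, rfl⟩, ?_⟩
      rw [show g ^ (k + 1) = (g₀ * d ^ k) * (g₀ ^ k * d) by ring, mul_smul, mul_smul (g₀ ^ k) d x,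
        show g₀ ^ k • d • x = 0 from hk', smul_zero]
    haveI : Algebra.HasGoingDown R S := inferInstance
    have ho' := PrimeSpectrum.isOpenMap_comap_of_hasGoingDown_of_finitePresentation (R := R) (S := S)
      _ (PrimeSpectrum.basicOpen g).isOpen
    have hmem : (⟨rr, inferInstance⟩ : PrimeSpectrum R) ∈
        PrimeSpectrum.comap (algebraMap R S) '' (PrimeSpectrum.basicOpen g : Set _) :=
      ⟨⟨q, inferInstance⟩, hg, PrimeSpectrum.ext hqr⟩
    obtain ⟨_, ⟨_, ⟨f, rfl⟩, rfl⟩, hf, hfle⟩ :=
      PrimeSpectrum.isBasis_basic_opens.exists_subset_of_mem_open hmem ho'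
    refine ⟨⟨f, hf, (Groth.Agent.H7Flat.FiberBasis.univInj_iff _ α).mpr
      (Groth.Agent.H7Flat.FiberBasis.kills_of_kills hgi _ (Submonoid.powers g) (fun p hp _ hpc hd => ?_) α hkg)⟩,
      g, hg, inferInstance⟩
    have hfp' : f ∉ p := fun h => Set.disjoint_left.mp hd (Submonoid.mem_powers _) (Ideal.mem_map_of_mem _ h)
    obtain ⟨Q, hgQ, hQ⟩ := hfle (show (⟨p, hp⟩ : PrimeSpectrum R) ∈ PrimeSpectrum.basicOpen f from hfp')
    refine Set.disjoint_left.mpr fun x ⟨k, hk'⟩ h => hgQ (Q.isPrime.mem_of_pow_mem k ?_)
    rw [show g ^ k = x from hk']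
    exact Ideal.map_le_iff_le_comap.mpr (congrArg PrimeSpectrum.asIdeal hQ).ge h
  tfae_have 2 → 6 := fun ⟨⟨f, hf, hu⟩, g, hg, hC⟩ => by
    refine ⟨hmono _ (Submonoid.powers_le.mpr fun h => hf (hqr ▸ Ideal.mem_comap.mpr h))
      (Groth.Agent.H7Flat.FiberBasis.kills_injective _ α
        ((Groth.Agent.H7Flat.FiberBasis.univInj_iff _ α).mp hu)), ?_⟩
    exact (Groth.Agent.H7Flat.DevissageLoc.flat_away_iff g _).mp hC q hg
  tfae_have 3 → 4 := fun ⟨h, hC⟩ =>
    ⟨Groth.Agent.H7Flat.FiberBasis.kills_injective T₀ α
      ((Groth.Agent.H7Flat.FiberBasis.univInj_iff T₀ α).mp h), hC⟩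
  tfae_have 4 → 5 := fun ⟨h, hC⟩ => by
    refine ⟨⟨?_, fun z => ?_⟩, hC⟩
    · rw [Groth.Agent.H7Flat.FiberBasis.injective_map_iff] at h ⊢
      intro x hx
      obtain ⟨t, ⟨y, hy, rfl⟩, htx⟩ := h x hx
      refine ⟨algebraMap R S y, fun h' => hy (hqr ▸ Ideal.mem_comap.mpr (hPq h')), htx⟩
    · induction z using LocalizedModule.induction_on with
      | _ n s =>
        obtain ⟨c, hc, x, hx⟩ := Groth.Agent.H7Flat.FiberBasis.exists_smul_mem_range P α hα.2 n
        refine ⟨LocalizedModule.mk x (⟨c, hc⟩ * s), ?_⟩
        rw [LocalizedModule.map_mk, hx, LocalizedModule.mk_eq]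
        exact ⟨1, by simp [Submonoid.smul_def, mul_smul, smul_comm (s : S) c]⟩
  tfae_have 5 → 6 := fun ⟨h, hC⟩ => by
    refine ⟨Groth.Agent.H7Flat.FiberBasis.injective_of_injective hgi q.primeCompl P.primeCompl
      (fun p hp _ hpc hd => ?_) α h.1, hC⟩
    refine Set.disjoint_left.mpr fun x hx hxp => hx (Ideal.map_mono (fun y hy => ?_) hxp)
    by_contra hyr
    exact Set.disjoint_left.mp hd (fun h' => hyr (hqr ▸ Ideal.mem_comap.mpr h')) (Ideal.mem_map_of_mem _ hy)
  tfae_have 6 → 1 := fun ⟨h, hC⟩ => Groth.Agent.H7Flat.FiberBasis.flatAt_of_injective q α h hC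
  tfae_finish

end Groth.Agent.S1205
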