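import Groth.Statements.S12056


set_option autoImplicit false
open Red

namespace Groth.Agent.S12056

open MvPowerSeries in
theorem coeff_substX {R : Type} [CommRing R] (i : Fin 2) (F : PowerSeries R) (e : Fin 2 →₀ ℕ) :
    MvPowerSeries.coeff e (PowerSeries.subst (MvPowerSeries.X i : MvPowerSeries (Fin 2) R) F) =
      if e = Finsupp.single i (e i) then PowerSeries.coeff (e i) F else 0 := by
  rw [PowerSeries.coeff_subst (PowerSeries.HasSubst.X i)]
  split_ifs with h
  · rw [finsum_eq_single _ (e i)]
    · rw [MvPowerSeries.coeff_X_pow, if_pos h, smul_eq_mul, mul_one]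
    · intro d hd
      rw [MvPowerSeries.coeff_X_pow, if_neg, smul_zero]
      intro he
      apply hd
      rw [he, Finsupp.single_eq_same]
  · refine finsum_eq_zero_of_forall_eq_zero fun d => ?_
    rw [MvPowerSeries.coeff_X_pow, if_neg, smul_zero]
    intro he
    apply h
    rw [he, Finsupp.single_eq_same]

/-- In formal-power-series form, let R be a commutative ring and F ∈ R⟦X⟧ with constant term 1 whose
linear coefficient a is a unit of R. Suppose that in R⟦X₀, X₁⟧ one has F(X₀ + X₁ · F(X₀)) = F(X₀) ·
F(X₁) (the functional equation F(x + y F(x)) = F(x) F(y)). Then F = 1 + a X. (The published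
statement concerns a morphism to the multiplicative group from an open neighbourhood of the zero
section in the additive group over a base scheme, the identity holding on an open neighbourhood of
the origin of the plane on which all terms are defined, with a the derivative at 0; this row states
it for formal power series over a ring.) -/
theorem result (R : Type) [CommRing R] (F : PowerSeries R)
    (h0 : PowerSeries.constantCoeff F = 1) (ha : IsUnit (PowerSeries.coeff 1 F))
    (hFE : PowerSeries.subst
        (MvPowerSeries.X (0 : Fin 2) + MvPowerSeries.X 1 * PowerSeries.subst (MvPowerSeries.X (0 : Fin 2)) F :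
          MvPowerSeries (Fin 2) R) F =
      PowerSeries.subst (MvPowerSeries.X (0 : Fin 2)) F * PowerSeries.subst (MvPowerSeries.X (1 : Fin 2)) F) :
    F = 1 + PowerSeries.C (PowerSeries.coeff 1 F) * PowerSeries.X := by
  open MvPowerSeries in
  set f₀ : MvPowerSeries (Fin 2) R := PowerSeries.subst (MvPowerSeries.X (0 : Fin 2)) F with hf₀
  set f₁ : MvPowerSeries (Fin 2) R := PowerSeries.subst (MvPowerSeries.X (1 : Fin 2)) F with hf₁
  set u₀ : MvPowerSeries (Fin 2) R := MvPowerSeries.X 0 + MvPowerSeries.X 1 * f₀ with hu₀
  set u₁ : MvPowerSeries (Fin 2) R := MvPowerSeries.X 1 + MvPowerSeries.X 0 * f₁ with hu₁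
  have hs₀ : PowerSeries.HasSubst u₀ :=
    PowerSeries.HasSubst.of_constantCoeff_zero (by simp [hu₀])
  have hs₁ : PowerSeries.HasSubst u₁ :=
    PowerSeries.HasSubst.of_constantCoeff_zero (by simp [hu₁])
  -- the functional equation is symmetric
  have hsym : PowerSeries.subst u₁ F = f₁ * f₀ := by
    set σ : Fin 2 → MvPowerSeries (Fin 2) R := fun i => MvPowerSeries.X (1 - i) with hσ
    have hσs : MvPowerSeries.HasSubst σ :=
      MvPowerSeries.hasSubst_of_constantCoeff_zero (fun s => by simp [hσ])
    have hcomp : ∀ v : MvPowerSeries (Fin 2) R, PowerSeries.HasSubst v →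
        MvPowerSeries.subst σ (PowerSeries.subst v F) = PowerSeries.subst (MvPowerSeries.subst σ v) F :=
      fun v hv => MvPowerSeries.subst_comp_subst_apply hv.const hσs F
    have hX : ∀ i, MvPowerSeries.subst σ (MvPowerSeries.X i : MvPowerSeries (Fin 2) R) = MvPowerSeries.X (1 - i) :=
      fun i => MvPowerSeries.subst_X hσs i
    have h := congrArg (MvPowerSeries.subst σ) hFE
    rw [MvPowerSeries.subst_mul hσs, hcomp _ hs₀, hcomp _ (PowerSeries.HasSubst.X 0),
      hcomp _ (PowerSeries.HasSubst.X 1), MvPowerSeries.subst_add hσs, MvPowerSeries.subst_mul hσs,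
      hcomp _ (PowerSeries.HasSubst.X 0), hX, hX] at h
    exact h
  -- substituting the compositional inverse
  have hu : u₀ = u₁ := by
    set G : PowerSeries R := F - 1 with hG
    have hG0 : PowerSeries.constantCoeff G = 0 := by rw [hG, map_sub, h0, map_one, sub_self]
    have hG1 : IsUnit (PowerSeries.coeff 1 G) := by simpa [hG] using ha
    have hG' : PowerSeries.HasSubst G := PowerSeries.HasSubst.of_constantCoeff_zero' hG0
    have key : ∀ v : MvPowerSeries (Fin 2) R, PowerSeries.HasSubst v →
        PowerSeries.subst (PowerSeries.subst v F - 1) (G.substInvOfIsUnit hG1) = v := fun v hv => by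
      have e : PowerSeries.subst v F - 1 = PowerSeries.subst v G := by
        rw [hG, ← PowerSeries.coe_substAlgHom hv, map_sub, map_one]
      rw [e, ← PowerSeries.subst_comp_subst_apply hG' hv,
        PowerSeries.subst_substInvOfIsUnit_left G hG0, PowerSeries.subst_X hv]
    rw [← key u₀ hs₀, ← key u₁ hs₁, hsym, hFE, mul_comm]
  ext n
  rcases n with _ | _ | n
  · simp [h0]
  · simp
  · have h2 := congrArg (MvPowerSeries.coeff
      (Finsupp.single (1 : Fin 2) 1 + Finsupp.single (0 : Fin 2) (n + 2))) hu
    have e0 : (Finsupp.single (1 : Fin 2) 1 + Finsupp.single (0 : Fin 2) (n + 2)) =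
        Finsupp.single (0 : Fin 2) 1 +
          (Finsupp.single (1 : Fin 2) 1 + Finsupp.single (0 : Fin 2) (n + 1)) := by
      ext j; fin_cases j <;> simp <;> omega
    set e : Fin 2 →₀ ℕ := Finsupp.single (1 : Fin 2) 1 + Finsupp.single (0 : Fin 2) (n + 2) with he
    have v0 : e 0 = n + 2 := by simp [he]
    have v1 : e 1 = 1 := by simp [he]
    have k0 : MvPowerSeries.coeff e (MvPowerSeries.X 0 : MvPowerSeries (Fin 2) R) = 0 := by
      rw [MvPowerSeries.coeff_X, if_neg]
      intro hh; rw [hh] at v1; simp at v1
    have k1 : MvPowerSeries.coeff e (MvPowerSeries.X 1 : MvPowerSeries (Fin 2) R) = 0 := by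
      rw [MvPowerSeries.coeff_X, if_neg]
      intro hh; rw [hh] at v0; simp at v0
    have k2 : MvPowerSeries.coeff e (MvPowerSeries.X 1 * f₀) = PowerSeries.coeff (n + 2) F := by
      rw [he, MvPowerSeries.X_def, MvPowerSeries.coeff_add_monomial_mul, one_mul, hf₀, coeff_substX]
      simp
    have k3 : MvPowerSeries.coeff e (MvPowerSeries.X 0 * f₁) = 0 := by
      rw [e0, MvPowerSeries.X_def, MvPowerSeries.coeff_add_monomial_mul, one_mul, hf₁, coeff_substX,
        if_neg]
      intro hh
      have := congrArg (fun v : Fin 2 →₀ ℕ => v 0) hh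
      simp at this
    rw [hu₀, hu₁, map_add, map_add, k0, k1, k2, k3, zero_add, zero_add] at h2
    simp [h2]

end Groth.Agent.S12056
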