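-- statement FlatMor.GrothFrozen.S1206 (Groth/Statements/S1206.lean; the theorem FlatMor.sInf_eq_bot_of_fg_ideals_covering_nongeneric);
import Groth.Statements.S1206
import Groth.Agent.H7Flat.FgPowers

set_option autoImplicit false
universe u
open FlatMor

namespace Groth.Agent.S1206

/-- Let A be a local domain which is not a field and 𝒮 a set of finitely generated ideals of A, closed
under products, such that the union of the closed sets V(I), I ∈ 𝒮, is exactly the set of nonzero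
primes (every nonzero prime contains a member of 𝒮 and no member is zero). Then the intersection of
all members of 𝒮 is zero. -/
theorem result (A : Type u) [CommRing A] [IsDomain A] [IsLocalRing A] (hA : ¬ IsField A)
    (𝒮 : Set (Ideal A)) (hfg : ∀ I ∈ 𝒮, I.FG) (hmul : ∀ I ∈ 𝒮, ∀ J ∈ 𝒮, I * J ∈ 𝒮)
    (hne : ∀ I ∈ 𝒮, I ≠ ⊥) (hcov : ∀ (p : Ideal A), p.IsPrime → p ≠ ⊥ → ∃ I ∈ 𝒮, I ≤ p) :
    sInf 𝒮 = ⊥ := by
  refine (eq_bot_iff).2 fun a ha => Ideal.mem_bot.2 ?_
  by_contra ha0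
  have hmem : ∀ I ∈ 𝒮, a ∈ I := fun I hI => Submodule.mem_sInf.1 ha I hI
  have hm : IsLocalRing.maximalIdeal A ≠ ⊥ := fun h => hA (IsLocalRing.isField_iff_maximalIdeal_eq.2 h)
  obtain ⟨I₀, hI₀, hI₀m⟩ := hcov _ (IsLocalRing.maximalIdeal.isMaximal A).isPrime hm
  have hle : (⊥ : Ideal A) ⊔ Ideal.span {a} ≤ IsLocalRing.maximalIdeal A := by
    rw [bot_sup_eq, Ideal.span_singleton_le_iff_mem]
    exact hI₀m (hmem I₀ hI₀)
  obtain ⟨q, hq, -⟩ := Ideal.exists_minimalPrimes_le hle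
  have hq0 : q ≠ ⊥ := fun h => ha0 (by
    have := hq.1.2 (Ideal.mem_sup_right (Ideal.mem_span_singleton_self a))
    rwa [h, Ideal.mem_bot] at this)
  obtain ⟨I, hI, hIq⟩ := hcov q hq.1.1 hq0
  obtain ⟨n, hn1, hn⟩ := Groth.Agent.H7Flat.exists_notMem_pow (p := ⊥) (a := a) (by simpa using ha0) (hfg I hI) hq hIq
  have hpow : ∀ k : ℕ, I ^ (k + 1) ∈ 𝒮 := fun k => by
    induction k with
    | zero => simpa using hI
    | succ k ih => rw [pow_succ]; exact hmul _ ih _ hI
  obtain ⟨k, rfl⟩ := Nat.exists_eq_add_of_le' hn1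
  exact hn (hmem _ (hpow k))

end Groth.Agent.S1206
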