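import Groth.Statements.S12067
import Groth.Agent.H20Comod.Unip
-- import your own Groth.Agent.* helpers here

set_option autoImplicit false
universe u
open TensorProduct
open SGA3t2b

namespace Groth.Agent.S12067

/-- In Hopf-algebra form, let k be a field and A a finitely generated commutative Hopf algebra over k
(an affine algebraic group G) which is unipotent: every nonzero finite-dimensional comodule has a
nonzero fixed vector. Then every finite-dimensional comodule V (a finite-dimensional representation
of G), of dimension n, has a flag of subcomodules 0 = V_0 ⊂ V_1 ⊂ ⋯ ⊂ V_n = V with one-dimensional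
successive quotients on which G acts trivially: for v ∈ V_(i+1) the coaction of v is congruent to v
⊗ 1 modulo V_i ⊗ A. -/
theorem result (k : Type u) [Field k] (A : Type u) [CommRing A]
    [HopfAlgebra k A] [Algebra.FiniteType k A] (hU : HopfRep.IsUnipotent k A)
    (V : Type u) [AddCommGroup V] [Module k V] [HopfRep.Comod k A V] [Module.Finite k V] :
    ∃ F : Fin (Module.finrank k V + 1) → Submodule k V,
      F 0 = ⊥ ∧ F (Fin.last _) = ⊤ ∧
      (∀ i : Fin (Module.finrank k V + 1), HopfRep.IsSubcomod (k := k) (A := A) (F i)) ∧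
      ∀ i : Fin (Module.finrank k V), F i.castSucc ≤ F i.succ ∧
        Module.finrank k ↥(F i.succ) = Module.finrank k ↥(F i.castSucc) + 1 ∧
        ∀ v ∈ F i.succ, HopfRep.Comod.coact (k := k) (A := A) v - v ⊗ₜ[k] (1 : A) ∈
          LinearMap.range ((F i.castSucc).subtype.rTensor A) := by
  classical
  let S := {p : Submodule k V // HopfRep.IsSubcomod (k := k) (A := A) p}
  have hstep : ∀ p : S, ∃ q : S, p.1 ≤ q.1 ∧
      (p.1 ≠ ⊤ → Module.finrank k q.1 = Module.finrank k p.1 + 1) ∧
      ∀ v ∈ q.1, HopfRep.Comod.coact (k := k) (A := A) v - v ⊗ₜ[k] (1 : A) ∈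
        LinearMap.range (p.1.subtype.rTensor A) := by
    rintro ⟨p, hp⟩
    by_cases htop : p = ⊤
    · refine ⟨⟨p, hp⟩, le_rfl, fun h => (h htop).elim, fun v _ => ?_⟩
      have hs : Function.Surjective (p.subtype.rTensor A) :=
        LinearMap.rTensor_surjective A fun w => ⟨⟨w, htop ▸ Submodule.mem_top⟩, rfl⟩
      exact hs _
    letI := ComodSub.Comod.quot (inferInstance : HopfRep.Comod k A V) p hp
    have hpi := ComodSub.isComodHom_mkQ (inferInstance : HopfRep.Comod k A V) p hp
    haveI : Nontrivial (V ⧸ p) := Submodule.Quotient.nontrivial_iff.2 htop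
    obtain ⟨x, hx, hx0⟩ := Submodule.exists_mem_ne_zero_of_ne_bot (hU (V ⧸ p) inferInstance inferInstance)
    have hline : HopfRep.IsSubcomod (k := k) (A := A) (Submodule.span k {x}) := fun y hy => by
      obtain ⟨c, rfl⟩ := Submodule.mem_span_singleton.1 hy
      refine ⟨(⟨c • x, hy⟩ : Submodule.span k {x}) ⊗ₜ[k] (1 : A), ?_⟩
      show (c • x) ⊗ₜ[k] (1 : A) = HopfRep.Comod.coact (k := k) (A := A) (c • x)
      rw [map_smul, show HopfRep.Comod.coact (k := k) (A := A) x = x ⊗ₜ[k] (1 : A) from hx, TensorProduct.smul_tmul']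
    have hle : p ≤ (Submodule.span k {x}).comap p.mkQ := fun z hz => by
      show p.mkQ z ∈ Submodule.span k {x}
      rw [show p.mkQ z = 0 from (Submodule.Quotient.mk_eq_zero p).2 hz]
      exact zero_mem _
    refine ⟨⟨_, H20Comod.isSubcomod_comap hpi hline⟩, hle, fun _ => ?_, fun v hv => ?_⟩
    · set q := (Submodule.span k {x}).comap p.mkQ
      have h1 := LinearMap.finrank_range_add_finrank_ker (p.mkQ.domRestrict q)
      rw [LinearMap.range_domRestrict, Submodule.map_comap_eq_of_surjective p.mkQ_surjective,
        finrank_span_singleton hx0, LinearMap.ker_domRestrict, Submodule.ker_mkQ] at h1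
      rw [← h1, add_comm]
      exact congrArg (· + 1) (LinearEquiv.finrank_eq (Submodule.comapSubtypeEquivOfLe hle))
    · refine (rTensor_exact A (LinearMap.exact_subtype_mkQ p) p.mkQ_surjective _).1 ?_
      obtain ⟨c, hc⟩ := Submodule.mem_span_singleton.1 (show p.mkQ v ∈ Submodule.span k {x} from hv)
      rw [map_sub, LinearMap.rTensor_tmul,
        show p.mkQ.rTensor A (HopfRep.Comod.coact (k := k) (A := A) v) =
          HopfRep.Comod.coact (k := k) (A := A) (p.mkQ v) from (LinearMap.congr_fun hpi v).symm,
        ← hc, map_smul, show HopfRep.Comod.coact (k := k) (A := A) x = x ⊗ₜ[k] (1 : A) from hx,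
        TensorProduct.smul_tmul', sub_self]
  choose next hle hfr hs using hstep
  let F : ℕ → S := fun n => next^[n] ⟨⊥, H20Comod.isSubcomod_bot⟩
  have hF : ∀ i, F (i + 1) = next (F i) := fun i => Function.iterate_succ_apply' next i _
  have hrank : ∀ i ≤ Module.finrank k V, Module.finrank k (F i).1 = i := by
    intro i
    induction i with
    | zero => intro _; exact finrank_bot k V
    | succ i ih =>
      intro hi
      have hne : (F i).1 ≠ ⊤ := fun h => by
        have := ih (by omega)
        rw [h, finrank_top] at this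
        omega
      rw [hF, hfr _ hne, ih (by omega)]
  refine ⟨fun i => (F i).1, rfl, Submodule.eq_top_of_finrank_eq (hrank _ le_rfl), fun i => (F i).2,
    fun i => ⟨?_, ?_, ?_⟩⟩
  · show (F i).1 ≤ (F (i + 1)).1
    rw [hF]; exact hle _
  · show Module.finrank k (F (i + 1)).1 = Module.finrank k (F i).1 + 1
    rw [hrank _ (by omega), hrank _ (by omega)]
  · intro v hv
    have hv' : v ∈ (F (i + 1)).1 := hv
    rw [hF] at hv'
    exact hs _ v hv'

end Groth.Agent.S12067
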