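import Groth.Statements.S4286
import Groth.Agent.H12Pic.BoundedVanish
import Groth.Agent.H12Pic.TwistOn
import Groth.Agent.H28Int.Surface
import Groth.Agent.H10Coh.Stab.TwistInt
import Groth.Agent.S10829
import Groth.Agent.S11753

set_option autoImplicit false
set_option linter.style.haveILetI false
universe u
open CategoryTheory CategoryTheory.Limits AlgebraicGeometry
open Pic13
open Groth.Agent

namespace Groth.Agent.S4286

/-- (i) implies (iii), over the base S = Spec k with k algebraically closed: let X ⊆ P^n_k be a closed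
subscheme and P a bounded family of coherent O_X-modules. Then there is an integer m such that every
member of P is m-regular, and the Hilbert polynomials d ↦ χ(F(d)) of the members of P form a finite
set. -/
theorem result (k : Type u) [Field k] [IsAlgClosed k] (n : ℕ) (X : Scheme.{u}) [X.Over (Spec (CommRingCat.of k))]
    (i : X ⟶ CohB1.ProjSpace n k) [IsClosedImmersion i] (hi : i ≫ CohB1.ProjSpace.toSpec n k = X ↘ Spec (CommRingCat.of k))
    (P : X.Modules → Prop) (hP : ∀ F, P F → Coh.IsCoh F) (hb : Pic13.IsBounded k X P) :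
    (∃ m : ℤ, ∀ F, P F → Pic13.IsMRegular k i F m) ∧
      ∃ s : Finset (Polynomial ℚ), ∀ F, P F → ∃ φ ∈ s, ∀ d : ℤ, (FGA.eulerCharLE k X (Pic13.twistOn k i F d) n : ℚ) = φ.eval (d : ℚ) := by
  classical
  haveI := H12Pic.TwistOn.isProper i hi
  haveI := H28Int.isNoetherian k (X := X)
  haveI : X.IsSeparated := Scheme.IsSeparated.mk (by
    rw [← terminal.comp_from (X ↘ Spec (CommRingCat.of k))]; infer_instance)
  obtain ⟨T, q, hq1, hq2, G, hG, hfam⟩ := hb
  haveI := hq1
  haveI := hq2
  have hd : topologicalKrullDim X ≤ (n : WithBot ℕ∞) :=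
    (IsClosedImmersion.base_closed (f := i)).isInducing.topologicalKrullDim_le.trans (S10829.result k n).le
  have fam := H12Pic.TwistOn.fam i
  have hA := H12Pic.TwistOn.isAmple_one i
  refine ⟨?_, ?_⟩
  · obtain ⟨n₀, hn₀⟩ := H12Pic.BoundedVanish.exists_bound_van k q G hG hA
    refine ⟨((n₀ + n : ℕ) : ℤ), fun F hF p hp => ?_⟩
    by_cases hpn : p ≤ n
    · obtain ⟨t, ht, ⟨et⟩⟩ := hfam F hF
      obtain ⟨ep⟩ := fam.nonempty_tensorPow (n₀ + n - p)
      have h := hn₀ (n₀ + n - p) (by omega) p hp t ht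
      exact ((LeadBC.HMod k p).mapIso (PicGrp.tensorModIso et (ep ≪≫ eqToIso
        (congrArg (H12Pic.TwistOn.O i) (show ((n₀ + n - p : ℕ) : ℤ) = ((n₀ + n : ℕ) : ℤ) - p by omega))))
          ).toLinearEquiv.toEquiv.subsingleton_congr.1 h
    · have h := H28Int.subsingleton_HnM_of_support (X := X) ⊤ n
        ((Topology.IsInducing.subtypeVal.topologicalKrullDim_le).trans hd)
        (Pic13.twistOn k i F (((n₀ + n : ℕ) : ℤ) - p)) (H11Ample.isCoh_tensor (hP F hF) (fam.inv _)).1
        (fun _ _ => trivial) p (by omega)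
      exact (H10Coh.HHEquiv _ p).toEquiv.subsingleton
  · obtain ⟨eH⟩ := H12Pic.TwistOn.inv_one i
    have hrep : ∀ j, ∀ A ∈ List.replicate j (H12Pic.TwistOn.O i (-1)), PicF.IsInvertible A := fun j A hA' =>
      (List.eq_of_mem_replicate hA') ▸ fam.inv (-1)
    choose B hB using fun j => H12Pic.BoundedEuler.exists_bound_D k q _ (hrep j) G hG
    let pol : (Fin (n + 1) → ℤ) → Polynomial ℚ := fun b =>
      ∑ j : Fin (n + 1), Polynomial.C ((b j : ℚ) / (j.1.factorial : ℚ)) * ascPochhammer ℚ j
    refine ⟨(Fintype.piFinset fun j : Fin (n + 1) => Finset.Icc (-B j) (B j)).image pol, fun F hF => ?_⟩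
    obtain ⟨t, ht, ⟨et⟩⟩ := hfam F hF
    let b : Fin (n + 1) → ℤ := fun j => H28Int.D k (List.replicate j (H12Pic.TwistOn.O i (-1))) F
    refine ⟨pol b, Finset.mem_image.2 ⟨b, Fintype.mem_piFinset.2 fun j => ?_, rfl⟩, fun d => ?_⟩
    · have h := abs_le.1 (hB j t ht)
      rw [(H28Int.isAddFn_D k _ (hrep j)).congr et] at h
      exact Finset.mem_Icc.2 h
    have hFc := hP F hF
    have hdF : topologicalKrullDim (CohB1.support F) ≤ (n : WithBot ℕ∞) :=
      Topology.IsInducing.subtypeVal.topologicalKrullDim_le.trans hd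
    have hH : ShStab.IsHilbPoly k X (H12Pic.TwistOn.O i 1) F (pol b) := fun m => by
      have hT : Coh.IsCoh (CohB1.tensorMod (CohB1.tensorPow (H12Pic.TwistOn.O i 1) m) F) :=
        H28Int.isCoh_twist (H11Ample.isInvertible_tensorPow (fam.inv 1) m) hFc
      rw [show ShStab.twist X (H12Pic.TwistOn.O i 1) F m =
          CohB1.tensorMod F (CohB1.tensorPow (H12Pic.TwistOn.O i 1) m) from rfl,
        H25Euler.euler_congr (H10Coh.Tw.commIso F _), ← H28Int.eulerCharLE_eq k hd hT.1,
        S11753.result k X n hd _ _ (fam.inv 1) ⟨eH⟩ F hFc n hdF m]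
      simp only [pol, Polynomial.eval_finsetSum, Polynomial.eval_mul, Polynomial.eval_C]
      rw [← Fin.sum_univ_eq_sum_range (fun j => ((m + j - 1).choose j : ℤ) *
        FGA.intNum k X n (fun _ : Fin j => H12Pic.TwistOn.O i (-1)) F), Int.cast_sum]
      refine Finset.sum_congr rfl fun j _ => ?_
      have hint : FGA.intNum k X n (fun _ : Fin j.1 => H12Pic.TwistOn.O i (-1)) F = b j := by
        rw [H28Int.intNum_eq k hd _ (fun _ => fam.inv (-1)) hFc, List.ofFn_const]
      rw [hint, ← ascPochhammer_eval_cast, ascPochhammer_nat_eq_ascFactorial, Nat.ascFactorial_eq_factorial_mul_choose']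
      push_cast
      field_simp
    rw [H28Int.eulerCharLE_eq k hd (show (Pic13.twistOn k i F d).IsQuasicoherent from
      (H11Ample.isCoh_tensor hFc (fam.inv d)).1)]
    exact H10Coh.Stab.int_of_isHilbPoly fam hA hFc (d := n + 1)
      (lt_of_le_of_lt hdF (WithBot.coe_lt_coe.2 (ENat.natCast_lt_natCast.2 (Nat.lt_succ_self n)))) hH d

end Groth.Agent.S4286
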