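import Groth.Statements.S12069
import Groth.Agent.S4286
import Groth.Agent.H22Alg.MumfordBdd
import Groth.Agent.H22Alg.CMStep

set_option autoImplicit false
universe u
open CategoryTheory CategoryTheory.Limits AlgebraicGeometry
open Groth.Agent
open FGA

namespace Groth.Agent.S12069

/-- Over an algebraically closed field k, let X ⊆ P^n_k be a closed subscheme and P a bounded family of
coherent O_X-modules. Then there are integers m, N and an O_X-module E which is a direct sum of N
copies of O_X(-m) such that every member of the family is a quotient of E. (The published statement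
is relative, for families of classes of sheaves on the fibres of a projective scheme over a
Noetherian base, and gives two necessary conditions for boundedness, which are then shown to be
sufficient together; this row is the necessity of the first condition in the case of the base Spec
k. Finiteness of the set of Hilbert polynomials of the family, the other necessary condition, is a
separate result.) -/
theorem result (k : Type u) [Field k] [IsAlgClosed k] (n : ℕ) (X : Scheme.{u})
    [X.Over (Spec (CommRingCat.of k))] (i : X ⟶ CohB1.ProjSpace n k) [IsClosedImmersion i]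
    (hi : i ≫ CohB1.ProjSpace.toSpec n k = X ↘ Spec (CommRingCat.of k))
    (P : X.Modules → Prop) (hP : ∀ F, P F → Coh.IsCoh F) (hb : Pic13.IsBounded k X P) :
    ∃ (m : ℤ) (N : ℕ) (E : X.Modules) (c : Fin N → (Pic13.twistOn k i (Coh.structureModule X) (-m) ⟶ E)),
      Nonempty (IsColimit (Cofan.mk E c)) ∧ ∀ F, P F → ∃ p : E ⟶ F, Epi p := by
  classical
  haveI := H22Alg.CMHyper.noetherian k n
  haveI := H22Alg.MumfordBound.proper_toSpec (k := k) (n := n)
  haveI : IsProper (X ↘ Spec (CommRingCat.of k)) := hi ▸ inferInstanceAs (IsProper (i ≫ CohB1.ProjSpace.toSpec n k))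
  haveI : IsLocallyNoetherian X := LocallyOfFiniteType.isLocallyNoetherian i
  have hS := H22Alg.CMField.setup k n
  obtain ⟨⟨m, hm⟩, s, hs⟩ := S4286.result k n X i hi P hP hb
  let T : X.Modules := Pic13.twistOn k i (Coh.structureModule X) (-m)
  let a : Polynomial ℚ → ℕ := fun φ => (⌊φ.eval (m : ℚ)⌋).toNat
  let N := s.sup a
  refine ⟨m, N, ∐ fun _ : Fin N => T, Sigma.ι (fun _ : Fin N => T), ⟨coproductIsCoproduct _⟩, fun F hF => ?_⟩
  obtain ⟨φ, hφs, hφ⟩ := hs F hF
  have hc := hP F hF
  have hE : Coh.IsCoh ((Coh.push i).obj F) := H10Coh.isCoh_push_of_isFinite (M := F) i hc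
  have hreg := fun j hj => (H22Alg.MumfordBdd.van_push_iff i hc j _).2 (hm F hF j hj)
  obtain ⟨b, ψ, hψ, -, hb'⟩ := H22Alg.CMStep.exists_step_le hE hreg
  have hbN : b ≤ N := by
    letI : (CohB1.ProjSpace n k).Over (Spec (CommRingCat.of k)) := ⟨CohB1.ProjSpace.toSpec n k⟩
    have h0 := H22Alg.MumfordBdd.finrank_h0_eq_euler (k := k)
      (H22Alg.MumfordBdd.van_at hreg (j := m) (by omega))
    have hTi := hS.fam.inv m
    obtain ⟨e⟩ := H10Coh.Tw.nonempty_push_tensor_iso i F hTi
    haveI : (CohB1.tensorMod F ((Scheme.Modules.pullback i).obj (Twist.twistProjSpace n k m))).IsQuasicoherent :=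
      (H11Ample.isCoh_tensor hc (H11Ample.isInvertible_pullback i hTi)).1
    have h1 : Curv2.euler k X (Pic13.twistOn k i F m) = FGA.eulerCharLE k X (Pic13.twistOn k i F m) n :=
      H25Euler.euler_eq_sum _ (n + 1) fun j hj =>
        (H22Alg.MumfordBdd.van_push_iff i hc j m).1
          (H22Alg.CMField.van_high k n (by omega) (H11Ample.isCoh_tensor hE hTi).1)
    rw [← hb', H25Euler.euler_congr e, H28Int.Push.euler_push k i hi] at h0
    have hle : a φ ≤ N := Finset.le_sup hφs
    have h2 : (b : ℤ) = ⌊φ.eval (m : ℚ)⌋ := by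
      rw [h0, ← hφ m, Int.floor_intCast]
      exact h1
    show b ≤ N
    have : a φ = b := by show (⌊φ.eval (m : ℚ)⌋).toNat = b; rw [← h2, Int.toNat_natCast]
    omega
  let R := Scheme.Modules.pullback i
  haveI : R.IsLeftAdjoint := (Scheme.Modules.pullbackPushforwardAdjunction i).isLeftAdjoint
  haveI : PreservesColimitsOfShape (Discrete (Fin b)) R :=
    (Scheme.Modules.pullbackPushforwardAdjunction i).leftAdjoint_preservesColimits.preservesColimitsOfShape
  let O' : (CohB1.ProjSpace n k).Modules := Twist.twistProjSpace n k (-m)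
  haveI := hψ
  let q : R.obj (∐ fun _ : Fin b => O') ⟶ F :=
    R.map ψ ≫ (Scheme.Modules.pullbackPushforwardAdjunction i).counit.app F
  haveI : IsIso ((Scheme.Modules.pullbackPushforwardAdjunction i).counit.app F) :=
    H24Hilb.Closed.isIso_counit_of_isClosedImmersion i F
  haveI : Epi (R.map ψ) := inferInstance
  let eT : T ≅ R.obj O' := H10Coh.Tw.leftUnitIso _
  let pr : (∐ fun _ : Fin N => T) ⟶ ∐ fun _ : Fin b => R.obj O' :=
    Sigma.desc fun j => if h : (j : ℕ) < b then eT.hom ≫ Sigma.ι (fun _ : Fin b => R.obj O') ⟨j, h⟩ else 0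
  let sec : (∐ fun _ : Fin b => R.obj O') ⟶ ∐ fun _ : Fin N => T :=
    Sigma.desc fun j => eT.inv ≫ Sigma.ι (fun _ : Fin N => T) (Fin.castLE hbN j)
  have hid : sec ≫ pr = 𝟙 _ := Sigma.hom_ext _ _ fun j => by simp [sec, pr]
  haveI : Epi pr := (SplitEpi.mk sec hid).epi
  exact ⟨pr ≫ (PreservesCoproduct.iso R (fun _ : Fin b => O')).inv ≫ q, inferInstance⟩

end Groth.Agent.S12069
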