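-- statement FlatMor.GrothFrozen.S1207 (Groth/Statements/S1207.lean; the theorem FlatMor.le_of_le_pow_forall_of_maximal_off_zeroLocus);
import Groth.Statements.S1207
import Groth.Agent.H7Flat.FgPowers

set_option autoImplicit false
universe u
open FlatMor

namespace Groth.Agent.S1207

/-- Let A be a local ring and I, J ideals of A with J finitely generated, J ≠ A, and I ⊆ J^n for all n ≥
1. Then every prime p not containing J which is maximal among the primes not containing J (a closed
point of Spec A ∖ V(J)) contains I. (The published statement leaves the hypothesis J ≠ A implicit;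
for J = A the assertion fails.) -/
theorem result (A : Type u) [CommRing A] [IsLocalRing A] (I J : Ideal A) (hJ : J.FG) (hJ1 : J ≠ ⊤)
    (hI : ∀ n : ℕ, 1 ≤ n → I ≤ J ^ n) (p : Ideal A) [p.IsPrime] (hp : ¬ J ≤ p)
    (hmax : ∀ (p' : Ideal A), p'.IsPrime → p ≤ p' → ¬ J ≤ p' → p' = p) : I ≤ p := by
  intro a ha
  by_contra hap
  have hJm : J ≤ IsLocalRing.maximalIdeal A := IsLocalRing.le_maximalIdeal hJ1
  have haJ : a ∈ J := by simpa using hI 1 le_rfl ha
  have hle : p ⊔ Ideal.span {a} ≤ IsLocalRing.maximalIdeal A :=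
    sup_le (IsLocalRing.le_maximalIdeal (Ideal.IsPrime.ne_top ‹_›))
      (by rw [Ideal.span_singleton_le_iff_mem]; exact hJm haJ)
  obtain ⟨q, hq, -⟩ := Ideal.exists_minimalPrimes_le hle
  have hpq : p ≤ q := le_sup_left.trans hq.1.2
  have haq : a ∈ q := hq.1.2 (Ideal.mem_sup_right (Ideal.mem_span_singleton_self a))
  have hJq : J ≤ q := by
    by_contra h
    exact hap (hmax q hq.1.1 hpq h ▸ haq)
  obtain ⟨n, hn1, hn⟩ := Groth.Agent.H7Flat.exists_notMem_pow hap hJ hq hJq
  exact hn (hI n hn1 ha)

end Groth.Agent.S1207
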