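import Groth.Statements.S12071
import Mathlib.GroupTheory.ArchimedeanDensely
import Mathlib.RingTheory.Int.Basic


set_option autoImplicit false
open RootD

namespace Groth.Agent.S12071


/-- Let G be the group generated by two elements x, y subject to x² = y² = 1 (the infinite dihedral
group; here Mathlib's DihedralGroup 0 with x = sr 0 and y = sr 1, so that x y = r 1). Then every
normal subgroup of G containing neither x nor y is generated by an element (x y)^n with n > 0; such
a subgroup is cyclic, generated by r n. (The published statement does not exclude the trivial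
subgroup, for which no n > 0 works; this row assumes the subgroup nontrivial.) -/
theorem result (N : Subgroup (DihedralGroup 0)) [N.Normal]
    (hN : N ≠ ⊥) (hx : DihedralGroup.sr (0 : ZMod 0) ∉ N) (hy : DihedralGroup.sr (1 : ZMod 0) ∉ N) :
    ∃ n : ℕ, 0 < n ∧ N = Subgroup.zpowers (DihedralGroup.r (n : ZMod 0)) := by
  have hsr : ∀ k : ZMod 0, DihedralGroup.sr k ∉ N := by
    intro k hk
    have key : ∀ i : ZMod 0, DihedralGroup.sr (k - 2 * i) ∈ N := fun i => by
      have := Subgroup.Normal.conj_mem ‹N.Normal› _ hk (DihedralGroup.r i)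
      rwa [DihedralGroup.r_mul_sr, DihedralGroup.inv_r, DihedralGroup.sr_mul_r,
        show k - i + -i = k - 2 * i by ring] at this
    change ℤ at k
    rcases Int.emod_two_eq_zero_or_one k with h | h
    · refine hx ?_
      have := key ((k / 2 : ℤ))
      convert this using 2
      change (0 : ℤ) = k - 2 * (k / 2)
      omega
    · refine hy ?_
      have := key ((k / 2 : ℤ))
      convert this using 2
      change (1 : ℤ) = k - 2 * (k / 2)
      omega
  let A : AddSubgroup ℤ :=
    { carrier := {k : ℤ | DihedralGroup.r (k : ZMod 0) ∈ N}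
      zero_mem' := by
        show DihedralGroup.r (0 : ZMod 0) ∈ N
        rw [DihedralGroup.r_zero]; exact one_mem N
      add_mem' := fun {a b} ha hb => by
        show DihedralGroup.r ((a + b : ℤ) : ZMod 0) ∈ N
        rw [Int.cast_add, ← DihedralGroup.r_mul_r]; exact mul_mem ha hb
      neg_mem' := fun {a} ha => by
        show DihedralGroup.r ((-a : ℤ) : ZMod 0) ∈ N
        rw [Int.cast_neg, ← DihedralGroup.inv_r]; exact inv_mem ha }
  obtain ⟨g, hg⟩ := Int.subgroup_cyclic A
  have hA : ∀ k : ℤ, DihedralGroup.r (k : ZMod 0) ∈ N ↔ g ∣ k := by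
    intro k
    have : k ∈ A ↔ g ∣ k := by
      rw [hg, AddSubgroup.mem_closure_singleton]
      exact ⟨fun ⟨c, hc⟩ => ⟨c, by rw [← hc, smul_eq_mul, mul_comm]⟩, fun ⟨c, hc⟩ => ⟨c, by rw [hc, smul_eq_mul, mul_comm]⟩⟩
    exact this
  have hmem : ∀ x ∈ N, ∃ k : ℤ, x = DihedralGroup.r (k : ZMod 0) ∧ g ∣ k := by
    rintro (k | k) hk
    · exact ⟨k, rfl, (hA k).mp hk⟩
    · exact absurd hk (hsr k)
  have hg0 : g ≠ 0 := by
    rintro rfl
    refine hN ((Subgroup.eq_bot_iff_forall N).mpr fun x hx => ?_)
    obtain ⟨k, rfl, hk⟩ := hmem x hx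
    rw [zero_dvd_iff.mp hk, Int.cast_zero, DihedralGroup.r_zero]
  refine ⟨g.natAbs, Int.natAbs_pos.mpr hg0, le_antisymm (fun x hx => ?_) ?_⟩
  · obtain ⟨k, rfl, hk⟩ := hmem x hx
    obtain ⟨c, rfl⟩ := Int.natAbs_dvd.mpr hk
    exact ⟨c, by change (DihedralGroup.r ((g.natAbs : ℕ) : ZMod 0)) ^ c = _; rw [DihedralGroup.r_zpow, Int.cast_mul, Int.cast_natCast]⟩
  · rw [Subgroup.zpowers_le]
    have := (hA (g.natAbs : ℤ)).mpr (Int.dvd_natAbs.mpr dvd_rfl)
    rwa [Int.cast_natCast] at this

end Groth.Agent.S12071
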