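import Groth.Statements.S12073
import Groth.Agent.H7Lim.FPDescent.Exists
import Groth.Agent.H7Lim.DescendAffine
import Groth.Agent.H7Lim.DescendFlat
import Groth.Agent.H7Lim.DescendUnramified

set_option autoImplicit false
set_option backward.isDefEq.respectTransparency false
set_option backward.defeqAttrib.useBackward true
universe u
open CategoryTheory CategoryTheory.Limits AlgebraicGeometry
open Pi1

namespace Groth.Agent.S12073

/-- Let X = lim X_i be the limit of a cofiltered system of quasi-compact quasi-separated schemes with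
affine transition morphisms, given by a limit cone. Then: (1) every finite étale cover of X is
isomorphic, over X, to the base change of a finite étale cover of some X_i; (2) if two morphisms
between finite étale covers of some X_i have the same base change to X, then they have the same base
change to some X_j with j → i. (Fullness — every morphism over X between base changes comes from
some stage — is part of the published statement and is not stated here; nor is the consequence on
fundamental groups.) -/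
theorem result {I : Type u} [SmallCategory I] [IsCofiltered I]
    (D : I ⥤ Scheme.{u}) (c : Limits.Cone D) (hc : Limits.IsLimit c)
    [∀ (i j : I) (f : i ⟶ j), IsAffineHom (D.map f)] [∀ i, CompactSpace (D.obj i)]
    [∀ i, QuasiSeparatedSpace (D.obj i)] :
    (∀ V : FEt.Cat c.pt, ∃ (i : I) (Vi : FEt.Cat (D.obj i)), Nonempty ((FEt.restrict (c.π.app i)).obj Vi ≅ V)) ∧
    (∀ (i : I) (Vi Wi : FEt.Cat (D.obj i)) (φ ψ : Vi ⟶ Wi),
      (FEt.restrict (c.π.app i)).map φ = (FEt.restrict (c.π.app i)).map ψ →
      ∃ (j : I) (a : j ⟶ i), (FEt.restrict (D.map a)).map φ = (FEt.restrict (D.map a)).map ψ) := by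
  refine ⟨fun V => ?_, fun i Vi Wi φ ψ h => ?_⟩
  · let f := V.hom
    haveI : IsFinite f := V.prop.1
    haveI : Etale f := V.prop.2
    obtain ⟨i, ⟨M⟩⟩ := Groth.Agent.H7Lim.FPDescent.exists_model hc f
    have hsnd : ∀ {j : I} (N : Groth.Agent.H7Lim.FPDescent.Model c f j) (P : MorphismProperty Scheme.{u}) [P.RespectsIso],
        P f → P (pullback.snd N.p (c.π.app j)) :=
      fun N P _ hP => (Groth.Agent.H7Lim.prop_iff_of_isPullback N.hpb).mp hP
    haveI := M.compactSpace
    haveI := M.quasiSeparatedSpace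
    obtain ⟨j₁, φ₁, h₁⟩ := Groth.Agent.H7Lim.exists_descend hc Groth.Agent.H7Lim.descendsAffine_isFinite i M.p
      (inferInstanceAs (LocallyOfFiniteType M.p)) (hsnd M @IsFinite inferInstance)
    let M₁ := M.shift φ₁
    haveI := M₁.compactSpace
    haveI := M₁.quasiSeparatedSpace
    haveI : IsFinite M₁.p := h₁
    obtain ⟨j₂, φ₂, h₂⟩ := Groth.Agent.H7Lim.exists_descend hc Groth.Agent.H7Lim.descendsAffine_flat j₁ M₁.p
      M₁.lfp (hsnd M₁ @Flat inferInstance)
    let M₂ := M₁.shift φ₂
    haveI := M₂.compactSpace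
    haveI := M₂.quasiSeparatedSpace
    haveI : IsFinite M₂.p := MorphismProperty.pullback_snd _ _ (inferInstanceAs (IsFinite M₁.p))
    haveI : Flat M₂.p := h₂
    obtain ⟨j₃, φ₃, h₃⟩ := Groth.Agent.H7Lim.exists_descend hc Groth.Agent.H7Lim.descendsAffine_formallyUnramified j₂ M₂.p
      (inferInstanceAs (LocallyOfFiniteType M₂.p)) (hsnd M₂ @FormallyUnramified inferInstance)
    let M₃ := M₂.shift φ₃
    haveI : IsFinite M₃.p := MorphismProperty.pullback_snd _ _ (inferInstanceAs (IsFinite M₂.p))
    haveI : Flat M₃.p := MorphismProperty.pullback_snd _ _ (inferInstanceAs (Flat M₂.p))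
    haveI : FormallyUnramified M₃.p := h₃
    haveI : Etale M₃.p := Etale.iff_flat_and_formallyUnramified.mpr ⟨inferInstance, inferInstance, M₃.lfp⟩
    refine ⟨j₃, MorphismProperty.Over.mk ⊤ M₃.p ⟨inferInstance, inferInstance⟩, ⟨?_⟩⟩
    exact MorphismProperty.Over.isoMk M₃.hpb.isoPullback.symm (by
      show M₃.hpb.isoPullback.inv ≫ f = pullback.snd _ _
      exact M₃.hpb.isoPullback_inv_snd)
  · haveI : IsFinite Vi.hom := Vi.prop.1
    haveI : Etale Wi.hom := Wi.prop.2
    have hφ : φ.left ≫ Wi.hom = Vi.hom := MorphismProperty.Over.w φ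
    have hψ : ψ.left ≫ Wi.hom = Vi.hom := MorphismProperty.Over.w ψ
    haveI : ∀ (j k : Over i) (g : j ⟶ k), IsAffineHom ((Groth.Agent.H7Lim.pbDiagram D i Vi.hom).map g) :=
      Groth.Agent.H7Lim.isAffineHom_pbDiagram_map D i Vi.hom
    haveI : ∀ (k : Over i), CompactSpace ↥((Groth.Agent.H7Lim.pbDiagram D i Vi.hom).obj k) := fun k =>
      haveI : IsFinite (pullback.snd Vi.hom (D.map k.hom)) := MorphismProperty.pullback_snd _ _ inferInstance
      QuasiCompact.compactSpace_of_compactSpace (pullback.snd Vi.hom (D.map k.hom))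
    have hL : ∀ (f g : Vi ⟶ Wi), (FEt.restrict (c.π.app i)).map f = (FEt.restrict (c.π.app i)).map g →
        pullback.fst Vi.hom (c.π.app i) ≫ f.left = pullback.fst Vi.hom (c.π.app i) ≫ g.left := fun f g e => by
      have h1 : ∀ m : Vi ⟶ Wi, ((FEt.restrict (c.π.app i)).map m).left ≫ pullback.fst Wi.hom (c.π.app i) =
          pullback.fst Vi.hom (c.π.app i) ≫ m.left := fun m => pullback.lift_fst _ _ _
      exact (h1 f).symm.trans (((congrArg (fun q => q.left ≫ pullback.fst Wi.hom (c.π.app i)) e) : _).trans (h1 g))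
    obtain ⟨k, a, hk⟩ := Scheme.exists_hom_comp_eq_comp_of_locallyOfFiniteType
      (Groth.Agent.H7Lim.pbDiagram D i Vi.hom)
      (Groth.Agent.H7Lim.pbFst D i Vi.hom ≫ (Functor.const (Over i)).map Vi.hom) Wi.hom
      (Groth.Agent.H7Lim.pbCone D c i Vi.hom) (Groth.Agent.H7Lim.isLimitPbCone D i Vi.hom hc)
      (i := Over.mk (𝟙 i)) (pullback.fst _ _ ≫ φ.left) (pullback.fst _ _ ≫ ψ.left)
      (by simp [hφ]) (by simp [hψ]) (by simpa [pullback.map] using hL φ ψ h)
    refine ⟨k.left, k.hom, MorphismProperty.Over.Hom.ext (pullback.hom_ext ?_ ?_)⟩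
    · have h1 : ∀ m : Vi ⟶ Wi, ((FEt.restrict (D.map k.hom)).map m).left ≫ pullback.fst Wi.hom (D.map k.hom) =
          pullback.fst Vi.hom (D.map k.hom) ≫ m.left := fun m => pullback.lift_fst _ _ _
      refine (h1 φ).trans (Eq.trans ?_ (h1 ψ).symm)
      simpa [pullback.map] using hk
    · exact (pullback.lift_snd _ _ _).trans (pullback.lift_snd _ _ _).symm

end Groth.Agent.S12073
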