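import Groth.Statements.S12076
import Groth.Agent.H21Root.Simple

set_option autoImplicit false
open RootD

namespace Groth.Agent.S12076

open Groth.Agent.H21Root RootPairing

/-- Let Δ be a system of simple roots (a base b of a root pairing P over ℤ) and Γ₀ the subgroup
generated by the roots. Then Γ₀ has a structure of totally ordered group for which the roots > 0 are
exactly the positive roots defined by Δ and for which the height (the additive function with value 1
on each simple root) is monotone. The order is given here by its positive cone C ⊆ Γ₀: 0 ∉ C, C + C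
⊆ C, and for every x ≠ 0 exactly one of x, −x lies in C (x < y meaning y − x ∈ C). -/
theorem result {ι M N : Type*} [AddCommGroup M] [AddCommGroup N]
    (P : RootPairing ι ℤ M N) [Finite ι] (b : P.Base) :
    ∃ C : Set ↥(Submodule.span ℤ (Set.range P.root)),
      0 ∉ C ∧ (∀ x ∈ C, ∀ y ∈ C, x + y ∈ C) ∧ (∀ x, x ≠ 0 → (x ∈ C ∨ -x ∈ C)) ∧ (∀ x ∈ C, -x ∉ C) ∧
      (∀ i : ι, (⟨P.root i, Submodule.subset_span (Set.mem_range_self i)⟩ : ↥(Submodule.span ℤ (Set.range P.root))) ∈ C ↔
        b.IsPos i) ∧
      ∀ φ : ↥(Submodule.span ℤ (Set.range P.root)) →+ ℤ,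
        (∀ j ∈ b.support, φ ⟨P.root j, Submodule.subset_span (Set.mem_range_self j)⟩ = 1) →
        ∀ x y : ↥(Submodule.span ℤ (Set.range P.root)), y - x ∈ C → φ x ≤ φ y := by
  classical
  have hsp : Submodule.span ℤ (Set.range fun a : ↥b.support => P.root (a : ι)) =
      Submodule.span ℤ (Set.range P.root) := by
    rw [← b.span_int_root_support, Set.image_eq_range]; rfl
  let e := Fintype.equivFin ↥b.support
  let β : Module.Basis (Fin (Fintype.card ↥b.support)) ℤ ↥(Submodule.span ℤ (Set.range P.root)) :=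
    ((Module.Basis.span (b.linearIndepOn_root.restrict_scalars' ℤ :
      LinearIndependent ℤ fun a : ↥b.support => P.root (a : ι))).map (LinearEquiv.ofEq _ _ hsp)).reindex e
  have hβ : ∀ a : ↥b.support, β (e a) = ⟨P.root (a : ι), Submodule.subset_span (Set.mem_range_self _)⟩ :=
    fun a => Subtype.ext (by simp [β])
  let ht : ↥(Submodule.span ℤ (Set.range P.root)) →ₗ[ℤ] ℤ := β.constr ℤ fun _ => 1
  have hroot : ∀ i : ι, ht ⟨P.root i, Submodule.subset_span (Set.mem_range_self i)⟩ = b.height i := by
    intro i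
    refine b.induction_add i (p := fun i => ht ⟨P.root i, Submodule.subset_span (Set.mem_range_self i)⟩ = b.height i)
      (fun k hk => ?_) (fun k hk => ?_) fun k l n h hk hl => ?_
    · have : b.height (P.reflectionPerm k k) = -b.height k := b.height_reflectionPerm_self k
      rw [this, ← hk, ← map_neg]
      congr 1
      exact Subtype.ext (root_opp P k)
    · rw [Base.height_one_of_mem_support hk, ← hβ ⟨k, hk⟩]
      simp [ht]
    · rw [b.height_add h, Base.height_one_of_mem_support hl, ← hk,
        show (⟨P.root n, Submodule.subset_span (Set.mem_range_self n)⟩ : ↥(Submodule.span ℤ (Set.range P.root))) =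
          ⟨P.root k, Submodule.subset_span (Set.mem_range_self k)⟩ + β (e ⟨l, hl⟩) from
            Subtype.ext (by simp [hβ, h]), map_add]
      simp [ht]
  refine ⟨{x | 0 < ht x ∨ (ht x = 0 ∧ toLex (0 : Fin (Fintype.card ↥b.support) →₀ ℤ) < toLex (β.repr x))}, ?_, ?_, ?_, ?_, ?_, ?_⟩
  · simp
  · rintro x hx y hy
    simp only [Set.mem_ofPred_eq, map_add] at hx hy ⊢
    rcases hx with hx | ⟨hx, hx'⟩ <;> rcases hy with hy | ⟨hy, hy'⟩
    · exact Or.inl (by lia)
    · exact Or.inl (by lia)
    · exact Or.inl (by lia)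
    · refine Or.inr ⟨by lia, ?_⟩
      rw [toLex_add]
      exact add_pos hx' hy'
  · intro x hx
    simp only [Set.mem_ofPred_eq, map_neg]
    rcases lt_trichotomy (ht x) 0 with h | h | h
    · exact Or.inr (Or.inl (by lia))
    · rcases lt_trichotomy (toLex (0 : Fin (Fintype.card ↥b.support) →₀ ℤ)) (toLex (β.repr x)) with h' | h' | h'
      · exact Or.inl (Or.inr ⟨h, h'⟩)
      · exact absurd (β.repr.map_eq_zero_iff.mp (toLex.injective h').symm) hx
      · exact Or.inr (Or.inr ⟨by lia, by rw [toLex_neg]; exact neg_pos.mpr h'⟩)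
    · exact Or.inl (Or.inl h)
  · intro x hx hx'
    simp only [Set.mem_ofPred_eq, map_neg] at hx hx'
    rcases hx with hx | ⟨hx, hx2⟩ <;> rcases hx' with hy | ⟨hy, hy2⟩
    · lia
    · lia
    · lia
    · rw [toLex_neg] at hy2
      exact absurd hx2 (neg_pos.mp hy2).asymm
  · intro i
    simp only [Set.mem_ofPred_eq, hroot]
    exact ⟨fun h => h.elim id fun h => absurd h.1 (b.height_ne_zero i), Or.inl⟩
  · intro φ hφ x y hxy
    have : φ.toIntLinearMap = ht := β.ext fun k => by
      obtain ⟨a, rfl⟩ := e.surjective k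
      rw [hβ, AddMonoidHom.coe_toIntLinearMap, hφ _ a.2, ← hβ]
      simp [ht]
    have hx : ∀ z, φ z = ht z := fun z => DFunLike.congr_fun this z
    rw [hx, hx]
    rcases hxy with h | ⟨h, -⟩ <;> rw [map_sub] at h <;> lia

end Groth.Agent.S12076
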