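import Groth.Statements.S15706
import Mathlib.Algebra.Order.Ring.Star
import Mathlib.Combinatorics.Nullstellensatz
import Mathlib.Data.Rat.Star
import Mathlib.FieldTheory.Finite.Basic
import Mathlib.LinearAlgebra.BilinearForm.Properties
import Mathlib.RepresentationTheory.Invariants
import Mathlib.RingTheory.Flat.TorsionFree
import Mathlib.RingTheory.Henselian
import Mathlib.RingTheory.Ideal.AssociatedPrime.Basic
import Mathlib.RingTheory.RegularLocalRing.Defs
import Mathlib.RingTheory.SimpleRing.Principal

set_option autoImplicit false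
universe u
open CAlg

namespace Groth.Agent.S15706

/-- Let A be a Noetherian ring with Serre's property (S_1), stated here in the equivalent form that
every associated prime of A is a minimal prime of A. Let I be an ideal of A and b an element of A/I
which is regular (a non-zero-divisor) in A/I. Then b is the image of a regular element of A. -/
theorem result (A : Type u) [CommRing A]
    [IsNoetherianRing A] (hS1 : ∀ p ∈ associatedPrimes A A, p ∈ minimalPrimes A) (I : Ideal A)
    (b : A ⧸ I) (hb : b ∈ nonZeroDivisors (A ⧸ I)) :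
    ∃ a : A, a ∈ nonZeroDivisors A ∧ Ideal.Quotient.mk I a = b := by
  classical
  obtain ⟨a, rfl⟩ := Ideal.Quotient.mk_surjective b
  have hfin : (minimalPrimes A).Finite := minimalPrimes.finite_of_isNoetherianRing A
  let S := hfin.toFinset
  let bad := S.filter (fun p => a ∈ p)
  let good := S.filter (fun p => a ∉ p)
  let J : Ideal A := I * ∏ p ∈ good, p
  have hJ : ¬ (J : Set A) ⊆ ⋃ p ∈ (bad : Set (Ideal A)), (p : Set A) := by
    intro h
    rcases bad.eq_empty_or_nonempty with he | ⟨p0, hp0⟩
    · exact absurd (h J.zero_mem) (by simp [he])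
    · obtain ⟨q, hq, hle⟩ := (Ideal.subset_union_prime p0 p0 (fun i hi _ _ => ((hfin.mem_toFinset.mp (Finset.mem_filter.mp hi).1).1).1)).mp h
      have hqmin : q ∈ minimalPrimes A := hfin.mem_toFinset.mp (Finset.mem_filter.mp hq).1
      have haq : a ∈ q := (Finset.mem_filter.mp hq).2
      have hqp : q.IsPrime := hqmin.1.1
      rcases hqp.mul_le.mp hle with hI | hP
      · have hmin : q.map (Ideal.Quotient.mk I) ∈ minimalPrimes (A ⧸ I) := by
          refine ⟨⟨Ideal.map_isPrime_of_surjective Ideal.Quotient.mk_surjective (by simpa using hI), bot_le⟩, ?_⟩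
          rintro r ⟨hr, -⟩ hrq
          have h1 : r.comap (Ideal.Quotient.mk I) ≤ q := by
            intro x hx
            have := Ideal.comap_mono (f := Ideal.Quotient.mk I) hrq hx
            rwa [Ideal.comap_map_of_surjective _ Ideal.Quotient.mk_surjective, ← RingHom.ker_eq_comap_bot, Ideal.mk_ker, sup_of_le_left hI] at this
          have h2 := hqmin.2 ⟨Ideal.IsPrime.comap _, bot_le⟩ h1
          calc q.map (Ideal.Quotient.mk I) ≤ (r.comap (Ideal.Quotient.mk I)).map (Ideal.Quotient.mk I) := Ideal.map_mono h2
            _ = r := Ideal.map_comap_of_surjective _ Ideal.Quotient.mk_surjective r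
        exact Set.disjoint_left.mp (Ideal.disjoint_nonZeroDivisors_of_mem_minimalPrimes hmin) (Ideal.mem_map_of_mem _ haq) hb
      · obtain ⟨r, hr, hrq⟩ := (Ideal.IsPrime.prod_le hqp).mp hP
        obtain ⟨hr1, hr2⟩ := Finset.mem_filter.mp hr
        have hr3 : r ∈ minimalPrimes A := hfin.mem_toFinset.mp hr1
        exact hr2 (hqmin.2 hr3.1 hrq haq)
  obtain ⟨i, hiJ, hi⟩ := Set.not_subset.mp hJ
  refine ⟨a + i, ?_, ?_⟩
  · by_contra hz
    have : a + i ∈ (⋃ p ∈ associatedPrimes A A, (p : Set A)) := by
      rw [biUnion_associatedPrimes_eq_compl_nonZeroDivisors]; exact hz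
    obtain ⟨p, hp, hmem⟩ := Set.mem_iUnion₂.mp this
    have hpS : p ∈ S := hfin.mem_toFinset.mpr (hS1 p hp)
    by_cases hap : a ∈ p
    · exact hi (Set.mem_biUnion (show p ∈ (bad : Set (Ideal A)) from Finset.mem_filter.mpr ⟨hpS, hap⟩) ((Submodule.add_mem_iff_right p hap).mp hmem))
    · have : i ∈ p := by
        have h1 : J ≤ p := (Ideal.mul_le_right).trans ((Ideal.prod_le_inf).trans (Finset.inf_le (f := id) (Finset.mem_filter.mpr ⟨hpS, hap⟩)))
        exact h1 hiJ
      exact hap ((Submodule.add_mem_iff_left p this).mp hmem)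
  · rw [map_add, Ideal.Quotient.eq_zero_iff_mem.mpr (Ideal.mul_le_left hiJ), add_zero]

end Groth.Agent.S15706
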