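import Groth.Statements.S12078
import Groth.Agent.H3CAlg.GenericDet
import Groth.Agent.S15706
import Mathlib.Data.Int.ConditionallyCompleteOrder
import Mathlib.Data.Int.Star
import Mathlib.RingTheory.LocalProperties.FinitePresentation
import Mathlib.RingTheory.LocalProperties.Projective
import Mathlib.RingTheory.MvPolynomial.IrreducibleQuadratic
import Mathlib.RingTheory.PicardGroup

set_option autoImplicit false
universe u
open CAlg

namespace Groth.Agent.S12078

/-- An elementary divisor domain is Bézout. Here `R` is a domain such that for all `n, m ≥ 1` and every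
`n × m` matrix `A` there are invertible matrices `U` (`n × n`) and `V` (`m × m`) with `U * A * V`
zero off the diagonal and with diagonal entries `f 0 ∣ f 1 ∣ f 2 ∣ …`; the conclusion is that every
finitely generated ideal of `R` is principal. -/
theorem result (R : Type u) [CommRing R] [IsDomain R]
    (hR : ∀ n m : ℕ, 1 ≤ n → 1 ≤ m → ∀ A : Matrix (Fin n) (Fin m) R,
      ∃ (U : (Matrix (Fin n) (Fin n) R)ˣ) (V : (Matrix (Fin m) (Fin m) R)ˣ) (f : ℕ → R),
        (∀ k : ℕ, f k ∣ f (k + 1)) ∧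
        ∀ (i : Fin n) (j : Fin m), ((U : Matrix (Fin n) (Fin n) R) * A * (V : Matrix (Fin m) (Fin m) R)) i j =
          if (i : ℕ) = (j : ℕ) then f i else 0) :
    IsBezout R := by
  rw [IsBezout.iff_span_pair_isPrincipal]
  intro a b
  obtain ⟨U, V, f, -, hD⟩ := hR 1 2 le_rfl one_le_two !![a, b]
  refine ⟨⟨f 0, le_antisymm ?_ ?_⟩⟩
  · have hu : IsUnit ((U : Matrix (Fin 1) (Fin 1) R) 0 0) := by
      have := (Matrix.isUnit_iff_isUnit_det _).mp U.isUnit
      simpa [Matrix.det_unique] using this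
    have hA : (!![a, b] : Matrix (Fin 1) (Fin 2) R) =
        (↑U⁻¹ : Matrix (Fin 1) (Fin 1) R) * ((U : Matrix (Fin 1) (Fin 1) R) * !![a, b] * (V : Matrix (Fin 2) (Fin 2) R)) * (↑V⁻¹ : Matrix (Fin 2) (Fin 2) R) := by
      rw [Matrix.mul_assoc, Matrix.mul_assoc, Units.mul_inv, Matrix.mul_one, ← Matrix.mul_assoc, Units.inv_mul, Matrix.one_mul]
    have hD' : ((U : Matrix (Fin 1) (Fin 1) R) * !![a, b] * (V : Matrix (Fin 2) (Fin 2) R)) = !![f 0, 0] := by
      ext i j; rw [hD]; fin_cases i; fin_cases j <;> simp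
    rw [hD'] at hA
    generalize (↑U⁻¹ : Matrix (Fin 1) (Fin 1) R) = Ui, (↑V⁻¹ : Matrix (Fin 2) (Fin 2) R) = Vi at hA
    have ha := congrFun (congrFun hA 0) 0
    have hb := congrFun (congrFun hA 0) 1
    simp [Matrix.mul_apply, Fin.sum_univ_two] at ha hb
    rw [Ideal.span_le]
    rintro x (rfl | rfl)
    · rw [SetLike.mem_coe, Submodule.mem_span_singleton]
      exact ⟨Ui 0 0 * Vi 0 0, by rw [ha, smul_eq_mul]; ring⟩
    · rw [SetLike.mem_coe, Submodule.mem_span_singleton]
      exact ⟨Ui 0 0 * Vi 0 1, by rw [hb, smul_eq_mul]; ring⟩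
  · rw [Submodule.span_singleton_le_iff_mem, Ideal.mem_span_pair]
    have h0 := hD 0 0
    simp [Matrix.mul_apply, Fin.sum_univ_two] at h0
    exact ⟨(U : Matrix (Fin 1) (Fin 1) R) 0 0 * (V : Matrix (Fin 2) (Fin 2) R) 0 0,
      (U : Matrix (Fin 1) (Fin 1) R) 0 0 * (V : Matrix (Fin 2) (Fin 2) R) 1 0, by rw [← h0]; ring⟩

end Groth.Agent.S12078
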