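import Groth.Statements.S12079
import Groth.Agent.H3CAlg.FrobSemi
import Mathlib.Algebra.Module.StablyFree.Basic
import Mathlib.RingTheory.PicardGroup
import Mathlib.RingTheory.TotallySplit

set_option autoImplicit false
universe u
open TensorProduct
open CAlg

namespace Groth.Agent.S12079

/-- For a finitely presented `R`-module `M`, any `R`-module `N` and a flat `R`-module `L`, the canonical
map `Hom_R(M, N) ⊗_R L → Hom_R(M, N ⊗_R L)` sending `f ⊗ l` to `m ↦ f m ⊗ l` is bijective. -/
theorem result (R : Type u) [CommRing R]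
    (M N L : Type u) [AddCommGroup M] [Module R M] [AddCommGroup N] [Module R N] [AddCommGroup L] [Module R L]
    [Module.FinitePresentation R M] [Module.Flat R L] :
    Function.Bijective (TensorProduct.rTensorHomToHomRTensor (RingHom.id R) M N L) := by
  classical
  obtain ⟨a, π, hπ⟩ := Module.Finite.exists_fin' R M
  obtain ⟨b, d, hd⟩ := (Submodule.fg_iff_exists_fin_linearMap R _).mp (Module.FinitePresentation.fg_ker π hπ)
  have hex : Function.Exact d π := LinearMap.exact_iff.mpr hd.symm
  let θ := fun (X : Type u) [AddCommGroup X] [Module R X] => TensorProduct.rTensorHomToHomRTensor (RingHom.id R) X N L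
  have hbij : ∀ m : ℕ, Function.Bijective (θ (Fin m → R)) := fun m => by
    have h : ⇑(θ (Fin m → R)) = ⇑(rTensorHomEquivHomRTensor R (Fin m → R) N L) :=
      funext fun x => (rTensorHomEquivHomRTensor_apply x).symm
    rw [h]; exact (rTensorHomEquivHomRTensor R (Fin m → R) N L).bijective
  have nat : ∀ (X Y : Type u) [AddCommGroup X] [Module R X] [AddCommGroup Y] [Module R Y] (f : X →ₗ[R] Y) (z : (Y →ₗ[R] N) ⊗[R] L),
      θ X (LinearMap.rTensor L (LinearMap.lcomp R N f) z) = θ Y z ∘ₗ f := by
    intro X Y _ _ _ _ f z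
    induction z using TensorProduct.induction_on with
    | zero => simp [θ]
    | tmul h l => ext x; simp [θ]
    | add p q hp hq => simp only [map_add, hp, hq, LinearMap.add_comp]
  have hinjN : Function.Injective (LinearMap.lcomp R N π) := fun f g h => by
    ext x; obtain ⟨y, rfl⟩ := hπ x; exact LinearMap.congr_fun h y
  have hexN : Function.Exact (LinearMap.lcomp R N π) (LinearMap.lcomp R N d) := by
    intro h
    constructor
    · intro hh
      obtain ⟨h', rfl⟩ : ∃ h' : M →ₗ[R] N, h' ∘ₗ π = h := by
        refine ⟨(Submodule.liftQ (LinearMap.ker π) h ?_) ∘ₗ (π.quotKerEquivOfSurjective hπ).symm.toLinearMap, ?_⟩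
        · rw [← hd]
          rintro _ ⟨y, rfl⟩
          exact LinearMap.congr_fun hh y
        · ext y
          have : (π.quotKerEquivOfSurjective hπ).symm (π (Pi.single y 1)) = Submodule.Quotient.mk (Pi.single y 1) := by
            rw [LinearEquiv.symm_apply_eq]; rfl
          simp [this]
      exact ⟨h', rfl⟩
    · rintro ⟨h', rfl⟩
      ext y
      simp [hex.apply_apply_eq_zero]
  constructor
  · intro z w hzw
    have h0 : θ (Fin a → R) (LinearMap.rTensor L (LinearMap.lcomp R N π) z) =
        θ (Fin a → R) (LinearMap.rTensor L (LinearMap.lcomp R N π) w) := by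
      rw [nat, nat]; exact congrArg (· ∘ₗ π) hzw
    exact Module.Flat.rTensor_preserves_injective_linearMap _ hinjN ((hbij a).1 h0)
  · intro h
    obtain ⟨y, hy⟩ := (hbij a).2 (h ∘ₗ π)
    have hy0 : LinearMap.rTensor L (LinearMap.lcomp R N d) y = 0 := by
      apply (hbij b).1
      rw [nat, hy, LinearMap.comp_assoc, hex.linearMap_comp_eq_zero, LinearMap.comp_zero]
      exact (map_zero _).symm
    obtain ⟨z, rfl⟩ := (Module.Flat.rTensor_exact L hexN y).mp hy0
    refine ⟨z, ?_⟩
    rw [nat] at hy
    ext x
    obtain ⟨t, rfl⟩ := hπ x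
    exact LinearMap.congr_fun hy t

end Groth.Agent.S12079
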