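import Groth.Statements.S12080
import Groth.Agent.H3CAlg.GenericDet
import Groth.Agent.S15706
import Mathlib.Data.Int.ConditionallyCompleteOrder
import Mathlib.Data.Int.Star
import Mathlib.RingTheory.LocalProperties.FinitePresentation
import Mathlib.RingTheory.LocalProperties.Projective
import Mathlib.RingTheory.MvPolynomial.IrreducibleQuadratic
import Mathlib.RingTheory.PicardGroup

set_option autoImplicit false
universe u
open TensorProduct
open CAlg

namespace Groth.Agent.S12080

/-- (1) ⇒ (2): let `M` be a finite locally free `R`-module of rank `1`, i.e. there is a set `s ⊆ R`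
generating the unit ideal with `M_f ≅ R_f` as `R_f`-modules for every `f ∈ s`. Then the evaluation
map `Hom_R(M, R) ⊗_R M → R` is bijective, so `M` is invertible with inverse its dual. -/
theorem result (R : Type u) [CommRing R] (M : Type u) [AddCommGroup M]
    [Module R M] (s : Set R) (hs : Ideal.span s = ⊤)
    (hfree : ∀ f ∈ s, Nonempty (LocalizedModule.Away f M ≃ₗ[Localization.Away f] Localization.Away f)) :
    Module.Invertible R M := by
  have hFP : Module.FinitePresentation R M := by
    refine Module.FinitePresentation.of_localizationSpan s hs fun g => ?_
    obtain ⟨e⟩ := hfree g.1 g.2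
    have : Module.Finite (Localization.Away g.1) (LocalizedModule.Away g.1 M) := Module.Finite.equiv e.symm
    have : Module.Projective (Localization.Away g.1) (LocalizedModule.Away g.1 M) := Module.Projective.of_equiv e.symm
    exact Module.finitePresentation_of_projective (Localization.Away g.1) (LocalizedModule.Away g.1 M)
  -- symmetry
  have hsym : ∀ (g : Module.Dual R M) (x y : M), g x • y = g y • x := by
    intro g x y
    rw [← sub_eq_zero]
    set z := g x • y - g y • x
    by_contra hz
    have hann : Ideal.span s ≤ (Ideal.torsionOf R M z).radical := by
      rw [Ideal.span_le]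
      intro f hf
      obtain ⟨e⟩ := hfree f hf
      let gl : LocalizedModule.Away f M →ₗ[Localization.Away f] Localization.Away f :=
        LinearMap.extendScalarsOfIsLocalization (Submonoid.powers f) (Localization.Away f)
          (IsLocalizedModule.map (Submonoid.powers f) (LocalizedModule.mkLinearMap (Submonoid.powers f) M)
            (Algebra.linearMap R (Localization.Away f)) g)
      have hg : ∀ w : M, gl (LocalizedModule.mkLinearMap (Submonoid.powers f) M w) = algebraMap R _ (g w) := by
        intro w
        simp only [gl, LinearMap.extendScalarsOfIsLocalization_apply']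
        exact IsLocalizedModule.map_apply _ _ _ g w
      have hlin : ∀ t, gl t = gl (e.symm 1) * e t := by
        intro t
        have : t = e t • e.symm 1 := by rw [← map_smul, smul_eq_mul, mul_one, e.symm_apply_apply]
        conv_lhs => rw [this, map_smul, smul_eq_mul, mul_comm]
      have h0 : LocalizedModule.mkLinearMap (Submonoid.powers f) M z = 0 := by
        apply e.injective
        rw [map_zero, map_sub, map_smul, map_smul, ← algebraMap_smul (Localization.Away f) (g x),
          ← algebraMap_smul (Localization.Away f) (g y), map_sub, map_smul, map_smul, ← hg x, ← hg y, smul_eq_mul, smul_eq_mul, hlin, hlin (LocalizedModule.mkLinearMap (Submonoid.powers f) M y)]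
        ring
      obtain ⟨⟨c, k, rfl⟩, hc⟩ := (IsLocalizedModule.eq_zero_iff (Submonoid.powers f) _).mp h0
      exact ⟨k, hc⟩
    rw [hs, top_le_iff, Ideal.radical_eq_top, Ideal.eq_top_iff_one, Ideal.mem_torsionOf_iff, one_smul] at hann
    exact hz hann
  have hsurj : Function.Surjective (contractLeft R M) := by
    rw [← LinearMap.range_eq_top, ← Ideal.radical_eq_top, eq_top_iff, ← hs, Ideal.span_le]
    intro f hf
    obtain ⟨e⟩ := hfree f hf
    obtain ⟨⟨m, t⟩, hmt⟩ := IsLocalizedModule.surj (Submonoid.powers f) (LocalizedModule.mkLinearMap (Submonoid.powers f) M) (e.symm 1)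
    obtain ⟨g, ⟨c, hc⟩, hg⟩ := Module.FinitePresentation.exists_lift_of_isLocalizedModule (Submonoid.powers f)
      (Algebra.linearMap R (Localization.Away f))
      ((e.toLinearMap.restrictScalars R).comp (LocalizedModule.mkLinearMap (Submonoid.powers f) M))
    have h1 : algebraMap R (Localization.Away f) (g m) = algebraMap R _ (c * (t : R)) := by
      have := LinearMap.congr_fun hg m
      simp only [LinearMap.comp_apply, LinearMap.smul_apply, Algebra.linearMap_apply] at this
      rw [this]
      simp only [LinearMap.restrictScalars_apply, LinearEquiv.coe_coe, ← hmt, Submonoid.smul_def]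
      rw [← algebraMap_smul (Localization.Away f) (t : R), map_smul, e.apply_symm_apply, smul_eq_mul, mul_one, map_mul, Algebra.smul_def]
    obtain ⟨⟨d, hd⟩, hdd⟩ := (IsLocalization.eq_iff_exists (Submonoid.powers f) (Localization.Away f)).mp h1
    obtain ⟨k, hk⟩ := mul_mem hd (mul_mem hc t.2)
    refine ⟨k, ⟨(d • g) ⊗ₜ m, ?_⟩⟩
    rw [contractLeft_apply, LinearMap.smul_apply, smul_eq_mul]
    exact hdd.trans hk.symm
  have hinj : Function.Injective (contractLeft R M) := by
    obtain ⟨u, hu⟩ := hsurj 1
    have key : ∀ z : Module.Dual R M ⊗[R] M, z = contractLeft R M z • u := by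
      intro z
      have h2 : ∀ (g : Module.Dual R M) (m : M) (w : Module.Dual R M ⊗[R] M), contractLeft R M w • (g ⊗ₜ[R] m) = g m • w := by
        intro g m w
        induction w using TensorProduct.induction_on with
        | zero => simp
        | add a b ha hb => rw [map_add, add_smul, ha, hb, smul_add]
        | tmul h x =>
          rw [contractLeft_apply, ← TensorProduct.tmul_smul, hsym h x m, TensorProduct.tmul_smul, TensorProduct.smul_tmul',
            TensorProduct.smul_tmul']
          rw [show h m • g = g m • h from LinearMap.ext fun y => by
            have := congrArg g (hsym h m y)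
            simp only [map_smul, smul_eq_mul] at this
            simp only [LinearMap.smul_apply, smul_eq_mul]
            linear_combination this]
      induction z using TensorProduct.induction_on with
      | zero => simp
      | add a b ha hb => rw [map_add, add_smul, ← ha, ← hb]
      | tmul g m => rw [contractLeft_apply, ← h2, hu, one_smul]
    intro a b hab
    rw [key a, key b, hab]
  exact Module.Invertible.right (LinearEquiv.ofBijective _ ⟨hinj, hsurj⟩)

end Groth.Agent.S12080
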