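import Groth.Statements.S12081
import Groth.Agent.H9Hens.Milnor
import Mathlib.RingTheory.IsTensorProduct
-- import your own Groth.Agent.* helpers here

set_option autoImplicit false
universe u
open TensorProduct
open EtAlg

namespace Groth.Agent.S12081

/-- Let `B' = B ×_A A'` be a fibre square of rings with `A' → A` surjective with kernel `I`, let `J =
Ker(B' → B)`, let `D'` be a `B'`-algebra and `C' = D' ⊗_{B'} A'`. Then the ideal `I C'` is, as a
subset of `C'`, the image of the ideal `J D'` under `D' → C'`; that is, the map `J D' → I C'` is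
surjective. -/
theorem result (B' B A' A : Type u) [CommRing B'] [CommRing B] [CommRing A'] [CommRing A]
    [Algebra B' B] [Algebra B' A'] [Algebra B A] [Algebra A' A] [Algebra B' A] [IsScalarTower B' B A] [IsScalarTower B' A' A]
    (hsq : EtMil.IsFibreSquare B' B A' A)
    (D' C' : Type u) [CommRing D'] [CommRing C'] [Algebra B' D'] [Algebra A' C']
    [Algebra D' C'] [Algebra B' C'] [IsScalarTower B' A' C'] [IsScalarTower B' D' C'] [Algebra.IsPushout B' A' D' C'] :
    (algebraMap D' C') '' ((RingHom.ker (algebraMap B' B)).map (algebraMap B' D') : Set D') =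
      ((RingHom.ker (algebraMap A' A)).map (algebraMap A' C') : Set C') := by
  have h := H9Hens.Milnor.weak_of_isFibreSquare hsq
  set P := (RingHom.ker (algebraMap B' B)).map (algebraMap B' D')
  apply Set.Subset.antisymm
  · have hle : P.map (algebraMap D' C') ≤ (RingHom.ker (algebraMap A' A)).map (algebraMap A' C') := by
      rw [Ideal.map_map, ← IsScalarTower.algebraMap_eq, IsScalarTower.algebraMap_eq B' A' C',
        ← Ideal.map_map]
      refine Ideal.map_mono (Ideal.map_le_iff_le_comap.mpr fun j hj => ?_)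
      rw [Ideal.mem_comap, RingHom.mem_ker, ← IsScalarTower.algebraMap_apply,
        IsScalarTower.algebraMap_apply B' B A, RingHom.mem_ker.mp hj, map_zero]
    rintro _ ⟨d, hd, rfl⟩
    exact hle (Ideal.mem_map_of_mem _ hd)
  · intro z hz
    suffices ∀ z ∈ (RingHom.ker (algebraMap A' A)).map (algebraMap A' C'), ∀ c : C',
        ∃ d ∈ P, algebraMap D' C' d = c * z by
      obtain ⟨d, hd, e⟩ := this z hz 1
      exact ⟨d, hd, by rw [e, one_mul]⟩
    intro z hz
    induction hz using Submodule.span_induction with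
    | mem w hw =>
      obtain ⟨i, hi, rfl⟩ := hw
      intro c
      induction c using (Algebra.IsPushout.out (R := B') (S := A') (R' := D') (S' := C')).inductionOn
        generalizing i with
      | zero => exact ⟨0, P.zero_mem, by simp⟩
      | tmul d =>
        obtain ⟨j, hj, rfl⟩ := h.ker i hi
        refine ⟨algebraMap B' D' j * d, P.mul_mem_right _ (Ideal.mem_map_of_mem _ hj), ?_⟩
        rw [map_mul, mul_comm, ← IsScalarTower.algebraMap_apply, ← IsScalarTower.algebraMap_apply]
        rfl
      | smul a c hc =>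
        obtain ⟨d, hd, e⟩ := hc (a * i) (Ideal.mul_mem_left _ _ hi)
        exact ⟨d, hd, by rw [e, map_mul, Algebra.smul_def]; ring⟩
      | add c₁ c₂ h₁ h₂ =>
        obtain ⟨d₁, hd₁, e₁⟩ := h₁ i hi
        obtain ⟨d₂, hd₂, e₂⟩ := h₂ i hi
        exact ⟨d₁ + d₂, P.add_mem hd₁ hd₂, by rw [map_add, e₁, e₂, add_mul]⟩
    | zero => exact fun c => ⟨0, P.zero_mem, by simp⟩
    | add u v _ _ hu hv =>
      intro c
      obtain ⟨d₁, hd₁, e₁⟩ := hu c
      obtain ⟨d₂, hd₂, e₂⟩ := hv c
      exact ⟨d₁ + d₂, P.add_mem hd₁ hd₂, by rw [map_add, e₁, e₂, mul_add]⟩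
    | smul r u _ hu =>
      intro c
      obtain ⟨d, hd, e⟩ := hu (c * r)
      exact ⟨d, hd, by rw [e, smul_eq_mul, mul_assoc]⟩

end Groth.Agent.S12081
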