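import Groth.Statements.S12082
import Groth.Agent.H9CI.Presentation
-- import your own Groth.Agent.* helpers here

set_option autoImplicit false
universe u
open Synt

namespace Groth.Agent.S12082

/-- Let `S = k[x_1, …, x_n]/I` over a field `k`, `q` a prime of `S` with preimage `q'` in the polynomial
ring, `c` the natural number with `c + ht(q) = ht(q')`, and `J` the extension of `I` to the local
ring `R = k[x_1, …, x_n]_{q'}`. Any `c` elements of `J` whose images generate `J / q' J` form a
regular sequence in `R`. -/
theorem result (k : Type u) [Field k] (n : ℕ)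
    (I : Ideal (MvPolynomial (Fin n) k)) (q : Ideal (MvPolynomial (Fin n) k ⧸ I)) [q.IsPrime] (c : ℕ)
    (hc : (c : ℕ∞) + q.height = (q.comap (Ideal.Quotient.mk I)).height)
    (f : Fin c → Localization.AtPrime (q.comap (Ideal.Quotient.mk I)))
    (hf : ∀ i, f i ∈ I.map (algebraMap _ (Localization.AtPrime (q.comap (Ideal.Quotient.mk I)))))
    (hgen : Ideal.span (Set.range f) ⊔
        IsLocalRing.maximalIdeal (Localization.AtPrime (q.comap (Ideal.Quotient.mk I))) *
          I.map (algebraMap _ (Localization.AtPrime (q.comap (Ideal.Quotient.mk I)))) =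
      I.map (algebraMap _ (Localization.AtPrime (q.comap (Ideal.Quotient.mk I))))) :
    RingTheory.Sequence.IsRegular (Localization.AtPrime (q.comap (Ideal.Quotient.mk I))) (List.ofFn f) := by
  let φ : MvPolynomial (Fin n) k →ₐ[k] MvPolynomial (Fin n) k ⧸ I := Ideal.Quotient.mkₐ k I
  obtain ⟨g, hg, hker⟩ := H9CI.exists_localization_presentation φ Ideal.Quotient.mk_surjective q
  let L := Localization.AtPrime (q.comap (Ideal.Quotient.mk I))
  let J := I.map (algebraMap (MvPolynomial (Fin n) k) L)
  have hkerJ : RingHom.ker g.toRingHom = J := hker.trans (by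
    congr 1
    exact Ideal.mk_ker)
  have hJm : J ≤ IsLocalRing.maximalIdeal L := by
    rw [← hkerJ]; exact IsLocalRing.le_maximalIdeal (RingHom.ker_ne_top _)
  have hspan : Ideal.span (Set.range f) = J := le_antisymm (Ideal.span_le.mpr (by rintro _ ⟨i, rfl⟩; exact hf i))
    (Submodule.le_of_le_smul_of_le_jacobson_bot (I := IsLocalRing.maximalIdeal L) (IsNoetherian.noetherian _)
      (IsLocalRing.maximalIdeal_le_jacobson _) hgen.ge)
  refine H9CI.isRegular_of_dim_le f (fun i => hJm (hf i)) ?_
  let e : L ⧸ J ≃+* Localization.AtPrime q :=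
    (Ideal.quotEquivOfEq hkerJ.symm).trans (RingHom.quotientKerEquivOfSurjective hg)
  rw [hspan, ringKrullDim_eq_of_ringEquiv e, IsLocalization.AtPrime.ringKrullDim_eq_height q (Localization.AtPrime q),
    IsLocalization.AtPrime.ringKrullDim_eq_height (q.comap (Ideal.Quotient.mk I)), ← hc, add_comm, WithBot.coe_add]
  exact le_rfl

end Groth.Agent.S12082
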