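import Groth.Statements.S12083
import Groth.Agent.H1CAlg.RelFP
import Mathlib.RingTheory.MvPolynomial.IrreducibleQuadratic
import Mathlib.RingTheory.TotallySplit

set_option autoImplicit false
universe u
open CAlg

namespace Groth.Agent.S12083

/-- Let `R → A` be a finite type ring map with a surjective presentation `α : R[x_1, …, x_n] → A` and
`M` an `A`-module finitely presented relative to `R` (finitely presented as an `R[x_1, …,
x_n]`-module through `α`). For a ring map `R → R'` let `A' = R' ⊗_R A` (a pushout square) and `γ :
R'[z_1, …, z_k] → A'` any surjective presentation. Then `A' ⊗_A M = R' ⊗_R M` is finitely presented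
relative to `R'`, i.e. finitely presented as an `R'[z_1, …, z_k]`-module through `γ`. -/
theorem result {R A R' A' : Type u} [CommRing R] [CommRing A] [CommRing R'] [CommRing A']
    [Algebra R A] [Algebra R R'] [Algebra A A'] [Algebra R' A'] [Algebra R A'] [IsScalarTower R A A'] [IsScalarTower R R' A']
    [Algebra.IsPushout R A R' A'] [Algebra.FiniteType R A] (M : Type u) [AddCommGroup M] [Module A M] {n k : ℕ}
    (α : MvPolynomial (Fin n) R →ₐ[R] A) (hα : Function.Surjective α)
    (hM : @Module.FinitePresentation (MvPolynomial (Fin n) R) M _ _ (Module.compHom M α.toRingHom))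
    (γ : MvPolynomial (Fin k) R' →ₐ[R'] A') (hγ : Function.Surjective γ) :
    @Module.FinitePresentation (MvPolynomial (Fin k) R') (TensorProduct A A' M) _ _
      (Module.compHom (TensorProduct A A' M) γ.toRingHom) := by
  let P := MvPolynomial (Fin n) R
  let P' := MvPolynomial (Fin n) R'
  letI : Algebra P P' := MvPolynomial.algebraMvPolynomial
  letI : Algebra P A := α.toRingHom.toAlgebra
  letI : Algebra P A' := ((algebraMap A A').comp α.toRingHom).toAlgebra
  let α' : P' →ₐ[R'] A' := MvPolynomial.aeval fun i => algebraMap A A' (α (MvPolynomial.X i))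
  letI : Algebra P' A' := α'.toRingHom.toAlgebra
  haveI : IsScalarTower R P A := IsScalarTower.of_algebraMap_eq fun r => (α.commutes r).symm
  haveI : IsScalarTower P A A' := IsScalarTower.of_algebraMap_eq fun p => rfl
  haveI : IsScalarTower R P A' := IsScalarTower.of_algebraMap_eq fun r => by
    show algebraMap R A' r = algebraMap A A' (α (algebraMap R P r))
    rw [α.commutes, ← IsScalarTower.algebraMap_apply]
  haveI : IsScalarTower R' P' A' := IsScalarTower.of_algebraMap_eq fun r => (α'.commutes r).symm
  have hcomp : ∀ p : P, α' (MvPolynomial.map (algebraMap R R') p) = algebraMap A A' (α p) := by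
    intro p
    induction p using MvPolynomial.induction_on with
    | C r =>
      rw [MvPolynomial.map_C, MvPolynomial.aeval_C, ← MvPolynomial.algebraMap_eq, α.commutes,
        ← IsScalarTower.algebraMap_apply, ← IsScalarTower.algebraMap_apply]
    | add p q hp hq => simp only [map_add, hp, hq]
    | mul_X p i hp => rw [map_mul, map_mul, hp, MvPolynomial.map_X, MvPolynomial.aeval_X, map_mul, map_mul]
  haveI : IsScalarTower P P' A' := IsScalarTower.of_algebraMap_eq fun p => (hcomp p).symm
  haveI : IsScalarTower R P' A' := IsScalarTower.of_algebraMap_eq fun r => by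
    rw [IsScalarTower.algebraMap_apply R R' A', IsScalarTower.algebraMap_apply R R' P']
    exact (α'.commutes _).symm
  haveI hPP : Algebra.IsPushout R P R' P' := inferInstance
  haveI hpo : Algebra.IsPushout P A P' A' :=
    (Algebra.IsPushout.comp_iff (R := R) (S := P) (R' := R') (S' := P') (T := A) (T' := A')).mp inferInstance
  haveI hpo' : Algebra.IsPushout P P' A A' := hpo.symm
  have hα' : Function.Surjective α' := by
    intro y
    refine IsTensorProduct.inductionOn hpo'.out y ⟨0, map_zero _⟩ (fun s x => ?_) ?_
    · obtain ⟨p, rfl⟩ := hα x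
      refine ⟨s * MvPolynomial.map (algebraMap R R') p, ?_⟩
      rw [map_mul, hcomp]
      exact (Algebra.smul_def s _).symm
    · rintro a b ⟨u, hu⟩ ⟨v, hv⟩
      exact ⟨u + v, by rw [map_add, hu, hv]⟩
  letI : Module P M := Module.compHom M α.toRingHom
  haveI : IsScalarTower P A M := IsScalarTower.of_algebraMap_smul fun _ _ => rfl
  haveI : Module.FinitePresentation P M := hM
  let e := Algebra.IsPushout.cancelBaseChange P P' A A' M
  haveI h2 : Module.FinitePresentation P' (TensorProduct A A' M) := Module.FinitePresentation.of_equiv e.symm
  have h4 : @Module.FinitePresentation P' (TensorProduct A A' M) _ _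
      (Module.compHom (TensorProduct A A' M) α'.toRingHom) := by
    convert h2 using 1
    refine Module.ext' _ _ fun p z => ?_
    exact algebraMap_smul A' p z
  exact (Groth.Agent.H1CAlg.relFP_iff (R := R') (TensorProduct A A' M) γ hγ).mp
    ⟨n, α', hα', h4⟩

end Groth.Agent.S12083
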