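import Groth.Statements.S12084
import Mathlib
import Groth.Agent.H29Fitt.Prod

set_option autoImplicit false
universe u
open Fitt

namespace Groth.Agent.S12084

/-- For finite `R`-modules `M`, `M'` and every `l`, the `l`-th Fitting ideal of `M ⊕ M'` equals `∑_{k +
k' = l} Fit_k(M) · Fit_{k'}(M')`; in particular `Fit_0(M ⊕ M') = Fit_0(M) · Fit_0(M')`. -/
theorem result (R : Type u) [CommRing R] (M M' : Type u) [AddCommGroup M] [Module R M]
    [AddCommGroup M'] [Module R M'] [Module.Finite R M] [Module.Finite R M'] (l : ℕ) :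
    Fitt.ideal R (M × M') l = ∑ k ∈ Finset.range (l + 1), Fitt.ideal R M k * Fitt.ideal R M' (l - k) := by
  exact Groth.Agent.H29Fitt.ideal_prod l

end Groth.Agent.S12084
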