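import Groth.Statements.S12086
import Groth.Agent.H4DR.KFlatMod
import Groth.Agent.H16Derived.KFlat.Cone
import Mathlib.Algebra.Homology.HomotopyCategory.Triangulated
import Mathlib.Algebra.Category.ModuleCat.AB

set_option autoImplicit false
universe u
open CategoryTheory CategoryTheory.Limits MonoidalCategory CategoryTheory.Pretriangulated
open DRing

namespace Groth.Agent.S12086

/-- Let `(K₁•, K₂•, K₃•)` be a distinguished triangle in the homotopy category `K(R)` of complexes of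
`R`-modules. If two out of the three complexes are K-flat (tensoring with them carries acyclic
complexes to acyclic complexes), then so is the third. -/
theorem result (R : Type u) [CommRing R]
    (T : Pretriangulated.Triangle (HomotopyCategory (ModuleCat.{u} R) (ComplexShape.up ℤ)))
    (hT : T ∈ Pretriangulated.distinguishedTriangles) :
    ((∀ L : DRing.Cx R, (∀ i : ℤ, IsZero (L.homology i)) → ∀ i : ℤ, IsZero ((L ⊗ T.obj₁.as).homology i)) → (∀ L : DRing.Cx R, (∀ i : ℤ, IsZero (L.homology i)) → ∀ i : ℤ, IsZero ((L ⊗ T.obj₂.as).homology i)) → (∀ L : DRing.Cx R, (∀ i : ℤ, IsZero (L.homology i)) → ∀ i : ℤ, IsZero ((L ⊗ T.obj₃.as).homology i))) ∧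
    ((∀ L : DRing.Cx R, (∀ i : ℤ, IsZero (L.homology i)) → ∀ i : ℤ, IsZero ((L ⊗ T.obj₁.as).homology i)) → (∀ L : DRing.Cx R, (∀ i : ℤ, IsZero (L.homology i)) → ∀ i : ℤ, IsZero ((L ⊗ T.obj₃.as).homology i)) → (∀ L : DRing.Cx R, (∀ i : ℤ, IsZero (L.homology i)) → ∀ i : ℤ, IsZero ((L ⊗ T.obj₂.as).homology i))) ∧
    ((∀ L : DRing.Cx R, (∀ i : ℤ, IsZero (L.homology i)) → ∀ i : ℤ, IsZero ((L ⊗ T.obj₂.as).homology i)) → (∀ L : DRing.Cx R, (∀ i : ℤ, IsZero (L.homology i)) → ∀ i : ℤ, IsZero ((L ⊗ T.obj₃.as).homology i)) → (∀ L : DRing.Cx R, (∀ i : ℤ, IsZero (L.homology i)) → ∀ i : ℤ, IsZero ((L ⊗ T.obj₁.as).homology i))) := by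
  simp only [Groth.Agent.H4DR.KFlatMod.iff_isKFlat]
  let Q := HomotopyCategory.quotient (ModuleCat.{u} R) (ComplexShape.up ℤ)
  obtain ⟨φ, hφ⟩ := Q.map_surjective (X := T.obj₁.as) (Y := T.obj₂.as) T.mor₁
  let T₀ := CochainComplex.mappingCone.triangleh φ
  have hT₀ : T₀ ∈ Pretriangulated.distinguishedTriangles := HomotopyCategory.mappingCone_triangleh_distinguished φ
  obtain ⟨e, -, -⟩ := Pretriangulated.exists_iso_of_arrow_iso T T₀ hT hT₀
    (Arrow.isoMk (Iso.refl _) (Iso.refl _) (by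
      show 𝟙 _ ≫ Q.map φ = T.mor₁ ≫ 𝟙 _
      rw [hφ]
      exact (Category.id_comp _).trans (Category.comp_id _).symm))
  let eh : HomotopyEquiv T.obj₃.as (CochainComplex.mappingCone φ) :=
    HomotopyCategory.homotopyEquivOfIso (Pretriangulated.Triangle.π₃.mapIso e)
  open Groth.Agent.H16Derived in
  have inv : ∀ {E E' : DRing.Cx R} (h : HomotopyEquiv E E'),
      KFlat.IsKFlat (Groth.Agent.H4DR.KFlatMod.bi R) E → KFlat.IsKFlat (Groth.Agent.H4DR.KFlatMod.bi R) E' := by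
    intro E E' h hE L hL i
    haveI : QuasiIso ((KFlat.tot (Groth.Agent.H4DR.KFlatMod.bi R) L).map h.hom) :=
      KFlat.quasiIso_tot_map_of_homotopy_inverse L h.hom h.inv ⟨h.homotopyHomInvId⟩ ⟨h.homotopyInvHomId⟩
    rw [HomologicalComplex.exactAt_iff_isZero_homology]
    exact ((hE L hL i).isZero_homology).of_iso
      (asIso (HomologicalComplex.homologyMap ((KFlat.tot (Groth.Agent.H4DR.KFlatMod.bi R) L).map h.hom) i)).symm
  have hS := Groth.Agent.H16Derived.KFlat.isFSES_of_splitting (F := Groth.Agent.H4DR.KFlatMod.bi R)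
    (CochainComplex.mappingCone.triangleRotateShortComplex φ) fun q =>
    ⟨CochainComplex.mappingCone.triangleRotateShortComplexSplitting φ q⟩
  refine ⟨fun h₁ h₂ => inv eh.symm (h₁.mappingCone φ h₂),
    fun h₁ h₃ => hS.isKFlat₁ (inv eh h₃) (h₁.shift 1), fun h₂ h₃ => ?_⟩
  exact ((hS.isKFlat₃ h₂ (inv eh h₃)).shift (-1)).of_iso
    ((shiftFunctorCompIsoId (CochainComplex (ModuleCat.{u} R) ℤ) (1 : ℤ) (-1) (add_neg_cancel 1)).app T.obj₁.as)

end Groth.Agent.S12086
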