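-- statement FlatMor.GrothFrozen.S1209 (Groth/Statements/S1209.lean; the theorem FlatMor.essFinitePresentation_localization_of_flat);
import Groth.Statements.S1209
import Groth.Agent.H7Flat.FlatSpreadFT
import Groth.Agent.H7Flat.FiniteFlatFP

set_option autoImplicit false
set_option backward.isDefEq.respectTransparency false
universe u
open FlatMor

namespace Groth.Agent.S1209

/-- Let R → S be a ring map of finite type and q a prime of S such that the local ring S_q is flat over
R. Then S_q is essentially of finite presentation over R. (The published statement concludes that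
S_q is essentially of finite presentation over R_p, where p is the prime of R below q; the two are
equivalent, since R_p is itself a localization of R.) -/
theorem result {R S : Type u} [CommRing R] [CommRing S] [Algebra R S] [Algebra.FiniteType R S]
    (q : Ideal S) [q.IsPrime] [Module.Flat R (Localization.AtPrime q)] :
    FlatCA.EssFinitePresentation R (Localization.AtPrime q) := by
  obtain ⟨n, π, hπ⟩ := Algebra.FiniteType.iff_quotient_mvPolynomial''.mp (inferInstance : Algebra.FiniteType R S)
  let P := MvPolynomial (Fin n) R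
  let : Algebra P S := π.toRingHom.toAlgebra
  have : IsScalarTower R P S := IsScalarTower.of_algebraMap_eq fun r => (π.commutes r).symm
  have : Module.Finite P S := Module.Finite.of_surjective (Algebra.linearMap _ S) hπ
  let q' := q.comap (algebraMap P S)
  have hmap := H7Flat.FlatSpreadFT.primeCompl_map hπ q
  let L := Localization.AtPrime q
  let P' := Localization.AtPrime q'
  have hι := H7Flat.FlatSpreadFT.isLocalizedModule_of_surjective q'.primeCompl q.primeCompl hmap
    (Algebra.linearMap S L)
  have hflat : FlatCA.FlatAt R q' S :=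
    Module.Flat.of_linearEquiv ((IsLocalizedModule.iso q'.primeCompl
      ((Algebra.linearMap S L).restrictScalars P)).restrictScalars R)
  obtain ⟨N', _, _, _, _, _, ρ, hρ, hρk, -⟩ := H7Flat.FlatSpread.exists_fp_cover S q' hflat
  obtain ⟨e, he⟩ := hρ 1
  let I : Ideal P := (Submodule.span P {e}).annihilator
  let ε : P →ₗ[P] N' := LinearMap.toSpanSingleton P N' e
  have hgen : ∀ x : N', ∃ t ∉ q', t • x ∈ LinearMap.range ε := fun x => by
    obtain ⟨p, hp⟩ := hπ (ρ x)
    obtain ⟨t, ht, htx⟩ := hρk (x - p • e) (by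
      rw [map_sub, map_smul, he, Algebra.smul_def, mul_one]
      exact sub_eq_zero.mpr hp.symm)
    refine ⟨t, ht, t * p, ?_⟩
    rw [smul_sub, sub_eq_zero] at htx
    rw [htx, LinearMap.toSpanSingleton_apply, mul_smul]
  obtain ⟨G, hG⟩ := Module.Finite.fg_top (R := P) (M := N')
  choose t ht hrange using hgen
  let g := ∏ x ∈ G, t x
  have hg : g ∉ q' := prod_mem (S := q'.primeCompl) fun x _ => ht x
  have hall : ∀ x : N', g • x ∈ LinearMap.range ε := by
    intro x
    have hx : x ∈ Submodule.span P (G : Set N') := hG.ge trivial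
    induction hx using Submodule.span_induction with
    | mem x hx =>
      obtain ⟨c, hc⟩ : t x ∣ g := Finset.dvd_prod_of_mem t hx
      rw [hc, mul_comm, mul_smul]
      exact Submodule.smul_mem _ c (hrange x)
    | zero => rw [smul_zero]; exact zero_mem _
    | add a b _ _ ha hb => rw [smul_add]; exact add_mem ha hb
    | smul c a _ ha => rw [smul_comm]; exact Submodule.smul_mem _ c ha
  let T : Submonoid P := Submonoid.powers g
  let Pg := Localization T
  let εg := LocalizedModule.map T ε
  have hεg : Function.Surjective εg := fun z => by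
    induction z using LocalizedModule.induction_on with
    | h x u =>
      obtain ⟨p, hp⟩ := hall x
      refine ⟨LocalizedModule.mk p (⟨g, Submonoid.mem_powers g⟩ * u), ?_⟩
      rw [LocalizedModule.map_mk, hp]
      refine LocalizedModule.mk_eq.mpr ⟨1, ?_⟩
      simp only [one_smul, Submonoid.smul_def, Submonoid.coe_mul, smul_smul, mul_comm]
  have : Module.Finite Pg (LocalizedModule T P) := Module.Finite.of_isLocalizedModule T (LocalizedModule.mkLinearMap T P)
  let c : Pg →ₗ[Pg] LocalizedModule T N' := LinearMap.toSpanSingleton Pg _ (εg (LocalizedModule.mk 1 1))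
  have hc : Function.Surjective c := fun z => by
    obtain ⟨w, rfl⟩ := hεg z
    induction w using LocalizedModule.induction_on with
    | h p u =>
      refine ⟨Localization.mk p u, ?_⟩
      rw [LinearMap.toSpanSingleton_apply, ← map_smul]
      congr 1
      rw [LocalizedModule.mk_smul_mk, smul_eq_mul, mul_one, mul_one]
  let I₀ : Ideal Pg := LinearMap.ker c
  have hker : I₀.FG := Module.FinitePresentation.fg_ker c hc
  let S₀ := Pg ⧸ I₀
  have : Algebra.FinitePresentation P Pg := IsLocalization.Away.finitePresentation g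
  have : Algebra.FinitePresentation R Pg := Algebra.FinitePresentation.trans R P Pg
  have hfp₀ : Algebra.FinitePresentation R S₀ := Algebra.FinitePresentation.quotient hker
  let ψ : Pg →+* L := IsLocalization.Away.lift (g := algebraMap P L) g (by
    rw [IsScalarTower.algebraMap_apply P S L]
    exact IsLocalization.map_units L (⟨algebraMap P S g, hg⟩ : q.primeCompl))
  have hψ : ∀ p, ψ (algebraMap P Pg p) = algebraMap P L p := fun p => IsLocalization.Away.lift_eq g _ p
  have hψker : ∀ z ∈ LinearMap.ker c, ψ z = 0 := by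
    intro z hz
    obtain ⟨p, ⟨u, hu⟩, rfl⟩ := IsLocalization.exists_mk'_eq T z
    rw [LinearMap.mem_ker, LinearMap.toSpanSingleton_apply, LocalizedModule.map_mk,
      ← Localization.mk_eq_mk', LocalizedModule.mk_smul_mk] at hz
    obtain ⟨⟨v, hv⟩, hvz⟩ := LocalizedModule.mk_eq.mp (hz.trans (LocalizedModule.zero_mk 1).symm)
    simp only [one_smul, smul_zero, Submonoid.smul_def] at hvz
    have h1 := congrArg ρ hvz
    rw [LinearMap.toSpanSingleton_apply, one_smul, map_smul, map_smul, he, map_zero, smul_smul,
      Algebra.smul_def, mul_one] at h1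
    have h2 : algebraMap P L (v * p) = 0 := by
      rw [IsScalarTower.algebraMap_apply P S L, h1, map_zero]
    rw [map_mul] at h2
    have hvu : IsUnit (algebraMap P L v) := by
      obtain ⟨k, rfl⟩ := hv
      rw [IsScalarTower.algebraMap_apply P S L]
      exact IsLocalization.map_units L (⟨algebraMap P S (g ^ k), q'.primeCompl.pow_mem hg k⟩ : q.primeCompl)
    have hmk := congrArg ψ (IsLocalization.mk'_spec Pg p (⟨u, hu⟩ : T))
    rw [map_mul, hψ, hψ, hvu.mul_right_eq_zero.mp h2] at hmk
    refine (IsUnit.mul_left_eq_zero ?_).mp hmk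
    rw [← hψ]
    exact (IsLocalization.map_units Pg (⟨u, hu⟩ : T)).map ψ
  let χ : S₀ →+* L := Ideal.Quotient.lift I₀ ψ hψker
  let : Algebra S₀ L := χ.toAlgebra
  have : IsScalarTower R S₀ L := IsScalarTower.of_algebraMap_eq (R := R) (S := S₀) (A := L) fun r => by
    change algebraMap R L r = χ (Ideal.Quotient.mk I₀ (algebraMap R Pg r))
    rw [Ideal.Quotient.lift_mk, IsScalarTower.algebraMap_apply R P Pg, hψ,
      IsScalarTower.algebraMap_apply R P L]
  let Q₀ : Ideal S₀ := (IsLocalRing.maximalIdeal L).comap χ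
  refine ⟨S₀, inferInstance, inferInstance, inferInstance, inferInstance, Q₀.primeCompl, hfp₀, ?_⟩
  have hmk : ∀ p, χ (Ideal.Quotient.mk I₀ (algebraMap P Pg p)) = algebraMap P L p := fun p => hψ p
  have hQ₀ : ∀ p, Ideal.Quotient.mk I₀ (algebraMap P Pg p) ∈ Q₀ ↔ p ∈ q' := fun p => by
    rw [Ideal.mem_comap, hmk, IsScalarTower.algebraMap_apply P S L,
      IsLocalization.AtPrime.to_map_mem_maximal_iff L q]
    rfl
  refine ⟨fun y => ?_, fun z => ?_, fun {a b} hab => ?_⟩
  · by_contra h
    exact y.2 ((IsLocalRing.mem_maximalIdeal _).mpr h)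
  · obtain ⟨⟨s, ⟨w, hw⟩⟩, hz⟩ := IsLocalization.surj q.primeCompl z
    obtain ⟨p, rfl⟩ := hπ s
    obtain ⟨w', rfl⟩ := hπ w
    exact ⟨(Ideal.Quotient.mk I₀ (algebraMap P Pg p),
      ⟨Ideal.Quotient.mk I₀ (algebraMap P Pg w'), fun h => hw ((hQ₀ w').mp h)⟩), by
      change z * χ _ = χ _
      rw [hmk, hmk, IsScalarTower.algebraMap_apply P S L, IsScalarTower.algebraMap_apply P S L]
      exact hz⟩
  · obtain ⟨d, hd⟩ := Ideal.Quotient.mk_surjective (a - b)
    obtain ⟨p, ⟨u, hu⟩, rfl⟩ := IsLocalization.exists_mk'_eq T d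
    have h0 : algebraMap P L p = 0 := by
      rw [← hmk, show algebraMap P Pg p = IsLocalization.mk' Pg p (⟨u, hu⟩ : T) * algebraMap P Pg u from
        (IsLocalization.mk'_spec Pg p (⟨u, hu⟩ : T)).symm, map_mul, map_mul, hd, map_sub]
      change (χ a - χ b) * _ = 0
      rw [show χ a = χ b from hab, sub_self, zero_mul]
    rw [IsScalarTower.algebraMap_apply P S L] at h0
    obtain ⟨⟨w, hw⟩, hwp⟩ := (IsLocalization.map_eq_zero_iff q.primeCompl L _).mp h0
    obtain ⟨w', rfl⟩ := hπ w
    obtain ⟨t', ht', htx⟩ := hρk ((w' * p) • e) (by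
      rw [map_smul, he, Algebra.smul_def, mul_one, map_mul]; exact hwp)
    have hkill : Ideal.Quotient.mk I₀ (algebraMap P Pg (t' * w' * p)) = 0 := by
      rw [Ideal.Quotient.eq_zero_iff_mem, LinearMap.mem_ker, LinearMap.toSpanSingleton_apply,
        algebraMap_smul, LocalizedModule.map_mk, LinearMap.toSpanSingleton_apply, one_smul,
        LocalizedModule.smul'_mk, mul_assoc, mul_smul, htx, LocalizedModule.zero_mk]
    have hmem : Ideal.Quotient.mk I₀ (algebraMap P Pg (t' * w')) ∈ Q₀.primeCompl := fun h =>
      ((Ideal.IsPrime.mem_or_mem (I := q') inferInstance ((hQ₀ _).mp h)).elim ht' hw)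
    refine ⟨⟨_, hmem⟩, sub_eq_zero.mp ?_⟩
    change Ideal.Quotient.mk I₀ (algebraMap P Pg (t' * w')) * a -
      Ideal.Quotient.mk I₀ (algebraMap P Pg (t' * w')) * b = 0
    refine (mul_sub (Ideal.Quotient.mk I₀ (algebraMap P Pg (t' * w'))) a b).symm.trans ?_
    rw [← hd, ← map_mul]
    have hu' : IsUnit (Ideal.Quotient.mk I₀ (algebraMap P Pg u)) :=
      (IsLocalization.map_units Pg (⟨u, hu⟩ : T)).map _
    have : IsUnit (M := S₀) (Ideal.Quotient.mk I₀ (algebraMap P Pg u)) := hu'
    have gen : ∀ (C : Type u) [CommRing C] (x y : C), IsUnit y → x * y = 0 → x = 0 :=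
      fun C _ x y hy h => hy.mul_left_eq_zero.mp h
    refine gen (Pg ⧸ I₀) _ _ hu' ?_
    rw [← map_mul, mul_assoc, show IsLocalization.mk' Pg p (⟨u, hu⟩ : T) * algebraMap P Pg u = algebraMap P Pg p from
      IsLocalization.mk'_spec Pg p (⟨u, hu⟩ : T), ← map_mul, hkill]

end Groth.Agent.S1209
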