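import Groth.Statements.S12091
import Mathlib.RingTheory.Extension.Cotangent.Basic
import Mathlib.LinearAlgebra.Finsupp.VectorSpace


set_option autoImplicit false
universe u
open TensorProduct MvPolynomial
open FlatMor

namespace Groth.Agent.S12091

/-- Let `x_1, …, x_m` generate the `A`-module `M`, let `K ⊆ A^m` be the module of relations, `C =
Sym_A(M)` and `α : A[y_1, …, y_m] → C` the presentation with `y_j ↦ x_j`, with kernel `J`. Then the
`C`-linear map `C ⊗_A K → J/J²` sending `1 ⊗ k` to the class of `Σ_j k_j y_j` is surjective, and it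
is bijective when `M` is a projective `A`-module (so that then `J/J² ≅ K ⊗_A C` and the naive
cotangent complex of `α` is `K ⊗_A C → ⊕_j C dy_j`). (The published statement asserts `J/J² ≅ K ⊗_A
C` for every `M`. For `A = ℤ`, `M = (ℤ/2)²`, `m = 2` and the two unit vectors, `K = 2ℤ²` and the
element `y_2 ⊗ (2, 0) - y_1 ⊗ (0, 2)` of `C ⊗_A K` is non-zero but maps to the class of `y_2 · 2y_1
- y_1 · 2y_2 = 0`; in degree `2` the graded piece of `J/J²` has `8` elements and that of `K ⊗_A C`
has `16`. The published degree-by-degree computation does show that `J` is generated by the linear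
forms coming from `K`, which is the surjectivity, and it is valid as written when `0 → K → A^m → M →
0` splits, which is the projective case.) -/
theorem result (A : Type u) [CommRing A] (M : Type u)
    [AddCommGroup M] [Module A M] (m : ℕ) (x : Fin m → M)
    (hx : Function.Surjective (Fintype.linearCombination A x))
    (G : Algebra.Generators A (SymmetricAlgebra A M) (Fin m))
    (hG : ∀ j, G.val j = SymmetricAlgebra.ι A M (x j)) :
    ∃ e : SymmetricAlgebra A M ⊗[A] (LinearMap.ker (Fintype.linearCombination A x)) →ₗ[SymmetricAlgebra A M]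
        G.toExtension.Cotangent,
      (∀ (k : LinearMap.ker (Fintype.linearCombination A x))
        (hk : (∑ j, C ((k : Fin m → A) j) * X j : MvPolynomial (Fin m) A) ∈ G.toExtension.ker),
        e (1 ⊗ₜ k) = Algebra.Extension.Cotangent.mk ⟨_, hk⟩) ∧
      Function.Surjective e ∧ (Module.Projective A M → Function.Bijective e) := by
  classical
  let S := SymmetricAlgebra A M
  let P := MvPolynomial (Fin m) A
  let lc := Fintype.linearCombination A x
  let K := LinearMap.ker lc
  let Lp : (Fin m → A) →ₗ[A] P := Fintype.linearCombination A (fun j => (X j : P))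
  have hLp : ∀ k, Lp k = ∑ j, C (k j) * X j := fun k => by
    simp only [Lp, Fintype.linearCombination_apply]
    exact Finset.sum_congr rfl fun j _ => smul_eq_C_mul (X j) (k j)
  have haev : ∀ k, aeval G.val (Lp k) = SymmetricAlgebra.ι A M (lc k) := fun k => by
    simp [Lp, lc, Fintype.linearCombination_apply, map_sum, hG]
  have hker : ∀ p : P, p ∈ G.toExtension.ker ↔ aeval G.val p = 0 := fun p => by
    show p ∈ G.ker ↔ _
    rw [Algebra.Generators.ker_eq_ker_aeval_val, RingHom.mem_ker]
  have hmem : ∀ k : K, Lp k.1 ∈ G.toExtension.ker := fun k => by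
    rw [hker, haev, show lc k.1 = 0 from k.2, map_zero]
  let L0 : K →ₗ[A] G.toExtension.ker :=
    { toFun := fun k => ⟨Lp k.1, hmem k⟩
      map_add' := fun a b => Subtype.ext (map_add Lp a.1 b.1)
      map_smul' := fun a k => Subtype.ext (map_smul Lp a k.1) }
  let e0 : K →ₗ[A] G.toExtension.Cotangent :=
    (Algebra.Extension.Cotangent.mk.restrictScalars A).comp L0
  let e : S ⊗[A] K →ₗ[S] G.toExtension.Cotangent := LinearMap.liftBaseChange S e0
  have he : ∀ k : K, e (1 ⊗ₜ k) = Algebra.Extension.Cotangent.mk (L0 k) := fun k => by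
    simp [e, e0]
  suffices hsurj : Function.Surjective e by
    refine ⟨e, fun k hk => (he k).trans (congrArg _ (Subtype.ext (hLp k.1))), hsurj, fun hM => ⟨?_, hsurj⟩⟩
    obtain ⟨s, hs⟩ := Module.projective_lifting_property lc LinearMap.id hx
    let r : (Fin m → A) →ₗ[A] K := LinearMap.codRestrict K (LinearMap.id - s.comp lc) fun v => by
      have := LinearMap.congr_fun hs (lc v)
      simp only [LinearMap.comp_apply, LinearMap.id_apply] at this
      simp [K, LinearMap.sub_apply, this]
    have hr : ∀ k : K, r k.1 = k := fun k => Subtype.ext (by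
      simp [r, show lc k.1 = 0 from k.2])
    let θ : G.toExtension.Cotangent →ₗ[S] (Fin m →₀ S) :=
      G.cotangentSpaceBasis.repr.toLinearMap.comp G.toExtension.cotangentComplex
    let back : (Fin m →₀ S) →ₗ[S] S ⊗[A] K :=
      Finsupp.linearCombination S fun i => (1 : S) ⊗ₜ[A] r (Pi.single i 1)
    have hθ : ∀ (k : K) (i : Fin m), θ (e (1 ⊗ₜ k)) i = algebraMap A S (k.1 i) := fun k i => by
      rw [he]
      simp only [θ, LinearMap.comp_apply, Algebra.Extension.cotangentComplex_mk, LinearEquiv.coe_coe]
      rw [Algebra.Generators.cotangentSpaceBasis_repr_one_tmul]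
      show aeval G.val (pderiv i (Lp k.1)) = _
      rw [hLp, map_sum, Finset.sum_eq_single i]
      · simp
        rfl
      · intro j _ hji
        simp [pderiv_X_of_ne hji]
      · simp
    have hback : ∀ z, back (θ (e z)) = z := by
      intro z
      induction z with
      | zero => simp
      | add a b ha hb => simp [ha, hb]
      | tmul c k =>
        have h1 : back (θ (e (1 ⊗ₜ k))) = (1 : S) ⊗ₜ[A] k := by
          simp only [back, Finsupp.linearCombination_apply]
          rw [Finsupp.sum_fintype _ (fun i (z : S) => z • ((1 : S) ⊗ₜ[A] r (Pi.single i 1))) (fun _ => zero_smul _ _)]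
          simp only [hθ, algebraMap_smul, ← TensorProduct.tmul_smul, ← TensorProduct.tmul_sum, ← map_smul, ← map_sum]
          congr 1
          rw [← pi_eq_sum_univ' k.1, hr]
        have h2 : c ⊗ₜ[A] k = c • ((1 : S) ⊗ₜ[A] k) := by rw [smul_tmul', smul_eq_mul, mul_one]
        rw [h2, map_smul, map_smul, map_smul, h1]
    exact Function.LeftInverse.injective (g := fun w => back (θ w)) hback
  · let I : Ideal P := Ideal.span (Set.range fun k : K => Lp k.1)
    have hJ : G.toExtension.ker ≤ I := by
      intro p hp
      let g : (Fin m → A) →ₗ[A] P ⧸ I := (Ideal.Quotient.mkₐ A I).toLinearMap.comp Lp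
      have hg : K ≤ LinearMap.ker g := fun k hk =>
        Ideal.Quotient.eq_zero_iff_mem.2 (Ideal.subset_span ⟨⟨k, hk⟩, rfl⟩)
      let f : M →ₗ[A] P ⧸ I := (K.liftQ g hg).comp (lc.quotKerEquivOfSurjective hx).symm.toLinearMap
      let ψ : S →ₐ[A] P ⧸ I := SymmetricAlgebra.lift f
      have hψ : ψ.comp (aeval G.val) = Ideal.Quotient.mkₐ A I := by
        refine MvPolynomial.algHom_ext fun j => ?_
        rw [AlgHom.comp_apply, aeval_X, hG, SymmetricAlgebra.lift_ι_apply]
        have h1 : lc (Pi.single j 1) = x j := by simp [lc, Fintype.linearCombination_apply_single]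
        have h2 : (lc.quotKerEquivOfSurjective hx).symm (x j) = Submodule.Quotient.mk (Pi.single j 1) := by
          rw [LinearEquiv.symm_apply_eq]
          exact h1.symm
        show K.liftQ g hg ((lc.quotKerEquivOfSurjective hx).symm (x j)) = _
        rw [h2, Submodule.liftQ_apply]
        simp [g, Lp, Fintype.linearCombination_apply_single]
      have := AlgHom.congr_fun hψ p
      rw [AlgHom.comp_apply, (hker p).1 hp, map_zero] at this
      exact Ideal.Quotient.eq_zero_iff_mem.1 this.symm
    intro y
    obtain ⟨⟨p, hp⟩, rfl⟩ := Algebra.Extension.Cotangent.mk_surjective y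
    suffices ∀ q ∈ I, ∀ hq : q ∈ G.toExtension.ker, Algebra.Extension.Cotangent.mk ⟨q, hq⟩ ∈ LinearMap.range e from
      this p (hJ hp) hp
    intro q hq
    induction hq using Submodule.span_induction with
    | mem q hq =>
      obtain ⟨k, rfl⟩ := hq
      exact fun _ => ⟨1 ⊗ₜ k, he k⟩
    | zero =>
      intro hq
      show Algebra.Extension.Cotangent.mk (0 : G.toExtension.ker) ∈ _
      rw [map_zero]
      exact zero_mem _
    | add a b ha hb iha ihb =>
      intro hab
      have hle : I ≤ G.toExtension.ker := Ideal.span_le.2 (by rintro _ ⟨k, rfl⟩; exact hmem k)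
      show Algebra.Extension.Cotangent.mk ((⟨a, hle ha⟩ : G.toExtension.ker) + ⟨b, hle hb⟩) ∈ _
      rw [map_add]
      exact add_mem (iha _) (ihb _)
    | smul r a ha iha =>
      intro hra
      have hle : I ≤ G.toExtension.ker := Ideal.span_le.2 (by rintro _ ⟨k, rfl⟩; exact hmem k)
      let r' : G.toExtension.Ring := r
      show Algebra.Extension.Cotangent.mk (r' • (⟨a, hle ha⟩ : G.toExtension.ker)) ∈ _
      rw [map_smul, ← algebraMap_smul S r' (Algebra.Extension.Cotangent.mk _)]
      exact Submodule.smul_mem _ _ (iha _)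


end Groth.Agent.S12091
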