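import Groth.Statements.S12092
import Groth.Agent.H4DR.TorAmp.LocalMax

set_option autoImplicit false
universe u
open CategoryTheory
attribute [local instance] HasDerivedCategory.standard
open DRing

namespace Groth.Agent.S12092

/-- (3) ⇒ (1): let `A → B` be a ring map and `K•` a complex of `B`-modules. Suppose that for every
maximal ideal `m ⊆ B`, with `p` its inverse image in `A`, the localization `K•_m`, viewed as a
complex of `A_p`-modules, has tor amplitude in `[a, b]`. Then `K•`, regarded over `A` by restriction
of scalars, has tor amplitude in `[a, b]`. (Tor amplitude in the frozen sense: isomorphic in the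
derived category to a complex of flat modules vanishing outside `[a, b]`.) -/
theorem result (A B : Type u) [CommRing A] [CommRing B]
    [Algebra A B] (K : DRing.Cx B) (a b : ℤ)
    (h3 : ∀ (m : Ideal B) [m.IsMaximal],
      DRing.HasTorAmplitudeIn (Localization.AtPrime (m.comap (algebraMap A B))) a b
        (DRing.toD ((DRing.restrictCx (Localization.localRingHom (m.comap (algebraMap A B)) m (algebraMap A B) rfl)).obj
          (((ModuleCat.extendScalars (algebraMap B (Localization.AtPrime m))).mapHomologicalComplex
            (ComplexShape.up ℤ)).obj K)))) :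
    DRing.HasTorAmplitudeIn A a b (DRing.toD ((DRing.restrictCx (algebraMap A B)).obj K)) := by
  refine Groth.Agent.H4DR.TorAmp.LocalMax.ta_of_maximal (algebraMap A B) K a b fun m _ => ?_
  haveI : Module.Flat A (Localization.AtPrime (m.comap (algebraMap A B))) :=
    IsLocalization.flat _ (m.comap (algebraMap A B)).primeCompl
  have h := Groth.Agent.H4DR.TorAmp.ta_restrict (A := A) (d := 0)
    (by simpa using Groth.Agent.H4DR.TorAmp.ta_of_flat (ModuleCat.of A (Localization.AtPrime (m.comap (algebraMap A B))))) (h3 m)
  rw [Nat.cast_zero, sub_zero] at h
  let p := m.comap (algebraMap A B)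
  let η := Functor.associator _ _ _ ≪≫ Functor.isoWhiskerLeft _
      (Groth.Agent.H4DR.TorAmp.LocalMax.restrictSquareIso (algebraMap A (Localization.AtPrime p))
        (Localization.localRingHom p m (algebraMap A B) rfl) (algebraMap A B) (algebraMap B (Localization.AtPrime m))
        (RingHom.ext fun r => Localization.localRingHom_to_map p m _ rfl r)) ≪≫
      (Functor.associator _ _ _).symm ≪≫
      Functor.isoWhiskerRight (Groth.Agent.H4DR.TorAmp.LocalMax.localIso m) (ModuleCat.restrictScalars.{u} (algebraMap A B))
  refine Groth.Agent.H4DR.TorAmp.ta_of_iso (?_ ≪≫ DerivedCategory.Q.mapIso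
    ((NatIso.mapHomologicalComplex η (ComplexShape.up ℤ)).app K)) h
  exact (ModuleCat.restrictScalars.{u} (algebraMap A (Localization.AtPrime p))).mapDerivedCategoryFactors.app _

end Groth.Agent.S12092
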