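import Groth.Statements.S12093
import Groth.Agent.H4DR.TorAmp.Below

set_option autoImplicit false
universe u
open CategoryTheory CategoryTheory.Limits MonoidalCategory
attribute [local instance] HasDerivedCategory.standard
open DRing

namespace Groth.Agent.S12093

/-- Let `K•` be a complex of `R`-modules (for which `− ⊗^L_R K•` is assumed to exist) and `a` an
integer. Then `K•` has tor amplitude in `[a, ∞)`, i.e. `H^i(M ⊗^L_R K•) = 0` for every `R`-module
`M` and every `i < a`, if and only if `K•` is quasi-isomorphic to a K-flat complex `E•` (tensoring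
with `E•` preserves acyclic complexes) with flat terms and `E^i = 0` for `i < a`. -/
theorem result (R : Type u) [CommRing R] (a : ℤ) (K : DRing.Cx R)
    [DRing.HasLTensorCx R K] :
    (∀ (M : ModuleCat.{u} R) (i : ℤ), i < a →
        Subsingleton (Dual.HD R ((DRing.LTensorCx R K).obj
          (DRing.toD ((CochainComplex.singleFunctor (ModuleCat.{u} R) 0).obj M))) i)) ↔
      ∃ E : DRing.Cx R, (∀ L : DRing.Cx R, (∀ i : ℤ, IsZero (L.homology i)) → ∀ i : ℤ, IsZero ((L ⊗ E).homology i)) ∧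
        DRing.TermwiseFlat E ∧ (∀ i : ℤ, i < a → IsZero (E.X i)) ∧ Nonempty (DRing.toD E ≅ DRing.toD K) := by
  obtain ⟨K', r, hr, hK', hfl, hiff⟩ := Groth.Agent.H4DR.TorAmp.Below.exists_res K
  have hr' : IsIso (DerivedCategory.Q.map r) := Groth.Agent.H25DTen.isIso_Q_map r hr
  constructor
  · intro h
    obtain ⟨h1, h2, h3, h4⟩ := Groth.Agent.H4DR.TorAmp.Below.trunc K' hK' hfl a
      fun M i hi => (hiff M i).1 (h M i hi)
    have h5 : IsIso (DerivedCategory.Q.map (K'.πTruncGE a)) := Groth.Agent.H25DTen.isIso_Q_map _ h4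
    exact ⟨_, h1, h2, h3, ⟨(@asIso _ _ _ _ _ h5).symm ≪≫ @asIso _ _ _ _ _ hr'⟩⟩
  · rintro ⟨E, hEk, -, hE, ⟨e⟩⟩ M i hi
    refine (hiff M i).2 (Groth.Agent.H4DR.TorAmp.Below.exactAt_tens_of_iso
      ((Groth.Agent.H4DR.KFlatMod.iff_isKFlat E).1 hEk) hK' (e ≪≫ (@asIso _ _ _ _ _ hr').symm) M i ?_)
    exact (HomologicalComplex.exactAt_iff _ _).2
      (ShortComplex.exact_of_isZero_X₂ _ ((tensorRight M).map_isZero (hE i hi)))

end Groth.Agent.S12093
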