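import Groth.Statements.S12094
import Groth.Agent.H4DR.Hom.Split
import Groth.Agent.H4DR.Hom.HLinear

set_option autoImplicit false
universe u
open CategoryTheory
attribute [local instance] HasDerivedCategory.standard
open DRing

namespace Groth.Agent.S12094

/-- (1) ⇔ (2): let `I ⊆ R` be an ideal and `K ∈ D(R)` with `H^i(K) = 0` for `i ∉ {-1, 0}`. Then some
power `I^c` annihilates `Ext¹_R(K, N) = Hom_{D(R)}(K, N[1])` for every `R`-module `N` if and only
if, for some `c`, (a) `I^c` annihilates `H^{-1}(K)` and (b) `H^0(K)` is `I^c`-projective, i.e. `I^c`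
annihilates `Ext¹_R(H^0(K), N)` for every `R`-module `N`. -/
theorem result {R : Type u} [CommRing R] (I : Ideal R) (K : Dual.D R)
    (hK : ∀ i : ℤ, i ≠ -1 → i ≠ 0 → Subsingleton (Dual.HD R K i)) :
    (∃ c : ℕ, ∀ (N : Type u) [AddCommGroup N] [Module R N] (a : R), a ∈ I ^ c →
        ∀ ξ : K ⟶ (Dual.inD R N)⟦(1 : ℤ)⟧, a • ξ = 0) ↔
      ∃ c : ℕ, (∀ a : R, a ∈ I ^ c → ∀ x : Dual.HD R K (-1), a • x = 0) ∧
        ∀ (N : Type u) [AddCommGroup N] [Module R N] (a : R), a ∈ I ^ c →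
          ∀ ξ : Dual.inD R (Dual.HD R K 0) ⟶ (Dual.inD R N)⟦(1 : ℤ)⟧, a • ξ = 0 := by
  let t : Triangulated.TStructure (Dual.D R) := DerivedCategory.TStructure.t
  let T := (t.triangleLTGE 0).obj K
  have hT : T ∈ Pretriangulated.distinguishedTriangles := t.triangleLTGE_distinguished 0 K
  haveI : DerivedCategory.IsGE T.obj₃ 0 := inferInstanceAs (t.IsGE _ 0)
  haveI : DerivedCategory.IsLE T.obj₁ (-1) := t.isLE_truncLT_obj K 0 (-1) (by omega)
  have h1 : ∀ i, -1 < i → Subsingleton (Dual.HD R T.obj₁ i) := fun i hi =>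
    ModuleCat.subsingleton_of_isZero (DerivedCategory.isZero_of_isLE T.obj₁ (-1) i hi)
  have h3 : ∀ i, i < 0 → Subsingleton (Dual.HD R T.obj₃ i) := fun i hi =>
    ModuleCat.subsingleton_of_isZero (DerivedCategory.isZero_of_isGE T.obj₃ 0 i hi)
  have hb0 : Function.Bijective (Groth.Agent.H4DR.PCoh.hm 0 T.mor₂) :=
    ⟨Groth.Agent.H4DR.PCoh.injective₂_of_subsingleton T hT 0 (h1 0 (by omega)),
      Groth.Agent.H4DR.PCoh.surjective₂_of_subsingleton T hT 0 1 rfl (h1 1 (by omega))⟩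
  haveI : DerivedCategory.IsLE T.obj₃ 0 := (DerivedCategory.isLE_iff _ 0).2 fun i hi =>
    ModuleCat.isZero_of_iff_subsingleton.2 (Groth.Agent.H4DR.PCoh.subsingleton₃ T hT i (i + 1) rfl
      (h1 (i + 1) (by omega)) (hK i (by omega) (by omega)))
  obtain ⟨Y, ⟨eY⟩⟩ := DerivedCategory.exists_iso_singleFunctor_obj_of_isGE_of_isLE T.obj₃ 0
  let e3 : T.obj₃ ≅ Dual.inD R (Dual.HD R K 0) := eY ≪≫ (DerivedCategory.singleFunctor _ 0).mapIso
    ((Groth.Agent.H4DR.PCoh.HDinD Y).symm ≪≫ₗ (Groth.Agent.H4DR.PCoh.hEquiv 0 eY).symm ≪≫ₗ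
      (LinearEquiv.ofBijective _ hb0).symm).toModuleIso
  constructor
  · rintro ⟨c, hc⟩
    refine ⟨c, fun a ha => ?_, fun N _ _ a ha ξ => ?_⟩
    · obtain ⟨P, hP, ⟨e⟩⟩ := Groth.Agent.H4DR.TorAmp.exists_projRep (c := 0) fun i hi =>
        hK i (by omega) (by omega)
      let M := Groth.Agent.H4DR.Hom.coker P (-1)
      let π := Groth.Agent.H4DR.Hom.cokerπ P (-1)
      let ι := Groth.Agent.H4DR.Hom.shiftInDIso M (-1) 1 (by omega)
      let g := Groth.Agent.H4DR.Hom.toSgl π (Groth.Agent.H4DR.Hom.d_cokerπ P (-1))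
      have hp : P.d (-1 - 1) (-1) ≫ (a • π) = 0 := by
        rw [Linear.comp_smul, Groth.Agent.H4DR.Hom.d_cokerπ, smul_zero]
      have h0 : DerivedCategory.Q.map (Groth.Agent.H4DR.Hom.toSgl (a • π) hp) = 0 := by
        rw [show Groth.Agent.H4DR.Hom.toSgl (a • π) hp = a • g from
          HomologicalComplex.to_single_hom_ext (by
            rw [HomologicalComplex.smul_f_apply, Groth.Agent.H4DR.Hom.toSgl_f, Groth.Agent.H4DR.Hom.toSgl_f]
            exact Linear.smul_comp _ _ _ _ _ _), Functor.map_smul]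
        apply (cancel_epi e.inv).1
        apply (cancel_mono ι.inv).1
        rw [Limits.comp_zero, Limits.zero_comp, Linear.comp_smul, Linear.smul_comp, Category.assoc]
        exact hc M a ha (e.inv ≫ DerivedCategory.Q.map g ≫ ι.inv)
      obtain ⟨k, hk⟩ := (Groth.Agent.H4DR.Hom.Q_toSgl_eq_zero_iff hP _ hp).1 h0
      have key : ∀ h : P.homology (-1), a • h = 0 := fun h => by
        obtain ⟨z, rfl⟩ := (ModuleCat.epi_iff_surjective (P.homologyπ (-1))).1 inferInstance h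
        have hz : (P.d (-1) (-1 + 1)).hom ((P.iCycles (-1)).hom z) = 0 :=
          congr($(P.iCycles_d (-1) (-1 + 1)).hom z)
        have h' : π.hom (a • (P.iCycles (-1)).hom z) = 0 :=
          (map_smul π.hom a _).trans ((congr($(hk).hom ((P.iCycles (-1)).hom z))).trans
            ((congrArg k.hom hz).trans (map_zero k.hom)))
        obtain ⟨x, hx⟩ := (Submodule.Quotient.mk_eq_zero _).1 h'
        rw [← map_smul, show a • z = (P.toCycles (-1 - 1) (-1)).hom x from
          (ModuleCat.mono_iff_injective (P.iCycles (-1))).1 inferInstance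
            ((map_smul _ a z).trans (hx.symm.trans (congr($(P.toCycles_i (-1 - 1) (-1)).hom x)).symm))]
        exact congr($(P.toCycles_comp_homologyπ (-1 - 1) (-1)).hom x)
      intro x
      let E : Dual.HD R K (-1) ≃ₗ[R] P.homology (-1) := Groth.Agent.H4DR.PCoh.hEquiv (-1) e.symm ≪≫ₗ
        ((DerivedCategory.homologyFunctorFactors (ModuleCat.{u} R) (-1)).app P).toLinearEquiv
      exact E.injective (by rw [map_smul, key, map_zero])
    · have hg : Groth.Agent.H4DR.PCoh.Good (-1) (T.mor₂ ≫ e3.hom) := by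
        refine Groth.Agent.H4DR.PCoh.Good.comp ⟨fun i hi => ?_, fun i hi => ?_⟩
          (Groth.Agent.H4DR.PCoh.Good.of_iso _ e3.hom)
        · exact Groth.Agent.H4DR.PCoh.surjective₂_of_subsingleton T hT i (i + 1) rfl (h1 _ (by omega))
        · exact Groth.Agent.H4DR.PCoh.injective₂_of_subsingleton T hT i (h1 i hi)
      refine Groth.Agent.H4DR.Hom.eq_zero_of_comp (-1) (T.mor₂ ≫ e3.hom) hg
        (fun i hi => Groth.Agent.H4DR.Hom.subsingleton_shift_inD (ModuleCat.of R N) 1 i (by omega)) _ ?_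
      rw [Linear.comp_smul]
      exact hc N a ha ((T.mor₂ ≫ e3.hom) ≫ ξ)
  · rintro ⟨c, ha', hb'⟩
    refine ⟨c + c, fun N _ _ a ha ξ => ?_⟩
    rw [pow_add] at ha
    refine Submodule.mul_induction_on ha (fun p hp q hq => ?_) (fun x y hx hy => by rw [add_smul, hx, hy, add_zero])
    rw [mul_smul]
    suffices h : ∀ ξ : T.obj₂ ⟶ (Dual.inD R N)⟦(1 : ℤ)⟧, p • q • ξ = 0 from h ξ
    intro ξ
    have hq0 : T.mor₁ ≫ (q • ξ) = 0 := by
      refine Groth.Agent.H4DR.Hom.eq_zero_of_HD (-1) h1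
        (fun i hi => Groth.Agent.H4DR.Hom.subsingleton_shift_inD (ModuleCat.of R N) 1 i (by omega)) _ ?_
      rw [Linear.comp_smul, Functor.map_smul, Functor.map_comp, ← Linear.smul_comp]
      refine (congrArg (· ≫ _) (ModuleCat.hom_ext (LinearMap.ext fun x => ?_) :
        q • (Groth.Agent.H4DR.PCoh.H R (-1)).map T.mor₁ = 0)).trans Limits.zero_comp
      exact ha' q hq ((Groth.Agent.H4DR.PCoh.hm (-1) T.mor₁) x)
    obtain ⟨η, hη⟩ := Pretriangulated.Triangle.yoneda_exact₂ T hT (q • ξ) hq0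
    rw [hη, ← Linear.comp_smul]
    refine (congrArg (T.mor₂ ≫ ·) ?_).trans Limits.comp_zero
    apply (cancel_epi e3.inv).1
    rw [Linear.comp_smul, Limits.comp_zero]
    exact hb' N p hp (e3.inv ≫ η)

end Groth.Agent.S12094
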