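import Groth.Statements.S12095
import Groth.Agent.H3CAlg.DehomModel
import Mathlib.RingTheory.GradedAlgebra.HomogeneousLocalization

set_option autoImplicit false
universe u
open CAlg

namespace Groth.Agent.S12095

/-- Let `R'` be an `R`-algebra of finite type, `M` a finite `R'`-module, and `S` an `ℕ`-graded
`R`-algebra with `f ∈ S_1` and a ring isomorphism `e : S_(f) ≅ R'` compatible with the maps from
`R`. Then there is a finite graded `S`-module `N` whose degree-zero localization `N_(f)` (the
elements `n / f^k` of `N_f` with `n` homogeneous of degree `k`) is identified with `M`: an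
`R`-linear bijection `e' : N_(f) → M` with `e'(a · x) = e(a) · e'(x)` for all `a ∈ S_(f)`. (The
published lemma produces `S`, `f` and `N` together from `R'` and `M`; here `N` is produced for any
such `S`, `f`, `e`, which the same construction gives.) -/
theorem result (R R' : Type u) [CommRing R] [CommRing R']
    [Algebra R R'] [Algebra.FiniteType R R']
    (M : Type u) [AddCommGroup M] [Module R' M] [Module R M] [IsScalarTower R R' M] [Module.Finite R' M]
    (S : Type u) [CommRing S] [Algebra R S] (𝒜 : ℕ → Submodule R S) [GradedAlgebra 𝒜] (f : S) (hf : f ∈ 𝒜 1)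
    (e : HomogeneousLocalization.Away 𝒜 f ≃+* R')
    (he : ∀ r : R, (e.symm (algebraMap R R' r)).val = algebraMap S (Localization.Away f) (algebraMap R S r)) :
    ∃ (N : Type u) (_ : AddCommGroup N) (_ : Module S N) (_ : Module R N) (_ : IsScalarTower R S N)
      (ℳ : ℕ → Submodule R N) (_ : DirectSum.Decomposition ℳ) (_ : SetLike.GradedSMul 𝒜 ℳ)
      (Nf : Submodule R (LocalizedModule (Submonoid.powers f) N)) (e' : ↥Nf ≃ₗ[R] M),
      Module.Finite S N ∧
      (∀ x, x ∈ Nf ↔ ∃ k : ℕ, ∃ n ∈ ℳ k, f ^ k • x = LocalizedModule.mk n 1) ∧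
      (∀ (a : HomogeneousLocalization.Away 𝒜 f) (x y : ↥Nf),
        a.val • (x : LocalizedModule (Submonoid.powers f) N) = y → e' y = e a • e' x) := by
  classical
  have hdeg : ∀ {k : ℕ} {s : S}, s ∈ 𝒜 k → s ∈ 𝒜 (k • 1) := fun {k s} h => by simpa using h
  let q : ∀ k, 𝒜 k → HomogeneousLocalization.Away 𝒜 f := fun k s =>
    HomogeneousLocalization.Away.mk 𝒜 hf k (s : S) (hdeg s.2)
  have hqval : ∀ k s, (q k s).val =
      Localization.mk (s : S) (⟨f ^ k, Submonoid.pow_mem _ (Submonoid.mem_powers f) k⟩ : Submonoid.powers f) := fun k s =>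
    rfl
  have hinjv := fun (a b : HomogeneousLocalization.Away 𝒜 f) (h : a.val = b.val) =>
    (HomogeneousLocalization.ext_iff_val a b).mpr h
  have hqadd : ∀ k s t, q k (s + t) = q k s + q k t := fun k s t => hinjv _ _ (by
    rw [HomogeneousLocalization.val_add, hqval, hqval, hqval, Localization.add_mk_self]; rfl)
  have hqsmul : ∀ k (r : R) s, q k (r • s) = e.symm (algebraMap R R' r) * q k s := fun k r s => hinjv _ _ (by
    rw [HomogeneousLocalization.val_mul, hqval, hqval, he, ← Localization.mk_one_eq_algebraMap, Localization.mk_mul, one_mul,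
      Submodule.coe_smul, Algebra.smul_def])
  let ψ : ∀ k, 𝒜 k →ₗ[R] R' := fun k =>
    { toFun := fun s => e (q k s)
      map_add' := fun s t => by rw [hqadd, map_add]
      map_smul' := fun r s => by rw [hqsmul, map_mul, RingEquiv.apply_symm_apply, RingHom.id_apply, Algebra.smul_def] }
  have hone : ψ 0 (GradedMonoid.GOne.one (A := fun i => 𝒜 i)) = 1 := by
    change e (q 0 _) = 1
    rw [← map_one e]
    refine congrArg e (hinjv _ _ ?_)
    rw [hqval, HomogeneousLocalization.val_one, ← Localization.mk_one]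
    exact congrArg _ (Subtype.ext (pow_zero f))
  have hmul : ∀ {i j} (a : 𝒜 i) (b : 𝒜 j),
      ψ (i + j) (GradedMonoid.GMul.mul (A := fun i => 𝒜 i) a b) = ψ i a * ψ j b := by
    intro i j a b
    change e (q (i + j) _) = e (q i a) * e (q j b)
    rw [← map_mul]
    refine congrArg e (hinjv _ _ ?_)
    rw [HomogeneousLocalization.val_mul, hqval, hqval, hqval, Localization.mk_mul]
    exact congrArg _ (Subtype.ext (pow_add f i j))
  let Φ : S →ₐ[R] R' :=
    (DirectSum.toAlgebra R (fun i => 𝒜 i) ψ hone hmul).comp (DirectSum.decomposeAlgEquiv 𝒜).toAlgHom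
  have hΦ : ∀ k (s : 𝒜 k), Φ (s : S) = e (q k s) := fun k s => by
    rw [AlgHom.comp_apply]
    rw [show (DirectSum.decomposeAlgEquiv 𝒜).toAlgHom (s : S) = DirectSum.of (fun i => 𝒜 i) k s from DirectSum.decompose_coe 𝒜 s]
    exact DirectSum.toSemiring_of (A := fun i => 𝒜 i) (fun i => (ψ i).toAddMonoidHom) hone hmul k s
  have hΦf : Φ f = 1 := by
    rw [hΦ 1 ⟨f, hf⟩, ← map_one e]
    refine congrArg e (hinjv _ _ ?_)
    rw [hqval, HomogeneousLocalization.val_one, ← Localization.mk_self (⟨f, Submonoid.mem_powers f⟩ : Submonoid.powers f)]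
    exact congrArg _ (Subtype.ext (pow_one f))
  letI : Module S M := Module.compHom M (Φ : S →+* R')
  have hS : ∀ (s : S) (m : M), s • m = Φ s • m := fun _ _ => rfl
  haveI : IsScalarTower R S M := IsScalarTower.of_algebraMap_smul fun r m => by
    rw [hS, Φ.commutes, IsScalarTower.algebraMap_smul]
  obtain ⟨n, g, hg⟩ := Module.Finite.exists_fin (R := R') (M := M)
  have hf1 : ∀ m : M, f • m = m := fun m => by rw [hS, hΦf, one_smul]
  have hmono : ∀ {k} {m : M}, m ∈ Groth.Agent.H3CAlg.DehomModel.D 𝒜 g k → ∀ l, m ∈ Groth.Agent.H3CAlg.DehomModel.D 𝒜 g (l + k) := by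
    intro k m hm l
    induction l with
    | zero => simpa using hm
    | succ l ih =>
      have := Groth.Agent.H3CAlg.DehomModel.smul_mem 𝒜 g hf ih
      rw [hf1] at this
      rwa [show l + 1 + k = 1 + (l + k) by omega]
  have hgen : ∀ m : M, ∃ k, m ∈ Groth.Agent.H3CAlg.DehomModel.D 𝒜 g k := by
    intro m
    have hm : m ∈ Submodule.span R' (Set.range g) := hg ▸ trivial
    obtain ⟨c, rfl⟩ := (Submodule.mem_span_range_iff_exists_fun R').mp hm
    have hterm : ∀ i, ∃ k, c i • g i ∈ Groth.Agent.H3CAlg.DehomModel.D 𝒜 g k := by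
      intro i
      obtain ⟨k, s, hs, hks⟩ := HomogeneousLocalization.Away.mk_surjective 𝒜 hf (e.symm (c i))
      have hs' : s ∈ 𝒜 k := by simpa using hs
      refine ⟨k, Submodule.subset_span ⟨s, hs', i, ?_⟩⟩
      rw [hS, hΦ k ⟨s, hs'⟩, show q k ⟨s, hs'⟩ = e.symm (c i) from hks, RingEquiv.apply_symm_apply]
    choose K hK using hterm
    refine ⟨Finset.univ.sup K, Submodule.sum_mem _ fun i _ => ?_⟩
    have := hmono (hK i) (Finset.univ.sup K - K i)
    rwa [Nat.sub_add_cancel (Finset.le_sup (Finset.mem_univ i))] at this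
  obtain ⟨N, i1, i2, i3, i4, ℳ, i5, i6, Nf, e', hfin, hNf, hact⟩ :=
    Groth.Agent.H3CAlg.DehomModel.exists_model 𝒜 g hf hf1 hgen
  refine ⟨N, i1, i2, i3, i4, ℳ, i5, i6, Nf, e', hfin, hNf, fun a x y hxy => ?_⟩
  obtain ⟨k, s, hs, rfl⟩ := HomogeneousLocalization.Away.mk_surjective 𝒜 hf a
  have hs' : s ∈ 𝒜 k := by simpa using hs
  have h := hact s k hs' x y (by
    rw [← hxy, HomogeneousLocalization.Away.val_mk, ← IsScalarTower.algebraMap_smul (Localization.Away f) s,
      ← IsScalarTower.algebraMap_smul (Localization.Away f) (f ^ k), ← mul_smul]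
    congr 1
    rw [← Localization.mk_one_eq_algebraMap, ← Localization.mk_one_eq_algebraMap, Localization.mk_mul,
      Localization.mk_eq_mk_iff, Localization.r_iff_exists]
    exact ⟨1, by simp⟩)
  rw [h, hS, hΦ k ⟨s, hs'⟩]

end Groth.Agent.S12095
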