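import Groth.Statements.S12107
import Groth.Agent.H15Site.OpenClosed

set_option autoImplicit false
universe u
open CategoryTheory
open SGA4

set_option linter.style.haveILetI false
set_option backward.isDefEq.respectTransparency false
open CategoryTheory.Limits
open Groth.Agent.H15Site


namespace Groth.Agent.S12107

open CategoryTheory.Limits in
/-- In the topos of sheaves of sets on a small site, let U be an open (a subobject of the final object)
and, for an object X, let X_CU be the pushout of U ← U × X → X along the two projections. For a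
morphism m : X ⟶ X' let k : X_CU ⟶ X'_CU be the induced morphism (compatible with the maps from U
and with m). Then the square with sides m, k and the canonical maps X ⟶ X_CU, X' ⟶ X'_CU is
cartesian if and only if id_U × m : U × X ⟶ U × X' is an isomorphism (that is, m restricts to an
isomorphism over U). -/
theorem result {C : Type u} [SmallCategory C] (J : GrothendieckTopology C)
    (U : Sheaf J (Type u)) (hU : SGA4.IsOpen U) {X X' : Sheaf J (Type u)} (m : X ⟶ X')
    (k : pushout (prod.fst : U ⨯ X ⟶ U) (prod.snd : U ⨯ X ⟶ X) ⟶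
      pushout (prod.fst : U ⨯ X' ⟶ U) (prod.snd : U ⨯ X' ⟶ X'))
    (hk₁ : pushout.inl (prod.fst : U ⨯ X ⟶ U) (prod.snd : U ⨯ X ⟶ X) ≫ k =
      pushout.inl (prod.fst : U ⨯ X' ⟶ U) (prod.snd : U ⨯ X' ⟶ X'))
    (hk₂ : pushout.inr (prod.fst : U ⨯ X ⟶ U) (prod.snd : U ⨯ X ⟶ X) ≫ k =
      m ≫ pushout.inr (prod.fst : U ⨯ X' ⟶ U) (prod.snd : U ⨯ X' ⟶ X')) :
    IsPullback m (pushout.inr (prod.fst : U ⨯ X ⟶ U) (prod.snd : U ⨯ X ⟶ X))
        (pushout.inr (prod.fst : U ⨯ X' ⟶ U) (prod.snd : U ⨯ X' ⟶ X')) k ↔
      IsIso (prod.map (𝟙 U) m) := by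
  exact ⟨fun h => OpenClosed.isIso_prod_map hU m k hk₁ h,
    fun h => (OpenClosed.isPullback_b hU m k hk₁ hk₂ h).flip⟩

end Groth.Agent.S12107
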