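import Groth.Statements.S12108
import Groth.Agent.H15Site.CoprodVK
import Groth.Agent.H15Site.ToposFin.Epi
import Mathlib.CategoryTheory.Sites.EpiMono

set_option autoImplicit false
open CategoryTheory CategoryTheory.Limits
universe u
open SGA4

set_option linter.style.haveILetI false
set_option backward.isDefEq.respectTransparency false
open CategoryTheory.Limits Opposite
open Groth.Agent.H15Site


namespace Groth.Agent.S12108

/-- Let `(C, J)` be a small site, `X` an object and `s i : Y i ⟶ X` a family of morphisms indexed by a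
small type. The following are equivalent: (i) the family is covering, for every `i` the diagonal of
presheaves `h_{Y i} ⟶ h_{Y i} ×_{h_X} h_{Y i}` becomes an isomorphism under the associated-sheaf
functor, and for all `i ≠ j` the sheaf associated to the presheaf `h_{Y i} ×_{h_X} h_{Y j}` is an
initial object; (ii) the associated sheaf of `X`, with the maps induced by the `s i`, is a coproduct
of the associated sheaves of the `Y i` in sheaves of sets. -/
theorem result
    {C : Type u} [SmallCategory C] (J : GrothendieckTopology C) {X : C} {ι : Type u}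
    (Y : ι → C) (s : ∀ i, Y i ⟶ X) :
    (Sieve.ofArrows Y s ∈ J X ∧
      (∀ i, IsIso ((presheafToSheaf J (Type u)).map (pullback.diagonal (yoneda.map (s i))))) ∧
      (∀ i j, i ≠ j → Nonempty (IsInitial ((presheafToSheaf J (Type u)).obj
        (pullback (yoneda.map (s i)) (yoneda.map (s j))))))) ↔
    Nonempty (IsColimit (Cofan.mk ((presheafToSheaf J (Type u)).obj (yoneda.obj X))
      (fun i => (presheafToSheaf J (Type u)).map (yoneda.map (s i))))) := by
  let L := presheafToSheaf J (Type u)
  let h : ι → Sheaf J (Type u) := fun i => L.obj (yoneda.obj (Y i))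
  let t : ∀ i, h i ⟶ L.obj (yoneda.obj X) := fun i => L.map (yoneda.map (s i))
  let φ : ∐ h ⟶ L.obj (yoneda.obj X) := Sigma.desc t
  have hcov : Sieve.ofArrows Y s ∈ J X ↔ Epi φ := by
    let ψ : ∐ (fun i => yoneda.obj (Y i)) ⟶ yoneda.obj X := Sigma.desc fun i => yoneda.map (s i)
    have e : φ = (PreservesCoproduct.iso L _).inv ≫ L.map ψ := by
      refine Sigma.hom_ext _ _ fun i => ?_
      simp [φ, t, ψ, h, ← Functor.map_comp]
    rw [e, (show Epi ((PreservesCoproduct.iso L _).inv ≫ L.map ψ) ↔ Epi (L.map ψ) from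
      ⟨fun _ => epi_of_epi ((PreservesCoproduct.iso L _).inv) _, fun _ => epi_comp _ _⟩),
      ← Sheaf.isLocallySurjective_iff_epi, Presheaf.isLocallySurjective_presheafToSheaf_map_iff]
    constructor
    · intro hS
      refine ⟨fun {U} g => J.superset_covering (fun V f hf => ?_) (J.pullback_stable g hS)⟩
      obtain ⟨i, k, hk⟩ := (Sieve.mem_ofArrows_iff Y s (f ≫ g)).1 hf
      refine ⟨(Sigma.ι (fun i => yoneda.obj (Y i)) i).app (op V) k, ?_⟩
      rw [← ConcreteCategory.comp_apply, ← NatTrans.comp_app, Sigma.ι_desc]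
      exact hk.symm
    · intro hψ
      refine J.superset_covering (fun V f hf => ?_) (hψ.imageSieve_mem (U := X) (𝟙 X))
      obtain ⟨x, hx⟩ := hf
      obtain ⟨⟨i⟩, k, rfl⟩ := Limits.Types.jointly_surjective_of_isColimit
        (isColimitOfPreserves ((evaluation Cᵒᵖ (Type u)).obj (op V))
          (colimit.isColimit (Discrete.functor fun i => yoneda.obj (Y i)))) x
      refine ⟨Y i, k, s i, Presieve.ofArrows.mk i, ?_⟩
      have hi : Sigma.ι (fun i => yoneda.obj (Y i)) i ≫ ψ = yoneda.map (s i) := Sigma.ι_desc _ _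
      exact ((ConcreteCategory.congr_hom (NatTrans.congr_app hi (op V)) k).symm.trans hx).trans
        (Category.comp_id f)
  have hmono : ∀ i, IsIso (L.map (pullback.diagonal (yoneda.map (s i)))) ↔ Mono (t i) := by
    intro i
    have hpb := (IsPullback.of_hasPullback (yoneda.map (s i)) (yoneda.map (s i))).map L
    have hd : L.map (pullback.diagonal (yoneda.map (s i))) ≫ L.map (pullback.fst _ _) = 𝟙 _ := by
      rw [← L.map_comp, pullback.diagonal_fst, L.map_id]
    constructor
    · intro _
      haveI : IsIso (L.map (pullback.fst (yoneda.map (s i)) (yoneda.map (s i)))) :=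
        IsIso.of_isIso_fac_left hd
      exact IsKernelPair.mono_of_isIso_fst hpb
    · intro hm
      haveI : IsIso (L.map (pullback.fst (yoneda.map (s i)) (yoneda.map (s i)))) :=
        IsKernelPair.isIso_of_mono (f := t i) hpb
      exact IsIso.of_isIso_fac_right hd
  constructor
  · rintro ⟨hS, hd, hi⟩
    haveI : Epi φ := hcov.1 hS
    haveI : ∀ i, Mono (t i) := fun i => (hmono i).1 (hd i)
    have hP : ∀ i j, pullback.fst (t i) (t j) ≫ Sigma.ι h i = pullback.snd (t i) (t j) ≫ Sigma.ι h j := by
      intro i j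
      by_cases e : i = j
      · subst e
        rw [(cancel_mono (t i)).1 (pullback.condition (f := t i) (g := t i))]
      · obtain ⟨hI⟩ := hi i j e
        exact (hI.ofIso (PreservesPullback.iso L _ _)).hom_ext _ _
    have hj : TFin.JEpi (Sigma.ι h) := fun _ _ _ hab => Sigma.hom_ext _ _ hab
    haveI : Mono φ := ⟨fun {T} a b hab => by
      refine hj.pullback a _ _ fun i => ?_
      refine hj.pullback (pullback.snd (Sigma.ι h i) a ≫ b) _ _ fun j => ?_
      let u := pullback.snd (Sigma.ι h j) (pullback.snd (Sigma.ι h i) a ≫ b) ≫ pullback.fst (Sigma.ι h i) a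
      let v := pullback.fst (Sigma.ι h j) (pullback.snd (Sigma.ι h i) a ≫ b)
      have hu : u ≫ Sigma.ι h i =
          pullback.snd (Sigma.ι h j) (pullback.snd (Sigma.ι h i) a ≫ b) ≫ pullback.snd (Sigma.ι h i) a ≫ a := by
        simp only [u, Category.assoc, pullback.condition]
      have hv : v ≫ Sigma.ι h j =
          pullback.snd (Sigma.ι h j) (pullback.snd (Sigma.ι h i) a ≫ b) ≫ pullback.snd (Sigma.ι h i) a ≫ b :=
        pullback.condition
      have huv : u ≫ t i = v ≫ t j := by
        rw [← Sigma.ι_desc t i, ← Sigma.ι_desc t j, reassoc_of% hu, reassoc_of% hv]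
        exact congrArg (fun k => _ ≫ _ ≫ k) hab
      rw [← hu, ← hv, ← pullback.lift_fst (f := t i) (g := t j) u v huv, Category.assoc, hP,
        ← Category.assoc, pullback.lift_snd]⟩
    haveI : IsIso φ := isIso_of_mono_of_epi φ
    haveI : IsIso ((coproductIsCoproduct h).desc (Cofan.mk _ t)) := ‹IsIso φ›
    exact ⟨IsColimit.ofPointIso (coproductIsCoproduct h)⟩
  · rintro ⟨hc⟩
    let c : Cofan h := Cofan.mk (L.obj (yoneda.obj X)) t
    have hc' : IsColimit c := hc
    haveI : Epi φ := ⟨fun a b hab => Cofan.IsColimit.hom_ext hc' _ _ fun i => by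
      simpa [φ, c] using congrArg (fun k => Sigma.ι h i ≫ k) hab⟩
    have hdisj := CoprodVK.coproductDisjoint (J := J) h
    refine ⟨hcov.2 ‹Epi φ›, fun i => (hmono i).2 (hdisj.mono_inj hc' i), fun i j hij => ?_⟩
    obtain ⟨hI⟩ := hdisj.nonempty_isInitial_of_ne hc' hij
      (PullbackCone.mk (pullback.fst (t i) (t j)) (pullback.snd (t i) (t j)) pullback.condition)
      (pullbackIsPullback _ _)
    exact ⟨hI.ofIso (PreservesPullback.iso L _ _).symm⟩

end Groth.Agent.S12108
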