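import Groth.Statements.S12109
import Mathlib
import Groth.Agent.H15Site.IndUnit

open Groth.Agent.H15Site.IndUnit

set_option linter.style.haveILetI false
open CategoryTheory CategoryTheory.Limits Opposite Simplicial

set_option autoImplicit false
open CategoryTheory CategoryTheory.Limits
universe u
open SGA4

namespace Groth.Agent.S12109

section

variable {C : Type u} [SmallCategory C] {C' : Type u} [SmallCategory C'] (u' : C ⥤ C')

lemma bijective_map_iff (F G : Cᵒᵖ ⥤ Type u) :
    Function.Bijective (fun φ : F ⟶ G => (u'.op.lan : (Cᵒᵖ ⥤ Type u) ⥤ (C'ᵒᵖ ⥤ Type u)).map φ) ↔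
      Function.Bijective (fun φ : F ⟶ G => φ ≫ (η u').app G) := by
  let adj := u'.op.lanAdjunction (Type u)
  have : (fun φ : F ⟶ G => φ ≫ (η u').app G) =
      (adj.homEquiv F (u'.op.lan.obj G)) ∘ (fun φ : F ⟶ G => (u'.op.lan : (Cᵒᵖ ⥤ Type u) ⥤ (C'ᵒᵖ ⥤ Type u)).map φ) := by
    funext φ
    exact ((η u').naturality φ).trans (adj.homEquiv_unit _ _ _).symm
  rw [this]
  exact ⟨fun h => (Equiv.bijective _).comp h, fun h => (Equiv.comp_bijective _ _).1 h⟩

lemma isIso_η [u'.Full] [u'.Faithful] {G : Cᵒᵖ ⥤ Type u} (hG : IsIndObject G) : IsIso ((η u').app G) := by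
  have : ∀ X, IsIso (((η u').app G).app X) := fun X => by
    rw [isIso_iff_bijective]
    exact ⟨(unit_indObject u' hG X.unop).1 inferInstance, (unit_indObject u' hG X.unop).2 inferInstance⟩
  exact NatIso.isIso_of_isIso_app _

lemma isIndObject_restrict [u'.Full] [u'.Faithful]
    (hr : ∀ X' : C', ∃ (X : C) (i : X' ⟶ u'.obj X) (r : u'.obj X ⟶ X'), i ≫ r = 𝟙 X')
    {G' : C'ᵒᵖ ⥤ Type u} (hG' : IsIndObject G') : IsIndObject (u'.op ⋙ G') := by
  haveI := hG'.isFiltered
  let el : ∀ {Y : C'}, G'.obj (op Y) → CostructuredArrow yoneda G' := fun a => CostructuredArrow.mk (yonedaEquiv.symm a)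
  let val : ∀ (o : CostructuredArrow yoneda G'), G'.obj (op o.left) := fun o => yonedaEquiv o.hom
  have hval : ∀ {Y : C'} (a : G'.obj (op Y)) {o : CostructuredArrow yoneda G'} (f : el a ⟶ o),
      G'.map f.left.op (val o) = a := by
    intro Y a o f
    have := congrArg yonedaEquiv (CostructuredArrow.w f)
    rw [← yonedaEquiv_naturality] at this
    exact this.trans (yonedaEquiv.apply_symm_apply a)
  let pv : ∀ o : CostructuredArrow yoneda (u'.op ⋙ G'), G'.obj (op (u'.obj o.left)) :=
    fun o => yonedaEquiv (X := o.left) (F := u'.op ⋙ G') o.hom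
  have mkHom : ∀ {a b : CostructuredArrow yoneda (u'.op ⋙ G')} (f : a.left ⟶ b.left),
      G'.map (u'.map f).op (pv b) = pv a → ∃ g : a ⟶ b, g.left = f := by
    intro a b f hf
    refine ⟨CostructuredArrow.homMk f (yonedaEquiv.injective ?_), rfl⟩
    rw [← yonedaEquiv_naturality]
    exact hf
  have hw : ∀ {a b : CostructuredArrow yoneda (u'.op ⋙ G')} (g : a ⟶ b),
      G'.map (u'.map g.left).op (pv b) = pv a := by
    intro a b g
    have := congrArg yonedaEquiv (CostructuredArrow.w g)
    rw [← yonedaEquiv_naturality] at this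
    exact this
  have lift : ∀ (o : CostructuredArrow yoneda G'),
      ∃ (b : CostructuredArrow yoneda (u'.op ⋙ G')) (i : o.left ⟶ u'.obj b.left),
        G'.map i.op (pv b) = val o := by
    intro o
    obtain ⟨X, i, r, hir⟩ := hr o.left
    refine ⟨CostructuredArrow.mk (yonedaEquiv.symm (G'.map r.op (val o)) : yoneda.obj X ⟶ u'.op ⋙ G'), i, ?_⟩
    refine (congrArg (G'.map i.op) ((yonedaEquiv (X := X) (F := u'.op ⋙ G')).apply_symm_apply (G'.map r.op (val o)))).trans ?_
    rw [← Functor.map_comp_apply, ← op_comp, hir, op_id, G'.map_id]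
    rfl
  haveI : IsFiltered (CostructuredArrow yoneda (u'.op ⋙ G')) :=
    { cocone_objs := fun a b => by
        let a' := el (pv a)
        let b' := el (pv b)
        obtain ⟨o, fa, fb, -⟩ := IsFilteredOrEmpty.cocone_objs a' b'
        obtain ⟨c, i, hc⟩ := lift o
        obtain ⟨f, hf⟩ := u'.map_surjective (fa.left ≫ i)
        obtain ⟨g, hg⟩ := u'.map_surjective (fb.left ≫ i)
        obtain ⟨f', -⟩ := mkHom (b := c) f (by
          rw [hf, op_comp, Functor.map_comp_apply, hc]; exact hval _ fa)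
        obtain ⟨g', -⟩ := mkHom (b := c) g (by
          rw [hg, op_comp, Functor.map_comp_apply, hc]; exact hval _ fb)
        exact ⟨c, f', g', trivial⟩
      cocone_maps := fun {a b} f g => by
        let a' := el (pv a)
        let b' := el (pv b)
        have toHom : ∀ (k : a ⟶ b), ∃ k' : a' ⟶ b', k'.left = u'.map k.left := fun k => by
          refine ⟨CostructuredArrow.homMk (u'.map k.left) (yonedaEquiv.injective ?_), rfl⟩
          rw [← yonedaEquiv_naturality]
          refine (congrArg (G'.map _) (yonedaEquiv.apply_symm_apply _)).trans ?_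
          exact (hw k).trans (yonedaEquiv.apply_symm_apply _).symm
        obtain ⟨f₁, hf₁⟩ := toHom f
        obtain ⟨g₁, hg₁⟩ := toHom g
        obtain ⟨o, h, hh⟩ := IsFilteredOrEmpty.cocone_maps f₁ g₁
        obtain ⟨c, i, hc⟩ := lift o
        obtain ⟨k, hk⟩ := u'.map_surjective (h.left ≫ i)
        obtain ⟨k', hk'⟩ := mkHom (b := c) k (by
          rw [hk, op_comp, Functor.map_comp_apply, hc]; exact hval _ h)
        refine ⟨c, k', CostructuredArrow.hom_ext _ _ (u'.map_injective ?_)⟩
        simp only [CostructuredArrow.comp_left, u'.map_comp, hk', hk, ← hf₁, ← hg₁]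
        rw [← Category.assoc, ← Category.assoc, ← CostructuredArrow.comp_left, hh, CostructuredArrow.comp_left]
      nonempty := by
        obtain ⟨o⟩ := (IsFiltered.nonempty : Nonempty (CostructuredArrow yoneda G'))
        obtain ⟨b, -⟩ := lift o
        exact ⟨b⟩ }
  haveI : FinallySmall.{u} (CostructuredArrow yoneda (u'.op ⋙ G')) := by
    have := essentiallySmallSelf (CostructuredArrow yoneda (u'.op ⋙ G'))
    apply finallySmall_of_essentiallySmall
  exact isIndObject_of_isFiltered_of_finallySmall _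

lemma isIso_app_of_retract {D : Type*} [Category D] {E : Type*} [Category E] {F G : D ⥤ E}
    (α : F ⟶ G) {A B : D} (i : A ⟶ B) (r : B ⟶ A) (h : i ≫ r = 𝟙 A) [IsIso (α.app B)] :
    IsIso (α.app A) := by
  refine ⟨⟨G.map i ≫ inv (α.app B) ≫ F.map r, ?_, ?_⟩⟩
  · rw [← α.naturality_assoc, IsIso.hom_inv_id_assoc, ← F.map_comp, h, F.map_id]
  · simp only [Category.assoc]
    rw [α.naturality, IsIso.inv_hom_id_assoc, ← G.map_comp, h, G.map_id]

theorem main (u : C ⥤ C') :
    ((∀ (F G : Cᵒᵖ ⥤ Type u), IsIndObject F → IsIndObject G →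
        Function.Bijective (fun φ : F ⟶ G => (u.op.lan : (Cᵒᵖ ⥤ Type u) ⥤ (C'ᵒᵖ ⥤ Type u)).map φ)) ∧
      (∀ G' : C'ᵒᵖ ⥤ Type u, IsIndObject G' →
        ∃ F : Cᵒᵖ ⥤ Type u, IsIndObject F ∧
          Nonempty ((u.op.lan : (Cᵒᵖ ⥤ Type u) ⥤ (C'ᵒᵖ ⥤ Type u)).obj F ≅ G'))) ↔
    ((u.Full ∧ u.Faithful) ∧
      ∀ X' : C', ∃ (X : C) (i : X' ⟶ u.obj X) (r : u.obj X ⟶ X'), i ≫ r = 𝟙 X') := by
  constructor
  · rintro ⟨hbij, hsurj⟩
    have hmap : ∀ X Y : C, Function.Bijective (u.map : (X ⟶ Y) → (u.obj X ⟶ u.obj Y)) := by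
      intro X Y
      obtain ⟨e, he⟩ := unit_yoneda u Y
      have h1 := (bijective_map_iff u _ _).1 (hbij _ (yoneda.obj Y) (isIndObject_yoneda X) (isIndObject_yoneda Y))
      have h2 : Function.Bijective (((η u).app (yoneda.obj Y)).app (op X)) := by
        have := yonedaEquiv.bijective.comp (h1.comp (yonedaEquiv (X := X) (F := yoneda.obj Y)).symm.bijective)
        refine (congrArg Function.Bijective (funext fun f => ?_)).mp this
        exact congrArg (((η u).app (yoneda.obj Y)).app (op X)) ((yonedaEquiv (X := X) (F := yoneda.obj Y)).apply_symm_apply f)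
      have h3 : Function.Bijective (e.hom.app (op (u.obj X))) := (isIso_iff_bijective _).1 inferInstance
      have := h3.comp h2
      refine (congrArg Function.Bijective (funext fun f => ?_)).mp this
      exact he X f
    refine ⟨⟨⟨fun {_ _} => (hmap _ _).2⟩, ⟨fun {_ _} _ _ h => (hmap _ _).1 h⟩⟩, fun X' => ?_⟩
    obtain ⟨F, hF, ⟨e⟩⟩ := hsurj _ (isIndObject_yoneda X')
    obtain ⟨P⟩ := hF.nonempty_presentation
    have := (u.op.lanAdjunction (Type u)).leftAdjoint_preservesColimits.{u, u}
    have h2 := isColimitOfPreserves ((evaluation C'ᵒᵖ (Type u)).obj (op X'))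
      (isColimitOfPreserves (u.op.lan : (Cᵒᵖ ⥤ Type u) ⥤ (C'ᵒᵖ ⥤ Type u)) P.isColimit)
    obtain ⟨j, c, hc⟩ := Types.jointly_surjective _ h2 (e.inv.app (op X') (𝟙 X'))
    obtain ⟨e', -⟩ := unit_yoneda u (P.F.obj j)
    let θ : yoneda.obj (u.obj (P.F.obj j)) ⟶ yoneda.obj X' :=
      e'.inv ≫ u.op.lan.map (P.ι.app j) ≫ e.hom
    obtain ⟨r, hr⟩ := yoneda.map_surjective θ
    refine ⟨P.F.obj j, e'.hom.app (op X') c, r, ?_⟩
    have : (e'.hom.app (op X') c : X' ⟶ _) ≫ r = θ.app (op X') (e'.hom.app (op X') c) :=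
      ConcreteCategory.congr_hom (NatTrans.congr_app hr (op X')) _
    refine this.trans ?_
    change e.hom.app _ ((u.op.lan.map (P.ι.app j)).app _ (e'.inv.app _ (e'.hom.app _ c))) = _
    rw [Iso.hom_inv_id_app_apply]
    refine (congrArg (e.hom.app (op X')) hc).trans ?_
    exact Iso.inv_hom_id_app_apply _ _ _
  · rintro ⟨⟨_, _⟩, hr⟩
    refine ⟨fun F G hF hG => ?_, fun G' hG' => ?_⟩
    · rw [bijective_map_iff]
      haveI := isIso_η u hG
      exact ⟨fun a b h => (cancel_mono _).1 h, fun b => ⟨b ≫ inv ((η u).app G), by simp⟩⟩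
    · refine ⟨u.op ⋙ G', isIndObject_restrict u hr hG', ?_⟩
      haveI := isIso_η u (isIndObject_restrict u hr hG')
      let adj := u.op.lanAdjunction (Type u)
      have htri := adj.right_triangle_components G'
      haveI : IsIso (((Functor.whiskeringLeft _ _ _).obj u.op).map (adj.counit.app G')) := by
        refine ⟨⟨(η u).app (u.op ⋙ G'), ?_, htri⟩⟩
        rw [← cancel_epi ((η u).app (u.op ⋙ G'))]
        exact ((Category.assoc _ _ _).symm.trans (congrArg (· ≫ (η u).app (u.op ⋙ G')) htri)).trans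
          ((Category.id_comp _).trans (Category.comp_id _).symm)
      have h1 : ∀ X : C, IsIso ((adj.counit.app G').app (op (u.obj X))) := fun X =>
        (inferInstance : IsIso ((((Functor.whiskeringLeft _ _ _).obj u.op).map (adj.counit.app G')).app (op X)))
      have h2 : ∀ Z, IsIso ((adj.counit.app G').app Z) := by
        intro Z
        obtain ⟨X, i, r, hir⟩ := hr Z.unop
        haveI := h1 X
        exact isIso_app_of_retract (adj.counit.app G') r.op i.op (by rw [← op_comp, hir]; rfl)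
      haveI := NatIso.isIso_of_isIso_app (adj.counit.app G')
      exact ⟨asIso (adj.counit.app G')⟩
end

/-- Let `u : C ⥤ C'` be a functor between small categories and `u_!` the left Kan extension functor on
presheaves of sets, whose restriction to ind-representable presheaves is the induced functor `Ind C
⥤ Ind C'`. Then `Ind(u)` is an equivalence — `u_!` is bijective on morphisms between
ind-representable presheaves on `C` and every ind-representable presheaf on `C'` is isomorphic to
`u_! F` for some ind-representable `F` — if and only if `u` is full and faithful and every object of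
`C'` is a retract (direct factor) of an object `u X`. -/
theorem result
    {C : Type u} [SmallCategory C] {C' : Type u} [SmallCategory C'] (u : C ⥤ C') :
    ((∀ (F G : Cᵒᵖ ⥤ Type u), IsIndObject F → IsIndObject G →
        Function.Bijective (fun φ : F ⟶ G => (u.op.lan : (Cᵒᵖ ⥤ Type u) ⥤ (C'ᵒᵖ ⥤ Type u)).map φ)) ∧
      (∀ G' : C'ᵒᵖ ⥤ Type u, IsIndObject G' →
        ∃ F : Cᵒᵖ ⥤ Type u, IsIndObject F ∧
          Nonempty ((u.op.lan : (Cᵒᵖ ⥤ Type u) ⥤ (C'ᵒᵖ ⥤ Type u)).obj F ≅ G'))) ↔
    ((u.Full ∧ u.Faithful) ∧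
      ∀ X' : C', ∃ (X : C) (i : X' ⟶ u.obj X) (r : u.obj X ⟶ X'), i ≫ r = 𝟙 X') := by
  exact main u

end Groth.Agent.S12109
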