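import Groth.Statements.S12113
import Groth.Agent.H28SGA7.Descend


set_option autoImplicit false
universe u
open CategoryTheory CategoryTheory.Limits MonoidalCategory CartesianMonoidalCategory MonObj AlgebraicGeometry
open SGA7

namespace Groth.Agent.S12113

/-- Group schemes, fppf site: over a base scheme S, let P and G be S-group schemes with G commutative,
and let u : G → E, v : E → P and u' : G → E', v' : E' → P be homomorphisms forming sequences 1 → G →
E → P → 1 and 1 → G → E' → P → 1 exact for the fppf topology. Suppose every morphism of S-schemes P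
×_S P → G trivial on P × e_P and on e_P × P is trivial. Let f : E → E' be a morphism of S-schemes
over P (f ≫ v' = v) and under G (u ≫ f = u'), preserving the unit section, and compatible with left
and right translations by G: for all points g of G and x of E with values in any S-scheme, f(u(g) x)
= u'(g) f(x) and f(x u(g)) = f(x) u'(g). Then f is a homomorphism of S-group schemes: such
extensions have no non-multiplicative morphisms of their underlying rigidified bitorsors. (The
published statement is for sheaves of groups on an arbitrary topos and phrased as full faithfulness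
of the functor from extensions to rigidified bitorsors; this row is the case of representable
sheaves on the fppf site of S, with G commutative so that the defect of multiplicativity descends to
P ×_S P as in the printed argument. Morphisms to a group scheme form a group; trivial means equal to
its unit.) -/
theorem result (S : Scheme.{u})
    (P G E E' : Over S) [GrpObj P] [GrpObj G] [GrpObj E] [GrpObj E'] [IsCommMonObj G]
    (u : G ⟶ E) (v : E ⟶ P) (hex : NonAbH1.IsExactSeq Scheme.fppfPrecoverage u v)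
    (u' : G ⟶ E') (v' : E' ⟶ P) (hex' : NonAbH1.IsExactSeq Scheme.fppfPrecoverage u' v')
    (hPP : ∀ c : P ⊗ P ⟶ G, lift (𝟙 P) (toUnit P ≫ η[P]) ≫ c = 1 → lift (toUnit P ≫ η[P]) (𝟙 P) ≫ c = 1 → c = 1)
    (f : E ⟶ E') (hv : f ≫ v' = v) (hu : u ≫ f = u') (h1 : η[E] ≫ f = η[E'])
    (hl : ∀ (T : Over S) (g : T ⟶ G) (x : T ⟶ E), ((g ≫ u) * x) ≫ f = (g ≫ u') * (x ≫ f))
    (hr : ∀ (T : Over S) (g : T ⟶ G) (x : T ⟶ E), (x * (g ≫ u)) ≫ f = (x ≫ f) * (g ≫ u')) :
    IsMonHom f := by
  haveI hum : IsMonHom u := hex.1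
  haveI hvm : IsMonHom v := hex.2.1
  haveI hum' : IsMonHom u' := hex'.1
  haveI hvm' : IsMonHom v' := hex'.2.1
  haveI := Groth.Agent.H28SGA7.epi_of_exact hex
  -- conjugation on the kernel
  have hnorm : ∀ {T : Over S} (g : T ⟶ G) (y : T ⟶ E), ∃ g' : T ⟶ G, (g ≫ u) * y = y * (g' ≫ u) := by
    intro T g y
    obtain ⟨g', hg', -⟩ := Groth.Agent.H28SGA7.exists_unique_kernel hex (y⁻¹ * (g ≫ u) * y) (by
      rw [MonObj.mul_comp, MonObj.mul_comp, GrpObj.inv_comp, Category.assoc g u v, hex.2.2.1, MonObj.comp_one,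
        _root_.mul_one, inv_mul_cancel])
    exact ⟨g', by rw [hg']; group⟩
  have hd : ∀ {T : Over S} (x y : T ⟶ E), (((x * y) ≫ f) * (y ≫ f)⁻¹ * (x ≫ f)⁻¹) ≫ v' = 1 := fun x y => by
    simp only [MonObj.mul_comp, GrpObj.inv_comp, Category.assoc, hv]
    group
  obtain ⟨δ, hδ, -⟩ := Groth.Agent.H28SGA7.exists_unique_kernel hex'
    (((fst E E * snd E E) ≫ f) * (snd E E ≫ f)⁻¹ * (fst E E ≫ f)⁻¹) (hd _ _)
  have hδpt : ∀ (T : Over S) (x y : T ⟶ E),
      (lift x y ≫ δ) ≫ u' = ((x * y) ≫ f) * (y ≫ f)⁻¹ * (x ≫ f)⁻¹ := by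
    intro T x y
    rw [Category.assoc, hδ]
    simp only [MonObj.comp_mul, GrpObj.comp_inv, lift_fst_assoc, lift_snd_assoc, ← Category.assoc,
      lift_fst, lift_snd]
  obtain ⟨δ₁, hδ₁⟩ := Groth.Agent.H28SGA7.exists_descend hex δ (fun T x x' y hx => by
    obtain ⟨g, hg, -⟩ := Groth.Agent.H28SGA7.exists_unique_mul hex x x' hx
    obtain ⟨g', hg'⟩ := hnorm g y
    refine Groth.Agent.H28SGA7.kernel_injective hex' ?_
    rw [hδpt, hδpt, ← hg, hr, _root_.mul_assoc x (g ≫ u) y, hg', ← _root_.mul_assoc x y, hr]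
    have h := hr T g' y
    rw [← hg', hl] at h
    have h' : g' ≫ u' = (y ≫ f)⁻¹ * ((g ≫ u') * (y ≫ f)) := by rw [h]; group
    rw [h']
    group)
  let δ₁' : E ⊗ P ⟶ G := lift (snd E P) (fst E P) ≫ δ₁
  have hδ₁' : ∀ (T : Over S) (y : T ⟶ E) (p : T ⟶ P), lift y p ≫ δ₁' = lift p y ≫ δ₁ := by
    intro T y p
    simp only [δ₁', comp_lift_assoc, lift_fst, lift_snd]
  obtain ⟨δ₂, hδ₂⟩ := Groth.Agent.H28SGA7.exists_descend hex δ₁' (fun T y y' p hy => by
    rw [hδ₁', hδ₁']
    obtain ⟨g, hg, -⟩ := Groth.Agent.H28SGA7.exists_unique_mul hex y y' hy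
    have key : lift (fst P T) (snd P T ≫ y) ≫ δ₁ = lift (fst P T) (snd P T ≫ y') ≫ δ₁ := by
      refine Groth.Agent.H28SGA7.ext_descend hex fun U x t => ?_
      simp only [comp_lift_assoc, lift_fst, lift_snd_assoc, hδ₁]
      refine Groth.Agent.H28SGA7.kernel_injective hex' ?_
      rw [hδpt, hδpt, ← hg, MonObj.comp_mul, ← Category.assoc t g u, ← _root_.mul_assoc, hr, hr]
      group
    have := congrArg (lift p (𝟙 T) ≫ ·) key
    simpa only [comp_lift_assoc, lift_fst, lift_snd_assoc, Category.id_comp] using this)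
  have hfull : ∀ (T : Over S) (x y : T ⟶ E), lift (y ≫ v) (x ≫ v) ≫ δ₂ = lift x y ≫ δ := by
    intro T x y
    rw [hδ₂, hδ₁', hδ₁]
  have hone : (1 : E ⟶ E) ≫ f = 1 := by
    rw [Hom.one_def, Category.assoc, h1, ← Hom.one_def]
  have hc : δ₂ = 1 := by
    refine hPP _ ?_ ?_
    · rw [← Hom.one_def, ← cancel_epi v, MonObj.comp_one, ← Category.assoc, comp_lift, Category.comp_id,
        MonObj.comp_one, ← MonObj.one_comp v (X := E),
        show lift v ((1 : E ⟶ E) ≫ v) = lift (𝟙 E ≫ v) ((1 : E ⟶ E) ≫ v) by rw [Category.id_comp], hfull]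
      refine Groth.Agent.H28SGA7.kernel_injective hex' ?_
      rw [hδpt, hone, MonObj.one_comp, _root_.one_mul, Category.id_comp]
      group
    · rw [← Hom.one_def, ← cancel_epi v, MonObj.comp_one, ← Category.assoc, comp_lift, Category.comp_id,
        MonObj.comp_one, ← MonObj.one_comp v (X := E),
        show lift ((1 : E ⟶ E) ≫ v) v = lift ((1 : E ⟶ E) ≫ v) (𝟙 E ≫ v) by rw [Category.id_comp], hfull]
      refine Groth.Agent.H28SGA7.kernel_injective hex' ?_
      rw [hδpt, hone, MonObj.one_comp, _root_.mul_one, inv_one, _root_.mul_one, Category.id_comp, mul_inv_cancel]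
  refine ⟨h1, ?_⟩
  have h := hδpt (E ⊗ E) (fst E E) (snd E E)
  rw [← hfull, hc, MonObj.comp_one, MonObj.one_comp, eq_comm, mul_inv_eq_one, mul_inv_eq_iff_eq_mul] at h
  rw [show μ[E] = fst E E * snd E E by rw [Hom.mul_def, lift_fst_snd, Category.id_comp], h, Hom.mul_def,
    ← lift_map]
  simp

end Groth.Agent.S12113
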