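import Groth.Statements.S12127
import Groth.Agent.H06Topo.QuasiHomeo

set_option autoImplicit false
universe u
open EGA43

namespace Groth.Agent.S12127

open Groth.Agent.H06Topo

/-- Let f : X → Y be a quasi-homeomorphism, i.e. a continuous map such that U ↦ f⁻¹(U) is a bijection
from the open subsets of Y onto the open subsets of X. Call a subset quasi-constructible when it is
a finite union of locally closed subsets, and locally quasi-constructible when every point of the
space has an open neighbourhood V whose intersection with it is quasi-constructible in V. Then Z ↦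
f⁻¹(Z) induces a bijection from the quasi-constructible subsets of Y onto those of X, and from the
locally quasi-constructible subsets of Y onto those of X. -/
theorem result {X Y : Type u}
    [TopologicalSpace X] [TopologicalSpace Y] (f : X → Y) (hf : Continuous f)
    (hq : Function.Bijective (fun U : TopologicalSpace.Opens Y =>
      (⟨f ⁻¹' (U : Set Y), U.isOpen.preimage hf⟩ : TopologicalSpace.Opens X))) :
    Set.BijOn (fun Z : Set Y => f ⁻¹' Z)
        {Z : Set Y | ∃ T : Set (Set Y), T.Finite ∧ (∀ t ∈ T, IsLocallyClosed t) ∧ Z = ⋃₀ T}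
        {Z : Set X | ∃ T : Set (Set X), T.Finite ∧ (∀ t ∈ T, IsLocallyClosed t) ∧ Z = ⋃₀ T} ∧
      Set.BijOn (fun Z : Set Y => f ⁻¹' Z)
        {Z : Set Y | ∀ y : Y, ∃ V : Set Y, IsOpen V ∧ y ∈ V ∧
          ∃ T : Set (Set V), T.Finite ∧ (∀ t ∈ T, IsLocallyClosed t) ∧ (Subtype.val ⁻¹' Z : Set V) = ⋃₀ T}
        {Z : Set X | ∀ x : X, ∃ V : Set X, IsOpen V ∧ x ∈ V ∧
          ∃ T : Set (Set V), T.Finite ∧ (∀ t ∈ T, IsLocallyClosed t) ∧ (Subtype.val ⁻¹' Z : Set V) = ⋃₀ T} := by
  have h := QH.of_bijective hf hq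
  have e1 : ∀ {A : Type u} [TopologicalSpace A] (Z : Set A),
      (∀ y : A, ∃ V : Set A, IsOpen V ∧ y ∈ V ∧
        ∃ T : Set (Set V), T.Finite ∧ (∀ t ∈ T, IsLocallyClosed t) ∧
          (Subtype.val ⁻¹' Z : Set V) = ⋃₀ T) ↔ IsLQC Z := fun Z =>
    forall_congr' fun y => exists_congr fun V => and_congr_right fun hV => and_congr_right fun _ =>
      isQC_preimage_val_iff (IsQC.of_open hV)
  simp only [e1]
  refine ⟨⟨fun Z hZ => IsQC.preimage hf hZ,
    fun Z hZ Z' hZ' he => h.inj (IsQC.isLQC hZ) (IsQC.isLQC hZ') he,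
    fun Z hZ => IsQC.exists_preimage h.isInducing hZ⟩,
    ⟨fun Z hZ => IsLQC.preimage hf hZ, fun Z hZ Z' hZ' he => h.inj hZ hZ' he,
      fun Z hZ => h.lqc_surj hZ⟩⟩

end Groth.Agent.S12127
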