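import Groth.Statements.S12129
import Groth.Agent.H11Curve.DimOne

set_option autoImplicit false
universe u
open EGA2

namespace Groth.Agent.S12129

open AlgebraicGeometry CategoryTheory in
/-- Let X be a scheme of finite type over a field k. Then the local ring of X at every closed point has
dimension one if and only if the irreducible closed subsets of X other than its irreducible
components are exactly the (singletons of) closed points of X — that is, every irreducible closed
subset which is not an irreducible component is a closed point, and no closed point is by itself an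
irreducible component. -/
theorem result (k : Type u) [Field k] (X : Scheme.{u})
    [X.Over (Spec (CommRingCat.of k))] [LocallyOfFiniteType (X ↘ (Spec (CommRingCat.of k)))]
    [QuasiCompact (X ↘ (Spec (CommRingCat.of k)))] :
    (∀ x : X, IsClosed ({x} : Set X) → ringKrullDim (X.presheaf.stalk x) = 1) ↔
      ((∀ F : Set X, IsClosed F → IsIrreducible F → F ∉ irreducibleComponents (X : Type u) →
          ∃ x : X, IsClosed ({x} : Set X) ∧ F = {x}) ∧
        ∀ x : X, IsClosed ({x} : Set X) → ({x} : Set X) ∉ irreducibleComponents (X : Type u)) := by
  let p := X ↘ (Spec (CommRingCat.of k))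
  haveI : CompactSpace X := QuasiCompact.compactSpace_of_compactSpace p
  have hcl : ∀ {a b : X}, closure ({a} : Set X) ⊆ closure {b} ↔ b ⤳ a := fun {a b} =>
    ⟨fun h => specializes_iff_mem_closure.2 (h (subset_closure rfl)),
      fun h => closure_minimal (Set.singleton_subset_iff.2 h.mem_closure) isClosed_closure⟩
  have hcomp : ∀ {x : X}, closure ({x} : Set X) ∉ irreducibleComponents (X : Type u) →
      ∃ z : X, z ≠ x ∧ z ⤳ x := by
    intro x hx
    obtain ⟨T, hT, hsub⟩ := exists_mem_irreducibleComponents_subset_of_isIrreducible _
      (isIrreducible_singleton (x := x)).closure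
    have hTc := isClosed_of_mem_irreducibleComponents T hT
    have hg := hT.1.isGenericPoint_genericPoint hTc
    refine ⟨hT.1.genericPoint, fun e => hx ?_, hg.specializes (hsub (subset_closure rfl))⟩
    have : closure ({x} : Set X) = T := by rw [← e]; exact hg.def
    rw [this]; exact hT
  constructor
  · intro h
    refine ⟨fun F hF hFi hFc => ?_, fun x hx hxc => ?_⟩
    · have hg := hFi.isGenericPoint_genericPoint hF
      set x := hFi.genericPoint
      obtain ⟨z, hzx, hz⟩ := hcomp (x := x) (by rw [hg.def]; exact hFc)
      suffices hxcl : IsClosed ({x} : Set X) from ⟨x, hxcl, by rw [← hg.def, hxcl.closure_eq]⟩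
      by_contra hxcl
      obtain ⟨c, hxc, hc⟩ := H11Curve.exists_closed_specializes x
      have hcx : c ≠ x := fun e => hxcl (e ▸ hc)
      letI := specializationOrder (X : Type u)
      have h1 := h c hc
      rw [ringKrullDim_stalk_eq_coheight] at h1
      have h2 : Order.coheight x + 1 ≤ Order.coheight c :=
        Order.coheight_add_one_le (lt_of_le_of_ne hxc hcx)
      have h3 : Order.coheight z + 1 ≤ Order.coheight x :=
        Order.coheight_add_one_le (lt_of_le_of_ne hz (Ne.symm hzx))
      rw [show Order.coheight c = 1 from WithBot.coe_inj.1 h1] at h2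
      have h4 : Order.coheight x = 0 := by
        generalize Order.coheight x = a at h2 ⊢
        induction a using ENat.recTopCoe with
        | top => simp at h2
        | coe a => norm_cast at h2 ⊢; omega
      rw [h4] at h3
      simp at h3
    · obtain ⟨y, hy, hyx⟩ := H11Curve.exists_ne_specializes (h x hx)
      have hsub : ({x} : Set X) ⊆ closure {y} := Set.singleton_subset_iff.2 hyx.mem_closure
      exact hy (hxc.2 (isIrreducible_singleton (x := y)).closure hsub (subset_closure rfl))
  · rintro ⟨h1, h2⟩ x hx
    letI := specializationOrder (X : Type u)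
    obtain ⟨z, hzx, hz⟩ := hcomp (x := x) (by rw [hx.closure_eq]; exact h2 x hx)
    rw [ringKrullDim_stalk_eq_coheight]
    refine congrArg WithBot.some (le_antisymm (Order.coheight_le fun q hq => ?_) ?_)
    · by_contra hlen
      have hlen2 : 2 ≤ q.length := by
        by_contra h'
        exact hlen (by exact_mod_cast (show q.length ≤ 1 by omega))
      have l01 : q ⟨0, by omega⟩ < q ⟨1, by omega⟩ := q.strictMono (Fin.mk_lt_mk.2 Nat.zero_lt_one)
      have l12 : q ⟨1, by omega⟩ < q ⟨2, by omega⟩ := q.strictMono (Fin.mk_lt_mk.2 Nat.one_lt_two)
      have e0 : q ⟨0, by omega⟩ = x := hq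
      set y := q ⟨1, by omega⟩
      set w := q ⟨2, by omega⟩
      rw [e0] at l01
      have hy : closure ({y} : Set X) ∉ irreducibleComponents (X : Type u) := fun hc =>
        l12.not_ge (hcl.1 (hc.2 (isIrreducible_singleton (x := w)).closure (hcl.2 l12.le)))
      obtain ⟨c, hc, e⟩ := h1 _ isClosed_closure (isIrreducible_singleton (x := y)).closure hy
      have e1 : y = c := by
        have : y ∈ ({c} : Set X) := e ▸ subset_closure rfl
        exact this
      have e2 : x = c := by
        have : x ∈ ({c} : Set X) := e ▸ (show y ⤳ x from l01.le).mem_closure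
        exact this
      exact l01.ne (e2.trans e1.symm)
    · exact ENat.one_le_iff_ne_zero.2 (Order.coheight_ne_zero.2 fun hmax => hzx
        ((show z ⤳ x from hz).antisymm (show x ⤳ z from hmax hz)).eq)

end Groth.Agent.S12129
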