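-- statement FlatMor.GrothFrozen.S1213 (Groth/Statements/S1213.lean; the theorem FlatMor.assoc_sup_maximal_ne_top_of_directSum_finite);
import Groth.Statements.S1213
import Groth.Agent.H7Flat.AssMeets

set_option autoImplicit false
universe u
open scoped Classical
open FlatMor

namespace Groth.Agent.S1213

open TensorProduct IsLocalRing in
/-- Let R be a local ring, S an R-algebra and N an S-module which, as an R-module, is an internal direct
sum of finite R-submodules. Then for every R-module M and every prime q of S which is the
annihilator of an element of the S-module N ⊗_R M we have q + 𝔪_R S ≠ S. -/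
theorem result {R S : Type u} [CommRing R] [IsLocalRing R] [CommRing S] [Algebra R S]
    (N : Type u) [AddCommGroup N] [Module S N] [Module R N] [IsScalarTower R S N]
    (ι : Type u) (F : ι → Submodule R N) (hF : DirectSum.IsInternal F) (hfin : ∀ i, Module.Finite R (F i))
    (M : Type u) [AddCommGroup M] [Module R M]
    (q : Ideal S) [q.IsPrime] (hq : q ∈ FlatCA.ass S (N ⊗[R] M)) :
    q ⊔ (maximalIdeal R).map (algebraMap R S) ≠ ⊤ := by
  classical
  obtain ⟨-, z, hz⟩ := hq
  obtain ⟨hind, htop⟩ := (DirectSum.isInternal_submodule_iff_iSupIndep_and_iSup_eq_top F).1 hF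
  exact H7Flat.AssMeets.sup_ne_top_of_injective _ M q z hz fun f hf hfz =>
    H7Flat.AssMeets.eq_zero_of_smul_eq_self_of_isInternal F hind htop hfin M z hf hfz

end Groth.Agent.S1213
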