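import Groth.Statements.S12132
import Groth.Agent.H17.LengthSum
import Mathlib.RingTheory.KrullDimension.Regular
-- import your own Groth.Agent.* helpers here

set_option autoImplicit false
universe u
open AssSch

namespace Groth.Agent.S12132

/-- Let B be a Noetherian local ring (the local ring of X at the generic point z of an irreducible
component Z of the support of F/tF), t an element of its maximal ideal, and M a finite B-module (the
stalk F_z) such that the support of M has positive dimension (Z is not an irreducible component of
Supp F) and M/tM has finite length (z is a maximal point of Supp(F/tF)). Then the length of M/tM is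
at least the sum, over the primes p of B minimal over the annihilator of M (the generic points of
the irreducible components of Supp F through z), of the lengths of the B_p-modules M_p; and the two
are equal if and only if t is a non-zero-divisor on M and for every such p the image of t generates
the maximal ideal of B/p (so that B/p is a discrete valuation ring with uniformizer t). -/
theorem result {B : Type u} [CommRing B] [IsNoetherianRing B]
    [IsLocalRing B] (t : B) (ht : t ∈ IsLocalRing.maximalIdeal B)
    (M : Type u) [AddCommGroup M] [Module B M] [Module.Finite B M]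
    (hdim : 0 < Module.supportDim B M)
    (hfin : Module.length B (M ⧸ (Ideal.span {t} • (⊤ : Submodule B M))) ≠ ⊤) :
    (∑ᶠ p : (Module.annihilator B M).minimalPrimes,
        haveI : p.1.IsPrime := p.2.1.1
        Module.length (Localization.AtPrime p.1) (LocalizedModule p.1.primeCompl M)) ≤
      Module.length B (M ⧸ (Ideal.span {t} • (⊤ : Submodule B M))) ∧
    ((∑ᶠ p : (Module.annihilator B M).minimalPrimes,
        haveI : p.1.IsPrime := p.2.1.1
        Module.length (Localization.AtPrime p.1) (LocalizedModule p.1.primeCompl M)) =
      Module.length B (M ⧸ (Ideal.span {t} • (⊤ : Submodule B M))) ↔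
    IsSMulRegular M t ∧
      ∀ p : (Module.annihilator B M).minimalPrimes,
        Ideal.map (Ideal.Quotient.mk p.1) (IsLocalRing.maximalIdeal B) =
          Ideal.span {Ideal.Quotient.mk p.1 t}) := by
  open Groth.Agent in
  haveI : Nontrivial M := by
    by_contra h
    rw [not_nontrivial_iff_subsingleton] at h
    rw [Module.supportDim_eq_bot_of_subsingleton] at hdim
    exact not_lt_bot hdim
  have h0 : Module.supportDim B (M ⧸ (Ideal.span {t} • (⊤ : Submodule B M))) ≤ 0 := H17.LengthSum.supportDim_quot_le_zero hfin
  rw [Submodule.ideal_span_singleton_smul] at h0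
  have h1 : Module.supportDim B M ≤ 1 := by
    refine (Module.supportDim_le_supportDim_quotSMulTop_succ_of_mem_jacobson
      (IsLocalRing.maximalIdeal_le_jacobson _ ht)).trans ?_
    calc Module.supportDim B (QuotSMulTop t M) + 1 ≤ 0 + 1 := add_le_add h0 le_rfl
      _ = 1 := zero_add _
  have hsupp : ∀ p : PrimeSpectrum B, p ∈ Module.support B M ↔ Module.annihilator B M ≤ p.asIdeal := fun p => by
    rw [Module.support_eq_zeroLocus]; rfl
  have key := H17.LengthSum.main (M := M) t ht h1 h0 (Module.annihilator B M).minimalPrimes
    (Ideal.finite_minimalPrimes_of_isNoetherianRing B _) (fun p hp => hp.1.1)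
    (fun p hp hpm => by
      subst hpm
      have : Module.supportDim B M ≤ 0 := H17.LengthSum.supportDim_quot_le_zero
        (H22Alg.length_ne_top_of_support_maximal fun q hq => by
          have := hp.2 ⟨q.isPrime, (hsupp q).1 hq⟩ (IsLocalRing.le_maximalIdeal q.isPrime.ne_top)
          rw [le_antisymm (IsLocalRing.le_maximalIdeal q.isPrime.ne_top) this]
          infer_instance)
      exact absurd this (not_le.2 hdim))
    (fun p hp => ⟨⟨p.isPrime, (hsupp p).1 hp.1⟩, fun q hq hqp =>
      (congrArg PrimeSpectrum.asIdeal (H22Alg.lowPrimes_minimal h1 hp (q := ⟨q, hq.1⟩) ((hsupp _).2 hq.2) hqp)).ge⟩)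
  refine ⟨key.1, key.2.trans (and_congr_right fun _ => ⟨fun h p => h p ?_, fun h p _ => h p⟩)⟩
  exact Module.mem_support_iff.1 ((hsupp ⟨p.1, p.2.1.1⟩).2 p.2.1.2)

end Groth.Agent.S12132
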