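import Groth.Statements.S12133
import Groth.Agent.H11Proj.VeroneseGen

set_option autoImplicit false
universe u
open EGA2

namespace Groth.Agent.S12133

open CategoryTheory AlgebraicGeometry Opposite in
/-- Let Y be a scheme, 𝒮 a quasi-coherent positively graded O_Y-algebra, and (U_i) a finite cover of Y
by affine open sets such that each graded ring 𝒮(U_i) is an algebra of finite type over O_Y(U_i).
Then there is an integer d > 0 such that for every i: 𝒮(U_i)_{nd} = (𝒮(U_i)_d)^n for all n > 0 (as
additive subgroups of the ring 𝒮(U_i); that is, 𝒮^{(d)} is generated by 𝒮_d), and 𝒮(U_i)_d is a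
finitely generated module over the degree-zero subring 𝒮(U_i)_0. (The published statement says 𝒮_d
is an O_Y-module of finite type; its proof gives finite generation over 𝒮_0, which is what is stated
here — for 𝒮 = O_Y[x][T] with x of degree 0 and T of degree 1 over an affine Y, 𝒮 is of finite type
but 𝒮_1 = O_Y[x] T is not a finitely generated O_Y-module.) -/
theorem result {Y : Scheme.{u}} (𝒮 : RelProj.QCGrAlg Y)
    {ι : Type u} [Finite ι] (U : ι → Y.Opens) (hU : ∀ i, IsAffineOpen (U i)) (hcov : ⨆ i, U i = ⊤)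
    (hft : ∀ i, (𝒮.str.app (op (U i))).hom.FiniteType) :
    ∃ d : ℕ, 0 < d ∧ ∀ i,
      (∀ n : ℕ, 0 < n →
        AddSubgroup.toIntSubmodule (𝒮.deg (U i) (hU i) (n * d)) =
          AddSubgroup.toIntSubmodule (𝒮.deg (U i) (hU i) d) ^ n) ∧
      ∃ T : Finset (𝒮.presheaf.obj (op (U i))),
        (↑T : Set (𝒮.presheaf.obj (op (U i)))) ⊆ (𝒮.deg (U i) (hU i) d : Set (𝒮.presheaf.obj (op (U i)))) ∧
        AddSubgroup.toIntSubmodule (𝒮.deg (U i) (hU i) d) =
          AddSubgroup.toIntSubmodule (𝒮.deg (U i) (hU i) 0) *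
            Submodule.span ℤ (↑T : Set (𝒮.presheaf.obj (op (U i)))) := by
  exact Groth.Agent.H11Proj.VeroneseGen.exists_deg 𝒮 U hU hft

end Groth.Agent.S12133
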