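import Groth.Statements.S12136
import Groth.Agent.H05EGA4.AdicConormal

set_option autoImplicit false
universe u
open TensorProduct KaehlerDifferential
open EGA41

namespace Groth.Agent.S12136

/-- In the Noetherian adic case, which the published statement itself singles out, let A → B be a ring
homomorphism with B Noetherian, I and J ideals of B, and suppose B, with the I-adic topology, is
formally smooth over the discrete ring A. Put C = B/J with the quotient (IC-adic) topology and let Q
be an ideal of definition of C, i.e. an ideal containing a power of IC and a power of which lies in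
IC. Then C is formally smooth over A for the IC-adic topology if and only if the C/Q-linear map
(J/J²) ⊗ (C/Q) → Ω_{B/A} ⊗_B (C/Q), obtained by base change from the conormal map J/J² → Ω_{B/A} ⊗_B
C, x ↦ 1 ⊗ dx, has a C/Q-linear left inverse (is an isomorphism onto a direct summand). Here J is
written as the kernel of B → C and the tensor products are taken over B, which for these C-modules
is the same as over C. (The published statement allows A to be any topological ring with A → B
continuous; this row takes A discrete.) -/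
theorem result {A B : Type u} [CommRing A]
    [CommRing B] [Algebra A B] [IsNoetherianRing B] (I J : Ideal B) (hB : CAlgX.IsAdicFormallySmooth A B I)
    (Q : Ideal (B ⧸ J)) (hQ : ∃ n : ℕ, (I.map (Ideal.Quotient.mk J)) ^ n ≤ Q)
    (hQ' : ∃ m : ℕ, Q ^ m ≤ I.map (Ideal.Quotient.mk J)) :
    CAlgX.IsAdicFormallySmooth A (B ⧸ J) (I.map (Ideal.Quotient.mk J)) ↔
      ∃ g : ((B ⧸ J) ⧸ Q) ⊗[B] ((B ⧸ J) ⊗[B] Ω[B⁄A]) →ₗ[(B ⧸ J) ⧸ Q]
          ((B ⧸ J) ⧸ Q) ⊗[B] (RingHom.ker (algebraMap B (B ⧸ J))).Cotangent,
        g ∘ₗ LinearMap.baseChange ((B ⧸ J) ⧸ Q) (KaehlerDifferential.kerCotangentToTensor A B (B ⧸ J)) =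
          LinearMap.id := by
  obtain ⟨n, hn⟩ := hQ
  obtain ⟨m, hm⟩ := hQ'
  have hs : Function.Surjective (algebraMap B ((B ⧸ J) ⧸ Q)) := fun y => by
    obtain ⟨z, rfl⟩ := Ideal.Quotient.mk_surjective y
    obtain ⟨b, rfl⟩ := Ideal.Quotient.mk_surjective z
    exact ⟨b, rfl⟩
  have hker : RingHom.ker (algebraMap B ((B ⧸ J) ⧸ Q)) = Q.comap (Ideal.Quotient.mk J) := by
    ext b
    rw [RingHom.mem_ker, Ideal.mem_comap]
    exact Ideal.Quotient.eq_zero_iff_mem
  have hJK : J ≤ RingHom.ker (algebraMap B ((B ⧸ J) ⧸ Q)) := by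
    rw [hker]
    intro b hb
    rw [Ideal.mem_comap, Ideal.Quotient.eq_zero_iff_mem.2 hb]
    exact Q.zero_mem
  have hiff := Groth.Agent.H05EGA4.AdicConormal.ext_iff_retraction (A := A) J ((B ⧸ J) ⧸ Q) hs
  constructor
  · intro hC
    refine hiff.1 (Groth.Agent.H05EGA4.AdicConormal.ext_mono
      (Groth.Agent.H05EGA4.AdicConormal.ext_of_isAdicFormallySmooth hC n) (sup_le ?_ hJK))
    rw [hker, ← Ideal.map_le_iff_le_comap, Ideal.map_pow]
    exact hn
  · intro hg
    refine Groth.Agent.H05EGA4.AdicConormal.isAdicFormallySmooth_of_ext hB fun k => ?_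
    refine Groth.Agent.H05EGA4.AdicConormal.ext_of_pow hB (hiff.2 hg) (n := k) le_sup_right
      le_sup_left (m := m * k) ?_
    have h1 : Ideal.map (Ideal.Quotient.mk J) (RingHom.ker (algebraMap B ((B ⧸ J) ⧸ Q)) ^ (m * k)) ≤
        Ideal.map (Ideal.Quotient.mk J) (I ^ k) := by
      rw [Ideal.map_pow, hker, Ideal.map_comap_of_surjective _ Ideal.Quotient.mk_surjective, pow_mul,
        Ideal.map_pow]
      exact pow_le_pow_left' hm k
    refine (Ideal.map_le_iff_le_comap.1 h1).trans ?_
    rw [Ideal.comap_map_of_surjective _ Ideal.Quotient.mk_surjective, ← RingHom.ker_eq_comap_bot,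
      Ideal.mk_ker]

end Groth.Agent.S12136
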