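-- statement FlatMor.GrothFrozen.S1214 (Groth/Statements/S1214.lean; the theorem FlatMor.assoc_sup_ne_top_of_isAdicComplete);
import Groth.Statements.S1214
import Groth.Agent.H7Flat.AssMeets

set_option autoImplicit false
universe u
open FlatMor

namespace Groth.Agent.S1214

open TensorProduct in
/-- Let R → S be a ring map, I an ideal of R and N an S-module which is I-adically complete. Then for
every R-module M and every prime q of S which is the annihilator of an element of the S-module N ⊗_R
M we have q + IS ≠ S. -/
theorem result {R S : Type u} [CommRing R] [CommRing S] [Algebra R S] (I : Ideal R)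
    (N : Type u) [AddCommGroup N] [Module S N] [Module R N] [IsScalarTower R S N] [IsAdicComplete I N]
    (M : Type u) [AddCommGroup M] [Module R M]
    (q : Ideal S) [q.IsPrime] (hq : q ∈ FlatCA.ass S (N ⊗[R] M)) :
    q ⊔ I.map (algebraMap R S) ≠ ⊤ := by
  obtain ⟨-, z, hz⟩ := hq
  exact H7Flat.AssMeets.sup_ne_top_of_injective I M q z hz fun f hf hfz =>
    H7Flat.AssMeets.eq_zero_of_smul_eq_self_of_complete I M z hf hfz

end Groth.Agent.S1214
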