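import Groth.Statements.S12142
import Groth.Prelude.Def_RelProj4
import Groth.Agent.H11Aff.RelSpecUniv

set_option autoImplicit false
universe u
open CategoryTheory CategoryTheory.Limits AlgebraicGeometry TopologicalSpace Opposite
open scoped HomogeneousIdeal
noncomputable section
open EGA2

namespace Groth.Agent.S12142

/-- Let g : S' → S be a morphism of schemes, A a quasi-coherent O_S-algebra and B = g^*A, presented as a
quasi-coherent O_{S'}-algebra with a g-morphism u : A → g_*B whose squares of rings over affine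
opens U' ⊆ g⁻¹(U) are pushouts; let h = Spec(u) : Spec(B) → Spec(A) be the induced morphism of
relative spectra (chartwise Spec of A(U) → B(U')). Then h and the structure morphisms form a
cartesian square: Spec(g^*A) is the fibre product Spec(A) ×_S S'. -/
theorem result {S S' : Scheme.{u}} (g : S' ⟶ S)
    (A : RelSpec.QCAlg S) (B : RelSpec.QCAlg S') (u : RelSpec.QHom g A B) (hu : RelSpec.IsQBaseChange u)
    (h : B.spec ⟶ A.spec) (hh : RelSpec.IsSpecQMap u h) :
    IsPullback h B.π A.π g := by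
  have chartPB : ∀ {T : Scheme.{u}} (C : RelSpec.QCAlg T) (V : T.Opens) (hV : IsAffineOpen V),
      IsPullback (C.ι V hV) (Spec.map (C.str.app (op V))) C.π hV.fromSpec := by
    intro T C V hV
    exact (IsOpenImmersion.isPullback (Spec.map (C.str.app (op V))) (C.ι V hV) hV.fromSpec C.π
      (C.ι_π V hV) (by rw [IsAffineOpen.opensRange_fromSpec, C.π_preimage V hV])).flip
  have hcov : ∀ x : S', ∃ U : S.Opens, IsAffineOpen U ∧ ∃ U' : S'.Opens, IsAffineOpen U' ∧ U' ≤ g ⁻¹ᵁ U ∧ x ∈ U' := by
    intro x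
    obtain ⟨U, hU, hxU, -⟩ := exists_isAffineOpen_mem_and_subset (X := S) (x := g.base x) (U := ⊤) trivial
    obtain ⟨U', hU', hxU', hle⟩ := exists_isAffineOpen_mem_and_subset (X := S') (x := x) (U := g ⁻¹ᵁ U) hxU
    exact ⟨U, hU, U', hU', hle, hxU'⟩
  choose U hU U' hU' hle hx using hcov
  let 𝒰 : S'.OpenCover := S'.openCoverOfIsOpenCover (fun x => U' x) (by
    rw [TopologicalSpace.IsOpenCover]
    exact eq_top_iff.2 fun x _ => Opens.mem_iSup.2 ⟨x, hx x⟩)
  refine (Scheme.isPullback_of_openCover B.π h g A.π 𝒰 fun x => ?_).flip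
  have sq := isPullback_SpecMap_of_isPushout _ _ _ _ (hu (U x) (hU x) (U' x) (hU' x) (hle x))
  have big : IsPullback (Spec.map (B.str.app (op (U' x)))) (B.ι (U' x) (hU' x) ≫ h)
      ((hU' x).fromSpec ≫ g) A.π := by
    rw [hh (U x) (hU x) (U' x) (hU' x) (hle x), ← IsAffineOpen.SpecMap_appLE_fromSpec g (hU x) (hU' x) (hle x)]
    exact sq.paste_vert (chartPB A (U x) (hU x)).flip
  have cB : IsPullback (B.ι (U' x) (hU' x)) (Spec.map (B.str.app (op (U' x))) ≫ (hU' x).isoSpec.inv)
      B.π (U' x).ι :=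
    (chartPB B (U' x) (hU' x)).of_iso (Iso.refl _) (Iso.refl _) (hU' x).isoSpec.symm (Iso.refl _)
      (by simp) (by simp) (by simp) (by simp [IsAffineOpen.isoSpec_inv_ι])
  refine big.of_iso cB.isoPullback (hU' x).isoSpec.symm (Iso.refl _) (Iso.refl _) ?_ ?_ ?_ ?_
  · change _ = cB.isoPullback.hom ≫ pullback.snd B.π (U' x).ι
    rw [IsPullback.isoPullback_hom_snd]
    rfl
  · change _ = cB.isoPullback.hom ≫ pullback.fst B.π (U' x).ι ≫ h
    simp
  · change _ = (hU' x).isoSpec.inv ≫ (U' x).ι ≫ g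
    simp [IsAffineOpen.isoSpec_inv_ι_assoc]
  · simp

end Groth.Agent.S12142
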