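import Groth.Statements.S12143
import Groth.Agent.H11Sym.BundleRankOne
import Groth.Agent.H11Proj.RelProjExists
import Groth.Agent.H11Tilde.TwistLoc

set_option autoImplicit false
universe u
open CategoryTheory CategoryTheory.Limits AlgebraicGeometry TopologicalSpace Opposite
open scoped HomogeneousIdeal
noncomputable section
open EGA2

namespace Groth.Agent.S12143

/-- Let L be an invertible O_X-module and 𝒮L = ⊕_{n ≥ 0} L^{⊗n} its graded symmetric algebra; then the
structure morphism Proj(𝒮L) → X of the relative homogeneous spectrum is an isomorphism (the graded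
algebra O_X[T] twisted by L has the same Proj as O_X[T], which is X). -/
theorem result {X PL : Scheme.{u}} (L : X.Modules)
    (hL : PicF.IsInvertible L) (hLq : Coh.IsQCoh L)
    (𝒮L : RelProj.QCGrAlg X) (j : L ⟶ 𝒮L.toModule) (hj : RelProj.IsGrSymAlg L 𝒮L j)
    (pL : PL ⟶ X) (chartL : ∀ (U : X.Opens) (hU : IsAffineOpen U), (((pL ⁻¹ᵁ U : PL.Opens) : Scheme.{u}) ≅ Proj (𝒮L.deg U hU)))
    (hPL : RelProj.IsRelProj 𝒮L pL chartL) :
    IsIso pL := by
  obtain ⟨O1, lam, hO⟩ := Groth.Agent.H11Tilde.exists_isRelTwist hPL 1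
  have hgens : ∀ x : X, ∃ U : X.Opens, ∃ e : Γ(L, U), IsAffineOpen U ∧ x ∈ U ∧ Groth.Agent.H11Tilde.IsGen L e := fun x => by
    obtain ⟨V, e, hxV, he⟩ := Groth.Agent.H11Ample.exists_gen hL x
    obtain ⟨U, hU, hxU, hUV⟩ := exists_isAffineOpen_mem_and_subset hxV
    exact ⟨U, _, hU, hxU, he.res (fun _ h => hUV h : U ≤ V)⟩
  choose U e hU hxU he using hgens
  let u : L ⟶ (Scheme.Modules.pushforward (𝟙 X)).obj L := (Scheme.Modules.pushforwardId X).inv.app L
  have hu : Groth.Agent.H11Sym.Spans u := fun x =>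
    ⟨Groth.Agent.H11Sym.gMax u (hU x) (e x),
      Groth.Agent.H11Proj.le_genAt (L := L) (Groth.Agent.H11Sym.uSec u (e x)) (le_refl (U x))
        ((congrArg (Groth.Agent.H11Tilde.IsGen L) (Groth.Agent.H10Coh.mres_self L _ (e x))).mpr (he x)) (hxU x)⟩
  obtain ⟨r, hr, -⟩ := Groth.Agent.H11Sym.exists_toBundle hLq hj hPL hO hu
  show (MorphismProperty.isomorphisms Scheme.{u}) pL
  refine IsZariskiLocalAtTarget.of_iSup_eq_top U
    (top_le_iff.1 fun x _ => Opens.mem_iSup.2 ⟨x, hxU x⟩) fun x => ?_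
  exact Groth.Agent.H11Sym.isIso_morphismRestrict_of_gen hLq hj hPL (hU x) (he x) hr

end Groth.Agent.S12143
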