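import Groth.Statements.S12144
import Groth.Agent.H11QMap.LineQ

set_option autoImplicit false
universe u
open CategoryTheory CategoryTheory.Limits AlgebraicGeometry TopologicalSpace Opposite
open scoped HomogeneousIdeal
noncomputable section
open EGA2

namespace Groth.Agent.S12144

/-- Let q : X → Y be a morphism with Y affine, L an invertible O_X-module, 𝒮L = ⊕_{n≥0} L^{⊗n} its
graded symmetric algebra (whose Proj, presented with its charts, is identified with X by its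
structure morphism pL), 𝒮 a quasi-coherent positively graded O_Y-algebra with S = Γ(Y, 𝒮), ψ : q^*𝒮
→ 𝒮L a graded homomorphism given as a graded q-morphism u = ψ♭ : 𝒮 → q_*𝒮L, P = Proj(𝒮), and r =
r_{L,ψ} : G(ψ) → P the associated morphism on its open of definition G(ψ) ⊆ Proj(𝒮L). For f ∈ S_d
with d > 0 and t = ψ♭(f) ∈ Γ(X, L^{⊗d}), the inverse image r⁻¹(D_+(f)) ⊆ G(ψ), regarded as an open
of Proj(𝒮L), equals the inverse image under pL of the open X_t of X where t does not vanish; in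
particular the part of Proj(𝒮L) over X_t lies inside G(ψ) (X_t is written as the union of the affine
opens V of X over which Γ(V, L^{⊗d}) = 𝒮L(V)_d lies in the ideal of 𝒮L(V) generated by t|V). -/
theorem result {Y X P PL : Scheme.{u}} (q : X ⟶ Y)
    (L : X.Modules) (hL : PicF.IsInvertible L) (hLq : Coh.IsQCoh L)
    (𝒮 : RelProj.QCGrAlg Y) (𝒮L : RelProj.QCGrAlg X) (j : L ⟶ 𝒮L.toModule) (hj : RelProj.IsGrSymAlg L 𝒮L j)
    (u : RelProj.QGrHom q 𝒮 𝒮L)
    (p : P ⟶ Y) (chart : ∀ (U : Y.Opens) (hU : IsAffineOpen U), (((p ⁻¹ᵁ U : P.Opens) : Scheme.{u}) ≅ Proj (𝒮.deg U hU)))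
    (hP : RelProj.IsRelProj 𝒮 p chart)
    (pL : PL ⟶ X) (chartL : ∀ (U : X.Opens) (hU : IsAffineOpen U), (((pL ⁻¹ᵁ U : PL.Opens) : Scheme.{u}) ≅ Proj (𝒮L.deg U hU)))
    (hPL : RelProj.IsRelProj 𝒮L pL chartL)
    (r : ((RelProj.domQ u pL chartL : PL.Opens) : Scheme.{u}) ⟶ P)
    (hr : RelProj.IsProjQMapOn u p chart pL chartL (RelProj.domQ u pL chartL) r)
    (hY : IsAffineOpen (⊤ : Y.Opens)) (d : ℕ) (hd : 0 < d) (f : 𝒮.presheaf.obj (op ⊤)) (hf : f ∈ 𝒮.deg ⊤ hY d) :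
    (RelProj.domQ u pL chartL).ι ''ᵁ (r ⁻¹ᵁ ((RelProj.emb p chart ⊤ hY) ''ᵁ Proj.basicOpen (𝒮.deg ⊤ hY) f)) =
      pL ⁻¹ᵁ
        (⨆ V : {V : X.affineOpens //
          ((𝒮L.deg V.1 V.2 d : AddSubgroup (𝒮L.presheaf.obj (op (V.1 : X.Opens)))) : Set (𝒮L.presheaf.obj (op (V.1 : X.Opens)))) ⊆
            (Ideal.span {(u.appLE ⊤ (V.1 : X.Opens) (le_top.trans (Scheme.Hom.preimage_top q).ge)).hom f} : Set (𝒮L.presheaf.obj (op (V.1 : X.Opens))))},
          (V.1.1 : X.Opens)) := by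
  refine (H11QMap.image_preimage_cb u chart chartL hPL hL hLq hj hP hr ⊤ hY hd f hf).trans (congrArg (pL ⁻¹ᵁ ·) ?_)
  refine le_antisymm (iSup_le ?_) (iSup_le ?_)
  · rintro ⟨V, hle, hgen⟩
    exact le_iSup_of_le ⟨V, hgen⟩ le_rfl
  · rintro ⟨V, hgen⟩
    exact le_iSup_of_le ⟨V, le_top.trans (Scheme.Hom.preimage_top q).ge, hgen⟩ le_rfl

end Groth.Agent.S12144
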