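import Groth.Statements.S12145
import Groth.Agent.H11QMap.LineQ

set_option autoImplicit false
universe u
open CategoryTheory CategoryTheory.Limits AlgebraicGeometry TopologicalSpace Opposite
open scoped HomogeneousIdeal
noncomputable section
open EGA2

namespace Groth.Agent.S12145

/-- Let q : X → Y be a morphism with Y affine, L an invertible O_X-module, 𝒮L = ⊕_{n≥0} L^{⊗n} its
graded symmetric algebra (whose Proj, presented with its charts, is identified with X by its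
structure morphism pL), 𝒮 a quasi-coherent positively graded O_Y-algebra with S = Γ(Y, 𝒮), ψ : q^*𝒮
→ 𝒮L a graded homomorphism given as a graded q-morphism u = ψ♭ : 𝒮 → q_*𝒮L, P = Proj(𝒮), and r =
r_{L,ψ} : G(ψ) → P the associated morphism on its open of definition G(ψ) ⊆ Proj(𝒮L). Then r is
everywhere defined, i.e. G(ψ) = X, if and only if for every x ∈ X there are an integer n > 0 and s ∈
S_n such that the section t = ψ♭(s) of L^{⊗n} does not vanish at x (x has an affine neighbourhood V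
over which 𝒮L(V)_n = Γ(V, L^{⊗n}) lies in the ideal generated by t|V). -/
theorem result {Y X P PL : Scheme.{u}} (q : X ⟶ Y)
    (L : X.Modules) (hL : PicF.IsInvertible L) (hLq : Coh.IsQCoh L)
    (𝒮 : RelProj.QCGrAlg Y) (𝒮L : RelProj.QCGrAlg X) (j : L ⟶ 𝒮L.toModule) (hj : RelProj.IsGrSymAlg L 𝒮L j)
    (u : RelProj.QGrHom q 𝒮 𝒮L)
    (p : P ⟶ Y) (chart : ∀ (U : Y.Opens) (hU : IsAffineOpen U), (((p ⁻¹ᵁ U : P.Opens) : Scheme.{u}) ≅ Proj (𝒮.deg U hU)))
    (hP : RelProj.IsRelProj 𝒮 p chart)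
    (pL : PL ⟶ X) (chartL : ∀ (U : X.Opens) (hU : IsAffineOpen U), (((pL ⁻¹ᵁ U : PL.Opens) : Scheme.{u}) ≅ Proj (𝒮L.deg U hU)))
    (hPL : RelProj.IsRelProj 𝒮L pL chartL)
    (hY : IsAffineOpen (⊤ : Y.Opens)) :
    RelProj.domQ u pL chartL = ⊤ ↔
      ∀ x : X, ∃ (n : ℕ) (_ : 0 < n) (s : 𝒮.presheaf.obj (op ⊤)) (_ : s ∈ 𝒮.deg ⊤ hY n)
        (V : X.Opens) (hV : IsAffineOpen V), x ∈ V ∧
          ((𝒮L.deg V hV n : AddSubgroup (𝒮L.presheaf.obj (op V))) : Set (𝒮L.presheaf.obj (op V))) ⊆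
            (Ideal.span {(u.appLE ⊤ V (le_top.trans (Scheme.Hom.preimage_top q).ge)).hom s} : Set (𝒮L.presheaf.obj (op V))) := by
  haveI := H11QMap.isIso_pL hPL hL hLq hj
  constructor
  · intro htop x
    obtain ⟨z, rfl⟩ := pL.surjective x
    obtain ⟨r, hr⟩ := H11QMap.exists_qmap u chart chartL hP hPL
    let w : (RelProj.domQ u pL chartL : Scheme.{u}) := ⟨z, htop.ge trivial⟩
    obtain ⟨d, hd, f, hf, hrf⟩ := H11QMap.exists_mem_cb (chart := chart) hY (z := r w) trivial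
    obtain ⟨V, hle, hzV, hgen⟩ :=
      (H11QMap.mem_preimage_cb_iff u chart chartL hPL hL hLq hj hP hr w ⊤ hY hd f hf).1 hrf
    exact ⟨d, hd, f, hf, V.1, V.2, hzV, hgen⟩
  · intro h
    refine eq_top_iff.2 fun z _ => ?_
    obtain ⟨n, hn, s, hs, V, hV, hzV, hgen⟩ := h (pL z)
    exact H11QMap.mem_domQ_of_genOn u chartL hPL hL hLq hj ⊤ hY hn s hs ⟨V, hV⟩
      (le_top.trans (Scheme.Hom.preimage_top q).ge) hgen hzV

end Groth.Agent.S12145
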