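import Groth.Statements.S12146
import Groth.Agent.H11QMap.Comp
import Groth.Agent.H11QMap.LineQ

set_option autoImplicit false
universe u
open CategoryTheory CategoryTheory.Limits AlgebraicGeometry TopologicalSpace Opposite
open scoped HomogeneousIdeal
noncomputable section
open EGA2

namespace Groth.Agent.S12146

/-- Let q : X → Y be a morphism with Y affine, L an invertible O_X-module, 𝒮L = ⊕_{n≥0} L^{⊗n} its
graded symmetric algebra (whose Proj, presented with its charts, is identified with X by its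
structure morphism pL), 𝒮 a quasi-coherent positively graded O_Y-algebra with S = Γ(Y, 𝒮), ψ : q^*𝒮
→ 𝒮L a graded homomorphism given as a graded q-morphism u = ψ♭ : 𝒮 → q_*𝒮L, P = Proj(𝒮), and r =
r_{L,ψ} : G(ψ) → P the associated morphism on its open of definition G(ψ) ⊆ Proj(𝒮L). Then r is
dominant if and only if for every n > 0, every s ∈ S_n such that ψ♭(s) ∈ Γ(X, L^{⊗n}) is locally
nilpotent (as a section of the algebra 𝒮L: each point of X has an affine neighbourhood V with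
ψ♭(s)|V nilpotent in 𝒮L(V)) is nilpotent. -/
theorem result {Y X P PL : Scheme.{u}} (q : X ⟶ Y)
    (L : X.Modules) (hL : PicF.IsInvertible L) (hLq : Coh.IsQCoh L)
    (𝒮 : RelProj.QCGrAlg Y) (𝒮L : RelProj.QCGrAlg X) (j : L ⟶ 𝒮L.toModule) (hj : RelProj.IsGrSymAlg L 𝒮L j)
    (u : RelProj.QGrHom q 𝒮 𝒮L)
    (p : P ⟶ Y) (chart : ∀ (U : Y.Opens) (hU : IsAffineOpen U), (((p ⁻¹ᵁ U : P.Opens) : Scheme.{u}) ≅ Proj (𝒮.deg U hU)))
    (hP : RelProj.IsRelProj 𝒮 p chart)
    (pL : PL ⟶ X) (chartL : ∀ (U : X.Opens) (hU : IsAffineOpen U), (((pL ⁻¹ᵁ U : PL.Opens) : Scheme.{u}) ≅ Proj (𝒮L.deg U hU)))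
    (hPL : RelProj.IsRelProj 𝒮L pL chartL)
    (r : ((RelProj.domQ u pL chartL : PL.Opens) : Scheme.{u}) ⟶ P)
    (hr : RelProj.IsProjQMapOn u p chart pL chartL (RelProj.domQ u pL chartL) r)
    (hY : IsAffineOpen (⊤ : Y.Opens)) :
    IsDominant r ↔
      ∀ (n : ℕ), 0 < n → ∀ s ∈ 𝒮.deg ⊤ hY n,
        (∀ x : X, ∃ (V : X.Opens) (_ : IsAffineOpen V), x ∈ V ∧ IsNilpotent ((u.appLE ⊤ V (le_top.trans (Scheme.Hom.preimage_top q).ge)).hom s)) →
          IsNilpotent s := by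
  have hle : ∀ V : X.Opens, V ≤ q ⁻¹ᵁ (⊤ : Y.Opens) := fun V => le_top.trans (Scheme.Hom.preimage_top q).ge
  constructor
  · intro hdom n hn s hs hloc
    refine H11QMap.isNilpotent_of_cb_eq_bot chart ⊤ hY hn hs
      ((H11QMap.isDominant_iff_cb u chart chartL hP hPL hr).1 hdom ⊤ hY n hn s hs fun V hV hVle => ?_)
    refine le_bot_iff.1 fun z hz => ?_
    have hzV : pL z ∈ V := H11QMap.cb_le V hV _ hz
    obtain ⟨V', hV', hzV', hnil⟩ := hloc (pL z)
    obtain ⟨W, hW, hzW, hWle⟩ := exists_isAffineOpen_mem_and_subset (U := V ⊓ V') (x := pL z) ⟨hzV, hzV'⟩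
    have h1 : W ≤ V := fun w hw => (hWle hw).1
    have h2 : W ≤ V' := fun w hw => (hWle hw).2
    have h3 := (H11QMap.mem_cb_res hPL hV hW h1 _ hzW).2 hz
    rw [RelProj.QGrHom.gradedAt_apply, ← CommRingCat.comp_apply, u.appLE_map] at h3
    have h4 : IsNilpotent ((u.appLE ⊤ W (hle W)).hom s) := by
      have := hnil.map (𝒮L.presheaf.map (homOfLE h2).op).hom
      rwa [← CommRingCat.comp_apply, u.appLE_map] at this
    exact (H11QMap.cb_eq_bot_of_isNilpotent chartL W hW h4).le h3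
  · intro H
    refine ⟨dense_iff_inter_open.2 fun O hO ⟨z, hz⟩ => ?_⟩
    obtain ⟨v, rfl⟩ := H11QMap.exists_emb_eq (chart := chart) hY (z := z) trivial
    obtain ⟨d, hd, f, hf, hvf, hsub⟩ :=
      H11QMap.exists_basicOpen_subset (hO.preimage (RelProj.emb p chart ⊤ hY).continuous) hz
    by_contra hne
    have hbot : r ⁻¹ᵁ H11QMap.cb chart ⊤ hY f = ⊥ := le_bot_iff.1 fun w hw => by
      obtain ⟨v', hv', he⟩ := hw
      exact hne ⟨r w, he ▸ hsub hv', w, rfl⟩
    have hnil : IsNilpotent f := H d hd f hf fun x => by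
      obtain ⟨V, hV, hxV, -⟩ := exists_isAffineOpen_mem_and_subset (U := (⊤ : X.Opens)) (x := x) trivial
      exact ⟨V, hV, hxV, H11QMap.isNilpotent_of_cb_eq_bot chartL V hV hd
        (H11QMap.gmem (u.gradedAt ⊤ hY V hV (hle V)) hf)
        ((H11QMap.preimage_cb_eq_bot_iff u chart chartL hP hPL hr ⊤ hY hd f hf).1 hbot V hV (hle V))⟩
    exact (H11QMap.cb_eq_bot_of_isNilpotent chart ⊤ hY hnil).le ⟨v, hvf, rfl⟩

end Groth.Agent.S12146
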