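import Groth.Statements.S12147
import Groth.Agent.H11QMap.Comp
import Groth.Agent.H11QMap.LineQ

set_option autoImplicit false
universe u
open CategoryTheory CategoryTheory.Limits AlgebraicGeometry TopologicalSpace Opposite
open scoped HomogeneousIdeal
noncomputable section
open EGA2

namespace Groth.Agent.S12147

/-- Let q : X → Y be a morphism, L an invertible O_X-module with 𝒮L = ⊕ L^{⊗n} (whose Proj, with its
charts, is X), v : 𝒯 → 𝒮 a graded homomorphism of quasi-coherent positively graded O_Y-algebras, ψ♭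
= u : 𝒮 → q_*𝒮L a graded q-morphism and ψ'♭ = u' its composite with v. Then the open of definition
G(ψ') of r_{L,ψ'} is contained in the open of definition G(ψ) of r_{L,ψ}; in particular, if r_{L,ψ'}
is everywhere defined then so is r_{L,ψ}. -/
theorem result {Y X P PL : Scheme.{u}} (q : X ⟶ Y)
    (L : X.Modules) (hL : PicF.IsInvertible L) (hLq : Coh.IsQCoh L)
    (𝒮 : RelProj.QCGrAlg Y) (𝒮L : RelProj.QCGrAlg X) (j : L ⟶ 𝒮L.toModule) (hj : RelProj.IsGrSymAlg L 𝒮L j)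
    (u : RelProj.QGrHom q 𝒮 𝒮L)
    (p : P ⟶ Y) (chart : ∀ (U : Y.Opens) (hU : IsAffineOpen U), (((p ⁻¹ᵁ U : P.Opens) : Scheme.{u}) ≅ Proj (𝒮.deg U hU)))
    (hP : RelProj.IsRelProj 𝒮 p chart)
    (pL : PL ⟶ X) (chartL : ∀ (U : X.Opens) (hU : IsAffineOpen U), (((pL ⁻¹ᵁ U : PL.Opens) : Scheme.{u}) ≅ Proj (𝒮L.deg U hU)))
    (hPL : RelProj.IsRelProj 𝒮L pL chartL)
    (𝒯 : RelProj.QCGrAlg Y) (v : 𝒯.toQCAlg ⟶ 𝒮.toQCAlg) (hv : RelProj.IsGradedHom v)
    (u' : RelProj.QGrHom q 𝒯 𝒮L) (hu' : ∀ U : Y.Opens, u'.app U = v.hom.app (op U) ≫ u.app U) :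
    RelProj.domQ u' pL chartL ≤ RelProj.domQ u pL chartL := by
  exact H11QMap.domQ_comp_le u v hv u' hu' chartL

end Groth.Agent.S12147
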