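import Groth.Statements.S12148
import Groth.Agent.H11QMap.Comp
import Groth.Agent.H11QMap.LineQ

set_option autoImplicit false
universe u
open CategoryTheory CategoryTheory.Limits AlgebraicGeometry TopologicalSpace Opposite
open scoped HomogeneousIdeal
noncomputable section
open EGA2

namespace Groth.Agent.S12148

/-- Let q : X → Y be a morphism, L an invertible O_X-module with 𝒮L = ⊕ L^{⊗n} (whose Proj, with its
charts, is X), v : 𝒯 → 𝒮 a graded homomorphism of quasi-coherent positively graded O_Y-algebras, ψ♭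
= u : 𝒮 → q_*𝒮L a graded q-morphism and ψ'♭ = u' its composite with v; let r = r_{L,ψ} : G(ψ) →
Proj(𝒮) and r' = r_{L,ψ'} : G(ψ') → Proj(𝒯) be the associated morphisms. If v is (TN)-surjective
(there is n with v : 𝒯_k → 𝒮_k surjective for every k ≥ n, on sections over affine opens) and r' is
dominant, then r is dominant. -/
theorem result {Y X P PL P' : Scheme.{u}} (q : X ⟶ Y)
    (L : X.Modules) (hL : PicF.IsInvertible L) (hLq : Coh.IsQCoh L)
    (𝒮 : RelProj.QCGrAlg Y) (𝒮L : RelProj.QCGrAlg X) (j : L ⟶ 𝒮L.toModule) (hj : RelProj.IsGrSymAlg L 𝒮L j)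
    (u : RelProj.QGrHom q 𝒮 𝒮L)
    (p : P ⟶ Y) (chart : ∀ (U : Y.Opens) (hU : IsAffineOpen U), (((p ⁻¹ᵁ U : P.Opens) : Scheme.{u}) ≅ Proj (𝒮.deg U hU)))
    (hP : RelProj.IsRelProj 𝒮 p chart)
    (pL : PL ⟶ X) (chartL : ∀ (U : X.Opens) (hU : IsAffineOpen U), (((pL ⁻¹ᵁ U : PL.Opens) : Scheme.{u}) ≅ Proj (𝒮L.deg U hU)))
    (hPL : RelProj.IsRelProj 𝒮L pL chartL)
    (r : ((RelProj.domQ u pL chartL : PL.Opens) : Scheme.{u}) ⟶ P)
    (hr : RelProj.IsProjQMapOn u p chart pL chartL (RelProj.domQ u pL chartL) r)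
    (𝒯 : RelProj.QCGrAlg Y) (v : 𝒯.toQCAlg ⟶ 𝒮.toQCAlg) (hv : RelProj.IsGradedHom v)
    (u' : RelProj.QGrHom q 𝒯 𝒮L) (hu' : ∀ U : Y.Opens, u'.app U = v.hom.app (op U) ≫ u.app U)
    (p' : P' ⟶ Y) (chart' : ∀ (U : Y.Opens) (hU : IsAffineOpen U), (((p' ⁻¹ᵁ U : P'.Opens) : Scheme.{u}) ≅ Proj (𝒯.deg U hU)))
    (hP' : RelProj.IsRelProj 𝒯 p' chart')
    (r' : ((RelProj.domQ u' pL chartL : PL.Opens) : Scheme.{u}) ⟶ P')
    (hr' : RelProj.IsProjQMapOn u' p' chart' pL chartL (RelProj.domQ u' pL chartL) r')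
    (hTN : ∃ n : ℕ, ∀ k, n ≤ k → ∀ (U : Y.Opens) (hU : IsAffineOpen U), ∀ y ∈ 𝒮.deg U hU k,
      ∃ x ∈ 𝒯.deg U hU k, (v.hom.app (op U)).hom x = y) (hdom : IsDominant r') :
    IsDominant r := by
  obtain ⟨n, hn⟩ := hTN
  exact H11QMap.isDominant_of_surjective_high u v hv u' hu' chart chart' chartL hP hP' hPL hr hr'
    (fun k hk U hU y hy => hn k hk U hU y hy) hdom

end Groth.Agent.S12148
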