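import Groth.Statements.S12155
import Groth.Agent.H11QMap.PolyCone

set_option autoImplicit false
universe u
open CategoryTheory CategoryTheory.Limits AlgebraicGeometry TopologicalSpace Opposite
open scoped HomogeneousIdeal
noncomputable section
open EGA2

namespace Groth.Agent.S12155

/-- Let q : Y' → Y be a morphism, φ : 𝒮 → q_*𝒮' a graded q-morphism of quasi-coherent positively graded
algebras with 𝒮_0 = O_Y, 𝒮'_0 = O_{Y'}, φ̂ : 𝒮[z] → q_*𝒮'[z] its extension with φ̂(z) = z, Ĉ =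
Proj(𝒮[z]), Ĉ' = Proj(𝒮'[z]) the projective cones with pointed cones Ê, Ê', and Φ̂ = Proj(φ̂) :
G(φ̂) → Ĉ. Then Φ̂⁻¹(Ê) ⊆ Ê'; moreover if Proj(φ) is everywhere defined on Proj(𝒮'), then Φ̂ is
everywhere defined on Ĉ' and Φ̂⁻¹(Ê) = Ê'. -/
theorem result {Y Y' PC PC' : Scheme.{u}} (q : Y' ⟶ Y)
    (𝒮 : RelProj.QCGrAlg Y) (𝒮' : RelProj.QCGrAlg Y') (h0 : RelCone.StrZeroBij 𝒮) (h0' : RelCone.StrZeroBij 𝒮')
    (u : RelProj.QGrHom q 𝒮 𝒮')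
    (𝒮h : RelProj.QCGrAlg Y) (ι : 𝒮.toQCAlg ⟶ 𝒮h.toQCAlg) (z : 𝒮h.presheaf.obj (op ⊤))
    (hz : RelCone.IsPolyOver 𝒮 𝒮h ι z)
    (pC : PC ⟶ Y) (chartC : ∀ (U : Y.Opens) (hU : IsAffineOpen U), (((pC ⁻¹ᵁ U : PC.Opens) : Scheme.{u}) ≅ Proj (𝒮h.deg U hU)))
    (hC : RelProj.IsRelProj 𝒮h pC chartC)
    (𝒮h' : RelProj.QCGrAlg Y') (ι' : 𝒮'.toQCAlg ⟶ 𝒮h'.toQCAlg) (z' : 𝒮h'.presheaf.obj (op ⊤))
    (hz' : RelCone.IsPolyOver 𝒮' 𝒮h' ι' z')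
    (pC' : PC' ⟶ Y') (chartC' : ∀ (U : Y'.Opens) (hU : IsAffineOpen U), (((pC' ⁻¹ᵁ U : PC'.Opens) : Scheme.{u}) ≅ Proj (𝒮h'.deg U hU)))
    (hC' : RelProj.IsRelProj 𝒮h' pC' chartC')
    (uh : RelProj.QGrHom q 𝒮h 𝒮h')
    (huh : ∀ U : Y.Opens, ι.hom.app (op U) ≫ uh.app U = u.app U ≫ ι'.hom.app (op (q ⁻¹ᵁ U)))
    (huhz : (uh.app ⊤).hom z = RelCone.restrictTop 𝒮h' z' (q ⁻¹ᵁ ⊤))
    (Φh : ((RelProj.domQ uh pC' chartC' : PC'.Opens) : Scheme.{u}) ⟶ PC)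
    (hΦh : RelProj.IsProjQMapOn uh pC chartC pC' chartC' (RelProj.domQ uh pC' chartC') Φh)
    {P' : Scheme.{u}} (p' : P' ⟶ Y') (chart' : ∀ (U : Y'.Opens) (hU : IsAffineOpen U), (((p' ⁻¹ᵁ U : P'.Opens) : Scheme.{u}) ≅ Proj (𝒮'.deg U hU)))
    (hP' : RelProj.IsRelProj 𝒮' p' chart') :
    (RelProj.domQ uh pC' chartC').ι ''ᵁ (Φh ⁻¹ᵁ RelCone.pointedProjCone 𝒮 hz pC chartC) ≤ RelCone.pointedProjCone 𝒮' hz' pC' chartC' ∧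
      (RelProj.domQ u p' chart' = ⊤ →
        RelProj.domQ uh pC' chartC' = ⊤ ∧
          (RelProj.domQ uh pC' chartC').ι ''ᵁ (Φh ⁻¹ᵁ RelCone.pointedProjCone 𝒮 hz pC chartC) = RelCone.pointedProjCone 𝒮' hz' pC' chartC') := by
  classical
  refine ⟨?_, fun htop => ?_⟩
  · rintro _ ⟨x, hx, rfl⟩
    rw [H11QMap.PolyCone.pointed_eq_domQ hz' chartC']
    exact H11QMap.domQ_compTarget_le u ι' hz'.graded _ (H11QMap.PolyCone.comp_app hz u uh huh) chartC'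
      ((H11QMap.PolyCone.mem_domQ_comp_iff hz uh hC hC' hΦh x).2 hx)
  have h1 : RelCone.pointedProjCone 𝒮' hz' pC' chartC' ≤ RelProj.domQ (H11QMap.PolyCone.comp hz uh) pC' chartC' :=
    H11QMap.PolyCone.pointed_le_domQ_comp hz hz' u uh huh hC hC' hP' htop
  have h2 : RelProj.domQ (H11QMap.PolyCone.comp hz uh) pC' chartC' ≤ RelProj.domQ uh pC' chartC' :=
    H11QMap.domQ_comp_le uh ι hz.graded _ (fun _ => rfl) chartC'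
  refine ⟨eq_top_iff.2 fun x _ => ?_, le_antisymm ?_ fun x hx => ?_⟩
  · obtain ⟨⟨U₀, hU₀⟩, hxU₀⟩ := Opens.mem_iSup.1 ((iSup_affineOpens_eq_top Y).ge (Set.mem_univ (q (pC' x))))
    obtain ⟨U', hU', hxU', hle⟩ := exists_isAffineOpen_mem_and_subset (U := q ⁻¹ᵁ U₀) hxU₀
    obtain ⟨w, rfl⟩ := H11QMap.exists_emb_eq (chart := chartC') hU' hxU'
    by_cases hw : RelCone.restrictTop 𝒮h' z' U' ∈ w.asHomogeneousIdeal
    · obtain ⟨d, hd, a, ha, haw⟩ := H11QMap.PolyCone.exists_base_notMem hz' U' hU' w hw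
      exact h2 (h1 ((H11QMap.PolyCone.mem_pointed_iff hz' chartC' _).2 ⟨U', hU', d, hd, a, ha, w, haw, rfl⟩))
    · refine H11QMap.cb_le_domQ uh chartC' U₀ hU₀ U' hU' hle one_pos _ (hz.deg_z U₀ hU₀) ⟨w, ?_, rfl⟩
      change (uh.appLE U₀ U' hle).hom (RelCone.restrictTop 𝒮h z U₀) ∉ w.asHomogeneousIdeal
      rw [H11QMap.PolyCone.uh_z uh huhz]
      exact hw
  · rintro _ ⟨x, hx, rfl⟩
    rw [H11QMap.PolyCone.pointed_eq_domQ hz' chartC']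
    exact H11QMap.domQ_compTarget_le u ι' hz'.graded _ (H11QMap.PolyCone.comp_app hz u uh huh) chartC'
      ((H11QMap.PolyCone.mem_domQ_comp_iff hz uh hC hC' hΦh x).2 hx)
  · exact ⟨⟨x, h2 (h1 hx)⟩, (H11QMap.PolyCone.mem_domQ_comp_iff hz uh hC hC' hΦh ⟨x, h2 (h1 hx)⟩).1 (h1 hx), rfl⟩

end Groth.Agent.S12155
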