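import Groth.Statements.S12156
import Groth.Agent.H11QMap.PolyCone

set_option autoImplicit false
universe u
open CategoryTheory CategoryTheory.Limits AlgebraicGeometry TopologicalSpace Opposite
open scoped HomogeneousIdeal
noncomputable section
open EGA2

namespace Groth.Agent.S12156

/-- Let q : Y' → Y be a morphism, φ : 𝒮 → q_*𝒮' a graded q-morphism of quasi-coherent positively graded
algebras with 𝒮_0 = O_Y, 𝒮'_0 = O_{Y'}, φ̂ : 𝒮[z] → q_*𝒮'[z] its extension with φ̂(z) = z, Ĉ =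
Proj(𝒮[z]), Ĉ' = Proj(𝒮'[z]) the projective cones with pointed cones Ê, Ê', and Φ̂ = Proj(φ̂) :
G(φ̂) → Ĉ; let X = Proj(𝒮), X' = Proj(𝒮'), Proj(φ) : G(φ) → X on its open of definition G(φ) ⊆ X',
and p̂ : Ê → X, p̂' : Ê' → X' the canonical retractions. Then p̂'(Φ̂⁻¹(Ê)) ⊆ G(φ) and on Φ̂⁻¹(Ê) the
composites p̂ ∘ Φ̂ and Proj(φ) ∘ p̂' agree (stated on T-valued points: a : T → Ê' and b : T → G(φ̂)
agreeing in Ĉ' with Φ̂ ∘ b = c : T → Ê). -/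
theorem result {Y Y' PC PC' : Scheme.{u}} (q : Y' ⟶ Y)
    (𝒮 : RelProj.QCGrAlg Y) (𝒮' : RelProj.QCGrAlg Y') (h0 : RelCone.StrZeroBij 𝒮) (h0' : RelCone.StrZeroBij 𝒮')
    (u : RelProj.QGrHom q 𝒮 𝒮')
    (𝒮h : RelProj.QCGrAlg Y) (ι : 𝒮.toQCAlg ⟶ 𝒮h.toQCAlg) (z : 𝒮h.presheaf.obj (op ⊤))
    (hz : RelCone.IsPolyOver 𝒮 𝒮h ι z)
    (pC : PC ⟶ Y) (chartC : ∀ (U : Y.Opens) (hU : IsAffineOpen U), (((pC ⁻¹ᵁ U : PC.Opens) : Scheme.{u}) ≅ Proj (𝒮h.deg U hU)))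
    (hC : RelProj.IsRelProj 𝒮h pC chartC)
    (𝒮h' : RelProj.QCGrAlg Y') (ι' : 𝒮'.toQCAlg ⟶ 𝒮h'.toQCAlg) (z' : 𝒮h'.presheaf.obj (op ⊤))
    (hz' : RelCone.IsPolyOver 𝒮' 𝒮h' ι' z')
    (pC' : PC' ⟶ Y') (chartC' : ∀ (U : Y'.Opens) (hU : IsAffineOpen U), (((pC' ⁻¹ᵁ U : PC'.Opens) : Scheme.{u}) ≅ Proj (𝒮h'.deg U hU)))
    (hC' : RelProj.IsRelProj 𝒮h' pC' chartC')
    (uh : RelProj.QGrHom q 𝒮h 𝒮h')
    (huh : ∀ U : Y.Opens, ι.hom.app (op U) ≫ uh.app U = u.app U ≫ ι'.hom.app (op (q ⁻¹ᵁ U)))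
    (huhz : (uh.app ⊤).hom z = RelCone.restrictTop 𝒮h' z' (q ⁻¹ᵁ ⊤))
    (Φh : ((RelProj.domQ uh pC' chartC' : PC'.Opens) : Scheme.{u}) ⟶ PC)
    (hΦh : RelProj.IsProjQMapOn uh pC chartC pC' chartC' (RelProj.domQ uh pC' chartC') Φh)
    {P P' : Scheme.{u}} (p : P ⟶ Y) (chart : ∀ (U : Y.Opens) (hU : IsAffineOpen U), (((p ⁻¹ᵁ U : P.Opens) : Scheme.{u}) ≅ Proj (𝒮.deg U hU)))
    (hP : RelProj.IsRelProj 𝒮 p chart)
    (p' : P' ⟶ Y') (chart' : ∀ (U : Y'.Opens) (hU : IsAffineOpen U), (((p' ⁻¹ᵁ U : P'.Opens) : Scheme.{u}) ≅ Proj (𝒮'.deg U hU)))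
    (hP' : RelProj.IsRelProj 𝒮' p' chart')
    (Φ : ((RelProj.domQ u p' chart' : P'.Opens) : Scheme.{u}) ⟶ P)
    (hΦ : RelProj.IsProjQMapOn u p chart p' chart' (RelProj.domQ u p' chart') Φ)
    (r : ((RelCone.pointedProjCone 𝒮 hz pC chartC : PC.Opens) : Scheme.{u}) ⟶ P)
    (hr : RelProj.IsProjQMapOn (RelProj.QGrHom.ofHom ι hz.graded) p chart pC chartC (RelCone.pointedProjCone 𝒮 hz pC chartC) r)
    (r' : ((RelCone.pointedProjCone 𝒮' hz' pC' chartC' : PC'.Opens) : Scheme.{u}) ⟶ P')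
    (hr' : RelProj.IsProjQMapOn (RelProj.QGrHom.ofHom ι' hz'.graded) p' chart' pC' chartC' (RelCone.pointedProjCone 𝒮' hz' pC' chartC') r')
    (T : Scheme.{u}) (a : T ⟶ ((RelCone.pointedProjCone 𝒮' hz' pC' chartC' : PC'.Opens) : Scheme.{u}))
    (b : T ⟶ ((RelProj.domQ uh pC' chartC' : PC'.Opens) : Scheme.{u}))
    (c : T ⟶ ((RelCone.pointedProjCone 𝒮 hz pC chartC : PC.Opens) : Scheme.{u}))
    (hab : a ≫ (RelCone.pointedProjCone 𝒮' hz' pC' chartC').ι = b ≫ (RelProj.domQ uh pC' chartC').ι) (hbc : b ≫ Φh = c ≫ (RelCone.pointedProjCone 𝒮 hz pC chartC).ι) :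
    Set.range (a ≫ r').base ⊆ ((RelProj.domQ u p' chart' : P'.Opens) : Set P') ∧
      ∀ d : T ⟶ ((RelProj.domQ u p' chart' : P'.Opens) : Scheme.{u}),
        a ≫ r' = d ≫ (RelProj.domQ u p' chart').ι → c ≫ r = d ≫ Φ := by
  classical
  obtain ⟨rw', hrw⟩ := H11QMap.exists_qmap (H11QMap.PolyCone.comp hz uh) chart chartC' hP hC'
  have hr0 := H11QMap.PolyCone.exists_retraction_domQ hz chartC chart r hr
  have hr0' := H11QMap.PolyCone.exists_retraction_domQ hz' chartC' chart' r' hr'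
  obtain ⟨l, hl1, hl2⟩ := H11QMap.exists_factor uh ι hz.graded (H11QMap.PolyCone.comp hz uh) (fun _ => rfl)
    chartC chart chartC' hC hP hC' hΦh hrw hr0
  obtain ⟨n, hn1, hn2⟩ := H11QMap.exists_factor_target u ι' hz'.graded (H11QMap.PolyCone.comp hz uh)
    (H11QMap.PolyCone.comp_app hz u uh huh) chart chart' chartC' hP hP' hC' hΦ hrw hr0'
  have hrange : Set.range (b ≫ (RelProj.domQ uh pC' chartC').ι).base ⊆
      Set.range (RelProj.domQ (H11QMap.PolyCone.comp hz uh) pC' chartC').ι.base := by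
    rintro _ ⟨t, rfl⟩
    rw [Scheme.Opens.range_ι]
    refine (H11QMap.PolyCone.mem_domQ_comp_iff hz uh hC hC' hΦh (b t)).2 ?_
    rw [← Scheme.Hom.comp_apply, hbc]
    exact (c t).2
  let bw := IsOpenImmersion.lift (RelProj.domQ (H11QMap.PolyCone.comp hz uh) pC' chartC').ι _ hrange
  have hbw : bw ≫ (RelProj.domQ (H11QMap.PolyCone.comp hz uh) pC' chartC').ι =
      b ≫ (RelProj.domQ uh pC' chartC').ι := IsOpenImmersion.lift_fac _ _ _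
  have hb : bw ≫ PC'.homOfLE (H11QMap.domQ_comp_le uh ι hz.graded _ (fun _ => rfl) chartC') = b := by
    rw [← cancel_mono (RelProj.domQ uh pC' chartC').ι, Category.assoc, Scheme.homOfLE_ι, hbw]
  have hc : bw ≫ l ≫ PC.homOfLE (H11QMap.PolyCone.pointed_eq_domQ hz chartC).ge = c := by
    rw [← cancel_mono (RelCone.pointedProjCone 𝒮 hz pC chartC).ι, Category.assoc, Category.assoc, Scheme.homOfLE_ι,
      hl1, ← Category.assoc, hb, hbc]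
  have ha : bw ≫ PC'.homOfLE (H11QMap.domQ_compTarget_le u ι' hz'.graded _
      (H11QMap.PolyCone.comp_app hz u uh huh) chartC') ≫
      PC'.homOfLE (H11QMap.PolyCone.pointed_eq_domQ hz' chartC').ge = a := by
    rw [← cancel_mono (RelCone.pointedProjCone 𝒮' hz' pC' chartC').ι, Category.assoc, Category.assoc,
      Scheme.homOfLE_ι, Scheme.homOfLE_ι, hbw, hab]
  have har : a ≫ r' = (bw ≫ n) ≫ (RelProj.domQ u p' chart').ι := by
    rw [← ha, Category.assoc, Category.assoc, Category.assoc, hn1]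
  refine ⟨?_, fun d hd => ?_⟩
  · rintro _ ⟨t, rfl⟩
    rw [har, Scheme.Hom.comp_apply]
    exact ((bw ≫ n) t).2
  · rw [har, cancel_mono] at hd
    rw [← hd, Category.assoc, hn2, ← hl2, ← hc]
    simp only [Category.assoc]

end Groth.Agent.S12156
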