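import Groth.Statements.S12158
import Groth.Agent.H11QMap.PolyConeImm

set_option autoImplicit false
universe u
open CategoryTheory CategoryTheory.Limits AlgebraicGeometry TopologicalSpace Opposite
open scoped HomogeneousIdeal
noncomputable section
open EGA2

namespace Groth.Agent.S12158

/-- Let q : Y' → Y be a morphism, φ : 𝒮 → q_*𝒮' a graded q-morphism of quasi-coherent positively graded
algebras with 𝒮_0 = O_Y, 𝒮'_0 = O_{Y'}, φ̂ : 𝒮[z] → q_*𝒮'[z] its extension with φ̂(z) = z, Ĉ =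
Proj(𝒮[z]), Ĉ' = Proj(𝒮'[z]) the projective cones with pointed cones Ê, Ê', and Φ̂ = Proj(φ̂) :
G(φ̂) → Ĉ; let Proj(φ) : G(φ) → X = Proj(𝒮) be the morphism induced by φ on G(φ) ⊆ X' = Proj(𝒮'),
and j : X → Ĉ, j' : X' → Ĉ' the canonical closed immersions at infinity (Proj of the graded
retractions 𝒮[z] → 𝒮, 𝒮'[z] → 𝒮' killing z). Then j'(G(φ)) ⊆ G(φ̂) and the square formed by Proj(φ),
j', j and Φ̂ commutes. -/
theorem result {Y Y' PC PC' : Scheme.{u}} (q : Y' ⟶ Y)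
    (𝒮 : RelProj.QCGrAlg Y) (𝒮' : RelProj.QCGrAlg Y') (h0 : RelCone.StrZeroBij 𝒮) (h0' : RelCone.StrZeroBij 𝒮')
    (u : RelProj.QGrHom q 𝒮 𝒮')
    (𝒮h : RelProj.QCGrAlg Y) (ι : 𝒮.toQCAlg ⟶ 𝒮h.toQCAlg) (z : 𝒮h.presheaf.obj (op ⊤))
    (hz : RelCone.IsPolyOver 𝒮 𝒮h ι z)
    (pC : PC ⟶ Y) (chartC : ∀ (U : Y.Opens) (hU : IsAffineOpen U), (((pC ⁻¹ᵁ U : PC.Opens) : Scheme.{u}) ≅ Proj (𝒮h.deg U hU)))
    (hC : RelProj.IsRelProj 𝒮h pC chartC)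
    (𝒮h' : RelProj.QCGrAlg Y') (ι' : 𝒮'.toQCAlg ⟶ 𝒮h'.toQCAlg) (z' : 𝒮h'.presheaf.obj (op ⊤))
    (hz' : RelCone.IsPolyOver 𝒮' 𝒮h' ι' z')
    (pC' : PC' ⟶ Y') (chartC' : ∀ (U : Y'.Opens) (hU : IsAffineOpen U), (((pC' ⁻¹ᵁ U : PC'.Opens) : Scheme.{u}) ≅ Proj (𝒮h'.deg U hU)))
    (hC' : RelProj.IsRelProj 𝒮h' pC' chartC')
    (uh : RelProj.QGrHom q 𝒮h 𝒮h')
    (huh : ∀ U : Y.Opens, ι.hom.app (op U) ≫ uh.app U = u.app U ≫ ι'.hom.app (op (q ⁻¹ᵁ U)))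
    (huhz : (uh.app ⊤).hom z = RelCone.restrictTop 𝒮h' z' (q ⁻¹ᵁ ⊤))
    (Φh : ((RelProj.domQ uh pC' chartC' : PC'.Opens) : Scheme.{u}) ⟶ PC)
    (hΦh : RelProj.IsProjQMapOn uh pC chartC pC' chartC' (RelProj.domQ uh pC' chartC') Φh)
    {P P' : Scheme.{u}} (p : P ⟶ Y) (chart : ∀ (U : Y.Opens) (hU : IsAffineOpen U), (((p ⁻¹ᵁ U : P.Opens) : Scheme.{u}) ≅ Proj (𝒮.deg U hU)))
    (hP : RelProj.IsRelProj 𝒮 p chart)
    (p' : P' ⟶ Y') (chart' : ∀ (U : Y'.Opens) (hU : IsAffineOpen U), (((p' ⁻¹ᵁ U : P'.Opens) : Scheme.{u}) ≅ Proj (𝒮'.deg U hU)))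
    (hP' : RelProj.IsRelProj 𝒮' p' chart')
    (Φ : ((RelProj.domQ u p' chart' : P'.Opens) : Scheme.{u}) ⟶ P)
    (hΦ : RelProj.IsProjQMapOn u p chart p' chart' (RelProj.domQ u p' chart') Φ)
    (θ : 𝒮h.toQCAlg ⟶ 𝒮.toQCAlg) (hθ : RelProj.IsGradedHom θ) (hθι : ι ≫ θ = 𝟙 _)
    (hθz : (θ.hom.app (op ⊤)).hom z = 0)
    (jX : P ⟶ PC) (hjX : RelProj.IsProjQMap (RelProj.QGrHom.ofHom θ hθ) pC chartC p chart jX)
    (θ' : 𝒮h'.toQCAlg ⟶ 𝒮'.toQCAlg) (hθ' : RelProj.IsGradedHom θ') (hθι' : ι' ≫ θ' = 𝟙 _)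
    (hθz' : (θ'.hom.app (op ⊤)).hom z' = 0)
    (jX' : P' ⟶ PC') (hjX' : RelProj.IsProjQMap (RelProj.QGrHom.ofHom θ' hθ') pC' chartC' p' chart' jX')
    (T : Scheme.{u}) (d : T ⟶ ((RelProj.domQ u p' chart' : P'.Opens) : Scheme.{u}))
    (e : T ⟶ ((RelProj.domQ uh pC' chartC' : PC'.Opens) : Scheme.{u}))
    (hde : d ≫ (RelProj.domQ u p' chart').ι ≫ jX' = e ≫ (RelProj.domQ uh pC' chartC').ι) :
    jX'.base '' ((RelProj.domQ u p' chart' : P'.Opens) : Set P') ⊆ ((RelProj.domQ uh pC' chartC' : PC'.Opens) : Set PC') ∧ e ≫ Φh = d ≫ Φ ≫ jX := by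
  classical
  let w : RelProj.QGrHom q 𝒮h 𝒮' := H11QMap.compQ θ hθ u
  obtain ⟨rw', hrw⟩ := H11QMap.exists_qmap w chartC chart' hC hP'
  have hθ0 := H11QMap.isProjQMapOn_of_isProjQMap _ chartC chart hjX
  have hθ0' := H11QMap.isProjQMapOn_of_isProjQMap _ chartC' chart' hjX'
  obtain ⟨l, hl1, hl2⟩ := H11QMap.exists_factor u θ hθ w (fun _ => rfl) chart chartC chart' hP hC hP' hΦ hrw hθ0
  obtain ⟨n, hn1, hn2⟩ := H11QMap.exists_factor_target uh θ' hθ' w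
    (fun U => (H11QMap.PolyCone.retraction_comm hz u uh huh huhz θ θ' hθι hθz hθι' hθz' U).symm)
    chartC chartC' chart' hC hC' hP' hΦh hrw hθ0'
  have hle : RelProj.domQ u p' chart' ≤ RelProj.domQ w p' chart' := fun x hx => by
    obtain ⟨U, hU, U', hU', hle, d, hd, f, hf, hx⟩ := (H11QMap.mem_domQ_iff u chart' x).1 hx
    refine (H11QMap.mem_domQ_iff w chart' x).2 ⟨U, hU, U', hU', hle, d, hd, RelProj.gradedHomAt ι hz.graded U hU f,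
      hz.graded U hU d f hf, ?_⟩
    rw [H11QMap.gradedAt_comp u θ hθ w (fun _ => rfl)]
    have e : RelProj.gradedHomAt θ hθ U hU (RelProj.gradedHomAt ι hz.graded U hU f) = f :=
      congr($(congrArg (fun k : 𝒮.toQCAlg ⟶ 𝒮.toQCAlg => k.hom.app (op U)) hθι) f)
    rwa [e]
  have hn : P'.homOfLE hle ≫ n ≫ (RelProj.domQ uh pC' chartC').ι = (RelProj.domQ u p' chart').ι ≫ jX' := by
    rw [hn1]
    simp only [← Category.assoc, Scheme.homOfLE_homOfLE, Scheme.homOfLE_ι]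
  have he : e = d ≫ P'.homOfLE hle ≫ n := by
    rw [← cancel_mono (RelProj.domQ uh pC' chartC').ι, Category.assoc, Category.assoc, hn, ← hde]
  refine ⟨?_, ?_⟩
  · rintro _ ⟨x, hx, rfl⟩
    have h : jX' x = (RelProj.domQ uh pC' chartC').ι ((P'.homOfLE hle ≫ n) ⟨x, hx⟩) := by
      rw [← Scheme.Hom.comp_apply, Category.assoc, hn]
      rfl
    rw [h]
    exact ((P'.homOfLE hle ≫ n) ⟨x, hx⟩).2
  · rw [he, Category.assoc, Category.assoc, hn2, ← hl2, ← Category.assoc l, hl1]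
    simp only [← Category.assoc]
    congr 2
    simp only [Category.assoc]
    rw [Scheme.homOfLE_homOfLE, Scheme.homOfLE_rfl, Category.comp_id]

end Groth.Agent.S12158
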