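import Groth.Statements.S12159
import Groth.Agent.H11QMap.Comp
import Groth.Agent.H11QMap.LineQ

set_option autoImplicit false
universe u
open CategoryTheory CategoryTheory.Limits AlgebraicGeometry TopologicalSpace Opposite
open scoped HomogeneousIdeal
noncomputable section
open EGA2

namespace Groth.Agent.S12159

/-- Let Y be a quasi-compact scheme, q : X → Y a quasi-compact morphism, L an invertible O_X-module with
𝒮L = ⊕ L^{⊗n} (whose Proj is X), 𝒮 = colim 𝒮^i a filtered colimit of quasi-coherent positively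
graded O_Y-algebras along graded homomorphisms φ_i : 𝒮^i → 𝒮 (colimit taken on sections over affine
opens), ψ♭ = u : 𝒮 → q_*𝒮L a graded q-morphism and ψ_i♭ = u ∘ φ_i. Then r_{L,ψ} is everywhere
defined if and only if some r_{L,ψ_i} is everywhere defined, and in that case r_{L,ψ_j} is
everywhere defined for all j ≥ i. -/
theorem result {Y X P PL : Scheme.{u}} (q : X ⟶ Y)
    (L : X.Modules) (hL : PicF.IsInvertible L) (hLq : Coh.IsQCoh L)
    (𝒮 : RelProj.QCGrAlg Y) (𝒮L : RelProj.QCGrAlg X) (j : L ⟶ 𝒮L.toModule) (hj : RelProj.IsGrSymAlg L 𝒮L j)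
    (u : RelProj.QGrHom q 𝒮 𝒮L)
    (p : P ⟶ Y) (chart : ∀ (U : Y.Opens) (hU : IsAffineOpen U), (((p ⁻¹ᵁ U : P.Opens) : Scheme.{u}) ≅ Proj (𝒮.deg U hU)))
    (hP : RelProj.IsRelProj 𝒮 p chart)
    (pL : PL ⟶ X) (chartL : ∀ (U : X.Opens) (hU : IsAffineOpen U), (((pL ⁻¹ᵁ U : PL.Opens) : Scheme.{u}) ≅ Proj (𝒮L.deg U hU)))
    (hPL : RelProj.IsRelProj 𝒮L pL chartL)
    [CompactSpace Y] [QuasiCompact q]
    (Λ : Type u) [Preorder Λ] [IsDirected Λ (· ≤ ·)] [Nonempty Λ]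
    (𝒮i : Λ → RelProj.QCGrAlg Y) (φ : ∀ i, (𝒮i i).toQCAlg ⟶ 𝒮.toQCAlg) (hφ : ∀ i, RelProj.IsGradedHom (φ i))
    (t : ∀ i j, i ≤ j → ((𝒮i i).toQCAlg ⟶ (𝒮i j).toQCAlg)) (ht : ∀ i j (h : i ≤ j), RelProj.IsGradedHom (t i j h))
    (hφt : ∀ i j (h : i ≤ j), t i j h ≫ φ j = φ i)
    (hsurj : ∀ (U : Y.Opens), IsAffineOpen U → ∀ x : 𝒮.presheaf.obj (op U),
      ∃ (i : Λ) (y : (𝒮i i).presheaf.obj (op U)), ((φ i).hom.app (op U)).hom y = x)
    (hker : ∀ (U : Y.Opens), IsAffineOpen U → ∀ (i : Λ) (y : (𝒮i i).presheaf.obj (op U)),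
      ((φ i).hom.app (op U)).hom y = 0 → ∃ (j : Λ) (h : i ≤ j), ((t i j h).hom.app (op U)).hom y = 0)
    (ui : ∀ i, RelProj.QGrHom q (𝒮i i) 𝒮L) (hui : ∀ i (U : Y.Opens), (ui i).app U = (φ i).hom.app (op U) ≫ u.app U) :
    (RelProj.domQ u pL chartL = ⊤ ↔ ∃ i, RelProj.domQ (ui i) pL chartL = ⊤) ∧
      ∀ i, RelProj.domQ (ui i) pL chartL = ⊤ → ∀ j, i ≤ j → RelProj.domQ (ui j) pL chartL = ⊤ := by
  have hmono : ∀ i, RelProj.domQ (ui i) pL chartL ≤ RelProj.domQ u pL chartL := fun i =>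
    H11QMap.domQ_comp_le u (φ i) (hφ i) (ui i) (hui i) chartL
  have hmono' : ∀ i k, i ≤ k → RelProj.domQ (ui i) pL chartL ≤ RelProj.domQ (ui k) pL chartL := fun i k h =>
    H11QMap.domQ_comp_le (ui k) (t i k h) (ht i k h) (ui i) (fun U => by
      rw [hui i U, hui k U, ← Category.assoc, ← hφt i k h]
      rfl) chartL
  refine ⟨⟨fun htop => ?_, fun ⟨i, hi⟩ => eq_top_iff.2 (hi.ge.trans (hmono i))⟩,
    fun i hi k hk => eq_top_iff.2 (hi.ge.trans (hmono' i k hk))⟩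
  haveI := H11QMap.isIso_pL hPL hL hLq hj
  haveI : CompactSpace X := QuasiCompact.compactSpace_of_compactSpace q
  haveI : CompactSpace PL := pL.homeomorph.symm.compactSpace
  have hz : ∀ z : PL, ∃ i, z ∈ RelProj.domQ (ui i) pL chartL := fun z => by
    obtain ⟨U, hU, U', hU', hle, d, hd, f, hf, hz⟩ :=
      (H11QMap.mem_domQ_iff u chartL z).1 (htop.ge trivial)
    obtain ⟨i, y, hy⟩ := hsurj U hU f
    refine ⟨i, H11QMap.cb_le_domQ (ui i) chartL U hU U' hU' hle hd _ (DirectSum.decompose ((𝒮i i).deg U hU) y d).2 ?_⟩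
    rw [H11QMap.gradedAt_comp u (φ i) (hφ i) (ui i) (hui i), GradedRingHom.map_directSumDecompose]
    rw [show RelProj.gradedHomAt (φ i) (hφ i) U hU y = f from hy, DirectSum.decompose_of_mem_same _ hf]
    exact hz
  obtain ⟨s, hs⟩ := isCompact_univ.elim_finite_subcover (fun i => (RelProj.domQ (ui i) pL chartL : Set PL))
    (fun i => (RelProj.domQ (ui i) pL chartL).2) (fun z _ => Set.mem_iUnion.2 (hz z))
  obtain ⟨i, hi⟩ := Finset.exists_le s
  refine ⟨i, eq_top_iff.2 fun z _ => ?_⟩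
  obtain ⟨k, hk, hzk⟩ := Set.mem_iUnion₂.1 (hs (Set.mem_univ z))
  exact hmono' k i (hi k hk) hzk

end Groth.Agent.S12159
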