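-- statement FlatMor.GrothFrozen.S1216 (Groth/Statements/S1216.lean; the theorem FlatMor.exists_principal_content_ideal_over_valuation_ring);
import Groth.Statements.S1216
import Groth.Agent.H7Flat.ModMaxContent

set_option autoImplicit false
universe u
open FlatMor

namespace Groth.Agent.S1216

/-- Let A → B be a local homomorphism of local rings which is essentially of finite type, with A a
valuation ring, and N a finite B-module flat over A. Then every element x of N has a content ideal,
that is a smallest ideal I of A with x ∈ IN, and this ideal is principal. -/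
theorem result {A B : Type u} [CommRing A] [IsDomain A] [ValuationRing A] [CommRing B] [IsLocalRing B] [Algebra A B]
    [IsLocalHom (algebraMap A B)] [Algebra.EssFiniteType A B]
    (N : Type u) [AddCommGroup N] [Module B N] [Module A N] [IsScalarTower A B N] [Module.Finite B N] [Module.Flat A N] (x : N) :
    ∃ I : Ideal A, I.IsPrincipal ∧ x ∈ I • (⊤ : Submodule A N) ∧ ∀ J : Ideal A, x ∈ J • (⊤ : Submodule A N) → I ≤ J := by
  by_cases hx : x = 0
  · exact ⟨⊥, bot_isPrincipal, by rw [hx]; exact zero_mem _, fun J _ => bot_le⟩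
  obtain ⟨I, b, hxI, hb, hbm, hbig⟩ := H7Flat.ModMaxContent.exists_maximal_socle (A := A) (B := B) x hx
  have hIb : I ≤ Ideal.span {b} := fun i hi => by
    rcases ValuationRing.dvd_total b i with h | h
    · exact Ideal.mem_span_singleton.mpr h
    · obtain ⟨c, rfl⟩ := h
      exact absurd (I.mul_mem_right c hi) hb
  have hxb : x ∈ Ideal.span {b} • (⊤ : Submodule A N) :=
    hbig _ (lt_of_le_not_ge hIb fun h => hb (h (Ideal.mem_span_singleton_self b)))
  refine ⟨Ideal.span {b}, ⟨b, rfl⟩, hxb, fun J hJ => ?_⟩
  obtain ⟨a, haJ, haI⟩ : ∃ a ∈ J, a ∉ I := SetLike.not_le_iff_exists.mp fun h =>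
    hxI (Submodule.smul_mono_left h hJ)
  rw [Ideal.span_singleton_le_iff_mem]
  rcases ValuationRing.dvd_total a b with h | h
  · obtain ⟨c, rfl⟩ := h
    exact J.mul_mem_right c haJ
  · obtain ⟨c, rfl⟩ := h
    by_cases hc : IsUnit c
    · rwa [mul_comm, Ideal.unit_mul_mem_iff_mem J hc] at haJ
    · exact absurd (mul_comm c b ▸ hbm c hc) haI

end Groth.Agent.S1216
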