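import Groth.Statements.S12161
import Groth.Agent.H11QMap.LineImmU
import Groth.Agent.H11QMap.Comp

set_option autoImplicit false
universe u
open CategoryTheory CategoryTheory.Limits AlgebraicGeometry TopologicalSpace Opposite
open scoped HomogeneousIdeal
noncomputable section
open EGA2

namespace Groth.Agent.S12161

/-- Let Y be a quasi-compact scheme, q : X → Y a quasi-compact morphism, L an invertible O_X-module with
𝒮L = ⊕ L^{⊗n} (whose Proj is X), 𝒮 = colim 𝒮^i a filtered colimit of quasi-coherent positively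
graded O_Y-algebras along graded homomorphisms φ_i : 𝒮^i → 𝒮 (colimit taken on sections over affine
opens), ψ♭ = u : 𝒮 → q_*𝒮L a graded q-morphism and ψ_i♭ = u ∘ φ_i, with q of finite type; let r =
r_{L,ψ} : G(ψ) → Proj(𝒮) and r_i = r_{L,ψ_i} : G(ψ_i) → Proj(𝒮^i). Then r is everywhere defined and
an immersion if and only if some r_i is, and then so is r_j for all j ≥ i. -/
theorem result {Y X P PL : Scheme.{u}} (q : X ⟶ Y)
    (L : X.Modules) (hL : PicF.IsInvertible L) (hLq : Coh.IsQCoh L)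
    (𝒮 : RelProj.QCGrAlg Y) (𝒮L : RelProj.QCGrAlg X) (j : L ⟶ 𝒮L.toModule) (hj : RelProj.IsGrSymAlg L 𝒮L j)
    (u : RelProj.QGrHom q 𝒮 𝒮L)
    (p : P ⟶ Y) (chart : ∀ (U : Y.Opens) (hU : IsAffineOpen U), (((p ⁻¹ᵁ U : P.Opens) : Scheme.{u}) ≅ Proj (𝒮.deg U hU)))
    (hP : RelProj.IsRelProj 𝒮 p chart)
    (pL : PL ⟶ X) (chartL : ∀ (U : X.Opens) (hU : IsAffineOpen U), (((pL ⁻¹ᵁ U : PL.Opens) : Scheme.{u}) ≅ Proj (𝒮L.deg U hU)))
    (hPL : RelProj.IsRelProj 𝒮L pL chartL)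
    [CompactSpace Y] [QuasiCompact q] [LocallyOfFiniteType q]
    (r : ((RelProj.domQ u pL chartL : PL.Opens) : Scheme.{u}) ⟶ P)
    (hr : RelProj.IsProjQMapOn u p chart pL chartL (RelProj.domQ u pL chartL) r)
    (Λ : Type u) [Preorder Λ] [IsDirected Λ (· ≤ ·)] [Nonempty Λ]
    (𝒮i : Λ → RelProj.QCGrAlg Y) (φ : ∀ i, (𝒮i i).toQCAlg ⟶ 𝒮.toQCAlg) (hφ : ∀ i, RelProj.IsGradedHom (φ i))
    (t : ∀ i j, i ≤ j → ((𝒮i i).toQCAlg ⟶ (𝒮i j).toQCAlg)) (ht : ∀ i j (h : i ≤ j), RelProj.IsGradedHom (t i j h))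
    (hφt : ∀ i j (h : i ≤ j), t i j h ≫ φ j = φ i)
    (hsurj : ∀ (U : Y.Opens), IsAffineOpen U → ∀ x : 𝒮.presheaf.obj (op U),
      ∃ (i : Λ) (y : (𝒮i i).presheaf.obj (op U)), ((φ i).hom.app (op U)).hom y = x)
    (hker : ∀ (U : Y.Opens), IsAffineOpen U → ∀ (i : Λ) (y : (𝒮i i).presheaf.obj (op U)),
      ((φ i).hom.app (op U)).hom y = 0 → ∃ (j : Λ) (h : i ≤ j), ((t i j h).hom.app (op U)).hom y = 0)
    (ui : ∀ i, RelProj.QGrHom q (𝒮i i) 𝒮L) (hui : ∀ i (U : Y.Opens), (ui i).app U = (φ i).hom.app (op U) ≫ u.app U)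
    (Pi : Λ → Scheme.{u}) (pi : ∀ i, Pi i ⟶ Y)
    (charti : ∀ i (U : Y.Opens) (hU : IsAffineOpen U), ((((pi i) ⁻¹ᵁ U : (Pi i).Opens) : Scheme.{u}) ≅ Proj ((𝒮i i).deg U hU)))
    (hPi : ∀ i, RelProj.IsRelProj (𝒮i i) (pi i) (charti i))
    (ri : ∀ i, ((RelProj.domQ (ui i) pL chartL : PL.Opens) : Scheme.{u}) ⟶ Pi i)
    (hri : ∀ i, RelProj.IsProjQMapOn (ui i) (pi i) (charti i) pL chartL (RelProj.domQ (ui i) pL chartL) (ri i)) :
    ((RelProj.domQ u pL chartL = ⊤ ∧ IsImmersion r) ↔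
        ∃ i, RelProj.domQ (ui i) pL chartL = ⊤ ∧ IsImmersion (ri i)) ∧
      ∀ i, (RelProj.domQ (ui i) pL chartL = ⊤ ∧ IsImmersion (ri i)) →
        ∀ j, i ≤ j → RelProj.domQ (ui j) pL chartL = ⊤ ∧ IsImmersion (ri j) := by
  haveI := H11QMap.isIso_pL hPL hL hLq hj
  have key : ∀ {Q P₁ : Scheme.{u}} {𝒯 𝒮₁ : RelProj.QCGrAlg Y} (v : 𝒯.toQCAlg ⟶ 𝒮₁.toQCAlg) (hv : RelProj.IsGradedHom v)
      (u₁ : RelProj.QGrHom q 𝒮₁ 𝒮L) (u₂ : RelProj.QGrHom q 𝒯 𝒮L) (_ : ∀ U, u₂.app U = v.hom.app (op U) ≫ u₁.app U)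
      (p₁ : P₁ ⟶ Y) (c₁ : ∀ (U : Y.Opens) (hU : IsAffineOpen U), (((p₁ ⁻¹ᵁ U : P₁.Opens) : Scheme.{u}) ≅ Proj (𝒮₁.deg U hU)))
      (_ : RelProj.IsRelProj 𝒮₁ p₁ c₁)
      (p₂ : Q ⟶ Y) (c₂ : ∀ (U : Y.Opens) (hU : IsAffineOpen U), (((p₂ ⁻¹ᵁ U : Q.Opens) : Scheme.{u}) ≅ Proj (𝒯.deg U hU)))
      (_ : RelProj.IsRelProj 𝒯 p₂ c₂)
      (r₁ : ((RelProj.domQ u₁ pL chartL : PL.Opens) : Scheme.{u}) ⟶ P₁)
      (_ : RelProj.IsProjQMapOn u₁ p₁ c₁ pL chartL (RelProj.domQ u₁ pL chartL) r₁)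
      (r₂ : ((RelProj.domQ u₂ pL chartL : PL.Opens) : Scheme.{u}) ⟶ Q)
      (_ : RelProj.IsProjQMapOn u₂ p₂ c₂ pL chartL (RelProj.domQ u₂ pL chartL) r₂),
      RelProj.domQ u₂ pL chartL = ⊤ ∧ IsImmersion r₂ → RelProj.domQ u₁ pL chartL = ⊤ ∧ IsImmersion r₁ := by
    intro Q P₁ 𝒯 𝒮₁ v hv u₁ u₂ hu p₁ c₁ h₁ p₂ c₂ h₂ r₁ hr₁ r₂ hr₂ ⟨htop, himm⟩
    have hle := H11QMap.domQ_comp_le u₁ v hv u₂ hu chartL
    have h1top : RelProj.domQ u₁ pL chartL = ⊤ := top_le_iff.1 (htop ▸ hle)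
    refine ⟨h1top, ?_⟩
    obtain ⟨Φ, hΦ⟩ := H11QMap.exists_qmap (RelProj.QGrHom.ofHom v hv) c₂ c₁ h₂ h₁
    obtain ⟨l, hl1, hl2⟩ := H11QMap.exists_factor u₁ v hv u₂ hu c₁ c₂ chartL h₁ h₂ hPL hr₁ hr₂ hΦ
    haveI := himm
    haveI : IsImmersion (l ≫ Φ) := hl2 ▸ himm
    haveI : IsImmersion l := IsImmersion.of_comp l Φ
    haveI : IsImmersion (PL.homOfLE hle ≫ r₁) := hl1 ▸ inferInstance
    haveI : IsIso (PL.homOfLE hle) := H11QMap.isIso_homOfLE_of_eq (htop.trans h1top.symm) hle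
    exact (MorphismProperty.cancel_left_of_respectsIso @IsImmersion (PL.homOfLE hle) r₁).1 inferInstance
  refine ⟨⟨fun h => ?_, fun ⟨i, hi⟩ => key (φ i) (hφ i) u (ui i) (hui i) p chart hP (pi i) (charti i) (hPi i)
      r hr (ri i) (hri i) hi⟩, fun i hi k hik => ?_⟩
  · obtain ⟨htop, himm⟩ := h
    haveI := himm
    -- an affine chart of the target for each point, and standard opens
    have hloc : ∀ x : X, ∃ (U : Y.Opens) (hU : IsAffineOpen U) (d : ℕ) (_ : 0 < d) (f : 𝒮.presheaf.obj (op U)),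
        f ∈ 𝒮.deg U hU d ∧ H11QMap.cb chart U hU f ≤ r.coborderRange ∧ x ∈ H11QMap.LocU.tlocU u U f d := by
      intro x
      obtain ⟨⟨U, hU⟩, hxU⟩ := Opens.mem_iSup.1 ((iSup_affineOpens_eq_top Y).ge (Set.mem_univ (q x)))
      obtain ⟨d, hd, f, hf, hle, hx⟩ := H11QMap.LocU.exists_tloc_mem u hU hPL hL hLq hj hP hr htop
        (O := r.coborderRange) (fun z => subset_coborder ⟨z, rfl⟩) hxU
      exact ⟨U, hU, d, hd, f, hf, hle, hx⟩
    choose U hU d hd f hf hle hxW using hloc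
    haveI : CompactSpace X := QuasiCompact.compactSpace_of_compactSpace q
    obtain ⟨F, hF⟩ := isCompact_univ.elim_finite_subcover (fun x : X => (H11QMap.LocU.tlocU u (U x) (f x) (d x) : Set X))
      (fun x => Opens.isOpen _) (fun x _ => Set.mem_iUnion.2 ⟨x, hxW x⟩)
    -- finitely many elements to lift
    have hW : ∀ x, ∃ hW : IsAffineOpen (H11QMap.LocU.tlocU u (U x) (f x) (d x)),
        H11QMap.LocU.fracSub u (hU x) hW le_rfl (s := f x) (n := d x) = ⊤ := fun x =>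
      (H11QMap.LocU.isClosedImmersion_cb_iff u (hU x) hPL hL hLq hj (hd x) hP hr (hf x)).1
        (H11QMap.isClosedImmersion_restrict_of_le_coborderRange r (hle x))
    choose hWa hfrac using hW
    have hlift : ∀ (x : X) (k : ℕ) (a : 𝒮.presheaf.obj (op (U x))), a ∈ 𝒮.deg (U x) (hU x) k →
        ∃ (i : Λ) (y : (𝒮i i).presheaf.obj (op (U x))), y ∈ (𝒮i i).deg (U x) (hU x) k ∧
          ((φ i).hom.app (op (U x))).hom y = a := by
      intro x k a ha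
      obtain ⟨i, y, hy⟩ := hsurj (U x) (hU x) a
      refine ⟨i, (DirectSum.decompose ((𝒮i i).deg (U x) (hU x)) y k : (𝒮i i).presheaf.obj (op (U x))),
        SetLike.coe_mem _, ?_⟩
      have h1 := H11Proj.map_proj (RelProj.gradedHomAt (φ i) (hφ i) (U x) (hU x)) y k
      refine h1.trans ?_
      rw [show RelProj.gradedHomAt (φ i) (hφ i) (U x) (hU x) y = a from hy]
      exact DirectSum.decompose_of_mem_same _ ha
    have hmono : ∀ (x : X) (k : ℕ) (a : 𝒮.presheaf.obj (op (U x))) (i i' : Λ), i ≤ i' →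
        (∃ y, y ∈ (𝒮i i).deg (U x) (hU x) k ∧ ((φ i).hom.app (op (U x))).hom y = a) →
        ∃ y, y ∈ (𝒮i i').deg (U x) (hU x) k ∧ ((φ i').hom.app (op (U x))).hom y = a := by
      rintro x k a i i' hii ⟨y, hy, rfl⟩
      refine ⟨((t i i' hii).hom.app (op (U x))).hom y, ht i i' hii (U x) (hU x) k y hy, ?_⟩
      rw [← hφt i i' hii]
      rfl
    have hgen : ∀ x, ∃ (T : Finset Γ(X, H11QMap.LocU.tlocU u (U x) (f x) (d x))),
        ∀ S : Subring Γ(X, H11QMap.LocU.tlocU u (U x) (f x) (d x)),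
          (∀ a, (q.appLE (U x) (H11QMap.LocU.tlocU u (U x) (f x) (d x)) (H11QMap.LocU.tlocU_le u le_rfl)).hom a ∈ S) →
          (∀ b ∈ T, b ∈ S) → S = ⊤ := by
      intro x
      letI := (q.appLE (U x) (H11QMap.LocU.tlocU u (U x) (f x) (d x)) (H11QMap.LocU.tlocU_le u le_rfl)).hom.toAlgebra
      have hft : Algebra.FiniteType Γ(Y, U x) Γ(X, H11QMap.LocU.tlocU u (U x) (f x) (d x)) :=
        HasRingHomProperty.appLE @LocallyOfFiniteType q inferInstance ⟨U x, hU x⟩ ⟨_, hWa x⟩ _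
      obtain ⟨T, hT⟩ := hft.out
      refine ⟨T, fun S h1 h2 => ?_⟩
      have h3 : (Algebra.adjoin Γ(Y, U x) (T : Set Γ(X, H11QMap.LocU.tlocU u (U x) (f x) (d x)))).toSubring ≤ S := by
        rw [Algebra.adjoin_eq_ring_closure, Subring.closure_le]
        rintro b (⟨a, rfl⟩ | hb)
        exacts [h1 a, h2 b hb]
      rw [hT] at h3
      exact eq_top_iff.2 fun b _ => h3 trivial
    choose T hT using hgen
    have hnum : ∀ (x : X) (b : Γ(X, H11QMap.LocU.tlocU u (U x) (f x) (d x))), ∃ (m : ℕ) (a : 𝒮.presheaf.obj (op (U x))),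
        a ∈ 𝒮.deg (U x) (hU x) (m • d x) ∧
        (𝒮L.str.app (op (H11QMap.LocU.tlocU u (U x) (f x) (d x)))).hom b *
            ((u.appLE (U x) (H11QMap.LocU.tlocU u (U x) (f x) (d x)) (H11QMap.LocU.tlocU_le u le_rfl)).hom (f x)) ^ m =
          (u.appLE (U x) (H11QMap.LocU.tlocU u (U x) (f x) (d x)) (H11QMap.LocU.tlocU_le u le_rfl)).hom a := fun x b =>
      (H11QMap.LocU.mem_fracSub_iff u (hU x) hPL hL hLq hj (hd x) (hWa x) le_rfl (hf x) b).1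
        ((hfrac x).ge (Subring.mem_top b))
    choose m a ha hma using hnum
    let ls : List (Σ x : X, ℕ × 𝒮.presheaf.obj (op (U x))) :=
      F.toList.flatMap fun x => ⟨x, d x, f x⟩ :: ((T x).toList.map fun b => ⟨x, m x b • d x, a x b⟩)
    have hall : ∀ l : List (Σ x : X, ℕ × 𝒮.presheaf.obj (op (U x))),
        (∀ e ∈ l, e.2.2 ∈ 𝒮.deg (U e.1) (hU e.1) e.2.1) →
        ∃ i : Λ, ∀ e ∈ l, ∃ y, y ∈ (𝒮i i).deg (U e.1) (hU e.1) e.2.1 ∧
          ((φ i).hom.app (op (U e.1))).hom y = e.2.2 := by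
      intro l
      induction l with
      | nil => exact fun _ => ⟨Classical.arbitrary Λ, fun e he => absurd he List.not_mem_nil⟩
      | cons e l ih =>
        intro hl
        obtain ⟨i, hi⟩ := ih fun e' he' => hl e' (List.mem_cons_of_mem _ he')
        obtain ⟨i₀, y, hy⟩ := hlift e.1 e.2.1 e.2.2 (hl e List.mem_cons_self)
        obtain ⟨i', h1, h2⟩ := exists_ge_ge i i₀
        refine ⟨i', fun e' he' => ?_⟩
        rcases List.mem_cons.1 he' with rfl | he'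
        · exact hmono _ _ _ i₀ i' h2 ⟨y, hy⟩
        · exact hmono _ _ _ i i' h1 (hi e' he')
    obtain ⟨i, hi⟩ := hall ls (fun e he => by
      obtain ⟨x, -, he⟩ := List.mem_flatMap.1 he
      rcases List.mem_cons.1 he with rfl | he
      · exact hf x
      · obtain ⟨b, -, rfl⟩ := List.mem_map.1 he
        exact ha x b)
    have hy : ∀ x ∈ F, ∃ y, y ∈ (𝒮i i).deg (U x) (hU x) (d x) ∧ ((φ i).hom.app (op (U x))).hom y = f x := fun x hx =>
      hi ⟨x, d x, f x⟩ (List.mem_flatMap.2 ⟨x, Finset.mem_toList.2 hx, List.mem_cons_self⟩)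
    choose y hydeg hyf using hy
    have hyW : ∀ x (hx : x ∈ F), H11QMap.LocU.tlocU (ui i) (U x) (y x hx) (d x) = H11QMap.LocU.tlocU u (U x) (f x) (d x) := by
      intro x hx
      have he : ∀ (V : X.Opens) (hV : V ≤ q ⁻¹ᵁ U x),
          ((ui i).appLE (U x) V hV).hom (y x hx) = (u.appLE (U x) V hV).hom (f x) := by
        intro V hV
        simp only [RelSpec.QHom.appLE, hui]
        rw [← hyf x hx]
        rfl
      have hg : ∀ (V : X.affineOpens), (∃ h, H11QMap.GenOn (ui i) (U x) (y x hx) (d x) V h) ↔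
          ∃ h, H11QMap.GenOn u (U x) (f x) (d x) V h := fun V => by
        simp only [H11QMap.GenOn, he]
      refine le_antisymm (iSup_le fun V => ?_) (iSup_le fun V => ?_)
      · exact le_iSup_of_le (⟨V.1, (hg V.1).1 V.2⟩ : {V : X.affineOpens // ∃ h, H11QMap.GenOn u (U x) (f x) (d x) V h}) le_rfl
      · exact le_iSup_of_le (⟨V.1, (hg V.1).2 V.2⟩ : {V : X.affineOpens // ∃ h, H11QMap.GenOn (ui i) (U x) (y x hx) (d x) V h}) le_rfl
    have hdom : RelProj.domQ (ui i) pL chartL = ⊤ := by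
      refine eq_top_iff.2 fun z _ => ?_
      obtain ⟨x, hx, hxz⟩ := Set.mem_iUnion₂.1 (hF (Set.mem_univ (pL z)))
      have hz : pL z ∈ H11QMap.LocU.tlocU (ui i) (U x) (y x hx) (d x) := (hyW x hx).ge hxz
      obtain ⟨⟨V, hV, hgenV⟩, hzV⟩ := Opens.mem_iSup.1 hz
      exact H11QMap.mem_domQ_of_genOn (ui i) chartL hPL hL hLq hj (U x) (hU x) (hd x) _ (hydeg x hx) V hV hgenV hzV
    refine ⟨i, hdom, H11Sym.isImmersion_of_local (ri i)
      (fun x : {x // x ∈ F} => H11QMap.cb (charti i) (U x.1) (hU x.1) (y x.1 x.2)) (fun z => ?_) fun x => ?_⟩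
    · obtain ⟨x, hx, hxz⟩ := Set.mem_iUnion₂.1 (hF (Set.mem_univ (pL ((RelProj.domQ (ui i) pL chartL).ι z))))
      obtain ⟨⟨V, hV, hgenV⟩, hzV⟩ := Opens.mem_iSup.1 ((hyW x hx).ge hxz)
      exact ⟨⟨x, hx⟩, (H11QMap.mem_preimage_cb_iff (ui i) (charti i) chartL hPL hL hLq hj (hPi i) (hri i) z
        (U x) (hU x) (hd x) _ (hydeg x hx)).2 ⟨V, hV, hzV, hgenV⟩⟩
    · obtain ⟨x, hx⟩ := x
      refine (H11QMap.LocU.isClosedImmersion_cb_iff (ui i) (hU x) hPL hL hLq hj (hd x) (hPi i) (hri i) (hydeg x hx)).2 ?_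
      have haff : IsAffineOpen (H11QMap.LocU.tlocU (ui i) (U x) (y x hx) (d x)) := (hyW x hx).symm ▸ hWa x
      refine ⟨haff, ?_⟩
      have trans : ∀ (W : X.Opens) (_ : W = H11QMap.LocU.tlocU u (U x) (f x) (d x)) (hW : IsAffineOpen W)
          (hWs : W ≤ H11QMap.LocU.tlocU (ui i) (U x) (y x hx) (d x)),
          H11QMap.LocU.fracSub (ui i) (hU x) hW hWs (s := y x hx) (n := d x) = ⊤ := by
        rintro W rfl hW hWs
        refine hT x _ (fun c => H11QMap.LocU.appLE_mem_fracSub (ui i) (hU x) hPL hL hLq hj (hd x) hW hWs (hydeg x hx) c)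
          fun b hb => ?_
        obtain ⟨y', hy', hya⟩ := hi ⟨x, m x b • d x, a x b⟩ (List.mem_flatMap.2 ⟨x, Finset.mem_toList.2 hx,
          List.mem_cons_of_mem _ (List.mem_map.2 ⟨b, Finset.mem_toList.2 hb, rfl⟩)⟩)
        refine (H11QMap.LocU.mem_fracSub_iff (ui i) (hU x) hPL hL hLq hj (hd x) hW hWs (hydeg x hx) b).2
          ⟨m x b, y', hy', ?_⟩
        simp only [RelSpec.QHom.appLE, hui]
        have := hma x b
        dsimp only at hya
        simp only [CommRingCat.hom_comp, RingHom.comp_apply, hya, hyf x hx]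
        exact this
      exact trans _ (hyW x hx) haff le_rfl
  · exact key (t i k hik) (ht i k hik) (ui k) (ui i) (fun U => by
      rw [hui i U, hui k U, ← hφt i k hik]
      rfl) (pi k) (charti k) (hPi k) (pi i) (charti i) (hPi i) (ri k) (hri k) (ri i) (hri i) hi

end Groth.Agent.S12161
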