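import Groth.Statements.S12162
import Groth.Agent.H11QMap.FTQDeg
import Groth.Agent.H11QMap.GenSubAlg
import Groth.Agent.H11Sym.DegPiece
import Groth.Agent.H11Proj.RelProjExists

set_option autoImplicit false
universe u
open CategoryTheory CategoryTheory.Limits AlgebraicGeometry TopologicalSpace Opposite
open scoped HomogeneousIdeal
noncomputable section
open EGA2

namespace Groth.Agent.S12162

/-- Let Y be a quasi-compact separated scheme or a scheme with Noetherian underlying space, q : X → Y a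
morphism of finite type, L an invertible O_X-module with 𝒮L = ⊕ L^{⊗n} (whose Proj is X), 𝒮 a
quasi-coherent positively graded O_Y-algebra, ψ♭ = u : 𝒮 → q_*𝒮L a graded q-morphism and r = r_{L,ψ}
: G(ψ) → Proj(𝒮). Then r is everywhere defined and an immersion if and only if there are n > 0 and a
quasi-coherent sub-O_Y-module E ⊆ 𝒮_n of finite type such that (a) q^*(E) → L^{⊗n} (induced by ψ_n)
is surjective and (b) for the graded sub-algebra 𝒮' of 𝒮 generated by E and ψ' = ψ ∘ q^*(𝒮' ⊆ 𝒮),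
r_{L,ψ'} is everywhere defined and an immersion. (Here E is written as the degree-n part of 𝒮',
which it equals; 𝒮' is given abstractly with an injective graded homomorphism into 𝒮 and degree-zero
part the image of O_Y; surjectivity in (a) is stated stalkwise: every point of X has an affine
neighbourhood V over which some section of E generates L^{⊗n}.) -/
theorem result {Y X P PL : Scheme.{u}} (q : X ⟶ Y)
    (L : X.Modules) (hL : PicF.IsInvertible L) (hLq : Coh.IsQCoh L)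
    (𝒮 : RelProj.QCGrAlg Y) (𝒮L : RelProj.QCGrAlg X) (j : L ⟶ 𝒮L.toModule) (hj : RelProj.IsGrSymAlg L 𝒮L j)
    (u : RelProj.QGrHom q 𝒮 𝒮L)
    (p : P ⟶ Y) (chart : ∀ (U : Y.Opens) (hU : IsAffineOpen U), (((p ⁻¹ᵁ U : P.Opens) : Scheme.{u}) ≅ Proj (𝒮.deg U hU)))
    (hP : RelProj.IsRelProj 𝒮 p chart)
    (pL : PL ⟶ X) (chartL : ∀ (U : X.Opens) (hU : IsAffineOpen U), (((pL ⁻¹ᵁ U : PL.Opens) : Scheme.{u}) ≅ Proj (𝒮L.deg U hU)))
    (hPL : RelProj.IsRelProj 𝒮L pL chartL)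
    (r : ((RelProj.domQ u pL chartL : PL.Opens) : Scheme.{u}) ⟶ P)
    (hr : RelProj.IsProjQMapOn u p chart pL chartL (RelProj.domQ u pL chartL) r)
    (hYs : (CompactSpace Y ∧ Y.IsSeparated) ∨ NoetherianSpace Y) [QuasiCompact q] [LocallyOfFiniteType q] :
    (RelProj.domQ u pL chartL = ⊤ ∧ IsImmersion r) ↔
      ∃ (n : ℕ) (_ : 0 < n) (𝒮' : RelProj.QCGrAlg Y) (j' : 𝒮'.toQCAlg ⟶ 𝒮.toQCAlg) (_ : RelProj.IsGradedHom j')
        (_ : ∀ (U : Y.Opens), IsAffineOpen U → Function.Injective (j'.hom.app (op U)).hom)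
        (_ : ∀ (U : Y.Opens) (hU : IsAffineOpen U),
          ((𝒮'.deg U hU 0 : AddSubgroup (𝒮'.presheaf.obj (op U))) : Set (𝒮'.presheaf.obj (op U))) =
            Set.range (𝒮'.str.app (op U)).hom)
        (_ : ∀ (U : Y.Opens) (hU : IsAffineOpen U),
          Subring.closure (((𝒮'.deg U hU 0 : AddSubgroup (𝒮'.presheaf.obj (op U))) : Set (𝒮'.presheaf.obj (op U))) ∪
            ((𝒮'.deg U hU n : AddSubgroup (𝒮'.presheaf.obj (op U))) : Set (𝒮'.presheaf.obj (op U)))) = ⊤)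
        (_ : 𝒮'.IsFTDeg n)
        (u' : RelProj.QGrHom q 𝒮' 𝒮L) (_ : ∀ U : Y.Opens, u'.app U = j'.hom.app (op U) ≫ u.app U),
        (∀ x : X, ∃ (U : Y.Opens) (hU : IsAffineOpen U) (e : 𝒮'.presheaf.obj (op U)) (_ : e ∈ 𝒮'.deg U hU n)
            (V : X.Opens) (hV : IsAffineOpen V) (hVU : V ≤ q ⁻¹ᵁ U), x ∈ V ∧
              ((𝒮L.deg V hV n : AddSubgroup (𝒮L.presheaf.obj (op V))) : Set (𝒮L.presheaf.obj (op V))) ⊆
                (Ideal.span {(u'.appLE U V hVU).hom e} : Set (𝒮L.presheaf.obj (op V)))) ∧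
        (∀ (P' : Scheme.{u}) (p' : P' ⟶ Y)
            (chart' : ∀ (U : Y.Opens) (hU : IsAffineOpen U), (((p' ⁻¹ᵁ U : P'.Opens) : Scheme.{u}) ≅ Proj (𝒮'.deg U hU)))
            (_ : RelProj.IsRelProj 𝒮' p' chart')
            (r' : ((RelProj.domQ u' pL chartL : PL.Opens) : Scheme.{u}) ⟶ P')
            (_ : RelProj.IsProjQMapOn u' p' chart' pL chartL (RelProj.domQ u' pL chartL) r'),
          RelProj.domQ u' pL chartL = ⊤ ∧ IsImmersion r') := by
  classical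
  haveI : CompactSpace Y := by
    rcases hYs with ⟨h, -⟩ | h
    · exact h
    · exact NoetherianSpace.compactSpace _
  haveI : QuasiSeparatedSpace Y := by
    rcases hYs with ⟨-, h⟩ | h
    · infer_instance
    · infer_instance
  constructor
  · rintro ⟨htop, himm⟩
    haveI := himm
    obtain ⟨n, hn, l, hl, hcov, hdata⟩ := H11QMap.exists_finite_data_deg u hPL hL hLq hj hP hr htop
    choose z hz using fun (e : Σ U : Y.affineOpens, 𝒮.presheaf.obj (op U.1)) (he : e ∈ l) =>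
      H11Sym.exists_degIncl_eq 𝒮 n e.1.2 (hl e he)
    let mk : {e // e ∈ l} → Σ U : Y.affineOpens, Γ(H11Sym.degModule 𝒮 n, U.1) := fun e => ⟨e.1.1, z e.1 e.2⟩
    obtain ⟨E, hE, hEt, a, -, hmem⟩ := H11QMap.exists_ft_submodule (H11Sym.degModule 𝒮 n) (H11Sym.isQCoh_degModule 𝒮 n)
      (l.attach.map mk)
    obtain ⟨𝒮', j', hj', hinj, h0, hgen, hft, hE'⟩ := H11QMap.GenSubAlg.exists_genSubAlg 𝒮 hn hE (a ≫ H11Sym.degIncl 𝒮 n)
      (fun U hU x => H11Sym.degIncl_mem 𝒮 n hU (a.app U x)) hEt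
    have hl' : ∀ e ∈ l, ∃ y ∈ 𝒮'.deg e.1.1 e.1.2 n, (j'.hom.app (op e.1.1)).hom y = e.2 := fun e he => by
      obtain ⟨w, hw⟩ := hmem ⟨e.1, z e he⟩ (List.mem_map.2 ⟨⟨e, he⟩, List.mem_attach _ _, rfl⟩)
      obtain ⟨y, hy, hy'⟩ := hE' e.1.1 e.1.2 w
      refine ⟨y, hy, hy'.trans ?_⟩
      exact (congrArg (H11Sym.japp (B := 𝒮.toQCAlg) (H11Sym.degIncl 𝒮 n) e.1.1) hw).trans (hz e he)
    refine ⟨n, hn, 𝒮', j', hj', hinj, h0, hgen, hft, H11QMap.compQ j' hj' u, fun U => rfl, fun x => ?_,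
      fun P' p' chart' hP' r' hr' => hdata (H11QMap.compQ j' hj' u) (fun e he => ?_) p' chart' hP' r' hr'⟩
    · obtain ⟨e, he, hx⟩ := hcov x
      obtain ⟨⟨V, hle, hgenV⟩, hxV⟩ := Opens.mem_iSup.1 hx
      obtain ⟨y, hy, hy'⟩ := hl' e he
      refine ⟨e.1.1, e.1.2, y, hy, V.1, V.2, hle, hxV, ?_⟩
      have h1 : ((H11QMap.compQ j' hj' u).appLE e.1.1 V.1 hle).hom y = (u.appLE e.1.1 V.1 hle).hom e.2 :=
        congrArg (H11Sym.ares 𝒮L.toQCAlg hle) (congrArg (u.app e.1.1).hom hy')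
      rw [h1]
      exact hgenV
    · obtain ⟨y, hy, hy'⟩ := hl' e he
      exact ⟨y, hy, congrArg (u.app e.1.1).hom hy'⟩
  · rintro ⟨n, -, 𝒮', j', hj', -, -, -, -, u', hu', -, hall⟩
    obtain ⟨P', p', chart', hP'⟩ := H11Proj.exists_isRelProj 𝒮'
    obtain ⟨r', hr'⟩ := H11QMap.exists_qmap u' chart' chartL hP' hPL
    obtain ⟨htop', himm'⟩ := hall P' p' chart' hP' r' hr'
    haveI := himm'
    obtain ⟨m, hm, l, hl, -, hdata⟩ := H11QMap.exists_finite_data_deg u' hPL hL hLq hj hP' hr' htop'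
    exact hdata u (fun e he => ⟨(j'.hom.app (op e.1.1)).hom e.2, hj' _ e.1.2 _ _ (hl e he),
      (congrArg (fun k => k.hom e.2) (hu' e.1.1)).symm⟩) p chart hP r hr

end Groth.Agent.S12162
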