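import Groth.Statements.S12164
import Groth.Agent.S12142
import Groth.Agent.H11Sym.SymSheaf
import Groth.Agent.H8Props.RelFP.PullSections

set_option autoImplicit false
universe u
open CategoryTheory CategoryTheory.Limits AlgebraicGeometry TopologicalSpace Opposite
open scoped HomogeneousIdeal
noncomputable section
open EGA2

namespace Groth.Agent.S12164

/-- Let g : S' → S be a morphism, E a quasi-coherent O_S-module, A = Sym(E) and B = Sym(g^*E) the
symmetric algebras (given by their universal properties among quasi-coherent algebras, with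
structure maps j : E → A and j' : g^*E → B), u : A → g_*B the g-morphism of algebras extending the
adjunction unit E → g_*g^*E followed by g_*(j'), and h = Spec(u) : V(g^*E) = Spec(B) → V(E) =
Spec(A). Then h identifies V(g^*E) with the base change V(E) ×_S S'. -/
theorem result {S S' : Scheme.{u}} (g : S' ⟶ S)
    (E : S.Modules) (hE : Coh.IsQCoh E) (A : RelSpec.QCAlg S) (j : E ⟶ A.toModule) (hA : RelSpec.IsSymAlg E A j)
    (B : RelSpec.QCAlg S') (j' : (Scheme.Modules.pullback g).obj E ⟶ B.toModule)
    (hB : RelSpec.IsSymAlg ((Scheme.Modules.pullback g).obj E) B j')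
    (u : RelSpec.QHom g A B)
    (hu : ∀ (U : S.Opens) (x : Γ(E, U)),
      (u.app U).hom ((j.app U) x) =
        (j'.app (g ⁻¹ᵁ U)) (((Scheme.Modules.pullbackPushforwardAdjunction g).unit.app E).app U x))
    (h : B.spec ⟶ A.spec) (hh : RelSpec.IsSpecQMap u h) :
    IsPullback h B.π A.π g := by
  have hgE : Coh.IsQCoh ((Scheme.Modules.pullback g).obj E) := H29Fitt.isQCoh_pullback g E hE
  have hAs := RelSpec.IsSymAlg.isAffSym hE hA
  have hBs := RelSpec.IsSymAlg.isAffSym hgE hB
  refine S12142.result g A B u (fun U hU U' hU' hle => ?_) h hh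
  have hkey : ∀ x : Γ(E, U), (u.appLE U U' hle).hom (H11Sym.japp j U x) =
      H11Sym.japp j' U' (H8Props.PullSections.pullLin g E hle x) := by
    intro x
    refine Eq.trans ?_ (H11Sym.japp_res j' hle _).symm
    exact congrArg (fun y => (B.presheaf.map (homOfLE hle).op).hom y) (hu U x)
  letI := (g.appLE U U' hle).hom.toAlgebra
  letI := Module.compHom Γ((Scheme.Modules.pullback g).obj E, U') (g.appLE U U' hle).hom
  haveI : IsScalarTower Γ(S, U) Γ(S', U') Γ((Scheme.Modules.pullback g).obj E, U') :=
    .of_algebraMap_smul fun _ _ => rfl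
  have hbc := H8Props.PullSections.isBaseChange_pullLin g E hle hE hU hU'
  have hcomm : CommSq (g.appLE U U' hle) (A.str.app (op U)) (B.str.app (op U')) (u.appLE U U' hle) :=
    ⟨(u.str_appLE U U' hle).symm⟩
  have hex : ∀ c : PushoutCocone (g.appLE U U' hle) (A.str.app (op U)), ∃ l : B.presheaf.obj (op U') →+* c.pt,
      (∀ r, l (H11Sym.astr B U' r) = c.inl.hom r) ∧
      ∀ x, l (H11Sym.japp j' U' (H8Props.PullSections.pullLin g E hle x)) = c.inr.hom (H11Sym.japp j U x) := by
    intro c
    letI := (c.inl.hom : _ →+* c.pt).toAlgebra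
    letI : Module Γ(S, U) c.pt := Module.compHom c.pt (g.appLE U U' hle).hom
    haveI : IsScalarTower Γ(S, U) Γ(S', U') c.pt := .of_algebraMap_smul fun _ _ => rfl
    let f₀ : Γ(E, U) →ₗ[Γ(S, U)] c.pt :=
      { toFun := fun x => c.inr.hom (H11Sym.japp j U x)
        map_add' := fun x y => by rw [H11Sym.japp_add, map_add]
        map_smul' := fun r x => by
          rw [H11Sym.japp_smul, map_mul]
          exact congrArg (· * _) (ConcreteCategory.congr_hom c.condition r).symm }
    obtain ⟨l, hl₀, hl₁⟩ := hBs.exists_lift hU' c.inl.hom (hbc.lift f₀).toAddMonoidHom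
      (fun r m => ((hbc.lift f₀).map_smul r m).trans (Algebra.smul_def _ _))
    exact ⟨l, hl₀, fun x => (hl₁ _).trans (hbc.lift_eq f₀ x)⟩
  choose l hl₀ hl₁ using hex
  refine IsPushout.of_isColimit' hcomm (PushoutCocone.IsColimit.mk _ (fun c => CommRingCat.ofHom (l c))
    (fun c => CommRingCat.hom_ext (RingHom.ext (hl₀ c))) (fun c => ?_) fun c m h1 h2 => ?_)
  · refine CommRingCat.hom_ext (hAs.ringHom_ext hU (fun r => ?_) fun x => ?_)
    · simp only [CommRingCat.hom_comp, RingHom.comp_apply, CommRingCat.hom_ofHom]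
      rw [show (u.appLE U U' hle).hom (H11Sym.astr A U r) = H11Sym.astr B U' ((g.appLE U U' hle).hom r) from
          ConcreteCategory.congr_hom (u.str_appLE U U' hle) r, hl₀]
      exact ConcreteCategory.congr_hom c.condition r
    · simp only [CommRingCat.hom_comp, RingHom.comp_apply, CommRingCat.hom_ofHom]
      rw [hkey]
      exact hl₁ c x
  · refine CommRingCat.hom_ext (hBs.ringHom_ext hU' (fun r => ?_) fun x => ?_)
    · exact (ConcreteCategory.congr_hom h1 r).trans (hl₀ c r).symm
    · refine hbc.inductionOn x (motive := fun x => m.hom (H11Sym.japp j' U' x) = l c (H11Sym.japp j' U' x))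
        ?_ ?_ ?_ ?_
      · rw [show H11Sym.japp j' U' 0 = 0 from map_zero (j'.app U').hom, map_zero, map_zero]
      · intro x
        rw [hl₁, ← hkey]
        exact ConcreteCategory.congr_hom h2 _
      · intro r x hx
        rw [H11Sym.japp_smul, map_mul, map_mul, hx, hl₀]
        exact congrArg (· * _) (ConcreteCategory.congr_hom h1 r)
      · intro x y hx hy
        rw [H11Sym.japp_add, map_add, map_add, hx, hy]

end Groth.Agent.S12164
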