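import Groth.Statements.S12166
import Groth.Agent.H11QMap.Global

set_option autoImplicit false
universe u
open CategoryTheory CategoryTheory.Limits AlgebraicGeometry TopologicalSpace Opposite
open scoped HomogeneousIdeal
noncomputable section
open EGA2

namespace Groth.Agent.S12166

/-- Let φ : 𝒜 → ℬ be a graded homomorphism of quasi-coherent positively graded O_Y-algebras which is a
(TN)-isomorphism (φ : 𝒜_k → ℬ_k bijective for all large k, on sections over affine opens), PA =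
Proj(𝒜), PB = Proj(ℬ) with their charts. Then Proj(φ) is defined on all of PB and is an isomorphism
PB → PA. -/
theorem result {Y PA PB : Scheme.{u}} (𝒜 ℬ : RelProj.QCGrAlg Y)
    (φ : 𝒜.toQCAlg ⟶ ℬ.toQCAlg) (hφ : RelProj.IsGradedHom φ)
    (hTN : ∃ n : ℕ, ∀ k, n ≤ k → ∀ (U : Y.Opens) (hU : IsAffineOpen U),
      (∀ x ∈ 𝒜.deg U hU k, (φ.hom.app (op U)).hom x = 0 → x = 0) ∧
        ∀ y ∈ ℬ.deg U hU k, ∃ x ∈ 𝒜.deg U hU k, (φ.hom.app (op U)).hom x = y)
    (pA : PA ⟶ Y) (chartA : ∀ (U : Y.Opens) (hU : IsAffineOpen U), (((pA ⁻¹ᵁ U : PA.Opens) : Scheme.{u}) ≅ Proj (𝒜.deg U hU)))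
    (hA : RelProj.IsRelProj 𝒜 pA chartA)
    (pB : PB ⟶ Y) (chartB : ∀ (U : Y.Opens) (hU : IsAffineOpen U), (((pB ⁻¹ᵁ U : PB.Opens) : Scheme.{u}) ≅ Proj (ℬ.deg U hU)))
    (hB : RelProj.IsRelProj ℬ pB chartB) :
    RelProj.domQ (RelProj.QGrHom.ofHom φ hφ) pB chartB = ⊤ ∧
      ∀ h : PB ⟶ PA, RelProj.IsProjQMap (RelProj.QGrHom.ofHom φ hφ) pA chartA pB chartB h → IsIso h := by
  obtain ⟨n, hn⟩ := hTN
  have hs : ∀ k, n ≤ k → ∀ (U : Y.Opens) (hU : IsAffineOpen U),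
      Set.SurjOn (RelProj.gradedHomAt φ hφ U hU) (𝒜.deg U hU k) (ℬ.deg U hU k) := fun k hk U hU y hy => by
    obtain ⟨x, hx, e⟩ := (hn k hk U hU).2 y hy
    exact ⟨x, hx, e⟩
  refine ⟨H11QMap.domQ_eq_top_of_surjOn φ hφ hs, fun h hh => ?_⟩
  refine H11QMap.property_of_on _ chartA chartB hh (Q := MorphismProperty.isomorphisms Scheme) fun r hr => ?_
  refine H11QMap.qmap_of_charts φ hφ hA hB hr (Q := MorphismProperty.isomorphisms Scheme) fun U hU d hd f hf => ?_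
  have hb : ∀ k, n ≤ k → Set.BijOn ((RelProj.QGrHom.ofHom φ hφ).gradedAt U hU U hU le_rfl)
      (𝒜.deg U hU k) (ℬ.deg U hU k) := fun k hk => by
    refine ⟨fun x hx => GradedRingHom.map_mem _ hx, fun x hx x' hx' e => ?_, H11QMap.surjOn_ofHom φ hφ hs U hU k hk⟩
    rw [H11QMap.ofHom_gradedAt_eq, H11QMap.ofHom_gradedAt_eq] at e
    exact sub_eq_zero.1 ((hn k hk U hU).1 _ (sub_mem hx hx') (by rw [map_sub]; exact sub_eq_zero.2 e))
  have : IsIso (CommRingCat.ofHom (HomogeneousLocalization.Away.map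
      ((RelProj.QGrHom.ofHom φ hφ).gradedAt U hU U hU le_rfl) f)) :=
    (ConcreteCategory.isIso_iff_bijective _).2 (H11Proj.away_map_bijective_of_bijOn _ hb hd hf)
  exact (inferInstance : IsIso (Spec.map (CommRingCat.ofHom (HomogeneousLocalization.Away.map
      ((RelProj.QGrHom.ofHom φ hφ).gradedAt U hU U hU le_rfl) f))))

end Groth.Agent.S12166
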