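import Groth.Statements.S12187
import Groth.Agent.H9Hens.GlueAlg
-- import your own Groth.Agent.* helpers here

set_option autoImplicit false
universe u
open TensorProduct
open EtAlg

namespace Groth.Agent.S12187

attribute [local instance] Algebra.TensorProduct.rightAlgebra
open scoped TensorProduct

/-- Glueing along a glueing pair detects finite morphisms of affine schemes, stated for coordinate
rings. Let (R → R', f) be a glueing pair and φ : A → B a homomorphism of R-algebras with A and B
glueable as R-modules. Then φ is finite exactly when both induced maps A_f → B_f and R' ⊗_R A → R'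
⊗_R B are finite. -/
theorem result (R : Type u) [CommRing R] (R' : Type u) [CommRing R'] [Algebra R R'] (f : R)
    (hRR' : EtGlue.IsGlueingPair R R' f) (A B : Type u) [CommRing A] [Algebra R A] [CommRing B] [Algebra R B]
    (hA : EtGlue.IsGlueable R R' f A) (hB : EtGlue.IsGlueable R R' f B) (φ : A →ₐ[R] B) :
    φ.toRingHom.Finite ↔ (Localization.awayMap φ.toRingHom (algebraMap R A f)).Finite ∧
      (Algebra.TensorProduct.map (AlgHom.id R R') φ).toRingHom.Finite := by
  refine H9Hens.Glue.detect (f := f) A B φ (fun g => g.Finite) RingHom.finite_isStableUnderBaseChange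
    RingHom.finite_respectsIso fun C _ _ h' h₁ => ?_
  haveI := RingHom.finite_algebraMap.mp h'
  haveI := RingHom.finite_algebraMap.mp h₁
  exact RingHom.finite_algebraMap.mpr
    (H9Hens.Glue.finite_of_baseChange (H9Hens.Glue.cong_tensor A hRR'.1) C)

end Groth.Agent.S12187
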