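import Groth.Statements.S12192
import Groth.Agent.H13AlgSp.ModifGlue

set_option autoImplicit false
universe u
open CategoryTheory CategoryTheory.Limits AlgebraicGeometry
open AlgSp

namespace Groth.Agent.S12192

/-- Let f : Y' → Y be a proper morphism between algebraic spaces over the scheme S, i : Z → Y a closed
immersion, E = Z ×_Y Y', and assume f is an isomorphism over the open complement of Z. Let V₁, V₂ be
etale over Y, with base changes V₁', V₂' to Y' and W₁, W₂ to Z, and let P₁ be the base change of V₁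
to E (through both V₁' and W₁). Then a morphism m' : V₁' → V₂' over Y' and a morphism n : W₁ → W₂
over Z inducing the same morphism P₁ → V₂ are the base changes of exactly one morphism V₁ → V₂ over
Y. (The published statement asserts that the functor sending a space etale over Y to its base
changes to Y' and to Z, glued along E, is an equivalence of categories onto such glueing data; this
row states that it is fully faithful.) -/
theorem result {S : Scheme.{u}}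
    {Y Y' Z E U U' V₁ V₂ V₁' V₂' W₁ W₂ P₁ : AlgSp.Space S} (f : Y' ⟶ Y)
    (hf : AlgSp.IsProperMor f.hom) (i : Z ⟶ Y) (hi : AlgSp.RepWith @IsClosedImmersion i.hom) (j : E ⟶ Y')
    (g : E ⟶ Z) (hE : IsPullback j.hom g.hom f.hom i.hom) (jU : U ⟶ Y)
    (hjU : AlgSp.RepWith @IsOpenImmersion jU.hom)
    (hU : Set.range (AlgSp.Points.map jU.hom) = (Set.range (AlgSp.Points.map i.hom))ᶜ) (fU : U' ⟶ U)
    (jU' : U' ⟶ Y') (hU' : IsPullback jU'.hom fU.hom f.hom jU.hom) [IsIso fU]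
    (v₁ : V₁ ⟶ Y) (v₂ : V₂ ⟶ Y) (hv₁ : AlgSp.IsEtaleMor v₁.hom) (hv₂ : AlgSp.IsEtaleMor v₂.hom)
    (a₁ : V₁' ⟶ V₁) (p₁ : V₁' ⟶ Y') (ha₁ : IsPullback a₁.hom p₁.hom v₁.hom f.hom)
    (a₂ : V₂' ⟶ V₂) (p₂ : V₂' ⟶ Y') (ha₂ : IsPullback a₂.hom p₂.hom v₂.hom f.hom)
    (b₁ : W₁ ⟶ V₁) (q₁ : W₁ ⟶ Z) (hb₁ : IsPullback b₁.hom q₁.hom v₁.hom i.hom)
    (b₂ : W₂ ⟶ V₂) (q₂ : W₂ ⟶ Z) (hb₂ : IsPullback b₂.hom q₂.hom v₂.hom i.hom)
    (r₁ : P₁ ⟶ V₁') (s₁ : P₁ ⟶ W₁) (e₁ : P₁ ⟶ E)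
    (hr₁ : IsPullback r₁.hom e₁.hom p₁.hom j.hom) (hs₁ : IsPullback s₁.hom e₁.hom q₁.hom g.hom)
    (hP₁ : r₁ ≫ a₁ = s₁ ≫ b₁)
    (m' : V₁' ⟶ V₂') (hm' : m' ≫ p₂ = p₁) (n : W₁ ⟶ W₂) (hn : n ≫ q₂ = q₁)
    (hmn : r₁ ≫ m' ≫ a₂ = s₁ ≫ n ≫ b₂) :
    ∃! m : V₁ ⟶ V₂, m ≫ v₂ = v₁ ∧ a₁ ≫ m = m' ≫ a₂ ∧ b₁ ≫ m = n ≫ b₂ := by
  haveI : IsIso fU.hom := inferInstanceAs (IsIso ((ObjectProperty.ι _).map fU))
  have hμ : (m' ≫ a₂).hom ≫ v₂.hom = p₁.hom ≫ f.hom := by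
    rw [ObjectProperty.FullSubcategory.comp_hom, Category.assoc, ha₂.w, ← Category.assoc,
      ← ObjectProperty.FullSubcategory.comp_hom, hm']
  have hν : (n ≫ b₂).hom ≫ v₂.hom = q₁.hom ≫ i.hom := by
    rw [ObjectProperty.FullSubcategory.comp_hom, Category.assoc, hb₂.w, ← Category.assoc,
      ← ObjectProperty.FullSubcategory.comp_hom, hn]
  obtain ⟨m, ⟨h1, h2, h3⟩, hu⟩ := Groth.Agent.H13AlgSp.ModifGlue.existsUnique_hom Y.property Y'.property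
    Z.property V₁.property V₂.property V₁'.property W₁.property hf.2.2 hi hE hjU hU hU'
    (Groth.Agent.H12AlgSp.locP_etale_of_isEtaleMor hv₁) (Groth.Agent.H12AlgSp.locP_etale_of_isEtaleMor hv₂)
    ha₁ hb₁ hr₁ hs₁ (congrArg (·.hom) hP₁) _ hμ _ hν (congrArg (·.hom) hmn)
  refine ⟨ObjectProperty.homMk m, ⟨ObjectProperty.hom_ext _ h1, ObjectProperty.hom_ext _ h2,
    ObjectProperty.hom_ext _ h3⟩, fun y hy => ObjectProperty.hom_ext _ (hu y.hom ⟨congrArg (·.hom) hy.1,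
      congrArg (·.hom) hy.2.1, congrArg (·.hom) hy.2.2⟩)⟩

end Groth.Agent.S12192
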