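import Groth.Statements.S12193
import Groth.Agent.H12AlgSp.SchImageApps
import Groth.Agent.H12AlgSp.LocPCancel

set_option autoImplicit false
universe u
open CategoryTheory CategoryTheory.Limits AlgebraicGeometry
open AlgSp

namespace Groth.Agent.S12193

variable {S : Scheme.{u}}

theorem isReducedSp_bc {F G F' G' : AlgSp.Sp S} {fst : F' ⟶ F} {snd : F' ⟶ G'} {f : F ⟶ G} {b : G' ⟶ G}
    (sq : IsPullback fst snd f b) (hF : AlgSp.IsAlgSpace F) (hG : AlgSp.IsAlgSpace G)
    (hG' : AlgSp.IsAlgSpace G') (hF' : AlgSp.IsAlgSpace F') (hb : AlgSp.IsEtaleMor b)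
    (hred : AlgSp.IsReducedSp F) : AlgSp.IsReducedSp F' := by
  have he : AlgSp.IsEtaleMor fst := H12AlgSp.isEtaleMor_of_locP_etale hF
    (H12AlgSp.locP_of_isPullback H12AlgSp.etLocal_etale sq.flip hG' hG hF
      (H12AlgSp.locP_etale_of_isEtaleMor hb))
  obtain ⟨W, q, hq, hqs⟩ := hF'.atlas
  exact ⟨W, q, hq, hqs, H12AlgSp.isReduced_of_chart hF hred (he q hq)⟩


/-- Let X be a reduced algebraic space over S, f : X → Y a morphism of algebraic spaces over S, and Z →
Y the scheme theoretic image of f. Then forming the scheme theoretic image commutes with etale base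
change: for every etale morphism V → Y of algebraic spaces and cartesian squares X ×_Y V, Z ×_Y V,
the closed subspace Z ×_Y V → V is the scheme theoretic image of X ×_Y V → V. -/
theorem result {S : Scheme.{u}} {X Y Z V XV ZV : AlgSp.Space S} (f : X ⟶ Y)
    (i : Z ⟶ Y) (hX : AlgSp.IsReducedSp X.obj) (hZ : AlgSp.IsSchImage f.hom i.hom) (b : V ⟶ Y)
    (hb : AlgSp.IsEtaleMor b.hom) (f₁ : XV ⟶ X) (fV : XV ⟶ V) (i₁ : ZV ⟶ Z) (iV : ZV ⟶ V)
    (sqX : IsPullback f₁.hom fV.hom f.hom b.hom) (sqZ : IsPullback i₁.hom iV.hom i.hom b.hom) :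
    AlgSp.IsSchImage fV.hom iV.hom := by
  have hZr := H12AlgSp.isRedInduced_schImage X.property Y.property hX Z.property hZ
  obtain ⟨f', hf'⟩ := hZ.2.1
  have hiV : AlgSp.RepWith @IsClosedImmersion iV.hom := H12AlgSp.repWith_of_isPullback sqZ hZ.1
  refine ⟨hiV, ⟨sqZ.lift (f₁.hom ≫ f') fV.hom (by rw [Category.assoc, hf', sqX.w]), sqZ.lift_snd _ _ _⟩,
    fun Z' i' hZ' hi' hfac => ?_⟩
  refine H12AlgSp.exists_factor_of_reduced ZV.property V.property
    (isReducedSp_bc sqZ Z.property Y.property V.property ZV.property hb hZr.2.2) hi' iV.hom ?_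
  rw [H12AlgSp.range_snd_of_isPullback sqZ, hZr.2.1,
    (H12AlgSp.isOpenMap_map_of_isEtaleMor V.property hb).preimage_closure_eq_closure_preimage
      (AlgSp.Points.continuous_map _), ← H12AlgSp.range_snd_of_isPullback sqX]
  refine closure_minimal ?_ (H12AlgSp.isRedInduced_schImage.isEmbedding_closed V.property hi')
  obtain ⟨k, hk⟩ := hfac
  rintro _ ⟨x, rfl⟩
  exact ⟨AlgSp.Points.map k x, by rw [← AlgSp.Points.map_comp, hk]⟩

end Groth.Agent.S12193
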