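import Groth.Statements.S12195
import Groth.Agent.H13Inf.Converse

set_option autoImplicit false
universe u
open CategoryTheory CategoryTheory.Limits AlgebraicGeometry
open AlgSp

namespace Groth.Agent.S12195

open Groth.Agent.H13Inf
set_option backward.isDefEq.respectTransparency false


/-- Let a : F ⟶ G be a representable, surjective and etale morphism of fppf sheaves on (Sch/S) and b : G
⟶ H a morphism such that a ≫ b is formally smooth. Consider a solid infinitesimal lifting square for
b: a square-zero thickening T = Spec (A/I) ⊂ T' = Spec A of affine schemes over S, a morphism T ⟶ G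
and a morphism T' ⟶ H making the square commute. Then for every point t of T' there exist an affine
scheme U', an etale morphism U' ⟶ T' whose image contains t, and a morphism U' ⟶ G lying over T' ⟶ H
whose restriction to T ×_{T'} U' agrees with the given T ⟶ G (stated for every scheme V mapping
compatibly to T and U'). (The published statement is for transformations of arbitrary presheaves of
sets on (Sch/S)_fppf; this row takes fppf sheaves, the case of algebraic spaces.) -/
theorem result {S : Scheme.{u}} {F G H : AlgSp.Sp S} (a : F ⟶ G)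
    (b : G ⟶ H) (ha : AlgSp.RepWith @Etale a) (ha' : AlgSp.RepWith @Surjective a)
    (hab : AlgSp.IsFormallySmoothMor (a ≫ b)) (sq : AlgSp.InfSq b) (t : ↥sq.ptT'.left) :
    ∃ (U' : Over S) (g : U' ⟶ sq.ptT') (l : (AlgSp.yon S).obj U' ⟶ G),
      IsAffine U'.left ∧ Etale g.left ∧ (∃ u : ↥U'.left, g.left u = t) ∧
        l ≫ b = (AlgSp.yon S).map g ≫ sq.bot ∧
          ∀ (V : Over S) (p : V ⟶ sq.ptT) (q : V ⟶ U'), p ≫ sq.j = q ≫ g →
            (AlgSp.yon S).map q ≫ l = (AlgSp.yon S).map p ≫ sq.top := by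
  obtain ⟨V0, v0, fst0, pb⟩ := ha.1 sq.top
  have : Etale v0.left := ha.2 _ _ _ pb
  have : Surjective v0.left := ha'.2 _ _ _ pb
  have := isClosedImmersion_j sq
  obtain ⟨t0, rfl⟩ := surjective_j sq t
  obtain ⟨x, rfl⟩ := v0.left.surjective t0
  obtain ⟨V, q, U, jU, aU, haff, hq, hj, hx, sqU⟩ := Groth.Agent.H18Et.exists_etale_lift_closed sq.j.left v0.left x
  obtain ⟨y, hy⟩ := hx
  let C : Over S := Over.mk (q ≫ sq.str)
  let c : C ⟶ sq.ptT' := Over.homMk q rfl
  let U₁ : Over S := Over.mk (aU ≫ q ≫ sq.str)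
  let j' : U₁ ⟶ C := Over.homMk aU rfl
  let w₀ : U₁ ⟶ V0 := Over.homMk jU (by
    show jU ≫ V0.hom = aU ≫ q ≫ sq.str
    rw [← Category.assoc aU, sqU.w, Category.assoc, Category.assoc, ← Over.w v0]
    rfl)
  have hsq : IsPullback (w₀ ≫ v0) j' sq.j c :=
    IsPullback.of_map (Over.forget S) (Over.OverMorphism.ext sqU.w.symm) sqU.flip
  have sqy := hsq.map (yon S)
  have hgood : Good ((yon S).map j') (𝟙 ((yon S).obj C)) :=
    Good.of_isPullback sqy (by rw [Category.id_comp]; exact good_infSq sq c)
  haveI : IsAffine C.left := haff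
  let e : Over.mk (C.left.isoSpec.inv ≫ C.hom) ⟶ C := Over.homMk C.left.isoSpec.inv rfl
  obtain ⟨K, t', hK, sqK⟩ := hgood Γ(C.left, ⊤) _ e (inferInstanceAs (IsOpenImmersion C.left.isoSpec.inv))
  rw [Category.comp_id] at sqK
  have w : ((yon S).map w₀ ≫ fst0) ≫ a ≫ b = (yon S).map j' ≫ (yon S).map c ≫ sq.bot := by
    rw [Category.assoc, ← Category.assoc fst0, pb.w, Category.assoc, sq.comm, ← Category.assoc,
      ← Category.assoc, ← Category.assoc, ← Functor.map_comp]
    exact congrArg (· ≫ sq.bot) sqy.w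
  obtain ⟨m, hm1, hm2⟩ := hab (pieceSq (f := a ≫ b) (top := (yon S).map w₀ ≫ fst0)
    (bot := (yon S).map c ≫ sq.bot) hK w sqK)
  haveI := hq
  refine ⟨Over.mk (C.left.isoSpec.inv ≫ C.hom), e ≫ c, m ≫ a, inferInstanceAs (IsAffine (Spec _)),
    inferInstanceAs (Etale (C.left.isoSpec.inv ≫ q)), ⟨C.left.isoSpec.hom (aU y), ?_⟩, ?_, fun W p r hpr => ?_⟩
  · show (C.left.isoSpec.hom ≫ C.left.isoSpec.inv ≫ q) (aU y) = _
    rw [C.left.isoSpec.hom_inv_id_assoc]
    show (aU ≫ q) y = _
    rw [sqU.w]
    simp only [Scheme.Hom.comp_apply]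
    exact congrArg sq.j.left (congrArg v0.left hy)
  · rw [Category.assoc]
    refine hm2.trans ?_
    rw [Functor.map_comp, Category.assoc]
  · have hl := isLift_of_piece (f := a ≫ b) (top := (yon S).map w₀ ≫ fst0) (bot := (yon S).map c ≫ sq.bot)
      sqK hm1 (hm2.trans (by rfl))
    have he : (yon S).map p ≫ (yon S).map sq.j = ((yon S).map r ≫ (yon S).map e) ≫ (yon S).map c := by
      rw [← Functor.map_comp, ← Functor.map_comp, ← Functor.map_comp, hpr, Category.assoc]
    rw [← Category.assoc, hl.restrict W r (sqy.lift ((yon S).map p) ((yon S).map r ≫ (yon S).map e) he)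
      (by rw [sqy.lift_snd])]
    simp only [Category.assoc]
    rw [pb.w, ← Category.assoc ((yon S).map w₀), ← Functor.map_comp (yon S) w₀ v0, ← Category.assoc, sqy.lift_fst]

end Groth.Agent.S12195
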