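import Groth.Statements.S12196
import Groth.Agent.H13AlgSp.CohDim

set_option autoImplicit false
universe u
open CategoryTheory CategoryTheory.Limits AlgebraicGeometry Opposite
open AlgSp

namespace Groth.Agent.S12196

open Groth.Agent


/-- Let X be a quasi-compact algebraic space, quasi-separated over a quasi-separated base scheme S. Then
there is an integer n, depending only on X, such that H^q(X, M) = 0 for every quasi-coherent
O_X-module M on the small etale site of X and every q ≥ n. (The published statement moreover
produces the bound from an affine etale surjective chart U → X with fibre degree d and affine etale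
surjective charts of the quotients U_p with fibre degrees d_p, as max(d_p + p); this row asserts
only that a bound exists. Quasi-separatedness is taken relative to S together with S
quasi-separated, which gives the absolute notion.) -/
theorem result {S : Scheme.{u}} [QuasiSeparatedSpace ↥S] (X : AlgSp.Space S)
    (hqc : AlgSp.IsQuasiCompactSp X.obj) (hqs : AlgSp.IsQuasiSeparatedSp X.obj) :
    ∃ n : ℕ, ∀ (M : AlgSp.ModEt X.obj), M.IsQuasicoherent → ∀ q : ℕ, n ≤ q →
      Subsingleton (AlgSp.HModEt X.obj M q) := by
  exact H13AlgSp.ZFree.exists_bound X hqc hqs

end Groth.Agent.S12196
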