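import Groth.Statements.S12199
import Groth.Agent.H12AlgSp.OpenLoci

set_option autoImplicit false
universe u
open CategoryTheory CategoryTheory.Limits AlgebraicGeometry MonoidalCategory MonObj
open AlgSp

namespace Groth.Agent.S12199

open Groth.Agent.H12AlgSp
set_option backward.isDefEq.respectTransparency false

theorem comp_inv' {C : Type*} [Category* C] [CartesianMonoidalCategory C] {X Y G : C} [GrpObj G]
    (f : X ⟶ Y) (g : Y ⟶ G) :
    letI : Group (Y ⟶ G) := Hom.group
    letI : Group (X ⟶ G) := Hom.group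
    f ≫ g⁻¹ = (f ≫ g)⁻¹ := (Category.assoc f g _).symm

theorem exists_shear {S : Scheme.{u}} {B : AlgSp.Sp S} (G : Over B) [GrpObj G] :
    ∃ m : pullback G.hom G.hom ⟶ G.left, IsPullback m (pullback.fst _ _) G.hom G.hom ∧
      (G.hom ≫ (η[G]).left) = pullback.lift (𝟙 G.left) (𝟙 G.left) rfl ≫ m := by
  letI : Group (G ⊗ G ⟶ G) := Hom.group
  letI : Group (G ⟶ G) := Hom.group
  let p : G ⊗ G ⟶ G := CartesianMonoidalCategory.fst G G
  let q : G ⊗ G ⟶ G := CartesianMonoidalCategory.snd G G
  let Φ : G ⊗ G ≅ G ⊗ G :=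
    { hom := CartesianMonoidalCategory.lift p (p⁻¹ * q)
      inv := CartesianMonoidalCategory.lift p (p * q)
      hom_inv_id := by
        apply CartesianMonoidalCategory.hom_ext
        · simp [p]
        · simp [p, q, MonObj.comp_mul, comp_inv']
      inv_hom_id := by
        apply CartesianMonoidalCategory.hom_ext
        · simp [p]
        · simp [p, q, MonObj.comp_mul, comp_inv'] }
  refine ⟨(p⁻¹ * q).left, ?_, ?_⟩
  · refine IsPullback.of_iso (IsPullback.of_hasPullback G.hom G.hom).flip
      ((Over.forget B).mapIso Φ.symm) (Iso.refl _) (Iso.refl _) (Iso.refl _) ?_ ?_ (by simp) (by simp)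
    · have h : Φ.inv ≫ (p⁻¹ * q) = q := by
        simp [Φ, p, q, MonObj.comp_mul, comp_inv']
      exact (Category.comp_id _).trans (congrArg (fun t => Over.Hom.left t) h).symm
    · have h : Φ.inv ≫ p = p := by simp [Φ, p]
      exact (Category.comp_id _).trans (congrArg (fun t => Over.Hom.left t) h).symm
  · have h : CartesianMonoidalCategory.lift (𝟙 G) (𝟙 G) ≫ (p⁻¹ * q) = (1 : G ⟶ G) := by
      simp [p, q, MonObj.comp_mul, comp_inv']
    exact ((congrArg (fun t => Over.Hom.left t) h).trans (congrArg (fun t => Over.Hom.left t) (Hom.one_def (X := G) (M := G)))).symm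

theorem key {S : Scheme.{u}} {B : AlgSp.Sp S} (hB : AlgSp.IsAlgSpace B)
    (G : Over B) [GrpObj G] (hG : AlgSp.IsAlgSpace G.left)
    {P : MorphismProperty Scheme.{u}} (hP : EtLocal P) [IsZariskiLocalAtSource P]
    (hbc : ∀ {X Y Y' X' : AlgSp.Sp S} {f : X ⟶ Y} {g : Y' ⟶ Y} {fst : X' ⟶ X} {f' : X' ⟶ Y'}
      (_ : IsPullback fst f' f g), AlgSp.IsAlgSpace X → AlgSp.IsAlgSpace Y → AlgSp.IsAlgSpace Y' →
      AlgSp.LocP @LocallyOfFiniteType f → ∀ x' : AlgSp.Points X',
      (AlgSp.HasAtMor (nbhdProp P) f' x' ↔ AlgSp.HasAtMor (nbhdProp P) f (AlgSp.Points.map fst x')))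
    (hlft : AlgSp.LocP @LocallyOfFiniteType G.hom) :
    AlgSp.LocP P G.hom ↔
      ∀ b : AlgSp.Points B, AlgSp.HasAtMor (nbhdProp P) G.hom (AlgSp.Points.map (η[G]).left b) := by
  rw [locP_iff_forall_nbhd hP hG hB]
  refine ⟨fun h b => h _, fun h g => ?_⟩
  obtain ⟨m, sq, hm⟩ := exists_shear G
  let δ : G.left ⟶ pullback G.hom G.hom := pullback.lift (𝟙 _) (𝟙 _) rfl
  have h1 : AlgSp.HasAtMor (nbhdProp P) (pullback.fst G.hom G.hom) (AlgSp.Points.map δ g) := by
    rw [hbc sq hG hB hG hlft, ← AlgSp.Points.map_comp, ← hm, AlgSp.Points.map_comp]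
    exact h _
  rw [hbc (IsPullback.of_hasPullback G.hom G.hom).flip hG hB hG hlft, ← AlgSp.Points.map_comp,
    pullback.lift_snd, AlgSp.Points.map_id] at h1
  exact h1


/-- Let B be an algebraic space over S and G a group algebraic space over B with unit section e : B → G,
and suppose G is locally of finite type over B. Under this assumption, G → B is unramified exactly
when it is unramified at e(b) for every point b of |B|, and G → B is locally quasi-finite exactly
when it is quasi-finite at e(b) for every point b of |B|. Here 'unramified (resp. quasi-finite) at a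
point' is the some-chart-diagram form: there are etale charts of G and B and a compatible morphism
of schemes which is unramified (resp. locally quasi-finite of finite type) on an open neighbourhood
of a point over e(b). -/
theorem result (S : Scheme.{u}) (B : AlgSp.Sp S) (hB : AlgSp.IsAlgSpace B)
    (G : Over B) [GrpObj G] (hG : AlgSp.IsAlgSpace G.left) (hlft : AlgSp.LocP @LocallyOfFiniteType G.hom) :
    (AlgSp.LocP (@LocallyOfFiniteType ⊓ @FormallyUnramified) G.hom ↔
        ∀ b : AlgSp.Points B, AlgSp.HasAtMor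
          (fun U _ h u => ∃ W : U.Opens, u ∈ W ∧ LocallyOfFiniteType (W.ι ≫ h) ∧ FormallyUnramified (W.ι ≫ h))
          G.hom (AlgSp.Points.map (η[G]).left b)) ∧
    (AlgSp.LocP (@LocallyQuasiFinite ⊓ @LocallyOfFiniteType) G.hom ↔
        ∀ b : AlgSp.Points B, AlgSp.HasAtMor
          (fun U _ h u => ∃ W : U.Opens, u ∈ W ∧ LocallyQuasiFinite (W.ι ≫ h) ∧ LocallyOfFiniteType (W.ι ≫ h))
          G.hom (AlgSp.Points.map (η[G]).left b)) := by
  exact ⟨key hB G hG (etLocal_inf etLocal_lft etLocal_formallyUnramified)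
      (fun sq hX hY hY' hf x => nbhd_unramified_baseChange sq hX hY hY' hf x) hlft,
    key hB G hG (etLocal_inf etLocal_lqf etLocal_lft)
      (fun sq hX hY hY' hf x => nbhd_lqf_baseChange sq hX hY hY' hf x) hlft⟩

end Groth.Agent.S12199
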