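import Groth.Statements.S12208
import Groth.Agent.H05EGA4.IntegralDim
import Groth.Agent.H3CAlg.NoetherNorm
import Mathlib.RingTheory.KrullDimension.Polynomial
import Mathlib.RingTheory.RegularLocalRing.Defs
import Mathlib.RingTheory.SimpleRing.Principal
import Mathlib.RingTheory.TotallySplit

set_option autoImplicit false
universe u
open CAlg

namespace Groth.Agent.S12208

/-- Let k be a field and S = k[x_1, …, x_n]/I with I a proper ideal. Then there exist r ≥ 0 and elements
y_1, …, y_r of k[x_1, …, x_n] lying in the subring generated by x_1, …, x_n (polynomials with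
integer coefficients) such that the k-algebra map from the polynomial ring k[t_1, …, t_r] to S
sending t_i to the class of y_i is injective and finite; and for any r ≥ 0 and any y_1, …, y_r in
k[x_1, …, x_n] (with or without the integer-coefficient condition) for which that map is injective
and finite, r is the Krull dimension of S. -/
theorem result (k : Type u) [Field k] (n : ℕ) (I : Ideal (MvPolynomial (Fin n) k))
    (hI : I ≠ ⊤) :
    (∃ (r : ℕ) (y : Fin r → MvPolynomial (Fin n) k),
      (∀ i, y i ∈ Set.range (MvPolynomial.map (Int.castRingHom k) : MvPolynomial (Fin n) ℤ → MvPolynomial (Fin n) k)) ∧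
      Function.Injective ((Ideal.Quotient.mkₐ k I).comp (MvPolynomial.aeval y)) ∧
      ((Ideal.Quotient.mkₐ k I).comp (MvPolynomial.aeval y)).toRingHom.Finite) ∧
    ∀ (r : ℕ) (y : Fin r → MvPolynomial (Fin n) k),
      Function.Injective ((Ideal.Quotient.mkₐ k I).comp (MvPolynomial.aeval y)) →
      ((Ideal.Quotient.mkₐ k I).comp (MvPolynomial.aeval y)).toRingHom.Finite →
      ringKrullDim (MvPolynomial (Fin n) k ⧸ I) = r := by
  refine ⟨?_, fun r y hinj hfin ↦ ?_⟩
  · obtain ⟨r, y, h1, h2, h3⟩ := Groth.Agent.H3CAlg.NoetherNorm.exists_int_coords n I hI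
    refine ⟨r, y, h1, h2, ?_⟩
    have h : algebraMap k (MvPolynomial (Fin n) k ⧸ I) =
        ((Ideal.Quotient.mkₐ k I).comp (MvPolynomial.aeval y)).toRingHom.comp (algebraMap k (MvPolynomial (Fin r) k)) :=
      RingHom.ext fun a ↦ (((Ideal.Quotient.mkₐ k I).comp (MvPolynomial.aeval y)).commutes a).symm
    exact h3.to_finite (h ▸ RingHom.finiteType_algebraMap.mpr inferInstance).of_comp_finiteType
  · let g := ((Ideal.Quotient.mkₐ k I).comp (MvPolynomial.aeval y)).toRingHom
    have h2 : g.IsIntegral := hfin.to_isIntegral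
    letI := g.toAlgebra
    rw [(@Groth.Agent.H05EGA4.dim_int (MvPolynomial (Fin r) k) (MvPolynomial (Fin n) k ⧸ I) _ _ g.toAlgebra ⟨h2⟩).2 hinj,
      MvPolynomial.ringKrullDim_of_isNoetherianRing, ringKrullDim_eq_zero_of_field, zero_add, Nat.card_fin]

end Groth.Agent.S12208
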