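import Groth.Statements.S12209
import Groth.Agent.H3CAlg.Coherent
import Mathlib.Algebra.Colimit.Ring
import Mathlib.RingTheory.Filtration
import Mathlib.RingTheory.Flat.EquationalCriterion
import Mathlib.RingTheory.Ideal.AssociatedPrime.Basic
import Mathlib.RingTheory.LocalRing.ResidueField.Basic

set_option autoImplicit false
universe u
open CAlg

namespace Groth.Agent.S12209

/-- Let (R_i) be a system of commutative rings over a nonempty directed preorder, with colimit R, and
let M be an R-module which is flat as an R_i-module for every i (the R_i-module structure being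
restriction of scalars along R_i → R). Then M is flat as an R-module. -/
theorem result {ι : Type u} [Preorder ι] [Nonempty ι] [IsDirectedOrder ι]
    (G : ι → Type u) [∀ i, CommRing (G i)] (f : ∀ i j, i ≤ j → G i →+* G j)
    [DirectedSystem G fun i j h => f i j h]
    (M : Type u) [AddCommGroup M] [Module (Ring.DirectLimit G fun i j h => f i j h) M]
    (hflat : ∀ i, letI : Module (G i) M := Module.compHom M (Ring.DirectLimit.of G (fun i j h => f i j h) i);
      Module.Flat (G i) M) :
    Module.Flat (Ring.DirectLimit G fun i j h => f i j h) M := by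
  rw [Module.Flat.iff_forall_isTrivialRelation]
  intro l f₀ x hfx
  classical
  obtain ⟨i, g, hg⟩ : ∃ (i : ι) (g : Fin l → G i), ∀ k, Ring.DirectLimit.of G (fun i j h => f i j h) i (g k) = f₀ k := by
    choose j y hy using fun k => Ring.DirectLimit.exists_of (G := G) (f := fun i j h => f i j h) (f₀ k)
    obtain ⟨i, hi⟩ := (Finset.univ.image j).exists_le
    exact ⟨i, fun k => f (j k) i (hi _ (Finset.mem_image_of_mem _ (Finset.mem_univ k))) (y k),
      fun k => (Ring.DirectLimit.of_f _ _).trans (hy k)⟩
  letI : Module (G i) M := Module.compHom M (Ring.DirectLimit.of G (fun i j h => f i j h) i)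
  have := hflat i
  have hsm : ∀ (a : G i) (m : M), a • m = Ring.DirectLimit.of G (fun i j h => f i j h) i a • m := fun _ _ => rfl
  obtain ⟨κ, a, y, hy, ha⟩ := Module.Flat.isTrivialRelation_of_sum_smul_eq_zero (R := G i)
    (f := g) (x := x) (by simpa [hsm, hg] using hfx)
  refine ⟨κ, fun k j => Ring.DirectLimit.of G (fun i j h => f i j h) i (a k j), y, fun k => (hy k), fun j => ?_⟩
  have := congrArg (Ring.DirectLimit.of G (fun i j h => f i j h) i) (ha j)
  simpa [map_sum, hg] using this

end Groth.Agent.S12209
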