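import Groth.Statements.S12214
import Groth.Agent.H06EGA11.Loc
import Groth.Agent.H7Flat.FlatSpread
-- import your own Groth.Agent.* helpers here

set_option autoImplicit false
universe u
open FlatMor

namespace Groth.Agent.S12214

/-- Let R → S be a ring map of finite presentation, M a finite S-module, and assume R has finitely many
weakly associated primes. Then for every g ∈ S whose basic open D(g) is contained in the flat locus
U = {q : M_q is flat over R}, the localization M_g is a finitely presented S_g-module which is flat
over R. (Openness of U is the companion statement.) -/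
theorem result {R S : Type u} [CommRing R] [CommRing S] [Algebra R S]
    [Algebra.FinitePresentation R S] (hR : (FlatCA.weakAss R R).Finite)
    (M : Type u) [AddCommGroup M] [Module S M] [Module R M] [IsScalarTower R S M] [Module.Finite S M]
    (g : S) (hg : ∀ (q : Ideal S) [q.IsPrime], g ∉ q → FlatCA.FlatAt R q M) :
    Module.FinitePresentation (Localization.Away g) (LocalizedModule (Submonoid.powers g) M) ∧
      Module.Flat R (LocalizedModule (Submonoid.powers g) M) := by
  haveI hflat : Module.Flat R (LocalizedModule (Submonoid.powers g) M) := by
    refine Groth.Agent.H06EGA11.flat_localizedModule (Submonoid.powers g) fun J x hx => ?_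
    have hrad : g ∈ (Submodule.span S {x}).annihilator.radical := by
      rw [Ideal.radical_eq_sInf, Ideal.mem_sInf]
      rintro q ⟨hq, hqp⟩
      by_contra hgq
      haveI := hqp
      haveI : Module.Flat R (LocalizedModule q.primeCompl M) := hg q hgq
      obtain ⟨t, ht, htx⟩ := Groth.Agent.H06EGA11.exists_smul_eq_zero_of_flat q.primeCompl J.subtype
        Subtype.val_injective x hx
      exact ht (hq ((Submodule.mem_annihilator_span_singleton x t).2 htx))
    obtain ⟨n, hn⟩ := hrad
    exact ⟨g ^ n, ⟨n, rfl⟩, (Submodule.mem_annihilator_span_singleton x _).1 hn⟩
  haveI : Algebra.FinitePresentation R (Localization.Away g) :=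
    Algebra.FinitePresentation.trans R S (Localization.Away g)
  exact ⟨Groth.Agent.H7Flat.FlatSpread.fp_of_flat hR (LocalizedModule (Submonoid.powers g) M), hflat⟩

end Groth.Agent.S12214
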