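import Groth.Statements.S12217
import Groth.Agent.S0343
import Groth.Agent.H4Goren.Basic
import Groth.Agent.H4Goren.Hull
import Mathlib

set_option autoImplicit false
universe u
open Curves

namespace Groth.Agent.S12217

open IsLocalRing

section

open CategoryTheory

/-- In a Gorenstein local ring, two socle elements are proportional. -/
lemma socle_cyclic (B : Type u) [CommRing B] [LocCoh.IsGorensteinLocalRing B] (v w : B) (hv : v ≠ 0)
    (hvm : ∀ a ∈ maximalIdeal B, a * v = 0) (hwm : ∀ a ∈ maximalIdeal B, a * w = 0) :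
    ∃ c : B, c * v = w := by
  obtain ⟨k, hk, -, hE⟩ := H4Goren.depth_eq_ringKrullDim B
  have h0 : LocCoh.depth B B = 0 := by
    refine (H4Depth.idealDepth_eq_zero_iff_exists_associatedPrime
      (H4Depth.maximalIdeal_smul_top_ne_top (R := B) (M := B))).2 ⟨maximalIdeal B, ?_, le_rfl⟩
    refine (isAssociatedPrime_iff).2 ⟨(maximalIdeal.isMaximal B).isPrime, v, ?_⟩
    refine ((maximalIdeal.isMaximal B).eq_of_le ?_ ?_)
    · intro htop
      have h1 : (1 : B) ∈ Submodule.colon (⊥ : Submodule B B) {v} := by rw [htop]; trivial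
      rw [Submodule.mem_colon_singleton, one_smul, Submodule.mem_bot] at h1
      exact hv h1
    · intro a ha
      rw [Submodule.mem_colon_singleton, Submodule.mem_bot]
      exact hvm a ha
  obtain rfl : k = 0 := by rw [h0] at hk; exact_mod_cast hk.symm
  have hinj := H4Goren.injective_self_of_depth_eq_zero h0 hE
  let μ : B →ₗ[B] B := LinearMap.toSpanSingleton B B v
  have hker : LinearMap.ker μ ≤ LinearMap.ker (LinearMap.toSpanSingleton B B w) := by
    intro a ha
    have ha' : a * v = 0 := by simpa [μ] using ha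
    have ham : a ∈ maximalIdeal B := by
      rw [mem_maximalIdeal]
      intro hu
      exact hv (hu.mul_right_eq_zero.1 ha')
    simpa using hwm a ham
  let φ : LinearMap.range μ →ₗ[B] B := (LinearMap.ker μ).liftQ (LinearMap.toSpanSingleton B B w) hker ∘ₗ
    μ.quotKerEquivRange.symm.toLinearMap
  obtain ⟨c, hc⟩ := Module.Injective.extension_property (inj := hinj) B B _ B
    (LinearMap.range μ).subtype Subtype.val_injective φ
  have h2 : φ ⟨μ 1, 1, rfl⟩ = w := by
    simp only [φ, LinearMap.comp_apply, LinearEquiv.coe_coe]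
    rw [show μ.quotKerEquivRange.symm ⟨μ 1, 1, rfl⟩ = Submodule.Quotient.mk 1 from
      μ.quotKerEquivRange.symm_apply_eq.2 (Subtype.ext rfl)]
    exact one_smul B w
  refine ⟨c 1, ?_⟩
  have h1 := LinearMap.congr_fun hc ⟨μ 1, 1, rfl⟩
  rw [h2, LinearMap.comp_apply, Submodule.subtype_apply] at h1
  have h1' : c (μ 1) = w := h1
  rw [show μ 1 = v • (1 : B) from by simp [μ], map_smul, smul_eq_mul] at h1'
  rw [mul_comm]; exact h1' 

end



/-- In this form A is the local ring of the curve at the point, and a Gorenstein scheme has Gorenstein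
local rings. Let k be an algebraically closed field and A a Gorenstein local ring whose completion
with respect to its maximal ideal is isomorphic to the multicross ring with n ≥ 2 branches, the
subring of (k[[t]])^n consisting of the n-tuples of power series having a common constant term. Then
n = 2: a Gorenstein multicross singularity is a node. The isomorphism is given as an injective ring
map from the completion to (k[[t]])^n with that subring as its range. -/
theorem result (k : Type u) [Field k] [IsAlgClosed k]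
    (A : Type u) [CommRing A] [LocCoh.IsGorensteinLocalRing A] (n : ℕ) (hn : 2 ≤ n)
    (φ : AdicCompletion (IsLocalRing.maximalIdeal A) A →+* (Fin n → PowerSeries k))
    (hinj : Function.Injective φ)
    (hrange : Set.range φ = {f : Fin n → PowerSeries k | ∀ i j : Fin n, PowerSeries.constantCoeff (f i) = PowerSeries.constantCoeff (f j)}) :
    n = 2 := by
  classical
  by_contra hn2
  have hn3 : 3 ≤ n := by omega
  let m := IsLocalRing.maximalIdeal A
  let ψ : A →+* (Fin n → PowerSeries k) := φ.comp (algebraMap A (AdicCompletion m A))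
  have hof : ∀ a, algebraMap A (AdicCompletion m A) a = AdicCompletion.of m A a := fun a => by
    rw [Algebra.algebraMap_eq_smul_one]
    rw [← mul_one a, ← smul_eq_mul a (1 : A), map_smul, smul_eq_mul, mul_one]
    rfl
  have hψinj : Function.Injective ψ := hinj.comp fun a b hab => by
    rw [hof, hof] at hab
    exact AdicCompletion.of_inj.1 hab
  have hmem : ∀ y, φ y ∈ {f : Fin n → PowerSeries k | ∀ i j : Fin n,
      PowerSeries.constantCoeff (f i) = PowerSeries.constantCoeff (f j)} := fun y => hrange ▸ ⟨y, rfl⟩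
  have hc0 : ∀ a ∈ m, ∀ i, PowerSeries.constantCoeff (ψ a i) = 0 := by
    intro a ha i
    by_contra hne
    have hu : ∀ j, IsUnit (ψ a j) := fun j => PowerSeries.isUnit_iff_constantCoeff.2 (by
      rw [show PowerSeries.constantCoeff (ψ a j) = PowerSeries.constantCoeff (ψ a i) from
        hmem (algebraMap A (AdicCompletion m A) a) j i]; exact isUnit_iff_ne_zero.2 hne)
    choose u hu' using hu
    obtain ⟨b, hb⟩ : (fun j => (↑(u j)⁻¹ : PowerSeries k)) ∈ Set.range φ := by
      rw [hrange]
      intro p q
      have key : ∀ j, PowerSeries.constantCoeff (↑(u j)⁻¹ : PowerSeries k) =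
          (PowerSeries.constantCoeff (ψ a j))⁻¹ := fun j => eq_inv_of_mul_eq_one_left (by
        rw [← map_mul, ← hu' j, Units.inv_mul, map_one])
      rw [key, key]
      congr 1
      exact hmem (algebraMap A (AdicCompletion m A) a) p q
    have h1 : algebraMap A (AdicCompletion m A) a * b = 1 := hinj (by
      rw [map_mul, map_one, hb]
      funext j
      show ψ a j * _ = 1
      rw [← hu' j, Units.mul_inv])
    have h2 := congrArg (AdicCompletion.evalₐ m 1) h1
    rw [map_mul, map_one, hof, AdicCompletion.evalₐ_of,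
      Ideal.Quotient.eq_zero_iff_mem.2 (by rwa [pow_one]), zero_mul] at h2
    haveI : Nontrivial (A ⧸ m ^ 1) := Ideal.Quotient.nontrivial_iff.2 (by
      rw [pow_one]; exact (IsLocalRing.maximalIdeal.isMaximal A).ne_top)
    exact zero_ne_one h2
  -- order two part
  have hker2 : ∀ y, AdicCompletion.eval m A 2 y = 0 → ∀ i, PowerSeries.coeff 1 (φ y i) = 0 := by
    intro y hy i
    have hy' : y ∈ (m ^ 2 • ⊤ : Submodule A (AdicCompletion m A)) := by
      rw [AdicCompletion.pow_smul_top_eq_ker_eval (IsNoetherian.noetherian m)]; exact hy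
    refine Submodule.smul_induction_on hy' (fun r hr z _ => ?_) (fun y z hy hz => ?_)
    · rw [Algebra.smul_def, map_mul, Pi.mul_apply]
      rw [pow_two] at hr
      refine Submodule.mul_induction_on (C := fun r => PowerSeries.coeff 1 (ψ r i * φ z i) = 0) hr
        (fun p hp q hq => ?_) (fun p q hp hq => ?_)
      · rw [map_mul ψ, Pi.mul_apply]
        obtain ⟨P, hP⟩ := PowerSeries.X_dvd_iff.2 (hc0 p hp i)
        obtain ⟨Q, hQ⟩ := PowerSeries.X_dvd_iff.2 (hc0 q hq i)
        rw [hP, hQ]
        refine PowerSeries.X_pow_dvd_iff.1 ⟨P * Q * φ z i, ?_⟩ 1 (by norm_num : 1 < 2)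
        ring
      · rw [map_add ψ, Pi.add_apply, add_mul, map_add, hp, hq, add_zero]
    · rw [map_add, Pi.add_apply, map_add, hy, hz, add_zero]
  have happrox : ∀ i : Fin n, ∃ a ∈ m, ∀ j, PowerSeries.coeff 1 (ψ a j) = if j = i then 1 else 0 := by
    intro i
    obtain ⟨y, hy⟩ : (fun j => if j = i then (PowerSeries.X : PowerSeries k) else 0) ∈ Set.range φ := by
      rw [hrange]
      intro p q
      by_cases hp : p = i <;> by_cases hq : q = i <;> simp [hp, hq]
    obtain ⟨a, ha⟩ := Submodule.Quotient.mk_surjective _ (AdicCompletion.eval m A 2 y)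
    have hd : ∀ j, PowerSeries.coeff 1 (φ (y - AdicCompletion.of m A a) j) = 0 := hker2 _ (by
      rw [map_sub, AdicCompletion.eval_of, ← ha, Submodule.mkQ_apply, sub_self])
    have hval : ∀ j, PowerSeries.coeff 1 (ψ a j) = if j = i then 1 else 0 := fun j => by
      have h := hd j
      rw [map_sub, Pi.sub_apply, map_sub, sub_eq_zero, hy] at h
      show PowerSeries.coeff 1 (φ (algebraMap A _ a) j) = _
      rw [hof, ← h]
      by_cases hji : j = i <;> simp [hji]
    refine ⟨a, ?_, hval⟩
    by_contra ha'
    obtain ⟨u, hu⟩ := (IsLocalRing.notMem_maximalIdeal.1 ha')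
    have hd0 : PowerSeries.constantCoeff (φ (y - AdicCompletion.of m A a) i) = 0 := by
      have hy' : y - AdicCompletion.of m A a ∈ (m ^ 2 • ⊤ : Submodule A (AdicCompletion m A)) := by
        rw [AdicCompletion.pow_smul_top_eq_ker_eval (IsNoetherian.noetherian m), LinearMap.mem_ker,
          map_sub, AdicCompletion.eval_of, ← ha, Submodule.mkQ_apply, sub_self]
      refine Submodule.smul_induction_on hy' (fun r hr z _ => ?_) (fun y z hy hz => ?_)
      · rw [Algebra.smul_def, map_mul, Pi.mul_apply, map_mul]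
        show PowerSeries.constantCoeff (ψ r i) * _ = 0
        rw [hc0 r (Ideal.pow_le_self two_ne_zero hr) i, zero_mul]
      · rw [map_add, Pi.add_apply, map_add, hy, hz, add_zero]
    rw [map_sub, Pi.sub_apply, map_sub, hy, ← hof, sub_eq_zero] at hd0
    simp at hd0
    have hunit : IsUnit (ψ a i) := by
      rw [← hu]; exact (u.isUnit.map ψ).map (Pi.evalRingHom (fun _ : Fin n => PowerSeries k) i)
    rw [PowerSeries.isUnit_iff_constantCoeff, show PowerSeries.constantCoeff (ψ a i) = 0 from hd0.symm] at hunit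
    exact not_isUnit_zero hunit
  choose e hem hev using happrox
  let x : A := ∑ i, e i
  have hxm : x ∈ m := sum_mem fun i _ => hem i
  have hx1 : ∀ j, PowerSeries.coeff 1 (ψ x j) = 1 := fun j => by
    simp only [x, map_sum, Finset.sum_apply, hev, Finset.sum_ite_eq, Finset.mem_univ, if_true]
  have hxne : ∀ j, ψ x j ≠ 0 := fun j h => by
    have := hx1 j; rw [h, map_zero] at this; exact zero_ne_one this
  have hreg : IsSMulRegular A x := fun p q hpq => hψinj (by
    funext j
    have h : ψ x j * ψ p j = ψ x j * ψ q j := by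
      simpa [Pi.mul_apply] using congrFun (congrArg ψ hpq) j
    exact mul_left_cancel₀ (hxne j) h)
  -- products with the maximal ideal
  have hdvd : ∀ b ∈ m, ∀ i, b * e i ∈ Ideal.span ({x} : Set A) := by
    intro b hb i
    choose P hP using fun j => PowerSeries.X_dvd_iff.2 (hc0 b hb j)
    choose Q hQ using fun j => PowerSeries.X_dvd_iff.2 (hc0 (e i) (hem i) j)
    choose W hW using fun j => PowerSeries.X_dvd_iff.2 (hc0 x hxm j)
    have hWu : ∀ j, IsUnit (W j) := fun j => PowerSeries.isUnit_iff_constantCoeff.2 (by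
      have h := hx1 j
      rw [hW j, show (1 : ℕ) = 0 + 1 from rfl, PowerSeries.coeff_succ_X_mul,
        PowerSeries.coeff_zero_eq_constantCoeff_apply] at h
      rw [h]; exact isUnit_one)
    obtain ⟨g, hg⟩ : (fun j => PowerSeries.X * (((hWu j).unit⁻¹).val * P j * Q j)) ∈ Set.range φ := by
      rw [hrange]; intro p q; simp
    have hfac : algebraMap A (AdicCompletion m A) (b * e i) = algebraMap A (AdicCompletion m A) x * g := hinj (by
      rw [map_mul φ, hg]
      funext j
      show ψ (b * e i) j = ψ x j * _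
      rw [map_mul, Pi.mul_apply, hP, hQ, hW]
      have h1 : W j * ((hWu j).unit⁻¹).val = 1 := (hWu j).mul_val_inv
      linear_combination (- PowerSeries.X * P j * (PowerSeries.X * Q j)) * h1)
    haveI hxne' : Ideal.span ({x} : Set A) ≠ ⊤ := fun h =>
      (IsLocalRing.maximalIdeal.isMaximal A).ne_top (top_le_iff.1 (h ▸ Ideal.span_le.2 (Set.singleton_subset_iff.2 hxm)))
    have hN : ∀ N, b * e i ∈ Ideal.span ({x} : Set A) ⊔ m ^ N := by
      intro N
      obtain ⟨a', ha'⟩ := Ideal.Quotient.mk_surjective (AdicCompletion.evalₐ m N g)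
      have h2 := congrArg (AdicCompletion.evalₐ m N) hfac
      simp only [map_mul, AlgHom.commutes, Ideal.Quotient.algebraMap_eq] at h2
      rw [← ha', ← map_mul, ← map_mul, Ideal.Quotient.eq] at h2
      rw [show b * e i = x * a' + (b * e i - x * a') by ring]
      exact add_mem (Ideal.mem_sup_left (Ideal.mul_mem_right _ _ (Ideal.mem_span_singleton_self x)))
        (Ideal.mem_sup_right h2)
    rw [← Ideal.Quotient.eq_zero_iff_mem, ← Ideal.mem_bot]
    haveI : Nontrivial (A ⧸ Ideal.span ({x} : Set A)) := Ideal.Quotient.nontrivial_iff.2 hxne'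
    haveI : IsLocalRing (A ⧸ Ideal.span ({x} : Set A)) := .of_surjective' _ Ideal.Quotient.mk_surjective
    have hmap : m.map (Ideal.Quotient.mk (Ideal.span ({x} : Set A))) ≠ ⊤ := by
      intro h
      have h2 := congrArg (Ideal.comap (Ideal.Quotient.mk (Ideal.span ({x} : Set A)))) h
      rw [Ideal.comap_map_of_surjective _ Ideal.Quotient.mk_surjective, Ideal.comap_top, ← RingHom.ker_eq_comap_bot,
        Ideal.mk_ker, sup_eq_left.2 (Ideal.span_le.2 (Set.singleton_subset_iff.2 hxm))] at h2
      exact (IsLocalRing.maximalIdeal.isMaximal A).ne_top h2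
    rw [← Ideal.iInf_pow_eq_bot_of_isLocalRing (m.map (Ideal.Quotient.mk (Ideal.span ({x} : Set A)))) hmap,
      Ideal.mem_iInf]
    intro N
    obtain ⟨p, hp, q, hq, hpq⟩ := Submodule.mem_sup.1 (hN N)
    rw [← hpq, map_add, Ideal.Quotient.eq_zero_iff_mem.2 hp, zero_add, ← Ideal.map_pow]
    exact Ideal.mem_map_of_mem _ hq
  haveI : LocCoh.IsGorensteinLocalRing (A ⧸ Ideal.span ({x} : Set A)) :=
    (Groth.Agent.S0343.result A x hxm hreg).1 inferInstance
  let mk := Ideal.Quotient.mk (Ideal.span ({x} : Set A))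
  have hsoc : ∀ i, ∀ a ∈ IsLocalRing.maximalIdeal (A ⧸ Ideal.span ({x} : Set A)), a * mk (e i) = 0 := by
    intro i a ha
    obtain ⟨b, rfl⟩ := Ideal.Quotient.mk_surjective a
    have hbm : b ∈ m := by
      by_contra hb
      exact (IsLocalRing.mem_maximalIdeal _).1 ha ((IsLocalRing.notMem_maximalIdeal.1 hb).map mk)
    rw [← map_mul, Ideal.Quotient.eq_zero_iff_mem]
    exact hdvd b hbm i
  let i1 : Fin n := ⟨0, by omega⟩
  let i2 : Fin n := ⟨1, by omega⟩
  let i3 : Fin n := ⟨2, by omega⟩
  have h12 : i2 ≠ i1 := by simp [i1, i2]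
  have h31 : i3 ≠ i1 := by simp [i1, i3]
  have h32 : i3 ≠ i2 := by simp [i2, i3]
  have hco : ∀ r p j, PowerSeries.coeff 1 (ψ (r * p) j) = PowerSeries.constantCoeff (ψ r j) *
      PowerSeries.coeff 1 (ψ p j) + PowerSeries.coeff 1 (ψ r j) * PowerSeries.constantCoeff (ψ p j) := by
    intro r p j
    rw [map_mul, Pi.mul_apply, PowerSeries.coeff_one_mul]
    ring
  have hne : mk (e i1) ≠ 0 := by
    rw [Ne, Ideal.Quotient.eq_zero_iff_mem, Ideal.mem_span_singleton']
    rintro ⟨c, hc⟩
    have h1 := hev i1 i1
    have h2 := hev i1 i2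
    rw [← hc, hco, hx1, hc0 x hxm, mul_zero, add_zero, mul_one] at h1 h2
    rw [if_pos rfl] at h1
    rw [if_neg h12] at h2
    have hsame := hmem (algebraMap A (AdicCompletion m A) c) i1 i2
    exact zero_ne_one (h2.symm.trans (hsame.symm.trans h1))
  obtain ⟨cq, hcq⟩ := socle_cyclic _ _ _ hne (hsoc i1) (hsoc i2)
  obtain ⟨r, rfl⟩ := Ideal.Quotient.mk_surjective cq
  rw [← map_mul, Ideal.Quotient.eq, Ideal.mem_span_singleton'] at hcq
  obtain ⟨c, hc⟩ := hcq
  have hj : ∀ j, PowerSeries.constantCoeff (ψ c j) = PowerSeries.constantCoeff (ψ r j) *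
      (if j = i1 then 1 else 0) - (if j = i2 then 1 else 0) := by
    intro j
    have h := congrArg (fun z => PowerSeries.coeff 1 (ψ z j)) hc
    simp only [map_sub ψ, Pi.sub_apply, map_sub] at h
    rw [hco, hco, hx1, hc0 x hxm, hc0 (e i1) (hem i1), hev, hev, mul_zero, mul_zero, add_zero, add_zero,
      mul_one] at h
    exact h
  have h2 := hj i2
  have h3 := hj i3
  rw [if_neg h12, if_pos rfl, mul_zero] at h2
  rw [if_neg h31, if_neg h32, mul_zero, sub_zero] at h3
  have hsame := hmem (algebraMap A (AdicCompletion m A) c) i2 i3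
  have hfin : (0 : k) - 1 = 0 := h2.symm.trans (hsame.trans h3)
  simp at hfin

end Groth.Agent.S12217
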