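-- statement FlatMor.GrothFrozen.S1224 (Groth/Statements/S1224.lean; the theorem FlatMor.isUnivPure_of_support_finite);
import Groth.Statements.S1224
import Mathlib

set_option autoImplicit false
universe u
open FlatMor

namespace Groth.Agent.S1224
set_option backward.isDefEq.respectTransparency false

/-- Ring form, X = Spec B affine, where proper support means finite support: let B be a finite type
A-algebra and N a finite B-module such that B modulo the annihilator of N is finite over A. Then N
is universally pure relative to Spec A. -/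
theorem result {A B : Type u} [CommRing A] [CommRing B] [Algebra A B] [Algebra.FiniteType A B]
    (N : Type u) [AddCommGroup N] [Module B N] [Module A N] [IsScalarTower A B N] [Module.Finite B N]
    [Module.Finite A (B ⧸ Module.annihilator B N)] : FlatCA.IsUnivPure A B N := by
  intro p _ A' B' N' _ _ _ _ _ _ _ _ _ _ _ _ _ _ f t' t _ _ P _ himp
  obtain ⟨hpush, hbc, htt, -, hP, ⟨hQprime, x, hx⟩, hnone⟩ := himp
  set Q := FlatCA.fiberIdeal t' P with hQ
  let inc : B' →+* t'.Fiber B' :=
    (Algebra.TensorProduct.includeRight (R := A') (A := t'.ResidueField) (B := B')).toRingHom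
  let J : Ideal B' := (Module.annihilator B N).map (algebraMap B B')
  let P₂ : Ideal B' := Q.comap inc
  haveI : P₂.IsPrime := Ideal.IsPrime.comap inc
  have hPP₂ : P ≤ P₂ := Ideal.le_comap_map
  have hkill : ∀ b ∈ Module.annihilator B N, ∀ n' : N', algebraMap B B' b • n' = 0 := by
    intro b hb n'
    refine hbc.inductionOn n' (fun n' => algebraMap B B' b • n' = 0) (smul_zero _) (fun n => ?_) (fun s n hn => ?_) fun n₁ n₂ h₁ h₂ => ?_
    · rw [algebraMap_smul, ← map_smul, Module.mem_annihilator.1 hb n, map_zero]
    · rw [smul_comm, hn, smul_zero]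
    · rw [smul_add, h₁, h₂, add_zero]
  have hJP₂ : J ≤ P₂ := by
    refine Ideal.map_le_iff_le_comap.2 fun b hb => ?_
    have hz : ∀ z : FlatCA.fiberMod t' B' N', inc (algebraMap B B' b) • z = 0 := by
      letI := Algebra.TensorProduct.rightAlgebra (R := A') (A := t'.ResidueField) (B := B')
      intro z
      change inc (algebraMap B B' b) • (z : TensorProduct B' (t'.Fiber B') N') = 0
      induction z using TensorProduct.induction_on with
      | zero => exact smul_zero _
      | tmul w n =>
        rw [TensorProduct.smul_tmul', smul_eq_mul]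
        have : inc (algebraMap B B' b) * w = algebraMap B B' b • w := by
          rw [Algebra.smul_def]; rfl
        rw [this, TensorProduct.smul_tmul, hkill b hb n, TensorProduct.tmul_zero]
      | add z₁ z₂ h₁ h₂ => rw [smul_add, h₁, h₂, add_zero]
    show inc (algebraMap B B' b) ∈ Q
    rw [hx]
    refine Ideal.le_radical ?_
    rw [Submodule.mem_colon_singleton, Submodule.mem_bot]
    exact hz x
  have hcomap : P₂.comap (algebraMap A' B') = t' := by
    ext a
    have hinc : inc (algebraMap A' B' a) = algebraMap t'.ResidueField (t'.Fiber B') (algebraMap A' t'.ResidueField a) :=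
      ((Algebra.TensorProduct.includeRight (R := A') (A := t'.ResidueField) (B := B')).commutes a).trans
        (IsScalarTower.algebraMap_apply A' t'.ResidueField (t'.Fiber B') a)
    show inc (algebraMap A' B' a) ∈ Q ↔ a ∈ t'
    rw [hinc]
    constructor
    · intro h
      by_contra ha
      exact hQprime.ne_top (Ideal.eq_top_of_isUnit_mem _ h
        ((isUnit_iff_ne_zero.2 fun h0 => ha (Ideal.algebraMap_residueField_eq_zero.1 h0)).map _))
    · intro ha
      rw [Ideal.algebraMap_residueField_eq_zero.2 ha, map_zero]
      exact zero_mem _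
  have hint : Algebra.IsIntegral A' (B' ⧸ J) := by
    constructor
    intro y
    obtain ⟨y, rfl⟩ := Ideal.Quotient.mk_surjective y
    refine hpush.out.inductionOn y (fun y => IsIntegral A' (Ideal.Quotient.mk J y)) ?_ ?_ ?_ ?_
    · rw [map_zero]; exact isIntegral_zero
    · intro a
      exact isIntegral_algebraMap (A := B' ⧸ J) (x := a)
    · intro b y hy
      rw [Algebra.smul_def, map_mul]
      refine IsIntegral.mul ?_ hy
      let ψ : (B ⧸ Module.annihilator B N) →ₐ[A] B' ⧸ J :=
        Ideal.Quotient.liftₐ _ ((Ideal.Quotient.mkₐ A J).comp (IsScalarTower.toAlgHom A B B'))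
          fun c hc => Ideal.Quotient.eq_zero_iff_mem.2 (Ideal.mem_map_of_mem _ hc)
      have hb : IsIntegral A (ψ (Ideal.Quotient.mk _ b)) :=
        (Algebra.IsIntegral.isIntegral (R := A) _).map ψ
      exact hb.tower_top
    · intro y₁ y₂ h₁ h₂
      rw [map_add]; exact h₁.add h₂
  have hJker : (P₂.map (Ideal.Quotient.mk J)).comap (Ideal.Quotient.mk J) = P₂ := by
    rw [Ideal.comap_map_of_surjective _ Ideal.Quotient.mk_surjective, sup_eq_left,
      ← RingHom.ker_eq_comap_bot, Ideal.mk_ker]
    exact hJP₂
  obtain ⟨P₃, hle, hP₃, hP₃t⟩ := Ideal.exists_ideal_over_prime_of_isIntegral t (P₂.map (Ideal.Quotient.mk J))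
    (by
      rw [show algebraMap A' (B' ⧸ J) = (Ideal.Quotient.mk J).comp (algebraMap A' B') from rfl,
        ← Ideal.comap_comap, hJker, hcomap]
      exact htt)
  haveI : (P₃.comap (Ideal.Quotient.mk J)).IsPrime := Ideal.IsPrime.comap _
  refine hnone (P₃.comap (Ideal.Quotient.mk J)) ?_ ⟨?_⟩
  · exact hPP₂.trans (hJker.symm.le.trans (Ideal.comap_mono hle))
  · rw [Ideal.under, Ideal.comap_comap]
    exact hP₃t.symm

end Groth.Agent.S1224
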