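import Groth.Statements.S5035
import Groth.Agent.H9Hens.Split
import Groth.Agent.S0502
-- import your own Groth.Agent.* helpers here

set_option autoImplicit false
universe u
open Hensel

namespace Groth.Agent.S5035

/-- a) iff c') (affine form): a local ring R is henselian if and only if, for every R-algebra S of
finite type and every prime q of S lying over the maximal ideal of R such that S is quasi-finite
over R at q, the local ring S_q is a finitely generated R-module. -/
theorem result (R : Type u) [CommRing R] [IsLocalRing R] :
    HenselianLocalRing R ↔
      ∀ (S : Type u) [CommRing S] [Algebra R S] [Algebra.FiniteType R S] (q : Ideal S) [q.IsPrime],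
        q.LiesOver (IsLocalRing.maximalIdeal R) → Algebra.QuasiFiniteAt R q →
          Module.Finite R (Localization.AtPrime q) := by
  constructor
  · intro _ S _ _ _ q _ hlies hqf
    exact Groth.Agent.H9Hens.finite_localization_of_quasiFiniteAt q hlies
  · intro h
    refine Groth.Agent.S0502.result R fun S _ _ _ q _ hlies hsurj => ?_
    have hfin : Module.Finite R (Localization.AtPrime q) := h S q hlies inferInstance
    have hloc : IsLocalHom (algebraMap R (Localization.AtPrime q)) := ⟨fun r hr => by
      rw [IsScalarTower.algebraMap_apply R S (Localization.AtPrime q),
        IsLocalization.AtPrime.isUnit_to_map_iff _ q] at hr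
      by_contra hu
      refine hr (?_ : algebraMap R S r ∈ q)
      have : r ∈ IsLocalRing.maximalIdeal R := hu
      rw [hlies.over] at this
      exact this⟩
    have hmm : (IsLocalRing.maximalIdeal R).map (algebraMap R (Localization.AtPrime q)) =
        IsLocalRing.maximalIdeal (Localization.AtPrime q) :=
      Algebra.FormallyUnramified.map_maximalIdeal
    have hgen : Function.Surjective (algebraMap R (Localization.AtPrime q)) := by
      have htop : (⊤ : Submodule R (Localization.AtPrime q)) ≤
          LinearMap.range (Algebra.linearMap R _) ⊔
            IsLocalRing.maximalIdeal R • (⊤ : Submodule R (Localization.AtPrime q)) := by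
        intro x _
        obtain ⟨r, hr⟩ := hsurj (IsLocalRing.residue (Localization.AtPrime q) x)
        rw [Ideal.smul_top_eq_map, hmm]
        refine Submodule.mem_sup.mpr ⟨algebraMap R _ r, ⟨r, rfl⟩, x - algebraMap R _ r, ?_, by abel⟩
        rw [Submodule.restrictScalars_mem, ← IsLocalRing.residue_eq_zero_iff, map_sub, ← hr,
          IsScalarTower.algebraMap_apply R (Localization.AtPrime q) q.ResidueField]
        exact sub_self _
      intro x
      exact LinearMap.mem_range.mp (Submodule.le_of_le_smul_of_le_jacobson_bot Module.Finite.fg_top
        (Groth.Agent.H9Hens.maximalIdeal_le_jac R) htop Submodule.mem_top :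
          x ∈ LinearMap.range (Algebra.linearMap R _))
    have : Module.Flat R (Localization.AtPrime q) := Module.Flat.trans R S _
    have : Module.FaithfullyFlat R (Localization.AtPrime q) :=
      Module.FaithfullyFlat.of_flat_of_isLocalHom
    have hbij : Function.Bijective (algebraMap R (Localization.AtPrime q)) :=
      ⟨FaithfulSMul.algebraMap_injective R _, hgen⟩
    exact ⟨(AlgEquiv.ofBijective (Algebra.ofId R _) hbij).symm.toAlgHom.comp
      (IsScalarTower.toAlgHom R S (Localization.AtPrime q))⟩

end Groth.Agent.S5035
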