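import Groth.Statements.S12222
import Groth.Agent.H9Hens.Split
import Groth.Agent.S5035
-- import your own Groth.Agent.* helpers here

set_option autoImplicit false
universe u
open Hensel

namespace Groth.Agent.S12222

/-- (11) ⇒ (1): let R be a local ring such that every finite-type R-algebra S can be written as a
product A × B with A finite over R and R → B quasi-finite at no prime lying over the maximal ideal —
concretely, S has an idempotent e with S/(1 − e) finite over R and R → S/(e) quasi-finite at no
prime over the maximal ideal. Then R is henselian. -/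
theorem result (R : Type u) [CommRing R] [IsLocalRing R]
    (h : ∀ (S : Type u) [CommRing S] [Algebra R S] [Algebra.FiniteType R S],
      ∃ e : S, IsIdempotentElem e ∧ Module.Finite R (S ⧸ Ideal.span ({1 - e} : Set S)) ∧
        ∀ (q : Ideal (S ⧸ Ideal.span ({e} : Set S))) [q.IsPrime],
          q.LiesOver (IsLocalRing.maximalIdeal R) → ¬ Algebra.QuasiFiniteAt R q) :
    HenselianLocalRing R := by
  refine (Groth.Agent.S5035.result R).mpr fun S _ _ _ q _ hlies hqf => ?_
  obtain ⟨s, hsq, hs⟩ :=
    Ideal.exists_not_mem_forall_mem_of_ne_of_liesOver (R := R) (IsLocalRing.maximalIdeal R) q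
  set T := Localization.Away s
  obtain ⟨e, he, hC, hq⟩ := h T
  have hdisj : Disjoint (Submonoid.powers s : Set S) (q : Set S) :=
    (Ideal.disjoint_powers_iff_notMem _ (Ideal.IsPrime.isRadical ‹_›)).mpr hsq
  let qT : Ideal T := q.map (algebraMap S T)
  have hqT : qT.IsPrime := IsLocalization.isPrime_of_isPrime_disjoint (.powers s) _ q ‹_› hdisj
  have hqTcomap : qT.comap (algebraMap S T) = q :=
    IsLocalization.under_map_of_isPrime_disjoint (.powers s) T ‹_› hdisj
  have : IsLocalization.AtPrime (Localization.AtPrime qT) q := by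
    have h1 := IsLocalization.isLocalization_isLocalization_atPrime_isLocalization
      (.powers s) (Localization.AtPrime qT) qT
    have hM : (qT.comap (algebraMap S T)).primeCompl = q.primeCompl := by
      ext x; rw [Ideal.mem_primeCompl_iff, Ideal.mem_primeCompl_iff, hqTcomap]
    show IsLocalization q.primeCompl _
    rw [← hM]
    exact h1
  let φ := (IsLocalization.algEquiv q.primeCompl (Localization.AtPrime qT)
    (Localization.AtPrime q)).restrictScalars R
  suffices hfin : Module.Finite R (Localization.AtPrime qT) from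
    Module.Finite.equiv φ.toLinearEquiv
  have hqfT : Algebra.QuasiFiniteAt R qT :=
    (Algebra.QuasiFinite.iff_of_algEquiv φ).mpr hqf
  have hTlies : qT.comap (algebraMap R T) = IsLocalRing.maximalIdeal R := by
    rw [IsScalarTower.algebraMap_eq R S T, ← Ideal.comap_comap, hqTcomap]
    exact hlies.over.symm
  set D : Ideal T := Ideal.span {e}
  have heq : e ∉ qT := by
    intro hmem
    have hDq : D ≤ qT := by rwa [Ideal.span_le, Set.singleton_subset_iff]
    let qD : Ideal (T ⧸ D) := qT.map (Ideal.Quotient.mk D)
    have : qD.IsPrime := Ideal.map_isPrime_of_surjective Ideal.Quotient.mk_surjective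
      (by rwa [Ideal.mk_ker])
    have hcomap : qD.comap (Ideal.Quotient.mk D) = qT := by
      rw [Ideal.comap_map_of_surjective' _ Ideal.Quotient.mk_surjective, Ideal.mk_ker,
        sup_eq_left.mpr hDq]
    refine hq qD ⟨?_⟩ ?_
    · rw [Ideal.under, IsScalarTower.algebraMap_eq R T (T ⧸ D), ← Ideal.comap_comap,
        Ideal.Quotient.algebraMap_eq, hcomap]
      exact hTlies.symm
    · exact Algebra.QuasiFiniteAt.of_surjectiveOnStalks (R := R) qT (Ideal.Quotient.mkₐ R D)
        (RingHom.surjectiveOnStalks_of_surjective Ideal.Quotient.mk_surjective) qD hcomap.symm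
  set P : Ideal T := Ideal.span {1 - e}
  -- every maximal ideal of the finite part is the one of `q`
  have huniq : ∀ n : Ideal (T ⧸ P), n.IsMaximal → n.comap (Ideal.Quotient.mk P) = qT := by
    intro n hn
    have : (n.comap (algebraMap R (T ⧸ P))).IsMaximal :=
      Ideal.isMaximal_comap_of_isIntegral_of_isMaximal n
    have h2 := IsLocalRing.eq_maximalIdeal this
    set nT := n.comap (Ideal.Quotient.mk P)
    have hnS : (nT.comap (algebraMap S T)).comap (algebraMap R S) = IsLocalRing.maximalIdeal R := by
      rw [Ideal.comap_comap, ← IsScalarTower.algebraMap_eq, Ideal.comap_comap,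
        ← Ideal.Quotient.algebraMap_eq, ← IsScalarTower.algebraMap_eq]
      exact h2
    have hnq : nT.comap (algebraMap S T) = q := by
      by_contra hne
      have hsn : s ∈ nT.comap (algebraMap S T) := hs _ inferInstance hne ⟨hnS.symm⟩
      exact (Ideal.IsPrime.comap (Ideal.Quotient.mk P)).ne_top
        (Ideal.eq_top_of_isUnit_mem nT hsn (IsLocalization.Away.algebraMap_isUnit s))
    have := congrArg (Ideal.map (algebraMap S T)) hnq
    rwa [IsLocalization.map_under (.powers s) T] at this
  have hPq : P ≤ qT := by
    rw [Ideal.span_le, Set.singleton_subset_iff]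
    have : e * (1 - e) ∈ qT := by rw [mul_sub, mul_one, he.eq, sub_self]; exact zero_mem _
    exact (hqT.mem_or_mem this).resolve_left heq
  have : IsLocalization.Away e (T ⧸ P) :=
    IsLocalization.away_of_isIdempotentElem he
      (by rw [Ideal.Quotient.algebraMap_eq, Ideal.mk_ker]) Ideal.Quotient.mk_surjective
  have hunit : ∀ x : qT.primeCompl, IsUnit (algebraMap T (T ⧸ P) x) := fun x => by
    by_contra hx
    obtain ⟨n, hn, hxn⟩ := exists_max_ideal_of_mem_nonunits hx
    exact x.2 ((huniq n hn).le hxn)
  let ψ : Localization.AtPrime qT →+* T ⧸ P := IsLocalization.lift hunit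
  let χ : T ⧸ P →ₐ[R] Localization.AtPrime qT :=
    Ideal.Quotient.liftₐ P (IsScalarTower.toAlgHom R T (Localization.AtPrime qT)) fun y hy => by
      obtain ⟨c, rfl⟩ := Ideal.mem_span_singleton'.mp hy
      have hu := IsLocalization.map_units (Localization.AtPrime qT) (⟨e, heq⟩ : qT.primeCompl)
      have h1 : IsScalarTower.toAlgHom R T (Localization.AtPrime qT) (c * (1 - e)) *
          algebraMap T _ e = 0 := by
        rw [IsScalarTower.coe_toAlgHom', ← map_mul, mul_assoc, sub_mul, one_mul, he.eq, sub_self,
          mul_zero, map_zero]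
      exact hu.mul_left_eq_zero.mp h1
  refine Module.Finite.of_surjective χ.toLinearMap fun y => ⟨ψ y, ?_⟩
  obtain ⟨a, b, rfl⟩ := IsLocalization.exists_mk'_eq qT.primeCompl y
  rw [eq_comm, IsLocalization.mk'_eq_iff_eq_mul]
  show algebraMap T _ a = χ (ψ _) * _
  have h3 : ∀ t : T, χ (algebraMap T (T ⧸ P) t) = algebraMap T (Localization.AtPrime qT) t :=
    fun t => rfl
  rw [← h3 (b : T), ← map_mul]
  have h4 : ψ (IsLocalization.mk' _ a b) * algebraMap T (T ⧸ P) b = algebraMap T (T ⧸ P) a := by
    have hψ : ∀ t : T, ψ (algebraMap T (Localization.AtPrime qT) t) = algebraMap T (T ⧸ P) t :=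
      fun t => IsLocalization.lift_eq hunit t
    rw [← hψ, ← map_mul, IsLocalization.mk'_spec, hψ]
  rw [h4]
  exact (h3 a).symm

end Groth.Agent.S12222
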