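import Groth.Statements.S12225
import Groth.Agent.H15Site.SetBC.Big
-- import your own Groth.Agent.* helpers here

set_option autoImplicit false
set_option backward.isDefEq.respectTransparency false
set_option backward.isDefEq.respectTransparency.types false
open CategoryTheory CategoryTheory.Limits AlgebraicGeometry Opposite
universe u
open BigSite

namespace Groth.Agent.S12225

/-- Let f : T → S be a proper morphism of schemes. For sheaves of sets, pulling back from the small
étale site of T to the big étale site and then pushing forward along f_big agrees with pushing
forward along f_small and then pulling back to the big étale site of S: the functors π_S⁻¹ ∘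
f_small,* and f_big,* ∘ π_T⁻¹ from Sh(T_et) to Sh((Sch/S)_et) are isomorphic. Existence of an
isomorphism of functors only (the canonical base-change transformation is not named here). Here π⁻¹
is Mathlib's sheaf pullback along the inclusion of the small into the big étale site, f_small,* is
pushforward along base change of small étale sites, and f_big,* is the big-site pushforward. -/
theorem result {T S : Scheme.{u}} (f : T ⟶ S) [IsProper f] :
    Nonempty
      (((EtCoh.bc f).sheafPushforwardContinuous (Type (u + 1)) S.smallEtaleTopology T.smallEtaleTopology) ⋙
          (EtFppf.a S).sheafPullback (Type (u + 1)) S.smallEtaleTopology (QuotSh.J Scheme.etalePrecoverage S) ≅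
        (EtFppf.a T).sheafPullback (Type (u + 1)) T.smallEtaleTopology (QuotSh.J Scheme.etalePrecoverage T) ⋙
          BigSite.pushBig Scheme.etalePrecoverage f (Type (u + 1))) := by
  exact ⟨H15Site.SetBC.Big.pushIso f⟩

end Groth.Agent.S12225
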