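import Groth.Statements.S12227
import Mathlib.Algebra.Homology.DerivedCategory.Fractions

set_option autoImplicit false
universe w v u
open CategoryTheory CategoryTheory.Limits
open CohDer

namespace Groth.Agent.S12227

open CategoryTheory DerivedCategory

/-- Full faithfulness of K⁻(A)[Qis⁻¹] → D⁻(A), written in terms of roofs. Let A be an abelian category
and K, L complexes which are zero above some degree, viewed in the homotopy category. Then every
morphism Qh(K) → Qh(L) in the derived category is Qh(s)⁻¹ ≫ Qh(f) for some quasi-isomorphism s : K'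
→ K and map f : K' → L of K(A) with K' again zero above some degree; and two maps f₁, f₂ : K → L of
K(A) become equal in D(A) only if s ≫ f₁ = s ≫ f₂ for some quasi-isomorphism s : K' → K with K' zero
above some degree. (That the kernel of K⁻(A) → D(A) consists of the acyclic complexes and that the
essential image is D⁻(A) are separate statements.) -/
theorem result {A : Type u} [Category.{v} A] [Abelian A] [HasDerivedCategory.{w} A]
    (K L : HomotopyCategory A (ComplexShape.up ℤ)) (a b : ℤ) [CochainComplex.IsStrictlyLE K.as a] [CochainComplex.IsStrictlyLE L.as b] :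
    (∀ φ : DerivedCategory.Qh.obj K ⟶ DerivedCategory.Qh.obj L,
      ∃ (K' : HomotopyCategory A (ComplexShape.up ℤ)) (n : ℤ) (_ : CochainComplex.IsStrictlyLE K'.as n) (s : K' ⟶ K) (f : K' ⟶ L),
        HomotopyCategory.quasiIso A (ComplexShape.up ℤ) s ∧ DerivedCategory.Qh.map s ≫ φ = DerivedCategory.Qh.map f) ∧
    (∀ f₁ f₂ : K ⟶ L, DerivedCategory.Qh.map f₁ = DerivedCategory.Qh.map f₂ →
      ∃ (K' : HomotopyCategory A (ComplexShape.up ℤ)) (n : ℤ) (_ : CochainComplex.IsStrictlyLE K'.as n) (s : K' ⟶ K),
        HomotopyCategory.quasiIso A (ComplexShape.up ℤ) s ∧ s ≫ f₁ = s ≫ f₂) := by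
  obtain ⟨K, rfl⟩ := HomotopyCategory.quotient_obj_surjective K
  obtain ⟨L, rfl⟩ := HomotopyCategory.quotient_obj_surjective L
  have : CochainComplex.IsStrictlyLE K a := ‹CochainComplex.IsStrictlyLE ((HomotopyCategory.quotient A _).obj K).as a›
  refine ⟨fun φ => ?_, fun f₁ f₂ h => ?_⟩
  · let e := DerivedCategory.quotientCompQhIso A
    obtain ⟨X', hX', s, hs, g, hfac⟩ := right_fac_of_isStrictlyLE (e.inv.app K ≫ φ ≫ e.hom.app L) a
    refine ⟨(HomotopyCategory.quotient A _).obj X', a, hX', (HomotopyCategory.quotient A _).map s,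
      (HomotopyCategory.quotient A _).map g, ?_, ?_⟩
    · rw [HomotopyCategory.quotient_map_mem_quasiIso_iff]
      rw [isIso_Q_map_iff_quasiIso] at hs
      exact hs
    · have h₁ := e.hom.naturality s
      have h₂ := e.hom.naturality g
      simp only [Functor.comp_map] at h₁ h₂
      rw [← cancel_mono (e.hom.app L), h₂]
      have h₃ : φ ≫ e.hom.app L = e.hom.app K ≫ inv (DerivedCategory.Q.map s) ≫ DerivedCategory.Q.map g := by
        rw [← hfac]
        exact (Iso.hom_inv_id_app_assoc e K _).symm
      rw [Category.assoc, h₃, reassoc_of% h₁, IsIso.hom_inv_id_assoc]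
  · obtain ⟨X', s, hs, h'⟩ := (MorphismProperty.map_eq_iff_precomp DerivedCategory.Qh
      (HomotopyCategory.quasiIso A (ComplexShape.up ℤ)) f₁ f₂).1 h
    obtain ⟨(X' : CochainComplex A ℤ), rfl⟩ := HomotopyCategory.quotient_obj_surjective X'
    obtain ⟨s, rfl⟩ := (HomotopyCategory.quotient A _).map_surjective s
    rw [HomotopyCategory.quotient_map_mem_quasiIso_iff] at hs
    change QuasiIso s at hs
    have hle : X'.IsLE a := by
      rw [CochainComplex.isLE_iff]
      intro i hi
      rw [HomologicalComplex.exactAt_iff_isZero_homology]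
      exact ((HomologicalComplex.exactAt_iff_isZero_homology _ _).1
        (CochainComplex.exactAt_of_isLE K a i hi)).of_iso (asIso (HomologicalComplex.homologyMap s i))
    refine ⟨(HomotopyCategory.quotient A _).obj (X'.truncLE a), a,
      inferInstanceAs ((X'.truncLE a).IsStrictlyLE a),
      (HomotopyCategory.quotient A _).map (X'.ιTruncLE a ≫ s), ?_, ?_⟩
    · rw [HomotopyCategory.quotient_map_mem_quasiIso_iff]
      exact inferInstanceAs (QuasiIso (X'.ιTruncLE a ≫ s))
    · rw [Functor.map_comp, Category.assoc, Category.assoc, h']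

end Groth.Agent.S12227
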