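import Groth.Statements.S12228
import Mathlib.Algebra.Homology.DerivedCategory.Fractions
import Groth.Agent.H16Derived.TermwiseSplit

set_option autoImplicit false
universe w v u
open CategoryTheory CategoryTheory.Limits
open CohDer

namespace Groth.Agent.S12228

open CategoryTheory CategoryTheory.Limits DerivedCategory

lemma nullhomotopic_truncation {A : Type u} [Category.{v} A] [Abelian A]
    (K L : CochainComplex A ℤ) (n : ℤ) [K.IsStrictlyLE n] (φ : K ⟶ L) (φ' : K ⟶ L.truncLE n)
    (hφ : φ' ≫ L.ιTruncLE n = φ) (h : Homotopy φ 0) :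
    (HomotopyCategory.quotient A (ComplexShape.up ℤ)).map φ' = 0 := by
  obtain ⟨α, hα⟩ := CochainComplex.HomComplex.Cochain.equivHomotopy _ _ h
  rw [CochainComplex.HomComplex.Cochain.ofHom_zero, add_zero] at hα
  let v : CochainComplex.mappingCone (𝟙 K) ⟶ L :=
    CochainComplex.mappingCone.desc (𝟙 K) α φ (by rw [Category.id_comp, hα])
  have := Groth.Agent.H16Derived.TermwiseSplit.isStrictlyLE_cone_id K n
  let v' : CochainComplex.mappingCone (𝟙 K) ⟶ L.truncLE n :=
    inv ((CochainComplex.mappingCone (𝟙 K)).ιTruncLE n) ≫ CochainComplex.truncLEMap v n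
  have hv : CochainComplex.mappingCone.inr (𝟙 K) ≫ v' = φ' := by
    have : Mono (L.ιTruncLE n) := inferInstanceAs (Mono (HomologicalComplex.ιTruncLE L _))
    rw [← cancel_mono (L.ιTruncLE n), hφ, Category.assoc, Category.assoc,
      CochainComplex.ιTruncLE_naturality, IsIso.inv_hom_id_assoc, CochainComplex.mappingCone.inr_desc]
  have h0 : (HomotopyCategory.quotient A (ComplexShape.up ℤ)).map
      (𝟙 (CochainComplex.mappingCone (𝟙 K))) = 0 := by
    rw [HomotopyCategory.eq_of_homotopy _ _
      (Groth.Agent.H16Derived.TermwiseSplit.homotopyIdZero K), Functor.map_zero]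
  rw [← hv, ← Category.id_comp v', Functor.map_comp, Functor.map_comp, h0, zero_comp, comp_zero]

/-- Full faithfulness of Kᵇ(A)[Qis⁻¹] → Dᵇ(A), written in terms of roofs. Let A be an abelian category
and K, L bounded complexes (zero outside a finite range of degrees), viewed in the homotopy
category. Then every morphism Qh(K) → Qh(L) in the derived category is Qh(f) ≫ Qh(t)⁻¹ for some map
f : K → L' and quasi-isomorphism t : L → L' of K(A) with L' again bounded; and two maps f₁, f₂ : K →
L of K(A) become equal in D(A) only if f₁ ≫ t = f₂ ≫ t for some quasi-isomorphism t : L → L' with L'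
bounded. -/
theorem result {A : Type u} [Category.{v} A] [Abelian A] [HasDerivedCategory.{w} A]
    (K L : HomotopyCategory A (ComplexShape.up ℤ)) (a b a' b' : ℤ) [CochainComplex.IsStrictlyGE K.as a] [CochainComplex.IsStrictlyLE K.as b]
    [CochainComplex.IsStrictlyGE L.as a'] [CochainComplex.IsStrictlyLE L.as b'] :
    (∀ φ : DerivedCategory.Qh.obj K ⟶ DerivedCategory.Qh.obj L,
      ∃ (L' : HomotopyCategory A (ComplexShape.up ℤ)) (m n : ℤ) (_ : CochainComplex.IsStrictlyGE L'.as m) (_ : CochainComplex.IsStrictlyLE L'.as n) (f : K ⟶ L') (t : L ⟶ L'),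
        HomotopyCategory.quasiIso A (ComplexShape.up ℤ) t ∧ φ ≫ DerivedCategory.Qh.map t = DerivedCategory.Qh.map f) ∧
    (∀ f₁ f₂ : K ⟶ L, DerivedCategory.Qh.map f₁ = DerivedCategory.Qh.map f₂ →
      ∃ (L' : HomotopyCategory A (ComplexShape.up ℤ)) (m n : ℤ) (_ : CochainComplex.IsStrictlyGE L'.as m) (_ : CochainComplex.IsStrictlyLE L'.as n) (t : L ⟶ L'),
        HomotopyCategory.quasiIso A (ComplexShape.up ℤ) t ∧ f₁ ≫ t = f₂ ≫ t) := by
  obtain ⟨(K : CochainComplex A ℤ), rfl⟩ := HomotopyCategory.quotient_obj_surjective K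
  obtain ⟨(L : CochainComplex A ℤ), rfl⟩ := HomotopyCategory.quotient_obj_surjective L
  have : CochainComplex.IsStrictlyLE K b :=
    ‹CochainComplex.IsStrictlyLE ((HomotopyCategory.quotient A _).obj K).as b›
  have : CochainComplex.IsStrictlyGE L a' :=
    ‹CochainComplex.IsStrictlyGE ((HomotopyCategory.quotient A _).obj L).as a'›
  have : CochainComplex.IsStrictlyLE L b' :=
    ‹CochainComplex.IsStrictlyLE ((HomotopyCategory.quotient A _).obj L).as b'›
  let n := max b b'
  have := CochainComplex.isStrictlyLE_of_le K b n (le_max_left _ _)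
  have := CochainComplex.isStrictlyLE_of_le L b' n (le_max_right _ _)
  refine ⟨fun φ => ?_, fun f₁ f₂ h => ?_⟩
  · let e := DerivedCategory.quotientCompQhIso A
    obtain ⟨Y', hY, hY', g, s, hs, hfac⟩ :=
      left_fac_of_isStrictlyLE_of_isStrictlyGE a' n (e.inv.app K ≫ φ ≫ e.hom.app L)
    refine ⟨(HomotopyCategory.quotient A _).obj Y', a', n, hY, hY',
      (HomotopyCategory.quotient A _).map g, (HomotopyCategory.quotient A _).map s, ?_, ?_⟩
    · rw [HomotopyCategory.quotient_map_mem_quasiIso_iff]
      rw [isIso_Q_map_iff_quasiIso] at hs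
      exact hs
    · have h₁ := e.hom.naturality s
      have h₂ := e.hom.naturality g
      simp only [Functor.comp_map] at h₁ h₂
      have h₃ : φ ≫ e.hom.app L = e.hom.app K ≫ DerivedCategory.Q.map g ≫ inv (DerivedCategory.Q.map s) := by
        rw [← hfac]
        exact (Iso.hom_inv_id_app_assoc e K _).symm
      rw [← cancel_mono (e.hom.app Y'), Category.assoc, h₁, reassoc_of% h₃, IsIso.inv_hom_id, h₂]
      exact congrArg (_ ≫ ·) (Category.comp_id _)
  · obtain ⟨T, s, hs, h'⟩ := (MorphismProperty.map_eq_iff_postcomp DerivedCategory.Qh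
      (HomotopyCategory.quasiIso A (ComplexShape.up ℤ)) f₁ f₂).1 h
    obtain ⟨(T : CochainComplex A ℤ), rfl⟩ := HomotopyCategory.quotient_obj_surjective T
    obtain ⟨(s : L ⟶ T), rfl⟩ := (HomotopyCategory.quotient A _).map_surjective s
    obtain ⟨g₁, rfl⟩ := (HomotopyCategory.quotient A _).map_surjective f₁
    obtain ⟨g₂, rfl⟩ := (HomotopyCategory.quotient A _).map_surjective f₂
    rw [HomotopyCategory.quotient_map_mem_quasiIso_iff] at hs
    change QuasiIso s at hs
    have hge : CochainComplex.IsGE T a' := by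
      rw [CochainComplex.isGE_iff]
      intro i hi
      rw [HomologicalComplex.exactAt_iff_isZero_homology]
      exact ((HomologicalComplex.exactAt_iff_isZero_homology _ _).1
        (CochainComplex.exactAt_of_isGE L a' i hi)).of_iso
          (asIso (HomologicalComplex.homologyMap s i)).symm
    let T₁ := T.truncGE a'
    let s₁ : L ⟶ T₁ := s ≫ T.πTruncGE a'
    have hs₁ : QuasiIso s₁ := inferInstanceAs (QuasiIso (s ≫ T.πTruncGE a'))
    let T₂ := T₁.truncLE n
    let s₂ : L ⟶ T₂ := inv (L.ιTruncLE n) ≫ CochainComplex.truncLEMap s₁ n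
    have hι : s₂ ≫ T₁.ιTruncLE n = s₁ := by
      simp only [s₂, T₂, Category.assoc, CochainComplex.ιTruncLE_naturality, IsIso.inv_hom_id_assoc]
    have hle : CochainComplex.IsLE T₁ n := by
      rw [CochainComplex.isLE_iff]
      intro i hi
      rw [HomologicalComplex.exactAt_iff_isZero_homology]
      exact ((HomologicalComplex.exactAt_iff_isZero_homology _ _).1
        (CochainComplex.exactAt_of_isLE L n i hi)).of_iso
          (asIso (HomologicalComplex.homologyMap s₁ i)).symm
    have hs₂ : QuasiIso s₂ := by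
      have : QuasiIso (s₂ ≫ T₁.ιTruncLE n) := by rw [hι]; exact hs₁
      exact quasiIso_of_comp_right _ (T₁.ιTruncLE n)
    refine ⟨(HomotopyCategory.quotient A _).obj T₂, a', n,
      inferInstanceAs ((T₁.truncLE n).IsStrictlyGE a'),
      inferInstanceAs ((T₁.truncLE n).IsStrictlyLE n),
      (HomotopyCategory.quotient A _).map s₂, ?_, ?_⟩
    · rw [HomotopyCategory.quotient_map_mem_quasiIso_iff]
      exact hs₂
    · rw [← Functor.map_comp, ← Functor.map_comp, ← sub_eq_zero, ← Functor.map_sub, ← Preadditive.sub_comp]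
      have h0 : (HomotopyCategory.quotient A (ComplexShape.up ℤ)).map ((g₁ - g₂) ≫ s₁) = 0 := by
        simp only [s₁, ← Category.assoc]
        rw [Functor.map_comp, Preadditive.sub_comp, Functor.map_sub, Functor.map_comp,
          Functor.map_comp, h', sub_self, zero_comp]
      refine nullhomotopic_truncation K T₁ n ((g₁ - g₂) ≫ s₁) ((g₁ - g₂) ≫ s₂)
        (by rw [Category.assoc, hι]) (HomotopyCategory.homotopyOfEq _ _ ?_)
      rw [h0, Functor.map_zero]

end Groth.Agent.S12228
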