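import Groth.Statements.S12230
import Groth.Agent.H14Fib.Factor

set_option autoImplicit false
set_option backward.isDefEq.respectTransparency false
set_option backward.isDefEq.respectTransparency.types false
universe v u
open CategoryTheory
open FibCat

namespace Groth.Agent.S12230

/-- Let C be a category and F : 𝒳 → 𝒴 a 1-morphism of fibred categories over C. Then there are a fibred
category 𝒳' over C and 1-morphisms of fibred categories u : 𝒳 → 𝒳', v : 𝒳' → 𝒴, w : 𝒳' → 𝒳 over C
with F = v ∘ u such that u is fully faithful with w as its left adjoint, and v : 𝒳' → 𝒴 makes 𝒳' a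
fibred category over 𝒴. (Stated for 𝒳, 𝒴 whose morphisms live in the universe of the morphisms of C
and whose objects live one universe level up, the size of categories of C-data; the adjunction w ⊣ u
is of the underlying functors.) -/
theorem result {C : Type u} [Category.{v} C]
    {𝒳 𝒴 : BasedCategory.{v, max u v} C} [𝒳.p.IsFibered] [𝒴.p.IsFibered]
    (F : 𝒳 ⥤ᵇ 𝒴) (hF : FibCat.PreservesStronglyCartesian F) :
    ∃ (𝒳' : BasedCategory.{v, max u v} C) (u : 𝒳 ⥤ᵇ 𝒳') (v : 𝒳' ⥤ᵇ 𝒴) (w : 𝒳' ⥤ᵇ 𝒳),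
      𝒳'.p.IsFibered ∧ FibCat.PreservesStronglyCartesian u ∧ FibCat.PreservesStronglyCartesian v ∧
        FibCat.PreservesStronglyCartesian w ∧ BasedFunctor.comp u v = F ∧
        u.toFunctor.Full ∧ u.toFunctor.Faithful ∧ Nonempty (w.toFunctor ⊣ u.toFunctor) ∧
        v.toFunctor.IsFibered := by
  refine ⟨Groth.Agent.H14Fib.Factor.cat F, Groth.Agent.H14Fib.Factor.emb F, Groth.Agent.H14Fib.Factor.toTarget F,
    Groth.Agent.H14Fib.Factor.toSource F, Groth.Agent.H14Fib.Factor.isFibered_cat hF, ?_, ?_, ?_, rfl, ?_, ?_,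
    ⟨Groth.Agent.H14Fib.Factor.adj F⟩, Groth.Agent.H14Fib.Factor.toTarget_isFibered F hF⟩
  · exact fun R S g a b φ h => Groth.Agent.H14Fib.Factor.sc_of hF _ g h (hF g φ h)
  · exact fun R S g a b φ h => (Groth.Agent.H14Fib.Factor.sc_comps hF φ g h).2
  · exact fun R S g a b φ h => (Groth.Agent.H14Fib.Factor.sc_comps hF φ g h).1
  · exact ⟨fun {a b} m => ⟨m.top, Groth.Agent.H14Fib.Factor.hom_ext rfl
      (((Category.id_comp _).symm.trans m.w.symm).trans (Category.comp_id _))⟩⟩
  · exact ⟨fun {a b} s t h => congrArg Groth.Agent.H14Fib.Factor.Hom.top h⟩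

end Groth.Agent.S12230
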