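import Groth.Statements.S12238
import Groth.Agent.H15Site.FppfEt.FinitePushR
import Groth.Agent.S3054

set_option autoImplicit false
set_option linter.style.haveILetI false
set_option backward.isDefEq.respectTransparency false
set_option backward.isDefEq.respectTransparency.types false
open CategoryTheory CategoryTheory.Limits AlgebraicGeometry Opposite
universe u
open BigSite

namespace Groth.Agent.S12238

/-- Let f : T → S be a finite morphism of schemes and F an arbitrary abelian sheaf on the small étale
site of T. Then for every q the abelian sheaves π_S⁻¹(R^q f_small,* F) and R^q f_big,*(π_T⁻¹ F) on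
the big étale site of S are isomorphic, where π⁻¹ denotes pullback from the small to the big étale
site. Existence of an isomorphism only; this is what the comparison π_S⁻¹ Rf_small,* K = Rf_big,*
π_T⁻¹ K, valid for every complex K when f is finite, gives on cohomology sheaves for K = F placed in
degree 0. -/
theorem result {T S : Scheme.{u}} (f : T ⟶ S) [IsFinite f]
    (F : EtCoh.Ab T) (q : ℕ) :
    Nonempty ((BigSite.piEtPull Scheme.etalePrecoverage S).obj ((EtCoh.Rpush f q).obj F) ≅
      (BigSite.RpushBig Scheme.etalePrecoverage f q).obj ((BigSite.piEtPull Scheme.etalePrecoverage T).obj F)) := by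
  haveI : IsIntegralHom f := inferInstance
  cases q with
  | zero =>
    haveI : PreservesFiniteLimits (EtCoh.push f) := inferInstance
    haveI : (BigSite.pushBig Scheme.etalePrecoverage f AddCommGrpCat.{u + 1}).IsRightAdjoint :=
      ⟨_, ⟨BigSite.bigAdj Scheme.etalePrecoverage f _⟩⟩
    haveI : PreservesFiniteLimits (BigSite.pushBig Scheme.etalePrecoverage f AddCommGrpCat.{u + 1}) := inferInstance
    haveI := H15Site.FppfEt.isIso_α f F
    exact ⟨(BigSite.piEtPull Scheme.etalePrecoverage S).mapIso ((EtCoh.push f).rightDerivedZeroIsoSelf.app F) ≪≫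
      asIso (H15Site.FppfEt.α f F) ≪≫
      ((BigSite.pushBig Scheme.etalePrecoverage f AddCommGrpCat.{u + 1}).rightDerivedZeroIsoSelf.app _).symm⟩
  | succ q =>
    haveI : (BigSite.piEtPull Scheme.etalePrecoverage S).IsLeftAdjoint := ⟨_, ⟨BigSite.piEtAdj Scheme.etalePrecoverage S⟩⟩
    haveI := Functor.preservesZeroMorphisms_of_preserves_initial_object (F := BigSite.piEtPull Scheme.etalePrecoverage S)
    exact ⟨((BigSite.piEtPull Scheme.etalePrecoverage S).map_isZero (S3054.result f F (q + 1) q.succ_pos)).iso
      (H15Site.FppfEt.isZero_RpushBig_etale f _ q)⟩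

end Groth.Agent.S12238
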