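import Groth.Statements.S12241
import Groth.Agent.H8Props.Devissage.Shrink

set_option autoImplicit false
universe u
open FlatMor

namespace Groth.Agent.S12241

open TensorProduct in
/-- All schemes are affine and standard opens are rendered as localizations away from one element. Let R
→ S be of finite type, N a finite S-module, p ⊆ R and q ⊆ S primes with q over p, and (C, D, G, n;
z, y) a one-step dévissage of N/S/R at q: (C, D, G, n) is a one-step dévissage over p (C a finitely
presented quotient of S carrying a finite module G identified with N, D smooth of relative dimension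
n over R with geometrically irreducible fibres, D → C finite, n the dimension of the support of N ⊗
κ(p)), z is a prime of C over q and over the prime y of D, the local dimension at q of that support
is n, z is the only prime of C over y, and κ(y)/κ(p) is purely transcendental. Then for every u ∈ S
outside q (an open neighbourhood D(u) of the point q) there is a standard shrinking inside D(u):
elements g ∉ p, hX ∉ q, hZ ∉ z, hY ∉ y with u invertible in S[1/hX], and ring and module structures
making S[1/hX], C[1/hZ], D[1/hY] algebras over R[1/g], C[1/hZ] an algebra over S[1/hX] and over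
D[1/hY], all compatibly with the given maps, such that (C[1/hZ], D[1/hY], G[1/hZ], n) is a one-step
dévissage of N[1/hX] over S[1/hX] relative to R[1/g] at the extended prime of q, with the extended
primes of z and y as its points (z-point over the q-point and the y-point, unique over the y-point,
purely transcendental residue field over that of pR[1/g], and local dimension n of the fibre support
at the q-point). -/
theorem result
    (R S : Type u) [CommRing R] [CommRing S] [Algebra R S] [Algebra.FiniteType R S]
    (N : Type u) [AddCommGroup N] [Module S N] [Module R N] [IsScalarTower R S N] [Module.Finite S N]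
    (p : Ideal R) [p.IsPrime] (q : Ideal S) [q.IsPrime] [q.LiesOver p]
    (C D G : Type u) [CommRing C] [CommRing D] [Algebra S C] [Algebra R C] [IsScalarTower R S C]
    [Algebra R D] [Algebra D C] [IsScalarTower R D C] [AddCommGroup G] [Module C G] [Module S G]
    [IsScalarTower S C G] (n : ℕ)
    (h : FlatCA.IsOneStepDevissage R S N p C D G n)
    (z : Ideal C) [z.IsPrime] (y : Ideal D) [y.IsPrime] [z.LiesOver q] [z.LiesOver y] [y.LiesOver p]
    (h1 : ∃ (ξ : PrimeSpectrum (p.Fiber S)) (hξ : ξ ∈ Module.support (p.Fiber S) (FlatCA.fiberMod p S N)),
      ξ.asIdeal = FlatCA.fiberIdeal p q ∧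
      FlatMor.localDim (Module.support (p.Fiber S) (FlatCA.fiberMod p S N)) ⟨ξ, hξ⟩ = n)
    (h3 : ∀ (z₁ : Ideal C) [z₁.IsPrime], z₁.LiesOver y → z₁ = z)
    (h4 : FlatCA.PurelyTranscendental p y)
    (u : S) (hu : u ∉ q) :
    ∃ (g : R) (hX : S) (hZ : C) (hY : D), g ∉ p ∧ hX ∉ q ∧ hZ ∉ z ∧ hY ∉ y ∧
      IsUnit (algebraMap S (Localization.Away hX) u) ∧
      ∃ (_ : Algebra (Localization.Away g) (Localization.Away hX)) (_ : IsScalarTower R (Localization.Away g) (Localization.Away hX))
        (_ : Algebra (Localization.Away g) (Localization.Away hZ)) (_ : IsScalarTower R (Localization.Away g) (Localization.Away hZ))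
        (_ : Algebra (Localization.Away g) (Localization.Away hY)) (_ : IsScalarTower R (Localization.Away g) (Localization.Away hY))
        (_ : Algebra (Localization.Away hX) (Localization.Away hZ)) (_ : IsScalarTower S (Localization.Away hX) (Localization.Away hZ))
        (_ : IsScalarTower (Localization.Away g) (Localization.Away hX) (Localization.Away hZ))
        (_ : Algebra (Localization.Away hY) (Localization.Away hZ)) (_ : IsScalarTower D (Localization.Away hY) (Localization.Away hZ))
        (_ : IsScalarTower (Localization.Away g) (Localization.Away hY) (Localization.Away hZ))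
        (_ : Module (Localization.Away g) (LocalizedModule (Submonoid.powers hX) N)) (_ : IsScalarTower (Localization.Away g) (Localization.Away hX) (LocalizedModule (Submonoid.powers hX) N))
        (_ : Module (Localization.Away hX) (LocalizedModule (Submonoid.powers hZ) G)) (_ : IsScalarTower (Localization.Away hX) (Localization.Away hZ) (LocalizedModule (Submonoid.powers hZ) G))
        (_ : (Ideal.map (algebraMap R (Localization.Away g)) p).IsPrime) (_ : (Ideal.map (algebraMap D (Localization.Away hY)) y).IsPrime) (_ : (Ideal.map (algebraMap D (Localization.Away hY)) y).LiesOver (Ideal.map (algebraMap R (Localization.Away g)) p)),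
        FlatCA.IsOneStepDevissage (Localization.Away g) (Localization.Away hX) (LocalizedModule (Submonoid.powers hX) N) (Ideal.map (algebraMap R (Localization.Away g)) p) (Localization.Away hZ) (Localization.Away hY) (LocalizedModule (Submonoid.powers hZ) G) n ∧
        (∃ (ξ : PrimeSpectrum ((Ideal.map (algebraMap R (Localization.Away g)) p).Fiber (Localization.Away hX)))
            (hξ : ξ ∈ Module.support ((Ideal.map (algebraMap R (Localization.Away g)) p).Fiber (Localization.Away hX)) (FlatCA.fiberMod (Ideal.map (algebraMap R (Localization.Away g)) p) (Localization.Away hX) (LocalizedModule (Submonoid.powers hX) N))),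
          ξ.asIdeal = FlatCA.fiberIdeal (Ideal.map (algebraMap R (Localization.Away g)) p) (Ideal.map (algebraMap S (Localization.Away hX)) q) ∧
          FlatMor.localDim (Module.support ((Ideal.map (algebraMap R (Localization.Away g)) p).Fiber (Localization.Away hX)) (FlatCA.fiberMod (Ideal.map (algebraMap R (Localization.Away g)) p) (Localization.Away hX) (LocalizedModule (Submonoid.powers hX) N))) ⟨ξ, hξ⟩ = n) ∧
        (Ideal.map (algebraMap C (Localization.Away hZ)) z).LiesOver (Ideal.map (algebraMap S (Localization.Away hX)) q) ∧ (Ideal.map (algebraMap C (Localization.Away hZ)) z).LiesOver (Ideal.map (algebraMap D (Localization.Away hY)) y) ∧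
        (∀ (z₂ : Ideal (Localization.Away hZ)) [z₂.IsPrime], z₂.LiesOver (Ideal.map (algebraMap D (Localization.Away hY)) y) → z₂ = Ideal.map (algebraMap C (Localization.Away hZ)) z) ∧
        FlatCA.PurelyTranscendental (Ideal.map (algebraMap R (Localization.Away g)) p) (Ideal.map (algebraMap D (Localization.Away hY)) y) := by
  obtain ⟨e, hsC, hfp, hfin, hfinG, hsm, hrest⟩ := id h
  have : Module.Finite D C := hfin
  have hw0 : ∃ w, w ∉ y ∧ algebraMap D C w ∈ Ideal.span {algebraMap S C u} := by
    by_contra hne
    push Not at hne
    have hle : (Ideal.span {algebraMap S C u}).comap (algebraMap D C) ≤ y := fun a ha => by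
      by_contra hay
      exact hne a hay ha
    obtain ⟨Q, hQu, hQp, hQy⟩ := Ideal.exists_ideal_over_prime_of_isIntegral y _ hle
    have hQz : Q = z := h3 Q ⟨hQy.symm⟩
    refine hu ?_
    rw [z.over_def q]
    exact hQz ▸ hQu (Ideal.mem_span_singleton_self _)
  obtain ⟨w, hw, hwu⟩ := hw0
  obtain ⟨s, hs⟩ := hsC (algebraMap D C w)
  obtain ⟨g, hgp, hsurj⟩ := H8Props.Devissage.exists_basicOpen_le_image hsm p y hw
  let hX : S := u * s * algebraMap R S g
  let hY : D := w * algebraMap R D g
  let hZ : C := algebraMap D C hY
  have hgS : algebraMap R S g ∣ hX := dvd_mul_left _ _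
  have hgD : algebraMap R D g ∣ hY := dvd_mul_left _ _
  have hgC : algebraMap R C g ∣ hZ := by
    rw [IsScalarTower.algebraMap_apply R D C]
    exact map_dvd (algebraMap _ _) hgD
  have hopen : ∀ P : PrimeSpectrum C, hZ ∈ P.asIdeal ↔ algebraMap S C hX ∈ P.asIdeal := by
    intro P
    obtain ⟨c, hc⟩ := Ideal.mem_span_singleton.mp hwu
    simp only [hZ, hX, hY, map_mul, hs, ← IsScalarTower.algebraMap_apply]
    have hP : P.asIdeal.IsPrime := P.isPrime
    simp only [hP.mul_mem_iff_mem_or_mem]
    have : algebraMap S C u ∈ P.asIdeal → algebraMap D C w ∈ P.asIdeal := fun h' =>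
      hc ▸ P.asIdeal.mul_mem_right c h'
    tauto
  have hloc : IsLocalization.Away (algebraMap S C hX) (Localization.Away hZ) :=
    H8Props.Devissage.away_of_basicOpen_eq hZ _ hopen
  have hyY : hY ∉ y := by
    intro hc
    rcases (inferInstance : y.IsPrime).mem_or_mem hc with hc | hc
    · exact hw hc
    · exact hgp (by rw [y.over_def p]; exact hc)
  have hzZ : hZ ∉ z := fun hc => hyY (by rw [z.over_def y]; exact hc)
  have hXq : hX ∉ q := fun hc => hzZ ((hopen ⟨z, inferInstance⟩).mpr (by
    show algebraMap S C hX ∈ z
    rw [z.over_def q] at hc
    exact hc))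
  let aX : Algebra (Localization.Away g) (Localization.Away hX) := (IsLocalization.Away.lift g
    (H8Props.Devissage.isUnit_map_of_dvd (B₁ := Localization.Away hX) g hX hgS)).toAlgebra
  let aZ : Algebra (Localization.Away g) (Localization.Away hZ) := (IsLocalization.Away.lift g
    (H8Props.Devissage.isUnit_map_of_dvd (B₁ := Localization.Away hZ) g hZ hgC)).toAlgebra
  let aY : Algebra (Localization.Away g) (Localization.Away hY) := (IsLocalization.Away.lift g
    (H8Props.Devissage.isUnit_map_of_dvd (B₁ := Localization.Away hY) g hY hgD)).toAlgebra
  have uXZ : IsUnit ((algebraMap C (Localization.Away hZ)).comp (algebraMap S C) hX) :=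
    IsLocalization.Away.algebraMap_isUnit (algebraMap S C hX)
  let aXZ : Algebra (Localization.Away hX) (Localization.Away hZ) :=
    (IsLocalization.Away.lift hX uXZ).toAlgebra
  have uYZ : IsUnit ((algebraMap C (Localization.Away hZ)).comp (algebraMap D C) hY) :=
    IsLocalization.Away.algebraMap_isUnit hZ
  let aYZ : Algebra (Localization.Away hY) (Localization.Away hZ) :=
    (IsLocalization.Away.lift hY uYZ).toAlgebra
  have t1 : IsScalarTower R (Localization.Away g) (Localization.Away hX) :=
    IsScalarTower.of_algebraMap_eq fun r => (IsScalarTower.algebraMap_apply R S _ r).trans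
      (IsLocalization.Away.lift_eq g
        (H8Props.Devissage.isUnit_map_of_dvd (B₁ := Localization.Away hX) g hX hgS) r).symm
  have t2 : IsScalarTower R (Localization.Away g) (Localization.Away hZ) :=
    IsScalarTower.of_algebraMap_eq fun r => (IsScalarTower.algebraMap_apply R C _ r).trans
      (IsLocalization.Away.lift_eq g
        (H8Props.Devissage.isUnit_map_of_dvd (B₁ := Localization.Away hZ) g hZ hgC) r).symm
  have t3 : IsScalarTower R (Localization.Away g) (Localization.Away hY) :=
    IsScalarTower.of_algebraMap_eq fun r => (IsScalarTower.algebraMap_apply R D _ r).trans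
      (IsLocalization.Away.lift_eq g
        (H8Props.Devissage.isUnit_map_of_dvd (B₁ := Localization.Away hY) g hY hgD) r).symm
  have t4 : IsScalarTower S (Localization.Away hX) (Localization.Away hZ) :=
    IsScalarTower.of_algebraMap_eq fun s => (IsScalarTower.algebraMap_apply S C _ s).trans
      (IsLocalization.Away.lift_eq hX uXZ s).symm
  have t5 : IsScalarTower D (Localization.Away hY) (Localization.Away hZ) :=
    IsScalarTower.of_algebraMap_eq fun d => (IsScalarTower.algebraMap_apply D C _ d).trans
      (IsLocalization.Away.lift_eq hY uYZ d).symm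
  have t6 : IsScalarTower (Localization.Away g) (Localization.Away hX) (Localization.Away hZ) := by
    refine IsScalarTower.of_algebraMap_eq' (IsLocalization.ringHom_ext (Submonoid.powers g) ?_)
    ext r
    simp only [RingHom.comp_apply, ← IsScalarTower.algebraMap_apply]
    rw [IsScalarTower.algebraMap_apply R S (Localization.Away hX), ← IsScalarTower.algebraMap_apply S,
      IsScalarTower.algebraMap_apply S C, ← IsScalarTower.algebraMap_apply R S C,
      ← IsScalarTower.algebraMap_apply R C]
  have t7 : IsScalarTower (Localization.Away g) (Localization.Away hY) (Localization.Away hZ) := by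
    refine IsScalarTower.of_algebraMap_eq' (IsLocalization.ringHom_ext (Submonoid.powers g) ?_)
    ext r
    simp only [RingHom.comp_apply, ← IsScalarTower.algebraMap_apply]
    rw [IsScalarTower.algebraMap_apply R D (Localization.Away hY), ← IsScalarTower.algebraMap_apply D,
      IsScalarTower.algebraMap_apply D C, ← IsScalarTower.algebraMap_apply R D C,
      ← IsScalarTower.algebraMap_apply R C]
  let mN : Module (Localization.Away g) (LocalizedModule (Submonoid.powers hX) N) :=
    Module.compHom _ (algebraMap (Localization.Away g) (Localization.Away hX))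
  have t8 : IsScalarTower (Localization.Away g) (Localization.Away hX)
      (LocalizedModule (Submonoid.powers hX) N) := .of_algebraMap_smul fun _ _ => rfl
  let mG : Module (Localization.Away hX) (LocalizedModule (Submonoid.powers hZ) G) :=
    Module.compHom _ (algebraMap (Localization.Away hX) (Localization.Away hZ))
  have t9 : IsScalarTower (Localization.Away hX) (Localization.Away hZ)
      (LocalizedModule (Submonoid.powers hZ) G) := .of_algebraMap_smul fun _ _ => rfl
  have hp₁ := H8Props.Devissage.isPrime_map_away (S₁ := Localization.Away g) g p hgp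
  have := H8Props.Devissage.liesOver_map_away (S₁ := Localization.Away g) g p hgp
  have hy₁ := H8Props.Devissage.isPrime_map_away (S₁ := Localization.Away hY) hY y hyY
  have := H8Props.Devissage.liesOver_map_away (S₁ := Localization.Away hY) hY y hyY
  have hyp : (Ideal.map (algebraMap D (Localization.Away hY)) y).LiesOver
      (Ideal.map (algebraMap R (Localization.Away g)) p) := by
    have := Ideal.LiesOver.trans (Ideal.map (algebraMap D (Localization.Away hY)) y) y p
    refine ⟨?_⟩
    rw [← IsLocalization.map_under (Submonoid.powers g) (Localization.Away g)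
        ((Ideal.map (algebraMap D (Localization.Away hY)) y).under (Localization.Away g)),
      Ideal.under_under, ← (Ideal.map (algebraMap D (Localization.Away hY)) y).over_def p]
  have key := H8Props.Devissage.shrink (R₁ := Localization.Away g) (S₁ := Localization.Away hX)
    (C₁ := Localization.Away hZ) (D₁ := Localization.Away hY)
    (N₁ := LocalizedModule (Submonoid.powers hX) N) (G₁ := LocalizedModule (Submonoid.powers hZ) G)
    g hX hY h h1 h3 h4 (hsurj (Localization.Away g) (Localization.Away hY)) hgp hXq hyY
    (IsLocalizedModule.isBaseChange (Submonoid.powers hX) (Localization.Away hX)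
      (LocalizedModule.mkLinearMap (Submonoid.powers hX) N))
    (IsLocalizedModule.isBaseChange (Submonoid.powers hZ) (Localization.Away hZ)
      (LocalizedModule.mkLinearMap (Submonoid.powers hZ) G))
  exact ⟨g, hX, hZ, hY, hgp, hXq, hzZ, hyY, isUnit_of_dvd_unit (map_dvd (algebraMap _ _)
    ((dvd_mul_right u s).trans (dvd_mul_right _ _))) (IsLocalization.Away.algebraMap_isUnit hX),
    aX, t1, aZ, t2, aY, t3, aXZ, t4, t6, aYZ, t5, t7, mN, t8, mG, t9, hp₁, hy₁, hyp, key⟩

end Groth.Agent.S12241
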