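import Groth.Statements.S12242
import Groth.Agent.H8Props.Devissage.Shrink

set_option autoImplicit false
universe u
open FlatMor

namespace Groth.Agent.S12242

open TensorProduct in
/-- All schemes are affine and standard opens are rendered as localizations away from one element. Let R
→ S be of finite type, N a finite S-module, p ⊆ R and q ⊆ S primes with q over p, and (C, D, G, n;
z, y) a one-step dévissage of N/S/R at q: (C, D, G, n) is a one-step dévissage over p (C a finitely
presented quotient of S carrying a finite module G identified with N, D smooth of relative dimension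
n over R with geometrically irreducible fibres, D → C finite, n the dimension of the support of N ⊗
κ(p)), z is a prime of C over q and over the prime y of D, the local dimension at q of that support
is n, z is the only prime of C over y, and κ(y)/κ(p) is purely transcendental. Then for every w ∈ D
outside y (a standard open neighbourhood D(w) of the point y) there is a standard shrinking whose
piece of Spec D is D(w) pulled back to the shrunken base: elements g ∉ p, hX ∉ q, hZ ∉ z, and ring
and module structures making S[1/hX], C[1/hZ], D[1/wg] algebras over R[1/g], C[1/hZ] an algebra over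
S[1/hX] and over D[1/wg], all compatibly with the given maps, such that (C[1/hZ], D[1/wg], G[1/hZ],
n) is a one-step dévissage of N[1/hX] over S[1/hX] relative to R[1/g] at the extended prime of q,
with the extended primes of z and y as its points (z-point over the q-point and the y-point, unique
over the y-point, purely transcendental residue field over that of pR[1/g], and local dimension n of
the fibre support at the q-point). Here wg denotes the product of w with the image of g in D. -/
theorem result
    (R S : Type u) [CommRing R] [CommRing S] [Algebra R S] [Algebra.FiniteType R S]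
    (N : Type u) [AddCommGroup N] [Module S N] [Module R N] [IsScalarTower R S N] [Module.Finite S N]
    (p : Ideal R) [p.IsPrime] (q : Ideal S) [q.IsPrime] [q.LiesOver p]
    (C D G : Type u) [CommRing C] [CommRing D] [Algebra S C] [Algebra R C] [IsScalarTower R S C]
    [Algebra R D] [Algebra D C] [IsScalarTower R D C] [AddCommGroup G] [Module C G] [Module S G]
    [IsScalarTower S C G] (n : ℕ)
    (h : FlatCA.IsOneStepDevissage R S N p C D G n)
    (z : Ideal C) [z.IsPrime] (y : Ideal D) [y.IsPrime] [z.LiesOver q] [z.LiesOver y] [y.LiesOver p]
    (h1 : ∃ (ξ : PrimeSpectrum (p.Fiber S)) (hξ : ξ ∈ Module.support (p.Fiber S) (FlatCA.fiberMod p S N)),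
      ξ.asIdeal = FlatCA.fiberIdeal p q ∧
      FlatMor.localDim (Module.support (p.Fiber S) (FlatCA.fiberMod p S N)) ⟨ξ, hξ⟩ = n)
    (h3 : ∀ (z₁ : Ideal C) [z₁.IsPrime], z₁.LiesOver y → z₁ = z)
    (h4 : FlatCA.PurelyTranscendental p y)
    (w : D) (hw : w ∉ y) :
    ∃ (g : R) (hX : S) (hZ : C), g ∉ p ∧ hX ∉ q ∧ hZ ∉ z ∧
      ∃ (_ : Algebra (Localization.Away g) (Localization.Away hX)) (_ : IsScalarTower R (Localization.Away g) (Localization.Away hX))
        (_ : Algebra (Localization.Away g) (Localization.Away hZ)) (_ : IsScalarTower R (Localization.Away g) (Localization.Away hZ))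
        (_ : Algebra (Localization.Away g) (Localization.Away (w * algebraMap R D g))) (_ : IsScalarTower R (Localization.Away g) (Localization.Away (w * algebraMap R D g)))
        (_ : Algebra (Localization.Away hX) (Localization.Away hZ)) (_ : IsScalarTower S (Localization.Away hX) (Localization.Away hZ))
        (_ : IsScalarTower (Localization.Away g) (Localization.Away hX) (Localization.Away hZ))
        (_ : Algebra (Localization.Away (w * algebraMap R D g)) (Localization.Away hZ)) (_ : IsScalarTower D (Localization.Away (w * algebraMap R D g)) (Localization.Away hZ))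
        (_ : IsScalarTower (Localization.Away g) (Localization.Away (w * algebraMap R D g)) (Localization.Away hZ))
        (_ : Module (Localization.Away g) (LocalizedModule (Submonoid.powers hX) N)) (_ : IsScalarTower (Localization.Away g) (Localization.Away hX) (LocalizedModule (Submonoid.powers hX) N))
        (_ : Module (Localization.Away hX) (LocalizedModule (Submonoid.powers hZ) G)) (_ : IsScalarTower (Localization.Away hX) (Localization.Away hZ) (LocalizedModule (Submonoid.powers hZ) G))
        (_ : (Ideal.map (algebraMap R (Localization.Away g)) p).IsPrime) (_ : (Ideal.map (algebraMap D (Localization.Away (w * algebraMap R D g))) y).IsPrime) (_ : (Ideal.map (algebraMap D (Localization.Away (w * algebraMap R D g))) y).LiesOver (Ideal.map (algebraMap R (Localization.Away g)) p)),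
        FlatCA.IsOneStepDevissage (Localization.Away g) (Localization.Away hX) (LocalizedModule (Submonoid.powers hX) N) (Ideal.map (algebraMap R (Localization.Away g)) p) (Localization.Away hZ) (Localization.Away (w * algebraMap R D g)) (LocalizedModule (Submonoid.powers hZ) G) n ∧
        (∃ (ξ : PrimeSpectrum ((Ideal.map (algebraMap R (Localization.Away g)) p).Fiber (Localization.Away hX)))
            (hξ : ξ ∈ Module.support ((Ideal.map (algebraMap R (Localization.Away g)) p).Fiber (Localization.Away hX)) (FlatCA.fiberMod (Ideal.map (algebraMap R (Localization.Away g)) p) (Localization.Away hX) (LocalizedModule (Submonoid.powers hX) N))),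
          ξ.asIdeal = FlatCA.fiberIdeal (Ideal.map (algebraMap R (Localization.Away g)) p) (Ideal.map (algebraMap S (Localization.Away hX)) q) ∧
          FlatMor.localDim (Module.support ((Ideal.map (algebraMap R (Localization.Away g)) p).Fiber (Localization.Away hX)) (FlatCA.fiberMod (Ideal.map (algebraMap R (Localization.Away g)) p) (Localization.Away hX) (LocalizedModule (Submonoid.powers hX) N))) ⟨ξ, hξ⟩ = n) ∧
        (Ideal.map (algebraMap C (Localization.Away hZ)) z).LiesOver (Ideal.map (algebraMap S (Localization.Away hX)) q) ∧ (Ideal.map (algebraMap C (Localization.Away hZ)) z).LiesOver (Ideal.map (algebraMap D (Localization.Away (w * algebraMap R D g))) y) ∧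
        (∀ (z₂ : Ideal (Localization.Away hZ)) [z₂.IsPrime], z₂.LiesOver (Ideal.map (algebraMap D (Localization.Away (w * algebraMap R D g))) y) → z₂ = Ideal.map (algebraMap C (Localization.Away hZ)) z) ∧
        FlatCA.PurelyTranscendental (Ideal.map (algebraMap R (Localization.Away g)) p) (Ideal.map (algebraMap D (Localization.Away (w * algebraMap R D g))) y) := by
  obtain ⟨e, hsC, hfp, hfin, hfinG, hsm, hrest⟩ := id h
  obtain ⟨s, hs⟩ := hsC (algebraMap D C w)
  obtain ⟨g, hgp, hsurj⟩ := H8Props.Devissage.exists_basicOpen_le_image hsm p y hw
  let hX : S := s * algebraMap R S g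
  let hY : D := w * algebraMap R D g
  let hZ : C := algebraMap D C hY
  have hgS : algebraMap R S g ∣ hX := dvd_mul_left _ _
  have hgD : algebraMap R D g ∣ hY := dvd_mul_left _ _
  have hgC : algebraMap R C g ∣ hZ := by
    rw [IsScalarTower.algebraMap_apply R D C]
    exact map_dvd (algebraMap _ _) hgD
  have hopen : ∀ P : PrimeSpectrum C, hZ ∈ P.asIdeal ↔ algebraMap S C hX ∈ P.asIdeal := by
    intro P
    simp only [hZ, hX, hY, map_mul, hs, ← IsScalarTower.algebraMap_apply]
  have hloc : IsLocalization.Away (algebraMap S C hX) (Localization.Away hZ) :=
    H8Props.Devissage.away_of_basicOpen_eq hZ _ hopen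
  have hyY : hY ∉ y := by
    intro hc
    rcases (inferInstance : y.IsPrime).mem_or_mem hc with hc | hc
    · exact hw hc
    · exact hgp (by rw [y.over_def p]; exact hc)
  have hzZ : hZ ∉ z := fun hc => hyY (by rw [z.over_def y]; exact hc)
  have hXq : hX ∉ q := fun hc => hzZ ((hopen ⟨z, inferInstance⟩).mpr (by
    show algebraMap S C hX ∈ z
    rw [z.over_def q] at hc
    exact hc))
  let aX : Algebra (Localization.Away g) (Localization.Away hX) := (IsLocalization.Away.lift g
    (H8Props.Devissage.isUnit_map_of_dvd (B₁ := Localization.Away hX) g hX hgS)).toAlgebra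
  let aZ : Algebra (Localization.Away g) (Localization.Away hZ) := (IsLocalization.Away.lift g
    (H8Props.Devissage.isUnit_map_of_dvd (B₁ := Localization.Away hZ) g hZ hgC)).toAlgebra
  let aY : Algebra (Localization.Away g) (Localization.Away hY) := (IsLocalization.Away.lift g
    (H8Props.Devissage.isUnit_map_of_dvd (B₁ := Localization.Away hY) g hY hgD)).toAlgebra
  have uXZ : IsUnit ((algebraMap C (Localization.Away hZ)).comp (algebraMap S C) hX) :=
    IsLocalization.Away.algebraMap_isUnit (algebraMap S C hX)
  let aXZ : Algebra (Localization.Away hX) (Localization.Away hZ) :=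
    (IsLocalization.Away.lift hX uXZ).toAlgebra
  have uYZ : IsUnit ((algebraMap C (Localization.Away hZ)).comp (algebraMap D C) hY) :=
    IsLocalization.Away.algebraMap_isUnit hZ
  let aYZ : Algebra (Localization.Away hY) (Localization.Away hZ) :=
    (IsLocalization.Away.lift hY uYZ).toAlgebra
  have t1 : IsScalarTower R (Localization.Away g) (Localization.Away hX) :=
    IsScalarTower.of_algebraMap_eq fun r => (IsScalarTower.algebraMap_apply R S _ r).trans
      (IsLocalization.Away.lift_eq g
        (H8Props.Devissage.isUnit_map_of_dvd (B₁ := Localization.Away hX) g hX hgS) r).symm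
  have t2 : IsScalarTower R (Localization.Away g) (Localization.Away hZ) :=
    IsScalarTower.of_algebraMap_eq fun r => (IsScalarTower.algebraMap_apply R C _ r).trans
      (IsLocalization.Away.lift_eq g
        (H8Props.Devissage.isUnit_map_of_dvd (B₁ := Localization.Away hZ) g hZ hgC) r).symm
  have t3 : IsScalarTower R (Localization.Away g) (Localization.Away hY) :=
    IsScalarTower.of_algebraMap_eq fun r => (IsScalarTower.algebraMap_apply R D _ r).trans
      (IsLocalization.Away.lift_eq g
        (H8Props.Devissage.isUnit_map_of_dvd (B₁ := Localization.Away hY) g hY hgD) r).symm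
  have t4 : IsScalarTower S (Localization.Away hX) (Localization.Away hZ) :=
    IsScalarTower.of_algebraMap_eq fun s => (IsScalarTower.algebraMap_apply S C _ s).trans
      (IsLocalization.Away.lift_eq hX uXZ s).symm
  have t5 : IsScalarTower D (Localization.Away hY) (Localization.Away hZ) :=
    IsScalarTower.of_algebraMap_eq fun d => (IsScalarTower.algebraMap_apply D C _ d).trans
      (IsLocalization.Away.lift_eq hY uYZ d).symm
  have t6 : IsScalarTower (Localization.Away g) (Localization.Away hX) (Localization.Away hZ) := by
    refine IsScalarTower.of_algebraMap_eq' (IsLocalization.ringHom_ext (Submonoid.powers g) ?_)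
    ext r
    simp only [RingHom.comp_apply, ← IsScalarTower.algebraMap_apply]
    rw [IsScalarTower.algebraMap_apply R S (Localization.Away hX), ← IsScalarTower.algebraMap_apply S,
      IsScalarTower.algebraMap_apply S C, ← IsScalarTower.algebraMap_apply R S C,
      ← IsScalarTower.algebraMap_apply R C]
  have t7 : IsScalarTower (Localization.Away g) (Localization.Away hY) (Localization.Away hZ) := by
    refine IsScalarTower.of_algebraMap_eq' (IsLocalization.ringHom_ext (Submonoid.powers g) ?_)
    ext r
    simp only [RingHom.comp_apply, ← IsScalarTower.algebraMap_apply]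
    rw [IsScalarTower.algebraMap_apply R D (Localization.Away hY), ← IsScalarTower.algebraMap_apply D,
      IsScalarTower.algebraMap_apply D C, ← IsScalarTower.algebraMap_apply R D C,
      ← IsScalarTower.algebraMap_apply R C]
  let mN : Module (Localization.Away g) (LocalizedModule (Submonoid.powers hX) N) :=
    Module.compHom _ (algebraMap (Localization.Away g) (Localization.Away hX))
  have t8 : IsScalarTower (Localization.Away g) (Localization.Away hX)
      (LocalizedModule (Submonoid.powers hX) N) := .of_algebraMap_smul fun _ _ => rfl
  let mG : Module (Localization.Away hX) (LocalizedModule (Submonoid.powers hZ) G) :=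
    Module.compHom _ (algebraMap (Localization.Away hX) (Localization.Away hZ))
  have t9 : IsScalarTower (Localization.Away hX) (Localization.Away hZ)
      (LocalizedModule (Submonoid.powers hZ) G) := .of_algebraMap_smul fun _ _ => rfl
  have hp₁ := H8Props.Devissage.isPrime_map_away (S₁ := Localization.Away g) g p hgp
  have := H8Props.Devissage.liesOver_map_away (S₁ := Localization.Away g) g p hgp
  have hy₁ := H8Props.Devissage.isPrime_map_away (S₁ := Localization.Away hY) hY y hyY
  have := H8Props.Devissage.liesOver_map_away (S₁ := Localization.Away hY) hY y hyY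
  have hyp : (Ideal.map (algebraMap D (Localization.Away hY)) y).LiesOver
      (Ideal.map (algebraMap R (Localization.Away g)) p) := by
    have := Ideal.LiesOver.trans (Ideal.map (algebraMap D (Localization.Away hY)) y) y p
    refine ⟨?_⟩
    rw [← IsLocalization.map_under (Submonoid.powers g) (Localization.Away g)
        ((Ideal.map (algebraMap D (Localization.Away hY)) y).under (Localization.Away g)),
      Ideal.under_under, ← (Ideal.map (algebraMap D (Localization.Away hY)) y).over_def p]
  have key := H8Props.Devissage.shrink (R₁ := Localization.Away g) (S₁ := Localization.Away hX)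
    (C₁ := Localization.Away hZ) (D₁ := Localization.Away hY)
    (N₁ := LocalizedModule (Submonoid.powers hX) N) (G₁ := LocalizedModule (Submonoid.powers hZ) G)
    g hX hY h h1 h3 h4 (hsurj (Localization.Away g) (Localization.Away hY)) hgp hXq hyY
    (IsLocalizedModule.isBaseChange (Submonoid.powers hX) (Localization.Away hX)
      (LocalizedModule.mkLinearMap (Submonoid.powers hX) N))
    (IsLocalizedModule.isBaseChange (Submonoid.powers hZ) (Localization.Away hZ)
      (LocalizedModule.mkLinearMap (Submonoid.powers hZ) G))
  exact ⟨g, hX, hZ, hgp, hXq, hzZ, aX, t1, aZ, t2, aY, t3, aXZ, t4, t6, aYZ, t5, t7, mN, t8, mG, t9,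
    hp₁, hy₁, hyp, key⟩

end Groth.Agent.S12242
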