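import Groth.Statements.S12244
import Groth.Agent.H8Props.Devissage.PointsBC

set_option autoImplicit false
universe u
open FlatMor

namespace Groth.Agent.S12244

open Groth.Agent.H8Props.Devissage

open TensorProduct in
/-- All schemes are affine. Let R → S be of finite type, N a finite S-module, p ⊆ R and q ⊆ S primes, 𝒟
a complete dévissage of N/S/R over p in the prelude's algebraic form and 𝒜 a datum making it a
complete dévissage at q (primes qB_i ⊆ B_i over p with purely transcendental residue fields, unique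
primes qA_i ⊆ A_i over them, threaded through q and through the maps B_i → A_{i+1}, relative
dimensions d_i of R → B_i equal to the local dimension of the fibre support of M_i at qB_i). Let R →
R' be a ring map and p' a prime over p with κ(p) → κ(p') bijective, S' the base change of S, N' = N
⊗_S S', and q' a prime of S' over q and over p'. Let 𝒟' be a complete dévissage of N'/S'/R' over p'
of the same length whose rings A'_i, B'_i (i below the length) are base changes of A_i, B_i along R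
→ R' compatibly with B_i → A_i, B_i → A_{i+1}, S → A_0 and S' → A'_0, and whose modules M'_i are
base changes of M_i along A_i → A'_i compatibly with N ≅ M_0 and N' ≅ M'_0. Assume moreover that at
every index at or beyond the length the ring B'_i has a prime over p' and A'_i a prime over that one
(the structure's families run over all natural numbers and constrain nothing at those indices, while
a datum at a point asks for such primes at every index; the condition touches only this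
unconstrained tail and holds, for instance, when the tail repeats the last genuine step — without it
the zero ring could sit there and no datum would exist). Then 𝒟' is a complete dévissage at q' with
the same relative dimensions: there is a datum 𝒜' for (𝒟', q') with d' = d whose primes qB'_i, qA'_i
lie over qB_i, qA_i for every step i below the length. -/
theorem result
    (R S : Type u) [CommRing R] [CommRing S] [Algebra R S] [Algebra.FiniteType R S]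
    (N : Type u) [AddCommGroup N] [Module S N] [Module.Finite S N]
    (p : Ideal R) [p.IsPrime] (q : Ideal S) [q.IsPrime] (𝒟 : FlatCA.CompleteDevissage R S N p)
    (𝒜 : FlatCA.CompleteDevissageAt R S N p q 𝒟)
    (R' : Type u) [CommRing R'] [Algebra R R'] (p' : Ideal R') [p'.IsPrime] [hp' : p'.LiesOver p]
    (hκ : Function.Bijective (Ideal.ResidueField.mapₐ p p' (Algebra.ofId R R') hp'.over))
    (S' : Type u) [CommRing S'] [Algebra R' S'] [Algebra R S'] [Algebra S S'] [IsScalarTower R R' S']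
    [IsScalarTower R S S'] [Algebra.IsPushout R R' S S']
    (N' : Type u) [AddCommGroup N'] [Module S' N'] [Module S N'] [IsScalarTower S S' N']
    (f : N →ₗ[S] N') (hf : IsBaseChange S' f)
    (q' : Ideal S') [q'.IsPrime] [q'.LiesOver q] [q'.LiesOver p']
    (𝒟' : FlatCA.CompleteDevissage R' S' N' p') (hn : 𝒟'.n = 𝒟.n)
    (htail : ∀ i, 𝒟.n ≤ i → ∃ (Q : Ideal (𝒟'.B i)) (P : Ideal (𝒟'.A i)),
      Q.IsPrime ∧ P.IsPrime ∧ Q.LiesOver p' ∧ P.LiesOver Q)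
    [aA : ∀ i : Fin 𝒟.n, Algebra (𝒟.A i) (𝒟'.A i)] [rA : ∀ i : Fin 𝒟.n, Algebra R (𝒟'.A i)]
      [∀ i : Fin 𝒟.n, IsScalarTower R (R') (𝒟'.A i)] [∀ i : Fin 𝒟.n, IsScalarTower R (𝒟.A i) (𝒟'.A i)]
      [aB : ∀ i : Fin 𝒟.n, Algebra (𝒟.B i) (𝒟'.B i)] [rB : ∀ i : Fin 𝒟.n, Algebra R (𝒟'.B i)]
      [∀ i : Fin 𝒟.n, IsScalarTower R (R') (𝒟'.B i)] [∀ i : Fin 𝒟.n, IsScalarTower R (𝒟.B i) (𝒟'.B i)]
      [bA : ∀ i : Fin 𝒟.n, Algebra (𝒟.B i) (𝒟'.A i)] [∀ i : Fin 𝒟.n, IsScalarTower (𝒟.B i) (𝒟.A i) (𝒟'.A i)]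
      [∀ i : Fin 𝒟.n, IsScalarTower (𝒟.B i) (𝒟'.B i) (𝒟'.A i)]
      [bA' : ∀ i : Fin 𝒟.n, Algebra (𝒟.B i) (𝒟'.A (i + 1))]
      [∀ i : Fin 𝒟.n, IsScalarTower (𝒟.B i) (𝒟'.B i) (𝒟'.A (i + 1))]
      [sA : Algebra S (𝒟'.A 0)] [IsScalarTower S (S') (𝒟'.A 0)]
      [mA : ∀ i : Fin 𝒟.n, Module (𝒟.A i) (𝒟'.M i)] [∀ i : Fin 𝒟.n, IsScalarTower (𝒟.A i) (𝒟'.A i) (𝒟'.M i)]
      (gM : ∀ i : Fin 𝒟.n, 𝒟.M i →ₗ[𝒟.A i] 𝒟'.M i)
    (hbc : (letI := aA ⟨0, 𝒟.pos⟩; IsScalarTower S (𝒟.A 0) (𝒟'.A 0)) ∧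
      (∀ x : N, 𝒟'.isoN (f x) = gM ⟨0, 𝒟.pos⟩ (𝒟.isoN x)) ∧
      (∀ (i : Fin 𝒟.n) (h : (i : ℕ) + 1 < 𝒟.n),
        letI := aA ⟨i + 1, h⟩; IsScalarTower (𝒟.B i) (𝒟.A (i + 1)) (𝒟'.A (i + 1))) ∧
      ∀ i : Fin 𝒟.n,
        Algebra.IsPushout R R' (𝒟.A i) (𝒟'.A i) ∧ Algebra.IsPushout R R' (𝒟.B i) (𝒟'.B i) ∧
        IsBaseChange (𝒟'.A i) (gM i)) :
    ∃ 𝒜' : FlatCA.CompleteDevissageAt R' S' N' p' q' 𝒟', 𝒜'.d = 𝒜.d ∧
      ∀ i : Fin 𝒟.n, (𝒜'.qB i).LiesOver (𝒜.qB i) ∧ (𝒜'.qA i).LiesOver (𝒜.qA i) := by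
  obtain ⟨hS0, hN0, hstep, hall⟩ := hbc
  have hκ' : Function.Bijective (residueMap R p R' p') := hκ
  have hB : ∀ i : Fin 𝒟.n, Algebra.IsPushout R R' (𝒟.B i) (𝒟'.B i) := fun i => (hall i).2.1
  have hA : ∀ i : Fin 𝒟.n, Algebra.IsPushout R R' (𝒟.A i) (𝒟'.A i) := fun i => (hall i).1
  have := 𝒜.hqB
  have := 𝒜.hqA
  have := 𝒜.overB
  have := 𝒜.overA
  have hpA : ∀ i, (𝒜.qA i).LiesOver p := fun i => Ideal.LiesOver.trans (𝒜.qA i) (𝒜.qB i) p
  have hQ : ∀ i : Fin 𝒟.n, ∃ Q : Ideal (𝒟'.B i),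
      Q.IsPrime ∧ Q.LiesOver (𝒜.qB i) ∧ Q.LiesOver p' := fun i => by
    have := hB i
    exact exists_prime_over hκ' (𝒜.qB i)
  choose QB hQBp hQBo hQBp' using hQ
  have hP : ∀ i : Fin 𝒟.n, ∃ P : Ideal (𝒟'.A i),
      P.IsPrime ∧ P.LiesOver (𝒜.qA i) ∧ P.LiesOver p' ∧ P.LiesOver (QB i) := fun i => by
    have := hA i
    have := hB i
    have := hQBp i
    have := hQBo i
    have := hQBp' i
    obtain ⟨P, hP, ho, hp⟩ := exists_prime_over (S' := 𝒟'.A i) hκ' (𝒜.qA i)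
    have := Ideal.LiesOver.trans P (𝒜.qA i) (𝒜.qB i)
    exact ⟨P, hP, ho, hp, liesOver_of_unique (S' := 𝒟'.B i) hκ' (𝒜.qB i) (QB i) P⟩
  choose PA hPAp hPAo hPAp' hPAQ using hP
  choose TB TA hTBp hTAp hTBo hTAo using htail
  let qB' : ∀ i, Ideal (𝒟'.B i) := fun i =>
    if h : i < 𝒟.n then QB ⟨i, h⟩ else TB i (not_lt.mp h)
  let qA' : ∀ i, Ideal (𝒟'.A i) := fun i =>
    if h : i < 𝒟.n then PA ⟨i, h⟩ else TA i (not_lt.mp h)
  have eB : ∀ i : Fin 𝒟.n, qB' i = QB i := fun i => dif_pos i.2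
  have eA : ∀ i : Fin 𝒟.n, qA' i = PA i := fun i => dif_pos i.2
  have hqB' : ∀ i, (qB' i).IsPrime := fun i => by
    simp only [qB']; split
    exacts [hQBp _, hTBp _ _]
  have hqA' : ∀ i, (qA' i).IsPrime := fun i => by
    simp only [qA']; split
    exacts [hPAp _, hTAp _ _]
  have hoB' : ∀ i, (qB' i).LiesOver p' := fun i => by
    simp only [qB']; split
    exacts [hQBp' _, hTBo _ _]
  have hoA' : ∀ i, (qA' i).LiesOver (qB' i) := fun i => by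
    simp only [qA', qB']; split
    exacts [hPAQ _, hTAo _ _]
  have hoB : ∀ i : Fin 𝒟.n, (qB' i).LiesOver (𝒜.qB i) := fun i => by rw [eB]; exact hQBo i
  have hoA : ∀ i : Fin 𝒟.n, (qA' i).LiesOver (𝒜.qA i) := fun i => by rw [eA]; exact hPAo i
  have hpA' : ∀ i, (qA' i).LiesOver p' := fun i => Ideal.LiesOver.trans (qA' i) (qB' i) p'
  refine ⟨{
    qB := qB'
    qA := qA'
    hqB := hqB'
    hqA := hqA'
    overB := hoB'
    overA := hoA'
    d := 𝒜.d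
    pureTrans := ?_
    uniq := ?_
    q0 := ?_
    qStep := ?_
    relDim := ?_
    locDim := ?_ }, rfl, fun i => ⟨hoB i, hoA i⟩⟩
  · intro i hi
    obtain ⟨j, rfl⟩ : ∃ j : Fin 𝒟.n, (j : ℕ) = i := ⟨⟨i, hn ▸ hi⟩, rfl⟩
    have := hB j
    have := hoB j
    exact purelyTranscendental_baseChange hκ' (𝒜.qB j) (qB' j) (𝒜.pureTrans j j.2)
  · intro i hi Q _ hQ
    obtain ⟨j, rfl⟩ : ∃ j : Fin 𝒟.n, (j : ℕ) = i := ⟨⟨i, hn ▸ hi⟩, rfl⟩
    have := hA j
    have := hoB j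
    have := hoA j
    have := Ideal.LiesOver.trans Q (qB' j) p'
    have := Ideal.LiesOver.trans Q (qB' j) (𝒜.qB j)
    have hy : (Q.under (𝒟.A j)).LiesOver (𝒜.qB j) :=
      ⟨(Q.over_def (𝒜.qB j)).trans (Ideal.under_under Q).symm⟩
    have : Q.LiesOver (𝒜.qA j) := ⟨(𝒜.uniq j j.2 _ hy).symm⟩
    exact unique_prime (R := R) (p := p) hκ' (𝒜.qA j) Q (qA' j)
  · let j : Fin 𝒟.n := ⟨0, 𝒟.pos⟩
    let : Algebra (𝒟.A 0) (𝒟'.A 0) := aA j
    have := hoA j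
    have := hS0
    have hq : (qA' 0).LiesOver q := by
      have h0 : (𝒜.qA 0).LiesOver q := ⟨𝒜.q0.symm⟩
      exact Ideal.LiesOver.trans (qA' 0) (𝒜.qA 0) q
    exact (liesOver_of_unique (S' := S') hκ' q q' (qA' 0)).over.symm
  · intro i hi
    have hi₂ : i + 1 < 𝒟.n := hn ▸ hi
    obtain ⟨j, rfl⟩ : ∃ j : Fin 𝒟.n, (j : ℕ) = i := ⟨⟨i, Nat.lt_of_succ_lt hi₂⟩, rfl⟩
    let j' : Fin 𝒟.n := ⟨j + 1, hi₂⟩
    let : Algebra (𝒟.A (j + 1)) (𝒟'.A (j + 1)) := aA j'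
    let : Algebra R (𝒟'.A (j + 1)) := rA j'
    have : IsScalarTower R R' (𝒟'.A ((j : ℕ) + 1)) := inferInstanceAs (IsScalarTower R R' (𝒟'.A (j' : ℕ)))
    have : IsScalarTower R (𝒟.A ((j : ℕ) + 1)) (𝒟'.A ((j : ℕ) + 1)) :=
      inferInstanceAs (IsScalarTower R (𝒟.A (j' : ℕ)) (𝒟'.A (j' : ℕ)))
    have := hB j
    have := hoB j
    have := hoA j'
    have := hstep j hi₂
    have h0 : (𝒜.qA (j + 1)).LiesOver (𝒜.qB j) := ⟨(𝒜.qStep j hi₂).symm⟩
    have := Ideal.LiesOver.trans (qA' (j + 1)) (𝒜.qA (j + 1)) (𝒜.qB j)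
    exact (liesOver_of_unique (S' := 𝒟'.B j) hκ' (𝒜.qB j) (qB' j) (qA' (j + 1))).over.symm
  · intro i hi
    obtain ⟨j, rfl⟩ : ∃ j : Fin 𝒟.n, (j : ℕ) = i := ⟨⟨i, hn ▸ hi⟩, rfl⟩
    have := hB j
    exact smoothRelDim_baseChange R R' (𝒟.B j) (𝒟'.B j) _ (𝒜.relDim j j.2)
  · intro i hi
    obtain ⟨j, rfl⟩ : ∃ j : Fin 𝒟.n, (j : ℕ) = i := ⟨⟨i, hn ▸ hi⟩, rfl⟩
    have := hB j
    have := hA j
    have := hoB j
    have : Algebra.IsPushout (𝒟.B j) (𝒟'.B j) (𝒟.A j) (𝒟'.A j) :=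
      isPushout_middle R (𝒟.B j) (𝒟.A j) R' (𝒟'.B j) (𝒟'.A j)
    let : Module (𝒟.B j) (𝒟'.M j) := Module.compHom _ (algebraMap (𝒟.B j) (𝒟'.B j))
    have : IsScalarTower (𝒟.B j) (𝒟'.B j) (𝒟'.M j) := .of_algebraMap_smul fun _ _ => rfl
    have : IsScalarTower (𝒟.B j) (𝒟.A j) (𝒟'.M j) := .of_algebraMap_smul fun b x => by
      rw [← algebraMap_smul (𝒟'.A j) (algebraMap (𝒟.B j) (𝒟.A j) b) x,
        ← algebraMap_smul (𝒟'.B j) b x, ← algebraMap_smul (𝒟'.A j) (algebraMap (𝒟.B j) (𝒟'.B j) b) x,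
        ← IsScalarTower.algebraMap_apply, ← IsScalarTower.algebraMap_apply]
    have := 𝒟.finiteM j j.2
    have := 𝒟.finiteBA j j.2
    have : Module.Finite (𝒟.B j) (𝒟.M j) := Module.Finite.trans (𝒟.A j) (𝒟.M j)
    exact exists_localDim_eq hκ' (f := (gM j).restrictScalars (𝒟.B j))
      (isBaseChange_restrict (hall j).2.2) (𝒜.qB j) (qB' j) (𝒜.locDim j j.2)

end Groth.Agent.S12244
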