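import Groth.Statements.S12246
import Groth.Agent.H8Props.Devissage.ShrinkField

set_option autoImplicit false
universe u
open FlatMor

namespace Groth.Agent.S12246

open Groth.Agent.H8Props.Devissage

open TensorProduct in
/-- All schemes are affine and standard opens are rendered as localizations away from one element. Let R
→ S be of finite type, N a finite S-module, p ⊆ R and q ⊆ S primes, and (𝒟, 𝒜) a complete dévissage
of N/S/R at q in the prelude's algebraic form (rings A_i and smooth R-algebras B_i, modules M_i,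
maps α_i, points qA_i, qB_i and relative dimensions d_i). Then for every u ∈ S outside q there is a
standard shrinking inside D(u): g ∉ p and hX ∉ q with u invertible in S[1/hX], compatible structures
making S[1/hX] and N[1/hX] live over R[1/g], and a complete dévissage (𝒟', 𝒜') of N[1/hX] over
S[1/hX] relative to R[1/g] at the extended prime of q, of the same length, ranks and relative
dimensions, whose rings A'_i, B'_i are localizations of A_i, B_i away from single elements a_i ∉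
qA_i, b_i ∉ qB_i (as algebras compatible with R → R[1/g], with B_i → A_i, B_i → A_{i+1}, S → A_0 and
S[1/hX] → A'_0), whose modules M'_i are the corresponding localizations of M_i (compatibly with N ≅
M_0), whose points lie over the qA_i, qB_i, and with the image of α_i generating the image of α'_i.
(The cokernel identifications of 𝒟' are not pinned.) -/
theorem result
    (R S : Type u) [CommRing R] [CommRing S] [Algebra R S] [Algebra.FiniteType R S]
    (N : Type u) [AddCommGroup N] [Module S N] [Module.Finite S N]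
    (p : Ideal R) [p.IsPrime] (q : Ideal S) [q.IsPrime] (𝒟 : FlatCA.CompleteDevissage R S N p)
    (𝒜 : FlatCA.CompleteDevissageAt R S N p q 𝒟)
    (u : S) (hu : u ∉ q) :
    ∃ (g : R) (hX : S), g ∉ p ∧ hX ∉ q ∧
      IsUnit (algebraMap S (Localization.Away hX) u) ∧
      ∃ (_ : Algebra (Localization.Away g) (Localization.Away hX)) (_ : IsScalarTower R (Localization.Away g) (Localization.Away hX))
        (_ : Module (Localization.Away g) (LocalizedModule (Submonoid.powers hX) N)) (_ : IsScalarTower (Localization.Away g) (Localization.Away hX) (LocalizedModule (Submonoid.powers hX) N))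
        (_ : (Ideal.map (algebraMap R (Localization.Away g)) p).IsPrime) (_ : (Ideal.map (algebraMap S (Localization.Away hX)) q).IsPrime)
        (𝒟' : FlatCA.CompleteDevissage (Localization.Away g) (Localization.Away hX) (LocalizedModule (Submonoid.powers hX) N) (Ideal.map (algebraMap R (Localization.Away g)) p))
        (𝒜' : FlatCA.CompleteDevissageAt (Localization.Away g) (Localization.Away hX) (LocalizedModule (Submonoid.powers hX) N) (Ideal.map (algebraMap R (Localization.Away g)) p) (Ideal.map (algebraMap S (Localization.Away hX)) q) 𝒟')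
        (a : ∀ i : Fin 𝒟.n, 𝒟.A i) (b : ∀ i : Fin 𝒟.n, 𝒟.B i)
      (aA : ∀ i : Fin 𝒟.n, Algebra (𝒟.A i) (𝒟'.A i)) (rA : ∀ i : Fin 𝒟.n, Algebra R (𝒟'.A i))
      (_t1 : ∀ i : Fin 𝒟.n, IsScalarTower R (Localization.Away g) (𝒟'.A i)) (_t2 : ∀ i : Fin 𝒟.n, IsScalarTower R (𝒟.A i) (𝒟'.A i))
      (aB : ∀ i : Fin 𝒟.n, Algebra (𝒟.B i) (𝒟'.B i)) (rB : ∀ i : Fin 𝒟.n, Algebra R (𝒟'.B i))
      (_t3 : ∀ i : Fin 𝒟.n, IsScalarTower R (Localization.Away g) (𝒟'.B i)) (_t4 : ∀ i : Fin 𝒟.n, IsScalarTower R (𝒟.B i) (𝒟'.B i))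
      (bA : ∀ i : Fin 𝒟.n, Algebra (𝒟.B i) (𝒟'.A i)) (_t5 : ∀ i : Fin 𝒟.n, IsScalarTower (𝒟.B i) (𝒟.A i) (𝒟'.A i))
      (_t6 : ∀ i : Fin 𝒟.n, IsScalarTower (𝒟.B i) (𝒟'.B i) (𝒟'.A i))
      (bA' : ∀ i : Fin 𝒟.n, Algebra (𝒟.B i) (𝒟'.A (i + 1)))
      (_t7 : ∀ i : Fin 𝒟.n, IsScalarTower (𝒟.B i) (𝒟'.B i) (𝒟'.A (i + 1)))
      (sA : Algebra S (𝒟'.A 0)) (_t8 : IsScalarTower S (Localization.Away hX) (𝒟'.A 0))
      (mA : ∀ i : Fin 𝒟.n, Module (𝒟.A i) (𝒟'.M i)) (_t9 : ∀ i : Fin 𝒟.n, IsScalarTower (𝒟.A i) (𝒟'.A i) (𝒟'.M i))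
      (gM : ∀ i : Fin 𝒟.n, 𝒟.M i →ₗ[𝒟.A i] 𝒟'.M i),
        𝒟'.n = 𝒟.n ∧ 𝒟'.r = 𝒟.r ∧ 𝒜'.d = 𝒜.d ∧
        (letI := aA ⟨0, 𝒟.pos⟩; IsScalarTower S (𝒟.A 0) (𝒟'.A 0)) ∧
      (∀ x : N, 𝒟'.isoN (LocalizedModule.mkLinearMap (Submonoid.powers hX) N x) = gM ⟨0, 𝒟.pos⟩ (𝒟.isoN x)) ∧
      (∀ (i : Fin 𝒟.n) (h : (i : ℕ) + 1 < 𝒟.n),
        letI := aA ⟨i + 1, h⟩; IsScalarTower (𝒟.B i) (𝒟.A (i + 1)) (𝒟'.A (i + 1))) ∧
        ∀ i : Fin 𝒟.n,
          a i ∉ 𝒜.qA i ∧ b i ∉ 𝒜.qB i ∧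
          IsLocalization.Away (a i) (𝒟'.A i) ∧ IsLocalization.Away (b i) (𝒟'.B i) ∧
          IsLocalizedModule (Submonoid.powers (a i)) (gM i) ∧
          (𝒜'.qA i).LiesOver (𝒜.qA i) ∧ (𝒜'.qB i).LiesOver (𝒜.qB i) ∧
          LinearMap.range (𝒟'.α i) =
            Submodule.span (𝒟'.B i) ((gM i) '' (LinearMap.range (𝒟.α i) : Set (𝒟.M i))) := by
  classical
  obtain ⟨f, hf, hfu, hff⟩ := exists_forward 𝒜 hu
  obtain ⟨c, hc, hfc, hlast, hnext⟩ := exists_backward 𝒜 f hf hff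
  obtain ⟨g, hg, hcov⟩ := exists_base 𝒜 c hc
  obtain ⟨s, hs⟩ := 𝒟.surjSA (algebraMap (𝒟.B 0) (𝒟.A 0) (c 0))
  let hX : S := u * s * algebraMap R S g
  have := 𝒜.hqA
  have : SH.Shrinks 𝒟 c := ⟨hnext⟩
  have : SH.Covers 𝒟 g c := ⟨hcov⟩
  have : SH.Avoids 𝒟 𝒜 g c := ⟨hg, hc⟩
  have hXA : algebraMap S (𝒟.A 0) hX = algebraMap S (𝒟.A 0) u * SH.a 𝒟 g c 0 := by
    simp only [hX, SH.a, SH.b, map_mul, hs, ← IsScalarTower.algebraMap_apply, mul_assoc]
  have hu_dvd : algebraMap S (𝒟.A 0) u ∣ SH.a 𝒟 g c 0 :=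
    (hfu.trans (map_dvd _ (hfc 0))).trans (map_dvd _ (dvd_mul_right _ _))
  have : SH.Start 𝒟 g c hX := ⟨fun P => by
    rw [hXA]
    exact ⟨fun h => (P.isPrime.mem_or_mem h).elim (P.asIdeal.mem_of_dvd hu_dvd) id,
      fun h => P.asIdeal.mul_mem_left _ h⟩⟩
  have hu0 : algebraMap S (𝒟.A 0) u ∉ 𝒜.qA 0 := fun hm =>
    SH.a_notMem 𝒟 𝒜 g c ⟨0, 𝒟.pos⟩ ((𝒜.qA 0).mem_of_dvd hu_dvd hm)
  have hXq : hX ∉ q := fun hm => by
    rw [← 𝒜.q0, Ideal.mem_comap, hXA] at hm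
    rcases (inferInstance : (𝒜.qA 0).IsPrime).mem_or_mem hm with hm | hm
    · exact hu0 hm
    · exact SH.a_notMem 𝒟 𝒜 g c ⟨0, 𝒟.pos⟩ hm
  let iX : Algebra (Localization.Away g) (Localization.Away hX) := (IsLocalization.Away.lift g
    (isUnit_map_of_dvd (B₁ := Localization.Away hX) g hX (dvd_mul_left _ _))).toAlgebra
  have tX : IsScalarTower R (Localization.Away g) (Localization.Away hX) :=
    IsScalarTower.of_algebraMap_eq fun r => (IsScalarTower.algebraMap_apply R S _ r).trans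
      (IsLocalization.Away.lift_eq g
        (isUnit_map_of_dvd (B₁ := Localization.Away hX) g hX (dvd_mul_left _ _)) r).symm
  let mX : Module (Localization.Away g) (LocalizedModule (Submonoid.powers hX) N) :=
    Module.compHom _ (algebraMap (Localization.Away g) (Localization.Away hX))
  have tN : IsScalarTower (Localization.Away g) (Localization.Away hX)
      (LocalizedModule (Submonoid.powers hX) N) := .of_algebraMap_smul fun _ _ => rfl
  have hp₁ := isPrime_map_away (S₁ := Localization.Away g) g p hg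
  have := liesOver_map_away (S₁ := Localization.Away g) g p hg
  have hq₁ := isPrime_map_away (S₁ := Localization.Away hX) hX q hXq
  let := SH.fieldAlgebra 𝒟 𝒜 g c
  let := SH.fieldPoint 𝒟 𝒜 g c
  have := SH.fieldLiesOver 𝒟 𝒜 g c
  let K := SH.LastField 𝒟 𝒜
  refine ⟨g, hX, hg, hXq, ?_, iX, tX, mX, tN, hp₁, hq₁,
    SH.devissage 𝒟 g c hX K (p.map (algebraMap R (Localization.Away g))),
    SH.devissageAt 𝒟 𝒜 g c hX K (p.map (algebraMap R (Localization.Away g))),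
    fun i => SH.a 𝒟 g c i, fun i => SH.b 𝒟 g c i,
    fun i => SH.instAlgAA 𝒟 g c K i, fun i => SH.instAlgRA 𝒟 g c K i,
    fun i => inferInstanceAs (IsScalarTower R (Localization.Away g) (SH.A' 𝒟 g c K i)),
    fun i => inferInstanceAs (IsScalarTower R (𝒟.A i) (SH.A' 𝒟 g c K i)),
    fun i => SH.instAlgBB 𝒟 g c K i, fun i => SH.instAlgRB 𝒟 g c K i,
    fun i => inferInstanceAs (IsScalarTower R (Localization.Away g) (SH.B' 𝒟 g c K i)),
    fun i => inferInstanceAs (IsScalarTower R (𝒟.B i) (SH.B' 𝒟 g c K i)),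
    fun i => SH.instAlgBiA 𝒟 g c K i,
    fun i => inferInstanceAs (IsScalarTower (𝒟.B i) (𝒟.A i) (SH.A' 𝒟 g c K i)),
    fun i => inferInstanceAs (IsScalarTower (𝒟.B i) (SH.B' 𝒟 g c K i) (SH.A' 𝒟 g c K i)),
    fun i => SH.instAlgBiA' 𝒟 g c K i,
    fun i => inferInstanceAs (IsScalarTower (𝒟.B i) (SH.B' 𝒟 g c K i) (SH.A' 𝒟 g c K ((i : ℕ) + 1))),
    SH.instAlgSA 𝒟 g c K,
    inferInstanceAs (IsScalarTower S (Localization.Away hX) (SH.A' 𝒟 g c K 0)),
    fun i => SH.instModAiM 𝒟 g c K i,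
    fun i => inferInstanceAs (IsScalarTower (𝒟.A i) (SH.A' 𝒟 g c K i) (SH.M' 𝒟 g c K i)),
    fun i => SH.gM 𝒟 g c K i, rfl, rfl, rfl,
    inferInstanceAs (IsScalarTower S (𝒟.A 0) (SH.A' 𝒟 g c K 0)),
    SH.isoN_mk 𝒟 g c hX K, fun i h => SH.isScalarTower_next 𝒟 g c K i h, fun i =>
      ⟨SH.a_notMem 𝒟 𝒜 g c i, SH.b_notMem 𝒟 𝒜 g c i, SH.instLocA 𝒟 g c K i,
        SH.instLocB 𝒟 g c K i, SH.instLocM 𝒟 g c K i, SH.qA'_liesOver 𝒟 𝒜 g c K i,
        SH.qB'_liesOver 𝒟 𝒜 g c K i, SH.range_α' 𝒟 g c K i⟩⟩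
  exact isUnit_of_dvd_unit (map_dvd (algebraMap S (Localization.Away hX))
    ((dvd_mul_right u s).trans (dvd_mul_right _ _)))
    (IsLocalization.Away.algebraMap_isUnit hX)

end Groth.Agent.S12246
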