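-- statement FlatMor.GrothFrozen.S1225 (Groth/Statements/S1225.lean; the theorem FlatMor.injective_iff_injective_at_assoc_closed_fiber_of_pure_flat);
import Groth.Statements.S1225
import Groth.Agent.H7Flat.RegularSpecialize
import Groth.Agent.H7Flat.WeakAssFlatAt

set_option autoImplicit false
universe u
open FlatMor TensorProduct IsLocalRing

namespace Groth.Agent.S1225

open IsLocalRing in
/-- Ring form, X = Spec B affine: let A be a local ring, B a finite type A-algebra and N a finite
B-module which is flat over A and pure along the closed fibre. Then a B-linear map φ from N to any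
B-module is injective if and only if its localization at q is injective for every prime q of B over
𝔪_A whose extension to the closed fibre ring is an associated prime of the closed fibre module. -/
theorem result {A B : Type u} [CommRing A] [IsLocalRing A] [CommRing B] [Algebra A B] [Algebra.FiniteType A B]
    (N : Type u) [AddCommGroup N] [Module B N] [Module A N] [IsScalarTower A B N] [Module.Finite B N] [Module.Flat A N]
    (hpure : FlatCA.IsPureAlong A B N (maximalIdeal A))
    (N' : Type u) [AddCommGroup N'] [Module B N'] (φ : N →ₗ[B] N') :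
    Function.Injective φ ↔ ∀ (q : Ideal B) [q.IsPrime], q.LiesOver (maximalIdeal A) →
      FlatCA.fiberIdeal (maximalIdeal A) q ∈ associatedPrimes ((maximalIdeal A).Fiber B) (FlatCA.fiberMod (maximalIdeal A) B N) →
      Function.Injective (LocalizedModule.map q.primeCompl φ) := by
  classical
  refine ⟨fun hφ q _ _ _ => LocalizedModule.map_injective q.primeCompl φ hφ, fun h => ?_⟩
  rw [injective_iff_map_eq_zero]
  intro x hx
  by_contra hx0
  have hflatAll : ∀ (q : Ideal B) [q.IsPrime], FlatCA.FlatAt A q N := fun q _ =>
    H06EGA11.flat_localizedModule _ fun J z hz => ⟨1, one_mem _, by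
      rw [one_smul]
      exact (injective_iff_map_eq_zero _).mp
        (Module.Flat.lTensor_preserves_injective_linearMap J.subtype J.injective_subtype) z hz⟩
  obtain ⟨q', hq'⟩ : ∃ q', q' ∈ (Submodule.span B {x}).annihilator.minimalPrimes :=
    (Ideal.nonempty_minimalPrimes fun e => hx0 ((one_smul B x).symm.trans
      ((Submodule.mem_annihilator_span_singleton x 1).mp (e.ge Submodule.mem_top)))).elim
      fun ⟨q', h⟩ => ⟨q', h⟩
  have : q'.IsPrime := hq'.1.1
  let p' := q'.comap (algebraMap A B)
  have : q'.LiesOver p' := ⟨rfl⟩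
  have hw : q' ∈ FlatCA.weakAss B (N ⊗[A] A) :=
    H02CA.weakAss_mono (AlgebraTensorModule.rid A B N).symm.toLinearMap
      (AlgebraTensorModule.rid A B N).symm.injective ⟨x, hq'⟩
  have hass := ((H7Flat.WeakAssFlatAt.mem_weakAss_tensor_iff N A p' q' (hflatAll q')).mp hw).2
  have hnhd : FlatCA.IsEtaleNhd A A (maximalIdeal A) (maximalIdeal A) := by
    refine ⟨inferInstance, ⟨(Ideal.comap_id _).symm⟩, ?_⟩
    have he : ∀ z, Ideal.ResidueField.mapₐ (maximalIdeal A) (maximalIdeal A) (Algebra.ofId A A)
        (Ideal.comap_id _).symm z = z := by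
      intro z
      obtain ⟨a, ⟨b, hb⟩, rfl⟩ := IsLocalization.exists_mk'_eq (nonZeroDivisors (A ⧸ maximalIdeal A)) z
      obtain ⟨a, rfl⟩ := Ideal.Quotient.mk_surjective a
      obtain ⟨b, rfl⟩ := Ideal.Quotient.mk_surjective b
      have hu : IsUnit (algebraMap (A ⧸ maximalIdeal A) (maximalIdeal A).ResidueField (Ideal.Quotient.mk _ b)) :=
        IsLocalization.map_units _ (⟨_, hb⟩ : nonZeroDivisors (A ⧸ maximalIdeal A))
      refine hu.mul_left_injective ?_
      have hspec := IsLocalization.mk'_spec (maximalIdeal A).ResidueField (Ideal.Quotient.mk _ a)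
        (⟨_, hb⟩ : nonZeroDivisors (A ⧸ maximalIdeal A))
      refine Eq.trans ?_ hspec.symm
      have h2 := congrArg (Ideal.ResidueField.mapₐ (maximalIdeal A) (maximalIdeal A) (Algebra.ofId A A)
        (Ideal.comap_id _).symm) hspec
      simp only [map_mul, Ideal.algebraMap_quotient_residueField_mk, AlgHom.commutes] at h2
      simpa [Ideal.algebraMap_quotient_residueField_mk] using h2
    exact Function.bijective_iff_has_inverse.mpr ⟨id, he, he⟩
  obtain ⟨t, ht, hqt, hto⟩ : ∃ t : Ideal B, t.IsPrime ∧ q' ≤ t ∧ t.LiesOver (maximalIdeal A) := by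
    by_contra hno
    refine hpure A B N LinearMap.id p' (maximalIdeal A) q' hnhd ?_
    exact ⟨inferInstance, IsBaseChange.of_equiv (TensorProduct.lid B N) fun z => by simp,
        IsLocalRing.le_maximalIdeal (Ideal.IsPrime.ne_top inferInstance), inferInstance, inferInstance, hass,
        fun P' hP' hqP hover => hno ⟨P', hP', hqP, hover⟩⟩
  haveI := ht
  haveI := hto
  obtain ⟨q, hq, hq'q, hqo, hqass⟩ := H7Flat.RegularSpecialize.exists_assoc_specialization N
    (maximalIdeal A) p' q' hass t hqt (hflatAll t)
  haveI := hq
  have h1 := h q hqo hqass (show LocalizedModule.map q.primeCompl φ (LocalizedModule.mk x 1) =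
    LocalizedModule.map q.primeCompl φ 0 by rw [LocalizedModule.map_mk, hx, LocalizedModule.zero_mk, map_zero])
  obtain ⟨u, hu⟩ := LocalizedModule.mk_eq.mp (h1.trans (LocalizedModule.zero_mk 1).symm)
  simp only [one_smul, smul_zero] at hu
  exact u.2 (hq'q (hq'.1.2 ((Submodule.mem_annihilator_span_singleton x _).mpr hu)))

end Groth.Agent.S1225
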