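import Groth.Statements.S12252
import Groth.Agent.H24Art.Prorep

set_option autoImplicit false
universe u v
open CategoryTheory
open Deform

namespace Groth.Agent.S12252

/-- Let k be an algebraically closed field, Λ a complete local Noetherian k-algebra with residue field k
and F a set-valued functor on local Artinian Λ-algebras with residue field k. If (R, u) and (S, v)
both prorepresent F (complete local Noetherian Λ-algebras with residue field k carrying universal
families), then there is a unique isomorphism of Λ-algebras R ≅ S, compatible with the augmentations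
to k, along which the universal family of R is transported to that of S. -/
theorem result
    {k Λ : Type u} [Field k] [IsAlgClosed k] [CommRing Λ] [IsLocalRing Λ] [IsNoetherianRing Λ]
    [IsAdicComplete (IsLocalRing.maximalIdeal Λ) Λ] [Algebra k Λ] [Algebra Λ k] [IsScalarTower k Λ k]
    {F : ArtFun.Art Λ k ⥤ Type v} (P Q : ArtFun.ProRep F) :
    ∃! e : P.ring.carrier ≃ₐ[Λ] Q.ring.carrier,
      ∃ he : Q.ring.res.comp e.toAlgHom = P.ring.res, P.family.along e.toAlgHom he = Q.family := by
  have h0 := Groth.Agent.H24Art.h0_of_isUniversal P.family P.universal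
  obtain ⟨g, hg, h⟩ := Groth.Agent.H24Art.exists_along Q.ring h0 P.family
    (Groth.Agent.H24Art.isVersal_of_isUniversal P.family P.universal) Q.family.toFormalElt
  obtain ⟨g', hg', h'⟩ := Groth.Agent.H24Art.exists_along P.ring h0 Q.family
    (Groth.Agent.H24Art.isVersal_of_isUniversal Q.family Q.universal) P.family.toFormalElt
  have k1 := Groth.Agent.H24Art.family_app_eq h
  have k2 := Groth.Agent.H24Art.family_app_eq h'
  have e1 : g'.comp g = AlgHom.id Λ P.ring.carrier :=
    Groth.Agent.H24Art.hom_eq_of_isUniversal P.family P.universal P.ring _ _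
      (by rw [← AlgHom.comp_assoc, hg', hg]) (AlgHom.comp_id _)
      (ArtFun.FormalElt.ext' fun n => (k1 _ ⟨(P.ring.truncHom n).1.comp g', by
        rw [← AlgHom.comp_assoc, (P.ring.truncHom n).2, hg']⟩).trans
        ((congrArg (fun u : ArtFun.FormalElt F P.ring => u.elt n) h').trans
          (congrArg (P.family.app _) (Subtype.ext (AlgHom.comp_id _).symm))))
  have e2 : g.comp g' = AlgHom.id Λ Q.ring.carrier :=
    Groth.Agent.H24Art.hom_eq_of_isUniversal Q.family Q.universal Q.ring _ _
      (by rw [← AlgHom.comp_assoc, hg, hg']) (AlgHom.comp_id _)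
      (ArtFun.FormalElt.ext' fun n => (k2 _ ⟨(Q.ring.truncHom n).1.comp g, by
        rw [← AlgHom.comp_assoc, (Q.ring.truncHom n).2, hg]⟩).trans
        ((congrArg (fun u : ArtFun.FormalElt F Q.ring => u.elt n) h).trans
          (congrArg (Q.family.app _) (Subtype.ext (AlgHom.comp_id _).symm))))
  refine ⟨AlgEquiv.ofAlgHom g g' e2 e1, ⟨hg, Groth.Agent.H24Art.family_ext k1⟩, ?_⟩
  rintro e ⟨he, hfam⟩
  have := Groth.Agent.H24Art.hom_eq_of_isUniversal P.family P.universal Q.ring e.toAlgHom g he hg
    (by rw [hfam, h])
  exact AlgEquiv.ext fun r => congrArg (fun t : _ →ₐ[Λ] Q.ring.carrier => t r) this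

end Groth.Agent.S12252
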