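import Groth.Statements.S12253
import Groth.Agent.H24Art.Prorep

set_option autoImplicit false
universe u v
open CategoryTheory
open Deform

namespace Groth.Agent.S12253

/-- Let k be an algebraically closed field, Λ a complete local Noetherian k-algebra with residue field k
and F a set-valued functor on local Artinian Λ-algebras with residue field k such that F(k) is a
single point, with its k-vector-space structure on F(k[ε]) given as data compatible with ε ↦ cε and
(ε₁, ε₂) ↦ (ε, ε). Then F is prorepresentable by a complete local Noetherian Λ-algebra with residue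
field k if and only if F is left exact, i.e. the comparison map F(A' ×_A A'') → F(A') ×_{F(A)}
F(A'') is bijective for every fibre-product square, and F(k[ε]) is finite-dimensional. -/
theorem result
    {k Λ : Type u} [Field k] [IsAlgClosed k] [CommRing Λ] [IsLocalRing Λ] [IsNoetherianRing Λ]
    [IsAdicComplete (IsLocalRing.maximalIdeal Λ) Λ] [Algebra k Λ] [Algebra Λ k] [IsScalarTower k Λ k]
    (F : ArtFun.Art Λ k ⥤ Type v) [ArtFun.TangentStr F] (h0 : ArtFun.H0 F) :
    ArtFun.IsProrepresentable F ↔ (ArtFun.IsLeftExact F ∧ ArtFun.Hfin F) := by
  have hsurj : Function.Surjective (algebraMap Λ k) := fun c =>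
    ⟨algebraMap k Λ c, (IsScalarTower.algebraMap_apply k Λ k c).symm⟩
  haveI : Module.Finite Λ k := Module.Finite.of_surjective (Algebra.linearMap Λ k) hsurj
  constructor
  · rintro ⟨P⟩
    exact ⟨Groth.Agent.H24Art.isLeftExact_of_isUniversal P.family P.universal,
      Groth.Agent.H24Art.hfin_of_surjective P.family (P.universal _).2⟩
  · rintro ⟨hl, h3⟩
    exact Groth.Agent.H24Art.isProrepresentable_of_conditions h0
      (fun B A A' A'' p' p'' f' f'' h _ => (hl p' p'' f' f'' h).2) (fun B A' p' p'' h => hl p' p'' _ _ h)
      h3 (fun B A A' p₁ p₂ f h _ => hl p₁ p₂ f f h)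
      (Groth.Agent.H24Art.hc_of_subsingleton
        (Groth.Agent.H24Art.subsingleton_derivation_of_surjective hsurj))

end Groth.Agent.S12253
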