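import Groth.Statements.S12256
import Groth.Agent.H24Def.Node
import Groth.Agent.H24Art.T1Tr
import Groth.Agent.H24Art.Prorep

set_option autoImplicit false
set_option linter.style.haveILetI false
universe u
open CategoryTheory CategoryTheory.Limits AlgebraicGeometry
open Deform
open Groth.Agent

namespace Groth.Agent.S12256

/-- Let k be an algebraically closed field and C = Spec k[x, y]/(xy) the union of the two coordinate
axes in the affine plane. Then the local moduli functor Def_C, of isomorphism classes of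
deformations of C over local Artinian k-algebras with residue field k, is not prorepresentable by
any complete local Noetherian k-algebra with residue field k. -/
theorem result
    {k : Type u} [Field k] [IsAlgClosed k] :
    ¬ ArtFun.IsProrepresentable (ArtFun.defFunctor (Λ := k)
      (Spec (CommRingCat.of (MvPolynomial (Fin 2) k ⧸
        Ideal.span {(MvPolynomial.X 0 * MvPolynomial.X 1 : MvPolynomial (Fin 2) k)})))
      (Spec.map (CommRingCat.ofHom (algebraMap k (MvPolynomial (Fin 2) k ⧸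
        Ideal.span {(MvPolynomial.X 0 * MvPolynomial.X 1 : MvPolynomial (Fin 2) k)}))))) := by
  rintro ⟨U⟩
  have hL := H24Art.isLeftExact_of_isUniversal U.family U.universal
  obtain ⟨P, p₁, p₂, h⟩ := H24Art.exists_fibre_of_surjective (T1Lift.α k 1) (T1Lift.α k 1) (H24Art.T1Tr.αAlg_surjective k 1)
  let t : T1Lift.A k 2 := T1Lift.t k 2
  let t₂ : T1Lift.A k 2 := t + t * t
  have ht3 : t ^ 3 = 0 := T1Lift.t_pow k 2
  have hkill : ∀ (a a' x : T1Lift.A k 2), T1Lift.α k 1 a = T1Lift.α k 1 a' → (T1Lift.A k 2).res x = 0 →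
      x * a = x * a' := fun a a' x e hx => by
    rw [← sub_eq_zero, ← mul_sub]
    exact H24Art.T1Tr.mul_eq_zero_of_ker k 1 hx ((map_sub (T1Lift.αAlg k 1) a a').trans (sub_eq_zero.2 e))
  have ht0 : (T1Lift.A k 2).res t = 0 := T1Lift.resA_t k 2
  obtain ⟨T, hT₁, hT₂⟩ := h.surj t t rfl
  have e0 : T1Lift.α k 1 t₂ = T1Lift.α k 1 t := by
    have e1 : T1Lift.α k 1 t * T1Lift.α k 1 t = 0 := by
      rw [← pow_two, show T1Lift.α k 1 t = T1Lift.t k 1 from T1Lift.αAlg_t k 1]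
      exact T1Lift.t_pow k 1
    rw [map_add, map_mul, e1, add_zero]
  obtain ⟨c, hc₁, hc₂⟩ := h.surj t t₂ e0.symm
  have hmem : ∀ {z : P}, p₁ z = t → z ∈ IsLocalRing.maximalIdeal P := fun {z} e => by
    rw [P.mem_maximalIdeal_iff, ← ArtFun.Art.res_app p₁ z, e, ht0]
  have hTm := hmem hT₁
  have hcm := hmem hc₁
  have hm₁ : p₁ c ∈ IsLocalRing.maximalIdeal (T1Lift.A k 2) := H24Art.map_mem_maximalIdeal p₁ hcm
  have hm₁' : p₁ T ∈ IsLocalRing.maximalIdeal (T1Lift.A k 2) := H24Art.map_mem_maximalIdeal p₁ hTm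
  have hm₂ : p₂ c ∈ IsLocalRing.maximalIdeal (T1Lift.A k 2) := H24Art.map_mem_maximalIdeal p₂ hcm
  have hm₂' : p₂ T ∈ IsLocalRing.maximalIdeal (T1Lift.A k 2) := H24Art.map_mem_maximalIdeal p₂ hTm
  have hs : Function.Surjective p₁ := H24Art.fst_surjective h (H24Art.T1Tr.αAlg_surjective k 1)
  have hs₂ : Function.Surjective p₂ :=
    H24Art.fst_surjective (H24Art.IsFibreProd.symm' h) (H24Art.T1Tr.αAlg_surjective k 1)
  let u : (T1Lift.A k 2)ˣ := Units.mkOfMulEqOne (1 + t) (1 - t + t ^ 2) (by linear_combination ht3)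
  have hu : (T1Lift.A k 2).res u = 1 := by
    show (T1Lift.A k 2).res (1 + t) = 1
    rw [map_add, map_one, ht0, add_zero]
  have hcu : (u : T1Lift.A k 2) * t = p₂ c := by
    rw [hc₂]
    show (1 + t) * t = t + t * t
    ring
  have htm : t ∈ IsLocalRing.maximalIdeal (T1Lift.A k 2) := ((T1Lift.A k 2).mem_maximalIdeal_iff t).2 ht0
  have hfam : ∀ {a b : T1Lift.A k 2} (ha : a ∈ IsLocalRing.maximalIdeal _) (hb : b ∈ IsLocalRing.maximalIdeal _),
      a = b → (H24Def.Node.fam a ha).toSch.cl = (H24Def.Node.fam b hb).toSch.cl := by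
    rintro a b ha hb rfl
    rfl
  have hcl := (hL p₁ p₂ _ _ h).1 (a₁ := (H24Def.Node.fam c hcm).toSch.cl) (a₂ := (H24Def.Node.fam T hTm).toSch.cl)
    (Subtype.ext (Prod.ext
      ((H24Def.Node.map_fam c hcm p₁ hs hm₁).trans
        ((hfam hm₁ hm₁' (hc₁.trans hT₁.symm)).trans (H24Def.Node.map_fam T hTm p₁ hs hm₁').symm))
      ((H24Def.Node.map_fam c hcm p₂ hs₂ hm₂).trans
        (((hfam hm₂ (by rw [hcu]; exact hm₂) hcu.symm).trans
          ((Quotient.sound (s := ArtFun.DefSch.setoid _ _ _)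
            (H24Def.AlgDef.toSch_iso (H24Def.Node.rel_mul_unit t htm u hu (by rw [hcu]; exact hm₂)))).symm.trans
            (hfam htm hm₂' hT₂.symm))).trans (H24Def.Node.map_fam T hTm p₂ hs₂ hm₂').symm))))
  obtain ⟨e⟩ := Quotient.exact hcl
  have hsq : ∀ a ∈ IsLocalRing.maximalIdeal P, ∀ b ∈ IsLocalRing.maximalIdeal P, a * b ∈ Ideal.span {T} := by
    intro a ha b hb
    have hr : ∀ (q : P ⟶ T1Lift.A k 2) {z : P}, z ∈ IsLocalRing.maximalIdeal P → (T1Lift.A k 2).res (q z) = 0 :=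
      fun q {z} hz => by rw [ArtFun.Art.res_app]; exact (P.mem_maximalIdeal_iff z).1 hz
    obtain ⟨a', ha'⟩ : ∃ a' : T1Lift.A k 2, p₁ a = algebraMap k _ ((T1Lift.A k 2).res (p₁ a)) + t * a' :=
      T1Lift.eq_algebraMap_add_t_mul k 2 (p₁ a)
    obtain ⟨b', hb'⟩ : ∃ b' : T1Lift.A k 2, p₁ b = algebraMap k _ ((T1Lift.A k 2).res (p₁ b)) + t * b' :=
      T1Lift.eq_algebraMap_add_t_mul k 2 (p₁ b)
    have ha'' : p₁ a = t * a' :=
      ha'.trans (by rw [hr p₁ ha, map_zero, zero_add])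
    have hb'' : p₁ b = t * b' :=
      hb'.trans (by rw [hr p₁ hb, map_zero, zero_add])
    obtain ⟨z, hz₁, hz₂⟩ := h.surj (a' * b') (a' * b') rfl
    refine Ideal.mem_span_singleton'.2 ⟨z * T, h.inj _ _ ?_ ?_⟩
    · rw [map_mul, map_mul, map_mul, hz₁, hT₁, ha'', hb'']
      ring
    · rw [map_mul, map_mul, map_mul, hz₂, hT₂, ← hkill _ _ (p₂ a) (h.w_apply b) (hr p₂ ha),
        mul_comm (p₂ a), ← hkill _ _ (p₁ b) (h.w_apply a) (hr p₁ hb), ha'', hb'']
      ring
  obtain ⟨b, hb⟩ := Ideal.mem_span_singleton'.1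
    (H24Def.Node.mem_span_of_rel c hcm hTm hsq (H24Def.AlgDef.rel_of_iso e))
  have h1 : p₁ b * t = t := by rw [← hT₁, ← map_mul, hb, hT₁, hc₁]
  have h2 : p₂ b * t = t + t * t := by rw [← hT₂, ← map_mul, hb, hT₂, hc₂]
  rw [mul_comm, ← hkill _ _ t (h.w_apply b) ht0, mul_comm, h1, left_eq_add] at h2
  exact H24Art.T1Tr.t_pow_ne_zero k 2 ((pow_two _).trans h2)

end Groth.Agent.S12256
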