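import Groth.Statements.S12258
import Groth.Agent.H24Art.Double

set_option autoImplicit false
universe u v
open CategoryTheory CategoryTheory.Limits
open Deform

namespace Groth.Agent.S12258

/-- Let k be an algebraically closed field, Λ a complete local Noetherian k-algebra with residue field
k, and F, G set-valued functors on local Artinian Λ-algebras with residue field k, each with
one-point value at k. If F and G are smooth functors, i.e. F(B) → F(A) and G(B) → G(A) are
surjective for every surjection B → A, then the product functor F × G is smooth. -/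
theorem result
    {k Λ : Type u} [Field k] [IsAlgClosed k] [CommRing Λ] [IsLocalRing Λ] [IsNoetherianRing Λ]
    [IsAdicComplete (IsLocalRing.maximalIdeal Λ) Λ] [Algebra k Λ] [Algebra Λ k] [IsScalarTower k Λ k]
    {F G : ArtFun.Art Λ k ⥤ Type v}
    (hF : ArtFun.H0 F) (hG : ArtFun.H0 G) (sF : ArtFun.IsSmoothFunctor F) (sG : ArtFun.IsSmoothFunctor G) :
    ArtFun.IsSmoothFunctor (F ⨯ G) := by
  intro B A μ hμ z
  obtain ⟨a, ha⟩ := sF μ hμ ((prod.fst : F ⨯ G ⟶ F).app A z)
  obtain ⟨b, hb⟩ := sG μ hμ ((prod.snd : F ⨯ G ⟶ G).app A z)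
  obtain ⟨w, hw₁, hw₂⟩ := Groth.Agent.H24Art.exists_prod_elt a b
  refine ⟨w, ?_⟩
  have hl := mapIsLimitOfPreservesOfIsLimit ((evaluation (ArtFun.Art Λ k) (Type v)).obj A) _ _
    (prodIsProd F G)
  have h := BinaryFan.IsLimit.hom_ext hl
    (f := (↾fun _ => (F ⨯ G).map μ w : PUnit.{v + 1} ⟶ (F ⨯ G).obj A)) (g := ↾fun _ => z) ?_ ?_
  · exact ConcreteCategory.congr_hom h PUnit.unit
  · refine ConcreteCategory.hom_ext _ _ fun _ => ?_
    change (prod.fst : F ⨯ G ⟶ F).app A ((F ⨯ G).map μ w) = _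
    rw [Groth.Agent.H24Art.nat', hw₁, ha]
    rfl
  · refine ConcreteCategory.hom_ext _ _ fun _ => ?_
    change (prod.snd : F ⨯ G ⟶ G).app A ((F ⨯ G).map μ w) = _
    rw [Groth.Agent.H24Art.nat', hw₂, hb]
    rfl

end Groth.Agent.S12258
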