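import Groth.Statements.S12259
import Groth.Agent.H24DefTan.Prorep
import Groth.Agent.H29CurveDual.Canonical
import Groth.Agent.H29CurveDual.CanonAux
import Groth.Agent.H19Grp.AlgClosedGeom
import Groth.Agent.H8Props.DvrCurve.GeomInt

set_option autoImplicit false
set_option linter.style.haveILetI false
universe u
open CategoryTheory CategoryTheory.Limits AlgebraicGeometry
open Deform

attribute [-instance] CategoryTheory.catToReflQuiver

namespace Groth.Agent.S12259

/-- Let k be an algebraically closed field and X a nonsingular connected projective curve over k, i.e. X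
is smooth over k, connected, of dimension one and a closed subscheme of some projective space P^n_k,
and assume its genus g = dim_k H^1(X, O_X) is at least 2. Then the local moduli functor Def_X
(isomorphism classes of deformations of X over local Artinian k-algebras with residue field k) is
prorepresentable by a complete local Noetherian k-algebra with residue field k. (The published
statement treats every genus and identifies the prorepresenting ring with a power series ring in 0,
1 or 3g − 3 variables; this row is the prorepresentability for g ≥ 2 only.) -/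
theorem result
    {k : Type u} [Field k] [IsAlgClosed k] (X : Scheme.{u}) [X.Over (Spec (CommRingCat.of k))]
    [Smooth (X ↘ Spec (CommRingCat.of k))] [IsSeparated (X ↘ Spec (CommRingCat.of k))]
    [QuasiCompact (X ↘ Spec (CommRingCat.of k))] [ConnectedSpace X]
    (hdim : topologicalKrullDim X = 1)
    (hproj : ∃ (n : ℕ) (c : X ⟶ CohB1.ProjSpaceOver n (Spec (CommRingCat.of k))),
      IsClosedImmersion c ∧ c ≫ CohB1.ProjSpaceOver.toBase n (Spec (CommRingCat.of k)) = X ↘ Spec (CommRingCat.of k))
    (hg : 2 ≤ Curv2.genus k X) :
    ArtFun.IsProrepresentable (ArtFun.defFunctor (Λ := k) X (X ↘ Spec (CommRingCat.of k))) := by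
  obtain ⟨n, c, hc, hcx⟩ := hproj
  haveI := hc
  haveI : IsProper (CohB1.ProjSpaceOver.toBase n (Spec (CommRingCat.of k))) :=
    Groth.Agent.H27Weil.isProper_toBase n (Spec (CommRingCat.of k))
  haveI : IsProper (X ↘ Spec (CommRingCat.of k)) := by rw [← hcx]; infer_instance
  haveI : IsIntegral X :=
    Groth.Agent.H8Props.DvrCurve.isIntegral_of_smooth_connected (X ↘ Spec (CommRingCat.of k))
  haveI : GeometricallyConnected (X ↘ Spec (CommRingCat.of k)) :=
    Groth.Agent.H19Grp.geometricallyConnected_of_connectedSpace (X ↘ Spec (CommRingCat.of k))
  have hΩ := Groth.Agent.H29CurveDual.isInvertible_omega_curve (k := k) (X := X) hdim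
  have hd := Groth.Agent.H29CurveDual.deg_omega_of_h0 (k := k) (X := X) hdim
    Groth.Agent.H29CurveDual.finrank_h0_structure_smooth
  have hO := Groth.Agent.H29RR.deg_structureModule (k := k) (X := X)
  have h0 : Subsingleton (Omega.sheaf (X ↘ Spec (CommRingCat.of k)) ⟶ Coh.structureModule X) := by
    refine ⟨fun φ ψ => ?_⟩
    rw [Groth.Agent.H29CurveDual.hom_eq_zero_of_deg (k := k) hdim.le hΩ
        (Groth.Agent.H28Int.isInvertible_structureModule X) (by omega) φ,
      Groth.Agent.H29CurveDual.hom_eq_zero_of_deg (k := k) hdim.le hΩ
        (Groth.Agent.H28Int.isInvertible_structureModule X) (by omega) ψ]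
  exact Groth.Agent.H24DefTan.isProrepresentable_of_subsingleton X _ ⟨n, c, hc, hcx⟩ h0

end Groth.Agent.S12259
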