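import Groth.Statements.S12261
import Groth.Agent.H24Hilb.Tangent
import Groth.Agent.H24Art.Prorep
import Groth.Agent.H10Coh.SheafHom.Adj
import Groth.Agent.H10Coh.Proper2
import Groth.Agent.H17.OmegaLocal
import Groth.Agent.H17.ConsModModels
import Groth.Agent.H27Weil.Geometry

set_option autoImplicit false
set_option linter.style.haveILetI false
universe u
open CategoryTheory CategoryTheory.Limits AlgebraicGeometry
open Deform

open Groth.Agent
namespace Groth.Agent.S12261

/-- Let k be an algebraically closed field, Y a separated k-scheme of finite type and X ⊆ Y the closed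
subscheme of a quasi-coherent ideal sheaf I₀; assume X is projective over k, i.e. X admits a closed
immersion over k into some projective space P^n_k. Then the local Hilbert functor of X in Y (closed
subschemes of Y ×_k Spec A flat over Spec A restricting to X on the closed fibre, for A local
Artinian with residue field k) is prorepresentable by a complete local Noetherian k-algebra with
residue field k. (The published statement assumes only that the space of global sections of the
normal sheaf of X in Y is finite-dimensional, X projective being the named instance; this row states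
the projective case.) -/
theorem result
    {k : Type u} [Field k] [IsAlgClosed k] (Y : Scheme.{u}) (y : Y ⟶ Spec (CommRingCat.of k))
    [LocallyOfFiniteType y] [IsSeparated y] [QuasiCompact y] (I₀ : Y.IdealSheafData)
    (hproj : ∃ (n : ℕ) (c : I₀.subscheme ⟶ CohB1.ProjSpaceOver n (Spec (CommRingCat.of k))),
      IsClosedImmersion c ∧ c ≫ CohB1.ProjSpaceOver.toBase n (Spec (CommRingCat.of k)) = I₀.subschemeι ≫ y) :
    ArtFun.IsProrepresentable (ArtFun.localHilb Y y I₀) := by
  letI : Y.Over (Spec (CommRingCat.of k)) := ⟨y⟩
  letI : I₀.subscheme.Over (Spec (CommRingCat.of k)) := ⟨I₀.subschemeι ≫ y⟩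
  haveI : DCoh.HasSheafHom (Omega.conormal I₀.subschemeι) := H10Coh.SheafHom.hasSheafHom _
  obtain ⟨n, c, hc, hcy⟩ := hproj
  haveI hp : IsProper (I₀.subscheme ↘ Spec (CommRingCat.of k)) := by
    show IsProper (I₀.subschemeι ≫ y)
    rw [← hcy]; infer_instance
  haveI : IsLocallyNoetherian Y := LocallyOfFiniteType.isLocallyNoetherian y
  haveI : IsLocallyNoetherian I₀.subscheme := LocallyOfFiniteType.isLocallyNoetherian (I₀.subschemeι ≫ y)
  have h0 : ArtFun.H0 (ArtFun.localHilb Y y I₀) := H24Hilb.h0_localHilb
  obtain ⟨T⟩ := H24Art.nonempty_tangentStr h0 H24Hilb.heps_localHilb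
  letI : ArtFun.TangentStr (ArtFun.localHilb Y (Y ↘ Spec (CommRingCat.of k)) I₀) := T
  obtain ⟨e⟩ := H24Hilb.nonempty_tangent_linearEquiv (k := k) (X := Y) (I₀ := I₀) rfl
  haveI : Mono (ClSub.idealModι (Scheme.Hom.ker I₀.subschemeι)) := by unfold ClSub.idealModι; exact equalizer.ι_mono
  have hcoh : Coh.IsCoh (Omega.conormal I₀.subschemeι) :=
    H17.ConsProp.isCoh_pullback _ (H10Coh.isCoh_of_mono (ClSub.idealModι _)
      (H17.OmegaLocal.isQuasicoherent_idealMod _) (H10Coh.isCoh_structureModule' _))
  have hN : Coh.IsCoh ((DCoh.sheafHom (Omega.conormal I₀.subschemeι)).obj (Coh.structureModule I₀.subscheme)) :=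
    H10Coh.isCoh_of_iso (H10Coh.SheafHom.homShIso _ _).symm
      (H29Ref.isCoh_homSh _ _ hcoh (H10Coh.isCoh_structureModule' _))
  haveI : Module.Finite k (Coh.HH I₀.subscheme ((DCoh.sheafHom (Omega.conormal I₀.subschemeι)).obj
    (Coh.structureModule I₀.subscheme)) 0) := H10Coh.finite_HH_proper k _ _ hN 0
  have hfin : ArtFun.Hfin (ArtFun.localHilb Y y I₀) := Module.Finite.equiv e.symm
  exact H24Art.isProrepresentable_of_conditions h0 (fun _ _ _ _ _ _ _ _ h hs => H24Hilb.surjective_cmp h hs)
    H24Hilb.heps_localHilb hfin H24Hilb.hSq_localHilb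
    (H24Art.hc_of_subsingleton (H24Art.subsingleton_derivation_of_surjective fun c => ⟨c, rfl⟩))

end Groth.Agent.S12261
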