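import Groth.Statements.S12263
import Groth.Agent.H24Def.Rigid

set_option autoImplicit false
universe u
open CategoryTheory CategoryTheory.Limits AlgebraicGeometry
open Deform

namespace Groth.Agent.S12263

/-- Let k be an algebraically closed field and B₀ a finitely generated commutative k-algebra. Suppose
T^1_{B₀} = 0 in the form: every k-algebra extension of B₀ by the B₀-module B₀ (square-zero kernel)
is trivial. Then B₀ is rigid: every deformation of Spec B₀ over a local Artinian k-algebra A with
residue field k (a scheme flat over Spec A together with a cartesian square exhibiting Spec B₀ as
the fibre over the closed point) is isomorphic, over Spec A and under Spec B₀, to the product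
deformation Spec B₀ ×_k Spec A. (The published statement is for a k-algebra B₀, Noetherian by the
standing convention; this row takes B₀ finitely generated over k, the case covered by the results on
algebraic schemes that its proof cites. It also asserts a semiuniversal formal element when T^1_{B₀}
is finite-dimensional, in particular for isolated singularities; those clauses are instances of
results on all algebraic schemes and are not repeated here. The first-order deformations of B₀
correspond to the k-algebra extensions of B₀ by B₀, the trivial deformation to the trivial
extension.) -/
theorem result
    {k : Type u} [Field k] [IsAlgClosed k] (B₀ : Type u) [CommRing B₀] [Algebra k B₀] [Algebra.FiniteType k B₀]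
    (hT : ∀ E : Exal.Ext k B₀ B₀, E.IsTrivial) (A : ArtFun.Art k k)
    (ξ : ArtFun.DefSch (Spec (CommRingCat.of B₀)) (Spec.map (CommRingCat.ofHom (algebraMap k B₀))) A) :
    Nonempty (ξ.Iso (ArtFun.DefSch.trivial (Spec (CommRingCat.of B₀))
      (Spec.map (CommRingCat.ofHom (algebraMap k B₀))) inferInstance A)) := by
  exact Groth.Agent.H24Def.nonempty_iso_of_forall_isTrivial hT ξ _

end Groth.Agent.S12263
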