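import Groth.Statements.S12264
import Groth.Agent.H24Def.AffineObsTheory

set_option autoImplicit false
set_option linter.style.haveILetI false
universe u
open CategoryTheory CategoryTheory.Limits AlgebraicGeometry
open Deform
open Groth.Agent TensorProduct

namespace Groth.Agent.S12264

/-- Let k be an algebraically closed field and B₀ a k-algebra given with a finite presentation P =
k[X_i]/(f_s) (finitely many variables and relations), and let T² = T²(B₀/k, B₀) be the second
cotangent module computed from P (classes of B₀-linear maps on the relation module modulo trivial
relations, modulo those extending to the free module on the relations). Suppose T² = 0. Then Spec B₀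
is unobstructed: for every small extension A' → A of local Artinian k-algebras with residue field k
the map Def_{B₀}(A') → Def_{B₀}(A) between isomorphism classes of deformations (schemes flat over
the Artinian base with Spec B₀ as closed fibre) is surjective. (The published statement says that
T²_{B₀} is an obstruction space for Def_{B₀}, for B₀ the quotient of any smooth k-algebra that is a
localisation of a polynomial ring: each deformation over A has an obstruction in T²_{B₀} attached to
each small extension of A, vanishing exactly when a lifting exists; this row states the consequence
for T²_{B₀} = 0 and a polynomial presentation.) -/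
theorem result
    {k : Type u} [Field k] [IsAlgClosed k] (B₀ : Type u) [CommRing B₀] [Algebra k B₀] {ι σ : Type u} [Finite ι] [Finite σ]
    (P : Algebra.Presentation k B₀ ι σ)
    (hT2 : Subsingleton (CotT.T2 P B₀))
    {A' A : ArtFun.Art k k} (p : A' ⟶ A) (hp : ArtFun.Art.IsSmallExt p) :
    Function.Surjective ((ArtFun.defFunctor (Λ := k) (Spec (CommRingCat.of B₀)) (Spec.map (CommRingCat.ofHom (algebraMap k B₀)))).map p) := by
  have hs := hp.isSemismallExt
  intro u
  let T := H24Def.AffExt.obsTheoryPres (k := k) (B₀ := B₀) P
  exact (T.obs_eq_zero_iff p hs u).mp (by
    have : Subsingleton (CotT.T2 P B₀ ⊗[k] ↥(RingHom.ker p.toAlgHom)) := by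
      refine ⟨fun a b => ?_⟩
      have h0 : ∀ z : CotT.T2 P B₀ ⊗[k] ↥(RingHom.ker p.toAlgHom), z = 0 := fun z => by
        induction z using TensorProduct.induction_on with
        | zero => rfl
        | tmul t j => rw [Subsingleton.elim t 0, TensorProduct.zero_tmul]
        | add x y hx hy => rw [hx, hy, add_zero]
      rw [h0 a, h0 b]
    exact Subsingleton.elim _ _)

end Groth.Agent.S12264
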