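import Groth.Statements.S12266
import Groth.Agent.H02CA.HomTan.Tangent
import Groth.Agent.H02CA.HomTan.Sections
import Groth.Agent.H27Weil.Geometry

set_option autoImplicit false
set_option linter.style.haveILetI false
set_option backward.isDefEq.respectTransparency false
universe u
open CategoryTheory CategoryTheory.Limits MonoidalCategory CartesianMonoidalCategory AlgebraicGeometry
attribute [local instance] HasDerivedCategory.standard
open Deform
open Groth.Agent

namespace Groth.Agent.S12266

/-- Let k be an algebraically closed field, X a reduced projective k-scheme (with a closed k-immersion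
into some P^n_k) and Y a nonsingular quasi-projective k-scheme (smooth over k, with a k-immersion
into some P^m_k). Suppose the k-scheme M together with υ : X ×_k M → Y over k represents the functor
of morphisms: for every k-scheme T and every k-morphism φ : X ×_k T → Y there is exactly one
k-morphism a : T → M with φ = υ ∘ (X ×_k a). Let f : X → Y be a k-morphism and a_f : Spec k → M the
k-point [f] classifying f (through X ×_k Spec k ≅ X). Then the Zariski tangent space of M at [f] has
the dimension of H^0(X, f^*T_Y): the dimension of m/m² over the residue field of the local ring of M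
at [f] equals dim_k H^0(X, Hom_{O_X}(f^*Ω_{Y/k}, O_X)), the sheaf Hom (taken as a right adjoint,
assumed to exist) of the pullback of the sheaf of differentials of Y over k, which is f^*T_Y as
Ω_{Y/k} is locally free. (The published statement gives a canonical isomorphism T_{[f]} Hom(X, Y) ≅
H^0(X, f^*T_Y) and adds that the obstruction space at [f] lies in H^1(X, f^*T_Y); this row records
the equality of dimensions.) -/
theorem result
    {k : Type u} [Field k] [IsAlgClosed k]
    (X : Scheme.{u}) [X.Over (Spec (CommRingCat.of k))] [IsReduced X]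
    (hprojX : ∃ (n : ℕ) (c : X ⟶ CohB1.ProjSpaceOver n (Spec (CommRingCat.of k))),
      IsClosedImmersion c ∧ c ≫ CohB1.ProjSpaceOver.toBase n (Spec (CommRingCat.of k)) = X ↘ (Spec (CommRingCat.of k)))
    (Y : Scheme.{u}) (yY : Y ⟶ (Spec (CommRingCat.of k))) [Smooth yY]
    (hqprojY : ∃ (m : ℕ) (c : Y ⟶ CohB1.ProjSpaceOver m (Spec (CommRingCat.of k))),
      IsImmersion c ∧ c ≫ CohB1.ProjSpaceOver.toBase m (Spec (CommRingCat.of k)) = yY)
    (M : Over (Spec (CommRingCat.of k))) (υ : Over.mk (X ↘ (Spec (CommRingCat.of k))) ⊗ M ⟶ Over.mk yY)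
    (hM : ∀ (T : Over (Spec (CommRingCat.of k))) (φ : Over.mk (X ↘ (Spec (CommRingCat.of k))) ⊗ T ⟶ Over.mk yY),
      ∃! a : T ⟶ M, (Over.mk (X ↘ (Spec (CommRingCat.of k))) ◁ a) ≫ υ = φ)
    (f : X ⟶ Y) (hf : f ≫ yY = X ↘ (Spec (CommRingCat.of k)))
    (af : 𝟙_ (Over (Spec (CommRingCat.of k))) ⟶ M)
    (haf : (Over.mk (X ↘ (Spec (CommRingCat.of k))) ◁ af) ≫ υ = (ρ_ (Over.mk (X ↘ (Spec (CommRingCat.of k))))).hom ≫ (Over.homMk f hf : Over.mk (X ↘ (Spec (CommRingCat.of k))) ⟶ Over.mk yY))
    [DCoh.HasSheafHom ((Scheme.Modules.pullback f).obj (Omega.sheaf yY))] :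
    Module.finrank (IsLocalRing.ResidueField (M.left.presheaf.stalk (af.left.base (IsLocalRing.closedPoint k))))
        (IsLocalRing.CotangentSpace (M.left.presheaf.stalk (af.left.base (IsLocalRing.closedPoint k)))) =
      Module.finrank k (Coh.HH X
        ((DCoh.sheafHom ((Scheme.Modules.pullback f).obj (Omega.sheaf yY))).obj (Coh.structureModule X)) 0) := by
  let x : X ⟶ Spec (CommRingCat.of k) := X ↘ (Spec (CommRingCat.of k))
  obtain ⟨u, hu, huε⟩ : ∃ u : Spec (M.left.presheaf.stalk (af.left (IsLocalRing.closedPoint k))) ⟶ M.left,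
      u = M.left.fromSpecStalk (af.left (IsLocalRing.closedPoint k)) ∧
      Spec.map (Scheme.stalkClosedPointTo (R := CommRingCat.of k) af.left) ≫ u = af.left :=
    ⟨_, rfl, Scheme.Spec_stalkClosedPointTo_fromSpecStalk (R := CommRingCat.of k) af.left⟩
  haveI : Mono u := by rw [hu]; infer_instance
  let R := M.left.presheaf.stalk (af.left (IsLocalRing.closedPoint k))
  let ψ : CommRingCat.of k ⟶ R := Spec.preimage (u ≫ M.hom)
  let ε : R ⟶ CommRingCat.of k := Scheme.stalkClosedPointTo (R := CommRingCat.of k) af.left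
  letI : Algebra k R := ψ.hom.toAlgebra
  letI : Algebra R k := ε.hom.toAlgebra
  have hψε : ψ ≫ ε = 𝟙 _ := by
    apply Spec.map_injective
    rw [Spec.map_comp, Spec.map_preimage, Spec.map_id, reassoc_of% huε]
    exact Over.w af
  haveI : IsScalarTower k R k := IsScalarTower.of_algebraMap_eq fun c =>
    (H19Grp.hom_apply_of_comp_eq_id (A := CommRingCat.of k) ψ ε hψε c).symm
  have hsurj : Function.Surjective (algebraMap R k) := fun c =>
    ⟨ψ.hom c, H19Grp.hom_apply_of_comp_eq_id (A := CommRingCat.of k) ψ ε hψε c⟩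
  have hwl : ∀ {Tb : Over (Spec (CommRingCat.of k))} (a : Tb ⟶ M),
      (Over.mk x ◁ a).left = H02CA.HomTan.tl x a := fun {Tb} a => by
    refine pullback.hom_ext ?_ ?_
    · exact (Over.whiskerLeft_left_fst (R := Over.mk x) a).trans (pullback.lift_fst _ _ _).symm
    · exact (Over.whiskerLeft_left_snd (R := Over.mk x) a).trans (pullback.lift_snd _ _ _).symm
  have hυ : υ.left ≫ yY = pullback.fst x M.hom ≫ x := (Over.w υ :)
  have hM' : ∀ (Tb : Over (Spec (CommRingCat.of k))) (φ : pullback x Tb.hom ⟶ Y),
      φ ≫ yY = pullback.fst x Tb.hom ≫ x → ∃! a : Tb ⟶ M, H02CA.HomTan.tl x a ≫ υ.left = φ := by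
    intro Tb φ hφ
    obtain ⟨a, ha, huniq⟩ := hM Tb (Over.homMk φ hφ)
    refine ⟨a, ?_, fun b hb => huniq b (Over.OverMorphism.ext ?_)⟩
    · show H02CA.HomTan.tl x a ≫ υ.left = φ
      rw [← hwl]
      exact congrArg CommaMorphism.left ha
    · show (Over.mk x ◁ b).left ≫ υ.left = φ
      rw [hwl]
      exact hb
  have haf' : H02CA.HomTan.tl x af ≫ υ.left =
      pullback.fst x (Over.mk (𝟙 (Spec (CommRingCat.of k)))).hom ≫ f := by
    rw [← hwl]
    refine (congrArg CommaMorphism.left haf).trans ?_
    show (ρ_ (Over.mk x)).hom.left ≫ f = _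
    rw [Over.rightUnitor_hom_left]
    rfl
  obtain ⟨Φ, hΦ, hadd, hsmul⟩ := H02CA.HomTan.exists_tangentEquiv (x := x) (yY := yY) (M := M) υ.left hυ hM' f hf af
    haf' (R := R) u (Spec.map_preimage _).symm huε fun a ha => by
      have hpt : a.left (IsLocalRing.closedPoint (CommRingCat.of (TrivSqZeroExt k k))) =
          af.left (IsLocalRing.closedPoint k) := by
        rw [← ha, Scheme.Hom.comp_apply]
        congr 1
        obtain ⟨t, ht⟩ := (H02CA.HomTan.sp0 (k := k) k).surjective
          (IsLocalRing.closedPoint (CommRingCat.of (TrivSqZeroExt k k)))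
        rw [← ht]
        exact congrArg _ (Subsingleton.elim (α := PrimeSpectrum k) _ _)
      obtain ⟨φ₀, hφ₀⟩ := H19Grp.exists_hom_of_closedPoint_eq (R := CommRingCat.of (TrivSqZeroExt k k)) a.left hpt
      exact ⟨φ₀.hom, by rw [hu]; exact hφ₀⟩
  haveI : QuasiSeparated yY := by
    obtain ⟨m, c, hc, hcy⟩ := hqprojY
    haveI := H27Weil.isProper_toBase m (Spec (CommRingCat.of k))
    haveI : IsSeparated yY := by rw [← hcy]; infer_instance
    infer_instance
  obtain ⟨e, he⟩ := H02CA.HomTan.exists_homH0Equiv (f := yY) f (Coh.structureModule X)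
  let L : Derivation k R k ≃ₗ[k] Coh.HH X
      ((DCoh.sheafHom ((Scheme.Modules.pullback f).obj (Omega.sheaf yY))).obj (Coh.structureModule X)) 0 :=
    LinearEquiv.ofBijective
      { toFun := fun D => e.symm (Φ D)
        map_add' := fun D D' => by rw [hadd, map_add]
        map_smul' := fun c D => by
          apply e.injective
          rw [RingHom.id_apply, e.apply_symm_apply, hsmul]
          show _ = e ((show Coh.Γtop X from Coh.toGlobal x c) • e.symm (Φ D))
          rw [he (Coh.toGlobal x c), e.apply_symm_apply]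
          congr 2
          show x.appLE ⊤ ⊤ le_top _ = x.appTop _
          rw [show x.appLE ⊤ ⊤ le_top = x.appTop from ((x.app_eq_appLE (U := ⊤)).symm :)] }
      (e.symm.bijective.comp hΦ)
  rw [← L.finrank_eq, H02CA.HomTan.finrank_derivation_eq hsurj]

end Groth.Agent.S12266
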