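import Groth.Statements.S12268
import Groth.Agent.H24Def.AffineObsTheory
import Groth.Agent.H24Def.AffineTangent
import Groth.Agent.H24Art.AdicSmooth
import Groth.Agent.S12327
import Mathlib.RingTheory.KrullDimension.NonZeroDivisors

set_option autoImplicit false
set_option linter.style.haveILetI false
universe u
open CategoryTheory CategoryTheory.Limits AlgebraicGeometry
open Deform
open Groth.Agent

namespace Groth.Agent.S12268

/-- Let k be an algebraically closed field and B₀ a k-algebra with a finite presentation P =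
k[X_i]/(f_s); let T¹ = T¹(B₀/k, B₀) and T² = T²(B₀/k, B₀) be the first and second cotangent modules
computed from P, and assume T¹ is finite-dimensional over k. Then for every semiuniversal formal
deformation of Spec B₀ — a complete local Noetherian k-algebra R̄ with residue field k carrying a
miniversal family for the functor Def_{B₀} of isomorphism classes of deformations — one has dim R̄ ≤
dim_k T¹; if T² is finite-dimensional as well, dim_k T¹ ≤ dim R̄ + dim_k T²; and dim R̄ = dim_k T¹
holds exactly when Spec B₀ is unobstructed, i.e. Def_{B₀}(B) → Def_{B₀}(A) is surjective for every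
surjection B → A of local Artinian k-algebras with residue field k. (The published statement writes
the lower bound as dim_k T¹ − dim_k T² ≤ dim R̄, empty when T² is infinite-dimensional, and allows a
localisation of the polynomial ring as ambient algebra.) -/
theorem result
    {k : Type u} [Field k] [IsAlgClosed k] (B₀ : Type u) [CommRing B₀] [Algebra k B₀] {ι σ : Type u} [Finite ι] [Finite σ]
    (P : Algebra.Presentation k B₀ ι σ)
    [Module.Finite k (CotT.T1 P B₀)] (H : ArtFun.Hull (ArtFun.defFunctor (Λ := k) (Spec (CommRingCat.of B₀)) (Spec.map (CommRingCat.ofHom (algebraMap k B₀))))) :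
    ringKrullDim H.ring.carrier ≤ ((Module.finrank k (CotT.T1 P B₀) : ℕ∞) : WithBot ℕ∞) ∧
      (Module.Finite k (CotT.T2 P B₀) →
        ((Module.finrank k (CotT.T1 P B₀) : ℕ∞) : WithBot ℕ∞) ≤
          ringKrullDim H.ring.carrier + ((Module.finrank k (CotT.T2 P B₀) : ℕ∞) : WithBot ℕ∞)) ∧
      (ringKrullDim H.ring.carrier = ((Module.finrank k (CotT.T1 P B₀) : ℕ∞) : WithBot ℕ∞) ↔
        ArtFun.IsSmoothFunctor (ArtFun.defFunctor (Λ := k) (Spec (CommRingCat.of B₀)) (Spec.map (CommRingCat.ofHom (algebraMap k B₀))))) := by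
  classical
  let F := ArtFun.defFunctor (Λ := k) (Spec (CommRingCat.of B₀)) (H24Def.affPt k B₀)
  have hd : Module.finrank (IsLocalRing.ResidueField H.ring.carrier) (IsLocalRing.CotangentSpace H.ring.carrier) =
      Module.finrank k (CotT.T1 P B₀) := by
    obtain ⟨l⟩ := H24Def.AffTan.finrank_pointDer P (Finite.equivFin ι).symm H.ring.res H.family H.miniversal
    rw [← H24Def.AffTan.finrank_pointDer_eq H.ring.res, l.finrank_eq]
  obtain ⟨d, π, hπ, hker⟩ := H24Obs.exists_presentation H.ring
  haveI := H02CA.PS.isRegularLocalRing_fin (k := k) d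
  have hdim : ringKrullDim (MvPowerSeries (Fin d) k) =
      ((Module.finrank k (CotT.T1 P B₀) : ℕ∞) : WithBot ℕ∞) := by
    rw [← hd, ← IsLocalRing.spanFinrank_maximalIdeal_eq_finrank_cotangentSpace,
      H24Obs.spanFinrank_maximalIdeal_eq (π : MvPowerSeries (Fin d) k →+* H.ring.carrier) hπ hker]
    exact IsRegularLocalRing.spanFinrank_maximalIdeal.symm
  refine ⟨hdim ▸ ringKrullDim_le_of_surjective (π : MvPowerSeries (Fin d) k →+* H.ring.carrier) hπ, fun hfin => ?_, ?_⟩
  · have h := (S12327.result (CotT.T2 P B₀) (H24Def.AffExt.obsTheoryPres (k := k) (B₀ := B₀) P) H).2.1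
    rw [hd] at h
    exact_mod_cast h
  constructor
  · intro heq
    have hinj : Function.Injective π := by
      rw [injective_iff_map_eq_zero]
      intro x hx
      by_contra hne
      have h1 := ringKrullDim_succ_le_of_surjective (π : MvPowerSeries (Fin d) k →+* H.ring.carrier) hπ
        (mem_nonZeroDivisors_of_ne_zero hne) hx
      rw [hdim, ← heq] at h1
      rw [heq] at h1
      have h2 : ((Module.finrank k (CotT.T1 P B₀) + 1 : ℕ) : WithBot ℕ∞) ≤ (Module.finrank k (CotT.T1 P B₀) : ℕ) := by
        exact_mod_cast h1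
      exact absurd (by exact_mod_cast h2) (Nat.not_succ_le_self (Module.finrank k (CotT.T1 P B₀)))
    let ee := AlgEquiv.ofBijective π ⟨hinj, hπ⟩
    have hs : ArtFun.IsSmoothFunctor (ArtFun.hR H.ring.carrier H.ring.res) := fun C' C q hq φ => by
      obtain ⟨χ, hχ, hχ'⟩ := H24Obs.exists_lift H.ring.res π q hq φ
      refine ⟨⟨χ.comp ee.symm.toAlgHom, AlgHom.ext fun r => ?_⟩, Subtype.ext (AlgHom.ext fun r => ?_)⟩
      · change (C'.res.comp χ) (ee.symm r) = H.ring.res r
        rw [hχ, ← H24Obs.algHom_to_k (H.ring.res.comp π)]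
        exact congrArg H.ring.res (ee.apply_symm_apply r)
      · change q (χ (ee.symm r)) = φ.1 r
        rw [hχ']
        exact congrArg φ.1 (ee.apply_symm_apply r)
    exact (H24Art.isSmoothFunctor_iff_of_isVersal H28Def.h0_defFunctor H.family H.miniversal.1).mpr hs
  · intro hs
    let T0 : ArtFun.ObsTheory F PUnit.{u+1} :=
      { obs := fun _ _ _ => 0
        obs_eq_zero_iff := fun p hp x => ⟨fun _ => hs p hp.1 x, fun _ => rfl⟩
        obs_quot := fun p hp K hK hKJ hq x => (map_zero _).symm }
    obtain ⟨h1, h2, -, -⟩ := S12327.result PUnit.{u+1} T0 H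
    rw [hd] at h1 h2
    rw [Module.finrank_zero_of_subsingleton (R := k) (M := PUnit.{u+1}), Nat.cast_zero, add_zero] at h2
    exact le_antisymm h1 h2

end Groth.Agent.S12268
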