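import Groth.Statements.S12269
import Groth.Agent.H8Cot.T2Reduced

set_option autoImplicit false
universe u
open CategoryTheory
open Deform

namespace Groth.Agent.S12269

/-- Let k be an algebraically closed field and B₀ a reduced k-algebra given with a finite presentation P
= k[X_i]/I (finitely many variables and relations); let T² = T²(B₀/k, B₀) be the second cotangent
module computed from P and I/I² the conormal module of the presentation. Then T² and Ext¹_{B₀}(I/I²,
B₀) are isomorphic B₀-modules (existence of a B₀-linear isomorphism; the published one is induced by
the chosen presentation). (The published statement allows the quotient of any smooth k-algebra; this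
row takes a polynomial presentation.) -/
theorem result
    {k : Type u} [Field k] [IsAlgClosed k] (B₀ : Type u) [CommRing B₀] [Algebra k B₀] {ι σ : Type u} [Finite ι] [Finite σ]
    (P : Algebra.Presentation k B₀ ι σ) [IsReduced B₀] :
    Nonempty (CotT.T2 P B₀ ≃ₗ[B₀]
      Abelian.Ext (ModuleCat.of B₀ P.toExtension.Cotangent) (ModuleCat.of B₀ B₀) 1) := by
  haveI : IsRegularRing P.toExtension.Ring := inferInstanceAs (IsRegularRing (MvPolynomial ι k))
  exact H8Cot.nonempty_T2_equiv_ext P

end Groth.Agent.S12269
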