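-- statement FlatMor.GrothFrozen.S1227 (Groth/Statements/S1227.lean; the theorem FlatMor.exists_ideal_baseChange_bijective_iff);
import Groth.Statements.S1227

set_option autoImplicit false
universe u
open FlatMor

namespace Groth.Agent.S1227

open TensorProduct in
/-- Let u be a surjective linear map from a projective A-module M to an A-module N. Then there is an
ideal I of A such that for every A-algebra B, the base change u ⊗ 1 from B ⊗ M to B ⊗ N is bijective
if and only if the image of I in B is zero. -/
theorem result {A : Type u} [CommRing A] {M N : Type u} [AddCommGroup M] [Module A M] [Module.Projective A M]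
    [AddCommGroup N] [Module A N] (u : M →ₗ[A] N) (hu : Function.Surjective u) :
    ∃ I : Ideal A, ∀ (B : Type u) [CommRing B] [Algebra A B],
      Function.Bijective (u.baseChange B) ↔ I.map (algebraMap A B) = ⊥ := by
  classical
  refine ⟨Ideal.span {a : A | ∃ (φ : M →ₗ[A] A) (k : M), u k = 0 ∧ φ k = a}, fun B _ _ => ?_⟩
  constructor
  · intro h
    rw [Ideal.map_span, Ideal.span_eq_bot]
    rintro _ ⟨_, ⟨φ, k, hk, rfl⟩, rfl⟩
    have h1 : (1 : B) ⊗ₜ[A] k = 0 := h.1 (by simp [hk])
    have h2 := congrArg (TensorProduct.rid A B) (congrArg (φ.baseChange B) h1)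
    rw [map_zero, map_zero, LinearMap.baseChange_tmul, TensorProduct.rid_tmul] at h2
    rwa [Algebra.smul_def, mul_one] at h2
  · intro h
    obtain ⟨s, hs⟩ := (Module.projective_def (R := A) (P := M)).1 ‹_›
    have hker : ∀ k, u k = 0 → ∀ b : B, b ⊗ₜ[A] k = 0 := by
      intro k hk b
      have e : k = Finsupp.linearCombination A id (s k) := (hs k).symm
      rw [e, Finsupp.linearCombination_apply, Finsupp.sum, TensorProduct.tmul_sum]
      refine Finset.sum_eq_zero fun m _ => ?_
      rw [TensorProduct.tmul_smul]
      have hm : algebraMap A B (s k m) = 0 := by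
        have := Ideal.mem_map_of_mem (algebraMap A B) (Ideal.subset_span
          (show s k m ∈ {a : A | ∃ (φ : M →ₗ[A] A) (k : M), u k = 0 ∧ φ k = a} from
            ⟨(Finsupp.lapply m).comp s, k, hk, rfl⟩))
        rwa [h, Ideal.mem_bot] at this
      rw [TensorProduct.smul_tmul', Algebra.smul_def, hm, zero_mul, TensorProduct.zero_tmul]
    have hexact : Function.Exact ((LinearMap.ker u).subtype.baseChange B) (u.baseChange B) := by
      simp only [LinearMap.baseChange_eq_ltensor]
      exact lTensor_exact B (LinearMap.exact_subtype_ker_map u) hu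
    refine ⟨(injective_iff_map_eq_zero _).2 fun z hz => ?_, by
      simp only [LinearMap.baseChange_eq_ltensor]; exact LinearMap.lTensor_surjective B hu⟩
    obtain ⟨w, rfl⟩ := (hexact z).1 hz
    induction w using TensorProduct.induction_on with
    | zero => simp
    | tmul b k => exact hker k.1 k.2 b
    | add x y hx hy =>
      rw [map_add, hx ?_, hy ?_, add_zero] <;> exact (hexact _).2 ⟨_, rfl⟩

end Groth.Agent.S1227
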