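import Groth.Statements.S12272
import Groth.Agent.H24Hilb.Normal
import Groth.Agent.H24Hilb.Conditions
import Groth.Agent.H24Hilb.Diff
import Groth.Agent.H28Def.Adjust

set_option autoImplicit false
universe u
open CategoryTheory CategoryTheory.Limits AlgebraicGeometry
attribute [local instance] HasDerivedCategory.standard
open Deform

namespace Groth.Agent.S12272

/-- Let k be an algebraically closed field, Y a separated k-scheme of finite type and i : X → Y a
regular closed immersion over k with X projective over k; let N = Hom_{O_X}(I/I², O_X) be the normal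
sheaf (sheaf Hom of the conormal sheaf of i, as a right adjoint, assumed to exist). Then X is rigid
in Y, meaning that for every local Artinian k-algebra A with residue field k there is at most one
closed subscheme of Y ×_k Spec A flat over Spec A restricting to X on the closed fibre (necessarily
X ×_k Spec A), if and only if H⁰(X, N) = 0. -/
theorem result
    {k : Type u} [Field k] [IsAlgClosed k] (Y : Scheme.{u}) (y : Y ⟶ Spec (CommRingCat.of k))
    [LocallyOfFiniteType y] [IsSeparated y] [QuasiCompact y]
    (X : Scheme.{u}) [X.Over (Spec (CommRingCat.of k))] (i : X ⟶ Y) [IsClosedImmersion i] (hi : i ≫ y = X ↘ (Spec (CommRingCat.of k)))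
    (hreg : Mor2.IsRegularClosedImmersion i)
    (hproj : ∃ (n : ℕ) (c : X ⟶ CohB1.ProjSpaceOver n (Spec (CommRingCat.of k))),
      IsClosedImmersion c ∧ c ≫ CohB1.ProjSpaceOver.toBase n (Spec (CommRingCat.of k)) = X ↘ (Spec (CommRingCat.of k)))
    [DCoh.HasSheafHom (Omega.conormal i)] :
    (∀ A : ArtFun.Art k k, Subsingleton ((ArtFun.localHilb Y y i.ker).obj A)) ↔
      Subsingleton (Coh.HH X ((DCoh.sheafHom (Omega.conormal i)).obj (Coh.structureModule X)) 0) := by
  obtain ⟨eN⟩ := Groth.Agent.H24Hilb.nonempty_normalEquiv i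
  constructor
  · intro h
    let T := ArtFun.Art.dual k k
    have hp : ArtFun.Art.IsSemismallExt (ArtFun.Art.toBase T) :=
      ⟨(Groth.Agent.H28Def.isSmallExt_toBase_dual).1, (Groth.Agent.H28Def.isSmallExt_toBase_dual).2.2.2⟩
    obtain ⟨n, t, ht⟩ := Groth.Agent.H24Hilb.exists_kerBasis hp
    obtain ⟨I⟩ := (Groth.Agent.H24Hilb.h0_localHilb (x := y) (I₀ := i.ker)).1
    let I' := (ArtFun.localHilb Y y i.ker).map (ArtFun.Art.ofBase T) I
    have hI' : (ArtFun.localHilb Y y i.ker).map (ArtFun.Art.toBase T) I' = I := by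
      haveI := (Groth.Agent.H24Hilb.h0_localHilb (x := y) (I₀ := i.ker)).2
      exact Subsingleton.elim _ _
    obtain ⟨e⟩ := Groth.Agent.H24Hilb.nonempty_fibreEquiv ht hp.1 I I' hI'
    haveI := h T
    haveI : Subsingleton (Fin n → (ClSub.idealMod i.ker ⟶ ClSub.quotMod i.ker)) := e.symm.subsingleton
    have hn : 0 < n := by
      by_contra hn
      obtain rfl : n = 0 := by omega
      refine (Groth.Agent.H28Def.isSmallExt_toBase_dual (Λ := k) (k := k)).2.1 (eq_bot_iff.2 fun j hj => ?_)
      obtain ⟨c, hc⟩ := ht.span j hj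
      rw [Ideal.mem_bot, hc, Fintype.sum_empty]
    haveI : Subsingleton (ClSub.idealMod i.ker ⟶ ClSub.quotMod i.ker) :=
      ⟨fun a b => congrFun (Subsingleton.elim (fun _ : Fin n => a) (fun _ => b)) ⟨0, hn⟩⟩
    exact eN.symm.subsingleton
  · intro h A
    haveI : Subsingleton (ClSub.idealMod i.ker ⟶ ClSub.quotMod i.ker) := eN.subsingleton
    haveI := (Groth.Agent.H24Hilb.h0_localHilb (x := y) (I₀ := i.ker)).2
    exact (Groth.Agent.H24Hilb.injective_map_of_subsingleton_hom (x := y) (p := ArtFun.Art.toBase A) ‹_›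
      (Groth.Agent.H24Hilb.toBase_surjective A)).subsingleton

end Groth.Agent.S12272
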