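-- statement FlatMor.GrothFrozen.S1228 (Groth/Statements/S1228.lean; the theorem FlatMor.flattening_of_surjection_closed);
import Groth.Statements.S1228
import Groth.Agent.S1219

set_option autoImplicit false
universe u
open FlatMor

namespace Groth.Agent.S1228

open TensorProduct in
/-- Ring form, S = Spec A and X = Spec B affine, test schemes affine: let B be a finitely presented
A-algebra, N a finitely presented B-module which is flat over A and pure relative to Spec A, and u a
surjective B-linear map from N to a B-module N'. Then the functor 'u becomes an isomorphism after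
base change' is represented by a closed subscheme of Spec A: there is an ideal I of A such that for
every A-algebra A' the base change A' ⊗_A N → A' ⊗_A N' is bijective if and only if IA' = 0. If N'
is finitely presented then I is finitely generated. -/
theorem result {A B : Type u} [CommRing A] [CommRing B] [Algebra A B] [Algebra.FinitePresentation A B]
    (N : Type u) [AddCommGroup N] [Module B N] [Module A N] [IsScalarTower A B N] [Module.FinitePresentation B N] [Module.Flat A N]
    (hpure : FlatCA.IsPure A B N)
    (N' : Type u) [AddCommGroup N'] [Module B N'] [Module A N'] [IsScalarTower A B N'] (u : N →ₗ[B] N') (hu : Function.Surjective u) :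
    ∃ I : Ideal A, (∀ (A' : Type u) [CommRing A'] [Algebra A A'],
        Function.Bijective ((u.restrictScalars A).baseChange A') ↔ I.map (algebraMap A A') = ⊥) ∧
      (Module.FinitePresentation B N' → I.FG) := by
  classical
  haveI : Module.Projective A N := (Groth.Agent.S1219.result (B := B) N).mpr hpure
  obtain ⟨s, hs⟩ := Module.projective_def'.mp (inferInstance : Module.Projective A N)
  let c : N → Ideal A := fun z => Ideal.span ((s z).support.image (s z) : Set A)
  have hcoord : ∀ z a, s z a ∈ c z := fun z a => by
    by_cases h : s z a = 0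
    · rw [h]
      exact zero_mem _
    · exact Ideal.subset_span (Finset.mem_coe.mpr (Finset.mem_image_of_mem _ (Finsupp.mem_support_iff.mpr h)))
  have hle : ∀ z (J : Ideal A), z ∈ J • (⊤ : Submodule A N) → c z ≤ J := fun z J hz => by
    have key : ∀ a, s z a ∈ J := by
      intro a
      refine Submodule.smul_induction_on (p := fun z => s z a ∈ J) hz (fun r hr n _ => ?_) fun x y hx hy => ?_
      · rw [map_smul, Finsupp.smul_apply, smul_eq_mul]; exact J.mul_mem_right _ hr
      · rw [map_add, Finsupp.add_apply]; exact J.add_mem hx hy
    refine Ideal.span_le.mpr fun r hr => ?_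
    obtain ⟨a, -, rfl⟩ := Finset.mem_image.mp (Finset.mem_coe.mp hr)
    exact key a
  have hmem : ∀ z, z ∈ c z • (⊤ : Submodule A N) := fun z => by
    have h : (Finsupp.linearCombination A (id : N → N)) (s z) = z := LinearMap.congr_fun hs z
    rw [Finsupp.linearCombination_apply] at h
    refine h.subst (motive := fun w => w ∈ c z • (⊤ : Submodule A N)) ?_
    exact Submodule.sum_mem (c z • (⊤ : Submodule A N)) fun a _ =>
      Submodule.smul_mem_smul (hcoord z a) (Submodule.mem_top (R := A))
  have hzero : ∀ (A' : Type u) [CommRing A'] [Algebra A A'] (z : N),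
      (1 : A') ⊗ₜ[A] z = 0 ↔ (c z).map (algebraMap A A') = ⊥ := by
    intro A' _ _ z
    constructor
    · intro h
      rw [Ideal.map_eq_bot_iff_le_ker, Ideal.span_le]
      intro r hr
      obtain ⟨a, -, rfl⟩ := Finset.mem_image.mp (Finset.mem_coe.mp hr)
      have h1 := congrArg (fun w => TensorProduct.finsuppScalarRight A A A' N (s.lTensor A' w) a) h
      simp [Algebra.smul_def] at h1
      simpa [RingHom.mem_ker] using h1
    · intro h
      have h0 : ∀ m ∈ c z • (⊤ : Submodule A N), (1 : A') ⊗ₜ[A] m = 0 := fun m hm => by
        refine Submodule.smul_induction_on (p := fun m => (1 : A') ⊗ₜ[A] m = 0) hm (fun r hr n _ => ?_)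
          fun x y hx hy => ?_
        · have hr' : algebraMap A A' r = 0 := by
            rw [← Ideal.mem_bot, ← h]
            exact Ideal.mem_map_of_mem _ hr
          rw [TensorProduct.tmul_smul, TensorProduct.smul_tmul', Algebra.smul_def, hr', zero_mul,
            TensorProduct.zero_tmul]
        · rw [TensorProduct.tmul_add, hx, hy, add_zero]
      exact h0 z (hmem z)
  refine ⟨⨆ z ∈ LinearMap.ker u, c z, fun A' _ _ => ?_, fun hN' => ?_⟩
  · constructor
    · intro hb
      rw [Ideal.map_eq_bot_iff_le_ker]
      refine iSup₂_le fun z hz => (Ideal.map_eq_bot_iff_le_ker _).mp ((hzero A' z).mp (hb.1 ?_))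
      rw [LinearMap.baseChange_tmul, map_zero, show (u.restrictScalars A) z = 0 from hz, TensorProduct.tmul_zero]
    · intro h
      refine ⟨(injective_iff_map_eq_zero _).mpr fun w hw => ?_, LinearMap.lTensor_surjective A' hu⟩
      have hex := lTensor_exact A' (LinearMap.exact_subtype_ker_map (u.restrictScalars A)) hu
      obtain ⟨v, rfl⟩ := (hex w).mp (by rw [← hw, LinearMap.baseChange_eq_ltensor])
      clear hw
      induction v using TensorProduct.induction_on with
      | zero => exact map_zero _
      | add x y hx hy => rw [map_add, hx, hy, add_zero]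
      | tmul a k =>
        have hk : (1 : A') ⊗ₜ[A] (k : N) = 0 := by
          refine (hzero A' k).mpr (le_bot_iff.mp (h ▸ Ideal.map_mono ?_))
          exact le_iSup₂ (f := fun z (_ : z ∈ LinearMap.ker u) => c z) (k : N)
            (show (k : N) ∈ LinearMap.ker u from k.2)
        rw [LinearMap.lTensor_tmul, Submodule.subtype_apply, show a ⊗ₜ[A] (k : N) = a • ((1 : A') ⊗ₜ[A] (k : N)) by
          rw [TensorProduct.smul_tmul', smul_eq_mul, mul_one], hk, smul_zero]
  · haveI := hN'
    obtain ⟨t, ht⟩ := Module.FinitePresentation.fg_ker u hu
    have heq : (⨆ z ∈ LinearMap.ker u, c z) = ⨆ k ∈ t, c k := by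
      refine le_antisymm (iSup₂_le fun z hz => hle _ _ ?_) (iSup₂_le fun k hk => ?_)
      · rw [← ht] at hz
        induction hz using Submodule.span_induction with
        | mem k hk => exact Submodule.smul_mono (le_iSup₂ (f := fun k (_ : k ∈ t) => c k) k hk) le_rfl (hmem k)
        | zero => exact zero_mem _
        | add a b _ _ ha hb => exact add_mem ha hb
        | smul b a _ ha =>
          refine Submodule.smul_induction_on (p := fun a => b • a ∈ (⨆ k ∈ t, c k) • (⊤ : Submodule A N)) ha
            (fun r hr n _ => ?_) fun x y hx hy => ?_
          · rw [smul_comm]; exact Submodule.smul_mem_smul hr Submodule.mem_top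
          · rw [smul_add]; exact add_mem hx hy
      · exact le_iSup₂ (f := fun z (_ : z ∈ LinearMap.ker u) => c z) k (ht ▸ Submodule.subset_span hk)
    rw [heq, iSup_subtype' (p := fun k => k ∈ t) (f := fun k _ => c k)]
    exact Submodule.fg_iSup _ fun k => Submodule.fg_span (Finset.finite_toSet _)

end Groth.Agent.S1228
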