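import Groth.Statements.S12280
import Groth.Agent.H24Hilb.Point
import Groth.Agent.H24Art.Point
import Groth.Agent.H24Hilb.NormalClosed
import Groth.Agent.H24Hilb.RegularLocal
import Groth.Agent.H10Coh.FinType2
import Groth.Agent.H17.ConsModModels
import Groth.Agent.H10Coh.Proper2

set_option autoImplicit false
set_option linter.style.haveILetI false
universe u
open CategoryTheory CategoryTheory.Limits AlgebraicGeometry
open scoped TensorProduct
attribute [local instance] HasDerivedCategory.standard
open DefT

open Groth.Agent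
namespace Groth.Agent.S12280

/-- Let k be an algebraically closed field, X = P^n_k, and (H, Z) a Hilbert scheme of X over k: H is a
locally Noetherian k-scheme and Z ⊆ X ×_k H a closed subscheme, proper and flat over H, such that
every closed subscheme of X ×_k T proper and flat over a locally Noetherian k-scheme T is the
pull-back of Z along a unique k-morphism T → H. Let Y ⊆ X be a closed subscheme, regarded as a
k-scheme through X, with ideal sheaf I and normal sheaf N = Hom_{O_Y}(I/I², O_Y) (the sheaf Hom,
assumed to exist as the right adjoint of tensoring with I/I²), and let y ∈ H be the k-point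
classifying Y (the pull-back of Z along Spec k → H is Y). If Y → X is a regular closed immersion (Y
is a local complete intersection in X) and H^1(Y, N) = 0, then H is nonsingular at y: the local ring
O_{H,y} is regular, and its dimension equals dim_k H^0(Y, N). -/
theorem result
    {k : Type u} [Field k] [IsAlgClosed k] (n : ℕ)
    (H : Over (Spec (CommRingCat.of k))) (Z : FGA.HilbSet (CohB1.ProjSpaceOver.toBase n (Spec (CommRingCat.of k))) H) (hH : FGA.HilbRepresentedBy (CohB1.ProjSpaceOver.toBase n (Spec (CommRingCat.of k))) H Z)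
    (Y : Scheme.{u}) [Y.Over (Spec (CommRingCat.of k))] (i : Y ⟶ CohB1.ProjSpaceOver n (Spec (CommRingCat.of k))) [IsClosedImmersion i]
    (hi : i ≫ CohB1.ProjSpaceOver.toBase n (Spec (CommRingCat.of k)) = Y ↘ Spec (CommRingCat.of k))
    (hreg : Mor2.IsRegularClosedImmersion i)
    [DCoh.HasSheafHom (Omega.conormal i)]
    (y : Over.mk (𝟙 (Spec (CommRingCat.of k))) ⟶ H)
    (hy : FGA.hilbPull (CohB1.ProjSpaceOver.toBase n (Spec (CommRingCat.of k))) y Z.1 = i.ker.comap (pullback.fst (CohB1.ProjSpaceOver.toBase n (Spec (CommRingCat.of k))) (Over.mk (𝟙 (Spec (CommRingCat.of k)))).hom))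
    (h1 : Subsingleton (Coh.HH Y ((DCoh.sheafHom (Omega.conormal i)).obj (Coh.structureModule Y)) 1)) :
    IsRegularLocalRing (H.left.presheaf.stalk (y.left.base (IsLocalRing.closedPoint k))) ∧
      ringKrullDim (H.left.presheaf.stalk (y.left.base (IsLocalRing.closedPoint k))) = (Module.finrank k (Coh.HH Y ((DCoh.sheafHom (Omega.conormal i)).obj (Coh.structureModule Y)) 0) : WithBot ℕ∞) := by
    haveI : IsLocallyNoetherian H.left := hH.1
    let x := CohB1.ProjSpaceOver.toBase n (Spec (CommRingCat.of k))
    haveI : IsProper x := inferInstanceAs (IsProper (CohB1.ProjSpaceOver.toBase n (Spec (CommRingCat.of k))))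
    letI : (CohB1.ProjSpaceOver n (Spec (CommRingCat.of k))).Over (Spec (CommRingCat.of k)) := ⟨x⟩
    haveI : IsLocallyNoetherian (CohB1.ProjSpaceOver n (Spec (CommRingCat.of k))) :=
      LocallyOfFiniteType.isLocallyNoetherian x
    haveI : IsLocallyNoetherian Y := LocallyOfFiniteType.isLocallyNoetherian (i ≫ x)
    haveI : Mono (ClSub.idealModι i.ker) := by unfold ClSub.idealModι; exact equalizer.ι_mono
    have hcoh : Coh.IsCoh (Omega.conormal i) :=
      H17.ConsProp.isCoh_pullback _ (H10Coh.isCoh_of_mono (ClSub.idealModι _)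
        (H17.OmegaLocal.isQuasicoherent_idealMod _) (H10Coh.isCoh_structureModule' _))
    obtain ⟨alg, ρ, ξ, hρ, hξ⟩ := H24Hilb.exists_isUniversal_stalk x H Z hH i.ker y hy
    have hsm : ArtFun.IsSmoothFunctor (ArtFun.localHilb _ x i.ker) := fun B A p hp =>
      H24Hilb.surjective_map_of_localLift' i p hp rfl
        (fun B A q hq I z => H24Hilb.exists_localLift_of_regular i hreg q hq.1 I z) (H10Coh.isFP_of_isCoh _ hcoh) h1
    haveI hR := H24Art.isRegularLocalRing_of_isSmoothFunctor ξ hρ hξ hsm
    refine ⟨hR, ?_⟩
    have h0 : ArtFun.H0 (ArtFun.localHilb _ x i.ker) := H24Hilb.h0_localHilb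
    obtain ⟨T⟩ := H24Art.nonempty_tangentStr h0 H24Hilb.heps_localHilb
    letI : ArtFun.TangentStr (ArtFun.localHilb _ ((CohB1.ProjSpaceOver n (Spec (CommRingCat.of k))) ↘ Spec (CommRingCat.of k)) i.ker) := T
    obtain ⟨e⟩ := H24Hilb.nonempty_tangent_linearEquiv_closed (k := k) i hi
    rw [← IsRegularLocalRing.spanFinrank_maximalIdeal, IsLocalRing.spanFinrank_maximalIdeal_eq_finrank_cotangentSpace,
      H24Art.finrank_cotangentSpace_eq_tangent ξ hρ hξ]
    exact_mod_cast LinearEquiv.finrank_eq e

end Groth.Agent.S12280
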