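import Groth.Statements.S12281
import Groth.Agent.H24Hilb.Point
import Groth.Agent.H24Art.Point
import Groth.Agent.H24Hilb.BurchLocal
import Groth.Agent.H26Smooth.ProjSmooth
import Groth.Agent.H10Coh.FinType2
import Groth.Agent.H17.ConsModModels
import Groth.Agent.H10Coh.Proper2

set_option autoImplicit false
set_option linter.style.haveILetI false
universe u
open CategoryTheory CategoryTheory.Limits AlgebraicGeometry
open scoped TensorProduct
attribute [local instance] HasDerivedCategory.standard
open DefT

open Groth.Agent
namespace Groth.Agent.S12281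

/-- Let k be an algebraically closed field, X = P^n_k, and (H, Z) a Hilbert scheme of X over k: H is a
locally Noetherian k-scheme and Z ⊆ X ×_k H a closed subscheme, proper and flat over H, such that
every closed subscheme of X ×_k T proper and flat over a locally Noetherian k-scheme T is the
pull-back of Z along a unique k-morphism T → H. Let Y ⊆ X be a closed subscheme, regarded as a
k-scheme through X, with ideal sheaf I and normal sheaf N = Hom_{O_Y}(I/I², O_Y) (the sheaf Hom,
assumed to exist as the right adjoint of tensoring with I/I²), and let y ∈ H be the k-point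
classifying Y (the pull-back of Z along Spec k → H is Y). If Y is Cohen–Macaulay of codimension 2 in
X (every local ring of Y is Cohen–Macaulay and dim O_{X,y'} = dim O_{Y,y'} + 2 at every point y' of
Y) and H^1(Y, N) = 0, then H is nonsingular at y: the local ring O_{H,y} is regular. (The published
statement assumes 'no local obstructions to deformations of Y' and H^1(Y, N) = 0; this row is the
case, named in the text, where the first hypothesis holds because Y is Cohen–Macaulay of codimension
2.) -/
theorem result
    {k : Type u} [Field k] [IsAlgClosed k] (n : ℕ)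
    (H : Over (Spec (CommRingCat.of k))) (Z : FGA.HilbSet (CohB1.ProjSpaceOver.toBase n (Spec (CommRingCat.of k))) H) (hH : FGA.HilbRepresentedBy (CohB1.ProjSpaceOver.toBase n (Spec (CommRingCat.of k))) H Z)
    (Y : Scheme.{u}) (i : Y ⟶ CohB1.ProjSpaceOver n (Spec (CommRingCat.of k))) [IsClosedImmersion i]
    (hCM : ∀ y' : Y, LocCoh.IsCohenMacaulayLocalRing (Y.presheaf.stalk y'))
    (hcodim : ∀ y' : Y, ringKrullDim (Y.presheaf.stalk y') + 2 = ringKrullDim ((CohB1.ProjSpaceOver n (Spec (CommRingCat.of k))).presheaf.stalk (i.base y')))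
    [DCoh.HasSheafHom (Omega.conormal i)]
    (y : Over.mk (𝟙 (Spec (CommRingCat.of k))) ⟶ H)
    (hy : FGA.hilbPull (CohB1.ProjSpaceOver.toBase n (Spec (CommRingCat.of k))) y Z.1 = i.ker.comap (pullback.fst (CohB1.ProjSpaceOver.toBase n (Spec (CommRingCat.of k))) (Over.mk (𝟙 (Spec (CommRingCat.of k)))).hom))
    (h1 : Subsingleton (Coh.HH Y ((DCoh.sheafHom (Omega.conormal i)).obj (Coh.structureModule Y)) 1)) :
    IsRegularLocalRing (H.left.presheaf.stalk (y.left.base (IsLocalRing.closedPoint k))) := by
    haveI : IsLocallyNoetherian H.left := hH.1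
    let x := CohB1.ProjSpaceOver.toBase n (Spec (CommRingCat.of k))
    haveI : IsProper x := inferInstanceAs (IsProper (CohB1.ProjSpaceOver.toBase n (Spec (CommRingCat.of k))))
    haveI : Smooth x := inferInstanceAs (Smooth (CohB1.ProjSpaceOver.toBase n (Spec (CommRingCat.of k))))
    haveI : IsLocallyNoetherian (CohB1.ProjSpaceOver n (Spec (CommRingCat.of k))) :=
      LocallyOfFiniteType.isLocallyNoetherian x
    haveI : IsLocallyNoetherian Y := LocallyOfFiniteType.isLocallyNoetherian (i ≫ x)
    haveI : Mono (ClSub.idealModι i.ker) := by unfold ClSub.idealModι; exact equalizer.ι_mono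
    have hcoh : Coh.IsCoh (Omega.conormal i) :=
      H17.ConsProp.isCoh_pullback _ (H10Coh.isCoh_of_mono (ClSub.idealModι _)
        (H17.OmegaLocal.isQuasicoherent_idealMod _) (H10Coh.isCoh_structureModule' _))
    obtain ⟨alg, ρ, ξ, hρ, hξ⟩ := H24Hilb.exists_isUniversal_stalk x H Z hH i.ker y hy
    have hsm : ArtFun.IsSmoothFunctor (ArtFun.localHilb _ x i.ker) := fun B A p hp =>
      H24Hilb.surjective_map_of_localLift' i p hp rfl
        (fun B A q hq I z => by
          haveI := hCM z
          obtain ⟨U, hzU, r, φ, hφ⟩ := H24Def.BurchSpread.exists_affine_isRes k _ Y x i z (hcodim z)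
          obtain ⟨f, hf⟩ := H24Hilb.localLift_of_isRes q hq.1 I U.2 φ hφ
          exact ⟨U.1, U.2, hzU, r + 1, f, hf⟩) (H10Coh.isFP_of_isCoh _ hcoh) h1
    exact H24Art.isRegularLocalRing_of_isSmoothFunctor ξ hρ hξ hsm

end Groth.Agent.S12281
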