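import Groth.Statements.S5178
import Groth.Agent.H13CI.Basic

set_option autoImplicit false
universe u
open CInt

namespace Groth.Agent.S5178

/-- Let A be a Noetherian local ring of dimension d, and let the completion of A be presented as B/I
with B a regular local ring of dimension e and I an ideal whose minimal number of generators is q,
so that e − q is the geometric depth of A (this number does not depend on the presentation). Then e
− q ≤ d, and equality holds if and only if A is a complete intersection, i.e. its completion is a
regular local ring modulo an ideal generated by a regular sequence. -/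
theorem result (A : Type u) [CommRing A] [IsLocalRing A] [IsNoetherianRing A] (B : Type u) [CommRing B] [IsRegularLocalRing B] (I : Ideal B) (hpres : Nonempty (AdicCompletion (IsLocalRing.maximalIdeal A) A ≃+* B ⧸ I)) (d e : ℕ) (hd : ringKrullDim A = (d : WithBot ℕ∞)) (he : ringKrullDim B = (e : WithBot ℕ∞)) : (e : ℤ) - (I.spanFinrank : ℤ) ≤ (d : ℤ) ∧ ((e : ℤ) - (I.spanFinrank : ℤ) = (d : ℤ) ↔ Pi1.IsCompleteIntersection A) := by
  haveI := Groth.Agent.H05EGA4.isNoetherianRing_adicCompletion A (IsLocalRing.maximalIdeal A)
  obtain ⟨e'⟩ := hpres
  let g : B →+* AdicCompletion (IsLocalRing.maximalIdeal A) A := e'.symm.toRingHom.comp (Ideal.Quotient.mk I)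
  have hg : Function.Surjective g := e'.symm.surjective.comp Ideal.Quotient.mk_surjective
  have hker : RingHom.ker g = I := by rw [RingHom.ker_comp_of_injective _ e'.symm.injective, Ideal.mk_ker]
  have hle := Groth.Agent.H13CI.dim_le_add g hg
  rw [hker, Groth.Agent.H05EGA4.ringKrullDim_adicCompletion, hd, he] at hle
  norm_cast at hle
  rw [Groth.Agent.H13CI.isCI_iff_of_completion g hg]
  unfold Groth.Agent.H9CI.IsCIKer
  rw [hker, Groth.Agent.H05EGA4.ringKrullDim_adicCompletion, hd, he,
    show ((d : WithBot ℕ∞) + (I.spanFinrank : WithBot ℕ∞) ≤ (e : WithBot ℕ∞)) ↔ d + I.spanFinrank ≤ e by norm_cast]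
  omega

end Groth.Agent.S5178
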