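import Groth.Statements.S12282
import Groth.Agent.H24Hilb.RegularObsTheory
import Groth.Agent.H24Art.Estimates
import Groth.Agent.H24Hilb.NormalClosed
import Groth.Agent.H24Hilb.Point
import Groth.Agent.H24Art.Prorep
import Groth.Agent.H10Coh.Proper2
import Groth.Agent.H10Coh.SheafHom.Adj
import Groth.Agent.H17.OmegaLocal
import Groth.Agent.H17.ConsModModels
import Groth.Agent.H05EGA4.Completion
import Groth.Agent.S5178

set_option autoImplicit false
set_option linter.style.haveILetI false
universe u
open CategoryTheory CategoryTheory.Limits AlgebraicGeometry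
open scoped TensorProduct
attribute [local instance] HasDerivedCategory.standard
open DefT

open Groth.Agent
namespace Groth.Agent.S12282

/-- Let k be an algebraically closed field, X = P^n_k, and (H, Z) a Hilbert scheme of X over k: H is a
locally Noetherian k-scheme and Z ⊆ X ×_k H a closed subscheme, proper and flat over H, such that
every closed subscheme of X ×_k T proper and flat over a locally Noetherian k-scheme T is the
pull-back of Z along a unique k-morphism T → H. Let Y ⊆ X be a closed subscheme, regarded as a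
k-scheme through X, with ideal sheaf I and normal sheaf N = Hom_{O_Y}(I/I², O_Y) (the sheaf Hom,
assumed to exist as the right adjoint of tensoring with I/I²), and let y ∈ H be the k-point
classifying Y (the pull-back of Z along Spec k → H is Y). If Y → X is a regular closed immersion (Y
is a local complete intersection in X), then the dimension of H at y is at least h^0(Y, N) − h^1(Y,
N), written dim_k H^0(Y, N) ≤ dim O_{H,y} + dim_k H^1(Y, N); and when equality holds, O_{H,y} is a
complete intersection ring (its completion is the quotient of a regular local ring modulo a regular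
sequence). -/
theorem result
    {k : Type u} [Field k] [IsAlgClosed k] (n : ℕ)
    (H : Over (Spec (CommRingCat.of k))) (Z : FGA.HilbSet (CohB1.ProjSpaceOver.toBase n (Spec (CommRingCat.of k))) H) (hH : FGA.HilbRepresentedBy (CohB1.ProjSpaceOver.toBase n (Spec (CommRingCat.of k))) H Z)
    (Y : Scheme.{u}) [Y.Over (Spec (CommRingCat.of k))] (i : Y ⟶ CohB1.ProjSpaceOver n (Spec (CommRingCat.of k))) [IsClosedImmersion i]
    (hi : i ≫ CohB1.ProjSpaceOver.toBase n (Spec (CommRingCat.of k)) = Y ↘ Spec (CommRingCat.of k))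
    (hreg : Mor2.IsRegularClosedImmersion i)
    [DCoh.HasSheafHom (Omega.conormal i)]
    (y : Over.mk (𝟙 (Spec (CommRingCat.of k))) ⟶ H)
    (hy : FGA.hilbPull (CohB1.ProjSpaceOver.toBase n (Spec (CommRingCat.of k))) y Z.1 = i.ker.comap (pullback.fst (CohB1.ProjSpaceOver.toBase n (Spec (CommRingCat.of k))) (Over.mk (𝟙 (Spec (CommRingCat.of k)))).hom)) :
    (Module.finrank k (Coh.HH Y ((DCoh.sheafHom (Omega.conormal i)).obj (Coh.structureModule Y)) 0) : WithBot ℕ∞) ≤
        ringKrullDim (H.left.presheaf.stalk (y.left.base (IsLocalRing.closedPoint k))) + (Module.finrank k (Coh.HH Y ((DCoh.sheafHom (Omega.conormal i)).obj (Coh.structureModule Y)) 1) : WithBot ℕ∞) ∧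
      (ringKrullDim (H.left.presheaf.stalk (y.left.base (IsLocalRing.closedPoint k))) + (Module.finrank k (Coh.HH Y ((DCoh.sheafHom (Omega.conormal i)).obj (Coh.structureModule Y)) 1) : WithBot ℕ∞) =
          (Module.finrank k (Coh.HH Y ((DCoh.sheafHom (Omega.conormal i)).obj (Coh.structureModule Y)) 0) : WithBot ℕ∞) →
        Pi1.IsCompleteIntersection (H.left.presheaf.stalk (y.left.base (IsLocalRing.closedPoint k)))) := by
  haveI : IsLocallyNoetherian H.left := hH.1
  let x := CohB1.ProjSpaceOver.toBase n (Spec (CommRingCat.of k))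
  letI : (CohB1.ProjSpaceOver n (Spec (CommRingCat.of k))).Over (Spec (CommRingCat.of k)) := ⟨x⟩
  haveI : IsProper x := inferInstanceAs (IsProper (CohB1.ProjSpaceOver.toBase n (Spec (CommRingCat.of k))))
  haveI : IsProper (Y ↘ Spec (CommRingCat.of k)) := by
    rw [← hi]; infer_instance
  haveI : IsLocallyNoetherian (CohB1.ProjSpaceOver n (Spec (CommRingCat.of k))) :=
    LocallyOfFiniteType.isLocallyNoetherian x
  haveI : IsLocallyNoetherian Y := LocallyOfFiniteType.isLocallyNoetherian (i ≫ x)
  haveI : Mono (ClSub.idealModι i.ker) := by unfold ClSub.idealModι; exact equalizer.ι_mono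
  have hcoh : Coh.IsCoh (Omega.conormal i) :=
    H17.ConsProp.isCoh_pullback _ (H10Coh.isCoh_of_mono (ClSub.idealModι _)
      (H17.OmegaLocal.isQuasicoherent_idealMod _) (H10Coh.isCoh_structureModule' _))
  have hN : Coh.IsCoh ((DCoh.sheafHom (Omega.conormal i)).obj (Coh.structureModule Y)) :=
    H10Coh.isCoh_of_iso (H10Coh.SheafHom.homShIso _ _).symm
      (H29Ref.isCoh_homSh _ _ hcoh (H10Coh.isCoh_structureModule' _))
  haveI := H10Coh.finite_HH_proper k Y _ hN 1
  have h0 : ArtFun.H0 (ArtFun.localHilb _ x i.ker) := H24Hilb.h0_localHilb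
  obtain ⟨T⟩ := H24Art.nonempty_tangentStr h0 H24Hilb.heps_localHilb
  letI : ArtFun.TangentStr (ArtFun.localHilb (CohB1.ProjSpaceOver n (Spec (CommRingCat.of k)))
    ((CohB1.ProjSpaceOver n (Spec (CommRingCat.of k))) ↘ Spec (CommRingCat.of k)) i.ker) := T
  obtain ⟨e⟩ := H24Hilb.nonempty_tangent_linearEquiv_closed (k := k) i hi
  obtain ⟨alg, ρ, ξ, hρ, hξ⟩ := H24Hilb.exists_isUniversal_stalk x H Z hH i.ker y hy
  obtain ⟨R, ⟨eC⟩⟩ := H24Art.exists_proRep_completion ξ hρ hξ
  obtain ⟨T'⟩ := H24Hilb.hasObsTheory_of_regular (k := k) i hreg hi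
  obtain ⟨T''⟩ := H24Art.nonempty_obsTheory_hR R T'
  obtain ⟨d, π, hπ, hker⟩ := H24Obs.exists_presentation R.ring
  haveI := H02CA.PS.isRegularLocalRing_fin (k := k) d
  have hsf := H24Obs.spanFinrank_le_of_obsTheory_fun R.ring.res π hπ hker _ T''
  obtain ⟨-, h2, -, -⟩ := H24Obs.estimates (π : MvPowerSeries (Fin d) k →+* R.ring.carrier) hπ hker _ hsf
  have he' : Module.finrank k (ArtFun.TangentSpace (ArtFun.localHilb _ x i.ker)) =
      Module.finrank k (Coh.HH Y ((DCoh.sheafHom (Omega.conormal i)).obj (Coh.structureModule Y)) 0) :=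
    LinearEquiv.finrank_eq e
  rw [H24Art.finrank_cotangent_proRep R, he',
    ← ringKrullDim_eq_of_ringEquiv eC, H05EGA4.ringKrullDim_adicCompletion] at h2
  refine ⟨h2, fun heq => ?_⟩
  obtain ⟨dP, hdP⟩ : ∃ dP : ℕ, ringKrullDim (H.left.presheaf.stalk (y.left.base (IsLocalRing.closedPoint k))) = (dP : WithBot ℕ∞) := by
    revert heq
    generalize ringKrullDim (H.left.presheaf.stalk (y.left.base (IsLocalRing.closedPoint k))) = D
    intro heq
    induction D using WithBot.recBotCoe with
    | bot => simp at heq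
    | coe D =>
      induction D using ENat.recTopCoe with
      | top =>
        norm_cast at heq
      | coe D => exact ⟨D, rfl⟩
  have hemb : ringKrullDim (MvPowerSeries (Fin d) k) = ((Module.finrank k (Coh.HH Y
      ((DCoh.sheafHom (Omega.conormal i)).obj (Coh.structureModule Y)) 0) : ℕ) : WithBot ℕ∞) := by
    rw [← IsRegularLocalRing.spanFinrank_maximalIdeal,
      ← H24Obs.spanFinrank_maximalIdeal_eq (π : MvPowerSeries (Fin d) k →+* R.ring.carrier) hπ hker,
      IsLocalRing.spanFinrank_maximalIdeal_eq_finrank_cotangentSpace, H24Art.finrank_cotangent_proRep R, he']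
  have hS := S5178.result (H.left.presheaf.stalk (y.left.base (IsLocalRing.closedPoint k))) (MvPowerSeries (Fin d) k) (RingHom.ker π)
    ⟨eC.trans (RingHom.quotientKerEquivOfSurjective (f := (π : MvPowerSeries (Fin d) k →+* R.ring.carrier)) hπ).symm⟩
    dP _ hdP hemb
  rw [hdP] at heq
  norm_cast at heq
  refine hS.2.1 ?_
  have := hS.1
  omega

end Groth.Agent.S12282
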