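import Groth.Statements.S12283
import Groth.Agent.H24Cot.Compare

set_option autoImplicit false
universe u w m
open scoped TensorProduct
open DefT

namespace Groth.Agent.S12283

/-- Let A → B be a ring homomorphism, M a B-module, and P, P' two presentations of B over A (a
polynomial ring over A mapping onto B together with generators of the kernel, indexing a free module
F → I). Then for i = 0, 1, 2 the modules T^i(B/A, M) computed from the cotangent complex L₂ → L₁ →
L₀ of P and from that of P' are isomorphic B-modules. (Existence of B-linear isomorphisms only; the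
published lemmas compare first two choices of F over one polynomial ring and then two polynomial
rings.) -/
theorem result
    (A B : Type u) [CommRing A] [CommRing B] [Algebra A B] (ι σ ι' σ' : Type w)
    (P : Algebra.Presentation A B ι σ) (P' : Algebra.Presentation A B ι' σ')
    (M : Type m) [AddCommGroup M] [Module B M] :
    Nonempty (CotT.T0 P M ≃ₗ[B] CotT.T0 P' M) ∧ Nonempty (CotT.T1 P M ≃ₗ[B] CotT.T1 P' M) ∧
      Nonempty (CotT.T2 P M ≃ₗ[B] CotT.T2 P' M) := by
  exact ⟨⟨Groth.Agent.H24Cot.T0equiv (M := M) P' P⟩, ⟨Groth.Agent.H24Cot.T1equiv (M := M) P' P⟩,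
    ⟨Groth.Agent.H24Cot.T2equiv (M := M) P' P⟩⟩

end Groth.Agent.S12283
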