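import Groth.Statements.S12284
import Groth.Agent.H24Cot.LongExact

set_option autoImplicit false
universe u w m
open scoped TensorProduct
open DefT

namespace Groth.Agent.S12284

/-- Let A → B be a ring homomorphism, P a presentation of B over A with cotangent complex L₂ → L₁ → L₀,
and 0 → M' → M → M'' → 0 a short exact sequence of B-modules (f : M' → M injective, g : M → M''
surjective, image of f = kernel of g). Write T^i(N) for the i-th cohomology of Hom_B(L•, N) and
T^i(f), T^i(g) for the maps induced by composition. Then T^0(f) is injective, the sequences T^i(M')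
→ T^i(M) → T^i(M'') are exact for i = 0, 1, 2, and there are B-linear connecting maps δ₀ : T^0(M'')
→ T^1(M') and δ₁ : T^1(M'') → T^2(M') such that the nine-term sequence 0 → T^0(M') → T^0(M) →
T^0(M'') → T^1(M') → T^1(M) → T^1(M'') → T^2(M') → T^2(M) → T^2(M'') is exact. (The connecting maps
are asserted to exist with this exactness; the text does not single them out otherwise.) -/
theorem result
    (A B : Type u) [CommRing A] [CommRing B] [Algebra A B] (ι σ : Type w)
    (P : Algebra.Presentation A B ι σ)
    (M' M M'' : Type m) [AddCommGroup M'] [Module B M'] [AddCommGroup M] [Module B M] [AddCommGroup M''] [Module B M'']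
    (f : M' →ₗ[B] M) (g : M →ₗ[B] M'') (hf : Function.Injective f) (hg : Function.Surjective g)
    (hfg : Function.Exact f g) :
    Function.Injective (CotT.T0map P f) ∧ Function.Exact (CotT.T0map P f) (CotT.T0map P g) ∧
      Function.Exact (CotT.T1map P f) (CotT.T1map P g) ∧ Function.Exact (CotT.T2map P f) (CotT.T2map P g) ∧
      ∃ (δ₀ : CotT.T0 P M'' →ₗ[B] CotT.T1 P M') (δ₁ : CotT.T1 P M'' →ₗ[B] CotT.T2 P M'),
        Function.Exact (CotT.T0map P g) δ₀ ∧ Function.Exact δ₀ (CotT.T1map P f) ∧
        Function.Exact (CotT.T1map P g) δ₁ ∧ Function.Exact δ₁ (CotT.T2map P f) := by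
  exact ⟨Groth.Agent.H24Cot.T0map_injective P hf, Groth.Agent.H24Cot.T0map_exact P hf hfg,
    Groth.Agent.H24Cot.T1map_exact P hf hg hfg, Groth.Agent.H24Cot.T2map_exact P hf hg hfg,
    (Groth.Agent.H24Cot.exists_delta0 P hf hg hfg).choose, (Groth.Agent.H24Cot.exists_delta1 P hf hg hfg).choose,
    (Groth.Agent.H24Cot.exists_delta0 P hf hg hfg).choose_spec.1, (Groth.Agent.H24Cot.exists_delta0 P hf hg hfg).choose_spec.2,
    (Groth.Agent.H24Cot.exists_delta1 P hf hg hfg).choose_spec.1, (Groth.Agent.H24Cot.exists_delta1 P hf hg hfg).choose_spec.2⟩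

end Groth.Agent.S12284
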