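import Groth.Statements.S12291
import Groth.Agent.H24Cot.Minimal
import Groth.Agent.H4Depth.Regular

set_option autoImplicit false
set_option linter.style.haveILetI false
universe u w m
open scoped TensorProduct
open DefT

namespace Groth.Agent.S12291

/-- Let k be an algebraically closed field and A a regular local k-algebra with residue field k such
that T^1(A/k, N) = 0 and T^2(A/k, N) = 0 for all A-modules N; let I be a proper ideal of A and B =
A/I. Then B is cut out of A as a local complete intersection — meaning I is generated by some list
of r elements with r + dim B = dim A, i.e. by dim A − dim B elements — exactly when T^2(B/k, M)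
vanishes for each B-module M. The T^i are computed from the choice-free presentations. (The
published statement assumes only that A is a regular local k-algebra with residue field k; its proof
uses the vanishing of T^1(A/k, −) and T^2(A/k, −), which holds when A is essentially of finite type
over k and which this row carries as a hypothesis.) -/
theorem result
    (k A : Type u) [Field k] [IsAlgClosed k] [CommRing A] [IsRegularLocalRing A] [Algebra k A]
    (hres : Function.Surjective (algebraMap k (IsLocalRing.ResidueField A)))
    (hT : ∀ (N : Type u) [AddCommGroup N] [Module A N],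
      Subsingleton (CotT.T1 (CotT.canon k A) N) ∧ Subsingleton (CotT.T2 (CotT.canon k A) N))
    (I : Ideal A) (hI : I ≠ ⊤) :
    (∃ rs : List A, Ideal.ofList rs = I ∧ (rs.length : WithBot ℕ∞) + ringKrullDim (A ⧸ I) = ringKrullDim A) ↔
      ∀ (M : Type u) [AddCommGroup M] [Module (A ⧸ I) M], Subsingleton (CotT.T2 (CotT.canon k (A ⧸ I)) M) := by
  haveI := Ideal.Quotient.nontrivial_iff.mpr hI
  have hsurj : Function.Surjective (algebraMap A (A ⧸ I)) := Ideal.Quotient.mk_surjective
  have hker : RingHom.ker (algebraMap A (A ⧸ I)) = I := Ideal.mk_ker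
  constructor
  · rintro ⟨rs, hrs, hdim⟩ M _ _
    subst hrs
    have hmem : ∀ r ∈ rs, r ∈ IsLocalRing.maximalIdeal A := fun r hr =>
      IsLocalRing.le_maximalIdeal hI (Ideal.subset_span hr)
    have hwreg : RingTheory.Sequence.IsWeaklyRegular A rs := by
      refine Groth.Agent.H8Props.MiracleFlat.isWeaklyRegular_of_supportDim rs A hmem
        (Groth.Agent.H4Depth.isCohenMacaulayLocalRing_of_regular A).supportDim_eq_depth ?_
      rw [Module.supportDim_eq_of_equiv (Submodule.quotEquivOfEq _ (Ideal.ofList rs)
          (by rw [smul_eq_mul, Ideal.mul_top])), Module.supportDim_quotient_eq_ringKrullDim,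
        Module.supportDim_self_eq_ringKrullDim, ← hdim, add_comm]
    have hreg : RingTheory.Sequence.IsRegular A rs :=
      (IsLocalRing.isRegular_iff_isWeaklyRegular_of_subset_maximalIdeal hmem).mpr hwreg
    exact Groth.Agent.H24Cot.subsingleton_T2_trans k A (A ⧸ Ideal.ofList rs) M
      (Groth.Agent.S12288.result A (A ⧸ Ideal.ofList rs) hsurj rs hreg hker M) fun N _ _ => (hT N).2
  · intro h
    have hT2 : ∀ (M : Type u) [AddCommGroup M] [Module (A ⧸ I) M],
        Subsingleton (CotT.T2 (CotT.canon A (A ⧸ I)) M) := fun M _ _ => by
      letI : Module A M := Module.compHom M (algebraMap A (A ⧸ I))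
      haveI : IsScalarTower A (A ⧸ I) M := IsScalarTower.of_compHom A (A ⧸ I) M
      obtain ⟨-, -, -, -, -, δ₁, -, -, -, hex⟩ := Groth.Agent.S12285.result k A (A ⧸ I) M
      haveI := (hT M).1
      haveI := h M
      refine subsingleton_of_forall_eq 0 fun x => ?_
      obtain ⟨y, rfl⟩ := (hex x).mp (Subsingleton.elim _ _)
      rw [Subsingleton.elim y 0, map_zero]
    obtain ⟨rs, hreg, hrs⟩ := Groth.Agent.H24Cot.exists_regular_of_T2_eq_zero I hI hT2
    refine ⟨rs, hrs, ?_⟩
    have hdim := ringKrullDim_add_length_eq_ringKrullDim_of_isRegular rs hreg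
    rw [hrs] at hdim
    rw [add_comm]
    exact hdim

end Groth.Agent.S12291
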