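import Groth.Statements.S12294
import Groth.Agent.H24Def.AffineExtScheme

set_option autoImplicit false
set_option linter.style.haveILetI false
universe u
open CategoryTheory CategoryTheory.Limits AlgebraicGeometry
open scoped TensorProduct
open DefT
open Groth.Agent

namespace Groth.Agent.S12294

/-- Let k be a field, B₀ a finitely generated k-algebra and X₀ = Spec B₀; let C' → C be a surjection of
local Artinian k-algebras with residue field k whose kernel J is annihilated by the maximal ideal of
C', and X a deformation of X₀ over C (a scheme flat over Spec C with a morphism from X₀ identifying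
X₀ with the closed fibre; here X = Spec B for a deformation B of B₀ over C). By an extension of X
over C' we mean a deformation X' of X₀ over C' equipped with an isomorphism of deformations from the
base change of X' to C onto X; two extensions are equivalent when an isomorphism of deformations X'
≅ X'' over C' has base change carrying the first identification to the second. If at least one
extension exists, then the set of equivalence classes of extensions is in bijection with T^1(B₀/k,
B₀ ⊗_k J), computed from the choice-free presentation of B₀ over k. (The published statement says
this set is a torsor under T^1(B₀/k, B₀ ⊗ J) for any k-algebra B₀; this row takes B₀ finitely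
generated, as in the printed argument, and asserts only the existence of a bijection.) -/
theorem result
    (k : Type u) [Field k] (B₀ : Type u) [CommRing B₀] [Algebra k B₀] [Algebra.FiniteType k B₀]
    {C' C : ArtFun.Art k k} (p : C' ⟶ C) (hp : ArtFun.Art.IsSemismallExt p)
    (𝒳 : ArtFun.DefSch (Spec (CommRingCat.of B₀)) (Spec.map (CommRingCat.ofHom (algebraMap k B₀))) C)
    (hne : ∃ 𝒳' : ArtFun.DefSch (Spec (CommRingCat.of B₀)) (Spec.map (CommRingCat.ofHom (algebraMap k B₀))) C', Nonempty ((𝒳'.baseChange p).Iso 𝒳)) :
    Nonempty (Quot (fun a b : (Σ 𝒳' : ArtFun.DefSch (Spec (CommRingCat.of B₀)) (Spec.map (CommRingCat.ofHom (algebraMap k B₀))) C', (𝒳'.baseChange p).Iso 𝒳) =>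
        ∃ ψ : a.1.Iso b.1, ((ψ.baseChange p).trans b.2).iso = a.2.iso) ≃
      CotT.T1 (CotT.canon k B₀) (B₀ ⊗[k] ↥(RingHom.ker p.toAlgHom))) := by
  exact H24Def.AffExt.nonempty_extensions_equiv hp 𝒳 hne

end Groth.Agent.S12294
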