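import Groth.Statements.S12295
import Groth.Agent.H24Cot.BaseRing

set_option autoImplicit false
universe u w m
open scoped TensorProduct
open DefT

namespace Groth.Agent.S12295

/-- Let k be a commutative ring, B a k-algebra and P a presentation of B over k with polynomial ring R =
k[x_i] (any set of variables), so that B = R/I; let P' be a presentation of B over R with no
polynomial variables (R itself mapping onto B, with chosen generators of I), and M a B-module. Then
T^2(B/R, M), computed from P', and T^2(B/k, M), computed from P, are isomorphic B-modules.
(Existence of a B-linear isomorphism only; the published statement has finitely many variables over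
a field and notes that any base ring works.) -/
theorem result
    (k B : Type u) [CommRing k] [CommRing B] [Algebra k B] (ι σ ι' σ' : Type w)
    (P : Algebra.Presentation k B ι σ) [IsEmpty ι']
    (P' : Algebra.Presentation P.toExtension.Ring B ι' σ')
    (M : Type m) [AddCommGroup M] [Module B M] :
    Nonempty (CotT.T2 P' M ≃ₗ[B] CotT.T2 P M) := by
  let R := P.toExtension.Ring
  let φ : MvPolynomial ι' R ≃ₐ[R] R := MvPolynomial.isEmptyAlgEquiv R ι'
  have hφ : ∀ x, MvPolynomial.aeval (R := R) P'.val x = algebraMap R B (φ x) := by
    intro x
    obtain ⟨a, rfl⟩ := MvPolynomial.C_surjective ι' x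
    rw [MvPolynomial.aeval_C, show φ (MvPolynomial.C a) = a from φ.commutes a]
  have hspan : Ideal.span (Set.range fun s => (MvPolynomial.C (CotT.rel P s) : P'.toGenerators.Ring)) =
      P'.toGenerators.ker := by
    rw [Algebra.Generators.ker_eq_ker_aeval_val]
    have h1 : Ideal.span (Set.range fun s => (MvPolynomial.C (CotT.rel P s) : MvPolynomial ι' R)) =
        (RingHom.ker (algebraMap R B)).map (MvPolynomial.C : R →+* MvPolynomial ι' R) := by
      rw [show RingHom.ker (algebraMap R B) = Ideal.span (Set.range (CotT.rel P)) from
        P.span_range_relation_eq_ker.symm, Ideal.map_span, ← Set.range_comp]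
      rfl
    refine h1.trans (le_antisymm ?_ fun x hx => ?_)
    · rw [Ideal.map_le_iff_le_comap]
      intro a ha
      simpa using ha
    · obtain ⟨a, rfl⟩ := MvPolynomial.C_surjective ι' x
      exact Ideal.mem_map_of_mem _ (by simpa using hx)
  let P'' : Algebra.Presentation R B ι' σ :=
    { toGenerators := P'.toGenerators
      relation := fun s => MvPolynomial.C (CotT.rel P s)
      span_range_relation_eq_ker := hspan }
  let g : Algebra.Generators.Hom P.toGenerators P''.toGenerators :=
    ⟨fun i => MvPolynomial.C (Groth.Agent.H24Cot.Xv P i), fun i => by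
      refine (MvPolynomial.aeval_C _ _).trans ?_
      exact ((CotT.algebraMap_toExtension P _).trans (MvPolynomial.aeval_X _ i)).trans rfl⟩
  have hτ : g.toExtensionHom.toRingHom = (MvPolynomial.C : R →+* MvPolynomial ι' R) := by
    refine Groth.Agent.H24Cot.ring_hom_ext (fun a => ?_) fun i => ?_
    · exact g.toExtensionHom.toRingHom_algebraMap a
    · exact MvPolynomial.aeval_X g.val i
  let h : CotT.PresHom P P'' :=
    { hom := g
      relVal := fun s => Finsupp.single s 1
      jmap_relVal := fun s => by
        rw [CotT.jmap_single, one_mul, hτ]
        rfl }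
  have hbij : Function.Bijective h.ringHom := by
    change Function.Bijective g.toExtensionHom.toRingHom
    rw [hτ]
    exact ⟨MvPolynomial.C_injective ι' R, MvPolynomial.C_surjective ι'⟩
  exact ⟨(Groth.Agent.H24Cot.T2equiv (M := M) P'' P').trans
    (LinearEquiv.ofBijective (h.T2pull M) (Groth.Agent.H24Cot.T2pull_bijective_of_ringHom h hbij (fun _ => rfl) M))⟩

end Groth.Agent.S12295
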