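import Groth.Statements.S12296
import Groth.Agent.H24Hilb.RegularH1

set_option autoImplicit false
universe u
open CategoryTheory CategoryTheory.Limits AlgebraicGeometry
open scoped TensorProduct
attribute [local instance] HasDerivedCategory.standard
open DefT

namespace Groth.Agent.S12296

/-- Let k be an algebraically closed field, X₀ a k-scheme of finite type and Y₀ ⊆ X₀ the closed
subscheme cut out by a quasi-coherent ideal sheaf I, such that Y₀ → X₀ is a regular closed immersion
(I is locally generated by a regular sequence: Y₀ is a local complete intersection in X₀) and the
local rings of X₀ at the points of Y₀ are Cohen–Macaulay; let N₀ = Hom_{O_{Y₀}}(I/I², O_{Y₀}) be the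
normal sheaf (the sheaf Hom, assumed to exist as the right adjoint of tensoring with I/I²), and
suppose H^1(Y₀, N₀) = 0. Then for every surjection C' → C of local Artinian k-algebras with residue
field k whose kernel is killed by multiplication by the maximal ideal of C', every closed subscheme
of X₀ ×_k Spec C that is flat over Spec C and pulls back to Y₀ on the closed fibre is the pull-back
of a closed subscheme of X₀ ×_k Spec C' flat over Spec C': the local Hilbert functor of Y₀ in X₀ is
surjective along C' → C. (The published statements give local existence of extensions for complete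
intersections in a Cohen–Macaulay local ring and then an obstruction in H^1(Y₀, N₀ ⊗ J) for an
arbitrary deformation of the ambient scheme over local Artin rings; this row states the consequence
when that group vanishes, inside the trivial ambient deformation over local Artinian k-algebras.) -/
theorem result
    {k : Type u} [Field k] [IsAlgClosed k] (X₀ : Scheme.{u}) [X₀.Over (Spec (CommRingCat.of k))]
    [LocallyOfFiniteType (X₀ ↘ Spec (CommRingCat.of k))] [QuasiCompact (X₀ ↘ Spec (CommRingCat.of k))]
    (I₀ : X₀.IdealSheafData) (hreg : Mor2.IsRegularClosedImmersion I₀.subschemeι)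
    (hCM : ∀ y : I₀.subscheme, LocCoh.IsCohenMacaulayLocalRing (X₀.presheaf.stalk (I₀.subschemeι.base y)))
    [DCoh.HasSheafHom (Omega.conormal I₀.subschemeι)]
    (h1 : Subsingleton (Coh.HH I₀.subscheme ((DCoh.sheafHom (Omega.conormal I₀.subschemeι)).obj
      (Coh.structureModule I₀.subscheme)) 1))
    {C' C : ArtFun.Art k k} (p : C' ⟶ C) (hp : ArtFun.Art.IsSemismallExt p) :
    Function.Surjective ((ArtFun.localHilb X₀ (X₀ ↘ Spec (CommRingCat.of k)) I₀).map p) := by
  exact Groth.Agent.H24Hilb.surjective_map_of_HH_one p hp.1 hreg h1

end Groth.Agent.S12296
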