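import Groth.Statements.S12297
import Groth.Agent.H24Cot.Loc

set_option autoImplicit false
set_option linter.style.haveILetI false
universe u w m
open scoped TensorProduct
open DefT

namespace Groth.Agent.S12297

/-- Let k be an algebraically closed field, B a finitely generated k-algebra, m a maximal ideal of B and
B_m the localization, a local k-algebra with residue field k. Then B_m is a regular local ring if
and only if T^1(B_m/k, M) = 0 for all B_m-modules M, and in that case T^2(B_m/k, M) = 0 for all M as
well; the T^i are computed from the choice-free presentation of B_m over k. (The published statement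
is for a local k-algebra with residue field k, k algebraically closed, proved by localization from
the finitely generated case; this row states it for the localizations of finitely generated
k-algebras at maximal ideals, the case that proof covers.) -/
theorem result
    (k B : Type u) [Field k] [IsAlgClosed k] [CommRing B] [Algebra k B] [Algebra.FiniteType k B]
    (m : Ideal B) [m.IsMaximal] :
    (IsRegularLocalRing (Localization.AtPrime m) ↔
      ∀ (M : Type u) [AddCommGroup M] [Module (Localization.AtPrime m) M],
        Subsingleton (CotT.T1 (CotT.canon k (Localization.AtPrime m)) M)) ∧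
    (IsRegularLocalRing (Localization.AtPrime m) →
      ∀ (M : Type u) [AddCommGroup M] [Module (Localization.AtPrime m) M],
        Subsingleton (CotT.T2 (CotT.canon k (Localization.AtPrime m)) M)) := by
  haveI : Algebra.FinitePresentation k B := Algebra.FinitePresentation.of_finiteType.mp inferInstance
  haveI := Groth.Agent.H24Cot.isGeometricallyReduced_of_isAlgClosed k m.ResidueField
  have hiff : Algebra.FormallySmooth k (Localization.AtPrime m) ↔ IsRegularLocalRing (Localization.AtPrime m) :=
    Groth.Agent.S9442.result k B m
  refine ⟨hiff.symm.trans Groth.Agent.H24Cot.formallySmooth_iff_subsingleton_T1, fun h M _ _ => ?_⟩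
  obtain ⟨n, π, hπ⟩ := Algebra.FiniteType.iff_quotient_mvPolynomial''.mp ‹Algebra.FiniteType k B›
  let ψ : MvPolynomial (ULift.{u} (Fin n)) k →ₐ[k] B := π.comp (MvPolynomial.renameEquiv k Equiv.ulift).toAlgHom
  have hψ : Function.Surjective ψ := hπ.comp (AlgEquiv.surjective _)
  let φ : MvPolynomial (ULift.{u} (Fin n)) k →+* B := ψ.toRingHom
  let R := Localization.AtPrime (m.comap φ)
  letI : Algebra R (Localization.AtPrime m) := (Localization.localRingHom (m.comap φ) m φ rfl).toAlgebra
  haveI : IsScalarTower k R (Localization.AtPrime m) := .of_algebraMap_eq fun r => by
    rw [RingHom.algebraMap_toAlgebra, IsScalarTower.algebraMap_apply k (MvPolynomial (ULift.{u} (Fin n)) k) R,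
      Localization.localRingHom_to_map, IsScalarTower.algebraMap_apply k B (Localization.AtPrime m)]
    exact congrArg _ (ψ.commutes r).symm
  haveI : IsRegularLocalRing R := IsRegularRing.isRegularLocalRing_localization (m.comap φ)
  have hs : Function.Surjective (algebraMap R (Localization.AtPrime m)) :=
    Groth.Agent.H24Cot.localRingHom_surjective φ hψ m
  obtain ⟨c, g, hg, hspan⟩ := Groth.Agent.H24Cot.exists_regular_generators _ hs
  exact Groth.Agent.H24Cot.subsingleton_T2_trans k R (Localization.AtPrime m) M
    (Groth.Agent.S12288.result R (Localization.AtPrime m) hs (List.ofFn g) hg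
      (by rw [H13CInt.ofList_ofFn, hspan]) M)
    fun N _ _ => Groth.Agent.H24Cot.subsingleton_T2_localization_mvPolynomial k (ULift.{u} (Fin n)) R
      (m.comap φ).primeCompl N

end Groth.Agent.S12297
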