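import Groth.Statements.S12299
import Groth.Agent.H24Art.Formal

set_option autoImplicit false
universe u v
open CategoryTheory
open ArtFun

namespace Groth.Agent.S12299

/-- Let k be an algebraically closed field, F a set-valued functor on local Artinian k-algebras with
residue field k, and (R, ξ) a miniversal family for F, with R a complete local Noetherian k-algebra
with residue field k: the morphism h_R → F has the lifting property along surjections and is
bijective on the dual numbers. Let S be a complete local Noetherian k-algebra with residue field k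
and g₁, g₂ : R → S two k-algebra maps compatible with the augmentations along which ξ induces the
same formal family over S (the same compatible sequence in the F(S/m^(n+1))). Then g₁ and g₂ induce
the same map R → S/m_S², so the map R/m_R² → S/m_S² attached to a formal family over S is well
defined. (Coefficient rings are taken Noetherian here.) -/
theorem result
    {k : Type u} [Field k] [IsAlgClosed k] {F : ArtFun.Art k k ⥤ Type v}
    (R : ArtFun.CRing k k) (ξ : ArtFun.Family R.carrier R.res F) (hξ : ArtFun.IsMiniversal ξ)
    (S : ArtFun.CRing k k) (g₁ g₂ : R.carrier →ₐ[k] S.carrier)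
    (hg₁ : S.res.comp g₁ = R.res) (hg₂ : S.res.comp g₂ = R.res)
    (h : (ξ.along g₁ hg₁).toFormalElt = (ξ.along g₂ hg₂).toFormalElt) :
    (S.truncHom 1).1.comp g₁ = (S.truncHom 1).1.comp g₂ := by
  have e := congrArg (fun u : ArtFun.FormalElt F S => u.elt 1) h
  refine AlgHom.ext fun r => sub_eq_zero.mp ?_
  have hsq : IsLocalRing.maximalIdeal (S.trunc 1) ^ 2 = ⊥ := by
    rw [eq_bot_iff]
    refine (Ideal.pow_right_mono (S.maximalIdeal_quot_le 1) 2).trans ?_
    rw [← Ideal.map_pow]
    exact (Ideal.map_quotient_self _).le
  let φ₁ : ArtFun.HomSet R.carrier R.res (S.trunc 1) := ⟨(S.truncHom 1).1.comp g₁, by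
    rw [← AlgHom.comp_assoc, (S.truncHom 1).2, hg₁]⟩
  let φ₂ : ArtFun.HomSet R.carrier R.res (S.trunc 1) := ⟨(S.truncHom 1).1.comp g₂, by
    rw [← AlgHom.comp_assoc, (S.truncHom 1).2, hg₂]⟩
  refine Groth.Agent.H24Art.eq_zero_of_forall_dual (S.trunc 1)
    ⟨Algebra.ofId k (S.trunc 1), AlgHom.ext fun c => (S.trunc 1).res.commutes c⟩ hsq _ fun g => ?_
  have hg : ArtFun.HomSet.map g φ₁ = ArtFun.HomSet.map g φ₂ := hξ.2.injective (by
    rw [ξ.natural, ξ.natural]; exact congrArg _ e)
  rw [map_sub, sub_eq_zero]
  exact congrArg (fun t => t.1 r) hg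

end Groth.Agent.S12299
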