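-- statement FlatMor.GrothFrozen.S1230 (Groth/Statements/S1230.lean; the theorem FlatMor.baseChange_injective_of_flat_covering_relAss);
import Groth.Statements.S1230
import Groth.Agent.H7Flat.WeakAssFlatAt
import Groth.Agent.H7Flat.UnivInjCover

set_option autoImplicit false
universe u
open FlatMor TensorProduct

namespace Groth.Agent.S1230

open TensorProduct in
/-- Ring form, X = Spec B, X' = Spec B' affine: let B be a finite type A-algebra, N a finite B-module
flat over A, and B' a flat B-algebra such that every prime q of B, over p in A, whose extension to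
the fibre ring over p is an associated prime of the fibre module of N is the contraction of a prime
of B'. Then the canonical map N → B' ⊗_B N is injective and remains injective after tensoring over A
with any A-algebra. -/
theorem result {A B B' : Type u} [CommRing A] [CommRing B] [CommRing B'] [Algebra A B] [Algebra B B'] [Algebra A B'] [IsScalarTower A B B']
    [Algebra.FiniteType A B] [Module.Flat B B']
    (N : Type u) [AddCommGroup N] [Module B N] [Module A N] [IsScalarTower A B N] [Module.Finite B N] [Module.Flat A N]
    (h : ∀ (p : Ideal A) (q : Ideal B) [p.IsPrime] [q.IsPrime] [q.LiesOver p],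
      FlatCA.fiberIdeal p q ∈ associatedPrimes (p.Fiber B) (FlatCA.fiberMod p B N) →
      ∃ q' : Ideal B', q'.IsPrime ∧ q'.comap (algebraMap B B') = q) :
    ∀ (A' : Type u) [CommRing A'] [Algebra A A'],
      Function.Injective (((TensorProduct.mk B B' N 1).restrictScalars A).baseChange A') := by
  intro A' _ _
  let X := N ⊗[A] A'
  let g : X →ₗ[B] B' ⊗[B] X := TensorProduct.mk B B' X 1
  have hflat : ∀ (q : Ideal B) [q.IsPrime], FlatCA.FlatAt A q N := fun q _ =>
    H06EGA11.flat_localizedModule _ fun J x hx => ⟨1, one_mem _, by
      rw [one_smul]
      exact (injective_iff_map_eq_zero _).mp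
        (Module.Flat.lTensor_preserves_injective_linearMap J.subtype J.injective_subtype) x hx⟩
  have hinj : Function.Injective g := by
    refine H7Flat.UnivInjCover.injective_of_cover (TensorProduct.isBaseChange B X B') fun q hq => ?_
    have : q.IsPrime := by obtain ⟨_, hm⟩ := hq; exact hm.1.1
    let p := q.comap (algebraMap A B)
    have : q.LiesOver p := ⟨rfl⟩
    exact h p q ((H7Flat.WeakAssFlatAt.mem_weakAss_tensor_iff N A' p q (hflat q)).mp hq).2
  let ν := (TensorProduct.mk B B' N 1).restrictScalars A
  let e : B' ⊗[B] X ≃ₗ[B] (B' ⊗[B] N) ⊗[A] A' :=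
    (AlgebraTensorModule.assoc A B B B' N A').symm
  have he : ∀ x : X, e (g x) = ν.rTensor A' x := fun x => by
    induction x using TensorProduct.induction_on with
    | zero => simp
    | tmul a b => rfl
    | add a b ha hb => rw [map_add, map_add, ha, hb, map_add]
  have hr : Function.Injective (ν.rTensor A') := fun x y hxy => hinj (e.injective (by rw [he, he, hxy]))
  exact (LinearMap.lTensor_inj_iff_rTensor_inj A' ν).mpr hr

end Groth.Agent.S1230
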