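import Groth.Statements.S12304
import Groth.Agent.H24Art.Completion

set_option autoImplicit false
set_option linter.style.haveILetI false
universe u
open CategoryTheory CategoryTheory.Limits AlgebraicGeometry
open ArtFun

open Groth.Agent
namespace Groth.Agent.S12304

/-- Let k be an algebraically closed field, M a locally Noetherian k-scheme and x₀ : Spec k → M a
k-rational point. For a local Artinian k-algebra A with residue field k consider the k-morphisms
Spec A → M whose restriction along the closed point Spec k → Spec A is x₀ (the local functor of M at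
x₀, a morphism A → B acting by composition with Spec B → Spec A). This functor is pro-representable:
there are a complete local Noetherian k-algebra R with residue field k and bijections, natural in A,
between the augmentation-compatible k-algebra maps R → A and these morphisms. (The published
statement is phrased for the fine moduli scheme M of a moduli problem, whose local functor at the
point of a given object is this one; M is taken locally Noetherian here so that the coefficient ring
is Noetherian.) -/
theorem result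
    {k : Type u} [Field k] [IsAlgClosed k] (M : Scheme.{u}) (m : M ⟶ Spec (CommRingCat.of k))
    [IsLocallyNoetherian M] (x₀ : Spec (CommRingCat.of k) ⟶ M) (hx₀ : x₀ ≫ m = 𝟙 _) :
    ∃ (R : ArtFun.CRing k k)
      (e : ∀ A : ArtFun.Art k k, ArtFun.HomSet R.carrier R.res A ≃
        {g : ArtFun.Art.spec A ⟶ M // g ≫ m = ArtFun.Art.specMap (ArtFun.Art.ofBase A) ∧ ArtFun.Art.specRes A ≫ g = x₀}),
      ∀ (A B : ArtFun.Art k k) (h : A ⟶ B) (φ : ArtFun.HomSet R.carrier R.res A),
        ((e B) (ArtFun.HomSet.map h φ)).1 = ArtFun.Art.specMap h ≫ ((e A) φ).1 := by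
  classical
  obtain ⟨_, ⟨U, hU, rfl⟩, hxU, -⟩ :=
    M.isBasis_affineOpens.exists_subset_of_mem_open (Set.mem_univ (x₀ (IsLocalRing.closedPoint k))) isOpen_univ
  haveI : IsNoetherianRing Γ(M, U) := IsLocallyNoetherian.component_noetherian ⟨U, hU⟩
  let j := hU.fromSpec
  letI alg : Algebra k Γ(M, U) := (Spec.preimage (j ≫ m)).hom.toAlgebra
  have hm : j ≫ m = Spec.map (CommRingCat.ofHom (algebraMap k Γ(M, U))) := (Spec.map_preimage _).symm
  have hx : Set.range x₀ ⊆ Set.range j := by
    rintro _ ⟨p, rfl⟩
    rw [IsAffineOpen.range_fromSpec, Subsingleton.elim p (IsLocalRing.closedPoint k)]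
    exact hxU
  let x' := IsOpenImmersion.lift j x₀ hx
  have hx' : x' ≫ j = x₀ := IsOpenImmersion.lift_fac _ _ _
  let ρ : Γ(M, U) →ₐ[k] k :=
    { toRingHom := (Spec.preimage x').hom
      commutes' := by
        intro c
        have h : CommRingCat.ofHom (algebraMap k Γ(M, U)) ≫ Spec.preimage x' = 𝟙 (CommRingCat.of k) := by
          apply Spec.map_injective
          rw [Spec.map_comp, Spec.map_preimage, ← hm, ← Category.assoc, hx', hx₀, Spec.map_id]
        exact congrArg (fun g => g.hom c) h }
  have hρ : Function.Surjective ρ := fun c => ⟨algebraMap k _ c, ρ.commutes c⟩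
  have hρx : Spec.map (CommRingCat.ofHom ρ.toRingHom) ≫ j = x₀ := by
    change Spec.map (Spec.preimage x') ≫ j = x₀
    rw [Spec.map_preimage, hx']
  obtain ⟨R, ι, hR⟩ := H24Art.exists_isCompl (ρ := ρ) hρ (IsNoetherian.noetherian _)
  let G : (A : ArtFun.Art k k) → Type u := fun A => {g : ArtFun.Art.spec A ⟶ M //
    g ≫ m = ArtFun.Art.specMap (ArtFun.Art.ofBase A) ∧ ArtFun.Art.specRes A ≫ g = x₀}
  have hbase : ∀ A : ArtFun.Art k k,
      ArtFun.Art.specMap (ArtFun.Art.ofBase A) = Spec.map (CommRingCat.ofHom (algebraMap k A)) := fun A => rfl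
  have hpt : ∀ (A : ArtFun.Art k k) (p : PrimeSpectrum A), ∃ q, ArtFun.Art.specRes A q = p := fun A p => by
    refine ⟨IsLocalRing.closedPoint k, ?_⟩
    haveI : Subsingleton (PrimeSpectrum A) := ⟨fun p q => PrimeSpectrum.ext ((IsLocalRing.eq_maximalIdeal (Ideal.IsPrime.isMaximal' p.isPrime)).trans (IsLocalRing.eq_maximalIdeal (Ideal.IsPrime.isMaximal' q.isPrime)).symm)⟩
    exact @Subsingleton.elim (PrimeSpectrum A) _ _ _
  have hfwd : ∀ (A : ArtFun.Art k k) (φ : ArtFun.HomSet Γ(M, U) ρ A),
      (Spec.map (CommRingCat.ofHom φ.1.toRingHom) ≫ j) ≫ m = ArtFun.Art.specMap (ArtFun.Art.ofBase A) ∧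
        ArtFun.Art.specRes A ≫ Spec.map (CommRingCat.ofHom φ.1.toRingHom) ≫ j = x₀ := by
    intro A φ
    constructor
    · rw [Category.assoc, hm, hbase, ← Spec.map_comp, ← CommRingCat.ofHom_comp]
      exact congrArg (fun g => Spec.map (CommRingCat.ofHom g)) φ.1.comp_algebraMap
    · rw [← Category.assoc, ← Spec.map_comp, ← CommRingCat.ofHom_comp]
      rw [show A.res.toRingHom.comp φ.1.toRingHom = ρ.toRingHom from congrArg AlgHom.toRingHom φ.2]
      exact hρx
  let F : (A : ArtFun.Art k k) → ArtFun.HomSet Γ(M, U) ρ A → G A := fun A φ =>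
    ⟨Spec.map (CommRingCat.ofHom φ.1.toRingHom) ≫ j, hfwd A φ⟩
  have hF : ∀ A, Function.Bijective (F A) := by
    intro A
    constructor
    · intro φ ψ h
      have h1 := (cancel_mono j).mp (congrArg Subtype.val h)
      exact Subtype.ext (AlgHom.ext fun c => congrArg (fun g => g.hom c) (Spec.map_injective h1))
    · rintro ⟨g, hg1, hg2⟩
      have hr : Set.range g ⊆ Set.range j := by
        rintro _ ⟨p, rfl⟩
        obtain ⟨q, rfl⟩ := hpt A p
        refine hx ⟨q, ?_⟩
        rw [← hg2]
        rfl
      let g' := IsOpenImmersion.lift j g hr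
      have hg' : g' ≫ j = g := IsOpenImmersion.lift_fac _ _ _
      have h1 : CommRingCat.ofHom (algebraMap k Γ(M, U)) ≫ Spec.preimage g' = CommRingCat.ofHom (algebraMap k A) := by
        apply Spec.map_injective
        rw [Spec.map_comp, Spec.map_preimage, ← hm, ← Category.assoc, hg', hg1, hbase]
      let φ : Γ(M, U) →ₐ[k] A :=
        { toRingHom := (Spec.preimage g').hom
          commutes' := fun c => congrArg (fun t => t.hom c) h1 }
      have h2 : Spec.preimage g' ≫ CommRingCat.ofHom A.res.toRingHom = CommRingCat.ofHom ρ.toRingHom := by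
        apply Spec.map_injective
        rw [Spec.map_comp, Spec.map_preimage, ← cancel_mono j, Category.assoc, hg', hρx]
        exact hg2
      refine ⟨⟨φ, AlgHom.ext fun c => congrArg (fun t => t.hom c) h2⟩, Subtype.ext ?_⟩
      change Spec.map (Spec.preimage g') ≫ j = g
      rw [Spec.map_preimage, hg']
  refine ⟨R, fun A => (Equiv.ofBijective _ (hR.bijective A)).trans (Equiv.ofBijective _ (hF A)), fun A B h φ => ?_⟩
  change Spec.map (CommRingCat.ofHom ((h.toAlgHom.comp φ.1).comp ι).toRingHom) ≫ j =
    ArtFun.Art.specMap h ≫ Spec.map (CommRingCat.ofHom (φ.1.comp ι).toRingHom) ≫ j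
  rw [← Category.assoc, ← Spec.map_comp, ← CommRingCat.ofHom_comp]
  rfl

end Groth.Agent.S12304
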