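import Groth.Statements.S12305
import Groth.Agent.H24Cot.UniformT1

set_option autoImplicit false
set_option linter.style.haveILetI false
universe u
open CotT

open Groth.Agent
namespace Groth.Agent.S12305

/-- Let k be an algebraically closed field, A a finitely generated k-algebra which is a domain, smooth
over k and of Krull dimension one (the coordinate ring of a nonsingular affine curve T), t ∈ A an
element generating a maximal ideal (a point 0 of T), and B a finitely generated flat A-algebra (an
affine flat family X = Spec B over T). Then the following are equivalent: (i) B is smooth over A at
every prime of B not containing t, that is, every fibre of X over a point of T other than 0 is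
smooth; (ii) there is an integer n₀ such that t^(n₀) annihilates the cotangent module T¹(B/A, M),
computed from the choice-free presentation of B over A, for every finitely generated B-module M. -/
theorem result
    {k : Type u} [Field k] [IsAlgClosed k] (A B : Type u) [CommRing A] [CommRing B] [IsDomain A]
    [Algebra k A] [Algebra.FiniteType k A] [Algebra.Smooth k A] (hdim : ringKrullDim A = 1)
    (t : A) (ht : (Ideal.span {t}).IsMaximal)
    [Algebra A B] [Algebra.FiniteType A B] [Module.Flat A B] :
    (∀ q : PrimeSpectrum B, algebraMap A B t ∉ q.asIdeal → q ∈ Algebra.smoothLocus A B) ↔
    ∃ n₀ : ℕ, ∀ (M : Type u) [AddCommGroup M] [Module B M] [Module.Finite B M],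
      ∀ x : CotT.T1 (CotT.canon A B) M, (algebraMap A B t) ^ n₀ • x = 0 := by
  haveI : IsNoetherianRing A := Algebra.FiniteType.isNoetherianRing k A
  haveI : IsNoetherianRing B := Algebra.FiniteType.isNoetherianRing A B
  haveI : Algebra.FinitePresentation A B := Algebra.FinitePresentation.of_finiteType.mp ‹_›
  exact H24Cot.UniformT1.uniform_iff (algebraMap A B t)

end Groth.Agent.S12305
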