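import Groth.Statements.S12306
import Groth.Agent.H24Cot.RigidFamily
import Mathlib.RingTheory.KrullDimension.Field

set_option autoImplicit false
set_option linter.style.haveILetI false
universe u
open CotT
open Groth.Agent

namespace Groth.Agent.S12306

/-- Let k be an algebraically closed field and B₀ a finitely generated k-algebra which is not smooth
over k and is rigid, in the sense that the cotangent module T¹(B₀/k, B₀) (from the choice-free
presentation) vanishes. Let A be a finitely generated k-algebra which is a domain, smooth over k of
Krull dimension one, t ∈ A an element generating a maximal ideal, and B a finitely generated flat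
A-algebra, a k-algebra compatibly with A, whose fibre B/tB is k-isomorphic to B₀. Then this family
does not smooth Spec B₀: there is a prime of B not containing t at which B is not smooth over A.
(The published statement asserts that a singular rigid scheme admits no smoothing by any flat
family; this row states it for flat families with affine total space over an affine nonsingular
curve whose point is cut out by one equation.) -/
theorem result
    {k : Type u} [Field k] [IsAlgClosed k] (B₀ : Type u) [CommRing B₀] [Algebra k B₀] [Algebra.FiniteType k B₀]
    (hsing : ¬ Algebra.Smooth k B₀) (hrigid : Subsingleton (CotT.T1 (CotT.canon k B₀) B₀))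
    (A B : Type u) [CommRing A] [CommRing B] [IsDomain A] [Algebra k A] [Algebra.FiniteType k A]
    [Algebra.Smooth k A] (hdim : ringKrullDim A = 1) (t : A) (ht : (Ideal.span {t}).IsMaximal)
    [Algebra A B] [Algebra.FiniteType A B] [Module.Flat A B] [Algebra k B] [IsScalarTower k A B]
    (e : (B ⧸ Ideal.span {algebraMap A B t}) ≃ₐ[k] B₀) :
    ∃ q : PrimeSpectrum B, algebraMap A B t ∉ q.asIdeal ∧ q ∉ Algebra.smoothLocus A B := by
  have : IsNoetherianRing A := Algebra.FiniteType.isNoetherianRing k A
  have : (Ideal.span {t}).IsMaximal := ht
  have ht0 : t ≠ 0 := by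
    rintro rfl
    have hb : (⊥ : Ideal A).IsMaximal := by simpa using ht
    have hf : IsField A := by
      by_contra hnf
      obtain ⟨M, hne, hM⟩ := Ring.not_isField_iff_exists_prime.1 hnf
      exact hne (hb.eq_of_le hM.ne_top bot_le).symm
    rw [ringKrullDim_eq_zero_of_isField hf] at hdim
    exact zero_ne_one hdim
  let := Ideal.Quotient.field (Ideal.span {t})
  have : Module.Finite k (A ⧸ Ideal.span {t}) :=
    finite_of_finite_type_of_isJacobsonRing k (A ⧸ Ideal.span {t})
  have hsurj : ∀ a : A, ∃ c : k, a - algebraMap k A c ∈ Ideal.span {t} := fun a => by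
    obtain ⟨c, hc⟩ := (IsAlgClosed.algebraMap_bijective_of_isIntegral (k := k)
      (K := A ⧸ Ideal.span {t})).surjective (Ideal.Quotient.mk _ a)
    exact ⟨c, Ideal.Quotient.eq.1 hc.symm⟩
  have hk : ∀ c : k, algebraMap k A c ∈ Ideal.span {t} → c = 0 := fun c hc => by
    by_contra h
    exact ht.ne_top (Ideal.eq_top_of_isUnit_mem _ hc ((isUnit_iff_ne_zero.2 h).map _))
  have : Algebra.FinitePresentation A B := Algebra.FinitePresentation.of_finiteType.1 inferInstance
  have hnzd : ∀ b : B, algebraMap A B t * b = 0 → b = 0 := fun b hb =>
    (IsSMulRegular.of_flat (S := B) (IsRegular.of_ne_zero ht0).left.isSMulRegular) (by simpa using hb)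
  by_contra hq
  simp only [not_exists, not_and, not_not] at hq
  have : Algebra.Smooth A (Localization.Away (algebraMap A B t)) :=
    Algebra.basicOpen_subset_smoothLocus_iff_smooth.1 fun q hqt => hq q hqt
  refine hsing ⟨H24Cot.RigidFamily.formallySmooth_fibre hsurj hk (IsRegular.of_ne_zero ht0).left.isSMulRegular hnzd e hrigid, ?_⟩
  exact Algebra.FinitePresentation.of_finiteType.1 inferInstance

end Groth.Agent.S12306
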