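import Groth.Statements.S12308
import Groth.Agent.H28Def.Transport

set_option autoImplicit false
universe u
open CategoryTheory AlgebraicGeometry
open SGA7

namespace Groth.Agent.S12308

/-- Suppose Λ is a Noetherian local ring, complete for its maximal ideal, whose residue field is k (so
the map Λ → k is surjective), and work with functors on local Artinian Λ-algebras having residue
field k. Take X₀ to be an affine scheme of finite type over k, together with an open subscheme U ⊆
X₀ that is smooth over k and has finite complement (thus X₀ fails to be smooth at only finitely many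
points). Under these assumptions the deformation functor of X₀, which sends A to isomorphism classes
of schemes flat over Spec A whose closed fibre is X₀, has a hull; equivalently, there is a
miniversal family defined over a complete local Noetherian Λ-algebra with residue field k. -/
theorem result (Λ k : Type u) [CommRing Λ] [IsLocalRing Λ] [IsNoetherianRing Λ]
    [IsAdicComplete (IsLocalRing.maximalIdeal Λ) Λ] [Field k] [Algebra Λ k]
    (hk : Function.Surjective (algebraMap Λ k))
    (X : Scheme.{u}) [IsAffine X] (x : X ⟶ Spec (CommRingCat.of k)) [LocallyOfFiniteType x]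
    (U : X.Opens) (hU : Smooth (U.ι ≫ x)) (hfin : ((U : Set X)ᶜ).Finite) :
    ArtFun.HasHull (ArtFun.defFunctor (Λ := Λ) X x) := by
  let e := X.isoSpec
  let φ : CommRingCat.of k ⟶ Γ(X, ⊤) := Spec.preimage (e.inv ≫ x)
  letI : Algebra k Γ(X, ⊤) := φ.hom.toAlgebra
  have hφ : Spec.map φ = e.inv ≫ x := Spec.map_preimage _
  have he : e.hom ≫ Groth.Agent.H24Def.affPt k Γ(X, ⊤) = x := by
    show e.hom ≫ Spec.map φ = x
    rw [hφ, e.hom_inv_id_assoc]
  haveI : Algebra.FiniteType k Γ(X, ⊤) := by
    have h : LocallyOfFiniteType (Spec.map φ) := by rw [hφ]; infer_instance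
    exact (HasRingHomProperty.Spec_iff (P := @LocallyOfFiniteType)).mp h
  refine Groth.Agent.H28Def.hasHull_of_equiv (fun A => Groth.Agent.H28Def.transEquiv e he A)
    (fun g q => Groth.Agent.H28Def.transEquiv_natural e he g q)
    (Groth.Agent.H28Def.hasHull_affine hk (e.hom '' (U : Set X)ᶜ) (hfin.image _) fun p hp => ?_)
  have hpU : e.inv p ∈ U := by
    by_contra hc
    exact hp ⟨e.inv p, hc, congrArg (fun m : Spec Γ(X, ⊤) ⟶ Spec Γ(X, ⊤) => m p) e.inv_hom_id⟩
  obtain ⟨_, ⟨g, rfl⟩, hpg, hgU⟩ := PrimeSpectrum.isTopologicalBasis_basic_opens.exists_subset_of_mem_open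
    (show p ∈ (e.inv ⁻¹ᵁ U : (Spec Γ(X, ⊤)).Opens).1 from hpU) (e.inv ⁻¹ᵁ U).2
  refine ⟨g, hpg, ?_⟩
  let a := CommRingCat.ofHom (algebraMap Γ(X, ⊤) (Localization.Away g))
  haveI : IsOpenImmersion (Spec.map a) := IsOpenImmersion.of_isLocalization g
  let j := Spec.map a ≫ e.inv
  have hr : Set.range j ⊆ Set.range U.ι := by
    rintro _ ⟨q, rfl⟩
    rw [Scheme.Opens.range_ι]
    exact hgU ((PrimeSpectrum.localization_away_comap_range (Localization.Away g) g).le ⟨q, rfl⟩)
  let l := IsOpenImmersion.lift U.ι j hr
  haveI : IsOpenImmersion (l ≫ U.ι) := by rw [IsOpenImmersion.lift_fac]; infer_instance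
  haveI : IsOpenImmersion l := IsOpenImmersion.of_comp l U.ι
  have h2 : Smooth (Spec.map (CommRingCat.ofHom (algebraMap k (Localization.Away g)))) := by
    have h3 : Spec.map (CommRingCat.ofHom (algebraMap k (Localization.Away g))) = l ≫ U.ι ≫ x := by
      rw [← Category.assoc, IsOpenImmersion.lift_fac, Category.assoc, ← hφ, ← Spec.map_comp]
      congr 1
    rw [h3]; infer_instance
  haveI : Algebra.Smooth k (Localization.Away g) :=
    RingHom.smooth_algebraMap.mp ((HasRingHomProperty.Spec_iff (P := @Smooth)).mp h2)
  infer_instance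

end Groth.Agent.S12308
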