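import Groth.Statements.S12309
import Groth.Agent.H28Def.DefAut
import Groth.Agent.H24Art.Prorep

set_option autoImplicit false
universe u
open CategoryTheory AlgebraicGeometry
open SGA7

namespace Groth.Agent.S12309

/-- Suppose Λ is a Noetherian local ring, complete for its maximal ideal, whose residue field is k (so
that Λ → k is surjective), and work with functors defined on local Artinian Λ-algebras having
residue field k. Take a k-scheme X₀ and assume its deformation functor (sending A to isomorphism
classes of schemes flat over Spec A whose closed fibre is X₀) admits a hull. The deformation functor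
is then pro-representable exactly when the following holds: given any surjective morphism p : A' → A
and any deformation X' of X₀ over A', every automorphism of the base change of X' along p arises by
restricting some automorphism of X' (automorphisms being taken over Spec A' and inducing the
identity on X₀), i.e. the restriction map is surjective. (In the published version the assertion is
stated for X₀ proper over k, or affine of finite type with only finitely many non-smooth points,
cases in which a hull exists; here the existence of a hull is assumed outright, as that is all the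
printed proof relies on.) -/
theorem result (Λ k : Type u) [CommRing Λ] [IsLocalRing Λ] [IsNoetherianRing Λ]
    [IsAdicComplete (IsLocalRing.maximalIdeal Λ) Λ] [Field k] [Algebra Λ k]
    (hk : Function.Surjective (algebraMap Λ k))
    (X : Scheme.{u}) (x : X ⟶ Spec (CommRingCat.of k))
    (hX : ArtFun.HasHull (ArtFun.defFunctor (Λ := Λ) X x)) :
    ArtFun.IsProrepresentable (ArtFun.defFunctor (Λ := Λ) X x) ↔
      ∀ (A' A : ArtFun.Art Λ k) (p : A' ⟶ A), Function.Surjective p →
        ∀ ξ' : ArtFun.DefSch (Λ := Λ) X x A',
          Function.Surjective (fun e : ξ'.Iso ξ' => e.baseChange p) := by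
  haveI : Module.Finite Λ k := Module.Finite.of_surjective (Algebra.linearMap Λ k) hk
  constructor
  · rintro ⟨U⟩ A' A p hp
    obtain ⟨P, q₁, q₂, h⟩ := Groth.Agent.H24Art.exists_fibre_of_surjective p p hp
    exact Groth.Agent.H28Def.lift_of_injective h hp
      (Groth.Agent.H24Art.isLeftExact_of_isUniversal U.family U.universal q₁ q₂ p p h).1
  · intro H
    have h0 := Groth.Agent.H28Def.h0_defFunctor (Λ := Λ) (X := X) (x := x)
    have h2 := Groth.Agent.H28Def.heps_defFunctor (Λ := Λ) (X := X) (x := x)
    obtain ⟨T⟩ := Groth.Agent.H24Art.nonempty_tangentStr (F := ArtFun.defFunctor (Λ := Λ) X x) h0 h2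
    obtain ⟨R⟩ := hX
    exact Groth.Agent.H24Art.isProrepresentable_of_conditions h0 Groth.Agent.H28Def.s1_defFunctor h2
      (Groth.Agent.H24Art.hfin_of_surjective R.family R.miniversal.2.2)
      (fun B A A' p₁ p₂ f h hf => ⟨Groth.Agent.H28Def.injective_cmp_of_lift h hf.1 (H A' A f hf.1),
        Groth.Agent.H28Def.surjective_cmp h hf.1⟩)
      (Groth.Agent.H24Art.hc_of_subsingleton (Groth.Agent.H24Art.subsingleton_derivation_of_surjective hk))

end Groth.Agent.S12309
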