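import Groth.Statements.S12315
import Mathlib

set_option autoImplicit false
universe u v
open CategoryTheory
open SGA7

namespace Groth.Agent.S12315

/-- Let Λ be a complete Noetherian local ring with residue field k (the map Λ → k surjective), and
consider functors on the category of local Artinian Λ-algebras with residue field k. Let F be such a
functor, R a complete local Noetherian Λ-algebra with residue field k, and ξ a family of F over R (a
morphism h_R → F) which is injective on k[ε]: distinct augmented Λ-algebra maps R → k[ε] give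
distinct elements of F(k[ε]). Then every endomorphism of the pair (R, ξ), that is every Λ-algebra
map α : R → R compatible with the augmentation such that transporting ξ along α gives back ξ, is an
automorphism of R. (The published statement is for formal objects of a cofibred groupoid; this row
is the case of a set-valued functor.) -/
theorem result (Λ k : Type u) [CommRing Λ] [IsLocalRing Λ] [IsNoetherianRing Λ]
    [IsAdicComplete (IsLocalRing.maximalIdeal Λ) Λ] [Field k] [Algebra Λ k]
    (hk : Function.Surjective (algebraMap Λ k))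
    (F : ArtFun.Art Λ k ⥤ Type v) (R : ArtFun.CRing Λ k) (ξ : ArtFun.Family R.carrier R.res F)
    (hinj : Function.Injective (ξ.app (ArtFun.Art.dual Λ k)))
    (α : R.carrier →ₐ[Λ] R.carrier) (hα : R.res.comp α = R.res) (hξ : ξ.along α hα = ξ) :
    Function.Bijective α := by
  classical
  let M := IsLocalRing.maximalIdeal R.carrier
  have hM : ∀ r : R.carrier, r ∈ M ↔ R.res r = 0 := by
    intro r
    have hmax : (RingHom.ker (R.res : R.carrier →+* k)).IsMaximal :=
      RingHom.ker_isMaximal_of_surjective (R.res : R.carrier →+* k) R.res_surjective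
    show r ∈ IsLocalRing.maximalIdeal R.carrier ↔ _
    rw [← IsLocalRing.eq_maximalIdeal hmax]
    rfl
  have hmaxΛ : (RingHom.ker (algebraMap Λ k)).IsMaximal := RingHom.ker_isMaximal_of_surjective _ hk
  let mΛ : Ideal R.carrier := (RingHom.ker (algebraMap Λ k)).map (algebraMap Λ R.carrier)
  choose c hc using hk
  let π : R.carrier → R.carrier := fun r => r - algebraMap Λ R.carrier (c (R.res r))
  have hπ : ∀ r, π r ∈ M := fun r => (hM _).2 (by simp [π, hc])
  have hmΛM : mΛ ≤ M := Ideal.map_le_iff_le_comap.2 fun x hx => (hM _).2 (by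
    rw [AlgHom.commutes]; exact hx)
  let I : Ideal R.carrier := M * M ⊔ mΛ
  have hIM : I ≤ M := sup_le Ideal.mul_le_left hmΛM
  have hdiff : ∀ l l' : Λ, algebraMap Λ k l = algebraMap Λ k l' →
      Ideal.Quotient.mk I (algebraMap Λ R.carrier l) = Ideal.Quotient.mk I (algebraMap Λ R.carrier l') := by
    intro l l' h
    rw [Ideal.Quotient.eq, ← map_sub]
    exact le_sup_right (a := M * M) (Ideal.mem_map_of_mem _ (show l - l' ∈ RingHom.ker (algebraMap Λ k) by
      rw [RingHom.mem_ker, map_sub, h, sub_self]))
  let ψ : k →+* R.carrier ⧸ I :=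
    { toFun := fun a => Ideal.Quotient.mk I (algebraMap Λ R.carrier (c a))
      map_one' := by rw [hdiff (c 1) 1 (by simp [hc]), map_one, map_one]
      map_zero' := by rw [hdiff (c 0) 0 (by simp [hc]), map_zero, map_zero]
      map_add' := fun a b => by rw [hdiff (c (a + b)) (c a + c b) (by simp [hc]), map_add, map_add]
      map_mul' := fun a b => by rw [hdiff (c (a * b)) (c a * c b) (by simp [hc]), map_mul, map_mul] }
  letI : Algebra k (R.carrier ⧸ I) := ψ.toAlgebra
  let q := Ideal.Quotient.mk I
  have hsplit : ∀ r, q r = ψ (R.res r) + q (π r) := by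
    intro r
    show q r = q (algebraMap Λ R.carrier (c (R.res r))) + q (π r)
    rw [← map_add, add_sub_cancel]
  have key : ∀ v ∈ M, α v - v ∈ I := by
    intro v hv
    by_contra hne
    have hαv : α v ∈ M := (hM _).2 (by rw [← AlgHom.comp_apply, hα]; exact (hM v).1 hv)
    have hw : q (α v - v) ∉ k ∙ (1 : R.carrier ⧸ I) := by
      intro h
      obtain ⟨a, ha⟩ := Submodule.mem_span_singleton.1 h
      rw [Algebra.smul_def, _root_.mul_one] at ha
      have h1 : algebraMap Λ R.carrier (c a) - (α v - v) ∈ M := hIM (Ideal.Quotient.eq.1 ha)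
      have h2 : algebraMap Λ R.carrier (c a) ∈ M := by
        have := add_mem h1 (sub_mem hαv hv); rwa [sub_add_cancel] at this
      rw [hM, AlgHom.commutes, hc] at h2
      rw [h2, map_zero] at ha
      exact hne (Ideal.Quotient.eq_zero_iff_mem.1 ha.symm)
    obtain ⟨L, hL, hL1⟩ := Submodule.exists_dual_map_eq_bot_of_notMem hw inferInstance
    have hL1' : L 1 = 0 := by
      have := Submodule.mem_map_of_mem (f := L) (Submodule.mem_span_singleton_self (1 : R.carrier ⧸ I))
      rwa [hL1, Submodule.mem_bot] at this
    have hLψ : ∀ (a : k) (x : R.carrier ⧸ I), L (ψ a * x) = a * L x := fun a x => by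
      rw [show ψ a * x = a • x from (Algebra.smul_def a x).symm, map_smul, smul_eq_mul]
    have hL0 : ∀ a : k, L (ψ a) = 0 := fun a => by
      rw [← _root_.mul_one (ψ a), hLψ, hL1', MulZeroClass.mul_zero]
    let D : R.carrier → k := fun r => L (q r)
    have hD : ∀ r, D r = L (q (π r)) := fun r => by
      show L (q r) = _
      rw [hsplit r, map_add, hL0, zero_add]
    have hππ : ∀ r s, q (π r) * q (π s) = 0 := fun r s => by
      rw [← map_mul]
      exact Ideal.Quotient.eq_zero_iff_mem.2 (le_sup_left (b := mΛ) (Ideal.mul_mem_mul (hπ r) (hπ s)))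
    have hDmul : ∀ r s, D (r * s) = R.res r * D s + R.res s * D r := fun r s => by
      show L (q (r * s)) = _
      rw [map_mul, hsplit r, hsplit s, hD r, hD s, add_mul, mul_add, mul_add, hππ, add_zero, ← map_mul,
        map_add, map_add, hL0, hLψ, mul_comm (q (π r)), hLψ, zero_add]
    let φ : R.carrier →ₐ[Λ] DualNumber k :=
      { toFun := fun r => TrivSqZeroExt.inl (R.res r) + TrivSqZeroExt.inr (D r)
        map_one' := by ext <;> simp [D, q, hL1']
        map_zero' := by ext <;> simp [D]
        map_add' := fun r s => by ext <;> simp [D]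
        map_mul' := fun r s => by
          ext
          · simp
          · simp [hDmul]; ring
        commutes' := fun l => by
          have h : D (algebraMap Λ R.carrier l) = 0 := by
            show L (q _) = 0
            rw [show q (algebraMap Λ R.carrier l) = ψ (algebraMap Λ k l) from hdiff _ _ (hc _).symm, hL0]
          rw [TrivSqZeroExt.algebraMap_eq_inl', AlgHom.commutes, h, TrivSqZeroExt.inr_zero, add_zero] }
    have hφ : (ArtFun.Art.dual Λ k).res.comp φ = R.res := by
      refine AlgHom.ext fun r => ?_
      show (TrivSqZeroExt.inl (R.res r) + TrivSqZeroExt.inr (D r) : DualNumber k).fst = R.res r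
      simp
    have h := congrArg (fun z : ArtFun.Family R.carrier R.res F => z.app (ArtFun.Art.dual Λ k) ⟨φ, hφ⟩) hξ
    have h' : φ.comp α = φ := congrArg Subtype.val (hinj h)
    have h'' : D (α v) = D v := by
      have := congrArg TrivSqZeroExt.snd (DFunLike.congr_fun h' v)
      simpa [φ] using this
    refine hL ?_
    rw [map_sub, map_sub, sub_eq_zero]
    exact h''
  let f : R.carrier →+* R.carrier := α.toRingHom
  have hfM : M.map f = M := by
    refine le_antisymm (Ideal.map_le_iff_le_comap.2 fun x hx => (hM _).2 ?_) ?_
    · show R.res (α x) = 0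
      rw [← AlgHom.comp_apply, hα]
      exact (hM x).1 hx
    · refine Submodule.le_of_le_smul_of_le_jacobson_bot (I := M) (IsNoetherian.noetherian M)
        (IsLocalRing.maximalIdeal_le_jacobson ⊥) ?_
      intro v hv
      have h1 : mΛ ≤ M.map f := Ideal.map_le_iff_le_comap.2 fun l hl => by
        rw [Ideal.mem_comap, show algebraMap Λ R.carrier l = f (algebraMap Λ R.carrier l) from (α.commutes l).symm]
        exact Ideal.mem_map_of_mem f ((hM _).2 (by rw [AlgHom.commutes]; exact hl))
      have h2 : I ≤ M.map f ⊔ M • M := sup_le le_sup_right (h1.trans le_sup_left)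
      have h3 : f v ∈ M.map f ⊔ M • M := le_sup_left (b := M • M) (Ideal.mem_map_of_mem f hv)
      have := sub_mem h3 (h2 (key v hv))
      rwa [show f v - (α v - v) = v from sub_sub_cancel _ _] at this
  have hsurj : Function.Surjective α := by
    haveI := R.isAdicComplete
    haveI : IsHausdorff (M.map f) R.carrier := by rw [hfM]; infer_instance
    refine surjective_of_mk_map_comp_surjective (I := M) f fun y => ?_
    obtain ⟨r, rfl⟩ := Ideal.Quotient.mk_surjective y
    refine ⟨algebraMap Λ R.carrier (c (R.res r)), ?_⟩
    show Ideal.Quotient.mk (M.map f) (α (algebraMap Λ R.carrier (c (R.res r)))) = _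
    rw [AlgHom.commutes, Ideal.Quotient.eq, hfM, hM, map_sub, AlgHom.commutes, hc, sub_self]
  refine ⟨?_, hsurj⟩
  rw [injective_iff_map_eq_zero]
  intro x hx
  obtain ⟨n, hn⟩ := monotone_stabilizes_iff_noetherian.2 (inferInstance : IsNoetherian R.carrier R.carrier)
    ⟨fun m => RingHom.ker (f ^ m), monotone_nat_of_le_succ fun m y hy => by
      rw [RingHom.mem_ker] at hy ⊢
      rw [pow_succ', RingHom.coe_mul, Function.comp_apply, hy, map_zero]⟩
  obtain ⟨y, hy⟩ : ∃ y, (f ^ n) y = x := by
    have hs : Function.Surjective (f ^ n) := by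
      rw [RingHom.coe_pow]
      exact Function.Surjective.iterate hsurj n
    exact hs x
  have : y ∈ RingHom.ker (f ^ (n + 1)) := by
    rw [RingHom.mem_ker, pow_succ', RingHom.coe_mul, Function.comp_apply, hy]
    exact hx
  rw [← (show RingHom.ker (f ^ n) = RingHom.ker (f ^ (n + 1)) from hn (n + 1) (Nat.le_succ n)), RingHom.mem_ker, hy] at this
  exact this

end Groth.Agent.S12315
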