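import Groth.Statements.S12316
import Groth.Agent.H24Art.Double

set_option autoImplicit false
universe u v
open CategoryTheory
open SGA7

namespace Groth.Agent.S12316

/-- Suppose Λ is a Noetherian local ring, complete for its maximal ideal, whose residue field is k (so Λ
→ k is surjective), and work with functors defined on the category of local Artinian Λ-algebras
having residue field k. Take morphisms φ : F → G and ψ : G → H of such functors. Assume that each of
F(k), G(k), H(k) consists of a single point; that for G the comparison map on fibre products A₁ ×_A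
A₂ is surjective as soon as A₂ → A is surjective, and is bijective for products of the form A' ×_k
k[ε]; that for H the comparison map is bijective on every fibre product A₁ ×_A A₂ with A₂ → A
surjective; and that the induced map on tangent spaces G(k[ε]) → H(k[ε]) coming from ψ is injective.
Under these assumptions, φ ≫ ψ is smooth if and only if both φ and ψ are smooth. (The published
statement is for functors of cofibred groupoids with G semi-homogeneous and H homogeneous; this row
is the case of set-valued functors.) -/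
theorem result (Λ k : Type u) [CommRing Λ] [IsLocalRing Λ] [IsNoetherianRing Λ]
    [IsAdicComplete (IsLocalRing.maximalIdeal Λ) Λ] [Field k] [Algebra Λ k]
    (hk : Function.Surjective (algebraMap Λ k))
    {F G H : ArtFun.Art Λ k ⥤ Type v} (φ : F ⟶ G) (ψ : G ⟶ H)
    (hF : ArtFun.H0 F) (hG : ArtFun.H0 G ∧ ArtFun.S1 G ∧ ArtFun.Heps G) (hH0 : ArtFun.H0 H)
    (hH : ∀ ⦃B A A' A'' : ArtFun.Art Λ k⦄ (p' : B ⟶ A') (p'' : B ⟶ A'') (f' : A' ⟶ A) (f'' : A'' ⟶ A)
      (h : ArtFun.Art.IsFibreProd p' p'' f' f''), Function.Surjective f'' → Function.Bijective (ArtFun.cmp H h))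
    (hψ : Function.Injective (ArtFun.TangentSpace.map ψ)) :
    ArtFun.IsSmooth (φ ≫ ψ) ↔ (ArtFun.IsSmooth φ ∧ ArtFun.IsSmooth ψ) := by
  open Groth.Agent.H24Art in
  haveI : Module.Finite Λ k := Module.Finite.of_surjective (Algebra.linearMap Λ k) hk
  obtain ⟨hG0, hG1, hG2⟩ := hG
  -- `ψ` separates the lifts along a small extension
  have key : ∀ ⦃B A : ArtFun.Art Λ k⦄ (μ : B ⟶ A), ArtFun.Art.IsSmallExt μ → ∀ b b' : G.obj B,
      G.map μ b = G.map μ b' → ψ.app B b = ψ.app B b' → b = b' := by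
    intro B A μ hμ b b' h1 h2
    obtain ⟨P, p₁, p₂, g, d, hP, hPg, hd₁, hd₂, hdg⟩ := exists_double hμ
    obtain ⟨w, hw⟩ := hG1 p₁ p₂ μ μ hP hμ.1 ⟨(b', b), h1.symm⟩
    have hw₁ : G.map p₁ w = b' := congrArg (fun z => z.1.1) hw
    have hw₂ : G.map p₂ w = b := congrArg (fun z => z.1.2) hw
    have hψw : ψ.app P w = H.map d (ψ.app B b') := (hH p₁ p₂ μ μ hP hμ.1).injective (ArtFun.FibProd.ext
      (by change H.map p₁ (ψ.app P w) = H.map p₁ (H.map d (ψ.app B b'))
          rw [← map_comp_apply' H d, hd₁, map_id_apply', ← nat', hw₁])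
      (by change H.map p₂ (ψ.app P w) = H.map p₂ (H.map d (ψ.app B b'))
          rw [← map_comp_apply' H d, hd₂, map_id_apply', ← nat', hw₂, h2]))
    have hgw : G.map g w = G.map (ArtFun.Art.toBase B ≫ ArtFun.Art.baseToDual) b' := hψ (by
      show ψ.app _ (G.map g w) = ψ.app _ (G.map (ArtFun.Art.toBase B ≫ ArtFun.Art.baseToDual) b')
      rw [nat', nat', hψw, ← map_comp_apply' H d, hdg])
    rw [← hw₁] at hgw
    rw [← hw₂, ← hw₁]
    exact snd_eq_fst_of_diff G hG2 hPg hd₁ hd₂ hdg w hgw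
  constructor
  · intro hs
    have hφ : ArtFun.IsSmooth φ := by
      refine isSmooth_of_smallExt φ fun B A μ hμ => ?_
      rintro ⟨⟨f, b⟩, hfb⟩
      obtain ⟨f', hf'⟩ := hs μ hμ.1 ⟨(f, ψ.app B b), by
        show ψ.app A (φ.app A f) = H.map μ (ψ.app B b)
        rw [hfb, ← nat']⟩
      have h1 : F.map μ f' = f := congrArg (fun z => z.1.1) hf'
      have h2 : ψ.app B (φ.app B f') = ψ.app B b := congrArg (fun z => z.1.2) hf'
      refine ⟨f', Subtype.ext (Prod.ext h1 (key μ hμ _ _ ?_ h2))⟩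
      show G.map μ (φ.app B f') = G.map μ b
      rw [← nat', h1]
      exact hfb
    refine ⟨hφ, fun B A μ hμ => ?_⟩
    rintro ⟨⟨a, c⟩, hac⟩
    obtain ⟨f₀⟩ := hF.1
    obtain ⟨f, hf⟩ := hφ (ArtFun.Art.toBase A) A.res_surjective ⟨(f₀, a), hG0.2.elim _ _⟩
    have hfa : φ.app A f = a := congrArg (fun z => z.1.2) hf
    obtain ⟨f', hf'⟩ := hs μ hμ ⟨(f, c), by
      show ψ.app A (φ.app A f) = H.map μ c
      rw [hfa]; exact hac⟩
    have h1 : F.map μ f' = f := congrArg (fun z => z.1.1) hf'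
    have h2 : ψ.app B (φ.app B f') = c := congrArg (fun z => z.1.2) hf'
    exact ⟨φ.app B f', Subtype.ext (Prod.ext (show G.map μ (φ.app B f') = a by rw [← nat', h1, hfa]) h2)⟩
  · rintro ⟨h1, h2⟩ B A μ hμ ⟨⟨f, c⟩, hfc⟩
    obtain ⟨b, hb⟩ := h2 μ hμ ⟨(φ.app A f, c), hfc⟩
    obtain ⟨f', hf'⟩ := h1 μ hμ ⟨(f, b), (congrArg (fun z => z.1.1) hb).symm⟩
    refine ⟨f', Subtype.ext (Prod.ext (congrArg (fun z => z.1.1) hf' :) ?_)⟩
    show ψ.app B (φ.app B f') = c
    rw [show φ.app B f' = b from congrArg (fun z => z.1.2) hf']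
    exact congrArg (fun z => z.1.2) hb

end Groth.Agent.S12316
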