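import Groth.Statements.S12321
import Groth.Agent.H28Def.MinCover

set_option autoImplicit false
universe u v
open CategoryTheory
open SGA7

namespace Groth.Agent.S12321

/-- Suppose Λ is a Noetherian local ring that is complete, and k is its residue field, so the map Λ → k
is surjective. We look at functors on the category of local Artinian Λ-algebras whose residue field
is k. Take such a functor F for which F(k) is a single point, the comparison map F(A₁ ×_A A₂) →
F(A₁) ×_{F(A)} F(A₂) is surjective whenever A₂ → A is surjective, and this map is bijective for A'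
×_k k[ε]. Call an element a ∈ F(R) versal for small prolongations of the base point when, for each
object R₀ whose augmentation R₀ → k is a small extension and each b ∈ F(R₀), some morphism R → R₀
sends a to b. Assume a ∈ F(R) has this property. Then one can find an object R', a morphism q : R' →
R and an element a' ∈ F(R') whose image is a, satisfying the following. First, q is surjective and
the maximal ideal annihilates its kernel. Second, q induces an isomorphism m_{R'}/(m_{R'}² + m_Λ R')
→ m_R/(m_R² + m_Λ R) between relative cotangent spaces (only injectivity is stated; surjectivity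
comes for free). Third, a' is versal for small prolongations of a: given any small extension π₁ : R₁
→ R and any a₁ ∈ F(R₁) with image a, there is f : R' → R₁ satisfying f ≫ π₁ = q and sending a' to
a₁. (The published statement concerns semi-homogeneous cofibred groupoids; this row treats the case
of set-valued functors.) -/
theorem result (Λ k : Type u) [CommRing Λ] [IsLocalRing Λ] [IsNoetherianRing Λ]
    [IsAdicComplete (IsLocalRing.maximalIdeal Λ) Λ] [Field k] [Algebra Λ k]
    (hk : Function.Surjective (algebraMap Λ k))
    (F : ArtFun.Art Λ k ⥤ Type v) (hF : ArtFun.H0 F ∧ ArtFun.S1 F ∧ ArtFun.Heps F)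
    (R : ArtFun.Art Λ k) (a : F.obj R)
    (hvers : ∀ (R₀ : ArtFun.Art Λ k), ArtFun.Art.IsSmallExt (ArtFun.Art.toBase R₀) →
      ∀ b : F.obj R₀, ∃ φ : R ⟶ R₀, F.map φ a = b) :
    ∃ (R' : ArtFun.Art Λ k) (q : R' ⟶ R) (a' : F.obj R'), F.map q a' = a ∧
      ArtFun.Art.IsSemismallExt q ∧
      (∀ x' : R', x' ∈ IsLocalRing.maximalIdeal (R' : Type u) →
        q x' ∈ (IsLocalRing.maximalIdeal (R : Type u)) ^ 2 ⊔ (IsLocalRing.maximalIdeal Λ).map (algebraMap Λ R) →
        x' ∈ (IsLocalRing.maximalIdeal (R' : Type u)) ^ 2 ⊔ (IsLocalRing.maximalIdeal Λ).map (algebraMap Λ R')) ∧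
      ∀ (R₁ : ArtFun.Art Λ k) (π₁ : R₁ ⟶ R), ArtFun.Art.IsSmallExt π₁ →
        ∀ a₁ : F.obj R₁, F.map π₁ a₁ = a → ∃ f : R' ⟶ R₁, f ≫ π₁ = q ∧ F.map f a' = a₁ := by
  haveI : Module.Finite Λ k := Module.Finite.of_surjective (Algebra.linearMap Λ k) hk
  exact Groth.Agent.H28Def.exists_semismall_versal hk hF.2.1 hF.2.2 R a
    (fun θ => hvers _ Groth.Agent.H28Def.isSmallExt_toBase_dual θ)

end Groth.Agent.S12321
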