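-- statement FlatMor.GrothFrozen.S1235 (Groth/Statements/S1235.lean; the theorem FlatMor.tfae_flat_over_henselization);
import Groth.Statements.S1235
import Groth.Agent.H26ProEt.Weakly
import Groth.Agent.H9Hens.FlatEpi
import Groth.Agent.H9Hens.LocalHens
import Groth.Agent.H9Hens.StrictHens

set_option autoImplicit false
universe u
open FlatMor

namespace Groth.Agent.S1235

open IsLocalRing in
/-- Let p be a prime of a ring A, Ah a henselization and Ash a strict henselization of A_p, with Ash an
Ah-algebra compatibly with the maps from A_p. For a module Msh over Ash the following are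
equivalent: Msh is flat over A_p; Msh is flat over Ah; Msh is flat over Ash. For a module Mh over
Ah: Mh is flat over A_p if and only if it is flat over Ah. (This is the ring form, over the base
Spec A, of a statement about stalks on a scheme; the published statement also relates the two groups
of equivalences when Msh = Ash ⊗_{Ah} Mh and has one further item, neither of which is stated here.) -/
theorem result {A : Type u} [CommRing A] (p : Ideal A) [p.IsPrime]
    (Ah Ash : Type u) [CommRing Ah] [IsLocalRing Ah] [CommRing Ash] [IsLocalRing Ash]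
    [Algebra (Localization.AtPrime p) Ah] [IsLocalHom (algebraMap (Localization.AtPrime p) Ah)] [Hensel.IsHenselization (Localization.AtPrime p) Ah]
    [Algebra (Localization.AtPrime p) Ash] [IsLocalHom (algebraMap (Localization.AtPrime p) Ash)] [Hensel.IsStrictHenselization (Localization.AtPrime p) Ash]
    [Algebra Ah Ash] [IsScalarTower (Localization.AtPrime p) Ah Ash]
    (Msh : Type u) [AddCommGroup Msh] [Module Ash Msh] [Module Ah Msh] [Module (Localization.AtPrime p) Msh]
    [IsScalarTower Ah Ash Msh] [IsScalarTower (Localization.AtPrime p) Ash Msh] [IsScalarTower (Localization.AtPrime p) Ah Msh]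
    (Mh : Type u) [AddCommGroup Mh] [Module Ah Mh] [Module (Localization.AtPrime p) Mh] [IsScalarTower (Localization.AtPrime p) Ah Mh] :
    [Module.Flat (Localization.AtPrime p) Msh, Module.Flat Ah Msh, Module.Flat Ash Msh].TFAE ∧
    (Module.Flat (Localization.AtPrime p) Mh ↔ Module.Flat Ah Mh) := by
  obtain ⟨π₁, h₁⟩ := Groth.Agent.H9Hens.exists_isPtColim_of_isHenselization (R := Localization.AtPrime p) Ah
  obtain ⟨k, _, _, _, _, _, π₂, h₂⟩ :=
    Groth.Agent.H9Hens.exists_isPtColim_of_isStrictHenselization (R := Localization.AtPrime p) Ash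
  have w₁ : Algebra.WeaklyEtale (Localization.AtPrime p) Ah := Groth.Agent.H26ProEt.weaklyEtale h₁
  have w₂ : Algebra.WeaklyEtale (Localization.AtPrime p) Ash := Groth.Agent.H26ProEt.weaklyEtale h₂
  have l₁ := Algebra.WeaklyEtale.flat_lmul' (Localization.AtPrime p) Ah
  have l₂ := Algebra.WeaklyEtale.flat_lmul' (Localization.AtPrime p) Ash
  refine ⟨?_, fun h => Groth.Agent.H9Hens.flat_of_restrictScalars_of_flat_lmul' _ Ah l₁ Mh,
    fun h => Module.Flat.trans (Localization.AtPrime p) Ah Mh⟩
  tfae_have 1 → 3 := fun h => Groth.Agent.H9Hens.flat_of_restrictScalars_of_flat_lmul' _ Ash l₂ Msh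
  tfae_have 3 → 1 := fun h => Module.Flat.trans (Localization.AtPrime p) Ash Msh
  tfae_have 1 → 2 := fun h => Groth.Agent.H9Hens.flat_of_restrictScalars_of_flat_lmul' _ Ah l₁ Msh
  tfae_have 2 → 1 := fun h => Module.Flat.trans (Localization.AtPrime p) Ah Msh
  tfae_finish

end Groth.Agent.S1235
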