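-- statement FlatMor.GrothFrozen.S1238 (Groth/Statements/S1238.lean; the theorem FlatMor.isOpen_flatLocus_algebra_of_weakAss_finite);
import Groth.Statements.S1238
import Groth.Agent.H7Flat.FlatSpreadFT
import Groth.Agent.H7Flat.FiniteFlatFP

set_option autoImplicit false
universe u
open FlatMor

namespace Groth.Agent.S1238

/-- Ring form, X = Spec S, S = Spec R affine: let R be a ring with finitely many weakly associated
primes and S a finite type R-algebra. Then the set of primes q of S with S_q flat over R is open in
Spec S, and every such q has a basic open neighbourhood D(g) with S_g flat and of finite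
presentation over R. -/
theorem result {R S : Type u} [CommRing R] [CommRing S] [Algebra R S] [Algebra.FiniteType R S]
    (hR : (FlatCA.weakAss R R).Finite) :
    IsOpen {q : PrimeSpectrum S | Module.Flat R (Localization.AtPrime q.asIdeal)} ∧
    ∀ (q : Ideal S) [q.IsPrime], Module.Flat R (Localization.AtPrime q) → ∃ g : S, g ∉ q ∧
      Algebra.FinitePresentation R (Localization.Away g) ∧ Module.Flat R (Localization.Away g) := by
  obtain ⟨n, π, hπ⟩ := Algebra.FiniteType.iff_quotient_mvPolynomial''.mp (inferInstance : Algebra.FiniteType R S)
  let : Algebra (MvPolynomial (Fin n) R) S := π.toRingHom.toAlgebra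
  have : IsScalarTower R (MvPolynomial (Fin n) R) S :=
    IsScalarTower.of_algebraMap_eq fun r => (π.commutes r).symm
  have key : ∀ (Q : Ideal S) [Q.IsPrime],
      Module.Flat R (Localization.AtPrime Q) ↔ FlatCA.FlatAt R Q S := fun Q _ =>
    Module.Flat.equiv_iff ((IsLocalizedModule.iso Q.primeCompl
      (Algebra.linearMap S (Localization.AtPrime Q))).restrictScalars R).symm
  refine ⟨?_, fun q _ hq => ?_⟩
  · have h := H7Flat.FlatSpreadFT.isOpen_flatLocus (R := R) (S := S) hR S
    convert h using 1
    ext Q
    exact key Q.asIdeal
  obtain ⟨g, hg, hfl, hrel⟩ :=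
    H7Flat.FlatSpreadFT.exists_away (P := MvPolynomial (Fin n) R) hπ hR S q ((key q).mp hq)
  obtain ⟨m, φ, hφ, hfp⟩ :=
    hrel (Localization.Away g) (Localization.Away g) (Algebra.linearMap S (Localization.Away g))
  refine ⟨g, hg, ?_, Module.Flat.of_linearEquiv ((IsLocalizedModule.iso (Submonoid.powers g)
    (Algebra.linearMap S (Localization.Away g))).restrictScalars R).symm⟩
  let : Algebra (MvPolynomial (Fin m) R) (Localization.Away g) := φ.toRingHom.toAlgebra
  have : IsScalarTower R (MvPolynomial (Fin m) R) (Localization.Away g) :=
    IsScalarTower.of_algebraMap_eq fun r => (φ.commutes r).symm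
  have : Module.FinitePresentation (MvPolynomial (Fin m) R) (Localization.Away g) := by
    convert hfp using 1
  exact Algebra.FinitePresentation.trans R (MvPolynomial (Fin m) R) (Localization.Away g)

end Groth.Agent.S1238
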