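-- statement FlatMor.GrothFrozen.S1239 (Groth/Statements/S1239.lean; the theorem FlatMor.finitePresentation_of_flat_of_fp_over_dense_open);
import Groth.Statements.S1239
import Groth.Agent.H7Flat.FlatSpread

set_option autoImplicit false
set_option backward.isDefEq.respectTransparency false
universe u
open FlatMor TensorProduct

namespace Groth.Agent.S1239

/-- Ring form, X = Spec B, S = Spec A affine; a retrocompact open of Spec A is a finite union of basic
opens: let B be a finitely presented A-algebra and N a finite B-module which is flat over A. Let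
f_1, …, f_n be elements of A such that the map from A to the product of the localizations A_{f_i} is
injective (the open D(f_1) ∪ … ∪ D(f_n) is scheme-theoretically dense). If each localization N_{f_i}
is finitely presented over B_{f_i}, then N is finitely presented over B. -/
theorem result {A B : Type u} [CommRing A] [CommRing B] [Algebra A B] [Algebra.FinitePresentation A B]
    (N : Type u) [AddCommGroup N] [Module B N] [Module A N] [IsScalarTower A B N] [Module.Finite B N] [Module.Flat A N]
    {n : ℕ} (f : Fin n → A)
    (hdense : Function.Injective (RingHom.pi (fun i => algebraMap A (Localization.Away (f i)))))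
    (hfp : ∀ i, Module.FinitePresentation (Localization.Away (algebraMap A B (f i)))
      (LocalizedModule (Submonoid.powers (algebraMap A B (f i))) N)) :
    Module.FinitePresentation B N := by
  classical
  have key : ∀ q : PrimeSpectrum B, ∃ h ∉ q.asIdeal,
      Module.FinitePresentation (Localization.Away h) (LocalizedModule (Submonoid.powers h) N) := by
    intro q
    obtain ⟨N', _, _, _, _, _, π, hπ, hπk, g, hgq, hg⟩ := H7Flat.FlatSpread.exists_fp_cover (R := A) N q.asIdeal
      (H06EGA11.flat_localizedModule q.asIdeal.primeCompl fun J x hx => ⟨(1 : B), one_mem _, by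
        rw [(injective_iff_map_eq_zero _).mp
          (Module.Flat.lTensor_preserves_injective_linearMap J.subtype J.injective_subtype) x hx]
        exact smul_zero _⟩)
    have ht : ∀ i, ∃ t ∉ q.asIdeal, ∀ x, π x = 0 → ∃ k : ℕ, (algebraMap A B (f i)) ^ k • t • x = 0 := by
      intro i
      let T := Submonoid.powers (algebraMap A B (f i))
      let πT := LocalizedModule.map T π
      have := hfp i
      obtain ⟨G, hG⟩ := Module.FinitePresentation.fg_ker πT (LocalizedModule.map_surjective T π hπ)
      have hkill : ∀ z ∈ G, ∃ t ∉ q.asIdeal, t • z = 0 := by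
        intro z hz
        have hz0 : πT z = 0 := hG.le (Submodule.subset_span hz)
        clear hz
        induction z using LocalizedModule.induction_on with
        | h x s =>
          rw [LocalizedModule.map_mk] at hz0
          obtain ⟨v, hv⟩ := LocalizedModule.mk_eq.mp (hz0.trans (LocalizedModule.zero_mk s).symm)
          simp only [smul_zero] at hv
          obtain ⟨t, ht, htx⟩ := hπk ((v : B) • (s : B) • x) (by rw [map_smul, map_smul]; exact hv)
          refine ⟨t, ht, ?_⟩
          rw [LocalizedModule.smul'_mk]
          refine (LocalizedModule.mk_eq.mpr ⟨v * s, ?_⟩).trans (LocalizedModule.zero_mk 1)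
          simp only [smul_zero, one_smul, Submonoid.smul_def, Submonoid.coe_mul]
          rw [mul_smul, smul_comm (s : B) t, smul_comm (v : B) t]
          exact htx
      choose t ht htz using hkill
      let tt := ∏ z ∈ G.attach, t z.1 z.2
      refine ⟨tt, prod_mem (S := q.asIdeal.primeCompl) fun z _ => ht _ _, fun x hx => ?_⟩
      have hmem : LocalizedModule.mk x (1 : T) ∈ LinearMap.ker πT := by
        rw [LinearMap.mem_ker, LocalizedModule.map_mk, hx, LocalizedModule.zero_mk]
      rw [← hG] at hmem
      have h0 : ∀ z ∈ Submodule.span (Localization T) (G : Set (LocalizedModule T N')), tt • z = 0 := by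
        intro z hz
        induction hz using Submodule.span_induction with
        | mem z hz =>
          obtain ⟨c, hc⟩ : t z hz ∣ tt := Finset.dvd_prod_of_mem _ (Finset.mem_attach G ⟨z, hz⟩)
          rw [hc, mul_comm, mul_smul, htz, smul_zero]
        | zero => rw [smul_zero]
        | add a b _ _ ha hb => rw [smul_add, ha, hb, add_zero]
        | smul c a _ ha => rw [smul_comm, ha, smul_zero]
      have h1 := h0 _ hmem
      rw [LocalizedModule.smul'_mk] at h1
      obtain ⟨⟨_, k, rfl⟩, hk⟩ := LocalizedModule.mk_eq.mp (h1.trans (LocalizedModule.zero_mk 1).symm)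
      simp only [one_smul, smul_zero] at hk
      exact ⟨k, hk⟩
    choose t ht htk using ht
    let h := g * ∏ i, t i
    have hq : h ∉ q.asIdeal := q.asIdeal.primeCompl.mul_mem hgq (prod_mem fun i _ => ht i)
    let Th := Submonoid.powers h
    let Nh := LocalizedModule Th N'
    have hfl : Module.Flat A Nh := by
      refine H06EGA11.flat_localizedModule _ fun J x hx => ?_
      obtain ⟨_, ⟨n, rfl⟩, hn⟩ := H06EGA11.exists_smul_eq_zero_of_flat (Submonoid.powers g) J.subtype
        Subtype.val_injective x hx
      refine ⟨_, ⟨n, rfl⟩, ?_⟩
      change (g * ∏ i, t i) ^ n • x = 0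
      rw [mul_pow, mul_comm, mul_smul]
      exact (congrArg _ hn).trans (smul_zero _)
    let L := fun i => Localization.Away (f i)
    let θ : A →ₗ[A] (∀ i, L i) := LinearMap.pi fun i => Algebra.linearMap A (L i)
    have hθ : Function.Injective θ := fun a b hab => hdense hab
    have hzero : ∀ y : Nh, (∀ i, ∃ k : ℕ, f i ^ k • y = 0) → y = 0 := by
      intro y hy
      choose k hk using hy
      have h0 : θ.rTensor Nh ((1 : A) ⊗ₜ y) = 0 := by
        rw [LinearMap.rTensor_tmul, show θ 1 = ∑ i, Pi.single i (1 : L i) from
          funext fun i => by simp [θ, Finset.sum_apply], TensorProduct.sum_tmul]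
        refine Finset.sum_eq_zero fun i _ => ?_
        have e : (Pi.single i (1 : L i) : ∀ i, L i) =
            f i ^ k i • Pi.single i (IsLocalization.mk' (L i) (1 : A) (⟨f i ^ k i, k i, rfl⟩ : Submonoid.powers (f i))) := by
          rw [← Pi.single_smul, Algebra.smul_def, mul_comm, IsLocalization.mk'_spec, map_one]
        rw [e, TensorProduct.smul_tmul, hk, TensorProduct.tmul_zero]
      have h1 := Module.Flat.rTensor_preserves_injective_linearMap (M := Nh) θ hθ (h0.trans (map_zero _).symm)
      simpa using congrArg (TensorProduct.lid A Nh) h1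
    have hker : ∀ x, π x = 0 → ∃ n : ℕ, h ^ n • x = 0 := by
      intro x hx
      have h1 : LocalizedModule.mk x (1 : Th) = 0 := hzero _ fun i => by
        obtain ⟨k, hk⟩ := htk i x hx
        refine ⟨k, ?_⟩
        rw [← algebraMap_smul B (f i ^ k), map_pow, LocalizedModule.smul'_mk]
        refine (LocalizedModule.mk_eq.mpr ⟨⟨h, Submonoid.mem_powers h⟩, ?_⟩).trans (LocalizedModule.zero_mk 1)
        simp only [smul_zero, one_smul]
        change (g * ∏ i, t i) • (algebraMap A B (f i)) ^ k • x = 0
        rw [← Finset.prod_erase_mul _ _ (Finset.mem_univ i), ← mul_assoc, mul_smul, smul_comm (t i), hk, smul_zero]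
      obtain ⟨⟨_, n, rfl⟩, hn⟩ := LocalizedModule.mk_eq.mp (h1.trans (LocalizedModule.zero_mk 1).symm)
      simp only [one_smul, smul_zero] at hn
      exact ⟨n, hn⟩
    have hbij : Function.Bijective (LocalizedModule.map Th π) := by
      refine ⟨(injective_iff_map_eq_zero _).mpr fun z hz => ?_, LocalizedModule.map_surjective Th π hπ⟩
      induction z using LocalizedModule.induction_on with
      | h x u =>
        rw [LocalizedModule.map_mk] at hz
        obtain ⟨v, hv⟩ := LocalizedModule.mk_eq.mp (hz.trans (LocalizedModule.zero_mk u).symm)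
        simp only [smul_zero] at hv
        obtain ⟨n, hn⟩ := hker ((v : B) • (u : B) • x) (by rw [map_smul, map_smul]; exact hv)
        refine (LocalizedModule.mk_eq.mpr ⟨⟨h ^ n * v * u,
          mul_mem (mul_mem ((Submonoid.mem_powers_iff _ _).mpr ⟨n, rfl⟩) v.2) u.2⟩, ?_⟩).trans
          (LocalizedModule.zero_mk 1)
        simp only [smul_zero, one_smul]
        change (h ^ n * (v : B) * u) • x = 0
        rw [mul_smul, mul_smul]
        exact hn
    exact ⟨h, hq, Module.FinitePresentation.of_equiv (LinearEquiv.ofBijective _ hbij)⟩
  choose h hh hfph using key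
  refine Module.FinitePresentation.of_localizationSpan (Set.range h) ?_ ?_
  · by_contra hne
    obtain ⟨m, hm, hle⟩ := Ideal.exists_le_maximal _ hne
    exact hh ⟨m, hm.isPrime⟩ (hle (Ideal.subset_span ⟨_, rfl⟩))
  · rintro ⟨_, q, rfl⟩
    exact hfph q

end Groth.Agent.S1239
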