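-- statement FlatMor.GrothFrozen.S1241 (Groth/Statements/S1241.lean; the theorem FlatMor.projective_after_etale_cover_of_fiber_of_flat_fp);
import Groth.Statements.S1241
import Groth.Agent.H7Flat.Chain.CoverProjective

set_option autoImplicit false
universe u
open FlatMor

namespace Groth.Agent.S1241

open TensorProduct in
/-- Ring form, X = Spec S and S = Spec R affine: let S be a finitely presented R-algebra, N a finitely
presented S-module and p a prime of R such that N_q is flat over R for every prime q of S over p.
Then there are an étale R-algebra R' with a prime p' over p having the same residue field, and an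
étale S-algebra S' with a compatible R'-algebra structure, such that every prime of S over p is the
contraction of a prime of S' and S' ⊗_S N is a projective R'-module. -/
theorem result {R S : Type u} [CommRing R] [CommRing S] [Algebra R S] [Algebra.FinitePresentation R S]
    (N : Type u) [AddCommGroup N] [Module S N] [Module R N] [IsScalarTower R S N] [Module.FinitePresentation S N]
    (p : Ideal R) [p.IsPrime] (hflat : ∀ (q : Ideal S) [q.IsPrime], q.LiesOver p → FlatCA.FlatAt R q N) :
    ∃ (R' S' : Type u) (_ : CommRing R') (_ : CommRing S') (_ : Algebra R R') (_ : Algebra S S') (_ : Algebra R' S')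
      (_ : Algebra R S') (_ : IsScalarTower R R' S') (_ : IsScalarTower R S S')
      (p' : Ideal R') (_ : p'.IsPrime),
      FlatCA.IsEtaleNhd R R' p p' ∧ Algebra.Etale S S' ∧
      (∀ (q : Ideal S) [q.IsPrime], q.LiesOver p → ∃ q' : Ideal S', q'.IsPrime ∧ q'.comap (algebraMap S S') = q) ∧
      Module.Projective R' (RestrictScalars R' S' (S' ⊗[S] N)) := by
  exact H7Flat.Chain.exists_cover_projective N p hflat

end Groth.Agent.S1241
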