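import Groth.Statements.S12417


set_option autoImplicit false
universe u
open CategoryTheory AlgebraicGeometry
open Props

namespace Groth.Agent.S12417
open TopologicalSpace

/-- Let X be a quasi-compact quasi-separated scheme and P a property of opens of X such that (a) P holds
for every affine open, and (b) whenever a quasi-compact open U has a finite affine open covering U =
V_1 ∪ … ∪ V_n with P holding for every intersection V_i ∩ V_j, P holds for U. Then P holds for every
quasi-compact open of X. -/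
theorem result (X : Scheme.{u}) [CompactSpace X] [QuasiSeparatedSpace X]
    (P : X.Opens → Prop) (ha : ∀ U : X.Opens, IsAffineOpen U → P U)
    (hb : ∀ (U : X.Opens) (n : ℕ) (V : Fin n → X.Opens), IsCompact (U : Set X) →
      (∀ i, IsAffineOpen (V i)) → ⨆ i, V i = U → (∀ i j, P (V i ⊓ V j)) → P U)
    (U : X.Opens) (hU : IsCompact (U : Set X)) : P U := by
  -- compact opens inside an affine open
  have hsmall : ∀ (W A : X.Opens), IsAffineOpen A → W ≤ A → IsCompact (W : Set X) → P W := by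
    intro W A hA hWA hW
    let 𝒮 : Set X.Opens := {V : X.Opens | V ≤ W ∧ ∃ g : Γ(X, A), V = X.basicOpen g} ∪
        {V : X.Opens | IsAffineOpen V ∧ ¬ V ≤ W}
    have h𝒮 : Opens.IsBasis 𝒮 := by
      refine Opens.isBasis_iff_nbhd.mpr fun {O x} hx ↦ ?_
      by_cases hxW : x ∈ W
      · obtain ⟨g, hgle, hxg⟩ :=
          hA.exists_basicOpen_le (V := O ⊓ W) ⟨x, hx, hxW⟩ (hWA hxW)
        exact ⟨X.basicOpen g, Or.inl ⟨hgle.trans inf_le_right, g, rfl⟩, hxg,
          hgle.trans inf_le_left⟩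
      · obtain ⟨V, hV, hxV, hVO⟩ := Opens.isBasis_iff_nbhd.mp X.isBasis_affineOpens hx
        exact ⟨V, Or.inr ⟨hV, fun h ↦ hxW (h hxV)⟩, hxV, hVO⟩
    obtain ⟨s, hsA, hsf, hW'⟩ := h𝒮.exists_finite_of_isCompact hW
    have : Finite s := hsf
    obtain ⟨n, ⟨e⟩⟩ := Finite.exists_equiv_fin s
    have hs : ∀ V : s, ∃ g : Γ(X, A), (V : X.Opens) = X.basicOpen g := by
      rintro ⟨V, hV⟩
      rcases hsA hV with ⟨-, g, hg⟩ | ⟨-, hV'⟩
      · exact ⟨g, hg⟩
      · exact absurd ((le_sSup hV).trans hW'.ge) hV'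
    choose g hg using hs
    refine hb W n (fun i ↦ (e.symm i : X.Opens)) hW
      (fun i ↦ hg (e.symm i) ▸ hA.basicOpen _) ?_ fun i j ↦ ha _ ?_
    · rw [hW', sSup_eq_iSup']
      exact e.symm.iSup_congr fun _ ↦ rfl
    · rw [hg (e.symm i), hg (e.symm j), ← Scheme.basicOpen_mul]
      exact hA.basicOpen _
  obtain ⟨s, hsA, hsf, hU'⟩ := X.isBasis_affineOpens.exists_finite_of_isCompact hU
  have : Finite s := hsf
  obtain ⟨n, ⟨e⟩⟩ := Finite.exists_equiv_fin s
  refine hb U n (fun i ↦ (e.symm i : X.Opens)) hU (fun i ↦ hsA (e.symm i).2) ?_ fun i j ↦ ?_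
  · rw [hU', sSup_eq_iSup']
    exact e.symm.iSup_congr fun _ ↦ rfl
  · exact hsmall _ _ (hsA (e.symm i).2) inf_le_left
      (QuasiSeparatedSpace.inter_isCompact _ _ (e.symm i).1.2 (hsA (e.symm i).2).isCompact
        (e.symm j).1.2 (hsA (e.symm j).2).isCompact)

end Groth.Agent.S12417
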