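import Groth.Statements.S12418
import Mathlib.Algebra.Order.Ring.Star
import Mathlib.Combinatorics.Nullstellensatz
import Mathlib.Data.Rat.Star
import Mathlib.FieldTheory.Finite.Basic
import Mathlib.LinearAlgebra.BilinearForm.Properties
import Mathlib.RepresentationTheory.Invariants
import Mathlib.RingTheory.Flat.TorsionFree
import Mathlib.RingTheory.Henselian
import Mathlib.RingTheory.Ideal.AssociatedPrime.Basic
import Mathlib.RingTheory.RegularLocalRing.Defs
import Mathlib.RingTheory.SimpleRing.Principal

set_option autoImplicit false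
universe u
open CAlg

namespace Groth.Agent.S12418

/-- Let R be a Noetherian ring and b ∈ R; for x outside the ideal (b) put I_x = ((b) : x), the ideal of
r with r x ∈ (b). If s ∉ (b) and I_s is maximal among the I_x (x ∉ (b)), then I_s is prime. -/
theorem result {R : Type u} [CommRing R] [IsNoetherianRing R]
    (b s : R) (hs : s ∉ Ideal.span {b})
    (hmax : ∀ x : R, x ∉ Ideal.span {b} →
      Submodule.colon (Ideal.span {b}) (Ideal.span {s}) ≤ Submodule.colon (Ideal.span {b}) (Ideal.span {x}) →
      Submodule.colon (Ideal.span {b}) (Ideal.span {x}) = Submodule.colon (Ideal.span {b}) (Ideal.span {s})) :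
    (Submodule.colon (Ideal.span {b}) (Ideal.span ({s} : Set R))).IsPrime := by
  have hmem : ∀ r x : R, r ∈ Submodule.colon (Ideal.span {b}) (Ideal.span ({x} : Set R)) ↔ r * x ∈ Ideal.span {b} := by
    intro r x
    rw [Submodule.mem_colon]
    refine ⟨fun h => by simpa using h x (Ideal.mem_span_singleton_self x), fun h y hy => ?_⟩
    obtain ⟨c, rfl⟩ := Ideal.mem_span_singleton'.mp hy
    rw [smul_eq_mul, show r * (c * x) = c * (r * x) by ring]
    exact Ideal.mul_mem_left _ c h
  refine ⟨fun h => hs ?_, fun {x y} hxy => ?_⟩
  · have := (hmem 1 s).mp (h ▸ trivial)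
    simpa using this
  · rw [hmem] at hxy
    by_cases hys : y * s ∈ Ideal.span {b}
    · exact Or.inr ((hmem y s).mpr hys)
    · left
      rw [← hmax (y * s) hys (fun r hr => (hmem r _).mpr (by
        rw [show r * (y * s) = y * (r * s) by ring]
        exact Ideal.mul_mem_left _ y ((hmem r s).mp hr))), hmem, ← mul_assoc]
      exact hxy

end Groth.Agent.S12418
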