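import Groth.Statements.S12419
import Groth.Agent.S0398
import Groth.Agent.H24Flat.Complete

set_option autoImplicit false
universe u
open TensorProduct
open CAlg

namespace Groth.Agent.S12419

/-- Let A → B be a local homomorphism of Noetherian local rings, m the maximal ideal of A, and φ : A →
A' a ring homomorphism to a semi-local Noetherian ring A' with Jacobson radical r', such that
φ⁻¹(r') = m and such that every power m^n contains φ⁻¹(r'^N) for some N. Then B is flat over A if
and only if A' ⊗_A B is flat over A'. (Given φ⁻¹(r') = m, the condition on powers says that the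
m-adic topology of A is induced by the r'-adic topology of A', equivalently that the induced
homomorphism of adic completions is injective, which is how the published statement phrases this
hypothesis.) -/
theorem result (A B A' : Type u) [CommRing A] [CommRing B]
    [CommRing A'] [IsNoetherianRing A] [IsLocalRing A] [IsNoetherianRing B] [IsLocalRing B]
    [Algebra A B] [IsLocalHom (algebraMap A B)] [IsNoetherianRing A'] [Finite (MaximalSpectrum A')]
    [Algebra A A']
    (hrad : (Ideal.jacobson (⊥ : Ideal A')).comap (algebraMap A A') = IsLocalRing.maximalIdeal A)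
    (htop : ∀ n : ℕ, ∃ N : ℕ,
      ((Ideal.jacobson (⊥ : Ideal A')) ^ N).comap (algebraMap A A') ≤ (IsLocalRing.maximalIdeal A) ^ n) :
    Module.Flat A B ↔ Module.Flat A' (A' ⊗[A] B) := by
  classical
  constructor
  · intro h
    haveI := h
    infer_instance
  intro h
  haveI := h
  refine Groth.Agent.H24Flat.flat_of_flat_quotient_pow (S := B) (IsLocalRing.maximalIdeal A) ?_ fun n => ?_
  · rw [IsLocalRing.jacobson_eq_maximalIdeal (⊥ : Ideal B) bot_ne_top]
    exact IsLocalRing.map_maximalIdeal_le (algebraMap A B)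
  set J := Ideal.jacobson (⊥ : Ideal A') with hJ
  obtain ⟨N₀, hN₀⟩ := htop n
  set N := N₀ + 1 with hN
  have hNI : (J ^ N).comap (algebraMap A A') ≤ IsLocalRing.maximalIdeal A ^ n :=
    (Ideal.comap_mono (Ideal.pow_le_pow_right (Nat.le_succ N₀))).trans hN₀
  generalize hI : (J ^ N).comap (algebraMap A A') = I at hNI
  have hIm : IsLocalRing.maximalIdeal A ^ N ≤ I := by
    rw [← hI, ← hrad, ← Ideal.map_le_iff_le_comap, Ideal.map_pow]
    exact Ideal.pow_right_mono Ideal.map_comap_le N
  have hIm' : I ≤ IsLocalRing.maximalIdeal A := by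
    rw [← hI, ← hrad]; exact Ideal.comap_mono (Ideal.pow_le_self (by omega))
  haveI : Nontrivial (A ⧸ I) := Ideal.Quotient.nontrivial_iff.mpr fun h => (IsLocalRing.maximalIdeal.isMaximal A).ne_top (top_unique (h ▸ hIm'))
  haveI : IsLocalRing (A ⧸ I) := IsLocalRing.of_surjective' (Ideal.Quotient.mk I) Ideal.Quotient.mk_surjective
  haveI : IsArtinianRing (A ⧸ I) := by
    rw [isArtinianRing_iff_isNilpotent_maximalIdeal]
    refine ⟨N, ?_⟩
    rw [← IsLocalRing.map_maximalIdeal_of_surjective (Ideal.Quotient.mk I) Ideal.Quotient.mk_surjective, ← Ideal.map_pow]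
    exact Ideal.map_eq_bot_iff_le_ker _ |>.mpr (hIm.trans Ideal.mk_ker.ge)
  letI : Algebra (A ⧸ I) (A' ⧸ J ^ N) := (Ideal.quotientMap (J ^ N) (algebraMap A A') hI.ge).toAlgebra
  haveI : IsScalarTower A (A ⧸ I) (A' ⧸ J ^ N) := IsScalarTower.of_algebraMap_eq fun a => rfl
  have hinj : Function.Injective (algebraMap (A ⧸ I) (A' ⧸ J ^ N)) :=
    Ideal.quotientMap_injective' (H := hI.ge) hI.le
  haveI : Module.Flat (A' ⧸ J ^ N) ((A' ⧸ J ^ N) ⊗[A] B) :=
    Module.Flat.of_linearEquiv (TensorProduct.AlgebraTensorModule.cancelBaseChange A A' (A' ⧸ J ^ N) (A' ⧸ J ^ N) B).symm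
  haveI : Module.Flat (A' ⧸ J ^ N) ((A' ⧸ J ^ N) ⊗[A ⧸ I] ((A ⧸ I) ⊗[A] B)) :=
    Module.Flat.of_linearEquiv (TensorProduct.AlgebraTensorModule.cancelBaseChange A (A ⧸ I) (A' ⧸ J ^ N) (A' ⧸ J ^ N) B)
  haveI : Module.Flat (A ⧸ I) ((A ⧸ I) ⊗[A] B) := Groth.Agent.S0398.result hinj
  letI : Algebra (A ⧸ I) (A ⧸ IsLocalRing.maximalIdeal A ^ n) := (Ideal.Quotient.factor hNI).toAlgebra
  haveI : IsScalarTower A (A ⧸ I) (A ⧸ IsLocalRing.maximalIdeal A ^ n) := IsScalarTower.of_algebraMap_eq fun a => rfl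
  exact Module.Flat.of_linearEquiv
    (TensorProduct.AlgebraTensorModule.cancelBaseChange A (A ⧸ I) (A ⧸ IsLocalRing.maximalIdeal A ^ n) (A ⧸ IsLocalRing.maximalIdeal A ^ n) B).symm

end Groth.Agent.S12419
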