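import Groth.Statements.S12420
import Groth.Agent.H3CAlg.ChevalleyEssFin

set_option autoImplicit false
universe u
open CAlg

namespace Groth.Agent.S12420

/-- Let φ : A → A' be an injective local homomorphism of Noetherian local rings, essentially of finite
type, such that the adic completion of A at its maximal ideal m is an integral domain. Then every
power m^j contains φ⁻¹(m'^n) for some n, m' the maximal ideal of A': the m-adic topology of A is
induced from the m'-adic topology of A'. (Equivalently, the induced homomorphism of completions Â →
Â' is injective, which is how the published statement phrases the conclusion; the inclusion of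
ideals is what its proof establishes.) -/
theorem result (A A' : Type u) [CommRing A]
    [CommRing A'] [IsNoetherianRing A] [IsNoetherianRing A'] [IsLocalRing A] [IsLocalRing A'] [Algebra A A']
    (hinj : Function.Injective (algebraMap A A')) [IsLocalHom (algebraMap A A')] [Algebra.EssFiniteType A A']
    [IsDomain (AdicCompletion (IsLocalRing.maximalIdeal A) A)] (j : ℕ) :
    ∃ n : ℕ, ((IsLocalRing.maximalIdeal A') ^ n).comap (algebraMap A A') ≤ (IsLocalRing.maximalIdeal A) ^ j := by
  exact Groth.Agent.H3CAlg.ChevalleyEssFin.exists_comap_pow_le A A' hinj j

end Groth.Agent.S12420
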