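import Groth.Statements.S12421

set_option autoImplicit false
universe u
open TensorProduct
open Desc

namespace Groth.Agent.S12421

/-- Let R → R' be faithfully flat and M an R-module. With δ¹ : M ⊗ R' → M ⊗ (R' ⊗ R'), m ⊗ r ↦ m ⊗ (1 ⊗
r) − m ⊗ (r ⊗ 1), and δ² : M ⊗ (R' ⊗ R') → M ⊗ (R' ⊗ (R' ⊗ R')), m ⊗ x ↦ m ⊗ (1 ⊗ x) − m ⊗ (ins₁ x)
+ m ⊗ (ins₂ x), where ins₁ (r₁ ⊗ r₂) = r₁ ⊗ (1 ⊗ r₂) and ins₂ (r₁ ⊗ r₂) = r₁ ⊗ (r₂ ⊗ 1), the
sequence M ⊗ R' → M ⊗ R'^{⊗2} → M ⊗ R'^{⊗3} is exact: the kernel of δ² is the image of δ¹. (The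
published statement asserts exactness of the whole complex; this row states exactness at M ⊗ R′ ⊗ R′
only.) -/
theorem result (R R' : Type u) [CommRing R] [CommRing R'] [Algebra R R']
    [Module.FaithfullyFlat R R'] (M : Type u) [AddCommGroup M] [Module R M] :
    Function.Exact
      (LinearMap.lTensor M (Algebra.TensorProduct.includeRight : R' →ₐ[R] R' ⊗[R] R').toLinearMap -
        LinearMap.lTensor M
          (Algebra.TensorProduct.includeLeft : R' →ₐ[R] R' ⊗[R] R').toLinearMap)
      (LinearMap.lTensor M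
          (Algebra.TensorProduct.includeRight : R' ⊗[R] R' →ₐ[R] R' ⊗[R] (R' ⊗[R] R')).toLinearMap -
        LinearMap.lTensor M
          (Algebra.TensorProduct.map (AlgHom.id R R')
            (Algebra.TensorProduct.includeRight : R' →ₐ[R] R' ⊗[R] R')).toLinearMap +
        LinearMap.lTensor M
          (Algebra.TensorProduct.map (AlgHom.id R R')
            (Algebra.TensorProduct.includeLeft : R' →ₐ[R] R' ⊗[R] R')).toLinearMap) := by
  set d1 := LinearMap.lTensor M (Algebra.TensorProduct.includeRight : R' →ₐ[R] R' ⊗[R] R').toLinearMap -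
      LinearMap.lTensor M (Algebra.TensorProduct.includeLeft : R' →ₐ[R] R' ⊗[R] R').toLinearMap with hd1
  set d2 := LinearMap.lTensor M
      (Algebra.TensorProduct.includeRight : R' ⊗[R] R' →ₐ[R] R' ⊗[R] (R' ⊗[R] R')).toLinearMap -
      LinearMap.lTensor M (Algebra.TensorProduct.map (AlgHom.id R R')
        (Algebra.TensorProduct.includeRight : R' →ₐ[R] R' ⊗[R] R')).toLinearMap +
      LinearMap.lTensor M (Algebra.TensorProduct.map (AlgHom.id R R')
        (Algebra.TensorProduct.includeLeft : R' →ₐ[R] R' ⊗[R] R')).toLinearMap with hd2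
  have h0 : d2 ∘ₗ d1 = 0 := by
    apply TensorProduct.ext'
    intro m b
    simp [d1, d2, TensorProduct.tmul_sub]
  apply Module.FaithfullyFlat.lTensor_reflects_exact R R'
  let h2 : R' ⊗[R] (M ⊗[R] (R' ⊗[R] R')) →ₗ[R] R' ⊗[R] (M ⊗[R] R') :=
    TensorProduct.lift (LinearMap.flip ((LinearMap.flip (LinearMap.llcomp R _ _ _)
      (TensorProduct.leftComm R M R' R').toLinearMap).comp
      (Algebra.lsmul R R (R' ⊗[R] (M ⊗[R] R'))).toLinearMap)).flip
  let h3 : R' ⊗[R] (M ⊗[R] (R' ⊗[R] (R' ⊗[R] R'))) →ₗ[R] R' ⊗[R] (M ⊗[R] (R' ⊗[R] R')) :=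
    TensorProduct.lift (LinearMap.flip ((LinearMap.flip (LinearMap.llcomp R _ _ _)
      (TensorProduct.leftComm R M R' (R' ⊗[R] R')).toLinearMap).comp
      (Algebra.lsmul R R (R' ⊗[R] (M ⊗[R] (R' ⊗[R] R')))).toLinearMap)).flip
  intro z
  constructor
  · intro hz
    refine ⟨h2 z, ?_⟩
    have key : ∀ w, h3 (LinearMap.lTensor R' d2 w) = w - LinearMap.lTensor R' d1 (h2 w) := by
      intro w
      induction w with
      | zero => simp
      | add x y hx hy => simp only [map_add, hx, hy]; abel
      | tmul a y =>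
        induction y with
        | zero => simp
        | add x y hx hy => simp only [TensorProduct.tmul_add, map_add, hx, hy]; abel
        | tmul m x =>
          induction x with
          | zero => simp
          | add x y hx hy => simp only [TensorProduct.tmul_add, map_add, hx, hy]; abel
          | tmul b c =>
            simp [d1, d2, h2, h3, TensorProduct.tmul_sub, TensorProduct.tmul_add,
              TensorProduct.smul_tmul']
            abel
    have := key z
    rw [hz, map_zero] at this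
    exact (sub_eq_zero.mp this.symm).symm
  · rintro ⟨w, rfl⟩
    rw [← LinearMap.comp_apply, ← LinearMap.lTensor_comp, h0, LinearMap.lTensor_zero,
      LinearMap.zero_apply]

end Groth.Agent.S12421
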