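import Groth.Statements.S12422
import Groth.Agent.S10909
import Groth.Agent.H17.PrinOmega
import Groth.Agent.H8Props.FinLocFree.Sheaf
import Groth.Agent.H29Omega.SheafFinite
import Groth.Agent.H8Props.FieldDimScheme
import Groth.Agent.H4Depth.Regular

set_option autoImplicit false
universe u
open CategoryTheory AlgebraicGeometry
open TopologicalSpace TensorProduct

namespace Groth.Agent.S12422

open Groth.Agent CategoryTheory AlgebraicGeometry

theorem isFinLocFreeOfRank_congr {X : Scheme.{u}} {M N : X.Modules} (e : M ≅ N) {n : ℕ}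
    (h : FlatMod.IsFinLocFreeOfRank n M) : FlatMod.IsFinLocFreeOfRank n N := fun x => by
  obtain ⟨U, hx, ⟨f⟩⟩ := h x
  exact ⟨U, hx, ⟨((Scheme.Modules.restrictFunctor U.ι).mapIso e).symm ≪≫ f⟩⟩

section

variable {k : Type u} [Field k] [IsAlgClosed k] {X : Scheme.{u}} [IrreducibleSpace X]
  (f : X ⟶ Spec (CommRingCat.of k)) [LocallyOfFiniteType f]

theorem nilradical_isPrime {U : X.Opens} (hU : IsAffineOpen U) (hne : (U : Set X).Nonempty) :
    (nilradical Γ(X, U)).IsPrime := by
  haveI : Nonempty (PrimeSpectrum Γ(X, U)) := ⟨hU.primeIdealOf ⟨hne.some, hne.some_mem⟩⟩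
  haveI : IrreducibleSpace (PrimeSpectrum Γ(X, U)) :=
    { toPreirreducibleSpace := hU.fromSpec.isOpenEmbedding.preirreducibleSpace
      toNonempty := inferInstance }
  exact PrimeSpectrum.irreducibleSpace_iff_isPrime_nilradical.mp inferInstance

include f in
/-- A nonempty affine open of an irreducible variety has full dimension. -/
theorem dim_affine {U : X.Opens} (hU : IsAffineOpen U) (hne : (U : Set X).Nonempty) :
    ringKrullDim Γ(X, U) = topologicalKrullDim X := by
  let A := Γ(X, U)
  letI : Algebra k A :=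
    ((f.appLE ⊤ U le_top).hom.comp (Scheme.ΓSpecIso (CommRingCat.of k)).inv.hom).toAlgebra
  let j : Spec (CommRingCat.of A) ⟶ X := hU.fromSpec
  let p : PrimeSpectrum A := ⟨nilradical A, nilradical_isPrime hU hne⟩
  have hp : closure ({j p} : Set X) = Set.univ := by
    have h1 : (U : Set X) ⊆ closure {j p} := by
      intro x hx
      have h2 : hU.primeIdealOf ⟨x, hx⟩ ∈ closure ({p} : Set (PrimeSpectrum A)) := by
        rw [PrimeSpectrum.closure_singleton]
        exact nilradical_le_prime _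
      have h3 : j (hU.primeIdealOf ⟨x, hx⟩) ∈ closure ({j p} : Set X) :=
        closure_mono (Set.image_singleton (f := ⇑j) (a := p)).subset (image_closure_subset_closure_image j.continuous ⟨_, h2, rfl⟩)
      rwa [show j (hU.primeIdealOf ⟨x, hx⟩) = x from hU.fromSpec_primeIdealOf ⟨x, hx⟩] at h3
    exact Set.eq_univ_of_univ_subset ((U.2.dense hne).closure_eq.symm.subset.trans
      (closure_minimal h1 isClosed_closure))
  have h4 : H8Props.FieldDim.cdim (j p) = topologicalKrullDim X := by
    rw [H8Props.FieldDim.cdim, hp]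
    exact (IsHomeomorph.topologicalKrullDim_eq _ (Homeomorph.Set.univ X).isHomeomorph)
  rw [← h4, H8Props.FieldDim.cdim_eq_chart f j p]
  rw [← PrimeSpectrum.topologicalKrullDim_eq_ringKrullDim, ← PrimeSpectrum.topologicalKrullDim_eq_ringKrullDim]
  have hc := PrimeSpectrum.isClosedEmbedding_comap_of_surjective (A ⧸ p.asIdeal) (Ideal.Quotient.mk p.asIdeal)
    Ideal.Quotient.mk_surjective
  let φ := hc.isEmbedding.toHomeomorphOfSurjective (fun q => by
    have hr := range_comap_of_surjective (A ⧸ p.asIdeal) (Ideal.Quotient.mk p.asIdeal)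
      Ideal.Quotient.mk_surjective
    have : q ∈ Set.range (PrimeSpectrum.comap (Ideal.Quotient.mk p.asIdeal)) := by
      rw [hr, Ideal.mk_ker]
      exact nilradical_le_prime _
    exact this)
  exact IsHomeomorph.topologicalKrullDim_eq φ.symm φ.symm.isHomeomorph

/-- The criterion on one affine open, for a locally free basis of differentials. -/
theorem affine_iff [QuasiSeparated f] {U : X.Opens} (hU : IsAffineOpen U) (hne : (U : Set X).Nonempty)
    {n : ℕ} (hn : topologicalKrullDim X = (n : WithBot ℕ∞)) :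
    (IsReduced Γ(X, U) ∧ IsRegularRing Γ(X, U)) ↔
      (Module.Projective Γ(X, U) Γ(Omega.sheaf f, U) ∧
        ∀ (P : Ideal Γ(X, U)) [P.IsPrime],
          Module.finrank P.ResidueField (P.ResidueField ⊗[Γ(X, U)] Γ(Omega.sheaf f, U)) = n) := by
  let eK := (Scheme.ΓSpecIso (CommRingCat.of k)).commRingCatIsoToRingEquiv
  have hfld : IsField Γ(Spec (CommRingCat.of k), ⊤) := MulEquiv.isField (Field.toIsField k) eK.toMulEquiv
  letI := hfld.toField
  haveI : IsAlgClosed Γ(Spec (CommRingCat.of k), ⊤) := IsAlgClosed.of_ringEquiv k _ eK.symm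
  have hft : (f.appLE ⊤ U le_top).hom.FiniteType := f.finiteType_appLE (isAffineOpen_top _) hU le_top
  algebraize [(f.appLE ⊤ U le_top).hom]
  have := H17.OmegaLocal.isIso_toSect f hU (isAffineOpen_top _) (le_top : U ≤ f ⁻¹ᵁ ⊤)
  let e : (Ω[Γ(X, U)⁄Γ(Spec (CommRingCat.of k), ⊤)]) ≃ₗ[Γ(X, U)] Γ(Omega.sheaf f, U) :=
    (asIso (OmAff.toSect f ⊤ U le_top)).toLinearEquiv
  have h := Groth.Agent.S10909.result Γ(Spec (CommRingCat.of k), ⊤) Γ(X, U) (nilradical_isPrime hU hne) n
    ((dim_affine f hU hne).trans hn)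
  refine h.trans (and_congr ⟨fun hp => ?_, fun hp => ?_⟩ (forall_congr' fun P => forall_congr' fun hP => ?_))
  · exact Module.Projective.of_equiv e
  · exact Module.Projective.of_equiv e.symm
  · haveI := hP
    rw [(e.baseChange (A := P.ResidueField)).finrank_eq]

end

theorem finrank_fibre_of_basis {A M : Type u} [CommRing A] [AddCommGroup M] [Module A M] {m : ℕ}
    (b : Module.Basis (Fin m) A M) (P : Ideal A) [P.IsPrime] :
    Module.finrank P.ResidueField (P.ResidueField ⊗[A] M) = m := by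
  rw [Module.finrank_eq_card_basis (b.baseChange P.ResidueField), Fintype.card_fin]

theorem main {k : Type u} [Field k] [IsAlgClosed k] {n : ℕ} {X : Scheme.{u}} [IrreducibleSpace X]
    (f : X ⟶ Spec (CommRingCat.of k)) [IsSeparated f] [LocallyOfFiniteType f]
    (hn : topologicalKrullDim X = (n : WithBot ℕ∞)) (Ω : X.Modules) (d : OmegaSh.Der f Ω)
    (hd : OmegaSh.IsUniversal d) :
    FlatMod.IsFinLocFreeOfRank n Ω ↔ ∀ x : X, IsRegularLocalRing ↑(X.presheaf.stalk x) := by
  obtain ⟨α, hα, -⟩ := hd _ (OmegaSh.dOmega f)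
  obtain ⟨β, hβ, -⟩ := H17.PrinOmega.isUniversal_dOmega f Ω d
  have hαβ : α ≫ β = 𝟙 Ω := by
    obtain ⟨γ, -, huniq⟩ := hd Ω d
    rw [huniq (α ≫ β) ?_, huniq (𝟙 Ω) ?_]
    · ext U s; rfl
    · refine PresheafOfModules.Derivation.ext (funext fun U => AddMonoidHom.ext fun s => ?_)
      show β.val.app U (α.val.app U (d.d s)) = d.d s
      rw [show α.val.app U (d.d s) = (OmegaSh.dOmega f).d s from congr($(congrArg (fun D : PresheafOfModules.Derivation _ _ => D.d) hα) s)]
      exact congr($(congrArg (fun D : PresheafOfModules.Derivation _ _ => D.d) hβ) s)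
  have hβα : β ≫ α = 𝟙 (Omega.sheaf f) := by
    obtain ⟨γ, -, huniq⟩ := H17.PrinOmega.isUniversal_dOmega f (Omega.sheaf f) (OmegaSh.dOmega f)
    rw [huniq (β ≫ α) ?_, huniq (𝟙 (Omega.sheaf f)) ?_]
    · ext U s; rfl
    · refine PresheafOfModules.Derivation.ext (funext fun U => AddMonoidHom.ext fun s => ?_)
      show α.val.app U (β.val.app U ((OmegaSh.dOmega f).d s)) = (OmegaSh.dOmega f).d s
      rw [show β.val.app U ((OmegaSh.dOmega f).d s) = d.d s from congr($(congrArg (fun D : PresheafOfModules.Derivation _ _ => D.d) hβ) s)]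
      exact congr($(congrArg (fun D : PresheafOfModules.Derivation _ _ => D.d) hα) s)
  let e : Ω ≅ Omega.sheaf f := ⟨α, β, hαβ, hβα⟩
  refine ⟨fun h x => ?_, fun h => isFinLocFreeOfRank_congr e.symm ?_⟩
  · obtain ⟨W, hx, ⟨φ⟩⟩ := isFinLocFreeOfRank_congr e h x
    obtain ⟨U, hU, hxU, hUW⟩ := exists_isAffineOpen_mem_and_subset (x := x) (U := W) hx
    obtain ⟨b⟩ := H8Props.FinLocFree.exists_basis_of_chart (Omega.sheaf f) φ hUW
    haveI := ((affine_iff f hU ⟨x, hxU⟩ hn).2
      ⟨Module.Projective.of_basis b, fun P _ => finrank_fibre_of_basis b P⟩).2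
    letI := X.presheaf.algebra_section_stalk (⟨x, hxU⟩ : U)
    haveI := hU.isLocalization_stalk ⟨x, hxU⟩
    exact IsRegularLocalRing.of_ringEquiv
      (IsLocalization.algEquiv (hU.primeIdealOf ⟨x, hxU⟩).asIdeal.primeCompl
        (Localization.AtPrime (hU.primeIdealOf ⟨x, hxU⟩).asIdeal) (X.presheaf.stalk x)).toRingEquiv
  · haveI : ∀ x : X, _root_.IsReduced (X.presheaf.stalk x) := fun x => by
      haveI := h x
      haveI := H4Depth.isDomain_of_isRegularLocalRing (X.presheaf.stalk x)
      infer_instance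
    haveI : AlgebraicGeometry.IsReduced X := isReduced_of_isReduced_stalk X
    haveI : IsLocallyNoetherian X := LocallyOfFiniteType.isLocallyNoetherian f
    have hreg : ∀ U : X.Opens, IsAffineOpen U → IsRegularRing Γ(X, U) := fun U hU => by
      haveI : IsNoetherianRing Γ(X, U) := IsLocallyNoetherian.component_noetherian ⟨U, hU⟩
      refine ⟨fun P hP => ?_⟩
      have hmem : hU.fromSpec ⟨P, hP⟩ ∈ U := hU.range_fromSpec.le ⟨_, rfl⟩
      letI := X.presheaf.algebra_section_stalk (⟨hU.fromSpec ⟨P, hP⟩, hmem⟩ : U)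
      haveI : IsLocalization P.primeCompl (X.presheaf.stalk (hU.fromSpec ⟨P, hP⟩)) :=
        hU.isLocalization_stalk' ⟨P, hP⟩ hmem
      haveI := h (hU.fromSpec ⟨P, hP⟩)
      exact IsRegularLocalRing.of_ringEquiv
        (IsLocalization.algEquiv P.primeCompl (X.presheaf.stalk (hU.fromSpec ⟨P, hP⟩))
          (Localization.AtPrime P)).toRingEquiv
    have hflf : FlatMod.IsFinLocFree (Omega.sheaf f) := by
      refine H8Props.FinLocFree.isFinLocFree_of_sections _ (H29Omega.isQCoh_sheaf f) fun x => ?_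
      obtain ⟨U, hU, hxU, -⟩ := exists_isAffineOpen_mem_and_subset (x := x) (U := ⊤) trivial
      haveI := H29Omega.finite_sections_sheaf f hU (isAffineOpen_top _) le_top
      haveI := ((affine_iff f hU ⟨x, hxU⟩ hn).1 ⟨inferInstance, hreg U hU⟩).1
      exact ⟨U, hU, hxU, Module.finitePresentation_of_projective _ _, inferInstance⟩
    intro x
    obtain ⟨W, m, hx, ⟨φ⟩⟩ := hflf x
    obtain ⟨U, hU, hxU, hUW⟩ := exists_isAffineOpen_mem_and_subset (x := x) (U := W) hx
    obtain ⟨b⟩ := H8Props.FinLocFree.exists_basis_of_chart (Omega.sheaf f) φ hUW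
    have h1 := ((affine_iff f hU ⟨x, hxU⟩ hn).1 ⟨inferInstance, hreg U hU⟩).2
      (hU.primeIdealOf ⟨x, hxU⟩).asIdeal
    rw [finrank_fibre_of_basis b] at h1
    exact ⟨W, hx, ⟨h1 ▸ φ⟩⟩


/-- Let k be an algebraically closed field, X an irreducible scheme which is separated and of finite
type over k, n = dim X, and (Ω, d) a sheaf of relative differentials of X over k, i.e. d : O_X → Ω a
universal k-derivation. Then Ω is locally free of rank n if and only if every local ring of X is
regular (X is a nonsingular variety over k). -/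
theorem result (k : Type u) [Field k] [IsAlgClosed k] (n : ℕ)
    (X : Scheme.{u}) [X.Over (Spec (CommRingCat.of k))] [IrreducibleSpace ↥X]
    [IsSeparated (X ↘ (Spec (CommRingCat.of k)))] [LocallyOfFiniteType (X ↘ (Spec (CommRingCat.of k)))]
    [QuasiCompact (X ↘ (Spec (CommRingCat.of k)))]
    (hn : topologicalKrullDim ↥X = (n : WithBot ℕ∞))
    (Ω : X.Modules) (d : OmegaSh.Der (X ↘ (Spec (CommRingCat.of k))) Ω) (hd : OmegaSh.IsUniversal d) :
    FlatMod.IsFinLocFreeOfRank n Ω ↔ ∀ x : ↥X, IsRegularLocalRing ↑(X.presheaf.stalk x) := by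
  exact main (X ↘ Spec (CommRingCat.of k)) hn Ω d hd

end Groth.Agent.S12422
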