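import Groth.Statements.S12423
import Groth.Agent.H7SmoothCrit.Subvariety
import Groth.Agent.H29RR.SmoothRegular
import Groth.Agent.H27CurveDiv.RelDim
import Groth.Agent.H17.FLI.AdjunctionGen
import Groth.Agent.H17.PrinOmega
import Groth.Agent.H29Omega.DerLocal
import Groth.Agent.S5020
import Groth.Agent.H7Lim.ModLocFree
import Groth.Agent.H28RR.Omega
import Groth.Agent.H22Alg.GeomRegularAt
import Groth.Agent.H4Depth.Regular
-- import your own Groth.Agent.* helpers here

set_option autoImplicit false
universe u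
open CategoryTheory CategoryTheory.Limits AlgebraicGeometry
open NonsingVar

namespace Groth.Agent.S12423

/-- Let k be an algebraically closed field, X a nonsingular variety over k (integral, separated and of
finite type over k, all local rings regular) of dimension n, i : Y → X an irreducible closed
subscheme of dimension q with ideal sheaf I, (Ω_X, d_X) and (Ω_Y, d_Y) sheaves of differentials of X
and Y over k (universal derivations), and φ : I/I² → i^*Ω_X the canonical map from the conormal
sheaf (class of a local section s of I ↦ pullback of d_X s). Then Y is nonsingular if and only if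
(1) Ω_Y is locally free and (2) φ is a monomorphism (the conormal sequence 0 → I/I² → i^*Ω_X → Ω_Y →
0 is exact on the left too). Moreover in that case I/I² is locally free of rank n − q, the
codimension of Y. (The clause that I is then locally generated by n − q sections is not restated.) -/
theorem result (k : Type u) [Field k]
    [IsAlgClosed k] (n q : ℕ)
    (X : Scheme.{u}) [X.Over (Spec (CommRingCat.of k))] [IsIntegral X] [IsSeparated (X ↘ (Spec (CommRingCat.of k)))]
    [LocallyOfFiniteType (X ↘ (Spec (CommRingCat.of k)))] [QuasiCompact (X ↘ (Spec (CommRingCat.of k)))]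
    (hreg : ∀ x : ↥X, IsRegularLocalRing ↑(X.presheaf.stalk x))
    (hn : topologicalKrullDim ↥X = (n : WithBot ℕ∞))
    (Y : Scheme.{u}) (i : Y ⟶ X) [IsClosedImmersion i] [IrreducibleSpace ↥Y]
    (hq : topologicalKrullDim ↥Y = (q : WithBot ℕ∞))
    (ΩX : X.Modules) (dX : OmegaSh.Der (X ↘ (Spec (CommRingCat.of k))) ΩX) (hX : OmegaSh.IsUniversal dX)
    (ΩY : Y.Modules) (dY : OmegaSh.Der (i ≫ (X ↘ (Spec (CommRingCat.of k)))) ΩY) (hY : OmegaSh.IsUniversal dY)
    (φ : Omega.conormal i ⟶ (Scheme.Modules.pullback i).obj ΩX) (hφ : OmegaSh.IsConormalDiff i dX φ) :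
    ((∀ y : ↥Y, IsRegularLocalRing ↑(Y.presheaf.stalk y)) ↔ (FlatMod.IsFinLocFree ΩY ∧ Mono φ)) ∧
      ((∀ y : ↥Y, IsRegularLocalRing ↑(Y.presheaf.stalk y)) →
        FlatMod.IsFinLocFreeOfRank (n - q) (Omega.conormal i)) := by
  haveI : IsReduced X := inferInstance
  haveI : Smooth (X ↘ Spec (CommRingCat.of k)) := H29RR.smooth_of_regular k X hreg
  haveI : SmoothOfRelativeDimension n (X ↘ Spec (CommRingCat.of k)) :=
    H27CurveDiv.smoothOfRelativeDimension_of_dim _ n hn
  letI : Y.Over (Spec (CommRingCat.of k)) := ⟨i ≫ (X ↘ Spec (CommRingCat.of k))⟩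
  have fwd : (∀ y : ↥Y, IsRegularLocalRing ↑(Y.presheaf.stalk y)) →
      (FlatMod.IsFinLocFree ΩY ∧ Mono φ) ∧ FlatMod.IsFinLocFreeOfRank (n - q) (Omega.conormal i) := by
    intro hy
    haveI : ∀ y : Y, _root_.IsReduced (Y.presheaf.stalk y) := fun y => by
      haveI := hy y
      haveI := H4Depth.isDomain_of_isRegularLocalRing (Y.presheaf.stalk y)
      infer_instance
    haveI : IsReduced Y := isReduced_of_isReduced_stalk Y
    haveI : LocallyOfFiniteType (Y ↘ Spec (CommRingCat.of k)) :=
      inferInstanceAs (LocallyOfFiniteType (i ≫ (X ↘ Spec (CommRingCat.of k))))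
    haveI hsY : Smooth (i ≫ (X ↘ Spec (CommRingCat.of k))) := H29RR.smooth_of_regular k Y hy
    haveI : SmoothOfRelativeDimension q (i ≫ (X ↘ Spec (CommRingCat.of k))) :=
      H27CurveDiv.smoothOfRelativeDimension_of_dim _ q hq
    obtain ⟨e⟩ := H29Omega.nonempty_iso_of_isUniversal
      (H17.PrinOmega.isUniversal_dOmega (i ≫ (X ↘ Spec (CommRingCat.of k)))) hY
    have hfs : MoreMor.IsFormallySmoothHom (i ≫ (X ↘ Spec (CommRingCat.of k))) :=
      (H8Props.FormallySmoothScheme.isFormallySmoothHom_iff _).mpr fun U V hU hV hUV =>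
        RingHom.Smooth.formallySmooth (Scheme.Hom.smooth_appLE _ hV hU hUV)
    exact ⟨⟨H7Lim.ModLocFree.isFinLocFree_of_iso e
        (H17.FLI.isFinLocFree_of_rank (H28RR.isFinLocFreeOfRank_omega _ q)),
      S5020.result i (X ↘ Spec (CommRingCat.of k)) hfs ΩX dX hX φ hφ⟩,
      (H17.FLI.regImm_of_smooth_gen (X ↘ Spec (CommRingCat.of k)) (i ≫ (X ↘ Spec (CommRingCat.of k))) i rfl n q).2.1⟩
  refine ⟨⟨fun hy => (fwd hy).1, fun ⟨hfree, hmono⟩ y => ?_⟩, fun hy => (fwd hy).2⟩
  haveI := hmono
  haveI : LocallyOfFinitePresentation (Y ↘ Spec (CommRingCat.of k)) :=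
    inferInstanceAs (LocallyOfFinitePresentation (i ≫ (X ↘ Spec (CommRingCat.of k))))
  exact H22Alg.GeomRegularAt.regular_of_mem_smoothLocus k Y y
    (H7SmoothCrit.formallySmooth_stalk_of_conormal i (X ↘ Spec (CommRingCat.of k))
      (fun x => (Scheme.Hom.mem_smoothLocus).1 ((Scheme.Hom.smoothLocus_eq_top _).ge trivial)) hX hY hfree hφ y)

end Groth.Agent.S12423
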