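import Groth.Statements.S12428
import Groth.Agent.H19Obs.FiniteIndex

set_option autoImplicit false
universe u
open CategoryTheory MonoidalCategory CartesianMonoidalCategory MonObj GrpObj AlgebraicGeometry
open scoped TensorProduct
open AGF

namespace Groth.Agent.S12428

open CategoryTheory.Limits
open Groth.Agent.H27Witt Groth.Agent.H27Witt.Fn Groth.Agent.H19Obs

attribute [local instance 2000] Hom.group Hom.monoid

theorem closed_of_open {k : Type u} [Field k] [IsAlgClosed k] {H H₀ : Over (Sk k)} [GrpObj H] [Smooth H.hom]
    [GrpObj H₀] (j : H₀ ⟶ H) [IsMonHom j] [IsOpenImmersion j.left] : IsClosedImmersion j.left :=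
  IsClosedImmersion.of_isPreimmersion j.left (isClosed_range j)

theorem smooth_of_open {k : Type u} [Field k] {H H₀ : Over (Sk k)} [Smooth H.hom] (j : H₀ ⟶ H)
    [IsOpenImmersion j.left] : Smooth H₀.hom := by
  rw [← Over.w j]; infer_instance


/-- Let k be an algebraically closed field, G a linear algebraic group over k (an affine smooth group
scheme over k), i : H → G a closed subgroup (smooth closed subgroup scheme), j : G° → G the identity
component (a connected open subgroup scheme), and K = H ∩ G° the intersection subgroup scheme, with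
homomorphisms a : K → H and b : K → G° whose underlying square of schemes is a pullback of i and j.
Then H is observable in G if and only if K is observable in G°. -/
theorem result (k : Type u) [Field k] [IsAlgClosed k]
    (G : Over (Spec (CommRingCat.of k))) [GrpObj G] [IsAffine G.left] [Smooth G.hom]
    (H : Over (Spec (CommRingCat.of k))) [GrpObj H] [Smooth H.hom] (i : H ⟶ G) [IsMonHom i]
    [IsClosedImmersion i.left]
    (G₀ : Over (Spec (CommRingCat.of k))) [GrpObj G₀] [ConnectedSpace G₀.left] (j : G₀ ⟶ G) [IsMonHom j]
    [IsOpenImmersion j.left]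
    (K : Over (Spec (CommRingCat.of k))) [GrpObj K] (a : K ⟶ H) [IsMonHom a] (b : K ⟶ G₀) [IsMonHom b]
    (hK : IsPullback a.left b.left i.left j.left) :
    AGF.IsObservableIn k i ↔ AGF.IsObservableIn k b := by
  haveI : IsAffine H.left := isAffine_of_isAffineHom i.left
  haveI : IsOpenImmersion a.left := MorphismProperty.of_isPullback hK.flip (inferInstance : IsOpenImmersion j.left)
  haveI : IsClosedImmersion b.left := MorphismProperty.of_isPullback hK (inferInstance : IsClosedImmersion i.left)
  haveI := closed_of_open j
  haveI := closed_of_open a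
  haveI := smooth_of_open j
  haveI := smooth_of_open a
  haveI : IsAffine G₀.left := isAffine_of_isAffineHom j.left
  haveI : IsAffine K.left := isAffine_of_isAffineHom a.left
  have hc : a ≫ i = b ≫ j := Over.OverMorphism.ext hK.w
  constructor
  · intro hobs
    refine isObservableIn_restrict (G := G) j b (fun x y h => ?_) (Set.range fun y : T0 k ⟶ H => y ≫ i)
      (fun y => ⟨y ≫ a, (Category.assoc y a i).trans (congrArg (y ≫ ·) hc)⟩) fun x hx => ?_
    · exact Over.OverMorphism.ext ((cancel_mono j.left).1 (congrArg (·.left) h))
    · obtain ⟨z, hz⟩ := hobs _ (hull_of_sep i (x := 1) (x' := x ≫ j) fun F hF =>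
        (hx F (by rintro w _ ⟨y, rfl⟩; exact (isRTransInv_iff i F).1 hF w y)).symm)
      have hz' : (e0 ≫ z) ≫ i = x ≫ j := by
        rw [Category.assoc, hz, ← Category.assoc, e0_e1, Category.id_comp, inv_one, _root_.one_mul]
      have hw : (e0 ≫ z).left ≫ i.left = x.left ≫ j.left := congrArg (·.left) hz'
      obtain ⟨l, hl1, hl2⟩ := hK.exists_lift _ _ hw
      refine ⟨Over.homMk l ?_, Over.OverMorphism.ext ?_⟩
      · rw [← Over.w b, ← Category.assoc, hl2]
        exact Over.w x
      · show l ≫ (b ≫ j).left = (x ≫ j).left
        rw [Over.comp_left, ← Category.assoc, hl2, Over.comp_left]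
  · intro hobs
    haveI : IsClosedImmersion (b ≫ j).left := by rw [Over.comp_left]; infer_instance
    have h0 : AGF.IsObservableIn k (b ≫ j) :=
      Groth.Agent.S11195.result k G G₀ j K b hobs (isObservableIn_open j)
    exact isObservableIn_of_open a i (hc ▸ h0)

end Groth.Agent.S12428
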