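import Groth.Statements.S12430
import Groth.Agent.H29RR.RankTwo
import Groth.Agent.H29RR.SmoothRegular

set_option autoImplicit false
universe u
open CategoryTheory CategoryTheory.Limits AlgebraicGeometry
open Curves

namespace Groth.Agent.S12430

/-- Let C be a curve over an algebraically closed field k (integral, proper over k, of dimension one,
all local rings regular) and E a locally free O_C-module of rank 2 which is normalized — H^0(C, E) ≠
0 while H^0(C, E ⊗ M) = 0 for every invertible O_C-module M of negative degree. Then for every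
nonzero morphism s : O_C → E the cokernel of s is an invertible O_C-module (so E is an extension of
an invertible module by O_C). -/
theorem result (k : Type u) [Field k] [IsAlgClosed k] (C : Scheme.{u}) [C.Over (Spec (CommRingCat.of k))]
    [IsIntegral C] [IsProper (C ↘ (Spec (CommRingCat.of k)))] (hdimC : topologicalKrullDim C = 1)
    (hregC : ∀ x : C, IsRegularLocalRing (C.presheaf.stalk x))
    (E : C.Modules) (hE : FlatMod.IsFinLocFreeOfRank 2 E)
    (hE0 : Nontrivial (Coh.HH C E 0))
    (hEneg : ∀ M : C.Modules, PicF.IsInvertible M → Curv2.deg k C M 1 < 0 → Subsingleton (Coh.HH C (CohB1.tensorMod E M) 0))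
    (s : Coh.structureModule C ⟶ E) (hs : s ≠ 0) :
    PicF.IsInvertible (cokernel s) := by
  haveI := H29RR.isNoetherian_of_proper (k := k) (X := C)
  haveI := H29RR.smooth_of_regular k C hregC
  have hO := H11Ample.isInvertible_structureModule (X := C)
  haveI : Mono s := H29RR.mono_of_invertible (k := k) hdimC.le hO hE hs
  obtain ⟨G', j, ι', hj, hι', hji, hG', hC⟩ :=
    H25Par.exists_saturation k hdimC.le (H29RR.rank_one_of_isInvertible hO) hE s
  haveI := hj
  haveI := hι'
  have hGi := H22Alg.PB.isInvertible_of_rank_one hG'
  have h1 := H29RR.deg_sub_nonpos (k := k) hdimC.le hEneg hGi ι'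
  have h2 := H29RR.deg_structureModule (k := k) (X := C)
  have h3 := H25Par.euler_le_of_mono (k := k) hdimC.le (H29RR.rank_one_of_isInvertible hO) hG' j
  haveI : IsIso j := H29RR.isIso_of_deg_eq (k := k) hdimC.le (H29RR.rank_one_of_isInvertible hO) hG' j (by
    simp only [Curv2.deg] at h1 h2 ⊢
    omega)
  obtain ⟨c, hc⟩ := H25Par.exists_rank k hdimC.le (H16Derived.KFlat.Stalk.isCoh_of_isFinLocFree hC)
    (H25Par.isTorsionFree_of_locFree hC)
  obtain ⟨hr, -⟩ := H29RR.deg_add_of_shortExact (k := k)
    (S := ShortComplex.mk ι' (cokernel.π ι') (cokernel.condition ι')) { exact := ShortComplex.exact_cokernel _ } hG' hE hc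
  obtain rfl : c = 1 := by omega
  exact H11Tilde.isInvertible_of_iso (cokernelIsoOfEq hji.symm ≪≫ cokernelEpiComp j ι').symm
    (H22Alg.PB.isInvertible_of_rank_one hc)

end Groth.Agent.S12430
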