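import Groth.Statements.S12431
import Groth.Agent.H29GenusOne.SelfExt
import Groth.Agent.S11348

set_option autoImplicit false
universe u
open CategoryTheory CategoryTheory.Limits AlgebraicGeometry
open Curves

namespace Groth.Agent.S12431

attribute [local instance 10000] H10Coh.hasSheafifyAb H10Coh.hasWeakSheafifyAb H10Coh.hasExtAb H10Coh.enoughInjAb

open Groth.Agent.H29RR in
/-- A normalised indecomposable bundle of degree zero is a nonsplit extension of the structure sheaf by itself. -/
theorem exists_shape {k : Type u} [Field k] [IsAlgClosed k] {C : Scheme.{u}} [C.Over (Spec (CommRingCat.of k))]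
    [IsIntegral C] [IsProper (C ↘ Spec (CommRingCat.of k))] [Smooth (C ↘ Spec (CommRingCat.of k))]
    (hdimC : topologicalKrullDim C = 1) (hg : Curv2.genus k C = 1) (E : C.Modules)
    (hE : FlatMod.IsFinLocFreeOfRank 2 E) (hE0 : Nontrivial (Coh.HH C E 0))
    (hneg : ∀ M : C.Modules, PicF.IsInvertible M → Curv2.deg k C M 1 < 0 → Subsingleton (Coh.HH C (CohB1.tensorMod E M) 0))
    (hind : ∀ L₁ L₂ : C.Modules, PicF.IsInvertible L₁ → PicF.IsInvertible L₂ → IsEmpty (E ≅ L₁ ⊞ L₂))
    (hdeg : Curv2.deg k C E 2 = 0) :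
    ∃ (i : Coh.structureModule C ⟶ E) (g : E ⟶ Coh.structureModule C) (w : i ≫ g = 0),
      (ShortComplex.mk i g w).ShortExact ∧ ∀ t : Coh.structureModule C ⟶ E, t ≫ g ≠ 𝟙 _ := by
  haveI := isNoetherian_of_proper (k := k) (X := C)
  have hO := H11Ample.isInvertible_structureModule (X := C)
  have h00 := finrank_h0_structure k C
  obtain ⟨g₀, hg₀⟩ := exists_global_ne_zero E hE0
  haveI := mono_of_invertible (k := k) hdimC.le hO hE (homOfGlobal_ne_zero' hg₀)
  obtain ⟨G, j, ι', hj, hι', -, hG, hC⟩ :=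
    H25Par.exists_saturation k hdimC.le (rank_one_of_isInvertible hO) hE (H11Tilde.homOfGlobal E g₀)
  haveI := hj
  haveI := hι'
  obtain ⟨c, hc⟩ := H25Par.exists_rank k hdimC.le (H16Derived.KFlat.Stalk.isCoh_of_isFinLocFree hC)
    (H25Par.isTorsionFree_of_locFree hC)
  obtain ⟨hr, -⟩ := deg_add_of_shortExact (k := k) (S := ShortComplex.mk ι' (cokernel.π ι') (cokernel.condition ι'))
    { exact := ShortComplex.exact_cokernel _ } hG hE hc
  obtain rfl : c = 1 := by omega
  have hGi := H22Alg.PB.isInvertible_of_rank_one hG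
  have hQi : PicF.IsInvertible (cokernel ι') := H22Alg.PB.isInvertible_of_rank_one hc
  haveI := finite_HH (k := k) G hGi 0
  haveI : Nontrivial (Coh.HH C (Coh.structureModule C) 0) := Module.nontrivial_of_finrank_eq_succ h00
  have hG0 : Nontrivial (Coh.HH C G 0) := Function.Injective.nontrivial (hhlin_zero_injective (k := k) j)
  have hle : Curv2.deg k C G 1 ≤ 0 := deg_sub_nonpos (k := k) hdimC.le hneg hGi ι'
  have hb := bounds_of_section (k := k) hdimC.le hGi hG0
  have hdG : Curv2.deg k C G 1 = 0 := le_antisymm hle hb.1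
  obtain ⟨u⟩ := hb.2.2.2 hdG
  have hns : ¬ IsSplitEpi (cokernel.π ι') := fun h => by
    obtain ⟨e⟩ := nonempty_iso_of_split ι' h
    exact (hind _ _ hGi hQi).elim' e
  obtain ⟨M', hM', ⟨eM⟩, hnt, hdM⟩ := exists_nonvanishing_twist (k := k) hdimC.le hE hGi ι' hQi hns
  have hT := H11Ample.isInvertible_tensor hGi hM'
  rw [hdG, hdeg] at hdM
  haveI := finite_HH (k := k) _ hT 1
  have hrr := riemann_roch (k := k) hdimC.le (CohB1.tensorMod G M')
  rw [h00, hg, hdM] at hrr
  haveI := hnt
  have hpos := Module.finrank_pos (R := k) (M := Coh.HH C (CohB1.tensorMod G M') 1)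
  have hT0 : Nontrivial (Coh.HH C (CohB1.tensorMod G M') 0) := Module.nontrivial_of_finrank_pos (R := k) (by omega)
  obtain ⟨v⟩ := (bounds_of_section (k := k) hdimC.le hT hT0).2.2.2 hdM
  let eM' : M' ≅ Coh.structureModule C :=
    (H10Coh.Tw.leftUnitIso M').symm ≪≫ PicGrp.tensorModIso u.symm (Iso.refl M') ≪≫ v
  let q : cokernel ι' ≅ Coh.structureModule C :=
    (H10Coh.Tw.rightUnitIso (cokernel ι')).symm ≪≫ PicGrp.tensorModIso (Iso.refl _) eM'.symm ≪≫ eM
  refine ⟨u.inv ≫ ι', cokernel.π ι' ≫ q.hom, by simp, ?_, fun t ht => hns ?_⟩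
  · refine ShortComplex.shortExact_of_iso
      (ShortComplex.isoMk u (Iso.refl E) q (by simp) (by simp) :
        ShortComplex.mk ι' (cokernel.π ι') (cokernel.condition ι') ≅
          ShortComplex.mk (u.inv ≫ ι') (cokernel.π ι' ≫ q.hom) (by simp)) { exact := ShortComplex.exact_cokernel _ }
  · refine IsSplitEpi.mk' ⟨q.hom ≫ t, ?_⟩
    rw [← cancel_mono q.hom, Category.assoc, Category.assoc, ht, Category.comp_id, Category.id_comp]



/-- Uniqueness, e = 0 case: let C be an elliptic curve over an algebraically closed field k — integral,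
proper over k, of dimension one, all local rings regular, of genus 1 — and let E and E′ be locally
free O_C-modules of rank 2 which are normalized (H^0(C, E) ≠ 0 while H^0(C, E ⊗ M) = 0 for every
invertible M of negative degree; likewise for E′), indecomposable (not isomorphic to a direct sum of
two invertible modules) and of degree 0, where deg E = χ(E) − 2χ(O_C). Then E and E′ are isomorphic:
there is exactly one elliptic ruled surface with invariant e = 0 and indecomposable E. -/
theorem result (k : Type u) [Field k] [IsAlgClosed k] (C : Scheme.{u}) [C.Over (Spec (CommRingCat.of k))]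
    [IsIntegral C] [IsProper (C ↘ (Spec (CommRingCat.of k)))] (hdimC : topologicalKrullDim C = 1)
    (hregC : ∀ x : C, IsRegularLocalRing (C.presheaf.stalk x)) (hg : Curv2.genus k C = 1)
    (E : C.Modules) (hE : FlatMod.IsFinLocFreeOfRank 2 E)
    (hE0 : Nontrivial (Coh.HH C E 0))
    (hEneg : ∀ M : C.Modules, PicF.IsInvertible M → Curv2.deg k C M 1 < 0 → Subsingleton (Coh.HH C (CohB1.tensorMod E M) 0))
    (hEind : ∀ L₁ L₂ : C.Modules, PicF.IsInvertible L₁ → PicF.IsInvertible L₂ → IsEmpty (E ≅ L₁ ⊞ L₂))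
    (hEdeg : Curv2.deg k C E 2 = 0)
    (E' : C.Modules) (hE' : FlatMod.IsFinLocFreeOfRank 2 E')
    (hE'0 : Nontrivial (Coh.HH C E' 0))
    (hE'neg : ∀ M : C.Modules, PicF.IsInvertible M → Curv2.deg k C M 1 < 0 → Subsingleton (Coh.HH C (CohB1.tensorMod E' M) 0))
    (hE'ind : ∀ L₁ L₂ : C.Modules, PicF.IsInvertible L₁ → PicF.IsInvertible L₂ → IsEmpty (E' ≅ L₁ ⊞ L₂))
    (hE'deg : Curv2.deg k C E' 2 = 0) :
    Nonempty (E ≅ E') := by
  haveI := H29RR.isNoetherian_of_proper (k := k) (X := C)
  haveI := H29RR.smooth_of_regular k C hregC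
  obtain ⟨i, g, w, hS, hn⟩ := exists_shape hdimC hg E hE hE0 hEneg hEind hEdeg
  obtain ⟨i', g', w', hS', hn'⟩ := exists_shape hdimC hg E' hE' hE'0 hE'neg hE'ind hE'deg
  obtain ⟨e⟩ := H29GenusOne.nonempty_iso_selfExt (k := k) hg (H29RR.finrank_h0_structure k C) i g w hS hn i' g' w' hS' hn'
  exact ⟨e.symm⟩

end Groth.Agent.S12431
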