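import Groth.Statements.S12432
import Groth.Agent.H29DoubleCover.SecImm
import Groth.Agent.H29DoubleCover.PlaneCurve
import Groth.Agent.H29Clifford.Equality
import Groth.Agent.H29RR.SmoothRegular

set_option autoImplicit false
set_option linter.style.haveILetI false
universe u
open CategoryTheory CategoryTheory.Limits AlgebraicGeometry
open Curves

namespace Groth.Agent.S12432

attribute [local instance 10000] H10Coh.hasSheafifyAb H10Coh.hasWeakSheafifyAb H10Coh.hasExtAb H10Coh.enoughInjAb

open Groth.Agent.H29RR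

/-- Four independent sections. -/
theorem four_le_h0 {k : Type u} [Field k] {X : Scheme.{u}} [X.Over (Spec (CommRingCat.of k))]
    [IsProper (X ↘ Spec (CommRingCat.of k))] [IsIntegral X]
    (i : X ⟶ CohB1.ProjSpace 3 k) (hi : i ≫ CohB1.ProjSpace.toSpec 3 k = X ↘ Spec (CommRingCat.of k))
    (hplane : ∀ s : LinSer.Sect (CohB1.ProjSpace 3 k) (Twist.twistProjSpace 3 k 1), s ≠ 0 →
      OmegaSh.pullSect i (Twist.twistProjSpace 3 k 1) ⊤ s ≠ 0) :
    4 ≤ Module.finrank k (Coh.HH X ((Scheme.Modules.pullback i).obj (Twist.twistProjSpace 3 k 1)) 0) := by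
  letI := H29RR.PnPic.overSpec 3 k
  let N := Twist.twistProjSpace 3 k 1
  let L := (Scheme.Modules.pullback i).obj N
  haveI := finite_HH (k := k) L (H11Ample.isInvertible_pullback i H11Ample.isInvertible_twist) 0
  let T : Coh.HH (CohB1.ProjSpace 3 k) N 0 →ₗ[k] Coh.HH X L 0 :=
    { toFun := fun w => (sec L).symm (H11Ample.pullTop i (sec N w))
      map_add' := fun a b => by
        rw [← map_add]; congr 1; rw [map_add]
        exact map_add (((Scheme.Modules.pullbackPushforwardAdjunction i).unit.app N).app ⊤).hom _ _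
      map_smul' := fun c a => by
        apply (sec L).injective
        rw [RingHom.id_apply, AddEquiv.apply_symm_apply, sec_smul, sec_smul, AddEquiv.apply_symm_apply]
        refine (((Scheme.Modules.pullbackPushforwardAdjunction i).unit.app N).app_smul _ _).trans ?_
        refine congrArg (fun t : Γ(X, ⊤) => t • H11Ample.pullTop i (sec N a)) ?_
        show i.app ⊤ (ProjUP.toGlobal (CohB1.ProjSpace.toSpec 3 k) c) = ProjUP.toGlobal (X ↘ Spec (CommRingCat.of k)) c
        rw [show (X ↘ Spec (CommRingCat.of k)) = i ≫ CohB1.ProjSpace.toSpec 3 k from hi.symm, ProjUP.toGlobal,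
          ProjUP.toGlobal, Scheme.Hom.comp_appTop]
        rfl }
  have hTi : Function.Injective T := (injective_iff_map_eq_zero T).2 fun w hw => by
    by_contra hne
    have h2 : H11Ample.pullTop i (sec N w) = 0 := (sec L).symm.injective (hw.trans (map_zero _).symm)
    exact hplane (sec N w) (fun h0 => hne ((sec N).injective (h0.trans (map_zero _).symm))) h2
  refine le_trans (le_of_eq ?_) (LinearMap.finrank_le_finrank_of_injective hTi)
  show 4 = Module.finrank k (Coh.HH (CohB1.ProjSpace 3 k) (Twist.twistProjSpace 3 k ((1 : ℕ) : ℤ)) 0)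
  rw [H02CA.GM.finrank_h0_nat' 3 1]
  decide



/-- In degree d = 6 the curve is canonical. Take k algebraically closed and suppose X is a curve over k
(integral, proper over k, one-dimensional, with every local ring regular), equipped with a closed
immersion i : X → P^3_k over k whose image lies in no plane — that is, any nonzero global section of
O(1) on P^3_k pulls back to a nonzero global section of i^*O(1). Assume the hyperplane section is
special, meaning H^1(X, i^*O(1)) ≠ 0, and that deg i^*O(1) = 6. Then i^*O(1) is isomorphic to the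
canonical sheaf Ω_{X/k}, and X has genus 4 (so X is a canonical curve of genus 4; the isomorphism is
asserted to exist as O_X-modules). -/
theorem result (k : Type u) [Field k] [IsAlgClosed k] (X : Scheme.{u}) [X.Over (Spec (CommRingCat.of k))]
    [IsIntegral X] [IsProper (X ↘ (Spec (CommRingCat.of k)))] (hdim : topologicalKrullDim X = 1)
    (hreg : ∀ x : X, IsRegularLocalRing (X.presheaf.stalk x))
    (i : X ⟶ CohB1.ProjSpace 3 k) [IsClosedImmersion i] (hi : i ≫ CohB1.ProjSpace.toSpec 3 k = (X ↘ (Spec (CommRingCat.of k))))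
    (hplane : ∀ s : LinSer.Sect (CohB1.ProjSpace 3 k) (Twist.twistProjSpace 3 k 1), s ≠ 0 →
      OmegaSh.pullSect i (Twist.twistProjSpace 3 k 1) ⊤ s ≠ 0)
    (hspecial : Nontrivial (Coh.HH X ((Scheme.Modules.pullback i).obj (Twist.twistProjSpace 3 k 1)) 1))
    (hdeg : Curv2.deg k X ((Scheme.Modules.pullback i).obj (Twist.twistProjSpace 3 k 1)) 1 = 6) :
    Nonempty (((Scheme.Modules.pullback i).obj (Twist.twistProjSpace 3 k 1)) ≅ Omega.sheaf (X ↘ (Spec (CommRingCat.of k)))) ∧ Curv2.genus k X = 4 := by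
  haveI := H29RR.smooth_of_regular k X hreg
  have h00 := H29RR.finrank_h0_structure k X
  let O1 := Twist.twistProjSpace 3 k 1
  have hO1 : PicF.IsInvertible O1 := H11Ample.isInvertible_twist
  set L := (Scheme.Modules.pullback i).obj O1 with hLdef
  have hL : PicF.IsInvertible L := H11Ample.isInvertible_pullback i hO1
  have h4 : 4 ≤ Module.finrank k (Coh.HH X L 0) := four_le_h0 i hi hplane
  have hs : Nontrivial (Coh.HH X L 0) := Module.nontrivial_of_finrank_pos (R := k) (by omega)
  have hC := H29RR.h0_add_h1_le (k := k) hdim.le hL hs hspecial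
  haveI := H29RR.finite_HH (k := k) L hL 1
  haveI := hspecial
  have h1 := Module.finrank_pos (R := k) (M := Coh.HH X L 1)
  have hrr := H29RR.riemann_roch (k := k) hdim.le L
  rw [h00, hdeg] at hrr
  have hh0 : Module.finrank k (Coh.HH X L 0) = 4 := by omega
  have hg4 : 4 ≤ Curv2.genus k X := by omega
  by_cases hg : Curv2.genus k X = 4
  · exact ⟨H29Clifford.nonempty_iso_omega (k := k) hdim hL (by rw [hdeg, hg]; rfl) (by rw [hg]; exact h4), hg⟩
  exfalso
  obtain ⟨N, hN, hdN, h2⟩ := H29Clifford.exists_g12 (k := k) hdim 6 hL (by rw [hdeg]; rfl) (by rw [hdeg]; norm_num)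
    (by rw [hdeg]; omega) (by rw [hdeg, hh0]; rfl)
  have hN2 : Module.finrank k (Coh.HH X N 0) = 2 := by
    have := H29Clifford.two_h0_le (k := k) hdim hN (by omega) (by omega)
    omega
  obtain ⟨f, hf, hfin, hflat, hη, hrd, -⟩ :=
    H29DoubleCover.exists_separable_double_cover (k := k) hdim h00 (by omega) hN hdN hN2
  haveI := hfin
  haveI := hflat
  letI := H29RR.PnPic.overSpec 1 k
  haveI : IsProper (CohB1.ProjSpace 1 k ↘ Spec (CommRingCat.of k)) := H27Weil.isProper_toSpec 1 k
  obtain ⟨-, -, hPd⟩ := H28Curve.projLine_facts k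
  have hTw := H10Coh.Stab.isTwistFamily_projSpace 1 k
  have hTf := H10Coh.Stab.IsTwistFamily.pullback hTw f
  let M := (Scheme.Modules.pullback f).obj (Twist.twistProjSpace 1 k 1)
  have hM : PicF.IsInvertible M := H11Ample.isInvertible_pullback f (hTw.inv 1)
  have hdM : Curv2.deg k X M 1 = 2 := by
    have := S7640.result k X _ hdim (hPd.trans (by norm_num)) f hf hη 1 _
      (H29RR.rank_one_of_isInvertible (hTw.inv 1))
    rw [this, hrd, H29DoubleCover.deg_twist_one]
    rfl
  have hM2 : 2 ≤ Module.finrank k (Coh.HH X M 0) :=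
    (H29DoubleCover.finrank_h0_twist_one (k := k)).ge.trans (H29DoubleCover.finrank_h0_le_pullback f hf hη (hTw.inv 1))
  obtain ⟨eM⟩ := H29Clifford.nonempty_iso_pow (k := k) hdim hM hdM hM2 hL (r := 3) hh0 (by rw [hdeg]; rfl) (by omega)
  obtain ⟨eT⟩ := hTf.nonempty_tensorPow 3
  let e : (Scheme.Modules.pullback f).obj (Twist.twistProjSpace 1 k ((3 : ℕ) : ℤ)) ≅ L := eT.symm ≪≫ eM.symm
  have h30 : Module.finrank k (Coh.HH (CohB1.ProjSpace 1 k) (Twist.twistProjSpace 1 k ((3 : ℕ) : ℤ)) 0) = 4 := by
    rw [H02CA.GM.finrank_h0_nat' 1 3]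
    decide
  have hpull : ∀ v : Γ(L, ⊤), ∃ w, e.hom.app ⊤ (H11Ample.pullTop f w) = v := fun v => by
    obtain ⟨w, hw⟩ := H29DoubleCover.exists_pullTop_eq (k := k) f hf hη (hTw.inv ((3 : ℕ) : ℤ))
      (by rw [(H29RR.hhIso (k := k) e 0).finrank_eq, hh0, h30]) (e.inv.app ⊤ v)
    exact ⟨w, by rw [hw]; exact H22Alg.CMField.hom_inv_apply e ⊤ v⟩
  have hva := H29CurveDual.vaData_of_closedImmersion (X ↘ Spec (CommRingCat.of k)) hi (Iso.refl L)
    (v := fun j => ProjUP.pullSec i O1 (ProjUP.coord 3 k j)) (fun j => rfl)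
  have hsurj : Function.Surjective f := by
    intro y
    have : Set.range f = Set.univ := Set.eq_univ_of_univ_subset (by
      rw [← (genericPoint_spec (CohB1.ProjSpace 1 k)).def, ← hη]
      exact closure_minimal (Set.singleton_subset_iff.2 ⟨_, rfl⟩) f.isClosedMap.isClosed_range)
    exact this.ge (Set.mem_univ y)
  haveI : IsClosedImmersion f := H29DoubleCover.isClosedImmersion_of_pullback_sections (k := k) f hf hsurj
    (hTw.inv ((3 : ℕ) : ℤ)) (H22Alg.CurveAmple.isAmple_of_deg_pos (k := k) (hPd.trans (by norm_num))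
      (hTw.inv ((3 : ℕ) : ℤ)) (by
        obtain ⟨e3⟩ := hTw.nonempty_tensorPow 3
        rw [← H29RR.deg_congr (k := k) e3, H27HW.deg_pow k (C := CohB1.ProjSpace 1 k) hPd.le (hTw.inv 1),
          H29DoubleCover.deg_twist_one]
        norm_num)) e hpull
    fun x => by
      obtain ⟨l, hl⟩ := hva.cover x
      refine ⟨_, hl, hva.affine l, eq_top_iff.2 ((hva.surj l).ge.trans (Subring.closure_mono ?_))⟩
      exact Set.union_subset_union le_rfl fun c ⟨j, hj⟩ => ⟨_, hj⟩
  rw [H29DoubleCover.residueDegree_eq_one_of_isClosedImmersion] at hrd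
  exact absurd hrd (by norm_num)

end Groth.Agent.S12432
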