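import Groth.Statements.S9719
import Groth.Agent.H17.Ample.VeryAmplePn
import Groth.Agent.H17.Ample.LocalProj
-- import your own Groth.Agent.* helpers here

set_option autoImplicit false
universe u
open CategoryTheory CategoryTheory.Limits AlgebraicGeometry
open Mor

namespace Groth.Agent.S9719

/-- (1) ⇒ (2): let f : X ⟶ S be of finite type and L an invertible O_X-module which is very ample
relative to f (isomorphic to the inverse image of O(1) along an S-immersion into the projective
bundle of a quasi-coherent O_S-module). Then there is an open covering of S by opens V such that,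
for each V, the restriction of L to f⁻¹(V) is isomorphic to the inverse image of O(1) along some
immersion of f⁻¹(V) into a projective space P^n_V over V. (The converse implication of the published
statement is not stated here.) -/
theorem result {X S : Scheme.{u}} (f : X ⟶ S)
    [LocallyOfFiniteType f] [QuasiCompact f] (L : X.Modules) (hLinv : PicF.IsInvertible L)
    (hL : RelProj.IsRelVeryAmple f L) :
    ∃ (ι : Type u) (V : ι → S.Opens), (⨆ j, V j) = ⊤ ∧
      ∀ j, RelAmple.IsRelVeryAmplePn (f ∣_ V j) (L.restrict (f ⁻¹ᵁ V j).ι) := by
  refine ⟨S.affineOpens, fun V => V.1, iSup_affineOpens_eq_top S, fun V => ?_⟩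
  haveI : IsAffine V.1.toScheme := V.2
  have hsq := (isPullback_morphismRestrict f V.1).flip
  haveI : LocallyOfFiniteType (f ∣_ V.1) := MorphismProperty.of_isPullback hsq ‹LocallyOfFiniteType f›
  haveI : QuasiCompact (f ∣_ V.1) := MorphismProperty.of_isPullback hsq ‹QuasiCompact f›
  exact H17.LocalProj.isRelVeryAmplePn_of_iso ((Scheme.Modules.restrictFunctorIsoPullback (f ⁻¹ᵁ V.1).ι).app L).symm
    (H17.VeryAmplePn.isRelVeryAmplePn_of_isRelVeryAmple _ (H11Ample.isInvertible_pullback _ hLinv)
      (H11Sym.isRelVeryAmple_baseChange hsq hLinv hL))

end Groth.Agent.S9719
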