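import Groth.Statements.S12435
import Groth.Agent.H13VADesc.Descent
import Groth.Agent.S9719
-- import your own Groth.Agent.* helpers here

set_option autoImplicit false
set_option backward.isDefEq.respectTransparency false
universe u
open CategoryTheory CategoryTheory.Limits AlgebraicGeometry
open Desc

namespace Groth.Agent.S12435

/-- Let f : X → Y be a morphism of finite type, g : Y′ → Y faithfully flat and quasi-compact, X′ = X ×_Y
Y′ with projections f′ : X′ → Y′ and g′ : X′ → X, and L an invertible O_X-module (locally isomorphic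
to O_X). Then L is very ample for f — every point of Y has an open neighbourhood U with an immersion
of f⁻¹(U) into some P^n_U over U under which O(1) pulls back to L — if and only if g′^*L is very
ample for f′ in the same sense. (The published statement has X, Y over a base S and base change
along a faithfully flat quasi-compact S′ → S; the case S = Y stated here is equivalent.) -/
theorem result {X Y Y' : Scheme.{u}} (f : X ⟶ Y)
    [LocallyOfFiniteType f] [QuasiCompact f] (g : Y' ⟶ Y) [Surjective g] [Flat g] [QuasiCompact g]
    (L : X.Modules) (hL : PicF.IsInvertible L) :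
    (∀ y : Y, ∃ U : Y.Opens, y ∈ U ∧ RelAmple.IsRelVeryAmplePn (f ∣_ U) (L.restrict (f ⁻¹ᵁ U).ι)) ↔
      ∀ y' : Y', ∃ U' : Y'.Opens, y' ∈ U' ∧
        RelAmple.IsRelVeryAmplePn (pullback.snd f g ∣_ U')
          (((Scheme.Modules.pullback (pullback.fst f g)).obj L).restrict (pullback.snd f g ⁻¹ᵁ U').ι) := by
  have hL' : PicF.IsInvertible ((Scheme.Modules.pullback (pullback.fst f g)).obj L) :=
    Groth.Agent.H11Ample.isInvertible_pullback _ hL
  constructor
  · intro h
    choose U hU hPn using h
    haveI : QuasiCompact f := ‹QuasiCompact f›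
    have hva : RelProj.IsRelVeryAmple f L :=
      Groth.Agent.H11Sym.isRelVeryAmple_of_cover hL U (top_le_iff.1 fun y _ => TopologicalSpace.Opens.mem_iSup.2 ⟨y, hU y⟩) fun y => by
        haveI : QuasiCompact (f ∣_ U y) :=
          MorphismProperty.of_isPullback (isPullback_morphismRestrict f (U y)).flip ‹QuasiCompact f›
        exact Groth.Agent.H17.VeryAmpleOfPn.isRelVeryAmple_of_isRelVeryAmplePn (hPn y)
    have hva' := Groth.Agent.H11Sym.isRelVeryAmple_baseChange (IsPullback.of_hasPullback f g) hL hva
    obtain ⟨ι, V, hV, hj⟩ := Groth.Agent.S9719.result (pullback.snd f g) _ hL' hva'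
    intro y'
    obtain ⟨j, hy⟩ := TopologicalSpace.Opens.mem_iSup.1 (hV.ge (TopologicalSpace.Opens.mem_top y'))
    exact ⟨V j, hy, hj j⟩
  · intro h
    choose U hU hPn using h
    have hva' : RelProj.IsRelVeryAmple (pullback.snd f g) ((Scheme.Modules.pullback (pullback.fst f g)).obj L) :=
      Groth.Agent.H11Sym.isRelVeryAmple_of_cover hL' U (top_le_iff.1 fun y _ => TopologicalSpace.Opens.mem_iSup.2 ⟨y, hU y⟩) fun y => by
        haveI : QuasiCompact (pullback.snd f g ∣_ U y) :=
          MorphismProperty.of_isPullback (isPullback_morphismRestrict (pullback.snd f g) (U y)).flip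
            (inferInstance : QuasiCompact (pullback.snd f g))
        exact Groth.Agent.H17.VeryAmpleOfPn.isRelVeryAmple_of_isRelVeryAmplePn (hPn y)
    have hva := Groth.Agent.H13VADesc.isRelVeryAmple_of_baseChange f g _ _ (IsPullback.of_hasPullback f g) L hL hva'
    obtain ⟨ι, V, hV, hj⟩ := Groth.Agent.S9719.result f _ hL hva
    intro y
    obtain ⟨j, hy⟩ := TopologicalSpace.Opens.mem_iSup.1 (hV.ge (TopologicalSpace.Opens.mem_top y))
    exact ⟨V j, hy, hj j⟩

end Groth.Agent.S12435
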