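import Groth.Statements.S12436
import Groth.Agent.H28RR.FibreNef
import Groth.Agent.H27CurveZeta.Ideals
import Groth.Agent.H28Int.Divisor
import Groth.Agent.H29RR.SmoothRegular
import Groth.Agent.H29RR.GenPoint
import Groth.Agent.H29DoubleCover.Pencil

set_option autoImplicit false
set_option backward.isDefEq.respectTransparency.types false
universe u
open CategoryTheory CategoryTheory.Limits AlgebraicGeometry
open Groth.Agent
open Surf

namespace Groth.Agent.S12436

/-- Let π : X → C be a ruled surface over an algebraically closed field k — X a surface (integral, of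
dimension two, all local rings regular, with a closed immersion into some P^n_k over k), C a curve
(integral, proper over k, of dimension one, all local rings regular), π a surjective k-morphism with
every closed fibre isomorphic to P^1_k, σ a section — let C₀ = σ(C) with ideal sheaf ker σ, and let
f = π⁻¹(y) be the fibre over a closed point y, with ideal m_y·O_X. Then C₀.f = 1 and f² = 0; in
terms of the intersection number (L·M) = χ(O) − χ(L) − χ(M) + χ(L ⊗ M) of the ideal sheaves,
(I_{C₀}·I_f) = 1 and (I_f·I_f) = 0. -/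
theorem result (k : Type u) [Field k] [IsAlgClosed k] (X : Scheme.{u}) [X.Over (Spec (CommRingCat.of k))]
    [IsIntegral X] (hdim : topologicalKrullDim X = 2) (hreg : ∀ x : X, IsRegularLocalRing (X.presheaf.stalk x))
    (hproj : ∃ (n : ℕ) (ι : X ⟶ CohB1.ProjSpace n k), IsClosedImmersion ι ∧ ι ≫ CohB1.ProjSpace.toSpec n k = (X ↘ (Spec (CommRingCat.of k))))
    (C : Scheme.{u}) [C.Over (Spec (CommRingCat.of k))]
    [IsIntegral C] [IsProper (C ↘ (Spec (CommRingCat.of k)))] (hdimC : topologicalKrullDim C = 1)
    (hregC : ∀ x : C, IsRegularLocalRing (C.presheaf.stalk x))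
    (π : X ⟶ C) (hπ : π ≫ (C ↘ (Spec (CommRingCat.of k))) = (X ↘ (Spec (CommRingCat.of k)))) (hsurj : Function.Surjective π)
    (hfib : ∀ y : C, IsClosed ({y} : Set C) → Nonempty (pullback π (C.fromSpecResidueField y) ≅ CohB1.ProjSpace 1 k))
    (σ : C ⟶ X) (hσ : σ ≫ π = 𝟙 C)
    [HasInjectiveResolutions X.Modules] (y : C) (hy : IsClosed ({y} : Set C)) :
    FGA.intNum k X 2 ![ClSub.idealMod σ.ker, (ClSub.idealMod ((Scheme.IdealSheafData.vanishingIdeal ⟨{y}, hy⟩).comap π))] (Coh.structureModule X) = 1 ∧
      FGA.intNum k X 2 ![(ClSub.idealMod ((Scheme.IdealSheafData.vanishingIdeal ⟨{y}, hy⟩).comap π)), (ClSub.idealMod ((Scheme.IdealSheafData.vanishingIdeal ⟨{y}, hy⟩).comap π))] (Coh.structureModule X) = 0 := by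
  haveI : IsProper (X ↘ Spec (CommRingCat.of k)) := by
    obtain ⟨n, ι, hι, hιc⟩ := hproj
    haveI := hι
    rw [← hιc]; infer_instance
  haveI : Smooth (X ↘ Spec (CommRingCat.of k)) := H29RR.smooth_of_regular k X hreg
  haveI : Smooth (C ↘ Spec (CommRingCat.of k)) := H29RR.smooth_of_regular k C hregC
  haveI : Surjective π := ⟨hsurj⟩
  haveI := H28Int.isNoetherian k (X := X)
  haveI := H28Int.isNoetherian k (X := C)
  have hker := H28RR.ker_fiberι π hy
  set J := Scheme.IdealSheafData.vanishingIdeal (⟨{y}, hy⟩ : TopologicalSpace.Closeds C) with hJ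
  have hJe : BlowUp.IsEffCartierIdeal J := H28RR.isEffCartier_point k hdimC hy
  have hFe : BlowUp.IsEffCartierIdeal (J.comap π) := hker ▸ H28RR.isEffCartier_fibre k hdimC π hy
  have hJi := H29Blow.isInvertible_of_isEffCartierIdeal _ hJe
  have hFi := H29Blow.isInvertible_of_isEffCartierIdeal _ hFe
  obtain ⟨ψ⟩ := H12Pic.CurveFam.nonempty_pullback_idealMod_comap π hJe hFe
  obtain ⟨N, hN, ⟨eN⟩⟩ := H29RR.exists_inverse_comm hJi
  let L := (Scheme.Modules.pullback π).obj N
  have hL : PicF.IsInvertible L := H11Ample.isInvertible_pullback π hN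
  let L' := ClSub.idealMod (J.comap π)
  have e : CohB1.tensorMod L L' ≅ Coh.structureModule X :=
    H10Coh.Tw.commIso L L' ≪≫ PicGrp.tensorModIso ψ.symm (Iso.refl L) ≪≫
      ((H16Derived.KFlat.Stalk.pullTensorLIso π N).app (ClSub.idealMod J)).symm ≪≫
      (Scheme.Modules.pullback π).mapIso eN ≪≫ H16Derived.KFlat.Stalk.structurePullbackIso π
  refine ⟨?_, ?_⟩
  · -- the section meets a fibre once
    have hσk : σ ≫ (X ↘ Spec (CommRingCat.of k)) = C ↘ Spec (CommRingCat.of k) := by
      rw [← hπ, reassoc_of% hσ]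
    haveI : IsSeparated π := by
      haveI : IsSeparated (π ≫ (C ↘ Spec (CommRingCat.of k))) := by rw [hπ]; infer_instance
      exact IsSeparated.of_comp π (C ↘ Spec (CommRingCat.of k))
    haveI : IsClosedImmersion σ := by
      haveI : IsClosedImmersion (σ ≫ π) := by rw [hσ]; infer_instance
      exact IsClosedImmersion.of_comp σ π
    have hI := H28Int.isInvertible_idealMod_curve k hdim σ hdimC
    rw [H28Int.intNum_curve k hdim σ hσk hI hdimC hL hFi e]
    let P := (Scheme.Modules.pullback σ).obj L
    have eP : P ≅ N := (Scheme.Modules.pullbackComp σ π).app N ≪≫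
      (Scheme.Modules.pullbackCongr hσ).app N ≪≫ (Scheme.Modules.pullbackId C).app N
    have hd := H29RR.deg_tensor (k := k) hdimC.le hJi hN
    rw [H29RR.deg_congr (k := k) eN, H29RR.deg_structureModule] at hd
    have hp : H29RR.ptIdeal y = J := by
      haveI : IsClosedImmersion (C.fromSpecResidueField y) := isClosed_singleton_iff_isClosedImmersion.mp hy
      refine (H17.ker_eq_vanishingIdeal _).trans ?_
      rw [hJ]; congr 1
      refine TopologicalSpace.Closeds.ext ?_
      show closure (Set.range (C.fromSpecResidueField y)) = {y}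
      rw [Scheme.range_fromSpecResidueField, hy.closure_eq]
    have hpt := H27CurveZeta.deg_pt (k := k) hdimC hy
    rw [hp, H29RR.finrank_residue_eq_one (k := k) hy] at hpt
    rw [H29RR.deg_congr (k := k) eP]
    push_cast at hpt
    omega
  · -- a fibre does not meet itself
    obtain ⟨φ⟩ := hfib y hy
    haveI : IsIntegral (π.fiber y) :=
      haveI := H29DoubleCover.isIntegral_projLine k
      haveI : Nonempty (π.fiber y) := ⟨φ.inv (Classical.arbitrary _)⟩
      isIntegral_of_isOpenImmersion φ.hom
    haveI : IsClosedImmersion (C.fromSpecResidueField y) := isClosed_singleton_iff_isClosedImmersion.mp hy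
    haveI : IsClosedImmersion (π.fiberι y) :=
      inferInstanceAs (IsClosedImmersion (pullback.fst π (C.fromSpecResidueField y)))
    letI : (π.fiber y).Over (Spec (CommRingCat.of k)) := ⟨π.fiberι y ≫ (X ↘ Spec (CommRingCat.of k))⟩
    haveI : IsProper ((π.fiber y) ↘ Spec (CommRingCat.of k)) :=
      inferInstanceAs (IsProper (π.fiberι y ≫ (X ↘ Spec (CommRingCat.of k))))
    have hdimF : topologicalKrullDim ↥(π.fiber y) = 1 := by
      have hh := IsHomeomorph.topologicalKrullDim_eq _ (Scheme.homeoOfIso φ).isHomeomorph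
      exact hh.trans (H28Curve.projLine_facts k).2.2
    have h := H28Int.intNum_curve k hdim (π.fiberι y) rfl (by rw [hker]; exact hFi) hdimF hL hFi e
    rw [hker] at h
    rw [h]
    have hconst : ∀ z, (π.fiberι y ≫ π) z = y := fun z => by
      have hz : π.fiberι y z ∈ Set.range (π.fiberι y) := ⟨z, rfl⟩
      rw [Scheme.Hom.range_fiberι] at hz
      exact hz
    have h0 : H28Int.D k [(Scheme.Modules.pullback (π.fiberι y ≫ π)).obj N]
        (Coh.structureModule (π.fiber y)) = 0 :=
      H28Int.Curves.D_pullback_const k (π.fiberι y ≫ π) (x := y) hconst hN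
    have h2 := H25Euler.euler_congr (k := k) ((Scheme.Modules.pullbackComp (π.fiberι y) π).app N)
    have h3 : Curv2.euler k (π.fiber y) (Coh.structureModule (π.fiber y)) - Curv2.euler k (π.fiber y)
        (CohB1.tensorMod ((Scheme.Modules.pullback (π.fiberι y ≫ π)).obj N)
          (Coh.structureModule (π.fiber y))) = 0 := h0
    rw [H25Euler.euler_congr (H10Coh.Tw.rightUnitIso _)] at h3
    rw [Curv2.deg, Nat.cast_one, one_mul]
    change Curv2.euler k _ ((Scheme.Modules.pullback (π.fiberι y)).obj L) =
      Curv2.euler k _ ((Scheme.Modules.pullback (π.fiberι y ≫ π)).obj N) at h2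
    omega

end Groth.Agent.S12436
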