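import Groth.Statements.S12437
import Mathlib

set_option autoImplicit false
universe u
open Cubic

namespace Groth.Agent.S12437

open MvPolynomial

variable (k : Type u) [Field k]

noncomputable def G4 : MvPolynomial (Fin 4) k :=
  (X 1 * X 2 * X 3 - (X 1 + X 2 + X 3) * (X 1 * X 2 + X 1 * X 3 + X 2 * X 3)) * X 0 ^ 2
    - (X 1 * X 2 + X 1 * X 3 + X 2 * X 3) ^ 2 * X 0
    - (X 1 * X 2 + X 1 * X 3 + X 2 * X 3) * (X 1 * X 2 * X 3)

lemma not_prime_dvd_two {π : MvPolynomial (Fin 3) k} (hπ : Prime π) {i j l : Fin 3}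
    (hij : i ≠ j) (hs : π ∣ X i + X j) (hb : π ∣ X i * X j + X l * (X i + X j)) : False := by
  have hij' : π ∣ (X i * X j : MvPolynomial (Fin 3) k) := (dvd_add_left (hs.mul_left _)).mp hb
  have h : π ∣ (X i : MvPolynomial (Fin 3) k) ∧ π ∣ (X j : MvPolynomial (Fin 3) k) := by
    rcases hπ.dvd_mul.mp hij' with h | h
    · exact ⟨h, (dvd_add_right h).mp hs⟩
    · exact ⟨(dvd_add_left h).mp hs, h⟩
  have ha : Associated π (X i : MvPolynomial (Fin 3) k) :=
    hπ.associated_of_dvd (MvPolynomial.X_prime (i := i)) h.1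
  have := map_dvd (MvPolynomial.eval (fun m : Fin 3 => if m = i then (0 : k) else 1))
    (ha.dvd'.trans h.2)
  simp [hij.symm] at this

open Polynomial in
lemma G4_irreducible [CharZero k] : Irreducible (G4 k) := by
  apply (MulEquiv.irreducible_iff (finSuccEquiv k 3).toMulEquiv).mp
  set b : MvPolynomial (Fin 3) k := MvPolynomial.X 0 * MvPolynomial.X 1
    + MvPolynomial.X 0 * MvPolynomial.X 2 + MvPolynomial.X 1 * MvPolynomial.X 2 with hb
  set a : MvPolynomial (Fin 3) k := MvPolynomial.X 0 + MvPolynomial.X 1 + MvPolynomial.X 2 with ha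
  set c : MvPolynomial (Fin 3) k := MvPolynomial.X 0 * MvPolynomial.X 1 * MvPolynomial.X 2 with hc
  have hG : (finSuccEquiv k 3) (G4 k) = Polynomial.C (c - a * b) * Polynomial.X ^ 2
      + Polynomial.C (-b ^ 2) * Polynomial.X + Polynomial.C (-(b * c)) := by
    have e1 : (1 : Fin 4) = (0 : Fin 3).succ := rfl
    have e2 : (2 : Fin 4) = (1 : Fin 3).succ := rfl
    have e3 : (3 : Fin 4) = (2 : Fin 3).succ := rfl
    simp only [G4, e1, e2, e3, map_sub, map_add, map_mul, map_pow, finSuccEquiv_X_zero,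
      finSuccEquiv_X_succ, map_neg, hb, ha, hc]
    ring
  rw [show ((finSuccEquiv k 3).toMulEquiv : _ → _) (G4 k) = finSuccEquiv k 3 (G4 k) from rfl, hG]
  have hAne : c - a * b ≠ 0 := by
    intro h
    have := congr_arg (MvPolynomial.eval (fun _ => (1 : k))) h
    norm_num [ha, hb, hc] at this
  set P0 := Polynomial.C (c - a * b) * Polynomial.X ^ 2
      + Polynomial.C (-b ^ 2) * Polynomial.X + Polynomial.C (-(b * c)) with hP0
  have hdeg : P0.natDegree = 2 := Polynomial.natDegree_quadratic hAne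
  have hne : P0 ≠ 0 := fun h => by simp [h] at hdeg
  have hq : ∀ A B C' : MvPolynomial (Fin 3) k,
      (Polynomial.C A * Polynomial.X ^ 2 + Polynomial.C B * Polynomial.X + Polynomial.C C').coeff 2 = A ∧
      (Polynomial.C A * Polynomial.X ^ 2 + Polynomial.C B * Polynomial.X + Polynomial.C C').coeff 1 = B ∧
      (Polynomial.C A * Polynomial.X ^ 2 + Polynomial.C B * Polynomial.X + Polynomial.C C').coeff 0 = C' :=
    fun A B C' => by refine ⟨?_, ?_, ?_⟩ <;> simp [Polynomial.coeff_C, Polynomial.coeff_X]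
  have hc2 : P0.coeff 2 = c - a * b := (hq _ _ _).1
  have hc1 : P0.coeff 1 = -b ^ 2 := (hq _ _ _).2.1
  have hc0 : P0.coeff 0 = -(b * c) := (hq _ _ _).2.2
  have hunit : ∀ r, Polynomial.C r ∣ P0 → IsUnit r := by
    intro r hr
    rw [Polynomial.C_dvd_iff_dvd_coeff] at hr
    by_contra hu
    have hr2 := hr 2
    rw [hc2] at hr2
    have hr0 : r ≠ 0 := fun h => hAne (zero_dvd_iff.mp (h ▸ hr2))
    obtain ⟨π, hπ, hπr⟩ := WfDvdMonoid.exists_irreducible_factor hu hr0
    have hπp : Prime π := hπ.prime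
    have hπb : π ∣ b := by
      have := hr 1
      rw [hc1, dvd_neg] at this
      exact hπp.dvd_of_dvd_pow (hπr.trans this)
    have h : π ∣ (MvPolynomial.X 0 + MvPolynomial.X 1) * (MvPolynomial.X 0 + MvPolynomial.X 2)
        * (MvPolynomial.X 1 + MvPolynomial.X 2) := by
      refine (hπr.trans (dvd_neg.mpr hr2)).trans (dvd_of_eq ?_)
      rw [ha, hb, hc]
      ring
    rcases hπp.dvd_mul.mp h with h | h
    · rcases hπp.dvd_mul.mp h with h | h
      · refine not_prime_dvd_two k hπp (l := 2) (by decide : (0 : Fin 3) ≠ 1) h ?_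
        convert hπb using 1
        rw [hb]; ring
      · refine not_prime_dvd_two k hπp (l := 1) (by decide : (0 : Fin 3) ≠ 2) h ?_
        convert hπb using 1
        rw [hb]; ring
    · refine not_prime_dvd_two k hπp (l := 0) (by decide : (1 : Fin 3) ≠ 2) h ?_
      convert hπb using 1
      rw [hb]; ring
  constructor
  · exact fun h => by simp [Polynomial.natDegree_eq_zero_of_isUnit h] at hdeg
  intro f g hfg
  have hf0 : f ≠ 0 := by rintro rfl; exact hne (by rw [hfg, zero_mul])
  have hg0 : g ≠ 0 := by rintro rfl; exact hne (by rw [hfg, mul_zero])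
  have hd : f.natDegree + g.natDegree = 2 := by rw [← Polynomial.natDegree_mul hf0 hg0, ← hfg, hdeg]
  rcases Nat.eq_zero_or_pos f.natDegree with hf | hf
  · left
    rw [Polynomial.eq_C_of_natDegree_eq_zero hf] at hfg ⊢
    exact Polynomial.isUnit_C.mpr (hunit _ (hfg ▸ dvd_mul_right _ _))
  rcases Nat.eq_zero_or_pos g.natDegree with hg | hg
  · right
    rw [Polynomial.eq_C_of_natDegree_eq_zero hg] at hfg ⊢
    exact Polynomial.isUnit_C.mpr (hunit _ (hfg ▸ dvd_mul_left _ _))
  exfalso
  obtain ⟨α, β, rfl⟩ := Polynomial.exists_eq_X_add_C_of_natDegree_le_one (show f.natDegree ≤ 1 by omega)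
  obtain ⟨γ, δ, rfl⟩ := Polynomial.exists_eq_X_add_C_of_natDegree_le_one (show g.natDegree ≤ 1 by omega)
  rw [show (Polynomial.C α * Polynomial.X + Polynomial.C β) * (Polynomial.C γ * Polynomial.X + Polynomial.C δ)
    = Polynomial.C (α * γ) * Polynomial.X ^ 2 + Polynomial.C (α * δ + β * γ) * Polynomial.X
      + Polynomial.C (β * δ) by simp only [map_mul, map_add]; ring] at hfg
  have e2 := congr_arg (Polynomial.coeff · 2) hfg
  have e1 := congr_arg (Polynomial.coeff · 1) hfg
  have e0 := congr_arg (Polynomial.coeff · 0) hfg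
  simp only [hc2, (hq _ _ _).1] at e2
  simp only [hc1, (hq _ _ _).2.1] at e1
  simp only [hc0, (hq _ _ _).2.2] at e0
  have hsq : b * (b ^ 3 + 4 * c * (c - a * b)) = (α * δ - β * γ) ^ 2 := by
    linear_combination (-b ^ 2 + (α * δ + β * γ)) * e1 + (4 * b * c) * e2 + (-4 * α * γ) * e0
  let ψ : MvPolynomial (Fin 3) k →+* Polynomial k :=
    MvPolynomial.eval₂Hom Polynomial.C ![1, 1, Polynomial.X]
  obtain ⟨w, h⟩ : ∃ w : Polynomial k, (1 + 2 * Polynomial.X) * ((1 + 2 * Polynomial.X) ^ 3
      + 4 * Polynomial.X * (Polynomial.X - (2 + Polynomial.X) * (1 + 2 * Polynomial.X))) = w ^ 2 := by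
    refine ⟨ψ (α * δ - β * γ), ?_⟩
    rw [← map_pow, ← hsq]
    simp [ψ, ha, hb, hc]
    ring
  set r : k := -(2 : k)⁻¹ with hr
  have hr1 : 1 + 2 * r = 0 := by rw [hr]; simp
  have h0 := congr_arg (Polynomial.eval r) h
  simp [hr1] at h0
  have hw0 : Polynomial.eval r w = 0 := by
    first | exact h0 | exact pow_eq_zero_iff (two_ne_zero) |>.mp h0.symm
  have h1 := congr_arg (fun q => Polynomial.eval r (Polynomial.derivative q)) h
  simp [hr1, hw0, Polynomial.derivative_mul, Polynomial.derivative_pow] at h1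
  rw [hr] at h1
  norm_num at h1

lemma esymm_five_two : esymm (Fin 5) k 2 = X 0 * X 1 + X 0 * X 2 + X 0 * X 3 + X 0 * X 4 + X 1 * X 2
    + X 1 * X 3 + X 1 * X 4 + X 2 * X 3 + X 2 * X 4 + X 3 * X 4 := by
  rw [esymm, show (Finset.univ : Finset (Fin 5)).powersetCard 2 =
    {{0,1},{0,2},{0,3},{0,4},{1,2},{1,3},{1,4},{2,3},{2,4},{3,4}} by decide]
  repeat rw [Finset.sum_insert (by decide)]
  rw [Finset.sum_singleton]
  repeat rw [Finset.prod_insert (by decide)]
  simp only [Finset.prod_singleton]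
  ring

lemma esymm_five_four : esymm (Fin 5) k 4 = X 0 * X 1 * X 2 * X 3 + X 0 * X 1 * X 2 * X 4
    + X 0 * X 1 * X 3 * X 4 + X 0 * X 2 * X 3 * X 4 + X 1 * X 2 * X 3 * X 4 := by
  rw [esymm, show (Finset.univ : Finset (Fin 5)).powersetCard 4 =
    {{0,1,2,3},{0,1,2,4},{0,1,3,4},{0,2,3,4},{1,2,3,4}} by decide]
  repeat rw [Finset.sum_insert (by decide)]
  rw [Finset.sum_singleton]
  repeat rw [Finset.prod_insert (by decide)]
  simp only [Finset.prod_singleton]
  ring

/-- Over an algebraically closed field k of characteristic zero, the closed subscheme V(σ₂, σ₄) of A^5_k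
cut out by the elementary symmetric polynomials of degrees 2 and 4 in five variables — the affine
cone over the surface H = V_+(σ₂, σ₄) ⊂ P^4_k — is irreducible: the radical of the ideal (σ₂, σ₄) of
k[X_0, …, X_4] is a prime ideal. -/
theorem result (k : Type u) [Field k] [IsAlgClosed k] [CharZero k] :
    (Ideal.span ({MvPolynomial.esymm (Fin 5) k 2, MvPolynomial.esymm (Fin 5) k 4} :
      Set (MvPolynomial (Fin 5) k))).radical.IsPrime := by
  set I := Ideal.span ({MvPolynomial.esymm (Fin 5) k 2, MvPolynomial.esymm (Fin 5) k 4} :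
    Set (MvPolynomial (Fin 5) k)) with hI
  have hI2 : esymm (Fin 5) k 2 ∈ I := Ideal.subset_span (Or.inl rfl)
  have hI4 : esymm (Fin 5) k 4 ∈ I := Ideal.subset_span (Or.inr rfl)
  let ι : MvPolynomial (Fin 4) k →ₐ[k] MvPolynomial (Fin 5) k := rename Fin.castSucc
  set s' : MvPolynomial (Fin 4) k := X 0 + X 1 + X 2 + X 3 with hs'
  set u' : MvPolynomial (Fin 4) k :=
    X 0 * X 1 + X 0 * X 2 + X 0 * X 3 + X 1 * X 2 + X 1 * X 3 + X 2 * X 3 with hu'
  set v' : MvPolynomial (Fin 4) k :=
    X 0 * X 1 * X 2 + X 0 * X 1 * X 3 + X 0 * X 2 * X 3 + X 1 * X 2 * X 3 with hv'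
  have hG2 : ι s' * X 4 + ι u' = esymm (Fin 5) k 2 := by
    simp only [esymm_five_two, hs', hu', ι, map_add, map_mul, rename_X]
    simp only [show (Fin.castSucc (0 : Fin 4)) = 0 from rfl, show (Fin.castSucc (1 : Fin 4)) = 1 from rfl,
      show (Fin.castSucc (2 : Fin 4)) = 2 from rfl, show (Fin.castSucc (3 : Fin 4)) = 3 from rfl]
    ring
  have hGI : ι (G4 k) ∈ I := by
    have : ι (G4 k) = ι s' * esymm (Fin 5) k 4 - ι v' * esymm (Fin 5) k 2 := by
      simp only [esymm_five_two, esymm_five_four, G4, hs', hv', ι, map_add, map_sub, map_mul, map_pow,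
        rename_X]
      simp only [show (Fin.castSucc (0 : Fin 4)) = 0 from rfl, show (Fin.castSucc (1 : Fin 4)) = 1 from rfl,
        show (Fin.castSucc (2 : Fin 4)) = 2 from rfl, show (Fin.castSucc (3 : Fin 4)) = 3 from rfl]
      ring
    rw [this]
    exact sub_mem (I.mul_mem_left _ hI4) (I.mul_mem_left _ hI2)
  let p : Fin 5 → k := ![0, 0, 1, 1, -(2 : k)⁻¹]
  have h2 : (2 : k) ≠ 0 := two_ne_zero
  obtain ⟨p0, p1, p2, p3, p4⟩ : p 0 = 0 ∧ p 1 = 0 ∧ p 2 = 1 ∧ p 3 = 1 ∧ p 4 = -(2 : k)⁻¹ :=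
    ⟨rfl, rfl, rfl, rfl, rfl⟩
  have hGp : eval (p ∘ Fin.castSucc) (G4 k) = 0 := by
    simp [G4, p]
  have hsp : eval (p ∘ Fin.castSucc) s' ≠ 0 := by
    simp [hs', p]
  haveI hprime : (Ideal.span {G4 k}).IsPrime :=
    (Ideal.span_singleton_prime (G4_irreducible k).ne_zero).mpr (G4_irreducible k).prime
  let D := MvPolynomial (Fin 4) k ⧸ Ideal.span {G4 k}
  let K := FractionRing D
  let π : MvPolynomial (Fin 4) k →+* K := (algebraMap D K).comp (Ideal.Quotient.mk _)
  have hπ : ∀ g, π g = 0 ↔ G4 k ∣ g := fun g => by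
    rw [RingHom.comp_apply, map_eq_zero_iff _ (IsFractionRing.injective D K),
      Ideal.Quotient.eq_zero_iff_mem, Ideal.mem_span_singleton]
  have hs0 : π s' ≠ 0 := fun h => by
    obtain ⟨r, hr⟩ := (hπ _).mp h
    exact hsp (by rw [hr, map_mul, hGp, zero_mul])
  let φ : MvPolynomial (Fin 5) k →+* K := eval₂Hom (π.comp C)
    (Fin.snoc (fun i => π (X i)) (-(π u') / π s'))
  have hφι : ∀ g, φ (ι g) = π g := by
    intro g
    induction g using MvPolynomial.induction_on with
    | C a => simp [φ, ι]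
    | add a b ha hb => simp only [map_add, ha, hb]
    | mul_X a i ha => simp only [map_mul, ha]; simp [φ, ι]
  have hφ4 : φ (X 4) = -(π u') / π s' := by
    rw [show (4 : Fin 5) = Fin.last 4 from rfl]
    simp only [φ, eval₂Hom_X', Fin.snoc_last]
  have hred : ∀ f, ∃ n g, (ι s') ^ n * f - ι g ∈ I := by
    intro f
    induction f using MvPolynomial.induction_on with
    | C a => exact ⟨0, C a, by simp [ι]⟩
    | add a b ha hb =>
      obtain ⟨n, g, hg⟩ := ha
      obtain ⟨m, h, hh⟩ := hb
      refine ⟨n + m, s' ^ m * g + s' ^ n * h, ?_⟩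
      convert add_mem (I.mul_mem_left (ι s' ^ m) hg) (I.mul_mem_left (ι s' ^ n) hh) using 1
      simp only [map_add, map_mul, map_pow]
      ring
    | mul_X a i ha =>
      obtain ⟨n, g, hg⟩ := ha
      induction i using Fin.lastCases with
      | last =>
        refine ⟨n + 1, g * (-u'), ?_⟩
        convert add_mem (I.mul_mem_left (ι s' * X 4) hg) (I.mul_mem_left (ι g) hI2) using 1
        rw [← hG2, map_mul, map_neg, show (Fin.last 4) = (4 : Fin 5) from rfl]
        ring
      | cast i =>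
        refine ⟨n, g * X i, ?_⟩
        convert I.mul_mem_left (X i.castSucc) hg using 1
        simp only [map_mul, ι, rename_X]
        ring
  set P := RingHom.ker φ with hP
  haveI hPp : P.IsPrime := RingHom.ker_isPrime φ
  have hIP : I ≤ P := by
    have e2 : φ (esymm (Fin 5) k 2) = 0 := by
      rw [← hG2, map_add, map_mul, hφι, hφι, hφ4, mul_div_cancel₀ _ hs0]
      ring
    have e4 : φ (esymm (Fin 5) k 4) = 0 := by
      have : φ (ι s') * φ (esymm (Fin 5) k 4) = φ (ι (G4 k)) + φ (ι v') * φ (esymm (Fin 5) k 2) := by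
        rw [← map_mul, ← map_mul, ← map_add]
        congr 1
        simp only [esymm_five_two, esymm_five_four, G4, hs', hv', ι, map_add, map_sub, map_mul, map_pow,
          rename_X]
        simp only [show (Fin.castSucc (0 : Fin 4)) = 0 from rfl, show (Fin.castSucc (1 : Fin 4)) = 1 from rfl,
          show (Fin.castSucc (2 : Fin 4)) = 2 from rfl, show (Fin.castSucc (3 : Fin 4)) = 3 from rfl]
        ring
      rw [e2, mul_zero, add_zero, hφι, hφι, (hπ _).mpr dvd_rfl] at this
      exact (mul_eq_zero.mp this).resolve_left hs0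
    rw [hI, Ideal.span_le]
    rintro x (rfl | rfl)
    exacts [e2, e4]
  have hsat : ∀ f ∈ P, ∃ n, (ι s') ^ n * f ∈ I := by
    intro f hf
    obtain ⟨n, g, hg⟩ := hred f
    have h := hIP hg
    rw [hP, RingHom.mem_ker, map_sub, map_mul, RingHom.mem_ker.mp hf, mul_zero, zero_sub, neg_eq_zero,
      hφι, hπ] at h
    obtain ⟨r, rfl⟩ := h
    refine ⟨n, ?_⟩
    convert add_mem hg (I.mul_mem_right (ι r) hGI) using 1
    rw [map_mul]
    ring
  have hpI : ∀ t : k, ∀ f ∈ I, eval (t • p) f = 0 := by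
    intro t f hf
    refine (RingHom.mem_ker).mp ((Ideal.span_le.mpr ?_ : I ≤ RingHom.ker (eval (t • p))) hf)
    rintro x (rfl | rfl)
    · simp [esymm_five_two, p]
      field_simp
      ring
    · simp [esymm_five_four, p]
  have hsub : ∀ t : k, eval (t • p) (ι s') = t * 2 := by
    intro t
    simp [hs', ι, p]
    ring
  have hPp0 : ∀ f ∈ P, ∀ t : k, t ≠ 0 → eval (t • p) f = 0 := by
    intro f hf t ht
    obtain ⟨n, hn⟩ := hsat f hf
    have := hpI t _ hn
    rw [map_mul, map_pow, hsub] at this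
    exact (mul_eq_zero.mp this).resolve_left (pow_ne_zero _ (mul_ne_zero ht h2))
  have hP0 : ∀ f ∈ P, constantCoeff f = 0 := by
    intro f hf
    let q : Polynomial k := eval₂ Polynomial.C (fun i => Polynomial.C (p i) * Polynomial.X) f
    have hq : ∀ t, q.eval t = eval (t • p) f := by
      intro t
      simp only [q]
      clear hf
      induction f using MvPolynomial.induction_on with
      | C a => simp
      | add a b ha hb => simp only [eval₂_add, Polynomial.eval_add, map_add, ha, hb]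
      | mul_X a i ha => simp only [eval₂_mul, eval₂_X, Polynomial.eval_mul, Polynomial.eval_C, Polynomial.eval_X, map_mul, eval_X, ha, Pi.smul_apply, smul_eq_mul, mul_comm (p i) t]
    have : q = 0 := Polynomial.eq_zero_of_infinite_isRoot q
      ((Set.finite_singleton (0 : k)).infinite_compl.mono fun t ht => by
        simp only [Polynomial.IsRoot, Set.mem_setOf_eq]
        rw [hq]
        exact hPp0 f hf t ht)
    have h := hq 0
    rw [this, Polynomial.eval_zero, zero_smul] at h
    rw [h, constantCoeff_eq, eval_zero]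
    rfl
  let S := fun i : Fin 5 => rename (Equiv.swap i 4) (ι s')
  have hS : ∀ i, S i = (∑ l, X l) - X i := by
    intro i
    have : ι s' = (∑ l : Fin 5, X l) - X 4 := by
      simp only [hs', ι, map_add, rename_X, Fin.sum_univ_five]
      simp only [show (Fin.castSucc (0 : Fin 4)) = 0 from rfl, show (Fin.castSucc (1 : Fin 4)) = 1 from rfl,
        show (Fin.castSucc (2 : Fin 4)) = 2 from rfl, show (Fin.castSucc (3 : Fin 4)) = 3 from rfl]
      ring
    simp only [S, this, map_sub, map_sum, rename_X, Equiv.swap_apply_right]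
    congr 1
    exact Equiv.sum_comp (Equiv.swap i 4) (fun l => (X l : MvPolynomial (Fin 5) k))
  have hSP : ∀ i, S i ∉ P := by
    intro i hi
    have := hPp0 _ hi 1 one_ne_zero
    rw [one_smul, hS, map_sub, map_sum] at this
    simp only [Fin.sum_univ_five, eval_X] at this
    rw [p0, p1, p2, p3, p4] at this
    fin_cases i <;> simp only [Fin.zero_eta, Fin.mk_one, Fin.reduceFinMk, p0, p1, p2, p3, p4] at this <;> norm_num at this
  have hIinv : ∀ (τ : Equiv.Perm (Fin 5)) f, f ∈ I → rename τ f ∈ I := by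
    intro τ f hf
    refine (Ideal.span_le.mpr ?_ : I ≤ I.comap (rename τ)) hf
    rintro x (rfl | rfl) <;> simp only [SetLike.mem_coe, Ideal.mem_comap] <;>
      rw [rename_esymm] <;> assumption
  have hPinv : ∀ i f, f ∈ P → rename (Equiv.swap i 4) f ∈ P := by
    intro i f hf
    obtain ⟨n, hn⟩ := hsat f hf
    have := hIP (hIinv (Equiv.swap i 4) _ hn)
    rw [map_mul, map_pow] at this
    exact (hPp.mem_or_mem this).resolve_left fun h => hSP i (hPp.mem_of_pow_mem n h)
  suffices I.radical = P by rw [this]; exact hPp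
  refine le_antisymm ((hPp.isRadical.radical_le_iff).mpr hIP) ?_
  rw [Ideal.radical_eq_sInf]
  refine le_sInf fun Q hQ f hf => ?_
  obtain ⟨hIQ, hQp⟩ := hQ
  by_cases hall : ∃ i, S i ∉ Q
  · obtain ⟨i, hi⟩ := hall
    obtain ⟨n, hn⟩ := hsat _ (hPinv i f hf)
    have := hIQ (hIinv (Equiv.swap i 4) _ hn)
    rw [map_mul, map_pow, rename_rename (Equiv.swap i 4 : Fin 5 → Fin 5) (Equiv.swap i 4 : Fin 5 → Fin 5),
      ← Equiv.coe_trans, Equiv.swap_swap, Equiv.coe_refl, rename_id_apply] at this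
    exact (hQp.mem_or_mem this).resolve_left fun h => hi (hQp.mem_of_pow_mem n h)
  · push Not at hall
    have h4 : (∑ l : Fin 5, X l : MvPolynomial (Fin 5) k) ∈ Q := by
      have h : ∑ i, S i ∈ Q := Q.sum_mem fun i _ => hall i
      have e : ∑ i, S i = C (4 : k) * ∑ l : Fin 5, X l := by
        simp only [hS, Fin.sum_univ_five, map_ofNat]
        ring
      rw [e] at h
      have hu : IsUnit (C (4 : k) : MvPolynomial (Fin 5) k) := ((show (4 : k) ≠ 0 by norm_num).isUnit).map C
      exact (Ideal.unit_mul_mem_iff_mem Q hu).mp h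
    have hX : ∀ i, (X i : MvPolynomial (Fin 5) k) ∈ Q := by
      intro i
      convert sub_mem h4 (hall i) using 1
      rw [hS]; ring
    have hle : Ideal.span (Set.range (X : Fin 5 → MvPolynomial (Fin 5) k)) ≤ Q :=
      Ideal.span_le.mpr (by rintro _ ⟨i, rfl⟩; exact hX i)
    apply hle
    rw [← Set.image_univ, mem_ideal_span_X_image]
    intro m hm
    by_contra hcon
    push Not at hcon
    have hm0 : m = 0 := by ext i; exact hcon i (Set.mem_univ i)
    subst hm0
    exact mem_support_iff.mp hm (by rw [← constantCoeff_eq]; exact hP0 f hf)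

end Groth.Agent.S12437
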