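-- statement FlatMor.GrothFrozen.S1244 (Groth/Statements/S1244.lean; the theorem FlatMor.isIso_of_mono_lft_of_sections_over_nilLimit);
import Groth.Statements.S1244
import Mathlib.AlgebraicGeometry.ZariskisMainTheorem
import Mathlib.RingTheory.Jacobson.Ideal

set_option autoImplicit false
universe u
open FlatMor

namespace Groth.Agent.S1244
set_option backward.isDefEq.respectTransparency false
set_option maxHeartbeats 800000

open AlgebraicGeometry CategoryTheory in
/-- Let A be the limit of an inverse system of rings (A_n) indexed by the natural numbers whose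
transition maps are surjective with locally nilpotent kernels. Let T → Spec A be a monomorphism of
schemes which is locally of finite type. If each Spec A_n → Spec A factors through T, then T → Spec
A is an isomorphism. -/
theorem result {A : Type u} [CommRing A] (A' : ℕ → Type u) [∀ n, CommRing (A' n)]
    (φ : ∀ n, A' (n + 1) →+* A' n) (π : ∀ n, A →+* A' n) (hlim : FlatCA.IsRingLimit A A' φ π)
    (hsurj : ∀ n, Function.Surjective (φ n)) (hnil : ∀ n, ∀ x ∈ RingHom.ker (φ n), IsNilpotent x)
    {T : Scheme.{u}} (h : T ⟶ Spec (CommRingCat.of A)) [Mono h] [LocallyOfFiniteType h]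
    (hsec : ∀ n, ∃ g : Spec (CommRingCat.of (A' n)) ⟶ T, g ≫ h = Spec.map (CommRingCat.ofHom (π n))) :
    IsIso h := by
  obtain ⟨hπ, hinj, hex⟩ := hlim
  choose g hg using hsec
  -- π₀ is surjective with kernel in the Jacobson radical
  let ρ : ∀ n, A' n →+* A' 0 := fun n => Nat.rec (RingHom.id _) (fun m ψ => ψ.comp (φ m)) n
  have hρ : ∀ n, (ρ n).comp (π n) = π 0 := by
    intro n
    induction n with
    | zero => rfl
    | succ m ih =>
      show ((ρ m).comp (φ m)).comp (π (m + 1)) = π 0
      rw [RingHom.comp_assoc, hπ, ih]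
  have hρnil : ∀ n x, ρ n x = 0 → IsNilpotent x := by
    intro n
    induction n with
    | zero => exact fun x hx => ⟨1, by rw [pow_one]; exact hx⟩
    | succ m ih =>
      intro x hx
      obtain ⟨N, hN⟩ := ih (φ m x) hx
      obtain ⟨M, hM⟩ := hnil m (x ^ N) (by rw [RingHom.mem_ker, map_pow, hN])
      exact ⟨N * M, by rw [pow_mul, hM]⟩
  have hker : RingHom.ker (π 0) ≤ (⊥ : Ideal A).jacobson := by
    intro a ha
    refine Ideal.mem_jacobson_bot.mpr fun b => ?_
    have hu : ∀ n, IsUnit (π n (a * b + 1)) := fun n => by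
      rw [map_add, map_mul, map_one]
      refine IsNilpotent.isUnit_add_one (Commute.isNilpotent_mul_right (Commute.all _ _) (hρnil n (π n a) ?_))
      rw [← RingHom.comp_apply, hρ]; exact ha
    obtain ⟨v, hv⟩ := hex (fun n => ((hu n).unit⁻¹ : (A' n)ˣ)) fun n => by
      refine ((hu n).unit.inv_eq_of_mul_eq_one_right ?_).symm
      have h1 : φ n (π (n + 1) (a * b + 1) * ((hu (n + 1)).unit⁻¹ : (A' (n + 1))ˣ)) = 1 := by
        rw [IsUnit.mul_val_inv, map_one]
      rw [map_mul, ← RingHom.comp_apply, hπ] at h1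
      exact h1
    refine IsUnit.of_mul_eq_one v (hinj _ _ fun n => ?_)
    rw [map_mul, map_one, hv n, IsUnit.mul_val_inv]
  have hsurj0 : Function.Surjective (π 0) := by
    intro x
    choose σ hσ using hsurj
    obtain ⟨a, ha⟩ := hex (fun n => Nat.rec x (fun m y => σ m y) n) (fun n => hσ n _)
    exact ⟨a, ha 0⟩
  -- a quasi-compact open containing the image of the reduced section
  haveI : CompactSpace (Spec (CommRingCat.of (A' 0))) := inferInstance
  obtain ⟨U, hU, hgU⟩ : ∃ U : T.Opens, IsCompact (U : Set T) ∧ Set.range (g 0) ⊆ (U : Set T) := by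
    obtain ⟨t, ht⟩ := (isCompact_range (g 0).continuous).elim_finite_subcover
      (fun V : T.affineOpens => (V.1 : Set T)) (fun V => V.1.2) (fun y _ => by
        obtain ⟨V, hV, hyV, -⟩ := exists_isAffineOpen_mem_and_subset (X := T) (x := y) (U := ⊤) trivial
        exact Set.mem_iUnion.mpr ⟨⟨V, hV⟩, hyV⟩)
    refine ⟨⨆ V ∈ t, V.1, ?_, ?_⟩
    · simp only [TopologicalSpace.Opens.coe_iSup]
      exact t.finite_toSet.isCompact_biUnion fun V _ => V.2.isCompact
    · simpa only [TopologicalSpace.Opens.coe_iSup] using ht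
  haveI : CompactSpace (U : Scheme.{u}) := isCompact_iff_compactSpace.mp hU
  let hh := U.ι ≫ h
  haveI : LocallyQuasiFinite hh :=
    LocallyQuasiFinite.of_injective (hh.injective)
  haveI : QuasiCompact hh := HasAffineProperty.iff_of_isAffine.mpr (inferInstance : CompactSpace _)
  haveI : IsAffine hh.normalization := isAffine_of_isAffineHom hh.fromNormalization
  let N := hh.normalization
  -- all sections lie in `U`
  have hgn : ∀ n, Spec.map (CommRingCat.ofHom (φ n)) ≫ g (n + 1) = g n := fun n => by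
    rw [← cancel_mono h, Category.assoc, hg, hg, ← Spec.map_comp, ← CommRingCat.ofHom_comp, hπ]
  have hgρ : ∀ n, Spec.map (CommRingCat.ofHom (ρ n)) ≫ g n = g 0 := fun n => by
    rw [← cancel_mono h, Category.assoc, hg, hg, ← Spec.map_comp, ← CommRingCat.ofHom_comp, hρ]
  have hrU : ∀ n, Set.range (g n) ⊆ Set.range U.ι := fun n => by
    rw [Scheme.Opens.range_ι]
    rintro _ ⟨z, rfl⟩
    obtain ⟨w, rfl⟩ : z ∈ Set.range (Spec.map (CommRingCat.ofHom (ρ n))) := by
      have hs : Function.Surjective (ρ n) := by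
        intro x
        obtain ⟨a, rfl⟩ := hsurj0 x
        exact ⟨π n a, by rw [← RingHom.comp_apply, hρ]⟩
      show z ∈ Set.range (PrimeSpectrum.comap (ρ n))
      rw [range_comap_of_surjective _ _ hs]
      exact (PrimeSpectrum.mem_zeroLocus _ _).mpr fun y hy =>
        nilradical_le_prime (z : PrimeSpectrum (A' n)).asIdeal (hρnil n y hy)
    rw [← Scheme.Hom.comp_apply, hgρ]
    exact hgU ⟨w, rfl⟩
  let gU := fun n => IsOpenImmersion.lift U.ι (g n) (hrU n) ≫ hh.toNormalization
  have hgUc : ∀ n, Spec.map (CommRingCat.ofHom (φ n)) ≫ gU (n + 1) = gU n := fun n => by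
    simp only [gU, ← Category.assoc]
    congr 1
    rw [← cancel_mono U.ι, Category.assoc, IsOpenImmersion.lift_fac, IsOpenImmersion.lift_fac, hgn]
  let γ : ∀ n, Γ(N, ⊤) ⟶ CommRingCat.of (A' n) := fun n => Spec.preimage (gU n ≫ N.isoSpec.hom)
  have hγ : ∀ n, Spec.map (γ n) = gU n ≫ N.isoSpec.hom := fun n => Spec.map_preimage _
  have hγc : ∀ n x, φ n ((γ (n + 1)).hom x) = (γ n).hom x := fun n x => by
    have : γ (n + 1) ≫ CommRingCat.ofHom (φ n) = γ n := Spec.map_injective (by
      rw [Spec.map_comp, hγ, hγ, ← Category.assoc, hgUc])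
    exact congrArg (fun ψ => ψ.hom x) this
  choose r hr using fun x => hex (fun n => (γ n).hom x) fun n => hγc n x
  let R : Γ(N, ⊤) →+* A :=
    { toFun := r
      map_one' := hinj _ _ fun n => by rw [hr, map_one, map_one]
      map_zero' := hinj _ _ fun n => by rw [hr, map_zero, map_zero]
      map_mul' := fun x y => hinj _ _ fun n => by rw [hr, map_mul, map_mul, hr, hr]
      map_add' := fun x y => hinj _ _ fun n => by rw [hr, map_add, map_add, hr, hr] }
  let s : Spec (CommRingCat.of A) ⟶ N := Spec.map (CommRingCat.ofHom R) ≫ N.isoSpec.inv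
  have hs : ∀ n, Spec.map (CommRingCat.ofHom (π n)) ≫ s = gU n := fun n => by
    have : CommRingCat.ofHom R ≫ CommRingCat.ofHom (π n) = γ n :=
      CommRingCat.hom_ext (RingHom.ext fun x => hr x n)
    simp only [s]
    rw [← Category.assoc, ← Spec.map_comp, this, hγ, Category.assoc, Iso.hom_inv_id, Category.comp_id]
  have hsid : s ≫ hh.fromNormalization = 𝟙 _ := by
    obtain ⟨β, hβ⟩ := Spec.map_surjective (s ≫ hh.fromNormalization)
    rw [← hβ, ← Spec.map_id]
    refine congrArg Spec.map (CommRingCat.hom_ext (RingHom.ext fun a => hinj _ _ fun n => ?_))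
    have : β ≫ CommRingCat.ofHom (π n) = CommRingCat.ofHom (π n) := Spec.map_injective (by
      rw [Spec.map_comp, hβ, reassoc_of% (hs n)]
      simp only [gU, Category.assoc, Scheme.Hom.toNormalization_fromNormalization, hh,
        IsOpenImmersion.lift_fac_assoc, hg])
    exact congrArg (fun ψ => ψ.hom a) this
  have hmem : ∀ P : Spec (CommRingCat.of A), s P ∈ hh.toNormalization.opensRange := by
    intro P
    obtain ⟨m, hm, hPm⟩ := Ideal.exists_le_maximal (P : PrimeSpectrum A).asIdeal
      (P : PrimeSpectrum A).2.ne_top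
    have hm0 : (⟨m, hm.isPrime⟩ : PrimeSpectrum A) ∈ Set.range (PrimeSpectrum.comap (π 0)) := by
      rw [range_comap_of_surjective _ _ hsurj0, PrimeSpectrum.mem_zeroLocus]
      exact fun y hy => (Ideal.jacobson_bot.le (hker hy) : y ∈ Ring.jacobson A) |> fun hj => by
        rw [Ring.jacobson_eq_sInf_isMaximal] at hj
        exact Ideal.mem_sInf.mp hj hm
    obtain ⟨z, hz⟩ := hm0
    have hsp : (P : Spec (CommRingCat.of A)) ⤳ (⟨m, hm.isPrime⟩ : PrimeSpectrum A) :=
      (PrimeSpectrum.le_iff_specializes _ _).mp hPm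
    refine (hsp.map s.continuous).mem_open hh.toNormalization.opensRange.2 ?_
    rw [← hz]
    show (Spec.map (CommRingCat.ofHom (π 0)) ≫ s) z ∈ _
    rw [hs 0]
    exact ⟨_, rfl⟩
  let σ := IsOpenImmersion.lift hh.toNormalization s (by rintro _ ⟨P, rfl⟩; exact hmem P)
  have hσ : (σ ≫ U.ι) ≫ h = 𝟙 _ := by
    rw [Category.assoc, show U.ι ≫ h = hh from rfl, ← hh.toNormalization_fromNormalization,
      IsOpenImmersion.lift_fac_assoc, hsid]
  exact ⟨σ ≫ U.ι, by rw [← cancel_mono h, Category.assoc, hσ, Category.comp_id, Category.id_comp], hσ⟩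

end Groth.Agent.S1244
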