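import Groth.Statements.S12441
import Groth.Agent.H26Gr.Points
import Groth.Agent.H26Gr.Vanish

set_option autoImplicit false
universe u
open scoped TensorProduct
open Grass

namespace Groth.Agent.S12441

open AlgebraicGeometry CategoryTheory TensorProduct

theorem bc_mul {k B C A : Type u} [CommRing k] [Ring A] [Algebra k A] [CommRing B] [Algebra k B] [CommRing C]
    [Algebra k C] (φ : B →ₐ[k] C) (a : A) (x : B ⊗[k] A) :
    H26Gr.bc A φ (((1 : B) ⊗ₜ[k] a) * x) = ((1 : C) ⊗ₜ[k] a) * H26Gr.bc A φ x := by
  induction x using TensorProduct.induction_on with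
  | zero => simp
  | tmul b y => simp [H26Gr.bc]
  | add x y hx hy => simp only [mul_add, map_add, hx, hy]

open AlgebraicGeometry CategoryTheory in
/-- Let k be a field, A a possibly non-commutative k-algebra, e a natural number, and X a k-scheme
representing the Grassmannian functor Grass^e(A) on affine k-schemes — bijections, natural in the
commutative k-algebra B, between k-morphisms Spec B → X and B-submodules U of B ⊗_k A whose quotient
is finite projective of constant rank e. Then there is a closed immersion ι : Z → X such that a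
k-morphism g : Spec B → X factors through ι if and only if the submodule U attached to g is a left
ideal of B ⊗_k A, i.e. is stable under left multiplication by every 1 ⊗ a. -/
theorem result (k : Type u) [Field k] (A : Type u) [Ring A] [Algebra k A]
    (e : ℕ) (X : Over (Spec (CommRingCat.of k)))
    (eX : ∀ B : CommAlgCat.{u} k,
      ((Over.mk (Spec.map (CommRingCat.ofHom (algebraMap k B)))) ⟶ X) ≃ (Module.Grassmannian.functor (R := k) (M := A) e).obj B)
    (heX : ∀ (B C : CommAlgCat.{u} k) (φ : B ⟶ C)
      (g : Over.mk (Spec.map (CommRingCat.ofHom (algebraMap k B))) ⟶ X) (g' : Over.mk (Spec.map (CommRingCat.ofHom (algebraMap k C))) ⟶ X),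
      g'.left = Spec.map (CommRingCat.ofHom φ.hom.toRingHom) ≫ g.left →
        eX C g' = (Module.Grassmannian.functor (R := k) (M := A) e).map φ (eX B g)) :
    ∃ (Z : Scheme.{u}) (ι : Z ⟶ X.left), IsClosedImmersion ι ∧
      ∀ (B : CommAlgCat.{u} k) (g : Over.mk (Spec.map (CommRingCat.ofHom (algebraMap k B))) ⟶ X),
        (∃ h : (Over.mk (Spec.map (CommRingCat.ofHom (algebraMap k B)))).left ⟶ Z, h ≫ ι = g.left) ↔
          ∀ (a : A) (x : ↑B ⊗[k] A), x ∈ (eX B g).toSubmodule →
            ((1 : ↑B) ⊗ₜ[k] a) * x ∈ (eX B g).toSubmodule := by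
  let I : ∀ B : CommAlgCat.{u} k, (H26Gr.SR B ⟶ X) → Ideal B := fun B g =>
    H26Gr.vanIdeal (eX B g) {z | ∃ (a : A), ∃ x ∈ (eX B g).toSubmodule, z = ((1 : ↑B) ⊗ₜ[k] a) * x}
  refine H26Gr.exists_closed (fun B g => ∀ (a : A) (x : ↑B ⊗[k] A), x ∈ (eX B g).toSubmodule →
      ((1 : ↑B) ⊗ₜ[k] a) * x ∈ (eX B g).toSubmodule) I fun B C φ g g' hg => ?_
  refine Iff.trans ?_ (H26Gr.forall_mem_map_iff φ.hom (eX B g) _)
  have hN : (eX C g').toSubmodule = (Module.Grassmannian.map φ.hom (eX B g)).toSubmodule :=
    congrArg Module.Grassmannian.toSubmodule (heX B C φ g g' hg)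
  constructor
  · rintro h z ⟨a, x, hx, rfl⟩
    rw [bc_mul, ← hN]
    refine h a _ ?_
    rw [hN, H26Gr.map_toSubmodule_eq_span]
    exact Submodule.subset_span ⟨x, hx, rfl⟩
  · intro h a y hy
    rw [hN] at hy ⊢
    rw [H26Gr.map_toSubmodule_eq_span] at hy
    induction hy using Submodule.span_induction with
    | mem z hz =>
      obtain ⟨x, hx, rfl⟩ := hz
      rw [← bc_mul]
      exact h _ ⟨a, x, hx, rfl⟩
    | zero => rw [mul_zero]; exact Submodule.zero_mem _
    | add u w _ _ hu hw => rw [mul_add]; exact Submodule.add_mem _ hu hw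
    | smul c u _ hu => rw [mul_smul_comm]; exact Submodule.smul_mem _ c hu

end Groth.Agent.S12441
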