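import Groth.Statements.S12442
import Groth.Agent.H17.Imports

set_option autoImplicit false
universe u
open Mor

namespace Groth.Agent.S12442

open AlgebraicGeometry CategoryTheory in
/-- Let f : X → Y and g : Y → S be morphisms of schemes. If the composite X → S is locally of finite
presentation and g is locally of finite type, then f is locally of finite presentation. -/
theorem result {X Y S : Scheme.{u}} (f : X ⟶ Y) (g : Y ⟶ S)
    [LocallyOfFinitePresentation (f ≫ g)] [LocallyOfFiniteType g] :
    LocallyOfFinitePresentation f := by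
  rw [HasRingHomProperty.iff_exists_appLE (P := @LocallyOfFinitePresentation)]
  · intro x
    obtain ⟨_, ⟨W, hW, rfl⟩, hxW, -⟩ :=
      S.isBasis_affineOpens.exists_subset_of_mem_open (Set.mem_univ (g (f x))) isOpen_univ
    obtain ⟨_, ⟨U, hU, rfl⟩, hxU, e₁⟩ :=
      Y.isBasis_affineOpens.exists_subset_of_mem_open (show f x ∈ g ⁻¹ᵁ W from hxW) (g ⁻¹ᵁ W).2
    obtain ⟨_, ⟨V, hV, rfl⟩, hxV, e₂⟩ :=
      X.isBasis_affineOpens.exists_subset_of_mem_open (show x ∈ f ⁻¹ᵁ U from hxU) (f ⁻¹ᵁ U).2
    refine ⟨⟨U, hU⟩, ⟨V, hV⟩, hxV, e₂, ?_⟩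
    refine RingHom.FinitePresentation.of_comp_finiteType (g.appLE W U e₁).hom ?_
      (LocallyOfFiniteType.finiteType_appLE g hW hU e₁)
    have := LocallyOfFinitePresentation.finitePresentation_appLE (f ≫ g) hW hV (e₂.trans (f.preimage_mono e₁))
    rw [← Scheme.Hom.appLE_comp_appLE f g W U V e₁ e₂] at this
    exact this
  · exact RingHom.finitePresentation_stableUnderComposition.stableUnderCompositionWithLocalizationAway
      RingHom.finitePresentation_holdsForLocalizationAway |>.1

end Groth.Agent.S12442
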