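import Groth.Statements.S12444
import Groth.Agent.H28Top.Catenary

set_option autoImplicit false
universe u
open PtTop

namespace Groth.Agent.S12444

/-- A topological space X is catenary if and only if it has an open covering by catenary subspaces
(here: every point has a catenary open neighbourhood); and if X is catenary then so is every locally
closed subspace of X. -/
theorem result (X : Type u) [TopologicalSpace X] :
    (PtTop.IsCatenarySpace X ↔
      ∀ x : X, ∃ U : TopologicalSpace.Opens X, x ∈ U ∧ PtTop.IsCatenarySpace U) ∧
    (PtTop.IsCatenarySpace X → ∀ S : Set X, IsLocallyClosed S → PtTop.IsCatenarySpace S) := by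
  exact ⟨⟨fun h x => ⟨⊤, trivial, Groth.Agent.H28Top.isCatenarySpace_subtype isOpen_univ.isLocallyClosed h⟩,
    Groth.Agent.H28Top.isCatenarySpace_of_cover⟩, fun h S hS => Groth.Agent.H28Top.isCatenarySpace_subtype hS h⟩

end Groth.Agent.S12444
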