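import Groth.Statements.S12447
import Groth.Agent.H8Props.CatenaryBridge
import Groth.Agent.H8Props.DimFunctionExists

set_option autoImplicit false
universe u
open CategoryTheory AlgebraicGeometry
open Props

namespace Groth.Agent.S12447

/-- Let S be a locally Noetherian scheme. Then the underlying topological space of S is catenary if and
only if locally in the Zariski topology there is a dimension function, i.e. every point has an open
neighbourhood U carrying a function δ : U → ℤ which strictly decreases along nontrivial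
specializations and drops by exactly one along immediate specializations. -/
theorem result (S : Scheme.{u}) [IsLocallyNoetherian S] :
    PtTop.IsCatenarySpace S ↔
      ∀ s : S, ∃ U : S.Opens, s ∈ U ∧ ∃ δ : U → ℤ, PtTop.IsDimensionFunction δ := by
  refine ⟨fun h s ↦ ?_, fun h ↦ Groth.Agent.H28Top.isCatenarySpace_of_cover fun s ↦ ?_⟩
  · obtain ⟨W, hW, hsW, -⟩ := exists_isAffineOpen_mem_and_subset (x := s) (U := ⊤) trivial
    have : TopologicalSpace.NoetherianSpace (W : Set S) :=
      have := IsLocallyNoetherian.component_noetherian ⟨W, hW⟩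
      noetherianSpace_of_isAffineOpen W hW
    have : QuasiSober (W : Set S) := W.isOpen.isOpenEmbedding_subtypeVal.quasiSober
    obtain ⟨U, hsU, δ, hδ⟩ := Groth.Agent.H8Props.DimFunctionExists.exists_dimensionFunction
      (Groth.Agent.H28Top.isCatenarySpace_subtype W.isOpen.isLocallyClosed h) (⟨s, hsW⟩ : (W : Set S))
    refine ⟨⟨Subtype.val '' (U : Set (W : Set S)), W.isOpen.isOpenEmbedding_subtypeVal.isOpenMap _ U.2⟩,
      ⟨⟨s, hsW⟩, hsU, rfl⟩, ?_⟩
    have hmem : ∀ y : ↥(⟨Subtype.val '' (U : Set (W : Set S)), W.isOpen.isOpenEmbedding_subtypeVal.isOpenMap _ U.2⟩ : S.Opens),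
        ∃ hy : y.1 ∈ W, (⟨y.1, hy⟩ : (W : Set S)) ∈ U := by
      rintro ⟨_, ⟨w, hw, rfl⟩⟩
      exact ⟨w.2, hw⟩
    choose hyW hyU using hmem
    refine ⟨fun y ↦ δ ⟨⟨y.1, hyW y⟩, hyU y⟩, fun x y hxy hne ↦ hδ.1 _ _ ?_ ?_, fun x y hxy ↦ hδ.2 _ _ ⟨?_, ?_, ?_⟩⟩
    · simp only [subtype_specializes_iff] at hxy ⊢; exact hxy
    · exact fun e ↦ hne (Subtype.ext (congrArg (fun z ↦ z.1.1) e))
    · have := hxy.1; simp only [subtype_specializes_iff] at this ⊢; exact this
    · exact fun e ↦ hxy.2.1 (Subtype.ext (congrArg (fun z ↦ z.1.1) e))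
    · rintro ⟨⟨z, hzW⟩, hzU⟩ h1 h2
      rcases hxy.2.2 ⟨z, ⟨⟨z, hzW⟩, hzU, rfl⟩⟩ (by simp only [subtype_specializes_iff] at h1 ⊢; exact h1)
        (by simp only [subtype_specializes_iff] at h2 ⊢; exact h2) with e | e
      · exact .inl (Subtype.ext (Subtype.ext (Subtype.ext_iff.mp e :)))
      · exact .inr (Subtype.ext (Subtype.ext (Subtype.ext_iff.mp e :)))
  · obtain ⟨U, hsU, δ, hδ⟩ := h s
    have : QuasiSober (U : Set S) := U.isOpen.isOpenEmbedding_subtypeVal.quasiSober
    exact ⟨U, hsU, Groth.Agent.H28Top.isCatenarySpace_of_dimensionFunction hδ⟩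

end Groth.Agent.S12447
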