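import Groth.Statements.S12448
import Groth.Agent.H15Site.LanExact

set_option autoImplicit false
universe u
open CategoryTheory CategoryTheory.Limits
open CohSite

open Groth.Agent.H15Site


namespace Groth.Agent.S12448

/-- For a morphism of topoi given by a continuous functor u : D ⥤ C between small sites whose pullback
on sheaves of sets is exact, the pullback functor f⁻¹ on abelian sheaves, Ab(D) → Ab(C) (left
adjoint of u_*, so right exact in any case), preserves finite limits, i.e. is exact. -/
theorem result {C D : Type u} [SmallCategory C] [SmallCategory D]
    (J : GrothendieckTopology C) (K : GrothendieckTopology D) (u : D ⥤ C) [u.IsContinuous K J]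
    (hu : PreservesFiniteLimits (u.sheafPullback (Type u) K J)) :
    PreservesFiniteLimits (u.sheafPullback AddCommGrpCat.{u} K J) := by
  haveI := hu
  exact LanExact.preservesFiniteLimits (u := u) (J := J) (K := K)

end Groth.Agent.S12448
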