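-- statement FlatMor.GrothFrozen.S1245 (Groth/Statements/S1245.lean; the theorem FlatMor.hasImpurity_fp_closedPoint_of_hasImpurity);
import Groth.Statements.S1245
import Groth.Agent.H7Flat.ImpurityStage

set_option autoImplicit false
universe u
open FlatMor

namespace Groth.Agent.S1245
open scoped TensorProduct
set_option backward.isDefEq.respectTransparency false
set_option maxHeartbeats 1000000
set_option synthInstance.maxHeartbeats 400000

/-- Ring form, X = Spec B affine, base change rings affine: let B be a finite type A-algebra, N a finite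
B-module and p a prime of A. If there is an impurity of N above p, then there is one whose base
change A → A' is of finite presentation and whose point t is a closed point of the fibre of Spec A'
over p (the extension of t to the fibre ring is maximal). -/
theorem result {A B : Type u} [CommRing A] [CommRing B] [Algebra A B] [Algebra.FiniteType A B]
    (N : Type u) [AddCommGroup N] [Module B N] [Module.Finite B N] (p : Ideal A) [p.IsPrime]
    (h : FlatCA.HasImpurity A B N p (fun _ _ _ _ => True)) :
    FlatCA.HasImpurity A B N p (fun A' _ _ t => Algebra.FinitePresentation A A' ∧ (FlatCA.fiberIdeal p t).IsMaximal) := by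
  classical
  obtain ⟨A', B', N', _, _, _, _, _, _, _, _, _, _, _, _, _, _, f, t', t, _, _, P, _, himp, -⟩ := h
  obtain ⟨s, hs⟩ := Groth.Agent.H7Flat.ImpurityStage.exists_finset_hasImpurity himp
  let ψ : MvPolynomial s A →ₐ[A] A' := MvPolynomial.aeval (fun x => (x : A'))
  obtain ⟨a, ha, hkey⟩ := hs (MvPolynomial s A) ψ
    fun x hx => ⟨MvPolynomial.X ⟨x, hx⟩, by simp [ψ]⟩
  let tG : Ideal (MvPolynomial s A) := t.comap ψ
  have : tG.IsPrime := Ideal.comap_isPrime _ _
  have htp : t.LiesOver p := himp.2.2.2.1
  have : tG.LiesOver p := ⟨by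
    rw [Ideal.under]
    change p = (t.comap ψ.toRingHom).comap (algebraMap A (MvPolynomial s A))
    rw [Ideal.comap_comap, AlgHom.toRingHom_eq_coe, AlgHom.comp_algebraMap]
    exact htp.over⟩
  letI : Algebra (MvPolynomial s A) (p.Fiber (MvPolynomial s A)) :=
    Algebra.TensorProduct.rightAlgebra
  haveI : IsJacobsonRing (p.Fiber (MvPolynomial s A)) :=
    isJacobsonRing_of_finiteType (A := p.ResidueField)
  let J : Ideal (p.Fiber (MvPolynomial s A)) := FlatCA.fiberIdeal p tG
  let a' := algebraMap (MvPolynomial s A) (p.Fiber (MvPolynomial s A)) a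
  have hanot : a' ∉ J.jacobson := by
    rw [← Ideal.radical_eq_jacobson J]
    rintro ⟨n, hn⟩
    apply ha
    refine Ideal.IsPrime.mem_of_pow_mem inferInstance n ?_
    change a ^ n ∈ tG
    rw [← Groth.Agent.H7Flat.ImpurityDescend.comap_fiberIdeal p tG, Ideal.mem_comap, map_pow]
    exact hn
  obtain ⟨M, ⟨hJM, hM⟩, haM⟩ : ∃ M : Ideal (p.Fiber (MvPolynomial s A)),
      (J ≤ M ∧ M.IsMaximal) ∧ a' ∉ M := by
    have := hanot
    simp only [Ideal.jacobson, Submodule.mem_sInf, Set.mem_setOf_eq, not_forall] at this
    obtain ⟨M, hM, hMa⟩ := this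
    exact ⟨M, hM, hMa⟩
  let t₂ : Ideal (MvPolynomial s A) :=
    M.comap (algebraMap (MvPolynomial s A) (p.Fiber (MvPolynomial s A)))
  have : t₂.IsPrime := Ideal.comap_isPrime _ _
  haveI := hM.isPrime
  have ht₂ : t₂.LiesOver p := Groth.Agent.H7Flat.ImpurityStage.liesOver_comap_fiber p M
  refine hkey t₂ ht₂ ?_ haM _ ⟨inferInstance, ?_⟩
  · intro x hx
    exact hJM (Ideal.mem_map_of_mem _ hx)
  · rw [Groth.Agent.H7Flat.ImpurityDescend.fiberIdeal_comap p M]
    exact hM

end Groth.Agent.S1245
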