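import Groth.Statements.S12452
import Mathlib.Topology.Sheaves.SheafCondition.UniqueGluing
import Mathlib.Topology.Sheaves.Stalks

set_option linter.style.haveILetI false
open CategoryTheory CategoryTheory.Limits Opposite

set_option autoImplicit false
universe u
open CategoryTheory TopologicalSpace Opposite
open ShSp

namespace Groth.Agent.S12452

/-- For sheaves of sets, let f : X → Y be a continuous map, F a sheaf of sets on X, G a sheaf of sets on
Y, and B_X, B_Y bases for the topologies of X and Y. Suppose given, for every V in B_Y and U in B_X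
with U ⊆ f⁻¹V, a map φ_V^U : G(V) → F(U), compatibly with restrictions. Then there is exactly one
morphism of sheaves ψ : G → f_*F (an f-map G → F) such that G(V) → F(f⁻¹V) → F(U) equals φ_V^U for
every such pair. -/
theorem result {X Y : TopCat.{u}} (f : X ⟶ Y) (F : X.Sheaf (Type u)) (G : Y.Sheaf (Type u))
    {BX : Set (Opens X)} (hBX : Opens.IsBasis BX) {BY : Set (Opens Y)} (hBY : Opens.IsBasis BY)
    (φ : ∀ (V : BY) (U : BX), (U : Opens X) ≤ (Opens.map f).obj V →
      (G.presheaf.obj (op (V : Opens Y)) → F.presheaf.obj (op (U : Opens X))))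
    (hφ : ∀ (V V' : BY) (U U' : BX) (hUV : (U : Opens X) ≤ (Opens.map f).obj V)
      (hU'V' : (U' : Opens X) ≤ (Opens.map f).obj V') (hV : (V' : Opens Y) ≤ V) (hU : (U' : Opens X) ≤ U)
      (s : G.presheaf.obj (op (V : Opens Y))),
      F.presheaf.map (homOfLE hU).op (φ V U hUV s) = φ V' U' hU'V' (G.presheaf.map (homOfLE hV).op s)) :
    ∃! ψ : G ⟶ (TopCat.Sheaf.pushforward (Type u) f).obj F,
      ∀ (V : BY) (U : BX) (hUV : (U : Opens X) ≤ (Opens.map f).obj V) (s : G.presheaf.obj (op (V : Opens Y))),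
        F.presheaf.map (homOfLE hUV).op (ψ.1.app (op (V : Opens Y)) s) = φ V U hUV s := by
  have resG : ∀ {V₁ V₂ V₃ : Opens Y} (h₁ : V₂ ≤ V₁) (h₂ : V₃ ≤ V₂) (s : G.presheaf.obj (op V₁)),
      G.presheaf.map (homOfLE h₂).op (G.presheaf.map (homOfLE h₁).op s) = G.presheaf.map (homOfLE (h₂.trans h₁)).op s :=
    fun h₁ h₂ s => by rw [← ConcreteCategory.comp_apply, ← Functor.map_comp]; rfl
  have resF : ∀ {V₁ V₂ V₃ : Opens X} (h₁ : V₂ ≤ V₁) (h₂ : V₃ ≤ V₂) (s : F.presheaf.obj (op V₁)),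
      F.presheaf.map (homOfLE h₂).op (F.presheaf.map (homOfLE h₁).op s) = F.presheaf.map (homOfLE (h₂.trans h₁)).op s :=
    fun h₁ h₂ s => by rw [← ConcreteCategory.comp_apply, ← Functor.map_comp]; rfl
  let P : Opens Y → Type u := fun V => {p : BY × BX // (p.1 : Opens Y) ≤ V ∧ (p.2 : Opens X) ≤ (Opens.map f).obj p.1}
  have cov : ∀ V : Opens Y, (Opens.map f).obj V ≤ ⨆ p : P V, (p.1.2 : Opens X) := by
    intro V x hx
    obtain ⟨V', hV', hxV', hle⟩ := Opens.isBasis_iff_nbhd.1 hBY (show f x ∈ V from hx)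
    obtain ⟨U', hU', hxU', hle'⟩ := Opens.isBasis_iff_nbhd.1 hBX (show x ∈ (Opens.map f).obj V' from hxV')
    exact Opens.mem_iSup.2 ⟨⟨(⟨V', hV'⟩, ⟨U', hU'⟩), hle, hle'⟩, hxU'⟩
  have hle : ∀ {V : Opens Y} (p : P V), (p.1.2 : Opens X) ≤ (Opens.map f).obj V :=
    fun p => p.2.2.trans (fun x hx => p.2.1 hx)
  have compat : ∀ (V : Opens Y) (s : G.presheaf.obj (op V)), TopCat.Presheaf.IsCompatible F.1
      (fun p : P V => (p.1.2 : Opens X))
      (fun p => φ p.1.1 p.1.2 p.2.2 (G.presheaf.map (homOfLE p.2.1).op s)) := by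
    intro V s p q
    refine TopCat.Presheaf.section_ext F _ _ _ fun x hx => ?_
    obtain ⟨V'', hV'', hxV'', hleV⟩ := Opens.isBasis_iff_nbhd.1 hBY
      (show f x ∈ (p.1.1 : Opens Y) ⊓ (q.1.1 : Opens Y) from ⟨p.2.2 hx.1, q.2.2 hx.2⟩)
    obtain ⟨U'', hU'', hxU'', hleU⟩ := Opens.isBasis_iff_nbhd.1 hBX
      (show x ∈ ((p.1.2 : Opens X) ⊓ (q.1.2 : Opens X)) ⊓ (Opens.map f).obj V'' from ⟨hx, hxV''⟩)
    rw [← F.presheaf.germ_res_apply (homOfLE (hleU.trans inf_le_left)) x hxU'',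
      ← F.presheaf.germ_res_apply (homOfLE (hleU.trans inf_le_left)) x hxU'']
    congr 1
    erw [resF inf_le_left (hleU.trans inf_le_left), resF inf_le_right (hleU.trans inf_le_left),
      hφ p.1.1 ⟨V'', hV''⟩ p.1.2 ⟨U'', hU''⟩ p.2.2 (hleU.trans inf_le_right) (hleV.trans inf_le_left),
      hφ q.1.1 ⟨V'', hV''⟩ q.1.2 ⟨U'', hU''⟩ q.2.2 (hleU.trans inf_le_right) (hleV.trans inf_le_right),
      resG, resG]
  choose g hg hguniq using fun (V : Opens Y) (s : G.presheaf.obj (op V)) =>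
    F.existsUnique_gluing' (fun p : P V => (p.1.2 : Opens X)) ((Opens.map f).obj V)
      (fun p => homOfLE (hle p)) (cov V) _ (compat V s)
  let ψ : G ⟶ (TopCat.Sheaf.pushforward (Type u) f).obj F := ⟨
    { app := fun V => ↾(g V.unop)
      naturality := by
        intro V₁ V₂ k
        ext s
        refine (hguniq V₂.unop _ _ fun p => ?_).symm
        show F.presheaf.map _ (F.presheaf.map ((Opens.map f).map k.unop).op (g V₁.unop s)) = _
        rw [← ConcreteCategory.comp_apply, ← Functor.map_comp]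
        have := hg V₁.unop s ⟨p.1, p.2.1.trans k.unop.le, p.2.2⟩
        refine this.trans ?_
        congr 1
        rw [← resG k.unop.le p.2.1]
        rfl }⟩
  have hψ : ∀ (V : BY) (U : BX) (hUV : (U : Opens X) ≤ (Opens.map f).obj V) (s : G.presheaf.obj (op (V : Opens Y))),
        F.presheaf.map (homOfLE hUV).op (ψ.1.app (op (V : Opens Y)) s) = φ V U hUV s := by
    intro V U hUV s
    refine (hg (V : Opens Y) s ⟨(V, U), le_rfl, hUV⟩).trans ?_
    congr 1
    simp
  refine ⟨ψ, hψ, fun ψ' hψ' => ?_⟩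
  apply Sheaf.hom_ext
  ext V s
  induction V using Opposite.rec with | op V => ?_
  refine hguniq V s _ fun p => ?_
  refine Eq.trans ?_ (hψ' p.1.1 p.1.2 p.2.2 (G.presheaf.map (homOfLE p.2.1).op s))
  erw [← resF (show (Opens.map f).obj p.1.1 ≤ (Opens.map f).obj V from fun x hx => p.2.1 hx) p.2.2]
  congr 1
  exact (NatTrans.naturality_apply ψ'.1 (homOfLE p.2.1).op s).symm

end Groth.Agent.S12452
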