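import Groth.Statements.S12456
import Mathlib

set_option autoImplicit false
universe u
open CategoryTheory AlgebraicGeometry
open OmegaSh

namespace Groth.Agent.S12456

open TopologicalSpace in
lemma mul_eq_zero_of_app {T T' : Scheme.{u}} (j : T ⟶ T') [IsClosedImmersion j]
    (hj : j.ker * j.ker = ⊥) {W : T'.Opens} (s t : Γ(T', W))
    (hs : j.app W s = 0) (ht : j.app W t = 0) : s * t = 0 := by
  refine TopCat.Presheaf.section_ext T'.sheaf W _ _ fun x hx ↦ ?_
  obtain ⟨V, hV, hxV, hVW'⟩ := exists_isAffineOpen_mem_and_subset (U := W) hx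
  have hVW : V ≤ W := hVW'
  have key : ∀ r : Γ(T', W), j.app W r = 0 →
      T'.presheaf.map (homOfLE hVW).op r ∈ j.ker.ideal ⟨V, hV⟩ := by
    intro r hr
    rw [Scheme.Hom.ker_apply, RingHom.mem_ker, ← ConcreteCategory.comp_apply,
      Scheme.Hom.naturality, ConcreteCategory.comp_apply, hr, map_zero]
  have h0 : T'.presheaf.map (homOfLE hVW).op (s * t) = 0 := by
    have h1 : T'.presheaf.map (homOfLE hVW).op (s * t) ∈ (j.ker * j.ker).ideal ⟨V, hV⟩ := by
      rw [map_mul]
      exact Ideal.mul_mem_mul (key s hs) (key t ht)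
    rw [hj] at h1
    simpa using h1
  change T'.presheaf.germ W x hx (s * t) = T'.presheaf.germ W x hx 0
  rw [← T'.presheaf.germ_res_apply (homOfLE hVW) x hxV, h0, map_zero, map_zero]

lemma sq_le_ker {U T T' : Scheme.{u}} (I : U.IdealSheafData) (j : T ⟶ T')
    [IsClosedImmersion j] (hj : j.ker * j.ker = ⊥) (b : T' ⟶ U) (h : I ≤ (j ≫ b).ker) :
    I ^ 2 ≤ b.ker := by
  refine Scheme.IdealSheafData.le_ofIdeals_iff.mpr fun W ↦ ?_
  rw [Scheme.IdealSheafData.ideal_pow, Pi.pow_apply, pow_two, Ideal.mul_le]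
  intro x hx y hy
  rw [RingHom.mem_ker, map_mul]
  have key : ∀ z ∈ I.ideal W, j.app _ (b.app W.1 z) = 0 := fun z hz ↦ by
    have := Scheme.Hom.ideal_ker_le (j ≫ b) W (h W hz)
    rw [RingHom.mem_ker, Scheme.Hom.comp_app] at this
    exact this
  exact mul_eq_zero_of_app j hj _ _ (key x hx) (key y hy)

open TopologicalSpace in
lemma isFirstOrderThickening_inclusion {U : Scheme.{u}} (I : U.IdealSheafData) (h : I ^ 2 ≤ I) :
    MoreMor.IsFirstOrderThickening (Scheme.IdealSheafData.inclusion h) := by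
  set incl := Scheme.IdealSheafData.inclusion h with hincl
  have hfac : incl ≫ (I ^ 2).subschemeι = I.subschemeι :=
    Scheme.IdealSheafData.inclusion_subschemeι h
  have : IsClosedImmersion (incl ≫ (I ^ 2).subschemeι) := hfac ▸ inferInstance
  have hci : IsClosedImmersion incl :=
    IsClosedImmersion.of_comp_isClosedImmersion incl (I ^ 2).subschemeι
  refine ⟨⟨hci, ⟨fun z ↦ ?_⟩⟩, ?_⟩
  · have hz : (I ^ 2).subschemeι z ∈ Set.range I.subschemeι := by
      rw [I.range_subschemeι, ← Scheme.IdealSheafData.support_pow I 2 two_ne_zero,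
        ← (I ^ 2).range_subschemeι]
      exact Set.mem_range_self z
    obtain ⟨w, hw⟩ := hz
    refine ⟨w, (I ^ 2).subschemeι.isClosedEmbedding.injective ?_⟩
    rw [← Scheme.Hom.comp_apply, hfac, hw]
  · refine Scheme.IdealSheafData.ext_of_iSup_eq_top
      (fun W : U.affineOpens ↦ ⟨(I ^ 2).subschemeι ⁻¹ᵁ W.1,
        W.2.preimage (I ^ 2).subschemeι⟩) ?_ fun W ↦ ?_
    · refine eq_top_iff.mpr fun x _ ↦ ?_
      obtain ⟨V, hV, hxV, -⟩ := exists_isAffineOpen_mem_and_subset (U := ⊤)
        (x := (I ^ 2).subschemeι x) trivial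
      exact Opens.mem_iSup.mpr ⟨⟨V, hV⟩, hxV⟩
    · rw [Scheme.IdealSheafData.ideal_mul, Pi.mul_apply, Scheme.IdealSheafData.ideal_bot,
        Pi.bot_apply, eq_bot_iff, Ideal.mul_le, Scheme.Hom.ker_apply]
      intro x hx y hy
      obtain ⟨x, rfl⟩ := (I ^ 2).subschemeι.app_surjective W.1 W.2 x
      obtain ⟨y, rfl⟩ := (I ^ 2).subschemeι.app_surjective W.1 W.2 y
      have key : ∀ z, incl.app _ ((I ^ 2).subschemeι.app W.1 z) = 0 → z ∈ I.ideal W := by
        intro z hz
        have : (incl ≫ (I ^ 2).subschemeι).ker = I := by rw [hfac, I.ker_subschemeι]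
        rw [← this, Scheme.Hom.ker_apply, RingHom.mem_ker, Scheme.Hom.comp_app]
        exact hz
      rw [Ideal.mem_bot, ← map_mul, ← RingHom.mem_ker, (I ^ 2).ker_subschemeι_app,
        Scheme.IdealSheafData.ideal_pow, Pi.pow_apply, pow_two]
      exact Ideal.mul_mem_mul (key x hx) (key y hy)



/-- Let i : Z → X be an immersion, written as the closed subscheme of an open U ⊆ X cut out by an ideal
sheaf I followed by the inclusion of U. Then the first order infinitesimal neighbourhood of Z in X —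
the closed subscheme of U cut out by I² — together with Z ⊂ V(I²) and V(I²) → U → X is a universal
first order thickening of Z over X. (The inequality I² ≤ I is carried as an argument h; it always
holds.) -/
theorem result {X : Scheme.{u}} (U : X.Opens) (I : (U : Scheme.{u}).IdealSheafData)
    (h : I ^ 2 ≤ I) :
    OmegaSh.IsUnivThickening (I.subschemeι ≫ U.ι) (Scheme.IdealSheafData.inclusion h)
      ((I ^ 2).subschemeι ≫ U.ι) := by
  have hι := Scheme.IdealSheafData.inclusion_subschemeι h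
  refine ⟨isFirstOrderThickening_inclusion I h, by rw [← Category.assoc, hι],
    fun T T' j b a hj hc ↦ ?_⟩
  obtain ⟨⟨hjc, hjs⟩, hjk⟩ := hj
  have hrange : Set.range b ⊆ Set.range U.ι := by
    rintro - ⟨t', rfl⟩
    obtain ⟨t, rfl⟩ := hjs.surj t'
    refine ⟨I.subschemeι (a t), ?_⟩
    change ((a ≫ I.subschemeι ≫ U.ι) t) = (j ≫ b) t
    rw [hc]
  obtain ⟨b', rfl⟩ : ∃ b', b' ≫ U.ι = b :=
    ⟨IsOpenImmersion.lift U.ι b hrange, IsOpenImmersion.lift_fac _ _ _⟩
  have hjb : j ≫ b' = a ≫ I.subschemeι := by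
    rw [← cancel_mono U.ι]; simpa using hc
  have hker : (I ^ 2).subschemeι.ker ≤ b'.ker := by
    rw [(I ^ 2).ker_subschemeι]
    refine sq_le_ker I j hjk b' ?_
    rw [hjb]
    simpa using Scheme.Hom.le_ker_comp a I.subschemeι
  refine ⟨IsClosedImmersion.lift _ b' hker, ⟨?_, ?_⟩, fun a'' ⟨_, h2⟩ ↦ ?_⟩
  · rw [← cancel_mono (I ^ 2).subschemeι]
    simp [hjb, hι]
  · simp
  · rw [← cancel_mono ((I ^ 2).subschemeι ≫ U.ι)]
    simpa using h2

end Groth.Agent.S12456
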