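import Groth.Statements.S12458
import Groth.Agent.H7Flat.CohDim.Fibre

set_option autoImplicit false
universe u
open CategoryTheory AlgebraicGeometry
open Lim

namespace Groth.Agent.S12458

open AlgebraicGeometry CategoryTheory CategoryTheory.Limits Groth.Agent.H10Coh Groth.Agent.H7Flat
attribute [local instance 10000] hasSheafifyAb hasWeakSheafifyAb hasExtAb enoughInjAb
attribute [local instance] enoughInjMod
set_option linter.style.haveILetI false
set_option backward.isDefEq.respectTransparency.types false

/-- Let f : X → Y be proper and y ∈ Y a point whose fibre X_y has dimension at most d. Then there is an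
affine open neighbourhood V of y such that for the restriction f⁻¹(V) → V the higher direct images
R^i of every quasi-coherent module on f⁻¹(V) vanish for all i > d. (f⁻¹(V) and V are then
quasi-compact and quasi-separated, so the pair satisfies the hypotheses of the top-degree base
change statement; its conclusions (a)–(c) are that statement applied to this pair. The published
statement assumes dim X_y = d; at most d is what its proof uses.) -/
theorem result {X Y : Scheme.{u}} (f : X ⟶ Y) [IsProper f]
    (y : Y) (d : ℕ) (hd : topologicalKrullDim ↥(f.fiber y) ≤ d) :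
    ∃ V : Y.Opens, y ∈ V ∧ IsAffineOpen V ∧
      ∀ (M : (↑(f ⁻¹ᵁ V) : Scheme.{u}).Modules) (i : ℕ), Coh.IsQCoh M → d < i →
        Limits.IsZero ((Coh.RpushAb (f ∣_ V) i).obj (Coh.toAb M)) := by
  obtain ⟨V, hV, hyV, hVs⟩ := AlgebraicGeometry.exists_isAffineOpen_mem_and_subset
    (U := (⟨_, Groth.Agent.S0403.result f d⟩ : Y.Opens)) (x := y) hd
  haveI : IsProper (f ∣_ V) := MorphismProperty.of_isPullback (isPullback_morphismRestrict f V).flip ‹_›
  refine ⟨V, hyV, hV, fun M i hM hi => ?_⟩
  haveI := hM
  refine CohDim.isZero_rpushAb (f ∣_ V) d (fun s => ?_) M i hi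
  rw [CohDim.dim_fiber_eq (isPullback_morphismRestrict f V).flip s]
  exact hVs s.2

end Groth.Agent.S12458
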