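import Groth.Statements.S12459
import Groth.Agent.H8Props.UnivCatenary

set_option autoImplicit false
universe u
open CategoryTheory AlgebraicGeometry
open Props

namespace Groth.Agent.S12459

/-- For a locally Noetherian scheme S, the scheme S is universally catenary — every scheme X locally of
finite type over S has catenary underlying topological space — if and only if all local rings
O_{S,s} are universally catenary rings. (Schemes X over S are taken in the universe of S.) -/
theorem result (S : Scheme.{u}) [IsLocallyNoetherian S] :
    (∀ (X : Scheme.{u}) (f : X ⟶ S), LocallyOfFiniteType f → PtTop.IsCatenarySpace X) ↔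
      ∀ s : S, CAlg.IsUniversallyCatenary (S.presheaf.stalk s) := by
  exact ⟨fun h s ↦ Groth.Agent.H8Props.UnivCatenary.isUniversallyCatenary_stalk h s,
    fun h X f hf ↦ Groth.Agent.H8Props.UnivCatenary.isCatenarySpace_of_stalks h X f hf⟩

end Groth.Agent.S12459
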