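import Groth.Statements.S12460
import Groth.Agent.H8Props.J2Scheme

set_option autoImplicit false
universe u
open CategoryTheory AlgebraicGeometry
open Props

namespace Groth.Agent.S12460

/-- (1) ⇔ (3) ⇔ (4): let X be a locally Noetherian scheme. Then X is J-2 — for every morphism Y → X
locally of finite type the set of points y with O_{Y,y} a regular local ring is open in Y — if and
only if for every affine open U of X the ring Γ(X, U) is J-2 (every finite type algebra over it has
open regular locus), if and only if every point of X lies in such an affine open. (Schemes Y over X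
are taken in the universe of X.) -/
theorem result (X : Scheme.{u}) [IsLocallyNoetherian X] :
    ((∀ (Y : Scheme.{u}) (g : Y ⟶ X), LocallyOfFiniteType g →
        IsOpen {y : Y | IsRegularLocalRing (Y.presheaf.stalk y)}) ↔
      ∀ U : X.affineOpens, EGA4.IsJ2 Γ(X, U)) ∧
    ((∀ (Y : Scheme.{u}) (g : Y ⟶ X), LocallyOfFiniteType g →
        IsOpen {y : Y | IsRegularLocalRing (Y.presheaf.stalk y)}) ↔
      ∀ x : X, ∃ U : X.affineOpens, x ∈ (U : X.Opens) ∧ EGA4.IsJ2 Γ(X, U)) := by
  exact Groth.Agent.H8Props.J2Scheme.j2_iff X

end Groth.Agent.S12460
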