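import Groth.Statements.S12461
import Groth.Agent.H17.QCohCat.Groth
import Groth.Agent.H17.PushColim
import Groth.Agent.H10Coh.BaseChange
-- import your own Groth.Agent.* helpers here

set_option autoImplicit false
universe u
open CategoryTheory AlgebraicGeometry
open QCohSub

namespace Groth.Agent.S12461

/-- Let i : Z → X be a closed immersion of schemes. The functor i_* : QCoh(O_Z) → QCoh(O_X) has a right
adjoint i^! : QCoh(O_X) → QCoh(O_Z). Stated as: there is a functor L between the full subcategories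
of quasi-coherent modules which agrees with i_* after the inclusion into all O_X-modules (this
determines L up to isomorphism, the inclusion being fully faithful) and which is a left adjoint. -/
theorem result {Z X : Scheme.{u}} (i : Z ⟶ X) [IsClosedImmersion i] :
    ∃ L : QCohCat.QCoh Z ⥤ QCohCat.QCoh X,
      Nonempty (L ⋙ (QCohCat.isQCoh X).ι ≅ (QCohCat.isQCoh Z).ι ⋙ Coh.push i) ∧ L.IsLeftAdjoint := by
  let L : QCohCat.QCoh Z ⥤ QCohCat.QCoh X := (QCohCat.isQCoh X).lift ((QCohCat.isQCoh Z).ι ⋙ Coh.push i)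
    (fun M => @Groth.Agent.H10Coh.isQuasicoherent_pushforward_of_isAffineHom _ _ i _ M.obj M.property)
  refine ⟨L, ⟨ObjectProperty.liftCompιIso _ _ _⟩, ?_⟩
  haveI : Limits.PreservesColimitsOfSize.{u, u} (Coh.push i) :=
    Groth.Agent.H17.PushColim.preservesColimits_pushforward_of_isClosedEmbedding i i.isClosedEmbedding
  haveI : Limits.PreservesColimitsOfSize.{u, u} (L ⋙ (QCohCat.isQCoh X).ι) :=
    Limits.preservesColimits_of_natIso (ObjectProperty.liftCompιIso (QCohCat.isQCoh X) ((QCohCat.isQCoh Z).ι ⋙ Coh.push i) _).symm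
  haveI : Limits.PreservesColimitsOfSize.{u, u} L := ⟨fun {J} _ =>
    ⟨fun {K} => ⟨fun {c} hc => ⟨Limits.isColimitOfReflects (QCohCat.isQCoh X).ι
      (Limits.isColimitOfPreserves (L ⋙ (QCohCat.isQCoh X).ι) hc)⟩⟩⟩⟩
  exact Groth.Agent.H17.QCohGroth.isLeftAdjoint_of_preservesColimits L

end Groth.Agent.S12461
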