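import Groth.Statements.S12462
import Groth.Agent.H28Top.Limits

set_option autoImplicit false
universe u
open CategoryTheory CategoryTheory.Limits
open SpecSp

namespace Groth.Agent.S12462

/-- A spectral space is a directed inverse limit of finite sober topological spaces. Precisely: for X
spectral there exist a nonempty directed preordered index set J, a functor from the opposite of J to
topological spaces whose values are finite sober (T0, every irreducible closed subset has a generic
point) spaces, and a limit cone of it whose vertex is isomorphic to X. -/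
theorem result (X : Type u) [TopologicalSpace X] [SpectralSpace X] :
    ∃ (J : Type u) (_ : Preorder J) (_ : Nonempty J) (_ : IsDirected J (· ≤ ·)) (F : Jᵒᵖ ⥤ TopCat.{u})
      (c : Cone F), Nonempty (IsLimit c) ∧
        (∀ j : Jᵒᵖ, Finite (F.obj j) ∧ T0Space (F.obj j) ∧ QuasiSober (F.obj j)) ∧
        Nonempty (c.pt ≅ TopCat.of X) := by
  classical
  let B := {U : Set X // IsOpen U ∧ IsCompact U}
  let fS : ∀ S : Finset B, X → (S → Prop) := fun S x U => x ∈ U.1.1
  have hfS : ∀ S, Continuous (fS S) := fun S => continuous_pi fun U => continuous_Prop.mpr U.1.2.1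
  let F : (Finset B)ᵒᵖ ⥤ TopCat.{u} :=
    { obj := fun S => TopCat.of (Set.range (fS S.unop))
      map := fun {S T} h => TopCat.ofHom
        ⟨fun g => ⟨fun U => g.1 ⟨U.1, leOfHom h.unop U.2⟩, by
            obtain ⟨_, x, rfl⟩ := g
            exact ⟨x, rfl⟩⟩,
          by exact Continuous.subtype_mk (continuous_pi fun U : T.unop => (continuous_apply (⟨U.1, leOfHom h.unop U.2⟩ : S.unop)).comp (continuous_subtype_val (p := (· ∈ Set.range (fS S.unop))))) _⟩
      map_id := fun S => rfl
      map_comp := fun f g => rfl }
  have hT0 : T0Space Prop := ⟨fun p q h => propext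
    ⟨fun hp => by
      have := (h.mem_open_iff isOpen_singleton_true).mp (show p ∈ ({True} : Set Prop) by simp [hp])
      simpa using this,
    fun hp => by
      have := (h.mem_open_iff isOpen_singleton_true).mpr (show q ∈ ({True} : Set Prop) by simp [hp])
      simpa using this⟩⟩
  refine ⟨Finset B, inferInstance, ⟨∅⟩, inferInstance, F, TopCat.limitCone F,
    ⟨TopCat.limitConeIsLimit F⟩, fun S => ?_, ?_⟩
  · haveI : Finite (F.obj S) := inferInstanceAs (Finite (Set.range (fS S.unop)))
    exact ⟨this, inferInstanceAs (T0Space (Set.range (fS S.unop))), Groth.Agent.H28Top.quasiSober_of_finite⟩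
  · let g : X → (TopCat.limitCone F).pt := fun x => ⟨fun S => ⟨fS S.unop x, x, rfl⟩, fun {i j} a => rfl⟩
    have hg : Continuous g := Continuous.subtype_mk (continuous_pi fun S => (hfS S.unop).subtype_mk _) _
    have hind : Topology.IsInducing g := by
      refine ⟨le_antisymm (continuous_iff_le_induced.mp hg) ?_⟩
      refine le_trans ?_ (PrespectralSpace.isTopologicalBasis (X := X)).eq_generateFrom.ge
      refine le_generateFrom fun s hs => ?_
      refine ⟨{y | (y.1 (Opposite.op {⟨s, hs⟩})).1 ⟨⟨s, hs⟩, Finset.mem_singleton_self _⟩}, ?_, rfl⟩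
      exact continuous_Prop.mp ((continuous_apply (A := fun _ => Prop) (⟨⟨s, hs⟩, Finset.mem_singleton_self _⟩ : ({⟨s, hs⟩} : Finset B))).comp
        ((continuous_subtype_val (p := fun q : (({⟨s, hs⟩} : Finset B) → Prop) => q ∈ Set.range (fS ({⟨s, hs⟩} : Finset B)))).comp
          ((TopCat.limitCone F).π.app (Opposite.op ({⟨s, hs⟩} : Finset B))).hom.continuous))
    have hsurj : Function.Surjective g := by
      rintro ⟨y, hy⟩
      obtain ⟨x, hx⟩ : (⋂ S : Finset B, fS S ⁻¹' {(y (Opposite.op S)).1}).Nonempty := by
        have hcl : ∀ S : Finset B, @IsClosed X (constructibleTopology X) (fS S ⁻¹' {(y (Opposite.op S)).1}) := by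
          intro S
          have : fS S ⁻¹' {(y (Opposite.op S)).1} =
              ⋂ U : S, if (y (Opposite.op S)).1 U then U.1.1 else U.1.1ᶜ := by
            ext x
            simp only [Set.mem_preimage, Set.mem_singleton_iff, funext_iff, Set.mem_iInter, eq_iff_iff]
            refine forall_congr' fun U => ?_
            split <;> rename_i h <;> simp [fS, h]
          rw [this]
          refine @isClosed_iInter X _ (constructibleTopology X) _ fun U => ?_
          split
          · exact Groth.Agent.H28Top.isClosed_constr_of_compactOpen U.1.2.1 U.1.2.2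
          · exact @IsOpen.isClosed_compl X (constructibleTopology X) _
              (Groth.Agent.H28Top.isOpen_constr_of_compactOpen U.1.2.1 U.1.2.2)
        refine @IsCompact.nonempty_iInter_of_directed_nonempty_isCompact_isClosed X (constructibleTopology X) _ _
          (fun S : Finset B => fS S ⁻¹' {(y (Opposite.op S)).1}) (fun S T => ⟨S ∪ T, ?_, ?_⟩)
          (fun S => ?_) (fun S => @IsClosed.isCompact X (constructibleTopology X) _
            (Groth.Agent.H28Top.compactSpace_constr X) (hcl S)) hcl
        · intro z hz
          have := congrArg Subtype.val (hy (homOfLE (Finset.subset_union_left (s₁ := S) (s₂ := T))).op)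
          simp only [Set.mem_preimage, Set.mem_singleton_iff] at hz ⊢
          rw [← this]
          exact funext fun U => congrFun hz ⟨U.1, Finset.mem_union_left _ U.2⟩
        · intro z hz
          have := congrArg Subtype.val (hy (homOfLE (Finset.subset_union_right (s₁ := S) (s₂ := T))).op)
          simp only [Set.mem_preimage, Set.mem_singleton_iff] at hz ⊢
          rw [← this]
          exact funext fun U => congrFun hz ⟨U.1, Finset.mem_union_right _ U.2⟩
        · obtain ⟨x, hx⟩ := (y (Opposite.op S)).2
          exact ⟨x, hx⟩
      refine ⟨x, Subtype.ext (funext fun S => Subtype.ext ?_)⟩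
      exact Set.mem_iInter.mp hx S.unop
    exact ⟨(TopCat.isoOfHomeo
      ((⟨hind, hind.injective⟩ : Topology.IsEmbedding g).toHomeomorphOfSurjective hsurj)).symm⟩

end Groth.Agent.S12462
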