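import Groth.Statements.S12463
import Groth.Agent.H06Wedge.Core
import Groth.Agent.H06DeltaBC.Main

set_option autoImplicit false
universe u
open Variety

namespace Groth.Agent.S12463

/-- Let (A, m) be a strictly henselian reduced Nagata local ring of dimension one with δ-invariant equal
to the number of geometric branches minus one, and A' the integral closure of A in its total ring of
fractions. Then A is a wedge of discrete valuation rings: for every maximal ideal m' of A' the
localization A'_{m'} is a discrete valuation ring whose residue field is the image of A, and A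
consists exactly of the elements of A' congruent to an element of A modulo every maximal ideal of A'
(the displayed inclusion; the reverse inclusion is trivial). (The inequality δ ≥ branches − 1 of the
published statement holds for every reduced Nagata local ring of dimension one and is not restated.) -/
theorem result (A : Type u) [CommRing A] [HenselianLocalRing A]
    [IsSepClosed (IsLocalRing.ResidueField A)] [IsReduced A] (hN : CAlg.IsNagata A) (hdim : ringKrullDim A = 1)
    (heq : Curv2.deltaInv A + 1 = Brnch.numGeomBranches A) :
    (∀ m' : MaximalSpectrum ↥(integralClosure A (FractionRing A)),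
        (∃ _ : IsDomain (Localization.AtPrime m'.asIdeal), IsDiscreteValuationRing (Localization.AtPrime m'.asIdeal)) ∧
        Function.Surjective (⇑(IsLocalRing.residue (Localization.AtPrime m'.asIdeal)) ∘
          ⇑(algebraMap ↥(integralClosure A (FractionRing A)) (Localization.AtPrime m'.asIdeal)) ∘
          ⇑(algebraMap A ↥(integralClosure A (FractionRing A))))) ∧
    ∀ a' : ↥(integralClosure A (FractionRing A)),
      (∃ a : A, ∀ m' : MaximalSpectrum ↥(integralClosure A (FractionRing A)),
          a' - algebraMap A _ a ∈ m'.asIdeal) →
      a' ∈ (algebraMap A ↥(integralClosure A (FractionRing A))).range := by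
  haveI : IsNoetherianRing A := hN.1
  obtain ⟨hfin, hn, -⟩ := Groth.Agent.S7652.result A hN hdim
  let A' := ↥(integralClosure A (FractionRing A))
  haveI : Module.Finite A A' := hfin
  obtain ⟨t, htm, ht0⟩ := H17.NormalizationDVR.exists_regular A hdim
  have hlen : Curv2.deltaInv A + 1 = ENat.card (MaximalSpectrum A') := by
    rw [← H06Wedge.numBranches_eq_card A]
    refine le_antisymm ?_ (H06Wedge.numBranches_le_deltaInv_add_one A hN hdim)
    rw [heq]
    exact H06Wedge.numGeomBranches_le_numBranches A
  obtain ⟨hsurj, hrad⟩ := H06Wedge.wedge_of_length A A' hlen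
  refine ⟨fun m' => ?_, hrad⟩
  haveI := m'.isMaximal
  refine ⟨H06DeltaBC.isDVR_localization A hdim m'.asIdeal (hn ⟨m'.asIdeal, inferInstance⟩) htm ht0, ?_⟩
  intro z
  let e := IsLocalization.AtPrime.equivQuotMaximalIdeal m'.asIdeal (Localization.AtPrime m'.asIdeal)
  obtain ⟨a, ha⟩ := hsurj m' (e.symm z)
  refine ⟨a, ?_⟩
  have h := congrArg e ha
  rw [RingEquiv.apply_symm_apply] at h
  exact (IsLocalization.AtPrime.equivQuotMaximalIdeal_apply_mk m'.asIdeal (Localization.AtPrime m'.asIdeal)
    (algebraMap A A' a)).symm.trans h

end Groth.Agent.S12463
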