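import Groth.Statements.S12465

set_option autoImplicit false
universe u
open CategoryTheory AlgebraicGeometry
open BigSite

namespace Groth.Agent.S12465


noncomputable def pullMapIso {S T S' T' : Scheme.{u}} (f : T ⟶ S) (g : S' ⟶ S) (g' : T' ⟶ T)
    (f' : T' ⟶ S') (hsq : IsPullback g' f' f g) :
    Over.map g ⋙ Over.pullback f ≅ Over.pullback f' ⋙ Over.map g' :=
  NatIso.ofComponents (fun U => Over.isoMk
    (((IsPullback.of_hasPullback U.hom f').paste_vert hsq.flip).isoPullback.symm) (by
      refine (Iso.inv_comp_eq _).2 ?_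
      exact ((IsPullback.of_hasPullback U.hom f').paste_vert hsq.flip).isoPullback_hom_snd.symm))
    (fun {U V} u => by
      ext : 1
      simp only [Over.comp_left, Over.isoMk_hom_left, Functor.comp_map, Over.map_map_left]
      rw [← cancel_mono ((IsPullback.of_hasPullback V.hom f').paste_vert hsq.flip).isoPullback.hom]
      apply Limits.pullback.hom_ext
      · simp
        rw [Limits.pullback.lift_fst, Limits.pullback.lift_fst, IsPullback.isoPullback_inv_fst_assoc]
      · simp
        rw [Limits.pullback.lift_snd, Limits.pullback.lift_snd_assoc]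
        exact (IsPullback.isoPullback_inv_snd _).symm)


set_option backward.isDefEq.respectTransparency.types false in
noncomputable def resBC {S T S' T' : Scheme.{u}} (f : T ⟶ S) (g : S' ⟶ S)
    (g' : T' ⟶ T) (f' : T' ⟶ S') (hsq : IsPullback g' f' f g) :
    EtFppf.a S' ⋙ Over.map g ⋙ Over.pullback f ≅ EtCoh.bc f' ⋙ EtFppf.a T' ⋙ Over.map g' :=
  Functor.isoWhiskerLeft (EtFppf.a S') (pullMapIso f g g' f' hsq) ≪≫
    (Functor.associator _ _ _).symm ≪≫
    Functor.isoWhiskerRight (MorphismProperty.Over.pullbackCompForgetIso (P := EtCoh.etaleMP) (Q := ⊤) f').symm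
      (Over.map g') ≪≫ Functor.associator _ _ _


/-- On the big étale sites, for a cartesian square g' : T' → T, f' : T' → S', f : T → S, g : S' → S of
schemes, i_g⁻¹ ∘ f_big,* ≅ f'_small,* ∘ i_{g'}⁻¹ as functors from abelian sheaves on (Sch/T)_ét to
abelian sheaves on the small étale site of S'. (Existence of a natural isomorphism; both sides send
F to U' ↦ F(U' ×_{S'} T'). The binder BCCont f' holds for every morphism.) -/
theorem result {S T S' T' : Scheme.{u}} (f : T ⟶ S) (g : S' ⟶ S) (g' : T' ⟶ T)
    (f' : T' ⟶ S') (hsq : IsPullback g' f' f g) [EtCoh.BCCont f'] :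
    Nonempty (BigSite.pushBig Scheme.etalePrecoverage f AddCommGrpCat.{u + 1} ⋙
        BigSite.resEtAlong Scheme.etalePrecoverage g ≅
      BigSite.resEtAlong Scheme.etalePrecoverage g' ⋙ EtCoh.push f') := by
  exact ⟨NatIso.ofComponents (fun F => (fullyFaithfulSheafToPresheaf _ _).preimageIso
    (Functor.isoWhiskerRight (NatIso.op (resBC f g g' f' hsq).symm) F.obj)) (fun h => by
    ext X x
    exact ConcreteCategory.congr_hom (h.hom.naturality _).symm x)⟩

end Groth.Agent.S12465
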