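import Groth.Statements.S12469
import Groth.Agent.H11Sym.VeryAmpleOps
import Groth.Agent.H11Sym.InvertibleInverse
import Groth.Agent.H11Ample.Converse
import Groth.Agent.H28Mero.Gen
import Groth.Agent.H10Coh.TensorBasics
import Groth.Agent.H10Coh.SerreVanishing
import Groth.Agent.H16Derived.KFlat.SheafAssoc

set_option autoImplicit false
universe u
open CategoryTheory CategoryTheory.Limits AlgebraicGeometry TopologicalSpace Opposite
open scoped HomogeneousIdeal
open EGA2

namespace Groth.Agent.S12469

/-- Let q : X → Y be a morphism of schemes, L an invertible O_X-module and K an invertible O_Y-module.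
Then L is very ample relative to q (isomorphic to the inverse image of O(1) along a Y-immersion of X
into the projective bundle P(E) of a quasi-coherent O_Y-module E) if and only if L ⊗ q^*K is. -/
theorem result {X Y : Scheme.{u}} (q : X ⟶ Y) (L : X.Modules)
    (hL : PicF.IsInvertible L) (K : Y.Modules) (hK : PicF.IsInvertible K) :
    RelProj.IsRelVeryAmple q L ↔
      RelProj.IsRelVeryAmple q (CohB1.tensorMod L ((Scheme.Modules.pullback q).obj K)) := by
  have key : ∀ (M : X.Modules) (N : Y.Modules), PicF.IsInvertible M → PicF.IsInvertible N →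
      RelProj.IsRelVeryAmple q M → RelProj.IsRelVeryAmple q (CohB1.tensorMod M ((Scheme.Modules.pullback q).obj N)) :=
    fun M N hM hN hva => by
      let v := (Scheme.Modules.pullbackPushforwardAdjunction q).unit.app N
      have hN' := Groth.Agent.H11Ample.isInvertible_pullback q hN
      refine Groth.Agent.H11Sym.isRelVeryAmple_tensor (E' := N) v hM hN'
        (Groth.Agent.H28Mero.isQCoh_of_isInvertible hN) hva (Groth.Agent.H11Sym.spans_of_epi hN' v ?_)
      rw [show v = (Scheme.Modules.pullbackPushforwardAdjunction q).unit.app N from rfl,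
        Adjunction.homEquiv_counit]
      refine (congrArg (fun k => Epi k) ((Scheme.Modules.pullbackPushforwardAdjunction q).left_triangle_components N)).mpr ?_
      infer_instance
  refine ⟨key L K hL hK, fun h => ?_⟩
  obtain ⟨K', hK', ⟨e⟩⟩ := Groth.Agent.H11Sym.exists_inverse hK
  have h2 := key _ K' (Groth.Agent.H11Ample.isInvertible_tensor hL (Groth.Agent.H11Ample.isInvertible_pullback q hK)) hK' h
  exact Groth.Agent.H11Sym.isRelVeryAmple_of_iso
    (Groth.Agent.H10Coh.Tw.assoc L _ _ ≪≫
      PicGrp.tensorModIso (Iso.refl L)
        ((((Groth.Agent.H16Derived.KFlat.Stalk.pullTensorLIso q K').app K).symm) ≪≫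
          (Scheme.Modules.pullback q).mapIso (Groth.Agent.H10Coh.Tw.commIso K K' ≪≫ e) ≪≫
          PicLoc.pullbackStructureIso q) ≪≫
      Groth.Agent.H10Coh.Tw.rightUnitIso L) h2

end Groth.Agent.S12469
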