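import Groth.Statements.S12471
import Groth.Agent.H11Sym.VeryAmpleOps
import Groth.Agent.H10Coh.TensorBasics

set_option autoImplicit false
universe u
open CategoryTheory CategoryTheory.Limits AlgebraicGeometry TopologicalSpace Opposite
open scoped HomogeneousIdeal
open EGA2

namespace Groth.Agent.S12471

/-- Let q : X → Y be a morphism of schemes and L an invertible O_X-module which is very ample relative
to q (isomorphic to the inverse image of O(1) along a Y-immersion of X into the projective bundle
P(E) of a quasi-coherent O_Y-module E). Then for every n > 0 the tensor power L^{⊗n} is very ample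
relative to q. -/
theorem result {X Y : Scheme.{u}} (q : X ⟶ Y) (L : X.Modules)
    (hL : PicF.IsInvertible L) (hva : RelProj.IsRelVeryAmple q L) (n : ℕ) (hn : 0 < n) :
    RelProj.IsRelVeryAmple q (CohB1.tensorPow L n) := by
  induction n, hn using Nat.le_induction with
  | base => exact Groth.Agent.H11Sym.isRelVeryAmple_of_iso (Groth.Agent.H10Coh.Tw.leftUnitIso L).symm hva
  | succ k hk ih =>
    obtain ⟨E', hE', v, hv⟩ := Groth.Agent.H11Sym.isRelVeryAmple_iff.1 hva
    exact Groth.Agent.H11Sym.isRelVeryAmple_tensor v (Groth.Agent.H11Ample.isInvertible_tensorPow hL k) hL hE' ih hv.spans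

end Groth.Agent.S12471
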