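import Groth.Statements.S12472
import Groth.Agent.H11Sym.SpansEpi
import Groth.Agent.H28Mero.Gen

set_option autoImplicit false
universe u
open CategoryTheory CategoryTheory.Limits AlgebraicGeometry TopologicalSpace Opposite
open scoped HomogeneousIdeal
open EGA2

open Groth.Agent.H11Proj Groth.Agent.H11Tilde Groth.Agent.H11Ample Groth.Agent

namespace Groth.Agent.S12472

/-- Let Y be a scheme and L an invertible O_Y-module. Then L is very ample relative to the identity
morphism of Y: there are a quasi-coherent O_Y-module E and a Y-immersion i of Y into the projective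
bundle P(E) with L isomorphic to i^*O_{P(E)}(1). -/
theorem result (Y : Scheme.{u}) (L : Y.Modules) (hL : PicF.IsInvertible L) :
    RelProj.IsRelVeryAmple (𝟙 Y) L := by
  refine Groth.Agent.H11Sym.isRelVeryAmple_iff.2 ⟨L, Groth.Agent.H28Mero.isQCoh_of_isInvertible hL,
    (Scheme.Modules.pushforwardId Y).inv.app L, fun x => ?_⟩
  obtain ⟨V, e, hxV, he⟩ := exists_gen hL x
  obtain ⟨U, hU, hxU, hUV⟩ := exists_isAffineOpen_mem_and_subset hxV
  let m : Γ(L, U) := resS L (fun _ h => hUV h) e
  let u : L ⟶ (Scheme.Modules.pushforward (𝟙 Y)).obj L := (Scheme.Modules.pushforwardId Y).inv.app L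
  have hV : (Groth.Agent.H11Sym.gMax u hU m).V = U :=
    le_antisymm (genAt_le _) (le_genAt _ le_rfl (by
      have h : IsGen L m := he.res fun _ h => hUV h
      exact (congrArg (IsGen L) (H10Coh.mres_self L _ (Groth.Agent.H11Sym.uSec u m))).mpr h))
  have h1 : Y.basicOpen (1 : Γ(Y, (Groth.Agent.H11Sym.gMax u hU m).V)) = U :=
    (Scheme.basicOpen_of_isUnit _ isUnit_one).trans hV
  refine ⟨⟨U, hU, m, 1, Subring.one_mem _, h1.ge hxU, h1.symm ▸ hU, fun z => ⟨0, resF ((Scheme.basicOpen_of_isUnit _ isUnit_one).ge) z, ?_, ?_⟩⟩⟩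
  · have h := (Groth.Agent.H11Sym.gMax u hU m).base_mem_ratioRing (resF h1.ge z)
    have e : (𝟙 Y : Y ⟶ Y).appLE U (Groth.Agent.H11Sym.gMax u hU m).V (Groth.Agent.H11Sym.gMax u hU m).le
        (resF h1.ge z) = resF ((Scheme.basicOpen_of_isUnit _ isUnit_one).ge) z := by
      show resF hV.le (resF h1.ge z) = _
      exact resF_resF hV.le h1.ge z
    exact e ▸ h
  · rw [pow_zero, mul_one, resF_resF, resF_self]

end Groth.Agent.S12472
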