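import Groth.Statements.S12474
import Groth.Agent.H11Sym.VeryAmpleOps

set_option autoImplicit false
universe u
open CategoryTheory CategoryTheory.Limits AlgebraicGeometry TopologicalSpace Opposite
open scoped HomogeneousIdeal
open EGA2

namespace Groth.Agent.S12474

/-- Let f : X → Y and g : Y' → Y be morphisms of schemes and let X', with g' : X' → X and f' : X' → Y',
be a fibre product of X and Y' over Y (the square is cartesian). If L is an invertible O_X-module
which is very ample relative to f (isomorphic to the inverse image of O(1) along a Y-immersion of X
into the projective bundle P(E) of a quasi-coherent O_Y-module E), then the inverse image g'^*L is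
very ample relative to f'. -/
theorem result {X Y X' Y' : Scheme.{u}} (f : X ⟶ Y) (g : Y' ⟶ Y) (g' : X' ⟶ X) (f' : X' ⟶ Y')
    (hsq : IsPullback g' f' f g) (L : X.Modules) (hL : PicF.IsInvertible L) (hva : RelProj.IsRelVeryAmple f L) :
    RelProj.IsRelVeryAmple f' ((Scheme.Modules.pullback g').obj L) := by
  exact Groth.Agent.H11Sym.isRelVeryAmple_baseChange hsq hL hva

end Groth.Agent.S12474
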