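import Groth.Statements.S12475
import Groth.Agent.H11Sym.Segre

set_option autoImplicit false
universe u
open CategoryTheory CategoryTheory.Limits AlgebraicGeometry TopologicalSpace Opposite
open scoped HomogeneousIdeal
open EGA2

namespace Groth.Agent.S12475

/-- Let Y₁ → S and Y₂ → S be schemes over S, f₁ : X₁ → Y₁ and f₂ : X₂ → Y₂ morphisms (so that X₁, X₂ are
S-schemes through them), P with projections p₁, p₂ a fibre product X₁ ×_S X₂, Q with projections q₁,
q₂ a fibre product Y₁ ×_S Y₂, and h : P → Q the morphism f₁ ×_S f₂, that is, the one with h ≫ q₁ =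
p₁ ≫ f₁ and h ≫ q₂ = p₂ ≫ f₂. If L₁ is an invertible O_{X₁}-module very ample relative to f₁ and L₂
an invertible O_{X₂}-module very ample relative to f₂ (each isomorphic to the inverse image of O(1)
along an immersion over the base into the projective bundle of a quasi-coherent module on the base),
then the external tensor product p₁^*L₁ ⊗ p₂^*L₂ is very ample relative to h. -/
theorem result {S X₁ X₂ Y₁ Y₂ P Q : Scheme.{u}} (y₁ : Y₁ ⟶ S) (y₂ : Y₂ ⟶ S)
    (f₁ : X₁ ⟶ Y₁) (f₂ : X₂ ⟶ Y₂) (p₁ : P ⟶ X₁) (p₂ : P ⟶ X₂) (hP : IsPullback p₁ p₂ (f₁ ≫ y₁) (f₂ ≫ y₂))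
    (q₁ : Q ⟶ Y₁) (q₂ : Q ⟶ Y₂) (hQ : IsPullback q₁ q₂ y₁ y₂) (h : P ⟶ Q)
    (hh₁ : h ≫ q₁ = p₁ ≫ f₁) (hh₂ : h ≫ q₂ = p₂ ≫ f₂)
    (L₁ : X₁.Modules) (hL₁ : PicF.IsInvertible L₁) (hva₁ : RelProj.IsRelVeryAmple f₁ L₁)
    (L₂ : X₂.Modules) (hL₂ : PicF.IsInvertible L₂) (hva₂ : RelProj.IsRelVeryAmple f₂ L₂) :
    RelProj.IsRelVeryAmple h
      (CohB1.tensorMod ((Scheme.Modules.pullback p₁).obj L₁) ((Scheme.Modules.pullback p₂).obj L₂)) := by
  let a₁ : P ⟶ pullback f₁ q₁ := pullback.lift p₁ h hh₁.symm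
  let a₂ : P ⟶ pullback f₂ q₂ := pullback.lift p₂ h hh₂.symm
  have w : a₁ ≫ pullback.snd f₁ q₁ = a₂ ≫ pullback.snd f₂ q₂ := by
    rw [pullback.lift_snd, pullback.lift_snd]
  have hs : ∀ s : PullbackCone (pullback.snd f₁ q₁) (pullback.snd f₂ q₂),
      (s.fst ≫ pullback.fst f₁ q₁) ≫ f₁ ≫ y₁ = (s.snd ≫ pullback.fst f₂ q₂) ≫ f₂ ≫ y₂ := fun s => by
    rw [Category.assoc, Category.assoc, pullback.condition_assoc, pullback.condition_assoc, hQ.w, ← Category.assoc,
      ← Category.assoc s.snd, s.condition]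
  have hsq : IsPullback a₁ a₂ (pullback.snd f₁ q₁) (pullback.snd f₂ q₂) := by
    refine IsPullback.of_isLimit' ⟨w⟩ (PullbackCone.IsLimit.mk _ (fun s => hP.lift _ _ (hs s))
      (fun s => ?_) (fun s => ?_) fun s m hm₁ hm₂ => hP.hom_ext ?_ ?_)
    · refine pullback.hom_ext ?_ (hQ.hom_ext ?_ ?_)
      · show (_ ≫ a₁) ≫ _ = _
        rw [Category.assoc, pullback.lift_fst, IsPullback.lift_fst]
      · simp only [a₁, Category.assoc, pullback.lift_snd, hh₁, IsPullback.lift_fst_assoc]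
        rw [pullback.condition]
      · simp only [a₁, Category.assoc, pullback.lift_snd, hh₂, IsPullback.lift_snd_assoc]
        rw [pullback.condition, ← Category.assoc, ← Category.assoc s.fst, s.condition]
    · refine pullback.hom_ext ?_ (hQ.hom_ext ?_ ?_)
      · show (_ ≫ a₂) ≫ _ = _
        rw [Category.assoc, pullback.lift_fst, IsPullback.lift_snd]
      · simp only [a₂, Category.assoc, pullback.lift_snd, hh₁, IsPullback.lift_fst_assoc]
        rw [pullback.condition, ← Category.assoc, ← Category.assoc s.snd, s.condition]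
      · simp only [a₂, Category.assoc, pullback.lift_snd, hh₂, IsPullback.lift_snd_assoc]
        rw [pullback.condition]
    · rw [IsPullback.lift_fst, ← hm₁]
      show m ≫ p₁ = (m ≫ a₁) ≫ _
      rw [Category.assoc, pullback.lift_fst]
    · rw [IsPullback.lift_snd, ← hm₂]
      show m ≫ p₂ = (m ≫ a₂) ≫ _
      rw [Category.assoc, pullback.lift_fst]
  have h₁ := Groth.Agent.H11Sym.isRelVeryAmple_baseChange (IsPullback.of_hasPullback f₁ q₁) hL₁ hva₁
  have h₂ := Groth.Agent.H11Sym.isRelVeryAmple_baseChange (IsPullback.of_hasPullback f₂ q₂) hL₂ hva₂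
  refine Groth.Agent.H11Sym.isRelVeryAmple_of_iso ?_ (Groth.Agent.H11Sym.isRelVeryAmple_segre hsq
    (pullback.lift_snd _ _ _) (Groth.Agent.H11Ample.isInvertible_pullback _ hL₁)
    (Groth.Agent.H11Ample.isInvertible_pullback _ hL₂) h₁ h₂)
  exact PicGrp.tensorModIso
    ((Scheme.Modules.pullbackComp a₁ (pullback.fst f₁ q₁)).app L₁ ≪≫
      (Scheme.Modules.pullbackCongr (pullback.lift_fst _ _ _)).app L₁)
    ((Scheme.Modules.pullbackComp a₂ (pullback.fst f₂ q₂)).app L₂ ≪≫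
      (Scheme.Modules.pullbackCongr (pullback.lift_fst _ _ _)).app L₂)

end Groth.Agent.S12475
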