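import Groth.Statements.S12478
import Groth.Agent.H11Sym.AmpleVeryAmple

set_option autoImplicit false
universe u
open CategoryTheory CategoryTheory.Limits AlgebraicGeometry TopologicalSpace Opposite
open scoped HomogeneousIdeal
open EGA2

namespace Groth.Agent.S12478

/-- Let Y be a quasi-compact scheme, f : X → Y a morphism of finite type and L an invertible O_X-module
which is ample relative to f. Then there is an integer n₀ > 0 such that for every n ≥ n₀ the tensor
power L^{⊗n} is very ample relative to f (isomorphic to the inverse image of O(1) along a
Y-immersion of X into the projective bundle P(E) of a quasi-coherent O_Y-module E). (The converse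
direction, from very-ampleness of one positive tensor power to f-ampleness, is the other half of the
published equivalence and is stated separately.) -/
theorem result {X Y : Scheme.{u}} [CompactSpace Y] (f : X ⟶ Y)
    [QuasiCompact f] [LocallyOfFiniteType f] (L : X.Modules) (hL : PicF.IsInvertible L)
    (h : RelAmple.IsRelAmple f L) :
    ∃ n₀ : ℕ, 0 < n₀ ∧ ∀ n : ℕ, n₀ ≤ n → RelProj.IsRelVeryAmple f (CohB1.tensorPow L n) := by
  exact Groth.Agent.H11Sym.eventually_isRelVeryAmple f h

end Groth.Agent.S12478
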