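-- statement FlatMor.GrothFrozen.S1248 (Groth/Statements/S1248.lean; the theorem FlatMor.hasImpurity_etaleNhd_of_hasImpurity_henselization);
import Groth.Statements.S1248
import Groth.Agent.H7Flat.ImpurityStage
import Groth.Agent.H7Flat.EtaleNbhdHensel

set_option autoImplicit false
universe u
open FlatMor

namespace Groth.Agent.S1248
open scoped TensorProduct
set_option backward.isDefEq.respectTransparency false
set_option maxHeartbeats 1000000
set_option synthInstance.maxHeartbeats 400000

open IsLocalRing in
/-- Ring form, X = Spec B affine: let B be a finite type A-algebra, N a finite B-module and p a prime of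
A. If there is an impurity of N above p whose base change ring A' is a henselization of the local
ring A_p (compatibly with A → A_p) and whose point t is the maximal ideal, then there is an impurity
of N above p for which (A', t) is an elementary étale ring map at p. -/
theorem result {A B : Type u} [CommRing A] [CommRing B] [Algebra A B] [Algebra.FiniteType A B]
    (N : Type u) [AddCommGroup N] [Module B N] [Module.Finite B N] (p : Ideal A) [p.IsPrime]
    (h : FlatCA.HasImpurity A B N p (fun A' _ _ t => ∃ (_ : IsLocalRing A') (_ : Algebra (Localization.AtPrime p) A')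
        (_ : IsScalarTower A (Localization.AtPrime p) A') (_ : IsLocalHom (algebraMap (Localization.AtPrime p) A')),
        Hensel.IsHenselization (Localization.AtPrime p) A' ∧ t = maximalIdeal A')) :
    FlatCA.HasImpurity A B N p (fun A' _ _ t => ∃ _ : t.IsPrime, FlatCA.IsEtaleNhd A A' p t) := by
  classical
  obtain ⟨A', B', N', _, _, _, _, _, _, _, _, _, _, _, _, _, _, f, t', t, _, _, P, _, himp, hloc, _, _, _, hH, rfl⟩ := h
  obtain ⟨s, hs⟩ := Groth.Agent.H7Flat.ImpurityStage.exists_finset_hasImpurity himp
  obtain ⟨G, _, _, ψ, hψ, het⟩ :=
    Groth.Agent.H7Flat.EtaleNbhdHensel.exists_etaleNhd_hitting p A' s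
  obtain ⟨a, ha, hkey⟩ := hs G ψ hψ
  haveI : ((maximalIdeal A').comap ψ).IsPrime := Ideal.comap_isPrime _ _
  exact hkey _ het.2.1 le_rfl ha _ ⟨inferInstance, het⟩

end Groth.Agent.S1248
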