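import Groth.Statements.S12482
import Groth.Agent.H06QR.Regular

set_option autoImplicit false
universe u
open Dual

namespace Groth.Agent.S12482

/-- Let `A` be a commutative ring, `x_1, …, x_p` a sequence of elements of `A` such that each `x_i` is a
non-zero-divisor on `A/(x_1, …, x_{i-1})`, and `J` the ideal generated by the `x_i`. Then `J/J²` is
a free `(A/J)`-module with basis the classes of the `x_i`: there is a basis of `J/J²` over `A/J`,
indexed by `1, …, p`, whose `i`-th vector is the class of `x_i`. (The other assertions of the
published statement, on the Koszul complex and on Ext and Tor against `A/J`, are stated separately.) -/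
theorem result (A : Type u) [CommRing A] (p : ℕ) (x : Fin p → A)
    (hreg : RingTheory.Sequence.IsWeaklyRegular A (List.ofFn x)) :
    ∃ b : Module.Basis (Fin p) (A ⧸ Ideal.span (Set.range x)) (Ideal.span (Set.range x)).Cotangent,
      ∀ i, b i = (Ideal.span (Set.range x)).toCotangent ⟨x i, Ideal.subset_span (Set.mem_range_self i)⟩ := by
  classical
  have hq := Groth.Agent.H06QR.Regular.isQuasiRegular_of_isWeaklyRegular x hreg
  let J := Ideal.span (Set.range x)
  let v : Fin p → J.Cotangent := fun i =>
    J.toCotangent ⟨x i, Ideal.subset_span (Set.mem_range_self i)⟩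
  have hli : LinearIndependent (A ⧸ J) v := by
    rw [Fintype.linearIndependent_iff]
    intro g hg i
    choose a ha using fun j => Ideal.Quotient.mk_surjective (g j)
    simp only [← ha] at hg ⊢
    have hsum : J.toCotangent (∑ j, a j • (⟨x j, Ideal.subset_span (Set.mem_range_self j)⟩ : J)) = 0 := by
      rw [map_sum]
      refine Eq.trans (Finset.sum_congr rfl fun j _ => ?_) hg
      rw [map_smul]
      exact (algebraMap_smul (A ⧸ J) (a j) _).symm
    rw [Ideal.toCotangent_eq_zero] at hsum
    let P : MvPolynomial (Fin p) A := ∑ j, MvPolynomial.C (a j) * MvPolynomial.X j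
    have hP : P.IsHomogeneous 1 := MvPolynomial.IsHomogeneous.sum _ _ _ fun j _ => by
      simpa using (MvPolynomial.isHomogeneous_C _ (a j)).mul (MvPolynomial.isHomogeneous_X A j)
    have hev : MvPolynomial.eval x P ∈ J ^ (1 + 1) := by
      have he : MvPolynomial.eval x P = ∑ j, a j * x j := by simp [P]
      rw [he]
      simpa [Submodule.coe_sum] using hsum
    have := hq 1 P hP hev (Finsupp.single i 1)
    have hc : P.coeff (Finsupp.single i 1) = a i := by
      rw [MvPolynomial.coeff_sum, Finset.sum_eq_single i]
      · simp [MvPolynomial.coeff_C_mul, MvPolynomial.coeff_X']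
      · intro j _ hj
        rw [MvPolynomial.coeff_C_mul, MvPolynomial.coeff_X', if_neg, mul_zero]
        intro h
        exact hj (Finsupp.single_left_injective one_ne_zero h)
      · intro h
        exact absurd (Finset.mem_univ i) h
    rw [hc] at this
    exact Ideal.Quotient.eq_zero_iff_mem.mpr this
  have hsp : ⊤ ≤ Submodule.span (A ⧸ J) (Set.range v) := by
    intro z _
    obtain ⟨⟨y, hy⟩, rfl⟩ := J.toCotangent_surjective z
    obtain ⟨c, hc⟩ := (Submodule.mem_span_range_iff_exists_fun A).mp hy
    have : (⟨y, hy⟩ : J) = ∑ j, c j • (⟨x j, Ideal.subset_span (Set.mem_range_self j)⟩ : J) :=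
      Subtype.ext (by simpa [Submodule.coe_sum] using hc.symm)
    rw [this, map_sum]
    refine Submodule.sum_mem _ fun j _ => ?_
    rw [map_smul]
    exact Submodule.smul_of_tower_mem _ _ (Submodule.subset_span ⟨j, rfl⟩)
  exact ⟨Module.Basis.mk hli hsp, fun i => by rw [Module.Basis.mk_apply]⟩

end Groth.Agent.S12482
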