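import Groth.Statements.S12483
import Groth.Agent.H10Inj.SheafExt.RelExt
import Groth.Agent.H10Inj.SheafExt.ExtAdj
import Groth.Agent.H15Site.ModExtH
import Groth.Agent.H15Site.ModOver
import Groth.Agent.H02CA.ModNullHom
-- import your own Groth.Agent.* helpers here

set_option autoImplicit false
set_option linter.style.haveILetI false
set_option backward.isDefEq.respectTransparency false
universe u
open CategoryTheory CategoryTheory.Limits AlgebraicGeometry
open Coherent

namespace Groth.Agent.S12483

/-- Let `X` be a scheme, `A` an `O_X`-module which is finite locally free (every point has an open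
neighbourhood over which `A` is isomorphic to some `O^n`) and for which the internal Hom functor
`Hom_{O_X}(A, -)` exists (right adjoint of `A ⊗ -`), `B` any `O_X`-module and `p ≥ 0`. Then
`Ext^p_{O_X}(X; A, B)`, the Ext group computed in the category of `O_X`-modules, is isomorphic to
`H^p(X, Hom_{O_X}(A, B))`. (Existence of an isomorphism of abelian groups only; the published
isomorphisms are canonical, the edge maps of the local-to-global spectral sequence for Ext. The
published statement is for an arbitrary ringed space; this row is the case of a scheme.) -/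
theorem result (X : Scheme.{u}) [HasExt.{u} X.Modules]
    (A B : X.Modules) (hA : FlatMod.IsFinLocFree A) [DCoh.HasSheafHom A] (p : ℕ) :
    Nonempty (Abelian.Ext A B p ≃+ Coh.HH X ((DCoh.sheafHom A).obj B) p) := by
  haveI : EnoughInjectives X.Modules := H02CA.ModNull.enoughInjectives_mod X.sheaf
  haveI : HasExt.{u} (ModSite.Mod X.sheaf) := ‹HasExt.{u} X.Modules›
  haveI : EnoughInjectives (ModSite.Mod X.sheaf) := ‹EnoughInjectives X.Modules›
  haveI := H10Inj.SheafExt.preservesFiniteColimits_homFunctor A hA
  haveI := H10Inj.SheafExt.preservesMonomorphisms_tensor hA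
  obtain ⟨e₁⟩ := H10Inj.SheafExt.nonempty_ext_adj (H10Inj.SheafExt.homAdj A) (ModSite.unit X.sheaf) B p
  obtain ⟨e₂⟩ : Nonempty (Abelian.Ext (C := X.Modules) (ModSite.unit X.sheaf)
      ((H10Inj.SheafExt.homFunctor A).obj B) p ≃+ Coh.HH X ((H10Inj.SheafExt.homFunctor A).obj B) p) :=
    H15Site.ModExtH.nonempty_ext_unit_addEquiv (ModSite.ringSh X.sheaf) _ _
  let a : ((DCoh.tensorBi (X := X)).obj A).obj (ModSite.unit X.sheaf) ≅ A :=
    H10Inj.SheafExt.tensorSwapIso _ _ ≪≫ (H15Site.ModOver.tensorUnitIso X.sheaf).app A
  let b : (H10Inj.SheafExt.homFunctor A).obj B ≅ (DCoh.sheafHom A).obj B :=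
    ((H10Inj.SheafExt.homAdj A).rightAdjointUniq (DCoh.sheafHomAdj A)).app B
  exact ⟨((((Abelian.extFunctor.{u} p).mapIso a.op).app B).addCommGroupIsoToAddEquiv.trans
    (e₁.trans e₂)).trans (((Sheaf.functorH.{u} _ p).mapIso ((SheafOfModules.toSheaf X.ringCatSheaf).mapIso b)).addCommGroupIsoToAddEquiv)⟩

end Groth.Agent.S12483
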