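import Groth.Statements.S12491
import Groth.Agent.H05EGA4.Regular
import Mathlib

set_option autoImplicit false
universe u
open VBPn

namespace Groth.Agent.S12491

open CategoryTheory in
theorem key (B : Type u) [CommRing B] (k : ℕ) (hgl : ∀ M : ModuleCat.{u} B, HasProjectiveDimensionLT M (k + 1))
    (M : ℕ → Type u) [∀ i, AddCommGroup (M i)] [∀ i, Module B (M i)]
    (hproj : ∀ i, 1 ≤ i → i ≤ k → Module.Projective B (M i))
    (d : ∀ i, M i →ₗ[B] M (i + 1)) (hinj : Function.Injective (d 0))
    (hex : ∀ i, i + 1 < k → Function.Exact (d i) (d (i + 1))) : Module.Projective B (M 0) := by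
  rw [IsProjective.iff_projective, projective_iff_hasProjectiveDimensionLT_one]
  rcases Nat.eq_zero_or_pos k with rfl | hk
  · exact hgl _
  have hF : ∀ i, i < k → ∀ n, HasProjectiveDimensionLT (ModuleCat.of B (M (i + 1))) (n + 1) := fun i hi n => by
    haveI := hproj (i + 1) (by omega) (by omega)
    haveI : Projective (ModuleCat.of B (M (i + 1))) := (IsProjective.iff_projective _).mp inferInstance
    haveI := (projective_iff_hasProjectiveDimensionLT_one (X := ModuleCat.of B (M (i + 1)))).mp inferInstance
    exact hasProjectiveDimensionLT_of_ge _ 1 (n + 1) (by omega)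
  have claim : ∀ j i, i + j + 1 = k → HasProjectiveDimensionLT (ModuleCat.of B ↥(LinearMap.range (d i))) (i + 1) := by
    intro j
    induction j with
    | zero =>
      intro i hi
      obtain rfl : k = i + 1 := by omega
      have hS : (ShortComplex.mk (ModuleCat.ofHom (LinearMap.range (d i)).subtype)
          (ModuleCat.ofHom (LinearMap.range (d i)).mkQ)
          (ModuleCat.hom_ext (by ext x; exact (Submodule.Quotient.mk_eq_zero _).2 x.2))).ShortExact :=
        ModuleCat.shortComplex_shortExact _ (LinearMap.exact_subtype_mkQ _) Subtype.val_injective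
          (Submodule.mkQ_surjective _)
      exact hS.hasProjectiveDimensionLT_X₁ (i + 1) (hF i (by omega) i) (hgl _)
    | succ j ih =>
      intro i hi
      have h2 := ih (i + 1) (by omega)
      have he := hex i (by omega)
      have hS : (ShortComplex.mk (ModuleCat.ofHom (LinearMap.range (d i)).subtype)
          (ModuleCat.ofHom (d (i + 1)).rangeRestrict)
          (ModuleCat.hom_ext (by ext x; exact (he _).2 x.2))).ShortExact := by
        refine ModuleCat.shortComplex_shortExact _ ?_ Subtype.val_injective (LinearMap.surjective_rangeRestrict _)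
        intro x
        change (d (i + 1)).rangeRestrict x = 0 ↔ x ∈ Set.range (LinearMap.range (d i)).subtype
        rw [← SetLike.coe_eq_coe (p := LinearMap.range (d (i + 1)))]
        simp only [LinearMap.codRestrict_apply, ZeroMemClass.coe_zero, Submodule.coe_subtype, Subtype.range_coe]
        rw [he x]; exact ⟨fun hx => ⟨⟨x, hx⟩, rfl⟩, fun ⟨y, hy⟩ => hy ▸ y.2⟩
      exact hS.hasProjectiveDimensionLT_X₁ (i + 1) (hF i (by omega) i) h2
  haveI := claim (k - 1) 0 (by omega)
  exact hasProjectiveDimensionLT_of_iso (LinearEquiv.ofInjective (d 0) hinj).toModuleIso.symm 1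


/-- Let A be a regular local ring, k ≥ 0, and N_0, N_1, … A-modules with N_0 finitely generated and N_1,
…, N_k finitely generated and free, with linear maps d_i : N_i → N_{i+1} such that d_0 is injective
and the sequence 0 → N_0 → N_1 → ⋯ → N_k is exact. Then for every prime ideal p of A of height at
most k the localization of N_0 at p is a free module over A_p. The published statement is for a
coherent analytic sheaf on a complex manifold that is locally a k-th syzygy sheaf and says its set
of non-free stalks has codimension greater than k; this row is the statement at one stalk, over any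
regular local ring. -/
theorem result (A : Type u) [CommRing A] [IsRegularLocalRing A]
    (k : ℕ) (N : ℕ → Type u) [∀ i, AddCommGroup (N i)] [∀ i, Module A (N i)] [Module.Finite A (N 0)]
    (hfree : ∀ i, 1 ≤ i → i ≤ k → Module.Free A (N i) ∧ Module.Finite A (N i))
    (d : ∀ i, N i →ₗ[A] N (i + 1)) (hinj : Function.Injective (d 0))
    (hex : ∀ i, i + 1 < k → LinearMap.range (d i) = LinearMap.ker (d (i + 1)))
    (p : Ideal A) [p.IsPrime] (hp : p.height ≤ k) :
    Module.Free (Localization.AtPrime p) (LocalizedModule p.primeCompl (N 0)) := by
  haveI := Groth.Agent.H05EGA4.isRegularLocalRing_localization A p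
  obtain ⟨h, hh, hk⟩ := Groth.Agent.H05EGA4.exists_pd_residueField (Localization.AtPrime p)
  rw [IsLocalization.AtPrime.ringKrullDim_eq_height p (Localization.AtPrime p)] at hh
  have hle : h ≤ k := by
    have : (p.height : ℕ∞) = h := by exact_mod_cast hh
    rw [this] at hp; exact_mod_cast hp
  let B := Localization.AtPrime p
  haveI := Groth.Agent.H05EGA4.hasProjectiveDimensionLT_of_residueField h hk
  have hgl : ∀ M : ModuleCat.{u} B, CategoryTheory.HasProjectiveDimensionLT M (k + 1) := fun M => by
    haveI := Groth.Agent.H05EGA4.hasProjectiveDimensionLT_of_residueField h hk M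
    exact CategoryTheory.hasProjectiveDimensionLT_of_ge M (h + 1) (k + 1) (by omega)
  let d' := fun i => LocalizedModule.map p.primeCompl (d i)
  have : Module.Projective B (LocalizedModule p.primeCompl (N 0)) := by
    refine key B k hgl (fun i => LocalizedModule p.primeCompl (N i)) (fun i h1 h2 => ?_) d' ?_ (fun i hi => ?_)
    · obtain ⟨hf, -⟩ := hfree i h1 h2
      infer_instance
    · exact LocalizedModule.map_injective p.primeCompl (d 0) hinj
    · exact LocalizedModule.map_exact p.primeCompl (d i) (d (i + 1)) (LinearMap.exact_iff.mpr (hex i hi).symm)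
  exact Module.free_of_flat_of_isLocalRing

end Groth.Agent.S12491
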