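import Groth.Statements.S12498
import Mathlib.RingTheory.Flat.EquationalCriterion
import Mathlib.RingTheory.Derivation.Basic
import Mathlib.Tactic.LinearCombination
import Mathlib.Data.Fin.VecNotation
import Mathlib.RingTheory.Ideal.Quotient.Operations

set_option autoImplicit false
universe u
open Deform

namespace Groth.Agent.S12498

/-- Let k be an algebraically closed field, A a local Artinian k-algebra with residue field k, and t a
nonzero element of the maximal ideal m_A annihilated by m_A, so that A → A/tA is a small extension.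
Let B be a flat A-algebra (a deformation over A of its closed fibre B_0 = B/m_A B), and σ an
A-algebra automorphism of B/tB inducing the identity on B_0. Fix an A-algebra automorphism τ of B
inducing σ (so τ induces the identity on B_0). Then the A-algebra automorphisms η of B inducing σ
correspond bijectively to the k-derivations d of B_0 through the rule η = τ + t·d, meaning η(b) =
τ(b) + t b′ for all b ∈ B and all b′ ∈ B lifting d applied to the image of b in B_0: every such η
determines a unique d, and every d comes from some such η. (The published statement phrases the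
conclusion as a free and transitive action of Der_k(B_0, B_0) on the nonempty set of lifts of σ; the
condition that σ induces the identity on B_0 is expressed here through the chosen lift τ.) -/
theorem result
    {k : Type u} [Field k] [IsAlgClosed k]
    {A : Type u} [CommRing A] [Algebra k A] [IsLocalRing A] [IsArtinianRing A]
    (hres : ∀ a : A, ∃ c : k, a - algebraMap k A c ∈ IsLocalRing.maximalIdeal A)
    (t : A) (ht : t ∈ IsLocalRing.maximalIdeal A) (ht0 : t ≠ 0)
    (htm : ∀ a ∈ IsLocalRing.maximalIdeal A, a * t = 0)
    {B : Type u} [CommRing B] [Algebra A B] [Module.Flat A B] [Algebra k B] [IsScalarTower k A B]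
    (σ : (B ⧸ Ideal.span {algebraMap A B t}) ≃ₐ[A] (B ⧸ Ideal.span {algebraMap A B t}))
    (τ : B ≃ₐ[A] B)
    (hτ : ∀ b : B, Ideal.Quotient.mk (Ideal.span {algebraMap A B t}) (τ b) =
      σ (Ideal.Quotient.mk (Ideal.span {algebraMap A B t}) b))
    (hτ0 : ∀ b : B, τ b - b ∈ (IsLocalRing.maximalIdeal A).map (algebraMap A B)) :
    (∀ η : B ≃ₐ[A] B, (∀ b : B, Ideal.Quotient.mk (Ideal.span {algebraMap A B t}) (η b) =
        σ (Ideal.Quotient.mk (Ideal.span {algebraMap A B t}) b)) →
      ∃! d : Derivation k (B ⧸ (IsLocalRing.maximalIdeal A).map (algebraMap A B))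
          (B ⧸ (IsLocalRing.maximalIdeal A).map (algebraMap A B)),
        ∀ b b' : B, Ideal.Quotient.mk ((IsLocalRing.maximalIdeal A).map (algebraMap A B)) b' =
            d (Ideal.Quotient.mk ((IsLocalRing.maximalIdeal A).map (algebraMap A B)) b) →
          η b = τ b + algebraMap A B t * b') ∧
    (∀ d : Derivation k (B ⧸ (IsLocalRing.maximalIdeal A).map (algebraMap A B))
        (B ⧸ (IsLocalRing.maximalIdeal A).map (algebraMap A B)),
      ∃ η : B ≃ₐ[A] B, (∀ b : B, Ideal.Quotient.mk (Ideal.span {algebraMap A B t}) (η b) =
          σ (Ideal.Quotient.mk (Ideal.span {algebraMap A B t}) b)) ∧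
        ∀ b b' : B, Ideal.Quotient.mk ((IsLocalRing.maximalIdeal A).map (algebraMap A B)) b' =
            d (Ideal.Quotient.mk ((IsLocalRing.maximalIdeal A).map (algebraMap A B)) b) →
          η b = τ b + algebraMap A B t * b') := by
  classical
  let mA := IsLocalRing.maximalIdeal A
  let mB := mA.map (algebraMap A B)
  let q := Ideal.Quotient.mk mB
  let T := algebraMap A B t
  have hsmall : ∀ x ∈ mB, T * x = 0 := by
    intro x hx
    refine Submodule.span_induction (p := fun x _ => T * x = 0) ?_ ?_ ?_ ?_ hx
    · rintro _ ⟨a, ha, rfl⟩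
      rw [← map_mul, mul_comm, htm a ha, map_zero]
    · exact mul_zero _
    · intro a b _ _ ha hb; rw [mul_add, ha, hb, add_zero]
    · intro r a _ ha; rw [smul_eq_mul, mul_left_comm, ha, mul_zero]
  have hann : ∀ x : B, T * x = 0 → x ∈ mB := by
    intro x hx
    obtain ⟨l, a, y, hxy, ha⟩ := Module.Flat.iff_forall_isTrivialRelation.mp ‹Module.Flat A B›
      (l := 1) (f := ![t]) (x := ![x]) (by simpa [Algebra.smul_def] using hx)
    have h0 := hxy 0
    rw [Matrix.cons_val_zero] at h0
    rw [h0]
    refine Ideal.sum_mem _ fun j _ => ?_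
    rw [Algebra.smul_def]
    refine Ideal.mul_mem_right _ _ (Ideal.mem_map_of_mem _ ?_)
    rw [IsLocalRing.mem_maximalIdeal, mem_nonunits_iff]
    have hj := ha j
    rw [Fin.sum_univ_one, Matrix.cons_val_zero] at hj
    exact fun hu => ht0 ((hu.mul_left_eq_zero).mp hj)
  have heq : ∀ x y : B, T * x = T * y ↔ q x = q y := fun x y => by
    rw [← sub_eq_zero, ← mul_sub, Ideal.Quotient.eq]
    exact ⟨hann _, hsmall _⟩
  have hτT : ∀ x : B, T * τ x = T * x := fun x => by
    rw [← sub_eq_zero, ← mul_sub]
    exact hsmall _ (hτ0 x)
  constructor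
  · intro η hη
    have hdiff : ∀ b : B, ∃ c : B, η b = τ b + T * c := fun b => by
      have h1 : η b - τ b ∈ Ideal.span {T} := Ideal.Quotient.eq.mp ((hη b).trans (hτ b).symm)
      obtain ⟨c, hc⟩ := Ideal.mem_span_singleton.mp h1
      exact ⟨c, by rw [← hc]; ring⟩
    choose δ hδ using hdiff
    have hadd : ∀ x y, q (δ (x + y)) = q (δ x + δ y) := fun x y => (heq _ _).mp (by
      have h := hδ (x + y)
      rw [map_add, map_add, hδ x, hδ y] at h
      linear_combination -h)
    have hmulq : ∀ x y, q (δ (x * y)) = q (x * δ y + y * δ x) := fun x y => (heq _ _).mp (by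
      have h := hδ (x * y)
      rw [map_mul, map_mul, hδ x, hδ y] at h
      have htt : T * T = 0 := hsmall T (Ideal.mem_map_of_mem _ ht)
      linear_combination -h + δ x * δ y * htt + δ y * hτT x + δ x * hτT y)
    have hA : ∀ a : A, q (δ (algebraMap A B a)) = 0 := fun a => by
      rw [← map_zero q]
      refine (heq _ _).mp ?_
      have h := hδ (algebraMap A B a)
      rw [AlgEquiv.commutes, AlgEquiv.commutes] at h
      linear_combination -h
    have hker : ∀ x ∈ mB, q (δ x) = 0 := by
      intro x hx
      refine Submodule.span_induction (p := fun x _ => q (δ x) = 0) ?_ ?_ ?_ ?_ hx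
      · rintro _ ⟨a, -, rfl⟩; exact hA a
      · simpa using hA 0
      · intro x y _ _ h1 h2; rw [hadd, map_add, h1, h2, add_zero]
      · intro r x hx h1
        rw [smul_eq_mul, hmulq, map_add, map_mul, h1, mul_zero, zero_add, map_mul,
          (Ideal.Quotient.eq_zero_iff_mem.mpr hx : q x = 0), zero_mul]
    let f : B ⧸ mB → B ⧸ mB := Quotient.lift (fun b => q (δ b)) fun x y hxy => by
      have h : x - y ∈ mB := (Submodule.quotientRel_def _).mp hxy
      have := hadd (x - y) y
      rw [sub_add_cancel, map_add, hker _ h, zero_add] at this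
      exact this
    have hf : ∀ b, f (q b) = q (δ b) := fun b => rfl
    let fl : (B ⧸ mB) →ₗ[k] (B ⧸ mB) :=
      { toFun := f
        map_add' := fun u v => by
          obtain ⟨x, rfl⟩ := Ideal.Quotient.mk_surjective u
          obtain ⟨y, rfl⟩ := Ideal.Quotient.mk_surjective v
          rw [← map_add, hf, hf, hf, hadd, map_add]
        map_smul' := fun c u => by
          obtain ⟨x, rfl⟩ := Ideal.Quotient.mk_surjective u
          rw [RingHom.id_apply, ← Ideal.Quotient.mkₐ_eq_mk k, ← map_smul, Ideal.Quotient.mkₐ_eq_mk, hf, hf,
            Algebra.smul_def, hmulq, map_add, map_mul, IsScalarTower.algebraMap_apply k A B, map_mul q x,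
            hA, mul_zero, add_zero, Algebra.smul_def, ← IsScalarTower.algebraMap_apply k A B]
          rfl }
    let d : Derivation k (B ⧸ mB) (B ⧸ mB) := Derivation.mk' fl fun u v => by
      obtain ⟨x, rfl⟩ := Ideal.Quotient.mk_surjective u
      obtain ⟨y, rfl⟩ := Ideal.Quotient.mk_surjective v
      change f (q x * q y) = q x • f (q y) + q y • f (q x)
      rw [← map_mul, hf, hf, hf, hmulq, map_add, map_mul, map_mul]
      rfl
    refine ⟨d, fun b b' hb' => ?_, fun d' hd' => Derivation.ext fun u => ?_⟩
    · rw [hδ b, (heq _ b').mpr (hb'.trans (hf b)).symm]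
    · obtain ⟨x, rfl⟩ := Ideal.Quotient.mk_surjective u
      obtain ⟨z, hz⟩ := Ideal.Quotient.mk_surjective (d' (q x))
      change d' (q x) = f (q x)
      rw [hf, ← hz]
      exact (heq _ _).mp (add_left_cancel ((hd' x z hz).symm.trans (hδ x)))
  · intro d
    choose δ hδ using fun b : B => Ideal.Quotient.mk_surjective (d (q b))
    have hadd : ∀ x y, T * δ (x + y) = T * δ x + T * δ y := fun x y => by
      rw [← mul_add]
      exact (heq _ _).mpr (by rw [map_add, hδ, hδ, hδ, map_add, map_add])
    have hmulT : ∀ x y, T * δ (x * y) = x * (T * δ y) + y * (T * δ x) := fun x y => by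
      have h : T * δ (x * y) = T * (x * δ y + y * δ x) :=
        (heq _ _).mpr (by rw [map_add, map_mul, map_mul, hδ, hδ, hδ, map_mul, d.leibniz]; rfl)
      rw [h]; ring
    have hA : ∀ a : A, T * δ (algebraMap A B a) = 0 := fun a => by
      rw [← mul_zero T]
      refine (heq _ _).mpr ?_
      rw [map_zero, hδ]
      obtain ⟨c, hc⟩ := hres a
      have h1 : q (algebraMap A B a) = algebraMap k (B ⧸ mB) c := by
        change q (algebraMap A B a) = q (algebraMap k B c)
        rw [IsScalarTower.algebraMap_apply k A B, Ideal.Quotient.eq, ← map_sub]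
        exact Ideal.mem_map_of_mem _ hc
      rw [h1, d.map_algebraMap]
    have hδ0 : ∀ x ∈ mB, T * δ x = 0 := fun x hx => by
      rw [← mul_zero T]
      exact (heq _ _).mpr (by rw [hδ, map_zero, (Ideal.Quotient.eq_zero_iff_mem.mpr hx : q x = 0), map_zero])
    have htt : T * T = 0 := hsmall T (Ideal.mem_map_of_mem _ ht)
    let η : B →ₐ[A] B :=
      { toFun := fun b => τ b + T * δ b
        map_one' := by
          have := hA 1
          rw [map_one] at this
          rw [map_one, this, add_zero]
        map_mul' := fun x y => by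
          rw [map_mul, hmulT]
          linear_combination (-δ x * δ y) * htt - δ y * hτT x - δ x * hτT y
        map_zero' := by
          have := hA 0
          rw [map_zero] at this
          rw [map_zero, this, add_zero]
        map_add' := fun x y => by rw [map_add, hadd]; ring
        commutes' := fun a => by rw [AlgEquiv.commutes, hA, add_zero] }
    have hηd : ∀ b, η b = τ b + T * δ b := fun b => rfl
    have hbij : Function.Bijective η := by
      constructor
      · refine (injective_iff_map_eq_zero η).mpr fun x hx => ?_
        rw [hηd] at hx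
        have hx1 : τ x ∈ mB := by
          rw [eq_neg_of_add_eq_zero_left hx]
          exact mB.neg_mem (Ideal.mul_mem_right _ _ (Ideal.mem_map_of_mem _ ht))
        have hx2 : x ∈ mB := by
          have := mB.sub_mem hx1 (hτ0 x)
          simpa using this
        rw [hδ0 x hx2, add_zero] at hx
        exact τ.injective (by rw [hx, map_zero])
      · intro y
        refine ⟨τ.symm y - T * δ (τ.symm y), ?_⟩
        rw [map_sub, map_mul, show η T = T from η.commutes t, hηd, hηd (δ _), AlgEquiv.apply_symm_apply]
        linear_combination (-δ (δ (τ.symm y))) * htt - hτT (δ (τ.symm y))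
    refine ⟨AlgEquiv.ofBijective η hbij, fun b => ?_, fun b b' hb' => ?_⟩
    · rw [← hτ b, Ideal.Quotient.eq]
      change τ b + T * δ b - τ b ∈ _
      rw [add_sub_cancel_left]
      exact Ideal.mul_mem_right _ _ (Ideal.mem_span_singleton_self T)
    · change τ b + T * δ b = _
      rw [(heq _ b').mpr (hb'.trans (hδ b).symm).symm]

end Groth.Agent.S12498
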