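-- statement FlatMor.GrothFrozen.S1250 (Groth/Statements/S1250.lean; the theorem FlatMor.elemDevissage_flat_iff);
import Groth.Statements.S1250
import Groth.Agent.H7Flat.DevissageLoc

set_option autoImplicit false
universe u
open FlatMor

namespace Groth.Agent.S1250

/-- Given an elementary dévissage E of N at q over p in dimension n, the following are equivalent: N_q
is flat over R; G_z is flat over R'; G_y (G viewed as a D-module) is flat over R'. Also equivalent
to each other: N becomes flat over R on some basic open D(g) ∋ q of Spec S; G becomes flat over R'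
on some basic open of Spec C containing z; G as a D-module becomes flat over R' on some basic open
of Spec D containing y. -/
theorem result {R S : Type u} [CommRing R] [CommRing S] [Algebra R S] [Algebra.FiniteType R S]
    (N : Type u) [AddCommGroup N] [Module S N] [Module R N] [IsScalarTower R S N] [Module.Finite S N]
    (p : Ideal R) [p.IsPrime] (q : Ideal S) [q.IsPrime] [q.LiesOver p] (n : ℕ) (E : FlatCA.ElemDevissage R S N p q n) :
    [FlatCA.FlatAt R q N, FlatCA.FlatAt E.R' E.z E.G, FlatCA.FlatAt E.R' E.y E.G].TFAE ∧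
    [∃ g : S, g ∉ q ∧ Module.Flat R (LocalizedModule (Submonoid.powers g) N),
     ∃ g : E.C, g ∉ E.z ∧ Module.Flat E.R' (LocalizedModule (Submonoid.powers g) E.G),
     ∃ g : E.D, g ∉ E.y ∧ Module.Flat E.R' (LocalizedModule (Submonoid.powers g) E.G)].TFAE := by
  haveI : Algebra.Etale R E.R' := E.etaleR.1
  haveI : Algebra.Etale S E.S' := E.etaleS.1
  haveI : Module.Flat S E.S' := inferInstance
  haveI : Module.Finite E.D E.C := E.finiteDC
  letI : Module S E.G := Module.compHom E.G (algebraMap S E.S')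
  haveI : IsScalarTower S E.S' E.G := .of_algebraMap_smul fun _ _ => rfl
  letI : Module R E.G := Module.compHom E.G (algebraMap R E.R')
  haveI : IsScalarTower R E.R' E.G := .of_algebraMap_smul fun _ _ => rfl
  haveI : IsScalarTower E.R' E.S' E.G := .of_algebraMap_smul fun r x => by
    rw [← algebraMap_smul E.C (algebraMap E.R' E.S' r) x, ← IsScalarTower.algebraMap_apply,
      algebraMap_smul]
  haveI : IsScalarTower R E.S' E.G := .of_algebraMap_smul fun r x => by
    rw [IsScalarTower.algebraMap_apply R E.R' E.S', algebraMap_smul, algebraMap_smul]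
  haveI : IsScalarTower R S E.G := .of_algebraMap_smul fun r x => by
    rw [← algebraMap_smul E.S' (algebraMap R S r) x, ← IsScalarTower.algebraMap_apply, algebraMap_smul]
  let ψ : N →ₗ[S] E.G := (E.iso.restrictScalars S).toLinearMap ∘ₗ E.f
  have hψ : IsBaseChange E.S' ψ :=
    IsBaseChange.of_equiv (E.isBaseChange.equiv ≪≫ₗ E.iso) fun m => by
      simp [ψ, IsBaseChange.equiv_tmul]
  have hq : E.q'.comap (algebraMap S E.S') = q := E.etaleS.2.1.over.symm
  have hz : E.z.comap (algebraMap E.S' E.C) = E.q' := (Ideal.LiesOver.over (p := E.q') (P := E.z)).symm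
  -- comparisons at a prime of `S'`
  have hSS : ∀ (Q : Ideal E.S') [Q.IsPrime],
      FlatCA.FlatAt R (Q.comap (algebraMap S E.S')) N ↔ FlatCA.FlatAt E.R' Q E.G := fun Q _ =>
    (H7Flat.FlatAtFinite.flat_localizedModule_flat_iff hψ Q).trans
      (H7Flat.DevissageLoc.flat_localizedModule_etale_iff E.G Q.primeCompl)
  -- between `S'`, `C` and `D`
  have hSC : FlatCA.FlatAt E.R' E.q' E.G ↔ FlatCA.FlatAt E.R' E.z E.G :=
    H7Flat.DevissageLoc.flat_localizedModule_comap E.G _ _
      (fun t ht h => ht (hz ▸ h)) fun c hc => by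
        obtain ⟨t, rfl⟩ := E.surjC c
        exact ⟨t, fun h => hc (Ideal.mem_comap.mp (hz.symm ▸ h)), dvd_rfl⟩
  have hy : E.z.comap (algebraMap E.D E.C) = E.y := (Ideal.LiesOver.over (p := E.y) (P := E.z)).symm
  have hDC : FlatCA.FlatAt E.R' E.y E.G ↔ FlatCA.FlatAt E.R' E.z E.G :=
    H7Flat.DevissageLoc.flat_localizedModule_comap E.G _ _
      (fun t ht h => ht (hy ▸ h)) fun c hc =>
        H7Flat.DevissageLoc.exists_notMem_dvd E.y E.z E.uniq c hc
  refine ⟨?_, ?_⟩
  · have h1 : FlatCA.FlatAt R q N ↔ FlatCA.FlatAt E.R' E.q' E.G := by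
      have := hSS E.q'
      simp only [hq] at this
      exact this
    tfae_have 1 ↔ 2 := h1.trans hSC
    tfae_have 2 ↔ 3 := hDC.symm
    tfae_finish
  · tfae_have 1 → 2 := by
      rintro ⟨g, hg, hfl⟩
      refine ⟨algebraMap E.S' E.C (algebraMap S E.S' g), fun h => hg (hq ▸ hz ▸ h), ?_⟩
      refine (H7Flat.DevissageLoc.flat_localizedModule_comap (S := E.S') E.G
        (Submonoid.powers (algebraMap S E.S' g)) _ ?_ ?_).mp ?_
      · rintro _ ⟨k, rfl⟩; exact ⟨k, (map_pow _ _ _).symm⟩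
      · rintro _ ⟨k, rfl⟩
        exact ⟨algebraMap S E.S' g ^ k, ⟨k, rfl⟩, by rw [map_pow]⟩
      · exact (H7Flat.DevissageLoc.flat_away_iff _ _).mpr fun Q _ hQ =>
          (hSS Q).mp ((H7Flat.DevissageLoc.flat_away_iff g N).mp hfl _ hQ)
    tfae_have 2 → 1 := by
      rintro ⟨c, hc, hfl⟩
      obtain ⟨s, rfl⟩ := E.surjC c
      have hfl' : Module.Flat E.R' (LocalizedModule (Submonoid.powers s) E.G) := by
        refine (H7Flat.DevissageLoc.flat_localizedModule_comap E.G _ _ ?_ ?_).mpr hfl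
        · rintro _ ⟨k, rfl⟩; exact ⟨k, (map_pow _ _ _).symm⟩
        · rintro _ ⟨k, rfl⟩
          exact ⟨s ^ k, ⟨k, rfl⟩, by rw [map_pow]⟩
      obtain ⟨g, hg, hcov⟩ := H7Flat.DevissageLoc.exists_basicOpen_le_image (S := S) E.q' s
        (fun h => hc (Ideal.mem_comap.mp (hz.symm ▸ h)))
      refine ⟨g, hq ▸ hg, (H7Flat.DevissageLoc.flat_away_iff g N).mpr fun q₁ _ hq₁ => ?_⟩
      obtain ⟨Q, _, hsQ, rfl⟩ := hcov q₁ hq₁
      exact (hSS Q).mpr ((H7Flat.DevissageLoc.flat_away_iff s E.G).mp hfl' Q hsQ)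
    tfae_have 3 → 2 := by
      rintro ⟨d, hd, hfl⟩
      refine ⟨algebraMap E.D E.C d, fun h => hd (hy ▸ h), ?_⟩
      refine (H7Flat.DevissageLoc.flat_localizedModule_comap (S := E.D) E.G
        (Submonoid.powers d) _ ?_ ?_).mp hfl
      · rintro _ ⟨k, rfl⟩; exact ⟨k, (map_pow _ _ _).symm⟩
      · rintro _ ⟨k, rfl⟩
        exact ⟨d ^ k, ⟨k, rfl⟩, by rw [map_pow]⟩
    tfae_have 2 → 3 := by
      rintro ⟨c, hc, hfl⟩
      obtain ⟨d, hd, hdvd⟩ := H7Flat.DevissageLoc.exists_notMem_dvd E.y E.z E.uniq c hc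
      refine ⟨d, hd, (H7Flat.DevissageLoc.flat_localizedModule_comap (S := E.D) E.G _
        (Submonoid.powers (algebraMap E.D E.C d)) ?_ ?_).mpr ?_⟩
      · rintro _ ⟨k, rfl⟩; exact ⟨k, (map_pow _ _ _).symm⟩
      · rintro _ ⟨k, rfl⟩
        exact ⟨d ^ k, ⟨k, rfl⟩, by rw [map_pow]⟩
      · refine (H7Flat.DevissageLoc.flat_away_iff _ _).mpr fun Q _ hQ => ?_
        exact (H7Flat.DevissageLoc.flat_away_iff c E.G).mp hfl Q fun hcQ =>
          hQ (Ideal.mem_of_dvd _ hdvd hcQ)
    tfae_finish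

end Groth.Agent.S1250
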