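import Groth.Statements.S12505
import Groth.Agent.H15Site.ModFlat

open CategoryTheory CategoryTheory.Limits Opposite MonoidalCategory Groth.Agent.H15Site Groth.Agent.H15Site.ModTensor

attribute [local instance 10000] SiteInst.hasSheafifySite SiteInst.hasWeakSheafifySite

set_option linter.style.haveILetI false
open CategoryTheory CategoryTheory.Limits Opposite

set_option autoImplicit false
universe u
open CategoryTheory
open ModSite

namespace Groth.Agent.S12505

open CategoryTheory.MonoidalCategory in
open CategoryTheory.MonoidalCategory in
/-- Let (C, J) be a small site and O a sheaf of commutative rings on it; for presheaves of O-modules M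
and N, with u_M : M → aM and u_N : N → aN the unit maps of the sheafification adjunction (aM, aN
regarded as presheaves), the morphism a(u_M ⊗ u_N) from the sheafification of the presheaf tensor
product M ⊗_p N to the sheafification of aM ⊗_p aN is an isomorphism. -/
theorem result {C : Type u} [SmallCategory C] {J : GrothendieckTopology C}
    (O : Sheaf J CommRingCat.{u})
    (M N : PresheafOfModules.{u} (O.obj ⋙ forget₂ CommRingCat.{u} RingCat.{u})) :
    IsIso ((ModSite.sheafify O).map
      (MonoidalCategoryStruct.tensorHom (C := PresheafOfModules.{u} (O.obj ⋙ forget₂ CommRingCat.{u} RingCat.{u}))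
        ((PresheafOfModules.sheafificationAdjunction (𝟙 (ModSite.ringSh O).obj)).unit.app M)
        ((PresheafOfModules.sheafificationAdjunction (𝟙 (ModSite.ringSh O).obj)).unit.app N))) := by
  have h1 := isIso_aSh_map_unit (O := O) M
  have h2 := isIso_aSh_map_unit (O := O) N
  exact isIso_aSh_map_tensorHom ((adj O).unit.app M) ((adj O).unit.app N)

end Groth.Agent.S12505
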