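import Groth.Statements.S12509
import Groth.Agent.H16Derived.ColimPush.Derived
import Groth.Agent.H16Derived.ColimPush.Sheaf

set_option autoImplicit false
universe u
open CategoryTheory CategoryTheory.Limits AlgebraicGeometry
attribute [local instance] HasDerivedCategory.standard
open Perf

namespace Groth.Agent.S12509

open Groth.Agent.H16Derived Groth.Agent.H16Derived.KFlat.Stalk

/-- Let f : X ⟶ Y be a quasi-compact quasi-separated morphism of schemes for which the unbounded derived
direct image Rf_* exists, J a small filtered category and C : J ⥤ (cochain complexes of O_X-modules)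
a diagram with colimit colim C in the category of complexes, such that for one fixed integer n every
C_j has cohomology sheaves vanishing below degree n. If for every j the canonical map f_* C_j ⟶ Rf_*
C_j in D(O_Y) (the unit of the total right derived functor of f_* at C_j) is an isomorphism, then
the same map for colim C is an isomorphism. (The published corollary also allows, instead of the
uniform lower bound on cohomology, the hypothesis that every C_j has quasi-coherent cohomology
sheaves; this row states the bounded-below case.) -/
theorem result {X Y : Scheme.{u}} (f : X ⟶ Y) [QuasiCompact f]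
    [QuasiSeparated f] [DCoh.HasRpush f] {J : Type u} [SmallCategory J] [IsFiltered J]
    (C : J ⥤ CochainComplex X.Modules ℤ) [HasColimit C] (n : ℤ) (hC : ∀ j : J, (DCoh.toD X (C.obj j)).IsGE n)
    (hac : ∀ j : J, IsIso (((DCoh.pushKh f).totalRightDerivedUnit DerivedCategory.Qh
      (HomotopyCategory.quasiIso X.Modules (ComplexShape.up ℤ))).app
      ((HomotopyCategory.quotient X.Modules (ComplexShape.up ℤ)).obj (C.obj j)))) :
    IsIso (((DCoh.pushKh f).totalRightDerivedUnit DerivedCategory.Qh
      (HomotopyCategory.quasiIso X.Modules (ComplexShape.up ℤ))).app
      ((HomotopyCategory.quotient X.Modules (ComplexShape.up ℤ)).obj (colimit C))) := by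
  haveI := isGrothendieckAbelian_modules (X := X)
  haveI := isGrothendieckAbelian_modules (X := Y)
  haveI := ColimPush.preservesFilteredColimits_pushforward f J
  show IsIso ((rpushUnit f).app _)
  have key : ∀ i : ℤ, IsIso ((ColimPush.η f i).app (colimit C)) := fun i => by
    obtain ⟨h₁⟩ := ColimPush.nonempty_isColimit (J := J) f
      (fun D c hc hi p => ColimPush.isZero_rpush_colimit_of_flasque f hc
        (fun j => haveI := hi j; Groth.Agent.H10Coh.flasque_sh_of_injective _) p)
      C (colimit.isColimit C) n (fun j => (DerivedCategory.isGE_Q_obj_iff _ _).1 (hC j)) i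
    haveI := ColimPush.preservesColimitsOfShape_G₂ (J := J) f i
    let h₂ := isColimitOfPreserves (ColimPush.G₂ f i) (colimit.isColimit C)
    haveI : ∀ j, IsIso ((ColimPush.η f i).app (C.obj j)) := fun j => ColimPush.isIso_η_app f i _ (hac j)
    let e : C ⋙ ColimPush.G₂ f i ≅ C ⋙ ColimPush.G₁ f i :=
      NatIso.ofComponents (fun j => asIso ((ColimPush.η f i).app (C.obj j))) fun g => (ColimPush.η f i).naturality _
    have h : (IsColimit.coconePointsIsoOfNatIso h₂ h₁ e).hom = (ColimPush.η f i).app (colimit C) :=
      h₂.hom_ext fun j => by
        rw [IsColimit.comp_coconePointsIsoOfNatIso_hom]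
        exact ((ColimPush.η f i).naturality (colimit.ι C j)).symm
    rw [← h]
    infer_instance
  refine (DerivedCategory.isIso_iff _ _).2 fun i => ?_
  have h := key i
  dsimp only [ColimPush.η, NatTrans.comp_app, Functor.whiskerLeft_app, Functor.whiskerRight_app] at h
  simpa only [isIso_comp_left_iff, isIso_comp_right_iff] using h

end Groth.Agent.S12509
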