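-- statement FlatMor.GrothFrozen.S1251 (Groth/Statements/S1251.lean; the theorem FlatMor.elemDevissage_finitePresentation_iff);
import Groth.Statements.S1251
import Groth.Agent.H7Flat.DevissageLoc
import Groth.Agent.H7Flat.DevissageFP

set_option autoImplicit false
universe u
open FlatMor

namespace Groth.Agent.S1251

/-- Given an elementary dévissage E of N at q over p in dimension n, with S of finite presentation over
R: the finite map D → C is of finite presentation; the following are equivalent: N_q is a finitely
presented S_q-module; G_z is a finitely presented C_z-module; G_y is a finitely presented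
D_y-module. Also equivalent to each other: N is finitely presented on some basic open of Spec S
containing q; G is finitely presented on some basic open of Spec C containing z; G as a D-module is
finitely presented on some basic open of Spec D containing y. -/
theorem result {R S : Type u} [CommRing R] [CommRing S] [Algebra R S] [Algebra.FinitePresentation R S]
    (N : Type u) [AddCommGroup N] [Module S N] [Module R N] [IsScalarTower R S N] [Module.Finite S N]
    (p : Ideal R) [p.IsPrime] (q : Ideal S) [q.IsPrime] [q.LiesOver p] (n : ℕ) (E : FlatCA.ElemDevissage R S N p q n) :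
    Algebra.FinitePresentation E.D E.C ∧
    [Module.FinitePresentation (Localization.AtPrime q) (LocalizedModule q.primeCompl N),
     Module.FinitePresentation (Localization.AtPrime E.z) (LocalizedModule E.z.primeCompl E.G),
     Module.FinitePresentation (Localization.AtPrime E.y) (LocalizedModule E.y.primeCompl E.G)].TFAE ∧
    [∃ g : S, g ∉ q ∧ Module.FinitePresentation (Localization.Away g) (LocalizedModule (Submonoid.powers g) N),
     ∃ g : E.C, g ∉ E.z ∧ Module.FinitePresentation (Localization.Away g) (LocalizedModule (Submonoid.powers g) E.G),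
     ∃ g : E.D, g ∉ E.y ∧ Module.FinitePresentation (Localization.Away g) (LocalizedModule (Submonoid.powers g) E.G)].TFAE := by
  haveI : Algebra.Etale R E.R' := E.etaleR.1
  haveI : Algebra.Etale S E.S' := E.etaleS.1
  haveI : Module.Flat S E.S' := inferInstance
  haveI : Module.Finite E.D E.C := E.finiteDC
  haveI : Module.Finite E.C E.G := E.finiteG
  haveI : Algebra.FinitePresentation R E.S' := Algebra.FinitePresentation.trans R S E.S'
  haveI : Algebra.FinitePresentation E.R' E.S' :=
    Algebra.FinitePresentation.of_restrict_scalars_finitePresentation R E.R' E.S'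
  haveI : Algebra.FinitePresentation E.S' E.C := E.fpC
  haveI : Algebra.FinitePresentation E.R' E.C := Algebra.FinitePresentation.trans E.R' E.S' E.C
  haveI : Algebra.FiniteType E.R' E.D := by
    haveI := E.smooth
    haveI : AlgebraicGeometry.Smooth
        (AlgebraicGeometry.Spec.map (CommRingCat.ofHom (algebraMap E.R' E.D))) :=
      AlgebraicGeometry.SmoothOfRelativeDimension.smooth n _
    have h : (CommRingCat.ofHom (algebraMap E.R' E.D)).hom.FiniteType :=
      (AlgebraicGeometry.HasRingHomProperty.Spec_iff
        (P := @AlgebraicGeometry.LocallyOfFiniteType)).mp inferInstance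
    exact RingHom.finiteType_algebraMap.mp h
  haveI hDC : Algebra.FinitePresentation E.D E.C :=
    Algebra.FinitePresentation.of_restrict_scalars_finitePresentation E.R' E.D E.C
  haveI : Module.FinitePresentation E.D E.C :=
    Module.FinitePresentation.of_finite_of_finitePresentation E.D E.C
  haveI : Module.FinitePresentation E.S' E.C :=
    Module.finitePresentation_of_surjective (Algebra.linearMap E.S' E.C) E.surjC
      (Algebra.FinitePresentation.ker_fG_of_surjective (Algebra.ofId E.S' E.C) E.surjC)
  letI : Module S E.G := Module.compHom E.G (algebraMap S E.S')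
  haveI : IsScalarTower S E.S' E.G := .of_algebraMap_smul fun _ _ => rfl
  let ψ : N →ₗ[S] E.G := (E.iso.restrictScalars S).toLinearMap ∘ₗ E.f
  have hψ : IsBaseChange E.S' ψ :=
    IsBaseChange.of_equiv (E.isBaseChange.equiv ≪≫ₗ E.iso) fun m => by
      simp [ψ, IsBaseChange.equiv_tmul]
  have hq : E.q'.comap (algebraMap S E.S') = q := E.etaleS.2.1.over.symm
  have hz : E.z.comap (algebraMap E.S' E.C) = E.q' := (Ideal.LiesOver.over (p := E.q') (P := E.z)).symm
  have hy : E.z.comap (algebraMap E.D E.C) = E.y := (Ideal.LiesOver.over (p := E.y) (P := E.z)).symm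
  refine ⟨hDC, ?_, ?_⟩
  · tfae_have 1 ↔ 2 := by
      have hb := H7Flat.DevissageFP.fp_localized_baseChange hψ q.primeCompl E.q'.primeCompl
        (fun t ht h => ht (hq ▸ h))
      refine Iff.trans ⟨hb.1, hb.2 inferInstance fun q₁ hq₁ hd => ?_⟩
        (H7Flat.DevissageFP.fp_localized_comap E.G E.q'.primeCompl E.z.primeCompl
          (fun t ht h => ht (hz ▸ h)) fun c hc => ?_)
      · haveI : E.q'.LiesOver q := ⟨hq.symm⟩
        obtain ⟨Q, hQle, hQ, hQc⟩ := Ideal.exists_ideal_le_liesOver_of_le (p := q₁) (q := q) E.q'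
          (fun x hx => by_contra fun h => Set.disjoint_left.mp hd h hx)
        exact ⟨Q, hQ, Set.disjoint_left.mpr fun x hx h => hx (hQle h), hQc.over.symm⟩
      · obtain ⟨t, rfl⟩ := E.surjC c
        exact ⟨t, fun h => hc (Ideal.mem_comap.mp (hz.symm ▸ h)), dvd_rfl⟩
    tfae_have 2 ↔ 3 := (H7Flat.DevissageFP.fp_localized_comap E.G E.y.primeCompl E.z.primeCompl
      (fun t ht h => ht (hy ▸ h)) fun c hc =>
        H7Flat.DevissageLoc.exists_notMem_dvd E.y E.z E.uniq c hc).symm
    tfae_finish
  · have hpow : ∀ {A B : Type u} [CommRing A] [CommRing B] (f : A →+* B) (a : A),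
        ∀ t ∈ Submonoid.powers a, f t ∈ Submonoid.powers (f a) := by
      rintro A B _ _ f a _ ⟨k, rfl⟩; exact ⟨k, (map_pow _ _ _).symm⟩
    have hdvd : ∀ {A B : Type u} [CommRing A] [CommRing B] [Algebra A B] (a : A),
        ∀ c ∈ Submonoid.powers (algebraMap A B a), ∃ t ∈ Submonoid.powers a, c ∣ algebraMap A B t := by
      rintro A B _ _ _ a _ ⟨k, rfl⟩; exact ⟨a ^ k, ⟨k, rfl⟩, by rw [map_pow]⟩
    tfae_have 1 → 2 := by
      rintro ⟨g, hg, hfp⟩
      refine ⟨algebraMap E.S' E.C (algebraMap S E.S' g), fun h => hg (hq ▸ hz ▸ h), ?_⟩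
      exact (H7Flat.DevissageFP.fp_localized_comap E.G (Submonoid.powers (algebraMap S E.S' g)) _
        (hpow _ _) (hdvd _)).mp ((H7Flat.DevissageFP.fp_localized_baseChange hψ (Submonoid.powers g) _
          (hpow _ _)).1 hfp)
    tfae_have 2 → 1 := by
      rintro ⟨c, hc, hfp⟩
      obtain ⟨s, rfl⟩ := E.surjC c
      obtain ⟨g, hg, hcov⟩ := H7Flat.DevissageLoc.exists_basicOpen_le_image (S := S) E.q' s
        (fun h => hc (Ideal.mem_comap.mp (hz.symm ▸ h)))
      let T'' := Submonoid.powers s ⊔ Submonoid.powers (algebraMap S E.S' g)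
      have h0 := (H7Flat.DevissageFP.fp_localized_comap E.G (Submonoid.powers s) _
        (hpow _ _) (hdvd _)).mpr hfp
      have h1 := (H7Flat.DevissageFP.fp_localized_baseChange (IsBaseChange.ofEquiv
        (LinearEquiv.refl E.S' E.G)) (Submonoid.powers s) T'' fun t ht => le_sup_left (a := _)
          (b := Submonoid.powers (algebraMap S E.S' g)) ht).1 h0
      refine ⟨g, hq ▸ hg, (H7Flat.DevissageFP.fp_localized_baseChange hψ (Submonoid.powers g) T''
        fun t ht => le_sup_right (a := Submonoid.powers s) (hpow _ _ t ht)).2 inferInstance ?_ h1⟩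
      intro q₁ hq₁ hd
      obtain ⟨Q, hQ, hsQ, hQc⟩ := hcov q₁ fun h => Set.disjoint_left.mp hd (Submonoid.mem_powers g) h
      refine ⟨Q, hQ, Set.disjoint_left.mpr fun x hx => ?_, hQc⟩
      refine (show T'' ≤ Q.primeCompl from sup_le (Submonoid.powers_le.mpr hsQ)
        (Submonoid.powers_le.mpr fun h => ?_)) hx
      exact Set.disjoint_left.mp hd (Submonoid.mem_powers g) (hQc ▸ Ideal.mem_comap.mpr h)
    tfae_have 3 → 2 := by
      rintro ⟨d, hd, hfp⟩
      exact ⟨algebraMap E.D E.C d, fun h => hd (hy ▸ h),
        (H7Flat.DevissageFP.fp_localized_comap E.G (Submonoid.powers d) _ (hpow _ _) (hdvd _)).mp hfp⟩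
    tfae_have 2 → 3 := by
      rintro ⟨c, hc, hfp⟩
      obtain ⟨d, hd, hcd⟩ := H7Flat.DevissageLoc.exists_notMem_dvd E.y E.z E.uniq c hc
      refine ⟨d, hd, (H7Flat.DevissageFP.fp_localized_comap E.G (Submonoid.powers d)
        (Submonoid.powers c ⊔ Submonoid.powers (algebraMap E.D E.C d))
        (fun t ht => le_sup_right (a := Submonoid.powers c) (hpow _ _ t ht)) ?_).mpr
        ((H7Flat.DevissageFP.fp_localized_baseChange (IsBaseChange.ofEquiv
          (LinearEquiv.refl E.C E.G)) (Submonoid.powers c) _ fun t ht => le_sup_left (a := _)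
            (b := Submonoid.powers (algebraMap E.D E.C d)) ht).1 hfp)⟩
      intro x hx
      obtain ⟨_, ⟨i, rfl⟩, _, ⟨j, rfl⟩, rfl⟩ := Submonoid.mem_sup.mp hx
      exact ⟨d ^ (i + j), ⟨i + j, rfl⟩, by
        rw [map_pow, pow_add]; exact mul_dvd_mul (pow_dvd_pow_of_dvd hcd i) dvd_rfl⟩
    tfae_finish

end Groth.Agent.S1251
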