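import Groth.Statements.S12514
import Groth.Agent.H23Ext.Conorm

set_option autoImplicit false
open FunFld

namespace Groth.Agent.S12514

/-- For a geometric function field of one variable `K/k` and finite extensions `K ⊆ K' ⊆ K''`, the
conorm maps on divisors compose: `N*_{K''/K'} ∘ N*_{K'/K} = N*_{K''/K}`. The companion identity for
norms is not stated. -/
theorem result (k K K' K'' : Type*) [Field k] [Field K] [Field K'] [Field K'']
    [Algebra k K] [Algebra k K'] [Algebra k K''] [Algebra K K'] [Algebra K' K''] [Algebra K K'']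
    [IsScalarTower k K K'] [IsScalarTower k K' K''] [IsScalarTower k K K''] [IsScalarTower K K' K'']
    [FiniteDimensional K K'] [FiniteDimensional K' K'']
    (hK : FunFld.IsFunctionField k K) (hg : FunFld.IsGeometric k K) (D : FunFld.Divisor k K) :
    FunFld.conorm K'' (FunFld.conorm K' D) = FunFld.conorm K'' D := by
  have hfin : FiniteDimensional K K'' := Module.Finite.trans K' K''
  ext Q''
  obtain ⟨Q', e₂, he₂⟩ := Groth.Agent.H23Ext.exists_below (K := K')
    (Groth.Agent.H23Ext.isFF_extension (K := K) hK.1) Q''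
  obtain ⟨P, e₁, he₁⟩ := Groth.Agent.H23Ext.exists_below (K := K) hK.1 Q'
  have hcomp : ∀ (R : FunFld.Place k K'') (e : ℕ), FunFld.IsOverWith R Q' e →
      FunFld.IsOverWith R P (e₁ * e) := fun R e he z => by
    rw [IsScalarTower.algebraMap_apply K K' K'', he, he₁, pow_mul]
  rw [Groth.Agent.H23Ext.conorm_apply _ he₂
      ((Groth.Agent.H23Ext.finite_isOver (K' := K'') hK P).subset
        fun R hR => ⟨_, hcomp R hR.choose hR.choose_spec⟩),
    Groth.Agent.H23Ext.conorm_apply _ he₁ (Groth.Agent.H23Ext.finite_isOver hK P),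
    Groth.Agent.H23Ext.conorm_apply _ (hcomp Q'' e₂ he₂) (Groth.Agent.H23Ext.finite_isOver hK P)]
  push_cast
  ring

end Groth.Agent.S12514
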