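import Groth.Statements.S12515
import Mathlib
import Groth.Agent.H23Hyp.Quadratic

set_option autoImplicit false
open FunFld

namespace Groth.Agent.S12515

/-- If `char k ≠ 2` and `K` has degree `2` over the rational function field `k(x)`, then `K = k(x)(y)`
for some `y` with `y² = f(x)`, `f` a squarefree polynomial over `k`. -/
theorem result (k K : Type*) [Field k] [Field K] (h2 : ringChar k ≠ 2)
    [Algebra (RatFunc k) K] (hdeg : Module.finrank (RatFunc k) K = 2) :
    ∃ (y : K) (f : Polynomial k), Squarefree f ∧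
      y ^ 2 = algebraMap (RatFunc k) K (algebraMap (Polynomial k) (RatFunc k) f) ∧
      IntermediateField.adjoin (RatFunc k) ({y} : Set K) = ⊤ := by
  haveI : FiniteDimensional (RatFunc k) K := Module.finite_of_finrank_pos (hdeg ▸ two_pos)
  haveI := ringChar.charP k
  haveI : CharP (RatFunc k) (ringChar k) := charP_of_injective_algebraMap (algebraMap k (RatFunc k)).injective _
  have h2F : (2 : RatFunc k) ≠ 0 := Ring.two_ne_zero (by rwa [ringChar.eq (RatFunc k) (ringChar k)])
  obtain ⟨z, hz⟩ : ∃ z : K, z ∉ Set.range (algebraMap (RatFunc k) K) := by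
    by_contra hno
    push Not at hno
    have h1 : Module.finrank (RatFunc k) K ≤ 1 := finrank_le_one (1 : K) fun w => by
      obtain ⟨c, hc⟩ := hno w
      exact ⟨c, by rw [Algebra.smul_def, mul_one, hc]⟩
    omega
  obtain ⟨a, b, hab⟩ := Groth.Agent.H23Hyp.coords hdeg hz (z ^ 2)
  have h2K : (2 : K) ≠ 0 := by rw [← map_ofNat (algebraMap (RatFunc k) K) 2]; exact (map_ne_zero _).2 h2F
  set r : RatFunc k := a + b ^ 2 / 4
  have hr : (z - algebraMap (RatFunc k) K (b / 2)) ^ 2 = algebraMap (RatFunc k) K r := by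
    have h4K : (4 : K) ≠ 0 := by rw [show (4 : K) = 2 * 2 by norm_num]; exact mul_ne_zero h2K h2K
    simp only [r, map_add, map_div₀, map_pow, map_ofNat]
    field_simp
    linear_combination 16 * hab
  set w := (z - algebraMap (RatFunc k) K (b / 2)) * algebraMap (RatFunc k) K (algebraMap (Polynomial k) (RatFunc k) r.denom)
  set h := r.num * r.denom
  have hw : w ^ 2 = algebraMap (RatFunc k) K (algebraMap (Polynomial k) (RatFunc k) h) := by
    simp only [w, h, mul_pow, hr, map_mul]
    rw [← map_pow, ← map_mul, ← map_mul]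
    congr 1
    conv_lhs => arg 1; rw [← RatFunc.num_div_denom r]
    field_simp [RatFunc.algebraMap_ne_zero r.denom_ne_zero]
  have hwnot : w ∉ Set.range (algebraMap (RatFunc k) K) := by
    rintro ⟨c, hc⟩
    refine hz ⟨c / algebraMap (Polynomial k) (RatFunc k) r.denom + b / 2, ?_⟩
    rw [map_add, map_div₀, hc, mul_div_assoc, div_self ((map_ne_zero _).2 (RatFunc.algebraMap_ne_zero r.denom_ne_zero)),
      mul_one, sub_add_cancel]
  have h0 : h ≠ 0 := by
    intro h0
    rw [h0, map_zero, map_zero, sq_eq_zero_iff] at hw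
    exact hwnot ⟨0, by rw [map_zero, hw]⟩
  have hdec : ∀ n : ℕ, ∀ h : Polynomial k, h ≠ 0 → h.natDegree ≤ n → ∃ s f : Polynomial k, Squarefree f ∧ h = s ^ 2 * f := by
    intro n
    induction n using Nat.strong_induction_on with
    | _ n ih =>
      intro h h0 hn
      by_cases hsq : Squarefree h
      · exact ⟨1, h, hsq, by rw [one_pow, one_mul]⟩
      simp only [Squarefree, not_forall] at hsq
      obtain ⟨d, ⟨g, hg⟩, hd⟩ := hsq
      have hd0 : d ≠ 0 := fun hd0 => h0 (by rw [hg, hd0, zero_mul, zero_mul])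
      have hg0 : g ≠ 0 := fun hg0 => h0 (by rw [hg, hg0, mul_zero])
      have hdpos : 0 < d.natDegree := by
        by_contra hle
        refine hd (Polynomial.isUnit_iff_degree_eq_zero.2 ?_)
        rw [Polynomial.degree_eq_natDegree hd0, Nat.eq_zero_of_not_pos hle]; rfl
      have hlt : g.natDegree < n := by
        have := congrArg Polynomial.natDegree hg
        rw [Polynomial.natDegree_mul (mul_ne_zero hd0 hd0) hg0, Polynomial.natDegree_mul hd0 hd0] at this
        omega
      obtain ⟨s, f, hf, hgs⟩ := ih _ hlt g hg0 le_rfl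
      exact ⟨d * s, f, hf, by rw [hg, hgs]; ring⟩
  obtain ⟨s, f, hf, hsf⟩ := hdec _ h h0 le_rfl
  have hs : algebraMap (RatFunc k) K (algebraMap (Polynomial k) (RatFunc k) s) ≠ 0 :=
    (map_ne_zero _).2 (RatFunc.algebraMap_ne_zero fun hs => h0 (by rw [hsf, hs]; ring))
  refine ⟨w / algebraMap (RatFunc k) K (algebraMap (Polynomial k) (RatFunc k) s), f, hf, ?_,
    Groth.Agent.H23Hyp.finrank_adjoin_eq_top hdeg ?_⟩
  · rw [div_pow, hw, hsf, map_mul, map_mul, map_pow, map_pow, mul_div_assoc, mul_comm]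
    exact div_mul_cancel₀ _ (pow_ne_zero 2 hs)
  · rintro ⟨c, hc⟩
    exact hwnot ⟨c * algebraMap (Polynomial k) (RatFunc k) s, by rw [map_mul, hc, div_mul_cancel₀ _ hs]⟩

end Groth.Agent.S12515
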