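import Groth.Statements.S12518
import Mathlib
import Groth.Agent.H23Hyp.Char2

set_option autoImplicit false
open FunFld

namespace Groth.Agent.S12518

/-- If `k` is perfect of characteristic `2` and `K` is a separable extension of degree `2` of `k(x)`,
then `K = k(x)(y)` for some `y` with `y² + y = f(x)` such that every pole of `f`, at any place of
`k(x)/k` including the infinite one, has odd order. -/
theorem result (k K : Type*) [Field k] [Field K] [PerfectField k] (h2 : ringChar k = 2)
    [Algebra k K] [Algebra (RatFunc k) K] [IsScalarTower k (RatFunc k) K]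
    (hdeg : Module.finrank (RatFunc k) K = 2) [Algebra.IsSeparable (RatFunc k) K] :
    ∃ (y : K) (f : RatFunc k), y ^ 2 + y = algebraMap (RatFunc k) K f ∧
      IntermediateField.adjoin (RatFunc k) ({y} : Set K) = ⊤ ∧
      ∀ P : FunFld.Place k (RatFunc k), P.ord f < 0 → Odd (P.ord f) := by
  classical
  open Groth.Agent.H23FunFld Groth.Agent.H23Hyp WithZero in
  haveI : FiniteDimensional (RatFunc k) K := Module.finite_of_finrank_pos (hdeg ▸ two_pos)
  haveI : CharP k 2 := ringChar.of_eq h2
  haveI : CharP (RatFunc k) 2 := charP_of_injective_algebraMap (algebraMap k (RatFunc k)).injective 2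
  haveI : CharP K 2 := charP_of_injective_algebraMap (algebraMap k K).injective 2
  have hF := Groth.Agent.H23Hyp.isFunctionField_ratFunc k
  have h2K : (2 : K) = 0 := CharTwo.two_eq_zero
  have h2F : (2 : RatFunc k) = 0 := CharTwo.two_eq_zero
  -- a first generator
  obtain ⟨y₀, f₀, heq₀, hgen₀⟩ : ∃ (y : K) (f : RatFunc k), y ^ 2 + y = algebraMap (RatFunc k) K f ∧
      IntermediateField.adjoin (RatFunc k) ({y} : Set K) = ⊤ := by
    obtain ⟨z, hz⟩ := Field.exists_primitive_element (RatFunc k) K
    have hint : IsIntegral (RatFunc k) z := IsIntegral.of_finite _ z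
    have hd : (minpoly (RatFunc k) z).natDegree = 2 := by
      rw [← IntermediateField.adjoin.finrank hint, hz, IntermediateField.finrank_top', hdeg]
    have hsep : (minpoly (RatFunc k) z).Separable := Algebra.IsSeparable.isSeparable (RatFunc k) z
    set p := minpoly (RatFunc k) z
    have hp : p = Polynomial.X ^ 2 + Polynomial.C (p.coeff 1) * Polynomial.X + Polynomial.C (p.coeff 0) := by
      conv_lhs => rw [(show p.Monic from minpoly.monic hint).as_sum, hd]
      simp [Finset.sum_range_succ]
      ring
    have ha : p.coeff 1 ≠ 0 := by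
      intro ha
      have hder : Polynomial.derivative p = 0 := by
        rw [hp, ha]
        simp only [map_zero, zero_mul, add_zero, Polynomial.derivative_add, Polynomial.derivative_X_sq,
          Polynomial.derivative_C]
        rw [h2F, map_zero, zero_mul]
      rw [Polynomial.separable_def, hder, isCoprime_zero_right] at hsep
      exact (minpoly.irreducible hint).not_isUnit hsep
    have hz0 : Polynomial.aeval z p = 0 := minpoly.aeval _ _
    rw [hp] at hz0
    simp only [map_add, map_pow, map_mul, Polynomial.aeval_X, Polynomial.aeval_C] at hz0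
    set A := algebraMap (RatFunc k) K (p.coeff 1)
    have hA : A ≠ 0 := (map_ne_zero _).2 ha
    refine ⟨z / A, p.coeff 0 / p.coeff 1 ^ 2, ?_, ?_⟩
    · rw [map_div₀, map_pow, div_pow, div_add_div _ _ (pow_ne_zero 2 hA) hA,
        div_eq_div_iff (mul_ne_zero (pow_ne_zero 2 hA) hA) (pow_ne_zero 2 hA)]
      linear_combination A ^ 3 * hz0 - A ^ 3 * algebraMap (RatFunc k) K (p.coeff 0) * h2K
    · rw [eq_top_iff, ← hz, IntermediateField.adjoin_le_iff, Set.singleton_subset_iff]
      have h := mul_mem (IntermediateField.mem_adjoin_simple_self (RatFunc k) (z / A))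
        (IntermediateField.algebraMap_mem (IntermediateField.adjoin (RatFunc k) ({z / A} : Set K)) (p.coeff 1))
      rwa [div_mul_cancel₀ z hA] at h
  set S := (Groth.Agent.H23FunFld.finite_support_ord hF f₀).toFinset
  have key : ∀ N : ℕ, ∀ (y : K) (f : RatFunc k), y ^ 2 + y = algebraMap (RatFunc k) K f →
      IntermediateField.adjoin (RatFunc k) ({y} : Set K) = ⊤ →
      (∀ p : FunFld.Place k (RatFunc k), p.ord f < 0 → p ∈ S) →
      (∑ p ∈ S, (-p.ord f).toNat) ≤ N →
      ∃ (y : K) (f : RatFunc k), y ^ 2 + y = algebraMap (RatFunc k) K f ∧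
        IntermediateField.adjoin (RatFunc k) ({y} : Set K) = ⊤ ∧
        ∀ P : FunFld.Place k (RatFunc k), P.ord f < 0 → Odd (P.ord f) := by
    intro N
    induction N using Nat.strong_induction_on with
    | _ N ih =>
      intro y f heq hgen hS hN
      by_cases hgood : ∀ P : FunFld.Place k (RatFunc k), P.ord f < 0 → Odd (P.ord f)
      · exact ⟨y, f, heq, hgen, hgood⟩
      push Not at hgood
      obtain ⟨p, hp, hev⟩ := hgood
      obtain ⟨q, hq⟩ := (Int.not_odd_iff_even.1 hev)
      obtain ⟨m, hm⟩ : ∃ m : ℕ, q = -(m : ℤ) := ⟨(-q).toNat, by omega⟩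
      have hm0 : 0 < m := by omega
      have hf0 : f ≠ 0 := fun h => by rw [h, Groth.Agent.H23FunFld.ord_zero] at hp; exact lt_irrefl _ hp
      have hfv : p.1 f = exp (2 * (m : ℤ)) := by
        rw [Groth.Agent.H23FunFld.val_eq_exp p hf0, hq, hm]; congr 1; ring
      obtain ⟨t, ht0, ht⟩ := Groth.Agent.H23FunFld.exists_val_eq p (-1)
      haveI hfinres := Groth.Agent.H23FunFld.finiteDimensional_residueField hF p
      haveI : @Module.Finite k (IsLocalRing.ResidueField p.O) _ _ Algebra.toModule := hfinres
      haveI : Algebra.IsAlgebraic k (IsLocalRing.ResidueField p.O) := Algebra.IsAlgebraic.of_finite k _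
      haveI : PerfectField (IsLocalRing.ResidueField p.O) := Algebra.IsAlgebraic.perfectField k
      haveI : CharP (IsLocalRing.ResidueField p.O) 2 :=
        charP_of_injective_algebraMap (algebraMap k (IsLocalRing.ResidueField p.O)).injective 2
      haveI : ExpChar (IsLocalRing.ResidueField p.O) 2 := ExpChar.prime Nat.prime_two
      have hu : p.1 (f * t ^ (2 * m)) = 1 := by
        rw [map_mul, map_pow, hfv, ht, ← exp_nsmul, ← exp_add, ← exp_zero]
        congr 1; simp
      obtain ⟨r, hr⟩ := (PerfectRing.bijective_frobenius (p := 2)).surjective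
        (IsLocalRing.residue p.O ⟨f * t ^ (2 * m), hu.le⟩)
      obtain ⟨⟨w, hw⟩, rfl⟩ := IsLocalRing.residue_surjective r
      have hw' : p.1 w ≤ 1 := hw
      have hlead : p.1 (w ^ 2 - f * t ^ (2 * m)) < 1 := by
        have h0 : IsLocalRing.residue p.O ((⟨w, hw⟩ : p.O) ^ 2 - ⟨f * t ^ (2 * m), hu.le⟩) = 0 := by
          rw [map_sub, map_pow, ← hr]; exact sub_self _
        rw [IsLocalRing.residue_eq_zero_iff, ValuationSubring.valuation_lt_one_iff,
          ← p.1.isEquiv_valuation_valuationSubring.lt_one_iff_lt_one] at h0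
        exact h0
      -- the correcting function
      obtain ⟨g, hgsurj, hgker⟩ := Groth.Agent.H23FunFld.exists_ballMap p (m : ℤ)
      let D : ℤ → FunFld.Divisor k (RatFunc k) := fun j => Finsupp.single p j
      have hLball : FunFld.L (D m) ≤ Groth.Agent.H23FunFld.ball p (m : ℤ) := fun z hz => by
        have := Groth.Agent.H23FunFld.mem_L.1 hz p
        simp only [D, Finsupp.single_eq_same] at this
        exact this
      haveI := Groth.Agent.H23FunFld.finiteDimensional_L hF (D m)
      haveI := Groth.Agent.H23FunFld.finiteDimensional_L hF (D ((m : ℤ) - 1))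
      let g' := g.comp (Submodule.inclusion hLball)
      have hker : LinearMap.ker g' = (FunFld.L (D ((m : ℤ) - 1))).comap (FunFld.L (D m)).subtype := by
        ext z
        rw [LinearMap.mem_ker, LinearMap.comp_apply, hgker, Submodule.mem_comap, Groth.Agent.H23FunFld.mem_L]
        refine ⟨fun h Q => ?_, fun h => ?_⟩
        · rcases eq_or_ne Q p with rfl | hne
          · simpa [D] using h
          · have := Groth.Agent.H23FunFld.mem_L.1 z.2 Q
            simpa [D, Finsupp.single_eq_of_ne hne] using this
        · have := h p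
          simpa [D] using this
      have hle : FunFld.L (D ((m : ℤ) - 1)) ≤ FunFld.L (D m) :=
        Groth.Agent.H23FunFld.L_mono (Finsupp.single_mono (by omega))
      have hsurj : Function.Surjective g' := by
        rw [← LinearMap.range_eq_top]
        apply Submodule.eq_top_of_finrank_eq
        have h1 := g'.finrank_range_add_finrank_ker
        rw [hker, (Submodule.comapSubtypeEquivOfLe hle).finrank_eq] at h1
        change _ + FunFld.ell (D ((m : ℤ) - 1)) = FunFld.ell (D m) at h1
        have hd := Groth.Agent.H23FunFld.deg_pos hF p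
        have e1 := Groth.Agent.H23FunFld.ell_of_deg_large hF (D := D m) (by
          rw [Groth.Agent.H23Hyp.genus_ratFunc, Groth.Agent.H23FunFld.deg_single]; push_cast; nlinarith)
        have e2 := Groth.Agent.H23FunFld.ell_of_deg_large hF (D := D ((m : ℤ) - 1)) (by
          rw [Groth.Agent.H23Hyp.genus_ratFunc, Groth.Agent.H23FunFld.deg_single]; push_cast; nlinarith)
        rw [Groth.Agent.H23Hyp.genus_ratFunc, Groth.Agent.H23FunFld.deg_single] at e1 e2
        push_cast at e1 e2
        change Module.finrank k (LinearMap.range g') = p.deg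
        nlinarith
      have hwball : w / t ^ m ∈ Groth.Agent.H23FunFld.ball p (m : ℤ) := by
        rw [Groth.Agent.H23FunFld.mem_ball, map_div₀, map_pow, ht, ← exp_nsmul, div_eq_mul_inv, ← exp_neg]
        refine (mul_le_of_le_one_left zero_le hw').trans (le_of_eq ?_)
        congr 1; simp
      obtain ⟨⟨a, ha⟩, hga⟩ := hsurj (g ⟨_, hwball⟩)
      have hdiff : p.1 (a - w / t ^ m) ≤ exp ((m : ℤ) - 1) := by
        have : g (⟨a, hLball ha⟩ - ⟨_, hwball⟩) = 0 := by rw [map_sub, sub_eq_zero]; exact hga
        exact (hgker _).1 this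
      have haQ : ∀ Q : FunFld.Place k (RatFunc k), Q ≠ p → Q.1 a ≤ 1 := fun Q hne => by
        have := Groth.Agent.H23FunFld.mem_L.1 ha Q
        simpa [D, Finsupp.single_eq_of_ne hne] using this
      have hap : p.1 a ≤ exp (m : ℤ) := hLball ha
      set f' := f + a ^ 2 + a
      set y' := y + algebraMap (RatFunc k) K a
      have heq' : y' ^ 2 + y' = algebraMap (RatFunc k) K f' := by
        simp only [y', f', map_add, map_pow, ← heq]
        linear_combination (y * algebraMap (RatFunc k) K a) * h2K
      have hgen' : IntermediateField.adjoin (RatFunc k) ({y'} : Set K) = ⊤ := by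
        rw [eq_top_iff, ← hgen, IntermediateField.adjoin_le_iff, Set.singleton_subset_iff]
        have h := sub_mem (IntermediateField.mem_adjoin_simple_self (RatFunc k) y')
          (IntermediateField.algebraMap_mem (IntermediateField.adjoin (RatFunc k) ({y'} : Set K)) a)
        simpa [y'] using h
      have hQ : ∀ Q : FunFld.Place k (RatFunc k), Q ≠ p → (-Q.ord f').toNat ≤ (-Q.ord f).toNat := by
        intro Q hne
        rcases eq_or_ne f' 0 with h0 | h0
        · simp [h0, Groth.Agent.H23FunFld.ord_zero]
        have h1 : Q.1 f' ≤ max (Q.1 f) 1 := by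
          refine (Q.1.map_add _ _).trans (max_le ((Q.1.map_add _ _).trans (max_le (le_max_left _ _) ?_)) ?_)
          · rw [map_pow]; exact (pow_le_one' (haQ Q hne) 2).trans (le_max_right _ _)
          · exact (haQ Q hne).trans (le_max_right _ _)
        rw [Groth.Agent.H23FunFld.val_eq_exp Q h0, Groth.Agent.H23FunFld.val_eq_exp Q hf0, ← exp_zero] at h1
        rcases le_max_iff.1 h1 with h | h <;> rw [exp_le_exp] at h <;> omega
      have hplt : p.1 f' < exp (2 * (m : ℤ)) := by
        have ha2 : p.1 a < exp (2 * (m : ℤ)) := hap.trans_lt (exp_lt_exp.2 (by omega))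
        have e : f' = (a - w / t ^ m) ^ 2 + (w ^ 2 - f * t ^ (2 * m)) / t ^ (2 * m) + a := by
          have htm : t ^ m ≠ 0 := pow_ne_zero _ ht0
          simp only [f', mul_comm 2 m, pow_mul]
          field_simp
          linear_combination (a * w * t ^ m + f * (t ^ m) ^ 2 - w ^ 2) * h2F
        rw [e]
        refine (p.1.map_add _ _).trans_lt (max_lt ((p.1.map_add _ _).trans_lt (max_lt ?_ ?_)) ha2)
        · rw [map_pow]
          refine (pow_le_pow_left' hdiff 2).trans_lt ?_
          rw [← exp_nsmul, exp_lt_exp, nsmul_eq_mul]; push_cast; omega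
        · rw [map_div₀, map_pow, ht, ← exp_nsmul, div_eq_mul_inv, ← exp_neg]
          refine lt_of_lt_of_le (mul_lt_mul_of_pos_right hlead (zero_lt_iff.2 exp_ne_zero)) ?_
          rw [one_mul, exp_le_exp, nsmul_eq_mul]; push_cast; omega
      have hplt' : (-p.ord f').toNat < (-p.ord f).toNat := by
        have hpf : -p.ord f = 2 * (m : ℤ) := by rw [hq, hm]; ring
        rcases eq_or_ne f' 0 with h0 | h0
        · rw [h0, Groth.Agent.H23FunFld.ord_zero, hpf]; omega
        · rw [Groth.Agent.H23FunFld.val_eq_exp p h0, exp_lt_exp] at hplt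
          omega
      have hS' : ∀ Q : FunFld.Place k (RatFunc k), Q.ord f' < 0 → Q ∈ S := fun Q hQneg => by
        rcases eq_or_ne Q p with rfl | hne
        · exact hS _ hp
        · exact hS Q (by have := hQ Q hne; omega)
      have hsum : ∑ Q ∈ S, (-Q.ord f').toNat < ∑ Q ∈ S, (-Q.ord f).toNat :=
        Finset.sum_lt_sum (fun Q _ => by
          rcases eq_or_ne Q p with rfl | hne
          · exact hplt'.le
          · exact hQ Q hne) ⟨p, hS p hp, hplt'⟩
      exact ih _ (hsum.trans_le hN) y' f' heq' hgen' hS' le_rfl
  exact key _ y₀ f₀ heq₀ hgen₀ (fun p hp => (Set.Finite.mem_toFinset _).2 (by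
    simp only [Function.mem_support]; omega)) le_rfl

end Groth.Agent.S12518
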