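import Groth.Statements.S12519
import Mathlib
import Groth.Agent.H23Hyp.Char2

set_option autoImplicit false
open FunFld

namespace Groth.Agent.S12519

/-- Let `k` be perfect of characteristic `2`, `K` separable of degree `2` over `k(x)`, and `y ∈ K \
k(x)` with `y² + y = f(x)`. At a place `p` of `k(x)/k` where `f` has a pole of odd order there is a
unique place `P` of `K` above `p`, with `e(P|p) = 2` and `deg P = deg p` (residue degree `1`); at a
place where `f` has no pole, every place of `K` above it is unramified. The different is not stated. -/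
theorem result (k K : Type*) [Field k] [Field K] [PerfectField k] (h2 : ringChar k = 2)
    [Algebra k K] [Algebra (RatFunc k) K] [IsScalarTower k (RatFunc k) K]
    (hdeg : Module.finrank (RatFunc k) K = 2) [Algebra.IsSeparable (RatFunc k) K]
    (y : K) (hy : y ∉ Set.range (algebraMap (RatFunc k) K))
    (f : RatFunc k) (heq : y ^ 2 + y = algebraMap (RatFunc k) K f)
    (P₀ : FunFld.Place k (RatFunc k)) :
    ((P₀.ord f < 0 ∧ Odd (P₀.ord f)) → (∃! P : FunFld.Place k K, FunFld.IsOver P P₀) ∧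
      ∀ P : FunFld.Place k K, FunFld.IsOver P P₀ → FunFld.IsOverWith P P₀ 2 ∧ P.deg = P₀.deg) ∧
    (0 ≤ P₀.ord f → ∀ P : FunFld.Place k K, FunFld.IsOver P P₀ → FunFld.IsOverWith P P₀ 1) := by
  haveI : FiniteDimensional (RatFunc k) K := Module.finite_of_finrank_pos (hdeg ▸ two_pos)
  haveI : CharP k 2 := ringChar.of_eq h2
  haveI : CharP K 2 := charP_of_injective_algebraMap (algebraMap k K).injective 2
  have hF := Groth.Agent.H23Hyp.isFunctionField_ratFunc k
  refine ⟨fun ⟨hp, hodd⟩ => ?_, fun hp P hP => ?_⟩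
  · have key : ∀ P : FunFld.Place k K, FunFld.IsOver P P₀ → FunFld.IsOverWith P P₀ 2 ∧ P.deg = P₀.deg ∧
        ∀ R : FunFld.Place k K, FunFld.IsOver R P₀ → R = P := fun P ⟨e, he⟩ => by
      obtain ⟨rfl, -⟩ := Groth.Agent.H23Hyp.as_pole hy heq he hp hodd hF hdeg
      exact ⟨he, (Groth.Agent.H23Hyp.ram_le_two hF he hdeg).2 rfl⟩
    refine ⟨?_, fun P hP => ⟨(key P hP).1, (key P hP).2.1⟩⟩
    obtain ⟨P, hP⟩ := Groth.Agent.H23Ext.exists_above (K' := K) hF P₀
    exact ⟨P, hP, fun R hR => (key P hP).2.2 R hR⟩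
  · obtain ⟨e, he⟩ := hP
    have hf : P₀.1 f ≤ 1 := by
      rcases eq_or_ne f 0 with rfl | hf0
      · simp
      · exact (Groth.Agent.H23FunFld.val_le_one_iff P₀ hf0).2 hp
    obtain ⟨rfl, -⟩ := Groth.Agent.H23Hyp.as_unram hy heq he hf hF hdeg
    exact he

end Groth.Agent.S12519
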