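import Groth.Statements.S12520
import Groth.Agent.H23Geom.Separating

set_option autoImplicit false
universe u v
open FunFld

namespace Groth.Agent.S12520

/-- For a geometric function field of one variable `K/k` of characteristic `p > 0` and a geometric
function field `K₀/k₀` with `K₀ ⊆ K` of finite index (and `k₀ ⊆ k` compatibly), the map `Ω_{K₀/k₀} →
Ω_{K/k}` induced by the inclusion vanishes when `K₀ ⊆ kK^p` and is injective otherwise. -/
theorem result (k₀ k : Type u) (K₀ K : Type v) [Field k₀] [Field k] [Field K₀] [Field K]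
    [Algebra k₀ k] [Algebra k₀ K₀] [Algebra k₀ K] [Algebra k K] [Algebra K₀ K]
    [IsScalarTower k₀ k K] [IsScalarTower k₀ K₀ K] [FiniteDimensional K₀ K]
    (p : ℕ) [Fact p.Prime] [CharP K p]
    (hK : FunFld.IsFunctionField k K) (hg : FunFld.IsGeometric k K)
    (hK₀ : FunFld.IsFunctionField k₀ K₀) (hg₀ : FunFld.IsGeometric k₀ K₀) :
    (Set.range (algebraMap K₀ K) ⊆ ↑(IntermediateField.adjoin k (Set.range fun y : K => y ^ p)) →
      KaehlerDifferential.map k₀ k K₀ K = 0) ∧
    (¬ Set.range (algebraMap K₀ K) ⊆ ↑(IntermediateField.adjoin k (Set.range fun y : K => y ^ p)) →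
      Function.Injective (KaehlerDifferential.map k₀ k K₀ K)) := by
  classical
  obtain ⟨x, -, hsep⟩ := Groth.Agent.H23Geom.exists_separating hK hg
  refine ⟨fun hsub => ?_, fun hnot => ?_⟩
  · refine LinearMap.ext fun w => ?_
    have hw : w ∈ Submodule.span K₀ (Set.range (KaehlerDifferential.D k₀ K₀)) := by
      rw [KaehlerDifferential.span_range_derivation]; trivial
    rw [LinearMap.zero_apply]
    induction hw using Submodule.span_induction with
    | mem w hw =>
      obtain ⟨a, rfl⟩ := hw
      rw [KaehlerDifferential.map_D]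
      exact Groth.Agent.H23Geom.D_eq_zero p (hsub ⟨a, rfl⟩)
    | zero => exact map_zero _
    | add a b _ _ ha hb => rw [map_add, ha, hb, add_zero]
    | smul c a _ ha => rw [map_smul, ha, smul_zero]
  · obtain ⟨_, ⟨a, rfl⟩, ha⟩ := Set.not_subset.1 hnot
    have hD : KaehlerDifferential.D k K (algebraMap K₀ K a) ≠ 0 := fun h =>
      ha (Groth.Agent.H23Geom.mem_M_of_D_eq_zero p hK x h)
    have ha0 : KaehlerDifferential.D k₀ K₀ a ≠ 0 := fun h => hD (by
      rw [← KaehlerDifferential.map_D k₀ k K₀ K a, h, map_zero])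
    rw [← LinearMap.ker_eq_bot, eq_bot_iff]
    intro w hw
    obtain ⟨c, rfl⟩ := (finrank_eq_one_iff_of_nonzero' _ ha0).1 (Groth.Agent.H23Geom.finrank_kaehler hK₀ hg₀) w
    rw [LinearMap.mem_ker, map_smul, KaehlerDifferential.map_D,
      ← algebraMap_smul K c (KaehlerDifferential.D k K (algebraMap K₀ K a)), smul_eq_zero, _root_.map_eq_zero] at hw
    rcases hw with hw | hw
    · rw [hw, zero_smul]; exact zero_mem _
    · exact absurd hw hD

end Groth.Agent.S12520
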