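import Groth.Statements.S12526
import Groth.Agent.H23Geom.ConstIntApp

set_option autoImplicit false
universe u v
open FunFld

namespace Groth.Agent.S12526

/-- Let `K/k` be a geometric function field of one variable, `P` a place of `K`, `k'/k` finite and `K' =
k' ⊗_k K`; let `R` be the integral closure of `O_P` in `K'` and `R̃ = k' ⊗_k O_P = O_P[k']`. Then
`R/R̃` is finite-dimensional over `k`, and `R̃` contains a nonzero ideal of `R`. -/
theorem result (k k' : Type u) (K K' : Type v) [Field k] [Field k'] [Field K] [Field K']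
    [Algebra k k'] [FiniteDimensional k k'] [Algebra k K] [Algebra K K'] [Algebra k' K'] [Algebra k K']
    [IsScalarTower k k' K'] [IsScalarTower k K K']
    (h : Function.Bijective (Algebra.TensorProduct.productMap
      (IsScalarTower.toAlgHom k k' K') (IsScalarTower.toAlgHom k K K')))
    (hK : FunFld.IsFunctionField k K) (hg : FunFld.IsGeometric k K)
    (P : FunFld.Place k K) [Algebra P.O K'] [IsScalarTower P.O K K'] :
    (∃ V : Submodule k K', FiniteDimensional k V ∧ ∀ r ∈ integralClosure P.O K',
        ∃ s ∈ Algebra.adjoin P.O (Set.range (algebraMap k' K')), r - s ∈ V) ∧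
    (∃ c ∈ integralClosure P.O K', c ≠ 0 ∧ ∀ r ∈ integralClosure P.O K',
        c * r ∈ Algebra.adjoin P.O (Set.range (algebraMap k' K'))) := by
  classical
  open Groth.Agent.H23FunFld Groth.Agent.H23Ext Groth.Agent.H23Geom in
  haveI := Groth.Agent.H23Geom.finiteDimensional_ext' h
  haveI : IsScalarTower k P.O K' := IsScalarTower.of_algebraMap_eq fun c => by
    rw [IsScalarTower.algebraMap_apply P.O K K', IsScalarTower.algebraMap_apply k K K']
    rfl
  set A := Algebra.adjoin P.O (Set.range (algebraMap k' K'))
  obtain ⟨π, hπ⟩ := Groth.Agent.H23Geom.exists_unif P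
  have hπ0 : (π : K) ≠ 0 := fun h0 => by rw [h0, map_zero] at hπ; exact WithZero.exp_ne_zero hπ.symm
  have halg : ∀ a : P.O, algebraMap P.O K' a = algebraMap K K' (a : K) := fun a => IsScalarTower.algebraMap_apply P.O K K' a
  -- powers of `π` push everything into `A`
  have hscale : ∀ z : K', ∃ n : ℕ, algebraMap P.O K' (π ^ n) * z ∈ A := by
    intro z
    obtain ⟨w, rfl⟩ := (Groth.Agent.H23Geom.productMap_swap h).2 z
    induction w using TensorProduct.induction_on with
    | zero => exact ⟨0, by simp⟩
    | tmul a l =>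
      obtain ⟨n, hn⟩ := Groth.Agent.H23FunFld.exists_exp_neg_nat_bound (-(WithZero.log (P.1 a)))
      refine ⟨n, ?_⟩
      have hmem : (π : K) ^ n * a ∈ P.O := by
        change P.1 _ ≤ 1
        rcases eq_or_ne (P.1 a) 0 with h0 | h0
        · rw [map_mul, h0, mul_zero]; exact zero_le
        rw [map_mul, map_pow, hπ, ← WithZero.exp_log h0, ← WithZero.exp_nsmul]
        refine (mul_le_mul' (le_of_eq_of_le ?_ (hn n le_rfl)) le_rfl).trans ?_
        · congr 1; simp
        · rw [← WithZero.exp_add]; simp
      simp only [Algebra.TensorProduct.productMap_apply_tmul, IsScalarTower.coe_toAlgHom']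
      rw [← mul_assoc, halg, ← map_mul, show ((π ^ n : P.O) : K) * a = ((⟨_, hmem⟩ : P.O) : K) from rfl, ← halg]
      exact mul_mem (A.algebraMap_mem _) (Algebra.subset_adjoin ⟨l, rfl⟩)
    | add a b ha hb =>
      obtain ⟨m, hm⟩ := ha
      obtain ⟨n, hn⟩ := hb
      refine ⟨m + n, ?_⟩
      rw [map_add, mul_add]
      refine add_mem ?_ ?_
      · rw [add_comm m n, pow_add, map_mul, mul_assoc]; exact mul_mem (A.algebraMap_mem _) hm
      · rw [pow_add, map_mul, mul_assoc]; exact mul_mem (A.algebraMap_mem _) hn
  haveI := Groth.Agent.H23Ext.finite_integralClosure (K' := K') hK P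
  obtain ⟨G, hG⟩ := Module.Finite.fg_top (R := P.O) (M := integralClosure P.O K')
  choose ng hng using fun g : integralClosure P.O K' => hscale (g : K')
  set N := G.sup ng
  have hN : ∀ g ∈ G, algebraMap P.O K' (π ^ N) * (g : K') ∈ A := by
    intro g hg
    obtain ⟨d, hd⟩ := Nat.exists_eq_add_of_le (Finset.le_sup (f := ng) hg)
    rw [show N = d + ng g by omega, pow_add, map_mul, mul_assoc]
    exact mul_mem (A.algebraMap_mem _) (hng g)
  have hcond : ∀ r ∈ integralClosure P.O K', algebraMap P.O K' (π ^ N) * r ∈ A := by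
    intro r hr
    have hmem : (⟨r, hr⟩ : integralClosure P.O K') ∈ Submodule.span P.O (G : Set (integralClosure P.O K')) := by
      rw [hG]; trivial
    suffices key : ∀ s ∈ Submodule.span P.O (G : Set (integralClosure P.O K')), algebraMap P.O K' (π ^ N) * (s : K') ∈ A from
      key _ hmem
    intro s hs
    induction hs using Submodule.span_induction with
    | mem g hg => exact hN g hg
    | zero => simp
    | add a b _ _ ha hb =>
      rw [Subalgebra.coe_add, mul_add]; exact add_mem ha hb
    | smul c a _ ha =>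
      rw [Subalgebra.coe_smul, Algebra.smul_def, mul_left_comm]
      exact mul_mem (A.algebraMap_mem c) ha
  have hπN : (π : P.O) ^ N ≠ 0 := pow_ne_zero _ fun h0 => hπ0 (congrArg Subtype.val h0)
  refine ⟨?_, algebraMap P.O K' (π ^ N), (integralClosure P.O K').algebraMap_mem _, ?_, hcond⟩
  · obtain ⟨hfd, -⟩ := Groth.Agent.H23Ext.finrank_quotient_span hK P hπN
    obtain ⟨T, hT⟩ := Module.Finite.fg_top (R := k) (M := P.O ⧸ Ideal.span ({(π : P.O) ^ N} : Set P.O))
    choose lift hlift using fun v : P.O ⧸ Ideal.span ({(π : P.O) ^ N} : Set P.O) => Ideal.Quotient.mk_surjective v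
    set L : Submodule k P.O := Submodule.span k (lift '' (T : Set (P.O ⧸ Ideal.span ({(π : P.O) ^ N} : Set P.O))))
    have hL : ∀ c : P.O, ∃ u ∈ L, ∃ d : P.O, c = u + π ^ N * d := by
      intro c
      have hc : Ideal.Quotient.mk (Ideal.span ({(π : P.O) ^ N} : Set P.O)) c ∈
          L.map (Ideal.Quotient.mkₐ k (Ideal.span ({(π : P.O) ^ N} : Set P.O))).toLinearMap := by
        rw [Submodule.map_span, ← Set.image_comp]
        have : (Ideal.Quotient.mkₐ k (Ideal.span ({(π : P.O) ^ N} : Set P.O))).toLinearMap ∘ lift = _root_.id :=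
          funext hlift
        rw [this, Set.image_id, hT]
        trivial
      obtain ⟨u, hu, huc⟩ := hc
      have h1 : c - u ∈ Ideal.span ({(π : P.O) ^ N} : Set P.O) :=
        Ideal.Quotient.eq.1 huc.symm
      obtain ⟨d, hd⟩ := Ideal.mem_span_singleton'.1 h1
      exact ⟨u, hu, d, by rw [mul_comm, hd]; ring⟩
    let V : Submodule k K' := Submodule.span k
      ((fun ug : P.O × integralClosure P.O K' => algebraMap P.O K' ug.1 * (ug.2 : K')) ''
        (↑((T.image lift) ×ˢ G) : Set (P.O × integralClosure P.O K')))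
    haveI : FiniteDimensional k V := FiniteDimensional.span_of_finite k (Finset.finite_toSet _ |>.image _)
    refine ⟨V, inferInstance, fun r hr => ?_⟩
    have hmem : (⟨r, hr⟩ : integralClosure P.O K') ∈ Submodule.span P.O (G : Set (integralClosure P.O K')) := by
      rw [hG]; trivial
    suffices key : ∀ s ∈ Submodule.span P.O (G : Set (integralClosure P.O K')), ∀ c : P.O,
        ∃ a ∈ A, algebraMap P.O K' c * (s : K') - a ∈ V by
      obtain ⟨a, ha, hV⟩ := key _ hmem 1
      exact ⟨a, ha, by simpa using hV⟩
    intro s hs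
    induction hs using Submodule.span_induction with
    | mem g hg =>
      intro c
      obtain ⟨u, hu, d, rfl⟩ := hL c
      refine ⟨algebraMap P.O K' d * (algebraMap P.O K' (π ^ N) * (g : K')), mul_mem (A.algebraMap_mem _) (hN g hg), ?_⟩
      rw [show algebraMap P.O K' (u + π ^ N * d) * (g : K') - algebraMap P.O K' d * (algebraMap P.O K' (π ^ N) * (g : K'))
        = algebraMap P.O K' u * (g : K') by rw [map_add, map_mul]; ring]
      induction hu using Submodule.span_induction with
      | mem v hv =>
        obtain ⟨v, hv, rfl⟩ := hv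
        exact Submodule.subset_span ⟨(lift v, g), by simp [Finset.mem_image]; exact ⟨⟨v, hv, rfl⟩, hg⟩, rfl⟩
      | zero => simp
      | add a b _ _ ha hb => rw [map_add, add_mul]; exact add_mem ha hb
      | smul c' a _ ha =>
        rw [Algebra.smul_def, map_mul, ← IsScalarTower.algebraMap_apply, mul_assoc, ← Algebra.smul_def]
        exact V.smul_mem _ ha
    | zero => exact fun c => ⟨0, zero_mem _, by simp⟩
    | add a b _ _ ha hb =>
      intro c
      obtain ⟨x, hx, hx'⟩ := ha c
      obtain ⟨y, hy, hy'⟩ := hb c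
      refine ⟨x + y, add_mem hx hy, ?_⟩
      rw [Subalgebra.coe_add, show algebraMap P.O K' c * ((a : K') + b) - (x + y) =
        (algebraMap P.O K' c * (a : K') - x) + (algebraMap P.O K' c * (b : K') - y) by ring]
      exact add_mem hx' hy'
    | smul c' a _ ha =>
      intro c
      obtain ⟨x, hx, hx'⟩ := ha (c * c')
      refine ⟨x, hx, ?_⟩
      rwa [Subalgebra.coe_smul, Algebra.smul_def, ← mul_assoc, ← map_mul]
  · rw [halg]
    exact (_root_.map_ne_zero _).2 fun h0 => hπN (Subtype.ext h0)

end Groth.Agent.S12526
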