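import Groth.Statements.S12527
import Groth.Agent.H23Geom.Singular

set_option autoImplicit false
universe u v
open scoped TensorProduct
open FunFld

namespace Groth.Agent.S12527

/-- from the closure statement to the statement on integral closures -/
theorem regular_of_closure {k K L K' : Type*} [Field k] [Field K] [Field L] [Field K'] [Algebra k K]
    [Algebra k L] [FiniteDimensional k L] [Algebra K K'] [Algebra k K'] [IsScalarTower k K K']
    [FiniteDimensional K K'] (P : FunFld.Place k K) (j : L →ₐ[k] K')
    (h : ∀ z : K', (∀ Q : FunFld.Place k K', FunFld.IsOver Q P → Q.1 z ≤ 1) →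
      z ∈ Subring.closure (algebraMap K K' '' (P.O : Set K) ∪ Set.range j)) :
    integralClosure (P.O.toSubring.map (algebraMap K K')) K' =
      Algebra.adjoin (P.O.toSubring.map (algebraMap K K')) (Set.range j) := by
  set S := P.O.toSubring.map (algebraMap K K')
  refine le_antisymm (fun z hz => ?_) (Algebra.adjoin_le ?_)
  · have hz' : ∀ Q : FunFld.Place k K', FunFld.IsOver Q P → Q.1 z ≤ 1 := by
      intro Q hQ
      obtain ⟨p, hm, hp⟩ := (show IsIntegral S z from hz)
      letI : Algebra P.O K' := ((algebraMap K K').comp P.O.subtype).toAlgebra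
      haveI : IsScalarTower P.O K K' := IsScalarTower.of_algebraMap_eq fun _ => rfl
      let ψ : P.O →+* S :=
        ((algebraMap K K').comp P.O.subtype).codRestrict S fun c => ⟨c, c.2, rfl⟩
      have hψ : Function.Surjective ψ := by
        rintro ⟨_, c, hc, rfl⟩
        exact ⟨⟨c, hc⟩, rfl⟩
      obtain ⟨q, hq, -, hqm⟩ := Polynomial.lifts_and_degree_eq_and_monic
        (Polynomial.lifts_iff_coeff_lifts (f := ψ) p |>.2 fun n => hψ _) hm
      have hint : IsIntegral P.O z := ⟨q, hqm, by
        rw [← hq, Polynomial.eval₂_map] at hp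
        exact hp⟩
      haveI : IsScalarTower k P.O K' := IsScalarTower.of_algebraMap_eq fun c =>
        IsScalarTower.algebraMap_apply k K K' c
      exact Groth.Agent.H23Ext.val_le_one_of_integral P hQ hint
    have hmem := h z hz'
    refine (Subring.closure_le (t := (Algebra.adjoin S (Set.range j)).toSubring)).2 ?_ hmem
    rintro w (⟨c, hc, rfl⟩ | hw)
    · exact (Algebra.adjoin S (Set.range j)).algebraMap_mem ⟨_, c, hc, rfl⟩
    · exact Algebra.subset_adjoin hw
  · rintro _ ⟨l, rfl⟩
    obtain ⟨p, hm, hp⟩ := (IsIntegral.of_finite k l)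
    let κ : k →+* S := (algebraMap k K').codRestrict S fun c =>
      ⟨algebraMap k K c, P.2.1 c, (IsScalarTower.algebraMap_apply k K K' c).symm⟩
    refine ⟨p.map κ, hm.map κ, ?_⟩
    rw [Polynomial.eval₂_map, show (algebraMap S K').comp κ = j.toRingHom.comp (algebraMap k L) from
      RingHom.ext fun c => (j.commutes c).symm]
    change Polynomial.eval₂ (j.toRingHom.comp (algebraMap k L)) (j.toRingHom l) p = 0
    rw [← Polynomial.hom_eval₂, hp, map_zero]


/-- A geometric function field of one variable `K/k` has at most finitely many singular places, i.e.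
places `P` for which, for some finite extension `k'/k`, the integral closure of `O_P` in `k' ⊗_k K`
is strictly larger than `k' ⊗_k O_P`. The existence of a purely inseparable finite `k'` making `k'
⊗_k K` nonsingular is not stated. -/
theorem result (k : Type u) (K : Type v) [Field k] [Field K] [Algebra k K]
    (hK : FunFld.IsFunctionField k K) (hg : FunFld.IsGeometric k K) :
    {P : FunFld.Place k K | ∃ (k' : Type u) (_ : Field k') (_ : Algebra k k'), FiniteDimensional k k' ∧
      integralClosure (P.O.toSubring.map (Algebra.TensorProduct.includeRight : K →ₐ[k] k' ⊗[k] K).toRingHom) (k' ⊗[k] K) ≠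
        Algebra.adjoin (P.O.toSubring.map (Algebra.TensorProduct.includeRight : K →ₐ[k] k' ⊗[k] K).toRingHom)
          (Set.range (Algebra.TensorProduct.includeLeftRingHom : k' →+* k' ⊗[k] K))}.Finite := by
  classical
  obtain ⟨T, hT, hT'⟩ := Groth.Agent.H23Geom.exists_regular hK hg
  refine hT.subset fun P hP => ?_
  by_contra hPT
  obtain ⟨k', fk', ak', hfin, hne⟩ := hP
  apply hne
  letI : Field (k' ⊗[k] K) := (hg k' hfin).toField
  letI algK : Algebra K (k' ⊗[k] K) :=
    (Algebra.TensorProduct.includeRight : K →ₐ[k] k' ⊗[k] K).toRingHom.toAlgebra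
  haveI : IsScalarTower k K (k' ⊗[k] K) := IsScalarTower.of_algebraMap_eq fun c =>
    ((Algebra.TensorProduct.includeRight : K →ₐ[k] k' ⊗[k] K).commutes c).symm
  let j : k' →ₐ[k] k' ⊗[k] K := Algebra.TensorProduct.includeLeft
  have hsurj : ∀ z : k' ⊗[k] K,
      z ∈ (Algebra.TensorProduct.productMap (IsScalarTower.toAlgHom k K (k' ⊗[k] K)) j).range := by
    intro z
    induction z using TensorProduct.induction_on with
    | zero => exact zero_mem _
    | tmul a c =>
      refine ⟨c ⊗ₜ a, ?_⟩
      change Algebra.TensorProduct.productMap _ j (c ⊗ₜ a) = _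
      rw [Algebra.TensorProduct.productMap_apply_tmul]
      change ((1 : k') ⊗ₜ[k] c) * (a ⊗ₜ[k] (1 : K)) = a ⊗ₜ[k] c
      rw [Algebra.TensorProduct.tmul_mul_tmul, one_mul, mul_one]
    | add a b ha hb => exact add_mem ha hb
  haveI : FiniteDimensional K (k' ⊗[k] K) := by
    let f : K ⊗[k] k' →ₐ[K] (k' ⊗[k] K) :=
      Algebra.TensorProduct.lift (Algebra.ofId K (k' ⊗[k] K)) j (fun _ _ => Commute.all _ _)
    refine Module.Finite.of_surjective f.toLinearMap fun z => ?_
    induction z using TensorProduct.induction_on with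
    | zero => exact ⟨0, map_zero _⟩
    | tmul a c =>
      refine ⟨c ⊗ₜ a, ?_⟩
      change f (c ⊗ₜ a) = _
      rw [Algebra.TensorProduct.lift_tmul]
      change ((1 : k') ⊗ₜ[k] c) * (a ⊗ₜ[k] (1 : K)) = a ⊗ₜ[k] c
      rw [Algebra.TensorProduct.tmul_mul_tmul, one_mul, mul_one]
    | add a b ha hb =>
      obtain ⟨s, hs⟩ := ha
      obtain ⟨t, ht⟩ := hb
      exact ⟨s + t, by rw [map_add, hs, ht]⟩
  exact regular_of_closure P j (hT' P hPT k' (k' ⊗[k] K) j hsurj)

end Groth.Agent.S12527
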