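import Groth.Statements.S12534
import Groth.Agent.H23Geom.Tower

set_option autoImplicit false
universe u v
open FunFld

namespace Groth.Agent.S12534

open Groth.Agent.H23Geom Groth.Agent.H23Ext

theorem integral_push {A L M : Type*} [CommRing A] [CommRing L] [CommRing M] (f : A →+* L)
    (g : L →+* M) (O : Subring A) {φ : A →+* M} (hφ : φ = g.comp f) {z : L}
    (hz : IsIntegral (O.map f) z) : IsIntegral (O.map φ) (g z) := by
  obtain ⟨q, hqm, hq⟩ := hz
  let ι : O.map f →+* O.map φ := (g.comp (Subring.subtype _)).codRestrict _ fun b => by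
    obtain ⟨_, d, hd, rfl⟩ := b
    exact ⟨d, hd, by rw [hφ]; rfl⟩
  refine ⟨q.map ι, hqm.map _, ?_⟩
  rw [Polynomial.eval₂_map, show (algebraMap (O.map φ) M).comp ι = g.comp (algebraMap (O.map f) L) from rfl,
    ← Polynomial.hom_eval₂, hq, map_zero]

theorem mem_closure_image {A L M : Type*} [CommRing A] [CommRing L] [CommRing M] (φ : A →+* M)
    (g : L →+* M) (O : Subring A) (R : Subring L) (hO : ∀ c ∈ O, φ c ∈ g '' (R : Set L))
    {X : Set M} {w : M} (hw : w ∈ Algebra.adjoin (O.map φ) X) :
    w ∈ Subring.closure (g '' (R : Set L) ∪ X) := by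
  induction hw using Algebra.adjoin_induction with
  | mem a ha => exact Subring.subset_closure (Or.inr ha)
  | algebraMap c =>
    obtain ⟨_, d, hd, rfl⟩ := c
    exact Subring.subset_closure (Or.inl (hO d hd))
  | add a b _ _ ha hb => exact add_mem ha hb
  | mul a b _ _ ha hb => exact mul_mem ha hb

theorem push_adjoin {A L M : Type*} [CommRing A] [CommRing L] [CommRing M] (f : A →+* L)
    (g : L →+* M) (O : Subring A) {φ : A →+* M} (hφ : φ = g.comp f) {ι : Type*} {x : ι → L}
    {X : Set M} (hX : ∀ i, g (x i) ∈ Algebra.adjoin (O.map φ) X) {w : L}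
    (hw : w ∈ Algebra.adjoin (O.map f) (Set.range x)) : g w ∈ Algebra.adjoin (O.map φ) X := by
  induction hw using Algebra.adjoin_induction with
  | mem a ha => obtain ⟨i, rfl⟩ := ha; exact hX i
  | algebraMap c =>
    obtain ⟨_, d, hd, rfl⟩ := c
    exact Subalgebra.algebraMap_mem _ (⟨_, d, hd, by rw [hφ]; rfl⟩ : O.map φ)
  | add a b _ _ ha hb => rw [map_add]; exact add_mem ha hb
  | mul a b _ _ ha hb => rw [map_mul]; exact mul_mem ha hb

theorem adjoin_le_integral {k l A M : Type*} [Field k] [Field l] [Algebra k l] [FiniteDimensional k l]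
    [CommRing A] [CommRing M] [Algebra k A] [Algebra k M] [Algebra l M] [IsScalarTower k l M]
    (φ : A →+* M) (O : Subring A) (hk : ∀ c : k, algebraMap k A c ∈ O)
    (hφ : ∀ c : k, φ (algebraMap k A c) = algebraMap k M c) :
    Algebra.adjoin (O.map φ) (Set.range (algebraMap l M)) ≤ integralClosure (O.map φ) M := by
  refine Algebra.adjoin_le ?_
  rintro _ ⟨c, rfl⟩
  obtain ⟨p, hm, hp⟩ := IsIntegral.of_finite k c
  let κ : k →+* O.map φ := (algebraMap k M).codRestrict _ fun e => ⟨_, hk e, hφ e⟩
  refine ⟨p.map κ, hm.map κ, ?_⟩
  rw [Polynomial.eval₂_map, show (algebraMap (O.map φ) M).comp κ =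
    (algebraMap l M).comp (algebraMap k l) from RingHom.ext fun e => IsScalarTower.algebraMap_apply k l M e,
    ← Polynomial.hom_eval₂, hp, map_zero]


/-- Let `K/k` be a geometric function field of one variable, `P` a place of `K`, and `k ⊆ k' ⊆ k''`
finite extensions, `K' = k' ⊗_k K`, `K'' = k'' ⊗_{k'} K'`. Then `P` is nonsingular with respect to
`k''` if and only if `P` is nonsingular with respect to `k'` and every place `Q` of `K'` above `P`
is nonsingular with respect to `k''`. Here 'nonsingular with respect to `k'`' means that the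
integral closure of the valuation ring in `K'` is the ring generated over it by `k'`, both taken
inside `K'` over the image of the valuation ring. -/
theorem result (k k' k'' : Type u) (K K' K'' : Type v) [Field k] [Field k'] [Field k''] [Field K] [Field K'] [Field K'']
    [Algebra k k'] [Algebra k' k''] [Algebra k k''] [IsScalarTower k k' k'']
    [FiniteDimensional k k'] [FiniteDimensional k' k'']
    [Algebra k K] [Algebra K K'] [Algebra k' K'] [Algebra k K'] [IsScalarTower k k' K'] [IsScalarTower k K K']
    [Algebra K' K''] [Algebra k'' K''] [Algebra k' K''] [Algebra k K''] [Algebra K K'']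
    [IsScalarTower k' k'' K''] [IsScalarTower k' K' K''] [IsScalarTower K K' K''] [IsScalarTower k K K'']
    (h1 : Function.Bijective (Algebra.TensorProduct.productMap
      (IsScalarTower.toAlgHom k k' K') (IsScalarTower.toAlgHom k K K')))
    (h2 : Function.Bijective (Algebra.TensorProduct.productMap
      (IsScalarTower.toAlgHom k' k'' K'') (IsScalarTower.toAlgHom k' K' K'')))
    (hK : FunFld.IsFunctionField k K) (hg : FunFld.IsGeometric k K) (P : FunFld.Place k K) :
    (integralClosure (P.O.toSubring.map (algebraMap K K'')) K'' =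
        Algebra.adjoin (P.O.toSubring.map (algebraMap K K'')) (Set.range (algebraMap k'' K''))) ↔
      (integralClosure (P.O.toSubring.map (algebraMap K K')) K' =
          Algebra.adjoin (P.O.toSubring.map (algebraMap K K')) (Set.range (algebraMap k' K')) ∧
        ∀ Q : FunFld.Place k K', FunFld.IsOver Q P →
          integralClosure (Q.O.toSubring.map (algebraMap K' K'')) K'' =
            Algebra.adjoin (Q.O.toSubring.map (algebraMap K' K'')) (Set.range (algebraMap k'' K''))) := by
  haveI : FiniteDimensional K K' := Groth.Agent.H23Geom.finiteDimensional_ext' h1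
  haveI : FiniteDimensional k k'' := Module.Finite.trans k' k''
  haveI : IsScalarTower k k'' K'' := IsScalarTower.of_algebraMap_eq fun c => by
    rw [IsScalarTower.algebraMap_apply k k' k'', ← IsScalarTower.algebraMap_apply k' k'' K'',
      IsScalarTower.algebraMap_apply k' K' K'', ← IsScalarTower.algebraMap_apply k k' K',
      IsScalarTower.algebraMap_apply k K K', ← IsScalarTower.algebraMap_apply K K' K'',
      ← IsScalarTower.algebraMap_apply k K K'']
  haveI : IsScalarTower k K' K'' := IsScalarTower.of_algebraMap_eq fun c => by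
    rw [IsScalarTower.algebraMap_apply k K K', ← IsScalarTower.algebraMap_apply K K' K'',
      ← IsScalarTower.algebraMap_apply k K K'']
  obtain ⟨B, hB⟩ := exists_const_basis h2
  have hKK : IsFF k K := isFF_of_isFunctionField hK
  have hmap : P.O.toSubring.map (algebraMap K K'') =
      P.O.toSubring.map ((algebraMap K' K'').comp (algebraMap K K')) := by
    rw [← IsScalarTower.algebraMap_eq K K' K'']
  set R' := (Algebra.adjoin (P.O.toSubring.map (algebraMap K K')) (Set.range (algebraMap k' K'))).toSubring
    with hR'
  have hR'k : ∀ c : k', algebraMap k' K' c ∈ R' := fun c => Algebra.subset_adjoin ⟨c, rfl⟩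
  constructor
  · intro hns
    refine ⟨le_antisymm (fun z hz => ?_) ?_, fun Q hQ => le_antisymm (fun z hz => ?_) ?_⟩
    · have h1 : algebraMap K' K'' z ∈ Algebra.adjoin (P.O.toSubring.map (algebraMap K K''))
          (Set.range (algebraMap k'' K'')) := by
        rw [← hns]
        exact integral_push (algebraMap K K') (algebraMap K' K'') P.O.toSubring
          (IsScalarTower.algebraMap_eq K K' K'') hz
      have h2 := mem_closure_image (algebraMap K K'') (algebraMap K' K'') P.O.toSubring R'
        (fun c hc => ⟨algebraMap K K' c,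
          Subalgebra.algebraMap_mem _ (⟨_, c, hc, rfl⟩ : P.O.toSubring.map (algebraMap K K')),
          (IsScalarTower.algebraMap_apply K K' K'' c).symm⟩) h1
      obtain ⟨l, hl⟩ : ∃ l, (Module.finBasis k' k'').repr 1 l ≠ 0 := by
        by_contra h0
        push Not at h0
        exact one_ne_zero ((Module.finBasis k' k'').repr.map_eq_zero_iff.1 (Finsupp.ext h0))
      have h3 := coord_mem B hB R' hR'k h2 l
      rw [Algebra.algebraMap_eq_smul_one (R := K') z, map_smul, Finsupp.smul_apply, smul_eq_mul,
        ← map_one (algebraMap k'' K''), repr_const B hB] at h3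
      have h4 := mul_mem h3 (hR'k ((Module.finBasis k' k'').repr 1 l)⁻¹)
      rwa [mul_assoc, ← map_mul, mul_inv_cancel₀ hl, map_one, mul_one] at h4
    · exact adjoin_le_integral (algebraMap K K') P.O.toSubring (fun c => P.2.1 c)
        (fun c => (IsScalarTower.algebraMap_apply k K K' c).symm)
    · obtain ⟨s, hsQ, hs⟩ := exists_clear hKK hQ hz
      rw [← hmap] at hs
      have h1 : algebraMap K' K'' s * z ∈ Algebra.adjoin (P.O.toSubring.map (algebraMap K K''))
          (Set.range (algebraMap k'' K'')) := by
        rw [← hns]; exact hs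
      have h2 := mem_closure_image (algebraMap K K'') (algebraMap K' K'') P.O.toSubring Q.O.toSubring
        (fun c hc => ⟨algebraMap K K' c, (le_one_iff_of_isOver hQ c).2 hc,
          (IsScalarTower.algebraMap_apply K K' K'' c).symm⟩) h1
      have h3 : ∀ w ∈ Subring.closure (algebraMap K' K'' '' (Q.O.toSubring : Set K') ∪
          Set.range (algebraMap k'' K'')), w ∈ Algebra.adjoin (Q.O.toSubring.map (algebraMap K' K''))
          (Set.range (algebraMap k'' K'')) := by
        intro w hw
        refine (Subring.closure_le (t := (Algebra.adjoin (Q.O.toSubring.map (algebraMap K' K''))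
          (Set.range (algebraMap k'' K''))).toSubring)).2 ?_ hw
        rintro u (⟨c, hc, rfl⟩ | hu)
        · exact Subalgebra.algebraMap_mem _ (⟨_, c, hc, rfl⟩ : Q.O.toSubring.map (algebraMap K' K''))
        · exact Algebra.subset_adjoin hu
      have hs0 : s ≠ 0 := fun h => by rw [h, map_zero] at hsQ; exact zero_ne_one hsQ
      have hinv : Q.1 s⁻¹ ≤ 1 := by rw [map_inv₀, hsQ, inv_one]
      have h4 := mul_mem (Subalgebra.algebraMap_mem (Algebra.adjoin (Q.O.toSubring.map (algebraMap K' K''))
        (Set.range (algebraMap k'' K''))) (⟨_, s⁻¹, hinv, rfl⟩ : Q.O.toSubring.map (algebraMap K' K'')))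
        (h3 _ h2)
      rwa [show algebraMap (Q.O.toSubring.map (algebraMap K' K'')) K''
        (⟨_, s⁻¹, hinv, rfl⟩ : Q.O.toSubring.map (algebraMap K' K'')) * (algebraMap K' K'' s * z) = z by
          change algebraMap K' K'' s⁻¹ * (algebraMap K' K'' s * z) = z
          rw [← mul_assoc, ← map_mul, inv_mul_cancel₀ hs0, map_one, one_mul]] at h4
    · exact adjoin_le_integral (k := k) (algebraMap K' K'') Q.O.toSubring (fun c => Q.2.1 c)
        (fun c => (IsScalarTower.algebraMap_apply k K' K'' c).symm)
  · rintro ⟨hns', hQs⟩
    refine le_antisymm (fun z hz => ?_) ?_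
    · have hcoord : ∀ l, B.repr z l ∈ R' := by
        intro l
        have : B.repr z l ∈ integralClosure (P.O.toSubring.map (algebraMap K K')) K' := by
          refine (integral_map_O_iff hKK P).2 fun Q hQ => ?_
          have hk : ∀ c : k', algebraMap k' K' c ∈ Q.O.toSubring := fun c =>
            val_j_le_one (IsScalarTower.toAlgHom k k' K') Q c
          have hzQ : z ∈ Algebra.adjoin (Q.O.toSubring.map (algebraMap K' K''))
              (Set.range (algebraMap k'' K'')) := by
            rw [← hQs Q hQ]
            refine isIntegral_subring_mono ?_ hz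
            rintro _ ⟨c, hc, rfl⟩
            exact ⟨algebraMap K K' c, (le_one_iff_of_isOver hQ c).2 hc,
              (IsScalarTower.algebraMap_apply K K' K'' c).symm⟩
          exact coord_mem B hB Q.O.toSubring hk (mem_closure_image (algebraMap K' K'')
            (algebraMap K' K'') Q.O.toSubring Q.O.toSubring (fun c hc => ⟨c, hc, rfl⟩) hzQ) l
        rw [hR', ← hns']
        exact this
      rw [← B.sum_repr z]
      refine sum_mem fun l _ => ?_
      rw [Algebra.smul_def, hB]
      refine mul_mem ?_ (Algebra.subset_adjoin ⟨_, rfl⟩)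
      refine push_adjoin (algebraMap K K') (algebraMap K' K'') P.O.toSubring
        (IsScalarTower.algebraMap_eq K K' K'') ?_ (hcoord l)
      intro c
      exact Algebra.subset_adjoin ⟨algebraMap k' k'' c, by
        rw [← IsScalarTower.algebraMap_apply, ← IsScalarTower.algebraMap_apply]⟩
    · exact adjoin_le_integral (algebraMap K K'') P.O.toSubring (fun c => P.2.1 c)
        (fun c => (IsScalarTower.algebraMap_apply k K K'' c).symm)

end Groth.Agent.S12534
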