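import Groth.Statements.S12535
import Mathlib
import Groth.Agent.H23Hyp.RatPlaces
import Groth.Agent.H23Hyp.Ramify
import Groth.Agent.H23Hyp.Quadratic

set_option autoImplicit false
open FunFld

namespace Groth.Agent.S12535

/-- Let `char k ≠ 2`, `K` of degree `2` over `k(x)`, and `y ∈ K` with `y² = f(x)`, `f` a squarefree
polynomial of degree `≥ 1`. Then a place `P` of `K` is a zero of `y` exactly when it lies over a
finite place of `k(x)` where `f` has a zero, and in that case `ord_P(y) = 1`: the divisor of zeros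
of `y` is `Σ P_i`, one place over each irreducible factor of `f`, with multiplicity one. -/
theorem result (k K : Type*) [Field k] [Field K] (h2 : ringChar k ≠ 2) [Algebra k K]
    [Algebra (RatFunc k) K] [IsScalarTower k (RatFunc k) K]
    (hdeg : Module.finrank (RatFunc k) K = 2) (y : K) (f : Polynomial k) (hf : Squarefree f)
    (hd : 1 ≤ f.natDegree)
    (heq : y ^ 2 = algebraMap (RatFunc k) K (algebraMap (Polynomial k) (RatFunc k) f)) (P : FunFld.Place k K) :
    (0 < P.ord y → P.ord y = 1) ∧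
    (0 < P.ord y ↔ ∃ P₀ : FunFld.Place k (RatFunc k), FunFld.IsOver P P₀ ∧ 0 ≤ P₀.ord (RatFunc.X : RatFunc k) ∧
      0 < P₀.ord (algebraMap (Polynomial k) (RatFunc k) f)) := by
  classical
  haveI : FiniteDimensional (RatFunc k) K := Module.finite_of_finrank_pos (hdeg ▸ two_pos)
  haveI := ringChar.charP k
  haveI : CharP K (ringChar k) := charP_of_injective_algebraMap (algebraMap k K).injective _
  have h2K : (2 : K) ≠ 0 := Ring.two_ne_zero (by rwa [ringChar.eq K (ringChar k)])
  have hF := Groth.Agent.H23Hyp.isFunctionField_ratFunc k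
  set F := algebraMap (Polynomial k) (RatFunc k) f with hFdef
  have hf0 : f ≠ 0 := fun h => by rw [h] at hd; simp at hd
  have hF0 : F ≠ 0 := RatFunc.algebraMap_ne_zero hf0
  have hy0 : y ≠ 0 := fun h => by
    rw [h, zero_pow two_ne_zero] at heq
    exact (map_ne_zero (algebraMap (RatFunc k) K)).2 hF0 heq.symm
  have hord : ∀ (P : FunFld.Place k K) (p : FunFld.Place k (RatFunc k)) (e : ℕ), FunFld.IsOverWith P p e →
      2 * P.ord y = (e : ℤ) * p.ord F := fun P p e he => by
    rw [← Groth.Agent.H23Ext.IsOverWith.ord_eq he, ← heq, pow_two, Groth.Agent.H23FunFld.ord_mul P hy0 hy0, two_mul]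
  obtain ⟨p, e, he⟩ := Groth.Agent.H23Ext.exists_below (K := RatFunc k) hF.1 P
  have h1 := hord P p e he
  obtain ⟨he2, -⟩ := Groth.Agent.H23Hyp.ram_le_two hF he hdeg
  have he1 := Groth.Agent.H23Ext.IsOverWith.pos he
  have hpos : 0 < P.ord y → 0 ≤ p.ord (RatFunc.X : RatFunc k) ∧ 0 < p.ord F ∧ P.ord y = 1 := by
    intro hy
    have hfin : 0 ≤ p.ord (RatFunc.X : RatFunc k) := by
      by_contra hneg
      rw [not_le] at hneg
      have h2 := Groth.Agent.H23Hyp.ord_poly_infty p hneg hf0
      rw [← hFdef] at h2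
      nlinarith
    have h2 := Groth.Agent.H23Hyp.ord_squarefree_le_one p
      ((Groth.Agent.H23FunFld.val_le_one_iff p RatFunc.X_ne_zero).2 hfin) hf
    rw [← hFdef] at h2
    have h3 : 0 < p.ord F := by nlinarith
    refine ⟨hfin, h3, ?_⟩
    interval_cases e <;> omega
  refine ⟨fun hy => (hpos hy).2.2, fun hy => ⟨p, ⟨e, he⟩, (hpos hy).1, (hpos hy).2.1⟩, ?_⟩
  rintro ⟨p', hp', -, hp'F⟩
  obtain rfl := Groth.Agent.H23Ext.isOver_unique hp' ⟨e, he⟩
  nlinarith

end Groth.Agent.S12535
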