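import Groth.Statements.S6624
import Groth.Agent.H16Derived.UnitPlus

set_option autoImplicit false
universe w w' v v' u u'
open CategoryTheory CategoryTheory.Limits
open CohDer

namespace Groth.Agent.S6624

open Groth.Agent.H16Derived

lemma toH0_ι'_eq {A : Type u} [Category.{v} A] [Abelian A] [EnoughInjectives A]
    {B : Type u'} [Category.{v'} B] [Abelian B] (F : A ⥤ B) [F.Additive] (X : A) :
    AcyclicLES.toH0 (X := X) (injectiveResolution X).ι' F ≫
      HomologicalComplex.homologyMap (AcyclicLES.mapExtendIso F (injectiveResolution X)).hom 0 ≫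
      (HomologicalComplex.extendHomologyIso _ ComplexShape.embeddingUpNat (j := 0) rfl).hom ≫
      ((injectiveResolution X).isoRightDerivedObj F 0).inv = F.toRightDerivedZero.app X := by
  let I := injectiveResolution X
  rw [I.toRightDerivedZero_eq F, AcyclicLES.toH0, Category.assoc,
    HomologicalComplex.homologyπ_naturality_assoc]
  erw [HomologicalComplex.homologyπ_extendHomologyIso_hom_assoc]
  simp only [← Category.assoc]
  congr 1
  simp only [Category.assoc]
  rw [CochainComplex.isoHomologyπ₀, HomologicalComplex.isoHomologyπ, asIso_hom]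
  simp only [← Category.assoc]
  congr 1
  rw [← cancel_mono (HomologicalComplex.iCycles _ 0), InjectiveResolution.toRightDerivedZero'_comp_iCycles]
  simp only [Category.assoc]
  erw [HomologicalComplex.extendCyclesIso_hom_iCycles, HomologicalComplex.cyclesMap_i_assoc,
    HomologicalComplex.liftCycles_i_assoc]
  show F.map (AcyclicLES.aug (X := X) I.ι') ≫
    (F.map (I.cochainComplexXIso ((0 : ℕ) : ℤ) 0 rfl).hom ≫
      (HomologicalComplex.extendXIso ((F.mapHomologicalComplex (ComplexShape.up ℕ)).obj I.cocomplex)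
        ComplexShape.embeddingUpNat (i := 0) rfl).inv) ≫
      (HomologicalComplex.extendXIso ((F.mapHomologicalComplex (ComplexShape.up ℕ)).obj I.cocomplex)
        ComplexShape.embeddingUpNat (i := 0) rfl).hom = F.map (I.ι.f 0)
  rw [Category.assoc]
  erw [Iso.inv_hom_id, Category.comp_id, ← F.map_comp]
  congr 1
  rw [AcyclicLES.aug]
  erw [I.ι'_f_zero]
  simp only [Category.assoc]
  erw [Iso.inv_hom_id, Category.comp_id, Iso.inv_hom_id_assoc]

/-- Part (1): in the case where A has enough injectives: let F : A ⥤ B be an additive functor between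
abelian categories, A with enough injectives, and X an object of A. Then X is right acyclic for F,
i.e. the canonical map F(X)[0] ⟶ RF(X[0]) is an isomorphism in D⁺(B), if and only if F(X) ⟶ R⁰F(X)
is an isomorphism and RⁱF(X) = 0 for all i > 0. -/
theorem result {A : Type u} [Category.{v} A] [Abelian A] [HasDerivedCategory.{w} A] [EnoughInjectives A]
    {B : Type u'} [Category.{v'} B] [Abelian B] [HasDerivedCategory.{w'} B]
    (F : A ⥤ B) [F.Additive] (X : A) :
    IsIso (F.rightDerivedFunctorPlusUnit.app ((HomotopyCategory.Plus.singleFunctor A 0).obj X)) ↔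
      (IsIso (F.toRightDerivedZero.app X) ∧ ∀ i : ℕ, 0 < i → IsZero ((F.rightDerived i).obj X)) := by
  open Groth.Agent.H16Derived in
  let I := injectiveResolution X
  let K : CochainComplex.Plus A :=
    ⟨(CochainComplex.singleFunctor A 0).obj X, 0, inferInstance⟩
  let L' : CochainComplex (InjectiveObject A) ℤ :=
    HomologicalComplex.liftObjectProperty _ I.cochainComplex
      (fun n => inferInstanceAs (Injective (I.cochainComplex.X n)))
  have hL' : L'.IsStrictlyGE 0 := by
    rw [← CochainComplex.isStrictlyGE_mapHomologicalComplex_obj_iff _ (InjectiveObject.ι _)]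
    exact inferInstanceAs (I.cochainComplex.IsStrictlyGE 0)
  let L : CochainComplex.Plus (InjectiveObject A) := ⟨L', 0, hL'⟩
  let i : K ⟶ (InjectiveObject.ι A).mapCochainComplexPlus.obj L := ObjectProperty.homMk I.ι'
  have h := UnitPlus.isIso_unit_iff F K L i (inferInstanceAs (QuasiIso I.ι'))
  refine Iff.trans h ?_
  change QuasiIso ((F.mapHomologicalComplex (ComplexShape.up ℤ)).map I.ι') ↔ _
  let Fs := (F.mapHomologicalComplex (ComplexShape.up ℤ)).obj
    ((HomologicalComplex.single A (ComplexShape.up ℤ) 0).obj X)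
  let FI := (F.mapHomologicalComplex (ComplexShape.up ℤ)).obj I.cochainComplex
  have hFsX : ∀ n : ℤ, n ≠ 0 → IsZero (Fs.X n) := fun n hn =>
    F.map_isZero (HomologicalComplex.isZero_single_obj_X _ 0 X n hn)
  have hFs : ∀ n : ℤ, n ≠ 0 → IsZero (Fs.homology n) := fun n hn =>
    (ShortComplex.exact_iff_isZero_homology _).1 (ShortComplex.exact_of_isZero_X₂ _ (hFsX n hn))
  have hκ : IsIso (AcyclicLES.toH0 (X := X)
      (𝟙 ((HomologicalComplex.single A (ComplexShape.up ℤ) 0).obj X)) F) := by
    have hiC : IsIso (Fs.iCycles 0) :=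
      Fs.isIso_iCycles 0 1 (by simp) ((hFsX 1 one_ne_zero).eq_of_tgt _ _)
    have : IsIso (Fs.homologyπ 0) :=
      Fs.isIso_homologyπ (-1) 0 (by simp) ((hFsX (-1) (by simp)).eq_of_src _ _)
    have e : Fs.liftCycles (F.map (AcyclicLES.aug (X := X) (𝟙 _))) 1 (by simp)
        (AcyclicLES.map_aug_d _ F) = F.map (AcyclicLES.aug (X := X) (𝟙 _)) ≫ @inv _ _ _ _ (Fs.iCycles 0) hiC := by
      rw [IsIso.eq_comp_inv]
      exact HomologicalComplex.liftCycles_i _ _ _ _ _
    have : IsIso (AcyclicLES.aug (X := X)
        (𝟙 ((HomologicalComplex.single A (ComplexShape.up ℤ) 0).obj X))) := by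
      rw [AcyclicLES.aug, HomologicalComplex.id_f, Category.comp_id]
      infer_instance
    rw [AcyclicLES.toH0, e]
    exact IsIso.comp_isIso' (IsIso.comp_isIso' (inferInstanceAs (IsIso (F.map _)))
      (@IsIso.inv_isIso _ _ _ _ (Fs.iCycles 0) hiC)) ‹_›
  have hn : AcyclicLES.toH0 (X := X) (𝟙 _) F ≫ HomologicalComplex.homologyMap
      ((F.mapHomologicalComplex (ComplexShape.up ℤ)).map I.ι') 0 =
      AcyclicLES.toH0 (X := X) I.ι' F := by
    refine (AcyclicLES.toH0_naturality F (𝟙 _) I.ι' (𝟙 X) I.ι' ?_).trans ?_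
    · rw [CategoryTheory.Functor.map_id]
    · rw [F.map_id, Category.id_comp]
  have key : IsIso (HomologicalComplex.homologyMap
      ((F.mapHomologicalComplex (ComplexShape.up ℤ)).map I.ι') 0) ↔
      IsIso (F.toRightDerivedZero.app X) := by
    rw [← toH0_ι'_eq F X, ← hn]
    constructor
    · intro h'
      refine IsIso.comp_isIso' (IsIso.comp_isIso' hκ h') (IsIso.comp_isIso' ?_
        (IsIso.comp_isIso' (Iso.isIso_hom _) (Iso.isIso_inv _)))
      exact inferInstanceAs (IsIso ((HomologicalComplex.homologyFunctor B _ (0 : ℤ)).map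
        (AcyclicLES.mapExtendIso F (injectiveResolution X)).hom))
    · intro h'
      have := @IsIso.of_isIso_comp_left _ _ _ _ _ _ _ hκ (@IsIso.of_isIso_comp_right _ _ _ _ _ _ _ (IsIso.comp_isIso'
        (inferInstanceAs (IsIso ((HomologicalComplex.homologyFunctor B _ (0 : ℤ)).map
          (AcyclicLES.mapExtendIso F (injectiveResolution X)).hom)))
        (IsIso.comp_isIso' (Iso.isIso_hom _) (Iso.isIso_inv _))) h')
      exact this
  have hiso : ∀ n : ℕ, Nonempty ((F.rightDerived n).obj X ≅ FI.homology (n : ℤ)) := fun n =>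
    AcyclicLES.nonempty_rightDerived_iso F I.cochainComplex 0 (fun k => inferInstance) I.ι' n
  constructor
  · intro hq
    refine ⟨key.1 inferInstance, fun n hn => ?_⟩
    exact ((hFs n (by lia)).of_iso
      (asIso (HomologicalComplex.homologyMap
        ((F.mapHomologicalComplex (ComplexShape.up ℤ)).map I.ι') (n : ℤ))).symm).of_iso
      (hiso n).some
  · rintro ⟨h0, hz⟩
    refine ⟨fun n => ?_⟩
    rw [quasiIsoAt_iff_isIso_homologyMap]
    rcases lt_trichotomy n 0 with hn' | rfl | hn'
    · refine isIso_of_source_target_iso_zero _ (hFs n hn'.ne).isoZero (IsZero.isoZero ?_)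
      exact (ShortComplex.exact_iff_isZero_homology _).1 (ShortComplex.exact_of_isZero_X₂ _
        (F.map_isZero (CochainComplex.isZero_of_isStrictlyGE I.cochainComplex 0 n hn')))
    · exact key.2 h0
    · obtain ⟨m, rfl⟩ := Int.eq_ofNat_of_zero_le hn'.le
      exact isIso_of_source_target_iso_zero _ (hFs _ hn'.ne').isoZero
        ((hz m (by lia)).of_iso (hiso m).some.symm).isoZero

end Groth.Agent.S6624
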