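import Groth.Statements.S12545
import Groth.Agent.S12544

set_option autoImplicit false
universe u
open TensorProduct LaurentPolynomial
open GIT

namespace Groth.Agent.S12545
open TensorProduct LaurentPolynomial in
theorem key (k : Type u) [Field k] (A : Type u) [CommRing A] [Bialgebra k A]
    (ι : Type u) [Fintype ι] [HopfRep.Comod k A (MvPolynomial ι k)] [GLin.IsCoactAlg k A (MvPolynomial ι k)]
    (lam : A →ₐc[k] k[T;T⁻¹]) (v : ι → k) (m : ℤ) (hm : GLin.IsMu k A lam v m) :
    (GLin.HasLimit k A lam (GLin.vecPt k ι v) ↔ m ≤ 0) ∧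
      (GLin.IsLimit k A lam (GLin.vecPt k ι v) (GLin.vecPt k ι (fun _ => (0 : k))) ↔ m < 0) := by
  obtain ⟨h, hh, h0⟩ := hm
  let f : ι → k[T;T⁻¹] := fun i => GLin.lamOrbit k A lam (GLin.vecPt k ι v) (MvPolynomial.X i)
  have hi : ∀ i, Polynomial.toLaurent (h (MvPolynomial.X i)) = T m * f i := fun i => by
    have := AlgHom.congr_fun hh (MvPolynomial.X i)
    simpa [GLin.shiftedOrbit] using this
  have key : ∀ g : ι → Polynomial k, ∀ d : ℕ, (∀ i, Polynomial.toLaurent (g i) = f i) → (d : ℤ) = m →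
      ∀ i, h (MvPolynomial.X i) = Polynomial.X ^ d * g i := fun g d hg hd i => by
    apply Polynomial.toLaurent_injective
    rw [hi, map_mul, Polynomial.toLaurent_X_pow, hd, hg]
  have hnot : ∀ g : ι → Polynomial k, (∀ i, Polynomial.toLaurent (g i) = f i) → m ≤ 0 := fun g hg => by
    by_contra hlt
    refine h0 (MvPolynomial.algHom_ext fun i => ?_)
    simp [key g m.toNat hg (Int.toNat_of_nonneg (by omega)) i, zero_pow (show m.toNat ≠ 0 by omega)]
  let H : m ≤ 0 → MvPolynomial ι k →ₐ[k] Polynomial k := fun _ =>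
    MvPolynomial.aeval fun i => Polynomial.X ^ (-m).toNat * h (MvPolynomial.X i)
  have hH : ∀ hle, (Polynomial.toLaurentAlg (R := k)).comp (H hle) = GLin.lamOrbit k A lam (GLin.vecPt k ι v) := fun hle => by
    refine MvPolynomial.algHom_ext fun i => ?_
    rw [AlgHom.comp_apply, MvPolynomial.aeval_X, Polynomial.toLaurentAlg_apply, map_mul, Polynomial.toLaurent_X_pow,
      hi, ← mul_assoc, ← T_add, Int.toNat_of_nonneg (by omega), neg_add_cancel, T_zero, one_mul]
  refine ⟨⟨fun ⟨g, hg⟩ => ?_, fun hle => ⟨H hle, hH hle⟩⟩, ⟨fun ⟨g, hg, hg0⟩ => ?_, fun hlt => ?_⟩⟩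
  · exact hnot (fun i => g (MvPolynomial.X i)) fun i => AlgHom.congr_fun hg (MvPolynomial.X i)
  · have hgi : ∀ i, Polynomial.toLaurent (g (MvPolynomial.X i)) = f i := fun i => AlgHom.congr_fun hg (MvPolynomial.X i)
    rcases lt_or_eq_of_le (hnot _ hgi) with hl | he
    · exact hl
    refine absurd (MvPolynomial.algHom_ext fun i => ?_) h0
    have h2 := AlgHom.congr_fun hg0 (MvPolynomial.X i)
    simp only [AlgHom.comp_apply, MvPolynomial.aeval_X] at h2 ⊢
    rw [key _ 0 hgi he.symm i, pow_zero, one_mul, h2]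
  · refine ⟨H hlt.le, hH hlt.le, MvPolynomial.algHom_ext fun i => ?_⟩
    simp [H, zero_pow (show (-m).toNat ≠ 0 by omega)]


/-- Let a commutative bialgebra A over a field k coact linearly on affine ι-space, let λ be a
one-parameter subgroup (a bialgebra map to the Laurent polynomial ring) and v ≠ 0 a vector; write
μ(v, λ) = m when t^m · (v moved by λ(t)) extends to the affine line with non-zero value at t = 0.
Then v moved by λ(t) has no limit as t → 0 exactly when μ(v, λ) > 0, has a limit different from the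
origin exactly when μ(v, λ) = 0, and tends to the origin exactly when μ(v, λ) < 0. -/
theorem result (k : Type u) [Field k] (A : Type u) [CommRing A] [Bialgebra k A]
    (ι : Type u) [Fintype ι] [HopfRep.Comod k A (MvPolynomial ι k)] [GLin.IsCoactAlg k A (MvPolynomial ι k)]
    (hlin : GLin.IsLinear k A ι) (lam : A →ₐc[k] k[T;T⁻¹]) (v : ι → k) (hv : v ≠ 0) :
    (¬ GLin.HasLimit k A lam (GLin.vecPt k ι v) ↔ ∃ m : ℤ, GLin.IsMu k A lam v m ∧ 0 < m) ∧
      ((GLin.HasLimit k A lam (GLin.vecPt k ι v) ∧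
          ¬ GLin.IsLimit k A lam (GLin.vecPt k ι v) (GLin.vecPt k ι (fun _ => (0 : k)))) ↔
        GLin.IsMu k A lam v 0) ∧
      (GLin.IsLimit k A lam (GLin.vecPt k ι v) (GLin.vecPt k ι (fun _ => (0 : k))) ↔
        ∃ m : ℤ, GLin.IsMu k A lam v m ∧ m < 0) := by
  obtain ⟨m, hm, huniq⟩ := Groth.Agent.S12544.result k A ι hlin lam v hv
  obtain ⟨h1, h2⟩ := key k A ι lam v m hm
  have hex : ∀ P : ℤ → Prop, (∃ n, GLin.IsMu k A lam v n ∧ P n) ↔ P m := fun P =>
    ⟨fun ⟨n, hn, hp⟩ => huniq n hn ▸ hp, fun hp => ⟨m, hm, hp⟩⟩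
  refine ⟨?_, ?_, ?_⟩
  · rw [hex, h1]; omega
  · rw [h1, h2]
    constructor
    · rintro ⟨a, b⟩
      obtain rfl : m = 0 := by omega
      exact hm
    · intro h
      have := huniq 0 h
      omega
  · rw [hex, h2]

end Groth.Agent.S12545
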