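import Groth.Statements.S12546
import Groth.Agent.H20Forms.Binary

set_option autoImplicit false
universe u
open TensorProduct LaurentPolynomial
open GIT

namespace Groth.Agent.S12546
open MvPolynomial CoordGrp Groth.Agent.H20Forms in
theorem main (k : Type u) [Field k] [IsAlgClosed k] [CharZero k] (d : ℕ) (a : FormIdx 2 d → k) :
    @GLin.IsStableVec k _ (SLn 2 k) _ _ (FormIdx 2 d) (act d (slHom k 2)) (isCoactAlg_act (slHom k 2)) a ↔
      ∀ ℓ : MvPolynomial (Fin 2) k, ℓ.IsHomogeneous 1 → ℓ ≠ 0 → ∀ m : ℕ, ℓ ^ m ∣ formPoly a → 2 * m < d := by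
  rw [isStableVec_iff]
  constructor
  · intro H ℓ hℓ hℓ0 m hdvd
    by_contra hm
    obtain ⟨M, hM, r, hr, hr0, hw⟩ := exists_weights_of_root a 0 ℓ hℓ hℓ0 m hdvd (by omega)
    obtain ⟨e, he, hneg⟩ := H M hM r hr hr0
    have := hw e he
    push_cast at this
    omega
  · intro H M hM r hr hr0
    by_contra h
    push Not at h
    obtain ⟨ℓ, hℓ, hℓ0, m, hdvd, hm⟩ := exists_root_of_weights a 0 zero_le_one M hM r hr hr0 (by simpa using h)
    have := H ℓ hℓ hℓ0 m hdvd
    omega


/-- Let k be an algebraically closed field of characteristic zero and let SL_2 act by substitution on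
binary forms of degree d, a form being the point a = (a_0, …, a_d) with F = Σ_i (d choose i) a_i
x^(d−i) y^i. For a ≠ 0: a is stable (closed orbit, finite stabiliser) if and only if every non-zero
linear form ℓ and every m with ℓ^m dividing F satisfy 2m < d, i.e. F has no root on the projective
line of multiplicity d/2 or more. -/
theorem result (k : Type u) [Field k] [IsAlgClosed k] [CharZero k]
    (d : ℕ) (a : Fin (d + 1) → k) (ha : a ≠ 0) :
    @GLin.IsStableVec k _ (CoordGrp.SLn 2 k) _ _ (CoordGrp.FormIdx 2 d) (GLin.comodAlong ((CoordGrp.SLn.mkHom 2 k).comp (CoordGrp.Mat.toGLn 2 k)) (CoordGrp.formsCoact k 2 d))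
      (GLin.isCoactAlg_comodAlong ((CoordGrp.SLn.mkHom 2 k).comp (CoordGrp.Mat.toGLn 2 k)) (CoordGrp.formsCoact k 2 d)
        (CoordGrp.formsCoact_isCoactAlg k 2 d))
      (CoordGrp.binVec d a) ↔
      ∀ ℓ : MvPolynomial (Fin 2) k, ℓ.IsHomogeneous 1 → ℓ ≠ 0 →
        ∀ m : ℕ, ℓ ^ m ∣ CoordGrp.formPoly (CoordGrp.binVec d a) → 2 * m < d := by
  exact main k d (CoordGrp.binVec d a)

end Groth.Agent.S12546
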