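import Groth.Statements.S12547
import Groth.Agent.H20Forms.Binary

set_option autoImplicit false
universe u
open TensorProduct LaurentPolynomial
open GIT

namespace Groth.Agent.S12547
open MvPolynomial CoordGrp Groth.Agent.H20Forms in
theorem main (k : Type u) [Field k] [IsAlgClosed k] [CharZero k] (d : ℕ) (a : FormIdx 2 d → k) :
    @GLin.IsSemistableVec k _ (SLn 2 k) _ _ (FormIdx 2 d) (act d (slHom k 2)) (isCoactAlg_act (slHom k 2)) a ↔
      ∀ ℓ : MvPolynomial (Fin 2) k, ℓ.IsHomogeneous 1 → ℓ ≠ 0 → ∀ m : ℕ, ℓ ^ m ∣ formPoly a → 2 * m ≤ d := by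
  rw [GLin.IsSemistableVec, isNullform_iff]
  constructor
  · intro H ℓ hℓ hℓ0 m hdvd
    by_contra hm
    obtain ⟨M, hM, r, hr, -, hw⟩ := exists_weights_of_root a 1 ℓ hℓ hℓ0 m hdvd (by omega)
    exact H ⟨M, hM, r, hr, fun e he => by have := hw e he; omega⟩
  · rintro H ⟨M, hM, r, hr, hw⟩
    by_cases hr0 : r = 0
    · have hz : move M a = 0 := funext fun e => by
        by_contra he
        have := hw e he
        simp [hr0, weight] at this
      have ha : a = 0 := by
        have h1 := congrArg (move M.adjugate) hz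
        rw [move_move, Matrix.mul_adjugate, hM, one_smul, move_one] at h1
        rw [h1]
        funext e
        simp [move, pair_apply]
      have := H (X 0) (isHomogeneous_X k 0) (X_ne_zero _) (d + 1) (by simp [ha, formPoly])
      omega
    · obtain ⟨ℓ, hℓ, hℓ0, m, hdvd, hm⟩ := exists_root_of_weights a 1 le_rfl M hM r hr hr0
        (fun e he => by have := hw e he; push_cast; omega)
      have := H ℓ hℓ hℓ0 m hdvd
      omega


/-- Let k be an algebraically closed field of characteristic zero and let SL_2 act by substitution on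
binary forms of degree d, a form being the point a = (a_0, …, a_d) with F = Σ_i (d choose i) a_i
x^(d−i) y^i. For a ≠ 0: a is semistable (some invariant homogeneous polynomial of positive degree in
the coefficients is non-zero at a) if and only if every non-zero linear form ℓ and every m with ℓ^m
dividing F satisfy 2m ≤ d, i.e. F has no root on the projective line of multiplicity more than d/2. -/
theorem result (k : Type u) [Field k] [IsAlgClosed k] [CharZero k]
    (d : ℕ) (a : Fin (d + 1) → k) (ha : a ≠ 0) :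
    @GLin.IsSemistableVec k _ (CoordGrp.SLn 2 k) _ _ (CoordGrp.FormIdx 2 d) (GLin.comodAlong ((CoordGrp.SLn.mkHom 2 k).comp (CoordGrp.Mat.toGLn 2 k)) (CoordGrp.formsCoact k 2 d))
      (GLin.isCoactAlg_comodAlong ((CoordGrp.SLn.mkHom 2 k).comp (CoordGrp.Mat.toGLn 2 k)) (CoordGrp.formsCoact k 2 d)
        (CoordGrp.formsCoact_isCoactAlg k 2 d))
      (CoordGrp.binVec d a) ↔
      ∀ ℓ : MvPolynomial (Fin 2) k, ℓ.IsHomogeneous 1 → ℓ ≠ 0 →
        ∀ m : ℕ, ℓ ^ m ∣ CoordGrp.formPoly (CoordGrp.binVec d a) → 2 * m ≤ d := by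
  exact main k d (CoordGrp.binVec d a)

end Groth.Agent.S12547
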