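import Groth.Statements.S12549
import Mathlib.Tactic
import Mathlib.Algebra.Order.Floor.Semiring


set_option autoImplicit false
universe u
open GIT

namespace Groth.Agent.S12549
/-- Lower hull of the points `(X i, Y i)` seen as a sum of hinge functions, with a chain realising it. -/
theorem exists_hull {n : ℕ} (X Y : Fin (n + 1) → ℝ) (hX0 : X 0 = 0) (hX : Monotone X) (hY : Antitone Y) :
    ∀ (b : Fin (n + 1)) (σ : ℝ), 0 ≤ σ → (∀ i ≤ b, Y b + σ * (X b - X i) ≤ Y i) →
      ∃ (μ : ℕ) (c : Fin (μ + 1) → Fin (n + 1)) (W : List (ℝ × ℝ)), StrictMono c ∧ c 0 = 0 ∧ c (Fin.last μ) = b ∧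
        (∀ p ∈ W, 0 ≤ p.1 ∧ 0 ≤ p.2 ∧ p.2 ≤ X b) ∧
        (∀ i ≤ b, Y b + σ * (X b - X i) + (W.map fun p => p.1 * max (p.2 - X i) 0).sum ≤ Y i) ∧
        ∑ j : Fin μ, (X (c j.succ) - X (c j.castSucc)) * (Y (c j.succ) + Y (c j.castSucc)) =
          2 * X b * Y b + σ * X b ^ 2 + (W.map fun p => p.1 * p.2 ^ 2).sum := by
  classical
  intro b
  induction b using WellFoundedLT.induction with
  | ind b ih =>
  intro σ hσ hadm
  have hnn : ∀ i, 0 ≤ X i := fun i => hX0 ▸ hX (Fin.zero_le i)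
  by_cases hb : X b = 0
  · have hle : ∀ i ≤ b, Y b + σ * (X b - X i) + (([] : List (ℝ × ℝ)).map fun p => p.1 * max (p.2 - X i) 0).sum ≤ Y i :=
      fun i hi => by simpa using hadm i hi
    by_cases hb0 : b = 0
    · exact ⟨0, fun _ => b, [], Subsingleton.strictMono (α := Fin 1) _, hb0, rfl, by simp, hle, by simp [hb]⟩
    · refine ⟨1, ![0, b], [], ?_, rfl, rfl, by simp, hle, by simp [hb, hX0]⟩
      refine Fin.strictMono_iff_lt_succ.2 fun i => ?_
      fin_cases i
      simpa [Fin.pos_iff_ne_zero] using hb0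
  · have hne : ((Finset.univ : Finset (Fin (n + 1))).filter fun i => X i < X b).Nonempty :=
      ⟨0, by simpa [hX0] using lt_of_le_of_ne (hnn b) (Ne.symm hb)⟩
    obtain ⟨a, ha, hmin⟩ := Finset.exists_min_image _ (fun i => (Y i - Y b) / (X b - X i)) hne
    simp only [Finset.mem_filter, Finset.mem_univ, true_and] at ha hmin
    have hab : a < b := lt_of_not_ge fun h => absurd (hX h) (not_le.2 ha)
    set τ := (Y a - Y b) / (X b - X a) with hτ
    have hτa : Y a = Y b + τ * (X b - X a) := by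
      rw [hτ, div_mul_cancel₀ _ (sub_ne_zero.2 ha.ne')]; ring
    have hστ : σ ≤ τ := by
      rw [hτ, le_div_iff₀ (sub_pos.2 ha)]
      linarith [hadm a hab.le]
    have hline : ∀ i ≤ b, Y b + τ * (X b - X i) ≤ Y i := fun i hi => by
      rcases (hX hi).lt_or_eq with h | h
      · have h2 := (le_div_iff₀ (sub_pos.2 h)).1 (hmin i h)
        linarith
      · rw [h, sub_self, mul_zero, add_zero]; exact hY hi
    obtain ⟨μ, c, W, hc, hc0, hcl, hW, hWle, hsum⟩ := ih a hab τ (hσ.trans hστ) fun i hi => by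
      have := hline i (hi.trans hab.le)
      rw [hτa]; linarith
    refine ⟨μ + 1, Fin.snoc c b, (τ - σ, X b) :: W, ?_, ?_, Fin.snoc_last _ _, ?_, fun i hi => ?_, ?_⟩
    · refine Fin.strictMono_iff_lt_succ.2 fun i => ?_
      induction i using Fin.lastCases with
      | last => rw [Fin.succ_last, Fin.snoc_last, Fin.snoc_castSucc, hcl]; exact hab
      | cast i =>
        rw [Fin.succ_castSucc, Fin.snoc_castSucc, Fin.snoc_castSucc]
        exact hc Fin.castSucc_lt_succ
    · rw [← Fin.castSucc_zero, Fin.snoc_castSucc, hc0]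
    · intro p hp
      rcases List.mem_cons.1 hp with rfl | hp
      · exact ⟨sub_nonneg.2 hστ, hnn b, le_rfl⟩
      · exact ⟨(hW p hp).1, (hW p hp).2.1, (hW p hp).2.2.trans (hX hab.le)⟩
    · rw [List.map_cons, List.sum_cons, max_eq_left (sub_nonneg.2 (hX hi))]
      rcases le_total i a with hia | hia
      · have := hWle i hia
        rw [hτa] at this
        linarith
      · have hz : (W.map fun p => p.1 * max (p.2 - X i) 0).sum = 0 := List.sum_eq_zero fun q hq => by
          obtain ⟨p, hp, rfl⟩ := List.mem_map.1 hq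
          rw [max_eq_right (sub_nonpos.2 ((hW p hp).2.2.trans (hX hia))), mul_zero]
        rw [hz]
        linarith [hline i hi]
    · rw [Fin.sum_univ_castSucc, List.map_cons, List.sum_cons]
      simp only [Fin.succ_castSucc, Fin.snoc_castSucc, Fin.succ_last, Fin.snoc_last]
      rw [hsum, hcl, hτa]
      ring

theorem sum_hinge {T : ℝ} (k : ℕ) : ∑ i ∈ Finset.range k, (T - i) = k * T - k * (k - 1) / 2 := by
  induction k with
  | zero => simp
  | succ k ih => rw [Finset.sum_range_succ, ih]; push_cast; ring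

/-- The hinge inequality. -/
theorem hinge_lt {n g : ℕ} (hg : 1 ≤ g) (hn : 2 * g ≤ n) (E : ℕ → ℝ)
    (hle : ∀ i, i ≤ n - g → E i ≤ i) (hle' : ∀ i, i ≤ n → E i ≤ i + g) (T : ℝ) (hT : 0 < T) (hTL : T ≤ n + g) :
    (n + 1) * T ^ 2 < 2 * (n + g) * ∑ i ∈ Finset.range (n + 1), max (T - E i) 0 := by
  obtain ⟨m, rfl⟩ : ∃ m, n = m + g := ⟨n - g, by omega⟩
  rw [Nat.add_sub_cancel] at hle
  push_cast at hTL ⊢
  have hsub : ∀ k, k ≤ m + g + 1 → ∑ i ∈ Finset.range k, max (T - E i) 0 ≤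
      ∑ i ∈ Finset.range (m + g + 1), max (T - E i) 0 := fun k hk =>
    Finset.sum_le_sum_of_subset_of_nonneg (Finset.range_mono hk) fun _ _ _ => le_max_right _ _
  have hG : (1 : ℝ) ≤ g := by exact_mod_cast hg
  have hM : (g : ℝ) ≤ m := by exact_mod_cast (show g ≤ m by omega)
  rcases le_or_gt T m with hTm | hTm
  · obtain ⟨k, hk1, hk2⟩ : ∃ k : ℕ, (k : ℝ) ≤ T ∧ T < k + 1 := ⟨⌊T⌋₊, Nat.floor_le hT.le, Nat.lt_floor_add_one T⟩
    have hkm : k ≤ m := by exact_mod_cast hk1.trans hTm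
    have h1 : ∑ i ∈ Finset.range (k + 1), (T - i) ≤ ∑ i ∈ Finset.range (k + 1), max (T - E i) 0 := by
      refine Finset.sum_le_sum fun i hi => le_trans ?_ (le_max_left _ _)
      have := hle i (by have := Finset.mem_range.1 hi; omega)
      linarith
    have h2 := h1.trans (hsub (k + 1) (by omega))
    rw [sum_hinge] at h2
    push_cast at h2
    have h3 : T * (T + 1) / 2 ≤ ∑ i ∈ Finset.range (m + g + 1), max (T - E i) 0 := by
      nlinarith [mul_nonneg (sub_nonneg.2 hk1) (sub_nonneg.2 hk2.le)]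
    have hL : (0 : ℝ) < (m : ℝ) + g + g := by linarith
    nlinarith [mul_le_mul_of_nonneg_left h3 hL.le, mul_pos hT hL, mul_nonneg (sq_nonneg T) (sub_nonneg.2 hG)]
  · obtain ⟨j, hj⟩ : ∃ j : ℝ, T = m + g + j := ⟨T - m - g, by ring⟩
    obtain ⟨k, hkg, hk1, hk2⟩ : ∃ k : ℕ, k ≤ g ∧ ((k : ℝ) ≤ j ∨ k = 0) ∧ (0 ≤ j → j < k + 1) := by
      refine ⟨⌊j⌋₊, Nat.floor_le_of_le (show j ≤ (g : ℝ) by linarith), ?_, fun _ => Nat.lt_floor_add_one j⟩
      rcases le_or_gt 0 j with h | h
      · exact Or.inl (Nat.floor_le h)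
      · exact Or.inr (Nat.floor_eq_zero.2 (h.trans one_pos))
    have h1 : ∑ i ∈ Finset.range (m + 1), (T - i) + ∑ i ∈ Finset.range k, ((j - 1) - i) ≤
        ∑ i ∈ Finset.range (m + 1 + k), max (T - E i) 0 := by
      rw [Finset.sum_range_add _ (m + 1) k]
      refine add_le_add ?_ ?_
      · refine Finset.sum_le_sum fun i hi => le_trans ?_ (le_max_left _ _)
        have := hle i (by have := Finset.mem_range.1 hi; omega)
        linarith
      · refine Finset.sum_le_sum fun i hi => le_trans ?_ (le_max_left _ _)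
        have := hle' (m + 1 + i) (by have := Finset.mem_range.1 hi; omega)
        push_cast at this
        linarith
    have h2 := h1.trans (hsub (m + 1 + k) (by omega))
    rw [sum_hinge, sum_hinge] at h2
    push_cast at h2
    have hL : (0 : ℝ) < (m : ℝ) + g + g := by linarith
    have hend : 0 < ((m : ℝ) + g + g) * g * (m + g + 1 - 2 * g) := by
      have : (0 : ℝ) < (m : ℝ) + g + 1 - 2 * g := by linarith
      positivity
    rcases le_or_gt 0 j with h0 | h0
    · have hlt := hk2 h0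
      have hk1' : (k : ℝ) ≤ j := by
        rcases hk1 with h | h
        · exact h
        · simpa [h] using h0
      have hjg : j ≤ g := by linarith
      have h3 : ((m : ℝ) + 1) * T - (m + 1) * m / 2 + j * (j - 1) / 2 ≤
          ∑ i ∈ Finset.range (m + g + 1), max (T - E i) 0 := by
        nlinarith [mul_nonneg (sub_nonneg.2 hk1') (sub_nonneg.2 hlt.le)]
      subst hj
      nlinarith [mul_le_mul_of_nonneg_left h3 hL.le,
        mul_nonneg (sub_nonneg.2 hjg) (add_nonneg hL.le (mul_nonneg (sub_nonneg.2 hG) (sub_nonneg.2 hjg)))]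
    · have hk0 : k = 0 := by
        rcases hk1 with h | h
        · linarith [(Nat.cast_nonneg k : (0 : ℝ) ≤ k)]
        · exact h
      subst hk0
      simp only [Nat.cast_zero, zero_mul, zero_div, sub_zero, zero_sub] at h2
      have h3 : ((m : ℝ) + 1) * T - (m + 1) * m / 2 ≤ ∑ i ∈ Finset.range (m + g + 1), max (T - E i) 0 := by
        linarith
      have hm0 : (0 : ℝ) < (m + g + g) * (m * (m + 1)) - (m + g + 1) * (m : ℝ) ^ 2 := by
        have h4 : (0 : ℝ) < (m : ℝ) * ((m + g + g) * (m + 1) - (m + g + 1) * m) :=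
          mul_pos (by linarith) (by nlinarith)
        linarith
      have hn0 : 0 < (m + g + g) * (2 * (m + 1) * (m + g) - (m + 1) * (m : ℝ)) - (m + g + 1) * ((m : ℝ) + g) ^ 2 := by
        nlinarith [hend, mul_nonneg (Nat.cast_nonneg g : (0 : ℝ) ≤ g)
          (add_nonneg hL.le (mul_nonneg (sub_nonneg.2 hG) (Nat.cast_nonneg g : (0 : ℝ) ≤ g)))]
      have hm1 : T ≤ m + g := by linarith
      have hgp : (0 : ℝ) < g := by linarith
      have key : 0 < (g : ℝ) * ((m + g + g) * (2 * (m + 1) * T - (m + 1) * m) - (m + g + 1) * T ^ 2) := by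
        nlinarith [mul_nonneg (sub_nonneg.2 hm1) hm0.le, mul_pos (sub_pos.2 hTm) hn0,
          mul_nonneg (add_nonneg (add_nonneg (Nat.cast_nonneg m) hgp.le) zero_le_one : (0 : ℝ) ≤ m + g + 1)
            (mul_nonneg (sub_nonneg.2 hTm.le) (sub_nonneg.2 hm1))]
      have key' := (mul_pos_iff_of_pos_left hgp).1 key
      nlinarith [mul_le_mul_of_nonneg_left h3 hL.le]


/-- Let g ≥ 1 and n ≥ 2g, and let e_0, …, e_n be natural numbers with e_0 = 0, e_n = n + g, e_0 ≤ … ≤
e_n, e_i ≤ i for i ≤ n − g and e_i ≤ i + g for all i. Then for all real r_0 ≥ r_1 ≥ … ≥ r_n with Σ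
r_i = 0, not all zero, some chain 0 = c_0 < c_1 < … < c_μ = n has Σ_j (e_(c_(j+1)) − e_(c_j)) ·
(r_(c_(j+1)) + r_(c_j)) < 0. -/
theorem result (n g : ℕ) (hg : 1 ≤ g) (hn : 2 * g ≤ n)
    (e : Fin (n + 1) → ℕ) (he0 : e 0 = 0) (hen : e (Fin.last n) = n + g) (hmono : Monotone e)
    (hle : ∀ i : Fin (n + 1), (i : ℕ) ≤ n - g → e i ≤ (i : ℕ)) (hle' : ∀ i : Fin (n + 1), e i ≤ (i : ℕ) + g)
    (r : Fin (n + 1) → ℝ) (hanti : Antitone r) (hsum : ∑ i, r i = 0) (hr : r ≠ 0) :
    ∃ (μ : ℕ) (c : Fin (μ + 1) → Fin (n + 1)), StrictMono c ∧ c 0 = 0 ∧ c (Fin.last μ) = Fin.last n ∧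
      ∑ j : Fin μ, ((e (c j.succ) : ℝ) - (e (c j.castSucc) : ℝ)) * (r (c j.succ) + r (c j.castSucc)) < 0 := by
  obtain ⟨μ, c, W, hc, hc0, hcl, hW, hWle, hF⟩ := exists_hull (fun i => (e i : ℝ)) r (by simp [he0])
    (fun i j h => Nat.cast_le.2 (hmono h)) hanti (Fin.last n) 0 le_rfl (fun i hi => by simpa using hanti hi)
  refine ⟨μ, c, hc, hc0, hcl, ?_⟩
  rw [hF]
  simp only [hen, zero_mul, add_zero, Nat.cast_add] at hWle hW ⊢
  have hr0 : r (Fin.last n) < 0 := by
    by_contra h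
    refine hr (funext fun i => ?_)
    have hnn : ∀ i, 0 ≤ r i := fun i => le_trans (not_lt.1 h) (hanti (Fin.le_last i))
    exact (Finset.sum_eq_zero_iff_of_nonneg fun i _ => hnn i).1 hsum i (Finset.mem_univ i)
  let E : ℕ → ℝ := fun i => if h : i < n + 1 then (e ⟨i, h⟩ : ℝ) else 0
  have hEle : ∀ i, i ≤ n - g → E i ≤ i := fun i hi => by
    have h : i < n + 1 := by omega
    simp only [E, dif_pos h]; exact_mod_cast hle ⟨i, h⟩ hi
  have hEle' : ∀ i, i ≤ n → E i ≤ i + g := fun i hi => by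
    have h : i < n + 1 := by omega
    simp only [E, dif_pos h]; exact_mod_cast hle' ⟨i, h⟩
  let G : ℝ → ℝ := fun T => ∑ i ∈ Finset.range (n + 1), max (T - E i) 0
  have hG : ∀ T, ∑ i : Fin (n + 1), max (T - (e i : ℝ)) 0 = G T := fun T => by
    simp only [G, ← Fin.sum_univ_eq_sum_range (fun i => max (T - E i) 0)]
    exact Finset.sum_congr rfl fun i _ => by simp only [E, dif_pos i.isLt]
  have hswap : ∀ V : List (ℝ × ℝ), ∑ i : Fin (n + 1), (V.map fun p => p.1 * max (p.2 - (e i : ℝ)) 0).sum =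
      (V.map fun p => p.1 * G p.2).sum := fun V => by
    induction V with
    | nil => simp
    | cons p V ih =>
      simp only [List.map_cons, List.sum_cons]
      rw [Finset.sum_add_distrib, ih, ← Finset.mul_sum, hG]
  have h1 : ((n : ℝ) + 1) * r (Fin.last n) + (W.map fun p => p.1 * G p.2).sum ≤ 0 := by
    have := Finset.sum_le_sum fun i (_ : i ∈ Finset.univ) => hWle i (Fin.le_last i)
    rwa [hsum, Finset.sum_add_distrib, Finset.sum_const, Finset.card_univ, Fintype.card_fin, nsmul_eq_mul,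
      hswap, Nat.cast_add, Nat.cast_one] at this
  have h2 : ∀ V : List (ℝ × ℝ), (∀ p ∈ V, 0 ≤ p.1 ∧ 0 ≤ p.2 ∧ p.2 ≤ (n : ℝ) + g) →
      ((n : ℝ) + 1) * (V.map fun p => p.1 * p.2 ^ 2).sum < 2 * (n + g) * (V.map fun p => p.1 * G p.2).sum ∨
        (V.map fun p => p.1 * p.2 ^ 2).sum = 0 ∧ 0 ≤ (V.map fun p => p.1 * G p.2).sum := by
    intro V hV
    induction V with
    | nil => simp
    | cons p V ih =>
      simp only [List.map_cons, List.sum_cons]
      have hp := hV p (List.mem_cons_self ..)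
      have hGp : 0 ≤ p.1 * G p.2 := mul_nonneg hp.1 (Finset.sum_nonneg fun _ _ => le_max_right _ _)
      have hL : (0 : ℝ) ≤ 2 * (n + g) := by positivity
      by_cases hz : p.1 * p.2 ^ 2 = 0
      · rcases ih fun q hq => hV q (List.mem_cons_of_mem _ hq) with h | ⟨h, h'⟩
        · left; rw [hz, zero_add]; nlinarith [mul_nonneg hL hGp]
        · right; exact ⟨by rw [hz, zero_add, h], add_nonneg hGp h'⟩
      · left
        have hw : 0 < p.1 := lt_of_le_of_ne hp.1 fun h => hz (by rw [← h, zero_mul])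
        have ht : 0 < p.2 := lt_of_le_of_ne hp.2.1 fun h => hz (by rw [← h]; ring)
        have h3 := mul_lt_mul_of_pos_left (hinge_lt hg hn E hEle hEle' p.2 ht hp.2.2) hw
        rcases ih fun q hq => hV q (List.mem_cons_of_mem _ hq) with h | ⟨h, h'⟩
        · nlinarith
        · rw [h]; nlinarith [mul_nonneg hL h']
  have hL : (0 : ℝ) < (n : ℝ) + g := by
    have : (1 : ℝ) ≤ g := by exact_mod_cast hg
    positivity
  rcases h2 W hW with h | ⟨h, -⟩
  · have h4 := mul_le_mul_of_nonneg_left h1 (by positivity : (0 : ℝ) ≤ 2 * (n + g))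
    by_contra hc'
    nlinarith [mul_nonneg (by positivity : (0 : ℝ) ≤ (n : ℝ) + 1) (not_lt.1 hc')]
  · rw [h, add_zero]
    exact mul_neg_of_pos_of_neg (by positivity) hr0

end Groth.Agent.S12549
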