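import Groth.Statements.S12551
import Groth.Agent.H20Forms.Singular
import Groth.Agent.H20Forms.HM

set_option autoImplicit false
universe u
open TensorProduct LaurentPolynomial
open GIT

namespace Groth.Agent.S12551
open CoordGrp in
theorem fp_eq {k : Type u} [Field k] [Infinite k] (M : Matrix (Fin 3) (Fin 3) k) (a : FormIdx 3 4 → k) :
    MvPolynomial.aeval (fun i : Fin 3 => ∑ j : Fin 3, MvPolynomial.C (M i j) * MvPolynomial.X j) (formPoly a) =
      formPoly (H20Forms.move M a) := by
  rw [H20Forms.formPoly_move]; rfl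

open CoordGrp in
theorem coeff_zero_iff {k : Type u} [Field k] [CharZero k] (b : FormIdx 3 4 → k) (e : Fin 3 →₀ ℕ) (he : e.degree = 4) :
    (formPoly b).coeff e = 0 ↔ b ⟨e, he⟩ = 0 := by
  rw [show (formPoly b).coeff e = (formPoly b).coeff (⟨e, he⟩ : FormIdx 3 4).1 from rfl, coeff_formPoly, mul_eq_zero]
  exact or_iff_right (H20Forms.multinomial_ne_zero (Nat.cast_ne_zero.2 (Nat.factorial_ne_zero 4)) ⟨e, he⟩)

theorem exp_eq (e : Fin 3 →₀ ℕ) :
    e = Finsupp.single 0 (e 0) + Finsupp.single 1 (e 1) + Finsupp.single 2 (e 2) := by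
  ext i
  fin_cases i <;> simp


/-- Let k be an algebraically closed field of characteristic zero and let SL_3 act by substitution on
ternary quartic forms, the point a having the form F = Σ_e (4; e) a_e x^e. Then a fails to be stable
(closed orbit and finite stabiliser) if and only if there is a matrix M of determinant 1 such that
the form F'(x) = F(Mx) = Σ b_ij x_0^(4−i−j) x_1^i x_2^j has b_00 = b_10 = b_01 = b_20 = b_11 = 0 and
in addition b_02 = 0 or b_30 = 0: in suitable coordinates the quartic curve has a triple point at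
(1:0:0), or a tacnode there with tangent line x_2 = 0. -/
theorem result (k : Type u) [Field k] [IsAlgClosed k] [CharZero k]
    (a : CoordGrp.FormIdx 3 4 → k) :
    ¬ @GLin.IsStableVec k _ (CoordGrp.SLn 3 k) _ _ (CoordGrp.FormIdx 3 4) (GLin.comodAlong ((CoordGrp.SLn.mkHom 3 k).comp (CoordGrp.Mat.toGLn 3 k)) (CoordGrp.formsCoact k 3 4))
      (GLin.isCoactAlg_comodAlong ((CoordGrp.SLn.mkHom 3 k).comp (CoordGrp.Mat.toGLn 3 k)) (CoordGrp.formsCoact k 3 4)
        (CoordGrp.formsCoact_isCoactAlg k 3 4))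
      a ↔
      ∃ M : Matrix (Fin 3) (Fin 3) k, M.det = 1 ∧
        ∃ F' : MvPolynomial (Fin 3) k,
          F' = MvPolynomial.aeval (fun i : Fin 3 => ∑ j : Fin 3, MvPolynomial.C (M i j) * MvPolynomial.X j)
              (CoordGrp.formPoly a) ∧
          (∀ ij : ℕ × ℕ, ij ∈ ({(0, 0), (1, 0), (0, 1), (2, 0), (1, 1)} : Finset (ℕ × ℕ)) →
            F'.coeff (Finsupp.single 0 (4 - ij.1 - ij.2) + Finsupp.single 1 ij.1 + Finsupp.single 2 ij.2) = 0) ∧
          (F'.coeff (Finsupp.single 0 2 + Finsupp.single 2 2) = 0 ∨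
            F'.coeff (Finsupp.single 0 1 + Finsupp.single 1 3) = 0) := by
  haveI : Infinite k := inferInstance
  have hsum3 : ∀ (r : Fin 3 → ℤ) (m : CoordGrp.FormIdx 3 4),
      H20Forms.weight r m = r 0 * m.1 0 + r 1 * m.1 1 + r 2 * m.1 2 := fun r m => Fin.sum_univ_three _
  have hdeg : ∀ m : CoordGrp.FormIdx 3 4, m.1 0 + m.1 1 + m.1 2 = 4 := fun m => by
    have h := m.2
    rw [Finsupp.degree_eq_sum, Fin.sum_univ_three] at h
    exact h
  constructor
  · intro hns
    have H := mt (H20Forms.isStableVec_iff a).2 hns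
    push Not at H
    obtain ⟨M₀, hM₀, r₀, hr₀, hne, hw⟩ := H
    obtain ⟨P, hP, hperm⟩ := H20Forms.exists_permuted (k := k) (n := 3) (d := 4) (by norm_num) (Tuple.sort r₀)
    let r : Fin 3 → ℤ := r₀ ∘ Tuple.sort r₀
    have hmono : Monotone r := Tuple.monotone_sort r₀
    have h01 : r 0 ≤ r 1 := hmono (by decide)
    have h12 : r 1 ≤ r 2 := hmono (by decide)
    have hs : r 0 + r 1 + r 2 = 0 := by
      rw [← Fin.sum_univ_three r]
      exact (Equiv.sum_comp (Tuple.sort r₀) r₀).trans hr₀
    have h0 : r 0 < 0 := by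
      by_contra h
      refine hne (funext fun i => ?_)
      have hr : ∀ j, r j = 0 := fun j => by fin_cases j <;> simp <;> omega
      simpa [r] using hr ((Tuple.sort r₀).symm i)
    refine ⟨M₀ * P, by rw [Matrix.det_mul, hM₀, hP, one_mul], _, rfl, ?_⟩
    rw [fp_eq]
    have key : ∀ x y z : ℕ, x + y + z = 4 → r 0 * x + r 1 * y + r 2 * z < 0 →
        (CoordGrp.formPoly (H20Forms.move (M₀ * P) a)).coeff
          (Finsupp.single 0 x + Finsupp.single 1 y + Finsupp.single 2 z) = 0 := fun x y z hxyz hneg => by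
      have he : (Finsupp.single 0 x + Finsupp.single 1 y + Finsupp.single 2 z : Fin 3 →₀ ℕ).degree = 4 := by
        simp [hxyz]
      rw [coeff_zero_iff _ _ he]
      by_contra hb
      have := hperm _ r₀ 0 hw ⟨_, he⟩ (by rw [H20Forms.move_move]; exact hb)
      rw [hsum3] at this
      simp at this
      have hr' : ∀ i, r₀ (Tuple.sort r₀ i) = r i := fun i => rfl
      simp only [hr'] at this
      omega
    refine ⟨fun ij hij => ?_, ?_⟩
    · simp only [Finset.mem_insert, Finset.mem_singleton] at hij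
      rcases hij with rfl | rfl | rfl | rfl | rfl
      all_goals refine key _ _ _ (by norm_num) (by push_cast; omega)
    · rcases le_or_gt (r 1) 0 with h1 | h1
      · right
        have := key 1 3 0 (by norm_num) (by push_cast; omega)
        simpa using this
      · left
        have := key 2 0 2 (by norm_num) (by push_cast; omega)
        simpa using this
  · rintro ⟨M, hM, F', rfl, h5, h6⟩ hst
    rw [fp_eq] at h5 h6
    have key : ∀ r : Fin 3 → ℤ, ∑ i, r i = 0 → r ≠ 0 →
        ∃ e : Fin 3 →₀ ℕ, (CoordGrp.formPoly (H20Forms.move M a)).coeff e ≠ 0 ∧ e 0 + e 1 + e 2 = 4 ∧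
          r 0 * e 0 + r 1 * e 1 + r 2 * e 2 < 0 := fun r hr hr0 => by
      obtain ⟨m, hm, hneg⟩ := (H20Forms.isStableVec_iff a).1 hst M hM r hr hr0
      exact ⟨m.1, fun h => hm ((coeff_zero_iff _ _ m.2).1 h), hdeg m, by rw [← hsum3]; exact hneg⟩
    rcases h6 with h | h
    · obtain ⟨e, he, hd, hneg⟩ := key ![-2, 1, 1] (by simp [Fin.sum_univ_three]) (fun h => by simpa using congrFun h 0)
      simp at hneg
      have hij := h5 (e 1, e 2)
      rw [show 4 - e 1 - e 2 = e 0 by omega, ← exp_eq e] at hij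
      have hcase : (e 1, e 2) ∈ ({(0, 0), (1, 0), (0, 1), (2, 0), (1, 1)} : Finset (ℕ × ℕ)) ∨
          (e 0 = 2 ∧ e 1 = 0 ∧ e 2 = 2) := by
        simp only [Finset.mem_insert, Finset.mem_singleton, Prod.mk.injEq]
        omega
      rcases hcase with hc | ⟨h0, h1, h2⟩
      · exact he (hij hc)
      · refine he ?_
        rw [exp_eq e, h0, h1, h2]
        simpa using h
    · obtain ⟨e, he, hd, hneg⟩ := key ![-1, 0, 1] (by simp [Fin.sum_univ_three]) (fun h => by simpa using congrFun h 0)
      simp at hneg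
      have hij := h5 (e 1, e 2)
      rw [show 4 - e 1 - e 2 = e 0 by omega, ← exp_eq e] at hij
      have hcase : (e 1, e 2) ∈ ({(0, 0), (1, 0), (0, 1), (2, 0), (1, 1)} : Finset (ℕ × ℕ)) ∨
          (e 0 = 1 ∧ e 1 = 3 ∧ e 2 = 0) := by
        simp only [Finset.mem_insert, Finset.mem_singleton, Prod.mk.injEq]
        omega
      rcases hcase with hc | ⟨h0, h1, h2⟩
      · exact he (hij hc)
      · refine he ?_
        rw [exp_eq e, h0, h1, h2]
        simpa using h

end Groth.Agent.S12551
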