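import Groth.Statements.S12552
import Groth.Agent.H20GIT.BasePacking

set_option autoImplicit false
universe u
open GIT

namespace Groth.Agent.S12552

/-- Let V be a finite-dimensional vector space over a field K and x_0, …, x_m non-zero vectors, a
configuration of m + 1 points of P(V); a set S of dim V indices with (x_j)_(j ∈ S) linearly
independent is a determinant section non-zero at the configuration. Then the configuration is stable
(for every subspace L with 0 ≠ L ≠ V, the number of i with x_i ∈ L times dim V is less than dim L ·
(m + 1)) if and only if there are integers N ≥ N_0 > 0 such that for each index i some non-empty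
finite multiset of such sets S contains every index j ≠ i exactly N times and the index i exactly N
− N_0 times (a monomial in the determinant sections, non-zero at the configuration, of multidegree
(N, …, N − N_0, …, N) with the N − N_0 in place i). -/
theorem result (K : Type u) [Field K]
    (V : Type u) [AddCommGroup V] [Module K V] [FiniteDimensional K V]
    (m : ℕ) (x : Fin (m + 1) → V) (hx : ∀ i, x i ≠ 0) :
    (∀ L : Submodule K V, L ≠ ⊥ → L ≠ ⊤ →
        Set.ncard {i : Fin (m + 1) | x i ∈ L} * Module.finrank K V < Module.finrank K L * (m + 1)) ↔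
      ∃ N N₀ : ℕ, 0 < N₀ ∧ N₀ ≤ N ∧
        ∀ i : Fin (m + 1), ∃ P : Multiset (Finset (Fin (m + 1))), P ≠ 0 ∧
          (∀ S ∈ P, S.card = Module.finrank K V ∧ LinearIndependent K (fun j : S => x j)) ∧
          ∀ j : Fin (m + 1),
            Multiset.card (P.filter (fun S => j ∈ S)) = if j = i then N - N₀ else N := by
  classical
  set n := Module.finrank K V with hn
  have hV : 1 ≤ n := by
    haveI : Nontrivial V := nontrivial_of_ne _ _ (hx 0)
    exact Module.finrank_pos
  constructor
  · intro hst
    have hspan : Submodule.span K (x '' (↑(Finset.univ : Finset (Fin (m + 1))) : Set (Fin (m + 1)))) = ⊤ := by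
      by_contra htop
      set L := Submodule.span K (x '' (↑(Finset.univ : Finset (Fin (m + 1))) : Set (Fin (m + 1)))) with hL
      have hne : L ≠ ⊥ := fun h0 => hx 0 (by
        have : x 0 ∈ L := Submodule.subset_span ⟨0, by simp, rfl⟩
        rw [h0] at this
        exact (Submodule.mem_bot K).mp this)
      have h1 := hst L hne htop
      have h2 : {i : Fin (m + 1) | x i ∈ L} = Set.univ :=
        Set.eq_univ_of_forall fun i => Submodule.subset_span ⟨i, by simp, rfl⟩
      rw [h2, Set.ncard_univ, Nat.card_fin] at h1
      have := Submodule.finrank_le L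
      nlinarith
    have hrall : H20GIT.rk (K := K) x (Finset.univ : Finset (Fin (m + 1))) = n := by
      rw [H20GIT.rk, hspan, finrank_top]
    let w : Fin (m + 1) → Fin (m + 1) → ℚ := fun i j => if j = i then (n : ℚ) * n else (n : ℚ) * n + n
    let q : ℚ := ((n : ℚ) + 1) * (m + 1) - 1
    have hq : 0 ≤ q := by
      have h1 : (1 : ℚ) ≤ n := by exact_mod_cast hV
      have h2 : (0 : ℚ) ≤ m := by positivity
      simp only [q]; nlinarith
    have hsum : ∀ i (A : Finset (Fin (m + 1))),
        ∑ j ∈ A, w i j = ((n : ℚ) * n + n) * A.card - if i ∈ A then (n : ℚ) else 0 := by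
      intro i A
      have : ∀ j, w i j = ((n : ℚ) * n + n) - if j = i then (n : ℚ) else 0 := fun j => by
        simp only [w]; split_ifs <;> ring
      simp only [this, Finset.sum_sub_distrib, Finset.sum_const, nsmul_eq_mul, Finset.sum_ite_eq']
      ring
    have hA : ∀ i (A : Finset (Fin (m + 1))), ∑ j ∈ A, w i j ≤ q * H20GIT.rk (K := K) x A := by
      intro i A
      rw [hsum]
      rcases A.eq_empty_or_nonempty with rfl | ⟨a, ha⟩
      · simp only [Finset.card_empty, Nat.cast_zero, mul_zero, Finset.notMem_empty, if_false, sub_zero]
        exact mul_nonneg hq (Nat.cast_nonneg _)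
      set L := Submodule.span K (x '' (↑A : Set (Fin (m + 1)))) with hL
      have hr : H20GIT.rk (K := K) x A = Module.finrank K L := rfl
      have hn0 : (1 : ℚ) ≤ n := by exact_mod_cast hV
      rw [hr]
      by_cases htop : L = ⊤
      · rw [htop, finrank_top, ← hn]
        by_cases hi : i ∈ A
        · rw [if_pos hi]
          have hc : (A.card : ℚ) ≤ m + 1 := by
            have := Finset.card_le_univ A
            rw [Fintype.card_fin] at this
            exact_mod_cast this
          simp only [q]; nlinarith
        · rw [if_neg hi]
          have hc : (A.card : ℚ) ≤ m := by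
            have := Finset.card_lt_card (Finset.ssubset_univ_iff.mpr fun h : A = Finset.univ => hi (by rw [h]; exact Finset.mem_univ i))
            rw [Finset.card_univ, Fintype.card_fin] at this
            exact_mod_cast Nat.lt_succ_iff.mp this
          simp only [q]; nlinarith
      · have hne : L ≠ ⊥ := fun h0 => hx a (by
          have : x a ∈ L := Submodule.subset_span ⟨a, ha, rfl⟩
          rw [h0] at this
          exact (Submodule.mem_bot K).mp this)
        have h1 := hst L hne htop
        have hc : A.card ≤ Set.ncard {i : Fin (m + 1) | x i ∈ L} := by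
          rw [← Set.ncard_coe_finset]
          exact Set.ncard_le_ncard (fun j hj => Submodule.subset_span ⟨j, hj, rfl⟩)
        have h3 : A.card * n + 1 ≤ Module.finrank K L * (m + 1) :=
          (Nat.succ_le_of_lt (lt_of_le_of_lt (Nat.mul_le_mul_right n hc) h1))
        have h3' : (A.card : ℚ) * n + 1 ≤ (Module.finrank K L : ℚ) * (m + 1) := by exact_mod_cast h3
        have h4 : (Module.finrank K L : ℚ) ≤ n := by exact_mod_cast Submodule.finrank_le L
        have h5 : (0 : ℚ) ≤ if i ∈ A then (n : ℚ) else 0 := by split_ifs <;> positivity
        simp only [q]; nlinarith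
    have htot : ∀ i, ∑ j, w i j = q * H20GIT.rk (K := K) x (Finset.univ : Finset (Fin (m + 1))) := by
      intro i
      rw [hsum, hrall, if_pos (Finset.mem_univ i), Finset.card_univ, Fintype.card_fin]
      simp only [q]; push_cast; ring
    choose c hc0 hcB hcj using fun i => H20GIT.exists_packing (K := K) x (w i) q hq (hA i) (htot i)
    let D : ℕ := ∏ p : Fin (m + 1) × Finset (Fin (m + 1)), (c p.1 p.2).den
    have hD : 0 < D := Finset.prod_pos fun p _ => (c p.1 p.2).den_pos
    have hint : ∀ i B, ∃ k : ℕ, (k : ℚ) = D * c i B := by
      intro i B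
      obtain ⟨d, hd⟩ : (c i B).den ∣ D :=
        Finset.dvd_prod_of_mem (fun p : Fin (m + 1) × Finset (Fin (m + 1)) => (c p.1 p.2).den)
          (Finset.mem_univ (i, B))
      have hnum : 0 ≤ (c i B).num := Rat.num_nonneg.mpr (hc0 i B)
      refine ⟨d * (c i B).num.toNat, ?_⟩
      have h6 : ((c i B).den : ℚ) * c i B = ((c i B).num : ℚ) := Rat.den_mul_eq_num _
      have h7 : (((c i B).num.toNat : ℕ) : ℚ) = ((c i B).num : ℚ) := by
        exact_mod_cast Int.toNat_of_nonneg hnum
      rw [hd, Nat.cast_mul, Nat.cast_mul, h7, ← h6]
      ring
    choose k hk using hint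
    refine ⟨(n * n + n) * D, n * D, Nat.mul_pos hV hD,
      Nat.mul_le_mul_right D (Nat.le_add_left n (n * n)), fun i => ?_⟩
    let P : Multiset (Finset (Fin (m + 1))) := ∑ B : Finset (Fin (m + 1)), Multiset.replicate (k i B) B
    have hmem : ∀ S ∈ P, c i S ≠ 0 := by
      intro S hS h0
      obtain ⟨B, -, hB⟩ := Multiset.mem_sum.mp hS
      obtain ⟨hk0, rfl⟩ := Multiset.mem_replicate.mp hB
      exact hk0 (by exact_mod_cast (show (k i S : ℚ) = 0 by rw [hk, h0, mul_zero]))
    have hcount : ∀ j, Multiset.card (P.filter fun S => j ∈ S) =
        if j = i then (n * n + n) * D - n * D else (n * n + n) * D := by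
      intro j
      have h1 : Multiset.card (P.filter fun S => j ∈ S) =
          ∑ B ∈ Finset.univ.filter (j ∈ ·), k i B := by
        rw [← Multiset.countP_eq_card_filter, Finset.sum_filter]
        show Multiset.countPAddMonoidHom (fun S => j ∈ S) P = _
        rw [map_sum]
        refine Finset.sum_congr rfl fun B _ => ?_
        show Multiset.countP (fun S => j ∈ S) (Multiset.replicate (k i B) B) = _
        rw [Multiset.countP_eq_card_filter, Multiset.filter_congr (q := fun _ => j ∈ B)
          (fun S hS => by rw [Multiset.eq_of_mem_replicate hS])]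
        split_ifs with h <;> simp [h]
      have h2 : (Multiset.card (P.filter fun S => j ∈ S) : ℚ) = D * w i j := by
        rw [h1, Nat.cast_sum, Finset.sum_congr rfl fun B _ => hk i B, ← Finset.mul_sum, hcj]
      rw [← Nat.sub_mul, Nat.add_sub_cancel]
      simp only [w] at h2
      split_ifs with h
      · rw [if_pos h] at h2
        exact_mod_cast h2.trans (by push_cast; ring : (D : ℚ) * (n * n) = ((n * n * D : ℕ) : ℚ))
      · rw [if_neg h] at h2
        exact_mod_cast h2.trans (by push_cast; ring : (D : ℚ) * (n * n + n) = (((n * n + n) * D : ℕ) : ℚ))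
    refine ⟨P, fun h0 => ?_, fun S hS => ?_, hcount⟩
    · have h1 := hcount i
      rw [if_pos rfl, h0, ← Nat.sub_mul, Nat.add_sub_cancel] at h1
      simp only [Multiset.filter_zero, Multiset.card_zero] at h1
      exact absurd h1.symm (Nat.mul_pos (Nat.mul_pos hV hV) hD).ne'
    · obtain ⟨h1, h2⟩ := hcB i S (hmem S hS)
      exact ⟨h1.trans hrall, h2⟩
  · rintro ⟨N, N₀, hN₀, hle, hP⟩ L hbot htop
    set C := Finset.univ.filter fun i => x i ∈ L with hC
    have hCcard : Set.ncard {i : Fin (m + 1) | x i ∈ L} = C.card := by
      rw [← Set.ncard_coe_finset]; congr 1; ext j; simp [hC]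
    rw [hCcard]
    set d := Module.finrank K L with hd
    have hdn : d < n := Submodule.finrank_lt htop
    have hd0 : 1 ≤ d := Nat.one_le_iff_ne_zero.mpr fun h => hbot (Submodule.finrank_eq_zero.mp h)
    have hS : ∀ S : Finset (Fin (m + 1)), LinearIndependent K (fun j : S => x j) →
        (C.filter fun j => j ∈ S).card ≤ d := by
      intro S hS
      let f : {j // j ∈ C.filter fun j => j ∈ S} → L := fun j =>
        ⟨x j.1, (Finset.mem_filter.mp (Finset.mem_filter.mp j.2).1).2⟩
      have hf : LinearIndependent K f := by
        apply LinearIndependent.of_comp L.subtype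
        exact hS.comp (fun j : {j // j ∈ C.filter fun j => j ∈ S} => (⟨j.1, (Finset.mem_filter.mp j.2).2⟩ : S))
          (fun a b hab => Subtype.ext (congrArg (fun z : S => z.1) hab))
      have := hf.fintype_card_le_finrank
      rwa [Fintype.card_coe] at this
    have hdc : ∀ (A : Finset (Fin (m + 1))) (P : Multiset (Finset (Fin (m + 1)))),
        ∑ j ∈ A, Multiset.card (P.filter fun S => j ∈ S) = (P.map fun S => (A.filter fun j => j ∈ S).card).sum := by
      intro A P
      induction P using Multiset.induction with
      | empty => simp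
      | cons S P ih =>
        simp only [Multiset.filter_cons, Multiset.card_add, Finset.sum_add_distrib, ih, Multiset.map_cons,
          Multiset.sum_cons]
        congr 1
        rw [Finset.card_filter]
        refine Finset.sum_congr rfl fun j _ => ?_
        split_ifs <;> simp
    by_cases hall : ∃ i, i ∉ C
    · obtain ⟨i, hi⟩ := hall
      obtain ⟨P, -, hPS, hPc⟩ := hP i
      have h1 : ∑ j ∈ C, Multiset.card (P.filter fun S => j ∈ S) = C.card * N := by
        rw [Finset.sum_congr rfl fun j hj => (hPc j).trans (if_neg (fun h : j = i => hi (h ▸ hj))),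
          Finset.sum_const, smul_eq_mul]
      have h2 : C.card * N ≤ P.card * d := by
        rw [← h1, hdc]
        refine (Multiset.sum_le_card_nsmul _ d fun z hz => ?_).trans (by rw [Multiset.card_map, smul_eq_mul])
        obtain ⟨S, hS', rfl⟩ := Multiset.mem_map.mp hz
        exact hS S (hPS S hS').2
      have h3 : P.card * n + N₀ = (m + 1) * N := by
        have h4 : ∑ j, Multiset.card (P.filter fun S => j ∈ S) = P.card * n := by
          rw [hdc, Multiset.map_congr rfl fun S hS' => (show (Finset.univ.filter fun j => j ∈ S).card = n by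
            rw [Finset.filter_univ_mem]; exact (hPS S hS').1), Multiset.map_const', Multiset.sum_replicate,
            smul_eq_mul]
        rw [← h4, Finset.sum_congr rfl fun j _ => hPc j, Finset.sum_ite, Finset.filter_eq',
          if_pos (Finset.mem_univ i), Finset.filter_ne', Finset.sum_const, Finset.sum_const,
          Finset.card_erase_of_mem (Finset.mem_univ i), Finset.card_univ, Fintype.card_fin,
          Finset.card_singleton, one_smul, smul_eq_mul, Nat.add_sub_cancel, Nat.add_one_mul]
        omega
      have hN : 0 < N := hN₀.trans_le hle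
      nlinarith
    · push Not at hall
      obtain ⟨P, hP0, hPS, -⟩ := hP 0
      obtain ⟨S, hSP⟩ := Multiset.exists_mem_of_ne_zero hP0
      obtain ⟨hScard, hSind⟩ := hPS S hSP
      have := hS S hSind
      rw [show (C.filter fun j => j ∈ S) = S from by ext j; simp [hall j]] at this
      omega

end Groth.Agent.S12552
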