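import Groth.Statements.S12553
import Groth.Agent.H20Comod.OrbitClosure
import Groth.Agent.H20Comod.Diag
import Groth.Agent.H20Comod.InvRegular

set_option autoImplicit false
universe u
open TensorProduct LaurentPolynomial
open GIT

namespace Groth.Agent.S12553
open LaurentPolynomial in
theorem coeff_toLaurent_neg {k : Type u} [Field k] (p : Polynomial k) {n : ℤ} (hn : n < 0) :
    (Polynomial.toLaurent p).coeff n = 0 := by
  induction p using Polynomial.induction_on' with
  | add p q hp hq => simp only [map_add, AddMonoidAlgebra.coeff_add, Finsupp.add_apply, hp, hq, add_zero]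
  | monomial i a =>
    rw [Polynomial.toLaurent_C_mul_T, ← single_eq_C_mul_T, AddMonoidAlgebra.coeff_single,
      Finsupp.single_eq_of_ne (by omega)]

open LaurentPolynomial in
theorem eval_zero_eq_coeff_toLaurent {k : Type u} [Field k] (p : Polynomial k) :
    Polynomial.aeval (0 : k) p = (Polynomial.toLaurent p).coeff 0 := by
  induction p using Polynomial.induction_on' with
  | add p q hp hq => simp only [map_add, hp, hq, AddMonoidAlgebra.coeff_add, Finsupp.add_apply]
  | monomial i a =>
    rw [Polynomial.toLaurent_C_mul_T, ← single_eq_C_mul_T, AddMonoidAlgebra.coeff_single, Polynomial.aeval_monomial]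
    rcases Nat.eq_zero_or_pos i with rfl | hi
    · simp
    · rw [zero_pow hi.ne', mul_zero, Finsupp.single_eq_of_ne (by omega)]

open LaurentPolynomial in
theorem coeff_smul_T {k : Type u} [Field k] (c : k) (a n : ℤ) :
    (c • (T a : k[T;T⁻¹])).coeff n = if a = n then c else 0 := by
  rw [AddMonoidAlgebra.coeff_smul, Finsupp.smul_apply, T_apply]
  simp


/-- Let k be a field and T = Spec A a diagonalizable affine group (A a commutative Hopf algebra spanned
by its group-like elements, e.g. a torus) acting linearly on affine ι-space. Then there are finitely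
many characters χ_1, …, χ_N of T (group-like elements of A) such that every vector v ≠ 0 has a
non-empty set I of indices for which, for every one-parameter subgroup λ of T with λ(χ_j) = t^(e_j),
the numerical function μ(v, λ) (the m for which t^m · (v moved by λ(t)) tends to a non-zero vector)
equals the maximum of −e_j over j ∈ I: μ is the maximum of finitely many linear functionals on
one-parameter subgroups. (The published proposition concerns a maximal torus of a reductive group
acting on a proper scheme with an ample linearised invertible sheaf; this row is the case of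
projective space with the hyperplane bundle, for any diagonalizable group acting linearly, stated on
the affine cone.) -/
theorem result (k : Type u) [Field k]
    (A : Type u) [CommRing A] [HopfAlgebra k A] (hdiag : HopfRep.IsDiagonalizable k A)
    (ι : Type u) [Fintype ι] [HopfRep.Comod k A (MvPolynomial ι k)] [GLin.IsCoactAlg k A (MvPolynomial ι k)]
    (hlin : GLin.IsLinear k A ι) :
    ∃ (N : ℕ) (χ : Fin N → A), (∀ j, IsGroupLikeElem k (χ j)) ∧
      ∀ v : ι → k, v ≠ 0 → ∃ I : Finset (Fin N), I.Nonempty ∧
        ∀ (lam : A →ₐc[k] k[T;T⁻¹]) (e : Fin N → ℤ), (∀ j, lam (χ j) = LaurentPolynomial.T (e j)) →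
          ∀ m : ℤ, GLin.IsMu k A lam v m ↔ ((∀ j ∈ I, -e j ≤ m) ∧ ∃ j ∈ I, m = -e j) := by
  classical
  obtain ⟨c, hc⟩ : ∃ c : ι → ι → A, ∀ i, HopfRep.Comod.coact (k := k) (A := A) (MvPolynomial.X i : MvPolynomial ι k) =
      ∑ j, (MvPolynomial.X j : MvPolynomial ι k) ⊗ₜ[k] c i j := ⟨fun i => (hlin i).choose, fun i => (hlin i).choose_spec⟩
  have hl : ∀ i j, ∃ l : A →₀ k, (∀ a ∈ l.support, IsGroupLikeElem k a) ∧ Finsupp.linearCombination k id l = c i j := by
    intro i j
    have h : c i j ∈ Submodule.span k (id '' {a : A | IsGroupLikeElem k a}) := by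
      rw [Set.image_id, show Submodule.span k {a : A | IsGroupLikeElem k a} = ⊤ from hdiag]
      trivial
    obtain ⟨l, hl, hle⟩ := (Finsupp.mem_span_image_iff_linearCombination k).1 h
    exact ⟨l, fun a ha => (Finsupp.mem_supported k l).1 hl ha, hle⟩
  choose l hlG hlc using hl
  let S : Finset A := Finset.univ.biUnion fun p : ι × ι => (l p.1 p.2).support
  have hSG : ∀ a ∈ S, IsGroupLikeElem k a := fun a ha => by
    obtain ⟨p, -, hp⟩ := Finset.mem_biUnion.1 ha
    exact hlG _ _ a hp
  have hcS : ∀ i j, c i j = ∑ a ∈ S, l i j a • a := fun i j => by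
    rw [← hlc i j, Finsupp.linearCombination_apply, Finsupp.sum]
    refine Finset.sum_subset (fun a ha => Finset.mem_biUnion.2 ⟨(i, j), Finset.mem_univ _, ha⟩) fun a _ ha => ?_
    rw [Finsupp.notMem_support_iff.1 ha, zero_smul]
  refine ⟨S.card, fun j => (S.equivFin.symm j : A), fun j => hSG _ (S.equivFin.symm j).2, fun v hv => ?_⟩
  set χ : Fin S.card → A := fun j => (S.equivFin.symm j : A) with hχdef
  have hχinj : Function.Injective χ := Subtype.val_injective.comp S.equivFin.symm.injective
  have hsumS : ∀ (g : A → A), ∑ a ∈ S, g a = ∑ j, g (χ j) := fun g => by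
    rw [← Finset.sum_coe_sort S, ← S.equivFin.symm.sum_comp]
  let d : Fin S.card → ι → k := fun q i => ∑ j, v j * l i j (χ q)
  have horb : ∀ i, GLin.orbitHom k A (GLin.vecPt k ι v) (MvPolynomial.X i) = ∑ q, d q i • χ q := by
    intro i
    show Algebra.TensorProduct.lid k A (Algebra.TensorProduct.map (GLin.vecPt k ι v) (AlgHom.id k A)
      (HopfRep.Comod.coact (k := k) (A := A) (MvPolynomial.X i : MvPolynomial ι k))) = _
    rw [hc, map_sum, map_sum]
    simp only [Algebra.TensorProduct.map_tmul, Algebra.TensorProduct.lid_tmul, MvPolynomial.aeval_X,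
      AlgHom.coe_id, id_eq, hcS, hsumS (fun a => l i _ a • a), Finset.smul_sum, smul_smul, d, Finset.sum_smul]
    exact Finset.sum_comm
  let I : Finset (Fin S.card) := Finset.univ.filter fun q => ∃ i, d q i ≠ 0
  have hI : I.Nonempty := by
    by_contra hne
    apply hv
    funext i
    have h := congrArg (CoalgebraStruct.counit (R := k)) (horb i)
    rw [map_sum] at h
    have hε : CoalgebraStruct.counit (R := k) (GLin.orbitHom k A (GLin.vecPt k ι v) (MvPolynomial.X i)) = v i := by
      rw [← H20Comod.orbitHom_sliceR (R := MvPolynomial ι k) (GLin.vecPt k ι v) (CoalgebraStruct.counit (R := k)),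
        H20Comod.actL_counit]
      exact MvPolynomial.aeval_X _ _
    rw [hε] at h
    rw [h]
    refine Finset.sum_eq_zero fun q _ => ?_
    rw [map_smul, show d q i = 0 by
      by_contra hq
      exact hne ⟨q, Finset.mem_filter.2 ⟨Finset.mem_univ q, i, hq⟩⟩, zero_smul]
  -- weight vectors with distinct weights do not cancel
  have hind : ∀ T : Finset (Fin S.card), (∀ i, ∑ q ∈ T, d q i = 0) → ∀ q ∈ T, ∀ i, d q i = 0 := by
    intro T hT
    have heig : ∀ q i, d q i • χ q = ∑ j, d q j • c i j := by
      intro q i
      obtain ⟨φ, hφ1, hφ0⟩ := H20Comod.exists_dual_groupLike (k := k) (hSG (χ q) (S.equivFin.symm q).2)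
      have hφ : ∀ r, φ (χ r) = if r = q then 1 else 0 := fun r => by
        by_cases h : r = q
        · rw [if_pos h, h, hφ1]
        · rw [if_neg h, hφ0 _ (hSG (χ r) (S.equivFin.symm r).2) fun h' => h (hχinj h')]
      have h := congrArg (fun z => TensorProduct.lid k A (φ.rTensor A z))
        (H20Comod.comul_orbitHom (A := A) (GLin.vecPt k ι v) (MvPolynomial.X i : MvPolynomial ι k))
      rw [hc] at h
      simp only [map_sum, LinearMap.rTensor_tmul, AlgHom.toLinearMap_apply, TensorProduct.lid_tmul, horb,
        map_smul, smul_eq_mul, hφ, mul_ite, mul_one, mul_zero, Finset.sum_ite_eq', Finset.mem_univ, if_true] at h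
      have hcom : ∀ r, CoalgebraStruct.comul (R := k) (χ r) = χ r ⊗ₜ[k] χ r :=
        fun r => (hSG (χ r) (S.equivFin.symm r).2).comul_eq_tmul_self
      simpa only [hcom, LinearMap.rTensor_tmul, TensorProduct.lid_tmul, hφ, ite_smul, one_smul, zero_smul, smul_ite,
        smul_zero, Finset.sum_ite_eq', Finset.mem_univ, if_true] using h
    have hzero : ∀ i, ∑ q ∈ T, d q i • χ q = 0 := by
      intro i
      rw [Finset.sum_congr rfl fun q _ => heig q i, Finset.sum_comm]
      exact Finset.sum_eq_zero fun j _ => by rw [← Finset.sum_smul, hT, zero_smul]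
    intro q hq i
    have hli : LinearIndependent k χ :=
      (linearIndepOn_isGroupLikeElem (R := k) (A := A)).linearIndependent.comp
        (fun r => ⟨χ r, hSG (χ r) (S.equivFin.symm r).2⟩) fun a b h => hχinj (congrArg Subtype.val h :)
    exact linearIndependent_iff'.1 hli T (fun r => d r i) (hzero i) q hq
  refine ⟨I, hI, fun lam e he m => ?_⟩
  have hF : ∀ i, GLin.shiftedOrbit k A lam v m (MvPolynomial.X i) =
      ∑ q, d q i • LaurentPolynomial.T (m + e q) := by
    intro i
    show MvPolynomial.aeval _ (MvPolynomial.X i) = _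
    rw [MvPolynomial.aeval_X]
    show LaurentPolynomial.T m * lam (GLin.orbitHom k A (GLin.vecPt k ι v) (MvPolynomial.X i)) = _
    rw [horb, map_sum, Finset.mul_sum]
    refine Finset.sum_congr rfl fun q _ => ?_
    rw [map_smul, mul_smul_comm, he, LaurentPolynomial.T_add]
  have hco : ∀ i n, (GLin.shiftedOrbit k A lam v m (MvPolynomial.X i)).coeff n =
      ∑ q ∈ Finset.univ.filter (fun q => m + e q = n), d q i := by
    intro i n
    rw [hF, AddMonoidAlgebra.coeff_sum, Finsupp.finsetSum_apply, Finset.sum_filter]
    exact Finset.sum_congr rfl fun q _ => coeff_smul_T _ _ _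
  have hzero : ∀ n, (∀ i, (GLin.shiftedOrbit k A lam v m (MvPolynomial.X i)).coeff n = 0) →
      ∀ q ∈ I, m + e q ≠ n := by
    intro n hn q hq hqn
    obtain ⟨i, hi⟩ := (Finset.mem_filter.1 hq).2
    exact hi (hind _ (fun i => (hco i n).symm.trans (hn i)) q (Finset.mem_filter.2 ⟨Finset.mem_univ q, hqn⟩) i)
  constructor
  · rintro ⟨h, hh, h0⟩
    have hX : ∀ i, GLin.shiftedOrbit k A lam v m (MvPolynomial.X i) =
        Polynomial.toLaurent (h (MvPolynomial.X i)) := fun i => by rw [← hh]; rfl
    refine ⟨fun q hq => ?_, ?_⟩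
    · by_contra hlt
      exact hzero _ (fun i => by rw [hX]; exact coeff_toLaurent_neg _ (by omega)) q hq rfl
    · by_contra hne
      push Not at hne
      refine h0 (MvPolynomial.algHom_ext fun i => ?_)
      rw [AlgHom.comp_apply, eval_zero_eq_coeff_toLaurent, ← hX, hco, MvPolynomial.aeval_X]
      refine Finset.sum_eq_zero fun q hq => ?_
      by_contra hd
      exact hne q (Finset.mem_filter.2 ⟨Finset.mem_univ q, i, hd⟩) (by
        have := (Finset.mem_filter.1 hq).2
        omega)
  · rintro ⟨hle, q₀, hq₀, hm⟩
    let h : MvPolynomial ι k →ₐ[k] Polynomial k :=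
      MvPolynomial.aeval fun i => ∑ q ∈ I, d q i • Polynomial.X ^ (m + e q).toNat
    have hh : (Polynomial.toLaurentAlg (R := k)).comp h = GLin.shiftedOrbit k A lam v m := by
      refine MvPolynomial.algHom_ext fun i => ?_
      rw [AlgHom.comp_apply, hF]
      simp only [h, MvPolynomial.aeval_X, map_sum, map_smul, Polynomial.toLaurentAlg_apply, Polynomial.toLaurent_X_pow]
      rw [Finset.sum_congr rfl fun q hq => by
        rw [Int.toNat_of_nonneg (by have := hle q hq; omega : 0 ≤ m + e q)]]
      refine Finset.sum_subset (Finset.subset_univ I) fun q _ hq => ?_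
      rw [show d q i = 0 by
        by_contra hd
        exact hq (Finset.mem_filter.2 ⟨Finset.mem_univ q, i, hd⟩), zero_smul]
    refine ⟨h, hh, fun h0 => hzero 0 (fun i => ?_) q₀ hq₀ (by omega)⟩
    rw [← hh, AlgHom.comp_apply, Polynomial.toLaurentAlg_apply, ← eval_zero_eq_coeff_toLaurent]
    exact (DFunLike.congr_fun h0 (MvPolynomial.X i)).trans (MvPolynomial.aeval_X _ i)

end Groth.Agent.S12553
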