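import Groth.Statements.S12555
import Groth.Agent.H20Comod.Invariants

set_option autoImplicit false
universe u
open TensorProduct
open GIT

namespace Groth.Agent.S12555

/-- Let k be a field, G = Spec A a linearly reductive affine group (A a commutative Hopf algebra whose
finite-dimensional comodules are all semisimple) and V a representation of G of any dimension (an
A-comodule). Then there is exactly one linear map E : V → V commuting with the coaction, with E ∘ E
= E, and with E x = x exactly for the invariant vectors x. -/
theorem result (k : Type u) [Field k] (A : Type u) [CommRing A] [HopfAlgebra k A]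
    (hG : HopfRep.IsLinearlyReductive k A) (V : Type u) [AddCommGroup V] [Module k V] [HopfRep.Comod k A V] :
    ∃! E : V →ₗ[k] V, Hoch.IsComodHom A E ∧ E ∘ₗ E = E ∧ ∀ x : V, E x = x ↔ x ∈ HopfRep.fixedPts k A V := by
  obtain ⟨α, hα, h1⟩ := H20Comod.isLinearlyReductive_iff_exists_isIntegral.1 hG
  refine ⟨H20Comod.actL α, ⟨H20Comod.isComodHom_actL hα h1, ?_, fun x => ⟨fun h => ?_, H20Comod.actL_eq_self_of_fixed h1⟩⟩, ?_⟩
  · exact LinearMap.ext fun x => H20Comod.actL_eq_self_of_fixed h1 (H20Comod.actL_mem_fixedPts hα h1 x)
  · exact h ▸ H20Comod.actL_mem_fixedPts hα h1 x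
  · exact fun E hE => H20Comod.existsUnique_isComodHom_idempotent hα h1 hE.1 hE.2.1 hE.2.2

end Groth.Agent.S12555
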