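import Groth.Statements.S12556
import Groth.Agent.H20Comod.Tame
import Groth.Agent.H20Comod.LinRed

set_option autoImplicit false
universe u
open TensorProduct
open GIT

namespace Groth.Agent.S12556

/-- Let k be a field, G = Spec A a linearly reductive affine group (A a commutative Hopf algebra whose
finite-dimensional comodules are all semisimple) acting on the affine scheme Spec R (a
multiplicative coaction of A on the commutative k-algebra R), and E : R → R a linear map commuting
with the coaction, idempotent, and fixing exactly the invariant elements. Then E(x · y) = E(x) · y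
for all x in R and all invariant y. -/
theorem result (k : Type u) [Field k] (A : Type u) [CommRing A] [HopfAlgebra k A]
    (hG : HopfRep.IsLinearlyReductive k A)
    (R : Type u) [CommRing R] [Algebra k R] [HopfRep.Comod k A R] [GLin.IsCoactAlg k A R]
    (E : R →ₗ[k] R) (h₁ : Hoch.IsComodHom A E) (h₂ : E ∘ₗ E = E)
    (h₃ : ∀ x : R, E x = x ↔ x ∈ GLin.invariants k A R)
    (x y : R) (hy : y ∈ GLin.invariants k A R) : E (x * y) = E x * y := by
  obtain ⟨α₀, hα₀, h1⟩ := H20Comod.exists_isIntegral_of_isLinearlyReductive hG
  haveI := H20Comod.isHopfMod_self (k := k) (A := A) (B := R)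
  let α := Algebra.linearMap k R ∘ₗ α₀
  have hα : Hoch.IsComodHom A α :=
    H20Comod.isComodHom_algebraMap_comp (H20Comod.rTensor_comul_eq_of_isIntegral hα₀)
  have hα1 : α 1 = 1 := by simp [α, h1]
  have hsc : ∀ z, TameAct.reynolds k A R R α z = TameAct.reynolds k A k R α₀ z := by
    intro z
    rw [H20Comod.reynolds_tmul_eq, H20Comod.reynolds_tmul_eq]
    generalize HopfRep.Comod.coact (k := k) (A := A) z = t
    induction t using TensorProduct.induction_on with
    | zero => simp
    | tmul p q => simp [α, Algebra.smul_def]
    | add u v hu hv => simp only [map_add, hu, hv]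
  have hE : ∀ z, E z = TameAct.reynolds k A R R α z := by
    intro z
    have a1 : E z ∈ HopfRep.fixedPts k A R := (h₃ _).1 (LinearMap.congr_fun h₂ z)
    have a2 := H20Comod.reynolds_mem_fixedPts hα z
    calc E z = TameAct.reynolds k A R R α (E z) := (H20Comod.reynolds_eq_self hα1 a1).symm
      _ = TameAct.reynolds k A k R α₀ (E z) := hsc _
      _ = E (TameAct.reynolds k A k R α₀ z) := H20Comod.reynolds_map α₀ E h₁ z
      _ = _ := by rw [← hsc]; exact (h₃ _).2 a2
  rw [hE, hE, mul_comm x, mul_comm _ y]
  exact H20Comod.reynolds_smul_of_fixed α hy x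

end Groth.Agent.S12556
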