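import Groth.Statements.S12570
import Mathlib
import Groth.Agent.H23Diff.Setup

set_option autoImplicit false
universe u v w
open FunFld

namespace Groth.Agent.S12570

/-- For a place `Q` of a finite separable extension `K'` of a geometric function field of one variable
`K/k`, lying over `P` with ramification index `e`, both places having Laurent expansions over `k` in
local parameters (separable places), and `x` with `dx` of finite order above and below: the
different exponent `d(Q|P)`, computed on `dx`, is `e - 1` if `char K` does not divide `e`, and is `≥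
e` otherwise. (The published statement allows any finite extension along which differentials of `K`
pull back injectively; this row takes `K'` separable over `K`.) -/
theorem result (k : Type u) (K K' : Type v) [Field k] [Field K] [Field K'] [Algebra k K] [Algebra K K'] [Algebra k K']
    [IsScalarTower k K K'] [FiniteDimensional K K'] [Algebra.IsSeparable K K']
    (hK : FunFld.IsFunctionField k K) (hg : FunFld.IsGeometric k K)
    (F F' : Type w) [Field F] [Algebra k F] [Field F'] [Algebra k F']
    (P : FunFld.Place k K) (Q : FunFld.Place k K') (e : ℕ) (he : FunFld.IsOverWith Q P e)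
    (φ : K →ₐ[k] LaurentSeries F) (hφ : LocRes.IsExpansionAt P.1 φ)
    (ψ : K' →ₐ[k] LaurentSeries F') (hψ : LocRes.IsExpansionAt Q.1 ψ)
    (x : K) (hx : LocRes.vDiff φ 1 x ≠ 0) (hx' : LocRes.vDiff ψ 1 (algebraMap K K' x) ≠ 0) :
    (¬ (ringChar K ∣ e) → LocRes.diffExp φ ψ e x = (e : ℤ) - 1) ∧
    (ringChar K ∣ e → (e : ℤ) ≤ LocRes.diffExp φ ψ e x) := by
  classical
  obtain ⟨t, -, ht⟩ := Groth.Agent.H23FunFld.exists_val_eq P (-1)
  obtain ⟨hne, hd⟩ := Groth.Agent.H23Diff.diffExp_eq_ordDiff hK hg hφ hψ he hx hx' ht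
  set f := ψ (algebraMap K K' t)
  have hf : Valued.v f = WithZero.exp (-(e : ℤ)) := by
    rw [hψ.1, he, ht, ← WithZero.exp_nsmul, nsmul_eq_mul, mul_neg_one]
  have hlow : ∀ n : ℤ, n < e → f.coeff n = 0 := fun n hn =>
    LaurentSeries.coeff_zero_of_lt_valuation F' hf.le hn
  have htop : f.coeff e ≠ 0 := fun h0 => by
    have h1 : Valued.v f ≤ WithZero.exp (-((e : ℤ) + 1)) := by
      rw [LaurentSeries.valuation_le_iff_coeff_lt_eq_zero]
      intro n hn
      rcases lt_or_eq_of_le (Int.lt_add_one_iff.1 hn) with h | rfl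
      · exact hlow n h
      · exact h0
    rw [hf, WithZero.exp_le_exp] at h1
    omega
  have hDlow : ∀ n : ℤ, n < (e : ℤ) - 1 → (LocRes.D F' f).coeff n = 0 := fun n hn => by
    rw [LocRes.D_coeff, hlow (n + 1) (by omega), smul_zero]
  have hv : LocRes.vDiff ψ 1 (algebraMap K K' t) = Valued.v (LocRes.D F' f) := by
    rw [LocRes.vDiff, map_one, one_mul]
  have hle : Valued.v (LocRes.D F' f) ≤ WithZero.exp (-((e : ℤ) - 1)) :=
    (LaurentSeries.valuation_le_iff_coeff_lt_eq_zero F').2 hDlow
  have hp : ∀ m : ℕ, (m : F') = 0 ↔ ringChar K ∣ m := fun m => by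
    rw [← ringChar.spec K m,
      ← map_natCast (algebraMap k F') m, ← map_natCast (algebraMap k K) m, map_eq_zero, map_eq_zero]
  rw [hd, LocRes.ordDiff, hv]
  rw [hv] at hne
  have hpos := Groth.Agent.H23Ext.IsOverWith.pos he
  rw [← WithZero.exp_log hne, WithZero.exp_le_exp] at hle
  constructor
  · intro hdvd
    refine le_antisymm (not_lt.1 fun hlt => ?_) (by omega)
    have h1 := LaurentSeries.coeff_zero_of_lt_valuation F' (f := LocRes.D F' f) (n := (e : ℤ) - 1) (D := (e : ℤ))
      (by rw [← WithZero.exp_log hne, WithZero.exp_le_exp]; omega) (by omega)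
    rw [LocRes.D_coeff, sub_add_cancel, zsmul_eq_mul, mul_eq_zero, Int.cast_natCast, hp] at h1
    exact htop (h1.resolve_left hdvd)
  · intro hdvd
    have h1 : Valued.v (LocRes.D F' f) ≤ WithZero.exp (-(e : ℤ)) := by
      rw [LaurentSeries.valuation_le_iff_coeff_lt_eq_zero]
      intro n hn
      rcases lt_or_eq_of_le (show n ≤ (e : ℤ) - 1 by omega) with h | rfl
      · exact hDlow n h
      · rw [LocRes.D_coeff, sub_add_cancel, zsmul_eq_mul, Int.cast_natCast, (hp e).2 hdvd, zero_mul]
    rw [← WithZero.exp_log hne, WithZero.exp_le_exp] at h1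
    omega

end Groth.Agent.S12570
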