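import Groth.Statements.S12572
import Mathlib
import Groth.Agent.H23Diff.Setup

set_option autoImplicit false
universe u v w
open FunFld

namespace Groth.Agent.S12572

/-- Let `Q` be a place of a finite separable extension `K'` of a geometric function field of one
variable `K/k`, over `P` with ramification index `e` and residue degree `1`, both places with
Laurent expansions over `k` in local parameters; if `s` with `v_Q(s) = 1` is a unit at every other
place of `K'` above `P`, then `K'` is generated over `K` by `s`, and `d(Q|P) = v_Q(f'(s))` for the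
minimal polynomial `f` of `s` over `K` (the different exponent computed on `dx`). -/
theorem result (k : Type u) (K K' : Type v) [Field k] [Field K] [Field K'] [Algebra k K] [Algebra K K'] [Algebra k K']
    [IsScalarTower k K K'] [FiniteDimensional K K'] [Algebra.IsSeparable K K']
    (hK : FunFld.IsFunctionField k K) (hg : FunFld.IsGeometric k K)
    (F F' : Type w) [Field F] [Algebra k F] [Field F'] [Algebra k F']
    (P : FunFld.Place k K) (Q : FunFld.Place k K') (e : ℕ) (he : FunFld.IsOverWith Q P e)
    (φ : K →ₐ[k] LaurentSeries F) (hφ : LocRes.IsExpansionAt P.1 φ)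
    (ψ : K' →ₐ[k] LaurentSeries F') (hψ : LocRes.IsExpansionAt Q.1 ψ)
    (x : K) (hx : LocRes.vDiff φ 1 x ≠ 0) (hx' : LocRes.vDiff ψ 1 (algebraMap K K' x) ≠ 0)
    [P.1.HasExtension Q.1]
    (hf : Function.Surjective (algebraMap (IsLocalRing.ResidueField P.O) (IsLocalRing.ResidueField Q.O)))
    (s : K') (hs : Q.1 s = WithZero.exp (-1))
    (hs' : ∀ Q' : FunFld.Place k K', FunFld.IsOver Q' P → Q' ≠ Q → Q'.1 s = 1) :
    IntermediateField.adjoin K ({s} : Set K') = ⊤ ∧
    Q.ord (Polynomial.aeval s (Polynomial.derivative (minpoly K s))) = LocRes.diffExp φ ψ e x := by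
  have hres : ∀ z : K', Q.1 z ≤ 1 → ∃ a : K, P.1 a ≤ 1 ∧ Q.1 (z - algebraMap K K' a) < 1 :=
    fun z hz => Groth.Agent.H23Diff.hres_of_surjective hf hz
  exact ⟨Groth.Agent.H23Diff.adjoin_eq_top hK ⟨e, he⟩ hres hs hs',
    Groth.Agent.H23Diff.ord_fp_eq_diffExp hK hg hφ hψ he hx hx' hres hs hs'⟩

end Groth.Agent.S12572
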