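import Groth.Statements.S12573
import Mathlib
import Groth.Agent.H23Diff.Setup

set_option autoImplicit false
universe u v w
open FunFld

namespace Groth.Agent.S12573

/-- For a place `Q` of a finite separable extension `K'` of a geometric function field of one variable
`K/k`, lying over `P` with ramification index `e = [K' : K]`, both places with Laurent expansions
over `k` in local parameters, and any local parameter `s` at `Q` with minimal polynomial `f` over
`K`: `v_Q(f'(s)) = d(Q|P)` (computed on `dx`). -/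
theorem result (k : Type u) (K K' : Type v) [Field k] [Field K] [Field K'] [Algebra k K] [Algebra K K'] [Algebra k K']
    [IsScalarTower k K K'] [FiniteDimensional K K'] [Algebra.IsSeparable K K']
    (hK : FunFld.IsFunctionField k K) (hg : FunFld.IsGeometric k K)
    (F F' : Type w) [Field F] [Algebra k F] [Field F'] [Algebra k F']
    (P : FunFld.Place k K) (Q : FunFld.Place k K') (e : ℕ) (he : FunFld.IsOverWith Q P e)
    (φ : K →ₐ[k] LaurentSeries F) (hφ : LocRes.IsExpansionAt P.1 φ)
    (ψ : K' →ₐ[k] LaurentSeries F') (hψ : LocRes.IsExpansionAt Q.1 ψ)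
    (x : K) (hx : LocRes.vDiff φ 1 x ≠ 0) (hx' : LocRes.vDiff ψ 1 (algebraMap K K' x) ≠ 0)
    (hn : e = Module.finrank K K') (s : K') (hs : Q.1 s = WithZero.exp (-1)) :
    Q.ord (Polynomial.aeval s (Polynomial.derivative (minpoly K s))) = LocRes.diffExp φ ψ e x := by
  classical
  open Groth.Agent.H23Ext Groth.Agent.H23FunFld in
  set inc := Groth.Agent.H23Geom.incl (⟨e, he⟩ : FunFld.IsOver Q P)
  haveI := Groth.Agent.H23Geom.isLocalHom_incl (⟨e, he⟩ : FunFld.IsOver Q P)
  let g : IsLocalRing.ResidueField P.O →ₐ[k] IsLocalRing.ResidueField Q.O :=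
    { toRingHom := IsLocalRing.ResidueField.map inc
      commutes' := fun c => by
        change IsLocalRing.ResidueField.map inc (IsLocalRing.residue P.O (algebraMap k P.O c)) =
          IsLocalRing.residue Q.O (algebraMap k Q.O c)
        rw [IsLocalRing.ResidueField.map_residue]
        congr 1
        exact Subtype.ext (IsScalarTower.algebraMap_apply k K K' c).symm }
  haveI : @Module.Finite k (IsLocalRing.ResidueField P.O) _ _ Algebra.toModule :=
    Groth.Agent.H23FunFld.finiteDimensional_residueField hK P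
  haveI : Module.Finite k (IsLocalRing.ResidueField Q.O) :=
    Module.finite_of_finrank_pos (R := k) (Groth.Agent.H23Ext.deg_pos' (Groth.Agent.H23Ext.isFF_extension (K' := K') hK.1) Q)
  haveI : @Module.Finite k (IsLocalRing.ResidueField Q.O) _ _ Algebra.toModule :=
    ‹Module.Finite k (IsLocalRing.ResidueField Q.O)›
  have hg0 : Function.Injective g := (IsLocalRing.ResidueField.map inc).injective
  have hle : P.deg ≤ Q.deg := LinearMap.finrank_le_finrank_of_injective (f := g.toLinearMap) hg0
  have hsum := Groth.Agent.H23Ext.sum_ramIdx_mul_deg (K' := K') hK P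
    (Groth.Agent.H23Ext.finite_isOver hK P).toFinset (fun R => Set.Finite.mem_toFinset _)
  have hmem : Q ∈ (Groth.Agent.H23Ext.finite_isOver (K' := K') hK P).toFinset :=
    (Set.Finite.mem_toFinset _).2 ⟨e, he⟩
  rw [← Finset.add_sum_erase _ _ hmem, Groth.Agent.H23Ext.ramIdx_eq he, ← hn] at hsum
  have hmul : e * P.deg ≤ e * Q.deg := Nat.mul_le_mul_left e hle
  have hsurj : Function.Surjective g := by
    refine (LinearMap.injective_iff_surjective_of_finrank_eq_finrank (f := g.toLinearMap) ?_).1 hg0
    have hle' : Q.deg ≤ P.deg := Nat.le_of_mul_le_mul_left (show e * Q.deg ≤ e * P.deg by omega) (Groth.Agent.H23Ext.IsOverWith.pos he)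
    exact le_antisymm hle hle'
  refine Groth.Agent.H23Diff.ord_fp_eq_diffExp hK hg hφ hψ he hx hx' (fun z hz => ?_) hs fun Q' hQ' hne => ?_
  · obtain ⟨r, hr⟩ := hsurj (IsLocalRing.residue Q.O ⟨z, hz⟩)
    obtain ⟨a, rfl⟩ := IsLocalRing.residue_surjective r
    refine ⟨a, a.2, ?_⟩
    change IsLocalRing.ResidueField.map inc (IsLocalRing.residue P.O a) = _ at hr
    rw [IsLocalRing.ResidueField.map_residue, eq_comm, ← sub_eq_zero, ← map_sub,
      IsLocalRing.residue_eq_zero_iff, IsLocalRing.mem_maximalIdeal, mem_nonunits_iff,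
      Groth.Agent.H23Geom.isUnit_O_iff] at hr
    exact lt_of_le_of_ne ((⟨z, hz⟩ : Q.O) - inc a).2 hr
  · exfalso
    obtain ⟨e', he'⟩ := hQ'
    have hmem' : Q' ∈ (Groth.Agent.H23Ext.finite_isOver (K' := K') hK P).toFinset.erase Q :=
      Finset.mem_erase.2 ⟨hne, (Set.Finite.mem_toFinset _).2 ⟨e', he'⟩⟩
    have h1 := Finset.single_le_sum (f := fun R => FunFld.ramIdx R P * R.deg) (fun _ _ => Nat.zero_le _) hmem'
    simp only [Groth.Agent.H23Ext.ramIdx_eq he'] at h1
    have h2 : 0 < e' * Q'.deg := Nat.mul_pos (Groth.Agent.H23Ext.IsOverWith.pos he')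
      (Groth.Agent.H23Ext.deg_pos' (Groth.Agent.H23Ext.isFF_extension (K' := K') hK.1) Q')
    omega

end Groth.Agent.S12573
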