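import Groth.Statements.S12577
import Groth.Agent.H23Res.Different

set_option autoImplicit false
universe u v w
open FunFld

namespace Groth.Agent.S12577

/-- For a place `Q` of a finite Galois extension `K'` of a geometric function field of one variable
`K/k`, lying over `P` with ramification index `e`, both places with Laurent expansions over `k` in
local parameters (separable places), the different exponent is `d(Q|P) = ∑_{i ≥ 1} (|G_i| - 1)`,
where `G_i` is the `i`-th ramification group (automorphisms moving every element of `O_Q` by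
something of valuation at least `i`); `d(Q|P)` is computed on `dx`. -/
theorem result (k : Type u) (K K' : Type v) [Field k] [Field K] [Field K'] [Algebra k K] [Algebra K K'] [Algebra k K']
    [IsScalarTower k K K'] [FiniteDimensional K K'] (hK : FunFld.IsFunctionField k K) (hg : FunFld.IsGeometric k K)
    [IsGalois K K']
    (F F' : Type w) [Field F] [Algebra k F] [Field F'] [Algebra k F']
    (P : FunFld.Place k K) (Q : FunFld.Place k K') (e : ℕ) (he : FunFld.IsOverWith Q P e)
    (φ : K →ₐ[k] LaurentSeries F) (hφ : LocRes.IsExpansionAt P.1 φ)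
    (ψ : K' →ₐ[k] LaurentSeries F') (hψ : LocRes.IsExpansionAt Q.1 ψ)
    (x : K) (hx : LocRes.vDiff φ 1 x ≠ 0) (hx' : LocRes.vDiff ψ 1 (algebraMap K K' x) ≠ 0) :
    (Function.support fun i : ℕ => (Nat.card {σ : K' ≃ₐ[K] K' //
        ∀ z : K', Q.1 z ≤ 1 → Q.1 (σ z - z) ≤ WithZero.exp (-(i : ℤ))} : ℤ) - 1).Finite ∧
    LocRes.diffExp φ ψ e x = ∑ᶠ i : ℕ, if 1 ≤ i then
      (Nat.card {σ : K' ≃ₐ[K] K' // ∀ z : K', Q.1 z ≤ 1 → Q.1 (σ z - z) ≤ WithZero.exp (-(i : ℤ))} : ℤ) - 1
      else 0 := by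
  classical
  have hFF' : H23Ext.IsFF k K' := H23Ext.isFF_extension (K := K) hK.1
  have hQd : 0 < Q.deg := H23Ext.deg_pos' hFF' Q
  haveI : FiniteDimensional k F' := Module.finite_of_finrank_pos (H23Res.deg_eq_finrank hψ ▸ hQd)
  obtain ⟨t, -, ht⟩ := H23FunFld.exists_val_eq P (-1)
  obtain ⟨s, hs⟩ := hψ.2.2
  haveI : Algebra.IsSeparable k F' := by
    refine H23Res.isSeparable_coeff_of_ratio hψ hs fun z => ?_
    have hDt := H23Diff.D_ne_zero_param hφ ht
    obtain ⟨c, hc⟩ := H23Diff.exists_ratio_sep hK hg hDt s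
    have hc0 := H23Diff.ratio_ne_zero (H23Diff.D_ne_zero_param hψ hs) hc
    obtain ⟨c', hc'⟩ := H23Diff.exists_ratio_sep hK hg hDt z
    exact ⟨c' / c, by rw [hc', hc, smul_smul, div_mul_cancel₀ _ hc0]⟩
  obtain ⟨ρ⟩ := H23Res.exists_residueEquiv hψ
  haveI : Algebra.IsSeparable k (IsLocalRing.ResidueField Q.O) := AlgEquiv.Algebra.isSeparable ρ.symm
  set G : Finset (K' ≃ₐ[K] K') := Finset.univ.filter fun σ => H23Geom.InG Q 1 σ with hGdef
  have hG : ∀ σ, σ ∈ G ↔ H23Geom.InG Q 1 σ := fun σ => by simp [hGdef]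
  have hcard : G.card = e := by
    rw [← H23Geom.card_inertiaMap (H23Ext.isFF_of_isFunctionField hK) Q P e he]
    refine (Nat.subtype_card G fun σ => ?_).symm
    rw [hG, H23Geom.mem_inertiaMap_iff]
    exact ⟨fun h z hz => (h z hz).trans_lt (by rw [← WithZero.exp_zero, WithZero.exp_lt_exp]; norm_num),
      fun h z hz => H23Geom.le_exp_neg_one (h z hz)⟩
  -- the jumps
  set ι : (K' ≃ₐ[K] K') → ℕ := fun σ => (-WithZero.log (Q.1 (σ s - s))).toNat with hιdef
  have hfix : ∀ σ : K' ≃ₐ[K] K', H23Geom.InG Q 1 σ → σ s = s → σ = 1 := by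
    intro σ hσ h
    have hall : ∀ z : K', Q.1 z ≤ 1 → σ z = z := fun z hz => by
      by_contra hne
      have hd : Q.1 (σ z - z) ≠ 0 := (Valuation.ne_zero_iff _).2 (sub_ne_zero.2 hne)
      set m := (-WithZero.log (Q.1 (σ z - z))).toNat + 1
      have h1 := (H23Geom.inG_iff hs hσ m).2 (by rw [h, sub_self, map_zero]; exact zero_le) z hz
      rw [← WithZero.exp_log hd, WithZero.exp_le_exp] at h1
      omega
    refine AlgEquiv.ext fun z => ?_
    rcases le_total (Q.1 z) 1 with hz | hz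
    · exact hall z hz
    · have h1 := hall z⁻¹ (by rw [map_inv₀]; exact inv_le_one_of_one_le₀ hz)
      rw [map_inv₀, inv_inj] at h1
      exact h1
  have hv : ∀ σ ∈ G.erase 1, Q.1 (σ s - s) = WithZero.exp (-(ι σ : ℤ)) ∧ 1 ≤ ι σ := by
    intro σ hσ
    obtain ⟨hne, hσ⟩ := Finset.mem_erase.1 hσ
    have hd : Q.1 (σ s - s) ≠ 0 :=
      (Valuation.ne_zero_iff _).2 (sub_ne_zero.2 fun h => hne (hfix σ ((hG σ).1 hσ) h))
    have h1 := (hG σ).1 hσ s (by rw [hs, ← WithZero.exp_zero, WithZero.exp_le_exp]; norm_num)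
    rw [← WithZero.exp_log hd, WithZero.exp_le_exp] at h1
    refine ⟨?_, ?_⟩
    · conv_lhs => rw [← WithZero.exp_log hd]
      simp only [hιdef]; congr 1; omega
    · simp only [hιdef]; omega
  have hprod := H23Res.val_D_param_below hψ he ht hs G hG hcard
  obtain ⟨-, hdiff⟩ := H23Diff.diffExp_eq_ordDiff hK hg hφ hψ he hx hx' ht
  have hd : LocRes.diffExp φ ψ e x = ∑ σ ∈ G.erase 1, (ι σ : ℤ) := by
    rw [hdiff, LocRes.ordDiff, LocRes.vDiff, map_one, one_mul, hprod, Finset.prod_congr rfl fun σ hσ => (hv σ hσ).1,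
      show ∀ (U : Finset (K' ≃ₐ[K] K')) (f : (K' ≃ₐ[K] K') → ℤ), ∏ a ∈ U, WithZero.exp (f a) = WithZero.exp (∑ a ∈ U, f a) from
        fun U f => by induction U using Finset.induction_on with
          | empty => simp
          | insert a U ha ih => rw [Finset.prod_insert ha, Finset.sum_insert ha, ih, WithZero.exp_add],
      WithZero.log_exp, ← Finset.sum_neg_distrib]
    simp
  -- the groups
  have hcardi : ∀ i : ℕ, 1 ≤ i → (Nat.card {σ : K' ≃ₐ[K] K' //
      ∀ z : K', Q.1 z ≤ 1 → Q.1 (σ z - z) ≤ WithZero.exp (-(i : ℤ))} : ℤ) - 1 =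
      ∑ σ ∈ G.erase 1, if i ≤ ι σ then 1 else 0 := by
    intro i hi
    have h : Nat.card {σ : K' ≃ₐ[K] K' // ∀ z : K', Q.1 z ≤ 1 → Q.1 (σ z - z) ≤ WithZero.exp (-(i : ℤ))} =
        ((insert 1 ((G.erase 1).filter fun σ => i ≤ ι σ))).card := by
      refine Nat.subtype_card _ fun σ => ?_
      change _ ↔ H23Geom.InG Q i σ
      rw [Finset.mem_insert, Finset.mem_filter]
      constructor
      · rintro (rfl | ⟨hσ, hle⟩)
        · exact H23Geom.inG_one i
        · exact (H23Geom.inG_iff hs ((hG σ).1 (Finset.mem_of_mem_erase hσ)) i).2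
            ((hv σ hσ).1.trans_le (WithZero.exp_le_exp.2 (by omega)))
      · intro hσ
        rcases eq_or_ne σ 1 with h1 | h1
        · exact Or.inl h1
        · have hmem : σ ∈ G.erase 1 := Finset.mem_erase.2 ⟨h1, (hG σ).2 (hσ.mono hi)⟩
          refine Or.inr ⟨hmem, ?_⟩
          have h2 := (H23Geom.inG_iff hs (hσ.mono hi) i).1 hσ
          rw [(hv σ hmem).1, WithZero.exp_le_exp] at h2
          omega
    rw [h, Finset.card_insert_of_notMem (by simp), Finset.sum_boole]
    push_cast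
    ring
  set M := (G.erase 1).sup ι
  have hzero : ∀ i : ℕ, M < i → (Nat.card {σ : K' ≃ₐ[K] K' //
      ∀ z : K', Q.1 z ≤ 1 → Q.1 (σ z - z) ≤ WithZero.exp (-(i : ℤ))} : ℤ) - 1 = 0 := fun i hi => by
    rw [hcardi i (by omega)]
    exact Finset.sum_eq_zero fun σ hσ => if_neg (by have := Finset.le_sup (f := ι) hσ; omega)
  refine ⟨(Finset.range (M + 1)).finite_toSet.subset fun i hi => ?_, ?_⟩
  · rw [Finset.mem_coe, Finset.mem_range]
    by_contra h
    exact hi (hzero i (by omega))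
  rw [finsum_eq_sum_of_support_subset _ (s := Finset.Icc 1 M) (fun i hi => by
    rw [Finset.coe_Icc, Set.mem_Icc]
    simp only [Function.mem_support] at hi
    have h1 : 1 ≤ i := by by_contra h; exact hi (if_neg h)
    refine ⟨h1, ?_⟩
    by_contra h
    exact hi (by rw [if_pos h1, hzero i (by omega)])), hd]
  rw [Finset.sum_congr rfl fun i hi => ((if_pos (Finset.mem_Icc.1 hi).1).trans (hcardi i (Finset.mem_Icc.1 hi).1)),
    Finset.sum_comm]
  refine Finset.sum_congr rfl fun σ hσ => ?_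
  rw [Finset.sum_boole]
  have hle := Finset.le_sup (f := ι) hσ
  have hset : (Finset.Icc 1 M).filter (fun i => i ≤ ι σ) = Finset.Icc 1 (ι σ) := by
    ext i; simp only [Finset.mem_filter, Finset.mem_Icc]; omega
  rw [hset, Nat.card_Icc, Nat.add_sub_cancel]

end Groth.Agent.S12577
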