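import Groth.Statements.S12578
import Groth.Agent.H23Res.TraceFormula
import Groth.Agent.H23Res.Residue
import Groth.Agent.H23Ext.OverFF

set_option autoImplicit false
universe u v w
open FunFld

namespace Groth.Agent.S12578

/-- For a geometric function field of one variable `K/k`, a finite separable extension `K'` with the
same constant field, a place `P` of `K` and `ω = y dx` with `y ∈ K'`, `x ∈ K`: `Res_P(tr_{K'/K}(y)
dx) = ∑_{Q | P} Res_Q(y dx)`; residues are read through Laurent expansions over `k` at `P` and at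
every `Q` over `P` (so these places are separable). -/
theorem result (k : Type u) (K K' : Type v) [Field k] [Field K] [Field K'] [Algebra k K] [Algebra K K'] [Algebra k K']
    [IsScalarTower k K K'] [FiniteDimensional K K'] [Algebra.IsSeparable K K']
    (hK : FunFld.IsFunctionField k K) (hg : FunFld.IsGeometric k K)
    (hK' : FunFld.IsFunctionField k K') (P : FunFld.Place k K)
    (F : Type w) [Field F] [Algebra k F] [FiniteDimensional k F]
    (φ : K →ₐ[k] LaurentSeries F) (hφ : LocRes.IsExpansionAt P.1 φ)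
    (Qs : Finset (FunFld.Place k K')) (hQs : ∀ Q, Q ∈ Qs ↔ FunFld.IsOver Q P)
    (F' : FunFld.Place k K' → Type w) [∀ Q, Field (F' Q)] [∀ Q, Algebra k (F' Q)] [∀ Q, FiniteDimensional k (F' Q)]
    (ψ : ∀ Q, K' →ₐ[k] LaurentSeries (F' Q)) (hψ : ∀ Q ∈ Qs, LocRes.IsExpansionAt Q.1 (ψ Q))
    (y : K') (x : K) :
    LocRes.locRes φ (Algebra.trace K K' y) x = ∑ Q ∈ Qs, LocRes.locRes (ψ Q) y (algebraMap K K' x) := by
  classical
  by_cases hsep : Algebra.IsSeparable k F
  · choose e he using fun Q : {Q // Q ∈ Qs} => (hQs Q.1).1 Q.2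
    have hvw : ∀ (Q : {Q // Q ∈ Qs}) a, Q.1.1 (algebraMap K K' a) = P.1 a ^ e Q := fun Q a => he Q a
    have hpos : ∀ Q, 0 < e Q := fun Q => H23Ext.IsOverWith.pos (he Q)
    choose θ c hθ hθC hθφ using fun Q : {Q // Q ∈ Qs} =>
      H23Res.exists_embed hφ (hψ Q.1 Q.2) (hpos Q) (hvw Q)
    rw [← Finset.sum_coe_sort Qs (fun Q => LocRes.locRes (ψ Q) y (algebraMap K K' x))]
    refine H23Res.trace_formula_of_dim (w := fun Q : {Q // Q ∈ Qs} => Q.1.1) (fun Q => hψ Q.1 Q.2) hpos hθ hθC hθφ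
      (fun a m => ?_) ?_ y x
    · obtain ⟨z, hz⟩ := H23FunFld.approximation Qs (fun Q => if h : Q ∈ Qs then a ⟨Q, h⟩ else 0)
        (fun Q => if h : Q ∈ Qs then m ⟨Q, h⟩ else 0)
      refine ⟨z, fun Q => ?_⟩
      have h := hz Q.1 Q.2
      simpa [Q.2] using h
    · have h := H23Ext.sum_ramIdx_mul_deg' (H23Ext.isFF_of_isFunctionField hK) P Qs hQs
      rw [H23Res.deg_eq_finrank hφ, ← Finset.sum_coe_sort Qs] at h
      rw [← h]
      refine Finset.sum_congr rfl fun Q _ => ?_
      rw [H23Ext.ramIdx_eq (he Q), H23Res.deg_eq_finrank (hψ Q.1 Q.2)]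
  · rw [LocRes.locRes, Algebra.trace_eq_zero_of_not_isSeparable hsep, LinearMap.zero_apply]
    refine (Finset.sum_eq_zero fun Q hQ => ?_).symm
    obtain ⟨e, he⟩ := (hQs Q).1 hQ
    obtain ⟨c, -⟩ := H23Res.exists_coeff_hom hφ (hψ Q hQ) (H23Ext.IsOverWith.pos he) (fun a => he a)
    rw [LocRes.locRes, Algebra.trace_eq_zero_of_not_isSeparable, LinearMap.zero_apply]
    exact fun h => hsep (Algebra.IsSeparable.of_algHom k (F' Q) c)

end Groth.Agent.S12578
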