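import Groth.Statements.S12579
import Groth.Agent.H23Res.ResidueThm
import Groth.Agent.H23Res.Geometric
import Groth.Agent.H23Diff.SepCoeff

set_option autoImplicit false
universe u v w
open FunFld

namespace Groth.Agent.S12579

/-- For a function field of one variable `K/k` and `u, v ∈ K`, the local residues `Res_P(u dv)` vanish
for almost all places `P` and `∑_P Res_P(u dv) = 0`; stated through Laurent expansions over `k` at
every place (so for function fields all of whose places are separable), the residue at `P` being the
trace to `k` of the coefficient of `X⁻¹`. -/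
theorem result (k : Type u) (K : Type v) [Field k] [Field K] [Algebra k K] (hK : FunFld.IsFunctionField k K)
    (F : FunFld.Place k K → Type w) [∀ P, Field (F P)] [∀ P, Algebra k (F P)] [∀ P, FiniteDimensional k (F P)]
    (φ : ∀ P, K →ₐ[k] LaurentSeries (F P)) (hφ : ∀ P, LocRes.IsExpansionAt P.1 (φ P))
    (u v : K) :
    (Function.support fun P => LocRes.locRes (φ P) u v).Finite ∧ ∑ᶠ P, LocRes.locRes (φ P) u v = 0 := by
  by_cases hsep : ∃ P, Algebra.IsSeparable k (F P)
  · obtain ⟨P₀, hP₀⟩ := hsep
    have hg := H23Res.isGeometric_of_expansion (φ P₀) hK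
    haveI : ∀ P, Algebra.IsSeparable k (F P) := fun P => H23Diff.isSeparable_coeff hK hg (hφ P)
    exact H23Res.residue_theorem hK hφ hg u v
  · rw [not_exists] at hsep
    have h0 : (fun P => LocRes.locRes (φ P) u v) = fun _ => 0 := funext fun P => by
      rw [LocRes.locRes, Algebra.trace_eq_zero_of_not_isSeparable (hsep P), LinearMap.zero_apply]
    rw [h0, finsum_zero]
    exact ⟨by simp, rfl⟩

end Groth.Agent.S12579
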