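-- statement FlatMor.GrothFrozen.S1258 (Groth/Statements/S1258.lean; the theorem FlatMor.free_after_etale_localization_along_fiber_fp);
import Groth.Statements.S1258
import Groth.Agent.H7Flat.Chain.CoverFree

set_option autoImplicit false
universe u
open FlatMor

namespace Groth.Agent.S1258

open TensorProduct IsLocalRing in
/-- Ring form, X = Spec S and S = Spec R affine: let S be a finitely presented R-algebra, N a finite
S-module and p a prime of R such that N_q is flat over R for every prime q of S over p. Then there
is an étale R-algebra R' with a prime p' over p having the same residue field such that, writing A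
for the local ring of R' at p' and S_A, N_A for the base changes: there is an étale S_A-algebra C,
finitely presented over A, such that every prime of S over p is the contraction of a prime of C
lying over the maximal ideal of A, C ⊗ N_A is a finitely presented C-module, and C ⊗ N_A is a free
A-module. -/
theorem result {R S : Type u} [CommRing R] [CommRing S] [Algebra R S] [Algebra.FinitePresentation R S]
    (N : Type u) [AddCommGroup N] [Module S N] [Module R N] [IsScalarTower R S N] [Module.Finite S N]
    (p : Ideal R) [p.IsPrime] (hflat : ∀ (q : Ideal S) [q.IsPrime], q.LiesOver p → FlatCA.FlatAt R q N) :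
    ∃ (R' : Type u) (_ : CommRing R') (_ : Algebra R R') (p' : Ideal R') (_ : p'.IsPrime), FlatCA.IsEtaleNhd R R' p p' ∧
      ∀ (SA NA : Type u) [CommRing SA] [Algebra R SA] [Algebra S SA] [Algebra (Localization.AtPrime p') SA]
        [IsScalarTower R S SA] [IsScalarTower R (Localization.AtPrime p') SA]
        [Algebra.IsPushout R S (Localization.AtPrime p') SA]
        [AddCommGroup NA] [Module SA NA] [Module S NA] [IsScalarTower S SA NA]
        (f : N →ₗ[S] NA), IsBaseChange SA f →
        ∃ (C : Type u) (_ : CommRing C) (_ : Algebra SA C) (_ : Algebra (Localization.AtPrime p') C)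
          (_ : IsScalarTower (Localization.AtPrime p') SA C) (_ : Algebra S C) (_ : IsScalarTower S SA C),
          Algebra.Etale SA C ∧ Algebra.FinitePresentation (Localization.AtPrime p') C ∧
          (∀ (q : Ideal S) [q.IsPrime], q.LiesOver p → ∃ x' : Ideal C, x'.IsPrime ∧ x'.comap (algebraMap S C) = q ∧
            x'.LiesOver (maximalIdeal (Localization.AtPrime p'))) ∧
          Module.FinitePresentation C (C ⊗[SA] NA) ∧
          Module.Free (Localization.AtPrime p') (RestrictScalars (Localization.AtPrime p') C (C ⊗[SA] NA)) := by
  exact H7Flat.Chain.exists_cover_fp_free N p hflat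

end Groth.Agent.S1258
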