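import Groth.Statements.S12580
import Groth.Agent.H23FunFld.Degree
import Groth.Agent.H23Diff.Expansion

set_option autoImplicit false
universe u v w
open FunFld

namespace Groth.Agent.S12580

/-- In a function field of one variable `K/k`, `Res_P(u dv) = 0` when `u, v ∈ O_P` (already before the
trace), and for a repartition `α` and `v ∈ K`, `Res_P(α_P dv) = 0` for almost all `P`; residues read
through Laurent expansions over `k` at every place. -/
theorem result (k : Type u) (K : Type v) [Field k] [Field K] [Algebra k K] (hK : FunFld.IsFunctionField k K)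
    (F : FunFld.Place k K → Type w) [∀ P, Field (F P)] [∀ P, Algebra k (F P)] [∀ P, FiniteDimensional k (F P)]
    (φ : ∀ P, K →ₐ[k] LaurentSeries (F P)) (hφ : ∀ P, LocRes.IsExpansionAt P.1 (φ P)) :
    (∀ (P : FunFld.Place k K) (u v : K), P.1 u ≤ 1 → P.1 v ≤ 1 → LocRes.resExp (φ P) u v = 0) ∧
    ∀ (a : FunFld.Place k K → K), a ∈ FunFld.adele k K → ∀ v : K,
      {P : FunFld.Place k K | LocRes.resExp (φ P) (a P) v ≠ 0}.Finite := by
  have h1 : ∀ (P : FunFld.Place k K) (u v : K), P.1 u ≤ 1 → P.1 v ≤ 1 → LocRes.resExp (φ P) u v = 0 := by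
    intro P u v hu hv
    rw [LocRes.resExp, LocRes.res_apply]
    have hle : Valued.v (φ P u * LocRes.D (F P) (φ P v)) ≤ WithZero.exp (-0 : ℤ) := by
      rw [map_mul, neg_zero, WithZero.exp_zero]
      exact mul_le_one' (((hφ P).1 u).trans_le hu) (Groth.Agent.H23Diff.val_D_le (((hφ P).1 v).trans_le hv))
    exact LaurentSeries.coeff_zero_of_lt_valuation (F P) hle (by norm_num)
  refine ⟨h1, fun a ha v => ?_⟩
  have ha' : ∀ᶠ P : FunFld.Place k K in Filter.cofinite, P.1 (a P) ≤ 1 := ha
  rw [Filter.eventually_cofinite] at ha'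
  refine (ha'.union (Groth.Agent.H23FunFld.finite_support_ord hK v)).subset fun P hP => ?_
  by_contra hno
  rw [Set.mem_union, not_or] at hno
  obtain ⟨h2, h3⟩ := hno
  refine hP (h1 P _ _ (not_not.1 h2) ?_)
  rcases eq_or_ne v 0 with rfl | hv0
  · simp
  · exact (Groth.Agent.H23FunFld.val_le_one_iff P hv0).2 (le_of_eq (not_not.1 h3).symm)

end Groth.Agent.S12580
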