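import Groth.Statements.S12583
import Groth.Agent.H23Diff.Taylor
import Groth.Agent.H23Geom.Separating

set_option autoImplicit false
universe u v w
open FunFld

namespace Groth.Agent.S12583

/-- At a separable place `P` of a geometric function field of one variable `K/k` with local parameter
`t`, if `x ∈ O_P` has expansion `∑ a_m t^m` then the Hasse derivative `D_t^{(n)}(x)` expands as the
series with coefficients `C(m,n) a_m` in degree `m - n`; in particular `D_t^{(n)}(O_P) ⊆ O_P`. Here
`φ` is a Laurent expansion over `k` at `P` with `φ t = X` and `H` is the total Hasse derivative with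
respect to `t`. -/
theorem result (k : Type u) (K : Type v) [Field k] [Field K] [Algebra k K] (hK : FunFld.IsFunctionField k K) (hg : FunFld.IsGeometric k K)
    (P : FunFld.Place k K) (F : Type w) [Field F] [Algebra k F]
    (φ : K →ₐ[k] LaurentSeries F) (hφ : LocRes.IsExpansionAt P.1 φ)
    (t : K) (ht : φ t = HahnSeries.single 1 1)
    (H : K →ₐ[k] PowerSeries K) (hH : LocRes.IsHasseFamily t H)
    (x : K) (hx : P.1 x ≤ 1) (n : ℕ) :
    φ (LocRes.hasseD H n x) = LaurentSeries.hasseDeriv F n (φ x) := by
  have htv : P.1 t = WithZero.exp (-1) := by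
    rw [← hφ.1 t, ht, LaurentSeries.valuation_single_zpow]
  haveI := Groth.Agent.H23Geom.isSeparable_of_D_ne_zero hK hg (Groth.Agent.H23Diff.D_ne_zero_param hφ htv)
  let A : K →+* PowerSeries (LaurentSeries F) := (PowerSeries.map φ.toRingHom).comp H.toRingHom
  let B : K →+* PowerSeries (LaurentSeries F) := Groth.Agent.H23Diff.taylor.comp φ.toRingHom
  have h0 : ∀ z, PowerSeries.constantCoeff (A z) = PowerSeries.constantCoeff (B z) := by
    intro z
    rw [← PowerSeries.coeff_zero_eq_constantCoeff_apply, ← PowerSeries.coeff_zero_eq_constantCoeff_apply]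
    simp only [A, B, RingHom.comp_apply, PowerSeries.coeff_map, AlgHom.toRingHom_eq_coe, RingHom.coe_coe,
      Groth.Agent.H23Diff.coeff_taylor, LaurentSeries.hasseDeriv_zero, LinearMap.id_apply]
    rw [PowerSeries.coeff_zero_eq_constantCoeff_apply, hH.2]
  have hk : ∀ c : k, A (algebraMap k K c) = B (algebraMap k K c) := by
    intro c
    refine PowerSeries.ext fun m => ?_
    simp only [A, B, RingHom.comp_apply, PowerSeries.coeff_map, AlgHom.toRingHom_eq_coe, RingHom.coe_coe,
      Groth.Agent.H23Diff.coeff_taylor, AlgHom.commutes, PowerSeries.algebraMap_apply, PowerSeries.coeff_C]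
    rcases eq_or_ne m 0 with rfl | hm
    · simp
    · rw [if_neg hm, map_zero, ← φ.commutes c, LocRes.map_algebraMap, Groth.Agent.H23Diff.hasseDeriv_C m hm]
  have htA : A t = B t := by
    simp only [A, B, RingHom.comp_apply, AlgHom.toRingHom_eq_coe, RingHom.coe_coe]
    rw [hH.1, map_add, PowerSeries.map_C, PowerSeries.map_X, ht, Groth.Agent.H23Diff.taylor_X]
    simp [ht]
  have hAB := congrArg (fun G : K →+* PowerSeries (LaurentSeries F) => PowerSeries.coeff n (G x))
    (Groth.Agent.H23Diff.lift_unique A B hk htA h0)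
  simp only [A, B, RingHom.comp_apply, PowerSeries.coeff_map, AlgHom.toRingHom_eq_coe, RingHom.coe_coe,
    Groth.Agent.H23Diff.coeff_taylor] at hAB
  rw [LocRes.hasseD_apply]
  exact hAB

end Groth.Agent.S12583
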