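import Groth.Statements.S12584
import Mathlib
import Groth.Agent.H23Hyp.SqrtDiff

set_option autoImplicit false
universe u v w
open FunFld

namespace Groth.Agent.S12584

/-- For `char k ≠ 2` and `K` of degree `2` over `k(x)` with `y² = f(x)`, `f` squarefree of degree `≥ 1`,
the forms `x^i dx/y`, `0 ≤ i < g`, are a `k`-basis of the regular differential forms: each is
regular, and every regular `z dx` has `z = a(x)/y` with `deg a < g`; regularity read through Laurent
expansions over `k` at every place (all places separable). -/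
theorem result (k : Type u) (K : Type v) [Field k] [Field K] [Algebra k K] [Algebra (RatFunc k) K] [IsScalarTower k (RatFunc k) K]
    (hK : FunFld.IsFunctionField k K) (hdeg : Module.finrank (RatFunc k) K = 2) (h2 : ringChar k ≠ 2)
    (y : K) (f : Polynomial k) (hf : Squarefree f) (hd : 1 ≤ f.natDegree)
    (heq : y ^ 2 = algebraMap (RatFunc k) K (algebraMap (Polynomial k) (RatFunc k) f))
    (F : FunFld.Place k K → Type w) [∀ P, Field (F P)] [∀ P, Algebra k (F P)] [∀ P, FiniteDimensional k (F P)]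
    (φ : ∀ P, K →ₐ[k] LaurentSeries (F P)) (hφ : ∀ P, LocRes.IsExpansionAt P.1 (φ P)) :
    (∀ i : ℕ, i < FunFld.genus k K → ∀ P,
      LocRes.vDiff (φ P) (algebraMap (RatFunc k) K RatFunc.X ^ i / y) (algebraMap (RatFunc k) K RatFunc.X) ≤ 1) ∧
    ∀ z : K, (∀ P, LocRes.vDiff (φ P) z (algebraMap (RatFunc k) K RatFunc.X) ≤ 1) →
      ∃ a : Polynomial k, a.degree < (FunFld.genus k K : WithBot ℕ) ∧
        z = algebraMap (RatFunc k) K (algebraMap (Polynomial k) (RatFunc k) a) / y := by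
  classical
  open Groth.Agent.H23FunFld Groth.Agent.H23Ext Groth.Agent.H23Hyp in
  haveI : FiniteDimensional (RatFunc k) K := Module.finite_of_finrank_pos (hdeg ▸ two_pos)
  have hR := Groth.Agent.H23Hyp.isFunctionField_ratFunc k
  have hynot := Groth.Agent.H23Hyp.ratFunc_y_notMem hf hd heq
  have hy0 : y ≠ 0 := fun h => hynot ⟨0, by rw [map_zero, h]⟩
  set x := algebraMap (RatFunc k) K RatFunc.X
  have hx : Transcendental k x := fun h => RatFunc.transcendental_X
    ((isAlgebraic_algebraMap_iff (algebraMap (RatFunc k) K).injective).1 h)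
  have hev : ∀ q : Polynomial k, algebraMap (RatFunc k) K (algebraMap (Polynomial k) (RatFunc k) q) =
      Polynomial.aeval x q := fun q => by
    rw [← Groth.Agent.H23Hyp.aeval_X_eq]
    exact (Polynomial.aeval_algHom_apply (IsScalarTower.toAlgHom k (RatFunc k) K) RatFunc.X q).symm
  have hxy : IntermediateField.adjoin k ({x, y} : Set K) = ⊤ := by
    refine eq_top_iff.2 fun z _ => ?_
    obtain ⟨a, b, rfl⟩ := Groth.Agent.H23Hyp.coords hdeg hynot z
    have hmem : ∀ c : RatFunc k, algebraMap (RatFunc k) K c ∈ IntermediateField.adjoin k ({x, y} : Set K) := by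
      intro c
      have hc : algebraMap (RatFunc k) K c ∈
          (IntermediateField.adjoin k ({RatFunc.X} : Set (RatFunc k))).map (IsScalarTower.toAlgHom k (RatFunc k) K) :=
        ⟨c, by rw [RatFunc.adjoin_X]; trivial, rfl⟩
      rw [IntermediateField.adjoin_map, Set.image_singleton] at hc
      exact IntermediateField.adjoin.mono k _ _ (Set.singleton_subset_iff.2 (Set.mem_insert x _)) hc
    exact add_mem (hmem a) (mul_mem (hmem b) (IntermediateField.subset_adjoin k _ (Set.mem_insert_of_mem _ rfl)))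
  have hgen : FunFld.genus k K = (f.natDegree - 1) / 2 :=
    Groth.Agent.H23Hyp.genus_eq h2 hx hxy hf hd (by rw [heq, hev]) hK
  have hbelow : ∀ P : FunFld.Place k K, ∃ p : FunFld.Place k (RatFunc k), ∃ e : ℕ, FunFld.IsOverWith P p e :=
    fun P => by obtain ⟨p, e, he⟩ := Groth.Agent.H23Ext.exists_below hR.1 P; exact ⟨p, e, he⟩
  have hcase : ∀ p : FunFld.Place k (RatFunc k), p.1 RatFunc.X ≤ 1 ∨ p.ord (RatFunc.X : RatFunc k) < 0 :=
    fun p => (le_or_gt 0 (p.ord (RatFunc.X : RatFunc k))).imp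
      (Groth.Agent.H23FunFld.val_le_one_iff p RatFunc.X_ne_zero).2 id
  have hPy : ∀ P : FunFld.Place k K, P.1 y = WithZero.exp (-P.ord y) := fun P =>
    Groth.Agent.H23FunFld.val_eq_exp P hy0
  refine ⟨fun i hi P => ?_, fun z hz => ?_⟩
  · obtain ⟨p, e, he⟩ := hbelow P
    obtain ⟨hfin, hinf⟩ := Groth.Agent.H23Hyp.val_dx h2 hdeg hf hd heq he (hφ P)
    rw [LocRes.vDiff, map_mul, (hφ P).1, map_div₀, map_pow, hPy]
    rcases hcase p with hp | hp
    · obtain ⟨-, hy, -⟩ := Groth.Agent.H23Hyp.finite_facts h2 hdeg hf hd heq he hp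
      have hxle : P.1 x ≤ 1 := (Groth.Agent.H23Ext.le_one_iff_of_isOver ⟨e, he⟩ _).2 hp
      rw [hfin hp, hy, div_eq_mul_inv, ← WithZero.exp_neg, neg_neg, mul_assoc, ← WithZero.exp_add, add_neg_cancel,
        WithZero.exp_zero, mul_one]
      exact pow_le_one' hxle _
    · obtain ⟨h2y, hxo, hodd, heven⟩ := Groth.Agent.H23Hyp.infinite_facts h2 hdeg hf hd heq he hp
      rw [hinf hp, Groth.Agent.H23FunFld.val_eq_exp P (fun h => hx (by rw [show x = 0 from h]; exact isAlgebraic_zero)), hxo,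
        ← WithZero.exp_nsmul, ← WithZero.exp_sub, ← WithZero.exp_add, ← WithZero.exp_zero, WithZero.exp_le_exp]
      rw [nsmul_eq_mul]
      rw [hgen] at hi
      rcases Nat.even_or_odd f.natDegree with hev' | hodd'
      · obtain rfl := heven hev'
        obtain ⟨q, hq⟩ := hev'
        push_cast at h2y ⊢
        omega
      · obtain rfl := hodd hodd'
        obtain ⟨q, hq⟩ := hodd'
        push_cast at h2y ⊢
        omega
  obtain ⟨σ, hσ⟩ := Groth.Agent.H23Hyp.ratFunc_sigma h2 hf hd heq hdeg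
  set w := z * y
  -- the bounds for `w`
  have hw : ∀ (P : FunFld.Place k K) (p : FunFld.Place k (RatFunc k)) (e : ℕ), FunFld.IsOverWith P p e →
      (p.1 RatFunc.X ≤ 1 → P.1 w ≤ 1) ∧
      (p.ord (RatFunc.X : RatFunc k) < 0 → P.1 w ≤ WithZero.exp (-P.ord y - ((e : ℤ) + 1))) := by
    intro P p e he
    obtain ⟨hfin, hinf⟩ := Groth.Agent.H23Hyp.val_dx h2 hdeg hf hd heq he (hφ P)
    have h := hz P
    rw [LocRes.vDiff, map_mul, (hφ P).1] at h
    refine ⟨fun hp => ?_, fun hp => ?_⟩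
    · obtain ⟨-, hy, -⟩ := Groth.Agent.H23Hyp.finite_facts h2 hdeg hf hd heq he hp
      rw [hfin hp] at h
      change P.1 (z * y) ≤ 1
      rw [map_mul, hPy, hy]
      exact h
    · rw [hinf hp] at h
      change P.1 (z * y) ≤ _
      rw [map_mul, hPy]
      calc P.1 z * WithZero.exp (-P.ord y) =
            (P.1 z * WithZero.exp ((e : ℤ) + 1)) * WithZero.exp (-P.ord y - ((e : ℤ) + 1)) := by
              rw [mul_assoc, ← WithZero.exp_add]; congr 2; ring
        _ ≤ 1 * WithZero.exp (-P.ord y - ((e : ℤ) + 1)) := mul_le_mul' h le_rfl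
        _ = _ := one_mul _
  have hwσ : ∀ (P : FunFld.Place k K) (p : FunFld.Place k (RatFunc k)) (e : ℕ), FunFld.IsOverWith P p e →
      (p.1 RatFunc.X ≤ 1 → P.1 (σ w) ≤ 1) ∧
      (p.ord (RatFunc.X : RatFunc k) < 0 → P.1 (σ w) ≤ WithZero.exp (-P.ord y - ((e : ℤ) + 1))) := by
    intro P p e he
    obtain ⟨h1, h2'⟩ := hw _ _ _ (Groth.Agent.H23Ext.isOverWith_conj he σ)
    have hyo : (Groth.Agent.H23Ext.conj σ P).ord y = P.ord y := by
      simp only [FunFld.Place.ord, Groth.Agent.H23Ext.conj_apply, hσ, Valuation.map_neg]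
    rw [hyo] at h2'
    simp only [Groth.Agent.H23Ext.conj_apply] at h1 h2'
    exact ⟨h1, h2'⟩
  obtain ⟨a, b, hab⟩ := Groth.Agent.H23Hyp.coords hdeg hynot w
  haveI := ringChar.charP k
  have h2k : (2 : k) ≠ 0 := Ring.two_ne_zero h2
  have hA : algebraMap (RatFunc k) K a = algebraMap k K 2⁻¹ * (w + σ w) := by
    have h2K : (2 : K) ≠ 0 := by
      rw [← map_ofNat (algebraMap k K) 2]; exact (map_ne_zero (algebraMap k K)).2 h2k
    rw [hab, map_add, map_mul, σ.commutes, σ.commutes, hσ, map_inv₀, map_ofNat]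
    field_simp
    ring
  have hB : algebraMap (RatFunc k) K b * y = w - algebraMap (RatFunc k) K a := by rw [hab]; ring
  have ha : ∀ (P : FunFld.Place k K) (p : FunFld.Place k (RatFunc k)) (e : ℕ), FunFld.IsOverWith P p e →
      (p.1 RatFunc.X ≤ 1 → P.1 (algebraMap (RatFunc k) K a) ≤ 1 ∧ P.1 (algebraMap (RatFunc k) K b * y) ≤ 1) ∧
      (p.ord (RatFunc.X : RatFunc k) < 0 →
        P.1 (algebraMap (RatFunc k) K a) ≤ WithZero.exp (-P.ord y - ((e : ℤ) + 1)) ∧
        P.1 (algebraMap (RatFunc k) K b * y) ≤ WithZero.exp (-P.ord y - ((e : ℤ) + 1))) := by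
    intro P p e he
    have key : ∀ M, P.1 w ≤ M → P.1 (σ w) ≤ M →
        P.1 (algebraMap (RatFunc k) K a) ≤ M ∧ P.1 (algebraMap (RatFunc k) K b * y) ≤ M := fun M h1 h2' => by
      have h3 : P.1 (algebraMap (RatFunc k) K a) ≤ M := by
        rw [hA, map_mul]
        exact (mul_le_of_le_one_left zero_le (P.2.1 _)).trans ((P.1.map_add _ _).trans (max_le h1 h2'))
      exact ⟨h3, by rw [hB]; exact (P.1.map_sub _ _).trans (max_le h1 h3)⟩
    exact ⟨fun hp => key _ ((hw P p e he).1 hp) ((hwσ P p e he).1 hp),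
      fun hp => key _ ((hw P p e he).2 hp) ((hwσ P p e he).2 hp)⟩
  obtain ⟨-, pinf, -, hpinf, -⟩ := Groth.Agent.H23FunFld.genus_zero_of_adjoin_top hR RatFunc.adjoin_X
  have hpinf' : pinf.ord (RatFunc.X : RatFunc k) < 0 := by omega
  obtain ⟨Pinf, einf, heinf⟩ := Groth.Agent.H23Ext.exists_above (K' := K) hR pinf
  obtain ⟨h2y, -, hodd, heven⟩ := Groth.Agent.H23Hyp.infinite_facts h2 hdeg hf hd heq heinf hpinf'
  obtain ⟨hainf, hbinf⟩ := (ha Pinf pinf einf heinf).2 hpinf'
  -- `b = 0`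
  have hb0 : b = 0 := by
    by_contra hb
    obtain ⟨r, hr⟩ := Groth.Agent.H23Hyp.exists_poly_of_finite_integral (r := b) (fun p hp => by
      obtain ⟨P, e, he⟩ := Groth.Agent.H23Ext.exists_above (K' := K) hR p
      obtain ⟨he12, hyo, -⟩ := Groth.Agent.H23Hyp.finite_facts h2 hdeg hf hd heq he hp
      have h := ((ha P p e he).1 hp).2
      have hb' : algebraMap (RatFunc k) K b ≠ 0 := (map_ne_zero _).2 hb
      rw [Groth.Agent.H23FunFld.val_le_one_iff P (mul_ne_zero hb' hy0), Groth.Agent.H23FunFld.ord_mul P hb' hy0,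
        Groth.Agent.H23Ext.IsOverWith.ord_eq he, hyo] at h
      refine (Groth.Agent.H23FunFld.val_le_one_iff p hb).2 ?_
      rcases he12 with rfl | rfl <;> push_cast at h <;> omega)
    have hr0 : r ≠ 0 := fun h => hb (by rw [← hr, h, map_zero])
    have hb' : algebraMap (RatFunc k) K b ≠ 0 := (map_ne_zero _).2 hb
    rw [Groth.Agent.H23FunFld.val_le_exp_iff Pinf (mul_ne_zero hb' hy0), Groth.Agent.H23FunFld.ord_mul Pinf hb' hy0,
      Groth.Agent.H23Ext.IsOverWith.ord_eq heinf, ← hr, Groth.Agent.H23Hyp.ord_poly_infty pinf hpinf' hr0] at hbinf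
    have : (0 : ℤ) ≤ (einf : ℤ) * r.natDegree := by positivity
    linarith
  have hz' : z * y = algebraMap (RatFunc k) K a := by
    change w = _
    rw [hab, hb0, map_zero, zero_mul, add_zero]
  obtain ⟨r, hr⟩ := Groth.Agent.H23Hyp.exists_poly_of_finite_integral (r := a) (fun p hp => by
    obtain ⟨P, e, he⟩ := Groth.Agent.H23Ext.exists_above (K' := K) hR p
    exact (Groth.Agent.H23Ext.le_one_iff_of_isOver ⟨e, he⟩ a).1 ((ha P p e he).1 hp).1)
  refine ⟨r, ?_, by rw [hr, ← hz', mul_div_assoc, div_self hy0, mul_one]⟩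
  rcases eq_or_ne r 0 with rfl | hr0
  · rw [Polynomial.degree_zero]; exact WithBot.bot_lt_coe _
  rw [Polynomial.degree_eq_natDegree hr0, Nat.cast_lt, hgen]
  have ha0 : algebraMap (RatFunc k) K a ≠ 0 := by
    rw [← hr]; exact (map_ne_zero _).2 (RatFunc.algebraMap_ne_zero hr0)
  rw [Groth.Agent.H23FunFld.val_le_exp_iff Pinf ha0, Groth.Agent.H23Ext.IsOverWith.ord_eq heinf, ← hr,
    Groth.Agent.H23Hyp.ord_poly_infty pinf hpinf' hr0] at hainf
  rcases Nat.even_or_odd f.natDegree with hev' | hodd'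
  · obtain rfl := heven hev'
    obtain ⟨q, hq⟩ := hev'
    push_cast at h2y hainf
    omega
  · obtain rfl := hodd hodd'
    obtain ⟨q, hq⟩ := hodd'
    push_cast at h2y hainf
    omega

end Groth.Agent.S12584
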