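import Groth.Statements.S12587
import Groth.Agent.H23Hyp.Char2Reg

set_option autoImplicit false
universe u v w
open FunFld

namespace Groth.Agent.S12587

/-- For `k` perfect of characteristic `2` and `K = k(x, y)` with `y² + y = f(x)`, all poles of `f` of
odd order `2d_i - 1` at `p_i`, and `q = ∏ p_i^{d_i}` over the finite poles, the forms `x^i dx/q(x)`,
`0 ≤ i < g`, are a `k`-basis of the regular differential forms; regularity read through Laurent
expansions over `k` at every place; `q` is pinned up to a constant by its orders at the finite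
places. -/
theorem result (k : Type u) (K : Type v) [Field k] [Field K] [Algebra k K] [Algebra (RatFunc k) K] [IsScalarTower k (RatFunc k) K]
    (hK : FunFld.IsFunctionField k K) (hdeg : Module.finrank (RatFunc k) K = 2) [PerfectField k] (h2 : ringChar k = 2)
    [Algebra.IsSeparable (RatFunc k) K]
    (y : K) (hy : y ∉ Set.range (algebraMap (RatFunc k) K)) (f : RatFunc k)
    (heq : y ^ 2 + y = algebraMap (RatFunc k) K f)
    (hodd : ∀ p : FunFld.Place k (RatFunc k), 1 < p.1 f → Odd (p.ord f))
    (q : Polynomial k) (hq0 : q ≠ 0)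
    (hq : ∀ p : FunFld.Place k (RatFunc k), p.1 RatFunc.X ≤ 1 →
      p.ord (algebraMap (Polynomial k) (RatFunc k) q) = if 1 < p.1 f then (1 - p.ord f) / 2 else 0)
    (F : FunFld.Place k K → Type w) [∀ P, Field (F P)] [∀ P, Algebra k (F P)] [∀ P, FiniteDimensional k (F P)]
    (φ : ∀ P, K →ₐ[k] LaurentSeries (F P)) (hφ : ∀ P, LocRes.IsExpansionAt P.1 (φ P)) :
    (∀ i : ℕ, i < FunFld.genus k K → ∀ P,
      LocRes.vDiff (φ P) (algebraMap (RatFunc k) K (RatFunc.X ^ i / algebraMap (Polynomial k) (RatFunc k) q))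
        (algebraMap (RatFunc k) K RatFunc.X) ≤ 1) ∧
    ∀ z : K, (∀ P, LocRes.vDiff (φ P) z (algebraMap (RatFunc k) K RatFunc.X) ≤ 1) →
      ∃ a : Polynomial k, a.degree < (FunFld.genus k K : WithBot ℕ) ∧
        z = algebraMap (RatFunc k) K (algebraMap (Polynomial k) (RatFunc k) a / algebraMap (Polynomial k) (RatFunc k) q) := by
  haveI : CharP k 2 := h2 ▸ ringChar.charP k
  have hiff : ∀ p : FunFld.Place k (RatFunc k), 1 < p.1 f ↔ p.ord f < 0 := fun p => by
    rcases eq_or_ne f 0 with rfl | hf0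
    · simp [Groth.Agent.H23FunFld.ord_zero]
    · rw [← not_le, Groth.Agent.H23FunFld.val_le_one_iff p hf0, not_le]
  obtain ⟨h1, h2', -⟩ := Groth.Agent.H23Hyp.as_regular k K hK hdeg y hy f heq (fun p hp => hodd p ((hiff p).2 hp))
    q hq0 (fun p hp => (hq p hp).trans (if_congr (hiff p) rfl rfl)) F φ hφ
  refine ⟨fun i hi P => ?_, h2'⟩
  have h := h1 (Polynomial.X ^ i) (by rw [Polynomial.degree_X_pow]; exact_mod_cast hi) P
  rwa [map_pow, RatFunc.algebraMap_X] at h

end Groth.Agent.S12587
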