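import Groth.Statements.S12588
import Mathlib
import Groth.Agent.H23Diff.Setup
import Groth.Agent.H23Geom.Criteria

set_option autoImplicit false
universe u v w
open FunFld

namespace Groth.Agent.S12588

/-- For `k` perfect of characteristic `2`, `K` separable of degree `2` over `k(x)` with `y² + y = f(x)`,
and a place `p` of `k(x)` where `f` has a pole whose order `2d - 1` is odd: a place `P` of `K` above
`p` with ramification index `e` (necessarily `e = 2`, `P` unique) has different exponent `d(P|p) =
2d = 1 - ord_p(f)`; the exponent is computed on `dz` through Laurent expansions over `k` at `p` and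
`P`. -/
theorem result (k : Type u) (K : Type v) [Field k] [Field K] [Algebra k K] [Algebra (RatFunc k) K] [IsScalarTower k (RatFunc k) K]
    (hK : FunFld.IsFunctionField k K) (hdeg : Module.finrank (RatFunc k) K = 2) [PerfectField k] (h2 : ringChar k = 2)
    [Algebra.IsSeparable (RatFunc k) K]
    (y : K) (hy : y ∉ Set.range (algebraMap (RatFunc k) K)) (f : RatFunc k)
    (heq : y ^ 2 + y = algebraMap (RatFunc k) K f)
    (p : FunFld.Place k (RatFunc k)) (hp : 1 < p.1 f) (hodd : Odd (p.ord f))
    (P : FunFld.Place k K) (e : ℕ) (he : FunFld.IsOverWith P p e)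
    (F F' : Type w) [Field F] [Algebra k F] [Field F'] [Algebra k F']
    (φ : RatFunc k →ₐ[k] LaurentSeries F) (hφ : LocRes.IsExpansionAt p.1 φ)
    (ψ : K →ₐ[k] LaurentSeries F') (hψ : LocRes.IsExpansionAt P.1 ψ)
    (z : RatFunc k) (hz : LocRes.vDiff φ 1 z ≠ 0) (hz' : LocRes.vDiff ψ 1 (algebraMap (RatFunc k) K z) ≠ 0) :
    LocRes.diffExp φ ψ e z = 1 - p.ord f := by
  classical
  open Groth.Agent.H23FunFld in
  have hg := Groth.Agent.H23Geom.isGeometric_of_perfectField hK
  haveI : FiniteDimensional (RatFunc k) K := FiniteDimensional.of_finrank_pos (hdeg ▸ two_pos)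
  have hRF : FunFld.IsFunctionField k (RatFunc k) := by
    refine ⟨⟨RatFunc.X, RatFunc.transcendental_X, ?_⟩, fun w hw => ?_⟩
    · rw [RatFunc.adjoin_X]
      exact Module.Finite.of_surjective
        (Algebra.linearMap (⊤ : IntermediateField k (RatFunc k)) (RatFunc k))
        fun z => ⟨⟨z, IntermediateField.mem_top⟩, rfl⟩
    · obtain ⟨c, hc⟩ := hK.2 _ ((isAlgebraic_algebraMap_iff (algebraMap (RatFunc k) K).injective).2 hw)
      exact ⟨c, (algebraMap (RatFunc k) K).injective ((IsScalarTower.algebraMap_apply k (RatFunc k) K c).symm.trans hc)⟩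
  have hgR := Groth.Agent.H23Geom.isGeometric_of_perfectField hRF
  haveI : CharP k 2 := ringChar.of_eq h2
  haveI : CharP F 2 := charP_of_injective_algebraMap (algebraMap k F).injective 2
  haveI : CharP F' 2 := charP_of_injective_algebraMap (algebraMap k F').injective 2
  have hf0 : f ≠ 0 := fun h => by rw [h, map_zero] at hp; exact absurd hp (by simp)
  obtain ⟨m, hm⟩ : ∃ m : ℤ, p.ord f = -m := ⟨-p.ord f, (neg_neg _).symm⟩
  have hm0 : 0 < m := by
    rw [Groth.Agent.H23FunFld.val_eq_exp p hf0, ← WithZero.exp_zero, WithZero.exp_lt_exp, hm] at hp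
    omega
  have hmodd : Odd m := by rw [hm, odd_neg] at hodd; exact hodd
  have hy0 : y ≠ 0 := fun h => hy ⟨0, by rw [map_zero, h]⟩
  have hPf : P.ord (algebraMap (RatFunc k) K f) = -((e : ℤ) * m) := by
    rw [Groth.Agent.H23Ext.IsOverWith.ord_eq he, hm, mul_neg]
  have he2 : e ≤ 2 := by
    have hsum := Groth.Agent.H23Ext.sum_ramIdx_mul_deg (K' := K) hRF p
      (Groth.Agent.H23Ext.finite_isOver hRF p).toFinset (fun R => Set.Finite.mem_toFinset _)
    have hmem : P ∈ (Groth.Agent.H23Ext.finite_isOver (K' := K) hRF p).toFinset :=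
      (Set.Finite.mem_toFinset _).2 ⟨e, he⟩
    have h1 := Finset.single_le_sum (f := fun R => FunFld.ramIdx R p * R.deg) (fun _ _ => Nat.zero_le _) hmem
    simp only [Groth.Agent.H23Ext.ramIdx_eq he] at h1
    rw [hsum, hdeg] at h1
    have hdp : p.deg ≤ P.deg := by
      haveI := Groth.Agent.H23Geom.isLocalHom_incl (⟨e, he⟩ : FunFld.IsOver P p)
      haveI : @Module.Finite k (IsLocalRing.ResidueField P.O) _ _ Algebra.toModule :=
        Groth.Agent.H23FunFld.finiteDimensional_residueField hK P
      haveI : Module.Finite k (IsLocalRing.ResidueField P.O) :=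
        Groth.Agent.H23FunFld.finiteDimensional_residueField hK P
      exact LinearMap.finrank_le_finrank_of_injective
        (f := (show IsLocalRing.ResidueField p.O →ₐ[k] IsLocalRing.ResidueField P.O from
          { toRingHom := IsLocalRing.ResidueField.map (Groth.Agent.H23Geom.incl (⟨e, he⟩ : FunFld.IsOver P p))
            commutes' := fun c => congrArg (IsLocalRing.residue P.O)
              (Subtype.ext (IsScalarTower.algebraMap_apply k (RatFunc k) K c).symm) }).toLinearMap)
        (IsLocalRing.ResidueField.map (Groth.Agent.H23Geom.incl (⟨e, he⟩ : FunFld.IsOver P p))).injective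
    exact Nat.le_of_mul_le_mul_right (h1.trans (Nat.mul_le_mul_left 2 hdp))
      (Groth.Agent.H23FunFld.deg_pos hK P)
  have hord : P.ord y = -m ∧ e = 2 := by
    have he1 := Groth.Agent.H23Ext.IsOverWith.pos he
    have hy1 : y + 1 ≠ 0 := fun h => hy ⟨-1, by rw [map_neg, map_one, eq_neg_of_add_eq_zero_left h]⟩
    have h1 : P.ord y + P.ord (y + 1) = -((e : ℤ) * m) := by
      rw [← hPf, ← heq, show y ^ 2 + y = y * (y + 1) by ring, Groth.Agent.H23FunFld.ord_mul P hy0 hy1]
    have hneg : P.ord y < 0 := by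
      by_contra hle
      have h2 : 0 ≤ P.ord (y + 1) := by
        rw [← Groth.Agent.H23FunFld.val_le_one_iff P hy1]
        exact (P.1.map_add _ _).trans (max_le ((Groth.Agent.H23FunFld.val_le_one_iff P hy0).2 (not_lt.1 hle))
          (map_one P.1).le)
      nlinarith
    have h3 : P.1 (y + 1) = P.1 y := P.1.map_add_eq_of_lt_left (by
      rw [map_one, Groth.Agent.H23FunFld.val_eq_exp P hy0, ← WithZero.exp_zero, WithZero.exp_lt_exp]; omega)
    have h4 : P.ord (y + 1) = P.ord y := by simp only [FunFld.Place.ord, h3]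
    rw [h4] at h1
    obtain ⟨q, hq⟩ := hmodd
    interval_cases e <;> omega
  obtain ⟨hyord, rfl⟩ := hord
  have hD : ∀ {G : Type w} [Field G] [CharP G 2] (g : LaurentSeries G), Valued.v g = WithZero.exp m →
      Valued.v (LocRes.D G g) = WithZero.exp (m + 1) := by
    intro G _ _ g hg'
    have hlow : ∀ n : ℤ, n < -m → g.coeff n = 0 := fun n hn =>
      LaurentSeries.coeff_zero_of_lt_valuation G (D := -m) (by rw [hg', neg_neg]) hn
    have htop : g.coeff (-m) ≠ 0 := fun h0 => by
      have h1 : Valued.v g ≤ WithZero.exp (-(-m + 1)) := by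
        rw [LaurentSeries.valuation_le_iff_coeff_lt_eq_zero]
        intro n hn
        rcases lt_or_eq_of_le (Int.lt_add_one_iff.1 hn) with h | rfl
        · exact hlow n h
        · exact h0
      rw [hg', WithZero.exp_le_exp] at h1
      omega
    refine le_antisymm ?_ (not_lt.1 fun hlt => htop ?_)
    · rw [show m + 1 = -(-m - 1) by ring, LaurentSeries.valuation_le_iff_coeff_lt_eq_zero]
      intro n hn
      rw [LocRes.D_coeff, hlow (n + 1) (by omega), smul_zero]
    · have h1 : Valued.v (LocRes.D G g) ≤ WithZero.exp (-(-m : ℤ)) := by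
        rcases eq_or_ne (Valued.v (LocRes.D G g)) (0 : WithZero (Multiplicative ℤ)) with h0 | h0
        · rw [h0]; exact zero_le
        · rw [← WithZero.exp_log h0, WithZero.exp_lt_exp] at hlt
          rw [← WithZero.exp_log h0, WithZero.exp_le_exp]
          omega
      have h2 := LaurentSeries.coeff_zero_of_lt_valuation G h1 (show -m - 1 < -m by omega)
      rw [LocRes.D_coeff, sub_add_cancel, zsmul_eq_mul, mul_eq_zero] at h2
      refine h2.resolve_left fun h3 => ?_
      rw [CharP.intCast_eq_zero_iff G 2, dvd_neg] at h3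
      exact (Int.not_even_iff_odd.2 hmodd) (even_iff_two_dvd.2 h3)
  obtain ⟨t, -, ht⟩ := Groth.Agent.H23FunFld.exists_val_eq p (-1)
  have h1 : LocRes.vDiff φ 1 f = WithZero.exp (m + 1) := by
    rw [LocRes.vDiff, map_one, one_mul, hD _ (by rw [hφ.1, Groth.Agent.H23FunFld.val_eq_exp p hf0, hm, neg_neg])]
  have h2 : LocRes.vDiff ψ 1 (algebraMap (RatFunc k) K f) = WithZero.exp (m + 1) := by
    rw [LocRes.vDiff, map_one, one_mul, ← heq, map_add, map_pow, map_add, Derivation.leibniz_pow,
      ← Nat.cast_smul_eq_nsmul F', CharP.cast_eq_zero, zero_smul, zero_add,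
      hD _ (by rw [hψ.1, Groth.Agent.H23FunFld.val_eq_exp P hy0, hyord, neg_neg])]
  have e1 : LocRes.diffExp φ ψ 2 z = LocRes.diffExp φ ψ 2 f := by
    rw [(Groth.Agent.H23Diff.diffExp_eq_ordDiff hRF hgR hφ hψ he hz hz' ht).2,
      (Groth.Agent.H23Diff.diffExp_eq_ordDiff hRF hgR hφ hψ he (h1 ▸ WithZero.exp_ne_zero)
        (h2 ▸ WithZero.exp_ne_zero) ht).2]
  rw [e1, LocRes.diffExp, LocRes.ordDiff, LocRes.ordDiff, h1, h2, WithZero.log_exp, hm]
  push_cast
  ring

end Groth.Agent.S12588
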