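import Groth.Statements.S12589
import Groth.Agent.H23Geom.ConstIntApp

set_option autoImplicit false
universe u v
open FunFld

namespace Groth.Agent.S12589

/-- If a place `P` of a geometric function field of one variable `K/k` is nonsingular with respect to
the finite extension `k'/k` (the integral closure of `O_P` in `K' = k' ⊗_k K` is `O_P[k']`) and `Q`
is a place of `K'` above `P`, then `F_Q = k' F_P`. -/
theorem result (k k' : Type u) (K K' : Type v) [Field k] [Field k'] [Field K] [Field K']
    [Algebra k k'] [FiniteDimensional k k'] [Algebra k K] [Algebra K K'] [Algebra k' K'] [Algebra k K']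
    [IsScalarTower k k' K'] [IsScalarTower k K K']
    (h : Function.Bijective (Algebra.TensorProduct.productMap
      (IsScalarTower.toAlgHom k k' K') (IsScalarTower.toAlgHom k K K')))
    (hK : FunFld.IsFunctionField k K) (hg : FunFld.IsGeometric k K)
    (P : FunFld.Place k K) [Algebra P.O K'] [IsScalarTower P.O K K']
    (hns : (integralClosure P.O K').toSubring = (Algebra.adjoin P.O (Set.range (algebraMap k' K'))).toSubring)
    (Q : FunFld.Place k K') [P.1.HasExtension Q.1] (hk' : ∀ c : k', Q.1 (algebraMap k' K' c) ≤ 1) :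
    Algebra.adjoin (IsLocalRing.ResidueField P.O)
      (Set.range fun c : k' => IsLocalRing.residue Q.O ⟨algebraMap k' K' c, hk' c⟩) = ⊤ := by
  classical
  open Groth.Agent.H23FunFld Groth.Agent.H23Ext in
  haveI := Groth.Agent.H23Geom.finiteDimensional_ext' h
  haveI : IsScalarTower k P.O K' := IsScalarTower.of_algebraMap_eq fun c => by
    rw [IsScalarTower.algebraMap_apply P.O K K', IsScalarTower.algebraMap_apply k K K']
    rfl
  have hQP : FunFld.IsOver Q P := by
    obtain ⟨P', hP'⟩ := Groth.Agent.H23Ext.exists_below (K' := K') hK.1 Q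
    obtain rfl : P' = P := Groth.Agent.H23FunFld.place_eq_of_le fun x hx => by
      rw [← Valuation.HasExtension.val_map_le_one_iff (vR := P.1) (vA := Q.1)]
      exact (Groth.Agent.H23Ext.le_one_iff_of_isOver hP' x).2 hx
    exact hP'
  rw [eq_top_iff]
  rintro r -
  obtain ⟨⟨r, hr⟩, rfl⟩ := IsLocalRing.residue_surjective r
  set S := (Groth.Agent.H23Ext.finite_isOver (K' := K') hK P).toFinset
  have hS : ∀ R, R ∈ S ↔ FunFld.IsOver R P := fun R => Set.Finite.mem_toFinset _
  obtain ⟨z, hz⟩ := Groth.Agent.H23FunFld.approximation S (fun R => if R = Q then r else 0) (fun _ => -1)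
  have hlt : (WithZero.exp (-1 : ℤ)) < 1 := by rw [← WithZero.exp_zero, WithZero.exp_lt_exp]; omega
  have hzQ : Q.1 (z - r) < 1 := by
    have h1 := (hz Q ((hS Q).2 hQP)).trans_lt hlt
    rwa [if_pos rfl] at h1
  have hzle : ∀ R : FunFld.Place k K', FunFld.IsOver R P → R.1 z ≤ 1 := by
    intro R hR
    have h1 := (hz R ((hS R).2 hR)).trans hlt.le
    rcases eq_or_ne R Q with rfl | hne
    · rw [if_pos rfl] at h1
      have := (R.1.map_add (z - r) r).trans (max_le h1 hr)
      rwa [sub_add_cancel] at this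
    · rwa [if_neg hne, sub_zero] at h1
  have hzA : z ∈ (Algebra.adjoin P.O (Set.range (algebraMap k' K'))).toSubring := by
    rw [← hns]
    exact (Groth.Agent.H23Ext.mem_integralClosure_iff hK P).2 hzle
  have hres : IsLocalRing.residue Q.O ⟨r, hr⟩ = IsLocalRing.residue Q.O ⟨z, hzle Q hQP⟩ := by
    rw [← sub_eq_zero, ← map_sub, IsLocalRing.residue_eq_zero_iff, ValuationSubring.valuation_lt_one_iff,
      ← Q.1.isEquiv_valuation_valuationSubring.lt_one_iff_lt_one]
    change Q.1 (r - z) < 1
    rwa [Valuation.map_sub_swap]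
  rw [hres]
  set A := Algebra.adjoin (IsLocalRing.ResidueField P.O)
      (Set.range fun c : k' => IsLocalRing.residue Q.O ⟨algebraMap k' K' c, hk' c⟩)
  suffices key : ∀ w ∈ Algebra.adjoin P.O (Set.range (algebraMap k' K')),
      ∃ hw : Q.1 w ≤ 1, IsLocalRing.residue Q.O ⟨w, hw⟩ ∈ A by
    obtain ⟨_, hA⟩ := key z hzA
    exact hA
  intro w hw
  induction hw using Algebra.adjoin_induction with
  | mem x hx =>
    obtain ⟨c, rfl⟩ := hx
    exact ⟨hk' c, Algebra.subset_adjoin ⟨c, rfl⟩⟩
  | algebraMap a =>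
    have ha : Q.1 (algebraMap P.O K' a) ≤ 1 := by
      rw [IsScalarTower.algebraMap_apply P.O K K']
      exact (Valuation.HasExtension.val_map_le_one_iff (vR := P.1) (vA := Q.1) _).2 a.2
    refine ⟨ha, ?_⟩
    have e : IsLocalRing.residue Q.O ⟨_, ha⟩ = algebraMap (IsLocalRing.ResidueField P.O) (IsLocalRing.ResidueField Q.O) (IsLocalRing.residue P.O a) := by
      rw [Valuation.HasExtension.algebraMap_residue_eq_residue_algebraMap]
      congr 1
      exact Subtype.ext (IsScalarTower.algebraMap_apply P.O K K' a)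
    rw [e]
    exact A.algebraMap_mem _
  | add x y _ _ ihx ihy =>
    obtain ⟨hx, ihx⟩ := ihx
    obtain ⟨hy, ihy⟩ := ihy
    refine ⟨(Q.1.map_add _ _).trans (max_le hx hy), ?_⟩
    exact add_mem ihx ihy
  | mul x y _ _ ihx ihy =>
    obtain ⟨hx, ihx⟩ := ihx
    obtain ⟨hy, ihy⟩ := ihy
    refine ⟨by rw [map_mul]; exact mul_le_one' hx hy, ?_⟩
    exact mul_mem ihx ihy

end Groth.Agent.S12589
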