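-- statement FlatMor.GrothFrozen.S1259 (Groth/Statements/S1259.lean; the theorem FlatMor.free_after_etale_localization_along_fiber_finiteType);
import Groth.Statements.S1259
import Groth.Agent.H7Flat.Chain.CoverOpen

set_option autoImplicit false
universe u
open FlatMor

namespace Groth.Agent.S1259

open TensorProduct IsLocalRing in
/-- Ring form, X = Spec S and S = Spec R affine: let S be a finite type R-algebra, N a finite S-module
and p a prime of R such that N_q is flat over R for every prime q of S over p. Then there is an
étale R-algebra R' with a prime p' over p having the same residue field such that, writing A for the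
local ring of R' at p' and S_A, N_A for the base changes: there is an étale S_A-algebra C such that
every prime of S over p is the contraction of a prime of C over the maximal ideal of A, and C ⊗ N_A
is a free A-module. -/
theorem result {R S : Type u} [CommRing R] [CommRing S] [Algebra R S] [Algebra.FiniteType R S]
    (N : Type u) [AddCommGroup N] [Module S N] [Module R N] [IsScalarTower R S N] [Module.Finite S N]
    (p : Ideal R) [p.IsPrime] (hflat : ∀ (q : Ideal S) [q.IsPrime], q.LiesOver p → FlatCA.FlatAt R q N) :
    ∃ (R' : Type u) (_ : CommRing R') (_ : Algebra R R') (p' : Ideal R') (_ : p'.IsPrime), FlatCA.IsEtaleNhd R R' p p' ∧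
      ∀ (SA NA : Type u) [CommRing SA] [Algebra R SA] [Algebra S SA] [Algebra (Localization.AtPrime p') SA]
        [IsScalarTower R S SA] [IsScalarTower R (Localization.AtPrime p') SA]
        [Algebra.IsPushout R S (Localization.AtPrime p') SA]
        [AddCommGroup NA] [Module SA NA] [Module S NA] [IsScalarTower S SA NA]
        (f : N →ₗ[S] NA), IsBaseChange SA f →
        ∃ (C : Type u) (_ : CommRing C) (_ : Algebra SA C) (_ : Algebra (Localization.AtPrime p') C)
          (_ : IsScalarTower (Localization.AtPrime p') SA C) (_ : Algebra S C) (_ : IsScalarTower S SA C),
          Algebra.Etale SA C ∧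
          (∀ (q : Ideal S) [q.IsPrime], q.LiesOver p → ∃ x' : Ideal C, x'.IsPrime ∧ x'.comap (algebraMap S C) = q ∧
            x'.LiesOver (maximalIdeal (Localization.AtPrime p'))) ∧
          Module.Free (Localization.AtPrime p') (RestrictScalars (Localization.AtPrime p') C (C ⊗[SA] NA)) := by
  exact H7Flat.Chain.exists_cover_free N p hflat

end Groth.Agent.S1259
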