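import Groth.Statements.S12590
import Groth.Agent.H23Diff.SepCoeff

set_option autoImplicit false
universe u v w
open FunFld

namespace Groth.Agent.S12590

/-- At a place `P` of a geometric function field of one variable `K/k` and for a separating variable
`x`, the local residue `Res_P(y dx)` is nonzero for some `y`; stated at a separable place through a
Laurent expansion over `k`, with `y` found in `K` itself. (The companion assertion on the largest
finite extension of `k` inside the completion is not stated.) -/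
theorem result (k : Type u) (K : Type v) [Field k] [Field K] [Algebra k K] (hK : FunFld.IsFunctionField k K) (hg : FunFld.IsGeometric k K)
    (P : FunFld.Place k K) (F : Type w) [Field F] [Algebra k F] [FiniteDimensional k F]
    (φ : K →ₐ[k] LaurentSeries F) (hφ : LocRes.IsExpansionAt P.1 φ)
    (x : K) (hx : KaehlerDifferential.D k K x ≠ 0) :
    ∃ y : K, LocRes.locRes φ y x ≠ 0 := by
  haveI := Groth.Agent.H23Diff.isSeparable_coeff hK hg hφ
  obtain ⟨a, ha⟩ : ∃ a : F, Algebra.trace k F a ≠ 0 := by
    by_contra hno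
    push Not at hno
    exact Algebra.trace_ne_zero k F (LinearMap.ext hno)
  obtain ⟨t, ht⟩ := hφ.2.2
  have ht0 : KaehlerDifferential.D k K t ≠ 0 := Groth.Agent.H23Diff.D_ne_zero_param hφ ht
  obtain ⟨c, hc⟩ := Groth.Agent.H23Diff.exists_ratio hK hg hx t
  have hc0 := Groth.Agent.H23Diff.ratio_ne_zero ht0 hc
  have hv1 := Groth.Agent.H23Diff.val_D_param hφ ht
  set G := LocRes.D F (φ t)
  set b := G.coeff 0
  have hb : b ≠ 0 := by
    intro h0
    have h2 : Valued.v G ≤ WithZero.exp (-1 : ℤ) := by
      rw [LaurentSeries.valuation_le_iff_coeff_lt_eq_zero]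
      intro n hn
      rcases lt_or_eq_of_le (show n ≤ 0 by omega) with h | rfl
      · exact LaurentSeries.coeff_zero_of_lt_valuation F (D := 0) (hv1.trans_le (by rw [neg_zero, WithZero.exp_zero])) h
      · exact h0
    rw [hv1, ← WithZero.exp_zero, WithZero.exp_le_exp] at h2
    omega
  -- a multiplier with leading coefficient `a / b` in degree `-1`
  obtain ⟨T, hT⟩ : ∃ T : K, P.1 T = WithZero.exp (1 : ℤ) := ⟨t⁻¹, by rw [map_inv₀, ht, ← WithZero.exp_neg, neg_neg]⟩
  set S := φ T * G
  have hSv : Valued.v S = WithZero.exp (1 : ℤ) := by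
    change Valued.v (φ T * G) = _
    rw [map_mul, hv1, hφ.1, hT, mul_one]
  set s := S.coeff (-1)
  have hs : s ≠ 0 := by
    intro h0
    have h2 : Valued.v S ≤ WithZero.exp (-0 : ℤ) := by
      rw [LaurentSeries.valuation_le_iff_coeff_lt_eq_zero]
      intro n hn
      rcases lt_or_eq_of_le (show n ≤ -1 by omega) with h | rfl
      · exact LaurentSeries.coeff_zero_of_lt_valuation F (D := -1) (hSv.trans_le (by rw [neg_neg])) h
      · exact h0
    rw [hSv, WithZero.exp_le_exp] at h2
    omega
  obtain ⟨z, hz, hza⟩ := hφ.2.1 (a / s)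
  refine ⟨z * T * c, ?_⟩
  rw [LocRes.locRes, LocRes.resExp, LocRes.res_apply, map_mul φ, mul_assoc, ← Groth.Agent.H23Diff.D_exp_eq φ hc,
    map_mul φ, mul_assoc]
  change Algebra.trace k F ((φ z * S).coeff (-1)) ≠ 0
  have key : (φ z * S).coeff (-1) = a := by
    obtain ⟨Z, hZ⟩ := (LaurentSeries.val_le_one_iff_eq_coe F _).1 ((hφ.1 z).trans_le hz)
    have hS1 : Valued.v (HahnSeries.single (1 : ℤ) (1 : F) * S) ≤ (1 : WithZero (Multiplicative ℤ)) := by
      rw [map_mul, hSv, LaurentSeries.valuation_single_zpow, ← WithZero.exp_add, ← WithZero.exp_zero, WithZero.exp_le_exp]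
      omega
    obtain ⟨S', hS'⟩ := (LaurentSeries.val_le_one_iff_eq_coe F _).1 hS1
    have e : ∀ f : LaurentSeries F, f.coeff (-1) = (HahnSeries.single (1 : ℤ) (1 : F) * f).coeff 0 := fun f => by
      rw [HahnSeries.coeff_single_mul, one_mul, zero_sub]
    rw [e, mul_left_comm, ← hS', ← hZ, ← PowerSeries.coe_mul, PowerSeries.coeff_coe, if_neg (by omega),
      Int.natAbs_zero, PowerSeries.coeff_zero_eq_constantCoeff, map_mul]
    have h1 : PowerSeries.constantCoeff Z = a / s := by
      rw [← hza, ← hZ, PowerSeries.coeff_coe, if_neg (by omega), Int.natAbs_zero, PowerSeries.coeff_zero_eq_constantCoeff]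
    have h2 : PowerSeries.constantCoeff S' = s := by
      change _ = S.coeff (-1)
      rw [e, ← hS', PowerSeries.coeff_coe, if_neg (by omega), Int.natAbs_zero, PowerSeries.coeff_zero_eq_constantCoeff]
    rw [h1, h2, div_mul_cancel₀ _ hs]
  rwa [key]

end Groth.Agent.S12590
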