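import Groth.Statements.S12591
import Mathlib
import Groth.Agent.H23Geom.AlgClosure
import Groth.Agent.H23Proj.Basic

set_option autoImplicit false
universe u v
open FunFld

namespace Groth.Agent.S12591

open WithZero IntermediateField
open scoped TensorProduct
open Groth.Agent.H23Geom Groth.Agent.H23Ext
open Groth.Agent.H23FunFld (val_eq_exp val_lt_one_iff exists_val_eq approximation)

set_option maxHeartbeats 1000000

theorem isField_tensor_algClosure {k : Type u} {K : Type v} [Field k] [Field K] [Algebra k K]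
    (hg : FunFld.IsGeometric k K) : IsField (AlgebraicClosure k ⊗[k] K) := by
  classical
  haveI : Nontrivial (AlgebraicClosure k ⊗[k] K) :=
    Module.FaithfullyFlat.lTensor_nontrivial k (AlgebraicClosure k) K
  refine ⟨exists_pair_ne _, mul_comm, fun {t} ht => ?_⟩
  obtain ⟨S, hS⟩ := TensorProduct.exists_finset t
  let F : IntermediateField k (AlgebraicClosure k) := adjoin k ((S.image Prod.fst : Finset _) : Set _)
  haveI : FiniteDimensional k F :=
    finiteDimensional_adjoin fun c _ => Algebra.IsIntegral.isIntegral c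
  let φ : F ⊗[k] K →ₐ[k] AlgebraicClosure k ⊗[k] K := Algebra.TensorProduct.map F.val (AlgHom.id k K)
  let s : F ⊗[k] K := ∑ p ∈ S.attach,
    (⟨p.1.1, subset_adjoin k _ (Finset.mem_coe.2 (Finset.mem_image_of_mem _ p.2))⟩ : F) ⊗ₜ[k] p.1.2
  have hs : φ s = t := by
    rw [hS, map_sum, ← Finset.sum_attach S]
    exact Finset.sum_congr rfl fun p _ => rfl
  have hs0 : s ≠ 0 := fun h => ht (by rw [← hs, h, map_zero])
  obtain ⟨r, hr⟩ := (hg F inferInstance).mul_inv_cancel hs0
  refine ⟨φ r, ?_⟩
  rw [← hs, ← map_mul φ, hr]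
  exact φ.toRingHom.map_one

/-- restriction of a place along `σ`, given an element of value `exp (-1)` -/
def restrictPlace {k Ω M K' : Type*} [Field k] [Field Ω] [Field M] [Field K'] [Algebra Ω M] [Algebra k K']
    (σ : K' →+* M) (ι : k →+* Ω) (hσ : ∀ c, σ (algebraMap k K' c) = algebraMap Ω M (ι c))
    (R : FunFld.Place Ω M) (hR : ∃ π, R.1 (σ π) = exp (-1 : ℤ)) : FunFld.Place k K' :=
  ⟨R.1.comap σ, fun c => by
    rw [Valuation.comap_apply, hσ]
    exact R.2.1 _,
   fun γ => by
    obtain ⟨π, hπ⟩ := hR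
    rcases eq_or_ne γ 0 with rfl | hγ
    · exact ⟨0, map_zero _⟩
    · refine ⟨π ^ (-(log γ)), ?_⟩
      rw [Valuation.comap_apply, map_zpow₀, map_zpow₀, hπ, ← exp_zsmul]
      conv_rhs => rw [← exp_log hγ]
      congr 1
      simp⟩

variable {k K Ω M : Type*} [Field k] [Field Ω] [IsAlgClosed Ω] [Field K] [Field M] [Algebra k Ω]
  [Algebra.IsAlgebraic k Ω] [Algebra k K] [Algebra K M] [Algebra Ω M] [Algebra k M]
  [IsScalarTower k Ω M] [IsScalarTower k K M]
  (hprod : Function.Bijective (Algebra.TensorProduct.productMap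
      (IsScalarTower.toAlgHom k Ω M) (IsScalarTower.toAlgHom k K M)))

include hprod in
theorem exists_splitting (hK : FunFld.IsFunctionField k K) (P : FunFld.Place k K) :
    ∃ F : IntermediateField k Ω, FiniteDimensional k F ∧
      ∀ (K' : Type*) [Field K'] [Algebra K K'] [Algebra F K'] [Algebra k K']
        [IsScalarTower k F K'] [IsScalarTower k K K'] (σ : K' →+* M),
        (∀ c : F, σ (algebraMap F K' c) = algebraMap Ω M c) →
        (∀ a : K, σ (algebraMap K K' a) = algebraMap K M a) →
        Function.Bijective (Algebra.TensorProduct.productMap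
          (IsScalarTower.toAlgHom k F K') (IsScalarTower.toAlgHom k K K')) →
        ∀ Q : FunFld.Place F K', P.1.HasExtension Q.1 → Q.deg = 1 := by
  classical
  obtain ⟨x, hx, hxP, -⟩ := exists_only_zero hK P
  have hx0 : x ≠ 0 := fun h => hx (h ▸ isAlgebraic_zero)
  have hFF : IsFF Ω M := isFF_const hprod hK
  have hFun : FunFld.IsFunctionField Ω M :=
    ⟨hFF, fun y hy => minpoly.mem_range_of_degree_eq_one Ω y
      (IsAlgClosed.degree_eq_one_of_irreducible Ω
        (minpoly.irreducible (isAlgebraic_iff_isIntegral.1 hy)))⟩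
  set xM := algebraMap K M x
  set S : Finset (FunFld.Place Ω M) := ((finite_support hFF xM).subset
    (show {R : FunFld.Place Ω M | 0 < R.ord xM} ⊆ _ from fun R hR => (ne_of_gt hR))).toFinset
  have hS : ∀ R, R ∈ S ↔ 0 < R.ord xM := fun R => Set.Finite.mem_toFinset _
  have hsumM := sum_zeros hFF (transcendental_const hprod hx) S hS
  simp only [Groth.Agent.H23Proj.deg_eq_one_of_isAlgClosed hFun, Nat.cast_one, mul_one,
    (finrank_const hprod hK hx).2] at hsumM
  choose π hπ0 hπ using fun R : FunFld.Place Ω M => exists_val_eq R (-1)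
  choose w hw using fun R : FunFld.Place Ω M =>
    approximation S (fun R' => if R' = R then (0 : M) else 1) (fun _ => -1)
  obtain ⟨F, hFfin, hFmem⟩ := exists_finite_const hprod (S.image π ∪ S.image w)
  refine ⟨F, hFfin, ?_⟩
  intro K' _ _ _ _ _ _ σ hσF hσK hprod' Q hQ
  haveI := hFfin
  have hrange : ∀ z ∈ Algebra.adjoin K (Set.range fun c : F => algebraMap Ω M c), z ∈ σ.range := by
    intro z hz
    induction hz using Algebra.adjoin_induction with
    | mem y hy => obtain ⟨c, rfl⟩ := hy; exact ⟨_, hσF c⟩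
    | algebraMap a => exact ⟨_, hσK a⟩
    | add a b _ _ ha hb => exact add_mem ha hb
    | mul a b _ _ ha hb => exact mul_mem ha hb
  have hπr : ∀ R ∈ S, ∃ p, R.1 (σ p) = exp (-1 : ℤ) := fun R hR => by
    obtain ⟨p, hp⟩ := hrange _ (hFmem (π R) (Finset.mem_union_left _ (Finset.mem_image_of_mem _ hR)))
    exact ⟨p, by rw [hp, hπ]⟩
  have hFF' : IsFF F K' := isFF_const hprod' hK
  set x' := algebraMap K K' x
  have hσx : σ x' = xM := hσK x
  set T : Finset (FunFld.Place F K') := ((finite_support hFF' x').subset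
    (show {R : FunFld.Place F K' | 0 < R.ord x'} ⊆ _ from fun R hR => (ne_of_gt hR))).toFinset
  have hT : ∀ R, R ∈ T ↔ 0 < R.ord x' := fun R => Set.Finite.mem_toFinset _
  have hsum := sum_zeros hFF' (transcendental_const hprod' hx) T hT
  rw [(finrank_const hprod' hK hx).2, ← hsumM] at hsum
  let r : ↥S → FunFld.Place F K' := fun R =>
    restrictPlace σ (algebraMap F Ω) (fun c => hσF c) R.1 (hπr R.1 R.2)
  have hord : ∀ R : ↥S, (r R).ord x' = R.1.ord xM := fun R => by
    rw [← hσx]; rfl
  have hinj : Function.Injective r := by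
    intro R₁ R₂ h12
    by_contra hne
    obtain ⟨v, hv⟩ := hrange _ (hFmem (w R₁.1) (Finset.mem_union_right _ (Finset.mem_image_of_mem _ R₁.2)))
    have h1 := hw R₁.1 R₁.1 R₁.2
    rw [if_pos rfl, sub_zero] at h1
    have h2 := hw R₁.1 R₂.1 R₂.2
    rw [if_neg (fun h => hne (Subtype.ext h.symm))] at h2
    have he : R₁.1.1 (σ v) = R₂.1.1 (σ v) :=
      congrArg (fun p : FunFld.Place F K' => p.1 v) h12
    rw [hv] at he
    have hexp : exp (-1 : ℤ) < (1 : WithZero (Multiplicative ℤ)) := by
      rw [← exp_zero, exp_lt_exp]; omega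
    have h3 : R₂.1.1 (w R₁.1) = 1 := by
      have h4 : R₂.1.1 (w R₁.1 - 1) < R₂.1.1 (1 : M) := by rw [map_one]; exact h2.trans_lt hexp
      rw [Valuation.map_eq_of_sub_lt _ h4, map_one]
    rw [h3] at he
    exact (h1.trans_lt hexp).ne he
  set I := S.attach.image r
  have hIT : I ⊆ T := fun R hR => by
    obtain ⟨R₀, -, rfl⟩ := Finset.mem_image.1 hR
    rw [hT, hord]
    exact (hS _).1 R₀.2
  have hIsum : ∑ R ∈ I, R.ord x' = ∑ R ∈ S, R.ord xM := by
    rw [Finset.sum_image fun a _ b _ hab => hinj hab, ← Finset.sum_attach S]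
    exact Finset.sum_congr rfl fun R _ => hord R
  rw [← hIsum] at hsum
  have hpos : ∀ R ∈ T, 1 ≤ R.ord x' ∧ (1 : ℤ) ≤ R.deg := fun R hR =>
    ⟨(hT R).1 hR, by have := deg_pos' hFF' R; omega⟩
  have hterm : ∀ R ∈ T, R.ord x' * (R.deg : ℤ) = if R ∈ I then R.ord x' else 0 := by
    have hle : ∀ R ∈ T, (if R ∈ I then R.ord x' else 0) ≤ R.ord x' * (R.deg : ℤ) := fun R hR => by
      obtain ⟨h1, h2⟩ := hpos R hR
      split_ifs <;> nlinarith
    have heq : ∑ R ∈ T, (if R ∈ I then R.ord x' else 0) = ∑ R ∈ T, R.ord x' * (R.deg : ℤ) := by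
      rw [Finset.sum_ite_mem, Finset.inter_eq_right.2 hIT, hsum]
    exact fun R hR => ((Finset.sum_eq_sum_iff_of_le hle).1 heq R hR).symm
  have hQT : Q ∈ T := by
    rw [hT]
    have hlt : P.1 x < 1 := (val_lt_one_iff P hx0).2 hxP
    haveI := hQ
    exact (val_lt_one_iff Q (by simpa [x'] using hx0)).1
      ((Valuation.HasExtension.val_map_lt_one_iff P.1 Q.1 x).2 hlt)
  obtain ⟨h1, h2⟩ := hpos Q hQT
  have h3 := hterm Q hQT
  by_cases hQI : Q ∈ I
  · rw [if_pos hQI] at h3
    have : (Q.deg : ℤ) = 1 := by nlinarith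
    exact_mod_cast this
  · rw [if_neg hQI] at h3
    nlinarith


/-- Every place `P` of a geometric function field of one variable `K/k` has a splitting field of finite
degree over `k`: a finite extension `k'` such that every place of `k' ⊗_k K` above `P` has degree
one over `k'`. (The finiteness of the set of singular places and the existence of a purely
inseparable `k'` making `k' ⊗_k K` nonsingular are not stated here.) -/
theorem result (k : Type u) (K : Type v) [Field k] [Field K] [Algebra k K]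
    (hK : FunFld.IsFunctionField k K) (hg : FunFld.IsGeometric k K) (P : FunFld.Place k K) :
    ∃ (k' : Type u) (_ : Field k') (_ : Algebra k k'), FiniteDimensional k k' ∧
      ∀ (K' : Type v) [Field K'] [Algebra K K'] [Algebra k' K'] [Algebra k K']
        [IsScalarTower k k' K'] [IsScalarTower k K K'],
        Function.Bijective (Algebra.TensorProduct.productMap
          (IsScalarTower.toAlgHom k k' K') (IsScalarTower.toAlgHom k K K')) →
        ∀ Q : FunFld.Place k' K', P.1.HasExtension Q.1 → Q.deg = 1 := by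
  classical
  let Ω := AlgebraicClosure k
  have hF : IsField (Ω ⊗[k] K) := isField_tensor_algClosure hg
  letI : Field (Ω ⊗[k] K) := hF.toField
  letI : Algebra K (Ω ⊗[k] K) := (Algebra.TensorProduct.includeRight : K →ₐ[k] Ω ⊗[k] K).toRingHom.toAlgebra
  haveI : IsScalarTower k K (Ω ⊗[k] K) := IsScalarTower.of_algebraMap_eq fun c =>
    ((Algebra.TensorProduct.includeRight : K →ₐ[k] Ω ⊗[k] K).commutes c).symm
  have hprod : Function.Bijective (Algebra.TensorProduct.productMap
      (IsScalarTower.toAlgHom k Ω (Ω ⊗[k] K)) (IsScalarTower.toAlgHom k K (Ω ⊗[k] K))) := by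
    have : (Algebra.TensorProduct.productMap
      (IsScalarTower.toAlgHom k Ω (Ω ⊗[k] K)) (IsScalarTower.toAlgHom k K (Ω ⊗[k] K))) = AlgHom.id k _ := by
      refine Algebra.TensorProduct.ext' fun a b => ?_
      rw [Algebra.TensorProduct.productMap_apply_tmul, AlgHom.id_apply]
      change (a ⊗ₜ[k] (1 : K)) * ((1 : Ω) ⊗ₜ[k] b) = a ⊗ₜ[k] b
      rw [Algebra.TensorProduct.tmul_mul_tmul, mul_one, one_mul]
    rw [this]
    exact Function.bijective_id
  obtain ⟨F, hFfin, hF'⟩ := exists_splitting hprod hK P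
  refine ⟨F, inferInstance, inferInstance, hFfin, ?_⟩
  intro K' _ _ _ _ _ _ h Q hQ
  haveI := hFfin
  let φ : F ⊗[k] K →ₐ[k] Ω ⊗[k] K := Algebra.TensorProduct.map F.val (AlgHom.id k K)
  let σ : K' →ₐ[k] Ω ⊗[k] K := φ.comp (AlgEquiv.ofBijective _ h).symm.toAlgHom
  have hσ : ∀ (c : F) (a : K), σ (algebraMap F K' c * algebraMap K K' a) = (c : Ω) ⊗ₜ[k] a := by
    intro c a
    have : algebraMap F K' c * algebraMap K K' a = AlgEquiv.ofBijective _ h (c ⊗ₜ[k] a) := by
      simp
    rw [this]
    change φ ((AlgEquiv.ofBijective _ h).symm (AlgEquiv.ofBijective _ h (c ⊗ₜ[k] a))) = _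
    rw [AlgEquiv.symm_apply_apply]
    rfl
  refine hF' K' σ.toRingHom (fun c => ?_) (fun a => ?_) h Q hQ
  · have := hσ c 1
    rwa [map_one, mul_one] at this
  · have := hσ 1 a
    rwa [map_one, one_mul] at this

end Groth.Agent.S12591
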