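import Groth.Statements.S12592
import Groth.Agent.H23Geom.Tower
import Groth.Agent.H23Geom.AlgClosure
import Groth.Agent.H23FunFld.Approx
import Groth.Agent.H23Geom.Ram

set_option autoImplicit false
universe u v
open FunFld

namespace Groth.Agent.S12592

open WithZero Polynomial
open scoped TensorProduct
open Groth.Agent.H23Geom Groth.Agent.H23Ext
open Groth.Agent.H23FunFld (val_eq_exp exists_val_eq approximation)

set_option maxHeartbeats 1000000
set_option synthInstance.maxHeartbeats 100000

theorem residue_eq_iff {k L : Type*} [Field k] [Field L] [Algebra k L] (Q : FunFld.Place k L) (a b : Q.O) :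
    IsLocalRing.residue Q.O a = IsLocalRing.residue Q.O b ↔ Q.1 ((a : L) - b) < 1 := by
  rw [← sub_eq_zero, ← map_sub]
  exact resHom_eq_zero_iff Q (a - b)

theorem exp_neg_one_lt : exp (-1 : ℤ) < (1 : WithZero (Multiplicative ℤ)) := by
  rw [← exp_zero, exp_lt_exp]; omega

variable {k k' K K' : Type*} [Field k] [Field k'] [Field K] [Field K'] [Algebra k k'] [FiniteDimensional k k']
  [Algebra k K] [Algebra K K'] [Algebra k' K'] [Algebra k K'] [IsScalarTower k k' K'] [IsScalarTower k K K']
  [FiniteDimensional K K']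

/-- A place over `k'` as a place over `k`. -/
def toK (Q : FunFld.Place k' K') : FunFld.Place k K' :=
  ⟨Q.1, fun c => by rw [IsScalarTower.algebraMap_apply k k' K']; exact Q.2.1 _, Q.2.2⟩

/-- A place over `k` as a place over `k'`. -/
def ofK (hj : ∀ (R : FunFld.Place k K') (c : k'), R.1 (algebraMap k' K' c) ≤ 1) (R : FunFld.Place k K') :
    FunFld.Place k' K' :=
  ⟨R.1, hj R, R.2.2⟩

theorem deg_toK (Q : FunFld.Place k' K') :
    (toK (k := k) Q).deg = Module.finrank k k' * Q.deg := by
  let a1 : Algebra k (IsLocalRing.ResidueField Q.O) := FunFld.Place.algRes (toK (k := k) Q)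
  let a2 : Algebra k' (IsLocalRing.ResidueField Q.O) := FunFld.Place.algRes Q
  have tower : @IsScalarTower k k' (IsLocalRing.ResidueField Q.O) _
      a2.toModule.toSMul a1.toModule.toSMul :=
    @IsScalarTower.of_algebraMap_eq k k' (IsLocalRing.ResidueField Q.O) _ _ _ _ a2 a1
      fun c => congrArg (IsLocalRing.residue Q.O) (Subtype.ext (IsScalarTower.algebraMap_apply k k' K' c))
  exact (@Module.finrank_mul_finrank k k' (IsLocalRing.ResidueField Q.O) _ _ _ _ a2.toModule
    a1.toModule tower _ _ _ (@Module.Free.of_divisionRing _ _ _ _ a2.toModule)).symm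

/-- The residue homomorphism at a rational place. -/
theorem exists_resHom {P : FunFld.Place k K} (Q : FunFld.Place k' K')
    (hQ : FunFld.IsOver (toK (k := k) Q) P) (hdeg : Q.deg = 1) :
    ∃ φ : IsLocalRing.ResidueField P.O →ₐ[k] k',
      ∀ a : P.O, Q.1 (algebraMap K K' (a : K) - algebraMap k' K' (φ (IsLocalRing.residue P.O a))) < 1 := by
  letI : Algebra k' (IsLocalRing.ResidueField Q.O) := FunFld.Place.algRes Q
  have hbij : Function.Bijective (algebraMap k' (IsLocalRing.ResidueField Q.O)) := by
    refine ⟨RingHom.injective _, fun r => ?_⟩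
    obtain ⟨c, hc⟩ := (finrank_eq_one_iff_of_nonzero' (1 : IsLocalRing.ResidueField Q.O) one_ne_zero).1 hdeg r
    exact ⟨c, by rw [← hc]; exact Algebra.algebraMap_eq_smul_one c⟩
  let e := RingEquiv.ofBijective (algebraMap k' (IsLocalRing.ResidueField Q.O)) hbij
  let incQ : P.O →+* Q.O := incl hQ
  haveI : IsLocalHom incQ := isLocalHom_incl hQ
  let ρ : IsLocalRing.ResidueField P.O →+* IsLocalRing.ResidueField Q.O :=
    IsLocalRing.ResidueField.map incQ
  let φ : IsLocalRing.ResidueField P.O →+* k' := e.symm.toRingHom.comp ρ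
  have key : ∀ a : P.O, Q.1 (algebraMap K K' (a : K) - algebraMap k' K' (φ (IsLocalRing.residue P.O a))) < 1 := by
    intro a
    have h1 : algebraMap k' (IsLocalRing.ResidueField Q.O) (φ (IsLocalRing.residue P.O a)) =
        IsLocalRing.residue Q.O (incl hQ a) := by
      refine (e.apply_symm_apply _).trans ?_
      exact IsLocalRing.ResidueField.map_residue incQ a
    exact (residue_eq_iff Q (incl hQ a) ⟨algebraMap k' K' _, Q.2.1 _⟩).1 h1.symm
  refine ⟨{ φ with commutes' := fun c => ?_ }, key⟩
  change φ (IsLocalRing.residue P.O (algebraMap k P.O c)) = algebraMap k k' c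
  by_contra hne
  have h1 := key (algebraMap k P.O c)
  rw [show ((algebraMap k P.O c : P.O) : K) = algebraMap k K c from rfl,
    ← IsScalarTower.algebraMap_apply k K K', IsScalarTower.algebraMap_apply k k' K', ← map_sub] at h1
  set d := algebraMap k k' c - φ (IsLocalRing.residue P.O (algebraMap k P.O c))
  have hd : d ≠ 0 := sub_ne_zero.2 (Ne.symm hne)
  have h2 : Q.1 (algebraMap k' K' d⁻¹) * Q.1 (algebraMap k' K' d) < 1 :=
    lt_of_le_of_lt (mul_le_of_le_one_left zero_le (Q.2.1 _)) h1
  rw [← map_mul, ← map_mul, inv_mul_cancel₀ hd, map_one, map_one] at h2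
  exact lt_irrefl _ h2

/-- Count the places over `P` and bound their ramification. -/
theorem count_places
    (hswap : Function.Bijective (Algebra.TensorProduct.productMap
      (IsScalarTower.toAlgHom k K K') (IsScalarTower.toAlgHom k k' K')))
    (h : Function.Bijective (Algebra.TensorProduct.productMap
      (IsScalarTower.toAlgHom k k' K') (IsScalarTower.toAlgHom k K K')))
    (hK : FunFld.IsFunctionField k K) (P : FunFld.Place k K)
    (hIC : ∀ z : K', (∀ Q : FunFld.Place k K', FunFld.IsOver Q P → Q.1 z ≤ 1) →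
      ∃ t, iota P (IsScalarTower.toAlgHom k k' K') t = z)
    (hsplit : ∀ Q : FunFld.Place k' K', (∃ e : ℕ, ∀ z : K, Q.1 (algebraMap K K' z) = P.1 z ^ e) → Q.deg = 1) :
    {Q : FunFld.Place k' K' | ∃ e : ℕ, ∀ z : K, Q.1 (algebraMap K K' z) = P.1 z ^ e}.Finite ∧
    {Q : FunFld.Place k' K' | ∃ e : ℕ, ∀ z : K, Q.1 (algebraMap K K' z) = P.1 z ^ e}.ncard =
      Field.finSepDegree k (IsLocalRing.ResidueField P.O) ∧
    ∀ Q : FunFld.Place k' K', (∃ e : ℕ, ∀ z : K, Q.1 (algebraMap K K' z) = P.1 z ^ e) →
      ∀ z : K, Q.1 (algebraMap K K' z) = P.1 z ^ Module.finrank (separableClosure k (IsLocalRing.ResidueField P.O)) (IsLocalRing.ResidueField P.O) := by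
  classical
  set j := IsScalarTower.toAlgHom k k' K' with hj
  haveI hFfin : FiniteDimensional k (IsLocalRing.ResidueField P.O) :=
    Module.finite_of_finrank_pos (deg_pos' hK.1 P)
  set S₀ := (finite_isOver' hK.1 P (K' := K')).toFinset
  have hS₀ : ∀ R, R ∈ S₀ ↔ FunFld.IsOver R P := fun R => Set.Finite.mem_toFinset _
  have hjle : ∀ (R : FunFld.Place k K') (c : k'), R.1 (algebraMap k' K' c) ≤ 1 := fun R c =>
    val_j_le_one j R c
  -- places over `P`
  set T : Set (FunFld.Place k' K') := {Q | FunFld.IsOver (toK (k := k) Q) P}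
  have hTeq : {Q : FunFld.Place k' K' | ∃ e : ℕ, ∀ z : K, Q.1 (algebraMap K K' z) = P.1 z ^ e} = T := rfl
  rw [hTeq]
  have hTfin : T.Finite := (finite_isOver' hK.1 P (K' := K')).preimage (f := toK (k := k) (k' := k'))
    (fun Q _ R _ hQR => Subtype.ext (congrArg (fun p : FunFld.Place k K' => p.1) hQR))
  have hdeg : ∀ Q ∈ T, Q.deg = 1 := fun Q hQ => hsplit Q hQ
  choose φ hφ using fun Q : T => exists_resHom (k := k) (P := P) Q.1 Q.2 (hdeg Q.1 Q.2)
  let E := AlgebraicClosure k'
  let χ : (IsLocalRing.ResidueField P.O →ₐ[k] E) → (P.O ⊗[k] k' →ₐ[k] E) := fun ψ =>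
    Algebra.TensorProduct.lift (ψ.comp (resHom P)) (IsScalarTower.toAlgHom k k' E) (fun _ _ => Commute.all _ _)
  let χ' : T → (P.O ⊗[k] k' →ₐ[k] k') := fun Q =>
    Algebra.TensorProduct.lift ((φ Q).comp (resHom P)) (AlgHom.id k k') (fun _ _ => Commute.all _ _)
  have hval : ∀ (Q : T) (t : P.O ⊗[k] k'), Q.1.1 (iota P j t - algebraMap k' K' (χ' Q t)) < 1 := by
    intro Q t
    induction t using TensorProduct.induction_on with
    | zero => simp
    | tmul a c =>
      rw [iota_tmul]
      simp only [χ', Algebra.TensorProduct.lift_tmul, AlgHom.comp_apply, AlgHom.id_apply, map_mul]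
      change Q.1.1 (_ * algebraMap k' K' c - _ * algebraMap k' K' c) < 1
      rw [← sub_mul, map_mul]
      exact lt_of_le_of_lt (mul_le_of_le_one_right zero_le (Q.1.2.1 c)) (hφ Q a)
    | add a b ha hb =>
      rw [map_add, map_add, map_add, add_sub_add_comm]
      exact (Q.1.1.map_add _ _).trans_lt (max_lt ha hb)
  -- injectivity
  let Ψ : T → (IsLocalRing.ResidueField P.O →ₐ[k] E) := fun Q => (IsScalarTower.toAlgHom k k' E).comp (φ Q)
  have hinj : Function.Injective Ψ := by
    intro Q₁ Q₂ h12
    by_contra hne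
    have hφ12 : φ Q₁ = φ Q₂ := AlgHom.ext fun a => (algebraMap k' E).injective (DFunLike.congr_fun h12 a)
    have hne' : toK (k := k) Q₂.1 ≠ toK (k := k) Q₁.1 := fun hh =>
      hne (Subtype.ext (Subtype.ext (congrArg (fun p : FunFld.Place k K' => p.1) hh).symm))
    obtain ⟨w, hw⟩ := approximation S₀ (fun R => if R = toK (k := k) Q₁.1 then (0 : K') else 1) (fun _ => -1)
    have hw1 := hw _ ((hS₀ _).2 Q₁.2)
    rw [if_pos rfl, sub_zero] at hw1
    have hw2 := hw _ ((hS₀ _).2 Q₂.2)
    rw [if_neg hne'] at hw2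
    have hwint : ∀ R : FunFld.Place k K', FunFld.IsOver R P → R.1 w ≤ 1 := fun R hR => by
      have h1 := (hw R ((hS₀ R).2 hR)).trans exp_neg_one_lt.le
      split_ifs at h1
      · rwa [sub_zero] at h1
      · have := (R.1.map_add (w - 1) 1).trans (max_le h1 (map_one R.1).le)
        rwa [sub_add_cancel] at this
    obtain ⟨t, ht⟩ := hIC w hwint
    have h1 := hval Q₁ t
    have h0 : χ' Q₁ t = 0 := by
      by_contra hne0
      have h3 : Q₁.1.1 (algebraMap k' K' (χ' Q₁ t)) < 1 := by
        rw [ht, Valuation.map_sub_swap] at h1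
        have := Q₁.1.1.map_add (algebraMap k' K' (χ' Q₁ t) - w) w
        rw [sub_add_cancel] at this
        exact this.trans_lt (max_lt h1 (hw1.trans_lt exp_neg_one_lt))
      have h4 : Q₁.1.1 (algebraMap k' K' (χ' Q₁ t)⁻¹) * Q₁.1.1 (algebraMap k' K' (χ' Q₁ t)) < 1 :=
        lt_of_le_of_lt (mul_le_of_le_one_left zero_le (Q₁.1.2.1 _)) h3
      rw [← map_mul, ← map_mul, inv_mul_cancel₀ hne0, map_one, map_one] at h4
      exact lt_irrefl _ h4
    have h2 := hval Q₂ t
    rw [show χ' Q₂ t = χ' Q₁ t by simp only [χ', hφ12], h0, map_zero, sub_zero, ht] at h2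
    have h5 : Q₂.1.1 (w - 1) < Q₂.1.1 (1 : K') := by
      rw [map_one]; exact lt_of_le_of_lt hw2 exp_neg_one_lt
    rw [Valuation.map_eq_of_sub_lt _ h5, map_one] at h2
    exact lt_irrefl _ h2
  -- surjectivity
  have hsurj : Function.Surjective Ψ := by
    intro ψ
    by_contra hno
    push Not at hno
    have hsep : ∀ Q : T, ∃ t : P.O ⊗[k] k', χ ψ t = 1 ∧ Q.1.1 (iota P j t) < 1 := by
      intro Q
      obtain ⟨a, ha⟩ := DFunLike.ne_iff.1 (hno Q)
      obtain ⟨a, rfl⟩ := IsLocalRing.residue_surjective a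
      let t₀ : P.O ⊗[k] k' := a ⊗ₜ[k] (1 : k') - (1 : P.O) ⊗ₜ[k] φ Q (IsLocalRing.residue P.O a)
      have hne : χ ψ t₀ ≠ 0 := by
        simp only [χ, t₀, map_sub, Algebra.TensorProduct.lift_tmul, AlgHom.comp_apply, map_one, mul_one, one_mul]
        exact sub_ne_zero.2 (Ne.symm ha)
      have hlt : Q.1.1 (iota P j t₀) < 1 := by
        have h1 := hval Q t₀
        rwa [show χ' Q t₀ = 0 by
          simp only [χ', t₀, map_sub, Algebra.TensorProduct.lift_tmul, AlgHom.comp_apply, map_one,
            mul_one, one_mul, AlgHom.id_apply]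
          exact sub_self _, map_zero, sub_zero] at h1
      -- the value of `χ ψ` is algebraic, so a polynomial in `t₀` hits `1`
      have hint : IsIntegral k (χ ψ t₀) := by
        simp only [χ, t₀, map_sub, Algebra.TensorProduct.lift_tmul, AlgHom.comp_apply, map_one, mul_one, one_mul]
        exact ((Algebra.IsIntegral.isIntegral (R := k) (IsLocalRing.residue P.O a)).map ψ).sub
          ((Algebra.IsIntegral.isIntegral (R := k) _).map (IsScalarTower.toAlgHom k k' E))
      obtain ⟨p, hp⟩ : ∃ p : k[X], aeval (χ ψ t₀) p = (χ ψ t₀)⁻¹ := by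
        have h2 : (χ ψ t₀)⁻¹ ∈ IntermediateField.adjoin k ({χ ψ t₀} : Set E) :=
          inv_mem (IntermediateField.mem_adjoin_simple_self k _)
        rw [← IntermediateField.mem_toSubalgebra, IntermediateField.adjoin_simple_toSubalgebra_of_isAlgebraic hint.isAlgebraic,
          Algebra.adjoin_singleton_eq_range_aeval] at h2
        exact h2
      refine ⟨t₀ * aeval t₀ p, ?_, ?_⟩
      · rw [map_mul, ← aeval_algHom_apply, hp, mul_inv_cancel₀ hne]
      · rw [map_mul, map_mul]
        refine lt_of_le_of_lt (mul_le_of_le_one_right zero_le ?_) hlt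
        exact val_iota_le_one j (Q := toK (k := k) Q.1) Q.2 _
    choose t ht1 ht2 using hsep
    haveI : Fintype T := hTfin.fintype
    set u := ∏ Q : T, t Q
    have hu : χ ψ u = 1 := by rw [map_prod]; exact Finset.prod_eq_one fun Q _ => ht1 Q
    have hu' : ∀ R : FunFld.Place k K', FunFld.IsOver R P → R.1 (iota P j u) ≤ exp (-1 : ℤ) := by
      intro R hR
      let Q : T := ⟨ofK hjle R, hR⟩
      rw [map_prod, map_prod, ← Finset.mul_prod_erase _ _ (Finset.mem_univ Q)]
      refine (mul_le_of_le_one_right zero_le (Finset.prod_le_one'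
        fun Q' _ => val_iota_le_one j hR _)).trans ?_
      exact le_exp_neg_one (ht2 Q)
    obtain ⟨π, hπ⟩ := exists_unif P
    obtain ⟨N, hN⟩ : ∃ N : ℕ, ∀ R ∈ S₀, FunFld.ramIdx R P ≤ N :=
      ⟨S₀.sup fun R => FunFld.ramIdx R P, fun R hR => Finset.le_sup (f := fun R => FunFld.ramIdx R P) hR⟩
    have hπ0 : algebraMap K K' (π : K) ≠ 0 := (_root_.map_ne_zero _).2 fun h0 => by
      rw [h0, map_zero] at hπ; exact exp_ne_zero hπ.symm
    obtain ⟨t', ht'⟩ := hIC (iota P j (u ^ N) / algebraMap K K' (π : K)) fun R hR => by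
      obtain ⟨e, he⟩ := id hR
      have hle := hN R ((hS₀ R).2 hR)
      rw [ramIdx_eq he] at hle
      rw [map_div₀, map_pow, map_pow, he, hπ, div_eq_mul_inv, ← exp_nsmul, ← exp_neg]
      refine (mul_le_mul' ((pow_le_pow_left' (hu' R hR) N)) le_rfl).trans ?_
      rw [← exp_nsmul, ← exp_add, ← exp_zero, exp_le_exp]
      simp
      omega
    have hkey : u ^ N = (π ⊗ₜ[k] (1 : k')) * t' := by
      refine iota_injective P j hswap.1 ?_
      rw [map_mul, iota_one_tmul, ht', mul_div_cancel₀ _ hπ0]
    have h0 : χ ψ (π ⊗ₜ[k] (1 : k')) = 0 := by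
      simp only [χ, Algebra.TensorProduct.lift_tmul, AlgHom.comp_apply]
      rw [(resHom_eq_zero_iff P π).2 (by rw [hπ]; exact exp_neg_one_lt), map_zero, zero_mul]
    have := congrArg (χ ψ) hkey
    rw [map_pow, hu, one_pow, map_mul, h0, zero_mul] at this
    exact one_ne_zero this
  have hcard : T.ncard = Field.finSepDegree k (IsLocalRing.ResidueField P.O) := by
    rw [Field.finSepDegree_eq_of_isAlgClosed k (IsLocalRing.ResidueField P.O) E, ← Nat.card_coe_set_eq]
    exact Nat.card_congr (Equiv.ofBijective Ψ ⟨hinj, hsurj⟩)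
  refine ⟨hTfin, hcard, ?_⟩
  -- the ramification
  set Fs := separableClosure k (IsLocalRing.ResidueField P.O)
  set i := Module.finrank Fs (IsLocalRing.ResidueField P.O)
  have hbound : ∀ Q : T, FunFld.ramIdx (toK (k := k) Q.1) P ≤ i := by
    intro Q
    obtain ⟨e, he⟩ := id Q.2
    rw [ramIdx_eq he]
    obtain ⟨π, hπ⟩ := exists_unif P
    set O := Q.1.O
    let inc : P.O →+* O := incl Q.2
    letI algkO : Algebra k O := ((algebraMap k' O).comp (algebraMap k k')).toAlgebra
    haveI : IsScalarTower k k' O := IsScalarTower.of_algebraMap_eq fun _ => rfl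
    let π' : O := inc π
    set I : Ideal O := Ideal.span {π'}
    let ρ₀ : P.O →+* O ⧸ I := (Ideal.Quotient.mk I).comp (inc)
    have hρ₀ : ∀ a ∈ IsLocalRing.maximalIdeal P.O, ρ₀ a = 0 := by
      intro a ha
      refine Ideal.Quotient.eq_zero_iff_mem.2 (Ideal.mem_span_singleton.2 ?_)
      have hπ0 : (π : K) ≠ 0 := fun h0 => by rw [h0, map_zero] at hπ; exact exp_ne_zero hπ.symm
      have hlt : P.1 (a : K) < 1 := (resHom_eq_zero_iff P a).1 ((IsLocalRing.residue_eq_zero_iff a).2 ha)
      refine map_dvd (inc) ⟨⟨(a : K) / π, ?_⟩, Subtype.ext (mul_div_cancel₀ _ hπ0).symm⟩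
      change P.1 ((a : K) / π) ≤ 1
      rw [map_div₀, hπ, div_eq_mul_inv, ← exp_neg, neg_neg]
      refine (mul_le_mul' (le_exp_neg_one hlt) le_rfl).trans ?_
      rw [← exp_add]; simp
    let ρ₁ : IsLocalRing.ResidueField P.O →+* O ⧸ I := Ideal.Quotient.lift _ ρ₀ hρ₀
    let ρ : IsLocalRing.ResidueField P.O →ₐ[k] O ⧸ I :=
      AlgHom.mk ρ₁ (fun c => by
          change Ideal.Quotient.mk I (inc (algebraMap k P.O c)) = algebraMap k (O ⧸ I) c
          rw [IsScalarTower.algebraMap_apply k k' (O ⧸ I)]
          change _ = Ideal.Quotient.mk I (algebraMap k' O (algebraMap k k' c))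
          congr 1
          refine Subtype.ext ?_
          change algebraMap K K' (algebraMap k K c) = algebraMap k' K' (algebraMap k k' c)
          rw [← IsScalarTower.algebraMap_apply, ← IsScalarTower.algebraMap_apply])
    -- constants of the separable part
    have hFs : ∀ s ∈ Fs, ρ s = algebraMap k' (O ⧸ I) (φ Q s) := by
      intro s hs
      obtain ⟨a, rfl⟩ := IsLocalRing.residue_surjective s
      have hsep : IsSeparable k (IsLocalRing.residue P.O a) := mem_separableClosure_iff.1 hs
      set x₀ := φ Q (IsLocalRing.residue P.O a)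
      set n₀ : O ⧸ I := ρ (IsLocalRing.residue P.O a) - algebraMap k' (O ⧸ I) x₀
      have hnil : IsNilpotent n₀ := by
        refine ⟨e, ?_⟩
        change Ideal.Quotient.mk I ((inc a - algebraMap k' O x₀) ^ e) = 0
        refine Ideal.Quotient.eq_zero_iff_mem.2 (Ideal.mem_span_singleton.2 ?_)
        have hπ' : Q.1.1 (π' : K') = exp (-(e : ℤ)) := by
          change Q.1.1 (algebraMap K K' (π : K)) = _
          rw [show Q.1.1 (algebraMap K K' (π : K)) = P.1 (π : K) ^ e from he _, hπ, ← exp_nsmul]
          congr 1; simp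
        have hπ'0 : (π' : K') ≠ 0 := fun h0 => by rw [h0, map_zero] at hπ'; exact exp_ne_zero hπ'.symm
        refine ⟨⟨(algebraMap K K' (a : K) - algebraMap k' K' x₀) ^ e / (π' : K'), ?_⟩,
          Subtype.ext (mul_div_cancel₀ _ hπ'0).symm⟩
        change Q.1.1 _ ≤ 1
        rw [map_div₀, map_pow, hπ', div_eq_mul_inv, ← exp_neg, neg_neg]
        refine (mul_le_mul' (pow_le_pow_left' (le_exp_neg_one (hφ Q a)) e) le_rfl).trans ?_
        rw [← exp_nsmul, ← exp_add]; simp
      have hg := minpoly.aeval k (IsLocalRing.residue P.O a)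
      set g := minpoly k (IsLocalRing.residue P.O a)
      have hg1 : aeval (algebraMap k' (O ⧸ I) x₀ + n₀) g = 0 := by
        rw [add_sub_cancel, aeval_algHom_apply, hg, map_zero]
      have hg2 : aeval (algebraMap k' (O ⧸ I) x₀) g = 0 := by
        rw [aeval_algebraMap_apply, aeval_algHom_apply, hg, map_zero, map_zero]
      have hunit : IsUnit (aeval (algebraMap k' (O ⧸ I) x₀) (derivative g)) := by
        rw [aeval_algebraMap_apply]
        refine (IsUnit.mk0 _ ?_).map _
        rw [aeval_algHom_apply, _root_.map_ne_zero]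
        exact hsep.aeval_derivative_ne_zero hg
      obtain ⟨kk, hkk⟩ := Polynomial.binomExpansion (g.map (algebraMap k (O ⧸ I))) (algebraMap k' (O ⧸ I) x₀) n₀
      rw [eval_map_algebraMap, eval_map_algebraMap, derivative_map, eval_map_algebraMap, hg1, hg2, zero_add] at hkk
      have hu : IsUnit (aeval (algebraMap k' (O ⧸ I) x₀) (derivative g) + kk * n₀) :=
        ((Commute.all kk n₀).isNilpotent_mul_left hnil).isUnit_add_left_of_commute hunit (Commute.all _ _)
      have h0 : n₀ = 0 := by
        have h1 : (aeval (algebraMap k' (O ⧸ I) x₀) (derivative g) + kk * n₀) * n₀ = 0 := by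
          rw [eq_comm] at hkk
          linear_combination hkk
        exact hu.mul_right_eq_zero.1 h1
      exact sub_eq_zero.1 h0
    -- generators
    set b := Module.finBasis Fs (IsLocalRing.ResidueField P.O)
    set V := Submodule.span k' (Set.range fun l => ρ (b l))
    have hρV : ∀ a, ρ a ∈ V := by
      intro a
      rw [← b.sum_repr a, map_sum]
      refine Submodule.sum_mem _ fun l _ => ?_
      change ρ (((b.repr a l : Fs) : IsLocalRing.ResidueField P.O) * b l) ∈ V
      rw [map_mul, hFs _ (SetLike.coe_mem _), ← Algebra.smul_def]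
      exact Submodule.smul_mem _ _ (Submodule.subset_span ⟨l, rfl⟩)
    have hmk : ∀ (t : P.O ⊗[k] k'), Ideal.Quotient.mk I ⟨iota P j t, val_iota_le_one j (Q := toK (k := k) Q.1) Q.2 t⟩ ∈ V := by
      intro t
      induction t using TensorProduct.induction_on with
      | zero =>
        convert V.zero_mem
        rw [← map_zero (Ideal.Quotient.mk I)]
        exact congrArg (Ideal.Quotient.mk I) (Subtype.ext (map_zero _))
      | tmul a c =>
        convert V.smul_mem c (hρV (IsLocalRing.residue P.O a)) using 1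
        rw [Algebra.smul_def]
        change _ = Ideal.Quotient.mk I (algebraMap k' O c) * Ideal.Quotient.mk I (inc a)
        rw [← map_mul]
        congr 1
        refine Subtype.ext ?_
        change iota P j (a ⊗ₜ[k] c) = algebraMap k' K' c * algebraMap K K' (a : K)
        rw [iota_tmul, mul_comm]
        rfl
      | add a b ha hb =>
        convert V.add_mem ha hb using 1
        rw [← map_add]
        congr 1
        exact Subtype.ext (map_add _ _ _)
    have hVtop : V = ⊤ := by
      rw [eq_top_iff]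
      rintro w -
      obtain ⟨w, rfl⟩ := Ideal.Quotient.mk_surjective w
      obtain ⟨z, hz⟩ := approximation S₀ (fun R => if R = toK (k := k) Q.1 then (w : K') else 0)
        (fun R => if R = toK (k := k) Q.1 then -(e : ℤ) else -1)
      obtain ⟨t, ht⟩ := hIC z fun R hR => by
        have h1 := hz R ((hS₀ R).2 hR)
        rcases eq_or_ne R (toK (k := k) Q.1) with rfl | hne
        · rw [if_pos rfl, if_pos rfl] at h1
          have := ((toK (k := k) Q.1).1.map_add (z - w) w).trans
            (max_le (h1.trans (by rw [← exp_zero, exp_le_exp]; omega)) w.2)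
          rwa [sub_add_cancel] at this
        · rw [if_neg hne, if_neg hne, sub_zero] at h1
          exact h1.trans exp_neg_one_lt.le
      have hq := hz _ ((hS₀ _).2 Q.2)
      rw [if_pos rfl, if_pos rfl, ← ht] at hq
      convert hmk t using 1
      rw [Ideal.Quotient.eq, Ideal.mem_span_singleton]
      have hπ' : Q.1.1 (π' : K') = exp (-(e : ℤ)) := by
        change Q.1.1 (algebraMap K K' (π : K)) = _
        rw [show Q.1.1 (algebraMap K K' (π : K)) = P.1 (π : K) ^ e from he _, hπ, ← exp_nsmul]
        congr 1; simp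
      have hπ'0 : (π' : K') ≠ 0 := fun h0 => by rw [h0, map_zero] at hπ'; exact exp_ne_zero hπ'.symm
      refine ⟨⟨((w : K') - iota P j t) / (π' : K'), ?_⟩, Subtype.ext (mul_div_cancel₀ _ hπ'0).symm⟩
      change Q.1.1 _ ≤ 1
      rw [map_div₀, hπ', Valuation.map_sub_swap, div_eq_mul_inv, ← exp_neg, neg_neg]
      refine (mul_le_mul' hq le_rfl).trans ?_
      rw [← exp_add]; simp
    haveI : FiniteDimensional k' (O ⧸ I) := Module.Finite.of_fg_top
      (hVtop ▸ Submodule.fg_span (Set.finite_range _))
    obtain ⟨z, hz0, hz⟩ := exists_val_eq Q.1 (-1)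
    let zO : O := ⟨z, by change Q.1.1 z ≤ 1; rw [hz]; exact exp_neg_one_lt.le⟩
    have hli : LinearIndependent k' fun m : Fin e => Ideal.Quotient.mk I (zO ^ (m : ℕ)) := by
      rw [Fintype.linearIndependent_iff]
      intro c hc
      by_contra hne
      push Not at hne
      obtain ⟨m₀, hm₀, hmin⟩ := Finset.exists_min_image (Finset.univ.filter fun m => c m ≠ 0) (fun m : Fin e => (m : ℕ))
        (by obtain ⟨m, hm⟩ := hne; exact ⟨m, by simp [hm]⟩)
      simp only [Finset.mem_filter, Finset.mem_univ, true_and] at hm₀ hmin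
      have hmem : (∑ m, algebraMap k' O (c m) * zO ^ (m : ℕ)) ∈ I := by
        rw [← Ideal.Quotient.eq_zero_iff_mem, map_sum, ← hc]
        exact Finset.sum_congr rfl fun m _ => by rw [map_mul, Algebra.smul_def]; rfl
      obtain ⟨r, hr⟩ := Ideal.mem_span_singleton.1 hmem
      have hle : Q.1.1 ((∑ m, algebraMap k' O (c m) * zO ^ (m : ℕ) : O) : K') ≤ exp (-(e : ℤ)) := by
        rw [hr]
        push_cast
        rw [map_mul]
        refine (mul_le_of_le_one_right zero_le r.2).trans (le_of_eq ?_)
        change Q.1.1 (algebraMap K K' (π : K)) = _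
        rw [show Q.1.1 (algebraMap K K' (π : K)) = P.1 (π : K) ^ e from he _, hπ, ← exp_nsmul]
        congr 1; simp
      have hval1 : ∀ d : k', d ≠ 0 → Q.1.1 (algebraMap k' K' d) = 1 := fun d hd => by
        refine le_antisymm (Q.1.2.1 d) ?_
        have h1 : Q.1.1 (algebraMap k' K' d⁻¹) * Q.1.1 (algebraMap k' K' d) = 1 := by
          rw [← map_mul, ← map_mul, inv_mul_cancel₀ hd, map_one, map_one]
        exact h1.symm.le.trans (mul_le_of_le_one_left zero_le (Q.1.2.1 _))
      have hterm : ∀ m : Fin e, ((algebraMap k' O (c m) * zO ^ (m : ℕ) : O) : K') = algebraMap k' K' (c m) * z ^ (m : ℕ) :=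
        fun m => rfl
      rw [AddSubmonoidClass.coe_finsetSum, ← Finset.add_sum_erase _ _ (Finset.mem_univ m₀)] at hle
      have hbig : Q.1.1 ((algebraMap k' O (c m₀) * zO ^ (m₀ : ℕ) : O) : K') = exp (-((m₀ : ℕ) : ℤ)) := by
        rw [hterm, map_mul, hval1 _ hm₀, map_pow, hz, one_mul, ← exp_nsmul]
        congr 1; simp
      rw [Valuation.map_add_eq_of_lt_left, hbig, exp_le_exp] at hle
      · have := m₀.isLt; omega
      rw [hbig]
      refine Q.1.1.map_sum_lt exp_ne_zero fun m hm => ?_
      rw [hterm, map_mul, map_pow, hz, ← exp_nsmul]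
      rcases eq_or_ne (c m) 0 with h0 | h0
      · rw [h0, map_zero, map_zero, zero_mul]; exact exp_pos
      · rw [hval1 _ h0, one_mul, exp_lt_exp]
        have h1 := hmin m h0
        have h2 : (m : ℕ) ≠ m₀ := fun hh => (Finset.mem_erase.1 hm).1 (Fin.ext hh)
        simp
        omega
    have h1 := hli.fintype_card_le_finrank
    have h2 : Module.finrank k' V ≤ i :=
      (finrank_range_le_card (R := k') (fun l => ρ (b l))).trans_eq (Fintype.card_fin _)
    rw [hVtop, finrank_top] at h2
    rw [Fintype.card_fin] at h1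
    exact h1.trans h2
  -- compare with the fundamental identity
  haveI : Fintype T := hTfin.fintype
  have hsum : ∑ Q : T, FunFld.ramIdx (toK (k := k) Q.1) P = Fintype.card T * i := by
    have h1 := sum_ramIdx_mul_deg' hK.1 P S₀ hS₀
    have hKK' : Module.finrank K K' = Module.finrank k k' := by
      let f : K ⊗[k] k' →ₐ[K] K' := Algebra.TensorProduct.lift (Algebra.ofId K K') j (fun _ _ => Commute.all _ _)
      have hf : ∀ w, f w = Algebra.TensorProduct.productMap (IsScalarTower.toAlgHom k K K') j w := by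
        intro w
        induction w using TensorProduct.induction_on with
        | zero => rw [map_zero, map_zero]
        | tmul a b => simp [f, Algebra.ofId_apply]
        | add a b ha hb =>
          change f (a + b) = _
          rw [map_add, map_add]
          exact congrArg₂ (· + ·) ha hb
      have hb : Function.Bijective f := by rw [funext hf]; exact hswap
      rw [← LinearEquiv.finrank_eq (AlgEquiv.ofBijective f hb).toLinearEquiv, Module.finrank_baseChange]
    have hP : P.deg = Fintype.card T * i := by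
      rw [← Nat.card_eq_fintype_card, Nat.card_coe_set_eq, hcard]
      exact (Field.finSepDegree_mul_finInsepDegree k (IsLocalRing.ResidueField P.O)).symm
    rw [hKK', hP] at h1
    have hbij : ∑ R ∈ S₀, FunFld.ramIdx R P * R.deg =
        ∑ Q : T, FunFld.ramIdx (toK (k := k) Q.1) P * (toK (k := k) Q.1).deg := by
      refine Finset.sum_bij' (fun R hR => (⟨ofK hjle R, (hS₀ R).1 hR⟩ : T)) (fun Q _ => toK (k := k) Q.1)
        (fun _ _ => Finset.mem_univ _) (fun Q _ => (hS₀ _).2 Q.2) (fun R _ => Subtype.ext rfl)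
        (fun Q _ => Subtype.ext (Subtype.ext rfl)) (fun R _ => rfl)
    rw [hbij] at h1
    simp only [deg_toK, fun Q : T => hdeg Q.1 Q.2, mul_one, ← Finset.sum_mul] at h1
    rw [mul_comm (Module.finrank k k')] at h1
    exact Nat.eq_of_mul_eq_mul_right Module.finrank_pos h1
  intro Q hQ z
  obtain ⟨e, he⟩ := id hQ
  have hei : ∀ Q : T, FunFld.ramIdx (toK (k := k) Q.1) P = i := by
    intro Q
    refine (Finset.sum_eq_sum_iff_of_le (fun Q' _ => hbound Q')).1 ?_ Q (Finset.mem_univ Q)
    rw [hsum, Finset.sum_const, smul_eq_mul, Finset.card_univ]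
  have h2 := hei ⟨Q, hQ⟩
  rw [ramIdx_eq (Q := toK (k := k) Q) (show FunFld.IsOverWith (toK (k := k) Q) P e from he)] at h2
  rw [he z, h2]


/-- For a nonsingular place `P` of a geometric function field of one variable `K/k` and a finite
extension `k'/k` that is a splitting field for `P`, the scalar extension `k' ⊗_k K` has exactly
`[F_P^{sep} : k]` places above `P`, each with ramification index `[F_P : F_P^{sep}]`. (Part (2), on
the scalar extension to an algebraic closure, is not stated.) -/
theorem result (k k' : Type u) (K K' : Type v) [Field k] [Field k'] [Field K] [Field K']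
    [Algebra k k'] [FiniteDimensional k k'] [Algebra k K] [Algebra K K'] [Algebra k' K'] [Algebra k K']
    [IsScalarTower k k' K'] [IsScalarTower k K K']
    (h : Function.Bijective (Algebra.TensorProduct.productMap
      (IsScalarTower.toAlgHom k k' K') (IsScalarTower.toAlgHom k K K')))
    (hK : FunFld.IsFunctionField k K) (hg : FunFld.IsGeometric k K) (P : FunFld.Place k K)
    (hns : ∀ (k'' : Type u) [Field k''] [Algebra k k''] [FiniteDimensional k k'']
      (K'' : Type v) [Field K''] [Algebra K K''] [Algebra k'' K''] [Algebra k K'']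
      [IsScalarTower k k'' K''] [IsScalarTower k K K''],
      Function.Bijective (Algebra.TensorProduct.productMap
        (IsScalarTower.toAlgHom k k'' K'') (IsScalarTower.toAlgHom k K K'')) →
      integralClosure (P.O.toSubring.map (algebraMap K K'')) K'' =
        Algebra.adjoin (P.O.toSubring.map (algebraMap K K'')) (Set.range (algebraMap k'' K'')))
    (hsplit : ∀ Q : FunFld.Place k' K', (∃ e : ℕ, ∀ z : K, Q.1 (algebraMap K K' z) = P.1 z ^ e) → Q.deg = 1) :
    {Q : FunFld.Place k' K' | ∃ e : ℕ, ∀ z : K, Q.1 (algebraMap K K' z) = P.1 z ^ e}.Finite ∧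
    {Q : FunFld.Place k' K' | ∃ e : ℕ, ∀ z : K, Q.1 (algebraMap K K' z) = P.1 z ^ e}.ncard =
      Field.finSepDegree k (IsLocalRing.ResidueField P.O) ∧
    ∀ Q : FunFld.Place k' K', (∃ e : ℕ, ∀ z : K, Q.1 (algebraMap K K' z) = P.1 z ^ e) →
      ∀ z : K, Q.1 (algebraMap K K' z) = P.1 z ^ Module.finrank (separableClosure k (IsLocalRing.ResidueField P.O)) (IsLocalRing.ResidueField P.O) := by
  classical
  haveI : FiniteDimensional K K' := Groth.Agent.H23Geom.finiteDimensional_ext' h
  have hns' := hns k' K' h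
  -- integral elements are images of `O_P ⊗ k'`
  have hIC : ∀ z : K', (∀ Q : FunFld.Place k K', FunFld.IsOver Q P → Q.1 z ≤ 1) →
      ∃ t, iota P (IsScalarTower.toAlgHom k k' K') t = z := by
    intro z hz
    have hmem : z ∈ Algebra.adjoin (P.O.toSubring.map (algebraMap K K')) (Set.range (algebraMap k' K')) := by
      rw [← hns']
      exact (integral_map_O_iff hK.1 P).2 hz
    induction hmem using Algebra.adjoin_induction with
    | mem w hw =>
      obtain ⟨c, rfl⟩ := hw
      exact ⟨(1 : P.O) ⊗ₜ[k] c, by rw [iota_tmul]; simp⟩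
    | algebraMap a =>
      obtain ⟨_, b, hb, rfl⟩ := a
      exact ⟨(⟨b, hb⟩ : P.O) ⊗ₜ[k] (1 : k'), iota_one_tmul P _ _⟩
    | add a b ha' hb' ha hb =>
      have hle : ∀ w ∈ Algebra.adjoin (P.O.toSubring.map (algebraMap K K')) (Set.range (algebraMap k' K')),
          ∀ Q : FunFld.Place k K', FunFld.IsOver Q P → Q.1 w ≤ 1 := fun w hw => by
        rw [← hns'] at hw
        exact (integral_map_O_iff hK.1 P).1 hw
      obtain ⟨s, hs⟩ := ha (hle a ha')
      obtain ⟨u, hu⟩ := hb (hle b hb')
      exact ⟨s + u, by rw [map_add, hs, hu]⟩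
    | mul a b ha' hb' ha hb =>
      have hle : ∀ w ∈ Algebra.adjoin (P.O.toSubring.map (algebraMap K K')) (Set.range (algebraMap k' K')),
          ∀ Q : FunFld.Place k K', FunFld.IsOver Q P → Q.1 w ≤ 1 := fun w hw => by
        rw [← hns'] at hw
        exact (integral_map_O_iff hK.1 P).1 hw
      obtain ⟨s, hs⟩ := ha (hle a ha')
      obtain ⟨u, hu⟩ := hb (hle b hb')
      exact ⟨s * u, by rw [map_mul, hs, hu]⟩
  exact count_places (Groth.Agent.H23Geom.productMap_swap h) h hK P hIC hsplit

end Groth.Agent.S12592
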