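import Groth.Statements.S12593
import Groth.Agent.H23Geom.AlgClosure

set_option autoImplicit false
universe u v
open FunFld

namespace Groth.Agent.S12593

open WithZero Groth.Agent.H23Geom Groth.Agent.H23Ext
open Groth.Agent.H23FunFld (val_eq_exp exists_val_eq)

/-- Every divisor of `K̄ = k̄ ⊗_k K`, for a geometric function field of one variable `K/k`, is defined
over a finite extension `k'` of `k`; stated for a single place `Q` of `K̄/k̄`: for some finite `k' ⊆
k̄`, the field `K' = k'K ⊆ K̄` contains a local parameter at `Q` and `Q` is the only place of `K̄`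
above its restriction to `K'` (so `Q` is the conorm of the point `Q ∩ K'`). -/
theorem result (k kbar : Type u) (K Kbar : Type v) [Field k] [Field kbar] [Field K] [Field Kbar]
    [Algebra k kbar] [IsAlgClosure k kbar] [Algebra k K] [Algebra K Kbar] [Algebra kbar Kbar] [Algebra k Kbar]
    [IsScalarTower k kbar Kbar] [IsScalarTower k K Kbar]
    (h : Function.Bijective (Algebra.TensorProduct.productMap
      (IsScalarTower.toAlgHom k kbar Kbar) (IsScalarTower.toAlgHom k K Kbar)))
    (hK : FunFld.IsFunctionField k K) (hg : FunFld.IsGeometric k K) (Q : FunFld.Place kbar Kbar) :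
    ∃ k' : IntermediateField k kbar, FiniteDimensional k k' ∧
      (∃ z ∈ Algebra.adjoin K (Set.range fun c : k' => algebraMap kbar Kbar c), Q.1 z = WithZero.exp (-1)) ∧
      ∀ Q' : FunFld.Place kbar Kbar,
        (∃ e : ℕ, ∀ z ∈ Algebra.adjoin K (Set.range fun c : k' => algebraMap kbar Kbar c), Q'.1 z = Q.1 z ^ e) → Q' = Q := by
  classical
  haveI : Algebra.IsAlgebraic k kbar := IsAlgClosure.isAlgebraic
  have hFF := isFF_const h hK
  obtain ⟨a, ha0, ha⟩ := exists_val_lt_one_const h Q
  set x := algebraMap K Kbar a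
  have hx0 : x ≠ 0 := by simpa [x] using ha0
  have hS : {R : FunFld.Place kbar Kbar | R.1 x < 1}.Finite :=
    (finite_support hFF x).subset fun R hR h0 => by
      have hR' : R.1 x < 1 := hR
      rw [val_eq_exp R hx0, show R.ord x = 0 from h0] at hR'
      simp at hR'
  set S := insert Q hS.toFinset
  have hexp : exp (-1 : ℤ) < (1 : WithZero (Multiplicative ℤ)) := by
    rw [← exp_zero, exp_lt_exp]; omega
  obtain ⟨w, hw⟩ := Groth.Agent.H23FunFld.approximation S (fun R => if R = Q then (0 : Kbar) else 1)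
    (fun _ => -1)
  obtain ⟨π, -, hπ⟩ := exists_val_eq Q (-1)
  obtain ⟨k', hk', hmem⟩ := exists_finite_const h ({w, π} : Finset Kbar)
  refine ⟨k', hk', ⟨π, hmem π (by simp), hπ⟩, ?_⟩
  rintro Q' ⟨e, he⟩
  have he0 : e ≠ 0 := by
    rintro rfl
    obtain ⟨c, hc0, hc⟩ := exists_val_lt_one_const h Q'
    rw [he _ (Subalgebra.algebraMap_mem _ c), pow_zero] at hc
    exact lt_irrefl _ hc
  have hQ'x : Q'.1 x < 1 := by
    rw [he _ (Subalgebra.algebraMap_mem _ a)]
    exact pow_lt_one₀ zero_le ha he0
  by_contra hne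
  have h1 := hw Q' (Finset.mem_insert_of_mem (hS.mem_toFinset.2 hQ'x))
  rw [if_neg hne] at h1
  have h2 : Q'.1 w = 1 := by
    have h3 : Q'.1 (w - 1) < Q'.1 (1 : Kbar) := by rw [map_one]; exact h1.trans_lt hexp
    rw [Valuation.map_eq_of_sub_lt _ h3, map_one]
  have h4 := hw Q (Finset.mem_insert_self _ _)
  rw [if_pos rfl, sub_zero] at h4
  rw [he w (hmem w (by simp))] at h2
  exact (pow_lt_one₀ zero_le (h4.trans_lt hexp) he0).ne h2

end Groth.Agent.S12593
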