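import Groth.Statements.S12594
import Groth.Agent.H23Geom.PurelyInsep
import Groth.Agent.S12591

set_option autoImplicit false
universe u v
open FunFld

namespace Groth.Agent.S12594

open Polynomial WithZero IntermediateField
open scoped TensorProduct
open Groth.Agent.H23Geom Groth.Agent.H23Ext
open Groth.Agent.H23FunFld (val_eq_exp)

set_option maxHeartbeats 1000000

/-- Clear the poles of the coefficients of an integral equation by an element of `K'`. -/
theorem exists_clear_global {k' K' L : Type*} [Field k'] [Field K'] [Algebra k' K']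
    (hK' : FunFld.IsFunctionField k' K') [Field L] [Algebra K' L] (Q : FunFld.Place k' K') {y : K'}
    (hy : Transcendental k' y) (hQy : Q.1 y ≤ 1) {z : L}
    (hz : IsIntegral (Q.O.toSubring.map (algebraMap K' L)) z) :
    ∃ s : K', Q.1 s = 1 ∧ IsIntegral (Algebra.adjoin k' ({y} : Set K')) (algebraMap K' L s * z) := by
  classical
  obtain ⟨p, hm, hp⟩ := hz
  choose c hc hcp using fun n => (p.coeff n).2
  have hFF : IsFF k' K' := isFF_of_isFunctionField hK'
  set B := (Finset.range p.natDegree).biUnion fun n => (finite_support hFF (c n)).toFinset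
  set S := B.filter fun R => R ≠ Q ∧ R.1 y ≤ 1 with hS
  obtain ⟨Pinf, hPinf⟩ : ∃ R : FunFld.Place k' K', 1 < R.1 y := by
    obtain ⟨R, hR⟩ := Groth.Agent.H23FunFld.exists_pole hK' (x := y) (by
      rintro ⟨a, rfl⟩
      exact hy (isAlgebraic_algebraMap a))
    refine ⟨R, lt_of_not_ge fun hle => ?_⟩
    rcases eq_or_ne y 0 with rfl | h0
    · simp [FunFld.Place.ord] at hR
    · have := (Groth.Agent.H23FunFld.val_le_one_iff R h0).1 hle
      omega
  obtain ⟨N, hN⟩ : ∃ N : ℕ, ∀ R ∈ S, ∀ n ∈ Finset.range p.natDegree, R.1 (c n) ≤ exp (N : ℤ) := by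
    refine ⟨S.sup fun R => (Finset.range p.natDegree).sup fun n => (log (R.1 (c n))).toNat,
      fun R hR n hn => ?_⟩
    have h2 := le_trans (Finset.le_sup (f := fun n => (log (R.1 (c n))).toNat) hn)
      (Finset.le_sup (f := fun R => (Finset.range p.natDegree).sup fun n => (log (R.1 (c n))).toNat) hR)
    rcases eq_or_ne (R.1 (c n)) 0 with h0 | h0
    · rw [h0]; exact zero_le
    · rw [← exp_log h0, exp_le_exp]; omega
  obtain ⟨s, hsS, hsQ, hsint⟩ : ∃ s : K', (∀ R ∈ S, R.1 s ≤ exp (-(N : ℤ))) ∧ Q.1 s = 1 ∧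
      ∀ R : FunFld.Place k' K', R.1 y ≤ 1 → R.1 s ≤ 1 := by
    set S' := (insert Q S : Finset _)
    let e := S'.equivFin.symm
    obtain ⟨s, hs, hs'⟩ := Groth.Agent.S10997.result k' K' hK' Pinf S'.card (fun i => (e i : FunFld.Place k' K'))
      (Subtype.val_injective.comp e.injective)
      (by
        rintro ⟨i, hi⟩
        have hm := (e i).2
        rw [show ((e i : FunFld.Place k' K')) = Pinf from hi] at hm
        simp only [S', hS, Finset.mem_insert, Finset.mem_filter] at hm
        rcases hm with rfl | ⟨-, -, h⟩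
        · exact not_lt.2 hQy hPinf
        · exact not_lt.2 h hPinf)
      (fun i => if (e i : FunFld.Place k' K') = Q then 1 else 0)
      (fun i => if (e i : FunFld.Place k' K') = Q then 1 else (N : ℤ))
    have key : ∀ R (hR : R ∈ S'), R.1 (s - if R = Q then 1 else 0) =
        exp (-(if R = Q then 1 else (N : ℤ))) := fun R hR => by
      have := hs (e.symm ⟨R, hR⟩)
      simpa using this
    have hsQ : Q.1 s = 1 := by
      have h1 := key Q (Finset.mem_insert_self _ _)
      rw [if_pos rfl, if_pos rfl] at h1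
      have h2 : Q.1 (s - 1) < Q.1 (1 : K') := by
        rw [h1, map_one, ← exp_zero, exp_lt_exp]; omega
      rw [Valuation.map_eq_of_sub_lt _ h2, map_one]
    have hsS : ∀ R ∈ S, R.1 s ≤ exp (-(N : ℤ)) := fun R hR => by
      have h1 := key R (Finset.mem_insert_of_mem hR)
      have hne : R ≠ Q := (Finset.mem_filter.1 hR).2.1
      rw [if_neg hne, if_neg hne, sub_zero] at h1
      exact h1.le
    refine ⟨s, hsS, hsQ, fun R hR => ?_⟩
    by_cases hmem : R ∈ S'
    · rcases Finset.mem_insert.1 hmem with rfl | h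
      · exact hsQ.le
      · exact (hsS R h).trans (by rw [← exp_zero, exp_le_exp]; omega)
    · refine hs' R (fun h => not_lt.2 hR (h ▸ hPinf)) ?_
      rintro ⟨i, rfl⟩
      exact hmem (e i).2
  refine ⟨s, hsQ, ?_⟩
  set A := Algebra.adjoin k' ({y} : Set K')
  haveI : IsScalarTower A K' L := inferInstance
  set T := integralClosure A L
  have hmem : ∀ a : K', (∀ R : FunFld.Place k' K', R.1 y ≤ 1 → R.1 a ≤ 1) → algebraMap K' L a ∈ T := by
    intro a ha
    suffices IsIntegral A a from this.map (IsScalarTower.toAlgHom A K' L)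
    by_contra hni
    set R := (integralClosure A K').toSubring
    haveI : IsIntegrallyClosedIn R K' :=
      inferInstanceAs (IsIntegrallyClosedIn (integralClosure A K') K')
    obtain ⟨V, hRV, haV⟩ := Subring.exists_le_valuationSubring_of_isIntegrallyClosedIn (R := R) hni
    have hAV : ∀ b ∈ A, b ∈ V := fun b hb => hRV ((integralClosure A K').algebraMap_mem ⟨b, hb⟩)
    obtain ⟨P, hP⟩ := exists_place_of_valuationSubring' hFF V (fun b => hAV _ (A.algebraMap_mem b))
      (fun htop => haV (htop ▸ ValuationSubring.mem_top _))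
    exact haV ((hP a).1 (ha P ((hP y).2 (hAV y (Algebra.self_mem_adjoin_singleton k' y)))))
  let q₀ := (p.map (algebraMap (Q.O.toSubring.map (algebraMap K' L)) L)).scaleRoots (algebraMap K' L s)
  have hq₀m : q₀.Monic := (Polynomial.monic_scaleRoots_iff _).2 (hm.map _)
  have hdeg : (p.map (algebraMap (Q.O.toSubring.map (algebraMap K' L)) L)).natDegree = p.natDegree :=
    hm.natDegree_map _
  have hcoef : ∀ n, q₀.coeff n ∈ T.toSubring := by
    intro n
    rw [coeff_scaleRoots, coeff_map, hdeg]
    rcases lt_trichotomy n p.natDegree with hn | hn | hn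
    · change ((p.coeff n : L)) * _ ∈ T
      rw [← hcp n, ← map_pow, ← map_mul]
      refine hmem _ fun R hR => ?_
      rw [map_mul, map_pow]
      rcases eq_or_ne R Q with rfl | hne
      · rw [hsQ, one_pow, mul_one]
        exact hc n
      by_cases hRB : R ∈ B
      · have hRS : R ∈ S := by rw [hS, Finset.mem_filter]; exact ⟨hRB, hne, hR⟩
        refine (mul_le_mul' (hN R hRS n (Finset.mem_range.2 hn))
          ((pow_le_of_le_one zero_le (hsint R hR) (by omega)).trans (hsS R hRS))).trans ?_
        rw [← exp_add]; simp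
      · refine mul_le_one' ?_ (pow_le_one₀ zero_le (hsint R hR))
        rcases eq_or_ne (c n) 0 with h0 | h0
        · simp [h0]
        · have : R.ord (c n) = 0 := by
            by_contra hne0
            exact hRB (Finset.mem_biUnion.2 ⟨n, Finset.mem_range.2 hn,
              (Set.Finite.mem_toFinset _).2 hne0⟩)
          rw [val_eq_exp R h0, this]; simp
    · rw [hn, Nat.sub_self, pow_zero, mul_one, hm.coeff_natDegree, map_one]
      exact one_mem _
    · rw [coeff_eq_zero_of_natDegree_lt hn, map_zero, zero_mul]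
      exact zero_mem _
  obtain ⟨q, hq, -, hqm⟩ := lifts_and_degree_eq_and_monic
    ((lifts_iff_coeff_lifts (f := algebraMap T L) q₀).2 fun n => ⟨⟨_, hcoef n⟩, rfl⟩) hq₀m
  refine isIntegral_trans (A := T) _ ⟨q, hqm, ?_⟩
  rw [← eval_map, hq]
  have : aeval (algebraMap K' L s * z) q₀ = 0 := by
    refine scaleRoots_aeval_eq_zero ?_
    rw [aeval_map_algebraMap]
    exact hp
  rwa [← coe_aeval_eq_eval]

/-- Regularity at a place of the descended constant extension. -/
theorem regular_at {k Ω K M : Type*} [Field k] [Field Ω] [IsAlgClosed Ω] [Field K] [Field M] [Algebra k Ω]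
    [Algebra.IsAlgebraic k Ω] [Algebra k K] [Algebra K M] [Algebra Ω M] [Algebra k M]
    [IsScalarTower k K M] [IsScalarTower k Ω M]
    (hprod : Function.Bijective (Algebra.TensorProduct.productMap
      (IsScalarTower.toAlgHom k Ω M) (IsScalarTower.toAlgHom k K M)))
    {I : Type*} [Field I] [Algebra k I] [Algebra I Ω] [IsScalarTower k I Ω] [FiniteDimensional k I]
    {K' K'' k'' : Type*} [Field K'] [Algebra K K'] [Algebra I K'] [Algebra k K'] [IsScalarTower k I K']
    [IsScalarTower k K K'] (hK' : FunFld.IsFunctionField I K')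
    (h : Function.Bijective (Algebra.TensorProduct.productMap
      (IsScalarTower.toAlgHom k I K') (IsScalarTower.toAlgHom k K K')))
    [Field k''] [Algebra I k''] [FiniteDimensional I k''] [Field K''] [Algebra K' K''] [Algebra k'' K'']
    [Algebra I K''] [IsScalarTower I k'' K''] [IsScalarTower I K' K'']
    (h'' : Function.Bijective (Algebra.TensorProduct.productMap
      (IsScalarTower.toAlgHom I k'' K'') (IsScalarTower.toAlgHom I K' K'')))
    (Q : FunFld.Place I K') {t : K} (ht : Transcendental k t) (hQt : Q.1 (algebraMap K K' t) ≤ 1)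
    (hdesc : ∀ z : M, IsIntegral (Algebra.adjoin k ({t} : Set K)) z →
      z ∈ Subring.closure (Set.range (algebraMap Ω M) ∪
        {r | r ∈ adjoin K (Set.range fun c : I => algebraMap Ω M (algebraMap I Ω c)) ∧
          IsIntegral (Algebra.adjoin k ({t} : Set K)) r})) :
    integralClosure (Q.O.toSubring.map (algebraMap K' K'')) K'' =
      Algebra.adjoin (Q.O.toSubring.map (algebraMap K' K'')) (Set.range (algebraMap k'' K'')) := by
  classical
  set S := Q.O.toSubring.map (algebraMap K' K'')
  refine le_antisymm (fun z hz => ?_) (Algebra.adjoin_le ?_)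
  swap
  · rintro _ ⟨c, rfl⟩
    obtain ⟨p, hm, hp⟩ := IsIntegral.of_finite I c
    let κ : I →+* S := (algebraMap I K'').codRestrict _ fun e =>
      ⟨_, Q.2.1 e, (IsScalarTower.algebraMap_apply I K' K'' e).symm⟩
    refine ⟨p.map κ, hm.map κ, ?_⟩
    rw [eval₂_map, show (algebraMap S K'').comp κ =
      (algebraMap k'' K'').comp (algebraMap I k'') from
      RingHom.ext fun e => IsScalarTower.algebraMap_apply I k'' K'' e, ← hom_eval₂, hp, map_zero]
  -- the maps into `M`
  letI algIM : Algebra I M := ((algebraMap Ω M).comp (algebraMap I Ω)).toAlgebra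
  haveI : IsScalarTower I Ω M := IsScalarTower.of_algebraMap_eq fun _ => rfl
  let e' := AlgEquiv.ofBijective _ h
  let σ₀ : K' →ₐ[k] M := ((Algebra.TensorProduct.productMap (IsScalarTower.toAlgHom k Ω M)
    (IsScalarTower.toAlgHom k K M)).comp (Algebra.TensorProduct.map (IsScalarTower.toAlgHom k I Ω) (AlgHom.id k K))).comp
      e'.symm.toAlgHom
  have hσ₀ : ∀ (c : I) (a : K), σ₀ (algebraMap I K' c * algebraMap K K' a) =
      algebraMap Ω M (algebraMap I Ω c) * algebraMap K M a := by
    intro c a
    have : algebraMap I K' c * algebraMap K K' a = e' (c ⊗ₜ[k] a) := by simp [e']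
    rw [this]
    change Algebra.TensorProduct.productMap _ _ (Algebra.TensorProduct.map (IsScalarTower.toAlgHom k I Ω) (AlgHom.id k K)
      (e'.symm (e' (c ⊗ₜ[k] a)))) = _
    rw [AlgEquiv.symm_apply_apply, Algebra.TensorProduct.map_tmul,
      Algebra.TensorProduct.productMap_apply_tmul]
    rfl
  have hσI : ∀ c : I, σ₀ (algebraMap I K' c) = algebraMap Ω M (algebraMap I Ω c) := fun c => by
    simpa using hσ₀ c 1
  have hσK : ∀ a : K, σ₀ (algebraMap K K' a) = algebraMap K M a := fun a => by
    simpa using hσ₀ 1 a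
  let σ' : K' →ₐ[I] M := { σ₀.toRingHom with commutes' := hσI }
  let ψ : Ω ⊗[I] K' →ₐ[I] M :=
    Algebra.TensorProduct.productMap (IsScalarTower.toAlgHom I Ω M) σ'
  have hψ : Function.Injective ψ := by
    let χ : Ω ⊗[k] K →ₐ[k] Ω ⊗[I] K' := Algebra.TensorProduct.lift
      ((Algebra.TensorProduct.includeLeft : Ω →ₐ[I] Ω ⊗[I] K').restrictScalars k)
      (((Algebra.TensorProduct.includeRight : K' →ₐ[I] Ω ⊗[I] K').restrictScalars k).comp
        (IsScalarTower.toAlgHom k K K')) (fun _ _ => Commute.all _ _)
    have hχ : ∀ v, ψ (χ v) = Algebra.TensorProduct.productMap (IsScalarTower.toAlgHom k Ω M)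
        (IsScalarTower.toAlgHom k K M) v := by
      intro v
      induction v using TensorProduct.induction_on with
      | zero => rw [map_zero, map_zero, map_zero]
      | tmul a b =>
        simp only [χ, ψ, Algebra.TensorProduct.lift_tmul, AlgHom.coe_restrictScalars', AlgHom.comp_apply,
          Algebra.TensorProduct.includeLeft_apply, Algebra.TensorProduct.includeRight_apply,
          Algebra.TensorProduct.tmul_mul_tmul, mul_one, one_mul,
          Algebra.TensorProduct.productMap_apply_tmul, IsScalarTower.coe_toAlgHom']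
        rw [show σ' (algebraMap K K' b) = algebraMap K M b from hσK b]
      | add a b ha hb => rw [map_add, map_add, ha, hb, map_add]
    have hsurj : Function.Surjective χ := by
      intro v
      induction v using TensorProduct.induction_on with
      | zero => exact ⟨0, map_zero _⟩
      | tmul a b =>
        obtain ⟨u, rfl⟩ := h.2 b
        induction u using TensorProduct.induction_on with
        | zero => exact ⟨0, by rw [map_zero, map_zero, TensorProduct.tmul_zero]⟩
        | tmul c d =>
          refine ⟨(a * algebraMap I Ω c) ⊗ₜ[k] d, ?_⟩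
          simp only [χ, Algebra.TensorProduct.lift_tmul, AlgHom.coe_restrictScalars', AlgHom.comp_apply,
            Algebra.TensorProduct.includeLeft_apply, Algebra.TensorProduct.includeRight_apply,
            Algebra.TensorProduct.tmul_mul_tmul, mul_one, one_mul,
            Algebra.TensorProduct.productMap_apply_tmul, IsScalarTower.coe_toAlgHom']
          rw [← Algebra.smul_def c (algebraMap K K' d), TensorProduct.tmul_smul,
            TensorProduct.smul_tmul', Algebra.smul_def, mul_comm a]
        | add c d hc hd =>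
          obtain ⟨v₁, hv₁⟩ := hc
          obtain ⟨v₂, hv₂⟩ := hd
          exact ⟨v₁ + v₂, by rw [map_add, map_add, TensorProduct.tmul_add, hv₁, hv₂]⟩
      | add a b ha hb =>
        obtain ⟨v₁, hv₁⟩ := ha
        obtain ⟨v₂, hv₂⟩ := hb
        exact ⟨v₁ + v₂, by rw [map_add, hv₁, hv₂]⟩
    intro a b hab
    obtain ⟨a, rfl⟩ := hsurj a
    obtain ⟨b, rfl⟩ := hsurj b
    rw [hχ, hχ] at hab
    rw [hprod.1 hab]
  let ι : k'' →ₐ[I] Ω := IsAlgClosed.lift
  obtain ⟨φ, hφ⟩ := ι.toLinearMap.exists_leftInverse_of_injective (LinearMap.ker_eq_bot.2 ι.injective)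
  let e'' := AlgEquiv.ofBijective _ h''
  let σ'' : K'' →ₐ[I] M := (ψ.comp (Algebra.TensorProduct.map ι (AlgHom.id I K'))).comp e''.symm.toAlgHom
  have hσ'' : ∀ a : K', σ'' (algebraMap K' K'' a) = σ' a := by
    intro a
    have : algebraMap K' K'' a = e'' ((1 : k'') ⊗ₜ[I] a) := by simp [e'']
    rw [this]
    change ψ (Algebra.TensorProduct.map ι (AlgHom.id I K') (e''.symm (e'' ((1 : k'') ⊗ₜ[I] a)))) = _
    rw [AlgEquiv.symm_apply_apply, Algebra.TensorProduct.map_tmul, map_one,
      Algebra.TensorProduct.productMap_apply_tmul, map_one, one_mul]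
    rfl
  -- clear
  have hy : Transcendental I (algebraMap K K' t) := transcendental_const h ht
  obtain ⟨s, hsQ, hs⟩ := exists_clear_global hK' Q hy hQt hz
  set w := algebraMap K' K'' s * z
  set A' := Algebra.adjoin I ({algebraMap K K' t} : Set K')
  haveI : Algebra.IsAlgebraic k I := Algebra.IsAlgebraic.of_finite k I
  have hA'int : ∀ a ∈ A', IsIntegral (Algebra.adjoin k ({t} : Set K)) (σ' a) := by
    intro a ha
    induction ha using Algebra.adjoin_induction with
    | mem v hv =>
      rw [Set.mem_singleton_iff] at hv; subst hv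
      rw [show σ' (algebraMap K K' t) = algebraMap K M t from hσK t]
      exact (self_mem_intSet (Ω := Ω) (⊥ : IntermediateField k Ω) t).2
    | algebraMap c =>
      rw [show σ' (algebraMap I K' c) = algebraMap Ω M (algebraMap I Ω c) from hσI c]
      exact isIntegral_const t _
    | add a b _ _ ha hb => rw [map_add]; exact ha.add hb
    | mul a b _ _ ha hb => rw [map_mul]; exact ha.mul hb
  have hv : IsIntegral (Algebra.adjoin k ({t} : Set K)) (σ'' w) := by
    set T := integralClosure (Algebra.adjoin k ({t} : Set K)) M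
    obtain ⟨p, hm, hp⟩ := hs
    let κ : A' →+* T := (σ'.toRingHom.comp (algebraMap A' K')).codRestrict T.toSubring fun a => hA'int a a.2
    refine isIntegral_trans (A := T) _ ⟨p.map κ, hm.map κ, ?_⟩
    rw [eval₂_map, show (algebraMap T M).comp κ = σ''.toRingHom.comp (algebraMap A' K'') from
      RingHom.ext fun a => (hσ'' a).symm]
    exact (hom_eval₂ p _ σ''.toRingHom w).symm.trans (by rw [hp, map_zero])
  -- the span of `O_Q` over `Ω`
  let Qs : Subalgebra I K' := { Q.O.toSubring with algebraMap_mem' := fun c => Q.2.1 c }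
  let G : Subalgebra I M := ((Algebra.TensorProduct.map (AlgHom.id I Ω) Qs.val).range).map ψ
  have hvG : σ'' w ∈ G := by
    refine (Subring.closure_le (t := G.toSubring)).2 ?_ (hdesc _ hv)
    rintro r (⟨c, rfl⟩ | ⟨hr, hrint⟩)
    · refine ⟨c ⊗ₜ[I] (1 : K'), ⟨c ⊗ₜ[I] (1 : Qs), by simp⟩, ?_⟩
      change ψ (c ⊗ₜ[I] (1 : K')) = _
      rw [Algebra.TensorProduct.productMap_apply_tmul, map_one, mul_one]
      rfl
    obtain ⟨a, rfl⟩ : ∃ a, σ' a = r := by
      clear hrint
      induction hr using IntermediateField.adjoin_induction with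
      | mem v hv => obtain ⟨c, rfl⟩ := hv; exact ⟨_, hσI c⟩
      | algebraMap b => exact ⟨_, hσK b⟩
      | add a b _ _ ha hb =>
        obtain ⟨a, rfl⟩ := ha; obtain ⟨b, rfl⟩ := hb; exact ⟨a + b, map_add _ _ _⟩
      | inv a _ ha => obtain ⟨a, rfl⟩ := ha; exact ⟨a⁻¹, map_inv₀ _ _⟩
      | mul a b _ _ ha hb =>
        obtain ⟨a, rfl⟩ := ha; obtain ⟨b, rfl⟩ := hb; exact ⟨a * b, map_mul _ _ _⟩
    have haQ : a ∈ Q.O := by
      obtain ⟨p, hm, hp⟩ := hrint
      have hAQ : ∀ b : Algebra.adjoin k ({t} : Set K), algebraMap K K' (b : K) ∈ Q.O := by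
        rintro ⟨b, hb⟩
        induction hb using Algebra.adjoin_induction with
        | mem v hv => rw [Set.mem_singleton_iff] at hv; subst hv; exact hQt
        | algebraMap c =>
          change algebraMap K K' (algebraMap k K c) ∈ Q.O
          rw [← IsScalarTower.algebraMap_apply k K K', IsScalarTower.algebraMap_apply k I K']
          exact Q.2.1 _
        | add a b _ _ ha hb => simpa using add_mem ha hb
        | mul a b _ _ ha hb => simpa using mul_mem ha hb
      let κ : Algebra.adjoin k ({t} : Set K) →+* Q.O :=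
        ((algebraMap K K').comp (algebraMap (Algebra.adjoin k ({t} : Set K)) K)).codRestrict Q.O hAQ
      have hint : IsIntegral Q.O a := by
        refine ⟨p.map κ, hm.map _, σ'.toRingHom.injective ?_⟩
        rw [map_zero, eval₂_map, hom_eval₂]
        rw [show σ'.toRingHom.comp ((algebraMap Q.O K').comp κ) =
          algebraMap (Algebra.adjoin k ({t} : Set K)) M from RingHom.ext fun b => hσK (b : K)]
        exact hp
      obtain ⟨b, hb⟩ := IsIntegrallyClosed.algebraMap_eq_of_integral hint
      exact hb ▸ b.2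
    refine ⟨(1 : Ω) ⊗ₜ[I] a, ⟨(1 : Ω) ⊗ₜ[I] (⟨a, haQ⟩ : Qs), by simp⟩, ?_⟩
    change ψ ((1 : Ω) ⊗ₜ[I] a) = _
    rw [Algebra.TensorProduct.productMap_apply_tmul, map_one, one_mul]
  obtain ⟨u, ⟨u₀, hu₀⟩, hu⟩ := hvG
  have hu' : u = Algebra.TensorProduct.map ι (AlgHom.id I K') (e''.symm w) := hψ hu
  have hback : ∀ v : k'' ⊗[I] K', TensorProduct.map φ LinearMap.id
      (Algebra.TensorProduct.map ι (AlgHom.id I K') v) = v := by
    intro v
    induction v using TensorProduct.induction_on with
    | zero => rw [map_zero, map_zero]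
    | tmul a b =>
      rw [Algebra.TensorProduct.map_tmul, TensorProduct.map_tmul]
      exact congrArg (· ⊗ₜ[I] b) (DFunLike.congr_fun hφ a)
    | add a b ha hb => rw [map_add, map_add, ha, hb]
  have hOadj : ∀ u₀ : Ω ⊗[I] Qs,
      e'' (TensorProduct.map φ LinearMap.id (Algebra.TensorProduct.map (AlgHom.id I Ω) Qs.val u₀)) ∈
        Algebra.adjoin S (Set.range (algebraMap k'' K'')) := by
    intro u₀
    induction u₀ using TensorProduct.induction_on with
    | zero => rw [map_zero, map_zero, map_zero]; exact zero_mem _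
    | tmul a b =>
      rw [Algebra.TensorProduct.map_tmul, TensorProduct.map_tmul]
      simp only [e'', LinearMap.id_coe, id_eq, AlgHom.coe_id, AlgEquiv.coe_ofBijective,
        Algebra.TensorProduct.productMap_apply_tmul, IsScalarTower.coe_toAlgHom']
      exact mul_mem (Algebra.subset_adjoin ⟨_, rfl⟩)
        (Subalgebra.algebraMap_mem _ (⟨_, (b : K'), b.2, rfl⟩ : S))
    | add a b ha hb => rw [map_add, map_add, map_add]; exact add_mem ha hb
  have hwmem : w ∈ Algebra.adjoin S (Set.range (algebraMap k'' K'')) := by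
    have h1 := hOadj u₀
    rw [show Algebra.TensorProduct.map (AlgHom.id I Ω) Qs.val u₀ = u from hu₀, hu', hback,
      AlgEquiv.apply_symm_apply] at h1
    exact h1
  have hs0 : s ≠ 0 := fun h => by rw [h, map_zero] at hsQ; exact zero_ne_one hsQ
  have hinv : Q.1 s⁻¹ ≤ 1 := by rw [map_inv₀, hsQ, inv_one]
  have h4 := mul_mem (Subalgebra.algebraMap_mem (Algebra.adjoin S (Set.range (algebraMap k'' K'')))
    (⟨_, s⁻¹, hinv, rfl⟩ : S)) hwmem
  rwa [show algebraMap S K'' (⟨_, s⁻¹, hinv, rfl⟩ : S) * w = z by
    change algebraMap K' K'' s⁻¹ * (algebraMap K' K'' s * z) = z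
    rw [← mul_assoc, ← map_mul, inv_mul_cancel₀ hs0, map_one, one_mul]] at h4


/-- For a geometric function field of one variable `K/k` there is a finite purely inseparable extension
`k'/k` such that `k' ⊗_k K` is nonsingular: every place of it is nonsingular with respect to every
finite extension `k''/k'` (the integral closure of its valuation ring in `k'' ⊗_{k'} (k' ⊗_k K)` is
generated by `k''`). -/
theorem result (k : Type u) (K : Type v) [Field k] [Field K] [Algebra k K]
    (hK : FunFld.IsFunctionField k K) (hg : FunFld.IsGeometric k K) :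
    ∃ (k' : Type u) (_ : Field k') (_ : Algebra k k'), FiniteDimensional k k' ∧ IsPurelyInseparable k k' ∧
      ∀ (K' : Type v) [Field K'] [Algebra K K'] [Algebra k' K'] [Algebra k K']
        [IsScalarTower k k' K'] [IsScalarTower k K K'],
        Function.Bijective (Algebra.TensorProduct.productMap
          (IsScalarTower.toAlgHom k k' K') (IsScalarTower.toAlgHom k K K')) →
        ∀ (Q : FunFld.Place k' K') (k'' : Type u) [Field k''] [Algebra k' k''] [FiniteDimensional k' k'']
          (K'' : Type v) [Field K''] [Algebra K' K''] [Algebra k'' K''] [Algebra k' K'']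
          [IsScalarTower k' k'' K''] [IsScalarTower k' K' K''],
          Function.Bijective (Algebra.TensorProduct.productMap
            (IsScalarTower.toAlgHom k' k'' K'') (IsScalarTower.toAlgHom k' K' K'')) →
          integralClosure (Q.O.toSubring.map (algebraMap K' K'')) K'' =
            Algebra.adjoin (Q.O.toSubring.map (algebraMap K' K'')) (Set.range (algebraMap k'' K'')) := by
  classical
  obtain ⟨x, hx, hsep⟩ := exists_separating hK hg
  let Ω := AlgebraicClosure k
  letI : Field (Ω ⊗[k] K) := (Groth.Agent.S12591.isField_tensor_algClosure hg).toField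
  letI : Algebra K (Ω ⊗[k] K) := (Algebra.TensorProduct.includeRight : K →ₐ[k] Ω ⊗[k] K).toRingHom.toAlgebra
  haveI : IsScalarTower k K (Ω ⊗[k] K) := IsScalarTower.of_algebraMap_eq fun c =>
    ((Algebra.TensorProduct.includeRight : K →ₐ[k] Ω ⊗[k] K).commutes c).symm
  have hprod : Function.Bijective (Algebra.TensorProduct.productMap
      (IsScalarTower.toAlgHom k Ω (Ω ⊗[k] K)) (IsScalarTower.toAlgHom k K (Ω ⊗[k] K))) := by
    have : (Algebra.TensorProduct.productMap
      (IsScalarTower.toAlgHom k Ω (Ω ⊗[k] K)) (IsScalarTower.toAlgHom k K (Ω ⊗[k] K))) = AlgHom.id k _ := by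
      refine Algebra.TensorProduct.ext' fun a b => ?_
      rw [Algebra.TensorProduct.productMap_apply_tmul, AlgHom.id_apply]
      change (a ⊗ₜ[k] (1 : K)) * ((1 : Ω) ⊗ₜ[k] b) = a ⊗ₜ[k] b
      rw [Algebra.TensorProduct.tmul_mul_tmul, mul_one, one_mul]
    rw [this]
    exact Function.bijective_id
  have hx' : Transcendental k x⁻¹ := fun h => hx (by simpa using h.inv)
  obtain ⟨I, hIfin, hIpi, hI⟩ := exists_descent hprod hK {x, x⁻¹} (by
    intro t ht
    rcases Finset.mem_insert.1 ht with rfl | ht
    · exact ⟨hx, hsep⟩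
    · rw [Finset.mem_singleton] at ht
      subst ht
      refine ⟨hx', ?_⟩
      rw [Groth.Agent.H23FunFld.adjoin_inv]
      exact hsep)
  refine ⟨I, inferInstance, inferInstance, hIfin, hIpi, ?_⟩
  intro K' _ _ _ _ _ _ h Q k'' _ _ hfin'' K'' _ _ _ _ _ _ h''
  haveI := hIfin
  obtain ⟨t, ht, hQt⟩ : ∃ t ∈ ({x, x⁻¹} : Finset K), Q.1 (algebraMap K K' t) ≤ 1 := by
    by_cases hq : Q.1 (algebraMap K K' x) ≤ 1
    · exact ⟨x, by simp, hq⟩
    · exact ⟨x⁻¹, by simp, by rw [map_inv₀, map_inv₀]; exact inv_le_one_of_one_le₀ (le_of_not_ge hq)⟩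
  have htk : Transcendental k t := by
    rcases Finset.mem_insert.1 ht with rfl | ht
    · exact hx
    · rw [Finset.mem_singleton] at ht; subst ht; exact hx'
  haveI : FiniteDimensional k I := hIfin
  exact regular_at hprod (constExt h hK hg).1 h h'' Q htk hQt (hI t ht)

end Groth.Agent.S12594
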