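import Groth.Statements.S12595
import Mathlib
import Groth.Prelude.Def_W4bk4goldsch45p2

set_option autoImplicit false
open FunFld

namespace Groth.Agent.S12595

/-- Over an algebraically closed constant field, let `φ` be a birational projective map of the function
field `K` (the ratios `φ i / φ 0` generate `K`), `τ` a `k`-endomorphism of `K` and `H` a total Hasse
derivative. Then the first `τ`-order of `φ` is positive — the column `φ` of `0`-th Hasse derivatives
lies in the `K`-span of the leading column `τ(φ)` — exactly when `τ` is the identity. -/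
theorem result
    (k K : Type*) [Field k] [IsAlgClosed k] [Field K] [Algebra k K]
    (hK : FunFld.IsFunctionField k K) {n : ℕ} (φ : Fin (n + 1) → K) (h0 : φ 0 ≠ 0)
    (hbir : IntermediateField.adjoin k (Set.range fun i => φ i / φ 0) = ⊤)
    (τ : K →ₐ[k] K) (s : K) (H : K →ₐ[k] PowerSeries K) (hH : LocRes.IsHasseFamily s H) :
    ¬ FunFld.IsJump K (FunFld.hcol τ H φ) 1 ↔ τ = AlgHom.id k K := by
  have hD0 : ∀ i, LocRes.hasseD H 0 (φ i) = φ i := fun i => by
    rw [LocRes.hasseD_apply, PowerSeries.coeff_zero_eq_constantCoeff]; exact hH.2 _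
  have hIio : Set.Iio 1 = ({0} : Set ℕ) := by ext; simp
  rw [FunFld.IsJump, not_not, hIio, Set.image_singleton, Submodule.mem_span_singleton]
  constructor
  · rintro ⟨a, ha⟩
    have ha' : ∀ i, a * τ (φ i) = φ i := fun i => by simpa [FunFld.hcol, hD0, hH.2] using congrFun ha i
    have hgen : ∀ w ∈ IntermediateField.adjoin k (Set.range fun i => φ i / φ 0), τ w = w := by
      intro w hw
      induction hw using IntermediateField.adjoin_induction with
      | mem v hv =>
        obtain ⟨i, rfl⟩ := hv
        have ha0 : a ≠ 0 := fun h => h0 (by rw [← ha' 0, h, zero_mul])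
        change τ (φ i / φ 0) = φ i / φ 0
        conv_rhs => rw [← ha' i, ← ha' 0]
        rw [map_div₀, mul_div_mul_left _ _ ha0]
      | algebraMap c => exact τ.commutes c
      | add x y _ _ hx hy => rw [map_add, hx, hy]
      | inv x _ hx => rw [map_inv₀, hx]
      | mul x y _ _ hx hy => rw [map_mul, hx, hy]
    exact AlgHom.ext fun w => hgen w (hbir ▸ IntermediateField.mem_top)
  · rintro rfl
    exact ⟨1, by funext i; simp [FunFld.hcol, hH.2]⟩

end Groth.Agent.S12595
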