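import Groth.Statements.S12597
import Mathlib
import Groth.Agent.H23Proj.Jumps

set_option autoImplicit false
open FunFld

namespace Groth.Agent.S12597

/-- Over an algebraically closed constant field, multiplying a projective map `φ = (φ₀, …, φₙ)` by a
nonzero function `y` does not change its `τ`-order sequence `J`, and multiplies the Wronskian `det
[τ(φ) | D^(j₁) φ | ⋯ | D^(jₙ) φ]` taken at that sequence by `τ(y) yⁿ`. -/
theorem result
    (k K : Type*) [Field k] [IsAlgClosed k] [Field K] [Algebra k K]
    (hK : FunFld.IsFunctionField k K) {n : ℕ} (φ : Fin (n + 1) → K) (hφ : LinearIndependent k φ)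
    (τ : K →ₐ[k] K) (s : K) (H : K →ₐ[k] PowerSeries K) (hH : LocRes.IsHasseFamily s H) (y : K) (hy : y ≠ 0) :
    (∀ J : Fin n → ℕ, FunFld.IsOrders K (FunFld.hcol τ H (y • φ)) J ↔ FunFld.IsOrders K (FunFld.hcol τ H φ) J) ∧
    ∀ J : Fin n → ℕ, FunFld.IsOrders K (FunFld.hcol τ H φ) J →
      (FunFld.wrMat τ H (y • φ) J).det = τ y * y ^ n * (FunFld.wrMat τ H φ J).det := by
  classical
  let c := FunFld.hcol τ H φ
  let c' := FunFld.hcol τ H (y • φ)
  let u : ℕ → K := fun j => if j = 0 then τ y else y
  have hu : ∀ j, u j ≠ 0 := fun j => by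
    simp only [u]; split_ifs
    · simpa using hy
    · exact hy
  have h : ∀ j, c' j - u j • c j ∈ Submodule.span K (c '' Set.Iio j) := by
    rintro (_ | m)
    · have : c' 0 - u 0 • c 0 = 0 := by
        funext i
        simp [c, c', u, FunFld.hcol]
      rw [this]; exact zero_mem _
    · have hlead : c' (m + 1) - u (m + 1) • c (m + 1) =
          ∑ b ∈ Finset.range m, LocRes.hasseD H (m - b) y • c (b + 1) := by
        funext i
        simp only [c, c', u, FunFld.hcol, Pi.sub_apply, Pi.smul_apply, Finset.sum_apply, smul_eq_mul,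
          if_neg (Nat.succ_ne_zero m), LocRes.hasseD_apply, map_mul, PowerSeries.coeff_mul]
        rw [Finset.Nat.sum_antidiagonal_eq_sum_range_succ
          (fun p q => PowerSeries.coeff p (H y) * PowerSeries.coeff q (H (φ i))) m,
          ← Finset.sum_range_reflect, Finset.sum_range_succ]
        have h0 : PowerSeries.coeff 0 (H y) = y := by
          rw [PowerSeries.coeff_zero_eq_constantCoeff]; exact hH.2 y
        simp only [Nat.succ_sub_one, Nat.sub_self, Nat.sub_zero, h0, add_sub_cancel_right]
        refine Finset.sum_congr rfl fun b hb => ?_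
        rw [Nat.sub_sub_self (Finset.mem_range.1 hb).le]
      rw [hlead]
      refine Submodule.sum_mem _ fun b hb => Submodule.smul_mem _ _ (Submodule.subset_span ⟨b + 1, ?_, rfl⟩)
      simpa using Finset.mem_range.1 hb
  refine ⟨fun J => Groth.Agent.H23Proj.isOrders_iff hu h J, fun J hJ => ?_⟩
  let idx : Fin (n + 1) → ℕ := Fin.cases (motive := fun _ => ℕ) 0 fun l => J l + 1
  have hidx : StrictMono idx := by
    intro a b hab
    induction b using Fin.cases with
    | zero => simp at hab
    | succ b =>
      induction a using Fin.cases with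
      | zero => simp [idx]
      | succ a => simp only [idx, Fin.cases_succ]; exact Nat.add_lt_add_right (hJ.1 (Fin.succ_lt_succ_iff.1 hab)) 1
  have hns : ∀ j, j ∉ Set.range idx → c j ∈ Submodule.span K (c '' Set.Iio j) := by
    intro j hj
    rcases j with _ | m
    · exact absurd ⟨0, rfl⟩ hj
    · by_contra hno
      obtain ⟨l, hl⟩ := (hJ.2 m).2 hno
      exact hj ⟨l.succ, by simp [idx, hl]⟩
  have hM : ∀ (ψ : Fin (n + 1) → K), FunFld.wrMat τ H ψ J =
      Matrix.of fun i a => FunFld.hcol τ H ψ (idx a) i := by
    intro ψ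
    ext i a
    induction a using Fin.cases <;> simp [FunFld.wrMat, idx, FunFld.hcol]
  rw [hM, hM, Groth.Agent.H23Proj.det_selected hidx hns h, Fin.prod_univ_succ]
  simp [u, idx, c]

end Groth.Agent.S12597
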