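import Groth.Statements.S12599
import Mathlib
import Groth.Agent.H23Proj.Hasse
import Groth.Agent.H23Proj.Jumps

set_option autoImplicit false
open FunFld

namespace Groth.Agent.S12599

/-- Over an algebraically closed constant field, for a place `P` with local parameter `t`, and a
linearly independent tuple `φ = (φ₀, …, φₙ)` of functions integral at `P`, the matrix of values at
`P` of the Hasse derivatives `D_t^(j)(φᵢ)`, `j = 0, 1, …`, has rank `n + 1`: its rows are linearly
independent over the residue field. -/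
theorem result
    (k K : Type*) [Field k] [IsAlgClosed k] [Field K] [Algebra k K]
    (hK : FunFld.IsFunctionField k K) {n : ℕ} (φ : Fin (n + 1) → K) (hφ : LinearIndependent k φ)
    (P : FunFld.Place k K) (hint : ∀ i, P.1 (φ i) ≤ 1) (t : K) (ht : P.1 t = WithZero.exp (-1))
    (Ht : K →ₐ[k] PowerSeries K) (hHt : LocRes.IsHasseFamily t Ht) :
    LinearIndependent (IsLocalRing.ResidueField P.O)
      (fun i : Fin (n + 1) => fun j : ℕ => FunFld.evalP P (LocRes.hasseD Ht j (φ i))) := by
  classical
  have hev : ∀ z : K, P.1 z ≤ 1 → ∀ hz' : z ∈ P.O, FunFld.evalP P z = IsLocalRing.residue P.O ⟨z, hz'⟩ :=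
    fun z hz _ => dif_pos hz
  have hlt : ∀ z : P.O, IsLocalRing.residue P.O z = 0 ↔ P.1 (z : K) < 1 := fun z => by
    rw [IsLocalRing.residue_eq_zero_iff, IsLocalRing.mem_maximalIdeal, mem_nonunits_iff,
      show IsUnit z ↔ P.1 (z : K) = 1 from
        Valuation.Integers.isUnit_iff_valuation_eq_one (Valuation.integer.integers P.1)]
    exact ⟨fun h => lt_of_le_of_ne z.2 h, fun h => h.ne⟩
  have hD : ∀ j i, P.1 (LocRes.hasseD Ht j (φ i)) ≤ 1 := fun j i =>
    Groth.Agent.H23Proj.val_hasseD_le hK ht hHt j (hint i)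
  rw [Fintype.linearIndependent_iff]
  intro g hg i
  choose a ha using fun i => IsLocalRing.residue_surjective (R := P.O) (g i)
  have h1 := Groth.Agent.H23Proj.taylor_independent hK ht hHt hφ hint (a := fun i => (a i : K)) (fun i => (a i).2) (fun j => ?_) i
  · rw [← ha, hlt]; exact h1
  · have h2 := congrFun hg j
    simp only [Finset.sum_apply, Pi.smul_apply, smul_eq_mul, Pi.zero_apply] at h2
    have h3 : IsLocalRing.residue P.O (∑ i, a i * ⟨LocRes.hasseD Ht j (φ i), hD j i⟩) = 0 := by
      rw [map_sum, ← h2]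
      refine Finset.sum_congr rfl fun i _ => ?_
      rw [map_mul, ha, hev _ (hD j i) (hD j i)]
    rw [hlt] at h3
    push_cast at h3
    exact h3

end Groth.Agent.S12599
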