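-- statement FlatMor.GrothFrozen.S1260 (Groth/Statements/S1260.lean; the theorem FlatMor.fp_and_flat_along_fiber_after_etale_localization);
import Groth.Statements.S1260
import Groth.Agent.H7Flat.Chain.CoverOpen

set_option autoImplicit false
universe u
open FlatMor

namespace Groth.Agent.S1260

open TensorProduct in
/-- Ring form, X = Spec S and S = Spec R affine: let S be a finitely presented R-algebra, N a finite
S-module and p a prime of R with N_q flat over R for all primes q of S over p. Then there is an
étale R-algebra R' with a prime p' over p having the same residue field such that, writing A for the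
local ring of R' at p' and S_A, N_A for the base changes: every prime Q of S_A over the maximal
ideal of A has a basic open neighbourhood D(g) on which N_A is finitely presented over (S_A)_g and
flat over A. -/
theorem result {R S : Type u} [CommRing R] [CommRing S] [Algebra R S] [Algebra.FinitePresentation R S]
    (N : Type u) [AddCommGroup N] [Module S N] [Module R N] [IsScalarTower R S N] [Module.Finite S N]
    (p : Ideal R) [p.IsPrime] (hflat : ∀ (q : Ideal S) [q.IsPrime], q.LiesOver p → FlatCA.FlatAt R q N) :
    ∃ (R' : Type u) (_ : CommRing R') (_ : Algebra R R') (p' : Ideal R') (_ : p'.IsPrime), FlatCA.IsEtaleNhd R R' p p' ∧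
      ∀ (SA NA : Type u) [CommRing SA] [Algebra R SA] [Algebra S SA] [Algebra (Localization.AtPrime p') SA]
        [IsScalarTower R S SA] [IsScalarTower R (Localization.AtPrime p') SA]
        [Algebra.IsPushout R S (Localization.AtPrime p') SA]
        [AddCommGroup NA] [Module SA NA] [Module S NA] [IsScalarTower S SA NA]
        [Module (Localization.AtPrime p') NA] [IsScalarTower (Localization.AtPrime p') SA NA]
        (f : N →ₗ[S] NA), IsBaseChange SA f →
        ∀ (Q : Ideal SA) [Q.IsPrime], Q.LiesOver (IsLocalRing.maximalIdeal (Localization.AtPrime p')) →
        ∃ g : SA, g ∉ Q ∧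
          Module.FinitePresentation (Localization.Away g) (LocalizedModule (Submonoid.powers g) NA) ∧
          Module.Flat (Localization.AtPrime p') (LocalizedModule (Submonoid.powers g) NA) := by
  exact H7Flat.Chain.exists_cover_open_fp_flat N p hflat

end Groth.Agent.S1260
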