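import Groth.Statements.S12602
import Mathlib
import Groth.Agent.H23Proj.WDiv
import Groth.Agent.S12595

set_option autoImplicit false
open FunFld

namespace Groth.Agent.S12602

/-- Over an algebraically closed constant field, for a birational projective map `φ = (φ₀, …, φₙ)`, `n ≥
1`, with orders `j₁ < ⋯ < jₙ`, and `τ ≠ 1`, the `τ`-orders of `φ` are `(0, j₁, …, j_{m-1}, j_{m+1},
…, jₙ)` for some `m`: the jump indices of `[τ(φ) | D^(0) φ | D^(1) φ | ⋯]` after the leading column
are `0` and the `jₗ` with `l ≠ m`. -/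
theorem result
    (k K : Type*) [Field k] [IsAlgClosed k] [Field K] [Algebra k K]
    (hK : FunFld.IsFunctionField k K) {n : ℕ} (hn : 0 < n) (φ : Fin (n + 1) → K) (hφ : LinearIndependent k φ)
    (h0 : φ 0 ≠ 0) (hbir : IntermediateField.adjoin k (Set.range fun i => φ i / φ 0) = ⊤)
    (τ : K →ₐ[k] K) (hτ : τ ≠ AlgHom.id k K) (s : K) (H : K →ₐ[k] PowerSeries K) (hH : LocRes.IsHasseFamily s H)
    (J : Fin n → ℕ) (hJ : FunFld.IsOrders K (FunFld.hcol (AlgHom.id k K) H φ) J) :
    ∃ m : Fin n, ∀ j : ℕ,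
      FunFld.IsJump K (FunFld.hcol τ H φ) (j + 1) ↔ (j = 0 ∨ ∃ l, l ≠ m ∧ J l = j) := by
  classical
  let c := FunFld.hcol (AlgHom.id k K) H φ
  let c' := FunFld.hcol τ H φ
  have hc : ∀ m, c' (m + 1) = c (m + 1) := fun m => rfl
  have hc1 : c 1 = c 0 := funext fun i => Groth.Agent.H23Proj.hasseD_zero hH (φ i)
  let W : ℕ → Submodule K (Fin (n + 1) → K) := fun j => Submodule.span K (c '' Set.Iio j)
  have hWmono : ∀ {a b : ℕ}, a ≤ b → W a ≤ W b := fun hab =>
    Submodule.span_mono (Set.image_mono (Set.Iio_subset_Iio hab))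
  have hWsucc : ∀ {j : ℕ} {v : Fin (n + 1) → K}, v ∈ W (j + 1) → ∃ b : K, v - b • c j ∈ W j := by
    intro j v hv
    have e : Set.Iio (j + 1) = insert j (Set.Iio j) := by ext x; simp
    simp only [W, e, Set.image_insert_eq, Submodule.mem_span_insert] at hv
    obtain ⟨b, z, hz, rfl⟩ := hv
    exact ⟨b, by simpa using hz⟩
  have hspan' : ∀ j, Submodule.span K (c' '' Set.Iio (j + 2)) = Submodule.span K {c' 0} ⊔ W (j + 2) := by
    intro j
    have e1 : c' '' Set.Iio (j + 2) = insert (c' 0) (c '' Set.Iio (j + 2)) ∨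
        Submodule.span K (c' '' Set.Iio (j + 2)) = Submodule.span K {c' 0} ⊔ W (j + 2) := by
      left
      ext v
      constructor
      · rintro ⟨_ | i, hi, rfl⟩
        · exact Set.mem_insert _ _
        · exact Set.mem_insert_of_mem _ ⟨i + 1, hi, (hc i).symm⟩
      · rintro (rfl | ⟨_ | i, hi, rfl⟩)
        · exact ⟨0, by simp, rfl⟩
        · exact ⟨1, by simp, (hc 0).trans hc1⟩
        · exact ⟨i + 1, hi, hc i⟩
    rcases e1 with e1 | e1
    · rw [e1, Submodule.span_insert]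
    · exact e1
  obtain ⟨J₀, hJ₀, hdet⟩ := Groth.Agent.S12600.result k K hK φ hφ (AlgHom.id k K) s H hH
  have hsp : Submodule.span K (Set.range c) = ⊤ := by
    rw [Groth.Agent.H23Proj.wrMat_eq] at hdet
    have hind := (Matrix.linearIndependent_cols_iff_isUnit
      (A := Matrix.of fun i a => c (Groth.Agent.H23Proj.idx J₀ a) i)).2
      ((Matrix.isUnit_iff_isUnit_det _).2 (isUnit_iff_ne_zero.2 hdet))
    rw [eq_top_iff, ← hind.span_eq_top_of_card_eq_finrank' (by simp)]
    exact Submodule.span_mono (by rintro _ ⟨a, rfl⟩; exact ⟨Groth.Agent.H23Proj.idx J₀ a, rfl⟩)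
  have hex : ∃ j, c' 0 ∈ W j := by
    have h1 : c' 0 ∈ Submodule.span K (Set.range c) := hsp ▸ Submodule.mem_top
    obtain ⟨T, hT, hvT⟩ := Submodule.mem_span_finite_of_mem_span h1
    choose f hf using fun v : T => hT v.2
    refine ⟨Finset.univ.sup f + 1, Submodule.span_mono ?_ hvT⟩
    intro v hv
    exact ⟨f ⟨v, hv⟩, Nat.lt_succ_of_le (Finset.le_sup (Finset.mem_univ _)), hf ⟨v, hv⟩⟩
  have h1jump : FunFld.IsJump K c' 1 := by
    by_contra h
    exact hτ ((Groth.Agent.S12595.result k K hK φ h0 hbir τ s H hH).1 h)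
  have hnotK : c' 0 ∉ W 2 := by
    intro h
    have hW2 : W 2 ≤ Submodule.span K {c 0} := by
      refine Submodule.span_le.2 ?_
      rintro _ ⟨_ | _ | i, hi, rfl⟩
      · exact Submodule.subset_span rfl
      · rw [hc1]; exact Submodule.subset_span rfl
      · simp at hi
    obtain ⟨a, ha⟩ := Submodule.mem_span_singleton.1 (hW2 h)
    have ha0 : a ≠ 0 := fun h0' => hφ.ne_zero 0 ((map_eq_zero τ).1 (by
      have := congrFun ha 0
      rw [h0', zero_smul] at this
      exact this.symm))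
    refine h1jump ?_
    have e : c' 1 = a⁻¹ • c' 0 := by rw [← ha, inv_smul_smul₀ ha0]; exact (hc 0).trans hc1
    rw [e]
    exact Submodule.smul_mem _ _ (Submodule.subset_span ⟨0, by simp, rfl⟩)
  have h3 : 3 ≤ Nat.find hex := by
    by_contra hlt
    exact hnotK (hWmono (by omega) (Nat.find_spec hex))
  obtain ⟨j₀, hj₀⟩ : ∃ j₀, Nat.find hex = j₀ + 2 := ⟨Nat.find hex - 2, by omega⟩
  have hin : c' 0 ∈ W (j₀ + 2) := hj₀ ▸ Nat.find_spec hex
  have hout : c' 0 ∉ W (j₀ + 1) := Nat.find_min hex (by omega)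
  obtain ⟨b, hb⟩ := hWsucc hin
  have hb0 : b ≠ 0 := fun h => hout (by simpa [h] using hb)
  have hjump : FunFld.IsJump K c (j₀ + 1) := fun hmem => hout (by
    have := add_mem hb (Submodule.smul_mem _ b hmem)
    rwa [sub_add_cancel] at this)
  obtain ⟨m, hm⟩ := (hJ.2 j₀).2 hjump
  refine ⟨m, fun j => ?_⟩
  rcases j with _ | i
  · simpa using h1jump
  simp only [Nat.succ_ne_zero, false_or]
  change (c (i + 2) ∉ Submodule.span K (c' '' Set.Iio (i + 2))) ↔ _
  rw [hspan']
  constructor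
  · intro h
    have hJi : FunFld.IsJump K c (i + 2) := fun hmem => h (Submodule.mem_sup_right hmem)
    obtain ⟨l, hl⟩ := (hJ.2 (i + 1)).2 hJi
    refine ⟨l, ?_, hl⟩
    rintro rfl
    have e : i + 1 = j₀ := by omega
    subst e
    refine h ?_
    have hb' : b • c (i + 2) ∈ Submodule.span K {c' 0} ⊔ W (i + 2) := by
      rw [← sub_sub_cancel (c' 0) (b • c (i + 2))]
      exact sub_mem (Submodule.mem_sup_left (Submodule.mem_span_singleton_self _)) (Submodule.mem_sup_right hb)
    have := Submodule.smul_mem _ b⁻¹ hb'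
    rwa [inv_smul_smul₀ hb0] at this
  · rintro ⟨l, hlm, hl⟩ hmem
    have hJi : FunFld.IsJump K c (i + 2) := (hJ.2 (i + 1)).1 ⟨l, hl⟩
    obtain ⟨v, hv, w, hw, he⟩ := Submodule.mem_sup.1 hmem
    obtain ⟨a, rfl⟩ := Submodule.mem_span_singleton.1 hv
    rcases eq_or_ne a 0 with rfl | ha
    · rw [zero_smul, zero_add] at he
      exact hJi (he ▸ hw)
    have hne : i + 1 ≠ j₀ := fun h => hlm (hJ.1.injective (by omega))
    rcases Nat.lt_or_gt_of_ne hne with hlt | hgt
    · refine hout ?_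
      have h4 : a • c' 0 ∈ W (j₀ + 1) := by
        rw [eq_sub_of_add_eq he]
        exact sub_mem (Submodule.subset_span ⟨i + 2, by simp; omega, rfl⟩) (hWmono (by omega) hw)
      have := Submodule.smul_mem _ a⁻¹ h4
      rwa [inv_smul_smul₀ ha] at this
    · refine hJi ?_
      rw [← he]
      exact add_mem (Submodule.smul_mem _ _ (hWmono (by omega) hin)) hw

end Groth.Agent.S12602
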