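import Groth.Statements.S12607
import Mathlib
import Groth.Agent.H23Proj.WDiv

set_option autoImplicit false
open FunFld

namespace Groth.Agent.S12607

/-- Over an algebraically closed constant field, let `φ = (φ₀, …, φₙ)` be an effective projective map
normalized at the place `P`, `t` a local parameter at `P` and `j'₁ < ⋯ < j'ₙ` the orders of `φ` at
`P`, `j'₀ = 0`. Then the span of `φ` has a basis `φ'₀, …, φ'ₙ` with `φ'ₗ = t^(j'ₗ) · (1 + higher
order terms)` at `P`; in particular `j` is one of the `j'ₗ` exactly when some function in the span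
of `φ` has order `j` at `P`. -/
theorem result
    (k K : Type*) [Field k] [IsAlgClosed k] [Field K] [Algebra k K]
    (hK : FunFld.IsFunctionField k K) (P : FunFld.Place k K) {n : ℕ} (φ : Fin (n + 1) → K) (hφ : LinearIndependent k φ)
    (heff : (1 : K) ∈ Submodule.span k (Set.range φ)) (hnorm : ∀ i, P.1 (φ i) ≤ 1)
    (t : K) (ht : P.1 t = WithZero.exp (-1))
    (Ht : K →ₐ[k] PowerSeries K) (hHt : LocRes.IsHasseFamily t Ht)
    (J' : Fin n → ℕ) (hJ' : FunFld.IsOrders (IsLocalRing.ResidueField P.O) (FunFld.hcolAt P Ht φ) J') :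
    (∃ φ' : Fin (n + 1) → K,
      Submodule.span k (Set.range φ') = Submodule.span k (Set.range φ) ∧
      P.1 (φ' 0) = 1 ∧ FunFld.evalP P (φ' 0) = 1 ∧
      ∀ l : Fin n, P.1 (φ' l.succ) = WithZero.exp (-(J' l : ℤ)) ∧
        FunFld.evalP P (φ' l.succ / t ^ J' l) = 1) ∧
    ∀ j : ℕ, (j = 0 ∨ j ∈ Set.range J') ↔
      ∃ f ∈ Submodule.span k (Set.range φ), P.1 f = WithZero.exp (-(j : ℤ)) := by
  classical
  refine ⟨?_, Groth.Agent.H23Proj.mem_ordersAt_iff hK ht hHt hnorm hJ' heff⟩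
  obtain ⟨φ', h0, -, hspan, hφ'⟩ := Groth.Agent.H23Proj.exists_adapted hK ht hHt hnorm hJ' hφ heff
  have h1 : ∀ {z : K}, P.1 z = 1 → P.1 (z - 1) < 1 → FunFld.evalP P z = 1 := fun {z} hz hz1 => by
    rw [Groth.Agent.H23Proj.evalP_eq_of_sub_lt hz.le (map_one P.1).le hz1,
      Groth.Agent.H23Proj.evalP_eq (map_one P.1).le]
    exact map_one (IsLocalRing.residue P.O)
  refine ⟨φ', hspan, by rw [h0, map_one], by rw [h0]; exact h1 (map_one _) (by simp), fun l => ⟨(hφ' l).1, ?_⟩⟩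
  refine h1 ?_ (hφ' l).2
  rw [map_div₀, map_pow, (hφ' l).1, ht, ← WithZero.exp_nsmul, ← WithZero.exp_sub, ← WithZero.exp_zero]
  congr 1; simp

end Groth.Agent.S12607
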