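import Groth.Statements.S12608
import Mathlib
import Groth.Agent.H23Proj.WDiv

set_option autoImplicit false
open FunFld

namespace Groth.Agent.S12608

/-- Over an algebraically closed constant field, let `φ = (φ₀, …, φₙ)` be an effective projective map
normalized at the place `P`, `t` a local parameter at `P`, `j₁, …, jₙ` the orders of `φ` and `j'₁,
…, j'ₙ` the orders of `φ` at `P`. Then `jₗ ≤ j'ₗ` for all `l`, and the following are equivalent: all
`j'ₗ = jₗ`; the Wronskian `w_t(φ)` does not vanish at `P`; the Weierstrass divisor `W(φ)` has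
coefficient `0` at `P` (the divisor of `dt` in it read through a family of Laurent expansions). -/
theorem result
    (k K : Type*) [Field k] [IsAlgClosed k] [Field K] [Algebra k K]
    (hK : FunFld.IsFunctionField k K) (P : FunFld.Place k K) {n : ℕ} (φ : Fin (n + 1) → K) (hφ : LinearIndependent k φ)
    (heff : (1 : K) ∈ Submodule.span k (Set.range φ)) (hnorm : ∀ i, P.1 (φ i) ≤ 1)
    (t : K) (ht : P.1 t = WithZero.exp (-1))
    (Ht : K →ₐ[k] PowerSeries K) (hHt : LocRes.IsHasseFamily t Ht)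
    (J : Fin n → ℕ) (hJ : FunFld.IsOrders K (FunFld.hcol (AlgHom.id k K) Ht φ) J)
    (J' : Fin n → ℕ) (hJ' : FunFld.IsOrders (IsLocalRing.ResidueField P.O) (FunFld.hcolAt P Ht φ) J')
    (Φ : FunFld.Place k K → (K →ₐ[k] LaurentSeries k))
    (hΦ : ∀ P : FunFld.Place k K, LocRes.IsExpansionAt P.1 (Φ P)) :
    (∀ l, J l ≤ J' l) ∧
    ((∀ l, J' l = J l) ↔ FunFld.evalP P (FunFld.wrMat (AlgHom.id k K) Ht φ J).det ≠ 0) ∧
    ((∀ l, J' l = J l) ↔ FunFld.wDiv (AlgHom.id k K) Ht Φ t φ J P = 0) := by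
  classical
  have hid : FunFld.IsFixedPt (AlgHom.id k K) P := fun z hz => hz
  have hpos' := Groth.Agent.H23Proj.ordersAt_pos hK ht hHt hnorm hJ'
  have hpos := Groth.Agent.H23Proj.orders_id_pos hK hHt hJ
  have hd' : (FunFld.wrMat (AlgHom.id k K) Ht φ J').det ≠ 0 := by
    intro h
    have h1 := ((Groth.Agent.H23Proj.val_det hK ht hHt _ hid hφ heff hnorm hJ' J').2 (Or.inl hpos')).2
      (by rw [Groth.Agent.H23Proj.det_binomMat_self hK ht hHt hJ'.1]; exact one_ne_zero)
    rw [h, map_zero] at h1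
    exact WithZero.exp_ne_zero h1.symm
  rw [Groth.Agent.H23Proj.wrMat_eq] at hd'
  have hle := Groth.Agent.H23Proj.orders_le hJ hJ'.1 hd'
  obtain ⟨hval, heq⟩ := Groth.Agent.H23Proj.val_det hK ht hHt _ hid hφ heff hnorm hJ' J
  have hsum0 : 0 ≤ ∑ l, ((J' l : ℤ) - J l) := Finset.sum_nonneg fun l _ => by have := hle l; omega
  have hint : P.1 (FunFld.wrMat (AlgHom.id k K) Ht φ J).det ≤ 1 :=
    hval.trans (Groth.Agent.H23Diff.exp_le_one_iff.2 (by omega))
  have hkey : (∀ l, J' l = J l) ↔ P.1 (FunFld.wrMat (AlgHom.id k K) Ht φ J).det = 1 := by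
    constructor
    · intro h
      have he : J' = J := funext h
      have h1 := (heq (Or.inl hpos)).2 (by
        rw [he, Groth.Agent.H23Proj.det_binomMat_self hK ht hHt hJ.1]; exact one_ne_zero)
      rw [h1, ← WithZero.exp_zero]
      congr 1
      simp [he]
    · intro h l
      rw [h, ← WithZero.exp_zero, WithZero.exp_le_exp] at hval
      have h2 := Finset.single_le_sum (f := fun l => (J' l : ℤ) - J l)
        (fun l _ => by have := hle l; omega) (Finset.mem_univ l)
      have := hle l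
      omega
  refine ⟨hle, hkey.trans ?_, hkey.trans ?_⟩
  · rw [Ne, Groth.Agent.H23Proj.evalP_eq_zero_iff hint]
    exact ⟨fun h => not_lt.2 h.ge, fun h => le_antisymm hint (not_lt.1 h)⟩
  · have h0 : FunFld.mapDiv k (⇑(AlgHom.id k K) ∘ φ) P = 0 :=
      Groth.Agent.H23Proj.mapDiv_apply_eq_zero hK hφ.ne_zero heff hnorm
    rw [Groth.Agent.H23Proj.wDiv_apply hK hφ _ ht heff hnorm Ht J hΦ, h0, add_zero,
      Groth.Agent.H23FunFld.val_eq_exp P (Groth.Agent.H23Proj.det_ne_zero hK hφ hHt hJ), ← WithZero.exp_zero,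
      WithZero.exp_inj]
    omega

end Groth.Agent.S12608
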