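import Groth.Statements.S12610
import Mathlib
import Groth.Agent.H23Proj.WDiv
import Groth.Agent.S12595

set_option autoImplicit false
open FunFld

namespace Groth.Agent.S12610

/-- Over an algebraically closed constant field, for a birational projective map `φ`, a `k`-endomorphism
`τ ≠ 1` and a place `P` fixed by `τ`, the place `P` is a Weierstrass point of `φ` with respect to
`τ`: the Weierstrass divisor `W(φ, τ) = [w_s(φ, τ)] + [τ(φ)] + n[φ] + j(φ, τ)[ds]` has positive
coefficient at `P` (the divisor of `ds` read through a family of Laurent expansions). -/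
theorem result
    (k K : Type*) [Field k] [IsAlgClosed k] [Field K] [Algebra k K]
    (hK : FunFld.IsFunctionField k K) {n : ℕ} (φ : Fin (n + 1) → K) (hφ : LinearIndependent k φ)
    (h0 : φ 0 ≠ 0) (hbir : IntermediateField.adjoin k (Set.range fun i => φ i / φ 0) = ⊤)
    (τ : K →ₐ[k] K) (hτ : τ ≠ AlgHom.id k K) (P : FunFld.Place k K) (hP : FunFld.IsFixedPt τ P)
    (s : K) (H : K →ₐ[k] PowerSeries K) (hH : LocRes.IsHasseFamily s H)
    (J : Fin n → ℕ) (hJ : FunFld.IsOrders K (FunFld.hcol τ H φ) J)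
    (Φ : FunFld.Place k K → (K →ₐ[k] LaurentSeries k))
    (hΦ : ∀ P : FunFld.Place k K, LocRes.IsExpansionAt P.1 (Φ P)) :
    0 < FunFld.wDiv τ H Φ s φ J P := by
  classical
  have hn : 0 < n := by
    refine Nat.pos_of_ne_zero fun hn0 => ?_
    subst hn0
    obtain ⟨x, hx, -⟩ := hK.1
    have hle : IntermediateField.adjoin k (Set.range fun i => φ i / φ 0) ≤ ⊥ := by
      rw [IntermediateField.adjoin_le_iff, Set.range_subset_iff]
      intro i
      rw [Fin.fin_one_eq_zero i, div_self h0]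
      exact one_mem _
    rw [hbir] at hle
    obtain ⟨c, hc⟩ := IntermediateField.mem_bot.1 (hle (IntermediateField.mem_top (x := x)))
    exact hx (hc ▸ isAlgebraic_algebraMap c)
  have hJ0 : J ⟨0, hn⟩ = 0 := by
    have h1 : FunFld.IsJump K (FunFld.hcol τ H φ) (0 + 1) := by
      by_contra h
      exact hτ ((Groth.Agent.S12595.result k K hK φ h0 hbir τ s H hH).1 h)
    obtain ⟨l, hl⟩ := (hJ.2 0).2 h1
    have := hJ.1.monotone (Fin.mk_le_of_le_val (Nat.zero_le l.val) : (⟨0, hn⟩ : Fin n) ≤ l)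
    omega
  obtain ⟨t, y, Ht, ψ, ht, -, -, hHt, hψ, heff, hnorm, hJψ, hW⟩ :=
    Groth.Agent.H23Proj.exists_local_form hK hφ τ hH hJ hΦ P
  rw [← hW]
  clear hW hφ hJ h0 hbir hH hτ φ
  rename' ψ => φ, hψ => hφ, hJψ => hJ
  obtain ⟨J', hJ'⟩ := Groth.Agent.H23Proj.exists_ordersAt hK ht hHt hnorm hφ heff
  have hτint : ∀ i, P.1 (τ (φ i)) ≤ 1 := fun i => by
    simpa using Groth.Agent.H23Proj.val_map_le hK ht (e := 1) one_pos (fun z hz => by
      simpa using Groth.Agent.H23FunFld.pow_le_exp_of_lt_one (hP z hz) 1) (f := φ i) (m := 0) (by simpa using hnorm i)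
  have hmτ : FunFld.mapDiv k (τ ∘ φ) P = 0 := by
    refine Groth.Agent.H23Proj.mapDiv_apply_eq_zero hK (fun i => (map_ne_zero τ).2 (hφ.ne_zero i)) ?_ hτint
    change (1 : K) ∈ Submodule.span k (Set.range (⇑τ.toLinearMap ∘ φ))
    rw [Set.range_comp, Submodule.span_image]
    exact ⟨1, heff, map_one τ⟩
  have hpos' := Groth.Agent.H23Proj.ordersAt_pos hK ht hHt hnorm hJ'
  have hd' : (FunFld.wrMat τ Ht φ J').det ≠ 0 := by
    intro h
    have h1 := ((Groth.Agent.H23Proj.val_det hK ht hHt _ hP hφ heff hnorm hJ' J').2 (Or.inl hpos')).2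
      (by rw [Groth.Agent.H23Proj.det_binomMat_self hK ht hHt hJ'.1]; exact one_ne_zero)
    rw [h, map_zero] at h1
    exact WithZero.exp_ne_zero h1.symm
  rw [Groth.Agent.H23Proj.wrMat_eq] at hd'
  have hle := Groth.Agent.H23Proj.orders_le hJ hJ'.1 hd'
  obtain ⟨hval, -⟩ := Groth.Agent.H23Proj.val_det hK ht hHt τ hP hφ heff hnorm hJ' J
  rw [Groth.Agent.H23Proj.wDiv_apply hK hφ τ ht heff hnorm Ht J hΦ, hmτ, add_zero]
  rw [Groth.Agent.H23FunFld.val_eq_exp P (Groth.Agent.H23Proj.det_ne_zero hK hφ hHt hJ), WithZero.exp_le_exp] at hval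
  have h2 := Finset.single_le_sum (f := fun l => (J' l : ℤ) - J l)
    (fun l _ => by have := hle l; omega) (Finset.mem_univ (⟨0, hn⟩ : Fin n))
  have := hpos' ⟨0, hn⟩
  omega

end Groth.Agent.S12610
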