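import Groth.Statements.S12611
import Mathlib
import Groth.Agent.H23Proj.Classical

set_option autoImplicit false
open FunFld

namespace Groth.Agent.S12611

/-- Over an algebraically closed constant field of characteristic `0` or greater than `deg φ`, a
birational projective map `φ = (φ₀, …, φₙ)` is classical: its orders are `(1, 2, …, n)`, and for a
`k`-endomorphism `τ ≠ 1` its `τ`-orders are `(0, 1, …, n-1)`. (The published statement has no
fixed-point hypothesis for `τ ≠ 1` and is false without one: on a smooth plane cubic in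
characteristic `0`, pulling back along multiplication by `-2` gives `τ`-orders `(0, 2)`. This row
assumes `τ` has a strong fixed point — a place whose maximal ideal `τ` maps into its square — which
is what the proof uses, through the equality criterion for Wronskian orders at such a point.) -/
theorem result
    (k K : Type*) [Field k] [IsAlgClosed k] [Field K] [Algebra k K]
    (hK : FunFld.IsFunctionField k K) {n : ℕ} (φ : Fin (n + 1) → K) (hφ : LinearIndependent k φ)
    (h0 : φ 0 ≠ 0) (hbir : IntermediateField.adjoin k (Set.range fun i => φ i / φ 0) = ⊤)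
    (hchar : ringChar k = 0 ∨ (FunFld.mapDiv k φ).deg < ringChar k)
    (τ : K →ₐ[k] K) (s : K) (H : K →ₐ[k] PowerSeries K) (hH : LocRes.IsHasseFamily s H) :
    (τ = AlgHom.id k K → FunFld.IsOrders K (FunFld.hcol τ H φ) (fun l : Fin n => (l : ℕ) + 1)) ∧
    (τ ≠ AlgHom.id k K → (∃ P : FunFld.Place k K, FunFld.IsStrongFixedPt τ P) →
      FunFld.IsOrders K (FunFld.hcol τ H φ) (fun l : Fin n => (l : ℕ))) := by
  classical
  obtain ⟨J, hJ, -⟩ := Groth.Agent.S12600.result k K hK φ hφ τ s H hH
  choose Φ hΦ using fun R : FunFld.Place k K => Groth.Agent.H23Diff.exists_expansion hK R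
  have key : ∀ (c : ℕ), c ≤ 1 → ∀ P : FunFld.Place k K, FunFld.IsFixedPt τ P →
      (0 < c ∨ FunFld.IsStrongFixedPt τ P) → ∀ l : Fin n, J l ≤ (l : ℕ) + c :=
    fun c hc P hP hcP l => Groth.Agent.H23Proj.orders_le_classical hK hφ hchar hH hJ hc hP hcP l
  refine ⟨?_, ?_⟩
  · rintro rfl
    obtain ⟨P⟩ := Groth.Agent.H23FunFld.nonempty_place hK
    have hlow : ∀ l : Fin n, (l : ℕ) + 1 ≤ J l := by
      rintro ⟨l, hl⟩
      induction l with
      | zero => exact Groth.Agent.H23Proj.orders_id_pos hK hH hJ _
      | succ l ih =>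
        have h1 := hJ.1 (show (⟨l, by omega⟩ : Fin n) < ⟨l + 1, hl⟩ from Nat.lt_succ_self l)
        have h2 := ih (by omega)
        simp only at h2 ⊢
        omega
    have e : J = fun l : Fin n => (l : ℕ) + 1 :=
      funext fun l => le_antisymm (key 1 le_rfl P (fun z hz => hz) (Or.inl one_pos) l) (hlow l)
    exact e ▸ hJ
  · rintro - ⟨P, hP⟩
    have hfix : FunFld.IsFixedPt τ P := fun z hz =>
      (hP z hz).trans_lt (by rw [← WithZero.exp_zero, WithZero.exp_lt_exp]; omega)
    have hlow : ∀ l : Fin n, (l : ℕ) ≤ J l := by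
      rintro ⟨l, hl⟩
      induction l with
      | zero => exact Nat.zero_le _
      | succ l ih =>
        have h1 := hJ.1 (show (⟨l, by omega⟩ : Fin n) < ⟨l + 1, hl⟩ from Nat.lt_succ_self l)
        have h2 := ih (by omega)
        simp only at h2 ⊢
        omega
    have e : J = fun l : Fin n => (l : ℕ) :=
      funext fun l => le_antisymm (key 0 zero_le_one P hfix (Or.inr hP) l) (hlow l)
    exact e ▸ hJ

end Groth.Agent.S12611
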