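import Groth.Statements.S12612
import Mathlib

set_option autoImplicit false
open FunFld

namespace Groth.Agent.S12612

theorem chain {k : Type*} [Field k] {B : Type*} [CommRing B] [Algebra k B] {M : Type*}
    [AddCommGroup M] [Module k M] [Module B M] (D : Derivation k B M) (g : Fin 3 → B)
    (φ : MvPolynomial (Fin 3) k) :
    D (MvPolynomial.aeval g φ) =
      ∑ i, MvPolynomial.aeval g (MvPolynomial.pderiv i φ) • D (g i) := by
  induction φ using MvPolynomial.induction_on with
  | C a => simp [MvPolynomial.algebraMap_eq]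
  | add p q hp hq => simp only [map_add, hp, hq, add_smul, Finset.sum_add_distrib]
  | mul_X p j hp =>
    rw [map_mul, MvPolynomial.aeval_X, Derivation.leibniz, hp, Finset.smul_sum,
      show MvPolynomial.aeval g p • D (g j) =
        ∑ i, (MvPolynomial.aeval g p * if i = j then 1 else 0) • D (g i) by simp,
      ← Finset.sum_add_distrib]
    refine Finset.sum_congr rfl fun i _ => ?_
    rw [Derivation.leibniz, MvPolynomial.pderiv_X, map_add, smul_eq_mul, smul_eq_mul, map_mul,
      map_mul, MvPolynomial.aeval_X, add_smul, smul_smul, mul_comm (g j)]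
    rcases eq_or_ne i j with rfl | h
    · simp [add_comm, mul_comm]
    · simp [h, mul_comm]

/-- For a plane curve given by a homogeneous `f` of degree `e` with `f(1, x, y) = 0` and a change of
projective coordinates `X = AX'` (`A` invertible over `k`), with new affine coordinates `x' =
u₁/u₀`, `y' = u₂/u₀`, `z = 1/u₀ = X₀/X₀'` where `u = A⁻¹(1, x, y)ᵗ`, and `f'(X') = f(AX')`, the
differentials satisfy `dx/f̂_y = det(A) z^(e-3) dx'/f̂'_{y'}`, where `f̂_y = (∂f/∂X₂)(1, x, y)` and
`f̂'_{y'} = (∂f'/∂X₂')(1, x', y')` are assumed nonzero. (Stated for any field `K` over `k`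
containing such `x`, `y`; the published setting is a plane model of a function field over an
algebraically closed field, and the computation uses only the relation `f(1, x, y) = 0`.) -/
theorem result
    (k K : Type*) [Field k] [Field K] [Algebra k K]
    (f : MvPolynomial (Fin 3) k) (e : ℕ) (hf : f.IsHomogeneous e)
    (x y : K) (hfxy : MvPolynomial.aeval ![(1 : K), x, y] f = 0)
    (A : Matrix (Fin 3) (Fin 3) k) (hA : A.det ≠ 0)
    (u : Fin 3 → K) (hu : ∀ i, ∑ j, algebraMap k K (A i j) * u j = ![(1 : K), x, y] i)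
    (hu0 : u 0 ≠ 0)
    (hfy : MvPolynomial.aeval ![(1 : K), x, y] (MvPolynomial.pderiv 2 f) ≠ 0)
    (hfy' : MvPolynomial.aeval ![(1 : K), u 1 / u 0, u 2 / u 0]
      (MvPolynomial.pderiv 2
        (MvPolynomial.aeval (fun i : Fin 3 => ∑ j, MvPolynomial.C (A i j) * MvPolynomial.X j) f)) ≠ 0) :
    (MvPolynomial.aeval ![(1 : K), x, y] (MvPolynomial.pderiv 2 f))⁻¹ • KaehlerDifferential.D k K x =
      (algebraMap k K A.det * (u 0)⁻¹ ^ ((e : ℤ) - 3) *
        (MvPolynomial.aeval ![(1 : K), u 1 / u 0, u 2 / u 0]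
          (MvPolynomial.pderiv 2
            (MvPolynomial.aeval (fun i : Fin 3 => ∑ j, MvPolynomial.C (A i j) * MvPolynomial.X j) f)))⁻¹) •
        KaehlerDifferential.D k K (u 1 / u 0) := by
  classical
  have scale : ∀ (φ : MvPolynomial (Fin 3) k) (n : ℕ), φ.IsHomogeneous n → ∀ (c : K) (g : Fin 3 → K),
      MvPolynomial.aeval (fun i => c * g i) φ = c ^ n * MvPolynomial.aeval g φ := by
    intro φ n hφ c g
    rw [φ.as_sum, map_sum, map_sum, Finset.mul_sum]
    refine Finset.sum_congr rfl fun d hd => ?_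
    have hd' : ∑ i, d i = n := by
      rw [← Finsupp.degree_eq_sum, Finsupp.degree_eq_weight_one]
      exact hφ (MvPolynomial.mem_support_iff.mp hd)
    rw [MvPolynomial.aeval_monomial, MvPolynomial.aeval_monomial,
      Finsupp.prod_fintype _ _ (fun i => pow_zero _), Finsupp.prod_fintype _ _ (fun i => pow_zero _)]
    simp only [mul_pow, Finset.prod_mul_distrib, Finset.prod_pow_eq_pow_sum, hd']
    ring
  set v : Fin 3 → K := ![(1 : K), x, y] with hv
  set G : Fin 3 → K := fun i => MvPolynomial.aeval v (MvPolynomial.pderiv i f) with hG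
  have he : 1 ≤ e := by
    rcases Nat.eq_zero_or_pos e with rfl | h
    · exfalso
      refine hfy ?_
      rw [← MvPolynomial.totalDegree_zero_iff_isHomogeneous, MvPolynomial.totalDegree_eq_zero_iff_eq_C] at hf
      rw [hf, MvPolynomial.pderiv_C, map_zero]
    · exact h
  have heul : G 0 + G 1 * x + G 2 * y = 0 := by
    have := congrArg (MvPolynomial.aeval v) hf.sum_X_mul_pderiv
    rw [map_nsmul, hfxy, smul_zero, Fin.sum_univ_three] at this
    simp only [map_add, map_mul, MvPolynomial.aeval_X] at this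
    simp only [hG, hv] at this ⊢
    simp at this
    linear_combination this
  have hd : G 1 • KaehlerDifferential.D k K x + G 2 • KaehlerDifferential.D k K y = 0 := by
    have := chain (KaehlerDifferential.D k K) v f
    rw [hfxy, map_zero, Fin.sum_univ_three] at this
    simpa [hG, hv] using this.symm
  set D := KaehlerDifferential.D k K with hD
  set d : Fin 3 → _ := fun j => D (u j) with hdu
  have hdv : ∀ i, D (v i) = ∑ j, algebraMap k K (A i j) • d j := by
    intro i
    rw [← hu i, map_sum]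
    exact Finset.sum_congr rfl fun j _ => by
      rw [Derivation.leibniz, Derivation.map_algebraMap, smul_zero, add_zero]
  -- the cofactor identity
  let a : Fin 3 → Fin 3 → K := fun i j => algebraMap k K (A i j)
  have hcross : algebraMap k K A.det • (u 0 • d 1 - u 1 • d 0) =
      a 0 2 • (v 1 • D (v 2) - v 2 • D (v 1)) + a 1 2 • (v 2 • D (v 0) - v 0 • D (v 2)) +
        a 2 2 • (v 0 • D (v 1) - v 1 • D (v 0)) := by
    rw [hdv, hdv, hdv, ← hu 0, ← hu 1, ← hu 2]
    simp only [a, Fin.sum_univ_three, Matrix.det_fin_three, map_add, map_sub, map_mul]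
    match_scalars <;> ring
  have hv0 : v 0 = 1 := rfl
  have hv1 : v 1 = x := rfl
  have hv2 : v 2 = y := rfl
  rw [hv0, hv1, hv2, Derivation.map_one_eq_zero] at hcross
  set S : K := ∑ i, a i 2 * G i with hS
  have key : (algebraMap k K A.det * G 2) • (u 0 • d 1 - u 1 • d 0) = S • D x := by
    rw [mul_comm, ← smul_smul, hcross]
    have h0 : G 0 = -(G 1 * x + G 2 * y) := by linear_combination heul
    have hy' : G 2 • D y = -(G 1 • D x) := eq_neg_of_add_eq_zero_right hd
    rw [hS, Fin.sum_univ_three, h0]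
    rw [show G 2 • (a 0 2 • (x • D y - y • D x) + a 1 2 • (y • (0 : _) - (1 : K) • D y) +
        a 2 2 • ((1 : K) • D x - x • (0 : _))) =
        (a 0 2 * x - a 1 2) • (G 2 • D y) + (G 2 * a 2 2 - G 2 * a 0 2 * y) • D x by module, hy']
    module
  set x' := u 1 / u 0 with hx'
  set w : Fin 3 → K := ![(1 : K), u 1 / u 0, u 2 / u 0] with hw
  set S' : K := MvPolynomial.aeval w (MvPolynomial.pderiv 2
        (MvPolynomial.aeval (fun i : Fin 3 => ∑ j, MvPolynomial.C (A i j) * MvPolynomial.X j) f)) with hS'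
  have hSS : S = u 0 ^ (e - 1) * S' := by
    rw [hS', chain (MvPolynomial.pderiv 2), map_sum, Finset.mul_sum, hS]
    refine Finset.sum_congr rfl fun i _ => ?_
    have hlin : MvPolynomial.pderiv (2 : Fin 3) (∑ j, MvPolynomial.C (A i j) * MvPolynomial.X j) =
        MvPolynomial.C (A i 2) := by
      simp [map_sum, MvPolynomial.pderiv_X, Fin.sum_univ_three]
    rw [hlin, smul_eq_mul, map_mul, MvPolynomial.aeval_C, ← mul_assoc, mul_comm (a i 2)]
    congr 1
    rw [← AlgHom.comp_apply (MvPolynomial.aeval w), MvPolynomial.comp_aeval, ← scale _ _ hf.pderiv]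
    simp only [hG]
    refine congrArg (fun g => MvPolynomial.aeval g (MvPolynomial.pderiv i f)) (funext fun i' => ?_)
    rw [map_sum, Finset.mul_sum, ← hu i']
    refine Finset.sum_congr rfl fun j _ => ?_
    rw [map_mul, MvPolynomial.aeval_C, MvPolynomial.aeval_X, mul_left_comm]
    congr 1
    fin_cases j <;> simp [hw, mul_div_cancel₀ _ hu0]
  have hdx : D x' = (u 0 ^ 2)⁻¹ • (u 0 • d 1 - u 1 • d 0) := by
    rw [hx', Derivation.leibniz_div, inv_pow]
  have hG2 : G 2 ≠ 0 := hfy
  have hS0 : S' ≠ 0 := hfy'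
  show (G 2)⁻¹ • D x = _
  rw [hdx, smul_smul,
    show algebraMap k K A.det * (u 0)⁻¹ ^ ((e : ℤ) - 3) * S'⁻¹ * (u 0 ^ 2)⁻¹ =
      (S⁻¹ * (G 2)⁻¹) * (algebraMap k K A.det * G 2) by
    obtain ⟨n, rfl⟩ : ∃ n, e = n + 1 := ⟨e - 1, by omega⟩
    rw [hSS, show ((n + 1 : ℕ) : ℤ) - 3 = (n : ℤ) - (2 : ℕ) by push_cast; ring,
      zpow_sub₀ (inv_ne_zero hu0), zpow_natCast, zpow_natCast, Nat.add_sub_cancel, inv_pow, inv_pow]
    field_simp]
  conv_rhs => rw [← smul_smul, key, smul_smul]
  congr 1
  have : S ≠ 0 := by rw [hSS]; exact mul_ne_zero (pow_ne_zero _ hu0) hS0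
  field_simp

end Groth.Agent.S12612
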