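import Groth.Statements.S12613
import Mathlib
import Groth.Agent.H23Proj.AdjointPrep
import Groth.Agent.S11070
import Groth.Agent.S12612

set_option autoImplicit false
open FunFld

namespace Groth.Agent.S12613

/-- Over an algebraically closed constant field, for a birational plane map `φ = (1 : x : y)` of degree
`e` with irreducible relation `f̂(x, y) = 0`, the adjoint divisor `Δ(φ) = (e - 3)[φ] - [dx/f̂_y]`
has nonnegative coefficient at every place `Q`, and the coefficient is `0` exactly when `φ` is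
nonsingular at `Q`. The order of `dx/f̂_y` at `Q` is read through a Laurent expansion at `Q`,
through which that differential is assumed nonzero. -/
theorem result
    (k K : Type*) [Field k] [IsAlgClosed k] [Field K] [Algebra k K]
    (hK : FunFld.IsFunctionField k K) (x y : K) (hxy : IntermediateField.adjoin k ({x, y} : Set K) = ⊤)
    (f : MvPolynomial (Fin 2) k) (hf : Irreducible f) (hfxy : MvPolynomial.aeval ![x, y] f = 0)
    (Q : FunFld.Place k K) (ΦQ : K →ₐ[k] LaurentSeries k) (hΦQ : LocRes.IsExpansionAt Q.1 ΦQ)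
    (hne : LocRes.vDiff ΦQ (MvPolynomial.aeval ![x, y] (MvPolynomial.pderiv 1 f))⁻¹ x ≠ 0) :
    0 ≤ ((FunFld.mapDiv k ![(1 : K), x, y]).deg - 3) * FunFld.mapDiv k ![(1 : K), x, y] Q -
        LocRes.ordDiff ΦQ (MvPolynomial.aeval ![x, y] (MvPolynomial.pderiv 1 f))⁻¹ x ∧
    (((FunFld.mapDiv k ![(1 : K), x, y]).deg - 3) * FunFld.mapDiv k ![(1 : K), x, y] Q -
        LocRes.ordDiff ΦQ (MvPolynomial.aeval ![x, y] (MvPolynomial.pderiv 1 f))⁻¹ x = 0 ↔
      FunFld.IsNonsingularAt ![(1 : K), x, y] Q) := by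
  classical
  open Groth.Agent.H23Proj Groth.Agent.H23FunFld MvPolynomial WithZero in
  set φ : Fin 3 → K := ![(1 : K), x, y] with hφ
  set e := f.totalDegree with he
  have hdeg : (FunFld.mapDiv k φ).deg = e := Groth.Agent.S11070.result k K hK x y hxy f hf hfxy
  have hvec : (fun i : Fin 2 => φ i.succ / φ 0) = ![x, y] := by
    funext i; fin_cases i <;> simp [φ]
  have he0 : 0 < e := by
    refine Nat.pos_of_ne_zero fun h0 => ?_
    rw [he, totalDegree_eq_zero_iff_eq_C] at h0
    rw [h0, aeval_C, map_eq_zero] at hfxy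
    exact hf.ne_zero (by rw [h0, hfxy, map_zero])
  set F := hom e f
  have hFh : F.IsHomogeneous e := hom_isHomogeneous e f
  have hFπ : dehom F = f := dehom_hom le_rfl
  have hF0 : F ≠ 0 := fun h => hf.ne_zero (by rw [← hFπ, h, map_zero])
  have hφ0 : φ 0 ≠ 0 := one_ne_zero
  have hdehom : ∀ {G : MvPolynomial (Fin 3) k} {d : ℕ}, G.IsHomogeneous d →
      aeval φ G = aeval ![x, y] (dehom G) := fun {G d} hG => by
    rw [aeval_eq_pow_mul hφ0 hG, ← hvec, aeval_dehom hφ0, show φ 0 = 1 from rfl, one_pow, one_mul]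
  have hFφ : aeval φ F = 0 := by rw [hdehom hFh, hFπ, hfxy]
  have hbir : IntermediateField.adjoin k (Set.range fun i => φ i / φ 0) = ⊤ := by
    refine top_le_iff.1 (hxy ▸ IntermediateField.adjoin.mono _ _ _ ?_)
    rintro z (rfl | rfl)
    · exact ⟨1, by simp [φ]⟩
    · exact ⟨2, by simp [φ]⟩
  have hFirr : Irreducible F := by
    obtain ⟨F₀, hF₀, hF₀h, hker⟩ := exists_plane_generator hK hφ0 hbir
    have hmem : F ∈ Ideal.span {F₀} := hker ▸ RingHom.mem_ker.2 (aeval_C_mul_X_eq_zero_of_isHomogeneous φ hFh hFφ)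
    obtain ⟨h, hh⟩ := Ideal.mem_span_singleton.1 hmem
    have hh0 : h ≠ 0 := fun h' => hF0 (by rw [hh, h', mul_zero])
    have hF₀0 : aeval φ F₀ = 0 := by
      have h1 : F₀ ∈ RingHom.ker (aeval fun i => Polynomial.C (φ i) * Polynomial.X) :=
        hker ▸ Ideal.mem_span_singleton_self F₀
      rw [RingHom.mem_ker, aeval_eq_zero_iff] at h1
      have h2 := h1 F₀.totalDegree
      rwa [homogeneousComponent_of_mem hF₀h, if_pos rfl] at h2
    have hnu : ¬ IsUnit (dehom F₀) := fun hu => by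
      have h1 := hu.map (aeval ![x, y] : MvPolynomial (Fin 2) k →ₐ[k] K)
      rw [← hdehom hF₀h, hF₀0] at h1
      exact not_isUnit_zero h1
    obtain ⟨c, hc⟩ : IsUnit (dehom h) :=
      (hf.isUnit_or_isUnit (show f = dehom F₀ * dehom h by rw [← map_mul, ← hh, hFπ])).resolve_left hnu
    have hdF : (dehom F₀).totalDegree = e := by
      have h1 : f = dehom F₀ * dehom h := by rw [← map_mul, ← hh, hFπ]
      have h2 : (dehom h).totalDegree = 0 := by
        rw [← hc]
        obtain ⟨r, -, hr⟩ := MvPolynomial.isUnit_iff_eq_C_of_isReduced.1 c.isUnit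
        rw [hr, totalDegree_C]
      rw [he, h1, totalDegree_mul_of_isDomain (fun h' => hnu (absurd (by rw [h1, h', zero_mul]) hf.ne_zero))
        (fun h' => hf.ne_zero (by rw [h1, h', mul_zero])), h2, add_zero]
    have h3 := totalDegree_dehom_le hF₀h
    have h4 := totalDegree_mul_of_isDomain hF₀.ne_zero hh0
    rw [← hh, hFh.totalDegree hF0] at h4
    have h5 : h.totalDegree = 0 := by omega
    rw [totalDegree_eq_zero_iff_eq_C] at h5
    rw [hh, irreducible_mul_isUnit]
    · exact hF₀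
    · rw [h5]
      exact (isUnit_iff_ne_zero.2 fun h6 => hh0 (by rw [h5, h6, map_zero])).map C
  set fy := aeval ![x, y] (pderiv 1 f) with hfydef
  have hFy : aeval φ (pderiv 2 F) = fy := by
    rw [hdehom hFh.pderiv, show (2 : Fin 3) = (1 : Fin 2).succ from rfl, dehom_pderiv, hFπ]
  have hfy : fy ≠ 0 := fun h => hne (by simp [LocRes.vDiff, h])
  have hDx := Groth.Agent.H23Diff.D_ne_zero_of_vDiff hΦQ hne
  obtain ⟨j, hj⟩ := exists_max Q φ
  have hj0 : φ j ≠ 0 := max_ne_zero hj hφ0
  obtain ⟨a, haj, ha⟩ := exists_point hK hj0 hj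
  obtain ⟨A, hA, hA0, hA2, hAg⟩ := exists_coord (K := K) he0 hFh hF0 haj
    (fun i => aeval φ (pderiv i F)) (by rw [hFy]; exact hfy)
  set u : Fin 3 → K := fun i => ∑ l, algebraMap k K (A⁻¹ i l) * φ l with hudef
  have hu : ∀ i, ∑ l, algebraMap k K (A i l) * u l = φ i := fun i => by
    calc ∑ l, algebraMap k K (A i l) * u l = ∑ m, algebraMap k K ((A * A⁻¹) i m) * φ m := by
          simp only [hudef, Matrix.mul_apply, map_sum, map_mul, Finset.mul_sum, Finset.sum_mul, mul_assoc]
          exact Finset.sum_comm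
      _ = φ i := by rw [Matrix.mul_nonsing_inv _ (isUnit_iff_ne_zero.2 hA)]; simp [Matrix.one_apply]
  have hu1 : ∀ i, Q.1 (u i / φ j - algebraMap k K (if i = 0 then 1 else 0)) < 1 := by
    intro i
    have h1 : (∑ l, A⁻¹ i l * a l) = if i = 0 then 1 else 0 := by
      have h2 := congrFun (congrFun (Matrix.nonsing_inv_mul A (isUnit_iff_ne_zero.2 hA)) i) 0
      simp only [Matrix.mul_apply, hA0, Matrix.one_apply] at h2
      exact h2
    rw [← h1, hudef, Finset.sum_div, map_sum, ← Finset.sum_sub_distrib]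
    refine Q.1.map_sum_lt' zero_lt_one fun l _ => ?_
    rw [map_mul, mul_div_assoc, ← mul_sub, map_mul]
    exact (mul_le_of_le_one_left zero_le (Q.2.1 _)).trans_lt (ha l)
  have hQu : Q.1 (u 0 / φ j) = 1 := by
    have h1 := hu1 0
    rw [if_pos rfl, map_one] at h1
    have h2 := Q.1.map_add_eq_of_lt_right (show Q.1 (u 0 / φ j - 1) < Q.1 (1 : K) by rwa [map_one])
    rwa [sub_add_cancel, map_one] at h2
  have hu0 : u 0 ≠ 0 := fun h => by rw [h, zero_div, map_zero] at hQu; exact zero_ne_one hQu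
  set v : Fin 2 → K := fun i => u i.succ / u 0 with hvdef
  have hv2 : (![(1 : K), u 1 / u 0, u 2 / u 0]) = fun i => u i / u 0 := by
    funext i; fin_cases i <;> simp [hu0]
  have hQv : ∀ i, Q.1 (v i) < 1 := fun i => by
    have h1 := hu1 i.succ
    rw [if_neg (Fin.succ_ne_zero i), map_zero, sub_zero] at h1
    change Q.1 (u i.succ / u 0) < 1
    rwa [← div_div_div_cancel_right₀ hj0, map_div₀, hQu, div_one]
  set F' := lin A F with hF'
  have hF'h : F'.IsHomogeneous e := isHomogeneous_lin hFh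
  have hF'u : aeval u F' = 0 := by rw [hF', aeval_lin, show (fun i => ∑ l, algebraMap k K (A i l) * u l) = φ from _root_.funext hu, hFφ]
  set f' := dehom F' with hf'
  have hf'v : aeval v f' = 0 := by
    rw [hf', aeval_dehom hu0]
    rw [aeval_eq_pow_mul hu0 hF'h] at hF'u
    exact (mul_eq_zero.1 hF'u).resolve_left (pow_ne_zero _ hu0)
  have hf'irr : Irreducible f' := irreducible_dehom hF'h (irreducible_lin hA hFirr) fun hu' => by
    have h1 := hu'.map (aeval v : MvPolynomial (Fin 2) k →ₐ[k] K)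
    rw [hf'v] at h1
    exact not_isUnit_zero h1
  have hmon : (bivar f').Monic := monic_bivar_dehom hF'h (by
    rw [hF', aeval_lin]
    refine (congrArg (fun z => aeval z F) (_root_.funext fun i => ?_)).trans hA2
    simp [Fin.sum_univ_three])
  have hgenv : IntermediateField.adjoin k (Set.range v) = ⊤ := by
    refine top_le_iff.1 (hxy ▸ IntermediateField.adjoin_le_iff.2 ?_)
    set L := IntermediateField.adjoin k (Set.range v)
    have hL : ∀ i, u i / u 0 ∈ L := Fin.cases (by rw [div_self hu0]; exact one_mem _)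
      (fun i => IntermediateField.subset_adjoin k _ ⟨i, rfl⟩)
    have hL' : ∀ i, φ i / u 0 ∈ L := fun i => by
      rw [← hu i, Finset.sum_div]
      exact sum_mem fun l _ => by
        rw [mul_div_assoc]; exact mul_mem (IntermediateField.algebraMap_mem _ _) (hL l)
    have hL'' : ∀ i, φ i ∈ L := fun i => by
      have := div_mem (hL' i) (hL' 0)
      rwa [div_div_div_cancel_right₀ hu0, show φ 0 = 1 from rfl, div_one] at this
    rintro z (rfl | rfl)
    · exact hL'' 1
    · exact hL'' 2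
  set fy' := aeval v (pderiv 1 f') with hfy'def
  have hfy2 : aeval ![(1 : K), u 1 / u 0, u 2 / u 0] (pderiv 2 F') = fy' := by
    rw [hv2, ← aeval_dehom hu0, show (2 : Fin 3) = (1 : Fin 2).succ from rfl, dehom_pderiv]
  have hfy' : fy' ≠ 0 := by
    rw [← hfy2, hv2, hF', pderiv_lin, map_sum]
    have h1 : ∀ i, aeval (fun l => u l / u 0) (C (A i 2) * lin A (pderiv i F)) =
        (u 0)⁻¹ ^ (e - 1) * (algebraMap k K (A i 2) * aeval φ (pderiv i F)) := fun i => by
      rw [map_mul, aeval_C, aeval_lin, show (fun m => ∑ l, algebraMap k K (A m l) * (u l / u 0)) =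
        fun m => (u 0)⁻¹ * φ m from _root_.funext fun m => by
          rw [← hu m, Finset.mul_sum]; exact Finset.sum_congr rfl fun l _ => by ring,
        aeval_smul_of_isHomogeneous hFh.pderiv]
      ring
    simp only [h1, ← Finset.mul_sum]
    exact mul_ne_zero (pow_ne_zero _ (inv_ne_zero hu0)) hAg
  have hD := Groth.Agent.S12612.result k K F e hFh x y hFφ A hA u hu hu0 (by rw [hFy]; exact hfy)
    (show aeval ![(1 : K), u 1 / u 0, u 2 / u 0] (pderiv 2 F') ≠ 0 by rw [hfy2]; exact hfy')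
  rw [hFy, show MvPolynomial.aeval (fun i : Fin 3 => ∑ l, C (A i l) * X l) F = F' from rfl, hfy2] at hD
  set w : K := algebraMap k K A.det * (u 0)⁻¹ ^ ((e : ℤ) - 3) with hw
  have hdet : algebraMap k K A.det ≠ 0 := (map_ne_zero _).2 hA
  have hw0 : w ≠ 0 := mul_ne_zero hdet (zpow_ne_zero _ (inv_ne_zero hu0))
  have hDx' : KaehlerDifferential.D k K x = (fy * (w * fy'⁻¹)) • KaehlerDifferential.D k K (u 1 / u 0) := by
    rw [mul_smul, ← hD, smul_inv_smul₀ hfy]
  have hvd : LocRes.vDiff ΦQ fy⁻¹ x = Q.1 w * LocRes.vDiff ΦQ fy'⁻¹ (v 0) := by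
    rw [Groth.Agent.H23Diff.vDiff_eq_mul ΦQ fy⁻¹ hDx', ← mul_assoc, inv_mul_cancel₀ hfy, one_mul, hΦQ.1]
    simp only [LocRes.vDiff, map_mul, map_one, one_mul, hΦQ.1, mul_assoc]
    rfl
  have hne' : LocRes.vDiff ΦQ fy'⁻¹ (v 0) ≠ 0 := fun h => hne (by rw [hvd, h, mul_zero])
  obtain ⟨hle, hiff⟩ := adjoint_affine hK v hgenv f' hf'irr hf'v hmon Q hQv ΦQ hΦQ hne'
  have hordj : Q.ord (u 0) = Q.ord (φ j) := by
    rw [map_div₀, div_eq_one_iff_eq (val_ne_zero Q hj0)] at hQu
    simp only [FunFld.Place.ord, hQu]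
  have hDD : FunFld.mapDiv k φ Q = -Q.ord (u 0) := by
    rw [mapDiv_apply hK.1, hordj, neg_inj]
    refine le_antisymm (Finset.inf'_le _ (Finset.mem_univ j)) (Finset.le_inf' _ _ fun i _ => ?_)
    rcases eq_or_ne (φ i) 0 with h | h
    · rw [h, ord_zero]
      have h1 := hj 0
      rw [show φ 0 = 1 from rfl, map_one, val_eq_exp Q hj0, ← exp_zero, exp_le_exp] at h1
      omega
    · have h1 := hj i
      rw [val_eq_exp Q h, val_eq_exp Q hj0, exp_le_exp] at h1
      omega
  have hordw : Q.ord w = -(((e : ℤ) - 3) * Q.ord (u 0)) := by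
    have h1 : Q.1 w = exp (((e : ℤ) - 3) * Q.ord (u 0)) := by
      rw [hw, map_mul, map_zpow₀, map_inv₀, val_const Q hA, one_mul, val_eq_exp Q hu0, ← exp_neg, neg_neg,
        ← exp_zsmul, smul_eq_mul]
    rw [val_eq_exp Q hw0, exp_inj] at h1
    omega
  have hΔ : ((FunFld.mapDiv k φ).deg - 3) * FunFld.mapDiv k φ Q - LocRes.ordDiff ΦQ fy⁻¹ x =
      -LocRes.ordDiff ΦQ fy'⁻¹ (v 0) := by
    rw [hdeg, hDD, LocRes.ordDiff, hvd, WithZero.log_mul (val_ne_zero Q hw0) hne']
    have h2 : WithZero.log (Q.1 w) = ((e : ℤ) - 3) * Q.ord (u 0) := by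
      have h3 : -WithZero.log (Q.1 w) = -(((e : ℤ) - 3) * Q.ord (u 0)) := hordw
      omega
    rw [h2, LocRes.ordDiff]
    ring
  have hz1 : ∀ i, φ i / φ j ∈ locSub Q v := fun i => by
    have hv' : ∀ l, u l / u 0 ∈ locSub Q v := Fin.cases (by rw [div_self hu0]; exact one_mem _)
      (fun l => adjoin_le_locSub Q v (Algebra.subset_adjoin ⟨l, rfl⟩))
    have hv'' : ∀ i, φ i / u 0 ∈ locSub Q v := fun i => by
      rw [← hu i, Finset.sum_div]
      exact sum_mem fun l _ => by rw [mul_div_assoc]; exact mul_mem (Subalgebra.algebraMap_mem _ _) (hv' l)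
    have h1 : Q.1 (φ j / u 0) = 1 := by rw [← inv_div, map_inv₀, hQu, inv_one]
    have := mul_mem (hv'' i) (inv_mem_locSub (hv'' j) h1)
    rwa [inv_div, div_mul_div_cancel₀ hu0] at this
  have hz2 : ∀ i, v i ∈ locSub Q (fun i => φ i / φ j) := fun i => by
    have h1 : ∀ l, u l / φ j ∈ locSub Q (fun i => φ i / φ j) := fun l => by
      simp only [hudef, Finset.sum_div]
      exact sum_mem fun m _ => by
        rw [mul_div_assoc]
        exact mul_mem (Subalgebra.algebraMap_mem _ _) (adjoin_le_locSub Q _ (Algebra.subset_adjoin ⟨m, rfl⟩))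
    have := mul_mem (h1 i.succ) (inv_mem_locSub (h1 0) hQu)
    rwa [inv_div, div_mul_div_cancel₀ hj0] at this
  have hloc : locSub Q (fun i => φ i / φ j) = locSub Q v :=
    le_antisymm (locSub_le_of_mem hz1) (locSub_le_of_mem hz2)
  refine ⟨by rw [hΔ]; exact neg_nonneg.2 hle, ?_⟩
  rw [hΔ, neg_eq_zero, hiff]
  exact forall_congr' fun z => imp_congr_right fun _ => by rw [inLocRing_iff hj0 hj z, hloc]

end Groth.Agent.S12613
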