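import Groth.Statements.S12615
import Mathlib
import Groth.Agent.H23Proj.WDiv

set_option autoImplicit false
open FunFld

namespace Groth.Agent.S12615

/-- Over an algebraically closed constant field, let `P` be a fixed point of the `k`-endomorphism `τ`,
`φ` an effective projective map normalized at `P` with `τ`-orders `j₁, …, jₙ` and orders `j'₁, …,
j'ₙ` at `P`. Then the coefficient of the Weierstrass divisor `W(φ, τ)` at `P` is at least `Σ (j'ₗ -
jₗ)`; if `τ = 1` or `P` is a strong fixed point, it equals `Σ (j'ₗ - jₗ)` exactly when the matrix of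
binomial coefficients `(j'_r choose j_s)`, read in `k`, has nonzero determinant. The divisor of `dt`
in `W` is read through a family of Laurent expansions. -/
theorem result
    (k K : Type*) [Field k] [IsAlgClosed k] [Field K] [Algebra k K]
    (hK : FunFld.IsFunctionField k K) (τ : K →ₐ[k] K) (P : FunFld.Place k K) (hP : FunFld.IsFixedPt τ P)
    {n : ℕ} (φ : Fin (n + 1) → K) (hφ : LinearIndependent k φ)
    (heff : (1 : K) ∈ Submodule.span k (Set.range φ)) (hnorm : ∀ i, P.1 (φ i) ≤ 1)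
    (t : K) (ht : P.1 t = WithZero.exp (-1))
    (Ht : K →ₐ[k] PowerSeries K) (hHt : LocRes.IsHasseFamily t Ht)
    (J : Fin n → ℕ) (hJ : FunFld.IsOrders K (FunFld.hcol τ Ht φ) J)
    (J' : Fin n → ℕ) (hJ' : FunFld.IsOrders (IsLocalRing.ResidueField P.O) (FunFld.hcolAt P Ht φ) J')
    (Φ : FunFld.Place k K → (K →ₐ[k] LaurentSeries k))
    (hΦ : ∀ P : FunFld.Place k K, LocRes.IsExpansionAt P.1 (Φ P)) :
    (∑ l, ((J' l : ℤ) - J l)) ≤ FunFld.wDiv τ Ht Φ t φ J P ∧
    ((τ = AlgHom.id k K ∨ FunFld.IsStrongFixedPt τ P) →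
      (FunFld.wDiv τ Ht Φ t φ J P = ∑ l, ((J' l : ℤ) - J l) ↔ (FunFld.binomMat k J' J).det ≠ 0)) := by
  classical
  have hτint : ∀ i, P.1 (τ (φ i)) ≤ 1 := fun i => by
    simpa using Groth.Agent.H23Proj.val_map_le hK ht (e := 1) one_pos (fun z hz => by
      simpa using Groth.Agent.H23FunFld.pow_le_exp_of_lt_one (hP z hz) 1) (f := φ i) (m := 0) (by simpa using hnorm i)
  have hmτ : FunFld.mapDiv k (τ ∘ φ) P = 0 := by
    refine Groth.Agent.H23Proj.mapDiv_apply_eq_zero hK (fun i => (map_ne_zero τ).2 (hφ.ne_zero i)) ?_ hτint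
    change (1 : K) ∈ Submodule.span k (Set.range (⇑τ.toLinearMap ∘ φ))
    rw [Set.range_comp, Submodule.span_image]
    exact ⟨1, heff, map_one τ⟩
  have hdet := Groth.Agent.H23Proj.det_ne_zero hK hφ hHt hJ
  obtain ⟨hval, heq⟩ := Groth.Agent.H23Proj.val_det hK ht hHt τ hP hφ heff hnorm hJ' J
  rw [Groth.Agent.H23Proj.wDiv_apply hK hφ τ ht heff hnorm Ht J hΦ, hmτ, add_zero]
  rw [Groth.Agent.H23FunFld.val_eq_exp P hdet] at hval heq
  rw [WithZero.exp_le_exp] at hval
  refine ⟨by omega, fun h => ?_⟩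
  have hcase : (∀ l, 0 < J l) ∨ FunFld.IsStrongFixedPt τ P := by
    rcases h with rfl | h
    · exact Or.inl (Groth.Agent.H23Proj.orders_id_pos hK hHt hJ)
    · exact Or.inr h
  rw [← heq hcase, WithZero.exp_inj, neg_inj]

end Groth.Agent.S12615
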