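import Groth.Statements.S12616
import Mathlib
import Groth.Agent.S12612
import Groth.Agent.H23Diff.Canonical
import Groth.Agent.H23Proj.WDiv

set_option autoImplicit false
open FunFld

namespace Groth.Agent.S12616

/-- Over an algebraically closed constant field, the adjoint divisor `Δ(φ) = (e - 3)[φ] - [dx/f̂_y]` of
an effective plane map `φ = (1 : x : y)` of degree `e`, with a homogeneous relation `f` of the same
degree `e` satisfying `f(1, x, y) = 0`, depends only on the equivalence class of `φ`: it is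
unchanged under a change of projective coordinates `X = AX'`, with `x' = u₁/u₀`, `y' = u₂/u₀`, `u =
A⁻¹(1, x, y)ᵗ`, `f'(X') = f(AX')`. Here `dx ≠ 0`, both `f̂_y` and `f̂'_{y'}` are nonzero, and
divisors of differentials are read through a family of Laurent expansions. (The published statement
takes `f` to be the minimal relation of `x` and `y` for a plane model `K = k(x, y)`, where the
degree of the map equals the degree of `f`; this row assumes only that `f` is homogeneous of degree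
equal to the degree of the map, which is all the change-of-coordinates computation uses — when the
two degrees differ the two sides differ by a multiple of the divisor of `u₀`.) -/
theorem result
    (k K : Type*) [Field k] [IsAlgClosed k] [Field K] [Algebra k K]
    (hK : FunFld.IsFunctionField k K) (f : MvPolynomial (Fin 3) k) (e : ℕ) (hf : f.IsHomogeneous e)
    (x y : K) (hfxy : MvPolynomial.aeval ![(1 : K), x, y] f = 0)
    (hdx : KaehlerDifferential.D k K x ≠ 0)
    (he : (FunFld.mapDiv k ![(1 : K), x, y]).deg = e)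
    (A : Matrix (Fin 3) (Fin 3) k) (hA : A.det ≠ 0)
    (u : Fin 3 → K) (hu : ∀ i, ∑ j, algebraMap k K (A i j) * u j = ![(1 : K), x, y] i)
    (hu0 : u 0 ≠ 0)
    (hfy : (MvPolynomial.aeval ![(1 : K), x, y] (MvPolynomial.pderiv 2 f)) ≠ 0)
    (hfy' : (MvPolynomial.aeval ![(1 : K), u 1 / u 0, u 2 / u 0] (MvPolynomial.pderiv 2 (MvPolynomial.aeval (fun i : Fin 3 => ∑ j, MvPolynomial.C (A i j) * MvPolynomial.X j) f))) ≠ 0)
    (Φ : FunFld.Place k K → (K →ₐ[k] LaurentSeries k))
    (hΦ : ∀ P : FunFld.Place k K, LocRes.IsExpansionAt P.1 (Φ P)) :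
    ((FunFld.mapDiv k ![(1 : K), x, y]).deg - 3) • FunFld.mapDiv k ![(1 : K), x, y] -
        FunFld.divDiff Φ (MvPolynomial.aeval ![(1 : K), x, y] (MvPolynomial.pderiv 2 f))⁻¹ x =
      ((FunFld.mapDiv k ![(1 : K), u 1 / u 0, u 2 / u 0]).deg - 3) •
          FunFld.mapDiv k ![(1 : K), u 1 / u 0, u 2 / u 0] -
        FunFld.divDiff Φ (MvPolynomial.aeval ![(1 : K), u 1 / u 0, u 2 / u 0] (MvPolynomial.pderiv 2 (MvPolynomial.aeval (fun i : Fin 3 => ∑ j, MvPolynomial.C (A i j) * MvPolynomial.X j) f)))⁻¹ (u 1 / u 0) := by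
  classical
  open Groth.Agent.H23FunFld in
  set x' := u 1 / u 0
  set y' := u 2 / u 0
  set f' := MvPolynomial.aeval (fun i : Fin 3 => ∑ j, MvPolynomial.C (A i j) * MvPolynomial.X j) f
  set fy := MvPolynomial.aeval ![(1 : K), x, y] (MvPolynomial.pderiv 2 f)
  set fy' := MvPolynomial.aeval ![(1 : K), x', y'] (MvPolynomial.pderiv 2 f')
  -- the maps
  have hmain : ∀ (ψ : Fin 3 → K), ψ 0 = 1 → ∀ Q : FunFld.Place k K,
      (∀ i, Q.1 (ψ i) ≤ WithZero.exp (FunFld.mapDiv k ψ Q)) ∧
      ∃ j, Q.1 (ψ j) = WithZero.exp (FunFld.mapDiv k ψ Q) := by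
    intro ψ h0 Q
    have hle : ∀ i, Q.1 (ψ i) ≤ WithZero.exp (FunFld.mapDiv k ψ Q) := fun i => by
      rcases eq_or_ne (ψ i) 0 with hi | hi
      · rw [hi, map_zero]; exact zero_le
      · exact Groth.Agent.H23Proj.val_entry_le hK Q i hi
    refine ⟨hle, ?_⟩
    obtain ⟨j, -, hj⟩ := Finset.exists_mem_eq_inf' Finset.univ_nonempty (fun i => Q.ord (ψ i))
    have hE : FunFld.mapDiv k ψ Q = -Q.ord (ψ j) := by rw [Groth.Agent.H23Proj.mapDiv_apply hK.1, hj]
    rcases eq_or_ne (ψ j) 0 with hj0 | hj0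
    · exact ⟨0, by rw [hE, hj0, ord_zero, h0, map_one, neg_zero, WithZero.exp_zero]⟩
    · exact ⟨j, by rw [hE, val_eq_exp Q hj0]⟩
  have hinv : ∀ i, u i = ∑ j, algebraMap k K (A⁻¹ i j) * ![(1 : K), x, y] j := by
    intro i
    calc u i = ∑ l, algebraMap k K ((A⁻¹ * A) i l) * u l := by
          rw [Matrix.nonsing_inv_mul _ (isUnit_iff_ne_zero.2 hA)]; simp [Matrix.one_apply]
      _ = _ := by
          simp only [Matrix.mul_apply, map_sum, map_mul, Finset.sum_mul, ← hu, Finset.mul_sum]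
          rw [Finset.sum_comm]
          simp only [mul_assoc]
  have hu0v : ∀ i, u i = u 0 * ![(1 : K), x', y'] i := fun i => by
    fin_cases i <;> simp [x', y', mul_div_cancel₀, hu0]
  have hmap : FunFld.mapDiv k ![(1 : K), x', y'] = FunFld.mapDiv k ![(1 : K), x, y] + FunFld.div k (u 0) := by
    ext Q
    obtain ⟨h1, i₁, hi₁⟩ := hmain ![(1 : K), x, y] rfl Q
    obtain ⟨h2, i₂, hi₂⟩ := hmain ![(1 : K), x', y'] rfl Q
    have hsc : ∀ (c : k) (z : K), Q.1 (algebraMap k K c * z) ≤ Q.1 z := fun c z => by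
      rw [← Algebra.smul_def]; exact val_smul_le Q c z
    have hu' : ∀ i, Q.1 (u i) ≤ WithZero.exp (FunFld.mapDiv k ![(1 : K), x, y] Q) := fun i => by
      rw [hinv i]
      exact Q.1.map_sum_le fun j _ => (hsc _ _).trans (h1 j)
    have hx1 : ∀ i, Q.1 (![(1 : K), x, y] i) ≤
        WithZero.exp (FunFld.mapDiv k ![(1 : K), x', y'] Q - Q.ord (u 0)) := fun i => by
      rw [← hu i]
      refine Q.1.map_sum_le fun j _ => (hsc _ _).trans ?_
      rw [hu0v j, map_mul, val_eq_exp Q hu0, sub_eq_neg_add, WithZero.exp_add]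
      exact mul_le_mul_right (h2 j) _
    have a := hx1 i₁
    have b := hu' i₂
    rw [hi₁, WithZero.exp_le_exp] at a
    rw [hu0v i₂, map_mul, hi₂, val_eq_exp Q hu0, ← WithZero.exp_add, WithZero.exp_le_exp] at b
    rw [Finsupp.add_apply, div_apply hK]
    omega
  have hdeg : (FunFld.mapDiv k ![(1 : K), x', y']).deg = e := by
    rw [hmap, deg_add, deg_div hK, he, add_zero]
  -- the differentials
  have hD := Groth.Agent.S12612.result k K f e hf x y hfxy A hA u hu hu0 hfy hfy'
  set w : K := algebraMap k K A.det * (u 0)⁻¹ ^ ((e : ℤ) - 3)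
  have hDx : KaehlerDifferential.D k K x = (fy * (w * fy'⁻¹)) • KaehlerDifferential.D k K x' := by
    rw [mul_smul, ← hD, smul_inv_smul₀ hfy]
  have hdx' : KaehlerDifferential.D k K x' ≠ 0 := fun h0 => hdx (by rw [hDx, h0, smul_zero])
  obtain ⟨C, -, hC⟩ := Groth.Agent.H23Diff.divDiff_eq hK hdx' hΦ
  have hfun : (fun P => LocRes.ordDiff (Φ P) fy⁻¹ x) = fun P => LocRes.ordDiff (Φ P) (w * fy'⁻¹) x' := by
    funext P
    unfold LocRes.ordDiff
    rw [Groth.Agent.H23Diff.vDiff_eq_mul (Φ P) fy⁻¹ hDx, ← mul_assoc, inv_mul_cancel₀ hfy, one_mul]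
    simp only [LocRes.vDiff, map_mul, map_one, one_mul]
  have hdd : FunFld.divDiff Φ fy⁻¹ x = FunFld.divDiff Φ (w * fy'⁻¹) x' := by
    simp only [FunFld.divDiff, hfun]
  have hdet : algebraMap k K A.det ≠ 0 := by simpa using hA
  have hw : w ≠ 0 := mul_ne_zero hdet (zpow_ne_zero _ (inv_ne_zero hu0))
  rw [hdd, (hC _ (mul_ne_zero hw (inv_ne_zero hfy'))).2, (hC _ (inv_ne_zero hfy')).2,
    div_mul hK hw (inv_ne_zero hfy'), he, hdeg, hmap]
  have hdivw : FunFld.div k w = -(((e : ℤ) - 3) • FunFld.div k (u 0)) := by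
    ext Q
    have h1 : Q.1 w = WithZero.exp (((e : ℤ) - 3) * Q.ord (u 0)) := by
      simp only [w, map_mul, map_zpow₀, map_inv₀, val_const Q hA, one_mul, val_eq_exp Q hu0,
        ← WithZero.exp_neg, neg_neg, ← WithZero.exp_zsmul, smul_eq_mul]
    rw [val_eq_exp Q hw, WithZero.exp_inj] at h1
    rw [div_apply hK, Finsupp.neg_apply, Finsupp.smul_apply, div_apply hK, smul_eq_mul]
    omega
  rw [hdivw, smul_add]
  abel

end Groth.Agent.S12616
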