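import Groth.Statements.S12617
import Mathlib
import Groth.Agent.H23Proj.WDiv
import Groth.Agent.H23Proj.LocalRing

set_option autoImplicit false
open FunFld

namespace Groth.Agent.S12617

/-- Over an algebraically closed constant field, if the effective projective map `φ = (φ₀, …, φₙ)`, `n ≥
1`, normalized at `P`, is nonsingular at `P`, then its first order at `P` is `1`. -/
theorem result
    (k K : Type*) [Field k] [IsAlgClosed k] [Field K] [Algebra k K]
    (hK : FunFld.IsFunctionField k K) (P : FunFld.Place k K) {n : ℕ} (hn : 0 < n) (φ : Fin (n + 1) → K)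
    (hφ : LinearIndependent k φ)
    (heff : (1 : K) ∈ Submodule.span k (Set.range φ)) (hnorm : ∀ i, P.1 (φ i) ≤ 1) (hns : FunFld.IsNonsingularAt φ P)
    (t : K) (ht : P.1 t = WithZero.exp (-1))
    (Ht : K →ₐ[k] PowerSeries K) (hHt : LocRes.IsHasseFamily t Ht)
    (J' : Fin n → ℕ) (hJ' : FunFld.IsOrders (IsLocalRing.ResidueField P.O) (FunFld.hcolAt P Ht φ) J') :
    J' ⟨0, hn⟩ = 1 := by
  classical
  have hne := hφ.ne_zero
  obtain ⟨v, hv, hv1⟩ := Groth.Agent.H23Proj.exists_order_one hK hne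
    (hns t (by rw [ht, ← WithZero.exp_zero, WithZero.exp_le_exp]; omega)) ht
  rw [Groth.Agent.H23Proj.mapDiv_apply_eq_zero hK hne heff hnorm] at hv1
  obtain h | ⟨l, hl⟩ := (Groth.Agent.H23Proj.mem_ordersAt_iff hK ht hHt hnorm hJ' heff 1).2
    ⟨v, hv, by rw [hv1]; norm_num⟩
  · omega
  · have h1 := Groth.Agent.H23Proj.ordersAt_pos hK ht hHt hnorm hJ' ⟨0, hn⟩
    have h2 := hJ'.1.monotone (Fin.mk_le_of_le_val (Nat.zero_le l.val) : (⟨0, hn⟩ : Fin n) ≤ l)
    omega

end Groth.Agent.S12617
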