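import Groth.Statements.S12619
import Groth.Agent.H23Res.TraceFormula

set_option autoImplicit false
universe u v
open LocRes

namespace Groth.Agent.S12619

/-- Let `F` be a field with a discrete valuation `v`, `K` a perfect field and `φ : F → K((X))` a
`K`-algebra expansion at `v` in a local parameter (it carries `v` to the `X`-adic valuation, the
valuation ring maps onto the coefficient field `K`, and `v` is normalised) which is moreover
surjective — so `F` is complete and `K` is a coefficient field of its valuation ring. Let `E` be a
finite separable extension of `F`, `w` a valuation of `E` extending `v` up to equivalence, and `L` a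
field between `K` and `E`, finite over `K`, with an `L`-algebra expansion `ψ : E → L((X))` at `w` in
a local parameter (so `L` is a coefficient field of the valuation ring of `w` containing `K`; it is
then the algebraic closure of `K` in `E`). Then for `x ∈ F` and `y ∈ E`, the trace from `L` to `K`
of the residue of `y dx` at `w` equals the residue at `v` of `tr_{E/F}(y) dx`, the residues being
the `X⁻¹`-coefficients of `ψ(y)·(ψ x)′` and of `φ(tr y)·(φ x)′`. (The published statement constructs
`L` as the algebraic closure of `K` in `E` and defines residues intrinsically; here the coefficient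
fields and expansions are data and the residues are read through them.) -/
theorem result (K L : Type u) (F E : Type v) [Field K] [PerfectField K] [Field L]
    [Field F] [Field E] [Algebra K F] [Algebra F E] [Algebra K E] [IsScalarTower K F E]
    [FiniteDimensional F E] [Algebra.IsSeparable F E]
    [Algebra K L] [Algebra L E] [IsScalarTower K L E] [FiniteDimensional K L]
    (v : Valuation F (WithZero (Multiplicative ℤ))) (w : Valuation E (WithZero (Multiplicative ℤ)))
    [v.HasExtension w]
    (φ : F →ₐ[K] LaurentSeries K) (hφ : LocRes.IsExpansionAt v φ) (hφs : Function.Surjective φ)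
    (ψ : E →ₐ[L] LaurentSeries L) (hψ : LocRes.IsExpansionAt w ψ)
    (x : F) (y : E) :
    Algebra.trace K L (LocRes.resExp ψ y (algebraMap F E x)) =
      LocRes.resExp φ (Algebra.trace F E y) x := by
  obtain ⟨t, ht⟩ := hφ.2.2
  have hlt : w (algebraMap F E t) < 1 := by
    rw [← map_one w, ← map_one (algebraMap F E), Valuation.HasExtension.val_map_lt_iff (vR := v), map_one, ht,
      ← WithZero.exp_zero, WithZero.exp_lt_exp]
    norm_num
  have ht0 : t ≠ 0 := by rintro rfl; exact WithZero.exp_ne_zero (ht.symm.trans (map_zero v))
  have hwt : w (algebraMap F E t) ≠ 0 := (Valuation.ne_zero_iff w).2 ((map_ne_zero _).2 ht0)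
  obtain ⟨e, he, hwe⟩ : ∃ e : ℕ, 0 < e ∧ w (algebraMap F E t) = WithZero.exp (-(e : ℤ)) := by
    refine ⟨(-WithZero.log (w (algebraMap F E t))).toNat, ?_, ?_⟩ <;>
      rw [← WithZero.exp_log hwt, ← WithZero.exp_zero, WithZero.exp_lt_exp] at hlt
    · omega
    · conv_lhs => rw [← WithZero.exp_log hwt]
      congr 1; omega
  have hvw : ∀ a, w (algebraMap F E a) = v a ^ e := by
    intro a
    rcases eq_or_ne a 0 with rfl | ha
    · simp [he.ne']
    obtain ⟨n, hn⟩ : ∃ n : ℤ, v a = WithZero.exp n :=
      ⟨WithZero.log (v a), (WithZero.exp_log ((Valuation.ne_zero_iff v).2 ha)).symm⟩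
    have hu : v (a * t ^ n) = 1 := by
      rw [map_mul, map_zpow₀, ht, hn, ← WithZero.exp_zsmul, ← WithZero.exp_add]; simp
    have h1 : w (algebraMap F E (a * t ^ n)) = 1 := (Valuation.HasExtension.val_map_eq_one_iff v w _).2 hu
    rw [map_mul, map_mul, map_zpow₀, map_zpow₀, hwe, ← WithZero.exp_zsmul] at h1
    rw [eq_div_iff WithZero.exp_ne_zero |>.2 h1, hn, ← WithZero.exp_nsmul, ← WithZero.exp_zero, ← WithZero.exp_sub]
    congr 1
    simp only [smul_eq_mul, nsmul_eq_mul]; ring
  let ψ₀ : E →ₐ[K] LaurentSeries L :=
    { ψ.toRingHom with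
      commutes' := fun r => by
        change ψ (algebraMap K E r) = _
        rw [IsScalarTower.algebraMap_apply K L E, ψ.commutes, H23Res.algebraMap_laurent, H23Res.algebraMap_laurent,
          Algebra.algebraMap_self_apply] }
  have hψ₀ : IsExpansionAt w ψ₀ := ⟨hψ.1, hψ.2.1, hψ.2.2⟩
  obtain ⟨θ, c, hθ, hθC, hθφ⟩ := H23Res.exists_embed hφ hψ₀ he hvw
  have hinj : Function.Injective φ := φ.toRingHom.injective
  have h := H23Res.trace_formula_of_li (ι := Unit) (w := fun _ => w) (ψ := fun _ => ψ₀) (θ := fun _ => θ)
    (e := fun _ => e) (c := fun _ => c) (fun _ => hψ₀) (fun _ => he) (fun _ => hθ) (fun _ => hθC) (fun _ => hθφ)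
    (fun a m => ⟨a (), fun i => by rw [sub_self, map_zero]; exact zero_le⟩) (Module.finBasis F E) ?_ y x
  · rw [Fintype.sum_unique] at h
    simp only [LocRes.locRes, Algebra.trace_self_apply] at h
    exact h.symm
  · rw [Fintype.linearIndependent_iff]
    intro a ha j
    choose b hb using fun j => hφs (a j)
    simp only [← hb] at ha ⊢
    rw [← H23Res.Psi_sum_smul (fun _ => hθφ)] at ha
    have h0 : ψ₀ (∑ j, b j • Module.finBasis F E j) = 0 := congrFun ha ()
    rw [map_eq_zero] at h0
    rw [Fintype.linearIndependent_iff.1 (Module.finBasis F E).linearIndependent b h0 j, map_zero]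

end Groth.Agent.S12619
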