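-- statement FlatMor.GrothFrozen.S1262 (Groth/Statements/S1262.lean; the theorem FlatMor.isOpen_flatLocus_in_fiber);
import Groth.Statements.S1262
import Groth.Agent.H7Flat.FlatAtAssoc
import Groth.Agent.H06EGA11.BaseChange

set_option autoImplicit false
universe u
open FlatMor TensorProduct

namespace Groth.Agent.S1262

/-- Ring form, X = Spec S affine: let S be a finite type R-algebra, N a finite S-module and p a prime of
R. Then the set of points x of the fibre Spec(κ(p) ⊗ S) such that N is flat over R at the prime of S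
under x is open in the fibre. -/
theorem result {R S : Type u} [CommRing R] [CommRing S] [Algebra R S] [Algebra.FiniteType R S]
    (N : Type u) [AddCommGroup N] [Module S N] [Module R N] [IsScalarTower R S N] [Module.Finite S N]
    (p : Ideal R) [p.IsPrime] :
    IsOpen {x : PrimeSpectrum (p.Fiber S) |
      FlatCA.FlatAt R (x.asIdeal.comap (Algebra.TensorProduct.includeRight (R := R) (A := p.ResidueField) (B := S)).toRingHom) N} := by
  classical
  let _ : Algebra S (p.Fiber S) := Algebra.TensorProduct.rightAlgebra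
  have : IsNoetherianRing (p.Fiber S) := Algebra.FiniteType.isNoetherianRing p.ResidueField _
  have : Module.Finite (p.Fiber S) (FlatCA.fiberMod p S N) :=
    inferInstanceAs (Module.Finite (p.Fiber S) ((p.Fiber S) ⊗[S] N))
  let ι := (Algebra.TensorProduct.includeRight (R := R) (A := p.ResidueField) (B := S)).toRingHom
  have hle : ∀ x y : PrimeSpectrum (p.Fiber S), x ≤ y → FlatCA.FlatAt R (y.asIdeal.comap ι) N →
      FlatCA.FlatAt R (x.asIdeal.comap ι) N := fun x y hxy h =>
    letI : Module.Flat R (LocalizedModule (y.asIdeal.comap ι).primeCompl N) := h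
    H06EGA11.flat_localizedModule_of_le (y.asIdeal.comap ι).primeCompl (x.asIdeal.comap ι).primeCompl
      fun t ht htx => ht (hxy htx)
  let bad := {Q : PrimeSpectrum (p.Fiber S) |
    Q.asIdeal ∈ associatedPrimes (p.Fiber S) (FlatCA.fiberMod p S N) ∧
      ¬ FlatCA.FlatAt R (Q.asIdeal.comap ι) N}
  have hfin : bad.Finite := Set.Finite.of_finite_image (f := PrimeSpectrum.asIdeal)
    ((associatedPrimes.finite (p.Fiber S) (FlatCA.fiberMod p S N)).subset
      (by rintro _ ⟨Q, hQ, rfl⟩; exact hQ.1))
    (fun a _ b _ h => PrimeSpectrum.ext h)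
  rw [← isClosed_compl_iff]
  convert hfin.isClosed_biUnion fun Q _ =>
    PrimeSpectrum.isClosed_zeroLocus (Q.asIdeal : Set (p.Fiber S)) using 1
  ext x
  simp only [Set.mem_compl_iff, Set.mem_setOf_eq, Set.mem_iUnion, PrimeSpectrum.mem_zeroLocus,
    SetLike.coe_subset_coe, exists_prop]
  refine ⟨fun hx => ?_, fun ⟨Q, hQ, hQx⟩ hx => hQ.2 (hle Q x hQx hx)⟩
  by_contra hne
  push Not at hne
  let q := x.asIdeal.comap ι
  have : q.IsPrime := Ideal.comap_isPrime _ _
  have : q.LiesOver p := by
    refine ⟨?_⟩
    have h0 : (x.asIdeal.comap (algebraMap p.ResidueField (p.Fiber S))) = ⊥ :=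
      (Ideal.eq_bot_or_top _).resolve_right (Ideal.IsPrime.ne_top inferInstance)
    ext r
    rw [← Ideal.algebraMap_residueField_eq_zero (I := p), ← Ideal.mem_bot, ← h0, Ideal.mem_comap,
      ← IsScalarTower.algebraMap_apply, Ideal.under_def, Ideal.mem_comap, Ideal.mem_comap]
    change _ ↔ (Algebra.TensorProduct.includeRight (R := R) (A := p.ResidueField) (B := S))
      (algebraMap R S r) ∈ x.asIdeal
    rw [AlgHom.commutes]
  refine hx (H7Flat.FlatAtAssoc.flatAt_of_assoc N p q fun q' _ hq' ho hass => ?_)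
  have := H7Flat.UnivInjCover.isPrime_fiberIdeal p q'
  by_contra hflat
  have heq : (FlatCA.fiberIdeal p q').comap ι = q' := H7Flat.ImpurityDescend.comap_fiberIdeal p q'
  refine hne ⟨FlatCA.fiberIdeal p q', ‹_›⟩ ⟨hass, fun h => hflat ?_⟩ ?_
  · simp only [heq] at h
    exact h
  · calc FlatCA.fiberIdeal p q' ≤ FlatCA.fiberIdeal p q := Ideal.map_mono hq'
      _ = x.asIdeal := H7Flat.ImpurityDescend.fiberIdeal_comap p x.asIdeal

end Groth.Agent.S1262
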