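import Groth.Statements.S12621
import Mathlib

set_option autoImplicit false
universe u v w
open LocRes

namespace Groth.Agent.S12621

/-- For a `k`-algebra homomorphism `φ : K → F((X))` from a field into formal Laurent series over a
field, an element `f` of `K` and a nonzero integer `n`, the residue of `f^(n-1) df` read through `φ`
— the `X⁻¹`-coefficient of `φ(f)^(n-1) · (φ f)′` — vanishes, in every characteristic (also when the
characteristic divides `n`). (The published statement is for the intrinsic residue of a complete
field with a perfect coefficient field; read through an expansion it is this identity of Laurent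
series, and no property of `φ` is needed.) -/
theorem result {k : Type u} {K : Type v} {F : Type w} [CommRing k] [Field K] [Field F]
    [Algebra k K] [Algebra k F]
    (φ : K →ₐ[k] LaurentSeries F) (f : K) (n : ℤ) (hn : n ≠ 0) :
    LocRes.resExp φ (f ^ (n - 1)) f = 0 := by
  have key₀ : ∀ (S : Type w) [CommRing S] [IsDomain S] [CharZero S] (U : PowerSeries S) (m : ℤ) (j N : ℕ),
      m * (j + 1) + N = 0 → PowerSeries.coeff N (U ^ j * (m • U + PowerSeries.X * PowerSeries.derivative S U)) = 0 := by
    intro S _ _ _ U m j N h
    have hj : ((j : S) + 1) ≠ 0 := by exact_mod_cast Nat.succ_ne_zero j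
    refine (mul_eq_zero.1 ?_).resolve_left hj
    rw [mul_add, map_add, mul_smul_comm, ← pow_succ, map_zsmul]
    have h1 : ((j : S) + 1) * PowerSeries.coeff N (U ^ j * (PowerSeries.X * PowerSeries.derivative S U)) =
        (N : S) * PowerSeries.coeff N (U ^ (j + 1)) := by
      rcases N with _ | N
      · simp
      · rw [mul_left_comm, PowerSeries.coeff_succ_X_mul, mul_comm ((N + 1 : ℕ) : S),
          Nat.cast_succ N, ← PowerSeries.coeff_derivative, PowerSeries.derivative_pow,
          Nat.add_sub_cancel, mul_assoc, ← nsmul_eq_mul, map_nsmul, nsmul_eq_mul]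
        push_cast
        rfl
    rw [mul_add, h1, zsmul_eq_mul, ← mul_assoc, ← add_mul]
    have h2 : ((j : S) + 1) * (m : S) + (N : S) = 0 := by
      have := congrArg (Int.cast : ℤ → S) h
      push_cast at this
      rw [← this]; ring
    rw [h2, zero_mul]
  have key : ∀ (U : PowerSeries F) (m : ℤ) (j N : ℕ),
      m * (j + 1) + N = 0 → PowerSeries.coeff N (U ^ j * (m • U + PowerSeries.X * PowerSeries.derivative F U)) = 0 := by
    intro U m j N h
    let π : MvPolynomial F ℤ →+* F := MvPolynomial.eval₂Hom (Int.castRingHom F) id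
    let V : PowerSeries (MvPolynomial F ℤ) := PowerSeries.mk fun i => MvPolynomial.X (PowerSeries.coeff i U)
    have hV : PowerSeries.map π V = U := by
      ext i
      simp [V, π]
    have hd : PowerSeries.map π (PowerSeries.derivative _ V) = PowerSeries.derivative F U := by
      ext i
      rw [PowerSeries.coeff_map, PowerSeries.coeff_derivative, PowerSeries.coeff_derivative, map_mul, ← hV,
        PowerSeries.coeff_map, map_add, map_natCast, map_one]
    have h1 := congrArg π (key₀ _ V m j N h)
    rw [map_zero, ← PowerSeries.coeff_map, map_mul (PowerSeries.map π), map_pow (PowerSeries.map π),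
      map_add (PowerSeries.map π), map_zsmul (PowerSeries.map π), map_mul (PowerSeries.map π), hV, hd,
      PowerSeries.map_X] at h1
    exact h1
  have main : ∀ (g : LaurentSeries F) (j : ℕ), (g ^ j * LocRes.D F g).coeff (-1) = 0 := by
    intro g j
    obtain ⟨m, U, rfl⟩ : ∃ (m : ℤ) (U : PowerSeries F), g = HahnSeries.single m 1 * (U : LaurentSeries F) :=
      ⟨_, _, g.single_order_mul_powerSeriesPart.symm⟩
    have e : (HahnSeries.single m (1 : F) * (U : LaurentSeries F)) ^ j *
        LocRes.D F (HahnSeries.single m 1 * (U : LaurentSeries F)) =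
        HahnSeries.single ((j : ℤ) * m + (m - 1)) (1 : F) *
          ((U ^ j * (m • U + PowerSeries.X * PowerSeries.derivative F U) : PowerSeries F) : LaurentSeries F) := by
      have hm1 : HahnSeries.single m (1 : F) = HahnSeries.single (m - 1) 1 * HahnSeries.single 1 1 := by
        rw [HahnSeries.single_mul_single, one_mul, sub_add_cancel]
      have hm2 : HahnSeries.single (m - 1) (m • (1 : F)) =
          HahnSeries.single (m - 1) 1 * (m : LaurentSeries F) := by
        rw [← map_intCast (HahnSeries.C (Γ := ℤ) (R := F)), HahnSeries.C_apply, HahnSeries.single_mul_single,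
          one_mul, add_zero, zsmul_one]
      have hpow : HahnSeries.single ((j : ℤ) * m + (m - 1)) (1 : F) =
          (HahnSeries.single m (1 : F)) ^ j * HahnSeries.single (m - 1) 1 := by
        rw [HahnSeries.single_pow, one_pow, HahnSeries.single_mul_single, one_mul, nsmul_eq_mul]
      rw [LocRes.D_apply, LocRes.derivative_single_mul, hpow, LocRes.derivative_coe, hm2]
      rw [mul_pow]
      conv_lhs => arg 2; arg 1; rw [hm1]
      simp only [zsmul_eq_mul, PowerSeries.coe_mul, PowerSeries.coe_pow, PowerSeries.coe_add,
        PowerSeries.coe_X, map_intCast]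
      ring
    rw [e, HahnSeries.coeff_single_mul, one_mul, PowerSeries.coeff_coe]
    split_ifs with hneg
    · rfl
    · refine key U m j _ ?_
      rw [Int.natAbs_of_nonneg (not_lt.1 hneg)]
      ring
  rw [LocRes.resExp, LocRes.res_apply, map_zpow₀]
  rcases eq_or_ne (φ f) 0 with h0 | h0
  · rw [h0, map_zero, mul_zero, HahnSeries.coeff_zero]
  rcases lt_or_gt_of_ne hn with hlt | hgt
  · obtain ⟨j, rfl⟩ : ∃ j : ℕ, n = -((j : ℤ) + 1) := ⟨(-n - 1).toNat, by omega⟩
    have h1 := main (φ f)⁻¹ j
    have e : (φ f) ^ (-((j : ℤ) + 1) - 1) * LocRes.D F (φ f) =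
        -(((φ f)⁻¹) ^ j * LocRes.D F (φ f)⁻¹) := by
      rw [Derivation.leibniz_inv, smul_eq_mul]
      rw [show -((j : ℤ) + 1) - 1 = -(((j + 2 : ℕ)) : ℤ) by push_cast; ring, zpow_neg, zpow_natCast,
        ← inv_pow, pow_add]
      ring
    rw [e, HahnSeries.coeff_neg, h1, neg_zero]
  · obtain ⟨j, rfl⟩ : ∃ j : ℕ, n = (j : ℤ) + 1 := ⟨(n - 1).toNat, by omega⟩
    rw [add_sub_cancel_right, zpow_natCast]
    exact main _ j

end Groth.Agent.S12621
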