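import Groth.Statements.S12626
import Groth.Agent.H3CAlg.PowDiff

set_option autoImplicit false
universe u v
open CAlg

namespace Groth.Agent.S12626

/-- For a perfect field `K` of characteristic `p > 0` and a commutative `K`-algebra `A`, put `δ_i(x) =
x^(p^i - 1) dx` in `Ω_{A/K}` and let the subsets `Σ^i ⊆ Ω_{A/K}` be given by `Σ^0 = {0}` and
`Σ^(i+1) = {δ_i(x) + σ | x ∈ A, σ ∈ Σ^i}`; then `Σ^i` is stable under multiplication by `p^i`-th
powers of elements of `A`: for `x ∈ A` and `ω ∈ Σ^i`, `x^(p^i) ω ∈ Σ^i`. This stability is what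
turns the rule `x · [ω] = [x^(p^i) ω]` into an `A`-module structure on the quotient `Ω_{A/K} / Σ^i`
(the row states the stability; that `x ↦ [δ_i(x)]` is then a derivation is a direct computation and
is not restated). -/
theorem result (K : Type u) (A : Type v) [Field K] [PerfectField K] (p : ℕ) [Fact p.Prime] [CharP K p]
    [CommRing A] [Algebra K A] (i : ℕ) (x : A)
    (ω : Ω[A⁄K]) (hω : ω ∈ W4bk4bump814p2.sigma K A p i) :
    (x ^ (p ^ i)) • ω ∈ W4bk4bump814p2.sigma K A p i := by
  rw [Groth.Agent.H3CAlg.PowDiff.sigma_eq] at hω ⊢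
  refine Groth.Agent.H3CAlg.PowDiff.pow_smul_mem_G K A p ?_ i x hω
  rw [← map_natCast (algebraMap K A), CharP.cast_eq_zero, map_zero]

end Groth.Agent.S12626
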