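import Groth.Statements.S12627
import Groth.Agent.H25AbCube.TangentLine
import Groth.Agent.H25AbCube.Nondegenerate


set_option autoImplicit false
set_option linter.style.haveILetI false
set_option backward.isDefEq.respectTransparency false
set_option synthInstance.maxHeartbeats 200000
universe u
open CategoryTheory CategoryTheory.Limits MonoidalCategory CartesianMonoidalCategory MonObj GrpObj AlgebraicGeometry
open AbVar

namespace Groth.Agent.S12627

/-- Let `k` be an algebraically closed field and `E₁`, `E₂` elliptic curves over `k`, i.e. group schemes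
over `Spec k` whose underlying schemes are proper, smooth, integral and one-dimensional. If `φ, φ' :
E₁ → E₂` are homomorphisms with `φ` finite, surjective and étale (a separable isogeny) and `φ'` not
étale (the zero homomorphism or an inseparable isogeny), then their sum under the group law of `E₂`
— the composite of `(φ, φ')` with the multiplication of `E₂` — is finite, surjective and étale, i.e.
again a separable isogeny. (The published statement is for arbitrary morphisms `φ, φ'` and takes
`φ'` inseparable; this row takes homomorphisms, the case its proof treats — a morphism of elliptic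
curves is a homomorphism followed by a translation, which changes neither the hypotheses nor the
conclusion — and allows `φ'` to be the zero map, that case being immediate.) -/
theorem result (k : Type u) [Field k] [IsAlgClosed k]
    (E₁ E₂ : Over (Spec (CommRingCat.of k)))
    [GrpObj E₁] [IsProper E₁.hom] [Smooth E₁.hom] [IsIntegral E₁.left] (hE₁ : topologicalKrullDim E₁.left = 1)
    [GrpObj E₂] [IsProper E₂.hom] [Smooth E₂.hom] [IsIntegral E₂.left] (hE₂ : topologicalKrullDim E₂.left = 1)
    (φ φ' : E₁ ⟶ E₂) [IsMonHom φ] [IsMonHom φ'] [IsFinite φ.left] [Surjective φ.left] [Etale φ.left]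
    (hφ' : ¬ Etale φ'.left) :
    IsFinite (φ * φ').left ∧ Surjective (φ * φ').left ∧ Etale (φ * φ').left := by
  classical
  open Groth.Agent.H19Grp.TangentPow in
  haveI : GeometricallyIntegral E₁.hom := H25AbCube.geometricallyIntegral_of_isIntegral' E₁
  haveI : GeometricallyIntegral E₂.hom := H25AbCube.geometricallyIntegral_of_isIntegral' E₂
  haveI : IsCommMonObj E₂ := H25AbCube.isCommMonObj_of_av
  have hsum : IsMonHom (φ * φ') := by
    rw [Hom.mul_def]
    infer_instance
  -- unramified homomorphisms are separable isogenies
  have hmain : ∀ (f : E₁ ⟶ E₂) [IsMonHom f], FormallyUnramified f.left →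
      IsFinite f.left ∧ Surjective f.left ∧ Etale f.left := by
    intro f _ hf
    haveI := hf
    haveI : IsProper (f.left ≫ E₂.hom) := by rw [Over.w f]; infer_instance
    haveI : IsProper f.left := IsProper.of_comp f.left E₂.hom
    haveI := H25AbCube.locallyQuasiFinite_of_formallyUnramified f.left
    haveI : IsFinite f.left := IsFinite.of_isProper_of_locallyQuasiFinite f.left
    haveI : Surjective f.left := H25AbCube.surjective_of_finite f.left (g := 1) hE₁ hE₂
    haveI : Flat f.left := H19Grp.flat_of_surjective f
    haveI : LocallyOfFinitePresentation f.left := by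
      haveI : IsLocallyNoetherian E₂.left := LocallyOfFiniteType.isLocallyNoetherian E₂.hom
      exact LocallyOfFinitePresentation.iff_locallyOfFiniteType.2 inferInstance
    exact ⟨inferInstance, inferInstance, Etale.of_formallyUnramified_of_flat f.left⟩
  refine hmain _ (H19Grp.formallyUnramified_of_tangent _ fun x hx hxs => ?_)
  -- the second map kills the tangent line
  obtain ⟨x₀, hx₀, hx₀', hx₀1⟩ : ∃ x₀ : H19Grp.TangentPow.sqz k k ⟶ E₁,
      H19Grp.TangentPow.red k k ≫ x₀ = 1 ∧ x₀ ≫ φ' = 1 ∧ x₀ ≠ 1 := by
    by_contra hno
    refine hφ' (hmain φ' (H19Grp.formallyUnramified_of_tangent φ' fun z hz hz' => ?_)).2.2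
    by_contra hz1
    exact hno ⟨z, hz, hz', hz1⟩
  obtain ⟨c, hc⟩ := H25AbCube.exists_eq_scale hE₁ x₀ x hx₀ hx hx₀1
  have hxφ' : x ≫ φ' = 1 := by rw [hc, Category.assoc, hx₀', MonObj.comp_one]
  refine H25AbCube.eq_one_of_formallyUnramified φ x hx ?_
  rwa [MonObj.comp_mul, hxφ', _root_.mul_one] at hxs

end Groth.Agent.S12627
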