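import Groth.Statements.S1264
import Groth.Agent.H8Norm.FlatMono.Models

set_option autoImplicit false
universe u
open FlatMor

namespace Groth.Agent.S1264

open AlgebraicGeometry CategoryTheory in
/-- Ring form, S = Spec A and X = Spec B affine; affine test schemes, which suffice as both sides are
Zariski sheaves: let B be a finitely presented A-algebra, N a finitely presented B-module which is
pure relative to Spec A, and n a natural number. Then there is a monomorphism of schemes Z → Spec A,
locally of finite presentation, quasi-compact and quasi-separated, such that for every A-algebra A'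
with base changes B', N' (any models): N' is flat over A' in dimensions ≥ n if and only if Spec A' →
Spec A factors through Z. -/
theorem result {A B : Type u} [CommRing A] [CommRing B] [Algebra A B] [Algebra.FinitePresentation A B]
    (N : Type u) [AddCommGroup N] [Module B N] [Module A N] [IsScalarTower A B N] [Module.FinitePresentation B N]
    (hpure : FlatCA.IsPure A B N) (n : ℕ) :
    ∃ (Z : Scheme.{u}) (i : Z ⟶ Spec (CommRingCat.of A)), Mono i ∧ LocallyOfFinitePresentation i ∧ QuasiCompact i ∧ QuasiSeparated i ∧
      ∀ (A' B' N' : Type u) [CommRing A'] [CommRing B'] [Algebra A A'] [Algebra B B'] [Algebra A' B'] [Algebra A B']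
        [IsScalarTower A B B'] [IsScalarTower A A' B'] [Algebra.IsPushout A B A' B']
        [AddCommGroup N'] [Module B' N'] [Module B N'] [IsScalarTower B B' N'] [Module A' N'] [IsScalarTower A' B' N']
        (f : N →ₗ[B] N'), IsBaseChange B' f →
        (FlatCA.FlatInDimGE n A' B' N' ↔
          ∃ g : Spec (CommRingCat.of A') ⟶ Z, g ≫ i = Spec.map (CommRingCat.ofHom (algebraMap A A'))) := by
  exact H8Norm.FlatMono.exists_rep_of_pure N hpure n

end Groth.Agent.S1264
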