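import Groth.Statements.S12658
import Groth.Agent.H3Cyc.ChernOps
-- import your own Groth.Agent.* helpers here

set_option autoImplicit false
universe u
open CategoryTheory CategoryTheory.Limits AlgebraicGeometry
set_option backward.isDefEq.respectTransparency.types false
open Cyc
open Groth.Agent.H3Cyc

namespace Groth.Agent.S12658

/-- Capping with the Chern classes of a finite locally free module E of rank r factors through rational
equivalence: if α ∼_rat α' are k-cycles on X and γ, γ' represent (c_j(E) ∩ α)_j and (c_j(E) ∩ α')_j,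
then γ_j ∼_rat γ'_j in Z_{k-j}(X) for every j = 0, …, r (for α = α' this is the well-definedness of
c_j(E) ∩ α). Setting: (X, δ) with Cyc.IsSetup stands for a scheme locally of finite type over the
base (S, δ) (X locally Noetherian with universally catenary local rings, δ a dimension function); (p
: P → X, O_P(1), q) is the projective bundle of E given by its universal property
(KRR.IsProjBundle), p is proper and δP is the induced dimension function (Cyc.DeltaCompat); a tuple
γ with Cyc.IsChernCap represents (c_0(E) ∩ α, …, c_r(E) ∩ α) through the defining relation Σ_i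
(-1)^i c_1(O_P(1))^i ∩ p^*(γ_{r-i}) ∼_rat 0 on P, and classes are compared up to rational
equivalence of representing cycles. -/
theorem result (X : Scheme.{u}) (δ : X → ℤ) (hX : Cyc.IsSetup X δ) (r : ℕ) (E : X.Modules) (hPE : FlatMod.IsFinLocFreeOfRank r E) (P : Scheme.{u}) (p : P ⟶ X) (O1 : P.Modules) (q : (Scheme.Modules.pullback p).obj E ⟶ O1) (hP : KRR.IsProjBundle p E O1 q) [IsProper p] (δP : P → ℤ) (hPs : Cyc.IsSetup P δP) (hδ : Cyc.DeltaCompat p δP δ) (k : ℤ) (α α' : AlgebraicCycle X ℤ) (hα : α ∈ Cyc.Zk X δ k) (hα' : α' ∈ Cyc.Zk X δ k) (h : Cyc.RatEquiv δ k α α') (γ γ' : Fin (r + 1) → AlgebraicCycle X ℤ) (hγ : Cyc.IsChernCap p δ δP O1 r k α γ) (hγ' : Cyc.IsChernCap p δ δP O1 r k α' γ') (j : Fin (r + 1)) : Cyc.RatEquiv δ (k - ((j : ℕ) : ℤ)) (γ j) (γ' j) := by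
  by_cases hj : j = 0
  · subst hj
    rw [hγ.1, hγ'.1]
    simpa using h
  cases r with
  | zero => exact absurd (Subsingleton.elim (α := Fin 1) j 0) hj
  | succ n =>
    have hB := PBundle.of_isProjBundle hPE hP
    obtain ⟨i, rfl⟩ := Chern.exists_idx j hj
    refine (Chow.cl_eq_iff (hγ.2.1 _) (hγ'.2.1 _)).mp ?_
    rw [Chern.cl_isChernCap hB hX hPs hδ hα hγ i (by rw [Chern.idx_val]; omega) (hγ.2.1 _),
      Chern.cl_isChernCap hB hX hPs hδ hα' hγ' i (by rw [Chern.idx_val]; omega) (hγ'.2.1 _),
      (Chow.cl_eq_iff hα hα').mpr h]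

end Groth.Agent.S12658
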