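import Groth.Statements.S12659
import Groth.Agent.H3Cyc.ChernOps
-- import your own Groth.Agent.* helpers here

set_option autoImplicit false
universe u
open CategoryTheory CategoryTheory.Limits AlgebraicGeometry
set_option backward.isDefEq.respectTransparency.types false
open Cyc
open Groth.Agent.H3Cyc

namespace Groth.Agent.S12659

/-- Chern class caps commute with proper pushforward: for f : X → Y proper, E finite locally free of
rank r on Y and α a k-cycle on X, f_*(c_j(f^*E) ∩ α) = c_j(E) ∩ f_*α in CH_{k-j}(Y). The caps of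
f^*E are taken through the base-changed bundle P' = X ×_Y P (a cartesian square) with O_{P'}(1) the
pullback of O_P(1) and the induced dimension function on P'; f_* is the proper pushforward of
cycles. Setting: (X, δ) with Cyc.IsSetup stands for a scheme locally of finite type over the base
(S, δ) (X locally Noetherian with universally catenary local rings, δ a dimension function); (p : P
→ X, O_P(1), q) is the projective bundle of E given by its universal property (KRR.IsProjBundle), p
is proper and δP is the induced dimension function (Cyc.DeltaCompat); a tuple γ with Cyc.IsChernCap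
represents (c_0(E) ∩ α, …, c_r(E) ∩ α) through the defining relation Σ_i (-1)^i c_1(O_P(1))^i ∩
p^*(γ_{r-i}) ∼_rat 0 on P, and classes are compared up to rational equivalence of representing
cycles. -/
theorem result (X Y : Scheme.{u}) (δX : X → ℤ) (δY : Y → ℤ) (hX : Cyc.IsSetup X δX) (hY : Cyc.IsSetup Y δY) (f : X ⟶ Y) [IsProper f] (hf : Cyc.DeltaCompat f δX δY) (r : ℕ) (E : Y.Modules) (hPE : FlatMod.IsFinLocFreeOfRank r E) (P : Scheme.{u}) (π : P ⟶ Y) (O1 : P.Modules) (q : (Scheme.Modules.pullback π).obj E ⟶ O1) (hP : KRR.IsProjBundle π E O1 q) [IsProper π] (δP : P → ℤ) (hPs : Cyc.IsSetup P δP) (hπ : Cyc.DeltaCompat π δP δY) (P' : Scheme.{u}) (π' : P' ⟶ X) (f' : P' ⟶ P) (hsq : IsPullback f' π' π f) (δP' : P' → ℤ) (hPs' : Cyc.IsSetup P' δP') (hπ' : Cyc.DeltaCompat π' δP' δX) (k : ℤ) (α : AlgebraicCycle X ℤ) (hα : α ∈ Cyc.Zk X δX k) (γ : Fin (r + 1) → AlgebraicCycle X ℤ) (hγ : Cyc.IsChernCap π' δX δP' ((Scheme.Modules.pullback f').obj O1) r k α γ) (γ' : Fin (r + 1) → AlgebraicCycle Y ℤ)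 (hγ' : Cyc.IsChernCap π δY δP O1 r k (AlgebraicCycle.map f δX δY α) γ') (j : Fin (r + 1)) : Cyc.RatEquiv δY (k - ((j : ℕ) : ℤ)) (AlgebraicCycle.map f δX δY (γ j)) (γ' j) := by
  by_cases hj : j = 0
  · subst hj
    rw [hγ.1, hγ'.1]
    exact RatRel.refl _
  cases r with
  | zero => exact absurd (Subsingleton.elim (α := Fin 1) j 0) hj
  | succ n =>
    have hB := PBundle.of_isProjBundle hPE hP
    obtain ⟨i, rfl⟩ := Chern.exists_idx j hj
    have e : k - ((Chern.idx i : ℕ) : ℤ) = k + ((i : ℕ) - (n + 1 : ℕ)) := by rw [Chern.idx_val]; omega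
    refine (Chow.cl_eq_iff (Chow.map_mem f _ (hγ.2.1 _)) (hγ'.2.1 _)).mp ?_
    rw [← Chow.push_cl f hX hY hf _ (γ (Chern.idx i)) (hγ.2.1 _),
      Chern.cl_isChernCap (hB.baseChange hsq) hX hPs' hπ' hα hγ i e (hγ.2.1 _),
      Chern.cl_isChernCap hB hY hPs hπ (Chow.map_mem f α hα) hγ' i e (hγ'.2.1 _),
      map_zsmul, ← Chow.push_cl f hX hY hf k α hα, Chern.op_push hB hX hY hPs hπ f hf hsq hPs' hπ' i e]

end Groth.Agent.S12659
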