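import Groth.Statements.S12660
import Groth.Agent.H3Cyc.ChernOps
-- import your own Groth.Agent.* helpers here

set_option autoImplicit false
universe u
open CategoryTheory CategoryTheory.Limits AlgebraicGeometry
set_option backward.isDefEq.respectTransparency.types false
open Cyc
open Groth.Agent.H3Cyc

namespace Groth.Agent.S12660

/-- Chern class caps commute with flat pullback: for f : X → Y flat of relative dimension c, E finite
locally free of rank r on Y and α a k-cycle on Y, f^*(c_j(E) ∩ α) = c_j(f^*E) ∩ f^*α in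
CH_{k+c-j}(X). Flat pullbacks of cycles are taken coefficientwise (Cyc.pullFun); the caps of f^*E
are taken through the base-changed bundle P' = X ×_Y P (a cartesian square) with O_{P'}(1) the
pullback of O_P(1) and the induced dimension function on P'. (The published statement writes the
same letter for the rank of E and the relative dimension of f; the two are independent here, as in
its proof.) Setting: (X, δ) with Cyc.IsSetup stands for a scheme locally of finite type over the
base (S, δ) (X locally Noetherian with universally catenary local rings, δ a dimension function); (p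
: P → X, O_P(1), q) is the projective bundle of E given by its universal property
(KRR.IsProjBundle), p is proper and δP is the induced dimension function (Cyc.DeltaCompat); a tuple
γ with Cyc.IsChernCap represents (c_0(E) ∩ α, …, c_r(E) ∩ α) through the defining relation Σ_i
(-1)^i c_1(O_P(1))^i ∩ p^*(γ_{r-i}) ∼_rat 0 on P, and classes are compared up to rational
equivalence of representing cycles. -/
theorem result (X Y : Scheme.{u}) (δX : X → ℤ) (δY : Y → ℤ) (hX : Cyc.IsSetup X δX) (hY : Cyc.IsSetup Y δY) (f : X ⟶ Y) [Flat f] [LocallyOfFiniteType f] (c : ℕ) (hc : Cyc.HasRelDim f c) (hf : Cyc.DeltaCompat f δX δY) (r : ℕ) (E : Y.Modules) (hPE : FlatMod.IsFinLocFreeOfRank r E) (P : Scheme.{u}) (π : P ⟶ Y) (O1 : P.Modules) (q : (Scheme.Modules.pullback π).obj E ⟶ O1) (hP : KRR.IsProjBundle π E O1 q) [IsProper π] (δP : P → ℤ) (hPs : Cyc.IsSetup P δP) (hπ : Cyc.DeltaCompat π δP δY) (P' : Scheme.{u}) (π' : P' ⟶ X) (f' : P' ⟶ P) (hsq : IsPullback f' π' π f) (δP' : P' → ℤ) (hPs' : Cyc.IsSetup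 P' δP') (hπ' : Cyc.DeltaCompat π' δP' δX) (k : ℤ) (α : AlgebraicCycle Y ℤ) (hα : α ∈ Cyc.Zk Y δY k) (αX : AlgebraicCycle X ℤ) (hαX : ⇑αX = Cyc.pullFun f δX δY c ⇑α) (γ : Fin (r + 1) → AlgebraicCycle Y ℤ) (hγ : Cyc.IsChernCap π δY δP O1 r k α γ) (γ' : Fin (r + 1) → AlgebraicCycle X ℤ) (hγ' : Cyc.IsChernCap π' δX δP' ((Scheme.Modules.pullback f').obj O1) r (k + c) αX γ') (β : Fin (r + 1) → AlgebraicCycle X ℤ) (hβ : ∀ j, ⇑(β j) = Cyc.pullFun f δX δY c ⇑(γ j)) (j : Fin (r + 1)) : Cyc.RatEquiv δX (k + c - ((j : ℕ) : ℤ)) (β j) (γ' j) := by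
  haveI := hX.1
  haveI := hY.1
  have hc' : FlatRat.MaxDim f δX δY (c : ℤ) := FlatRat.maxDim_of_hasRelDim f hc hf
  by_cases hj : j = 0
  · subst hj
    have e : β 0 = γ' 0 := DFunLike.coe_injective (by rw [hβ, hγ.1, hγ'.1, hαX])
    rw [e]
    exact RatRel.refl _
  cases r with
  | zero => exact absurd (Subsingleton.elim (α := Fin 1) j 0) hj
  | succ n =>
    have hB := PBundle.of_isProjBundle hPE hP
    obtain ⟨i, rfl⟩ := Chern.exists_idx j hj
    haveI : Flat f' := MorphismProperty.of_isPullback (P := @Flat) hsq.flip inferInstance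
    haveI : LocallyOfFiniteType f' := MorphismProperty.of_isPullback (P := @LocallyOfFiniteType) hsq.flip inferInstance
    have hf' : Cyc.DeltaCompat f' δP' δP := BCPush.deltaCompat_cancel f' π hπ
      (by rw [hsq.w]; exact BCPush.deltaCompat_comp π' f hπ' hf)
    have hcc : FlatRat.MaxDim f' δP' δP (c : ℤ) :=
      FlatRat.maxDim_of_hasRelDim f' (hasRelDim_of_isPullback hsq.flip hc) hf'
    obtain ⟨a, haf, hak⟩ := C1Api.exists_pullFun_cycle f hX hY hc' k α hα
    obtain rfl : αX = a := DFunLike.coe_injective (hαX.trans haf.symm)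
    obtain ⟨b, hbf, hbk⟩ := C1Api.exists_pullFun_cycle f hX hY hc' _ (γ (Chern.idx i)) (hγ.2.1 _)
    obtain rfl : β (Chern.idx i) = b := DFunLike.coe_injective ((hβ _).trans hbf.symm)
    rw [show k - ((Chern.idx i : ℕ) : ℤ) + (c : ℤ) = k + c - ((Chern.idx i : ℕ) : ℤ) by ring] at hbk
    refine (Chow.cl_eq_iff hbk (hγ'.2.1 _)).mp ?_
    rw [← Chow.pull_cl f hX hY hc' (show k + c - ((Chern.idx i : ℕ) : ℤ) = k - ((Chern.idx i : ℕ) : ℤ) + c by ring) _
        (hγ.2.1 _) _ hbk hbf,
      Chern.cl_isChernCap hB hY hPs hπ hα hγ i (by rw [Chern.idx_val]; omega) (hγ.2.1 _),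
      Chern.cl_isChernCap (hB.baseChange hsq) hX hPs' hπ' hak hγ' i (by rw [Chern.idx_val]; omega) (hγ'.2.1 _),
      map_zsmul, ← Chow.pull_cl f hX hY hc' rfl α hα αX hak haf,
      Chern.op_pull hB hX hY hPs hπ f hc' hsq hPs' hπ' hcc i (l := k - ((Chern.idx i : ℕ) : ℤ))
        (by rw [Chern.idx_val]; omega) rfl (show k + c - ((Chern.idx i : ℕ) : ℤ) = k - ((Chern.idx i : ℕ) : ℤ) + c by ring)]

end Groth.Agent.S12660
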