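import Groth.Statements.S12661
import Groth.Agent.H3Cyc.GysinTot
import Groth.Agent.H3Cyc.SplitTools
-- import your own Groth.Agent.* helpers here

set_option autoImplicit false
universe u
open CategoryTheory CategoryTheory.Limits AlgebraicGeometry
set_option backward.isDefEq.respectTransparency.types false
open Cyc
open Groth.Agent.H3Cyc

namespace Groth.Agent.S12661

/-- Chern class caps commute with the Gysin map of an effective Cartier divisor: for E finite locally
free of rank r on X, (L, s, i : D → X) with L invertible, s a global section of L and i the closed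
immersion of its zero scheme Z(s) (Cyc.IsZeroSchemeOf), and α ∈ CH_k(X): c_j(E|_D) ∩ i^*α =
i^*(c_j(E) ∩ α) in CH_{k-1-j}(D). The Gysin map i^* : Z_k(X) → CH_{k-1}(D) is computed on
coefficient functions as c_1(L) ∩ - with the rational sections s where s is nonzero and a nonzero
fallback w elsewhere (Cyc.gysinChoice), restricted to the points of D; the caps of E|_D are taken
through P_D = D ×_X P (a cartesian square) with the pullback of O_P(1), D and P_D carrying the
restricted dimension functions. Setting: (X, δ) with Cyc.IsSetup stands for a scheme locally of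
finite type over the base (S, δ) (X locally Noetherian with universally catenary local rings, δ a
dimension function); (p : P → X, O_P(1), q) is the projective bundle of E given by its universal
property (KRR.IsProjBundle), p is proper and δP is the induced dimension function (Cyc.DeltaCompat);
a tuple γ with Cyc.IsChernCap represents (c_0(E) ∩ α, …, c_r(E) ∩ α) through the defining relation
Σ_i (-1)^i c_1(O_P(1))^i ∩ p^*(γ_{r-i}) ∼_rat 0 on P, and classes are compared up to rational
equivalence of representing cycles. -/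
theorem result (X : Scheme.{u}) (δ : X → ℤ) (hX : Cyc.IsSetup X δ) (r : ℕ) (E : X.Modules) (hPE : FlatMod.IsFinLocFreeOfRank r E) (P : Scheme.{u}) (p : P ⟶ X) (O1 : P.Modules) (q : (Scheme.Modules.pullback p).obj E ⟶ O1) (hP : KRR.IsProjBundle p E O1 q) [IsProper p] (δP : P → ℤ) (hPs : Cyc.IsSetup P δP) (hδ : Cyc.DeltaCompat p δP δ) (L : X.Modules) (hL : PicF.IsInvertible L) (s : L.presheaf.obj (Opposite.op ⊤)) (D : Scheme.{u}) (i : D ⟶ X) [IsClosedImmersion i] (hD : Cyc.IsZeroSchemeOf i L s) (PD : Scheme.{u}) (pD : PD ⟶ D) (i' : PD ⟶ P) (hsq : IsPullback i' pD p i) (w : (ξ : X) → Cyc.secFibre L ξ) (hw : ∀ ξ, w ξ ≠ 0) (k : ℤ) (α : AlgebraicCycle X ℤ) (hα : α ∈ Cyc.Zk X δ k) (γ : Fin (r + 1) → AlgebraicCycle X ℤ) (hγ : Cyc.IsChernCap p δ δP O1 r k α γ) (αD : AlgebraicCycle D ℤ) (hαD : ∀ d, αD d = Cyc.c1CapFun δ L ⇑α (Cyc.gysinChoice L s w) (i d)) (γ' : Fin (r + 1) → AlgebraicCycle D ℤ) (hγ' : Cyc.IsChernCap pD (fun d => δ (i d)) (fun y => δP (i' y)) ((Scheme.Modules.pullback i').obj O1) r (k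 - 1) αD γ') (ζ : Fin (r + 1) → AlgebraicCycle D ℤ) (hζ : ∀ j d, ζ j d = Cyc.c1CapFun δ L ⇑(γ j) (Cyc.gysinChoice L s w) (i d)) (j : Fin (r + 1)) : Cyc.RatEquiv (fun d => δ (i d)) (k - 1 - ((j : ℕ) : ℤ)) (ζ j) (γ' j) := by
  classical
  haveI := hX.1
  have hDs := GysinTot.isSetupD hX (i := i)
  haveI := hDs.1
  have mj : γ j ∈ Cyc.Zk X δ (k - ((j : ℕ) : ℤ)) := hγ.2.1 j
  have mj' : γ' j ∈ Cyc.Zk D (fun d => δ (i d)) (k - 1 - ((j : ℕ) : ℤ)) := hγ'.2.1 j
  obtain ⟨c, hcf, hc⟩ := GysinTot.exists_gysin_cycle (s := s) (i := i) hX hL (k - 1 - ((j : ℕ) : ℤ)) (γ j)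
    (by rw [show k - 1 - ((j : ℕ) : ℤ) + 1 = k - ((j : ℕ) : ℤ) by ring]; exact mj) w hw
  have mζ : ζ j ∈ Cyc.Zk D (fun d => δ (i d)) (k - 1 - ((j : ℕ) : ℤ)) := by
    rw [show ζ j = c from DFunLike.ext _ _ fun d => (hζ j d).trans (hcf d).symm]; exact hc
  obtain ⟨c', hcf', hc'⟩ := GysinTot.exists_gysin_cycle (s := s) (i := i) hX hL (k - 1) α
    (by rw [sub_add_cancel]; exact hα) w hw
  have mαD : αD ∈ Cyc.Zk D (fun d => δ (i d)) (k - 1) := by
    rw [show αD = c' from DFunLike.ext _ _ fun d => (hαD d).trans (hcf' d).symm]; exact hc'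
  cases r with
  | zero =>
    obtain rfl : j = 0 := Subsingleton.elim (α := Fin 1) _ _
    have e1 : ζ 0 = γ' 0 := DFunLike.ext _ _ fun d => by rw [hζ 0 d, hγ.1, hγ'.1, hαD d]
    rw [e1]
    exact (Chow.cl_eq_iff mj' mj').mp rfl
  | succ n =>
    obtain ⟨Y, π, d, hT, -, hs⟩ := Tower.exists_split X 1 (fun _ => E) (fun _ => n + 1) fun _ => hPE
    obtain ⟨ls, hls, hlen⟩ := hs 0
    haveI := hT.isProper
    haveI := hT.flat
    obtain ⟨δY, hδY⟩ := SpFun.exists_deltaCompat π δ
    have hY := isSetup_of_locallyOfFiniteType π hX hδY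
    have hd := hT.maxDim hδY
    have hL' := H11Ample.isInvertible_pullback π hL
    have hsqD : IsPullback (pullback.fst π i) (pullback.snd π i) π i := IsPullback.of_hasPullback π i
    have hTD := hT.baseChange hsqD
    haveI := hTD.isProper
    haveI := hTD.flat
    have hYD := GysinTot.isSetupD hY (i := pullback.fst π i)
    have hπD : Cyc.DeltaCompat (pullback.snd π i) (fun z => δY (pullback.fst π i z)) (fun d => δ (i d)) :=
      BCPush.deltaCompat_cancel _ i (Reduction.deltaCompat_immersion i δ) (by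
        rw [← hsqD.w]
        exact BCPush.deltaCompat_comp _ π (Reduction.deltaCompat_immersion (pullback.fst π i) δY) hδY)
    have hdD := hTD.maxDim hπD
    have hBD := (PBundle.of_isProjBundle hPE hP).baseChange hsq
    haveI := hP.epi
    haveI : Epi ((Scheme.Modules.pullback i').map q) := by
      haveI := (Scheme.Modules.pullbackPushforwardAdjunction i').isLeftAdjoint
      infer_instance
    let qD : (Scheme.Modules.pullback pD).obj ((Scheme.Modules.pullback i).obj E) ⟶
        (Scheme.Modules.pullback i').obj O1 :=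
      ((Scheme.Modules.pullbackComp pD i).app E ≪≫ (Scheme.Modules.pullbackCongr hsq.w.symm).app E ≪≫
        ((Scheme.Modules.pullbackComp i' p).app E).symm).hom ≫ (Scheme.Modules.pullback i').map q
    haveI : Epi qD := epi_comp _ _
    have hFD : Filt.Filt ((Scheme.Modules.pullback (pullback.snd π i)).obj ((Scheme.Modules.pullback i).obj E))
        (ls.map (Scheme.Modules.pullback (pullback.fst π i)).obj) :=
      (hls.toFilt.pullback (pullback.fst π i)).of_iso
        ((Scheme.Modules.pullbackComp (pullback.fst π i) π).app E ≪≫ (Scheme.Modules.pullbackCongr hsqD.w).app E ≪≫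
          ((Scheme.Modules.pullbackComp (pullback.snd π i) i).app E).symm)
    haveI : IsClosedImmersion i' := MorphismProperty.of_isPullback (P := @IsClosedImmersion) hsq.flip inferInstance
    have hPD := GysinTot.isSetupD hPs (i := i')
    have hδD : Cyc.DeltaCompat pD (fun d => δP (i' d)) (fun d => δ (i d)) :=
      BCPush.deltaCompat_cancel _ i (Reduction.deltaCompat_immersion i δ) (by
        rw [← hsq.w]
        exact BCPush.deltaCompat_comp _ p (Reduction.deltaCompat_immersion i' δP) hδ)
    have eG : ∀ {q : ℤ} (a : AlgebraicCycle X ℤ) (ha : a ∈ Cyc.Zk X δ q) (b : AlgebraicCycle D ℤ) {q' : ℤ}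
        (hb : b ∈ Cyc.Zk D (fun d => δ (i d)) q') (_ : q' = q - 1)
        (_ : ∀ d, b d = Cyc.c1CapFun δ L ⇑a (Cyc.gysinChoice L s w) (i d)),
        (Pi.single q' (ChowOps.cl b hb) : Tot.T D fun d => δ (i d)) = GysinTot.Gys hX hL hD (Pi.single q (ChowOps.cl a ha)) := by
      intro q a ha b q' hb e hfun
      subst e
      exact (GysinTot.Gys_sg hX hL hD a ha w hw b hb hfun).symm
    refine SplitChern.ratEquiv_of_Pull (hTD.Pull_injective hDs hYD hπD hdD rfl) mζ mj' ?_
    simp only [SplitChern.sg]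
    rw [SplitChern.master_bundle hDs hBD qD hPD hδD mαD hγ' _ hYD hπD hTD.hasRelDim hdD hFD (by simp [hlen]) j rfl mj',
      eG (γ j) mj (ζ j) mζ (by ring) (hζ j), eG α hα αD mαD rfl hαD,
      GysinTot.Gys_Pull hX hL hD π hT.hasRelDim hδY hY hd hL' hdD,
      GysinTot.Gys_Pull hX hL hD π hT.hasRelDim hδY hY hd hL' hdD,
      SplitChern.master hX hPE hP hPs hδ hα hγ π hY hδY hT.hasRelDim hd hls.toFilt hlen j rfl mj,
      GysinTot.Gys_es hY hL' (GysinTot.isZeroScheme_pullSec hL hD π) ls hls.toFilt.invertible]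

end Groth.Agent.S12661
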