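import Groth.Statements.S12662
import Groth.Agent.H3Cyc.ChernOps
import Groth.Agent.S12658
-- import your own Groth.Agent.* helpers here

set_option autoImplicit false
universe u
open CategoryTheory CategoryTheory.Limits AlgebraicGeometry
set_option backward.isDefEq.respectTransparency.types false
open Cyc
open Groth.Agent.H3Cyc

namespace Groth.Agent.S12662

/-- For E, F finite locally free of ranks r, s on X and α ∈ CH_k(X), c_i(E) ∩ c_j(F) ∩ α = c_j(F) ∩
c_i(E) ∩ α in CH_{k-i-j}(X). Both bundles enter through their projective bundles (P, O_P(1)), (Q,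
O_Q(1)); the iterated caps are represented by nested tuples (a tuple for F over the i-th component
of a tuple for E over α, and symmetrically). (The published statement also asserts that c_j(E) is
central in the bivariant ring A^*(X) and commutes with every bivariant class of a morphism X' → X;
only the displayed consequence for two Chern classes is stated here.) Setting: (X, δ) with
Cyc.IsSetup stands for a scheme locally of finite type over the base (S, δ) (X locally Noetherian
with universally catenary local rings, δ a dimension function); (p : P → X, O_P(1), q) is the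
projective bundle of E given by its universal property (KRR.IsProjBundle), p is proper and δP is the
induced dimension function (Cyc.DeltaCompat); a tuple γ with Cyc.IsChernCap represents (c_0(E) ∩ α,
…, c_r(E) ∩ α) through the defining relation Σ_i (-1)^i c_1(O_P(1))^i ∩ p^*(γ_{r-i}) ∼_rat 0 on P,
and classes are compared up to rational equivalence of representing cycles. -/
theorem result (X : Scheme.{u}) (δ : X → ℤ) (hX : Cyc.IsSetup X δ) (r s : ℕ) (E : X.Modules) (hPE : FlatMod.IsFinLocFreeOfRank r E) (P : Scheme.{u}) (p : P ⟶ X) (O1 : P.Modules) (q : (Scheme.Modules.pullback p).obj E ⟶ O1) (hP : KRR.IsProjBundle p E O1 q) [IsProper p] (δP : P → ℤ) (hPs : Cyc.IsSetup P δP) (hδ : Cyc.DeltaCompat p δP δ) (F : X.Modules) (hQE : FlatMod.IsFinLocFreeOfRank s F) (Q : Scheme.{u}) (p' : Q ⟶ X) (O1' : Q.Modules) (q' : (Scheme.Modules.pullback p').obj F ⟶ O1') (hQ : KRR.IsProjBundle p' F O1' q') [IsProper p'] (δQ : Q → ℤ) (hQs : Cyc.IsSetup Q δQ) (hδ' : Cyc.DeltaCompat p' δQ δ) (k : ℤ) (α : AlgebraicCycle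 X ℤ) (hα : α ∈ Cyc.Zk X δ k) (i : Fin (r + 1)) (j : Fin (s + 1)) (γ : Fin (r + 1) → AlgebraicCycle X ℤ) (hγ : Cyc.IsChernCap p δ δP O1 r k α γ) (ε : Fin (s + 1) → AlgebraicCycle X ℤ) (hε : Cyc.IsChernCap p' δ δQ O1' s (k - ((i : ℕ) : ℤ)) (γ i) ε) (φ : Fin (s + 1) → AlgebraicCycle X ℤ) (hφ : Cyc.IsChernCap p' δ δQ O1' s k α φ) (ψ : Fin (r + 1) → AlgebraicCycle X ℤ) (hψ : Cyc.IsChernCap p δ δP O1 r (k - ((j : ℕ) : ℤ)) (φ j) ψ) : Cyc.RatEquiv δ (k - ((i : ℕ) : ℤ) - ((j : ℕ) : ℤ)) (ε j) (ψ i) := by
  by_cases hi : i = 0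
  · subst hi
    rw [hψ.1]
    simp only [Fin.val_zero, Nat.cast_zero, sub_zero] at hε ⊢
    rw [hγ.1] at hε
    exact Groth.Agent.S12658.result X δ hX s F hQE Q p' O1' q' hQ δQ hQs hδ' k α α hα hα (RatRel.refl α) ε φ hε hφ j
  by_cases hj : j = 0
  · subst hj
    rw [hε.1]
    simp only [Fin.val_zero, Nat.cast_zero, sub_zero] at hψ ⊢
    rw [hφ.1] at hψ
    exact Groth.Agent.S12658.result X δ hX r E hPE P p O1 q hP δP hPs hδ k α α hα hα (RatRel.refl α) γ ψ hγ hψ i
  cases r with
  | zero => exact absurd (Subsingleton.elim (α := Fin 1) i 0) hi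
  | succ n =>
    cases s with
    | zero => exact absurd (Subsingleton.elim (α := Fin 1) j 0) hj
    | succ m =>
      have hB := PBundle.of_isProjBundle hPE hP
      have hC := PBundle.of_isProjBundle hQE hQ
      obtain ⟨a, rfl⟩ := Chern.exists_idx i hi
      obtain ⟨b, rfl⟩ := Chern.exists_idx j hj
      have he : ψ (Chern.idx a) ∈ Cyc.Zk X δ (k - ((Chern.idx a : ℕ) : ℤ) - ((Chern.idx b : ℕ) : ℤ)) := by
        have := hψ.2.1 (Chern.idx a)
        rwa [sub_right_comm]
      refine (Chow.cl_eq_iff (hε.2.1 _) he).mp ?_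
      rw [Chern.cl_isChernCap hC hX hQs hδ' (hγ.2.1 _) hε b (by rw [Chern.idx_val, Chern.idx_val]; omega) (hε.2.1 _),
        Chern.cl_isChernCap hB hX hPs hδ (hφ.2.1 _) hψ a (by rw [Chern.idx_val, Chern.idx_val]; omega) he,
        Chern.cl_isChernCap hB hX hPs hδ hα hγ a (by rw [Chern.idx_val]; omega) (hγ.2.1 _),
        Chern.cl_isChernCap hC hX hQs hδ' hα hφ b (by rw [Chern.idx_val]; omega) (hφ.2.1 _),
        map_zsmul, map_zsmul, smul_smul, smul_smul, mul_comm,
        Chern.op_comm hB hC hX hPs hQs hδ hδ' a b]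

end Groth.Agent.S12662
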