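import Groth.Statements.S12663
import Groth.Agent.H3Cyc.SubLine
-- import your own Groth.Agent.* helpers here

set_option autoImplicit false
universe u
open CategoryTheory CategoryTheory.Limits AlgebraicGeometry
set_option backward.isDefEq.respectTransparency.types false
open Cyc
open Groth.Agent.H3Cyc

namespace Groth.Agent.S12663

/-- If E, F are finite locally free of ranks m + 1, m on X sitting in a short exact sequence 0 → O_X → E
→ F → 0, then c_{m+1}(E) = 0 and c_j(E) = c_j(F) for j = 0, …, m, as cap operations: for every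
k-cycle α, c_{m+1}(E) ∩ α ∼_rat 0 and c_j(E) ∩ α ∼_rat c_j(F) ∩ α. Setting: (X, δ) with Cyc.IsSetup
stands for a scheme locally of finite type over the base (S, δ) (X locally Noetherian with
universally catenary local rings, δ a dimension function); (p : P → X, O_P(1), q) is the projective
bundle of E given by its universal property (KRR.IsProjBundle), p is proper and δP is the induced
dimension function (Cyc.DeltaCompat); a tuple γ with Cyc.IsChernCap represents (c_0(E) ∩ α, …,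
c_r(E) ∩ α) through the defining relation Σ_i (-1)^i c_1(O_P(1))^i ∩ p^*(γ_{r-i}) ∼_rat 0 on P, and
classes are compared up to rational equivalence of representing cycles. -/
theorem result (X : Scheme.{u}) (δ : X → ℤ) (hX : Cyc.IsSetup X δ) (m : ℕ) (E : X.Modules) (hPE : FlatMod.IsFinLocFreeOfRank (m + 1) E) (P : Scheme.{u}) (p : P ⟶ X) (O1 : P.Modules) (q : (Scheme.Modules.pullback p).obj E ⟶ O1) (hP : KRR.IsProjBundle p E O1 q) [IsProper p] (δP : P → ℤ) (hPs : Cyc.IsSetup P δP) (hδ : Cyc.DeltaCompat p δP δ) (F : X.Modules) (hQE : FlatMod.IsFinLocFreeOfRank m F) (Q : Scheme.{u}) (p' : Q ⟶ X) (O1' : Q.Modules) (q' : (Scheme.Modules.pullback p').obj F ⟶ O1') (hQ : KRR.IsProjBundle p' F O1' q') [IsProper p'] (δQ : Q → ℤ) (hQs : Cyc.IsSetup Q δQ) (hδ' : Cyc.DeltaCompat p' δQ δ) (a : Coh.structureModule X ⟶ E) (b : E ⟶ F) (hab : a ≫ b = 0) (hex : (ShortComplex.mk a b hab).ShortExact) (k : ℤ) (α : AlgebraicCycle X ℤ) (hα : α ∈ Cyc.Zk X δ k) (γ : Fin (m + 2)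 → AlgebraicCycle X ℤ) (hγ : Cyc.IsChernCap p δ δP O1 (m + 1) k α γ) (γ' : Fin (m + 1) → AlgebraicCycle X ℤ) (hγ' : Cyc.IsChernCap p' δ δQ O1' m k α γ') : Cyc.RatEquivZero δ (k - ((m : ℤ) + 1)) (γ (Fin.last (m + 1))) ∧ ∀ j : Fin (m + 1), Cyc.RatEquiv δ (k - ((j : ℕ) : ℤ)) (γ (Fin.castSucc j)) (γ' j) := by
  classical
  obtain ⟨Y, π, δY, hY, hπ, hprop, hflat, d, hrel, hd, hinj, hs⟩ :=
    SplitChern.exists_setting hX 1 ![F] ![m] (Fin.forall_fin_one.mpr hQE)
  obtain ⟨ls, hls, hlen⟩ := hs 0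
  simp only [Matrix.cons_val_zero] at hls hlen
  have hO : PicF.IsInvertible (Coh.structureModule X) :=
    Groth.Agent.H11Ample.isInvertible_of_gen fun x => ⟨⊤, _, trivial, Groth.Agent.H11Ample.isGen_one ⊤⟩
  have hFE := SplitChern.filt_sub hO hex hQE π hls.toFilt
  set F0 := Tot.Pull π hY hX hd (Pi.single k (ChowOps.cl α hα)) with hF0
  have h0 : Filt.cc hY ((Scheme.Modules.pullback π).obj (Coh.structureModule X)) F0 = 0 := by
    rw [hF0, ← SplitChern.Pull_cc hd hO, SplitChern.cc_structureModule hX]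
    exact map_zero (Tot.Pull π hY hX hd)
  have key : ∀ (i : Fin (m + 2)), Tot.Pull π hY hX hd (SplitChern.sg _ (hγ.2.1 i)) =
      ESym.es (ls.map (Filt.cc hY)) (i : ℕ) F0 := fun i => by
    rw [SplitChern.master hX hPE hP hPs hδ hα hγ π hY hπ hrel hd hFE (by simp [hlen]) i rfl (hγ.2.1 i),
      List.map_append, List.map_singleton]
    rcases Nat.eq_zero_or_pos (i : ℕ) with h | h
    · simp [h]
      rfl
    · obtain ⟨j, hj⟩ : ∃ j, (i : ℕ) = j + 1 := ⟨(i : ℕ) - 1, by omega⟩
      rw [hj, SplitChern.es_concat]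
      show ESym.es (ls.map (Filt.cc hY)) (j + 1) F0 + ESym.es (ls.map (Filt.cc hY)) j (Filt.cc hY _ F0) = _
      rw [h0, map_zero, add_zero]
  refine ⟨?_, fun j => SplitChern.ratEquiv_of_Pull hinj (hγ.2.1 (Fin.castSucc j)) (hγ'.2.1 j) ?_⟩
  · have hl : γ (Fin.last (m + 1)) ∈ Cyc.Zk X δ (k - ((m : ℤ) + 1)) := by
      have := hγ.2.1 (Fin.last (m + 1))
      simpa using this
    refine (Chow.cl_eq_zero_iff hl).mp (Pi.single_injective (k - ((m : ℤ) + 1)) (hinj ?_))
    rw [Pi.single_zero, map_zero]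
    have e := SplitChern.sg_congr hl (hγ.2.1 (Fin.last (m + 1))) (by simp) rfl
    exact (congrArg _ e).trans ((key (Fin.last (m + 1))).trans (by
      rw [ESym.es_eq_zero _ _ (by simp [hlen])]; rfl))
  · exact (key (Fin.castSucc j)).trans (SplitChern.master hX hQE hQ hQs hδ' hα hγ' π hY hπ hrel hd hls.toFilt hlen j rfl
      (hγ'.2.1 j)).symm

end Groth.Agent.S12663
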