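import Groth.Statements.S12664
import Groth.Agent.H3Cyc.SubLine
-- import your own Groth.Agent.* helpers here

set_option autoImplicit false
universe u
open CategoryTheory CategoryTheory.Limits AlgebraicGeometry
set_option backward.isDefEq.respectTransparency.types false
open Cyc
open Groth.Agent.H3Cyc

namespace Groth.Agent.S12664

/-- If 0 → L → E → F → 0 is a short exact sequence on X with L invertible and E, F finite locally free
of ranks m + 1, m, then c(E) = c(L) c(F), that is c_i(E) = c_i(F) + c_1(L) c_{i-1}(F) for i = 1, …,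
m and c_{m+1}(E) = c_1(L) c_m(F), as cap operations on every k-cycle α, with c_1(L) ∩ - computed on
coefficient functions from any nonzero rational sections (Cyc.c1CapFun) applied to the
representatives of c_{i-1}(F) ∩ α. Setting: (X, δ) with Cyc.IsSetup stands for a scheme locally of
finite type over the base (S, δ) (X locally Noetherian with universally catenary local rings, δ a
dimension function); (p : P → X, O_P(1), q) is the projective bundle of E given by its universal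
property (KRR.IsProjBundle), p is proper and δP is the induced dimension function (Cyc.DeltaCompat);
a tuple γ with Cyc.IsChernCap represents (c_0(E) ∩ α, …, c_r(E) ∩ α) through the defining relation
Σ_i (-1)^i c_1(O_P(1))^i ∩ p^*(γ_{r-i}) ∼_rat 0 on P, and classes are compared up to rational
equivalence of representing cycles. -/
theorem result (X : Scheme.{u}) (δ : X → ℤ) (hX : Cyc.IsSetup X δ) (m : ℕ) (E : X.Modules) (hPE : FlatMod.IsFinLocFreeOfRank (m + 1) E) (P : Scheme.{u}) (p : P ⟶ X) (O1 : P.Modules) (q : (Scheme.Modules.pullback p).obj E ⟶ O1) (hP : KRR.IsProjBundle p E O1 q) [IsProper p] (δP : P → ℤ) (hPs : Cyc.IsSetup P δP) (hδ : Cyc.DeltaCompat p δP δ) (F : X.Modules) (hQE : FlatMod.IsFinLocFreeOfRank m F) (Q : Scheme.{u}) (p' : Q ⟶ X) (O1' : Q.Modules) (q' : (Scheme.Modules.pullback p').obj F ⟶ O1') (hQ : KRR.IsProjBundle p' F O1' q') [IsProper p'] (δQ : Q → ℤ) (hQs : Cyc.IsSetup Q δQ) (hδ' : Cyc.DeltaCompat p' δQ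 δ) (L : X.Modules) (hL : PicF.IsInvertible L) (a : L ⟶ E) (b : E ⟶ F) (hab : a ≫ b = 0) (hex : (ShortComplex.mk a b hab).ShortExact) (k : ℤ) (α : AlgebraicCycle X ℤ) (hα : α ∈ Cyc.Zk X δ k) (γ : Fin (m + 2) → AlgebraicCycle X ℤ) (hγ : Cyc.IsChernCap p δ δP O1 (m + 1) k α γ) (γ' : Fin (m + 1) → AlgebraicCycle X ℤ) (hγ' : Cyc.IsChernCap p' δ δQ O1' m k α γ') (t : (ξ : X) → Cyc.secFibre L ξ) (ht : ∀ ξ, t ξ ≠ 0) (ζ : Fin (m + 1) → AlgebraicCycle X ℤ) (hζ : ∀ j, ⇑(ζ j) = Cyc.c1CapFun δ L ⇑(γ' j) t) : (∀ j : Fin m, Cyc.RatEquiv δ (k - ((j : ℕ) : ℤ) - 1) (γ (Fin.succ (Fin.castSucc j))) (γ' (Fin.succ j) + ζ (Fin.castSucc j))) ∧ Cyc.RatEquiv δ (k - (m : ℤ) - 1) (γ (Fin.last (m + 1))) (ζ (Fin.last m)) := by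
  classical
  obtain ⟨Y, π, δY, hY, hπ, hprop, hflat, d, hrel, hd, hinj, hs⟩ :=
    SplitChern.exists_setting hX 1 ![F] ![m] (Fin.forall_fin_one.mpr hQE)
  obtain ⟨ls, hls, hlen⟩ := hs 0
  simp only [Matrix.cons_val_zero] at hls hlen
  have hFE := SplitChern.filt_sub hL hex hQE π hls.toFilt
  set F0 := Tot.Pull π hY hX hd (Pi.single k (ChowOps.cl α hα)) with hF0
  have hζm : ∀ i : Fin (m + 1), ζ i ∈ Cyc.Zk X δ (k - ((i : ℕ) : ℤ) - 1) := fun i =>
    SplitChern.c1Cap_mem hX hL (hγ'.2.1 i) t ht (hζ i)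
  have hγm : ∀ (i : Fin (m + 1)), γ (Fin.succ i) ∈ Cyc.Zk X δ (k - ((i : ℕ) : ℤ) - 1) := fun i => by
    rw [show k - ((i : ℕ) : ℤ) - 1 = k - ((Fin.succ i : ℕ) : ℤ) by rw [Fin.val_succ]; push_cast; ring]
    exact hγ.2.1 _
  have key : ∀ i : Fin (m + 1), Tot.Pull π hY hX hd (SplitChern.sg _ (hγm i)) =
      ESym.es (ls.map (Filt.cc hY)) ((i : ℕ) + 1) F0 + Tot.Pull π hY hX hd (SplitChern.sg _ (hζm i)) := fun i => by
    rw [SplitChern.master hX hPE hP hPs hδ hα hγ π hY hπ hrel hd hFE (by simp [hlen]) (Fin.succ i)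
      (by rw [Fin.val_succ]; push_cast; ring) (hγm i), SplitChern.sg_c1 hX hL (hγ'.2.1 i) (hζm i) t ht (hζ i),
      SplitChern.Pull_cc hd hL, SplitChern.master hX hQE hQ hQs hδ' hα hγ' π hY hπ hrel hd hls.toFilt hlen i rfl,
      List.map_append, List.map_singleton, Fin.val_succ, SplitChern.es_concat]
    refine congrArg (ESym.es (ls.map (Filt.cc hY)) ((i : ℕ) + 1) F0 + ·) ?_
    exact congrArg (fun g : AddMonoid.End (Tot.T Y δY) => g F0) (SplitChern.commute_es (fun x hx => by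
      obtain ⟨N, -, rfl⟩ := List.mem_map.mp hx
      exact Filt.cc_comm hY _ N) (i : ℕ)).symm.eq
  refine ⟨fun j => ?_, ?_⟩
  · have hsucc : γ' (Fin.succ j) ∈ Cyc.Zk X δ (k - ((j : ℕ) : ℤ) - 1) := by
      rw [show k - ((j : ℕ) : ℤ) - 1 = k - ((Fin.succ j : ℕ) : ℤ) by rw [Fin.val_succ]; push_cast; ring]
      exact hγ'.2.1 _
    have hz : ζ (Fin.castSucc j) ∈ Cyc.Zk X δ (k - ((j : ℕ) : ℤ) - 1) := hζm (Fin.castSucc j)
    have hg : γ (Fin.succ (Fin.castSucc j)) ∈ Cyc.Zk X δ (k - ((j : ℕ) : ℤ) - 1) := hγm (Fin.castSucc j)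
    refine SplitChern.ratEquiv_of_Pull hinj hg ((ChowOps.zk X δ _).add_mem hsucc hz) ?_
    rw [SplitChern.sg_add hsucc hz, map_add]
    refine (key (Fin.castSucc j)).trans (congrArg₂ (· + ·) ?_ rfl)
    exact (SplitChern.master hX hQE hQ hQs hδ' hα hγ' π hY hπ hrel hd hls.toFilt hlen (Fin.succ j)
      (by rw [Fin.val_succ]; push_cast; ring) hsucc).symm
  · refine SplitChern.ratEquiv_of_Pull hinj (hγm (Fin.last m)) (hζm (Fin.last m)) ?_
    refine (key (Fin.last m)).trans ?_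
    rw [ESym.es_eq_zero _ _ (by simp [hlen])]
    exact zero_add _

end Groth.Agent.S12664
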