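import Groth.Statements.S12665
import Groth.Agent.H3Cyc.SplitTools
-- import your own Groth.Agent.* helpers here

set_option autoImplicit false
universe u
open CategoryTheory CategoryTheory.Limits AlgebraicGeometry
set_option backward.isDefEq.respectTransparency.types false
open Cyc
open Groth.Agent.H3Cyc

namespace Groth.Agent.S12665

/-- For a short exact sequence 0 → E₁ → E → E₂ → 0 of finite locally free modules of ranks r₁, r₁ + r₂,
r₂ on X, c(E) = c(E₁) c(E₂), that is c_j(E) ∩ α ∼_rat Σ_{a+b=j} c_a(E₁) ∩ (c_b(E₂) ∩ α) for every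
k-cycle α and every j; the inner caps are represented by a tuple for E₂ over α and, for each of its
components, a tuple for E₁ over it. Setting: (X, δ) with Cyc.IsSetup stands for a scheme locally of
finite type over the base (S, δ) (X locally Noetherian with universally catenary local rings, δ a
dimension function); (p : P → X, O_P(1), q) is the projective bundle of E given by its universal
property (KRR.IsProjBundle), p is proper and δP is the induced dimension function (Cyc.DeltaCompat);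
a tuple γ with Cyc.IsChernCap represents (c_0(E) ∩ α, …, c_r(E) ∩ α) through the defining relation
Σ_i (-1)^i c_1(O_P(1))^i ∩ p^*(γ_{r-i}) ∼_rat 0 on P, and classes are compared up to rational
equivalence of representing cycles. -/
theorem result (X : Scheme.{u}) (δ : X → ℤ) (hX : Cyc.IsSetup X δ) (r₁ r₂ : ℕ) (E₁ : X.Modules) (hP₁E : FlatMod.IsFinLocFreeOfRank r₁ E₁) (P₁ : Scheme.{u}) (p₁ : P₁ ⟶ X) (O₁ : P₁.Modules) (q₁ : (Scheme.Modules.pullback p₁).obj E₁ ⟶ O₁) (hP₁ : KRR.IsProjBundle p₁ E₁ O₁ q₁) [IsProper p₁] (δ₁ : P₁ → ℤ) (hP₁s : Cyc.IsSetup P₁ δ₁) (hδ₁ : Cyc.DeltaCompat p₁ δ₁ δ) (E : X.Modules) (hPE : FlatMod.IsFinLocFreeOfRank (r₁ + r₂) E) (P : Scheme.{u}) (p : P ⟶ X) (O1 : P.Modules) (q : (Scheme.Modules.pullback p).obj E ⟶ O1) (hP : KRR.IsProjBundle p E O1 q) [IsProper p] (δP : P → ℤ) (hPs : Cyc.IsSetup P δP) (hδ : Cyc.DeltaCompat p δP δ) (E₂ : X.Modules) (hP₂E : FlatMod.IsFinLocFreeOfRank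 r₂ E₂) (P₂ : Scheme.{u}) (p₂ : P₂ ⟶ X) (O₂ : P₂.Modules) (q₂ : (Scheme.Modules.pullback p₂).obj E₂ ⟶ O₂) (hP₂ : KRR.IsProjBundle p₂ E₂ O₂ q₂) [IsProper p₂] (δ₂ : P₂ → ℤ) (hP₂s : Cyc.IsSetup P₂ δ₂) (hδ₂ : Cyc.DeltaCompat p₂ δ₂ δ) (a : E₁ ⟶ E) (b : E ⟶ E₂) (hab : a ≫ b = 0) (hex : (ShortComplex.mk a b hab).ShortExact) (k : ℤ) (α : AlgebraicCycle X ℤ) (hα : α ∈ Cyc.Zk X δ k) (γ₂ : Fin (r₂ + 1) → AlgebraicCycle X ℤ) (hγ₂ : Cyc.IsChernCap p₂ δ δ₂ O₂ r₂ k α γ₂) (ε : Fin (r₂ + 1) → Fin (r₁ + 1) → AlgebraicCycle X ℤ) (hε : ∀ b : Fin (r₂ + 1), Cyc.IsChernCap p₁ δ δ₁ O₁ r₁ (k - ((b : ℕ) : ℤ)) (γ₂ b) (ε b)) (γ : Fin (r₁ + r₂ + 1) → AlgebraicCycle X ℤ) (hγ : Cyc.IsChernCap p δ δP O1 (r₁ + r₂) k α γ) (j : Fin (r₁ + r₂ + 1)) : Cyc.RatEquiv δ (k - ((j : ℕ) : ℤ)) (γ j) (∑ a : Fin (r₁ + 1), ∑ b : Fin (r₂ + 1), if (a : ℕ) + (b : ℕ) = (j : ℕ) then ε b a else 0) := by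
  classical
  obtain ⟨Y, π, δY, hY, hπ, hprop, hflat, d, hrel, hd, hinj, hs⟩ :=
    SplitChern.exists_setting hX 2 ![E₁, E₂] ![r₁, r₂] (Fin.forall_fin_two.mpr ⟨hP₁E, hP₂E⟩)
  obtain ⟨l₁, hl₁, hlen₁⟩ := hs 0
  obtain ⟨l₂, hl₂, hlen₂⟩ := hs 1
  simp only [Matrix.cons_val_zero, Matrix.cons_val_one] at hl₁ hl₂ hlen₁ hlen₂
  have hF := SplitChern.filt_pull_concat hex hP₂E π hl₁.toFilt hl₂.toFilt
  have hterm : ∀ (a : Fin (r₁ + 1)) (b : Fin (r₂ + 1)),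
      (if (a : ℕ) + (b : ℕ) = (j : ℕ) then ε b a else 0) ∈ Cyc.Zk X δ (k - ((j : ℕ) : ℤ)) := fun a b => by
    split_ifs with h
    · rw [show k - ((j : ℕ) : ℤ) = k - ((b : ℕ) : ℤ) - ((a : ℕ) : ℤ) by omega]
      exact (hε b).2.1 a
    · exact (ChowOps.zk X δ _).zero_mem
  have hrow : ∀ a : Fin (r₁ + 1),
      (∑ b : Fin (r₂ + 1), if (a : ℕ) + (b : ℕ) = (j : ℕ) then ε b a else 0) ∈ Cyc.Zk X δ (k - ((j : ℕ) : ℤ)) :=
    fun a => SplitChern.sum_mem _ fun b _ => hterm a b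
  refine SplitChern.ratEquiv_of_Pull hinj (hγ.2.1 j) (SplitChern.sum_mem _ fun a _ => hrow a) ?_
  rw [SplitChern.master hX hPE hP hPs hδ hα hγ π hY hπ hrel hd hF (by simp [hlen₁, hlen₂, add_comm]) j rfl,
    SplitChern.sg_sum _ hrow, map_sum]
  set F := Tot.Pull π hY hX hd (Pi.single k (ChowOps.cl α hα)) with hFdef
  let A : ℕ → AddMonoid.End (Tot.T Y δY) := ESym.es (l₁.map (Filt.cc hY))
  let B : ℕ → AddMonoid.End (Tot.T Y δY) := ESym.es (l₂.map (Filt.cc hY))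
  have key : ∀ (a : Fin (r₁ + 1)) (b : Fin (r₂ + 1)), Tot.Pull π hY hX hd (SplitChern.sg _ (hterm a b)) =
      if (a : ℕ) + (b : ℕ) = (j : ℕ) then A a (B b F) else 0 := fun a b => by
    by_cases h : (a : ℕ) + (b : ℕ) = (j : ℕ)
    · rw [SplitChern.sg_congr (hterm a b) ((hε b).2.1 a) (by omega) (if_pos h), if_pos h]
      refine (SplitChern.master hX hP₁E hP₁ hP₁s hδ₁ (hγ₂.2.1 b) (hε b) π hY hπ hrel hd hl₁.toFilt hlen₁ a rfl
        ((hε b).2.1 a)).trans ?_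
      rw [SplitChern.master hX hP₂E hP₂ hP₂s hδ₂ hα hγ₂ π hY hπ hrel hd hl₂.toFilt hlen₂ b rfl]
    · rw [SplitChern.sg_congr (hterm a b) (ChowOps.zk X δ _).zero_mem rfl (if_neg h), SplitChern.sg_zero,
        map_zero, if_neg h]
  refine Eq.trans ?_ (Finset.sum_congr rfl fun a _ => by
    rw [SplitChern.sg_sum _ (hterm a), map_sum, Finset.sum_congr rfl fun b _ => key a b]).symm
  rw [SplitChern.sum_fin_fin (r₁ := r₁) (r₂ := r₂) (fun a b => A a (B b F)) (fun a b h => ?_), List.map_append,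
    ESym.es_append]
  · rw [SplitChern.end_sum_apply]
    refine Finset.sum_congr rfl fun p _ => ?_
    exact congrArg (fun g : AddMonoid.End (Tot.T Y δY) => g F) (SplitChern.commute_es_es hY l₂ l₁ p.1 p.2).eq
  · rcases h with h | h
    · show ESym.es (l₁.map (Filt.cc hY)) a _ = 0
      rw [ESym.es_eq_zero _ _ (by simp [hlen₁]; omega)]
      rfl
    · show A a (ESym.es (l₂.map (Filt.cc hY)) b F) = 0
      rw [ESym.es_eq_zero _ _ (by simp [hlen₂]; omega)]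
      exact map_zero (A a)

end Groth.Agent.S12665
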