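import Groth.Statements.S12666
import Groth.Agent.H3Cyc.TensorFilt
-- import your own Groth.Agent.* helpers here

set_option autoImplicit false
universe u
open CategoryTheory CategoryTheory.Limits AlgebraicGeometry
set_option backward.isDefEq.respectTransparency.types false
open Cyc
open Groth.Agent.H3Cyc

namespace Groth.Agent.S12666

/-- For E finite locally free of rank r and L invertible on X, c_i(E ⊗ L) = Σ_{j=0}^{i} C(r-i+j, j)
c_{i-j}(E) c_1(L)^j for i ≤ r, as cap operations on every k-cycle α: c_i(E ⊗ L) ∩ α ∼_rat Σ_j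
C(r-i+j, j) c_1(L)^j ∩ (c_{i-j}(E) ∩ α), where c_1(L)^j ∩ - is the j-fold iterated cap on
coefficient functions with any nonzero rational sections (Cyc.c1PowFun) and E ⊗ L is the tensor
product of O_X-modules (CohB1.tensorMod). Setting: (X, δ) with Cyc.IsSetup stands for a scheme
locally of finite type over the base (S, δ) (X locally Noetherian with universally catenary local
rings, δ a dimension function); (p : P → X, O_P(1), q) is the projective bundle of E given by its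
universal property (KRR.IsProjBundle), p is proper and δP is the induced dimension function
(Cyc.DeltaCompat); a tuple γ with Cyc.IsChernCap represents (c_0(E) ∩ α, …, c_r(E) ∩ α) through the
defining relation Σ_i (-1)^i c_1(O_P(1))^i ∩ p^*(γ_{r-i}) ∼_rat 0 on P, and classes are compared up
to rational equivalence of representing cycles. -/
theorem result (X : Scheme.{u}) (δ : X → ℤ) (hX : Cyc.IsSetup X δ) (r : ℕ) (E : X.Modules) (hPE : FlatMod.IsFinLocFreeOfRank r E) (P : Scheme.{u}) (p : P ⟶ X) (O1 : P.Modules) (q : (Scheme.Modules.pullback p).obj E ⟶ O1) (hP : KRR.IsProjBundle p E O1 q) [IsProper p] (δP : P → ℤ) (hPs : Cyc.IsSetup P δP) (hδ : Cyc.DeltaCompat p δP δ) (L : X.Modules) (hL : PicF.IsInvertible L) (hP'E : FlatMod.IsFinLocFreeOfRank r (CohB1.tensorMod E L)) (P' : Scheme.{u}) (p' : P' ⟶ X) (O1' : P'.Modules) (q' : (Scheme.Modules.pullback p').obj (CohB1.tensorMod E L) ⟶ O1') (hP' : KRR.IsProjBundle p' (CohB1.tensorMod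 E L) O1' q') [IsProper p'] (δP' : P' → ℤ) (hPs' : Cyc.IsSetup P' δP') (hδ' : Cyc.DeltaCompat p' δP' δ) (k : ℤ) (α : AlgebraicCycle X ℤ) (hα : α ∈ Cyc.Zk X δ k) (γ : Fin (r + 1) → AlgebraicCycle X ℤ) (hγ : Cyc.IsChernCap p δ δP O1 r k α γ) (γ' : Fin (r + 1) → AlgebraicCycle X ℤ) (hγ' : Cyc.IsChernCap p' δ δP' O1' r k α γ') (t : ℕ → (ξ : X) → Cyc.secFibre L ξ) (ht : ∀ m ξ, t m ξ ≠ 0) (i : Fin (r + 1)) (ζ : Fin (r + 1) → AlgebraicCycle X ℤ) (hζ : ∀ j : Fin (r + 1), (j : ℕ) ≤ (i : ℕ) → ⇑(ζ j) = Cyc.c1PowFun δ L t j ⇑(γ ⟨(i : ℕ) - (j : ℕ), Nat.lt_of_le_of_lt (Nat.sub_le _ _) i.isLt⟩)) : Cyc.RatEquiv δ (k - ((i : ℕ) : ℤ)) (γ' i) (∑ j : Fin (r + 1), if (j : ℕ) ≤ (i : ℕ) then ((Nat.choose (r - i + j) j : ℕ) : ℤ) • ζ j else 0) := by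
  classical
  obtain ⟨Y, π, δY, hY, hπ, hprop, hflat, d, hrel, hd, hinj, hs⟩ :=
    SplitChern.exists_setting hX 1 ![E] ![r] (Fin.forall_fin_one.mpr hPE)
  obtain ⟨ls, hls, hlen⟩ := hs 0
  simp only [Matrix.cons_val_zero] at hls hlen
  let l := (Scheme.Modules.pullback π).obj L
  have hl : PicF.IsInvertible l := Groth.Agent.H11Ample.isInvertible_pullback π hL
  have hFE : Filt.Filt ((Scheme.Modules.pullback π).obj (CohB1.tensorMod E L)) (ls.map (CohB1.tensorMod l)) :=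
    ((hls.tensor hl).toFilt.of_iso (Groth.Agent.H10Coh.Tw.commIso l ((Scheme.Modules.pullback π).obj E))).of_iso
      (Groth.Agent.S11747.pullTensor π E L).symm
  set F0 := Tot.Pull π hY hX hd (Pi.single k (ChowOps.cl α hα)) with hF0
  have hζm : ∀ j : Fin (r + 1), (j : ℕ) ≤ (i : ℕ) → ζ j ∈ Cyc.Zk X δ (k - ((i : ℕ) : ℤ)) := fun j hj =>
    SplitChern.c1Pow_mem hX hL (j : ℕ) (hγ.2.1 _) (show k - (((i : ℕ) - (j : ℕ) : ℕ) : ℤ) = k - (i : ℕ) + (j : ℕ) by omega)
      t ht (hζ j hj)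
  have hterm : ∀ j : Fin (r + 1),
      (if (j : ℕ) ≤ (i : ℕ) then ((Nat.choose (r - i + j) j : ℕ) : ℤ) • ζ j else 0) ∈ Cyc.Zk X δ (k - ((i : ℕ) : ℤ)) := fun j => by
    split_ifs with h
    · exact (ChowOps.zk X δ _).zsmul_mem (hζm j h) _
    · exact (ChowOps.zk X δ _).zero_mem
  refine SplitChern.ratEquiv_of_Pull hinj (hγ'.2.1 i) (SplitChern.sum_mem _ fun j _ => hterm j) ?_
  have hmap : (ls.map (CohB1.tensorMod l)).map (SplitChern.ccr hY) =
      (ls.map (SplitChern.ccr hY)).map (SplitChern.ccr hY l + ·) := by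
    rw [List.map_map, List.map_map]
    exact List.map_congr_left fun N hN => SplitChern.ccr_tensor hY hl (hls.toFilt.invertible N hN)
  rw [SplitChern.master hX hP'E hP' hPs' hδ' hα hγ' π hY hπ hrel hd hFE (by simp [hlen]) i rfl,
    SplitChern.sg_sum _ hterm, map_sum, ← SplitChern.coe_es, hmap, Groth.Agent.H3Cyc.ESym.es_shift, List.length_map,
    hlen, AddSubmonoidClass.coe_finsetSum, SplitChern.end_sum_apply, ← hF0]
  set g : ℕ → Tot.T Y δY := fun j => (((r + j - (i : ℕ)).choose j : ℕ) : ℤ) •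
    ESym.es (ls.map (Filt.cc hY)) ((i : ℕ) - j) ((Filt.cc hY l ^ j) F0) with hg
  have key : ∀ j : Fin (r + 1), Tot.Pull π hY hX hd (SplitChern.sg _ (hterm j)) =
      if (j : ℕ) ≤ (i : ℕ) then g j else 0 := fun j => by
    have hi := i.2
    by_cases h : (j : ℕ) ≤ (i : ℕ)
    · rw [SplitChern.sg_congr (hterm j) ((ChowOps.zk X δ _).zsmul_mem (hζm j h) _) rfl (if_pos h), if_pos h,
        SplitChern.sg_zsmul (hζm j h), map_zsmul, hg,
        SplitChern.sg_c1pow hX hL (j : ℕ) (hγ.2.1 ⟨(i : ℕ) - (j : ℕ), Nat.lt_of_le_of_lt (Nat.sub_le _ _) i.isLt⟩)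
          (show k - (((i : ℕ) - (j : ℕ) : ℕ) : ℤ) = k - (i : ℕ) + (j : ℕ) by omega) (hζm j h) t ht (hζ j h),
        SplitChern.Pull_cc_pow hY hd hL,
        SplitChern.master hX hPE hP hPs hδ hα hγ π hY hπ hrel hd hls.toFilt hlen
          ⟨(i : ℕ) - (j : ℕ), Nat.lt_of_le_of_lt (Nat.sub_le _ _) i.isLt⟩ rfl, ← hF0]
      show _ = (((r + (j : ℕ) - (i : ℕ)).choose (j : ℕ) : ℕ) : ℤ) • _
      rw [show r + (j : ℕ) - (i : ℕ) = r - (i : ℕ) + (j : ℕ) by omega]
      refine congrArg (((((r - (i : ℕ) + (j : ℕ)).choose (j : ℕ)) : ℕ) : ℤ) • ·) ?_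
      exact congrArg (fun f : AddMonoid.End (Tot.T Y δY) => f F0) (Commute.pow_left (SplitChern.commute_es (fun x hx => by
        obtain ⟨N, -, rfl⟩ := List.mem_map.mp hx
        exact Filt.cc_comm hY l N) _) _).eq
    · rw [SplitChern.sg_congr (hterm j) (ChowOps.zk X δ _).zero_mem rfl (if_neg h), SplitChern.sg_zero, map_zero,
        if_neg h]
  rw [Finset.sum_congr rfl fun j _ => key j, Fin.sum_univ_eq_sum_range (fun j => if j ≤ (i : ℕ) then g j else 0),
    ← Finset.sum_filter]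
  refine Finset.sum_congr ?_ fun j hj => ?_
  · ext j
    simp only [Finset.mem_range, Finset.mem_filter]
    have hi := i.2
    omega
  · rw [hg]
    show ((((r + j - (i : ℕ)).choose j : SplitChern.CC hY) * (Groth.Agent.H3Cyc.ESym.es (ls.map (SplitChern.ccr hY)) ((i : ℕ) - j) *
      SplitChern.ccr hY l ^ j) : SplitChern.CC hY) : AddMonoid.End (Tot.T Y δY)) F0 = _
    rw [Subring.coe_mul, Subring.coe_mul, Subring.coe_natCast, SubmonoidClass.coe_pow, SplitChern.coe_es]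
    refine Eq.trans ?_ (natCast_zsmul _ _).symm
    exact AddMonoid.End.natCast_apply _ _

end Groth.Agent.S12666
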