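import Groth.Statements.S12668
import Groth.Agent.H3Cyc.TensorRoots
-- import your own Groth.Agent.* helpers here

set_option autoImplicit false
universe u
open CategoryTheory CategoryTheory.Limits AlgebraicGeometry
set_option backward.isDefEq.respectTransparency.types false
open Cyc
open Groth.Agent.H3Cyc

namespace Groth.Agent.S12668

/-- For E, F finite locally free of ranks r, s on X, c_1(E ⊗ F) = r c_1(F) + s c_1(E), as cap operations
on every k-cycle α; E ⊗ F is the tensor product of O_X-modules (CohB1.tensorMod), of rank rs, and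
enters through its own projective bundle. Stated for r, s ≥ 1. Setting: (X, δ) with Cyc.IsSetup
stands for a scheme locally of finite type over the base (S, δ) (X locally Noetherian with
universally catenary local rings, δ a dimension function); (p : P → X, O_P(1), q) is the projective
bundle of E given by its universal property (KRR.IsProjBundle), p is proper and δP is the induced
dimension function (Cyc.DeltaCompat); a tuple γ with Cyc.IsChernCap represents (c_0(E) ∩ α, …,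
c_r(E) ∩ α) through the defining relation Σ_i (-1)^i c_1(O_P(1))^i ∩ p^*(γ_{r-i}) ∼_rat 0 on P, and
classes are compared up to rational equivalence of representing cycles. -/
theorem result (X : Scheme.{u}) (δ : X → ℤ) (hX : Cyc.IsSetup X δ) (r s : ℕ) (hr : 1 ≤ r) (hs : 1 ≤ s) (E : X.Modules) (hPE : FlatMod.IsFinLocFreeOfRank r E) (P : Scheme.{u}) (p : P ⟶ X) (O1 : P.Modules) (q : (Scheme.Modules.pullback p).obj E ⟶ O1) (hP : KRR.IsProjBundle p E O1 q) [IsProper p] (δP : P → ℤ) (hPs : Cyc.IsSetup P δP) (hδ : Cyc.DeltaCompat p δP δ) (F : X.Modules) (hQE : FlatMod.IsFinLocFreeOfRank s F) (Q : Scheme.{u}) (p' : Q ⟶ X) (O1' : Q.Modules) (q' : (Scheme.Modules.pullback p').obj F ⟶ O1') (hQ : KRR.IsProjBundle p' F O1' q') [IsProper p'] (δQ : Q → ℤ) (hQs : Cyc.IsSetup Q δQ) (hδ' : Cyc.DeltaCompat p' δQ δ) (hTE : FlatMod.IsFinLocFreeOfRank (r * s) (CohB1.tensorMod E F)) (T : Scheme.{u}) (p'' : T ⟶ X) (O1'' : T.Modules) (q''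 : (Scheme.Modules.pullback p'').obj (CohB1.tensorMod E F) ⟶ O1'') (hT : KRR.IsProjBundle p'' (CohB1.tensorMod E F) O1'' q'') [IsProper p''] (δT : T → ℤ) (hTs : Cyc.IsSetup T δT) (hδ'' : Cyc.DeltaCompat p'' δT δ) (k : ℤ) (α : AlgebraicCycle X ℤ) (hα : α ∈ Cyc.Zk X δ k) (ε : Fin (r + 1) → AlgebraicCycle X ℤ) (hε : Cyc.IsChernCap p δ δP O1 r k α ε) (φ : Fin (s + 1) → AlgebraicCycle X ℤ) (hφ : Cyc.IsChernCap p' δ δQ O1' s k α φ) (τ : Fin (r * s + 1) → AlgebraicCycle X ℤ) (hτ : Cyc.IsChernCap p'' δ δT O1'' (r * s) k α τ) : Cyc.RatEquiv δ (k - 1) (τ ⟨1, Nat.lt_succ_of_le (Nat.mul_pos hr hs)⟩) (((r : ℕ) : ℤ) • φ ⟨1, Nat.lt_succ_of_le hs⟩ + ((s : ℕ) : ℤ) • ε ⟨1, Nat.lt_succ_of_le hr⟩) := by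
  classical
  obtain ⟨Y, π, δY, hY, hπ, hprop, hflat, d, hrel, hd, hinj, hsp⟩ :=
    SplitChern.exists_setting hX 2 ![E, F] ![r, s] (Fin.forall_fin_two.mpr ⟨hPE, hQE⟩)
  obtain ⟨lE, hlE, hlenE⟩ := hsp 0
  obtain ⟨lF, hlF, hlenF⟩ := hsp 1
  simp only [Matrix.cons_val_zero, Matrix.cons_val_one] at hlE hlF hlenE hlenF
  have hFT : Filt.Filt ((Scheme.Modules.pullback π).obj (CohB1.tensorMod E F))
      (lF.flatMap fun N => lE.map (CohB1.tensorMod N)) :=
    (Filt.filt_tensor hlE hlF).of_iso (Groth.Agent.S11747.pullTensor π E F).symm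
  set i1E : Fin (r + 1) := ⟨1, Nat.lt_succ_of_le hr⟩
  set i1F : Fin (s + 1) := ⟨1, Nat.lt_succ_of_le hs⟩
  set i1T : Fin (r * s + 1) := ⟨1, Nat.lt_succ_of_le (Nat.mul_pos hr hs)⟩
  have mE : ε i1E ∈ Cyc.Zk X δ (k - 1) := hε.2.1 i1E
  have mF : φ i1F ∈ Cyc.Zk X δ (k - 1) := hφ.2.1 i1F
  have m1 : ((r : ℕ) : ℤ) • φ i1F ∈ Cyc.Zk X δ (k - 1) := (ChowOps.zk X δ (k - 1)).zsmul_mem mF _
  have m2 : ((s : ℕ) : ℤ) • ε i1E ∈ Cyc.Zk X δ (k - 1) := (ChowOps.zk X δ (k - 1)).zsmul_mem mE _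
  refine SplitChern.ratEquiv_of_Pull hinj (hτ.2.1 i1T) ((ChowOps.zk X δ (k - 1)).add_mem m1 m2) ?_
  rw [SplitChern.sg_add m1 m2, SplitChern.sg_zsmul mF, SplitChern.sg_zsmul mE, map_add, map_zsmul, map_zsmul,
    SplitChern.master hX hQE hQ hQs hδ' hα hφ π hY hπ hrel hd hlF.toFilt hlenF i1F (q' := k - 1) (by simp [i1F]) mF,
    SplitChern.master hX hPE hP hPs hδ hα hε π hY hπ hrel hd hlE.toFilt hlenE i1E (q' := k - 1) (by simp [i1E]) mE,
    SplitChern.master hX hTE hT hTs hδ'' hα hτ π hY hπ hrel hd hFT (by simp [List.length_flatMap, hlenE, hlenF, mul_comm]) i1T (q' := k - 1) (by simp [i1T])]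
  refine (SplitChern.es_one_tensor hY hlE.toFilt.invertible hlF.toFilt.invertible _).trans ?_
  rw [hlenE, hlenF]

end Groth.Agent.S12668
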