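import Groth.Statements.S12669
import Groth.Agent.H3Cyc.TensorRoots
-- import your own Groth.Agent.* helpers here

set_option autoImplicit false
universe u
open CategoryTheory CategoryTheory.Limits AlgebraicGeometry
set_option backward.isDefEq.respectTransparency.types false
open Cyc
open Groth.Agent.H3Cyc

namespace Groth.Agent.S12669

theorem pull_two {X : Scheme.{u}} {δ : X → ℤ} (hX : Cyc.IsSetup X δ) {r : ℕ} {E : X.Modules}
    (hE : FlatMod.IsFinLocFreeOfRank r E) {P : Scheme.{u}} {p : P ⟶ X} {O1 : P.Modules}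
    {q : (Scheme.Modules.pullback p).obj E ⟶ O1} (hP : KRR.IsProjBundle p E O1 q) {δP : P → ℤ}
    (hPs : Cyc.IsSetup P δP) (hδ : Cyc.DeltaCompat p δP δ) {k : ℤ} {α : AlgebraicCycle X ℤ}
    (hα : α ∈ Cyc.Zk X δ k) {γ : Fin (r + 1) → AlgebraicCycle X ℤ} (hγ : Cyc.IsChernCap p δ δP O1 r k α γ)
    {Y : Scheme.{u}} (π : Y ⟶ X) [Flat π] [IsProper π] {δY : Y → ℤ} (hY : Cyc.IsSetup Y δY)
    (hπ : Cyc.DeltaCompat π δY δ) {d : ℕ} (hrel : Cyc.HasRelDim π d) (hd : FlatRat.MaxDim π δY δ (d : ℤ))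
    {ls : List Y.Modules} (hF : Filt.Filt ((Scheme.Modules.pullback π).obj E) ls) (hlen : ls.length = r) :
    ∃ hm : (if h2 : 2 ≤ r then γ ⟨2, Nat.lt_succ_of_le h2⟩ else 0) ∈ Cyc.Zk X δ (k - 2),
      Tot.Pull π hY hX hd (SplitChern.sg _ hm) =
        Groth.Agent.H3Cyc.ESym.es (ls.map (Filt.cc hY)) 2 (Tot.Pull π hY hX hd (Pi.single k (ChowOps.cl α hα))) := by
  by_cases h : 2 ≤ r
  · have hm : γ ⟨2, Nat.lt_succ_of_le h⟩ ∈ Cyc.Zk X δ (k - 2) := hγ.2.1 ⟨2, Nat.lt_succ_of_le h⟩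
    refine ⟨by rw [dif_pos h]; exact hm, ?_⟩
    rw [SplitChern.sg_congr _ hm rfl (dif_pos h)]
    exact SplitChern.master hX hE hP hPs hδ hα hγ π hY hπ hrel hd hF hlen ⟨2, Nat.lt_succ_of_le h⟩ (by simp) hm
  · refine ⟨by rw [dif_neg h]; exact (ChowOps.zk X δ _).zero_mem, ?_⟩
    rw [SplitChern.sg_congr _ (ChowOps.zk X δ _).zero_mem rfl (dif_neg h), SplitChern.sg_zero, map_zero,
      Groth.Agent.H3Cyc.ESym.es_eq_zero _ _ (by simp [hlen]; omega)]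
    rfl

/-- For E, F finite locally free of ranks r, s on X, c_2(E ⊗ F) = r c_2(F) + s c_2(E) + C(r,2) c_1(F)^2
+ (rs - 1) c_1(F) c_1(E) + C(s,2) c_1(E)^2, as cap operations on every k-cycle α; products of
classes are iterated caps represented by nested tuples (a tuple for F, resp. E, over the first
component of a tuple for F; a tuple for E over the first component of a tuple for E), c_2 of a
module of rank < 2 is 0, and E ⊗ F (CohB1.tensorMod, rank rs) enters through its own projective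
bundle. Stated for r, s ≥ 1. Setting: (X, δ) with Cyc.IsSetup stands for a scheme locally of finite
type over the base (S, δ) (X locally Noetherian with universally catenary local rings, δ a dimension
function); (p : P → X, O_P(1), q) is the projective bundle of E given by its universal property
(KRR.IsProjBundle), p is proper and δP is the induced dimension function (Cyc.DeltaCompat); a tuple
γ with Cyc.IsChernCap represents (c_0(E) ∩ α, …, c_r(E) ∩ α) through the defining relation Σ_i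
(-1)^i c_1(O_P(1))^i ∩ p^*(γ_{r-i}) ∼_rat 0 on P, and classes are compared up to rational
equivalence of representing cycles. -/
theorem result (X : Scheme.{u}) (δ : X → ℤ) (hX : Cyc.IsSetup X δ) (r s : ℕ) (hr : 1 ≤ r) (hs : 1 ≤ s) (E : X.Modules) (hPE : FlatMod.IsFinLocFreeOfRank r E) (P : Scheme.{u}) (p : P ⟶ X) (O1 : P.Modules) (q : (Scheme.Modules.pullback p).obj E ⟶ O1) (hP : KRR.IsProjBundle p E O1 q) [IsProper p] (δP : P → ℤ) (hPs : Cyc.IsSetup P δP) (hδ : Cyc.DeltaCompat p δP δ) (F : X.Modules) (hQE : FlatMod.IsFinLocFreeOfRank s F) (Q : Scheme.{u}) (p' : Q ⟶ X) (O1' : Q.Modules) (q' : (Scheme.Modules.pullback p').obj F ⟶ O1') (hQ : KRR.IsProjBundle p' F O1' q') [IsProper p'] (δQ : Q → ℤ) (hQs : Cyc.IsSetup Q δQ) (hδ' : Cyc.DeltaCompat p' δQ δ) (hTE : FlatMod.IsFinLocFreeOfRank (r * s) (CohB1.tensorMod E F)) (T : Scheme.{u}) (p'' : T ⟶ X) (O1'' : T.Modules) (q'' : (Scheme.Modules.pullback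 p'').obj (CohB1.tensorMod E F) ⟶ O1'') (hT : KRR.IsProjBundle p'' (CohB1.tensorMod E F) O1'' q'') [IsProper p''] (δT : T → ℤ) (hTs : Cyc.IsSetup T δT) (hδ'' : Cyc.DeltaCompat p'' δT δ) (k : ℤ) (α : AlgebraicCycle X ℤ) (hα : α ∈ Cyc.Zk X δ k) (ε : Fin (r + 1) → AlgebraicCycle X ℤ) (hε : Cyc.IsChernCap p δ δP O1 r k α ε) (φ : Fin (s + 1) → AlgebraicCycle X ℤ) (hφ : Cyc.IsChernCap p' δ δQ O1' s k α φ) (τ : Fin (r * s + 1) → AlgebraicCycle X ℤ) (hτ : Cyc.IsChernCap p'' δ δT O1'' (r * s) k α τ) (φφ : Fin (s + 1) → AlgebraicCycle X ℤ) (hφφ : Cyc.IsChernCap p' δ δQ O1' s (k - 1) (φ ⟨1, Nat.lt_succ_of_le hs⟩) φφ) (εφ : Fin (r + 1) → AlgebraicCycle X ℤ) (hεφ : Cyc.IsChernCap p δ δP O1 r (k - 1) (φ ⟨1, Nat.lt_succ_of_le hs⟩) εφ) (εε : Fin (r + 1) → AlgebraicCycle X ℤ) (hεε : Cyc.IsChernCap p δ δP O1 r (k - 1) (ε ⟨1, Nat.lt_succ_of_le hr⟩) εε) : Cyc.RatEquiv δ (k - 2) (if h2 : 2 ≤ r *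 s then τ ⟨2, Nat.lt_succ_of_le h2⟩ else 0) (((r : ℕ) : ℤ) • (if h2 : 2 ≤ s then φ ⟨2, Nat.lt_succ_of_le h2⟩ else 0) + ((s : ℕ) : ℤ) • (if h2 : 2 ≤ r then ε ⟨2, Nat.lt_succ_of_le h2⟩ else 0) + ((Nat.choose r 2 : ℕ) : ℤ) • φφ ⟨1, Nat.lt_succ_of_le hs⟩ + (((r * s : ℕ) : ℤ) - 1) • εφ ⟨1, Nat.lt_succ_of_le hr⟩ + ((Nat.choose s 2 : ℕ) : ℤ) • εε ⟨1, Nat.lt_succ_of_le hr⟩) := by
  classical
  obtain ⟨Y, π, δY, hY, hπ, hprop, hflat, d, hrel, hd, hinj, hsp⟩ :=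
    SplitChern.exists_setting hX 2 ![E, F] ![r, s] (Fin.forall_fin_two.mpr ⟨hPE, hQE⟩)
  obtain ⟨lE, hlE, hlenE⟩ := hsp 0
  obtain ⟨lF, hlF, hlenF⟩ := hsp 1
  simp only [Matrix.cons_val_zero, Matrix.cons_val_one] at hlE hlF hlenE hlenF
  have hFT : Filt.Filt ((Scheme.Modules.pullback π).obj (CohB1.tensorMod E F))
      (lF.flatMap fun N => lE.map (CohB1.tensorMod N)) :=
    (Filt.filt_tensor hlE hlF).of_iso (Groth.Agent.S11747.pullTensor π E F).symm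
  have hlenT : (lF.flatMap fun N => lE.map (CohB1.tensorMod N)).length = r * s := by
    simp [List.length_flatMap, hlenE, hlenF, mul_comm]
  set i1E : Fin (r + 1) := ⟨1, Nat.lt_succ_of_le hr⟩
  set i1F : Fin (s + 1) := ⟨1, Nat.lt_succ_of_le hs⟩
  have mE : ε i1E ∈ Cyc.Zk X δ (k - 1) := hε.2.1 i1E
  have mF : φ i1F ∈ Cyc.Zk X δ (k - 1) := hφ.2.1 i1F
  have hk : k - 2 = k - 1 - 1 := by ring
  have mFF : φφ i1F ∈ Cyc.Zk X δ (k - 2) := by rw [hk]; exact hφφ.2.1 i1F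
  have mEF : εφ i1E ∈ Cyc.Zk X δ (k - 2) := by rw [hk]; exact hεφ.2.1 i1E
  have mEE : εε i1E ∈ Cyc.Zk X δ (k - 2) := by rw [hk]; exact hεε.2.1 i1E
  obtain ⟨mT2, eT2⟩ := pull_two hX hTE hT hTs hδ'' hα hτ π hY hπ hrel hd hFT hlenT
  obtain ⟨mF2, eF2⟩ := pull_two hX hQE hQ hQs hδ' hα hφ π hY hπ hrel hd hlF.toFilt hlenF
  obtain ⟨mE2, eE2⟩ := pull_two hX hPE hP hPs hδ hα hε π hY hπ hrel hd hlE.toFilt hlenE
  have Z := ChowOps.zk X δ (k - 2)
  have a1 : ((r : ℕ) : ℤ) • (if h2 : 2 ≤ s then φ ⟨2, Nat.lt_succ_of_le h2⟩ else 0) ∈ Cyc.Zk X δ (k - 2) :=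
    (ChowOps.zk X δ (k - 2)).zsmul_mem mF2 _
  have a2 : ((s : ℕ) : ℤ) • (if h2 : 2 ≤ r then ε ⟨2, Nat.lt_succ_of_le h2⟩ else 0) ∈ Cyc.Zk X δ (k - 2) :=
    (ChowOps.zk X δ (k - 2)).zsmul_mem mE2 _
  have a3 : ((Nat.choose r 2 : ℕ) : ℤ) • φφ i1F ∈ Cyc.Zk X δ (k - 2) := (ChowOps.zk X δ (k - 2)).zsmul_mem mFF _
  have a4 : (((r * s : ℕ) : ℤ) - 1) • εφ i1E ∈ Cyc.Zk X δ (k - 2) := (ChowOps.zk X δ (k - 2)).zsmul_mem mEF _
  have a5 : ((Nat.choose s 2 : ℕ) : ℤ) • εε i1E ∈ Cyc.Zk X δ (k - 2) := (ChowOps.zk X δ (k - 2)).zsmul_mem mEE _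
  have a12 := (ChowOps.zk X δ (k - 2)).add_mem a1 a2
  have a123 := (ChowOps.zk X δ (k - 2)).add_mem a12 a3
  have a1234 := (ChowOps.zk X δ (k - 2)).add_mem a123 a4
  refine SplitChern.ratEquiv_of_Pull hinj mT2 ((ChowOps.zk X δ (k - 2)).add_mem a1234 a5) ?_
  rw [SplitChern.sg_add a1234 a5, SplitChern.sg_add a123 a4, SplitChern.sg_add a12 a3, SplitChern.sg_add a1 a2,
    SplitChern.sg_zsmul mF2, SplitChern.sg_zsmul mE2, SplitChern.sg_zsmul mFF, SplitChern.sg_zsmul mEF,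
    SplitChern.sg_zsmul mEE, map_add, map_add, map_add, map_add, map_zsmul, map_zsmul, map_zsmul, map_zsmul, map_zsmul,
    eT2, eF2, eE2,
    SplitChern.master hX hQE hQ hQs hδ' mF hφφ π hY hπ hrel hd hlF.toFilt hlenF i1F (q' := k - 2) (by simp [i1F, hk]) mFF,
    SplitChern.master hX hQE hQ hQs hδ' hα hφ π hY hπ hrel hd hlF.toFilt hlenF i1F (q' := k - 1) (by simp [i1F]) mF,
    SplitChern.master hX hPE hP hPs hδ mF hεφ π hY hπ hrel hd hlE.toFilt hlenE i1E (q' := k - 2) (by simp [i1E, hk]) mEF,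
    SplitChern.master hX hQE hQ hQs hδ' hα hφ π hY hπ hrel hd hlF.toFilt hlenF i1F (q' := k - 1) (by simp [i1F]) mF,
    SplitChern.master hX hPE hP hPs hδ mE hεε π hY hπ hrel hd hlE.toFilt hlenE i1E (q' := k - 2) (by simp [i1E, hk]) mEE,
    SplitChern.master hX hPE hP hPs hδ hα hε π hY hπ hrel hd hlE.toFilt hlenE i1E (q' := k - 1) (by simp [i1E]) mE]
  refine (SplitChern.es_two_tensor hY hlE.toFilt.invertible hlF.toFilt.invertible _).trans ?_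
  rw [hlenE, hlenF, Nat.cast_mul]

end Groth.Agent.S12669
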