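-- statement FlatMor.GrothFrozen.S1267 (Groth/Statements/S1267.lean; the theorem FlatMor.flat_mod_smaller_ideal_of_flat_on_open);
import Groth.Statements.S1267
import Groth.Agent.H7Flat.FibreCriterion
import Mathlib

set_option autoImplicit false
universe u
open FlatMor

namespace Groth.Agent.S1267
open scoped TensorProduct
set_option backward.isDefEq.respectTransparency false
set_option maxHeartbeats 1000000
set_option synthInstance.maxHeartbeats 400000

/-- Let A be a local ring, I an ideal, U a quasi-compact open subset of Spec A and M an A-module such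
that M/IM is flat over A/I and M_p is flat over A for all p in U. Let I₂ be the kernel of I → Γ(U,
I/I²), that is the set of x ∈ I such that for every p ∈ U some s outside p has s·x ∈ I². Then M/I₂M
is flat over A/I₂. -/
theorem result {A : Type u} [CommRing A] [IsLocalRing A] (I : Ideal A)
    (U : Set (PrimeSpectrum A)) (hU : IsOpen U) (hUc : IsCompact U)
    (M : Type u) [AddCommGroup M] [Module A M]
    [Module.Flat (A ⧸ I) (M ⧸ (I • ⊤ : Submodule A M))]
    (hflat : ∀ p ∈ U, Module.Flat A (LocalizedModule p.asIdeal.primeCompl M))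
    (I₂ : Ideal A) (hI₂ : ∀ x : A, x ∈ I₂ ↔ x ∈ I ∧ ∀ p ∈ U, ∃ s : A, s ∉ p.asIdeal ∧ s * x ∈ I ^ 2) :
    Module.Flat (A ⧸ I₂) (M ⧸ (I₂ • ⊤ : Submodule A M)) := by
  classical
  let S' := A ⧸ I₂
  let J : Ideal S' := I.map (Ideal.Quotient.mk I₂)
  let B := A ⧸ I
  have hsq : I ^ 2 ≤ I₂ := fun x hx => (hI₂ x).mpr ⟨Ideal.pow_le_self two_ne_zero hx,
    fun p _ => ⟨1, fun h => p.isPrime.ne_top ((Ideal.eq_top_iff_one _).mpr h), by rwa [one_mul]⟩⟩
  have hI₂I : I₂ ≤ I := fun x hx => ((hI₂ x).mp hx).1
  have hJI : ∀ (a : A) (j : J), a ∈ I → a • j = 0 := by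
    rintro a ⟨j, hj⟩ ha
    obtain ⟨x, hx, rfl⟩ := (Ideal.mem_map_iff_of_surjective _ Ideal.Quotient.mk_surjective).mp hj
    refine Subtype.ext ?_
    change a • Ideal.Quotient.mk I₂ x = 0
    rw [Algebra.smul_def, Ideal.Quotient.algebraMap_eq, ← map_mul, Ideal.Quotient.eq_zero_iff_mem]
    exact hsq (by rw [sq]; exact Ideal.mul_mem_mul ha hx)
  have htor : Module.IsTorsionBySet A J (I : Set A) := fun j a => hJI a j a.2
  let : Module B J := htor.module
  have : IsScalarTower A B J := htor.isScalarTower
  have hMB : Module.Flat B (B ⊗[A] M) :=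
    Module.Flat.of_linearEquiv ((TensorProduct.quotTensorEquivQuotSMul M I).extendScalarsOfSurjective
      Ideal.Quotient.mk_surjective)
  have hcov : ∀ p : U, ∃ f : A, f ∉ p.1.asIdeal ∧ ((PrimeSpectrum.basicOpen f : TopologicalSpace.Opens _) : Set (PrimeSpectrum A)) ⊆ U := by
    intro p
    obtain ⟨_, ⟨f, rfl⟩, hpf, hfU⟩ :=
      PrimeSpectrum.isTopologicalBasis_basic_opens.exists_subset_of_mem_open p.2 hU
    exact ⟨f, hpf, hfU⟩
  choose f hfp hfU using hcov
  obtain ⟨G, hG⟩ := hUc.elim_finite_subcover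
    (fun p : U => ((PrimeSpectrum.basicOpen (f p) : TopologicalSpace.Opens _) : Set (PrimeSpectrum A)))
    (fun p => (PrimeSpectrum.basicOpen (f p)).isOpen)
    (fun q hq => Set.mem_iUnion.mpr ⟨⟨q, hq⟩, by exact hfp ⟨q, hq⟩⟩)
  let C := (p : G) → Localization.Away (Ideal.Quotient.mk I (f p.1))
  let X := C ⊗[B] J
  let ψ : J →ₗ[B] X := TensorProduct.mk B C J 1
  have hψ : Function.Injective ψ := by
    rw [injective_iff_map_eq_zero]
    intro j hj
    obtain ⟨⟨_, hx⟩⟩ : Nonempty (J) := ⟨j⟩
    obtain ⟨x, hxI, hxj⟩ := (Ideal.mem_map_iff_of_surjective _ Ideal.Quotient.mk_surjective).mp j.2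
    refine Subtype.ext (hxj.symm.trans (Ideal.Quotient.eq_zero_iff_mem.mpr ((hI₂ x).mpr ⟨hxI, ?_⟩)))
    intro p hp
    obtain ⟨g, hgG, hpg⟩ := Set.mem_iUnion₂.mp (hG hp)
    let L := Localization.Away (Ideal.Quotient.mk I (f g))
    let ev : C →ₐ[B] L := Pi.evalAlgHom B (fun p : G => Localization.Away (Ideal.Quotient.mk I (f p.1))) ⟨g, hgG⟩
    have h0 : (1 : L) ⊗ₜ[B] j = 0 := by
      have := congrArg (ev.toLinearMap.rTensor J) hj
      rw [map_zero] at this
      change ev 1 ⊗ₜ[B] j = 0 at this
      rwa [map_one] at this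
    have : IsLocalizedModule (Submonoid.powers (Ideal.Quotient.mk I (f g)))
        (TensorProduct.mk B L J 1) :=
      (isLocalizedModule_iff_isBaseChange _ L _).mpr (TensorProduct.isBaseChange B J L)
    obtain ⟨⟨_, n, rfl⟩, hn⟩ :=
      (IsLocalizedModule.eq_zero_iff (Submonoid.powers (Ideal.Quotient.mk I (f g)))
        (TensorProduct.mk B L J 1)).mp h0
    have hn' : f g ^ n * x ∈ I₂ := by
      rw [← Ideal.Quotient.eq_zero_iff_mem, map_mul, hxj]
      have h1 : Ideal.Quotient.mk I (f g ^ n) • j = 0 := by rw [map_pow]; exact hn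
      have h2 : (f g ^ n) • j = 0 := by rw [← h1]; exact (algebraMap_smul B (f g ^ n) j).symm
      exact (Algebra.smul_def (f g ^ n) (j : S')).symm.trans (congrArg Subtype.val h2)
    obtain ⟨s, hs, hsx⟩ := ((hI₂ _).mp hn').2 p hp
    refine ⟨s * f g ^ n, fun h => ?_, by rwa [mul_assoc]⟩
    exact (p.isPrime.mem_or_mem h).elim hs fun h' => hpg (p.isPrime.mem_of_pow_mem n h')
  have key : ∀ z : J ⊗[A] M, (J.subtype.restrictScalars A).rTensor M z = 0 → z = 0 := by
    intro z hz
    have hloc : ∀ p ∈ U, ∃ s : A, s ∉ p.asIdeal ∧ s • z = 0 := by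
      intro p hp
      let mkp := LocalizedModule.mkLinearMap p.asIdeal.primeCompl M
      have := hflat p hp
      let z' : M ⊗[A] J := TensorProduct.comm A J M z
      have hz' : (J.subtype.restrictScalars A).lTensor M z' = 0 := by
        have : ∀ w, (J.subtype.restrictScalars A).lTensor M (TensorProduct.comm A J M w) =
            TensorProduct.comm A S' M ((J.subtype.restrictScalars A).rTensor M w) := fun w => by
          induction w using TensorProduct.induction_on with
          | zero => simp
          | tmul a b => simp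
          | add a b ha hb => simp only [map_add, ha, hb]
        rw [this, hz, map_zero]
      let θ : M ⊗[A] J →ₗ[A] LocalizedModule p.asIdeal.primeCompl M ⊗[A] J :=
        TensorProduct.AlgebraTensorModule.rTensor A J mkp
      have h0 : θ z' = 0 := by
        apply Module.Flat.lTensor_preserves_injective_linearMap
          (M := LocalizedModule p.asIdeal.primeCompl M) (J.subtype.restrictScalars A)
          Subtype.val_injective
        change (J.subtype.restrictScalars A).lTensor _ (mkp.rTensor J z') = _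
        rw [map_zero, ← LinearMap.comp_apply, LinearMap.lTensor_comp_rTensor,
          ← LinearMap.rTensor_comp_lTensor, LinearMap.comp_apply, hz', map_zero]
      obtain ⟨s, hs⟩ := (IsLocalizedModule.eq_zero_iff p.asIdeal.primeCompl θ).mp h0
      refine ⟨s, s.2, (TensorProduct.comm A J M).injective ?_⟩
      rw [map_smul, map_zero]
      exact hs
    have hpow : ∀ g : G, ∃ n : ℕ, f g.1 ^ n • z = 0 := by
      intro g
      let Z : Ideal A := (Submodule.span A {z}).annihilator
      have : f g.1 ∈ Z.radical := by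
        rw [Ideal.radical_eq_sInf, Ideal.mem_sInf]
        rintro P ⟨hZP, hP⟩
        by_contra hfP
        obtain ⟨s, hs, hsz⟩ := hloc ⟨P, hP⟩ (hfU g.1 hfP)
        exact hs (hZP ((Submodule.mem_annihilator_span_singleton z s).mpr hsz))
      obtain ⟨n, hn⟩ := this
      exact ⟨n, (Submodule.mem_annihilator_span_singleton z _).mp hn⟩
    choose n hn using hpow
    let ψA : J →ₗ[A] X := ψ.restrictScalars A
    let eJ : J ⊗[A] M ≃ₗ[B] J ⊗[B] (B ⊗[A] M) :=
      (TensorProduct.AlgebraTensorModule.cancelBaseChange A B B J M).symm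
    let eX : X ⊗[A] M ≃ₗ[B] X ⊗[B] (B ⊗[A] M) :=
      (TensorProduct.AlgebraTensorModule.cancelBaseChange A B B X M).symm
    have hinj : Function.Injective (ψA.rTensor M) := by
      have hnat : ∀ w, eX (ψA.rTensor M w) = ψ.rTensor (B ⊗[A] M) (eJ w) := by
        intro w
        induction w using TensorProduct.induction_on with
        | zero => simp
        | tmul a m => simp [eX, eJ, ψA]
        | add a b ha hb => simp only [map_add, ha, hb]
      intro a b hab
      apply eJ.injective
      apply Module.Flat.rTensor_preserves_injective_linearMap (M := B ⊗[A] M) ψ hψ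
      rw [← hnat, ← hnat, hab]
    apply hinj
    rw [map_zero]
    set w := ψA.rTensor M z with hw
    have hsum : w = ∑ g : G, (Pi.single g 1 : C) • w := by
      rw [← Finset.sum_smul, Finset.univ_sum_single (fun _ => (1 : _)), show
        (fun g : G => (1 : Localization.Away (Ideal.Quotient.mk I (f g.1)))) = (1 : C) from rfl, one_smul]
    rw [hsum]
    refine Finset.sum_eq_zero fun g _ => ?_
    obtain ⟨c, hc⟩ := ((IsLocalization.Away.algebraMap_isUnit
      (S := Localization.Away (Ideal.Quotient.mk I (f g.1))) (Ideal.Quotient.mk I (f g.1))).pow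
      (n g)).exists_left_inv
    have he : (Pi.single g 1 : C) =
        (Pi.single g c : C) * algebraMap A C (f g.1 ^ n g) := by
      funext q
      by_cases hq : q = g
      · subst hq
        rw [Pi.mul_apply, Pi.single_eq_same, Pi.single_eq_same, Pi.algebraMap_apply,
          IsScalarTower.algebraMap_apply A B, Ideal.Quotient.algebraMap_eq, map_pow, map_pow]
        exact hc.symm
      · rw [Pi.mul_apply, Pi.single_eq_of_ne hq, Pi.single_eq_of_ne hq, zero_mul]
    rw [he, mul_smul, algebraMap_smul, hw, ← map_smul, hn, map_zero, smul_zero]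
  let e : S' ⊗[A] M ≃ₗ[S'] (M ⧸ (I₂ • ⊤ : Submodule A M)) :=
    (TensorProduct.quotTensorEquivQuotSMul M I₂).extendScalarsOfSurjective Ideal.Quotient.mk_surjective
  have : Module.Flat S' (S' ⊗[A] M) := by
    have hJnil : IsNilpotent J := ⟨2, by
      rw [← Ideal.map_pow, Ideal.zero_eq_bot]
      exact eq_bot_iff.mpr ((Ideal.map_mono hsq).trans (Ideal.map_quotient_self I₂).le)⟩
    have hinjJ : Function.Injective (J.subtype.lTensor (S' ⊗[A] M)) := by
      let e1 : (S' ⊗[A] M) ⊗[S'] J ≃ₗ[S'] J ⊗[A] M :=
        TensorProduct.comm S' _ J ≪≫ₗ TensorProduct.AlgebraTensorModule.cancelBaseChange A S' S' J M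
      let e2 : (S' ⊗[A] M) ⊗[S'] S' ≃ₗ[S'] S' ⊗[A] M := TensorProduct.rid S' _
      have hnat : ∀ w, e2 (J.subtype.lTensor _ w) = (J.subtype.restrictScalars A).rTensor M (e1 w) := by
        intro w
        induction w using TensorProduct.induction_on with
        | zero => simp
        | add a b ha hb => simp only [map_add, ha, hb]
        | tmul a j =>
          induction a using TensorProduct.induction_on with
          | zero => simp
          | add a b ha hb => simp only [TensorProduct.add_tmul, map_add, ha, hb]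
          | tmul s m => simp [e1, e2, TensorProduct.smul_tmul', mul_comm]
      rw [injective_iff_map_eq_zero]
      intro w hw
      apply e1.injective
      rw [map_zero]
      exact key _ (by rw [← hnat, hw, map_zero])
    let φ : B →ₐ[A] S' ⧸ J := Ideal.Quotient.liftₐ I (Algebra.ofId A (S' ⧸ J))
      fun x hx => Ideal.Quotient.eq_zero_iff_mem.mpr (Ideal.mem_map_of_mem _ hx)
    let : Algebra B (S' ⧸ J) := φ.toRingHom.toAlgebra
    have : IsScalarTower A B (S' ⧸ J) := IsScalarTower.of_algebraMap_eq fun a => (φ.commutes a).symm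
    have : Module.Flat (S' ⧸ J) ((S' ⧸ J) ⊗[B] (B ⊗[A] M)) := Module.Flat.baseChange B (S' ⧸ J) _
    have : Module.Flat (S' ⧸ J) ((S' ⧸ J) ⊗[S'] (S' ⊗[A] M)) :=
      Module.Flat.of_linearEquiv
        (TensorProduct.AlgebraTensorModule.cancelBaseChange A S' (S' ⧸ J) (S' ⧸ J) M ≪≫ₗ
          (TensorProduct.AlgebraTensorModule.cancelBaseChange A B (S' ⧸ J) (S' ⧸ J) M).symm)
    exact Groth.Agent.H7Flat.flat_of_isNilpotent J hJnil hinjJ
  exact Module.Flat.of_linearEquiv e.symm

end Groth.Agent.S1267
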