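import Groth.Statements.S12670
import Groth.Agent.H3Cyc.DualFilt
import Groth.Agent.H3Cyc.HomPull
-- import your own Groth.Agent.* helpers here

set_option autoImplicit false
set_option backward.isDefEq.respectTransparency.types false
universe u
open CategoryTheory CategoryTheory.Limits AlgebraicGeometry
attribute [local instance] HasDerivedCategory.standard
open Cyc

namespace Groth.Agent.S12670

/-- For E finite locally free of rank r on X with dual E^∨, c_j(E^∨) = (-1)^j c_j(E), as cap operations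
on every k-cycle α. The dual is Hom_{O_X}(E, O_X), the value at O_X of the right adjoint of - ⊗ E
(DCoh.sheafHom, its existence carried as a hypothesis), finite locally free of rank r, and enters
through its own projective bundle. Setting: (X, δ) with Cyc.IsSetup stands for a scheme locally of
finite type over the base (S, δ) (X locally Noetherian with universally catenary local rings, δ a
dimension function); (p : P → X, O_P(1), q) is the projective bundle of E given by its universal
property (KRR.IsProjBundle), p is proper and δP is the induced dimension function (Cyc.DeltaCompat);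
a tuple γ with Cyc.IsChernCap represents (c_0(E) ∩ α, …, c_r(E) ∩ α) through the defining relation
Σ_i (-1)^i c_1(O_P(1))^i ∩ p^*(γ_{r-i}) ∼_rat 0 on P, and classes are compared up to rational
equivalence of representing cycles. -/
theorem result (X : Scheme.{u}) (δ : X → ℤ) (hX : Cyc.IsSetup X δ) (r : ℕ) (E : X.Modules) (hPE : FlatMod.IsFinLocFreeOfRank r E) (P : Scheme.{u}) (p : P ⟶ X) (O1 : P.Modules) (q : (Scheme.Modules.pullback p).obj E ⟶ O1) (hP : KRR.IsProjBundle p E O1 q) [IsProper p] (δP : P → ℤ) (hPs : Cyc.IsSetup P δP) (hδ : Cyc.DeltaCompat p δP δ) [DCoh.HasSheafHom E] (hP'E : FlatMod.IsFinLocFreeOfRank r ((DCoh.sheafHom E).obj (Coh.structureModule X))) (P' : Scheme.{u}) (p' : P' ⟶ X) (O1' : P'.Modules) (q' : (Scheme.Modules.pullback p').obj ((DCoh.sheafHom E).obj (Coh.structureModule X)) ⟶ O1') (hP' : KRR.IsProjBundle p' ((DCoh.sheafHom E).obj (Coh.structureModule X)) O1' q') [IsProper p'] (δP' : P' → ℤ) (hPs' : Cyc.IsSetup P' δP') (hδ' : Cyc.DeltaCompat p' δP'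 δ) (k : ℤ) (α : AlgebraicCycle X ℤ) (hα : α ∈ Cyc.Zk X δ k) (γ : Fin (r + 1) → AlgebraicCycle X ℤ) (hγ : Cyc.IsChernCap p δ δP O1 r k α γ) (γ' : Fin (r + 1) → AlgebraicCycle X ℤ) (hγ' : Cyc.IsChernCap p' δ δP' O1' r k α γ') (j : Fin (r + 1)) : Cyc.RatEquiv δ (k - ((j : ℕ) : ℤ)) (γ' j) ((-1 : ℤ) ^ (j : ℕ) • γ j) := by
  classical
  obtain ⟨Y, π, δY, hY, hπ, hprop, hflat, d, hrel, hd, hinj, hs⟩ :=
    Groth.Agent.H3Cyc.SplitChern.exists_setting hX 1 (fun _ => E) (fun _ => r) fun _ => hPE
  obtain ⟨ls, hls, hlen⟩ := hs 0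
  haveI := hY.1
  have hEf : FlatMod.IsFinLocFree E := Groth.Agent.H22Alg.KPullLam.finLocFree_of_rank hPE
  haveI := (Groth.Agent.H16Derived.KFlat.Stalk.isCoh_of_isFinLocFree hEf).1
  haveI := (Groth.Agent.H16Derived.KFlat.Stalk.isCoh_of_isFinLocFree (Groth.Agent.H8Props.RelPC.isFinLocFree_structure X)).1
  obtain ⟨c, -⟩ := Groth.Agent.H3Cyc.HomPull.exists_pullIso π (G := Coh.structureModule X) hEf
  let e : (Scheme.Modules.pullback π).obj ((DCoh.sheafHom E).obj (Coh.structureModule X)) ≅
      RefHull.dual ((Scheme.Modules.pullback π).obj E) :=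
    (Scheme.Modules.pullback π).mapIso (Groth.Agent.H10Coh.SheafHom.homShIso E _) ≪≫ c ≪≫
      (RefFun.homFunctor _).mapIso (Groth.Agent.H16Derived.KFlat.Stalk.structurePullbackIso π)
  have hF := hls.dual.of_iso e.symm
  have hlm : ((ls.map RefHull.dual).reverse).map (Groth.Agent.H3Cyc.SplitChern.ccr hY) =
      ((ls.map (Groth.Agent.H3Cyc.SplitChern.ccr hY)).map fun x => -x).reverse := by
    rw [List.map_reverse, List.map_map, List.map_map]
    exact congrArg List.reverse (List.map_congr_left fun L hL => Subtype.ext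
      (Groth.Agent.H3Cyc.Filt.cc_dual hY (hls.toFilt.invertible L hL)))
  refine Groth.Agent.H3Cyc.SplitChern.ratEquiv_of_Pull hinj (hγ'.2.1 j)
    ((ChowOps.zk X δ _).zsmul_mem (hγ.2.1 j) _) ?_
  rw [Groth.Agent.H3Cyc.SplitChern.sg_zsmul (hγ.2.1 j), map_zsmul,
    Groth.Agent.H3Cyc.SplitChern.master hX hP'E hP' hPs' hδ' hα hγ' π hY hπ hrel hd hF (by simp [hlen]) j rfl,
    Groth.Agent.H3Cyc.SplitChern.master hX hPE hP hPs hδ hα hγ π hY hπ hrel hd hls.toFilt hlen j rfl,
    ← Groth.Agent.H3Cyc.SplitChern.coe_es, hlm, Groth.Agent.H3Cyc.ESym.es_reverse,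
    Groth.Agent.H3Cyc.ESym.es_neg, ← Groth.Agent.H3Cyc.SplitChern.coe_es]
  rcases neg_one_pow_eq_or (R := ℤ) (j : ℕ) with h | h
  · rw [show ((-1 : Groth.Agent.H3Cyc.SplitChern.CC hY) ^ (j : ℕ)) = 1 by
      have := congrArg (Int.cast : ℤ → Groth.Agent.H3Cyc.SplitChern.CC hY) h; simpa using this, one_mul, h, one_zsmul]
  · rw [show ((-1 : Groth.Agent.H3Cyc.SplitChern.CC hY) ^ (j : ℕ)) = -1 by
      have := congrArg (Int.cast : ℤ → Groth.Agent.H3Cyc.SplitChern.CC hY) h; simpa using this, neg_one_mul, h,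
      neg_one_zsmul]
    rfl


end Groth.Agent.S12670
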