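import Groth.Statements.S12671
import Groth.Agent.H3Cyc.FiltList
-- import your own Groth.Agent.* helpers here

set_option autoImplicit false
universe u
open CategoryTheory CategoryTheory.Limits AlgebraicGeometry
set_option backward.isDefEq.respectTransparency.types false
open Cyc
open Groth.Agent.H3Cyc

namespace Groth.Agent.S12671

/-- Let E be a locally free O_X-module of rank r with a filtration 0 = E_0 ⊂ E_1 ⊂ … ⊂ E_r = E such that
E_i/E_{i-1} ≅ L_i is invertible for i = 1, …, r. Then c(E) = Π_i (1 + c_1(L_i)), that is c_p(E) ∩ α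
∼_rat Σ_{I ⊆ {1,…,r}, |I| = p} (Π_{i ∈ I} c_1(L_i)) ∩ α for every k-cycle α, where the product over
I is the iterated cap applied in increasing order of i on coefficient functions with any nonzero
rational sections (Cyc.c1CapFun); the filtration is given by short exact sequences 0 → E_{i-1} → E_i
→ L_i → 0 with E_0 = 0 and E_r ≅ E. Setting: (X, δ) with Cyc.IsSetup stands for a scheme locally of
finite type over the base (S, δ) (X locally Noetherian with universally catenary local rings, δ a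
dimension function); (p : P → X, O_P(1), q) is the projective bundle of E given by its universal
property (KRR.IsProjBundle), p is proper and δP is the induced dimension function (Cyc.DeltaCompat);
a tuple γ with Cyc.IsChernCap represents (c_0(E) ∩ α, …, c_r(E) ∩ α) through the defining relation
Σ_i (-1)^i c_1(O_P(1))^i ∩ p^*(γ_{r-i}) ∼_rat 0 on P, and classes are compared up to rational
equivalence of representing cycles. -/
theorem result (X : Scheme.{u}) (δ : X → ℤ) (hX : Cyc.IsSetup X δ) (r : ℕ) (E : X.Modules) (hPE : FlatMod.IsFinLocFreeOfRank r E) (P : Scheme.{u}) (p : P ⟶ X) (O1 : P.Modules) (q : (Scheme.Modules.pullback p).obj E ⟶ O1) (hP : KRR.IsProjBundle p E O1 q) [IsProper p] (δP : P → ℤ) (hPs : Cyc.IsSetup P δP) (hδ : Cyc.DeltaCompat p δP δ) (M : Fin (r + 1) → X.Modules) (h0 : IsZero (M 0)) (e : M (Fin.last r) ≅ E) (L : Fin r → X.Modules) (hL : ∀ i, PicF.IsInvertible (L i)) (a : ∀ i : Fin r, M (Fin.castSucc i) ⟶ M (Fin.succ i)) (b : ∀ i : Fin r, M (Fin.succ i) ⟶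 L i) (hab : ∀ i, a i ≫ b i = 0) (hex : ∀ i, (ShortComplex.mk (a i) (b i) (hab i)).ShortExact) (k : ℤ) (α : AlgebraicCycle X ℤ) (hα : α ∈ Cyc.Zk X δ k) (γ : Fin (r + 1) → AlgebraicCycle X ℤ) (hγ : Cyc.IsChernCap p δ δP O1 r k α γ) (t : (i : Fin r) → (ξ : X) → Cyc.secFibre (L i) ξ) (ht : ∀ i ξ, t i ξ ≠ 0) (κ : Finset (Fin r) → AlgebraicCycle X ℤ) (hκ0 : κ ∅ = α) (hκ : ∀ (I : Finset (Fin r)) (i : Fin r), (∀ i' ∈ I, i' < i) → ⇑(κ (insert i I)) = Cyc.c1CapFun δ (L i) ⇑(κ I) (t i)) (n : Fin (r + 1)) : Cyc.RatEquiv δ (k - ((n : ℕ) : ℤ)) (γ n) (∑ I ∈ Finset.powersetCard n Finset.univ, κ I) := by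
  classical
  haveI := hX.1
  cases r with
  | zero =>
    obtain rfl : n = 0 := Subsingleton.elim (α := Fin 1) _ _
    simp only [Fin.val_zero, Finset.powersetCard_zero, Finset.sum_singleton, hκ0]
    rw [hγ.1]
    exact RatRel.refl α
  | succ m =>
    have hB : PBundle.Bundle m p O1 := PBundle.of_isProjBundle hPE hP
    haveI := hP.epi
    have hF : Filt.Filt E (List.ofFn L).reverse :=
      (Filt.Filt.of_fin M h0 L hL a b fun i => ⟨hab i, hex i⟩).of_iso e
    have hκm : ∀ I : Finset (Fin (m + 1)), κ I ∈ Cyc.Zk X δ (k - (I.card : ℤ)) := by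
      intro I
      induction I using Finset.induction_on_max with
      | empty => simpa [hκ0] using hα
      | insert i I hI ih =>
        have hc : (insert i I).card = I.card + 1 := Finset.card_insert_of_notMem fun h => lt_irrefl _ (hI i h)
        obtain ⟨c, hcf, hc'⟩ := C1Api.exists_c1Cap_cycle hX.2.2 (hL i) (k - (I.card : ℤ) - 1) (κ I)
          (by rwa [sub_add_cancel]) (t i) (ht i)
        rw [hc, show k - ((I.card + 1 : ℕ) : ℤ) = k - (I.card : ℤ) - 1 by push_cast; ring,
          DFunLike.coe_injective ((hκ I i hI).trans hcf.symm)]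
        exact hc'
    let g : Finset (Fin (m + 1)) → Tot.T X δ := fun I => Pi.single (k - (I.card : ℤ)) (ChowOps.cl (κ I) (hκm I))
    have hg : ∀ (I : Finset (Fin (m + 1))) (i : Fin (m + 1)), (∀ i' ∈ I, i' < i) →
        g (insert i I) = Filt.cc hX (L i) (g I) := by
      intro I i hI
      have hc : (insert i I).card = I.card + 1 := Finset.card_insert_of_notMem fun h => lt_irrefl _ (hI i h)
      have e1 : k - (I.card : ℤ) = k - ((insert i I).card : ℤ) + 1 := by rw [hc]; push_cast; ring
      show Pi.single _ _ = _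
      rw [Filt.cc_eq hX (hL i), Filt.C1_single hX (hL i) e1,
        Chow.c1_cl hX (hL i) e1 (κ I) (hκm I) (t i) (ht i) (κ (insert i I)) (hκm _) (hκ I i hI)]
    have h0' : g ∅ = Pi.single k (ChowOps.cl α hα) := by
      show Pi.single _ _ = _
      rw [Filt.single_cast (show k - ((∅ : Finset (Fin (m + 1))).card : ℤ) = k by simp), Chow.cast_cl,
        Chow.cl_congr _ hα (congrArg _ hκ0)]
    have hmem : ∀ I ∈ Finset.powersetCard n Finset.univ, κ I ∈ Cyc.Zk X δ (k - ((n : ℕ) : ℤ)) := fun I hI => by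
      rw [← (Finset.mem_powersetCard.mp hI).2]
      exact hκm I
    have hsum : (∑ I ∈ Finset.powersetCard n Finset.univ, κ I) ∈ Cyc.Zk X δ (k - ((n : ℕ) : ℤ)) :=
      (ChowOps.zk X δ (k - ((n : ℕ) : ℤ))).sum_mem hmem
    refine (Chow.cl_eq_iff (hγ.2.1 n) hsum).mp ?_
    rw [ChernTot.cl_eq hB hX hPs hδ hα hγ n, ChernTot.cT_eq_es hB hX hPs hδ (q := q) hF (by simp),
      List.map_reverse, List.map_ofFn, ← h0', Function.comp_def, Filt.es_reverse_ofFn _ g hg, Finset.sum_apply]
    have key : ∀ I ∈ Finset.powersetCard (n : ℕ) (Finset.univ : Finset (Fin (m + 1))),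
        g I (k - ((n : ℕ) : ℤ)) = ChowOps.clHom X δ (k - ((n : ℕ) : ℤ))
          (if h : κ I ∈ Cyc.Zk X δ (k - ((n : ℕ) : ℤ)) then ⟨κ I, h⟩ else 0) := fun I hI => by
      rw [dif_pos (hmem I hI)]
      have e2 : k - (I.card : ℤ) = k - ((n : ℕ) : ℤ) := by rw [(Finset.mem_powersetCard.mp hI).2]
      show (Pi.single (k - (I.card : ℤ)) _ : Tot.T X δ) _ = _
      rw [Filt.single_cast e2, Tot.single_apply, Chow.cast_cl]
      rfl
    rw [Finset.sum_congr rfl key, ← map_sum]
    refine congrArg (ChowOps.clHom X δ _) (Subtype.ext ?_)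
    rw [AddSubgroup.val_finsetSum]
    refine Finset.sum_congr rfl fun I hI => ?_
    rw [dif_pos (hmem I hI)]

end Groth.Agent.S12671
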