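import Groth.Statements.S12672
import Groth.Agent.S14508
import Groth.Agent.S7638
import Groth.Agent.H25Euler.Additive
import Groth.Agent.H3Cyc.KIntNum
import Groth.Agent.H3Cyc.PushRat
-- import your own Groth.Agent.* helpers here

set_option backward.isDefEq.respectTransparency.types false

set_option autoImplicit false
universe u
open CategoryTheory CategoryTheory.Limits AlgebraicGeometry
open Cyc
open Groth.Agent.H3Cyc

namespace Groth.Agent.S12672

theorem deg_ratEquiv {K : Type u} [Field K] {X : Scheme.{u}} {p : X ⟶ Spec (CommRingCat.of K)} [IsProper p]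
    {δ : X → ℤ} (hX : Cyc.IsSetup X δ) (hK : Cyc.DeltaCompat p δ (fun _ => 0)) {a b : AlgebraicCycle X ℤ}
    (h : Cyc.RatEquiv δ 0 a b) : ChowOps.deg p δ a = ChowOps.deg p δ b := by
  obtain ⟨ι, ξ, f, hξ, -, -, hsum⟩ :=
    PushRat.ratEquiv_map p hX H26ChowK.isSetup_spec_field hK 0 a b h
  haveI : IsEmpty ι := ⟨fun i => by simpa using hξ i⟩
  have := hsum (IsLocalRing.closedPoint K)
  rw [finsum_of_isEmpty] at this
  replace := sub_eq_zero.mp (show AlgebraicCycle.map p δ (fun _ => (0 : ℤ)) a (IsLocalRing.closedPoint K) -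
    AlgebraicCycle.map p δ (fun _ => (0 : ℤ)) b (IsLocalRing.closedPoint K) = 0 from this)
  exact this

/-- Let X be proper over a field K with dim X ≤ 1 and E a finite locally free O_X-module of constant
rank r. Then deg(E) = deg(c_1(E) ∩ [X]_1), where deg(E) = χ(X, E) - r·χ(X, O_X) (Curv2.deg) and the
right side is the degree (ChowOps.deg, pushforward to the point) of a representative of c_1(E) ∩
[X]_1, [X]_1 being the 1-cycle of X (Cyc.subschemeFun); for r = 0 both sides are 0. Dimension
function: transcendence degree over K. (This is the general constant-rank case; the invertible case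
is a separate result stated with c_1(L) ∩ - of an invertible module.) Setting: (X, δ) with
Cyc.IsSetup stands for a scheme locally of finite type over the base (S, δ) (X locally Noetherian
with universally catenary local rings, δ a dimension function); (p : P → X, O_P(1), q) is the
projective bundle of E given by its universal property (KRR.IsProjBundle), p is proper and δP is the
induced dimension function (Cyc.DeltaCompat); a tuple γ with Cyc.IsChernCap represents (c_0(E) ∩ α,
…, c_r(E) ∩ α) through the defining relation Σ_i (-1)^i c_1(O_P(1))^i ∩ p^*(γ_{r-i}) ∼_rat 0 on P,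
and classes are compared up to rational equivalence of representing cycles. -/
theorem result (K : Type u) [Field K] (X : Scheme.{u}) [X.Over (Spec (CommRingCat.of K))] [IsProper (X ↘ Spec (CommRingCat.of K))] (hdim : topologicalKrullDim X ≤ 1) (δ : X → ℤ) (hX : Cyc.IsSetup X δ) (hK : Cyc.DeltaCompat (X ↘ Spec (CommRingCat.of K)) δ (fun _ => 0)) (r : ℕ) (E : X.Modules) (hPE : FlatMod.IsFinLocFreeOfRank r E) (P : Scheme.{u}) (p : P ⟶ X) (O1 : P.Modules) (q : (Scheme.Modules.pullback p).obj E ⟶ O1) (hP : KRR.IsProjBundle p E O1 q) [IsProper p] (δP : P → ℤ) (hPs : Cyc.IsSetup P δP) (hδ : Cyc.DeltaCompat p δP δ) (α : AlgebraicCycle X ℤ) (hα : ⇑α = Cyc.subschemeFun δ 1 (𝟙 X)) (γ : Fin (r + 1) → AlgebraicCycle X ℤ) (hγ : Cyc.IsChernCap p δ δP O1 r 1 α γ) : Curv2.deg K X E r = (if h : 1 ≤ r then ChowOps.deg (X ↘ Spec (CommRingCat.of K)) δ (γ ⟨1, Nat.lt_succ_of_le h⟩) else 0) := by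
  classical
  haveI := hX.1
  have hEq : Coh.IsQCoh E := H8Props.FinLocFree.isQCoh_of_isFinLocFree _ (H22Alg.KPullLam.finLocFree_of_rank hPE)
  obtain ⟨L, hL⟩ := H22Alg.ExtPowSheaf.exists_isExtPow r hEq
  rw [Groth.Agent.S7638.result K X hdim r E hPE L hL]
  split_ifs with h
  · obtain ⟨r, rfl⟩ : ∃ r', r = r' + 1 := ⟨r - 1, by omega⟩
    have hLi : PicF.IsInvertible L := H17.FLI.isInvertible_of_rank_one (H17.FLI.isInvertible_extPow hPE hL)
    have hαm : α ∈ Cyc.Zk X δ 1 := fun x hx => by rw [hα]; exact if_neg hx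
    obtain ⟨β, hβ, hβm⟩ := C1Api.exists_c1Cap_cycle hX.2.2 hLi 0 α (by simpa using hαm) (Chow.sec hLi)
      (Chow.sec_ne_zero hLi)
    have h14 := Groth.Agent.S14508.result X δ hX E r hPE P p O1 q hP δP hPs hδ 1 α hαm γ hγ L hL (Chow.sec hLi)
      (Chow.sec_ne_zero hLi) β hβ
    have h1 : Cyc.RatEquiv δ 0 (γ 1) β := by simpa using h14
    rw [show (⟨1, Nat.lt_succ_of_le h⟩ : Fin (r + 1 + 1)) = 1 from rfl, deg_ratEquiv hX hK h1,
      KIntNum.deg_cycle hK β hβm, hβ, hα]
    exact KDegree.deg_eq hK hdim L hLi _ (Chow.sec_ne_zero hLi)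
  · obtain rfl : r = 0 := by omega
    obtain ⟨φ⟩ := H22Alg.ExtPowHom.nonempty_iso hL (H22Alg.KExists.isExtPow_zero E)
    rw [Curv2.deg, Nat.cast_one, one_mul]
    rw [Groth.Agent.H25Euler.euler_congr φ, sub_self]

end Groth.Agent.S12672
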