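import Groth.Statements.S12673
import Groth.Agent.H3Cyc.Tower
-- import your own Groth.Agent.* helpers here

set_option autoImplicit false
universe u
open CategoryTheory CategoryTheory.Limits AlgebraicGeometry
set_option backward.isDefEq.respectTransparency.types false
open Cyc
open Groth.Agent.H3Cyc

namespace Groth.Agent.S12673

/-- For finitely many finite locally free O_X-modules E_1, …, E_m of constant ranks r_1, …, r_m there
are a scheme P and a morphism π : P → X that is locally projective, proper, flat and of relative
dimension d, such that (1) for every Y → X locally of finite type the flat pullback π_Y^* : CH_k(Y)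
→ CH_{k+d}(Y ×_X P) is injective, and (2) every pullback π^*E_i admits a chain of submodules 0 = M_0
⊂ M_1 ⊂ … ⊂ M_{r_i} ≅ π^*E_i in which each quotient M_j/M_{j-1} is an invertible O_P-module. Here
local projectivity is RelProj.IsLocallyProjective (every point of X has an open neighbourhood U over
which π^{-1}(U) is U-isomorphic to Proj of a quasi-coherent graded O_U-algebra generated in degree
one with degree-one part of finite type), the relative dimension is Cyc.HasRelDim, the base change
is any cartesian square with the induced dimension functions, injectivity is stated on cycles up to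
rational equivalence, and the chain in (2) is given by short exact sequences 0 → M_{j-1} → M_j → L_j
→ 0 with M_0 = 0, M_{r_i} ≅ π^*E_i and every L_j invertible. (The published statement asserts π
projective; this row asserts π locally projective over X, which is what the printed proof gives over
a base that is not quasi-compact: P is built as a finite tower of projective bundles of finite
locally free modules, and a composite of projective morphisms is projective over a quasi-compact
quasi-separated base, in particular over every affine open of X. The published statement also adds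
that under (1) the restriction map A^*(X) → A^*(P) of bivariant rings is injective; that clause is
not stated here.) Setting: (X, δ) with Cyc.IsSetup stands for a scheme locally of finite type over
the base (S, δ) (X locally Noetherian with universally catenary local rings, δ a dimension
function); (p : P → X, O_P(1), q) is the projective bundle of E given by its universal property
(KRR.IsProjBundle), p is proper and δP is the induced dimension function (Cyc.DeltaCompat); a tuple
γ with Cyc.IsChernCap represents (c_0(E) ∩ α, …, c_r(E) ∩ α) through the defining relation Σ_i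
(-1)^i c_1(O_P(1))^i ∩ p^*(γ_{r-i}) ∼_rat 0 on P, and classes are compared up to rational
equivalence of representing cycles. -/
theorem result (X : Scheme.{u}) (δ : X → ℤ) (hX : Cyc.IsSetup X δ) (m : ℕ) (E : Fin m → X.Modules) (rk : Fin m → ℕ) (hE : ∀ i, FlatMod.IsFinLocFreeOfRank (rk i) (E i)) : ∃ (P : Scheme.{u}) (π : P ⟶ X) (d : ℕ), RelProj.IsLocallyProjective π ∧ IsProper π ∧ Flat π ∧ Cyc.HasRelDim π d ∧ (∀ (Y : Scheme.{u}) (f : Y ⟶ X) [LocallyOfFiniteType f] (δY : Y → ℤ), Cyc.IsSetup Y δY → Cyc.DeltaCompat f δY δ → ∀ (PY : Scheme.{u}) (πY : PY ⟶ Y) (g : PY ⟶ P), IsPullback g πY π f → ∀ (δPY : PY → ℤ), Cyc.IsSetup PY δPY → Cyc.DeltaCompat πY δPY δY → ∀ (k : ℤ) (α : AlgebraicCycle Y ℤ), α ∈ Cyc.Zk Y δY k → ∀ β : AlgebraicCycle PY ℤ, ⇑β = Cyc.pullFun πY δPY δY d ⇑α → Cyc.RatEquivZero δPY (k + d) β → Cyc.RatEquivZero δY k α) ∧ (∀ i : Fin m, ∃ (M : Fin (rk i + 1) → P.Modules) (L : Fin (rk i) → P.Modules) (a : ∀ j : Fin (rk i), M (Fin.castSucc j) ⟶ M (Fin.succ j)) (b : ∀ j : Fin (rk i), M (Fin.succ j) ⟶ L j), IsZero (M 0) ∧ Nonempty (M (Fin.last (rk i)) ≅ (Scheme.Modules.pullback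 π).obj (E i)) ∧ (∀ j, PicF.IsInvertible (L j)) ∧ ∀ j, ∃ h : a j ≫ b j = 0, (ShortComplex.mk (a j) (b j) h).ShortExact) := by
  obtain ⟨P, π, d, hT, hPr, hs⟩ := Tower.exists_split X m E rk hE
  haveI := hT.isProper
  haveI := hT.flat
  refine ⟨P, π, d, hPr.isLocallyProjective, hT.isProper, hT.flat, hT.hasRelDim, ?_, fun i => ?_⟩
  · intro Y f hf δY hY hfδ PY πY g hsq δPY hPY hπY k α hα β hβ h0
    have hT' := hT.baseChange hsq
    haveI := hT'.flat
    haveI := hT'.isProper
    haveI := hY.1
    haveI := hPY.1
    have hr : FlatRat.MaxDim πY δPY δY (d : ℤ) := hT'.maxDim hπY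
    obtain ⟨b, hbf, hb⟩ := C1Api.exists_pullFun_cycle πY hPY hY hr k α hα
    obtain rfl : β = b := DFunLike.coe_injective (hβ.trans hbf.symm)
    have h1 : Chow.pull πY hPY hY hr (rfl : k + (d : ℤ) = k + d) (ChowOps.cl α hα) = 0 := by
      rw [Chow.pull_cl πY hPY hY hr rfl α hα β hb hβ]
      exact (Chow.cl_eq_zero_iff hb).mpr h0
    refine (Chow.cl_eq_zero_iff hα).mp ?_
    have h2 := hT'.Pull_injective hY hPY hπY hr rfl (a₁ := Pi.single k (ChowOps.cl α hα)) (a₂ := 0) ?_
    · exact (Tot.single_apply k _).symm.trans (congrFun h2 k)
    funext l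
    rw [map_zero, Tot.Pull_apply πY hPY hY hr _ (show l = l - (d : ℤ) + d by ring)]
    by_cases hl : l - (d : ℤ) = k
    · obtain rfl : l = k + (d : ℤ) := by omega
      rw [← Tot.apply_cast (Pi.single k (ChowOps.cl α hα) : Tot.T Y δY) hl.symm, Tot.single_apply, Chow.pull_cast]
      exact h1
    · rw [Pi.single_eq_of_ne hl, map_zero]
      rfl
  · obtain ⟨ls, hls, hlen⟩ := hs i
    exact Filt.exists_chain hls hlen

end Groth.Agent.S12673
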