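import Groth.Statements.S12675
import Groth.Agent.H3Cyc.ChernOps
import Groth.Agent.H28RR.NumConnSect
-- import your own Groth.Agent.* helpers here

set_option autoImplicit false
universe u
open CategoryTheory CategoryTheory.Limits AlgebraicGeometry
set_option backward.isDefEq.respectTransparency.types false
open Cyc
open Groth.Agent.H3Cyc

namespace Groth.Agent.S12675

/-- Suppose X is integral of δ-dimension n and L is an O_X-module that is invertible; then L's first
Chern class on X, taken in the sense of the projective-bundle characterisation (rank r = 1), agrees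
with the Weil divisor class c_1(L) ∩ [X] of L (the divisor of a nonzero rational section,
Cyc.c1CapFun on the cycle [X]_n). The projective bundle of L is given abstractly by its universal
property, so the identification P(L) = X, O(1) = L is part of what is asserted. Setting: (X, δ) with
Cyc.IsSetup stands for a scheme locally of finite type over the base (S, δ) (X locally Noetherian
with universally catenary local rings, δ a dimension function); (p : P → X, O_P(1), q) is the
projective bundle of E given by its universal property (KRR.IsProjBundle), p is proper and δP is the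
induced dimension function (Cyc.DeltaCompat); a tuple γ with Cyc.IsChernCap represents (c_0(E) ∩ α,
…, c_r(E) ∩ α) through the defining relation Σ_i (-1)^i c_1(O_P(1))^i ∩ p^*(γ_{r-i}) ∼_rat 0 on P,
and classes are compared up to rational equivalence of representing cycles. -/
theorem result (X : Scheme.{u}) (δ : X → ℤ) (hX : Cyc.IsSetup X δ) [IsIntegral X] (n : ℤ) (hn : δ (genericPoint X) = n) (L : X.Modules) (hL : PicF.IsInvertible L) (hPE : FlatMod.IsFinLocFreeOfRank 1 L) (P : Scheme.{u}) (p : P ⟶ X) (O1 : P.Modules) (q : (Scheme.Modules.pullback p).obj L ⟶ O1) (hP : KRR.IsProjBundle p L O1 q) [IsProper p] (δP : P → ℤ) (hPs : Cyc.IsSetup P δP) (hδ : Cyc.DeltaCompat p δP δ) (α : AlgebraicCycle X ℤ) (hα : ⇑α = Cyc.subschemeFun δ n (𝟙 X)) (γ : Fin 2 → AlgebraicCycle X ℤ) (hγ : Cyc.IsChernCap p δ δP O1 1 n α γ) (s : (ξ : X) → Cyc.secFibre L ξ) (hs : ∀ ξ, s ξ ≠ 0) (β : AlgebraicCycle X ℤ) (hβ : ⇑β = Cyc.c1CapFun δ L ⇑α s) : Cyc.RatEquiv δ (n - 1) (γ 1) β := by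
  have hB : PBundle.Bundle 0 p O1 := PBundle.of_isProjBundle hPE hP
  haveI := hPs.1
  haveI := hP.epi
  haveI := hB.flat
  have hL' : PicF.IsInvertible ((Scheme.Modules.pullback p).obj L) := Groth.Agent.H11Ample.isInvertible_pullback p hL
  haveI : IsIso q := Groth.Agent.H28RR.isIso_of_epi_invertible hL' hB.invertible q
  have hαm : α ∈ Cyc.Zk X δ n := fun x hx => by
    rw [hα]; exact if_neg hx
  have h1 : γ (Chern.idx (0 : Fin 1)) ∈ Cyc.Zk X δ (n - (0 + 1 : ℕ) + ((0 : Fin 1) : ℕ)) := by
    have := hγ.2.1 (Chern.idx (0 : Fin 1))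
    rw [Chern.idx_val] at this
    simpa using this
  have e := Chern.of_isChernCap hB hX hPs hδ hαm hγ 0 h1
  have key : Chern.ch hB hX hPs hδ (n - (0 + 1 : ℕ)) (show n = n - (0 + 1 : ℕ) + (0 + 1 : ℕ) by ring) 0
      (ChowOps.cl α hαm) = Chow.cast (by simp) (Chow.c1 hX hL (k := n - (0 + 1 : ℕ)) (by simp) (ChowOps.cl α hαm)) := by
    refine (congrFun (Chern.eq_sol hB hX hPs hδ (show n = n - (0 + 1 : ℕ) + (0 + 1 : ℕ) by ring) (ChowOps.cl α hαm)
      (fun i => Chow.cast (by have := i.2; omega) (Chow.c1 hX hL (k := n - (0 + 1 : ℕ)) (by simp) (ChowOps.cl α hαm))) ?_) 0).symm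
    rw [PBSpan.Φ_apply, Fin.sum_univ_one]
    show Chow.cast _ (Chow.pull p hPs hX _ _ (Chow.cast _ (Chow.c1 hX hL _ _))) =
      Chow.c1 hPs hB.invertible _ (Chow.cast _ (Chow.pull p hPs hX (PBPush.maxDim hB hδ) _ (ChowOps.cl α hαm)))
    rw [Chow.c1_comp_cast, Chow.c1_congr hPs hB.invertible hL' (asIso q).symm, Chow.pull_cast, Chow.cast_pull,
      Chow.pull_c1 p hPs hX _ hL hL']
  have hβm : β ∈ Cyc.Zk X δ (n - (0 + 1 : ℕ)) := by
    haveI := hX.1
    obtain ⟨b, hbf, hb⟩ := C1Api.exists_c1Cap_cycle hX.2.2 hL (n - 1) α (by rwa [sub_add_cancel]) s hs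
    rw [show n - ((0 + 1 : ℕ) : ℤ) = n - 1 by simp, DFunLike.coe_injective (hβ.trans hbf.symm)]
    exact hb
  rw [key, Chow.c1_cl hX hL _ α hαm s hs β hβm hβ, Chow.cast_cl] at e
  simp only [Fin.val_zero, Nat.cast_zero, add_zero, pow_zero, one_smul] at e
  simp only [Fin.val_zero, Nat.cast_zero, add_zero] at h1
  have h2 := (Chow.cl_eq_iff _ _).mp e
  have h3 : Chern.idx (0 : Fin 1) = 1 := rfl
  rw [h3] at h2
  simpa using h2

end Groth.Agent.S12675
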