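import Groth.Statements.S12679
import Groth.Agent.H11QMap.RelAmpleQ
import Groth.Agent.H11QMap.Compare

set_option autoImplicit false
universe u
open CategoryTheory CategoryTheory.Limits AlgebraicGeometry TopologicalSpace Opposite
open scoped HomogeneousIdeal
noncomputable section
open EGA2

namespace Groth.Agent.S12679

/-- Let f : X → Y be a quasi-compact morphism, L an invertible O_X-module with graded symmetric algebra
𝒮L = ⊕_{n≥0} L^{⊗n} (whose relative Proj PL, given with its charts, is identified with X by its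
structure morphism), 𝒜 a quasi-coherent graded O_Y-algebra given with a graded f-morphism u : 𝒜 →
f_*𝒮L which is bijective on sections over every affine open of Y — so that 𝒜 is the graded algebra
⊕_{n≥0} f_*(L^{⊗n}) and u is adjoint to the canonical σ : f^*𝒜 → ⊕ L^{⊗n} — P = Proj(𝒜) → Y its
relative homogeneous spectrum with its charts, and r = r_{L,σ} : G(σ) → P the induced morphism on
its open of definition G(σ) ⊆ PL. If L is ample relative to f, then r is everywhere defined (G(σ) is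
all of PL) and r is an open immersion with dense image. (The published statement also asserts that
⊕_{n≥0} f_*(L^{⊗n}) is quasi-coherent; this row presupposes it through the datum 𝒜.) -/
theorem result {X Y P PL : Scheme.{u}} (f : X ⟶ Y) [QuasiCompact f]
    (L : X.Modules) (hL : PicF.IsInvertible L) (hLq : Coh.IsQCoh L)
    (𝒮L : RelProj.QCGrAlg X) (jL : L ⟶ 𝒮L.toModule) (hjL : RelProj.IsGrSymAlg L 𝒮L jL)
    (pL : PL ⟶ X) (chartL : ∀ (U : X.Opens) (hU : IsAffineOpen U), (((pL ⁻¹ᵁ U : PL.Opens) : Scheme.{u}) ≅ Proj (𝒮L.deg U hU)))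
    (hPL : RelProj.IsRelProj 𝒮L pL chartL)
    (𝒜 : RelProj.QCGrAlg Y) (u : RelProj.QGrHom f 𝒜 𝒮L)
    (p : P ⟶ Y) (chart : ∀ (U : Y.Opens) (hU : IsAffineOpen U), (((p ⁻¹ᵁ U : P.Opens) : Scheme.{u}) ≅ Proj (𝒜.deg U hU)))
    (hP : RelProj.IsRelProj 𝒜 p chart)
    (r : ((RelProj.domQ u pL chartL : PL.Opens) : Scheme.{u}) ⟶ P)
    (hr : RelProj.IsProjQMapOn u p chart pL chartL (RelProj.domQ u pL chartL) r)
    (hu : ∀ (U : Y.Opens), IsAffineOpen U → Function.Bijective (u.app U).hom)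
    (h : RelAmple.IsRelAmple f L) :
    RelProj.domQ u pL chartL = ⊤ ∧ IsOpenImmersion r ∧ IsDominant r := by
  haveI := H11QMap.isIso_pL hPL hL hLq hjL
  have hloc : ∀ x : X, ∃ (U : Y.Opens) (hU : IsAffineOpen U) (k : ℕ) (_ : 0 < k) (a : 𝒜.presheaf.obj (op U))
      (_ : a ∈ 𝒜.deg U hU k) (hW : IsAffineOpen (H11QMap.LocU.tlocU u U a k)),
      x ∈ H11QMap.LocU.tlocU u U a k ∧ H11QMap.LocU.fracSub u hU hW le_rfl (s := a) (n := k) = ⊤ := by
    intro x
    obtain ⟨⟨U, hU⟩, hxU⟩ := Opens.mem_iSup.1 ((iSup_affineOpens_eq_top Y).ge (Set.mem_univ (f x)))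
    obtain ⟨k, hk, a, hak, hW, hxa, hfr⟩ := H11QMap.exists_tlocU_of_isAmple u hPL hL hLq hjL hU (hu U hU)
      (h.2 ⟨U, hU⟩) hxU
    exact ⟨U, hU, k, hk, a, hak, hW, hxa, hfr⟩
  choose U hU k hk a hak hW hxa hfr using hloc
  have hiso : ∀ x, IsIso (r ∣_ H11QMap.cb chart (U x) (hU x) (a x)) := by
    intro x
    refine (H11QMap.LocU.restrict_cb_iff u (hU x) hPL hL hLq hjL (hk x) hP hr (hak x) (hW x)
      (Q := MorphismProperty.isomorphisms Scheme)).2 ?_
    refine (isIso_SpecMap_iff (f := CommRingCat.ofHom _)).2 ⟨?_, (H11QMap.LocU.surjective_away_map_iff u (hU x) hPL hL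
      hLq hjL (hk x) (hW x) le_rfl (hak x)).2 (hfr x)⟩
    refine (injective_iff_map_eq_zero _).2 fun z hz => ?_
    obtain ⟨m, b, hb, rfl⟩ := HomogeneousLocalization.Away.mk_surjective (𝒜.deg (U x) (hU x)) (hak x) z
    have h1 := (H11QMap.LocU.map_eq_kappa_iff u (hU x) hPL hL hLq hjL (hk x) (hW x) le_rfl (hak x) m b hb 0).1
      (hz.trans (by rw [map_zero, map_zero]))
    rw [map_zero, zero_mul] at h1
    obtain ⟨N, hN⟩ := H11QMap.exists_pow_mul_eq_zero_of_locus u hPL hL hLq hjL (hU x) (hu _ (hU x)).1 (hk x) (hak x) hb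
      h1.symm
    apply HomogeneousLocalization.val_injective
    rw [HomogeneousLocalization.Away.val_mk, HomogeneousLocalization.val_zero, H11Proj.mk_eq_zero_iff_exists_pow]
    exact ⟨N, hN⟩
  have htop : RelProj.domQ u pL chartL = ⊤ := by
    refine eq_top_iff.2 fun z _ => ?_
    obtain ⟨⟨V, hle, hgen⟩, hzV⟩ := Opens.mem_iSup.1 (hxa (pL z))
    exact H11QMap.mem_domQ_of_genOn u chartL hPL hL hLq hjL _ (hU (pL z)) (hk _) _ (hak (pL z)) V hle hgen hzV
  refine ⟨htop, ?_, ?_⟩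
  · obtain ⟨g, hg, hgi⟩ := H11QMap.exists_lift_of_local r (fun x => H11QMap.cb chart (U x) (hU x) (a x)) (fun z => by
      refine ⟨pL ((RelProj.domQ u pL chartL).ι z), ?_⟩
      obtain ⟨⟨V, hle, hgen⟩, hzV⟩ := Opens.mem_iSup.1 (hxa (pL ((RelProj.domQ u pL chartL).ι z)))
      exact (H11QMap.mem_preimage_cb_iff u chart chartL hPL hL hLq hjL hP hr z _ (hU _) (hk _) _ (hak _)).2
        ⟨V, hle, hzV, hgen⟩) (Q := MorphismProperty.isomorphisms Scheme) hiso
    haveI : IsIso g := hgi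
    rw [← hg]
    infer_instance
  · refine (H11QMap.isDominant_iff_cb u chart chartL hP hPL hr).2 fun W hWa d hd b hb hbot => ?_
    obtain ⟨N, hN⟩ := H11QMap.exists_pow_mul_eq_zero_of_locus u hPL hL hLq hjL hWa (hu _ hWa).1 hd hb (k := 0)
      (a := 1) SetLike.GradedOne.one_mem (by
        have he : H11QMap.LocU.tlocU u W b d = ⊥ := by
          refine le_bot_iff.1 (iSup_le fun V y hy => ?_)
          obtain ⟨hle, hgen⟩ := V.2
          obtain ⟨z, rfl⟩ := pL.surjective y
          have h1 := (H11QMap.cb_of_genOn u chartL hPL hL hLq hjL W hWa hd b V.1 hle hgen).ge hy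
          rw [hbot _ V.1.2 hle] at h1
          exact h1.elim
        refine TopCat.Sheaf.eq_of_locally_eq' (⟨𝒮L.presheaf, 𝒮L.isSheaf⟩ : TopCat.Sheaf CommRingCat.{u} X)
          (fun i : PEmpty.{u + 1} => ⊥) _ (fun i => i.elim) (he.le.trans bot_le) _ _ fun i => i.elim)
    exact H11QMap.cb_eq_bot_of_isNilpotent chart W hWa ⟨N, by rw [← mul_one (b ^ N)]; exact hN⟩

end Groth.Agent.S12679
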