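import Groth.Statements.S1268
import Groth.Agent.H7Flat.Chain.ProjectiveNear

set_option autoImplicit false
universe u
open FlatMor

namespace Groth.Agent.S1268

set_option backward.isDefEq.respectTransparency false
set_option maxHeartbeats 2000000
set_option synthInstance.maxHeartbeats 400000

open TensorProduct AlgebraicGeometry in
open H7Flat.Chain H8Props.Devissage in
/-- The statement relative to a fixed model over the etale neighbourhood. -/
theorem final {R R' R'' S S0 : Type u} [CommRing R] [CommRing R'] [CommRing R''] [CommRing S] [CommRing S0]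
    [Algebra R R'] [Algebra R' R''] [Algebra R R''] [IsScalarTower R R' R''] [Algebra R S] [Algebra R S0]
    [Algebra R' S0] [Algebra S S0] [IsScalarTower R R' S0] [IsScalarTower R S S0] [Algebra.IsPushout R R' S S0]
    (a : R') [IsLocalization.Away a R''] (N : Type u) [AddCommGroup N] [Module S N] (b : S0)
    [Module.Projective R'' (R'' ⊗[R'] (Localization.Away b ⊗[S] N))]
    (q : Ideal S) [q.IsPrime] (p' : Ideal R') [p'.IsPrime] (p'' : Ideal R'') [p''.IsPrime] [p''.LiesOver p']
    (ha : a ∉ p') (y : Ideal S0) [y.IsPrime] (hyq : y.comap (algebraMap S S0) = q)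
    (hyp : y.comap (algebraMap R' S0) = p') (hby : b ∉ y)
    (S' N' : Type u) [CommRing S'] [Algebra R S'] [Algebra S S'] [Algebra R'' S'] [IsScalarTower R S S']
    [IsScalarTower R R'' S'] [Algebra.IsPushout R S R'' S']
    [AddCommGroup N'] [Module S' N'] [Module S N'] [IsScalarTower S S' N']
    (f : N →ₗ[S] N') (hf : IsBaseChange S' f) :
    ∃ (C : Type u) (_ : CommRing C) (_ : Algebra S' C) (_ : Algebra R'' C) (_ : IsScalarTower R'' S' C)
      (x' : Ideal C) (_ : x'.IsPrime),
      IsOpenImmersion (Spec.map (CommRingCat.ofHom (algebraMap S' C))) ∧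
      (x'.comap (algebraMap S' C)).LiesOver q ∧ (x'.comap (algebraMap S' C)).LiesOver p'' ∧
      Module.Projective R'' (RestrictScalars R'' C (C ⊗[S'] N')) := by
  letI : Algebra R' S' := ((algebraMap R'' S').comp (algebraMap R' R'')).toAlgebra
  haveI : IsScalarTower R' R'' S' := IsScalarTower.of_algebraMap_eq fun _ => rfl
  haveI : IsScalarTower R R' S' := IsScalarTower.of_algebraMap_eq fun r => by
    rw [IsScalarTower.algebraMap_apply R' R'' S', ← IsScalarTower.algebraMap_apply R R' R'',
      ← IsScalarTower.algebraMap_apply R R'' S']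
  let θ : S0 →ₐ[R] S' := (Algebra.TensorProduct.lift (IsScalarTower.toAlgHom R R' S')
    (IsScalarTower.toAlgHom R S S') fun _ _ => mul_comm _ _).comp
      ((Algebra.IsPushout.equiv R R' S S0).symm.restrictScalars R).toAlgHom
  letI : Algebra S0 S' := θ.toRingHom.toAlgebra
  haveI : IsScalarTower R' S0 S' := IsScalarTower.of_algebraMap_eq fun r => by
    show _ = (Algebra.TensorProduct.lift (IsScalarTower.toAlgHom R R' S') (IsScalarTower.toAlgHom R S S')
      fun _ _ => mul_comm _ _) ((Algebra.IsPushout.equiv R R' S S0).symm (algebraMap R' S0 r))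
    rw [AlgEquiv.commutes, Algebra.TensorProduct.algebraMap_apply, Algebra.TensorProduct.lift_tmul, map_one,
      mul_one]
    rfl
  haveI : IsScalarTower S S0 S' := IsScalarTower.of_algebraMap_eq fun s => by
    show _ = (Algebra.TensorProduct.lift (IsScalarTower.toAlgHom R R' S') (IsScalarTower.toAlgHom R S S')
      fun _ _ => mul_comm _ _) ((Algebra.IsPushout.equiv R R' S S0).symm (algebraMap S S0 s))
    rw [Algebra.IsPushout.equiv_symm_algebraMap_right, Algebra.TensorProduct.lift_tmul, map_one, one_mul]
    rfl
  haveI : Algebra.IsPushout R S R' S0 := Algebra.IsPushout.symm ‹_›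
  haveI : Algebra.IsPushout R R'' S S' := Algebra.IsPushout.symm ‹_›
  haveI : Algebra.IsPushout R' R'' S0 S' :=
    (Algebra.IsPushout.comp_iff (R := R) (S := R') (T := R'') (R' := S) (S' := S0) (T' := S')).mp ‹_›
  haveI : IsLocalization (Algebra.algebraMapSubmonoid S0 (Submonoid.powers a)) S' :=
    (Algebra.isLocalization_iff_isPushout (S := Submonoid.powers a) R'').mpr (Algebra.IsPushout.symm ‹_›)
  haveI : IsLocalization.Away (algebraMap R' S0 a) S' := by
    have h := ‹IsLocalization (Algebra.algebraMapSubmonoid S0 (Submonoid.powers a)) S'›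
    rwa [Algebra.algebraMapSubmonoid, Submonoid.map_powers] at h
  have hay : algebraMap R' S0 a ∉ y := fun h => ha (hyp ▸ h)
  haveI : (y.map (algebraMap S0 S')).IsPrime := isPrime_map_away (algebraMap R' S0 a) y hay
  have hy' : (y.map (algebraMap S0 S')).comap (algebraMap S0 S') = y :=
    (liesOver_map_away (algebraMap R' S0 a) y hay).over.symm
  let y' := y.map (algebraMap S0 S')
  have hby' : algebraMap S0 S' b ∉ y' := fun h => hby (hy' ▸ h)
  let C := Localization.Away (algebraMap S0 S' b)
  haveI : (y'.map (algebraMap S' C)).IsPrime := isPrime_map_away (algebraMap S0 S' b) y' hby'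
  have hy'' : (y'.map (algebraMap S' C)).comap (algebraMap S' C) = y' :=
    (liesOver_map_away (algebraMap S0 S' b) y' hby').over.symm
  refine ⟨C, _, _, _, inferInstance, y'.map (algebraMap S' C), ‹_›,
    AlgebraicGeometry.IsOpenImmersion.of_isLocalization (algebraMap S0 S' b), ?_, ?_, ?_⟩
  · rw [hy'']
    exact ⟨by rw [Ideal.under_def, IsScalarTower.algebraMap_eq S S0 S', ← Ideal.comap_comap, hy', hyq]⟩
  · rw [hy'']
    refine ⟨?_⟩
    have h1 : (y'.under R'').under R' = p' := by
      rw [Ideal.under_under, Ideal.under_def, IsScalarTower.algebraMap_eq R' S0 S', ← Ideal.comap_comap,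
        hy', hyp]
    rw [← IsLocalization.map_under (Submonoid.powers a) R'' (y'.under R''), h1,
      p''.over_def p', IsLocalization.map_under (Submonoid.powers a) R'' p'']
  · let C0 := Localization.Away b
    letI : Algebra C0 C := (IsLocalization.Away.lift b (g := algebraMap S0 C)
      (by rw [IsScalarTower.algebraMap_apply S0 S' C]; exact IsLocalization.Away.algebraMap_isUnit _)).toAlgebra
    haveI : IsScalarTower S0 C0 C := IsScalarTower.of_algebraMap_eq fun z =>
      (IsLocalization.Away.lift_eq (g := algebraMap S0 C) b _ z).symm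
    haveI : IsLocalization (Algebra.algebraMapSubmonoid S' (Submonoid.powers b)) C := by
      rw [Algebra.algebraMapSubmonoid, Submonoid.map_powers]
      infer_instance
    haveI : Algebra.IsPushout S0 S' C0 C := Algebra.isPushout_of_isLocalization (Submonoid.powers b) C0 S' C
    haveI : IsScalarTower R' C0 C := IsScalarTower.of_algebraMap_eq fun r => by
      rw [IsScalarTower.algebraMap_apply R' S0 C0, ← IsScalarTower.algebraMap_apply S0 C0 C,
        IsScalarTower.algebraMap_apply R' S' C, IsScalarTower.algebraMap_apply R' S0 S',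
        ← IsScalarTower.algebraMap_apply S0 S' C]
    haveI : Algebra.IsPushout R' S0 R'' S' := Algebra.IsPushout.symm inferInstance
    haveI : Algebra.IsPushout R' R'' C0 C :=
      ((Algebra.IsPushout.comp_iff (R := R') (S := S0) (T := C0) (R' := R'') (S' := S') (T' := C)).mpr
        (Algebra.IsPushout.symm inferInstance)).symm
    haveI : IsScalarTower S C0 C := IsScalarTower.of_algebraMap_eq fun s => by
      rw [IsScalarTower.algebraMap_apply S S0 C0, ← IsScalarTower.algebraMap_apply S0 C0 C,
        IsScalarTower.algebraMap_apply S S' C, IsScalarTower.algebraMap_apply S S0 S',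
        ← IsScalarTower.algebraMap_apply S0 S' C]
    obtain ⟨e⟩ := nonempty_pieceEquiv (R₁ := R') (R' := R'') (S := S) (C := C0) (D := C) N
    haveI : Module.Projective R'' (C ⊗[S'] N') := Module.Projective.of_equiv
      (e ≪≫ₗ ((AlgebraTensorModule.cancelBaseChange S S' C C N).symm ≪≫ₗ
        AlgebraTensorModule.congr (LinearEquiv.refl C C) hf.equiv).restrictScalars R'')
    exact Module.Projective.of_equiv (M := C ⊗[S'] N')
      ({ (RestrictScalars.addEquiv R'' C (C ⊗[S'] N')).symm with
        map_smul' := fun r x => by
          show (RestrictScalars.addEquiv R'' C (C ⊗[S'] N')).symm (r • x) =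
            r • (RestrictScalars.addEquiv R'' C (C ⊗[S'] N')).symm x
          apply (RestrictScalars.addEquiv R'' C (C ⊗[S'] N')).injective
          rw [RestrictScalars.addEquiv_map_smul, AddEquiv.apply_symm_apply, AddEquiv.apply_symm_apply,
            algebraMap_smul] } : (C ⊗[S'] N') ≃ₗ[R''] RestrictScalars R'' C (C ⊗[S'] N'))

open TensorProduct in
/-- Projectivity over a basic open of the base on a basic open of a model. -/
theorem exists_near {R R' S S0 T : Type u} [CommRing R] [CommRing R'] [CommRing S] [CommRing S0] [CommRing T]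
    [Algebra R' S0] [Algebra S S0] [Algebra S0 T] [Algebra R' T] [Algebra S T]
    [IsScalarTower R' S0 T] [IsScalarTower S S0 T] [Algebra.Etale S0 T] [Algebra.FinitePresentation R' S0]
    (N : Type u) [AddCommGroup N] [Module S N] [Module.FinitePresentation S N] [Module.Projective R' (T ⊗[S] N)]
    (p' : Ideal R') [p'.IsPrime] (x : Ideal T) [x.IsPrime] (hx : x.comap (algebraMap R' T) = p') :
    ∃ (b : S0) (a : R'), a ∉ p' ∧ b ∉ x.comap (algebraMap S0 T) ∧
      Module.Projective (Localization.Away a) (Localization.Away a ⊗[R'] (Localization.Away b ⊗[S] N)) := by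
  obtain ⟨b, hb, hproj⟩ := H7Flat.Chain.exists_away_projective_atPrime
    (A := Localization.AtPrime p') (S := S) (S0 := S0) (T := T) p' N x hx
  let C0 := Localization.Away b
  haveI : Algebra.FinitePresentation S0 C0 := IsLocalization.Away.finitePresentation b
  haveI : Algebra.FinitePresentation R' C0 := Algebra.FinitePresentation.trans R' S0 C0
  haveI : IsScalarTower R' C0 (C0 ⊗[S] N) := TensorProduct.isScalarTower_left
  haveI : Module.FinitePresentation C0 (C0 ⊗[S] N) := inferInstance
  haveI := hproj
  obtain ⟨a, ha, h⟩ := H7Flat.Chain.exists_projective_near (C := C0) (W := C0 ⊗[S] N) p'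
  exact ⟨b, a, ha, hb, h⟩

open AlgebraicGeometry CategoryTheory TensorProduct in
/-- Ring form, X = Spec S and S = Spec R affine: let S be a finitely presented R-algebra, N a finitely
presented S-module and q a prime of S over p with N_q flat over R. Then there is an étale R-algebra
R' with a prime p' over p having the same residue field such that, for the base changes S', N' of S,
N to R' (any models), there is an S'-algebra C with Spec C → Spec S' an open immersion (an affine
open U' of X ×_S S'), containing a point lying over both q and p' (there is exactly one such point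
of X ×_S S'), such that C ⊗_{S'} N' (the sections of the pulled-back module over U') is a projective
R'-module. -/
theorem result {R S : Type u} [CommRing R] [CommRing S] [Algebra R S] [Algebra.FinitePresentation R S]
    (N : Type u) [AddCommGroup N] [Module S N] [Module R N] [IsScalarTower R S N] [Module.FinitePresentation S N]
    (p : Ideal R) [p.IsPrime] (q : Ideal S) [q.IsPrime] [q.LiesOver p] (hflat : FlatCA.FlatAt R q N) :
    ∃ (R' : Type u) (_ : CommRing R') (_ : Algebra R R') (p' : Ideal R') (_ : p'.IsPrime), FlatCA.IsEtaleNhd R R' p p' ∧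
      ∀ (S' N' : Type u) [CommRing S'] [Algebra R S'] [Algebra S S'] [Algebra R' S'] [IsScalarTower R S S'] [IsScalarTower R R' S']
        [Algebra.IsPushout R S R' S']
        [AddCommGroup N'] [Module S' N'] [Module S N'] [IsScalarTower S S' N']
        (f : N →ₗ[S] N'), IsBaseChange S' f →
        ∃ (C : Type u) (_ : CommRing C) (_ : Algebra S' C) (_ : Algebra R' C) (_ : IsScalarTower R' S' C)
          (x' : Ideal C) (_ : x'.IsPrime),
          IsOpenImmersion (Spec.map (CommRingCat.ofHom (algebraMap S' C))) ∧
          (x'.comap (algebraMap S' C)).LiesOver q ∧ (x'.comap (algebraMap S' C)).LiesOver p' ∧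
          Module.Projective R' (RestrictScalars R' C (C ⊗[S'] N')) := by
  classical
  obtain ⟨R', T, _, _, _, _, _, _, _, _, p', q', _, _, hR, hS, hq, hproj⟩ :=
    H7Flat.Chain.exists_etale_projective N p q hflat
  haveI : Algebra.Etale R R' := hR.1
  haveI : Algebra.Etale S T := hS.1
  haveI := hq
  haveI : Module.Projective R' (T ⊗[S] N) := by
    haveI := hproj
    exact Module.Projective.of_equiv (M := RestrictScalars R' T (T ⊗[S] N))
      ({ RestrictScalars.addEquiv R' T (T ⊗[S] N) with
        map_smul' := fun a z => by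
          show RestrictScalars.addEquiv R' T (T ⊗[S] N) (a • z) = a • RestrictScalars.addEquiv R' T (T ⊗[S] N) z
          rw [RestrictScalars.addEquiv_map_smul, algebraMap_smul] } :
        RestrictScalars R' T (T ⊗[S] N) ≃ₗ[R'] T ⊗[S] N)
  let S0 := R' ⊗[R] S
  letI : Algebra S S0 := Algebra.TensorProduct.rightAlgebra
  let θ : S0 →ₐ[R] T := Algebra.TensorProduct.lift (IsScalarTower.toAlgHom R R' T)
    (IsScalarTower.toAlgHom R S T) fun _ _ => mul_comm _ _
  letI : Algebra S0 T := θ.toRingHom.toAlgebra
  haveI : IsScalarTower R' S0 T := IsScalarTower.of_algebraMap_eq fun r => by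
    show _ = θ (r ⊗ₜ[R] 1)
    rw [Algebra.TensorProduct.lift_tmul, map_one, mul_one]
    rfl
  haveI : IsScalarTower S S0 T := IsScalarTower.of_algebraMap_eq fun s => by
    show _ = θ ((1 : R') ⊗ₜ[R] s)
    rw [Algebra.TensorProduct.lift_tmul, map_one, one_mul]
    rfl
  haveI : Algebra.Etale S S0 := H7Flat.Chain.etale_tensor
  haveI : Algebra.Etale S0 T := Algebra.Etale.of_restrictScalars S S0 T
  haveI : Algebra.FinitePresentation R' S0 := inferInstance
  have hx : q'.comap (algebraMap R' T) = p' := (q'.over_def p').symm
  obtain ⟨b, a, ha, hb, hproj'⟩ := exists_near (R := R) (S := S) (S0 := S0) (T := T) N p' q' hx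
  haveI := hproj'
  let R'' := Localization.Away a
  let p'' : Ideal R'' := p'.map (algebraMap R' R'')
  haveI : p''.IsPrime := H8Props.Devissage.isPrime_map_away a p' ha
  haveI : p''.LiesOver p' := H8Props.Devissage.liesOver_map_away a p' ha
  refine ⟨R'', _, _, p'', ‹_›,
    H7Flat.Chain.isEtaleNhd_comp hR (H7Flat.Chain.isEtaleNhd_away a ha), ?_⟩
  intro S' N' _ _ _ _ _ _ _ _ _ _ _ f hf
  exact final (R := R) (R' := R') (R'' := R'') a N b q p' p'' ha (q'.comap (algebraMap S0 T))
    (by rw [Ideal.comap_comap, ← IsScalarTower.algebraMap_eq, hS.2.1.over, Ideal.under_def])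
    (by rw [Ideal.comap_comap, ← IsScalarTower.algebraMap_eq]; exact hx) hb S' N' f hf

end Groth.Agent.S1268
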