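import Groth.Statements.S12680
import Groth.Agent.H11QMap.RelAmpleQ
import Groth.Agent.H11QMap.Compare
import Groth.Agent.H10Coh.AmpleVanishing

set_option autoImplicit false
universe u
open CategoryTheory CategoryTheory.Limits AlgebraicGeometry TopologicalSpace Opposite
open scoped HomogeneousIdeal
noncomputable section
open EGA2

namespace Groth.Agent.S12680

/-- Let f : X → Y be a quasi-compact and separated morphism, L an invertible O_X-module with graded
symmetric algebra 𝒮L = ⊕_{n≥0} L^{⊗n} (whose relative Proj PL, given with its charts, is identified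
with X by its structure morphism), 𝒜 a quasi-coherent graded O_Y-algebra given with a graded
f-morphism u : 𝒜 → f_*𝒮L which is bijective on sections over every affine open of Y — so that 𝒜 is
the graded algebra ⊕_{n≥0} f_*(L^{⊗n}) and u is adjoint to the canonical σ : f^*𝒜 → ⊕ L^{⊗n} — P =
Proj(𝒜) → Y its relative homogeneous spectrum with its charts, and r = r_{L,σ} : G(σ) → P the
induced morphism on its open of definition G(σ) ⊆ PL. If r is everywhere defined (G(σ) is all of PL)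
and the underlying continuous map of r is a homeomorphism onto a subspace of P, then L is ample
relative to f. -/
theorem result {X Y P PL : Scheme.{u}} (f : X ⟶ Y) [QuasiCompact f] [IsSeparated f]
    (L : X.Modules) (hL : PicF.IsInvertible L) (hLq : Coh.IsQCoh L)
    (𝒮L : RelProj.QCGrAlg X) (jL : L ⟶ 𝒮L.toModule) (hjL : RelProj.IsGrSymAlg L 𝒮L jL)
    (pL : PL ⟶ X) (chartL : ∀ (U : X.Opens) (hU : IsAffineOpen U), (((pL ⁻¹ᵁ U : PL.Opens) : Scheme.{u}) ≅ Proj (𝒮L.deg U hU)))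
    (hPL : RelProj.IsRelProj 𝒮L pL chartL)
    (𝒜 : RelProj.QCGrAlg Y) (u : RelProj.QGrHom f 𝒜 𝒮L)
    (p : P ⟶ Y) (chart : ∀ (U : Y.Opens) (hU : IsAffineOpen U), (((p ⁻¹ᵁ U : P.Opens) : Scheme.{u}) ≅ Proj (𝒜.deg U hU)))
    (hP : RelProj.IsRelProj 𝒜 p chart)
    (r : ((RelProj.domQ u pL chartL : PL.Opens) : Scheme.{u}) ⟶ P)
    (hr : RelProj.IsProjQMapOn u p chart pL chartL (RelProj.domQ u pL chartL) r)
    (hu : ∀ (U : Y.Opens), IsAffineOpen U → Function.Bijective (u.app U).hom)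
    (htop : RelProj.domQ u pL chartL = ⊤) (hemb : Topology.IsEmbedding r.base) :
    RelAmple.IsRelAmple f L := by
  haveI := H11QMap.isIso_pL hPL hL hLq hjL
  refine H11Ample.isRelAmple_iff.2 ⟨inferInstance, fun U hU => (H11Ample.isAmple_restrict_iff L _).1 ?_⟩
  let W : X.Opens := f ⁻¹ᵁ U
  refine H11Ample.isAmple_iff.2 ⟨H10Coh.Tw.isInvertible_restrict W hL,
    isCompact_iff_compactSpace.1 (f.isCompact_preimage (U := U) hU.isCompact), fun y => ?_⟩
  -- a trivial affine neighbourhood and a standard open inside its image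
  obtain ⟨B, e, hxB, hBW, hB, he⟩ := H11QMap.exists_trivial_nhd (L := L) hL (V := W) (x := W.ι y) y.2
  let G := RelProj.domQ u pL chartL
  let O : G.toScheme.Opens := G.ι ⁻¹ᵁ pL ⁻¹ᵁ B
  obtain ⟨O', hO', hOeq⟩ := hemb.isInducing.isOpen_iff.1 O.2
  obtain ⟨z, hz⟩ := pL.surjective (W.ι y)
  let w : G.toScheme := ⟨z, htop.ge trivial⟩
  have hwO : w ∈ O := by
    change pL z ∈ B
    rw [hz]
    exact hxB
  have hw : p (r w) ∈ U := by
    rw [H11QMap.qmap_p_apply u chart chartL hP hPL hr]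
    change f (pL z) ∈ U
    rw [hz]
    exact y.2
  obtain ⟨v, hv⟩ := H11QMap.exists_emb_eq (chart := chart) hU (z := r w) hw
  obtain ⟨d, hd, a, ha, hva, hsub⟩ := H11QMap.exists_basicOpen_subset
    (hO'.preimage (RelProj.emb p chart U hU).continuous) (show v ∈ RelProj.emb p chart U hU ⁻¹' O' by
      change RelProj.emb p chart U hU v ∈ O'
      rw [hv]
      exact hOeq.ge hwO)
  have hxa : W.ι y ∈ H11QMap.LocU.tlocU u U a d := by
    obtain ⟨V, hle, hzV, hgen⟩ := (H11QMap.mem_preimage_cb_iff u chart chartL hPL hL hLq hjL hP hr w U hU hd a ha).1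
      ⟨v, hva, hv⟩
    refine Opens.mem_iSup.2 ⟨⟨V, hle, hgen⟩, ?_⟩
    rw [← hz]
    exact hzV
  have haB : H11QMap.LocU.tlocU u U a d ≤ B := fun x hx => by
    obtain ⟨z', rfl⟩ := pL.surjective x
    obtain ⟨⟨V, hle, hgen⟩, hzV⟩ := Opens.mem_iSup.1 hx
    let w' : G.toScheme := ⟨z', htop.ge trivial⟩
    have h1 : r w' ∈ H11QMap.cb chart U hU a :=
      (H11QMap.mem_preimage_cb_iff u chart chartL hPL hL hLq hjL hP hr w' U hU hd a ha).2 ⟨V, hle, hzV, hgen⟩
    obtain ⟨v', hv', hvr⟩ := h1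
    have h2 : w' ∈ r.base ⁻¹' O' := show r w' ∈ O' from hvr ▸ hsub hv'
    rw [hOeq] at h2
    exact h2
  have hdegW : ∀ (V : X.Opens) (hV : IsAffineOpen V) (i : V ≤ W),
      H11Sym.ares 𝒮L.toQCAlg i ((u.app U).hom a) ∈ 𝒮L.deg V hV d := fun V hV i =>
    H11QMap.gmem (u.gradedAt U hU V hV i) ha
  obtain ⟨c, hc⟩ := H11QMap.exists_eq_str_mul_pow hLq hjL hB he (hdegW B hB hBW)
  have haff : IsAffineOpen (H11QMap.LocU.tlocU u U a d) := by
    have he' : H11QMap.LocU.tlocU u U a d = X.basicOpen c := by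
      ext x
      refine ⟨fun hx => ?_, fun hx => ?_⟩
      · exact (H11QMap.mem_tlocU_iff_basicOpen u hPL hL hLq hjL hU hd ha hB hBW he hc (haB hx)).1 hx
      · exact (H11QMap.mem_tlocU_iff_basicOpen u hPL hL hLq hjL hU hd ha hB hBW he hc (X.basicOpen_le c hx)).2 hx
    rw [he']
    exact hB.basicOpen c
  -- the section of the power of the restriction
  obtain ⟨T, hT⟩ := H11QMap.exists_powCorr_inv jL hL hLq hjL W d ((u.app U).hom a) hdegW
  obtain ⟨ρ, hρ⟩ := H11Ample.exists_hom_tensorPow_restrict W L d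
  haveI : IsIso ρ := H11Tilde.isIso_of_gen ρ fun x => by
    obtain ⟨V, e₁, hxV, hVW, -, he₁⟩ := H11QMap.exists_trivial_nhd (L := L) hL (V := W) (x := W.ι x) x.2
    have hle : W.ι ''ᵁ (W.ι ⁻¹ᵁ V) ≤ V := by
      rw [Scheme.Hom.image_preimage_eq_opensRange_inf]
      exact inf_le_right
    have h1 := H11Ample.isGen_spow (H11Ample.isGen_restrict W he₁ hle) d
    refine ⟨_, _, hxV, h1, ?_⟩
    have h2 := H11Ample.isGen_restrict W (H11Ample.isGen_spow (he₁.res hle) d) (W := W.ι ⁻¹ᵁ V) le_rfl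
    rw [H10Coh.mres_self] at h2
    rwa [← hρ] at h2
  have hW : W.ι ''ᵁ ⊤ ≤ W := (Scheme.Hom.image_le_opensRange _ _).trans (Scheme.Opens.opensRange_ι W).le
  let t := (inv ρ).app ⊤ (H11Ample.ofImg W (CohB1.tensorPow L d)
    ((CohB1.tensorPow L d).presheaf.map (homOfLE hW).op T))
  refine ⟨d, t, hd, ?_⟩
  have hcorr : ∀ (VW : W.toScheme.Opens) (e : Γ(L.restrict W.ι, VW))
      (c : Γ(W.toScheme, VW)) (i : W.ι ''ᵁ VW ≤ W), H11Tilde.IsGen L (H11Ample.toImg W L e) →
      (CohB1.tensorPow (L.restrict W.ι) d).presheaf.map (homOfLE (le_top : VW ≤ ⊤)).op t =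
        c • H11Ample.spow e d →
      H11Sym.ares 𝒮L.toQCAlg i ((u.app U).hom a) =
        H11QMap.tval jL (H11Ample.toImg W L e) (show Γ(X, W.ι ''ᵁ VW) from c) d := by
    intro VW e c i he ht
    refine hT _ i _ _ he ?_
    have h1 := congrArg (fun s => H11Ample.toImg W _ (ρ.app VW s)) ht
    rw [Scheme.Modules.Hom.app_smul, H11Ample.toImg_smul, Scheme.Opens.ι_appIso, hρ, H11Tilde.app_map_apply,
      H11Ample.toImg_res] at h1
    refine Eq.trans ?_ h1
    have hti : ρ.app ⊤ t = H11Ample.ofImg W (CohB1.tensorPow L d)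
        ((CohB1.tensorPow L d).presheaf.map (homOfLE hW).op T) := by
      change ρ.app ⊤ ((inv ρ).app ⊤ _) = _
      rw [← ConcreteCategory.comp_apply, ← Scheme.Modules.Hom.comp_app, IsIso.inv_hom_id, Scheme.Modules.Hom.id_app]
      rfl
    rw [hti]
    exact (H10Coh.mres_mres _ hW _ T).symm
  have hmem := fun y => H11QMap.mem_tlocU_iff_gen u hPL hL hLq hjL hU hd ha t hcorr y
  refine ⟨(hmem y).1 hxa, ?_⟩
  have hG : W.ι ⁻¹ᵁ H11QMap.LocU.tlocU u U a d = H11Ample.gen (CohB1.tensorPow (L.restrict W.ι) d) t :=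
    Opens.ext (Set.ext fun y => hmem y)
  rw [← hG]
  exact haff.preimage_of_isOpenImmersion W.ι (by
    rw [Scheme.Opens.opensRange_ι]
    exact H11QMap.LocU.tlocU_le u le_rfl)

end Groth.Agent.S12680
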