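import Groth.Statements.S12683
import Groth.Agent.H22Alg.QMapSTD
import Groth.Agent.H11Proj.RelProjGlue
-- import your own Groth.Agent.* helpers here

set_option autoImplicit false
universe u
open CategoryTheory CategoryTheory.Limits AlgebraicGeometry TopologicalSpace Opposite
open scoped HomogeneousIdeal
noncomputable section
open Variety

namespace Groth.Agent.S12683

/-- Let X be a quasi-compact scheme, L an ample invertible O_X-module with graded symmetric algebra 𝒮L =
⊕_{d≥0} L^{⊗d} (whose relative Proj PL, given with its charts, is identified with X by its structure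
morphism), f : X → Y a quasi-compact morphism to an AFFINE scheme Y, 𝒜 a quasi-coherent graded
O_Y-algebra given with a graded f-morphism u : 𝒜 → f_*𝒮L which is bijective on global sections — so
that Γ(Y, 𝒜) is the graded ring Γ(X, 𝒮L) = ⊕_d Γ(X, L^{⊗d}) and P = Proj(𝒜) (given with its charts)
is its homogeneous spectrum — and r : G(σ) → P the canonical morphism on its open of definition G(σ)
⊆ PL. Then r is everywhere defined (G(σ) is all of PL) and is a quasi-compact, scheme-theoretically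
dominant open immersion. (The published statement forms the homogeneous spectrum of the graded ring
⊕_d Γ(X, L^{⊗d}) itself, over the spectrum of Γ(X, O_X); any affine Y under X gives the same graded
ring, the same homogeneous spectrum and the same morphism. It also assumes X quasi-separated, which
already follows from ampleness, since the opens X_s are affine with affine pairwise intersections;
only quasi-compactness is assumed here.) -/
theorem result {X Y P PL : Scheme.{u}} [CompactSpace X]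
    (f : X ⟶ Y) [QuasiCompact f] (hY : IsAffineOpen (⊤ : Y.Opens))
    (L : X.Modules) (hL : PicF.IsInvertible L) (hLq : Coh.IsQCoh L)
    (𝒮L : RelProj.QCGrAlg X) (jL : L ⟶ 𝒮L.toModule) (hjL : RelProj.IsGrSymAlg L 𝒮L jL)
    (pL : PL ⟶ X) (chartL : ∀ (U : X.Opens) (hU : IsAffineOpen U), (((pL ⁻¹ᵁ U : PL.Opens) : Scheme.{u}) ≅ Proj (𝒮L.deg U hU)))
    (hPL : RelProj.IsRelProj 𝒮L pL chartL)
    (hLa : CohB1.IsAmple L)
    (𝒜 : RelProj.QCGrAlg Y) (u : RelProj.QGrHom f 𝒜 𝒮L)
    (p : P ⟶ Y) (chart : ∀ (U : Y.Opens) (hU : IsAffineOpen U), (((p ⁻¹ᵁ U : P.Opens) : Scheme.{u}) ≅ Proj (𝒜.deg U hU)))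
    (hP : RelProj.IsRelProj 𝒜 p chart)
    (r : ((RelProj.domQ u pL chartL : PL.Opens) : Scheme.{u}) ⟶ P)
    (hr : RelProj.IsProjQMapOn u p chart pL chartL (RelProj.domQ u pL chartL) r)
    (hu : Function.Bijective (u.app ⊤).hom) :
    RelProj.domQ u pL chartL = ⊤ ∧ IsOpenImmersion r ∧ QuasiCompact r ∧ IsSchemeTheoreticallyDominant r := by
  haveI := H11QMap.isIso_pL hPL hL hLq hjL
  have hloc : ∀ x : X, ∃ (k : ℕ) (_ : 0 < k) (a : 𝒜.presheaf.obj (op (⊤ : Y.Opens)))
      (_ : a ∈ 𝒜.deg ⊤ hY k) (hW : IsAffineOpen (H11QMap.LocU.tlocU u ⊤ a k)),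
      x ∈ H11QMap.LocU.tlocU u ⊤ a k ∧ H11QMap.LocU.fracSub u hY hW le_rfl (s := a) (n := k) = ⊤ := by
    intro x
    obtain ⟨k, hk, a, hak, hW, hxa, hfr⟩ := H11QMap.exists_tlocU_of_isAmple u hPL hL hLq hjL hY hu
      ((H11Ample.isAmple_restrict_iff L _).2 ((H11Ample.ampleOn_top_iff L).2 hLa)) (x := x) trivial
    exact ⟨k, hk, a, hak, hW, hxa, hfr⟩
  choose k hk a hak hW hxa hfr using hloc
  have hiso : ∀ x, IsIso (r ∣_ H11QMap.cb chart ⊤ hY (a x)) := by
    intro x
    refine (H11QMap.LocU.restrict_cb_iff u hY hPL hL hLq hjL (hk x) hP hr (hak x) (hW x)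
      (Q := MorphismProperty.isomorphisms Scheme)).2 ?_
    refine (isIso_SpecMap_iff (f := CommRingCat.ofHom _)).2 ⟨?_, (H11QMap.LocU.surjective_away_map_iff u hY hPL hL
      hLq hjL (hk x) (hW x) le_rfl (hak x)).2 (hfr x)⟩
    refine (injective_iff_map_eq_zero _).2 fun z hz => ?_
    obtain ⟨m, b, hb, rfl⟩ := HomogeneousLocalization.Away.mk_surjective (𝒜.deg ⊤ hY) (hak x) z
    have h1 := (H11QMap.LocU.map_eq_kappa_iff u hY hPL hL hLq hjL (hk x) (hW x) le_rfl (hak x) m b hb 0).1
      (hz.trans (by rw [map_zero, map_zero]))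
    rw [map_zero, zero_mul] at h1
    obtain ⟨N, hN⟩ := H11QMap.exists_pow_mul_eq_zero_of_locus u hPL hL hLq hjL hY hu.1 (hk x) (hak x) hb
      h1.symm
    apply HomogeneousLocalization.val_injective
    rw [HomogeneousLocalization.Away.val_mk, HomogeneousLocalization.val_zero, H11Proj.mk_eq_zero_iff_exists_pow]
    exact ⟨N, hN⟩
  have htop : RelProj.domQ u pL chartL = ⊤ := by
    refine eq_top_iff.2 fun z _ => ?_
    obtain ⟨⟨V, hle, hgen⟩, hzV⟩ := Opens.mem_iSup.1 (hxa (pL z))
    exact H11QMap.mem_domQ_of_genOn u chartL hPL hL hLq hjL _ hY (hk _) _ (hak (pL z)) V hle hgen hzV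
  haveI hι : IsIso (RelProj.domQ u pL chartL).ι := by
    haveI : Surjective (RelProj.domQ u pL chartL).ι := ⟨fun z => by
      have hz : z ∈ RelProj.domQ u pL chartL := by rw [htop]; trivial
      exact ⟨⟨z, hz⟩, rfl⟩⟩
    exact (isIso_iff_isOpenImmersion_and_surjective _).2 ⟨inferInstance, inferInstance⟩
  haveI : IsSeparated p := H11Proj.isSeparated_relProj hP
  haveI : QuasiCompact (r ≫ p) := by
    rw [H11QMap.qmap_over u chart chartL hP hPL hr]
    infer_instance
  haveI : QuasiCompact r := QuasiCompact.of_comp r p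
  refine ⟨htop, ?_, inferInstance, H22Alg.QMapSTD.isSchemeTheoreticallyDominant_qmap u hY hu.1 hr⟩
  obtain ⟨g, hg, hgi⟩ := H11QMap.exists_lift_of_local r (fun x => H11QMap.cb chart ⊤ hY (a x)) (fun z => by
    refine ⟨pL ((RelProj.domQ u pL chartL).ι z), ?_⟩
    obtain ⟨⟨V, hle, hgen⟩, hzV⟩ := Opens.mem_iSup.1 (hxa (pL ((RelProj.domQ u pL chartL).ι z)))
    exact (H11QMap.mem_preimage_cb_iff u chart chartL hPL hL hLq hjL hP hr z _ hY (hk _) _ (hak _)).2
      ⟨V, hle, hzV, hgen⟩) (Q := MorphismProperty.isomorphisms Scheme) hiso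
  haveI : IsIso g := hgi
  rw [← hg]
  infer_instance


end Groth.Agent.S12683
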