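import Groth.Statements.S12687
import Groth.Agent.H11Proj.RelProjFP

set_option autoImplicit false
universe u
open CategoryTheory CategoryTheory.Limits AlgebraicGeometry TopologicalSpace Opposite
open scoped HomogeneousIdeal
noncomputable section
open Divisors

namespace Groth.Agent.S12687

/-- Let S be a scheme, 𝒜 a quasi-coherent graded O_S-algebra which is a finitely presented O_S-algebra
(over every affine open U, 𝒜(U) is a finitely presented algebra over Γ(U, O_S)), and p : P = Proj(𝒜)
→ S its relative homogeneous spectrum, given with its charts. Then p is of finite presentation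
(locally of finite presentation, quasi-compact and quasi-separated), and for every integer d the
twisting module O_P(d) (given with its chart identifications) is an O_P-module of finite
presentation. -/
theorem result {S P : Scheme.{u}} (𝒜 : RelProj.QCGrAlg S)
    (hfp : ∀ (U : S.Opens), IsAffineOpen U → RingHom.FinitePresentation (𝒜.str.app (op U)).hom)
    (p : P ⟶ S) (chart : ∀ (U : S.Opens) (hU : IsAffineOpen U), (((p ⁻¹ᵁ U : P.Opens) : Scheme.{u}) ≅ Proj (𝒜.deg U hU))) (hP : RelProj.IsRelProj 𝒜 p chart) :
    (LocallyOfFinitePresentation p ∧ QuasiCompact p ∧ QuasiSeparated p) ∧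
      ∀ (d : ℤ) (Od : P.Modules)
        (lam : ∀ (U : S.Opens) (hU : IsAffineOpen U),
          Od ⟶ (Scheme.Modules.pushforward (RelProj.emb p chart U hU)).obj (GrTwist.twist (𝒜.deg U hU) d)),
        RelProj.IsRelTwist 𝒜 p chart d Od lam → CohB1.IsFP Od := by
  haveI := Groth.Agent.H11Proj.RelProjFP.qc_relProj hP
    (fun U hU => RingHom.FiniteType.of_finitePresentation (hfp U hU))
  haveI := Groth.Agent.H11Proj.isSeparated_relProj hP
  exact ⟨⟨Groth.Agent.H11Proj.RelProjFP.lfp_relProj hP hfp, inferInstance, inferInstance⟩,
    fun d Od lam hOd => Groth.Agent.H11Proj.RelProjFP.isFP_relTwist hP d Od lam hOd hfp⟩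

end Groth.Agent.S12687
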