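import Groth.Statements.S12689
import Groth.Agent.H11QMap.FTQ
import Groth.Agent.H11Proj.RelProjExists

set_option autoImplicit false
universe u
open CategoryTheory CategoryTheory.Limits AlgebraicGeometry TopologicalSpace Opposite
open scoped HomogeneousIdeal
noncomputable section
open EGA2

namespace Groth.Agent.S12689

/-- Let Y be a scheme which is either quasi-compact and separated or has Noetherian underlying space, q
: X → Y a morphism of finite type, L an invertible O_X-module with graded symmetric algebra 𝒮L =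
⊕_{n≥0} L^{⊗n} (whose relative Proj PL, given with its charts, is identified with X by its structure
morphism), F a quasi-coherent O_Y-module with graded symmetric algebra 𝒯 = Sym(F) (structure map jF)
and projective bundle P = P(F) = Proj(𝒯) → Y given with its charts, u : 𝒯 → q_*𝒮L a graded
q-morphism — adjoint to Sym(φ) for the homomorphism φ : q^*F → L it determines in degree one — with
φ surjective (every point of X has an affine neighbourhood V over which the image of a single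
section of F generates L), and r = r_{L,φ} : G(φ) → P the induced morphism on its open of definition
G(φ) ⊆ PL (which is all of PL, φ being surjective). Then r is an immersion if and only if there are
a quasi-coherent O_Y-module E of finite type with an injective map ι : E → F, its graded symmetric
algebra 𝒯' = Sym(E) (structure map jE) and the graded q-morphism u' : 𝒯' → q_*𝒮L obtained from u
through Sym(ι), such that the corresponding φ' : q^*E → L is surjective (in the same stalkwise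
sense) and, for the projective bundle P(E) = Proj(𝒯') → Y (with its charts) and the induced r' =
r_{L,φ'} : G(φ') → P(E), r' is everywhere defined and an immersion. -/
theorem result {X Y P PL : Scheme.{u}}
    (hYs : (CompactSpace Y ∧ Y.IsSeparated) ∨ NoetherianSpace Y) (q : X ⟶ Y) [QuasiCompact q] [LocallyOfFiniteType q]
    (L : X.Modules) (hL : PicF.IsInvertible L) (hLq : Coh.IsQCoh L)
    (𝒮L : RelProj.QCGrAlg X) (jL : L ⟶ 𝒮L.toModule) (hjL : RelProj.IsGrSymAlg L 𝒮L jL)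
    (pL : PL ⟶ X) (chartL : ∀ (U : X.Opens) (hU : IsAffineOpen U), (((pL ⁻¹ᵁ U : PL.Opens) : Scheme.{u}) ≅ Proj (𝒮L.deg U hU)))
    (hPL : RelProj.IsRelProj 𝒮L pL chartL)
    (F : Y.Modules) (hFq : Coh.IsQCoh F) (𝒯 : RelProj.QCGrAlg Y) (jF : F ⟶ 𝒯.toModule) (h𝒯 : RelProj.IsGrSymAlg F 𝒯 jF)
    (u : RelProj.QGrHom q 𝒯 𝒮L)
    (hsurj : ∀ x : X, ∃ (U : Y.Opens) (hU : IsAffineOpen U) (e : Γ(F, U)) (V : X.Opens) (hV : IsAffineOpen V)
        (hVU : V ≤ q ⁻¹ᵁ U), x ∈ V ∧
          ((𝒮L.deg V hV 1 : AddSubgroup (𝒮L.presheaf.obj (op V))) : Set (𝒮L.presheaf.obj (op V))) ⊆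
              (Ideal.span {(u.appLE U V hVU).hom ((jF.app U) e)} : Set (𝒮L.presheaf.obj (op V))))
    (p : P ⟶ Y) (chart : ∀ (U : Y.Opens) (hU : IsAffineOpen U), (((p ⁻¹ᵁ U : P.Opens) : Scheme.{u}) ≅ Proj (𝒯.deg U hU)))
    (hP : RelProj.IsRelProj 𝒯 p chart)
    (r : ((RelProj.domQ u pL chartL : PL.Opens) : Scheme.{u}) ⟶ P)
    (hr : RelProj.IsProjQMapOn u p chart pL chartL (RelProj.domQ u pL chartL) r) :
    IsImmersion r ↔
      ∃ (E : Y.Modules) (_ : Coh.IsQCoh E) (_ : CohB1.IsFT E) (ι : E ⟶ F) (_ : ∀ U : Y.Opens, Function.Injective (ι.app U))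
        (𝒯' : RelProj.QCGrAlg Y) (jE : E ⟶ 𝒯'.toModule) (_ : RelProj.IsGrSymAlg E 𝒯' jE)
        (u' : RelProj.QGrHom q 𝒯' 𝒮L)
        (_ : ∀ (U : Y.Opens) (x : Γ(E, U)), (u'.app U).hom ((jE.app U) x) = (u.app U).hom ((jF.app U) ((ι.app U) x))),
        (∀ x : X, ∃ (U : Y.Opens) (hU : IsAffineOpen U) (e : Γ(E, U)) (V : X.Opens) (hV : IsAffineOpen V)
            (hVU : V ≤ q ⁻¹ᵁ U), x ∈ V ∧
              ((𝒮L.deg V hV 1 : AddSubgroup (𝒮L.presheaf.obj (op V))) : Set (𝒮L.presheaf.obj (op V))) ⊆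
              (Ideal.span {(u'.appLE U V hVU).hom ((jE.app U) e)} : Set (𝒮L.presheaf.obj (op V)))) ∧
        ∀ (P' : Scheme.{u}) (p' : P' ⟶ Y)
            (chart' : ∀ (U : Y.Opens) (hU : IsAffineOpen U), (((p' ⁻¹ᵁ U : P'.Opens) : Scheme.{u}) ≅ Proj (𝒯'.deg U hU)))
            (_ : RelProj.IsRelProj 𝒯' p' chart')
            (r' : ((RelProj.domQ u' pL chartL : PL.Opens) : Scheme.{u}) ⟶ P')
            (_ : RelProj.IsProjQMapOn u' p' chart' pL chartL (RelProj.domQ u' pL chartL) r'),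
          RelProj.domQ u' pL chartL = ⊤ ∧ IsImmersion r' := by
  haveI := H11QMap.isIso_pL hPL hL hLq hjL
  haveI : CompactSpace Y := by
    rcases hYs with ⟨h, -⟩ | h
    · exact h
    · exact NoetherianSpace.compactSpace _
  haveI : QuasiSeparatedSpace Y := by
    rcases hYs with ⟨-, h⟩ | h
    · infer_instance
    · infer_instance
  have hjF1 : ∀ (U : Y.Opens) (hU : IsAffineOpen U) (e : Γ(F, U)), (jF.app U) e ∈ 𝒯.deg U hU 1 := h𝒯.2
  have htop : RelProj.domQ u pL chartL = ⊤ := by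
    refine eq_top_iff.2 fun z _ => ?_
    obtain ⟨U, hU, e, V, hV, hVU, hzV, hgen⟩ := hsurj (pL z)
    exact H11QMap.mem_domQ_of_genOn u chartL hPL hL hLq hjL U hU one_pos _ (hjF1 U hU e) ⟨V, hV⟩ hVU hgen hzV
  constructor
  · intro himm
    haveI := himm
    obtain ⟨l, hl, hdata⟩ := H11QMap.exists_finite_data u hPL hL hLq hjL hP hr htop
    choose T hT using fun e : Σ U : Y.affineOpens, ℕ × 𝒯.presheaf.obj (op U.1) =>
      H11QMap.exists_finset_app_eq hFq h𝒯.1 u e.1.2 e.2.2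
    choose U hU e V hV hVU hxV hgen using hsurj
    haveI : CompactSpace X := QuasiCompact.compactSpace_of_compactSpace q
    obtain ⟨K, hK⟩ := isCompact_univ.elim_finite_subcover (fun x : X => (V x : Set X))
      (fun x => Opens.isOpen _) (fun x _ => Set.mem_iUnion.2 ⟨x, hxV x⟩)
    obtain ⟨E, hEq, hEft, ι, hι, hmem⟩ := H11QMap.exists_ft_submodule F hFq
      ((l.flatMap fun a => (T a).toList.map fun m => (⟨a.1, m⟩ : Σ U : Y.affineOpens, Γ(F, U.1))) ++
        K.toList.map fun x => ⟨⟨U x, hU x⟩, e x⟩)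
    obtain ⟨𝒯', jE, h𝒯'⟩ := H11Sym.exists_isGrSymAlg E hEq
    obtain ⟨ψ, hψ, -⟩ := h𝒯'.1 𝒯.toQCAlg (ι ≫ jF)
    have hψj : ∀ (W : Y.Opens) (x : Γ(E, W)),
        (ψ.hom.app (op W)).hom (H11Sym.japp (B := 𝒯'.toQCAlg) jE W x) = (jF.app W) ((ι.app W) x) := fun W x =>
      congrArg (fun k : E ⟶ 𝒯.toModule => H11Sym.japp (B := 𝒯.toQCAlg) k W x) hψ
    have hψg : RelProj.IsGradedHom ψ := H11Sym.isGradedHom_of_one hEq h𝒯' ψ fun W hW x => by
      rw [hψj]
      exact hjF1 W hW _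
    have hu' : ∀ (W : Y.Opens) (x : Γ(E, W)), ((H11QMap.compQ ψ hψg u).app W).hom ((jE.app W) x) =
        (u.app W).hom ((jF.app W) ((ι.app W) x)) := fun W x => congrArg (u.app W).hom (hψj W x)
    refine ⟨E, hEq, hEft, ι, hι, 𝒯', jE, h𝒯', H11QMap.compQ ψ hψg u, hu', fun x => ?_, ?_⟩
    · obtain ⟨x', hx', hxx'⟩ := Set.mem_iUnion₂.1 (hK (Set.mem_univ x))
      obtain ⟨e', he'⟩ := hmem ⟨⟨U x', hU x'⟩, e x'⟩ (List.mem_append_right _ (List.mem_map.2 ⟨x', Finset.mem_toList.2 hx', rfl⟩))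
      dsimp only at he'
      refine ⟨U x', hU x', e', V x', hV x', hVU x', hxx', ?_⟩
      have h1 : ((H11QMap.compQ ψ hψg u).appLE (U x') (V x') (hVU x')).hom ((jE.app (U x')) e') =
          (u.appLE (U x') (V x') (hVU x')).hom ((jF.app (U x')) (e x')) := by
        rw [← he']
        exact congrArg (H11Sym.ares 𝒮L.toQCAlg (hVU x')) (hu' _ e')
      rw [h1]
      exact hgen x'
    · intro P' p' chart' hP' r' hr'
      refine hdata (H11QMap.compQ ψ hψg u) (fun a ha => ?_) p' chart' hP' r' hr'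
      obtain ⟨y, hy⟩ := hT a (H11QMap.compQ ψ hψg u) fun m hm => by
        obtain ⟨m', hm'⟩ := hmem ⟨a.1, m⟩ (List.mem_append_left _ (List.mem_flatMap.2 ⟨a, ha, List.mem_map.2 ⟨m, Finset.mem_toList.2 hm, rfl⟩⟩))
        refine ⟨(jE.app a.1.1) m', (hu' _ m').trans ?_⟩
        rw [hm']
      exact H11QMap.exists_deg_app_eq u _ a.1.2 (hl a ha) hy
  · rintro ⟨E, hEq, -, ι, -, 𝒯', jE, h𝒯', u', hu', -, hall⟩
    obtain ⟨P', p', chart', hP'⟩ := H11Proj.exists_isRelProj 𝒯'
    obtain ⟨r', hr'⟩ := H11QMap.exists_qmap u' chart' chartL hP' hPL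
    obtain ⟨htop', himm'⟩ := hall P' p' chart' hP' r' hr'
    haveI := himm'
    obtain ⟨l, hl, hdata⟩ := H11QMap.exists_finite_data u' hPL hL hLq hjL hP' hr' htop'
    refine (hdata u (fun a ha => ?_) p chart hP r hr).2
    obtain ⟨T, hT⟩ := H11QMap.exists_finset_app_eq hEq h𝒯'.1 u' a.1.2 a.2.2
    obtain ⟨y, hy⟩ := hT u fun m _ => ⟨(jF.app a.1.1) ((ι.app a.1.1) m), (hu' _ m).symm⟩
    exact H11QMap.exists_deg_app_eq u' u a.1.2 (hl a ha) hy

end Groth.Agent.S12689
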