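import Groth.Statements.S12688
import Groth.Agent.S12686
import Groth.Agent.S12689
import Groth.Agent.H11QMap.SymU
import Groth.Agent.H11Sym.VeryAmpleLocal
import Groth.Agent.H10Coh.QcqsPush

set_option autoImplicit false
universe u
open CategoryTheory CategoryTheory.Limits AlgebraicGeometry TopologicalSpace Opposite
open scoped HomogeneousIdeal
noncomputable section
open EGA2

namespace Groth.Agent.S12688

/-- Let Y be a scheme which is either quasi-compact and separated or has Noetherian underlying space, q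
: X → Y a morphism of finite type, L an invertible O_X-module with graded symmetric algebra 𝒮L =
⊕_{n≥0} L^{⊗n} (whose relative Proj PL, given with its charts, is identified with X by its structure
morphism). If L is very ample relative to q, then there are a quasi-coherent O_Y-module E of finite
type with an injective map ι : E → q_*L, its graded symmetric algebra 𝒯 = Sym(E) (structure map jE),
and the graded q-morphism u : 𝒯 → q_*𝒮L extending ι (adjoint to Sym(φ) for φ : q^*E → L the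
restriction of the canonical map q^*q_*L → L), such that φ is surjective — every point of X has an
affine neighbourhood V over which the image of a single section of E generates L — and, for the
projective bundle P(E) = Proj(𝒯) → Y (with its charts) and the induced r = r_{L,φ} : G(φ) → P(E), r
is everywhere defined (G(φ) is all of PL) and an immersion. (The published statement reads 'coherent
of finite type' for E; over an affine base whose ring is not coherent, with q the identity and L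
trivial, the only possible E is O_Y itself, which is not coherent, while the published proof,
through the finite-type criterion for immersions, yields E quasi-coherent of finite type, which is
what this row asserts.) -/
theorem result {X Y PL : Scheme.{u}}
    (hYs : (CompactSpace Y ∧ Y.IsSeparated) ∨ NoetherianSpace Y) (q : X ⟶ Y) [QuasiCompact q] [LocallyOfFiniteType q]
    (L : X.Modules) (hL : PicF.IsInvertible L) (hLq : Coh.IsQCoh L)
    (𝒮L : RelProj.QCGrAlg X) (jL : L ⟶ 𝒮L.toModule) (hjL : RelProj.IsGrSymAlg L 𝒮L jL)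
    (pL : PL ⟶ X) (chartL : ∀ (U : X.Opens) (hU : IsAffineOpen U), (((pL ⁻¹ᵁ U : PL.Opens) : Scheme.{u}) ≅ Proj (𝒮L.deg U hU)))
    (hPL : RelProj.IsRelProj 𝒮L pL chartL)
    (h : RelProj.IsRelVeryAmple q L) :
    ∃ (E : Y.Modules) (_ : Coh.IsQCoh E) (_ : CohB1.IsFT E) (ι : E ⟶ (Scheme.Modules.pushforward q).obj L)
      (_ : ∀ U : Y.Opens, Function.Injective (ι.app U))
      (𝒯 : RelProj.QCGrAlg Y) (jE : E ⟶ 𝒯.toModule) (_ : RelProj.IsGrSymAlg E 𝒯 jE)
      (u : RelProj.QGrHom q 𝒯 𝒮L)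
      (_ : ∀ (U : Y.Opens) (x : Γ(E, U)), (u.app U).hom ((jE.app U) x) = (jL.app (q ⁻¹ᵁ U)) ((ι.app U) x)),
      (∀ x : X, ∃ (U : Y.Opens) (hU : IsAffineOpen U) (e : Γ(E, U)) (V : X.Opens) (hV : IsAffineOpen V)
          (hVU : V ≤ q ⁻¹ᵁ U), x ∈ V ∧
            ((𝒮L.deg V hV 1 : AddSubgroup (𝒮L.presheaf.obj (op V))) : Set (𝒮L.presheaf.obj (op V))) ⊆
              (Ideal.span {(u.appLE U V hVU).hom ((jE.app U) e)} : Set (𝒮L.presheaf.obj (op V)))) ∧
      ∀ (P : Scheme.{u}) (p : P ⟶ Y)
          (chart : ∀ (U : Y.Opens) (hU : IsAffineOpen U), (((p ⁻¹ᵁ U : P.Opens) : Scheme.{u}) ≅ Proj (𝒯.deg U hU)))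
          (_ : RelProj.IsRelProj 𝒯 p chart)
          (r : ((RelProj.domQ u pL chartL : PL.Opens) : Scheme.{u}) ⟶ P)
          (_ : RelProj.IsProjQMapOn u p chart pL chartL (RelProj.domQ u pL chartL) r),
        RelProj.domQ u pL chartL = ⊤ ∧ IsImmersion r := by
  haveI : IsSeparated q := H11Sym.isSeparated_of_isRelVeryAmple h
  haveI : L.IsQuasicoherent := hLq
  have hFq : Coh.IsQCoh ((Scheme.Modules.pushforward q).obj L) := H10Coh.isQuasicoherent_pushforward q L
  obtain ⟨𝒜, jF, h𝒜⟩ := H11Sym.exists_isGrSymAlg _ hFq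
  obtain ⟨u, hu⟩ := H11QMap.exists_symQHom jL hFq h𝒜 hjL (𝟙 _)
  simp only [Scheme.Modules.Hom.id_app] at hu
  obtain ⟨P, p, chart, hP⟩ := H11Proj.exists_isRelProj 𝒜
  obtain ⟨r, hr⟩ := H11QMap.exists_qmap u chart chartL hP hPL
  have hu' : ∀ (U : Y.Opens) (x : Γ((Scheme.Modules.pushforward q).obj L, U)),
      (u.app U).hom ((jF.app U) x) = (jL.app (q ⁻¹ᵁ U)) x := hu
  obtain ⟨-, himm⟩ := S12686.result q L hL hLq 𝒮L jL hjL pL chartL hPL hFq 𝒜 jF h𝒜 u hu' p chart hP r hr h
  obtain ⟨E₀, hE₀, v, hv⟩ := H11Sym.isRelVeryAmple_iff.1 h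
  have hid : H11Sym.Emb (𝟙 ((Scheme.Modules.pushforward q).obj L)) :=
    H11Sym.Emb.of_factor v (by rw [Category.comp_id]; exact hv)
  have hspan : ∀ x : X, ∃ (U : Y.Opens) (hU : IsAffineOpen U) (e : Γ((Scheme.Modules.pushforward q).obj L, U))
      (V : X.Opens) (hV : IsAffineOpen V) (hVU : V ≤ q ⁻¹ᵁ U), x ∈ V ∧
        ((𝒮L.deg V hV 1 : AddSubgroup (𝒮L.presheaf.obj (op V))) : Set (𝒮L.presheaf.obj (op V))) ⊆
          (Ideal.span {(u.appLE U V hVU).hom ((jF.app U) e)} : Set (𝒮L.presheaf.obj (op V))) := by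
    intro x
    obtain ⟨g, hg⟩ := hid.spans x
    obtain ⟨V, hV, hxV, hVg'⟩ := exists_isAffineOpen_mem_and_subset (U := g.V) hg
    have hVg : V ≤ g.V := hVg'
    refine ⟨g.U, g.hU, g.m, V, hV, hVg.trans g.le, hxV, fun b hb => ?_⟩
    have he := g.gen.res hVg
    obtain ⟨c, hc⟩ := H11QMap.exists_eq_str_mul_pow hLq hjL hV he hb
    refine Ideal.mem_span_singleton.2 ⟨H11Sym.astr 𝒮L.toQCAlg V c, ?_⟩
    rw [hc, pow_one, mul_comm]
    refine congrArg (· * _) ?_
    rw [H10Coh.mres_mres]
    refine Eq.trans ?_ (congrArg (H11Sym.ares 𝒮L.toQCAlg (hVg.trans g.le)) (hu g.U g.m)).symm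
    exact H11Sym.japp_res jL _ _
  obtain ⟨E, hEq, hEft, ι, hι, 𝒯, jE, h𝒯, u', hu'', hsp, hall⟩ :=
    (S12689.result hYs q L hL hLq 𝒮L jL hjL pL chartL hPL _ hFq 𝒜 jF h𝒜 u hspan p chart hP r hr).1 himm
  exact ⟨E, hEq, hEft, ι, hι, 𝒯, jE, h𝒯, u', fun U x => (hu'' U x).trans (hu U _), hsp, hall⟩

end Groth.Agent.S12688
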