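-- statement FlatMor.GrothFrozen.S1269 (Groth/Statements/S1269.lean; the theorem FlatMor.free_on_affine_open_after_etale_nbhd_of_flatAt);
import Groth.Statements.S1269
import Groth.Agent.H7Flat.Chain.OpenFreeMain

set_option autoImplicit false
universe u
open FlatMor

namespace Groth.Agent.S1269

open AlgebraicGeometry CategoryTheory TensorProduct in
/-- Ring form, X = Spec S and S = Spec R affine: let S be a finite type R-algebra, N a finite S-module
and q a prime of S over p with N_q flat over R. Then there is an étale R-algebra R' with a prime p'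
over p having the same residue field such that, writing A for the local ring of R' at p' and S_A,
N_A for the base changes (any models), there is an S_A-algebra C with Spec C → Spec S_A an open
immersion (an affine open U'), containing a point lying over q and over the maximal ideal of A, such
that C ⊗_{S_A} N_A is a free A-module. -/
theorem result {R S : Type u} [CommRing R] [CommRing S] [Algebra R S] [Algebra.FiniteType R S]
    (N : Type u) [AddCommGroup N] [Module S N] [Module R N] [IsScalarTower R S N] [Module.Finite S N]
    (p : Ideal R) [p.IsPrime] (q : Ideal S) [q.IsPrime] [q.LiesOver p] (hflat : FlatCA.FlatAt R q N) :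
    ∃ (R' : Type u) (_ : CommRing R') (_ : Algebra R R') (p' : Ideal R') (_ : p'.IsPrime), FlatCA.IsEtaleNhd R R' p p' ∧
      ∀ (SA NA : Type u) [CommRing SA] [Algebra R SA] [Algebra S SA] [Algebra (Localization.AtPrime p') SA]
        [IsScalarTower R S SA] [IsScalarTower R (Localization.AtPrime p') SA]
        [Algebra.IsPushout R S (Localization.AtPrime p') SA]
        [AddCommGroup NA] [Module SA NA] [Module S NA] [IsScalarTower S SA NA]
        (f : N →ₗ[S] NA), IsBaseChange SA f →
        ∃ (C : Type u) (_ : CommRing C) (_ : Algebra SA C) (_ : Algebra (Localization.AtPrime p') C)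
          (_ : IsScalarTower (Localization.AtPrime p') SA C) (x' : Ideal C) (_ : x'.IsPrime),
          IsOpenImmersion (Spec.map (CommRingCat.ofHom (algebraMap SA C))) ∧
          (x'.comap (algebraMap SA C)).LiesOver q ∧
          (x'.comap (algebraMap SA C)).LiesOver (IsLocalRing.maximalIdeal (Localization.AtPrime p')) ∧
          Module.Free (Localization.AtPrime p') (RestrictScalars (Localization.AtPrime p') C (C ⊗[SA] NA)) := by
  obtain ⟨R', _, _, p', _, hR, h⟩ := H7Flat.Chain.exists_etale_free N p q hflat
  refine ⟨R', _, _, p', ‹_›, hR, ?_⟩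
  intro SA NA _ _ _ _ _ _ _ _ _ _ _ f hf
  obtain ⟨T, _, _, _, tA, _, tS, x, _, hx, hT, hxm, -, hfree⟩ := h SA NA f hf
  haveI := hT
  haveI := hxm
  haveI : Algebra.IsPushout R (Localization.AtPrime p') S SA := Algebra.IsPushout.symm ‹_›
  haveI : Algebra.FiniteType (Localization.AtPrime p') SA :=
    Algebra.FiniteType.equiv inferInstance (Algebra.IsPushout.equiv R (Localization.AtPrime p') S SA)
  haveI : Module.Finite SA NA := Module.Finite.equiv hf.equiv
  obtain ⟨g, hg, hgfree⟩ := H7Flat.Chain.exists_open_free NA x hfree
  let C := Localization.Away g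
  let y := x.comap (algebraMap SA T)
  haveI : (y.map (algebraMap SA C)).IsPrime := H8Props.Devissage.isPrime_map_away g y hg
  haveI : (y.map (algebraMap SA C)).LiesOver y := H8Props.Devissage.liesOver_map_away g y hg
  have hy : (y.map (algebraMap SA C)).comap (algebraMap SA C) = y :=
    ((y.map (algebraMap SA C)).over_def y).symm
  refine ⟨C, _, _, _, inferInstance, y.map (algebraMap SA C), ‹_›,
    AlgebraicGeometry.IsOpenImmersion.of_isLocalization g, ?_, ?_, by exact hgfree⟩
  · rw [hy]
    exact ⟨by rw [Ideal.under_def, Ideal.comap_comap, ← IsScalarTower.algebraMap_eq]; exact hx.over⟩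
  · rw [hy]
    exact ⟨by rw [Ideal.under_def, Ideal.comap_comap, ← IsScalarTower.algebraMap_eq]; exact hxm.over⟩

end Groth.Agent.S1269
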