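import Groth.Statements.S12690
import Groth.Agent.H11QMap.FGenRange

set_option autoImplicit false
universe u
open CategoryTheory CategoryTheory.Limits AlgebraicGeometry TopologicalSpace Opposite
open scoped HomogeneousIdeal
noncomputable section
open Divisors

namespace Groth.Agent.S12690

/-- Assume S is a quasi-separated, quasi-compact scheme and 𝒜 is a quasi-coherent graded O_S-algebra
each of whose graded pieces 𝒜_n is a finite type O_S-module (concretely, for every affine open W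
there is a finite set of elements of 𝒜_n(W) spanning it over Γ(W, O_S)). Write p : P = Proj(𝒜) → S
for its relative homogeneous spectrum (supplied together with its charts) and suppose p is
quasi-compact. Consider a closed immersion i : Z → P of finite presentation, and a quasi-compact
open U ⊆ S not meeting p(i(Z)). Then one can find an integer d > 0; a quasi-coherent finite type
O_S-module F together with ι : F → 𝒜 whose image lies in degree d over each affine open; a
quasi-coherent graded O_S-algebra ℬ and a graded homomorphism φ : 𝒜 → ℬ which, on every affine open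
W, is surjective with kernel equal to the ideal spanned by the image of F(W) — i.e. ℬ = 𝒜/F𝒜; a
relative Proj PB = Proj(ℬ) → S equipped with charts; the morphism h = Proj(φ) : PB → P, defined
everywhere; and an isomorphism e : PB ≅ Z whose composite with i is h. Furthermore, for each affine
open W contained in U, the image of F(W) exhausts 𝒜_d(W) (so 𝒜_d/F has support avoiding U). -/
theorem result {S P Z : Scheme.{u}}
    [CompactSpace S] [QuasiSeparatedSpace S] (𝒜 : RelProj.QCGrAlg S)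
    (hft : ∀ (W : S.Opens) (hW : IsAffineOpen W) (n : ℕ), ∃ s : Finset (𝒜.presheaf.obj (op W)),
      (↑s : Set (𝒜.presheaf.obj (op W))) ⊆ (𝒜.deg W hW n : AddSubgroup (𝒜.presheaf.obj (op W))) ∧
        ∀ x ∈ 𝒜.deg W hW n, ∃ c : (𝒜.presheaf.obj (op W)) → Γ(S, W),
          x = ∑ g ∈ s, (𝒜.str.app (op W)).hom (c g) * g)
    (p : P ⟶ S) (chart : ∀ (U : S.Opens) (hU : IsAffineOpen U), (((p ⁻¹ᵁ U : P.Opens) : Scheme.{u}) ≅ Proj (𝒜.deg U hU))) (hP : RelProj.IsRelProj 𝒜 p chart) [QuasiCompact p]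
    (i : Z ⟶ P) [IsClosedImmersion i] [LocallyOfFinitePresentation i]
    (U : S.Opens) (hUc : IsCompact (U : Set S)) (hUZ : Disjoint (U : Set S) (Set.range (i ≫ p).base)) :
    ∃ (d : ℕ) (_ : 0 < d) (F : S.Modules) (_ : Coh.IsQCoh F) (_ : CohB1.IsFT F) (ι : F ⟶ 𝒜.toModule)
      (_ : ∀ (W : S.Opens) (hW : IsAffineOpen W) (x : Γ(F, W)), (ι.app W) x ∈ 𝒜.deg W hW d)
      (ℬ : RelProj.QCGrAlg S) (φ : 𝒜.toQCAlg ⟶ ℬ.toQCAlg) (hφ : RelProj.IsGradedHom φ) (PB : Scheme.{u})
      (pB : PB ⟶ S) (chartB : ∀ (U : S.Opens) (hU : IsAffineOpen U), (((pB ⁻¹ᵁ U : PB.Opens) : Scheme.{u}) ≅ Proj (ℬ.deg U hU)))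
      (h : PB ⟶ P) (e : PB ≅ Z),
      (∀ (W : S.Opens), IsAffineOpen W → Function.Surjective (φ.hom.app (op W)).hom ∧
          RingHom.ker (φ.hom.app (op W)).hom = (Ideal.span (Set.range (ι.app W)) : Ideal (𝒜.presheaf.obj (op W)))) ∧
        RelProj.IsRelProj ℬ pB chartB ∧ RelProj.IsProjQMap (RelProj.QGrHom.ofHom φ hφ) p chart pB chartB h ∧
        e.hom ≫ i = h ∧
        ∀ (W : S.Opens) (hW : IsAffineOpen W), W ≤ U →
          ((𝒜.deg W hW d : AddSubgroup (𝒜.presheaf.obj (op W))) : Set (𝒜.presheaf.obj (op W))) ⊆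
            Set.range (fun x : Γ(F, W) => ((ι.app W) x : 𝒜.presheaf.obj (op W))) := by
  classical
  obtain ⟨Λ, hΛ⟩ := hUc.elim_finite_subcover (fun W : {W : S.affineOpens // W.1 ≤ U} => (W.1.1 : Set S))
    (fun W => W.1.1.isOpen) (fun s hs => by
      obtain ⟨W, hW, hsW, hle⟩ := exists_isAffineOpen_mem_and_subset (X := S) (x := s) (U := U) hs
      exact Set.mem_iUnion.2 ⟨⟨⟨W, hW⟩, hle⟩, hsW⟩)
  choose T hTd hTspan using fun (k : {W // W ∈ Λ}) (n : ℕ) => hft k.1.1.1 k.1.1.2 n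
  obtain ⟨d, hd, F, hF, hFt, ι, hι, PB, pB, chartB, h, e, hB, hh, he, hTι⟩ :=
    Groth.Agent.H11QMap.exists_fgen_quot hP i (fun k : {W // W ∈ Λ} => k.1.1) T fun k n t ht =>
      ⟨hTd k n ht, (Groth.Agent.H11QMap.cIdeal_eq_top i k.1.1.1 k.1.1.2 (hUZ.mono_left k.1.2)).symm ▸ trivial⟩
  refine ⟨d, hd, F, hF, hFt, ι, hι, _, _, (Groth.Agent.H11QMap.spanSys ι hι hF).isGradedHom_quo, PB, pB, chartB, h, e,
    fun W hW => ⟨(Groth.Agent.H11QMap.spanSys ι hι hF).quo_surjective hW,
      (Groth.Agent.H11QMap.spanSys ι hι hF).ker_quo hW⟩, hB, hh, he, fun W hW hle a ha => ?_⟩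
  refine Groth.Agent.H11QMap.mem_range_of_cover hF ι (fun k : {W // W ∈ Λ} => k.1.1) (fun s hs => ?_) (fun k b hb => ?_) W hW hle a ha
  · obtain ⟨V, hV, hsV⟩ := Set.mem_iUnion₂.1 (hΛ hs)
    exact ⟨⟨V, hV⟩, hsV⟩
  · obtain ⟨c, hc⟩ := hTspan k d b hb
    rw [hc]
    exact Groth.Agent.H11QMap.mem_range_of_span ι (T k d) (hTι k) c

end Groth.Agent.S12690
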