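import Groth.Statements.S12692
-- import your own Groth.Agent.* helpers here
import Groth.Agent.H11QMap.RelAmpleQ
import Groth.Agent.H11QMap.Compare
import Groth.Agent.H11Proj.RelProjGlue

set_option autoImplicit false
universe u
open CategoryTheory CategoryTheory.Limits AlgebraicGeometry TopologicalSpace Opposite
open scoped HomogeneousIdeal
noncomputable section
open Coh

namespace Groth.Agent.S12692

/-- Let X be a quasi-compact scheme, L an invertible O_X-module with graded symmetric algebra 𝒮L =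
⊕_{d≥0} L^{⊗d} (whose relative Proj PL, given with its charts, is identified with X by its structure
morphism), f : X → Y a quasi-compact morphism to an AFFINE scheme Y, 𝒜 a quasi-coherent graded
O_Y-algebra given with a graded f-morphism u : 𝒜 → f_*𝒮L which is bijective on global sections — so
that Γ(Y, 𝒜) is the graded ring S = ⊕_d Γ(X, L^{⊗d}) and P = Proj(𝒜) (given with its charts) is
Proj(S) — and r : G(u) → P the canonical morphism on its open of definition G(u) ⊆ PL. If G(u) is
all of PL (that is, every point of X lies in an open X_s for some homogeneous s ∈ S_+), then r is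
quasi-compact and has dense image. (The published statement forms the homogeneous spectrum of the
graded ring S itself, with no base scheme; any affine Y under X gives the same graded ring, the same
homogeneous spectrum and the same morphism.) -/
theorem result {X Y P PL : Scheme.{u}} [CompactSpace X]
    (f : X ⟶ Y) [QuasiCompact f] (hY : IsAffineOpen (⊤ : Y.Opens))
    (L : X.Modules) (hL : PicF.IsInvertible L) (hLq : Coh.IsQCoh L)
    (𝒮L : RelProj.QCGrAlg X) (jL : L ⟶ 𝒮L.toModule) (hjL : RelProj.IsGrSymAlg L 𝒮L jL)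
    (pL : PL ⟶ X) (chartL : ∀ (U : X.Opens) (hU : IsAffineOpen U), (((pL ⁻¹ᵁ U : PL.Opens) : Scheme.{u}) ≅ Proj (𝒮L.deg U hU)))
    (hPL : RelProj.IsRelProj 𝒮L pL chartL)
    (𝒜 : RelProj.QCGrAlg Y) (u : RelProj.QGrHom f 𝒜 𝒮L)
    (p : P ⟶ Y) (chart : ∀ (U : Y.Opens) (hU : IsAffineOpen U), (((p ⁻¹ᵁ U : P.Opens) : Scheme.{u}) ≅ Proj (𝒜.deg U hU)))
    (hP : RelProj.IsRelProj 𝒜 p chart)
    (r : ((RelProj.domQ u pL chartL : PL.Opens) : Scheme.{u}) ⟶ P)
    (hr : RelProj.IsProjQMapOn u p chart pL chartL (RelProj.domQ u pL chartL) r)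
    (hu : Function.Bijective (u.app ⊤).hom)
    (htop : RelProj.domQ u pL chartL = ⊤) :
    QuasiCompact r ∧ IsDominant r := by
  haveI := H11QMap.isIso_pL hPL hL hLq hjL
  haveI hι : IsIso (RelProj.domQ u pL chartL).ι := by
    haveI : Surjective (RelProj.domQ u pL chartL).ι := ⟨fun z => by
      have hz : z ∈ RelProj.domQ u pL chartL := by rw [htop]; trivial
      exact ⟨⟨z, hz⟩, rfl⟩⟩
    exact (isIso_iff_isOpenImmersion_and_surjective _).2 ⟨inferInstance, inferInstance⟩
  haveI : IsSeparated p := H11Proj.isSeparated_relProj hP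
  haveI : QuasiCompact (r ≫ p) := by
    rw [H11QMap.qmap_over u chart chartL hP hPL hr]
    infer_instance
  refine ⟨QuasiCompact.of_comp r p, ⟨dense_iff_inter_open.2 fun O hO ⟨z, hzO⟩ => ?_⟩⟩
  obtain ⟨v, hv⟩ := H11QMap.exists_emb_eq (chart := chart) hY (z := z) trivial
  obtain ⟨d, hd, b, hb, hvb, hsub⟩ := H11QMap.exists_basicOpen_subset
    (hO.preimage (RelProj.emb p chart ⊤ hY).continuous)
    (show v ∈ RelProj.emb p chart ⊤ hY ⁻¹' O by rw [Set.mem_preimage, hv]; exact hzO)
  by_contra hne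
  obtain ⟨N, hN⟩ := H11QMap.exists_pow_mul_eq_zero_of_locus u hPL hL hLq hjL hY hu.1 hd hb (k := 0)
    (a := 1) SetLike.GradedOne.one_mem (by
      have he : H11QMap.LocU.tlocU u ⊤ b d = ⊥ := by
        refine le_bot_iff.1 (iSup_le fun V y hy => ?_)
        obtain ⟨hle, hgen⟩ := V.2
        obtain ⟨w, rfl⟩ := pL.surjective y
        let w' : ((RelProj.domQ u pL chartL : PL.Opens) : Scheme.{u}) := ⟨w, htop.ge trivial⟩
        obtain ⟨v', hv', hvr⟩ := (H11QMap.mem_preimage_cb_iff u chart chartL hPL hL hLq hjL hP hr w' ⊤ hY hd b hb).2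
          ⟨V.1, hle, hy, hgen⟩
        exact absurd ⟨r w', hvr ▸ hsub hv', w', rfl⟩ hne
      refine TopCat.Sheaf.eq_of_locally_eq' (⟨𝒮L.presheaf, 𝒮L.isSheaf⟩ : TopCat.Sheaf CommRingCat.{u} X)
        (fun i : PEmpty.{u + 1} => ⊥) _ (fun i => i.elim) (he.le.trans bot_le) _ _ fun i => i.elim)
  have hbot := H11QMap.cb_eq_bot_of_isNilpotent chart ⊤ hY (a := b) ⟨N, by rw [← mul_one (b ^ N)]; exact hN⟩
  have hmem : RelProj.emb p chart ⊤ hY v ∈ H11QMap.cb chart ⊤ hY b := ⟨v, hvb, rfl⟩
  rw [hbot] at hmem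
  exact hmem

end Groth.Agent.S12692
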