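import Groth.Statements.S12708
import Groth.Agent.H24Art.Basic

set_option autoImplicit false
universe u v
open CategoryTheory
open ArtFun

namespace Groth.Agent.S12708

/-- For Λ Noetherian with a finite map to a field k, A a local Λ-algebra whose residue field is k
(through a surjective Λ-algebra map A → k) and M an A-module, the length of M over Λ equals the
degree of k over the image of Λ times the length of M over A. The degree is written as the length of
k as a Λ-module, which is the same number; lengths are in ℕ∞. -/
theorem result {Λ : Type u} {k : Type u} [CommRing Λ] [Field k] [Algebra Λ k]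
    [IsNoetherianRing Λ] [Module.Finite Λ k]
    (A : Type u) [CommRing A] [Algebra Λ A] [IsLocalRing A] [Algebra A k] [IsScalarTower Λ A k]
    (hres : Function.Surjective (algebraMap A k))
    (M : Type v) [AddCommGroup M] [Module A M] [Module Λ M] [IsScalarTower Λ A M] :
    Module.length Λ k * Module.length A M = Module.length Λ M := by
  classical
  have hker : RingHom.ker (algebraMap A k) = IsLocalRing.maximalIdeal A := by
    haveI := RingHom.ker_isMaximal_of_surjective (algebraMap A k) hres
    exact (IsLocalRing.eq_maximalIdeal inferInstance)
  have hpos : Module.length Λ k ≠ 0 := by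
    rw [ne_eq, Module.length_eq_zero_iff]
    exact not_subsingleton k
  by_cases hfin : IsFiniteLength A M
  · suffices h : ∀ (P : Type v) [AddCommGroup P] [Module A P], IsFiniteLength A P →
        ∀ [Module Λ P] [IsScalarTower Λ A P],
          Module.length Λ k * Module.length A P = Module.length Λ P from h M hfin
    clear hfin
    intro P _ _ hP
    induction hP with
    | @of_subsingleton P _ _ _ =>
      intro _ _
      rw [Module.length_eq_zero (R := A) (M := P), Module.length_eq_zero (R := Λ) (M := P), mul_zero]
    | @of_simple_quotient P _ _ N hs _ ih =>
      intro _ _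
      rw [Module.length_eq_add_of_exact N.subtype N.mkQ N.subtype_injective N.mkQ_surjective
          (LinearMap.exact_subtype_mkQ N),
        Module.length_eq_add_of_exact (N.subtype.restrictScalars Λ) (N.mkQ.restrictScalars Λ)
          N.subtype_injective N.mkQ_surjective (LinearMap.exact_subtype_mkQ N), mul_add, ih]
      congr 1
      rw [Module.length_eq_one A (P ⧸ N), mul_one]
      obtain ⟨I, hI, ⟨e⟩⟩ := isSimpleModule_iff_quot_maximal.mp hs
      obtain rfl := IsLocalRing.eq_maximalIdeal hI
      have hk' : LinearMap.ker (Algebra.linearMap A k) = IsLocalRing.maximalIdeal A := hker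
      let e' : (P ⧸ N) ≃ₗ[A] k := e ≪≫ₗ (Submodule.quotEquivOfEq _ _ hk'.symm) ≪≫ₗ
        LinearMap.quotKerEquivOfSurjective (Algebra.linearMap A k) hres
      exact ((e'.restrictScalars Λ).length_eq).symm
  · have htop : Module.length A M = ⊤ := by
      by_contra h
      exact hfin (Module.length_ne_top_iff.mp h)
    have : Module.length A M ≤ Module.length Λ M := by
      have h := Submodule.length_le_length_restrictScalars Λ (⊤ : Submodule A M)
      rwa [LinearEquiv.length_eq Submodule.topEquiv, Submodule.restrictScalars_top,
        LinearEquiv.length_eq Submodule.topEquiv] at h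
    rw [htop, top_le_iff] at this
    rw [this, htop, ENat.mul_top hpos]

end Groth.Agent.S12708
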