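import Groth.Statements.S12709
import Groth.Agent.H24Art.Cotangent

set_option autoImplicit false
universe u v
open CategoryTheory
open ArtFun ArtFun.Art

namespace Groth.Agent.S12709

/-- Given a morphism f : A → B in the category of Artinian local Λ-algebras with residue field k, three
conditions coincide: (1) surjectivity of f; (2) f induces an onto map from the cotangent space of A
to the cotangent space of B, which in ideal-theoretic form says f(m_A)B + m_B² = m_B; (3) the
induced map on cotangent spaces relative to Λ is surjective, written as m_Λ B + f(m_A)B + m_B² = m_B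
with m_Λ the kernel of Λ → k. -/
theorem result {Λ : Type u} {k : Type u} [CommRing Λ] [Field k] [Algebra Λ k]
    [IsNoetherianRing Λ] [Module.Finite Λ k]
    {A B : ArtFun.Art Λ k} (f : A ⟶ B) :
    List.TFAE [Function.Surjective f,
      Ideal.map f.toAlgHom (IsLocalRing.maximalIdeal A) ⊔ IsLocalRing.maximalIdeal B ^ 2 = IsLocalRing.maximalIdeal B,
      Ideal.map (algebraMap Λ B) (RingHom.ker (algebraMap Λ k)) ⊔ Ideal.map f.toAlgHom (IsLocalRing.maximalIdeal A) ⊔
        IsLocalRing.maximalIdeal B ^ 2 = IsLocalRing.maximalIdeal B] := by
  exact Groth.Agent.H24Art.tfae_art f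

end Groth.Agent.S12709
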