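-- statement FlatMor.GrothFrozen.S1271 (Groth/Statements/S1271.lean; the theorem FlatMor.exists_ideal_mul_eq_extend_of_etale_nzd);
import Groth.Statements.S1271
import Groth.Agent.H7Flat.FittingEtale

set_option autoImplicit false
universe u
open FlatMor

namespace Groth.Agent.S1271

/-- Let A → B be an étale ring map, a ∈ A a nonzerodivisor and J a finitely generated ideal of B with
V(J) ⊆ V(aB), i.e. a lies in the radical of J. Then for every prime q of B there exist a finitely
generated ideal I of A with V(I) ⊆ V(a), an element g of B outside q, and a finitely generated ideal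
J' of the localization B_g such that the extension of I to B_g equals the product of the extension
of J with J'. -/
theorem result {A B : Type u} [CommRing A] [CommRing B] [Algebra A B] [Algebra.Etale A B]
    (a : A) (ha : a ∈ nonZeroDivisors A) (J : Ideal B) (hJ : J.FG) (hJa : algebraMap A B a ∈ J.radical)
    (q : Ideal B) [q.IsPrime] :
    ∃ (I : Ideal A) (g : B) (J' : Ideal (Localization.Away g)), I.FG ∧ a ∈ I.radical ∧ g ∉ q ∧ J'.FG ∧
      I.map (algebraMap A (Localization.Away g)) = J.map (algebraMap B (Localization.Away g)) * J' := by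
  classical
  obtain ⟨g, hg, hst⟩ := Algebra.IsEtaleAt.exists_isStandardEtale (R := A) q
  let B' := Localization.Away g
  obtain ⟨P⟩ := Algebra.IsStandardEtale.nonempty_standardEtalePresentation (R := A) (S := B')
  let e : B' ≃ₐ[A] Localization.Away (AdjoinRoot.mk P.f P.g) :=
    P.equivRing.trans P.P.equivAwayAdjoinRoot
  let C := AdjoinRoot P.f
  let : Algebra C B' :=
    ((e.symm : _ →+* B').comp (algebraMap C (Localization.Away (AdjoinRoot.mk P.f P.g)))).toAlgebra
  have : IsScalarTower A C B' := IsScalarTower.of_algebraMap_eq fun x => by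
    change algebraMap A B' x =
      e.symm (algebraMap C (Localization.Away (AdjoinRoot.mk P.f P.g)) (algebraMap A C x))
    rw [← IsScalarTower.algebraMap_apply, e.symm.commutes]
  have : IsLocalization.Away (AdjoinRoot.mk P.f P.g) B' :=
    IsLocalization.isLocalization_of_algEquiv _
      (AlgEquiv.ofRingEquiv (R := C) (f := e.symm.toRingEquiv) fun _ => rfl)
  have : Module.Finite A C := P.monic_f.finite_adjoinRoot
  have : Module.Free A C := P.monic_f.free_adjoinRoot
  have : Algebra.Etale A B' := Algebra.Etale.comp A B B'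
  obtain ⟨N, hN⟩ := hJa
  obtain ⟨s, hs⟩ := hJ
  choose num hnum using fun b : B =>
    IsLocalization.surj (Submonoid.powers (AdjoinRoot.mk P.f P.g)) (algebraMap B B' b)
  let JC : Ideal C := Ideal.span (↑(s.image fun b => (num b).1) ∪ {algebraMap A C (a ^ N)})
  have hJCfg : JC.FG := ⟨s.image (fun b => (num b).1) ∪ {algebraMap A C (a ^ N)}, by simp only [JC, Finset.coe_union, Finset.coe_singleton]⟩
  have hext : JC.map (algebraMap C B') = J.map (algebraMap B B') := by
    apply le_antisymm
    · rw [Ideal.map_le_iff_le_comap, Ideal.span_le]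
      rintro x (hx | hx)
      · obtain ⟨b, hb, rfl⟩ := Finset.mem_image.mp hx
        rw [SetLike.mem_coe, Ideal.mem_comap, ← hnum b]
        exact Ideal.mul_mem_right _ _ (Ideal.mem_map_of_mem _ (hs ▸ Ideal.subset_span hb))
      · rw [Set.mem_singleton_iff.mp hx, SetLike.mem_coe, Ideal.mem_comap,
          ← IsScalarTower.algebraMap_apply, IsScalarTower.algebraMap_apply A B B', map_pow]
        exact Ideal.mem_map_of_mem _ hN
    · rw [← hs, Ideal.map_span, Ideal.span_le]
      rintro _ ⟨b, hb, rfl⟩
      rw [SetLike.mem_coe, ← Ideal.mul_unit_mem_iff_mem _ (IsLocalization.map_units B' (num b).2), hnum b]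
      exact Ideal.mem_map_of_mem _
        (Ideal.subset_span (Or.inl (Finset.mem_image.mpr ⟨b, hb, rfl⟩)))
  obtain ⟨J', hJ', hfg⟩ :=
    Groth.Agent.H7Flat.FittingEtale.exists_factor (A := A) (AdjoinRoot.mk P.f P.g) (B := B') JC
  refine ⟨Fitt.ideal A (C ⧸ JC) 0, g, J', (hfg hJCfg).1, ?_, hg, (hfg hJCfg).2, hext ▸ hJ'⟩
  have hann : a ^ N ∈ Module.annihilator A (C ⧸ JC) := by
    refine Module.mem_annihilator.mpr fun x => ?_
    rw [← algebraMap_smul C, Algebra.smul_def, Ideal.Quotient.algebraMap_eq,
      Ideal.Quotient.eq_zero_iff_mem.mpr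
        (show algebraMap A C (a ^ N) ∈ JC from Ideal.subset_span (Or.inr rfl)), zero_mul]
  exact Ideal.mem_radical_of_pow_mem (m := N)
    (Groth.Agent.H29Fitt.annihilator_le_radical_ideal_zero hann)

end Groth.Agent.S1271
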