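import Groth.Statements.S12713
import Groth.Agent.H24Art.Basic

set_option autoImplicit false
universe u v
open CategoryTheory
open ArtFun ArtFun.Art

namespace Groth.Agent.S12713

/-- A small extension f : B → A in the category of Artinian local Λ-algebras with residue field k is not
an essential surjection (some morphism g : C → B is non-surjective although the composite C → A is
surjective) if and only if f has a section A → B in the category. -/
theorem result {Λ : Type u} {k : Type u} [CommRing Λ] [Field k] [Algebra Λ k]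
    [IsNoetherianRing Λ] [Module.Finite Λ k]
    {A B : ArtFun.Art Λ k} (f : B ⟶ A) (hf : ArtFun.Art.IsSmallExt f) :
    (∃ (C : ArtFun.Art Λ k) (g : C ⟶ B), Function.Surjective (g ≫ f) ∧ ¬ Function.Surjective g) ↔
      ∃ s : A ⟶ B, s ≫ f = 𝟙 A := by
  obtain ⟨hs, hne, hp, hm⟩ := hf
  obtain ⟨t, ht⟩ := hp
  constructor
  · rintro ⟨C, g, hgf, hg⟩
    let S : Subalgebra Λ B := g.toAlgHom.range
    have hker : ∀ b ∈ S, f b = 0 → b = 0 := by
      intro b hbS hb
      by_contra hb0
      have hbt : b ∈ Ideal.span {t} := by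
        rw [← Ideal.submodule_span_eq, ← ht]; exact hb
      obtain ⟨c, hc⟩ := Ideal.mem_span_singleton'.mp hbt
      have htker : t ∈ RingHom.ker f.toAlgHom := ht ▸ Submodule.mem_span_singleton_self t
      have hcu : IsUnit c := by
        by_contra hcn
        apply hb0
        rw [← hc, ← Ideal.mem_bot, ← hm]
        exact Ideal.mul_mem_mul ((IsLocalRing.mem_maximalIdeal c).mpr hcn) htker
      have hall : ∀ a : B, a * b ∈ S := by
        intro a
        obtain ⟨c', hc'⟩ := C.res_surjective (B.res a)
        have hd : a - g c' ∈ IsLocalRing.maximalIdeal B := by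
          rw [mem_maximalIdeal_iff, map_sub, res_app, hc', sub_self]
        have h0 : (a - g c') * b = 0 := by
          rw [← Ideal.mem_bot, ← hm]; exact Ideal.mul_mem_mul hd hb
        rw [sub_mul, sub_eq_zero] at h0
        rw [h0]
        exact S.mul_mem ⟨c', rfl⟩ hbS
      apply hg
      intro y
      obtain ⟨c₁, hc₁⟩ := hgf (f y)
      have hy : y - g c₁ ∈ Ideal.span {t} := by
        rw [← Ideal.submodule_span_eq, ← ht, RingHom.mem_ker, map_sub, sub_eq_zero]
        exact hc₁.symm
      obtain ⟨d, hd⟩ := Ideal.mem_span_singleton'.mp hy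
      obtain ⟨c₂, hc₂⟩ := hall (d * ↑hcu.unit⁻¹)
      refine ⟨c₁ + c₂, ?_⟩
      have e2 : g c₂ = y - g c₁ := by
        rw [← hd, show g c₂ = _ from hc₂, ← hc, mul_assoc, ← mul_assoc _ c t, hcu.val_inv_mul, one_mul]
      rw [map_add, e2]
      ring
    let h : S →ₐ[Λ] A := f.toAlgHom.comp S.val
    have hb : Function.Bijective h := by
      constructor
      · intro x y e
        apply Subtype.ext
        rw [← sub_eq_zero]
        refine hker _ (S.sub_mem x.2 y.2) ?_
        rw [map_sub, sub_eq_zero]
        exact e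
      · intro a
        obtain ⟨c, hc⟩ := hgf a
        exact ⟨⟨g c, ⟨c, rfl⟩⟩, hc⟩
    let e := AlgEquiv.ofBijective h hb
    refine ⟨⟨S.val.comp e.symm.toAlgHom, ?_⟩, ?_⟩
    · refine AlgHom.ext fun a => ?_
      change B.res (e.symm a : B) = A.res a
      rw [← res_app f]
      exact congrArg A.res (e.apply_symm_apply a)
    · exact Art.hom_ext (AlgHom.ext fun a => e.apply_symm_apply a)
  · rintro ⟨s, hs'⟩
    refine ⟨A, s, ?_, fun hsurj => hne ?_⟩
    · rw [hs']; exact fun a => ⟨a, rfl⟩
    · rw [eq_bot_iff]
      intro b hb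
      obtain ⟨a, rfl⟩ := hsurj b
      have : f (s a) = a := by rw [← Art.comp_apply, hs']; rfl
      rw [RingHom.mem_ker.mp hb] at this
      rw [← this, map_zero]
      exact zero_mem _

end Groth.Agent.S12713
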