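import Groth.Statements.S12715
import Groth.Agent.H24Art.Cotangent

set_option autoImplicit false
universe u v
open CategoryTheory
open ArtFun

namespace Groth.Agent.S12715

/-- For Λ Noetherian with a finite map to the field k and S a complete local Noetherian Λ-algebra with
residue field k (through a surjective map S → k over Λ), the space of Λ-derivations S → k is
finite-dimensional over k. -/
theorem result {Λ : Type u} {k : Type u} [CommRing Λ] [Field k] [Algebra Λ k]
    [IsNoetherianRing Λ] [Module.Finite Λ k]
    (S : Type u) [CommRing S] [Algebra Λ S] [IsLocalRing S] [IsNoetherianRing S]
    [IsAdicComplete (IsLocalRing.maximalIdeal S) S] [Algebra S k] [IsScalarTower Λ S k]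
    (hres : Function.Surjective (algebraMap S k)) :
    Module.Finite k (Derivation Λ S k) := by
  exact Groth.Agent.H24Art.finite_derivation S hres

end Groth.Agent.S12715
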