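import Groth.Statements.S12722
import Groth.Agent.H24Art.Relative

set_option autoImplicit false
universe u v
open CategoryTheory
open ArtFun

namespace Groth.Agent.S12722

/-- (1) ⇔ (5): let Λ be a complete local Noetherian ring with residue field k. For a complete local
Noetherian Λ-algebra R with residue field k, the functor h_R on Artinian local Λ-algebras with
residue field k is smooth if and only if R is isomorphic over Λ to a power series ring Λ[[x₁, …,
xₙ]] for some n. -/
theorem result {Λ : Type u} {k : Type u} [CommRing Λ] [Field k] [Algebra Λ k]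
    [IsNoetherianRing Λ] [Module.Finite Λ k]
    [IsLocalRing Λ] [IsAdicComplete (IsLocalRing.maximalIdeal Λ) Λ]
    (hk : Function.Surjective (algebraMap Λ k)) (R : ArtFun.CRing Λ k) :
    ArtFun.IsSmoothFunctor (ArtFun.hR R.carrier R.res) ↔
      ∃ n : ℕ, Nonempty (R.carrier ≃ₐ[Λ] MvPowerSeries (Fin n) Λ) := by
  exact Groth.Agent.H24Art.isSmoothFunctor_iff_ps hk R

end Groth.Agent.S12722
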