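import Groth.Statements.S12733
import Groth.Agent.H24Art.Double
import Groth.Agent.S12719

set_option autoImplicit false
universe u v
open CategoryTheory
open ArtFun

namespace Groth.Agent.S12733

/-- Let F, G be deformation functors on Artinian local Λ-algebras with residue field k (value at k a
point, and condition (RS): the comparison map for A₁ ×_A A₂ is bijective whenever A₂ → A is
surjective). A smooth morphism φ : F → G inducing a bijection on tangent spaces is an isomorphism:
every φ_A is bijective. -/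
theorem result {Λ : Type u} {k : Type u} [CommRing Λ] [Field k] [Algebra Λ k]
    [IsNoetherianRing Λ] [Module.Finite Λ k]
    {F G : ArtFun.Art Λ k ⥤ Type v}
    (hF0 : ArtFun.H0 F) (hF : (∀ ⦃B A A' A'' : ArtFun.Art Λ k⦄ (p' : B ⟶ A') (p'' : B ⟶ A'') (f' : A' ⟶ A) (f'' : A'' ⟶ A)
        (h : ArtFun.Art.IsFibreProd p' p'' f' f''), Function.Surjective f'' → Function.Bijective (ArtFun.cmp F h)))
    (hG0 : ArtFun.H0 G) (hG : (∀ ⦃B A A' A'' : ArtFun.Art Λ k⦄ (p' : B ⟶ A') (p'' : B ⟶ A'') (f' : A' ⟶ A) (f'' : A'' ⟶ A)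
        (h : ArtFun.Art.IsFibreProd p' p'' f' f''), Function.Surjective f'' → Function.Bijective (ArtFun.cmp G h)))
    (φ : F ⟶ G) (hφ : ArtFun.IsSmooth φ) (hd : Function.Bijective (ArtFun.TangentSpace.map φ))
    (A : ArtFun.Art Λ k) : Function.Bijective (φ.app A) := by
  haveI := hF0.2
  haveI := hG0.2
  obtain ⟨x₀⟩ := hF0.1
  refine ⟨?_, Groth.Agent.S12719.result φ hφ (fun y => ⟨x₀, Subsingleton.elim _ _⟩) A⟩
  refine Groth.Agent.H24Art.art_induction (fun A => Function.Injective (φ.app A)) ?_ ?_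
    (fun _ _ _ => Subsingleton.elim _ _) A
  · intro A B e he hA x x' hx
    refine (Groth.Agent.H24Art.map_bijective_of_isIso F e).injective (hA ?_)
    rw [Groth.Agent.H24Art.nat', Groth.Agent.H24Art.nat', hx]
  · intro A B p hp hA x x' hx
    obtain ⟨P, p₁, p₂, g, d, hP, hPg, hd₁, hd₂, hdg⟩ := Groth.Agent.H24Art.exists_double hp
    obtain ⟨w, hw⟩ := (hF p₁ p₂ p p hP hp.1).2 ⟨(x, x'), hA (by
      rw [Groth.Agent.H24Art.nat', Groth.Agent.H24Art.nat', hx])⟩
    have e₁ : F.map p₁ w = x := congrArg (fun z => z.1.1) hw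
    have e₂ : F.map p₂ w = x' := congrArg (fun z => z.1.2) hw
    have e : φ.app P w = G.map d (φ.app B x) := (hG p₁ p₂ p p hP hp.1).1 (FibProd.ext
      (by change G.map p₁ (φ.app P w) = G.map p₁ (G.map d (φ.app B x))
          rw [← Groth.Agent.H24Art.nat', e₁, ← Groth.Agent.H24Art.map_comp_apply' G d, hd₁,
            Groth.Agent.H24Art.map_id_apply'])
      (by change G.map p₂ (φ.app P w) = G.map p₂ (G.map d (φ.app B x))
          rw [← Groth.Agent.H24Art.nat', e₂, ← Groth.Agent.H24Art.map_comp_apply' G d, hd₂,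
            Groth.Agent.H24Art.map_id_apply', hx]))
    rw [← e₁, ← e₂]
    refine (Groth.Agent.H24Art.snd_eq_fst_of_diff F (Groth.Agent.H24Art.heps_of_rs F hF) hPg hd₁ hd₂
      hdg w (hd.1 ?_)).symm
    change φ.app _ (F.map g w) = φ.app _ (F.map _ (F.map p₁ w))
    rw [Groth.Agent.H24Art.nat', e, ← Groth.Agent.H24Art.map_comp_apply', hdg, e₁,
      ← Groth.Agent.H24Art.nat']

end Groth.Agent.S12733
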