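import Groth.Statements.S12735
import Groth.Agent.H24Art.Prorep

set_option autoImplicit false
universe u v
open CategoryTheory
open ArtFun

namespace Groth.Agent.S12735

/-- Let U be a prorepresentable functor on Artinian local Λ-algebras with residue field k and φ : U → U
an endomorphism of functors which is bijective on the tangent space U(k[ε]). Then φ is an
isomorphism: every component is bijective. -/
theorem result {Λ : Type u} {k : Type u} [CommRing Λ] [Field k] [Algebra Λ k]
    [IsNoetherianRing Λ] [Module.Finite Λ k]
    {U : ArtFun.Art Λ k ⥤ Type v} (hU : ArtFun.IsProrepresentable U)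
    (φ : U ⟶ U) (hd : Function.Bijective (ArtFun.TangentSpace.map φ)) (A : ArtFun.Art Λ k) :
    Function.Bijective (φ.app A) := by
  obtain ⟨P⟩ := hU
  obtain ⟨g, hg, h⟩ := Groth.Agent.H24Art.exists_along P.ring
    (Groth.Agent.H24Art.h0_of_isUniversal P.family P.universal) P.family
    (Groth.Agent.H24Art.isVersal_of_isUniversal P.family P.universal) (P.family.push φ).toFormalElt
  have key := Groth.Agent.H24Art.family_app_eq h
  have hgb := Groth.Agent.H24Art.bijective_of_tangent_injective g hg fun u u' e => by
    refine (P.universal (ArtFun.Art.dual Λ k)).1 (hd.1 ?_)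
    refine (key (ArtFun.Art.dual Λ k) u).symm.trans (Eq.trans ?_ (key (ArtFun.Art.dual Λ k) u'))
    exact congrArg (P.family.app _) (Subtype.ext e)
  constructor
  · intro x x' hx
    obtain ⟨u, rfl⟩ := (P.universal A).2 x
    obtain ⟨u', rfl⟩ := (P.universal A).2 x'
    have e := congrArg (fun t => t.1) ((P.universal A).1 ((key A u).trans (hx.trans (key A u').symm)))
    refine congrArg _ (Subtype.ext (AlgHom.ext fun r => ?_))
    obtain ⟨s, rfl⟩ := hgb.2 r
    exact congrArg (fun t : _ →ₐ[Λ] A => t s) e
  · intro y
    obtain ⟨v, rfl⟩ := (P.universal A).2 y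
    let e := AlgEquiv.ofBijective g hgb
    refine ⟨P.family.app A ⟨v.1.comp e.symm.toAlgHom, AlgHom.ext fun r => ?_⟩, ?_⟩
    · change A.res (v.1 (e.symm r)) = P.ring.res r
      refine (congrArg (fun t : _ →ₐ[Λ] k => t (e.symm r)) v.2).trans ?_
      refine (congrArg (fun t : _ →ₐ[Λ] k => t (e.symm r)) hg).symm.trans ?_
      exact congrArg P.ring.res (e.apply_symm_apply r)
    · refine (key A _).symm.trans (congrArg (P.family.app A) (Subtype.ext (AlgHom.ext fun r => ?_)))
      exact congrArg v.1 (e.symm_apply_apply r)

end Groth.Agent.S12735
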