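import Groth.Statements.S12739
import Groth.Agent.H24Art.Cover

set_option autoImplicit false
universe u v
open CategoryTheory
open ArtFun

namespace Groth.Agent.S12739

/-- Let … → A₃ → A₂ → A₁ be surjective morphisms of Artinian local Λ-algebras with residue field k (Λ
Noetherian, Λ → k finite) with dim_k m_{A_n}/m_{A_n}² bounded. Then lim A_n is a complete local
Noetherian Λ-algebra with residue field k: some such S carries compatible surjective
augmentation-preserving maps S → A_n identifying S with the set of compatible sequences, and the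
kernels of S → A_n define the m_S-adic topology on S. -/
theorem result {Λ : Type u} {k : Type u} [CommRing Λ] [Field k] [Algebra Λ k]
    [IsNoetherianRing Λ] [Module.Finite Λ k]
    (A : ℕ → ArtFun.Art Λ k) (f : ∀ n, A (n + 1) ⟶ A n) (hf : ∀ n, Function.Surjective (f n))
    (d : ℕ) (hd : ∀ n, Module.finrank (IsLocalRing.ResidueField (A n)) (IsLocalRing.CotangentSpace (A n)) ≤ d) :
    ∃ (S : ArtFun.CRing Λ k) (π : ∀ n, ArtFun.HomSet S.carrier S.res (A n)),
      (∀ n, ArtFun.HomSet.map (f n) (π (n + 1)) = π n) ∧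
      (∀ n, Function.Surjective (π n).1) ∧
      (∀ a : ∀ n, A n, (∀ n, f n (a (n + 1)) = a n) → ∃! s : S.carrier, ∀ n, (π n).1 s = a n) ∧
      (∀ n, ∃ N, RingHom.ker (π N).1 ≤ IsLocalRing.maximalIdeal S.carrier ^ n) ∧
      (∀ n, ∃ N, IsLocalRing.maximalIdeal S.carrier ^ N ≤ RingHom.ker (π n).1) := by
  obtain ⟨S₀, q, hq, hqs⟩ := Groth.Agent.H24Art.exists_cover_system A f hf d hd
  obtain ⟨R, p, π, -, -, hπ, -⟩ := Groth.Agent.H24Art.exists_limit S₀ q hq hqs
  refine ⟨R, π, hπ.compat, hπ.surjective, hπ.existsUnique, hπ.cofinal, fun n => ?_⟩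
  obtain ⟨c, hc⟩ := Groth.Agent.H24Art.mpow_le_ker (π n)
  exact ⟨c + 1, hc⟩

end Groth.Agent.S12739
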