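import Groth.Statements.S12744
import Groth.Agent.H24Art.Double
import Groth.Agent.S12719

set_option autoImplicit false
universe u v
open CategoryTheory
open ArtFun

namespace Groth.Agent.S12744

/-- For functors, if η : F → G is a smooth morphism of functors on Artinian local Λ-algebras with
residue field k and F(k) → G(k) is surjective, then for every complete local Noetherian R with
residue field k the induced map on formal elements over R (compatible systems of elements over the
truncations R/m^(n+1)) is surjective. -/
theorem result {Λ : Type u} {k : Type u} [CommRing Λ] [Field k] [Algebra Λ k]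
    [IsNoetherianRing Λ] [Module.Finite Λ k]
    {F G : ArtFun.Art Λ k ⥤ Type v} (η : F ⟶ G) (hη : ArtFun.IsSmooth η)
    (h0 : Function.Surjective (η.app (ArtFun.Art.base Λ k))) (R : ArtFun.CRing Λ k) :
    Function.Surjective (fun u : ArtFun.FormalElt F R => u.map η) := by
  intro v
  have hsurj : ∀ n, Function.Surjective (η.app (R.trunc n)) := fun n =>
    Groth.Agent.S12719.result η hη h0 _
  have step : ∀ (n : ℕ) (x : {x : F.obj (R.trunc n) // η.app _ x = v.elt n}),
      ∃ x' : {x : F.obj (R.trunc (n + 1)) // η.app _ x = v.elt (n + 1)},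
        F.map (R.truncMap n) x'.1 = x.1 := by
    rintro n ⟨x, hx⟩
    have hs : Function.Surjective (R.truncMap n) := fun a => by
      obtain ⟨a, rfl⟩ := Ideal.Quotient.mk_surjective a
      exact ⟨Ideal.Quotient.mk _ a, rfl⟩
    obtain ⟨x', h'⟩ := hη (R.truncMap n) hs ⟨(x, v.elt (n + 1)), hx.trans (v.compat n).symm⟩
    exact ⟨⟨x', congrArg (fun w => w.1.2) h'⟩, congrArg (fun w => w.1.1) h'⟩
  choose f hf using step
  obtain ⟨x₀, hx₀⟩ := hsurj 0 (v.elt 0)
  let e : ∀ n, {x : F.obj (R.trunc n) // η.app _ x = v.elt n} :=
    Nat.rec (motive := fun n => {x : F.obj (R.trunc n) // η.app _ x = v.elt n}) ⟨x₀, hx₀⟩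
      (fun n x => f n x)
  exact ⟨⟨fun n => (e n).1, fun n => hf n (e n)⟩, FormalElt.ext' fun n => (e n).2⟩

end Groth.Agent.S12744
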