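import Groth.Statements.S12746
import Groth.Agent.H24Art.Double

set_option autoImplicit false
universe u v
open CategoryTheory
open ArtFun

namespace Groth.Agent.S12746

/-- For functors, if F, G, H are functors on Artinian local Λ-algebras with residue field k satisfying
(RS) and f : H → F, g : G → F are morphisms, then the fibre product functor H ×_F G satisfies (RS). -/
theorem result {Λ : Type u} {k : Type u} [CommRing Λ] [Field k] [Algebra Λ k]
    [IsNoetherianRing Λ] [Module.Finite Λ k]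
    {F G H : ArtFun.Art Λ k ⥤ Type v} (f : H ⟶ F) (g : G ⟶ F)
    (hF : (∀ ⦃B A A' A'' : ArtFun.Art Λ k⦄ (p' : B ⟶ A') (p'' : B ⟶ A'') (f' : A' ⟶ A) (f'' : A'' ⟶ A)
        (h : ArtFun.Art.IsFibreProd p' p'' f' f''), Function.Surjective f'' → Function.Bijective (ArtFun.cmp F h))) (hG : (∀ ⦃B A A' A'' : ArtFun.Art Λ k⦄ (p' : B ⟶ A') (p'' : B ⟶ A'') (f' : A' ⟶ A) (f'' : A'' ⟶ A)
        (h : ArtFun.Art.IsFibreProd p' p'' f' f''), Function.Surjective f'' → Function.Bijective (ArtFun.cmp G h))) (hH : (∀ ⦃B A A' A'' : ArtFun.Art Λ k⦄ (p' : B ⟶ A') (p'' : B ⟶ A'') (f' : A' ⟶ A) (f'' : A'' ⟶ A)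
        (h : ArtFun.Art.IsFibreProd p' p'' f' f''), Function.Surjective f'' → Function.Bijective (ArtFun.cmp H h))) :
    (∀ ⦃B A A' A'' : ArtFun.Art Λ k⦄ (p' : B ⟶ A') (p'' : B ⟶ A'') (f' : A' ⟶ A) (f'' : A'' ⟶ A)
        (h : ArtFun.Art.IsFibreProd p' p'' f' f''), Function.Surjective f'' → Function.Bijective (ArtFun.cmp (CategoryTheory.Limits.pullback f g) h)) := by
  intro B A A' A'' p' p'' f' f'' h hf
  refine ⟨fun z z' hz => ?_, ?_⟩
  · have e₁ := congrArg (fun w => w.1.1) hz
    have e₂ := congrArg (fun w => w.1.2) hz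
    refine Groth.Agent.H24Art.pullback_elt_ext f g ((hH p' p'' f' f'' h hf).1 (FibProd.ext ?_ ?_))
      ((hG p' p'' f' f'' h hf).1 (FibProd.ext ?_ ?_))
    · exact ((Groth.Agent.H24Art.nat' _ p' z).symm.trans (congrArg _ e₁)).trans
        (Groth.Agent.H24Art.nat' _ p' z')
    · exact ((Groth.Agent.H24Art.nat' _ p'' z).symm.trans (congrArg _ e₂)).trans
        (Groth.Agent.H24Art.nat' _ p'' z')
    · exact ((Groth.Agent.H24Art.nat' _ p' z).symm.trans (congrArg _ e₁)).trans
        (Groth.Agent.H24Art.nat' _ p' z')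
    · exact ((Groth.Agent.H24Art.nat' _ p'' z).symm.trans (congrArg _ e₂)).trans
        (Groth.Agent.H24Art.nat' _ p'' z')
  · rintro ⟨⟨x', x''⟩, hx⟩
    obtain ⟨a, ha⟩ := (hH p' p'' f' f'' h hf).2
      ⟨((Limits.pullback.fst f g).app A' x', (Limits.pullback.fst f g).app A'' x''), by
        rw [← Groth.Agent.H24Art.nat', ← Groth.Agent.H24Art.nat', hx]⟩
    obtain ⟨b, hb⟩ := (hG p' p'' f' f'' h hf).2
      ⟨((Limits.pullback.snd f g).app A' x', (Limits.pullback.snd f g).app A'' x''), by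
        rw [← Groth.Agent.H24Art.nat', ← Groth.Agent.H24Art.nat', hx]⟩
    have a₁ : H.map p' a = (Limits.pullback.fst f g).app A' x' := congrArg (fun w => w.1.1) ha
    have a₂ : H.map p'' a = (Limits.pullback.fst f g).app A'' x'' := congrArg (fun w => w.1.2) ha
    have b₁ : G.map p' b = (Limits.pullback.snd f g).app A' x' := congrArg (fun w => w.1.1) hb
    have b₂ : G.map p'' b = (Limits.pullback.snd f g).app A'' x'' := congrArg (fun w => w.1.2) hb
    have hab : f.app B a = g.app B b := (hF p' p'' f' f'' h hf).1 (FibProd.ext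
      (by change F.map p' (f.app B a) = F.map p' (g.app B b)
          rw [← Groth.Agent.H24Art.nat', ← Groth.Agent.H24Art.nat', a₁, b₁,
            Groth.Agent.H24Art.pullback_elt_w])
      (by change F.map p'' (f.app B a) = F.map p'' (g.app B b)
          rw [← Groth.Agent.H24Art.nat', ← Groth.Agent.H24Art.nat', a₂, b₂,
            Groth.Agent.H24Art.pullback_elt_w]))
    obtain ⟨z, hz₁, hz₂⟩ := Groth.Agent.H24Art.exists_pullback_elt f g a b hab
    refine ⟨z, FibProd.ext (Groth.Agent.H24Art.pullback_elt_ext f g ?_ ?_)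
      (Groth.Agent.H24Art.pullback_elt_ext f g ?_ ?_)⟩
    · exact (Groth.Agent.H24Art.nat' _ p' z).trans ((congrArg _ hz₁).trans a₁)
    · exact (Groth.Agent.H24Art.nat' _ p' z).trans ((congrArg _ hz₂).trans b₁)
    · exact (Groth.Agent.H24Art.nat' _ p'' z).trans ((congrArg _ hz₁).trans a₂)
    · exact (Groth.Agent.H24Art.nat' _ p'' z).trans ((congrArg _ hz₂).trans b₂)

end Groth.Agent.S12746
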