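import Groth.Statements.S12747
import Groth.Agent.H24Art.Double

set_option autoImplicit false
universe u v
open CategoryTheory
open ArtFun

namespace Groth.Agent.S12747

/-- For functors, let H₁ → G, H₂ → G and q : G → F be morphisms of functors on Artinian local Λ-algebras
with residue field k where F and G are deformation functors (value at k a point, condition (RS)) and
q is injective on tangent spaces. Then the induced morphism H₁ ×_G H₂ → H₁ ×_F H₂ is smooth. (The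
published statement also assumes that infinitesimal automorphisms of G map onto those of F; for
functors that condition is empty.) -/
theorem result {Λ : Type u} {k : Type u} [CommRing Λ] [Field k] [Algebra Λ k]
    [IsNoetherianRing Λ] [Module.Finite Λ k]
    {F G H₁ H₂ : ArtFun.Art Λ k ⥤ Type v} (p₁ : H₁ ⟶ G) (p₂ : H₂ ⟶ G) (q : G ⟶ F)
    (hF0 : ArtFun.H0 F) (hF : (∀ ⦃B A A' A'' : ArtFun.Art Λ k⦄ (p' : B ⟶ A') (p'' : B ⟶ A'') (f' : A' ⟶ A) (f'' : A'' ⟶ A)
        (h : ArtFun.Art.IsFibreProd p' p'' f' f''), Function.Surjective f'' → Function.Bijective (ArtFun.cmp F h)))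
    (hG0 : ArtFun.H0 G) (hG : (∀ ⦃B A A' A'' : ArtFun.Art Λ k⦄ (p' : B ⟶ A') (p'' : B ⟶ A'') (f' : A' ⟶ A) (f'' : A'' ⟶ A)
        (h : ArtFun.Art.IsFibreProd p' p'' f' f''), Function.Surjective f'' → Function.Bijective (ArtFun.cmp G h)))
    (hq : Function.Injective (ArtFun.TangentSpace.map q)) :
    ArtFun.IsSmooth (CategoryTheory.Limits.pullback.map p₁ p₂ (p₁ ≫ q) (p₂ ≫ q) (𝟙 H₁) (𝟙 H₂) q
      (CategoryTheory.Category.id_comp _).symm (CategoryTheory.Category.id_comp _).symm) := by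
  refine Groth.Agent.H24Art.isSmooth_of_smallExt _ fun B A μ hμ => ?_
  rintro ⟨⟨z, y⟩, hzy⟩
  set M := CategoryTheory.Limits.pullback.map p₁ p₂ (p₁ ≫ q) (p₂ ≫ q) (𝟙 H₁) (𝟙 H₂) q
    (CategoryTheory.Category.id_comp _).symm (CategoryTheory.Category.id_comp _).symm with hM
  have hM₁ : ∀ (C : ArtFun.Art Λ k) (c : (Limits.pullback p₁ p₂).obj C),
      (Limits.pullback.fst (p₁ ≫ q) (p₂ ≫ q)).app C (M.app C c) =
        (Limits.pullback.fst p₁ p₂).app C c := fun C c => by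
    change (M ≫ Limits.pullback.fst (p₁ ≫ q) (p₂ ≫ q)).app C c = _
    rw [hM, Limits.pullback.lift_fst, CategoryTheory.Category.comp_id]
  have hM₂ : ∀ (C : ArtFun.Art Λ k) (c : (Limits.pullback p₁ p₂).obj C),
      (Limits.pullback.snd (p₁ ≫ q) (p₂ ≫ q)).app C (M.app C c) =
        (Limits.pullback.snd p₁ p₂).app C c := fun C c => by
    change (M ≫ Limits.pullback.snd (p₁ ≫ q) (p₂ ≫ q)).app C c = _
    rw [hM, Limits.pullback.lift_snd, CategoryTheory.Category.comp_id]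
  set b₁ := (Limits.pullback.fst (p₁ ≫ q) (p₂ ≫ q)).app B y with hb₁
  set b₂ := (Limits.pullback.snd (p₁ ≫ q) (p₂ ≫ q)).app B y with hb₂
  have hz₁ : H₁.map μ b₁ = (Limits.pullback.fst p₁ p₂).app A z := by
    rw [hb₁, ← Groth.Agent.H24Art.nat', ← hM₁]
    exact congrArg _ hzy.symm
  have hz₂ : H₂.map μ b₂ = (Limits.pullback.snd p₁ p₂).app A z := by
    rw [hb₂, ← Groth.Agent.H24Art.nat', ← hM₂]
    exact congrArg _ hzy.symm
  have hq' : q.app B (p₁.app B b₁) = q.app B (p₂.app B b₂) :=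
    Groth.Agent.H24Art.pullback_elt_w (p₁ ≫ q) (p₂ ≫ q) y
  have hμg : G.map μ (p₁.app B b₁) = G.map μ (p₂.app B b₂) := by
    rw [← Groth.Agent.H24Art.nat' p₁, ← Groth.Agent.H24Art.nat' p₂, hz₁, hz₂,
      Groth.Agent.H24Art.pullback_elt_w]
  obtain ⟨P, r₁, r₂, g, d, hP, hPg, hd₁, hd₂, hdg⟩ := Groth.Agent.H24Art.exists_double hμ
  obtain ⟨w, hw⟩ := (hG r₁ r₂ μ μ hP hμ.1).2 ⟨(p₁.app B b₁, p₂.app B b₂), hμg⟩
  have e₁ : G.map r₁ w = p₁.app B b₁ := congrArg (fun c => c.1.1) hw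
  have e₂ : G.map r₂ w = p₂.app B b₂ := congrArg (fun c => c.1.2) hw
  have e : q.app P w = F.map d (q.app B (p₁.app B b₁)) := (hF r₁ r₂ μ μ hP hμ.1).1 (FibProd.ext
    (by change F.map r₁ (q.app P w) = F.map r₁ (F.map d _)
        rw [← Groth.Agent.H24Art.nat', e₁, ← Groth.Agent.H24Art.map_comp_apply' F d, hd₁,
          Groth.Agent.H24Art.map_id_apply'])
    (by change F.map r₂ (q.app P w) = F.map r₂ (F.map d _)
        rw [← Groth.Agent.H24Art.nat', e₂, ← Groth.Agent.H24Art.map_comp_apply' F d, hd₂,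
          Groth.Agent.H24Art.map_id_apply', hq']))
  have hgg : p₁.app B b₁ = p₂.app B b₂ := by
    rw [← e₁, ← e₂]
    refine (Groth.Agent.H24Art.snd_eq_fst_of_diff G (Groth.Agent.H24Art.heps_of_rs G hG) hPg hd₁ hd₂
      hdg w (hq ?_)).symm
    change q.app _ (G.map g w) = q.app _ (G.map _ (G.map r₁ w))
    rw [Groth.Agent.H24Art.nat', e, ← Groth.Agent.H24Art.map_comp_apply', hdg, e₁,
      ← Groth.Agent.H24Art.nat']
  obtain ⟨c, hc₁, hc₂⟩ := Groth.Agent.H24Art.exists_pullback_elt p₁ p₂ b₁ b₂ hgg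
  refine ⟨c, Subtype.ext (Prod.ext (Groth.Agent.H24Art.pullback_elt_ext p₁ p₂ ?_ ?_)
    (Groth.Agent.H24Art.pullback_elt_ext (p₁ ≫ q) (p₂ ≫ q) ((hM₁ B c).trans hc₁) ((hM₂ B c).trans hc₂)))⟩
  · exact (Groth.Agent.H24Art.nat' _ μ c).trans ((congrArg _ hc₁).trans hz₁)
  · exact (Groth.Agent.H24Art.nat' _ μ c).trans ((congrArg _ hc₂).trans hz₂)

end Groth.Agent.S12747
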