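import Groth.Statements.S12748
import Groth.Agent.H24Art.Relative

set_option autoImplicit false
universe u v
open CategoryTheory
open ArtFun ArtFun.CRing

namespace Groth.Agent.S12748

/-- Let R' → R be a morphism of complete local Noetherian Λ-algebras with residue field k with an
R'-algebra retraction ρ : R → R', so that R = R' ⊕ I for the ideal I = ker ρ; let x₁, …, x_r ∈ I map
to a basis of I/m_R I and let φ : R'[[X₁, …, X_r]] → R be an R'-algebra map sending X_i to x_i. If
for all large n the induced map R'[[X]]/m^n → R/m_R^n has a left inverse — a Λ-algebra map g_n : R →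
R'[[X]]/m^n with g_n ∘ φ equal to the quotient map — then φ is an isomorphism. -/
theorem result {Λ : Type u} {k : Type u} [CommRing Λ] [Field k] [Algebra Λ k]
    [IsNoetherianRing Λ] [Module.Finite Λ k]
    (R' R : ArtFun.CRing Λ k) [Algebra R'.carrier R.carrier] [IsScalarTower Λ R'.carrier R.carrier]
    (hc : R.res.comp (IsScalarTower.toAlgHom Λ R'.carrier R.carrier) = R'.res)
    (ρ : R.carrier →ₐ[R'.carrier] R'.carrier)
    (r : ℕ) (x : Fin r → R.carrier) (hxI : ∀ i, ρ (x i) = 0)
    (hspan : Ideal.span (Set.range x) ⊔ IsLocalRing.maximalIdeal R.carrier * RingHom.ker ρ = RingHom.ker ρ)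
    (hli : ∀ c : Fin r → R.carrier, (∑ i, c i * x i) ∈ IsLocalRing.maximalIdeal R.carrier * RingHom.ker ρ →
      ∀ i, c i ∈ IsLocalRing.maximalIdeal R.carrier)
    (φ : MvPowerSeries (Fin r) R'.carrier →ₐ[R'.carrier] R.carrier) (hφ : ∀ i, φ (MvPowerSeries.X i) = x i)
    (hinv : ∃ N : ℕ, ∀ n, N ≤ n →
      ∃ g : R.carrier →ₐ[Λ] (MvPowerSeries (Fin r) R'.carrier ⧸
          IsLocalRing.maximalIdeal (MvPowerSeries (Fin r) R'.carrier) ^ n),
        ∀ s, g (φ s) = Ideal.Quotient.mk _ s) :
    Function.Bijective φ := by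
  haveI := R'.isAdicComplete
  haveI : IsAdicComplete (IsLocalRing.maximalIdeal (MvPowerSeries (Fin r) R'.carrier)) (MvPowerSeries (Fin r) R'.carrier) :=
    Groth.Agent.H24Art.isAdicComplete_mvPowerSeries
  let T := Groth.Agent.H24Art.pscr R' r
  have hnon : ∀ c, ρ c = 0 → c ∈ IsLocalRing.maximalIdeal R.carrier := fun c hc0 h => not_isUnit_zero (hc0 ▸ IsUnit.map ρ h)
  have hresalg : ∀ a, R.res (algebraMap R'.carrier R.carrier a) = R'.res a :=
    fun a => congrArg (fun t : _ →ₐ[Λ] k => t a) hc
  have hker : RingHom.ker (R.res.toRingHom.comp φ.toRingHom) =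
      IsLocalRing.maximalIdeal (MvPowerSeries (Fin r) R'.carrier) := by
    refine IsLocalRing.eq_maximalIdeal (RingHom.ker_isMaximal_of_surjective _ fun c => ?_)
    obtain ⟨a, ha⟩ := R'.res_surjective c
    refine ⟨algebraMap R'.carrier _ a, ?_⟩
    change R.res (φ (algebraMap R'.carrier _ a)) = c
    rw [φ.commutes, hresalg, ha]
  have hf : R.res.comp (φ.restrictScalars Λ) = T.res := AlgHom.ext fun s => by
    obtain ⟨a, ha⟩ := R'.res_surjective (T.res s)
    have h1 : s - algebraMap R'.carrier (MvPowerSeries (Fin r) R'.carrier) a ∈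
        IsLocalRing.maximalIdeal (MvPowerSeries (Fin r) R'.carrier) := by
      rw [← MvPowerSeries.c_eq_algebraMap]
      refine (T.mem_maximalIdeal_iff _).mpr ?_
      rw [map_sub, sub_eq_zero, ← ha]
      exact (congrArg (fun t : _ →ₐ[Λ] k => t a) (Groth.Agent.H24Art.res_psC (R := R') (n := r))).symm
    rw [← hker, RingHom.mem_ker, map_sub, sub_eq_zero] at h1
    rw [← ha]
    refine h1.trans ?_
    change R.res (φ (algebraMap R'.carrier _ a)) = _
    rw [φ.commutes, hresalg]
  refine ⟨fun a b hab => ?_, ?_⟩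
  · obtain ⟨N, hN⟩ := hinv
    refine sub_eq_zero.mp (IsHausdorff.haus
      (inferInstance : IsHausdorff (IsLocalRing.maximalIdeal (MvPowerSeries (Fin r) R'.carrier)) _) (a - b) fun n => ?_)
    rw [SModEq.sub_mem, sub_zero, smul_eq_mul, Ideal.mul_top]
    obtain ⟨g, hg⟩ := hN (max n N) (le_max_right n N)
    refine Ideal.pow_le_pow_right (le_max_left n N) ?_
    rw [← Ideal.Quotient.eq, ← hg, ← hg, hab]
  · letI := Groth.Agent.H24Art.algK R
    refine Groth.Agent.H24Art.surjective_of_der T R (φ.restrictScalars Λ) hf fun D hD => Derivation.ext fun a => ?_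
    have hA : ∀ a', D (algebraMap R'.carrier R.carrier a') = 0 := fun a' => by
      rw [← φ.commutes]; exact hD _
    have hI : ∀ c ∈ RingHom.ker ρ, D c = 0 := by
      intro c hcI
      rw [← hspan] at hcI
      obtain ⟨u, hu, v, hv, rfl⟩ := Submodule.mem_sup.mp hcI
      have e1 : D u = 0 := by
        obtain ⟨w, rfl⟩ := (Ideal.mem_span_range_iff_exists_fun).mp hu
        rw [map_sum]
        refine Finset.sum_eq_zero fun i _ => ?_
        rw [D.leibniz, show D (x i) = 0 from hφ i ▸ hD (MvPowerSeries.X i), smul_zero, zero_add,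
          Groth.Agent.H24Art.smul_algK, (R.mem_maximalIdeal_iff _).mp (hnon _ (hxI i)), zero_mul]
      have e2 : D v = 0 := by
        refine Submodule.mul_induction_on hv (fun m hm c hc' => ?_) fun p q hp hq => by rw [map_add, hp, hq, add_zero]
        rw [D.leibniz, Groth.Agent.H24Art.smul_algK, Groth.Agent.H24Art.smul_algK,
          (R.mem_maximalIdeal_iff _).mp hm, (R.mem_maximalIdeal_iff _).mp (hnon _ hc'), zero_mul, zero_mul, add_zero]
      rw [map_add, e1, e2, add_zero]
    have h2 := hI (a - algebraMap R'.carrier R.carrier (ρ a)) (by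
      rw [RingHom.mem_ker, map_sub, ρ.commutes]; exact sub_self _)
    rw [map_sub, hA, sub_zero] at h2
    exact h2

end Groth.Agent.S12748
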