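import Groth.Statements.S12749
import Groth.Agent.H24Art.Prorep

set_option autoImplicit false
universe u v
open CategoryTheory
open ArtFun

namespace Groth.Agent.S12749

/-- For functors, suppose k admits no nonzero Λ-derivation into itself (that is, k is separable over the
image of Λ in k). Let F be a functor on Artinian local Λ-algebras with residue field k with F(k) a
point which satisfies (S2), and let ξ be a minimal versal family of F over a complete local
Noetherian R with residue field k: ξ is versal, and every morphism of such coefficient rings R' → R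
along which some formal element of F over R' pushes forward to the formal element of ξ is
surjective. Then ξ is a hull of F: it is moreover bijective on tangent spaces. (The published
statement, for arbitrary k, concludes that the tangent map of the minimal versal family is bijective
on orbits under the Λ-derivations of k; when k has no nonzero Λ-derivation into itself the orbits
are points and this is plain bijectivity, which is the case stated here.) -/
theorem result {Λ : Type u} {k : Type u} [CommRing Λ] [Field k] [Algebra Λ k]
    [IsNoetherianRing Λ] [Module.Finite Λ k]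
    (hk : Subsingleton (Derivation Λ k k))
    {F : ArtFun.Art Λ k ⥤ Type v} (h0 : ArtFun.H0 F) (h2 : ArtFun.Heps F)
    {R : ArtFun.CRing Λ k} (ξ : ArtFun.Family R.carrier R.res F) (hξ : ξ.IsMinimalVersal) :
    ArtFun.IsMiniversal ξ := by
  obtain ⟨R', π, hπ, ξ', hπs, hξ', hrel⟩ := Groth.Agent.H24Art.exists_hull_of_versal h0 h2 ξ hξ.1
    (Groth.Agent.H24Art.hc_of_subsingleton hk)
  obtain ⟨g, hg, hge⟩ := Groth.Agent.H24Art.exists_along R h0 ξ' hξ'.1 ξ.toFormalElt
  have hgs : Function.Surjective g := by
    refine hξ.2 R' ξ'.toFormalElt g hg (ArtFun.FormalElt.ext' fun n => ?_)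
    change F.map (ArtFun.CRing.truncMapOfHom g hg n) (ξ'.app _ (R'.truncHom n)) = _
    rw [← ξ'.natural, ← hge]
    exact congrArg (ξ'.app _) (Subtype.ext (AlgHom.ext fun _ => rfl))
  have hb := Groth.Agent.H24Art.bijective_of_surjective_endo (g.comp π)
    (by rw [← AlgHom.comp_assoc, hg, hπ]) (hgs.comp hπs)
  have hπb : Function.Bijective π :=
    ⟨fun a b e => hb.1 (congrArg g e), hπs⟩
  refine ⟨hξ.1, fun u u' e => ?_, fun θ => ?_⟩
  · let ei := AlgEquiv.ofBijective π hπb
    have mk : ∀ u : ArtFun.HomSet R.carrier R.res (ArtFun.Art.dual Λ k),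
        ∃ v : ArtFun.HomSet R'.carrier R'.res (ArtFun.Art.dual Λ k), v.1.comp π = u.1 := fun u =>
      ⟨⟨u.1.comp ei.symm.toAlgHom, AlgHom.ext fun r => by
        change (ArtFun.Art.dual Λ k).res (u.1 (ei.symm r)) = R'.res r
        refine (congrArg (fun t : _ →ₐ[Λ] k => t (ei.symm r)) u.2).trans ?_
        refine (congrArg (fun t : _ →ₐ[Λ] k => t (ei.symm r)) hπ).symm.trans ?_
        exact congrArg R'.res (ei.apply_symm_apply r)⟩,
       AlgHom.ext fun r => congrArg u.1 (ei.symm_apply_apply r)⟩
    obtain ⟨v, hv⟩ := mk u
    obtain ⟨v', hv'⟩ := mk u'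
    have hvv : v = v' := hξ'.2.1 ((hrel _ v).trans (((congrArg (ξ.app _) (Subtype.ext hv)).trans e).trans
      (((congrArg (ξ.app _) (Subtype.ext hv')).symm).trans (hrel _ v').symm)))
    exact Subtype.ext (hv.symm.trans ((congrArg (fun t : ArtFun.HomSet R'.carrier R'.res (ArtFun.Art.dual Λ k) => t.1.comp π) hvv).trans hv'))
  · obtain ⟨v, hv⟩ := hξ'.2.2 θ
    exact ⟨_, (hrel _ v).symm.trans hv⟩

end Groth.Agent.S12749
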