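import Groth.Statements.S12750
import Groth.Agent.H24Art.Cotangent

set_option autoImplicit false
universe u v
open CategoryTheory
open ArtFun ArtFun.Art

namespace Groth.Agent.S12750

/-- (1) ⇔ (3): let f : B → A be a morphism in the category of Artinian local Λ-algebras with residue
field k, and let q_B : B → B', q_A : A → A' be the quotients by m_Λ B + m_B² and m_Λ A + m_A² (m_Λ
the kernel of Λ → k), realised as surjective morphisms with these kernels, with f' : B' → A' the
induced morphism. Then f is an essential surjection — surjective, and every morphism g into B whose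
composite with f is surjective is itself surjective — if and only if f' is. (The intermediate
equivalence with the map B/m_B² → A/m_A² is the special case Λ-structure trivialised and follows by
applying this one twice.) -/
theorem result {Λ : Type u} {k : Type u} [CommRing Λ] [Field k] [Algebra Λ k]
    [IsNoetherianRing Λ] [Module.Finite Λ k]
    {A B A' B' : ArtFun.Art Λ k} (f : B ⟶ A)
    (qB : B ⟶ B') (hqB : Function.Surjective qB)
    (hkB : RingHom.ker qB.toAlgHom = Ideal.map (algebraMap Λ B) (RingHom.ker (algebraMap Λ k)) ⊔ IsLocalRing.maximalIdeal B ^ 2)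
    (qA : A ⟶ A') (hqA : Function.Surjective qA)
    (hkA : RingHom.ker qA.toAlgHom = Ideal.map (algebraMap Λ A) (RingHom.ker (algebraMap Λ k)) ⊔ IsLocalRing.maximalIdeal A ^ 2)
    (f' : B' ⟶ A') (hf' : qB ≫ f' = f ≫ qA) :
    (Function.Surjective f ∧ ∀ (C : ArtFun.Art Λ k) (g : C ⟶ B), Function.Surjective (g ≫ f) → Function.Surjective g) ↔ (Function.Surjective f' ∧ ∀ (C : ArtFun.Art Λ k) (g : C ⟶ B'), Function.Surjective (g ≫ f') → Function.Surjective g) := by
  have red : ∀ {X Y Y' : ArtFun.Art Λ k} (g : X ⟶ Y) (q : Y ⟶ Y') (_ : Function.Surjective q)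
      (_ : RingHom.ker q.toAlgHom = Ideal.map (algebraMap Λ Y) (RingHom.ker (algebraMap Λ k)) ⊔
        IsLocalRing.maximalIdeal Y ^ 2), Function.Surjective (g ≫ q) → Function.Surjective g := by
    intro X Y Y' g q hq hk hgq
    refine ((Groth.Agent.H24Art.tfae_art g).out 2 0).mp (le_antisymm ?_ fun y hy => ?_)
    · refine sup_le (sup_le ((Groth.Agent.H24Art.map_kerBase_le Y.res Y.res_surjective
        (AlgHom.id Λ Y)).trans (Ideal.map_id _).le) ?_) (Ideal.pow_le_self two_ne_zero)
      exact Ideal.map_le_iff_le_comap.mpr fun a ha => Groth.Agent.H24Art.map_mem_maximalIdeal g ha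
    · obtain ⟨x, hx⟩ := hgq (q y)
      have hxm : x ∈ IsLocalRing.maximalIdeal X := by
        rw [← Groth.Agent.H24Art.comap_maximalIdeal (g ≫ q), hx,
          Groth.Agent.H24Art.comap_maximalIdeal q]
        exact hy
      have hd : y - g x ∈ RingHom.ker q.toAlgHom := by
        rw [RingHom.mem_ker, map_sub, sub_eq_zero]; exact hx.symm
      rw [hk] at hd
      obtain ⟨a, ha, b, hb, hab⟩ := Submodule.mem_sup.mp hd
      have : y = a + g x + b := by linear_combination -hab
      rw [this]
      exact Submodule.add_mem_sup (Submodule.add_mem_sup ha (Ideal.mem_map_of_mem _ hxm)) hb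
  have hsurj : Function.Surjective f ↔ Function.Surjective f' := by
    constructor
    · intro hf
      have h : Function.Surjective (qB ≫ f') := by rw [hf']; exact hqA.comp hf
      exact Function.Surjective.of_comp (g := qB.toAlgHom) h
    · intro h
      refine red f qA hqA hkA ?_
      rw [← hf']; exact h.comp hqB
  constructor
  · rintro ⟨hf, hess⟩
    refine ⟨hsurj.mp hf, fun C g hg => ?_⟩
    obtain ⟨D, d₁, d₂, hD⟩ := Groth.Agent.H24Art.exists_fibre_of_surjective g qB hqB
    have hd₁ := Groth.Agent.H24Art.fst_surjective hD hqB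
    have h1 : Function.Surjective ((d₂ ≫ f) ≫ qA) := by
      rw [Category.assoc, ← hf', ← Category.assoc, ← hD.w, Category.assoc]
      exact hg.comp hd₁
    have h2 := hess D d₂ (red _ qA hqA hkA h1)
    intro b
    obtain ⟨b₀, rfl⟩ := hqB b
    obtain ⟨d, rfl⟩ := h2 b₀
    exact ⟨d₁ d, hD.w_apply d⟩
  · rintro ⟨hf, hess⟩
    refine ⟨hsurj.mpr hf, fun C g hg => red g qB hqB hkB (hess C (g ≫ qB) ?_)⟩
    rw [Category.assoc, hf', ← Category.assoc]
    exact hqA.comp hg

end Groth.Agent.S12750
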