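import Groth.Statements.S12751
import Groth.Agent.H24Art.Cotangent
import Mathlib.RingTheory.Kaehler.Basic

set_option autoImplicit false
universe u v
open CategoryTheory
open scoped TensorProduct
open ArtFun ArtFun.Art

namespace Groth.Agent.S12751

/-- A morphism f : B → A in the category of Artinian local Λ-algebras with residue field k is surjective
if and only if Ω_{B/Λ} ⊗_B k → Ω_{A/Λ} ⊗_A k is surjective; by right exactness of the sequence
Ω_{B/Λ} ⊗_B A → Ω_{A/Λ} → Ω_{A/B} → 0 this surjectivity is the vanishing of Ω_{A/B} ⊗_A k, which is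
how it is written here (A a B-algebra through f, k an A-module through the augmentation). -/
theorem result {Λ : Type u} {k : Type u} [CommRing Λ] [Field k] [Algebra Λ k]
    [IsNoetherianRing Λ] [Module.Finite Λ k]
    {A B : ArtFun.Art Λ k} (f : B ⟶ A) :
    letI : Algebra B A := f.toAlgHom.toRingHom.toAlgebra
    letI : Algebra A k := A.res.toRingHom.toAlgebra
    Function.Surjective f ↔ Subsingleton (k ⊗[A] Ω[A⁄B]) := by
  letI algBA : Algebra B A := f.toAlgHom.toRingHom.toAlgebra
  letI algAk : Algebra A k := A.res.toRingHom.toAlgebra
  constructor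
  · intro hf
    haveI : Subsingleton Ω[A⁄B] := KaehlerDifferential.subsingleton_of_surjective B A hf
    exact ⟨fun x y => by
        have hz : ∀ t : k ⊗[A] Ω[A⁄B], t = 0 := fun t => by
          induction t using TensorProduct.induction_on with
          | zero => rfl
          | tmul a w => rw [Subsingleton.elim w 0, TensorProduct.tmul_zero]
          | add a b ha hb => rw [ha, hb, add_zero]
        rw [hz x, hz y]⟩
  · intro hsub
    haveI : IsScalarTower Λ A k := IsScalarTower.of_algebraMap_eq fun r => (A.res.commutes r).symm
    haveI := Groth.Agent.H24Art.isPrecomplete_of_isNilpotent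
      (Groth.Agent.H24Art.isNilpotent_maximalIdeal B)
    refine Groth.Agent.H24Art.surjective_of_cotangent f.toAlgHom.toRingHom (fun s => ?_) ?_
    · obtain ⟨r, hr⟩ := B.res_surjective (A.res s)
      refine ⟨r, ?_⟩
      rw [ArtFun.Art.mem_maximalIdeal_iff, map_sub, sub_eq_zero, ← hr]
      exact (ArtFun.Art.res_app f r).symm
    refine Groth.Agent.H24Art.cotangent_eq_of_derivation B.res B.res_surjective A.res_surjective
      f.toAlgHom (AlgHom.ext fun r => ArtFun.Art.res_app f r) fun D hD => ?_
    letI : Algebra B k := ((algebraMap A k).comp (algebraMap B A)).toAlgebra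
    haveI : IsScalarTower B A k := IsScalarTower.of_algebraMap_eq fun _ => rfl
    let D' : Derivation B A k := Derivation.mk'
      { toFun := fun a => D a
        map_add' := fun x y => map_add D x y
        map_smul' := fun b x => by
          change D (b • x) = b • D x
          have hb : D (algebraMap B A b) = 0 := hD b
          rw [Algebra.smul_def, D.leibniz, hb, smul_zero, add_zero, algebraMap_smul] }
      fun x y => D.leibniz x y
    let φ : k ⊗[A] Ω[A⁄B] →ₗ[A] k :=
      TensorProduct.lift ((LinearMap.mul A k).compl₂ D'.liftKaehlerDifferential)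
    ext a
    have h1 : φ (1 ⊗ₜ KaehlerDifferential.D B A a) = D a := by
      change (1 : k) * D'.liftKaehlerDifferential (KaehlerDifferential.D B A a) = D a
      rw [Derivation.liftKaehlerDifferential_comp_D, one_mul]
      rfl
    rw [← h1, Subsingleton.elim (1 ⊗ₜ KaehlerDifferential.D B A a) (0 : k ⊗[A] Ω[A⁄B]), map_zero]
    rfl

end Groth.Agent.S12751
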