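import Groth.Statements.S12753
import Groth.Agent.H24Art.Essential

set_option autoImplicit false
set_option linter.style.haveILetI false
universe u v
open CategoryTheory
open ArtFun ArtFun.Art

open Groth.Agent
namespace Groth.Agent.S12753

/-- Suppose k is separable over the image of Λ → k. A morphism f : B → A in the category of Artinian
local Λ-algebras with residue field k is an essential surjection (surjective, and any morphism g
into B with g followed by f surjective is surjective) if and only if the map of cotangent spaces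
relative to Λ, m_B/(m_Λ B + m_B²) → m_A/(m_Λ A + m_A²), is an isomorphism; surjectivity and
injectivity are written out in terms of ideals, m_Λ being the kernel of Λ → k. -/
theorem result {Λ : Type u} {k : Type u} [CommRing Λ] [Field k] [Algebra Λ k]
    [IsNoetherianRing Λ] [Module.Finite Λ k]
    [Algebra.IsSeparable (↥(algebraMap Λ k).range) k]
    {A B : ArtFun.Art Λ k} (f : B ⟶ A) :
    (Function.Surjective f ∧ ∀ (C : ArtFun.Art Λ k) (g : C ⟶ B), Function.Surjective (g ≫ f) → Function.Surjective g) ↔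
      (Ideal.map (algebraMap Λ A) (RingHom.ker (algebraMap Λ k)) ⊔ Ideal.map f.toAlgHom (IsLocalRing.maximalIdeal B) ⊔ IsLocalRing.maximalIdeal A ^ 2 =
          IsLocalRing.maximalIdeal A ∧
        ∀ b ∈ IsLocalRing.maximalIdeal B, f b ∈ Ideal.map (algebraMap Λ A) (RingHom.ker (algebraMap Λ k)) ⊔ IsLocalRing.maximalIdeal A ^ 2 →
          b ∈ Ideal.map (algebraMap Λ B) (RingHom.ker (algebraMap Λ k)) ⊔ IsLocalRing.maximalIdeal B ^ 2) := by
  rw [H24Art.Essential.essential_iff]
  set JA := Ideal.map (algebraMap Λ A) (RingHom.ker (algebraMap Λ k)) ⊔ IsLocalRing.maximalIdeal A ^ 2 with hJA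
  have htfae : Function.Surjective f ↔ Ideal.map (algebraMap Λ A) (RingHom.ker (algebraMap Λ k)) ⊔
      Ideal.map f.toAlgHom (IsLocalRing.maximalIdeal B) ⊔ IsLocalRing.maximalIdeal A ^ 2 =
        IsLocalRing.maximalIdeal A := (H24Art.tfae_art f).out 0 2
  rw [← htfae]
  refine and_congr_right fun hf => ⟨fun hk b hb hfb => ?_, fun hinj => ?_⟩
  · letI : Algebra B k := B.res.toRingHom.toAlgebra
    by_contra hbJ
    have hJ : JA ≤ Ideal.map f.toAlgHom (Ideal.map (algebraMap Λ B) (RingHom.ker (algebraMap Λ k)) ⊔ IsLocalRing.maximalIdeal B ^ 2) := by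
      rw [hJA, Ideal.map_sup, Ideal.map_pow]
      refine sup_le_sup (Ideal.map_le_iff_le_comap.mpr fun l hl => ?_) (Ideal.pow_right_mono (fun a ha => ?_) 2)
      · rw [Ideal.mem_comap, ← f.toAlgHom.commutes]
        exact Ideal.mem_map_of_mem _ (Ideal.mem_map_of_mem _ hl)
      · obtain ⟨b', rfl⟩ := hf a
        exact Ideal.mem_map_of_mem _ ((H24Art.comap_maximalIdeal f).mp ha)
    obtain ⟨j, hj, hjb⟩ := (Ideal.mem_map_iff_of_surjective _ hf).mp (hJ hfb)
    obtain ⟨D, hDt, hDJ⟩ := H24Art.Essential.exists_derivation_ne_zero B hb hbJ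
    have h := hk D (b - j) (by rw [map_sub, hjb, sub_self])
    rw [map_sub, hDJ j hj, sub_zero] at h
    exact hDt h
  · letI : Algebra B k := B.res.toRingHom.toAlgebra
    haveI : IsScalarTower Λ B k := IsScalarTower.of_algebraMap_eq fun r => (B.res.commutes r).symm
    intro D i hi
    have him : i ∈ IsLocalRing.maximalIdeal B := H24Art.ker_le_maximalIdeal f (RingHom.mem_ker.mpr hi)
    have hij := hinj i him (by rw [hi]; exact zero_mem _)
    obtain ⟨x, hx, y, hy, rfl⟩ := Submodule.mem_sup.mp hij
    have hres0 : ∀ z ∈ IsLocalRing.maximalIdeal B, algebraMap B k z = 0 := fun z hz => (B.mem_maximalIdeal_iff z).mp hz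
    have hx0 : D x = 0 ∧ algebraMap B k x = 0 := by
      refine Submodule.span_induction ?_ ⟨map_zero D, map_zero _⟩ (fun a b _ _ ha hb => ⟨by rw [map_add, ha.1, hb.1, add_zero], by rw [map_add, ha.2, hb.2, add_zero]⟩) (fun a b _ hb => ⟨by rw [smul_eq_mul, D.leibniz, hb.1, smul_zero, zero_add, Algebra.smul_def, hb.2, zero_mul], by rw [smul_eq_mul, map_mul, hb.2, mul_zero]⟩) hx
      rintro _ ⟨l, hl, rfl⟩
      exact ⟨D.map_algebraMap l, (IsScalarTower.algebraMap_apply Λ B k l).symm.trans hl⟩
    have hy0 : D y = 0 := by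
      rw [pow_two] at hy
      refine Submodule.mul_induction_on hy (fun a ha b hb => ?_) (fun a b ha hb => by rw [map_add, ha, hb, add_zero])
      rw [D.leibniz, Algebra.smul_def, Algebra.smul_def, hres0 a ha, hres0 b hb, zero_mul, zero_mul, add_zero]
    rw [map_add, hx0.1, hy0, add_zero]

end Groth.Agent.S12753
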