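import Groth.Statements.S12754
import Mathlib.Algebra.Category.FGModuleCat.Basic
import Mathlib.LinearAlgebra.Dimension.Free

set_option autoImplicit false
set_option linter.style.haveILetI false
universe u
open CategoryTheory
open ArtFun

namespace Groth.Agent.S12754

/-- A K-linear functor L from finite-dimensional K-vector spaces to K-vector spaces (K a field) is
isomorphic to the functor V ↦ L(K) ⊗_K V. (Existence of an isomorphism of functors, which is how the
published statement reads; the natural choice sends x ⊗ v to L(f_v)(x) with f_v : K → V, 1 ↦ v.) -/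
theorem result (K : Type u) [Field K]
    (L : FGModuleCat.{u} K ⥤ ModuleCat.{u} K) [L.Additive] [Functor.Linear K L] :
    Nonempty (L ≅ (ModuleCat.isFG.{u} K).ι ⋙ MonoidalCategory.tensorLeft (L.obj (FGModuleCat.of K K))) := by
  classical
  let P := FGModuleCat.of K K
  have Lsum : ∀ {A B : FGModuleCat.{u} K} (n : ℕ) (g : Fin n → (A ⟶ B)),
      L.map (∑ i, g i) = ∑ i, L.map (g i) := fun n g => L.map_sum g Finset.univ
  let fv : ∀ (V : FGModuleCat.{u} K), V → (P ⟶ V) := fun V v =>
    ConcreteCategory.ofHom (LinearMap.toSpanSingleton K V v)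
  have fv_add : ∀ (V : FGModuleCat.{u} K) (v w : V), fv V (v + w) = fv V v + fv V w := fun V v w =>
    FGModuleCat.hom_ext (LinearMap.toSpanSingleton_add _ _)
  have fv_smul : ∀ (V : FGModuleCat.{u} K) (c : K) (v : V), fv V (c • v) = c • fv V v := fun V c v =>
    FGModuleCat.hom_ext (LinearMap.toSpanSingleton_smul _ _)
  let B : ∀ (V : FGModuleCat.{u} K), V →ₗ[K] ((L.obj P : Type u) →ₗ[K] (L.obj V : Type u)) := fun V =>
    { toFun := fun v => (L.map (fv V v)).hom
      map_add' := fun v w => by rw [fv_add, L.map_add]; rfl
      map_smul' := fun c v => by rw [fv_smul, L.map_smul]; rfl }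
  let θ' : ∀ (V : FGModuleCat.{u} K), TensorProduct K (L.obj P : Type u) V →ₗ[K] (L.obj V : Type u) := fun V =>
    TensorProduct.lift (B V).flip
  have hθ' : ∀ (V : FGModuleCat.{u} K) x (v : V), θ' V (TensorProduct.tmul K x v) = (L.map (fv V v)).hom x :=
    fun V x v => rfl
  let θ : (ModuleCat.isFG.{u} K).ι ⋙ MonoidalCategory.tensorLeft (L.obj P) ⟶ L :=
    { app := fun V => ModuleCat.ofHom (θ' V)
      naturality := fun V W g => by
        apply ModuleCat.hom_ext
        refine TensorProduct.ext' fun x v => ?_
        show θ' W (TensorProduct.tmul K x (g.hom.hom v)) = (L.map g).hom (θ' V (TensorProduct.tmul K x v))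
        rw [hθ', hθ', show fv W (g.hom.hom v) = fv V v ≫ g from
          FGModuleCat.hom_ext (LinearMap.ext fun c => ((map_smul g.hom.hom c v).symm)), L.map_comp]
        rfl }
  haveI : ∀ V, IsIso (θ.app V) := by
    intro V
    let b := Module.finBasis K V
    let cf : Fin (Module.finrank K V) → (V ⟶ P) := fun i => ConcreteCategory.ofHom (b.coord i)
    let inv' : (L.obj V : Type u) →ₗ[K] TensorProduct K (L.obj P : Type u) V :=
      ∑ i, ((TensorProduct.mk K (L.obj P : Type u) V).flip (b i)) ∘ₗ (L.map (cf i)).hom
    have hsum : ∑ i, cf i ≫ fv V (b i) = 𝟙 V := by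
      apply FGModuleCat.hom_ext
      ext x
      show (∑ i, cf i ≫ fv V (b i) : V ⟶ V).hom.hom x = x
      have : ∀ (s : Finset (Fin (Module.finrank K V))),
          (∑ i ∈ s, cf i ≫ fv V (b i) : V ⟶ V).hom.hom x = ∑ i ∈ s, b.coord i x • b i := by
        intro s
        induction s using Finset.induction with
        | empty => rfl
        | insert a s ha ih => rw [Finset.sum_insert ha, Finset.sum_insert ha, ← ih]; rfl
      rw [this]
      exact b.sum_repr x
    have hinv : ∀ y, inv' y = ∑ i, TensorProduct.tmul K ((L.map (cf i)).hom y) (b i) := fun y => by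
      simp [inv', LinearMap.sum_apply]
    have h1 : ∀ y, θ' V (inv' y) = y := by
      intro y
      rw [hinv, map_sum]
      have : ∀ i, θ' V (TensorProduct.tmul K ((L.map (cf i)).hom y) (b i)) = (L.map (cf i ≫ fv V (b i))).hom y := by
        intro i
        rw [hθ', L.map_comp]
        rfl
      simp only [this]
      have e : L.map (∑ i, cf i ≫ fv V (b i)) = ∑ i, L.map (cf i ≫ fv V (b i)) := Lsum _ _
      rw [hsum, L.map_id] at e
      have := congrArg (fun f : L.obj V ⟶ L.obj V => f.hom y) e
      simp only [ModuleCat.hom_sum, LinearMap.sum_apply] at this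
      exact this.symm
    have h2 : ∀ z, inv' (θ' V z) = z := by
      intro z
      induction z with
      | zero => simp
      | add a c ha hc => rw [map_add, map_add, ha, hc]
      | tmul x v =>
        rw [hθ', hinv]
        have : ∀ i, (L.map (cf i)).hom ((L.map (fv V v)).hom x) = b.coord i v • x := by
          intro i
          have e : fv V v ≫ cf i = b.coord i v • 𝟙 P := by
            apply FGModuleCat.hom_ext
            apply LinearMap.ext_ring
            show b.coord i ((1 : K) • v) = b.coord i v • (1 : K)
            simp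
          have := congrArg (fun f : P ⟶ P => (L.map f).hom x) e
          simp only [L.map_smul, L.map_id, L.map_comp] at this
          exact this
        simp only [this, TensorProduct.smul_tmul, ← TensorProduct.tmul_sum]
        congr 1
        exact b.sum_repr v
    exact ⟨ModuleCat.ofHom inv', ModuleCat.hom_ext (LinearMap.ext h2), ModuleCat.hom_ext (LinearMap.ext h1)⟩
  haveI : IsIso θ := NatIso.isIso_of_isIso_app θ
  exact ⟨(asIso θ).symm⟩

end Groth.Agent.S12754
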