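import Groth.Statements.S12755
import Groth.Agent.H24Art.Double

set_option autoImplicit false
universe u v
open CategoryTheory
open ArtFun

namespace Groth.Agent.S12755

/-- For functors on Artinian local Λ-algebras with residue field k, the composite of two smooth
morphisms φ : F → G and ψ : G → H is smooth. -/
theorem result {Λ : Type u} {k : Type u} [CommRing Λ] [Field k] [Algebra Λ k]
    [IsNoetherianRing Λ] [Module.Finite Λ k]
    {F G H : ArtFun.Art Λ k ⥤ Type v} (φ : F ⟶ G) (ψ : G ⟶ H)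
    (hφ : ArtFun.IsSmooth φ) (hψ : ArtFun.IsSmooth ψ) : ArtFun.IsSmooth (φ ≫ ψ) := by
  rintro B A μ hμ ⟨⟨x, z⟩, h⟩
  obtain ⟨y, hy⟩ := hψ μ hμ ⟨(φ.app A x, z), h⟩
  have hy₁ : G.map μ y = φ.app A x := congrArg (fun w => w.1.1) hy
  have hy₂ : ψ.app B y = z := congrArg (fun w => w.1.2) hy
  obtain ⟨x', hx⟩ := hφ μ hμ ⟨(x, y), hy₁.symm⟩
  have hx₁ : F.map μ x' = x := congrArg (fun w => w.1.1) hx
  have hx₂ : φ.app B x' = y := congrArg (fun w => w.1.2) hx
  refine ⟨x', Subtype.ext (Prod.ext hx₁ ?_)⟩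
  change ψ.app B (φ.app B x') = z
  rw [hx₂, hy₂]

end Groth.Agent.S12755
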