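import Groth.Statements.S12757
import Groth.Agent.H24Art.Prorep

set_option autoImplicit false
universe u v
open CategoryTheory
open ArtFun

namespace Groth.Agent.S12757

/-- For functors, let F be a functor on Artinian local Λ-algebras with residue field k with F(k) a
point. A versal family of F over a complete local Noetherian R with residue field k which is
bijective on tangent spaces (a hull; bijectivity implies bijectivity on orbits of the derivations of
k) is minimal: every morphism of coefficient rings R' → R along which some formal element over R'
pushes forward to the formal element of the family is surjective. -/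
theorem result {Λ : Type u} {k : Type u} [CommRing Λ] [Field k] [Algebra Λ k]
    [IsNoetherianRing Λ] [Module.Finite Λ k]
    {F : ArtFun.Art Λ k ⥤ Type v} (h0 : ArtFun.H0 F) (P : ArtFun.Hull F) :
    P.family.IsMinimalVersal := by
  refine ⟨P.miniversal.1, fun R' u f hf hu => ?_⟩
  obtain ⟨h, hh, he⟩ := Groth.Agent.H24Art.exists_along R' h0 P.family P.miniversal.1 u
  have hfh : P.ring.res.comp (f.comp h) = P.ring.res := by rw [← AlgHom.comp_assoc, hf, hh]
  have hfe : (P.family.along (f.comp h) hfh).toFormalElt = P.family.toFormalElt := by
    rw [← hu, ← he]
    refine ArtFun.FormalElt.ext' fun n => ?_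
    change _ = F.map (ArtFun.CRing.truncMapOfHom f hf n) (P.family.app _ _)
    refine Eq.trans ?_ (P.family.natural _ _)
    exact congrArg (P.family.app _) (Subtype.ext (AlgHom.ext fun _ => rfl))
  have key := Groth.Agent.H24Art.family_app_eq hfe
  have hb := Groth.Agent.H24Art.bijective_of_tangent_injective (f.comp h) hfh fun v v' e =>
    P.miniversal.2.1 ((key (ArtFun.Art.dual Λ k) v).symm.trans
      ((congrArg (P.family.app _) (Subtype.ext e)).trans (key (ArtFun.Art.dual Λ k) v')))
  exact Function.Surjective.of_comp (g := h) hb.2

end Groth.Agent.S12757
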