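import Groth.Statements.S12758
import Groth.Agent.H24Art.Prorep

set_option autoImplicit false
universe u v
open CategoryTheory
open ArtFun

namespace Groth.Agent.S12758

/-- For functors, two minimal versal families of a functor F on Artinian local Λ-algebras with residue
field k with F(k) a point — over complete local Noetherian coefficient rings R₁, R₂ with residue
field k — are isomorphic: there is an isomorphism R₁ ≅ R₂ over Λ, compatible with the augmentations,
along which the formal element of the first family pushes forward to that of the second. -/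
theorem result {Λ : Type u} {k : Type u} [CommRing Λ] [Field k] [Algebra Λ k]
    [IsNoetherianRing Λ] [Module.Finite Λ k]
    {F : ArtFun.Art Λ k ⥤ Type v} (h0 : ArtFun.H0 F) {R₁ R₂ : ArtFun.CRing Λ k}
    (ξ₁ : ArtFun.Family R₁.carrier R₁.res F) (ξ₂ : ArtFun.Family R₂.carrier R₂.res F)
    (h₁ : ξ₁.IsMinimalVersal) (h₂ : ξ₂.IsMinimalVersal) :
    ∃ (e : R₁.carrier ≃ₐ[Λ] R₂.carrier) (he : R₂.res.comp (e : R₁.carrier →ₐ[Λ] R₂.carrier) = R₁.res),
      (ξ₁.along (e : R₁.carrier →ₐ[Λ] R₂.carrier) he).toFormalElt = ξ₂.toFormalElt := by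
  obtain ⟨g, hg, hge⟩ := Groth.Agent.H24Art.exists_along R₂ h0 ξ₁ h₁.1 ξ₂.toFormalElt
  obtain ⟨g', hg', hge'⟩ := Groth.Agent.H24Art.exists_along R₁ h0 ξ₂ h₂.1 ξ₁.toFormalElt
  have hgs : Function.Surjective g := by
    refine h₂.2 R₁ ξ₁.toFormalElt g hg (ArtFun.FormalElt.ext' fun n => ?_)
    change F.map (ArtFun.CRing.truncMapOfHom g hg n) (ξ₁.app _ (R₁.truncHom n)) = _
    rw [← ξ₁.natural, ← hge]
    exact congrArg (ξ₁.app _) (Subtype.ext (AlgHom.ext fun _ => rfl))
  have hgs' : Function.Surjective g' := by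
    refine h₁.2 R₂ ξ₂.toFormalElt g' hg' (ArtFun.FormalElt.ext' fun n => ?_)
    change F.map (ArtFun.CRing.truncMapOfHom g' hg' n) (ξ₂.app _ (R₂.truncHom n)) = _
    rw [← ξ₂.natural, ← hge']
    exact congrArg (ξ₂.app _) (Subtype.ext (AlgHom.ext fun _ => rfl))
  have hb := Groth.Agent.H24Art.bijective_of_surjective_endo (g'.comp g)
    (by rw [← AlgHom.comp_assoc, hg', hg]) (hgs'.comp hgs)
  exact ⟨AlgEquiv.ofBijective g ⟨fun a b e => hb.1 (congrArg g' e), hgs⟩, hg, hge⟩

end Groth.Agent.S12758
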