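-- statement FlatMor.GrothFrozen.S1276 (Groth/Statements/S1276.lean; the theorem FlatMor.exists_fg_ideal_annihilating_cutting_fiber_support);
import Groth.Statements.S1276
import Mathlib

set_option autoImplicit false
universe u
open FlatMor

namespace Groth.Agent.S1276
open scoped TensorProduct
attribute [local instance] Algebra.TensorProduct.rightAlgebra
set_option backward.isDefEq.respectTransparency false
set_option synthInstance.maxHeartbeats 400000

theorem nontrivial_field_tensor {k K V : Type u} [Field k] [Field K] [Algebra k K] [AddCommGroup V]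
    [Module k V] : Nontrivial (K ⊗[k] V) ↔ Nontrivial V :=
  Module.FaithfullyFlat.nontrivial_tensorProduct_iff_right k K

/-- Let B be a finite type A-algebra, N a finite B-module and p a prime of A. Then there is a finitely
generated ideal J of B annihilating N (so N is a module on the finitely presented closed subscheme
V(J) of Spec B) such that a point of the fibre Spec(κ(p) ⊗ B) lies in V(J) if and only if it lies in
the support of the fibre module of N. -/
theorem result {A B : Type u} [CommRing A] [CommRing B] [Algebra A B] [Algebra.FiniteType A B]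
    (N : Type u) [AddCommGroup N] [Module B N] [Module A N] [IsScalarTower A B N] [Module.Finite B N] (p : Ideal A) [p.IsPrime] :
    ∃ J : Ideal B, J.FG ∧ J ≤ Module.annihilator B N ∧
      ∀ x : PrimeSpectrum (p.Fiber B), FlatCA.fiberIdeal p J ≤ x.asIdeal ↔ x ∈ Module.support (p.Fiber B) (FlatCA.fiberMod p B N) := by
  classical
  let F := p.Fiber B
  let φ : B →+* F :=
    (Algebra.TensorProduct.includeRight (R := A) (A := p.ResidueField) (B := B)).toRingHom
  have : IsNoetherianRing F := Algebra.FiniteType.isNoetherianRing p.ResidueField _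
  let Z := Module.annihilator B N
  obtain ⟨s, hs, hspan⟩ := (Submodule.fg_span_iff_fg_span_finset_subset (R := F) (φ '' (Z : Set B))).mp
    (IsNoetherian.noetherian _)
  obtain ⟨t, ht, rfl⟩ := Finset.subset_set_image_iff.mp hs
  refine ⟨Ideal.span (t : Set B), ⟨t, rfl⟩, Ideal.span_le.mpr ht, fun x => ?_⟩
  have hJ : FlatCA.fiberIdeal p (Ideal.span (t : Set B)) = Z.map φ := by
    change Ideal.map φ _ = _
    rw [Ideal.map_span, ← Finset.coe_image]
    exact hspan.symm
  rw [hJ, Ideal.map_le_iff_le_comap]
  have hsupp : PrimeSpectrum.comap φ x ∈ Module.support B N ↔ Z ≤ x.asIdeal.comap φ := by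
    rw [Module.support_eq_zeroLocus]
    exact PrimeSpectrum.mem_zeroLocus _ _
  rw [← hsupp]
  have : Module.Finite F (F ⊗[B] N) := inferInstance
  change _ ↔ x ∈ Module.support F (F ⊗[B] N)
  rw [Module.mem_support_iff_nontrivial_residueField_tensorProduct,
    Module.mem_support_iff_nontrivial_residueField_tensorProduct]
  let k := (PrimeSpectrum.comap φ x).asIdeal.ResidueField
  let K := x.asIdeal.ResidueField
  let : Algebra k K :=
    (Ideal.ResidueField.map (PrimeSpectrum.comap φ x).asIdeal x.asIdeal φ rfl).toAlgebra
  have : IsScalarTower B k K := IsScalarTower.of_algebraMap_eq fun b => by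
    simp [RingHom.algebraMap_toAlgebra, k, K, IsScalarTower.algebraMap_apply B F x.asIdeal.ResidueField,
      φ]
    rfl
  let e : K ⊗[F] (F ⊗[B] N) ≃ₗ[K] K ⊗[k] (k ⊗[B] N) :=
    TensorProduct.AlgebraTensorModule.cancelBaseChange B F K K N ≪≫ₗ
      (TensorProduct.AlgebraTensorModule.cancelBaseChange B k K K N).symm
  rw [e.nontrivial_congr, nontrivial_field_tensor (k := k) (K := K)]

end Groth.Agent.S1276
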