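import Groth.Statements.S12766
import Groth.Agent.H14AlgSt.Bootstrap

set_option autoImplicit false
set_option backward.isDefEq.respectTransparency false
set_option backward.isDefEq.respectTransparency.types false
open CategoryTheory AlgebraicGeometry
universe u
open AlgSt

namespace Groth.Agent.S12766

/-- Let `𝒳`, `𝒴`, `𝒵` be fibred in groupoids over `(Sch/S)`, `f : 𝒳 ⟶ 𝒴` representable by algebraic
spaces, `g : 𝒵 ⟶ 𝒴` a 1-morphism and `𝒵` representable by an algebraic space. Then the 2-fibre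
product `𝒵 ×_𝒴 𝒳` is representable by an algebraic space. -/
theorem result {S : Scheme.{u}} {𝒳 𝒴 𝒵 : AlgSt.Cat S}
    (h𝒳 : FibCat.IsFibGrpd 𝒳.p) (h𝒴 : FibCat.IsFibGrpd 𝒴.p) (h𝒵 : FibCat.IsFibGrpd 𝒵.p)
    (f : 𝒳 ⥤ᵇ 𝒴) (g : 𝒵 ⥤ᵇ 𝒴) (hf : AlgSt.RepByAlgSp1 f) (hZ : AlgSt.RepByAlgSp 𝒵) :
    AlgSt.RepByAlgSp (FibCat.fp g f) := by
  exact Groth.Agent.H14AlgSt.repByAlgSp_fp h𝒳 h𝒴 hf g hZ

end Groth.Agent.S12766
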