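-- statement FlatMor.GrothFrozen.S1277 (Groth/Statements/S1277.lean; the theorem FlatMor.flatAboveClosedPoints_iff_of_flat_local_extension);
import Groth.Statements.S1277
import Groth.Agent.H7Flat.FlatAtFinite
import Mathlib

set_option autoImplicit false
universe u
open FlatMor

namespace Groth.Agent.S1277
open scoped TensorProduct
set_option backward.isDefEq.respectTransparency false
set_option maxHeartbeats 1000000
set_option synthInstance.maxHeartbeats 400000

lemma nontrivial_tensor (k K L : Type u) [Field k] [CommRing K] [Algebra k K] [Nontrivial K]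
    [CommRing L] [Algebra k L] [Nontrivial L] : Nontrivial (K ⊗[k] L) :=
  Algebra.TensorProduct.nontrivial_of_algebraMap_injective_of_flat_left k K L (algebraMap k L).injective

open IsLocalRing in
/-- Let A be a local ring, A → B a local homomorphism of local rings, B → C a flat local homomorphism of
local rings, M a B-module and N = M ⊗_B C. For every local homomorphism of local rings A → A', with
base changes B' = B ⊗_A A', M', C' = C ⊗_A A', N' (any models): M' is flat over A' at every prime of
B' containing 𝔪_{A'}B' + 𝔪_B B' if and only if N' is flat over A' at every prime of C' containing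
𝔪_{A'}C' + 𝔪_C C'. -/
theorem result {A B C : Type u} [CommRing A] [IsLocalRing A] [CommRing B] [IsLocalRing B] [CommRing C] [IsLocalRing C]
    [Algebra A B] [IsLocalHom (algebraMap A B)] [Algebra B C] [IsLocalHom (algebraMap B C)] [Algebra A C] [IsScalarTower A B C] [Module.Flat B C]
    (M : Type u) [AddCommGroup M] [Module B M] (N : Type u) [AddCommGroup N] [Module C N] [Module B N] [IsScalarTower B C N]
    (g : M →ₗ[B] N) (hg : IsBaseChange C g)
    (A' : Type u) [CommRing A'] [IsLocalRing A'] [Algebra A A'] [IsLocalHom (algebraMap A A')]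
    (B' M' : Type u) [CommRing B'] [Algebra B B'] [Algebra A' B'] [Algebra A B'] [IsScalarTower A B B'] [IsScalarTower A A' B']
        [Algebra.IsPushout A B A' B']
        [AddCommGroup M'] [Module B' M'] [Module B M'] [IsScalarTower B B' M'] [Module A' M'] [IsScalarTower A' B' M']
        (fB : M →ₗ[B] M') (hfB : IsBaseChange B' fB)
    (C' N' : Type u) [CommRing C'] [Algebra C C'] [Algebra A' C'] [Algebra A C'] [IsScalarTower A C C'] [IsScalarTower A A' C']
        [Algebra.IsPushout A C A' C']
        [AddCommGroup N'] [Module C' N'] [Module C N'] [IsScalarTower C C' N'] [Module A' N'] [IsScalarTower A' C' N']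
        (fC : N →ₗ[C] N') (hfC : IsBaseChange C' fC) :
    FlatCA.FlatAboveClosedPoints B A' B' M' ↔ FlatCA.FlatAboveClosedPoints C A' C' N' := by
  let fB₀ : B →ₐ[A] C' := (IsScalarTower.toAlgHom A C C').comp (IsScalarTower.toAlgHom A B C)
  let gA : A' →ₐ[A] C' := IsScalarTower.toAlgHom A A' C'
  let φ : B' →ₐ[A] C' := Algebra.pushoutDesc B' fB₀ gA fun _ _ => mul_comm _ _
  let : Algebra B' C' := φ.toRingHom.toAlgebra
  have hφA : ∀ x, φ (algebraMap A' B' x) = algebraMap A' C' x := fun x => Algebra.pushoutDesc_right B' fB₀ gA _ x
  have hφB : ∀ b, φ (algebraMap B B' b) = algebraMap C C' (algebraMap B C b) := fun b =>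
    Algebra.pushoutDesc_left B' fB₀ gA _ b
  have : IsScalarTower A' B' C' := IsScalarTower.of_algebraMap_eq fun x => (hφA x).symm
  let : Algebra B C' := ((algebraMap C C').comp (algebraMap B C)).toAlgebra
  have : IsScalarTower B C C' := IsScalarTower.of_algebraMap_eq fun _ => rfl
  have : IsScalarTower B B' C' := IsScalarTower.of_algebraMap_eq fun b => (hφB b).symm
  have : IsScalarTower A B' C' := IsScalarTower.of_algebraMap_eq fun x => (φ.commutes x).symm
  have hpo : Algebra.IsPushout B C B' C' :=
    (Algebra.IsPushout.comp_iff A B A' B' (T := C) (T' := C')).mp inferInstance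
  have : Algebra.IsPushout B B' C C' := Algebra.IsPushout.symm hpo
  have : Module.Flat B' C' :=
    Module.Flat.isBaseChange B B' C C' (f := (IsScalarTower.toAlgHom B C C').toLinearMap)
      Algebra.IsPushout.out
  let : Module B' N' := Module.compHom N' (algebraMap B' C')
  have : IsScalarTower B' C' N' := IsScalarTower.of_algebraMap_smul fun _ _ => rfl
  have : IsScalarTower A' B' N' := IsScalarTower.of_algebraMap_smul fun x n => by
    change φ (algebraMap A' B' x) • n = _
    rw [hφA, algebraMap_smul]
  let : Module B N' := Module.compHom N' (algebraMap B B')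
  have : IsScalarTower B B' N' := IsScalarTower.of_algebraMap_smul fun _ _ => rfl
  have : IsScalarTower B C' N' := IsScalarTower.of_algebraMap_smul fun b n => by
    change algebraMap C C' (algebraMap B C b) • n = φ (algebraMap B B' b) • n
    rw [hφB]
  have : IsScalarTower B C N' := IsScalarTower.of_algebraMap_smul fun b n => by
    change algebraMap B C b • n = φ (algebraMap B B' b) • n
    rw [hφB, algebraMap_smul C']
  let fC' : M →ₗ[B] N' := (fC.restrictScalars B).comp g
  have hcomp : IsBaseChange C' fC' := IsBaseChange.comp hg hfC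
  let ψ : M' →ₗ[B'] N' := hfB.lift fC'
  have hψ : IsBaseChange C' ψ := by
    refine IsBaseChange.of_comp hfB ?_
    rw [show ψ.restrictScalars B ∘ₗ fB = fC' from hfB.lift_comp fC']
    exact hcomp
  have key := fun (Q : Ideal C') (_ : Q.IsPrime) =>
    Groth.Agent.H7Flat.FlatAtFinite.flat_localizedModule_flat_iff (R := A') hψ Q
  constructor
  · intro h Q hQ hle
    refine (key Q hQ).mp (h (Q.comap (algebraMap B' C')) (sup_le ?_ ?_))
    · rw [← Ideal.map_le_iff_le_comap, Ideal.map_map, ← IsScalarTower.algebraMap_eq]
      exact le_sup_left.trans hle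
    · rw [Ideal.map_le_iff_le_comap, Ideal.comap_comap]
      intro b hb
      change φ (algebraMap B B' b) ∈ Q
      rw [hφB]
      refine hle (Submodule.mem_sup_right (Ideal.mem_map_of_mem _ ?_))
      exact fun hu => hb (isUnit_of_map_unit (algebraMap B C) b hu)
  · intro h q hq hle
    have hqB : q.comap (algebraMap B B') = maximalIdeal B :=
      le_antisymm (IsLocalRing.le_maximalIdeal (Ideal.IsPrime.ne_top inferInstance))
        (Ideal.map_le_iff_le_comap.mp (le_sup_right.trans hle))
    let kB := ResidueField B
    let kC := ResidueField C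
    let K := q.ResidueField
    let ι : kB →+* K := Ideal.Quotient.lift (maximalIdeal B) ((algebraMap B' K).comp (algebraMap B B'))
      fun b hb => Ideal.algebraMap_residueField_eq_zero.mpr (hqB.ge hb)
    let : Algebra kB K := ι.toAlgebra
    have : IsScalarTower B kB K := IsScalarTower.of_algebraMap_eq fun b => by
      rw [IsScalarTower.algebraMap_apply B B' K]
      rfl
    have : Nontrivial (K ⊗[kB] kC) := Groth.Agent.S1277.nontrivial_tensor kB K kC
    obtain ⟨m, hm⟩ := Ideal.exists_maximal (K ⊗[kB] kC)
    let i₁ : B' →ₐ[B] K ⊗[kB] kC := ((Algebra.TensorProduct.includeLeft (R := kB) (S := kB) (A := K) (B := kC)).restrictScalars B).comp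
      (IsScalarTower.toAlgHom B B' K)
    let i₂ : C →ₐ[B] K ⊗[kB] kC := ((Algebra.TensorProduct.includeRight (R := kB) (A := K) (B := kC)).restrictScalars B).comp
      (IsScalarTower.toAlgHom B C kC)
    let χ : C' →ₐ[B] K ⊗[kB] kC := Algebra.pushoutDesc C' i₁ i₂ fun _ _ => mul_comm _ _
    let Q : Ideal C' := m.comap χ.toRingHom
    have hQ : Q.IsPrime := Ideal.comap_isPrime _ _
    have hQq : Q.comap (algebraMap B' C') = q := by
      ext x
      rw [Ideal.mem_comap, Ideal.mem_comap, show χ.toRingHom (algebraMap B' C' x) = i₁ x from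
        Algebra.pushoutDesc_left C' i₁ i₂ _ x]
      refine ⟨fun hx => ?_, fun hx => ?_⟩
      · by_contra hxq
        have hu : IsUnit (algebraMap B' K x) :=
          IsUnit.mk0 _ (mt Ideal.algebraMap_residueField_eq_zero.mp hxq)
        exact hm.ne_top (Ideal.eq_top_of_isUnit_mem _ hx
          (hu.map (Algebra.TensorProduct.includeLeft (R := kB) (S := kB) (A := K) (B := kC))))
      · change Algebra.TensorProduct.includeLeft (R := kB) (S := kB) (algebraMap B' K x) ∈ m
        rw [Ideal.algebraMap_residueField_eq_zero.mpr hx, map_zero]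
        exact zero_mem _
    have he : (Q.comap (algebraMap B' C')).primeCompl = q.primeCompl := by
      ext x
      exact not_congr (by rw [hQq])
    have := key Q hQ
    rw [he] at this
    refine this.mpr (h Q (sup_le ?_ ?_))
    · rw [IsScalarTower.algebraMap_eq A' B' C', ← Ideal.map_map, Ideal.map_le_iff_le_comap, hQq]
      exact le_sup_left.trans hle
    · rw [Ideal.map_le_iff_le_comap]
      intro c hc
      change χ (algebraMap C C' c) ∈ m
      rw [Algebra.pushoutDesc_right]
      change Algebra.TensorProduct.includeRight (R := kB) (A := K) (IsLocalRing.residue C c) ∈ m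
      rw [(IsLocalRing.residue_eq_zero_iff c).mpr hc, map_zero]
      exact zero_mem _

end Groth.Agent.S1277
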