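import Groth.Statements.S12773
import Groth.Agent.H14AlgSt.LocQ2

set_option autoImplicit false
set_option backward.isDefEq.respectTransparency false
set_option backward.isDefEq.respectTransparency.types false
open CategoryTheory AlgebraicGeometry
universe u
open AlgSt

namespace Groth.Agent.S12773

/-- Let `f : 𝒳 ⟶ 𝒴` be a 1-morphism of algebraic stacks over `S`, `V` a scheme over `S` and `y : (Sch/V)
⟶ 𝒴` surjective and smooth. Then there are a scheme `U` over `S`, a morphism `a : U ⟶ V` and a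
surjective smooth `x : (Sch/U) ⟶ 𝒳` such that the square 2-commutes: `f ∘ x ≅ y ∘ a`. -/
theorem result {S : Scheme.{u}} {𝒳 𝒴 : AlgSt.Cat S}
    (h𝒳 : AlgSt.IsAlgStack Scheme.fppfPrecoverage 𝒳) (h𝒴 : AlgSt.IsAlgStack Scheme.fppfPrecoverage 𝒴)
    (f : 𝒳 ⥤ᵇ 𝒴) (V : Over S) (y : FibCat.overCat V ⥤ᵇ 𝒴)
    (hy : AlgSt.RepByAlgSpWith (AlgSp.LocP @Smooth) y) (hy' : AlgSt.RepByAlgSpWith AlgSp.IsSurjectiveMor y) :
    ∃ (U : Over S) (a : U ⟶ V) (x : FibCat.overCat U ⥤ᵇ 𝒳),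
      AlgSt.RepByAlgSpWith (AlgSp.LocP @Smooth) x ∧ AlgSt.RepByAlgSpWith AlgSp.IsSurjectiveMor x ∧
        Nonempty (BasedFunctor.comp x f ≅ BasedFunctor.comp (AlgSt.overMap a) y) := by
  open Groth.Agent.H14AlgSt in
  obtain ⟨A, a, h, ha, has, ⟨j⟩⟩ := exists_atlas_fp h𝒳 h𝒴 f y
  exact ⟨A, h, BasedFunctor.comp a (FibCat.fpFst f y),
    chart_of_atlas_fp h𝒳.isStack.1 h𝒴.isStack.1 hy ha,
    chartSurj_of_atlas_fp h𝒳.isStack.1 h𝒴.isStack.1 hy' has,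
    ⟨(Stk.restr a 𝒴).mapIso (FibCat.fpIso f y) ≪≫
      (Groth.Agent.H14Stk.post (FibCat.overCat A) y).mapIso j⟩⟩

end Groth.Agent.S12773
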