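import Groth.Statements.S12775
import Groth.Agent.H14AlgSt.Rep
import Groth.Agent.H12AlgSp.Basic
import Groth.Agent.H14AlgSt.Invariance

set_option autoImplicit false
set_option backward.isDefEq.respectTransparency false
set_option backward.isDefEq.respectTransparency.types false
open CategoryTheory AlgebraicGeometry
universe u
open AlgSt

namespace Groth.Agent.S12775

/-- If `𝒳` and `𝒴` are categories fibred in groupoids over `(Sch/S)` that are both representable by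
algebraic spaces, then every 1-morphism `f : 𝒳 ⟶ 𝒴` is representable by algebraic spaces. -/
theorem result {S : Scheme.{u}} {𝒳 𝒴 : AlgSt.Cat S}
    (h𝒳 : FibCat.IsFibGrpd 𝒳.p) (h𝒴 : FibCat.IsFibGrpd 𝒴.p)
    (hX : AlgSt.RepByAlgSp 𝒳) (hY : AlgSt.RepByAlgSp 𝒴) (f : 𝒳 ⥤ᵇ 𝒴) :
    AlgSt.RepByAlgSp1 f := by
  obtain ⟨F, a, ha⟩ := hX
  obtain ⟨G, b, hb⟩ := hY
  obtain ⟨b', ⟨i⟩, ⟨j⟩⟩ := hb
  let φ := BasedFunctor.comp (BasedFunctor.comp a f) b'
  let m : F.obj ⟶ G.obj := ObjectProperty.homMk (Groth.Agent.H14AlgSt.mapOfFun φ)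
  have h1 : AlgSt.RepByAlgSp1 (AlgSt.ofSpMap m) := (Groth.Agent.H14AlgSt.repBySp_iff m.hom).1
    ((AlgSp.repBySp_hom_iff m).2 fun U ξ F' fst snd sq =>
      Groth.Agent.H12AlgSp.isAlgSpace_of_isPullback G.property.diag F.property
        (AlgSp.IsAlgSpace.yon_obj U) sq)
  refine (Groth.Agent.H14AlgSt.rep1_square (f := f) (f' := AlgSt.ofSpMap m) (a := a) (b := b) ha
    ⟨b', ⟨i⟩, ⟨j⟩⟩ ?_).2 h1
  exact (Groth.Agent.H14Stk.post _ b).mapIso (Groth.Agent.H14AlgSt.isoOfPshMap φ).symm ≪≫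
    (Stk.restr (BasedFunctor.comp a f) _).mapIso j

end Groth.Agent.S12775
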