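-- statement FlatMor.GrothFrozen.S1278 (Groth/Statements/S1278.lean; the theorem FlatMor.flatAboveClosedPoints_iff_of_finite_local_extension);
import Groth.Statements.S1278
import Groth.Agent.H7Flat.FlatAtFinite
import Mathlib

set_option autoImplicit false
universe u
open FlatMor

namespace Groth.Agent.S1278
open scoped TensorProduct
set_option backward.isDefEq.respectTransparency false
set_option maxHeartbeats 1000000
set_option synthInstance.maxHeartbeats 400000

open IsLocalRing in
/-- Let A be a local ring and B → C a finite local homomorphism of local A-algebras (A → B local), and N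
a C-module, viewed also as a B-module. For every local homomorphism of local rings A → A', with base
changes B', C' of B, C and base changes M' (of N over B') and N' (of N over C'): M' is flat over A'
at every prime of B' containing 𝔪_{A'}B' + 𝔪_B B' if and only if N' is flat over A' at every prime
of C' containing 𝔪_{A'}C' + 𝔪_C C'. -/
theorem result {A B C : Type u} [CommRing A] [IsLocalRing A] [CommRing B] [IsLocalRing B] [CommRing C] [IsLocalRing C]
    [Algebra A B] [IsLocalHom (algebraMap A B)] [Algebra B C] [IsLocalHom (algebraMap B C)] [Algebra A C] [IsScalarTower A B C] [Module.Finite B C]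
    (N : Type u) [AddCommGroup N] [Module C N] [Module B N] [IsScalarTower B C N]
    (A' : Type u) [CommRing A'] [IsLocalRing A'] [Algebra A A'] [IsLocalHom (algebraMap A A')]
    (B' M' : Type u) [CommRing B'] [Algebra B B'] [Algebra A' B'] [Algebra A B'] [IsScalarTower A B B'] [IsScalarTower A A' B']
        [Algebra.IsPushout A B A' B']
        [AddCommGroup M'] [Module B' M'] [Module B M'] [IsScalarTower B B' M'] [Module A' M'] [IsScalarTower A' B' M']
        (fB : N →ₗ[B] M') (hfB : IsBaseChange B' fB)
    (C' N' : Type u) [CommRing C'] [Algebra C C'] [Algebra A' C'] [Algebra A C'] [IsScalarTower A C C'] [IsScalarTower A A' C']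
        [Algebra.IsPushout A C A' C']
        [AddCommGroup N'] [Module C' N'] [Module C N'] [IsScalarTower C C' N'] [Module A' N'] [IsScalarTower A' C' N']
        (fC : N →ₗ[C] N') (hfC : IsBaseChange C' fC) :
    FlatCA.FlatAboveClosedPoints B A' B' M' ↔ FlatCA.FlatAboveClosedPoints C A' C' N' := by
  let fB₀ : B →ₐ[A] C' := (IsScalarTower.toAlgHom A C C').comp (IsScalarTower.toAlgHom A B C)
  let gA : A' →ₐ[A] C' := IsScalarTower.toAlgHom A A' C'
  let φ : B' →ₐ[A] C' := Algebra.pushoutDesc B' fB₀ gA fun _ _ => mul_comm _ _
  let : Algebra B' C' := φ.toRingHom.toAlgebra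
  have hφA : ∀ x, φ (algebraMap A' B' x) = algebraMap A' C' x := fun x => Algebra.pushoutDesc_right B' fB₀ gA _ x
  have hφB : ∀ b, φ (algebraMap B B' b) = algebraMap C C' (algebraMap B C b) := fun b =>
    Algebra.pushoutDesc_left B' fB₀ gA _ b
  have : IsScalarTower A' B' C' := IsScalarTower.of_algebraMap_eq fun x => (hφA x).symm
  let : Module B' N' := Module.compHom N' (algebraMap B' C')
  have : IsScalarTower B' C' N' := IsScalarTower.of_algebraMap_smul fun _ _ => rfl
  have : IsScalarTower A' B' N' := IsScalarTower.of_algebraMap_smul fun x n => by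
    change φ (algebraMap A' B' x) • n = _
    rw [hφA, algebraMap_smul]
  have : Module.Finite B' C' := by
    classical
    obtain ⟨s, hs⟩ := Module.Finite.fg_top (R := B) (M := C)
    refine ⟨⟨s.image (algebraMap C C'), eq_top_iff.mpr fun x _ => ?_⟩⟩
    let W : Submodule B' C' := Submodule.span B' ((s.image (algebraMap C C') : Finset C') : Set C')
    have hC : ∀ c : C, algebraMap C C' c ∈ W := by
      intro c
      have hc : c ∈ Submodule.span B (s : Set C) := hs ▸ Submodule.mem_top
      induction hc using Submodule.span_induction with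
      | mem c hc => exact Submodule.subset_span (Finset.mem_image_of_mem _ hc)
      | zero => rw [map_zero]; exact zero_mem _
      | add a b _ _ ha hb => rw [map_add]; exact add_mem ha hb
      | smul b a _ ha =>
        rw [Algebra.smul_def, map_mul, ← hφB]
        exact W.smul_mem (algebraMap B B' b) ha
    obtain ⟨w, rfl⟩ := (Algebra.IsPushout.equiv A C A' C').surjective x
    induction w using TensorProduct.induction_on with
    | zero => rw [map_zero]; exact zero_mem _
    | add a b ha hb => rw [map_add]; exact add_mem (ha trivial) (hb trivial)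
    | tmul c a' =>
      rw [Algebra.IsPushout.equiv_tmul, mul_comm, ← hφA]
      exact W.smul_mem (algebraMap A' B' a') (hC c)
  let : Module B N' := Module.compHom N' (algebraMap B B')
  have : IsScalarTower B B' N' := IsScalarTower.of_algebraMap_smul fun _ _ => rfl
  let fC' : N →ₗ[B] N' :=
    { toFun := fC
      map_add' := map_add fC
      map_smul' := fun b n => by
        change fC (b • n) = φ (algebraMap B B' b) • fC n
        rw [hφB, algebraMap_smul, ← map_smul, algebraMap_smul] }
  let ψ : M' →ₗ[B'] N' := hfB.lift fC'
  have hψ : ∀ n, ψ (fB n) = fC n := hfB.lift_eq fC'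
  let : Module A N := Module.compHom N (algebraMap A B)
  have : IsScalarTower A B N := IsScalarTower.of_algebraMap_smul fun _ _ => rfl
  have : IsScalarTower A C N := IsScalarTower.of_algebraMap_smul fun a n => by
    change algebraMap A C a • n = algebraMap A B a • n
    rw [IsScalarTower.algebraMap_apply A B C, algebraMap_smul]
  have : Algebra.IsPushout A A' B B' := Algebra.IsPushout.symm inferInstance
  have : Algebra.IsPushout A A' C C' := Algebra.IsPushout.symm inferInstance
  let eB : A' ⊗[A] N ≃ₗ[A'] M' :=
    (Algebra.IsPushout.cancelBaseChange A A' B B' N).symm ≪≫ₗ hfB.equiv.restrictScalars A'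
  let eC : A' ⊗[A] N ≃ₗ[A'] N' :=
    (Algebra.IsPushout.cancelBaseChange A A' C C' N).symm ≪≫ₗ hfC.equiv.restrictScalars A'
  have heB : ∀ n, eB (1 ⊗ₜ n) = fB n := fun n => by
    have h1 : (Algebra.IsPushout.cancelBaseChange A A' B B' N).symm ((1 : A') ⊗ₜ n) = (1 : B') ⊗ₜ n := by
      rw [LinearEquiv.symm_apply_eq, Algebra.IsPushout.cancelBaseChange_tmul]
    simp [eB, h1, IsBaseChange.equiv_tmul]
  have heC : ∀ n, eC (1 ⊗ₜ n) = fC n := fun n => by
    have h1 : (Algebra.IsPushout.cancelBaseChange A A' C C' N).symm ((1 : A') ⊗ₜ n) = (1 : C') ⊗ₜ n := by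
      rw [LinearEquiv.symm_apply_eq, Algebra.IsPushout.cancelBaseChange_tmul]
    simp [eC, h1, IsBaseChange.equiv_tmul]
  have hψe : ∀ w, ψ (eB w) = eC w := by
    intro w
    induction w using TensorProduct.induction_on with
    | zero => simp
    | add a b ha hb => rw [map_add, map_add, map_add, ha, hb]
    | tmul a n =>
      rw [show (a ⊗ₜ[A] n) = a • ((1 : A') ⊗ₜ[A] n) by rw [TensorProduct.smul_tmul', smul_eq_mul, mul_one],
        map_smul eB, map_smul eC, heB, heC, LinearMap.map_smul_of_tower, hψ]
  have hbij : Function.Bijective ψ := by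
    have : ψ = eC ∘ eB.symm := funext fun m => by rw [Function.comp_apply, ← hψe, eB.apply_symm_apply]
    rw [this]
    exact eC.bijective.comp eB.symm.bijective
  let e : M' ≃ₗ[B'] N' := LinearEquiv.ofBijective ψ hbij
  have hflat : ∀ (q : Ideal B') [q.IsPrime], FlatCA.FlatAt A' q M' ↔
      Module.Flat A' (LocalizedModule q.primeCompl N') := by
    intro q _
    let g : M' ⊗[A'] A' →ₗ[B'] N' ⊗[A'] A' := TensorProduct.AlgebraTensorModule.rTensor A' A' e.toLinearMap
    change Module.Flat A' (LocalizedModule q.primeCompl M') ↔ _
    have hnat : ∀ (a : Ideal A') (z : M' ⊗[A'] a), a.subtype.lTensor N'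
        (TensorProduct.AlgebraTensorModule.rTensor A' a e.toLinearMap z) = g (a.subtype.lTensor M' z) := by
      intro a z
      induction z using TensorProduct.induction_on with
      | zero => simp
      | tmul n x => simp [g]
      | add x y hx hy => simp only [map_add, hx, hy]
    rw [Groth.Agent.H7Flat.FlatAtFinite.flat_localizedModule_iff,
      Groth.Agent.H7Flat.FlatAtFinite.flat_localizedModule_iff]
    refine forall_congr' fun a => ?_
    let E := TensorProduct.AlgebraTensorModule.congr e (LinearEquiv.refl A' a)
    let E₁ := TensorProduct.AlgebraTensorModule.congr e (LinearEquiv.refl A' A')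
    have hE : ∀ z, a.subtype.lTensor N' (E z) = E₁ (a.subtype.lTensor M' z) := by
      intro z
      induction z using TensorProduct.induction_on with
      | zero => simp
      | tmul n x => simp [E, E₁]
      | add x y hx hy => simp only [map_add, hx, hy]
    refine ⟨fun h z hz => ?_, fun h z hz => ?_⟩
    · obtain ⟨z, rfl⟩ := E.surjective z
      rw [hE, LinearEquiv.map_eq_zero_iff] at hz
      obtain ⟨s, hs, hsz⟩ := h z hz
      exact ⟨s, hs, by rw [← map_smul, hsz, map_zero]⟩
    · obtain ⟨s, hs, hsz⟩ := h (E z) (by rw [hE, hz, map_zero])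
      exact ⟨s, hs, E.injective (by rw [map_smul, hsz, map_zero])⟩
  have hmax : ∀ Q : Ideal C', Q.IsPrime →
      (maximalIdeal B).map (algebraMap B B') ≤ Q.comap (algebraMap B' C') →
      (maximalIdeal C).map (algebraMap C C') ≤ Q := by
    intro Q hQ hB
    rw [Ideal.map_le_iff_le_comap]
    have hP : (Q.comap (algebraMap C C')).IsPrime := Ideal.comap_isPrime _ _
    refine (IsLocalRing.eq_maximalIdeal ?_).ge
    have : ((Q.comap (algebraMap C C')).comap (algebraMap B C)).IsMaximal := by
      convert IsLocalRing.maximalIdeal.isMaximal B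
      refine le_antisymm (IsLocalRing.le_maximalIdeal (Ideal.IsPrime.ne_top inferInstance)) fun b hb => ?_
      have h1 := hB (Ideal.mem_map_of_mem _ hb)
      change algebraMap C C' (algebraMap B C b) ∈ Q
      rw [← hφB]
      exact h1
    exact Ideal.isMaximal_of_isIntegral_of_isMaximal_comap _ this
  constructor
  · intro h Q hQ hle
    have := hQ
    refine ((Groth.Agent.H7Flat.FlatAtFinite.flat_localizedModule_integral_iff (S := B')
      (Q.comap (algebraMap B' C')) N').mp ((hflat _).mp (h _ (sup_le ?_ ?_)))) Q rfl
    · rw [← Ideal.map_le_iff_le_comap, Ideal.map_map, ← IsScalarTower.algebraMap_eq]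
      exact le_sup_left.trans hle
    · rw [Ideal.map_le_iff_le_comap, Ideal.comap_comap]
      intro b hb
      change φ (algebraMap B B' b) ∈ Q
      rw [hφB]
      refine hle (Submodule.mem_sup_right (Ideal.mem_map_of_mem _ ?_))
      exact fun hu => hb (isUnit_of_map_unit (algebraMap B C) b hu)
  · intro h q hq hle
    rw [hflat q, Groth.Agent.H7Flat.FlatAtFinite.flat_localizedModule_integral_iff (S' := C')]
    intro Q hQ hQq
    refine h Q (sup_le ?_ (hmax Q hQ (hQq ▸ le_sup_right.trans hle)))
    rw [IsScalarTower.algebraMap_eq A' B' C', ← Ideal.map_map, Ideal.map_le_iff_le_comap, hQq]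
    exact le_sup_left.trans hle

end Groth.Agent.S1278
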