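import Groth.Statements.S12780
import Groth.Agent.H14AlgSt.Comp
import Groth.Agent.H12AlgSp.LocP
import Groth.Agent.H12AlgSp.Points

set_option autoImplicit false
set_option backward.isDefEq.respectTransparency false
set_option backward.isDefEq.respectTransparency.types false
open CategoryTheory AlgebraicGeometry
universe u
open AlgSt

namespace Groth.Agent.S12780

/-- Let `𝒳`, `𝒴`, `𝒵` be fibred in groupoids over `(Sch/S)` and `P` a property of morphisms of algebraic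
spaces which is stable under base change, fppf local on the base and stable under composition. If `f
: 𝒳 ⟶ 𝒴` and `g : 𝒴 ⟶ 𝒵` are representable by algebraic spaces and have `P`, then so does `g ∘ f`.
(Stability under base change is asked for every pullback square of fppf sheaves whose four corners
are algebraic spaces, and stability under composition for composable morphisms between algebraic
spaces.) -/
theorem result {S : Scheme.{u}} {𝒳 𝒴 𝒵 : AlgSt.Cat S}
    (h𝒳 : FibCat.IsFibGrpd 𝒳.p) (h𝒴 : FibCat.IsFibGrpd 𝒴.p) (h𝒵 : FibCat.IsFibGrpd 𝒵.p)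
    (P : MorphismProperty (AlgSp.Sp S))
    (hPb : ∀ ⦃X₁ Y₁ X₂ Y₂ : AlgSp.Sp S⦄, AlgSp.IsAlgSpace X₁ → AlgSp.IsAlgSpace Y₁ → AlgSp.IsAlgSpace X₂ →
      AlgSp.IsAlgSpace Y₂ → ∀ (a : X₁ ⟶ Y₁) (b : Y₂ ⟶ Y₁) (a' : X₂ ⟶ Y₂) (b' : X₂ ⟶ X₁),
      IsPullback b' a' a b → P a → P a')
    (hPc : ∀ ⦃X Y Z : AlgSp.Sp S⦄, AlgSp.IsAlgSpace X → AlgSp.IsAlgSpace Y → AlgSp.IsAlgSpace Z →
      ∀ (a : X ⟶ Y) (b : Y ⟶ Z), P a → P b → P (a ≫ b))
    (hP : AlgSp.IsLocalOnBase AlgSp.IsFppfCover P)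
    (f : 𝒳 ⥤ᵇ 𝒴) (g : 𝒴 ⥤ᵇ 𝒵) (hf : AlgSt.RepByAlgSpWith P f) (hg : AlgSt.RepByAlgSpWith P g) :
    AlgSt.RepByAlgSpWith P (BasedFunctor.comp f g) := by
  refine Groth.Agent.H14AlgSt.repWith_comp_of ?_ ?_ hPc h𝒳 h𝒴 hf hg
  · intro A B C m _ π hA hC h
    have hB : AlgSp.IsAlgSpace B := hA.of_iso (asIso m)
    exact hPb hA hC hB hC (m ≫ π) (𝟙 C) π (inv m)
      (IsPullback.of_horiz_isIso ⟨by simp⟩) h
  · intro G F a hG hF h
    obtain ⟨U, p, hpe, hps⟩ := hF.atlas
    have sq := IsPullback.of_hasPullback a p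
    have hW := Groth.Agent.H12AlgSp.isAlgSpace_of_isPullback hF.diag hG
      (AlgSp.IsAlgSpace.yon_obj U) sq
    refine (hP (fun _ : PUnit.{u+1} => (AlgSp.yon S).obj U) (fun _ => p) hF
      (fun _ => AlgSp.IsAlgSpace.yon_obj U) ⟨fun _ => ⟨?_, ?_⟩, fun x => ?_⟩ a hG (fun _ => Limits.pullback a p)
      (fun _ => Limits.pullback.snd a p) (fun _ => Limits.pullback.fst a p) (fun _ => hW) (fun _ => sq)).2
      (fun _ => h U p _ _ sq)
    · exact Groth.Agent.H12AlgSp.locP_of_repWith Groth.Agent.H12AlgSp.etLocal_flat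
        (Groth.Agent.H12AlgSp.repWith_le (fun _ _ g (_ : Etale g) => (inferInstance : Flat g)) hpe)
    · exact Groth.Agent.H12AlgSp.locP_of_repWith Groth.Agent.H12AlgSp.etLocal_lfp
        (Groth.Agent.H12AlgSp.repWith_le
          (fun _ _ g (_ : Etale g) => (inferInstance : LocallyOfFinitePresentation g)) hpe)
    · exact ⟨PUnit.unit, Groth.Agent.H12AlgSp.surjective_map_of_repWith le_rfl hps x⟩

end Groth.Agent.S12780
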