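import Groth.Statements.S12783
import Groth.Agent.H14Fib.Rep
import Groth.Agent.H14Fib.FibSet
import Groth.Agent.S11728

set_option autoImplicit false
set_option backward.isDefEq.respectTransparency false
set_option backward.isDefEq.respectTransparency.types false
open CategoryTheory CategoryTheory.Limits
universe v u
open FibCat

namespace Groth.Agent.S12783

/-- For a morphism `f : X ⟶ Y` in a category `C` with fibre products, the induced functor `C/X ⟶ C/Y`
over `C` is a representable 1-morphism. (The published statement is for schemes over a base; this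
row holds in any category with fibre products.) -/
theorem result {C : Type u} [Category.{v} C] [HasPullbacks C] {X Y : C} (f : X ⟶ Y) :
    FibCat.IsRepresentable1 (⟨Over.map f, Over.mapForget_eq f⟩ : FibCat.overCat X ⥤ᵇ FibCat.overCat Y) := by
  intro U G
  -- replace the test functor by `Over.map`
  let h : U ⟶ Y := eqToHom (G.w_obj (H14Fib.topObj U)).symm ≫ (G.obj (H14Fib.topObj U)).hom
  let M : FibCat.overCat U ⥤ᵇ FibCat.overCat Y := ⟨Over.map h, Over.mapForget_eq h⟩
  let F : FibCat.overCat X ⥤ᵇ FibCat.overCat Y := ⟨Over.map f, Over.mapForget_eq f⟩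
  have hY := (H14Fib.overCat_fibSet Y).1
  let d : G.obj (H14Fib.topObj U) ≅ M.obj (H14Fib.topObj U) :=
    Over.isoMk (eqToIso (G.w_obj (H14Fib.topObj U))) (by
      change eqToHom (G.w_obj (H14Fib.topObj U)) ≫ 𝟙 U ≫ h = _
      erw [Category.id_comp]
      simp [h])
  have hd : (FibCat.overCat Y).p.IsHomLift (𝟙 U) d.hom :=
    IsHomLift.of_fac' _ _ _ (G.w_obj (H14Fib.topObj U)) rfl (by simp [d]; rfl)
  let iso : G ≅ M := H14Fib.isoOfTop (H14Fib.topSC_of_fibGrpd hY G) (H14Fib.topSC_of_fibGrpd hY M) d hd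
  obtain ⟨E, hE⟩ := H14Fib.fp_congr_left (G := F) iso
  refine H14Fib.rep_of_equiv_source hE ?_
  have hgr : FibCat.IsFibGrpd (FibCat.fp M F).p :=
    H14Fib.fp_fibGrpd (H14Fib.overCat_fibSet U).1 (H14Fib.overCat_fibSet X).1 hY
  have := H14Fib.isFibered_of_fibGrpd hgr
  refine (Groth.Agent.S11728.result _).2 ⟨hgr, ?_⟩
  -- the terminal object is the pullback
  let a : Over U := Over.mk (pullback.fst h f)
  let b : Over X := Over.mk (pullback.snd h f)
  let i : M.obj a ≅ F.obj b := Over.isoMk (Iso.refl _) (by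
    change 𝟙 _ ≫ pullback.snd h f ≫ f = pullback.fst h f ≫ h
    rw [Category.id_comp, pullback.condition])
  have hi : (FibCat.overCat Y).p.IsHomLift (𝟙 (pullback h f)) i.hom :=
    IsHomLift.map (FibCat.overCat Y).p i.hom
  refine ⟨H14Fib.fpObj (F := M) (G := F) a b i rfl hi, fun ρ => ⟨?_⟩⟩
  have hw : ρ.obj.fst.hom ≫ h = (ρ.obj.iso.hom.left ≫ ρ.obj.snd.hom) ≫ f := by
    have := Over.w ρ.obj.iso.hom
    rw [Category.assoc]
    exact this.symm
  let l : ρ.obj.fst.left ⟶ pullback h f := pullback.lift ρ.obj.fst.hom (ρ.obj.iso.hom.left ≫ ρ.obj.snd.hom) hw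
  let A : ρ.obj.fst ⟶ a := Over.homMk l (pullback.lift_fst _ _ _)
  let B : ρ.obj.snd ⟶ b := Over.homMk (ρ.obj.iso.inv.left ≫ l) (by
    change (ρ.obj.iso.inv.left ≫ l) ≫ pullback.snd h f = ρ.obj.snd.hom
    rw [Category.assoc, pullback.lift_snd, ← Category.assoc]
    have e : ρ.obj.iso.inv.left ≫ ρ.obj.iso.hom.left = 𝟙 _ :=
      congrArg Over.Hom.left ρ.obj.iso.inv_hom_id
    exact (congrArg (· ≫ ρ.obj.snd.hom) e).trans (Category.id_comp _))
  have e1 : ρ.obj.iso.hom.left ≫ ρ.obj.iso.inv.left = 𝟙 _ := congrArg Over.Hom.left ρ.obj.iso.hom_inv_id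
  refine { default := H14Fib.fpHom A B (Over.OverMorphism.ext ?_), uniq := fun t => ?_ }
  · change l ≫ 𝟙 _ = ρ.obj.iso.hom.left ≫ ρ.obj.iso.inv.left ≫ l
    rw [Category.comp_id, ← Category.assoc]
    exact ((congrArg (· ≫ l) e1).trans (Category.id_comp _)).symm
  · have hB : ρ.obj.iso.hom.left ≫ t.hom.snd.left = t.hom.fst.left := by
      have := congrArg Over.Hom.left t.hom.w
      exact this.symm.trans (Category.comp_id _)
    have hA : t.hom.fst.left = l := by
      apply pullback.hom_ext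
      · rw [pullback.lift_fst]; exact Over.w t.hom.fst
      · rw [pullback.lift_snd, ← hB, Category.assoc]
        exact congrArg (ρ.obj.iso.hom.left ≫ ·) (Over.w t.hom.snd)
    refine H14Fib.fp_hom_ext (Over.OverMorphism.ext hA) (Over.OverMorphism.ext ?_)
    change t.hom.snd.left = ρ.obj.iso.inv.left ≫ l
    rw [← hA, ← hB, ← Category.assoc]
    have e : ρ.obj.iso.inv.left ≫ ρ.obj.iso.hom.left = 𝟙 _ :=
      congrArg Over.Hom.left ρ.obj.iso.inv_hom_id
    exact ((congrArg (· ≫ t.hom.snd.left) e).trans (Category.id_comp _)).symm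

end Groth.Agent.S12783
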