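import Groth.Statements.S12789
import Groth.Agent.H14AlgSt.ProdMap

set_option autoImplicit false
set_option backward.isDefEq.respectTransparency false
set_option backward.isDefEq.respectTransparency.types false
open CategoryTheory AlgebraicGeometry
universe u
open AlgSt

namespace Groth.Agent.S12789

theorem toSelf_eq {S : Scheme.{u}} {𝒳 𝒜 : AlgSt.Cat S} (F : 𝒜 ⥤ᵇ 𝒳) :
    FibCat.toSelf 𝒜 = BasedFunctor.comp F (FibCat.toSelf 𝒳) := by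
  have h : (BasedFunctor.comp F (FibCat.toSelf 𝒳)).toFunctor = (FibCat.toSelf 𝒜).toFunctor := F.w
  revert h
  generalize BasedFunctor.comp F (FibCat.toSelf 𝒳) = A
  generalize FibCat.toSelf 𝒜 = B
  intro h
  cases A; cases B; cases h; rfl

open Groth.Agent.H14AlgSt in
theorem aux {S : Scheme.{u}} {𝒳₁ 𝒳₂ 𝒴₁ 𝒴₂ : AlgSt.Cat S}
    (h𝒳₁ : FibCat.IsFibGrpd 𝒳₁.p) (h𝒳₂ : FibCat.IsFibGrpd 𝒳₂.p) (h𝒴₁ : FibCat.IsFibGrpd 𝒴₁.p)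
    {P : MorphismProperty (AlgSp.Sp S)} (hiso : SourceIsoInv P) (hloc : TestOnSchemes P)
    (hPc : ∀ ⦃X Y Z : AlgSp.Sp S⦄, AlgSp.IsAlgSpace X → AlgSp.IsAlgSpace Y → AlgSp.IsAlgSpace Z →
      ∀ (a : X ⟶ Y) (b : Y ⟶ Z), P a → P b → P (a ≫ b))
    (f₁ : 𝒳₁ ⥤ᵇ 𝒴₁) (f₂ : 𝒳₂ ⥤ᵇ 𝒴₂) (hf₁ : AlgSt.RepByAlgSpWith P f₁) (hf₂ : AlgSt.RepByAlgSpWith P f₂)
    (a : 𝒳₁ ⥤ᵇ FibCat.selfOver (Over S)) (b : 𝒳₂ ⥤ᵇ FibCat.selfOver (Over S))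
    (ha : a = BasedFunctor.comp f₁ (FibCat.toSelf 𝒴₁)) (hb : b = BasedFunctor.comp f₂ (FibCat.toSelf 𝒴₂))
    (e : BasedFunctor.comp (BasedFunctor.comp (FibCat.fpFst a b) f₁) (FibCat.toSelf 𝒴₁) ≅
      BasedFunctor.comp (BasedFunctor.comp (FibCat.fpSnd a b) f₂) (FibCat.toSelf 𝒴₂)) :
    AlgSt.RepByAlgSpWith P (FibCat.fpLift (BasedFunctor.comp (FibCat.fpFst a b) f₁) (BasedFunctor.comp (FibCat.fpSnd a b) f₂) e) := by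
  subst ha hb
  refine repWith_prodMap e hiso hloc hPc h𝒳₁ h𝒴₁ h𝒳₂ (isStack_selfOver (AlgSp.J S)).1 hf₁ hf₂ fun x =>
    selfOver_hom_eq (𝟙 _) _ _
      (BasedNatTrans.isHomLift e.hom rfl) x.property

/-- Let `P` be a property of morphisms of algebraic spaces which is stable under base change, fppf local
on the base and stable under composition, and `f₁ : 𝒳₁ ⟶ 𝒴₁`, `f₂ : 𝒳₂ ⟶ 𝒴₂` 1-morphisms of
categories fibred in groupoids over `(Sch/S)` which are representable by algebraic spaces and have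
`P`. Then `f₁ × f₂ : 𝒳₁ × 𝒳₂ ⟶ 𝒴₁ × 𝒴₂` (products over the base category; the functor induced on
2-fibre products, for any choice of the 2-isomorphism `e` filling the square) has `P`. (Stability
under base change is asked for every pullback square of fppf sheaves whose four corners are
algebraic spaces, and stability under composition for composable morphisms between algebraic
spaces.) -/
theorem result {S : Scheme.{u}} {𝒳₁ 𝒳₂ 𝒴₁ 𝒴₂ : AlgSt.Cat S}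
    (h𝒳₁ : FibCat.IsFibGrpd 𝒳₁.p) (h𝒳₂ : FibCat.IsFibGrpd 𝒳₂.p) (h𝒴₁ : FibCat.IsFibGrpd 𝒴₁.p) (h𝒴₂ : FibCat.IsFibGrpd 𝒴₂.p)
    (P : MorphismProperty (AlgSp.Sp S))
    (hPb : ∀ ⦃X₁ Y₁ X₂ Y₂ : AlgSp.Sp S⦄, AlgSp.IsAlgSpace X₁ → AlgSp.IsAlgSpace Y₁ → AlgSp.IsAlgSpace X₂ →
      AlgSp.IsAlgSpace Y₂ → ∀ (a : X₁ ⟶ Y₁) (b : Y₂ ⟶ Y₁) (a' : X₂ ⟶ Y₂) (b' : X₂ ⟶ X₁),
      IsPullback b' a' a b → P a → P a')
    (hPc : ∀ ⦃X Y Z : AlgSp.Sp S⦄, AlgSp.IsAlgSpace X → AlgSp.IsAlgSpace Y → AlgSp.IsAlgSpace Z →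
      ∀ (a : X ⟶ Y) (b : Y ⟶ Z), P a → P b → P (a ≫ b))
    (hP : AlgSp.IsLocalOnBase AlgSp.IsFppfCover P)
    (f₁ : 𝒳₁ ⥤ᵇ 𝒴₁) (f₂ : 𝒳₂ ⥤ᵇ 𝒴₂) (hf₁ : AlgSt.RepByAlgSpWith P f₁) (hf₂ : AlgSt.RepByAlgSpWith P f₂)
    (e : BasedFunctor.comp (BasedFunctor.comp (FibCat.fpFst (FibCat.toSelf 𝒳₁) (FibCat.toSelf 𝒳₂)) f₁) (FibCat.toSelf 𝒴₁) ≅ BasedFunctor.comp (BasedFunctor.comp (FibCat.fpSnd (FibCat.toSelf 𝒳₁) (FibCat.toSelf 𝒳₂)) f₂) (FibCat.toSelf 𝒴₂)) :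
    AlgSt.RepByAlgSpWith P (FibCat.fpLift (BasedFunctor.comp (FibCat.fpFst (FibCat.toSelf 𝒳₁) (FibCat.toSelf 𝒳₂)) f₁) (BasedFunctor.comp (FibCat.fpSnd (FibCat.toSelf 𝒳₁) (FibCat.toSelf 𝒳₂)) f₂) e) := by
  refine aux h𝒳₁ h𝒳₂ h𝒴₁ ?_ ?_ hPc f₁ f₂ hf₁ hf₂ _ _ (toSelf_eq f₁)
    (toSelf_eq f₂) e
  · exact Groth.Agent.H14AlgSt.BaseStable.sourceIsoInv hPb
  · exact Groth.Agent.H14AlgSt.testOnSchemes_of_localFppf hP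

end Groth.Agent.S12789
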