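import Groth.Statements.S12790
import Groth.Agent.H14Fib.Rep
import Groth.Agent.H14Fib.FpSelf

set_option autoImplicit false
set_option backward.isDefEq.respectTransparency false
set_option backward.isDefEq.respectTransparency.types false
open CategoryTheory CategoryTheory.Limits
universe v u
open FibCat

namespace Groth.Agent.S12790

/-- For representable 1-morphisms `f₁ : 𝒳₁ ⟶ 𝒴₁`, `f₂ : 𝒳₂ ⟶ 𝒴₂` of categories over `C`, the product `f₁
× f₂ : 𝒳₁ × 𝒳₂ ⟶ 𝒴₁ × 𝒴₂` (products over `C`; the functor induced on 2-fibre products, for any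
choice of the 2-isomorphism `e` filling the square) is a representable 1-morphism. (The published
statement is for categories fibred in groupoids over schemes over a base; this row is stated for
categories over any base category.) -/
theorem result {C : Type u} [Category.{v} C] {𝒳₁ 𝒳₂ 𝒴₁ 𝒴₂ : BasedCategory.{v, max u v} C}
    (f₁ : 𝒳₁ ⥤ᵇ 𝒴₁) (f₂ : 𝒳₂ ⥤ᵇ 𝒴₂) (hf₁ : FibCat.IsRepresentable1 f₁) (hf₂ : FibCat.IsRepresentable1 f₂)
    (e : BasedFunctor.comp (BasedFunctor.comp (FibCat.fpFst (FibCat.toSelf 𝒳₁) (FibCat.toSelf 𝒳₂)) f₁) (FibCat.toSelf 𝒴₁) ≅ BasedFunctor.comp (BasedFunctor.comp (FibCat.fpSnd (FibCat.toSelf 𝒳₁) (FibCat.toSelf 𝒳₂)) f₂) (FibCat.toSelf 𝒴₂)) :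
    FibCat.IsRepresentable1 (FibCat.fpLift (BasedFunctor.comp (FibCat.fpFst (FibCat.toSelf 𝒳₁) (FibCat.toSelf 𝒳₂)) f₁) (BasedFunctor.comp (FibCat.fpSnd (FibCat.toSelf 𝒳₁) (FibCat.toSelf 𝒳₂)) f₂) e) := by
  intro U G
  let pY₁ := FibCat.fpFst (FibCat.toSelf 𝒴₁) (FibCat.toSelf 𝒴₂)
  let pY₂ := FibCat.fpSnd (FibCat.toSelf 𝒴₁) (FibCat.toSelf 𝒴₂)
  let G₁ := BasedFunctor.comp G pY₁
  let G₂ := BasedFunctor.comp G pY₂
  obtain ⟨V, J, hJ⟩ := hf₁ U G₁
  obtain ⟨k, hk⟩ := H14Fib.IsEquivOver.symm' hJ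
  let S := BasedFunctor.comp (FibCat.fpFst G₁ f₁) G₂
  obtain ⟨E₁, hE₁⟩ := H14Fib.fp_equiv_left (F := S) (G := f₂) hk
  have hB : FibCat.IsRepresentable (FibCat.fp S f₂) := H14Fib.rep_of_equiv_target hE₁ (hf₂ V _)
  let Φt := FibCat.fpLift (BasedFunctor.comp (FibCat.fpFst (FibCat.toSelf 𝒳₁) (FibCat.toSelf 𝒳₂)) f₁)
    (BasedFunctor.comp (FibCat.fpSnd (FibCat.toSelf 𝒳₁) (FibCat.toSelf 𝒳₂)) f₂) e
  have sq : ∀ {a b c d : (FibCat.selfOver C).obj} {R T : C} (f : R ⟶ T) (φ : a ⟶ b) (ψ : b ⟶ c)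
      (φ' : a ⟶ d) (ψ' : d ⟶ c), (FibCat.selfOver C).p.IsHomLift f (φ ≫ ψ) →
      (FibCat.selfOver C).p.IsHomLift f (φ' ≫ ψ') → φ ≫ ψ = φ' ≫ ψ' := fun f φ ψ φ' ψ' h h' =>
    ((IsHomLift.fac' (FibCat.selfOver C).p f (φ ≫ ψ)).trans (IsHomLift.fac' (FibCat.selfOver C).p f (φ' ≫ ψ')).symm)
  -- every square in the base over itself with both sides over one morphism commutes
  have mkX : ∀ b : (FibCat.fp S f₂).obj,
      𝒳₁.p.obj b.obj.fst.obj.snd = (FibCat.overCat U).p.obj b.obj.fst.obj.fst ∧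
      𝒳₂.p.obj b.obj.snd = (FibCat.overCat U).p.obj b.obj.fst.obj.fst := fun b =>
    ⟨H14Fib.fp_snd_obj b.obj.fst, H14Fib.fp_snd_obj b⟩
  let xo : ∀ b : (FibCat.fp S f₂).obj, (FibCat.fp (FibCat.toSelf 𝒳₁) (FibCat.toSelf 𝒳₂)).obj := fun b =>
    H14Fib.fpSelfObj b.obj.fst.obj.snd b.obj.snd ((mkX b).1.trans (mkX b).2.symm)
  let io : ∀ b : (FibCat.fp S f₂).obj, G.obj b.obj.fst.obj.fst ≅ Φt.obj (xo b) := fun b =>
    by
      refine H14Fib.fpIsoMk b.obj.fst.obj.iso b.obj.iso ?_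
      refine sq (𝟙 ((FibCat.overCat U).p.obj b.obj.fst.obj.fst)) _ _ _ _ ?_ ?_
      · exact H14Fib.homLift_id_comp
          (@BasedFunctor.preserves_isHomLift _ _ _ _ (FibCat.toSelf 𝒴₁) _ _ _ _ _ _ b.obj.fst.property)
          (H14Fib.fp_iso_isHomLift _ ((Φt.w_obj (xo b)).trans (mkX b).1))
      · exact H14Fib.homLift_id_comp
          (H14Fib.fp_iso_isHomLift _ (G.w_obj b.obj.fst.obj.fst))
          (@BasedFunctor.preserves_isHomLift _ _ _ _ (FibCat.toSelf 𝒴₂) _ _ _ _ _ _ b.property)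
  let Φ : FibCat.fp S f₂ ⥤ᵇ FibCat.fp G Φt :=
    { toFunctor :=
        { obj := fun b => H14Fib.fpObj b.obj.fst.obj.fst (xo b) (io b) rfl
            ((H14Fib.fp_isHomLift_iff _ _).2 b.obj.fst.property)
          map := fun {b b'} m => H14Fib.fpHom m.hom.fst.hom.fst
            (H14Fib.fpHom m.hom.fst.hom.snd m.hom.snd (by
              refine sq ((FibCat.fp S f₂).p.map m) _ _ _ _ ?_ ?_
              · have h1 : 𝒳₁.p.IsHomLift ((FibCat.fp S f₂).p.map m) m.hom.fst.hom.snd :=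
                  BasedFunctor.preserves_isHomLift (FibCat.fpSnd G₁ f₁) ((FibCat.fp G₁ f₁).p.map m.hom.fst) m.hom.fst
                have h2 := H14Fib.fp_iso_isHomLift (xo b') (mkX b').1
                have h3 := H14Fib.homLift_comp' (@BasedFunctor.preserves_isHomLift _ _ _ _ (FibCat.toSelf 𝒳₁) _ _ _ _ _ _ h1) h2
                exact (congrArg (fun k => (FibCat.selfOver C).p.IsHomLift k _) (Category.comp_id _)).mp h3
              · have h1 : 𝒳₂.p.IsHomLift ((FibCat.fp S f₂).p.map m) m.hom.snd :=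
                  H14Fib.fp_isHomLift_snd' _ m
                have h2 := H14Fib.fp_iso_isHomLift (xo b) (mkX b).1
                have h3 := H14Fib.homLift_comp' h2 (@BasedFunctor.preserves_isHomLift _ _ _ _ (FibCat.toSelf 𝒳₂) _ _ _ _ _ _ h1)
                exact (congrArg (fun k => (FibCat.selfOver C).p.IsHomLift k _) (Category.id_comp _)).mp h3))
            (H14Fib.fp_hom_ext m.hom.fst.hom.w m.hom.w)
          map_id := fun b => H14Fib.fp_hom_ext rfl (H14Fib.fp_hom_ext rfl rfl)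
          map_comp := fun m n => H14Fib.fp_hom_ext rfl (H14Fib.fp_hom_ext rfl rfl) }
      w := rfl }
  refine H14Fib.rep_of_equiv_target (E := Φ) ((H14Fib.isEquivOver_iff _).2 ⟨⟨⟨fun {b b'} m => ?_⟩, ⟨fun {b b'} m n h => ?_⟩⟩, fun z => ?_⟩) hB
  · let a : b.obj.fst ⟶ b'.obj.fst :=
      H14Fib.fpHom m.hom.fst m.hom.snd.hom.fst (congrArg (fun t => t.hom.fst) m.hom.w)
    exact ⟨H14Fib.fpHom a m.hom.snd.hom.snd (congrArg (fun t => t.hom.snd) m.hom.w),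
      H14Fib.fp_hom_ext rfl (H14Fib.fp_hom_ext rfl rfl)⟩
  · exact H14Fib.fp_hom_ext
      (H14Fib.fp_hom_ext (congrArg (fun t => t.hom.fst) h) (congrArg (fun t => t.hom.snd.hom.fst) h))
      (congrArg (fun t => t.hom.snd.hom.snd) h)
  · let i₁ := pY₁.toFunctor.mapIso z.obj.iso
    let i₂ := pY₂.toFunctor.mapIso z.obj.iso
    let a : (FibCat.fp G₁ f₁).obj := H14Fib.fpObj z.obj.fst z.obj.snd.obj.fst i₁ rfl
      (@BasedFunctor.preserves_isHomLift _ _ _ _ pY₁ _ _ _ _ _ _ z.property)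
    let b : (FibCat.fp S f₂).obj := H14Fib.fpObj a z.obj.snd.obj.snd i₂ rfl
      (@BasedFunctor.preserves_isHomLift _ _ _ _ pY₂ _ _ _ _ _ _ z.property)
    refine ⟨b, H14Fib.fpIsoMk (F := G) (G := Φt) (Iso.refl _) (H14Fib.fpIsoMk (Iso.refl _) (Iso.refl _) ?_) ?_,
      (H14Fib.fp_isHomLift_iff _ _).2 (IsHomLift.id rfl)⟩
    · refine sq (𝟙 ((FibCat.overCat U).p.obj z.obj.fst)) _ _ _ _ ?_ ?_
      · exact H14Fib.homLift_id_comp
          (@BasedFunctor.preserves_isHomLift _ _ _ _ (FibCat.toSelf 𝒳₁) _ _ _ _ _ _ (IsHomLift.id (mkX b).1))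
          (H14Fib.fp_iso_isHomLift z.obj.snd (H14Fib.fp_snd_obj z))
      · exact H14Fib.homLift_id_comp (H14Fib.fp_iso_isHomLift (xo b) (mkX b).1)
          (@BasedFunctor.preserves_isHomLift _ _ _ _ (FibCat.toSelf 𝒳₂) _ _ _ _ _ _ (IsHomLift.id (mkX b).2))
    · refine H14Fib.fp_hom_ext ?_ ?_
      · change pY₁.map (G.map (𝟙 _)) ≫ i₁.hom = i₁.hom ≫ f₁.map (𝟙 _)
        simp
        exact (Category.comp_id _).symm
      · change pY₂.map (G.map (𝟙 _)) ≫ i₂.hom = i₂.hom ≫ f₂.map (𝟙 _)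
        simp
        exact (Category.comp_id _).symm

end Groth.Agent.S12790
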