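import Groth.Statements.S12795
import Groth.Agent.H14Stk.Local

set_option autoImplicit false
set_option backward.isDefEq.respectTransparency false
set_option backward.isDefEq.respectTransparency.types false
open CategoryTheory
universe w v u
open Stk

namespace Groth.Agent.S12795

/-- Let `𝒳` be a stack in groupoids over `C` for the topology `J` and `Q` a property of objects of `𝒳`
such that (1) for every morphism `y ⟶ x` of `𝒳` whose target satisfies `Q`, `y` is isomorphic, by an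
isomorphism lying over an identity, to an object satisfying `Q`, and (3) for every covering sieve
`R` on `U` and every object `x` over `U`: if every source of a morphism to `x` lying over an arrow
of `R` is isomorphic over an identity to an object satisfying `Q`, then so is `x`. Then the full
subcategory of `𝒳` on `Q`, with the restricted structure functor, is a stack in groupoids for `J`.
(The published statement has a further condition (2), fullness of the subcategory, which is built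
into the full subcategory here; and its word isomorphic is read as isomorphic by an isomorphism
lying over an identity; the published statement is for stacks that are not necessarily in groupoids,
this row treats stacks in groupoids.) -/
theorem result {C : Type u} [Category.{v} C] (J : GrothendieckTopology C) {𝒳 : BasedCategory.{v, max u v} C}
    (h𝒳 : Stk.IsStack J 𝒳) (Q : ObjectProperty 𝒳.obj)
    (h1 : ∀ ⦃y x : 𝒳.obj⦄ (φ : y ⟶ x), Q x → ∃ (y' : 𝒳.obj) (e : y ≅ y'), Q y' ∧ 𝒳.p.IsHomLift (𝟙 (𝒳.p.obj y)) e.hom)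
    (h3 : ∀ ⦃U : C⦄ (R : Sieve U), R ∈ J U → ∀ (x : 𝒳.obj), 𝒳.p.obj x = U →
      (∀ ⦃V : C⦄ (f : V ⟶ U), R f → ∀ (y : 𝒳.obj) (φ : y ⟶ x), 𝒳.p.IsHomLift f φ →
        ∃ (y' : 𝒳.obj) (e : y ≅ y'), Q y' ∧ 𝒳.p.IsHomLift (𝟙 V) e.hom) →
      ∃ (x' : 𝒳.obj) (e : x ≅ x'), Q x' ∧ 𝒳.p.IsHomLift (𝟙 U) e.hom) :
    Stk.IsStack J (BasedCategory.ofFunctor (Q.ι ⋙ 𝒳.p)) := by
  let 𝒴 : BasedCategory C := BasedCategory.ofFunctor (Q.ι ⋙ 𝒳.p)
  let I : 𝒴 ⥤ᵇ 𝒳 := { toFunctor := Q.ι, w := rfl }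
  have : I.toFunctor.Full := inferInstanceAs Q.ι.Full
  have : I.toFunctor.Faithful := inferInstanceAs Q.ι.Faithful
  have hgrpd : FibCat.IsFibGrpd (Q.ι ⋙ 𝒳.p) := by
    refine ⟨fun {x} {V} f => ?_, fun {y x} φ => ?_⟩
    · obtain ⟨y, φ, hφ⟩ := H14Fib.exists_sc_lift h𝒳.1 (a := x.obj) rfl f
      obtain ⟨y', e, hy', he⟩ := h1 φ x.property
      rw [IsHomLift.domain_eq 𝒳.p f φ] at he
      have := IsHomLift.lift_id_inv 𝒳.p V e
      let m : (⟨y', hy'⟩ : 𝒴.obj) ⟶ x := ObjectProperty.homMk (e.inv ≫ φ)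
      refine ⟨⟨y', hy'⟩, m, ?_⟩
      have : 𝒳.p.IsHomLift f (I.map m) := by
        change 𝒳.p.IsHomLift f (e.inv ≫ φ)
        infer_instance
      exact BasedFunctor.isHomLift_map I f m
    · have : 𝒳.p.IsStronglyCartesian ((Q.ι ⋙ 𝒳.p).map φ) (I.map φ) := h𝒳.1.isStronglyCartesian φ.hom
      exact H14Fib.sc_of_map_sc I ((Q.ι ⋙ 𝒳.p).map φ) φ
  refine ⟨hgrpd, fun U R hR => ?_⟩
  obtain ⟨_, _⟩ := H14Stk.isPrestackFor_of_fullyFaithful I ((H14Stk.isPrestack_of_isStack h𝒳).2 R hR)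
  have : (Stk.resSieve R 𝒳).IsEquivalence := h𝒳.2 R hR
  refine { essSurj := ⟨fun H => ?_⟩ }
  let G := (Stk.resSieve R 𝒳).objPreimage (BasedFunctor.comp H I)
  let eG : (Stk.resSieve R 𝒳).obj G ≅ BasedFunctor.comp H I := (Stk.resSieve R 𝒳).objObjPreimageIso _
  obtain ⟨x', e, hx', he⟩ := h3 R hR (G.obj (H14Fib.topObj U)) (G.w_obj _) (fun V f hf y φ hφ => by
    let a : (Stk.sieveCat R).obj := ⟨Over.mk f, hf⟩
    have : 𝒳.p.IsHomLift f (G.map (H14Fib.toTop (Over.mk f))) := H14Stk.over_map_toTop_lift G (Over.mk f)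
    obtain ⟨d, hd, -⟩ := H14Stk.exists_vertIso h𝒳.1 f φ (G.map (H14Fib.toTop (Over.mk f)))
    exact ⟨(H.obj a).obj, d ≪≫ H14Stk.isoApp eG a, (H.obj a).property,
      H14Fib.homLift_id_comp hd (BasedNatTrans.isHomLift eG.hom rfl)⟩)
  obtain ⟨K, ⟨j⟩⟩ := H14Stk.exists_lift_through I G (fun s => by
    have := H14Stk.over_map_toTop_lift G s
    obtain ⟨y', d, hy', hd⟩ := h1 (G.map (H14Fib.toTop s) ≫ e.hom) hx'
    rw [G.w_obj s] at hd
    exact ⟨⟨y', hy'⟩, d.symm, @IsHomLift.lift_id_inv _ _ _ _ 𝒳.p _ _ _ d hd⟩)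
  have := H14Stk.post_full (𝒜 := Stk.sieveCat R) I
  have := H14Stk.post_faithful (𝒜 := Stk.sieveCat R) I
  exact ⟨K, ⟨(H14Stk.post (Stk.sieveCat R) I).preimageIso
    ((Stk.resSieve R 𝒳).mapIso j ≪≫ eG)⟩⟩

end Groth.Agent.S12795
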