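import Groth.Statements.S12798
import Groth.Agent.H14Stk.Local
import Groth.Agent.H14Fib.FpMap

set_option autoImplicit false
set_option backward.isDefEq.respectTransparency false
set_option backward.isDefEq.respectTransparency.types false
open CategoryTheory
universe w v u
open Stk

namespace Groth.Agent.S12798

/-- Let `𝒮₁`, `𝒮₂`, `𝒯₁` be stacks in groupoids over `C` for the topology `J`, and `F : 𝒮₂ ⟶ 𝒮₁`, `G :
𝒯₁ ⟶ 𝒮₁` functors over `C` such that every object of `𝒮₁` is locally in the essential image of `F`.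
If the first projection `𝒮₂ ×_{𝒮₁} 𝒯₁ ⟶ 𝒮₂` of the 2-fibre product over `C` is faithful, then `G` is
faithful. (The published statement is for any 2-cartesian square of stacks in groupoids; this row is
the case of the explicit 2-fibre product, to which the general case reduces because faithfulness is
invariant under equivalence.) -/
theorem result {C : Type u} [Category.{v} C] (J : GrothendieckTopology C) {𝒮₁ 𝒮₂ 𝒯₁ : BasedCategory.{v, max u v} C}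
    (h₁ : Stk.IsStack J 𝒮₁) (h₂ : Stk.IsStack J 𝒮₂) (h₃ : Stk.IsStack J 𝒯₁) (F : 𝒮₂ ⥤ᵇ 𝒮₁) (G : 𝒯₁ ⥤ᵇ 𝒮₁)
    (hF : ∀ y : 𝒮₁.obj, ∃ R ∈ J (𝒮₁.p.obj y), ∀ ⦃V : C⦄ (f : V ⟶ 𝒮₁.p.obj y), R f →
      ∃ (x : 𝒮₂.obj) (φ : F.obj x ⟶ y), 𝒮₁.p.IsHomLift f φ)
    (hG' : (FibCat.fpFst F G).toFunctor.Faithful) : G.toFunctor.Faithful := by
  have := H14Fib.isFibered_of_fibGrpd h₃.1
  refine H14Fib.faithful_of_vertFaithful (H14Fib.MapSC.of_fibGrpd G h₁.1) ?_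
  intro U t t' α β hα hβ hG
  obtain rfl : 𝒯₁.p.obj t = U := IsHomLift.domain_eq 𝒯₁.p (𝟙 U) α
  obtain ⟨R, hR, hloc⟩ := hF (G.obj t)
  let η := eqToHom (G.w_obj t).symm
  refine H14Stk.vert_ext_of_local (H14Stk.isPrestack_of_isStack h₃)
    (J.pullback_stable η hR) α β ?_
  intro V f hf s ψ hψ
  obtain ⟨x, φ, hφ⟩ := hloc (f ≫ η) hf
  have hψ' : 𝒮₁.p.IsHomLift (f ≫ η) (G.map ψ) := by
    have h0 : 𝒮₁.p.IsHomLift f (G.map ψ) := inferInstance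
    refine IsHomLift.of_fac' 𝒮₁.p (f ≫ η) (G.map ψ) (IsHomLift.domain_eq 𝒮₁.p f (G.map ψ)) rfl ?_
    rw [IsHomLift.fac' 𝒮₁.p f (G.map ψ)]
    simp [η]
  obtain ⟨d, hd, -⟩ := H14Stk.exists_vertIso h₁.1 (f ≫ η) φ (G.map ψ)
  obtain ⟨s', χ, hχ⟩ := H14Fib.exists_sc_lift h₃.1 (a := t') (IsHomLift.codomain_eq 𝒯₁.p (𝟙 (𝒯₁.p.obj t)) α) f
  let a := Functor.IsCartesian.map 𝒯₁.p f χ (ψ ≫ α)
  let b := Functor.IsCartesian.map 𝒯₁.p f χ (ψ ≫ β)
  have := H14Fib.sc_of_fibGrpd h₁.1 f (G.map χ)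
  have ha : G.map a = G.map b := by
    apply Functor.IsCartesian.ext 𝒮₁.p f (G.map χ)
    simp only [← Functor.map_comp, a, b, Functor.IsCartesian.fac]
    rw [Functor.map_comp, Functor.map_comp, hG]
  have : IsIso (G.map a) := H14Fib.isIso_of_fibGrpd h₁.1 (𝟙 V) (G.map a)
  have hx : 𝒮₂.p.obj x = V := (F.w_obj x).symm.trans (IsHomLift.domain_eq 𝒮₁.p (f ≫ η) φ)
  let z : (FibCat.fp F G).obj := H14Fib.fpObj x s d hx hd
  let z' : (FibCat.fp F G).obj := H14Fib.fpObj x s' (d ≪≫ asIso (G.map a)) hx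
    (H14Fib.homLift_id_comp hd (inferInstanceAs (𝒮₁.p.IsHomLift (𝟙 V) (G.map a))))
  let m : z ⟶ z' := H14Fib.fpHom (𝟙 x) a (by
    change F.map (𝟙 x) ≫ d.hom ≫ G.map a = d.hom ≫ G.map a
    simp)
  let m' : z ⟶ z' := H14Fib.fpHom (𝟙 x) b (by
    change F.map (𝟙 x) ≫ d.hom ≫ G.map a = d.hom ≫ G.map b
    simp [ha])
  have hm : a = b := congrArg (fun n : z ⟶ z' => n.hom.snd) (hG'.map_injective (show
    (FibCat.fpFst F G).map m = (FibCat.fpFst F G).map m' from rfl))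
  rw [← Functor.IsCartesian.fac 𝒯₁.p f χ (ψ ≫ α), ← Functor.IsCartesian.fac 𝒯₁.p f χ (ψ ≫ β)]
  exact congrArg (· ≫ χ) hm

end Groth.Agent.S12798
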