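import Groth.Statements.S12799
import Groth.Agent.H14Stk.Local
import Groth.Agent.H14Fib.FpMap

set_option autoImplicit false
set_option backward.isDefEq.respectTransparency false
set_option backward.isDefEq.respectTransparency.types false
open CategoryTheory
universe w v u
open Stk

namespace Groth.Agent.S12799

/-- Let `𝒮₁`, `𝒮₂`, `𝒯₁` be stacks in groupoids over `C` for the topology `J`, `F : 𝒮₂ ⟶ 𝒮₁` a functor
over `C` whose underlying functor is fully faithful and such that every object of `𝒮₁` is locally in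
the essential image of `F`, and `G : 𝒯₁ ⟶ 𝒮₁` a functor over `C`. If the 2-fibre product `𝒮₂ ×_{𝒮₁}
𝒯₁` over `C` is fibred in setoids, then `𝒯₁` is fibred in setoids, hence a stack in setoids. (The
published statement is for any 2-cartesian square of stacks in groupoids; this row is the case of
the explicit 2-fibre product, to which the general case reduces because being fibred in setoids is
invariant under equivalence over `C`.) -/
theorem result {C : Type u} [Category.{v} C] (J : GrothendieckTopology C) {𝒮₁ 𝒮₂ 𝒯₁ : BasedCategory.{v, max u v} C}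
    (h₁ : Stk.IsStack J 𝒮₁) (h₂ : Stk.IsStack J 𝒮₂) (h₃ : Stk.IsStack J 𝒯₁) (F : 𝒮₂ ⥤ᵇ 𝒮₁) [F.toFunctor.Full] [F.toFunctor.Faithful]
    (hF : ∀ y : 𝒮₁.obj, ∃ R ∈ J (𝒮₁.p.obj y), ∀ ⦃V : C⦄ (f : V ⟶ 𝒮₁.p.obj y), R f →
      ∃ (x : 𝒮₂.obj) (φ : F.obj x ⟶ y), 𝒮₁.p.IsHomLift f φ)
    (G : 𝒯₁ ⥤ᵇ 𝒮₁) (h : FibCat.IsFibSetoid (FibCat.fp F G).p) : FibCat.IsFibSetoid 𝒯₁.p := by
  have hEq := H14Stk.isEquivOver_of_locEssSurj h₂ (H14Stk.isPrestack_of_isStack h₁) F hF
  have hs : FibCat.IsEquivOver (FibCat.fpSnd F G) := by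
    refine (H14Fib.isEquivOver_iff _).2 ⟨⟨⟨fun {z z'} b => ?_⟩, ⟨fun {z z'} m m' e => ?_⟩⟩, fun t => ?_⟩
    · exact ⟨H14Fib.fpHom (F.toFunctor.preimage (z.obj.iso.hom ≫ G.map b ≫ z'.obj.iso.inv)) b
        (by rw [F.toFunctor.map_preimage]; simp), rfl⟩
    · refine H14Fib.fp_hom_ext (F.toFunctor.map_injective ?_) e
      have h1 : F.map m.hom.fst ≫ z'.obj.iso.hom = z.obj.iso.hom ≫ G.map m.hom.snd := m.hom.w
      have h2 : F.map m'.hom.fst ≫ z'.obj.iso.hom = z.obj.iso.hom ≫ G.map m'.hom.snd := m'.hom.w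
      have e' : G.map m.hom.snd = G.map m'.hom.snd := congrArg (G.map ·) e
      rw [← cancel_mono z'.obj.iso.hom]
      exact h1.trans ((congrArg (z.obj.iso.hom ≫ ·) e').trans h2.symm)
    · obtain ⟨x, d, hd⟩ := H14Fib.essSurjOver_of_isEquivOver hEq (G.obj t)
      refine ⟨H14Fib.fpObj x t d (U := 𝒯₁.p.obj t) ?_ ?_, Iso.refl _, IsHomLift.id rfl⟩
      · exact (H14Fib.EssSurjOver.obj_eq d.hom).trans (G.w_obj t)
      · rw [← G.w_obj t]; exact hd
  exact H14Fib.fibSetoid_target_of_isEquivOver hs h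

end Groth.Agent.S12799
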