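import Groth.Statements.S12802
import Groth.Agent.H14Stk.Site

set_option autoImplicit false
set_option backward.isDefEq.respectTransparency false
set_option backward.isDefEq.respectTransparency.types false
open CategoryTheory
universe v u
open Stk

namespace Groth.Agent.S12802

/-- Let `F : 𝒳 ⟶ 𝒴` be a functor over `C` between categories fibred in groupoids over `C` and endow `𝒳`
and `𝒴` with the topologies inherited from the topology `J` on `C` (generated by the sieves whose
image in `C` covers). Then `F` maps covering sieves to families generating covering sieves, lifts
coverings (it is cocontinuous), and precomposition with `F` sends sheaves of types on `𝒴` to sheaves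
on `𝒳` (it is continuous). (The published statement is for a 1-morphism of fibred categories with
the inherited topologies; this row is the case of categories fibred in groupoids, and the published
statement phrases continuity through the fibre products of covering families and deduces a morphism
of topoi whose inverse image is precomposition with `F`, which is not stated here.) -/
theorem result {C : Type u} [Category.{v} C] (J : GrothendieckTopology C) {𝒳 𝒴 : BasedCategory.{v, max u v} C}
    (h𝒳 : FibCat.IsFibGrpd 𝒳.p) (h𝒴 : FibCat.IsFibGrpd 𝒴.p) (F : 𝒳 ⥤ᵇ 𝒴) :
    CoverPreserving (𝒳.p.restrictedTopology J) (𝒴.p.restrictedTopology J) F.toFunctor ∧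
      F.toFunctor.IsCocontinuous (𝒳.p.restrictedTopology J) (𝒴.p.restrictedTopology J) ∧
      F.toFunctor.IsContinuous (𝒳.p.restrictedTopology J) (𝒴.p.restrictedTopology J) := by
  exact ⟨H14Stk.coverPreserving_restricted F J h𝒳 h𝒴, H14Stk.isCocontinuous_restricted F J h𝒳 h𝒴,
    H14Stk.isContinuous_restricted F J h𝒳 h𝒴⟩

end Groth.Agent.S12802
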