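import Groth.Statements.S12805
import Groth.Agent.H14Stk.Fibre

set_option autoImplicit false
set_option backward.isDefEq.respectTransparency false
set_option backward.isDefEq.respectTransparency.types false
open CategoryTheory
universe v u
open Stk

namespace Groth.Agent.S12805

/-- Let `𝒳` be a stack in groupoids over `C` for the topology `J`, endowed with the topology inherited
from `J`, and let `𝒴` be a category over `𝒳` that is a stack in groupoids for that topology. Then
`𝒴`, with the composite structure functor `𝒴 ⟶ 𝒳 ⟶ C`, is a stack in groupoids over `C` for `J`.
(The published statement also has an assertion for stacks not necessarily in groupoids, which is not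
stated here.) -/
theorem result {C : Type u} [Category.{v} C] (J : GrothendieckTopology C) {𝒳 : BasedCategory.{v, max u v} C}
    (h𝒳 : Stk.IsStack J 𝒳) (𝒴 : BasedCategory.{v, max u v} 𝒳.obj) (h𝒴 : Stk.IsStack (𝒳.p.restrictedTopology J) 𝒴) :
    Stk.IsStack J (BasedCategory.ofFunctor (𝒴.p ⋙ 𝒳.p)) := by
  exact H14Stk.isStack_push_of_isStack_restricted J h𝒳 h𝒴

end Groth.Agent.S12805
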