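import Groth.Statements.S12806
import Groth.Agent.H14Fib.Fp
import Groth.Agent.H14Fib.FibSet

set_option autoImplicit false
set_option backward.isDefEq.respectTransparency false
set_option backward.isDefEq.respectTransparency.types false
open CategoryTheory
universe v u
open FibCat

namespace Groth.Agent.S12806

/-- Let `𝒮` be fibred in groupoids over `C`, `U` an object of `C` and `x, y : C/U ⟶ 𝒮` two functors over
`C` (objects over `U` in 2-Yoneda form), with `e` the 2-isomorphism identifying their composites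
with the structure functor. Then the 2-fibre product over `C` of `(x, y) : C/U ⟶ 𝒮 ×_C 𝒮` with the
diagonal `𝒮 ⟶ 𝒮 ×_C 𝒮` is fibred in setoids over `C/U` through its first projection. (The published
statement is for a fibred category with `x`, `y` the functors given by chosen pullbacks; this row is
the case of a category fibred in groupoids, where every functor over `C` out of `C/U` is of that
kind.) -/
theorem result {C : Type u} [Category.{v} C] {𝒮 : BasedCategory.{v, max u v} C} (h𝒮 : FibCat.IsFibGrpd 𝒮.p)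
    (U : C) (x y : FibCat.overCat U ⥤ᵇ 𝒮)
    (e : BasedFunctor.comp x (FibCat.toSelf 𝒮) ≅ BasedFunctor.comp y (FibCat.toSelf 𝒮)) :
    FibCat.IsFibSetoid (FibCat.fpFst (FibCat.fpLift x y e) (FibCat.diag (FibCat.toSelf 𝒮))).toFunctor := by
  let P := FibCat.fpLift x y e
  let D := FibCat.diag (FibCat.toSelf 𝒮)
  have hfp : FibCat.IsFibGrpd (FibCat.fp P D).p :=
    H14Fib.fp_fibGrpd (H14Fib.overCat_fibSet U).1 h𝒮
      (H14Fib.fp_fibGrpd h𝒮 h𝒮 H14Fib.selfOver_fibGrpd)
  refine H14Fib.fibSetoid_iff_faithful.2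
    ⟨(H14Fib.fibGrpd_iff_comp (H14Fib.overCat_fibSet U) _).2 hfp, ⟨fun {a b} φ ψ h => ?_⟩⟩
  have h1 : φ.hom.fst = ψ.hom.fst := h
  refine H14Fib.fp_hom_ext h1 ?_
  have h2 : D.map φ.hom.snd = D.map ψ.hom.snd := by
    rw [← cancel_epi a.obj.iso.hom, ← φ.hom.w, ← ψ.hom.w, h1]
  exact congrArg (fun t => t.hom.fst) h2

end Groth.Agent.S12806
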