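import Groth.Statements.S12807

set_option autoImplicit false
set_option backward.isDefEq.respectTransparency false
set_option backward.isDefEq.respectTransparency.types false
open CategoryTheory CategoryTheory.Limits
universe v₃ u₃ v₂ u₂ v u
open FibCat

namespace Groth.Agent.S12807

/-- Let `u : C ⥤ D` be a functor and `𝒮` a category over `D` whose structure functor is a fibred
category. Then the 2-fibre product `C ×_D 𝒮` of `u` and the structure functor (triples `(U, y, u U ≅
p y)`), with its first projection, is a fibred category over `C`. (The published statement uses the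
strict fibre product, pairs with `u U = p y`; for `𝒮` fibred over `D` it is equivalent over `C` to
the 2-fibre product used here.) -/
theorem result {C : Type u} [Category.{v} C] {D : Type u₂} [Category.{v₂} D] (u : C ⥤ D)
    (𝒮 : BasedCategory.{v₃, u₃} D) [𝒮.p.IsFibered] :
    (CategoricalPullback.π₁ u 𝒮.p).IsFibered := by
  refine Functor.IsFibered.of_exists_isStronglyCartesian fun x R f => ?_
  change R ⟶ x.fst at f
  obtain ⟨b, χ, hχ⟩ := IsPreFibered.exists_isCartesian 𝒮.p (a := x.snd) rfl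
    (u.map f ≫ x.iso.hom)
  have hχ' : 𝒮.p.IsStronglyCartesian (u.map f ≫ x.iso.hom) χ := inferInstance
  let e := IsHomLift.domain_eq 𝒮.p (u.map f ≫ x.iso.hom) χ
  let P : CategoricalPullback u 𝒮.p := ⟨R, b, eqToIso e.symm⟩
  let φ : P ⟶ x :=
    { fst := f, snd := χ
      w := by
        change u.map f ≫ x.iso.hom = eqToHom e.symm ≫ 𝒮.p.map χ
        rw [IsHomLift.fac' 𝒮.p (u.map f ≫ x.iso.hom) χ]
        simp }
  have hφ : (CategoricalPullback.π₁ u 𝒮.p).IsHomLift f φ :=
    IsHomLift.map (CategoricalPullback.π₁ u 𝒮.p) φ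
  refine ⟨P, φ, { toIsHomLift := hφ, universal_property' := fun {a'} g ψ _ => ?_ }⟩
  change a'.fst ⟶ R at g
  have hg : g ≫ f = ψ.fst := IsHomLift.eq_of_isHomLift (CategoricalPullback.π₁ u 𝒮.p) (g ≫ f) ψ
  let k : 𝒮.p.obj a'.snd ⟶ u.obj R := a'.iso.inv ≫ u.map g
  have hk : 𝒮.p.map ψ.snd = k ≫ u.map f ≫ x.iso.hom := by
    simp only [k, Category.assoc, ← Functor.map_comp_assoc, hg]
    rw [Iso.eq_inv_comp]
    exact ψ.w.symm
  obtain ⟨τ, ⟨hτ, hτ'⟩, hτu⟩ := Functor.IsStronglyCartesian.universal_property 𝒮.p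
    (u.map f ≫ x.iso.hom) χ k _ hk ψ.snd
  have hτm : 𝒮.p.map τ = k ≫ eqToHom e.symm := by
    rw [IsHomLift.fac' 𝒮.p k τ]; simp
  let θ : a' ⟶ P :=
    { fst := g, snd := τ
      w := by
        change u.map g ≫ eqToHom e.symm = a'.iso.hom ≫ 𝒮.p.map τ
        rw [hτm]; simp [k] }
  refine ⟨θ, ⟨IsHomLift.map (CategoricalPullback.π₁ u 𝒮.p) θ, CategoricalPullback.hom_ext hg hτ'⟩, ?_⟩
  rintro t ⟨ht, hte⟩
  have h1 : g = t.fst := @IsHomLift.eq_of_isHomLift _ _ _ _ (CategoricalPullback.π₁ u 𝒮.p) a' P g t ht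
  refine CategoricalPullback.hom_ext h1.symm (hτu _ ⟨?_, congrArg CategoricalPullback.Hom.snd hte⟩)
  refine IsHomLift.of_fac' 𝒮.p k t.snd rfl e ?_
  have hw : u.map t.fst ≫ eqToHom e.symm = a'.iso.hom ≫ 𝒮.p.map t.snd := t.w
  rw [← cancel_epi a'.iso.hom, ← hw, ← h1]
  simp [k]

end Groth.Agent.S12807
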