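import Groth.Statements.S12816
import Groth.Agent.H14Fib.Yoneda

set_option autoImplicit false
set_option backward.isDefEq.respectTransparency false
set_option backward.isDefEq.respectTransparency.types false
open CategoryTheory
universe v u
open Stk

namespace Groth.Agent.S12816

/-- Let `𝒳`, `𝒴` be fibred in groupoids over `C` and `F : 𝒳 ⟶ 𝒴` a functor over `C`. Then the underlying
functor of `F` is fully faithful if and only if, for every object `U` of `C`, postcomposition with
`F` is a fully faithful functor from the category of functors `C/U ⟶ 𝒳` over `C` to that of functors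
`C/U ⟶ 𝒴` over `C`; under the 2-Yoneda lemma the latter says that `F` induces bijections between
morphisms of pullbacks `x|_V ⟶ y|_V` and `F(x)|_V ⟶ F(y)|_V` for all objects `x, y` over `U` and all
`V ⟶ U`, that is, isomorphisms of the presheaves of morphisms. (The published statement is for
stacks over a site, not necessarily in groupoids; the stack property plays no role and is not
assumed here, and this row treats categories fibred in groupoids.) -/
theorem result {C : Type u} [Category.{v} C] {𝒳 𝒴 : BasedCategory.{v, max u v} C}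
    (h𝒳 : FibCat.IsFibGrpd 𝒳.p) (h𝒴 : FibCat.IsFibGrpd 𝒴.p) (F : 𝒳 ⟶ 𝒴) :
    (F.toFunctor.Full ∧ F.toFunctor.Faithful) ↔
      ∀ U : C, (Bicategory.postcomp (FibCat.overCat U) F).Full ∧ (Bicategory.postcomp (FibCat.overCat U) F).Faithful := by
  have : (𝒳.p).IsFibered := H14Fib.isFibered_of_fibGrpd h𝒳
  have hsc : ∀ {U : C} (G : FibCat.overCat U ⥤ᵇ 𝒳), H14Fib.TopSC G := fun G =>
    H14Fib.topSC_of_fibGrpd h𝒳 G
  have hscY : ∀ {U : C} (G : FibCat.overCat U ⥤ᵇ 𝒴), H14Fib.TopSC G := fun G =>
    H14Fib.topSC_of_fibGrpd h𝒴 G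
  constructor
  · rintro ⟨_, _⟩ U
    constructor
    · refine ⟨fun {G H} α => ?_⟩
      let φ := F.toFunctor.preimage (α.toNatTrans.app (H14Fib.topObj U))
      have : 𝒳.p.IsHomLift (𝟙 U) φ := by
        rw [← BasedFunctor.isHomLift_iff F, F.toFunctor.map_preimage]
        exact BasedNatTrans.isHomLift α rfl
      refine ⟨H14Fib.extendNatTrans (G := G) (hsc H) φ, H14Fib.natTrans_ext (hscY _) ?_⟩
      change F.toFunctor.map ((H14Fib.extendNatTrans (G := G) (hsc H) φ).toNatTrans.app _) = _
      rw [H14Fib.extendNatTrans_top, F.toFunctor.map_preimage]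
    · refine ⟨fun {G H} α β h => H14Fib.natTrans_ext (hsc H) (F.toFunctor.map_injective ?_)⟩
      exact congrArg (fun t => t.toNatTrans.app (H14Fib.topObj U)) h
  · intro h
    refine ⟨H14Fib.full_of_vertFull (H14Fib.MapSC.of_fibGrpd F h𝒴) ?_,
      H14Fib.faithful_of_vertFaithful (H14Fib.MapSC.of_fibGrpd F h𝒴) ?_⟩
    · intro U a b ha hb ψ hψ
      obtain ⟨_, _⟩ := h U
      obtain ⟨G, e, -, he⟩ := H14Fib.exists_fromOver ha
      obtain ⟨H, d, -, hd⟩ := H14Fib.exists_fromOver hb
      have := IsHomLift.lift_id_inv 𝒳.p U d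
      let ψ' : F.obj (G.obj (H14Fib.topObj U)) ⟶ F.obj (H.obj (H14Fib.topObj U)) :=
        F.map e.hom ≫ ψ ≫ F.map d.inv
      have : 𝒴.p.IsHomLift (𝟙 U) ψ' := inferInstanceAs (𝒴.p.IsHomLift (𝟙 U) (F.map e.hom ≫ ψ ≫ F.map d.inv))
      obtain ⟨α, hα⟩ := (Bicategory.postcomp (FibCat.overCat U) F).map_surjective
        (H14Fib.extendNatTrans (G := BasedFunctor.comp G F) (hscY (BasedFunctor.comp H F)) ψ')
      have hα' : F.map (α.toNatTrans.app (H14Fib.topObj U)) = ψ' := by
        have := congrArg (fun t => t.toNatTrans.app (H14Fib.topObj U)) hα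
        exact this.trans (H14Fib.extendNatTrans_top _ _)
      have hαl : 𝒳.p.IsHomLift (𝟙 U) (α.toNatTrans.app (H14Fib.topObj U)) := BasedNatTrans.isHomLift α rfl
      have := IsHomLift.lift_id_inv 𝒳.p U e
      refine ⟨e.inv ≫ α.toNatTrans.app (H14Fib.topObj U) ≫ d.hom,
        H14Fib.homLift_id_comp this (H14Fib.homLift_id_comp hαl hd), ?_⟩
      rw [Functor.map_comp, Functor.map_comp, hα']
      simp [ψ', ← F.toFunctor.map_comp, ← Functor.map_comp_assoc]
    · intro U a b φ ψ hφ hψ heq
      obtain ⟨-, _⟩ := h U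
      obtain ⟨G, e, -, he⟩ := H14Fib.exists_fromOver (IsHomLift.domain_eq 𝒳.p (𝟙 U) φ)
      obtain ⟨H, d, -, hd⟩ := H14Fib.exists_fromOver (IsHomLift.codomain_eq 𝒳.p (𝟙 U) φ)
      have := IsHomLift.lift_id_inv 𝒳.p U d
      have h1 : 𝒳.p.IsHomLift (𝟙 U) (e.hom ≫ φ ≫ d.inv) := inferInstance
      have h2 : 𝒳.p.IsHomLift (𝟙 U) (e.hom ≫ ψ ≫ d.inv) := inferInstance
      have := (Bicategory.postcomp (FibCat.overCat U) F).map_injective
        (a₁ := H14Fib.extendNatTrans (G := G) (hsc H) (e.hom ≫ φ ≫ d.inv))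
        (a₂ := H14Fib.extendNatTrans (G := G) (hsc H) (e.hom ≫ ψ ≫ d.inv)) (H14Fib.natTrans_ext (hscY _) (by
          change F.map ((H14Fib.extendNatTrans (G := G) (hsc H) _).toNatTrans.app _) =
            F.map ((H14Fib.extendNatTrans (G := G) (hsc H) _).toNatTrans.app _)
          rw [H14Fib.extendNatTrans_top, H14Fib.extendNatTrans_top, Functor.map_comp, Functor.map_comp,
            Functor.map_comp, Functor.map_comp, heq]))
      have := congrArg (fun t => t.toNatTrans.app (H14Fib.topObj U)) this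
      simp only [H14Fib.extendNatTrans_top] at this
      exact (cancel_mono d.inv).1 ((cancel_epi e.hom).1 this)

end Groth.Agent.S12816
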