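import Groth.Statements.S1282
import Groth.Agent.H7Flat.Flatten.NearClosure
-- import your own Groth.Agent.* helpers here

set_option autoImplicit false
universe u
open FlatMor

namespace Groth.Agent.S1282

open AlgebraicGeometry CategoryTheory Limits in
/-- Let f : X → Y be a proper morphism with X and Y quasi-compact and quasi-separated, V ⊆ Y a
quasi-compact open, and T ⊆ V a subset closed in V such that f is an isomorphism over some open
neighbourhood of T inside V. Then there is a V-admissible blow-up b : Y' → Y such that, over some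
open W' of Y' containing the closure of b⁻¹(T), the strict transform X'' → Y' of f (X'' the closed
subscheme of X ×_Y Y' cut out by the functions locally killed by a power of the pulled-back
exceptional ideal) restricts to an isomorphism. -/
theorem result {X Y : Scheme.{u}} [CompactSpace X] [QuasiSeparatedSpace X] [CompactSpace Y] [QuasiSeparatedSpace Y]
    (f : X ⟶ Y) [IsProper f] (V : Y.Opens) (hV : IsCompact (V : Set Y)) (T : Set Y) (hTV : T ⊆ V)
    (hT : IsClosed (Subtype.val ⁻¹' T : Set V))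
    (hiso : ∃ W : Y.Opens, T ⊆ W ∧ W ≤ V ∧ IsIso (f ∣_ W)) :
    ∃ (𝓘 : Y.IdealSheafData) (Y' : Scheme.{u}) (b : Y' ⟶ Y), BlowUp.IsBlowUp b 𝓘 ∧ BlowUp.IsAdmissibleFor V 𝓘 ∧
      ∀ (X' : Scheme.{u}) (p₁ : X' ⟶ X) (p₂ : X' ⟶ Y'), IsPullback p₁ p₂ f b →
      ∀ (𝒥 : X'.IdealSheafData),
        (∀ (W : X'.affineOpens) (a : Γ(X', W.1)), a ∈ 𝒥.ideal W ↔
          BlowUp.KilledByPowerNear ((𝓘.comap f).comap p₁) (Coh.structureModule X') W a) →
        ∃ W' : Y'.Opens, closure (b.base ⁻¹' T) ⊆ W' ∧ IsIso ((𝒥.subschemeι ≫ p₂) ∣_ W') := by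
  obtain ⟨W, hTW, hWV, hW⟩ := hiso
  obtain ⟨C, hC, hCeq⟩ : ∃ C : Set Y, IsClosed C ∧ (V : Set Y) ∩ T = (V : Set Y) ∩ C := by
    obtain ⟨C, hC, hC'⟩ := isClosed_induced_iff.mp hT
    exact ⟨C, hC, (Subtype.image_preimage_coe _ _).symm.trans ((congrArg _ hC'.symm).trans (Subtype.image_preimage_coe _ _))⟩
  have hTC : ∀ y ∈ V, y ∈ closure T → y ∈ T := fun y hyV hy => by
    have h1 : T ⊆ C := fun t ht => ((Set.ext_iff.mp hCeq t).1 ⟨hTV ht, ht⟩).2
    exact ((Set.ext_iff.mp hCeq y).2 ⟨hyV, closure_minimal h1 hC hy⟩).2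
  have hTc : IsCompact T := by
    rw [← Set.inter_eq_right.mpr hTV, hCeq]
    exact hV.inter_right hC
  obtain ⟨W₀, hW₀c, hW₀le, hTW₀⟩ := H8Props.PushoutQF.exists_qc_open W T hTc hTW
  haveI : IsIso (f ∣_ W₀) :=
    H7Flat.Flatten.property_restrict_mono (P := MorphismProperty.isomorphisms Scheme) f hW₀le hW
  obtain ⟨K, Y', b, hb, hadm, hmain⟩ :=
    H7Flat.Flatten.exists_iso_near_closure f V hV T W₀ hW₀c hTW₀ fun y hy hy' => hTW₀ (hTC y hy hy')
  refine ⟨K, Y', b, hb, hadm, fun X' p₁ p₂ hp 𝒥 h𝒥 => ?_⟩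
  obtain rfl := H7Flat.Flatten.eq_supportedOn (H7Flat.Flatten.isEffCartier_strict hp hb) 𝒥 h𝒥
  exact hmain X' p₁ p₂ hp

end Groth.Agent.S1282
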