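import Groth.Statements.S12821
import Groth.Agent.H14AlgSt.Points

set_option autoImplicit false
set_option backward.isDefEq.respectTransparency false
set_option backward.isDefEq.respectTransparency.types false
universe u
open CategoryTheory AlgebraicGeometry
open AlgSt

namespace Groth.Agent.S12821

/-- For an algebraic stack `𝒳` over `S`, an algebraic space `U` over `S` and a morphism `u : U ⟶ 𝒳` that
is flat and locally of finite presentation, the map `|u| : |U| → |𝒳|` is open. -/
theorem result {S : Scheme.{u}} {𝒳 : AlgSt.Cat S}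
    (h𝒳 : AlgSt.IsAlgStack Scheme.fppfPrecoverage 𝒳) (U : AlgSp.Space S) (u : AlgSt.ofSp U.obj ⥤ᵇ 𝒳)
    (hu₁ : AlgSt.RepByAlgSpWith (AlgSp.LocP @Flat) u)
    (hu₂ : AlgSt.RepByAlgSpWith (AlgSp.LocP @LocallyOfFinitePresentation) u) :
    IsOpenMap (AlgSt.Points.map u) := by
  exact Groth.Agent.H14AlgSt.isOpenMap_map_of_space h𝒳.isStack.1 hu₁ hu₂

end Groth.Agent.S12821
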