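import Groth.Statements.S12824
import Groth.Agent.H14AlgSt.Points

set_option autoImplicit false
set_option backward.isDefEq.respectTransparency false
set_option backward.isDefEq.respectTransparency.types false
universe u
open CategoryTheory AlgebraicGeometry
open AlgSt

namespace Groth.Agent.S12824

/-- For an algebraic stack `𝒳` over `S`, every open neighbourhood of a point of `|𝒳|` contains a
quasi-compact open neighbourhood of that point; hence `|𝒳|` is locally quasi-compact. -/
theorem result {S : Scheme.{u}} {𝒳 : AlgSt.Cat S}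
    (h𝒳 : AlgSt.IsAlgStack Scheme.fppfPrecoverage 𝒳) (x : AlgSt.Points 𝒳) (W : Set (AlgSt.Points 𝒳)) (hW : IsOpen W) (hx : x ∈ W) :
    ∃ V : Set (AlgSt.Points 𝒳), IsOpen V ∧ IsCompact V ∧ x ∈ V ∧ V ⊆ W := by
  obtain ⟨U, q, hq, hqs⟩ := h𝒳.atlas
  obtain ⟨t, ht⟩ := Groth.Agent.H14AlgSt.ofChart_surjective h𝒳.isStack.1 hqs x
  have ho := Groth.Agent.H14AlgSt.isOpenMap_ofChart h𝒳.isStack.1
    (Groth.Agent.H14AlgSt.repWith_mono (fun _ _ _ h => Groth.Agent.H12AlgSp.locP_mono
      (fun _ _ g (_ : Smooth g) => (inferInstance : Flat g)) h) hq)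
    (Groth.Agent.H14AlgSt.repWith_mono (fun _ _ _ h => Groth.Agent.H12AlgSp.locP_mono
      (fun _ _ g (_ : Smooth g) => (inferInstance : LocallyOfFinitePresentation g)) h) hq)
  have hc := Groth.Agent.H14AlgSt.continuous_ofChart h𝒳 q
  have htW : t ∈ AlgSt.Points.ofChart q ⁻¹' W := by rwa [Set.mem_preimage, ht]
  obtain ⟨_, ⟨_, hVa, rfl⟩, htV, hVW⟩ :=
    U.left.isBasis_affineOpens.exists_subset_of_mem_open htW (hW.preimage hc)
  exact ⟨AlgSt.Points.ofChart q '' _, ho _ (TopologicalSpace.Opens.isOpen _),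
    hVa.isCompact.image hc, ⟨t, htV, ht⟩, Set.image_subset_iff.2 hVW⟩

end Groth.Agent.S12824
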