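import Groth.Statements.S12825
import Groth.Agent.H14AlgSt.Points

set_option autoImplicit false
set_option backward.isDefEq.respectTransparency false
set_option backward.isDefEq.respectTransparency.types false
universe u
open CategoryTheory AlgebraicGeometry
open AlgSt

namespace Groth.Agent.S12825

/-- The base change of a surjective morphism of algebraic stacks is surjective: if `f : 𝒳 ⟶ 𝒴` is
surjective on points then so is the projection `𝒵 ×_𝒴 𝒳 ⟶ 𝒵` for every morphism `g : 𝒵 ⟶ 𝒴` of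
algebraic stacks. -/
theorem result {S : Scheme.{u}} {𝒳 𝒴 𝒵 : AlgSt.Cat S}
    (h𝒳 : AlgSt.IsAlgStack Scheme.fppfPrecoverage 𝒳) (h𝒴 : AlgSt.IsAlgStack Scheme.fppfPrecoverage 𝒴) (h𝒵 : AlgSt.IsAlgStack Scheme.fppfPrecoverage 𝒵)
    (f : 𝒳 ⥤ᵇ 𝒴) (g : 𝒵 ⥤ᵇ 𝒴) (hf : AlgSt.IsSurjective f) :
    AlgSt.IsSurjective (FibCat.fpFst g f) := by
  intro z
  obtain ⟨x, hx⟩ := hf (AlgSt.Points.map g z)
  obtain ⟨w, hw, -⟩ := Groth.Agent.H14AlgSt.exists_points_fp h𝒵.isStack.1 h𝒳.isStack.1 h𝒴.isStack.1 hx.symm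
  exact ⟨w, hw⟩

end Groth.Agent.S12825
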