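import Groth.Statements.S12835
import Groth.Agent.H14AlgSt.Spectral

set_option autoImplicit false
set_option backward.isDefEq.respectTransparency false
set_option backward.isDefEq.respectTransparency.types false
universe u
open CategoryTheory AlgebraicGeometry
open AlgSt

namespace Groth.Agent.S12835

/-- Let `𝒳` be an algebraic stack over `S` whose diagonal is quasi-compact (for instance `𝒳`
quasi-separated). Then `|𝒳|` has an open covering by spectral spaces; in particular `|𝒳|` is sober.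
Here the diagonal is `𝒳 ⟶ 𝒳 ×_S 𝒳` over the base and `S` is taken quasi-separated, under which this
agrees with the absolute condition of the published statement. -/
theorem result {S : Scheme.{u}} [QuasiSeparatedSpace S]
    {𝒳 : AlgSt.Cat S} (h𝒳 : AlgSt.IsAlgStack Scheme.fppfPrecoverage 𝒳)
    (hΔ : AlgSt.RepByAlgSpWith AlgSp.IsQuasiCompactMor (FibCat.diag (FibCat.toSelf 𝒳))) :
    (∀ x : AlgSt.Points 𝒳, ∃ U : Set (AlgSt.Points 𝒳), IsOpen U ∧ x ∈ U ∧ SpectralSpace ↥U) ∧
      QuasiSober (AlgSt.Points 𝒳) ∧ T0Space (AlgSt.Points 𝒳) := by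
  have key : ∀ x : AlgSt.Points 𝒳, ∃ U : Set (AlgSt.Points 𝒳), IsOpen U ∧ x ∈ U ∧ SpectralSpace ↥U := by
    intro y
    obtain ⟨U, x, hx, hxs⟩ := h𝒳.atlas
    obtain ⟨t, rfl⟩ := H14AlgSt.ofChart_surjective h𝒳.isStack.1 hxs y
    obtain ⟨W, hW⟩ := TopologicalSpace.Opens.mem_iSup.1
      ((iSup_affineOpens_eq_top U.left).ge (Set.mem_univ t))
    let A : Over S := Over.mk (W.1.ι ≫ U.hom)
    let c : A ⟶ U := Over.homMk W.1.ι rfl
    have : IsAffine A.left := W.2
    have ho : IsOpenMap (AlgSt.Points.ofChart (BasedFunctor.comp (AlgSt.overMap c) x)) := by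
      have hop := H14AlgSt.isOpenMap_ofChart h𝒳.isStack.1
        (H14AlgSt.repWith_locP_mono H14AlgSt.smooth_le_flat hx)
        (H14AlgSt.repWith_locP_mono H14AlgSt.smooth_le_lfp hx)
      have : AlgSt.Points.ofChart (BasedFunctor.comp (AlgSt.overMap c) x) =
          AlgSt.Points.ofChart x ∘ c.left := funext fun a => H14AlgSt.ofChart_comp_overMap x c a
      rw [this]
      exact hop.comp W.1.isOpenEmbedding'.isOpenMap
    exact ⟨_, ho.isOpen_range, ⟨⟨t, hW⟩, H14AlgSt.ofChart_comp_overMap x c _⟩,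
      H14AlgSt.spectralSpace_range h𝒳 hΔ _ ho⟩
  choose U hUo hU hUs using key
  refine ⟨fun x => ⟨U x, hUo x, hU x, hUs x⟩, ?_, ?_⟩
  · refine @quasiSober_of_open_cover _ _ (Set.range U) (fun s => ?_) ?_ ?_
    · obtain ⟨_, y, rfl⟩ := s
      exact hUo y
    · intro s
      obtain ⟨_, y, rfl⟩ := s
      exact (hUs y).toQuasiSober
    · exact Set.eq_univ_of_forall fun y => Set.mem_sUnion.2 ⟨U y, ⟨y, rfl⟩, hU y⟩
  · exact T0Space.of_open_cover fun y => ⟨U y, hU y, hUo y, (hUs y).toT0Space⟩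

end Groth.Agent.S12835
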