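import Groth.Statements.S12838

set_option autoImplicit false
set_option backward.isDefEq.respectTransparency false
set_option backward.isDefEq.respectTransparency.types false
universe u
open CategoryTheory AlgebraicGeometry
open AlgSt

namespace Groth.Agent.S12838

open CategoryTheory MonoidalCategory CartesianMonoidalCategory Limits MonObj AlgSt

variable {S : Scheme.{u}} {G X : Over S} [GrpObj G]

lemma act_mul (a : AlgGrp.Action G X) {Y : Over S} (g h : Y ⟶ G) (y : Y ⟶ X) :
    lift (g * h) y ≫ a.act = lift g (lift h y ≫ a.act) ≫ a.act := by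
  calc lift (g * h) y ≫ a.act = lift (lift g h) y ≫ (μ[G] ▷ X) ≫ a.act := by
        rw [lift_whiskerRight_assoc, Hom.mul_def]
    _ = _ := by rw [a.mul_act, lift_lift_associator_hom_assoc, lift_whiskerLeft_assoc]

lemma act_one (a : AlgGrp.Action G X) {Y : Over S} (y : Y ⟶ X) :
    lift (1 : Y ⟶ G) y ≫ a.act = y := by
  calc lift (1 : Y ⟶ G) y ≫ a.act = lift (toUnit Y) y ≫ (η[G] ▷ X) ≫ a.act := by
        rw [lift_whiskerRight_assoc, ← Hom.one_def]
    _ = _ := by rw [a.one_act, leftUnitor_hom, lift_snd]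

variable {T T' : Over S} {f : T ⟶ T'} (aX : AlgGrp.Action G X) (x : T ⟶ X) (x' : T' ⟶ X)

lemma exists_of_hom (top : G ⊗ T ⟶ G ⊗ T') (hw : top ≫ snd G T' = snd G T ≫ f)
    (h1 : (leftMul G T).act ≫ top = (G ◁ top) ≫ (leftMul G T').act)
    (h3 : top ≫ (G ◁ x') ≫ aX.act = (G ◁ x) ≫ aX.act) :
    ∃ g : T ⟶ G, lift g (f ≫ x') ≫ aX.act = x ∧
      top = lift (fst G T * (snd G T ≫ g)) (snd G T ≫ f) := by
  let u : T ⟶ G ⊗ T := lift 1 (𝟙 T)
  let g : T ⟶ G := u ≫ top ≫ fst G T'
  have hu : u ≫ top = lift g f := by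
    apply CartesianMonoidalCategory.hom_ext
    · simp [g]
    · rw [Category.assoc, hw, lift_snd]
      simp [u]
  refine ⟨g, ?_, ?_⟩
  · have h2 := congrArg (fun k => u ≫ k) h3
    rw [reassoc_of% hu, lift_whiskerLeft_assoc, lift_whiskerLeft_assoc, Category.id_comp,
      act_one] at h2
    exact h2
  · have e1 : lift (fst G T) (snd G T ≫ u) ≫ (leftMul G T).act = 𝟙 (G ⊗ T) := by
      apply CartesianMonoidalCategory.hom_ext
      · simp [leftMul, u, comp_mul]
      · simp [leftMul, u]
    have h2 := congrArg (fun k => lift (fst G T) (snd G T ≫ u) ≫ k) h1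
    rw [reassoc_of% e1, lift_whiskerLeft_assoc, Category.assoc, hu] at h2
    rw [h2]
    apply CartesianMonoidalCategory.hom_ext
    · simp only [leftMul, comp_mul, lift_fst, lift_snd, comp_lift, lift_fst_assoc, lift_snd_assoc,
        Category.assoc]
    · simp only [leftMul, comp_mul, lift_fst, lift_snd, comp_lift, lift_fst_assoc, lift_snd_assoc,
        Category.assoc]

lemma top_eqv (g : T ⟶ G) : (leftMul G T).act ≫ lift (fst G T * (snd G T ≫ g)) (snd G T ≫ f) =
    (G ◁ lift (fst G T * (snd G T ≫ g)) (snd G T ≫ f)) ≫ (leftMul G T').act := by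
  apply CartesianMonoidalCategory.hom_ext
  · simp only [leftMul, comp_mul, lift_fst, lift_snd, comp_lift, lift_fst_assoc, lift_snd_assoc,
      Category.assoc, whiskerLeft_fst, whiskerLeft_snd, whiskerLeft_fst_assoc,
      whiskerLeft_snd_assoc, _root_.mul_assoc]
  · simp only [leftMul, comp_mul, lift_fst, lift_snd, comp_lift, lift_fst_assoc, lift_snd_assoc,
      Category.assoc, whiskerLeft_fst, whiskerLeft_snd, whiskerLeft_fst_assoc,
      whiskerLeft_snd_assoc]

lemma top_cart (g : T ⟶ G) : IsPullback (lift (fst G T * (snd G T ≫ g)) (snd G T ≫ f))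
    (snd G T) (snd G T') f := by
  let σ : G ⊗ T ⟶ G ⊗ T := lift (fst G T * (snd G T ≫ g)) (snd G T)
  let τ : G ⊗ T ⟶ G ⊗ T := lift (fst G T * (snd G T ≫ g⁻¹)) (snd G T)
  have : IsIso σ := ⟨τ, by
    constructor <;> apply CartesianMonoidalCategory.hom_ext <;>
      simp [σ, τ, comp_mul, GrpObj.comp_inv]⟩
  have hσ : IsPullback σ (snd G T) (snd G T) (𝟙 T) := IsPullback.of_horiz_isIso ⟨by simp [σ]⟩
  have h := hσ.paste_horiz (isPullback_whiskerLeft f)
  rw [Category.id_comp, lift_whiskerLeft] at h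
  exact h

lemma top_φ (g : T ⟶ G) (hg : lift g (f ≫ x') ≫ aX.act = x) :
    lift (fst G T * (snd G T ≫ g)) (snd G T ≫ f) ≫ (G ◁ x') ≫ aX.act = (G ◁ x) ≫ aX.act := by
  rw [lift_whiskerLeft_assoc, act_mul, Category.assoc, ← comp_lift, Category.assoc, hg,
    show (G ◁ x) = lift (fst G T) (snd G T ≫ x) from by
      rw [← lift_whiskerLeft, lift_fst_snd, Category.id_comp]]

open MonoidalCategory CartesianMonoidalCategory MonObj GrpObj in
/-- Let `G` be a group scheme over `S` acting on an `S`-scheme `X`, `f : T ⟶ T'` a morphism of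
`S`-schemes, `x` a `T`-point and `x'` a `T'`-point of `X`. In the quotient category `[X/G]` (scheme
torsors for the fppf topology with an equivariant morphism to `X`) the canonical functor `X ⟶ [X/G]`
sends `x` to the trivial torsor `G ×_S T ⟶ T`, with `G` acting by left multiplication on the first
factor and the equivariant morphism `(h, t) ↦ h · x(t)`, and likewise for `x'`. The morphisms from
the image of `x` to the image of `x'` lying over `f` are exactly the maps `(h, t) ↦ (h · g(t),
f(t))` for those `T`-points `g` of `G` with `g · (x' ∘ f) = x`: every morphism over `f` is of this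
form, and every such `g` defines one. -/
theorem result (S : Scheme.{u}) (G : Over S) [GrpObj G] (X : Over S)
    (aX : AlgGrp.Action G X) (T T' : Over S) (f : T ⟶ T') (x : T ⟶ X) (x' : T' ⟶ X) :
    (∀ h : (AlgSt.quotMap Scheme.fppfPrecoverage G aX).obj ((AlgSt.ofOverCat X).obj (Over.mk x)) ⟶ (AlgSt.quotMap Scheme.fppfPrecoverage G aX).obj ((AlgSt.ofOverCat X).obj (Over.mk x')),
        h.base = f → ∃ g : T ⟶ G, lift g (f ≫ x') ≫ aX.act = x ∧
          h.top = lift (fst G T * (snd G T ≫ g)) (snd G T ≫ f)) ∧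
    (∀ g : T ⟶ G, lift g (f ≫ x') ≫ aX.act = x →
        ∃ h : (AlgSt.quotMap Scheme.fppfPrecoverage G aX).obj ((AlgSt.ofOverCat X).obj (Over.mk x)) ⟶ (AlgSt.quotMap Scheme.fppfPrecoverage G aX).obj ((AlgSt.ofOverCat X).obj (Over.mk x')),
          h.base = f ∧ h.top = lift (fst G T * (snd G T ≫ g)) (snd G T ≫ f)) := by
  constructor
  · intro h hb
    exact exists_of_hom aX x x' h.top (h.cart.w.trans (by rw [hb]; rfl)) h.eqv h.wφ
  · intro g hg
    exact ⟨⟨f, lift (fst G T * (snd G T ≫ g)) (snd G T ≫ f), top_eqv g, top_cart g,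
      top_φ aX x x' g hg⟩, rfl, rfl⟩

end Groth.Agent.S12838
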