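import Groth.Statements.S1284
import Groth.Agent.H7Flat.Flatten.Modif
-- import your own Groth.Agent.* helpers here

set_option autoImplicit false
universe u
open FlatMor

namespace Groth.Agent.S1284

open AlgebraicGeometry CategoryTheory Limits in
/-- Let φ : X → S be proper with S quasi-compact and quasi-separated, and U ⊆ S a quasi-compact open
over which φ is finite locally free. Then there is a U-admissible blow-up b : S' → S such that the
strict transform X'' of X (the closed subscheme of X ×_S S' cut out by the functions locally killed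
by a power of the pulled-back exceptional ideal) is finite locally free over S'. -/
theorem result {X S : Scheme.{u}} [CompactSpace S] [QuasiSeparatedSpace S]
    (φ : X ⟶ S) [IsProper φ] (U : S.Opens) (hU : IsCompact (U : Set S)) (hfl : Mor2.IsFinLocFree (φ ∣_ U)) :
    ∃ (𝓘 : S.IdealSheafData) (S' : Scheme.{u}) (b : S' ⟶ S), BlowUp.IsBlowUp b 𝓘 ∧ BlowUp.IsAdmissibleFor U 𝓘 ∧
      ∀ (X' : Scheme.{u}) (p₁ : X' ⟶ X) (p₂ : X' ⟶ S'), IsPullback p₁ p₂ φ b →
      ∀ (𝒥 : X'.IdealSheafData),
        (∀ (W : X'.affineOpens) (a : Γ(X', W.1)), a ∈ 𝒥.ideal W ↔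
          BlowUp.KilledByPowerNear ((𝓘.comap φ).comap p₁) (Coh.structureModule X') W a) →
        Mor2.IsFinLocFree (𝒥.subschemeι ≫ p₂) := by
  obtain ⟨𝓘, S', b, hb, hadm, h⟩ := Groth.Agent.H7Flat.Flatten.exists_finLocFree_blowup φ U hU hfl
  refine ⟨𝓘, S', b, hb, hadm, fun X' p₁ p₂ hc 𝒥 h𝒥 => ?_⟩
  rw [Groth.Agent.H7Flat.Flatten.eq_supportedOn (Groth.Agent.H7Flat.Flatten.isEffCartier_strict hc hb) 𝒥 h𝒥]
  exact h X' p₁ p₂ hc

end Groth.Agent.S1284
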