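import Groth.Statements.S12841
import Groth.Agent.H14AlgSt.CoverCriterion

set_option autoImplicit false
set_option backward.isDefEq.respectTransparency false
set_option backward.isDefEq.respectTransparency.types false
open CategoryTheory AlgebraicGeometry
universe u
open AlgSt

namespace Groth.Agent.S12841

/-- (1) ⇔ (4): let `f : 𝒳 ⟶ 𝒴` be a 1-morphism of algebraic stacks over `S`, `W` an algebraic space over
`S` and `w : W ⟶ 𝒴` surjective, flat and locally of finite presentation. Then `f` is a monomorphism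
if and only if `W ×_𝒴 𝒳` is an algebraic space `V` and the projection `V ⟶ W` is a monomorphism of
algebraic spaces. The projection is named through an equivalence `e` over `(Sch/S)` from the
category of `V` to the 2-fibre product whose composite with the first projection is 2-isomorphic to
the functor of a morphism `a : V ⟶ W`; being a monomorphism does not depend on these choices. -/
theorem result {S : Scheme.{u}} {𝒳 𝒴 : AlgSt.Cat S}
    (h𝒳 : AlgSt.IsAlgStack Scheme.fppfPrecoverage 𝒳) (h𝒴 : AlgSt.IsAlgStack Scheme.fppfPrecoverage 𝒴)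
    (f : 𝒳 ⥤ᵇ 𝒴) (W : AlgSp.Space S) (w : AlgSt.ofSp W.obj ⥤ᵇ 𝒴)
    (hw₁ : AlgSt.RepByAlgSpWith (AlgSp.LocP @Flat) w)
    (hw₂ : AlgSt.RepByAlgSpWith (AlgSp.LocP @LocallyOfFinitePresentation) w)
    (hw₃ : AlgSt.RepByAlgSpWith AlgSp.IsSurjectiveMor w) :
    AlgSt.IsMono f ↔
      ∃ (V : AlgSp.Space S) (a : V ⟶ W) (e : AlgSt.ofSp V.obj ⥤ᵇ FibCat.fp w f),
        FibCat.IsEquivOver e ∧
          Nonempty (BasedFunctor.comp e (FibCat.fpFst w f) ≅ AlgSt.ofSpMap a.hom) ∧ Mono a.hom := by
  open Groth.Agent.H14AlgSt in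
  exact repWith_iff_exists_cover baseStable_monomorphisms
    (localFppf_of_fpqc Groth.Agent.H13AlgSp.isLocalOnBase_fpqc_monomorphisms)
    testOnSchemes_monomorphisms h𝒳 h𝒴 hw₁ hw₂ hw₃

end Groth.Agent.S12841
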