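import Groth.Statements.S12842
import Groth.Agent.H14AlgSt.SetoidSpace

set_option autoImplicit false
set_option backward.isDefEq.respectTransparency false
set_option backward.isDefEq.respectTransparency.types false
open CategoryTheory AlgebraicGeometry
universe u
open AlgSt

namespace Groth.Agent.S12842

/-- (2) ⇒ (1): let `f : 𝒳 ⟶ 𝒴` be a 1-morphism of algebraic stacks over `S`, `W` an algebraic space over
`S` and `w : W ⟶ 𝒴` surjective, flat and locally of finite presentation. If the 2-fibre product `W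
×_𝒴 𝒳` is representable by an algebraic space, then `f` is representable by algebraic spaces. -/
theorem result {S : Scheme.{u}} {𝒳 𝒴 : AlgSt.Cat S}
    (h𝒳 : AlgSt.IsAlgStack Scheme.fppfPrecoverage 𝒳) (h𝒴 : AlgSt.IsAlgStack Scheme.fppfPrecoverage 𝒴)
    (f : 𝒳 ⥤ᵇ 𝒴) (W : AlgSp.Space S) (w : AlgSt.ofSp W.obj ⥤ᵇ 𝒴)
    (hw₁ : AlgSt.RepByAlgSpWith (AlgSp.LocP @Flat) w)
    (hw₂ : AlgSt.RepByAlgSpWith (AlgSp.LocP @LocallyOfFinitePresentation) w)
    (hw₃ : AlgSt.RepByAlgSpWith AlgSp.IsSurjectiveMor w)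
    (h : AlgSt.RepByAlgSp (FibCat.fp w f)) : AlgSt.RepByAlgSp1 f := by
  exact Groth.Agent.H14AlgSt.repByAlgSp1_of_fp_cover h𝒳 h𝒴 hw₁ hw₂ hw₃ h

end Groth.Agent.S12842
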