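-- statement FlatMor.GrothFrozen.S1285 (Groth/Statements/S1285.lean; the theorem FlatMor.oneStepDevissage_exists_fiber_basis_and_dim_drop);
import Groth.Statements.S1285
import Groth.Agent.H7Flat.FibreSuppDim
import Groth.Agent.H7Flat.FiberBasis

set_option autoImplicit false
universe u
open FlatMor
open TensorProduct

namespace Groth.Agent.S1285

/-- Let (C, D, G) be a one-step dévissage of N/S/R over the prime p (see FlatCA.IsOneStepDevissage), and
suppose pD is prime (the generic point of the fibre of Spec D). Then there are r > 0 and a D-linear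
map α from D^r to G which becomes bijective after base change to the residue field of pD; moreover
for every such α the support of the fibre module over p of the cokernel of α has dimension strictly
less than that of the fibre module of N. -/
theorem result {R S : Type u} [CommRing R] [CommRing S] [Algebra R S] [Algebra.FiniteType R S]
    (N : Type u) [AddCommGroup N] [Module S N] [Module R N] [IsScalarTower R S N] [Module.Finite S N] (p : Ideal R) [p.IsPrime]
    (C D G : Type u) [CommRing C] [CommRing D] [Algebra S C] [Algebra R C] [IsScalarTower R S C]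
    [Algebra R D] [Algebra D C] [IsScalarTower R D C] [AddCommGroup G] [Module C G] [Module S G] [IsScalarTower S C G]
    [Module D G] [IsScalarTower D C G] [Module R G] [IsScalarTower R D G]
    (n : ℕ) (h : FlatCA.IsOneStepDevissage R S N p C D G n) [(p.map (algebraMap R D)).IsPrime] :
    (∃ (r : ℕ) (α : (Fin r → D) →ₗ[D] G), 0 < r ∧ Function.Bijective (α.baseChange (p.map (algebraMap R D)).ResidueField)) ∧
    ∀ (r : ℕ) (α : (Fin r → D) →ₗ[D] G), Function.Bijective (α.baseChange (p.map (algebraMap R D)).ResidueField) →
      Module.supportDim (p.Fiber D) (FlatCA.fiberMod p D (G ⧸ LinearMap.range α)) < (n : WithBot ℕ∞) := by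
  obtain ⟨⟨e⟩, hsurj, hfp, hDC, hCG, hsm, hgi, hdim⟩ := h
  haveI := hDC; haveI := hCG
  haveI : Module.Finite D G := Module.Finite.trans C G
  haveI : Module.Finite S C := Module.Finite.of_surjective (Algebra.linearMap S C) hsurj
  haveI : Module.Finite S G := Module.Finite.trans C G
  haveI : Algebra.IsIntegral D C := Algebra.IsIntegral.of_finite D C
  haveI : Algebra.IsIntegral S C := Algebra.IsIntegral.of_finite S C
  haveI : Algebra.Smooth R D := by
    haveI := hsm
    haveI : AlgebraicGeometry.Smooth (AlgebraicGeometry.Spec.map (CommRingCat.ofHom (algebraMap R D))) :=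
      AlgebraicGeometry.SmoothOfRelativeDimension.smooth n _
    have h : (CommRingCat.ofHom (algebraMap R D)).hom.Smooth :=
      (AlgebraicGeometry.HasRingHomProperty.Spec_iff (P := @AlgebraicGeometry.Smooth)).mp inferInstance
    exact RingHom.smooth_algebraMap.mp h
  let P := p.map (algebraMap R D)
  haveI : P.LiesOver p := Groth.Agent.H8Props.Devissage.liesOver_map R D p hgi
  have hdimD : Module.supportDim (p.Fiber D) (FlatCA.fiberMod p D G) = (n : WithBot ℕ∞) := by
    rw [← hdim, H7Flat.FibreSuppDim.supportDim_eq_krullDim, H7Flat.FibreSuppDim.supportDim_eq_krullDim,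
      ← H7Flat.FibreSuppDim.krullDim_fibreSupp_of_isIntegral (D := D) (C := C) (G := G) p,
      H7Flat.FibreSuppDim.krullDim_fibreSupp_of_isIntegral (D := S) (C := C) (G := G) p]
    have hset : Groth.Agent.H8Props.Devissage.fibreSupp (S := S) p G =
        Groth.Agent.H8Props.Devissage.fibreSupp (S := S) p N := by
      unfold Groth.Agent.H8Props.Devissage.fibreSupp
      rw [e.support_eq]
    rw [hset]
  refine ⟨?_, fun r α hα => ?_⟩
  · obtain ⟨r, α, hα⟩ := H7Flat.FiberBasis.exists_basis (N := G) P
    refine ⟨r, α, Nat.pos_of_ne_zero fun hr => ?_, hα⟩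
    subst hr
    refine (H7Flat.FibreSuppDim.supportDim_fiber_lt n hsm p P rfl fun hP => ?_).ne hdimD
    have hsub : Subsingleton (P.ResidueField ⊗[D] G) := hα.2.subsingleton
    exact not_subsingleton_iff_nontrivial.mpr
      ((Module.mem_support_iff_nontrivial_residueField_tensorProduct _).mp hP) hsub
  · refine H7Flat.FibreSuppDim.supportDim_fiber_lt n hsm p P rfl fun hP => ?_
    obtain ⟨x, hx⟩ := Module.mem_support_iff'.mp hP
    obtain ⟨x, rfl⟩ := Submodule.Quotient.mk_surjective _ x
    obtain ⟨s, hs, hsx⟩ := H7Flat.FiberBasis.exists_smul_mem_range P α hα.2 x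
    exact hx s hs (by rw [← Submodule.Quotient.mk_smul, Submodule.Quotient.mk_eq_zero]; exact hsx)

end Groth.Agent.S1285
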