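import Groth.Statements.S12853
import Groth.Agent.H14AlgSt.StackProps

set_option autoImplicit false
set_option backward.isDefEq.respectTransparency false
set_option backward.isDefEq.respectTransparency.types false
open CategoryTheory AlgebraicGeometry
universe u
open AlgSt

namespace Groth.Agent.S12853

/-- (2) ⇔ (3): suppose `P`, a property of schemes, is local for the smooth topology (for every jointly
surjective family of smooth morphisms `V_i ⟶ U`, `U` has `P` if and only if every `V_i` has `P`) and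
`𝒳` an algebraic stack over `S`. Then every scheme admitting a smooth morphism to `𝒳` has `P` if and
only if some algebraic space `U` having `P` (some surjective etale scheme chart of `U` has `P`)
admits a surjective smooth `U ⟶ 𝒳`. -/
theorem result {S : Scheme.{u}} {𝒳 : AlgSt.Cat S}
    (h𝒳 : AlgSt.IsAlgStack Scheme.fppfPrecoverage 𝒳) (P : Scheme.{u} → Prop)
    (hP : ∀ (U : Scheme.{u}) (R : Presieve U), R ∈ Scheme.precoverage @Smooth U →
      (P U ↔ ∀ ⦃V : Scheme.{u}⦄ (g : V ⟶ U), R g → P V)) :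
    AlgSt.SmoothLocally P 𝒳 ↔
      ∃ (U : AlgSp.Space S) (x : AlgSt.ofSp U.obj ⥤ᵇ 𝒳),
        AlgSt.RepByAlgSpWith (AlgSp.LocP @Smooth) x ∧ AlgSt.RepByAlgSpWith AlgSp.IsSurjectiveMor x ∧
          AlgSp.EtaleLocally P U.obj := by
  open Groth.Agent.H14AlgSt in
  constructor
  · intro h
    obtain ⟨U, x, hx, hxs⟩ := h𝒳.atlas
    exact ⟨⟨(AlgSp.yon S).obj U, AlgSp.IsAlgSpace.yon_obj U⟩,
      BasedFunctor.comp (AlgSt.toOverCat U) x,
      (repWith_equiv_comp_iff (toOverCat_isEquivOver U)).1 hx,
      (repWith_equiv_comp_iff (toOverCat_isEquivOver U)).1 hxs, etaleLocally_yon (h U x hx)⟩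
  · rintro ⟨F, x, hx, hxs, A, p, hpe, hps, hA⟩
    obtain ⟨h1, h2⟩ := chart_of_space_chart hpe hx
    exact (smoothLocally_iff_atlas hP h𝒳.isStack.1 h1 (h2 hps hxs)).2 hA

end Groth.Agent.S12853
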