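import Groth.Statements.S12866
import Groth.Agent.H14AlgSt.ClosedSub

set_option autoImplicit false
set_option backward.isDefEq.respectTransparency false
set_option backward.isDefEq.respectTransparency.types false
open CategoryTheory AlgebraicGeometry
universe u
open AlgSt

namespace Groth.Agent.S12866

/-- Let `𝒳`, `𝒴` be algebraic stacks over `S` with `𝒴` reduced, `𝒵 ⊂ 𝒳` a closed substack and `f : 𝒴 ⟶
𝒳` a 1-morphism. Then `f` factors through `𝒵` (every `f(y)` is an object of the strictly full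
subcategory `𝒵`) if and only if `|f|(|𝒴|) ⊂ |𝒵|`. -/
theorem result {S : Scheme.{u}} {𝒳 𝒴 : AlgSt.Cat S}
    (h𝒳 : AlgSt.IsAlgStack Scheme.fppfPrecoverage 𝒳) (h𝒴 : AlgSt.IsAlgStack Scheme.fppfPrecoverage 𝒴) (hred : AlgSt.SmoothLocally (fun X => IsReduced X) 𝒴)
    (Q : 𝒳.obj → Prop) (hQ : AlgSt.IsClosedSubstack 𝒳 Q Scheme.fppfPrecoverage) (f : 𝒴 ⥤ᵇ 𝒳) :
    (∀ y : 𝒴.obj, Q (f.obj y)) ↔ Set.range (AlgSt.Points.map f) ⊆ Set.range (AlgSt.Points.map (AlgSt.subIncl 𝒳 Q)) := by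
  refine ⟨fun h => ?_, fun h => H14AlgSt.factors_of_reduced h𝒳.isStack.1 h𝒴 hred hQ f h⟩
  rintro _ ⟨w, rfl⟩
  refine ⟨AlgSt.Points.map (H14AlgSt.liftSub f h) w, ?_⟩
  rw [← H14AlgSt.points_map_comp, H14AlgSt.points_map_iso (H14AlgSt.liftSubIso f h)]

end Groth.Agent.S12866
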