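import Groth.Statements.S12867
import Groth.Agent.H14AlgSt.ReducedSub

set_option autoImplicit false
set_option backward.isDefEq.respectTransparency false
set_option backward.isDefEq.respectTransparency.types false
open CategoryTheory AlgebraicGeometry
universe u
open AlgSt

namespace Groth.Agent.S12867

/-- Let `𝒳` be an algebraic stack over `S` and `T ⊂ |𝒳|` a closed subset. Then there is a reduced closed
substack `𝒵 ⊂ 𝒳` with `|𝒵| = T`. (The published statement also asserts uniqueness of such a
substack, whose proof is not given there; only existence is stated here.) -/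
theorem result {S : Scheme.{u}} {𝒳 : AlgSt.Cat S}
    (h𝒳 : AlgSt.IsAlgStack Scheme.fppfPrecoverage 𝒳) (T : Set (AlgSt.Points 𝒳)) (hT : IsClosed T) :
    ∃ Q : 𝒳.obj → Prop, AlgSt.IsClosedSubstack 𝒳 Q Scheme.fppfPrecoverage ∧ Set.range (AlgSt.Points.map (AlgSt.subIncl 𝒳 Q)) = T ∧
      AlgSt.SmoothLocally (fun X => IsReduced X) (AlgSt.fullSub 𝒳 Q) := by
  exact H14AlgSt.exists_reduced_substack h𝒳 T hT

end Groth.Agent.S12867
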