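import Groth.Statements.S1287
import Groth.Agent.H7Flat.AffineBlowupRank

set_option autoImplicit false
universe u
open FlatMor

set_option backward.isDefEq.respectTransparency false
set_option maxHeartbeats 1000000

namespace Groth.Agent.S1287

open TensorProduct in
/-- Let R be a ring, f ∈ R, r ≥ 0, S a finitely presented flat R-algebra all of whose fibre rings are
geometrically integral, and M a finite S-module such that M_f is finitely presented over S_f and
such that for every prime p of R not containing f, with q = pS, the localization M_q is free of rank
r over S_q. Then there is a finitely generated ideal I of R with V(I) = V(f) such that for every a ∈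
I, writing R' = R[I/a] for the affine blow-up algebra, S' = S ⊗_R R' and M' for the base change of M
to S' modulo its a-power torsion (any models of the base change): for every prime p' of R' there is
g ∈ S' outside p'S' with M'_g free of rank r over S'_g. -/
theorem result {R S : Type u} [CommRing R] [CommRing S] [Algebra R S] [Algebra.FinitePresentation R S] [Module.Flat R S]
    (hgi : FlatCA.GeomIntegralFibres R S) (f : R) (r : ℕ)
    (M : Type u) [AddCommGroup M] [Module S M] [Module R M] [IsScalarTower R S M] [Module.Finite S M]
    (hfp : Module.FinitePresentation (Localization.Away (algebraMap R S f)) (LocalizedModule (Submonoid.powers (algebraMap R S f)) M))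
    (hfree : ∀ (p : Ideal R) [p.IsPrime] [(p.map (algebraMap R S)).IsPrime], f ∉ p →
      Module.Free (Localization.AtPrime (p.map (algebraMap R S))) (LocalizedModule (p.map (algebraMap R S)).primeCompl M) ∧
      Module.rank (Localization.AtPrime (p.map (algebraMap R S))) (LocalizedModule (p.map (algebraMap R S)).primeCompl M) = r) :
    ∃ I : Ideal R, I.FG ∧ I.radical = (Ideal.span {f}).radical ∧ ∀ a ∈ I,
      ∀ (S' M' : Type u) [CommRing S'] [Algebra S S'] [Algebra (BlowUp.affineAlgebra R I a) S'] [Algebra R S']
        [IsScalarTower R S S'] [IsScalarTower R (BlowUp.affineAlgebra R I a) S']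
        [Algebra.IsPushout R S (BlowUp.affineAlgebra R I a) S']
        [AddCommGroup M'] [Module S' M'] [Module S M'] [IsScalarTower S S' M']
        (φ : M →ₗ[S] M'), IsBaseChange S' φ →
        ∀ (p' : Ideal (BlowUp.affineAlgebra R I a)) [p'.IsPrime],
          ∃ g : S', g ∉ p'.map (algebraMap (BlowUp.affineAlgebra R I a) S') ∧
            Module.Free (Localization.Away g)
              (LocalizedModule (Submonoid.powers g) (M' ⧸ FlatCA.powTorsion S' (algebraMap R S' a) M')) ∧
            Module.rank (Localization.Away g)
              (LocalizedModule (Submonoid.powers g) (M' ⧸ FlatCA.powTorsion S' (algebraMap R S' a) M')) = r := by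
  haveI := hfp
  obtain ⟨I, hI, hrad, h⟩ := H7Flat.AffineBlowupRank.exists_ideal hgi f r M hfree
  refine ⟨I, hI, hrad, fun a ha S' M' _ _ _ _ _ _ _ _ _ _ _ φ hφ p' _ => ?_⟩
  obtain ⟨h1, h2⟩ := H3CAlg.FittBlowup.chart I a ha (BlowUp.affineAlgebra R I a) AlgEquiv.refl
  exact h a ha _ h1 h2 S' M' φ hφ p'

end Groth.Agent.S1287
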