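import Groth.Statements.S12876
import Groth.Agent.H14AlgSt.SetoidSpace

set_option autoImplicit false
set_option backward.isDefEq.respectTransparency false
set_option backward.isDefEq.respectTransparency.types false
open CategoryTheory AlgebraicGeometry
universe u
open AlgSt

namespace Groth.Agent.S12876

open Groth.Agent.H14Fib Groth.Agent.H14Stk CategoryTheory.Functor

lemma twoCart_aux {S : Scheme.{u}} {𝒳 𝒳' 𝒴 : AlgSt.Cat S} (i : 𝒳 ⥤ᵇ 𝒳') (g : 𝒳' ⥤ᵇ 𝒴)
    [i.toFunctor.Full] [i.toFunctor.Faithful] :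
    FibCat.IsTwoCartOver
      (F := (FibCat.fpLift (BasedFunctor.comp (FibCat.fpFst (BasedFunctor.comp i g) (BasedFunctor.comp i g)) i)
        (BasedFunctor.comp (FibCat.fpSnd (BasedFunctor.comp i g) (BasedFunctor.comp i g)) i) (FibCat.fpIso (BasedFunctor.comp i g) (BasedFunctor.comp i g))))
      (G := FibCat.diag g) (FibCat.diag (BasedFunctor.comp i g)) i (Iso.refl _) := by
  refine (isEquivOver_iff _).2 ⟨⟨⟨fun {a b} m => ?_⟩, ⟨fun {a b} m n h => ?_⟩⟩, fun z => ?_⟩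
  · have hw := m.hom.w
    have h1 : i.map m.hom.fst.hom.fst ≫ 𝟙 _ = 𝟙 _ ≫ m.hom.snd := congrArg (fun t => t.hom.fst) hw
    have h2 : i.map m.hom.fst.hom.snd ≫ 𝟙 _ = 𝟙 _ ≫ m.hom.snd := congrArg (fun t => t.hom.snd) hw
    rw [Category.comp_id, Category.id_comp] at h1 h2
    exact ⟨m.hom.fst.hom.fst,
      fp_hom_ext (fp_hom_ext rfl (i.toFunctor.map_injective (h1.trans h2.symm))) h1⟩
  · exact congrArg (fun t => t.hom.fst.hom.fst) h
  · let u : i.obj z.obj.fst.obj.fst ≅ z.obj.snd :=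
      (FibCat.fpFst g g).toFunctor.mapIso z.obj.iso
    let v : i.obj z.obj.fst.obj.snd ≅ z.obj.snd :=
      (FibCat.fpSnd g g).toFunctor.mapIso z.obj.iso
    have hw : g.map u.hom ≫ 𝟙 _ = z.obj.fst.obj.iso.hom ≫ g.map v.hom := z.obj.iso.hom.hom.w
    rw [Category.comp_id] at hw
    let d : z.obj.fst.obj.fst ≅ z.obj.fst.obj.snd := i.toFunctor.preimageIso (u ≪≫ v.symm)
    have hd : i.map d.hom = u.hom ≫ v.inv := by simp [d]
    refine ⟨z.obj.fst.obj.fst, fpIsoMk (fpIsoMk (Iso.refl _) d ?_) u (fp_hom_ext ?_ ?_),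
      (fp_isHomLift_iff _ _).2 ((fp_isHomLift_iff _ _).2 (IsHomLift.id rfl))⟩
    · change g.map (i.map (𝟙 _)) ≫ z.obj.fst.obj.iso.hom = 𝟙 _ ≫ g.map (i.map d.hom)
      erw [i.toFunctor.map_id, g.toFunctor.map_id, Category.id_comp, Category.id_comp, hd,
        g.toFunctor.map_comp, hw, Category.assoc, ← g.toFunctor.map_comp, Iso.hom_inv_id,
        g.toFunctor.map_id, Category.comp_id]
    · change i.map (𝟙 _) ≫ u.hom = 𝟙 _ ≫ u.hom
      rw [i.toFunctor.map_id]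
    · change i.map d.hom ≫ v.hom = 𝟙 _ ≫ u.hom
      rw [hd, Category.assoc, Iso.inv_hom_id, Category.comp_id]
      exact (Category.id_comp _).symm

/-- Let `i : 𝒳 ⟶ 𝒳'` and `g : 𝒳' ⟶ 𝒴` be 1-morphisms of algebraic stacks over `S` with `i` a
monomorphism. Then the square whose top is the diagonal `𝒳 ⟶ 𝒳 ×_𝒴 𝒳` of `g ∘ i`, whose left side is
`i`, whose right side is the 1-morphism `𝒳 ×_𝒴 𝒳 ⟶ 𝒳' ×_𝒴 𝒳'` induced by `i` on both factors and
whose bottom is the diagonal of `g` (it commutes strictly, the 2-cell being the identity) is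
2-cartesian: the induced 1-morphism from `𝒳` to the 2-fibre product is an equivalence over
`(Sch/S)`. -/
theorem result {S : Scheme.{u}} {𝒳 𝒳' 𝒴 : AlgSt.Cat S}
    (h𝒳 : AlgSt.IsAlgStack Scheme.fppfPrecoverage 𝒳) (h𝒳' : AlgSt.IsAlgStack Scheme.fppfPrecoverage 𝒳') (h𝒴 : AlgSt.IsAlgStack Scheme.fppfPrecoverage 𝒴)
    (i : 𝒳 ⥤ᵇ 𝒳') (g : 𝒳' ⥤ᵇ 𝒴) (hi : AlgSt.IsMono i) :
    FibCat.IsTwoCartOver
      (F := (FibCat.fpLift (BasedFunctor.comp (FibCat.fpFst (BasedFunctor.comp i g) (BasedFunctor.comp i g)) i)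
        (BasedFunctor.comp (FibCat.fpSnd (BasedFunctor.comp i g) (BasedFunctor.comp i g)) i) (FibCat.fpIso (BasedFunctor.comp i g) (BasedFunctor.comp i g))))
      (G := FibCat.diag g) (FibCat.diag (BasedFunctor.comp i g)) i (Iso.refl _) := by
  open Groth.Agent.H14AlgSt in
  have := faithful_of_repByAlgSp1 h𝒳.isStack.1 h𝒳'.isStack.1 (repByAlgSp1_of_with hi)
  have := Groth.Agent.H14AlgSt.full_of_isMono h𝒳.isStack.1 h𝒳'.isStack.1 hi
  exact twoCart_aux i g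

end Groth.Agent.S12876
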