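import Groth.Statements.S12877
import Groth.Agent.H14AlgSt.LargestPMain

set_option backward.isDefEq.respectTransparency false
set_option backward.isDefEq.respectTransparency.types false

set_option autoImplicit false
open CategoryTheory AlgebraicGeometry
universe u
open AlgSt

namespace Groth.Agent.S12877

/-- Let `P`, `Q`, `R` be properties of morphisms of algebraic spaces over `S`, each stable under base
change and fppf local on the base, such that smooth morphisms have `R`, every morphism `f : X ⟶ Y`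
of algebraic spaces with `Q` admits a largest open subspace `W ⊂ X` on which `f` has `P`, and for
such `f` and every `g : Y' ⟶ Y` with `R` the inverse image of `W` in `X ×_Y Y'` is the largest open
subspace on which the base change of `f` has `P`. Then for every 1-morphism `f : 𝒳 ⟶ 𝒴` of algebraic
stacks over `S` which is representable by algebraic spaces and has `Q` there is a largest open
substack `𝒳' ⊂ 𝒳` such that the restriction of `f` to `𝒳'` has `P`. (Stability under base change is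
asked for every pullback square of fppf sheaves whose four corners are algebraic spaces. The
published statement also describes the largest open substack of a base change along a morphism with
`R`; this row does not include that part.) -/
theorem result {S : Scheme.{u}} {𝒳 𝒴 : AlgSt.Cat S}
    (h𝒳 : AlgSt.IsAlgStack Scheme.fppfPrecoverage 𝒳) (h𝒴 : AlgSt.IsAlgStack Scheme.fppfPrecoverage 𝒴)
    (P Q R : MorphismProperty (AlgSp.Sp S))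
    (hPb : ∀ ⦃X₁ Y₁ X₂ Y₂ : AlgSp.Sp S⦄, AlgSp.IsAlgSpace X₁ → AlgSp.IsAlgSpace Y₁ → AlgSp.IsAlgSpace X₂ →
      AlgSp.IsAlgSpace Y₂ → ∀ (a : X₁ ⟶ Y₁) (b : Y₂ ⟶ Y₁) (a' : X₂ ⟶ Y₂) (b' : X₂ ⟶ X₁),
      IsPullback b' a' a b → P a → P a')
    (hQb : ∀ ⦃X₁ Y₁ X₂ Y₂ : AlgSp.Sp S⦄, AlgSp.IsAlgSpace X₁ → AlgSp.IsAlgSpace Y₁ → AlgSp.IsAlgSpace X₂ →
      AlgSp.IsAlgSpace Y₂ → ∀ (a : X₁ ⟶ Y₁) (b : Y₂ ⟶ Y₁) (a' : X₂ ⟶ Y₂) (b' : X₂ ⟶ X₁),
      IsPullback b' a' a b → Q a → Q a')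
    (hRb : ∀ ⦃X₁ Y₁ X₂ Y₂ : AlgSp.Sp S⦄, AlgSp.IsAlgSpace X₁ → AlgSp.IsAlgSpace Y₁ → AlgSp.IsAlgSpace X₂ →
      AlgSp.IsAlgSpace Y₂ → ∀ (a : X₁ ⟶ Y₁) (b : Y₂ ⟶ Y₁) (a' : X₂ ⟶ Y₂) (b' : X₂ ⟶ X₁),
      IsPullback b' a' a b → R a → R a')
    (hP : AlgSp.IsLocalOnBase AlgSp.IsFppfCover P) (hQ : AlgSp.IsLocalOnBase AlgSp.IsFppfCover Q)
    (hR : AlgSp.IsLocalOnBase AlgSp.IsFppfCover R)
    (h₂ : ∀ (X Y : AlgSp.Space S) (g : X ⟶ Y), AlgSp.LocP @Smooth g.hom → R g.hom)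
    (h₃ : ∀ (X Y : AlgSp.Space S) (f : X ⟶ Y), Q f.hom →
      ∃ (W : AlgSp.Space S) (w : W ⟶ X), (AlgSp.RepWith @IsOpenImmersion w.hom ∧ P (w ≫ f).hom ∧
          ∀ (W₁ : AlgSp.Space S) (w₁ : W₁ ⟶ X), AlgSp.RepWith @IsOpenImmersion w₁.hom → P (w₁ ≫ f).hom →
            ∃ k : W₁ ⟶ W, k ≫ w = w₁))
    (h₄ : ∀ (X Y X' Y' : AlgSp.Space S) (f : X ⟶ Y) (g : Y' ⟶ Y) (f' : X' ⟶ Y') (g' : X' ⟶ X),
      IsPullback g'.hom f'.hom f.hom g.hom → Q f.hom → R g.hom →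
      ∀ (W : AlgSp.Space S) (w : W ⟶ X), (AlgSp.RepWith @IsOpenImmersion w.hom ∧ P (w ≫ f).hom ∧
          ∀ (W₁ : AlgSp.Space S) (w₁ : W₁ ⟶ X), AlgSp.RepWith @IsOpenImmersion w₁.hom → P (w₁ ≫ f).hom →
            ∃ k : W₁ ⟶ W, k ≫ w = w₁) →
        ∀ (W' : AlgSp.Space S) (w' : W' ⟶ X') (k : W' ⟶ W), IsPullback k.hom w'.hom w.hom g'.hom →
          (AlgSp.RepWith @IsOpenImmersion w'.hom ∧ P (w' ≫ f').hom ∧
          ∀ (W₁ : AlgSp.Space S) (w₁ : W₁ ⟶ X'), AlgSp.RepWith @IsOpenImmersion w₁.hom → P (w₁ ≫ f').hom →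
            ∃ k : W₁ ⟶ W', k ≫ w' = w₁))
    (f : 𝒳 ⥤ᵇ 𝒴) (hf : AlgSt.RepByAlgSpWith Q f) :
    ∃ Q₀ : 𝒳.obj → Prop, AlgSt.IsOpenSubstack 𝒳 Q₀ Scheme.fppfPrecoverage ∧
      AlgSt.RepByAlgSpWith P (BasedFunctor.comp (AlgSt.subIncl 𝒳 Q₀) f) ∧
        ∀ Q₁ : 𝒳.obj → Prop, AlgSt.IsOpenSubstack 𝒳 Q₁ Scheme.fppfPrecoverage →
          AlgSt.RepByAlgSpWith P (BasedFunctor.comp (AlgSt.subIncl 𝒳 Q₁) f) → ∀ y, Q₁ y → Q₀ y := by
  have H : H14AlgSt.LargestHyps P Q R :=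
    { hPb := hPb
      hQb := hQb
      hP := hP
      hQ := hQ
      smooth := fun {X Y} g hX hY hg => h₂ ⟨X, hX⟩ ⟨Y, hY⟩ (ObjectProperty.homMk g) hg
      exists_largest := fun {G Y} σ hG hY hσ => by
        obtain ⟨W, w, h1, h2', h3⟩ := h₃ ⟨G, hG⟩ ⟨Y, hY⟩ (ObjectProperty.homMk σ) hσ
        refine ⟨W.obj, W.property, w.hom, h1, h2', fun W₁ hW₁ w₁ ho hp => ?_⟩
        obtain ⟨k, hk⟩ := h3 ⟨W₁, hW₁⟩ (ObjectProperty.homMk w₁) ho hp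
        exact ⟨k.hom, congrArg (·.hom) hk⟩
      baseChange := fun {G Y G' Y' W W'} hG hY hG' hY' hW hW' σ g σ' g' sq hσ hg w hw w' k sq' => by
        obtain ⟨h1, h2', h3⟩ := h₄ ⟨G, hG⟩ ⟨Y, hY⟩ ⟨G', hG'⟩ ⟨Y', hY'⟩ (ObjectProperty.homMk σ)
          (ObjectProperty.homMk g) (ObjectProperty.homMk σ') (ObjectProperty.homMk g') sq hσ hg
          ⟨W, hW⟩ (ObjectProperty.homMk w)
          ⟨hw.1, hw.2.1, fun W₁ w₁ ho hp =>
            let ⟨l, hl⟩ := hw.2.2 W₁.obj W₁.property w₁.hom ho hp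
            ⟨ObjectProperty.homMk l, ObjectProperty.hom_ext _ hl⟩⟩
          ⟨W', hW'⟩ (ObjectProperty.homMk w') (ObjectProperty.homMk k) sq'
        refine ⟨h1, h2', fun W₁ hW₁ w₁ ho hp => ?_⟩
        obtain ⟨l, hl⟩ := h3 ⟨W₁, hW₁⟩ (ObjectProperty.homMk w₁) ho hp
        exact ⟨l.hom, congrArg (·.hom) hl⟩ }
  exact H.exists_largest_substack h𝒳 h𝒴 hf

end Groth.Agent.S12877
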