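import Groth.Statements.S12882
import Groth.Agent.H10Inj.SheafExt.ZApply
-- import your own Groth.Agent.* helpers here

set_option autoImplicit false
universe u
open CategoryTheory CategoryTheory.Limits TopologicalSpace AlgebraicGeometry
open Coherent

namespace Groth.Agent.S12882

/-- Let X be a locally Noetherian scheme whose local rings are all regular, Y a closed subset with open
complement U, F and G coherent O_X-modules, and i a natural number such that dim O_{X,x} < i for
every point x of Y in the support of F. Then ℰxt^i_Y(F, G) = 0. (Internal Hom of F and injective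
resolutions of O_X-modules are the stated instance hypotheses, both true.) -/
theorem result (X : Scheme.{u}) [IsLocallyNoetherian X]
    (hreg : ∀ x : X, IsRegularLocalRing (X.presheaf.stalk x)) (U : X.Opens)
    (F G : X.Modules) (hF : Coh.IsCoh F) (hG : Coh.IsCoh G) (i : ℕ)
    (hi : ∀ x ∈ CohB1.support F, x ∉ (U : Set X) → ringKrullDim (X.presheaf.stalk x) < (i : WithBot ℕ∞))
    [ModSite.HasSheafHom (O := X.sheaf) F] [HasInjectiveResolutions (ModSite.Mod X.sheaf)] :
    IsZero ((ModSite.extZSh (O := X.sheaf) U F i).obj G) := by
  haveI : HasInjectiveResolutions X.Modules := ‹HasInjectiveResolutions (ModSite.Mod X.sheaf)›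
  exact Limits.IsZero.of_iso (H10Inj.SheafExt.isZero_rightDerived_phi U F G hF hG.1 i
    fun z hz hzU => H10Inj.SheafExt.bassZero_of_dim_lt (hreg z) (hi z hz hzU)) (H10Inj.SheafExt.extZShIso U F i G)

end Groth.Agent.S12882
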