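import Groth.Statements.S12885
import Groth.Agent.H10Inj.SheafExt.Depth
import Groth.Agent.H28Int.Curves
import Groth.Agent.H10Coh.AffinePush
import Groth.Agent.H10Coh.Proper
-- import your own Groth.Agent.* helpers here

set_option autoImplicit false
universe u
open CategoryTheory CategoryTheory.Limits TopologicalSpace AlgebraicGeometry
open Coherent

namespace Groth.Agent.S12885

/-- Let X be a locally Noetherian scheme, Y a closed subset with open complement U, F a coherent
O_X-module and n a natural number. Then the depth of the stalk F_x over O_{X,x} is at least n for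
every point x of Y if and only if for every coherent O_X-module G with support contained in Y the
local Ext sheaves ℰxt^i(G, F) vanish for all i < n. (Internal Hom of every O_X-module and injective
resolutions of O_X-modules are the stated instance hypotheses, both true.) -/
theorem result (X : Scheme.{u}) [IsLocallyNoetherian X]
    (U : X.Opens) (F : X.Modules) (hF : Coh.IsCoh F) (n : ℕ)
    [∀ M : X.Modules, ModSite.HasSheafHom (O := X.sheaf) M] [HasInjectiveResolutions (ModSite.Mod X.sheaf)] :
    (∀ x : X, x ∉ (U : Set X) → (n : ℕ∞) ≤ LocCoh.depth (X.presheaf.stalk x) (F.presheaf.stalk x)) ↔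
      ∀ G : X.Modules, Coh.IsCoh G → (∀ x ∈ CohB1.support G, x ∉ (U : Set X)) →
        ∀ i : ℕ, i < n → IsZero ((ModSite.extSh (O := X.sheaf) G i).obj F) := by
  haveI : Limits.HasLimits X.Modules := inferInstance
  haveI : HasInjectiveResolutions X.Modules := ‹HasInjectiveResolutions (ModSite.Mod X.sheaf)›
  refine ⟨fun h G hG hsupp i hi => ?_, fun h x hx => ?_⟩
  · exact Limits.IsZero.of_iso (H10Inj.SheafExt.isZero_rightDerived_of_depth F G hF hG n
      (fun z hz => h z (hsupp z hz)) i hi) (H10Inj.SheafExt.extShIso G i F)
  · let C : Closeds X := ⟨(U : Set X)ᶜ, U.isOpen.isClosed_compl⟩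
    let I := Scheme.IdealSheafData.vanishingIdeal C
    let G := (Coh.push I.subschemeι).obj (Coh.structureModule I.subscheme)
    haveI : IsLocallyNoetherian I.subscheme := LocallyOfFiniteType.isLocallyNoetherian I.subschemeι
    have hG : Coh.IsCoh G := H10Coh.isCoh_push_of_isFinite _ _ (H10Coh.isCoh_structureModule' _)
    have hrange : Set.range I.subschemeι = (U : Set X)ᶜ := by
      rw [I.range_subschemeι, Scheme.IdealSheafData.coe_support_vanishingIdeal]; rfl
    have hxG : x ∈ CohB1.support G := by
      obtain ⟨y, rfl⟩ : x ∈ Set.range I.subschemeι := hrange.symm ▸ hx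
      exact H28Int.Curves.mem_support_push_structure _ y
    refine H10Inj.SheafExt.le_depth_of_isZero_rightDerived F G hF hG n (fun i hi => ?_) x hxG
    exact Limits.IsZero.of_iso (h G hG (fun z hz => H28Int.Curves.support_push_subset I.subschemeι _
      U.isOpen.isClosed_compl hrange.le hz) i hi) (H10Inj.SheafExt.extShIso G i F).symm

end Groth.Agent.S12885
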