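import Groth.Statements.S12889
import Groth.Agent.H02CA.ModNullHom
import Groth.Agent.H02CA.HZExt
import Groth.Agent.H15Site.SpGroth
import Groth.Agent.H15Site.ModExtH

set_option autoImplicit false
universe u
open CategoryTheory CategoryTheory.Limits
open ModSite

namespace Groth.Agent.S12889
attribute [local instance 10000] H15Site.SiteInst.hasSheafifySite H15Site.SiteInst.hasWeakSheafifySite
  H15Site.SiteInst.hasExtSite H15Site.SiteInst.enoughInjSite


/-- On a small ringed site (C, J, O) with O commutative, let U be an object with Z the closed complement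
of the open it generates, and M an O-module. There is an E₂ spectral sequence of abelian groups with
E₂^{p,q} ≅ H^p(C, ℋ^q_Z(M)) for p, q ≥ 0 (and 0 otherwise), bounded, abutting with finite
filtrations to H^n_Z(M) (n ≥ 0; 0 for n < 0); here ℋ^q_Z are the right derived functors of sections
with support on O-modules, H^p(C, -) is the cohomology of the site with values in the underlying
abelian sheaf, and H^n_Z(M) are the Ext groups out of ℤ/ℤ_U into the underlying abelian sheaf.
(Existence only: the E₂ identifications and the abutment are some isomorphisms. The direct image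
along the localisation at U and injective resolutions of O-modules are the stated instance
hypotheses, both true.) -/
theorem result {C : Type u} [SmallCategory C] {J : GrothendieckTopology C}
    (O : Sheaf J CommRingCat.{u}) (U : C) (M : ModSite.Mod O)
    [ModSite.HasPushOver O U] [HasInjectiveResolutions (ModSite.Mod O)] :
    ∃ (E : E₂CohomologicalSpectralSequence AddCommGrpCat.{u})
      (a : SpSeq.Abutment E (fun n : ℤ =>
        if 0 ≤ n then AddCommGrpCat.of (ModSite.HZ U M n.toNat) else AddCommGrpCat.of PUnit.{u + 1})),
      (∀ n : ℤ, a.IsFinite n) ∧ SpSeq.IsBounded E ∧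
      ∀ p q : ℤ, Nonempty ((E.page 2 le_rfl).X (p, q) ≅
        (if 0 ≤ p ∧ 0 ≤ q then AddCommGrpCat.of (ModSite.HC O ((ModSite.HZsh O U q.toNat).obj M) p.toNat)
          else AddCommGrpCat.of PUnit.{u + 1})) := by
  have := H10Coh.isGrothendieckAbelian_sheafOfModules (ModSite.ringSh O)
  have := H02CA.ModNull.enoughInjectives_mod O
  have : HasExt.{u} (ModSite.Mod O) := hasExt_of_enoughInjectives _
  have := H02CA.ModNull.additive_quotOn (O := O) (U := U)
  refine H15Site.SpGroth.exists_spectralSequence (ModSite.sectOn O U) (ModSite.unit O)
    ((ModSite.quotOn O U).obj (ModSite.unit O))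
    (fun Y => ((H02CA.ModNull.adjZ O U).homAddEquiv (ModSite.unit O) Y).symm)
    (fun I _ => H02CA.ModNull.injective_sectOn U I)
    (fun Y Y' h f => (H02CA.ModNull.adjZ O U).homEquiv_naturality_right_symm f h) M _ _ ?_ ?_ ?_ ?_
  · intro p q hp hq
    rw [if_pos ⟨hp, hq⟩]
    exact H15Site.ModExtH.nonempty_ext_unit_addEquiv (ModSite.ringSh O) _ _
  · intro p q hpq
    rw [if_neg hpq]
    exact AddCommGrpCat.isZero_of_subsingleton _
  · intro n hn
    rw [if_pos hn]
    exact H02CA.HZExt.nonempty_ext_addEquiv_HZ U M _
  · intro n hn
    rw [if_neg (by omega)]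
    exact AddCommGrpCat.isZero_of_subsingleton _

end Groth.Agent.S12889
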