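import Groth.Statements.S12890
import Groth.Agent.H02CA.ModExcision
import Groth.Agent.H15Site.RDSeq
import Groth.Agent.H15Site.ClosedPushAb

set_option autoImplicit false
universe u
open CategoryTheory CategoryTheory.Limits
open ModSite

namespace Groth.Agent.S12890
attribute [local instance 10000] H15Site.SiteInst.hasSheafifySite H15Site.SiteInst.hasWeakSheafifySite


/-- On a small ringed site (C, J, O) with O commutative, let U be a subterminal object (every object has
at most one morphism to U), Z its closed complement and j_{U*} the direct image of modules along the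
localisation C/U → C. Then ℋ^1_Z is isomorphic to the cokernel of the unit M → j_{U*}(M|_U) (so that
0 → ℋ^0_Z(M) → M → j_{U*}(M|_U) → ℋ^1_Z(M) → 0 is exact), and for every q ≥ 1 the functor ℋ^{q+1}_Z
is isomorphic to M ↦ R^q j_{U*}(M|_U). (Existence of isomorphisms of functors only. The direct image
j_{U*} with its additivity and injective resolutions of modules on C and on C/U are the stated
instance hypotheses, all true.) -/
theorem result {C : Type u} [SmallCategory C] {J : GrothendieckTopology C}
    (O : Sheaf J CommRingCat.{u}) (U : C)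
    (hU : ∀ V : C, Subsingleton (V ⟶ U)) [ModSite.HasPushOver O U] [(ModSite.pushOver O U).Additive]
    [HasInjectiveResolutions (ModSite.Mod O)] [HasInjectiveResolutions (ModSite.Mod (O.over U))] :
    Nonempty (ModSite.HZsh O U 1 ≅ cokernel (ModSite.restrPushOverAdj O U).unit) ∧
      ∀ q : ℕ, 1 ≤ q →
        Nonempty (ModSite.HZsh O U (q + 1) ≅ ModSite.restr O U ⋙ (ModSite.pushOver O U).rightDerived q) := by
  have := H02CA.ModExcision.isIso_extZero_unit O hU
  have := H02CA.ModRestrExact.preservesFiniteLimits_restr O U
  have := H02CA.ModRestrExact.preservesFiniteColimits_restr O U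
  have : PreservesFiniteLimits (ModSite.pushOver O U) := by
    have : PreservesLimitsOfSize.{0, 0} (ModSite.pushOver O U) :=
      (ModSite.restrPushOverAdj O U).rightAdjoint_preservesLimits
    exact PreservesLimitsOfSize.preservesFiniteLimits _
  have : PreservesFiniteLimits (ModSite.restr O U ⋙ ModSite.pushOver O U) :=
    comp_preservesFiniteLimits _ _
  let b : 𝟭 (ModSite.Mod O) ⟶ ModSite.restr O U ⋙ ModSite.pushOver O U :=
    (ModSite.restrPushOverAdj O U).unit
  have w : ModSite.sectOnι O U ≫ b = 0 :=
    NatTrans.ext (funext fun F => H02CA.ModNull.sectOnι_comp_unit F)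
  have hI : ∀ (I : ModSite.Mod O) [Injective I],
      (ShortComplex.mk ((ModSite.sectOnι O U).app I) (b.app I)
        (by rw [← NatTrans.comp_app, w]; rfl)).ShortExact := by
    intro I _
    have : Mono ((ModSite.sectOnι O U).app I) := H02CA.ModNull.mono_sectOnι I
    have hmono : ∀ T, Mono ((ModSite.extZeroAdj O U).counit.app T) := fun T => by
      let ε := (ModSite.extZeroAdj O U).counit.app T
      have : IsIso ((ModSite.extZeroAdj O U).unit.app ((ModSite.restr O U).obj T) ≫
          (ModSite.restr O U).map ε) := by
        rw [(ModSite.extZeroAdj O U).right_triangle_components]; infer_instance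
      have : IsIso ((ModSite.restr O U).map ε) :=
        IsIso.of_isIso_comp_left ((ModSite.extZeroAdj O U).unit.app ((ModSite.restr O U).obj T))
          ((ModSite.restr O U).map ε)
      have hk : ModSite.IsNullOn O U (kernel ε) :=
        IsZero.of_iso (isZero_kernel_of_mono ((ModSite.restr O U).map ε))
          (PreservesKernel.iso (ModSite.restr O U) ε)
      exact Preadditive.mono_of_kernel_zero
        (((H02CA.ModNull.gen_openMod T).of_mono (kernel.ι ε)).eq_zero hk (𝟙 _) |> fun h =>
          ((IsZero.iff_id_eq_zero _).2 h).eq_of_src _ _)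
    let T := (ModSite.restr O U ⋙ ModSite.pushOver O U).obj I
    let φ := ((ModSite.restrPushOverAdj O U).homEquiv T _).symm (𝟙 T)
    have := hmono T
    obtain ⟨ψ, hψ⟩ := Injective.factors (((ModSite.extZeroAdj O U).homEquiv _ I).symm φ)
      ((ModSite.extZeroAdj O U).counit.app T)
    have h1 : (ModSite.restr O U).map ψ = φ := by
      have := congrArg ((ModSite.extZeroAdj O U).homEquiv _ I) hψ
      rw [Equiv.apply_symm_apply, Adjunction.homEquiv_unit, Functor.map_comp, ← Category.assoc,
        (ModSite.extZeroAdj O U).right_triangle_components, Category.id_comp] at this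
      exact this
    have hsplit : ψ ≫ b.app I = 𝟙 T := by
      refine ((ModSite.restrPushOverAdj O U).unit.naturality ψ).trans ?_
      show _ ≫ (ModSite.pushOver O U).map ((ModSite.restr O U).map ψ) = _
      rw [h1]
      exact ((ModSite.restrPushOverAdj O U).homEquiv_unit T _ φ).symm.trans (Equiv.apply_symm_apply _ _)
    have : IsSplitEpi (b.app I) := ⟨⟨⟨ψ, hsplit⟩⟩⟩
    exact { exact := ShortComplex.exact_of_f_is_kernel _ (kernelIsKernel (b.app I))
            mono_f := inferInstanceAs (Mono ((ModSite.sectOnι O U).app I))
            epi_g := inferInstanceAs (Epi (b.app I)) }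
  have h0 : ∀ (m : ℕ) (F : ModSite.Mod O),
      IsZero (((𝟭 (ModSite.Mod O)).rightDerived (m + 1)).obj F) :=
    fun m F => H15Site.ClosedPushAb.isZero_rightDerived _ F m
  refine ⟨H15Site.RDSeq.nonempty_cokernelIso (ModSite.sectOnι O U) b w hI (h0 0), fun i hi => ?_⟩
  obtain ⟨k, rfl⟩ := Nat.exists_eq_succ_of_ne_zero (by omega : i ≠ 0)
  exact ⟨(H15Site.RDSeq.δIsoNat (ModSite.sectOnι O U) b w hI (k + 1) (h0 k) (h0 (k + 1))).symm ≪≫
    H15Site.RDSeq.precompIso (ModSite.restr O U) (ModSite.pushOver O U)
      (fun I _ => H02CA.ModRestrExact.injective_restr O U I) (k + 1)⟩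

end Groth.Agent.S12890
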