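import Groth.Statements.S12893
import Groth.Agent.H02CA.ModNull

set_option autoImplicit false
universe u
open CategoryTheory CategoryTheory.Limits
open ModSite

namespace Groth.Agent.S12893

/-- On a small ringed site (C, J, O) with O commutative, let U be an object with Z the closed complement
of the open it generates, M an O-module, Γ_Z the sections-with-support functor (kernel of N →
j_{U*}(N|_U)) and M_Z the cokernel of j_{U!}(M|_U) → M. Then the functors N ↦ Γ_Z(ℋom_O(M, N)), N ↦
ℋom_O(M, Γ_Z(N)) and N ↦ ℋom_O(M_Z, N) are isomorphic. (Existence of isomorphisms of functors only.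
The direct image along the localisation at U and the internal Hom functors of M and of M_Z are the
stated instance hypotheses, all true.) -/
theorem result {C : Type u} [SmallCategory C] {J : GrothendieckTopology C}
    (O : Sheaf J CommRingCat.{u}) (U : C) (M : ModSite.Mod O)
    [ModSite.HasPushOver O U] [ModSite.HasSheafHom M] [ModSite.HasSheafHom ((ModSite.quotOn O U).obj M)] :
    Nonempty (ModSite.sheafHom M ⋙ ModSite.sectOn O U ≅ ModSite.sectOn O U ⋙ ModSite.sheafHom M) ∧
      Nonempty (ModSite.sheafHom M ⋙ ModSite.sectOn O U ≅ ModSite.sheafHom ((ModSite.quotOn O U).obj M)) := by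
  exact ⟨H02CA.ModNull.nonempty_sheafHom_sectOn_comm O U M,
    H02CA.ModNull.nonempty_sheafHom_sectOn_iso O U M⟩

end Groth.Agent.S12893
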