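import Groth.Statements.S3475
import Groth.Agent.H11SetBC.Discrete

set_option autoImplicit false
universe u
open CategoryTheory CategoryTheory.Limits AlgebraicGeometry Opposite
open EtAcyc

namespace Groth.Agent.S3475

/-- Let g : X → Y be a morphism of schemes with Y discrete (for instance the spectrum of a field). Then
g is universally locally 0-acyclic. -/
theorem result {X Y : Scheme.{u}} (g : X ⟶ Y) [DiscreteTopology Y] :
    EtAcyc.IsULocZeroAcyclic g := by
  intro X₁ Y₁ g₁ b' b sq
  exact H11SetBC.isLocZeroAcyclic_of_subConn (H11SetBC.subConn_of_discrete sq)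

end Groth.Agent.S3475
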