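import Groth.Statements.S12895
import Groth.Agent.H02CA.SpAcyclic
import Groth.Agent.H02CA.ModUnitAcyclic
import Groth.Agent.H02CA.ModNullHom
import Groth.Agent.S6150

set_option autoImplicit false
universe u
open CategoryTheory CategoryTheory.Limits
open ModSite

namespace Groth.Agent.S12895
attribute [local instance 10000] H15Site.SiteInst.hasSheafifySite H15Site.SiteInst.hasWeakSheafifySite


/-- The local-to-global Ext sequence: on a small ringed site (C, J, O) with O commutative, for O-modules
M and N there is an E₂ spectral sequence of abelian groups with E₂^{p,q} ≅ H^p(C, ℰxt^q_O(M, N)) for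
p, q ≥ 0 (and 0 otherwise), bounded, abutting with finite filtrations to Ext^n_O(M, N) (n ≥ 0; 0 for
n < 0); here ℰxt^q_O(M, -) are the right derived functors of the internal Hom ℋom_O(M, -), H^p(C, -)
is the cohomology of the site with values in the underlying abelian sheaf, and Ext^n_O is computed
in the category of O-modules. (Existence only: the E₂ identifications and the abutment are some
isomorphisms. The internal Hom of M, injective resolutions of O-modules and smallness of the Ext
groups of O-modules are the stated instance hypotheses, all true.) -/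
theorem result {C : Type u} [SmallCategory C] {J : GrothendieckTopology C}
    (O : Sheaf J CommRingCat.{u}) (M N : ModSite.Mod O)
    [ModSite.HasSheafHom M] [HasInjectiveResolutions (ModSite.Mod O)] [HasExt.{u} (ModSite.Mod O)] :
    ∃ (E : E₂CohomologicalSpectralSequence AddCommGrpCat.{u})
      (a : SpSeq.Abutment E (fun n : ℤ =>
        if 0 ≤ n then AddCommGrpCat.of (Abelian.Ext.{u} M N n.toNat) else AddCommGrpCat.of PUnit.{u + 1})),
      (∀ n : ℤ, a.IsFinite n) ∧ SpSeq.IsBounded E ∧
      ∀ p q : ℤ, Nonempty ((E.page 2 le_rfl).X (p, q) ≅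
        (if 0 ≤ p ∧ 0 ≤ q then AddCommGrpCat.of (ModSite.HC O ((ModSite.extSh M q.toNat).obj N) p.toNat)
          else AddCommGrpCat.of PUnit.{u + 1})) := by
  have := H02CA.ModNull.enoughInjectives_mod O
  have := H15Site.ModTensor.additive_tR M
  have := (ModSite.sheafHomAdj M).right_adjoint_additive
  refine H02CA.SpAcyclic.exists_spectralSequence (ModSite.sheafHom M) (ModSite.unit O) M
    (fun Y => ((ModSite.sheafHomAdj M).homAddEquiv (ModSite.unit O) Y).symm.trans
      ((preadditiveYoneda.obj Y).mapIso
        ((H15Site.ModOver.tensorUnitIso O).app M).symm.op).addCommGroupIsoToAddEquiv)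
    (fun I _ j => H02CA.ModUnitAcyclic.subsingleton_ext_unit O (S6150.result O M I) j)
    (fun Y Y' h f => ?_) N _ _ ?_ ?_ ?_ ?_
  · show ((H15Site.ModOver.tensorUnitIso O).app M).inv ≫
        ((ModSite.sheafHomAdj M).homEquiv _ _).symm (f ≫ (ModSite.sheafHom M).map h) =
      (((H15Site.ModOver.tensorUnitIso O).app M).inv ≫
        ((ModSite.sheafHomAdj M).homEquiv _ _).symm f) ≫ h
    rw [Adjunction.homEquiv_naturality_right_symm, Category.assoc]
  · intro p q hp hq
    rw [if_pos ⟨hp, hq⟩]
    exact H15Site.ModExtH.nonempty_ext_unit_addEquiv (ModSite.ringSh O) _ _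
  · intro p q hpq
    rw [if_neg hpq]
    exact AddCommGrpCat.isZero_of_subsingleton _
  · intro n hn
    rw [if_pos hn]
    exact ⟨AddEquiv.refl _⟩
  · intro n hn
    rw [if_neg (by omega)]
    exact AddCommGrpCat.isZero_of_subsingleton _

end Groth.Agent.S12895
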