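-- statement FlatMor.GrothFrozen.S1290 (Groth/Statements/S1290.lean; the theorem FlatMor.isOpen_flatLocus_and_relFP_of_weakAss_finite_finiteType);
import Groth.Statements.S1290
import Groth.Agent.H7Flat.FlatSpreadFT
import Groth.Agent.H7Flat.FiniteFlatFP

set_option autoImplicit false
universe u
open FlatMor

namespace Groth.Agent.S1290

/-- Ring form, X = Spec S, S = Spec R affine: let R be a ring with finitely many weakly associated
primes, S a finite type R-algebra and N a finite S-module. Then the set U of primes q of S with N_q
flat over R is open in Spec S, and every q in U has a basic open neighbourhood D(g) on which N is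
flat over R and finitely presented relative to R (finitely presented over a polynomial ring over R
surjecting onto S_g). -/
theorem result {R S : Type u} [CommRing R] [CommRing S] [Algebra R S] [Algebra.FiniteType R S]
    (hR : (FlatCA.weakAss R R).Finite)
    (N : Type u) [AddCommGroup N] [Module S N] [Module R N] [IsScalarTower R S N] [Module.Finite S N] :
    IsOpen {q : PrimeSpectrum S | FlatCA.FlatAt R q.asIdeal N} ∧
    ∀ (q : Ideal S) [q.IsPrime], FlatCA.FlatAt R q N → ∃ g : S, g ∉ q ∧
      Module.Flat R (LocalizedModule (Submonoid.powers g) N) ∧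
      FlatCA.RelFinitePresentation R (Localization.Away g) (LocalizedModule (Submonoid.powers g) N) := by
  obtain ⟨n, π, hπ⟩ := Algebra.FiniteType.iff_quotient_mvPolynomial''.mp (inferInstance : Algebra.FiniteType R S)
  let : Algebra (MvPolynomial (Fin n) R) S := π.toRingHom.toAlgebra
  have : IsScalarTower R (MvPolynomial (Fin n) R) S :=
    IsScalarTower.of_algebraMap_eq fun r => (π.commutes r).symm
  refine ⟨H7Flat.FlatSpreadFT.isOpen_flatLocus hR N, fun q _ hq => ?_⟩
  obtain ⟨g, hg, hfl, hrel⟩ := H7Flat.FlatSpreadFT.exists_away (P := MvPolynomial (Fin n) R) hπ hR N q hq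
  exact ⟨g, hg, hfl, hrel (Localization.Away g) (LocalizedModule (Submonoid.powers g) N)
    (LocalizedModule.mkLinearMap (Submonoid.powers g) N)⟩

end Groth.Agent.S1290
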