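import Groth.Statements.S12900
import Groth.Agent.H14Fib.SplitRepl

set_option autoImplicit false
set_option backward.isDefEq.respectTransparency false
set_option backward.isDefEq.respectTransparency.types false
universe v₁ v₂ u₁ u₂
open CategoryTheory
open FibCat

namespace Groth.Agent.S12900

/-- Let p : 𝒳 → 𝒮 be a fibred category and K a cleavage of p which is a splitting (the chosen transport
morphism over each identity is the identity, and the composite of two chosen transport morphisms is
the chosen transport morphism of the composite). Then 𝒳 is split: there are a strict functor F : 𝒮ᵒᵖ
→ Cat and an isomorphism of categories over 𝒮 between 𝒳 and the category of pairs (U, x) with x an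
object of F(U) built from F, i.e. functors Φ and Ψ inverse to each other on the nose with Φ followed
by the projection equal to p. (The published statement is an equivalence whose if-half assumes only
that, for some choice of pullbacks, the pullback functors (f ∘ g)^* and g^* ∘ f^* are equal; that
half fails: for the functor between one-object categories induced by reduction modulo 2 from the
integers to ℤ/2, a fibred category whose only fibre is the one-object category of the even integers,
every choice of pullbacks has all pullback functors equal to the identity functor, yet the category
is not split, since an isomorphism with the category of a strict functor would give a homomorphic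
section of ℤ → ℤ/2. This row assumes instead that the chosen transport morphisms are normalised and
closed under composition, and states only that implication.) -/
theorem result {𝒮 : Type u₁} [Category.{v₁} 𝒮] {𝒳 : Type u₂} [Category.{v₂} 𝒳]
    (p : 𝒳 ⥤ 𝒮) [p.IsFibered] (K : FibCat.Cleavage p) (hK : K.IsSplitting) :
    ∃ (F : 𝒮ᵒᵖ ⥤ Cat.{v₂, u₂})
      (Φ : 𝒳 ⥤ Pseudofunctor.CoGrothendieck F.toPseudofunctor')
      (Ψ : Pseudofunctor.CoGrothendieck F.toPseudofunctor' ⥤ 𝒳),
      Φ ⋙ Ψ = 𝟭 𝒳 ∧ Ψ ⋙ Φ = 𝟭 _ ∧ Φ ⋙ Pseudofunctor.CoGrothendieck.forget F.toPseudofunctor' = p := by
  exact Groth.Agent.H14Fib.exists_iso_split hK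

end Groth.Agent.S12900
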