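import Groth.Statements.S12901
import Groth.Agent.S11778
import Groth.Agent.S0056
import Groth.Agent.H24FSch.Sub
import Groth.Agent.H24FSch.Basic
import Groth.Agent.H24FSch.Levels

set_option autoImplicit false
set_option linter.style.haveILetI false
universe u
open CategoryTheory AlgebraicGeometry
open FSch

attribute [-instance] CategoryTheory.catToReflQuiver

namespace Groth.Agent.S12901

/-- Let A be a complete Noetherian local ring with maximal ideal m, and 𝔛 a formal scheme proper and
flat over A, presented as an adic system X_0 → X_1 → ⋯ over the thickenings Spec(A/m^{n+1}) (the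
structure morphism is adic with proper level 0, and every level X_n → Spec(A/m^{n+1}) is flat). If
X_0 is projective (it carries an ample invertible sheaf) and H^2(X_0, O_{X_0}) = 0, then 𝔛 is the
m-adic completion of a projective A-scheme: there are a proper A-scheme X carrying an ample
invertible sheaf and an isomorphism of systems, over the base, between 𝔛 and the completion of X
along the pulled-back ideal. -/
theorem result (A : Type u) [CommRing A] [IsLocalRing A]
    [IsNoetherianRing A] [IsAdicComplete (IsLocalRing.maximalIdeal A) A]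
    (𝔛 : FSch.Sys.{u}) (f : 𝔛 ⟶ FSch.completionAlong (Spec (CommRingCat.of A)) (FSch.idealSpec A (IsLocalRing.maximalIdeal A)))
    (hf : FSch.IsProperHom f) (hflat : ∀ n : ℕ, Flat ((f : FSch.Hom _ _).app n))
    (hproj : ∃ L₀ : (𝔛.X 0).Modules, CohB1.IsAmple L₀)
    (hH2 : Subsingleton (Coh.HH (𝔛.X 0) (Coh.structureModule (𝔛.X 0)) 2)) :
    ∃ (X : Scheme.{u}) (g : X ⟶ (Spec (CommRingCat.of A))) (L : X.Modules), IsProper g ∧ CohB1.IsAmple L ∧
      ∃ (h : FSch.PowCompat g ((FSch.idealSpec A (IsLocalRing.maximalIdeal A)).comap g) (FSch.idealSpec A (IsLocalRing.maximalIdeal A)))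
        (e : 𝔛 ≅ FSch.completionAlong X ((FSch.idealSpec A (IsLocalRing.maximalIdeal A)).comap g)),
        e.hom ≫ FSch.completionMap g ((FSch.idealSpec A (IsLocalRing.maximalIdeal A)).comap g) (FSch.idealSpec A (IsLocalRing.maximalIdeal A)) h = f := by
  let m := IsLocalRing.maximalIdeal A
  let K := FSch.idealSpec A m
  let S := Spec (CommRingCat.of A)
  let 𝔖 := FSch.completionAlong S K
  -- the levels of the base
  haveI hc : ∀ n, IsClosedImmersion (FSch.completionToX S K n) := fun n =>
    inferInstanceAs (IsClosedImmersion (K ^ (n + 1)).subschemeι)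
  have hker : ∀ n, (CohB1.specQuot m n).ker = (FSch.completionToX S K n).ker := fun n => by
    show _ = (K ^ (n + 1)).subschemeι.ker
    rw [Scheme.IdealSheafData.ker_subschemeι]
    exact (H24FSch.idealSpec_pow A m (n + 1)).symm
  haveI hq : ∀ n, IsClosedImmersion (CohB1.specQuot m n) := fun n =>
    IsClosedImmersion.spec_of_surjective _ Ideal.Quotient.mk_surjective
  let κ : ∀ n, 𝔖.X n ≅ Spec (CommRingCat.of (A ⧸ m ^ (n + 1))) := fun n =>
    { hom := IsClosedImmersion.lift (CohB1.specQuot m n) (FSch.completionToX S K n) (hker n).le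
      inv := IsClosedImmersion.lift (FSch.completionToX S K n) (CohB1.specQuot m n) (hker n).ge
      hom_inv_id := by
        rw [← cancel_mono (FSch.completionToX S K n), Category.assoc, IsClosedImmersion.lift_fac,
          IsClosedImmersion.lift_fac, Category.id_comp]
      inv_hom_id := by
        rw [← cancel_mono (CohB1.specQuot m n), Category.assoc, IsClosedImmersion.lift_fac,
          IsClosedImmersion.lift_fac, Category.id_comp] }
  have hκ : ∀ n, (κ n).hom ≫ CohB1.specQuot m n = FSch.completionToX S K n := fun n => IsClosedImmersion.lift_fac _ _ _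
  have hκι : ∀ n, 𝔖.ι n ≫ (κ (n + 1)).hom = (κ n).hom ≫ CohB1.specQuotTrans m n := fun n => by
    rw [← cancel_mono (CohB1.specQuot m (n + 1)), Category.assoc, Category.assoc, hκ,
      CohB1.specQuotTrans_specQuot, hκ]
    exact Scheme.IdealSheafData.inclusion_subschemeι _
  let φ : FSch.Hom 𝔛 𝔖 := f
  let p : ∀ n, 𝔛.X n ⟶ Spec (CommRingCat.of (A ⧸ m ^ (n + 1))) := fun n => φ.app n ≫ (κ n).hom
  have hcart : ∀ n, IsPullback (𝔛.ι n) (p n) (p (n + 1)) (CohB1.specQuotTrans m n) := fun n =>
    (hf.1 n).of_iso (Iso.refl _) (Iso.refl _) (κ n) (κ (n + 1)) (by simp) (by simp [p, φ]) (by simp [p, φ]) (hκι n)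
  haveI : IsProper (φ.app 0) := hf.2
  haveI hκi : ∀ n, IsIso (κ n).hom := fun n => (κ n).isIso_hom
  have hp : IsProper (p 0) := (@MorphismProperty.cancel_right_of_respectsIso _ _ @IsProper _ _ _ _ (φ.app 0) (κ 0).hom (hκi 0)).2 ‹IsProper (φ.app 0)›
  have hflat' : ∀ n, Flat (p n) := fun n => by
    haveI : Flat (φ.app n) := hflat n
    exact (@MorphismProperty.cancel_right_of_respectsIso _ _ @Flat _ _ _ _ (φ.app n) (κ n).hom (hκi n)).2 ‹Flat (φ.app n)›
  haveI : (𝔛.X 0).IsSeparated := ⟨by
    rw [Limits.terminal.hom_ext (Limits.terminal.from _) (p 0 ≫ Limits.terminal.from _)]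
    infer_instance⟩
  obtain ⟨L₀, hL₀⟩ := hproj
  obtain ⟨L, hL, ⟨ι₀⟩, hφ⟩ := S11778.result A 𝔛.X p 𝔛.ι hcart hflat' hH2 L₀
    (H11Ample.isAmple_iff.1 hL₀).1
  obtain ⟨Y, g, M, e, hg, -, hMa, hpb, he, -⟩ := S0056.result A m 𝔛.X p 𝔛.ι hcart hp L hL hφ
    (H11Ample.isAmple_of_iso ι₀.symm hL₀)
  have h : FSch.PowCompat g (K.comap g) K := fun n => (H24FSch.comap_pow' g K n).le
  let ψ : FSch.Hom (FSch.completionAlong Y (K.comap g)) 𝔖 := FSch.completionMap g (K.comap g) K h
  have hY : ∀ n, IsPullback (FSch.completionToX Y (K.comap g) n) (ψ.app n) g (FSch.completionToX S K n) :=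
    H24FSch.isPullback_completionMap g K h
  have hX : ∀ n, IsPullback (e n) (φ.app n) g (FSch.completionToX S K n) := fun n =>
    (hpb n).of_iso (Iso.refl _) (Iso.refl _) (κ n).symm (Iso.refl _) (by simp) (by simp [p]) (by simp)
      (by simp [← hκ n])
  let ε : ∀ n, 𝔛.X n ≅ (FSch.completionAlong Y (K.comap g)).X n := fun n => (hX n).isoIsPullback _ _ (hY n)
  have hε₁ : ∀ n, (ε n).hom ≫ FSch.completionToX Y (K.comap g) n = e n := fun n =>
    (hX n).isoIsPullback_hom_fst _ _ (hY n)
  have hε₂ : ∀ n, (ε n).hom ≫ ψ.app n = φ.app n := fun n => (hX n).isoIsPullback_hom_snd _ _ (hY n)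
  have hcomm : ∀ n, (ε n).hom ≫ (FSch.completionAlong Y (K.comap g)).ι n = 𝔛.ι n ≫ (ε (n + 1)).hom := fun n => by
    apply (hY (n + 1)).hom_ext
    · rw [Category.assoc, Category.assoc, hε₁ (n + 1), ← he n]
      exact (congrArg ((ε n).hom ≫ ·) (Scheme.IdealSheafData.inclusion_subschemeι _)).trans (hε₁ n)
    · rw [Category.assoc, Category.assoc, hε₂ (n + 1), ← ψ.comm n, reassoc_of% hε₂ n, φ.comm n]
  refine ⟨Y, g, M, hg, hMa, h,
    { hom := ⟨fun n => (ε n).hom, hcomm⟩
      inv := ⟨fun n => (ε n).inv, fun n => by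
        rw [Iso.inv_comp_eq, reassoc_of% hcomm n, Iso.hom_inv_id, Category.comp_id]⟩
      hom_inv_id := FSch.Hom.ext (funext fun n => (ε n).hom_inv_id)
      inv_hom_id := FSch.Hom.ext (funext fun n => (ε n).inv_hom_id) }, ?_⟩
  exact FSch.Hom.ext (funext fun n => hε₂ n)

end Groth.Agent.S12901
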