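import Groth.Statements.S12910
import Mathlib
import Groth.Agent.H22Alg.CMField
import Groth.Agent.H28Int.Vanishing
import Groth.Agent.H28Int.Core

set_option autoImplicit false
universe u
open CategoryTheory CategoryTheory.Limits AlgebraicGeometry
open Variety

namespace Groth.Agent.S12910

/-- Let k be a field, d an integer, and E a bounded chain complex ⋯ → E_2 → E_1 → E_0 of coherent
modules on P^n_k (E_s = 0 for s large) such that E_s is (d + s)-regular for every s and, for every i
> 0, the homology sheaf H_i(E) has support of Krull dimension at most 1. Then the cokernel of E_1 →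
E_0 is d-regular and the image of E_1 → E_0 is (d + 1)-regular. -/
theorem result (k : Type u) [Field k] (n : ℕ)
    (E : ChainComplex ((CohB1.ProjSpace n k).Modules) ℕ) (t : ℕ) (hbdd : ∀ s : ℕ, t < s → IsZero (E.X s))
    (hcoh : ∀ s : ℕ, Coh.IsCoh (E.X s)) (d : ℤ)
    (hreg : ∀ s : ℕ, Curv2.IsMRegular k n (E.X s) (d + s))
    (hsupp : ∀ i : ℕ, 0 < i → topologicalKrullDim (CohB1.support (E.homology i)) ≤ 1) :
    Curv2.IsMRegular k n (cokernel (E.d 1 0)) d ∧
      Curv2.IsMRegular k n (Abelian.image (E.d 1 0)) (d + 1) := by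
  letI : (CohB1.ProjSpace n k).Over (Spec (CommRingCat.of k)) := ⟨CohB1.ProjSpace.toSpec n k⟩
  haveI : IsProper (CohB1.ProjSpace n k ↘ Spec (CommRingCat.of k)) :=
    inferInstanceAs (IsProper (CohB1.ProjSpace.toSpec n k))
  haveI := H28Int.isNoetherian k (X := CohB1.ProjSpace n k)
  haveI : (CohB1.ProjSpace n k).IsSeparated := Scheme.IsSeparated.mk (by
    rw [← terminal.comp_from (CohB1.ProjSpace.toSpec n k)]; infer_instance)
  have hs := H22Alg.CMField.setup k n
  have hE := fun s => (H22Alg.CMField.reg_iff (hcoh s) (d + s)).2 (hreg s)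
  let B : ℕ → (CohB1.ProjSpace n k).Modules := fun s => Abelian.coimage (E.d (s + 1) s)
  have hker : ∀ {a b : ℕ}, Coh.IsCoh (kernel (E.d a b)) := fun {a b} => H10Coh.isCoh_kernel _ (hcoh a) (hcoh b).1
  have hB : ∀ s, Coh.IsCoh (B s) := fun s => H10Coh.isCoh_cokernel _ hker.1 (hcoh (s + 1))
  have key : ∀ i, 1 ≤ i → ∀ s, H22Alg.CMField.Van (i + s)
      (CohB1.tensorMod (B s) (Twist.twistProjSpace n k (d + 1 - i))) := by
    intro i hi
    have hO := hs.fam.inv (d + 1 - i)
    suffices H : ∀ r s, t ≤ s + r → H22Alg.CMField.Van (i + s)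
        (CohB1.tensorMod (B s) (Twist.twistProjSpace n k (d + 1 - i))) from fun s => H t s (by omega)
    intro r
    induction r with
    | zero =>
      intro s hs'
      have hz : IsZero (B s) := IsZero.of_epi (cokernel.π (kernel.ι (E.d (s + 1) s))) (hbdd (s + 1) (by omega))
      let T := (DCoh.tensorBi (X := CohB1.ProjSpace n k)).flip.obj (Twist.twistProjSpace n k (d + 1 - i))
      have hz' : IsZero (T.obj (B s)) := T.map_isZero hz
      have hz'' : IsZero (H10Coh.sh (T.obj (B s))) := (H10Coh.shF _).map_isZero hz'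
      exact H10Coh.Tw.subsingleton_of_sum_eq_id (ι := Empty) (P := fun e => e.elim) (fun e => e.elim)
        (fun e => e.elim) (hz''.eq_of_src _ _) (fun e => e.elim)
    | succ r ih =>
      intro s hs'
      have hS : (ShortComplex.mk (kernel.ι (E.d (s + 1) s)) (cokernel.π (kernel.ι (E.d (s + 1) s)))
          (cokernel.condition _)).ShortExact := { exact := ShortComplex.exact_cokernel _ }
      refine H10Coh.Tw.subsingleton_X₃ (H10Coh.shortExact_sh (H10Coh.Tw.shortExact_seq hS hO)) ?_ ?_
      · have := hE (s + 1) (i + s) (by omega)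
        rwa [show d + ((s + 1 : ℕ) : ℤ) - ((i + s : ℕ) : ℤ) = d + 1 - (i : ℤ) by push_cast; ring] at this
      · let L := kernel.lift (E.d (s + 1) s) (E.d (s + 2) (s + 1)) (E.d_comp_d _ _ _)
        let l : B (s + 1) ⟶ kernel (E.d (s + 1) s) :=
          cokernel.desc _ L ((cancel_mono (kernel.ι (E.d (s + 1) s))).1 (by simp [L]))
        haveI : Mono l := by
          have e : l ≫ kernel.ι (E.d (s + 1) s) = Abelian.factorThruCoimage (E.d (s + 2) (s + 1)) := by
            refine (cancel_epi (cokernel.π (kernel.ι (E.d (s + 2) (s + 1))))).1 ?_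
            simp [l, L]
          haveI : Mono (l ≫ kernel.ι (E.d (s + 1) s)) := by rw [e]; infer_instance
          exact mono_of_mono l (kernel.ι (E.d (s + 1) s))
        have hS' : (ShortComplex.mk l (cokernel.π l) (cokernel.condition l)).ShortExact :=
          { exact := ShortComplex.exact_cokernel _ }
        refine H10Coh.Tw.subsingleton_X₂ (H10Coh.shortExact_sh (H10Coh.Tw.shortExact_seq hS' hO)) ?_ ?_
        · exact (ih (s + 1) (by omega))
        · have hQ : Coh.IsCoh (cokernel l) := H10Coh.isCoh_cokernel l (hB (s + 1)).1 hker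
          let S := E.sc' (s + 2) (s + 1) s
          let e₁ : cokernel L ≅ cokernel l := (cokernelIsoOfEq (show L = cokernel.π (kernel.ι (E.d (s + 2) (s + 1))) ≫ l from (cokernel.π_desc _ L _).symm)) ≪≫
            cokernelEpiComp (cokernel.π (kernel.ι (E.d (s + 2) (s + 1)))) l
          let e₂ : E.homology (s + 1) ≅ cokernel L :=
            ShortComplex.homologyMapIso (E.isoSc' (s + 2) (s + 1) s (by simp) (by simp)) ≪≫
              (ShortComplex.LeftHomologyData.ofHasKernelOfHasCokernel S).homologyIso
          have hsub : CohB1.support (cokernel l) ⊆ CohB1.support (E.homology (s + 1)) :=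
            LeadDev.support_subset_of_iso (e₂ ≪≫ e₁).symm
          exact H28Int.subsingleton_HnM_of_support
            ⟨CohB1.support (cokernel l), H10Coh.isClosed_support _ hQ.2⟩ 1
            (by
              have := (H28Int.dim_le_of_subset hsub).trans (hsupp (s + 1) (by omega))
              simpa using this)
            _ (H11Ample.isCoh_tensor hQ hO).1 (H25Euler.support_tensor_subset _ _) (i + s + 1) (by omega)
  have him : Coh.IsCoh (Abelian.image (E.d 1 0)) := H10Coh.isCoh_of_iso (Abelian.coimageIsoImage (E.d 1 0)) (hB 0)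
  have himg : H22Alg.CMField.Reg (fun a => Twist.twistProjSpace n k a) (Abelian.image (E.d 1 0)) (d + 1) :=
    fun i hi => H10Coh.Tw.subsingleton_of_iso (PicGrp.tensorModIso (Abelian.coimageIsoImage (E.d 1 0)) (Iso.refl _))
      (key i hi 0)
  refine ⟨(H22Alg.CMField.reg_iff (H10Coh.isCoh_cokernel _ (hcoh 1).1 (hcoh 0)) d).1 fun i hi => ?_,
    (H22Alg.CMField.reg_iff him (d + 1)).1 himg⟩
  have hS : (ShortComplex.mk (Abelian.image.ι (E.d 1 0)) (cokernel.π (E.d 1 0)) (kernel.condition _)).ShortExact :=
    { exact := ShortComplex.exact_kernel _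
      mono_f := inferInstanceAs (Mono (kernel.ι (cokernel.π (E.d 1 0)))) }
  refine H10Coh.Tw.subsingleton_X₃ (H10Coh.shortExact_sh (H10Coh.Tw.shortExact_seq hS (hs.fam.inv (d - (i : ℤ))))) ?_ ?_
  · have := hE 0 i hi
    simp only [Nat.cast_zero, add_zero] at this
    exact this
  · have := himg (i + 1) (by omega)
    rwa [show d + 1 - ((i + 1 : ℕ) : ℤ) = d - (i : ℤ) by push_cast; ring] at this

end Groth.Agent.S12910
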