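import Groth.Statements.S12912
import Groth.Agent.H29RR.PnLinear
import Groth.Agent.H29RR.Clifford
import Groth.Agent.H29RR.Consts

set_option autoImplicit false
universe u
open CategoryTheory CategoryTheory.Limits AlgebraicGeometry
open Curves

namespace Groth.Agent.S12912

/-- Let k be an algebraically closed field and X a curve over k (integral, proper over k, of dimension
one) with a closed immersion i : X → P^r_k over k whose image lies in no hyperplane: every nonzero
global section of O(1) on P^r_k pulls back to a nonzero global section of i^* O(1). Then deg i^*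
O(1) ≥ r. -/
theorem result (k : Type u) [Field k] [IsAlgClosed k] (r : ℕ)
    (X : Scheme.{u}) [X.Over (Spec (CommRingCat.of k))] [IsIntegral X] [IsProper (X ↘ (Spec (CommRingCat.of k)))]
    (hdim : topologicalKrullDim X = 1)
    (i : X ⟶ CohB1.ProjSpace r k) [IsClosedImmersion i]
    (hi : i ≫ CohB1.ProjSpace.toSpec r k = (X ↘ (Spec (CommRingCat.of k))))
    (hplane : ∀ s : LinSer.Sect (CohB1.ProjSpace r k) (Twist.twistProjSpace r k 1), s ≠ 0 →
      OmegaSh.pullSect i (Twist.twistProjSpace r k 1) ⊤ s ≠ 0) :
    (r : ℤ) ≤ Curv2.deg k X ((Scheme.Modules.pullback i).obj (Twist.twistProjSpace r k 1)) 1 := by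
  classical
  haveI := H29RR.isNoetherian_of_proper (k := k) (X := X)
  let P := CohB1.ProjSpace r k
  let O1 := Twist.twistProjSpace r k 1
  have hO1 : PicF.IsInvertible O1 := H11Ample.isInvertible_twist
  let L := (Scheme.Modules.pullback i).obj O1
  have hL : PicF.IsInvertible L := H11Ample.isInvertible_pullback i hO1
  let ps : Γ(O1, ⊤) → Γ(L, ⊤) := fun m => OmegaSh.pullSect i O1 ⊤ m
  let u : (Fin (r + 1) → k) → Γ(O1, ⊤) := fun c =>
    ∑ j, ProjUP.toGlobal (CohB1.ProjSpace.toSpec r k) (c j) • ProjUP.coord r k j
  have hg : ∀ a : k, H10Coh.globA (A := k) (X := X) a = i.app ⊤ (ProjUP.toGlobal (CohB1.ProjSpace.toSpec r k) a) := by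
    intro a
    show Coh.toGlobal (X ↘ Spec (CommRingCat.of k)) a = _
    rw [← hi]
    rfl
  have hu : ∀ c d, u (c + d) = u c + u d := fun c d => by
    simp only [u, Pi.add_apply, map_add, add_smul, Finset.sum_add_distrib]
  have hus : ∀ (a : k) c, u (a • c) = ProjUP.toGlobal (CohB1.ProjSpace.toSpec r k) a • u c := fun a c => by
    simp only [u, Pi.smul_apply, smul_eq_mul, map_mul, mul_smul, Finset.smul_sum]
  let v : (Fin (r + 1) → k) →ₗ[k] Coh.HH X L 0 :=
    { toFun := fun c => (H29RR.sec L).symm (ps (u c))
      map_add' := fun c d => (H29RR.sec L).injective (by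
        rw [map_add, AddEquiv.apply_symm_apply, AddEquiv.apply_symm_apply, AddEquiv.apply_symm_apply, hu]
        exact map_add (OmegaSh.pullSect i O1 ⊤).hom _ _)
      map_smul' := fun a c => (H29RR.sec L).injective (by
        rw [RingHom.id_apply, H29RR.sec_smul, AddEquiv.apply_symm_apply, AddEquiv.apply_symm_apply, hus, hg]
        exact OmegaSh.pullSect_smul i O1 ⊤ _ _) }
  have hv : Function.Injective v := by
    refine (injective_iff_map_eq_zero v).2 fun c hc => by_contra fun hne => ?_
    have h1 : ps (u c) = 0 := by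
      have := congrArg (H29RR.sec L) hc
      rwa [map_zero, show H29RR.sec L (v c) = ps (u c) from AddEquiv.apply_symm_apply _ _] at this
    exact hplane (u c) (fun h0 => hne (funext fun j => H29RR.coord_independent c h0 j)) h1
  haveI := H29RR.finite_HH (k := k) L hL 0
  have hle := LinearMap.finrank_le_finrank_of_injective hv
  rw [Module.finrank_fin_fun] at hle
  haveI : Nontrivial (Coh.HH X L 0) := Module.nontrivial_of_finrank_pos (R := k) (by omega)
  have hb := (H29RR.bounds_of_section (k := k) hdim.le hL inferInstance).2.1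
  have h00 := H29RR.finrank_h0_structure k X
  show (r : ℤ) ≤ Curv2.deg k X L 1
  omega

end Groth.Agent.S12912
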