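import Groth.Statements.S12915
import Mathlib.Algebra.AffineMonoid.UniqueSums
import Mathlib.Algebra.Order.Antidiag.FinsuppEquiv
import Mathlib.RingTheory.Etale.Descent
import Mathlib.RingTheory.Finiteness.ModuleFinitePresentation
import Mathlib.RingTheory.Flat.TorsionFree
import Mathlib.RingTheory.GradedAlgebra.Radical
import Mathlib.RingTheory.Henselian
import Mathlib.RingTheory.MvPolynomial.IrreducibleQuadratic
import Mathlib.RingTheory.PicardGroup
import Mathlib.RingTheory.RegularLocalRing.Defs
import Mathlib.RingTheory.SimpleRing.Principal
import Mathlib.RingTheory.TotallySplit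

set_option autoImplicit false
universe u
open CAlgX

namespace Groth.Agent.S12915

/-- Let k be a field, S = k[x_0, …, x_r], and f a nonzero homogeneous polynomial of degree m. For every
t ≥ m the image in S/(f) of the homogeneous polynomials of degree t is a k-vector space of dimension
C(t + r, r) - C(t + r - m, r). (The published clause states that the hypersurface f = 0 in P^r has
degree m; its proof computes exactly this Hilbert function, whose polynomial has leading term m
t^(r-1)/(r-1)!, and that computation is what is stated here.) -/
theorem result (k : Type u) [Field k] (r m : ℕ)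
    (f : MvPolynomial (Fin (r + 1)) k) (hf : f.IsHomogeneous m) (hf0 : f ≠ 0) (t : ℕ) (ht : m ≤ t) :
    Module.finrank k
        (Submodule.map ((Ideal.Quotient.mkₐ k (Ideal.span {f})).toLinearMap)
          (MvPolynomial.homogeneousSubmodule (Fin (r + 1)) k t)) =
      Nat.choose (t + r) r - Nat.choose (t + r - m) r := by
  classical
  let S : ℕ → Submodule k (MvPolynomial (Fin (r + 1)) k) := MvPolynomial.homogeneousSubmodule (Fin (r + 1)) k
  have hS : ∀ n, Module.Finite k (S n) ∧ Module.finrank k (S n) = (n + r).choose r := by
    intro n
    let D : Set (Fin (r + 1) →₀ ℕ) := {d | d.degree = n}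
    have hD : D = ↑((Finset.univ : Finset (Fin (r + 1))).finsuppAntidiag n) := by
      ext d
      simp [D, Finset.mem_finsuppAntidiag, Finsupp.degree_eq_sum]
    have hSe : S n = MvPolynomial.restrictSupport k D :=
      MvPolynomial.homogeneousSubmodule_eq_finsupp_supported (Fin (r + 1)) k n
    let b := MvPolynomial.basisRestrictSupport k D
    have : Finite D := by rw [hD]; exact Finset.finite_toSet _ |>.to_subtype
    have : Fintype D := Fintype.ofFinite D
    rw [hSe]
    refine ⟨Module.Finite.of_basis b, ?_⟩
    rw [Module.finrank_eq_card_basis b, ← Set.toFinset_card, show D.toFinset = _ by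
      simp_rw [hD]; exact Finset.toFinset_coe _, Finset.card_finsuppAntidiag_nat_eq_choose, Finset.card_univ,
      Fintype.card_fin, show r + 1 + n - 1 = n + r by omega, ← Nat.choose_symm_add]
  have := (hS t).1
  let L : S t →ₗ[k] (MvPolynomial (Fin (r + 1)) k ⧸ Ideal.span {f}) :=
    (Ideal.Quotient.mkₐ k (Ideal.span {f})).toLinearMap.comp (S t).subtype
  have hrange : LinearMap.range L =
      Submodule.map (Ideal.Quotient.mkₐ k (Ideal.span {f})).toLinearMap (S t) := by
    rw [LinearMap.range_comp, Submodule.range_subtype]
  let μ : S (t - m) →ₗ[k] S t := LinearMap.codRestrict (S t)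
    ((LinearMap.mulLeft k f).comp (S (t - m)).subtype) fun h ↦ by
      have h1 := hf.mul h.2
      rwa [Nat.add_sub_cancel' ht] at h1
  have hμ : Function.Injective μ := fun a b h ↦ Subtype.ext (mul_left_cancel₀ hf0 (congrArg Subtype.val h))
  have hker : LinearMap.ker L = LinearMap.range μ := by
    ext x
    constructor
    · intro hx
      obtain ⟨h, hh⟩ := Ideal.mem_span_singleton'.mp (Ideal.Quotient.eq_zero_iff_mem.mp hx)
      refine ⟨⟨MvPolynomial.homogeneousComponent (t - m) h, MvPolynomial.homogeneousComponent_mem _ _⟩, Subtype.ext ?_⟩
      show f * MvPolynomial.homogeneousComponent (t - m) h = x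
      letI := MvPolynomial.gradedAlgebra (σ := Fin (r + 1)) (R := k)
      have hc := DirectSum.coe_decompose_mul_of_left_mem_of_le (MvPolynomial.homogeneousSubmodule (Fin (r + 1)) k)
        (b := h) hf ht
      simp only [DirectSum.decompose, Equiv.coe_fn_mk, MvPolynomial.decomposition.decompose'_apply] at hc
      rw [← hc, mul_comm, hh]
      exact (MvPolynomial.homogeneousComponent_of_mem x.2).trans (if_pos rfl)
    · rintro ⟨a, rfl⟩
      exact Ideal.Quotient.eq_zero_iff_mem.mpr (Ideal.mul_mem_right _ _ (Ideal.mem_span_singleton_self f))
  have h1 := LinearMap.finrank_range_add_finrank_ker L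
  rw [hrange, hker, LinearMap.finrank_range_of_inj hμ, (hS t).2, (hS (t - m)).2,
    show t - m + r = t + r - m by omega] at h1
  show Module.finrank k (Submodule.map _ (S t)) = _
  omega

end Groth.Agent.S12915
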