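import Groth.Statements.S12916
import Groth.Agent.H22Alg.FiniteLength
import Groth.Agent.H3CAlg.FormsDim
import Mathlib.GroupTheory.CosetCover
import Mathlib.RingTheory.Henselian
import Mathlib.RingTheory.Ideal.AssociatedPrime.Finiteness
import Mathlib.RingTheory.Ideal.AssociatedPrime.Localization
import Mathlib.RingTheory.MvPolynomial.IrreducibleQuadratic
import Mathlib.RingTheory.RegularLocalRing.Defs
import Mathlib.RingTheory.SimpleRing.Principal
import Mathlib.Tactic.Ring

set_option autoImplicit false
universe u
open CAlgX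

namespace Groth.Agent.S12916

/-- Let k be an infinite field, S = k[x_0, …, x_r], M a finitely generated S-module and d a natural
number. Then some nonzero homogeneous polynomial f of degree d is quasi-regular on M: the submodule
(0 :_M f) of elements of M annihilated by f has finite length. (The published statement assumes M
graded; this row assumes only that M is finitely generated.) -/
theorem result (k : Type u) [Field k] [Infinite k] (r d : ℕ)
    (M : Type u) [AddCommGroup M] [Module (MvPolynomial (Fin (r + 1)) k) M] [Module.Finite (MvPolynomial (Fin (r + 1)) k) M] :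
    ∃ f : MvPolynomial (Fin (r + 1)) k, f.IsHomogeneous d ∧ f ≠ 0 ∧
      IsFiniteLength (MvPolynomial (Fin (r + 1)) k) ↥(Submodule.torsionBy (MvPolynomial (Fin (r + 1)) k) M f) := by
  classical
  let R := MvPolynomial (Fin (r + 1)) k
  have hfin : (associatedPrimes R M).Finite := associatedPrimes.finite R M
  let S := MvPolynomial.homogeneousSubmodule (Fin (r + 1)) k d
  let Bad := {P : Ideal R | P ∈ associatedPrimes R M ∧ ¬ P.IsMaximal}
  have : Finite Bad := (hfin.subset fun P hP ↦ hP.1).to_subtype
  let V : Option Bad → Submodule k S := fun o ↦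
    o.elim ⊥ fun P ↦ Submodule.comap S.subtype ((P : Ideal R).restrictScalars k)
  have hX : ∀ i, (MvPolynomial.X i : R) ^ d ∈ S := fun i ↦ MvPolynomial.isHomogeneous_X_pow i d
  have hV : ∀ o, V o ≠ ⊤ := by
    rintro (_ | ⟨P, hP, hPm⟩) h
    · have h1 : (⟨_, hX 0⟩ : S) ∈ V none := h ▸ Submodule.mem_top
      have h2 := congrArg Subtype.val ((Submodule.mem_bot k).mp h1)
      exact pow_ne_zero d (MvPolynomial.X_ne_zero 0) h2
    · apply hPm
      have hPp : P.IsPrime := hP.1
      have hXP : ∀ i, (MvPolynomial.X i : R) ∈ P := fun i ↦ hPp.mem_of_pow_mem d (by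
        have h1 : (⟨_, hX i⟩ : S) ∈ V (some ⟨P, hP, hPm⟩) := h ▸ Submodule.mem_top
        exact h1)
      have hker : (RingHom.ker (MvPolynomial.aeval (0 : Fin (r + 1) → k)).toRingHom).IsMaximal :=
        RingHom.ker_isMaximal_of_surjective _ fun c ↦ ⟨MvPolynomial.C c, by simp⟩
      refine hker.eq_of_le hPp.ne_top (fun f hf ↦ ?_) ▸ hker
      have hmem : f - MvPolynomial.C (MvPolynomial.constantCoeff f) ∈ P := by
        clear hf
        induction f using MvPolynomial.induction_on with
        | C a => simp
        | add p q hp hq => convert add_mem hp hq using 1; simp; ring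
        | mul_X p i _ => simpa using P.mul_mem_left p (hXP i)
      have : MvPolynomial.constantCoeff f = 0 := by
        have := RingHom.mem_ker.mp hf
        simpa [MvPolynomial.aeval_zero] using this
      simpa [this] using hmem
  obtain ⟨x, hx⟩ : ∃ x : S, ∀ o, x ∉ V o := by
    by_contra! h
    obtain ⟨o, ho⟩ := Subspace.exists_eq_top_of_iUnion_eq_univ (p := V) (Set.eq_univ_of_forall fun x ↦ Set.mem_iUnion.mpr (h x))
    exact hV o ho
  refine ⟨x, x.2, fun h ↦ hx none ((Submodule.mem_bot k).mpr (Subtype.ext h)), Module.length_ne_top_iff.mp ?_⟩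
  refine Groth.Agent.H22Alg.length_ne_top_of_support_maximal fun p hp ↦ ?_
  rw [Module.support_eq_zeroLocus, PrimeSpectrum.mem_zeroLocus] at hp
  obtain ⟨Q, hQ, hQp⟩ := Ideal.exists_minimalPrimes_le hp
  have hQ' := Module.associatedPrimes.minimalPrimes_annihilator_subset_associatedPrimes R _ hQ
  have hQM := associatedPrimes.subset_of_injective (Submodule.injective_subtype _) hQ'
  have hQmax : Q.IsMaximal := by
    by_contra hmax
    apply hx (some ⟨Q, hQM, hmax⟩)
    obtain ⟨-, z, hz⟩ := hQ'
    show (x : R) ∈ Q
    rw [hz]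
    refine Ideal.le_radical ?_
    rw [Submodule.mem_colon_singleton, Submodule.mem_bot]
    exact Subtype.ext ((Submodule.mem_torsionBy_iff _ _).mp z.2)
  exact hQmax.eq_of_le p.isPrime.ne_top hQp ▸ hQmax

end Groth.Agent.S12916
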