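import Groth.Statements.S12918
import Groth.Agent.H20Comod.Tame

set_option autoImplicit false
universe u v w
open HopfRep

namespace Groth.Agent.S12918

/-- Let `k` be a commutative ring, `A` a commutative Hopf algebra over `k`, flat as a `k`-module and `B`
a commutative `k`-algebra with a coaction `ρ : B → B ⊗ A` that is an algebra map (an action of the
affine group scheme `Spec A` on `Spec B`). Then the action admits a total integral — a comodule map
`α : A → B`, for the regular coaction on `A`, with `α 1 = 1` — if and only if `ρ` has a left inverse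
`B ⊗ A → B` which is a comodule map for the coaction `id ⊗ Δ` on `B ⊗ A`. -/
theorem result
    (k : Type u) [CommRing k] (A : Type v) [CommRing A] [HopfAlgebra k A] [Module.Flat k A]
    (B : Type w) [CommRing B] [Algebra k B] [HopfRep.Comod k A B] [GLin.IsCoactAlg k A B] :
    (∃ α : A →ₗ[k] B, Hoch.IsComodHom A α ∧ α 1 = 1) ↔
      ∃ lam : Hoch.Ind k A B →ₗ[k] B, Hoch.IsComodHom A lam ∧ lam ∘ₗ Hoch.toInd k A B = LinearMap.id := by
  haveI := H20Comod.isHopfMod_self (k := k) (A := A) (B := B)
  constructor
  · rintro ⟨α, hα, h1⟩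
    refine ⟨H20Comod.lam B α ∘ₗ (Hoch.Ind.equiv k A B).symm.toLinearMap, ?_, ?_⟩
    · exact LinearMap.ext fun z => H20Comod.coact_lam hα z
    · exact LinearMap.ext fun b => H20Comod.lam_coact h1 b
  · rintro ⟨lam, hlam, hid⟩
    let ι : A →ₗ[k] Hoch.Ind k A B := (Hoch.Ind.equiv k A B).toLinearMap ∘ₗ TensorProduct.mk k B A 1
    refine ⟨lam ∘ₗ ι, ?_, ?_⟩
    · apply LinearMap.ext
      intro a
      show HopfRep.Comod.coact (k := k) (A := A) (lam (ι a)) =
        (lam ∘ₗ ι).rTensor A (CoalgebraStruct.comul (R := k) a)
      rw [LinearMap.rTensor_comp]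
      refine Eq.trans (show HopfRep.Comod.coact (k := k) (A := A) (lam (ι a)) = lam.rTensor A (HopfRep.Comod.coact (k := k) (A := A) (ι a))
        from LinearMap.congr_fun hlam (ι a)) ?_
      refine congrArg (lam.rTensor A) ?_
      show Hoch.Ind.coactAux k A B ((1 : B) ⊗ₜ[k] a) = _
      rw [Hoch.Ind.coactAux_tmul]
      generalize CoalgebraStruct.comul (R := k) a = z
      induction z using TensorProduct.induction_on with
      | zero => simp; rfl
      | tmul p q => rfl
      | add u v hu hv => rw [TensorProduct.tmul_add, map_add, map_add, hu, hv]; rfl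
    · refine Eq.trans (congrArg lam ?_) (LinearMap.congr_fun hid 1)
      exact (Algebra.TensorProduct.one_def.symm.trans (GLin.IsCoactAlg.coact_one (k := k) (A := A) (R := B)).symm)

end Groth.Agent.S12918
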