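import Groth.Statements.S12921
import Groth.Agent.H20Comod.Tame

set_option autoImplicit false
universe u v w
open HopfRep

namespace Groth.Agent.S12921

/-- Let `k` be a commutative ring, `A` a commutative Hopf algebra over `k`, flat as a `k`-module, `B` a
commutative `k`-algebra with a coaction of `A` that is an algebra map and admits a total integral (a
comodule map `α : A → B` with `α 1 = 1`), and `C = B^A` the subring of invariants. Then for every
ideal `c` of `C` one has `cB ∩ C = c`. (The published statement assumes only that taking invariants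
is exact on `(B, A)`-modules; a total integral, assumed here, gives that exactness.) -/
theorem result
    (k : Type u) [CommRing k] (A : Type v) [CommRing A] [HopfAlgebra k A] [Module.Flat k A]
    (B : Type w) [CommRing B] [Algebra k B] [HopfRep.Comod k A B] [GLin.IsCoactAlg k A B]
    (htame : ∃ α : A →ₗ[k] B, Hoch.IsComodHom A α ∧ α 1 = 1)
    (c : Ideal (GLin.invariants k A B)) :
    (c.map (algebraMap (GLin.invariants k A B) B)).comap (algebraMap (GLin.invariants k A B) B) = c := by
  obtain ⟨α, hα, h1⟩ := htame
  haveI := H20Comod.isHopfMod_self (k := k) (A := A) (B := B)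
  refine le_antisymm (fun x hx => ?_) Ideal.le_comap_map
  let E := TameAct.reynolds k A B B α
  have key : ∀ y ∈ c.map (algebraMap (GLin.invariants k A B) B),
      ∃ z ∈ c, (z : B) = E y := by
    intro y hy
    rw [Ideal.map] at hy
    suffices ∀ y ∈ Submodule.span B (algebraMap (GLin.invariants k A B) B '' (c : Set _)), ∀ r : B,
        ∃ z ∈ c, (z : B) = E (r * y) by
      simpa using this y hy 1
    intro y hy
    induction hy using Submodule.span_induction with
    | mem y hy =>
      obtain ⟨z, hz, rfl⟩ := hy
      intro r
      refine ⟨⟨E r, H20Comod.reynolds_mem_fixedPts hα r⟩ * z, c.mul_mem_left _ hz, ?_⟩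
      show E r * (z : B) = E (r * (z : B))
      rw [mul_comm, mul_comm r]
      exact (H20Comod.reynolds_smul_of_fixed α z.2 r).symm
    | zero => exact fun r => ⟨0, zero_mem _, by simp⟩
    | add u v _ _ hu hv =>
      intro r
      obtain ⟨a, ha, ha'⟩ := hu r
      obtain ⟨b, hb, hb'⟩ := hv r
      exact ⟨a + b, add_mem ha hb, by rw [mul_add, map_add, ← ha', ← hb']; rfl⟩
    | smul s u _ hu =>
      intro r
      rw [smul_eq_mul, ← mul_assoc]
      exact hu (r * s)
  obtain ⟨z, hz, hzx⟩ := key _ (Ideal.mem_comap.1 hx)
  rw [show E (algebraMap _ B x) = (x : B) from H20Comod.reynolds_eq_self h1 x.2] at hzx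
  rwa [← Subtype.ext hzx]

end Groth.Agent.S12921
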