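import Groth.Statements.S12923
import Groth.Agent.H20Comod.Tame

set_option autoImplicit false
universe u v w
open HopfRep

namespace Groth.Agent.S12923

/-- Let `k` be a commutative ring, `A` a commutative Hopf algebra over `k`, flat as a `k`-module, `B` a
commutative `k`-algebra with a coaction of `A` that is an algebra map and admits a total integral (a
comodule map `α : A → B` with `α 1 = 1`), `C = B^A`, and `b` an ideal of `B` which is a subcomodule
(a closed subscheme of `Spec B` stable under the action). Then the image of `V(b)` under `Spec B →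
Spec C` is the closed set `V(b ∩ C)`. (The published statement assumes only that taking invariants
is exact on `(B, A)`-modules; a total integral, assumed here, gives that exactness.) -/
theorem result
    (k : Type u) [CommRing k] (A : Type v) [CommRing A] [HopfAlgebra k A] [Module.Flat k A]
    (B : Type w) [CommRing B] [Algebra k B] [HopfRep.Comod k A B] [GLin.IsCoactAlg k A B]
    (htame : ∃ α : A →ₗ[k] B, Hoch.IsComodHom A α ∧ α 1 = 1)
    (b : Ideal B) (hb : HopfRep.IsSubcomod (k := k) (A := A) (b.restrictScalars k)) :
    PrimeSpectrum.comap (algebraMap (GLin.invariants k A B) B) '' PrimeSpectrum.zeroLocus (b : Set B) =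
      PrimeSpectrum.zeroLocus ((b.comap (algebraMap (GLin.invariants k A B) B) : Ideal (GLin.invariants k A B)) : Set (GLin.invariants k A B)) := by
  obtain ⟨α, hα, h1⟩ := htame
  haveI := H20Comod.isHopfMod_self (k := k) (A := A) (B := B)
  let φ := algebraMap (GLin.invariants k A B) B
  let E := TameAct.reynolds k A B B α
  have hEb : ∀ y ∈ b, E y ∈ b := by
    intro y hy
    show TameAct.reynolds k A B B α y ∈ b
    rw [H20Comod.reynolds_tmul_eq]
    obtain ⟨z, hz⟩ := hb y hy
    rw [← hz]
    clear hz
    induction z using TensorProduct.induction_on with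
    | zero => simp
    | tmul x c => simpa using b.mul_mem_left _ x.2
    | add u v hu hv => rw [map_add, map_add]; exact add_mem hu hv
  apply Set.Subset.antisymm
  · rintro p ⟨q, hq, rfl⟩
    exact fun x hx => hq hx
  · intro p hp
    let J : Ideal B := b ⊔ p.asIdeal.map φ
    have key : ∀ y ∈ p.asIdeal.map φ, ∀ r : B, ∃ z ∈ p.asIdeal, (z : B) = E (r * y) := by
      intro y hy
      rw [Ideal.map] at hy
      induction hy using Submodule.span_induction with
      | mem y hy =>
        obtain ⟨z, hz, rfl⟩ := hy
        intro r
        refine ⟨⟨E r, H20Comod.reynolds_mem_fixedPts hα r⟩ * z, p.asIdeal.mul_mem_left _ hz, ?_⟩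
        show E r * (z : B) = E (r * (z : B))
        rw [mul_comm, mul_comm r]
        exact (H20Comod.reynolds_smul_of_fixed α z.2 r).symm
      | zero => exact fun r => ⟨0, zero_mem _, by simp⟩
      | add u v _ _ hu hv =>
        intro r
        obtain ⟨a, ha, ha'⟩ := hu r
        obtain ⟨b, hb, hb'⟩ := hv r
        exact ⟨a + b, add_mem ha hb, by rw [mul_add, map_add, ← ha', ← hb']; rfl⟩
      | smul s u _ hu =>
        intro r
        rw [smul_eq_mul, ← mul_assoc]
        exact hu (r * s)
    have hJ : ∀ x : GLin.invariants k A B, φ x ∈ J → x ∈ p.asIdeal := by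
      intro x hx
      obtain ⟨y, hy, z, hz, hxyz⟩ := Submodule.mem_sup.1 hx
      obtain ⟨w, hw, hw'⟩ := key z hz 1
      have h2 : (x : B) = E y + E (1 * z) := by
        rw [one_mul, ← map_add, hxyz]
        exact (H20Comod.reynolds_eq_self h1 x.2).symm
      have h3 : x - w ∈ b.comap φ := by
        show (x : B) - (w : B) ∈ b
        rw [h2, hw', add_sub_cancel_right]
        exact hEb y hy
      simpa using add_mem (hp h3) hw
    have hd : Disjoint (J : Set B) ((p.asIdeal.primeCompl.map φ : Submonoid B) : Set B) := by
      rw [Set.disjoint_left]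
      rintro _ hJ' ⟨x, hx, rfl⟩
      exact hx (hJ x hJ')
    obtain ⟨q, hq, hle, hdis⟩ := Ideal.exists_le_prime_disjoint J _ hd
    refine ⟨⟨q, hq⟩, fun x hx => hle (Ideal.mem_sup_left hx), PrimeSpectrum.ext ?_⟩
    refine le_antisymm (fun x hx => ?_) (fun x hx => hle (Ideal.mem_sup_right (Ideal.mem_map_of_mem φ hx)))
    by_contra hxp
    exact Set.disjoint_left.1 hdis hx ⟨x, hxp, rfl⟩

end Groth.Agent.S12923
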