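import Groth.Statements.S12925
import Groth.Agent.H20Comod.Tame

set_option autoImplicit false
universe u w
open HopfRep

namespace Groth.Agent.S12925

/-- Let `k` be a commutative ring, `M` a commutative group and `B` a commutative `k`-algebra with a
coaction of the group algebra `k[M]` that is an algebra map (an action of the diagonalizable group
scheme `D(M) = Spec k[M]` on `Spec B`). Then the action is tame: there is a comodule map `α : k[M] →
B`, for the regular coaction on `k[M]`, with `α 1 = 1`. -/
theorem result
    (k : Type u) [CommRing k] (M : Type u) [CommGroup M]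
    (B : Type w) [CommRing B] [Algebra k B] [HopfRep.Comod k (MonoidAlgebra k M) B]
    [GLin.IsCoactAlg k (MonoidAlgebra k M) B] :
    ∃ α : MonoidAlgebra k M →ₗ[k] B, Hoch.IsComodHom (MonoidAlgebra k M) α ∧ α 1 = 1 := by
  classical
  let f := (MonoidAlgebra.basis M k).coord (1 : M)
  have hf : ∀ m : M, f (MonoidAlgebra.single m 1) = if m = 1 then 1 else 0 := by
    intro m
    rw [← MonoidAlgebra.basis_apply]
    simp [f, Finsupp.single_apply, -MonoidAlgebra.basis_apply]
  refine ⟨Algebra.linearMap k B ∘ₗ f, H20Comod.isComodHom_algebraMap_comp ?_, ?_⟩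
  · intro a
    refine LinearMap.congr_fun ((MonoidAlgebra.basis M k).ext (f₁ := f.rTensor (MonoidAlgebra k M) ∘ₗ CoalgebraStruct.comul (R := k))
      (f₂ := (TensorProduct.mk k k (MonoidAlgebra k M)).flip 1 ∘ₗ f) fun m => ?_) a
    rw [MonoidAlgebra.basis_apply]
    show f.rTensor (MonoidAlgebra k M) (CoalgebraStruct.comul (R := k) (MonoidAlgebra.single m (1 : k))) =
      f (MonoidAlgebra.single m 1) ⊗ₜ[k] (1 : MonoidAlgebra k M)
    rw [(MonoidAlgebra.isGroupLikeElem_single_one (R := k) (A := k) m).comul_eq_tmul_self, LinearMap.rTensor_tmul, hf]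
    split_ifs with h
    · rw [h, MonoidAlgebra.one_def]
    · simp
  · show algebraMap k B (f 1) = 1
    rw [MonoidAlgebra.one_def, hf, if_pos rfl, map_one]

end Groth.Agent.S12925
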