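import Groth.Statements.S12928
import Groth.Agent.H20Comod.LeftDual
import Groth.Prelude.Def_ComodTens

set_option autoImplicit false
universe u
open HopfRep

namespace Groth.Agent.S12928

open TensorProduct Groth.Agent.H20Comod

section

variable {k : Type u} [CommRing k] {A : Type u} [CommRing A] [HopfAlgebra k A] [Module.Flat k A] [Module.Finite k A]
  [Module.Projective k A] {B : Type u} [CommRing B] [Algebra k B]

/-- The contragredient of the regular representation. -/
@[reducible] noncomputable def dualComod : Comod k A (Module.Dual k A) :=
  haveI : Module.FinitePresentation k A := Module.finitePresentation_of_projective k A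
  toRight (lDual A A (Comod.regular (k := k) (A := A)))

theorem dualComod_coact (φ : Module.Dual k A) : ∃ z : A ⊗[k] Module.Dual k A,
    (dualComod (k := k) (A := A)).coact φ =
      TensorProduct.comm k A _ ((HopfAlgebra.antipode k).rTensor (Module.Dual k A) z) ∧
      ∀ x : A, readL (k := k) A z x = TensorProduct.lid k A (φ.rTensor A (CoalgebraStruct.comul (R := k) x)) := by
  haveI : Module.FinitePresentation k A := Module.finitePresentation_of_projective k A
  exact ⟨lDualCoact A A (Comod.regular (k := k) (A := A)) φ, rfl,
    fun x => LinearMap.congr_fun (readL_lDualCoact (Comod.regular (k := k) (A := A)) φ) x⟩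

/-- The pairing with the arguments. -/
noncomputable def pair : ((B ⊗[k] Module.Dual k A) ⊗[k] A) ⊗[k] (A ⊗[k] A) →ₗ[k] B ⊗[k] A :=
  TensorProduct.map (TensorProduct.lift (readL (k := k) (M := A) B)) (LinearMap.mul' k A) ∘ₗ
    (TensorProduct.tensorTensorTensorComm k (B ⊗[k] Module.Dual k A) A A A).toLinearMap

theorem mul_antipode_apply (φ : Module.Dual k A) (z : A ⊗[k] Module.Dual k A)
    (hz : ∀ x : A, readL (k := k) A z x = TensorProduct.lid k A (φ.rTensor A (CoalgebraStruct.comul (R := k) x)))
    (a : A) : LinearMap.mul' k A (TensorProduct.map (HopfAlgebra.antipode k ∘ₗ readL (k := k) A z) LinearMap.id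
      (CoalgebraStruct.comul (R := k) a)) = φ a • (1 : A) := by
  let L : A ⊗[k] (A ⊗[k] A) →ₗ[k] A := (TensorProduct.lid k A).toLinearMap ∘ₗ
    TensorProduct.map φ (LinearMap.mul' k A ∘ₗ (HopfAlgebra.antipode k).rTensor A)
  have e1 : ∀ t : A ⊗[k] A, LinearMap.mul' k A (TensorProduct.map (HopfAlgebra.antipode k ∘ₗ readL (k := k) A z) LinearMap.id t) =
      L (TensorProduct.assoc k A A A ((CoalgebraStruct.comul (R := k)).rTensor A t)) := by
    intro t
    induction t using TensorProduct.induction_on with
    | zero => simp
    | tmul x y =>
      simp only [TensorProduct.map_tmul, LinearMap.comp_apply, LinearMap.id_apply, LinearMap.mul'_apply, hz,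
        LinearMap.rTensor_tmul]
      generalize CoalgebraStruct.comul (R := k) x = w
      induction w using TensorProduct.induction_on with
      | zero => simp
      | tmul p q => simp [L]
      | add u v hu hv => simp only [map_add, add_mul, TensorProduct.add_tmul, hu, hv]
    | add u v hu hv => simp only [map_add, hu, hv]
  rw [e1, Coalgebra.coassoc_apply, show ∀ t : A ⊗[k] A, L ((CoalgebraStruct.comul (R := k)).lTensor A t) =
      φ (TensorProduct.rid k A ((CoalgebraStruct.counit (R := k)).lTensor A t)) • (1 : A) from fun t => by
    induction t using TensorProduct.induction_on with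
    | zero => simp
    | tmul x y =>
      simp [L, HopfAlgebra.mul_antipode_rTensor_comul_apply, Algebra.algebraMap_eq_smul_one, smul_smul, mul_comm]
    | add u v hu hv => simp only [map_add, add_smul, hu, hv], Coalgebra.lTensor_counit_comul, TensorProduct.rid_tmul, one_smul]

end

/-- Let `k` be a commutative ring, `A` a commutative Hopf algebra over `k` which is finite locally free
(finite projective, in particular flat) as a `k`-module, `B` a commutative `k`-algebra with a
coaction of `A` that is an algebra map, and `C = B^A` the ring of invariants; assume `C` Noetherian
and `B` finite and flat over `C`. If taking invariants is exact on `(B, A)`-modules — for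
`B`-modules `M`, `N` with compatible `A`-coactions (in the universe of `k`, `A`, `B`) every
surjective `B`-linear comodule map `M → N` maps `M^A` onto `N^A` — then the action is tame: there is
a comodule map `α : A → B` with `α 1 = 1`. Together with the converse (a total integral makes
invariants exact) this says that tameness of the action is the exactness of invariants. (The
published statement does not assume `B` finite over `C`; its proof uses that finiteness, which is
assumed here.) -/
theorem result
    (k : Type u) [CommRing k] (A : Type u) [CommRing A] [HopfAlgebra k A] [Module.Flat k A]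
    [Module.Finite k A] [Module.Projective k A]
    (B : Type u) [CommRing B] [Algebra k B] [HopfRep.Comod k A B] [GLin.IsCoactAlg k A B]
    [IsNoetherianRing (GLin.invariants k A B)] [Module.Finite (GLin.invariants k A B) B] [Module.Flat (GLin.invariants k A B) B]
    (hexact : ∀ (M N : Type u) [AddCommGroup M] [Module k M] [Module B M] [IsScalarTower k B M]
      [HopfRep.Comod k A M] [TameAct.IsHopfMod k A B M]
      [AddCommGroup N] [Module k N] [Module B N] [IsScalarTower k B N]
      [HopfRep.Comod k A N] [TameAct.IsHopfMod k A B N] (f : M →ₗ[B] N),
      Hoch.IsComodHom A (f.restrictScalars k) → Function.Surjective f →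
      ∀ n ∈ HopfRep.fixedPts k A N, ∃ m ∈ HopfRep.fixedPts k A M, f m = n) :
    ∃ α : A →ₗ[k] B, Hoch.IsComodHom A α ∧ α 1 = 1 := by
  letI d := dualComod (k := k) (A := A)
  letI cM : Comod k A (B ⊗[k] Module.Dual k A) := ComodTens.Comod.tensor inferInstance d
  have hcoact : ∀ (b : B) (φ : Module.Dual k A), Comod.coact (k := k) (A := A) (b ⊗ₜ[k] φ) =
      TensorProduct.map LinearMap.id (LinearMap.mul' k A) (AlgebraTensorModule.tensorTensorTensorComm k k k k B A
        (Module.Dual k A) A (Comod.coact (k := k) (A := A) b ⊗ₜ[k] d.coact φ)) := fun b φ => rfl
  haveI : TameAct.IsHopfMod k A B (B ⊗[k] Module.Dual k A) := by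
    refine ⟨fun b m => ?_⟩
    induction m using TensorProduct.induction_on with
    | zero => simp
    | tmul x φ =>
      rw [TensorProduct.smul_tmul', smul_eq_mul, hcoact, hcoact, GLin.IsCoactAlg.coact_mul]
      generalize Comod.coact (k := k) (A := A) b = p
      generalize Comod.coact (k := k) (A := A) x = q
      generalize d.coact φ = r
      induction p using TensorProduct.induction_on with
      | zero => simp
      | tmul p p' =>
        induction q using TensorProduct.induction_on with
        | zero => simp
        | tmul q q' =>
          induction r using TensorProduct.induction_on with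
          | zero => simp
          | tmul r r' => simp [TensorProduct.smul_tmul', mul_assoc]
          | add u v hu hv => simp only [TensorProduct.tmul_add, map_add, hu, hv]
        | add u v hu hv => simp only [mul_add, TensorProduct.add_tmul, map_add, hu, hv]
      | add u v hu hv => simp only [add_mul, map_add, LinearMap.add_apply, TensorProduct.add_tmul, hu, hv]
    | add u v hu hv => simp only [smul_add, map_add, hu, hv]
  let f : B ⊗[k] Module.Dual k A →ₗ[B] B := (TensorProduct.AlgebraTensorModule.rid k B B).toLinearMap ∘ₗ
    TensorProduct.AlgebraTensorModule.map LinearMap.id (LinearMap.applyₗ (1 : A))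
  have hf : ∀ (b : B) (φ : Module.Dual k A), f (b ⊗ₜ φ) = φ 1 • b := fun b φ => by simp [f]
  have hfcom : Hoch.IsComodHom A (f.restrictScalars k) := by
    refine LinearMap.ext fun m => ?_
    induction m using TensorProduct.induction_on with
    | zero => simp
    | tmul b φ =>
      obtain ⟨z, hz, hz'⟩ := dualComod_coact φ
      show Comod.coact (k := k) (A := A) (f (b ⊗ₜ φ)) = (f.restrictScalars k).rTensor A (Comod.coact (k := k) (A := A) (b ⊗ₜ φ))
      rw [hf, map_smul, hcoact, show d.coact φ = _ from hz]
      have key : ∀ (y : B ⊗[k] A) (z : A ⊗[k] Module.Dual k A), (f.restrictScalars k).rTensor A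
          (TensorProduct.map LinearMap.id (LinearMap.mul' k A) (AlgebraTensorModule.tensorTensorTensorComm k k k k B A
            (Module.Dual k A) A (y ⊗ₜ[k] TensorProduct.comm k A _ ((HopfAlgebra.antipode k).rTensor _ z)))) =
          (LinearMap.mulRight k (HopfAlgebra.antipode k (readL (k := k) A z 1))).lTensor B y := by
        intro y z
        induction y using TensorProduct.induction_on with
        | zero => simp
        | tmul p p' =>
          induction z using TensorProduct.induction_on with
          | zero => simp
          | tmul c ψ => simp [hf, TensorProduct.smul_tmul', mul_smul_comm]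
          | add u v hu hv =>
            simp only [map_add, TensorProduct.tmul_add, LinearMap.add_apply, LinearMap.lTensor_tmul, LinearMap.mulRight_apply,
              mul_add, hu, hv]
        | add u v hu hv => simp only [map_add, TensorProduct.add_tmul, hu, hv]
      rw [key, hz', Bialgebra.comul_one, Algebra.TensorProduct.one_def, LinearMap.rTensor_tmul, TensorProduct.lid_tmul,
        map_smul, HopfAlgebra.antipode_one]
      generalize Comod.coact (k := k) (A := A) b = y
      induction y using TensorProduct.induction_on with
      | zero => simp
      | tmul p p' => simp [TensorProduct.tmul_smul]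
      | add u v hu hv => simp only [map_add, smul_add, hu, hv]
    | add u v hu hv => simp only [map_add, hu, hv]
  have hsurj : Function.Surjective f := fun b => ⟨b ⊗ₜ Coalgebra.counit, by rw [hf, Bialgebra.counit_one, one_smul]⟩
  haveI : TameAct.IsHopfMod k A B B := by
    refine ⟨fun b m => ?_⟩
    rw [smul_eq_mul, GLin.IsCoactAlg.coact_mul]
    generalize Comod.coact (k := k) (A := A) b = x
    generalize Comod.coact (k := k) (A := A) m = y
    induction x using TensorProduct.induction_on with
    | zero => simp
    | tmul p q =>
      induction y using TensorProduct.induction_on with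
      | zero => simp
      | tmul r s => simp
      | add u v hu hv => simp only [map_add, mul_add, hu, hv]
    | add u v hu hv => simp only [map_add, LinearMap.add_apply, add_mul, hu, hv]
  obtain ⟨m, hm, hm1⟩ := hexact (B ⊗[k] Module.Dual k A) B f hfcom hsurj 1 (GLin.IsCoactAlg.coact_one (k := k))
  refine ⟨readL (k := k) B m, LinearMap.ext fun a => ?_, ?_⟩
  · have key : ∀ m : B ⊗[k] Module.Dual k A, pair (Comod.coact (k := k) (A := A) m ⊗ₜ[k] CoalgebraStruct.comul (R := k) a) =
        Comod.coact (k := k) (A := A) (readL (k := k) B m a) := by
      intro m
      induction m using TensorProduct.induction_on with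
      | zero => simp
      | tmul b φ =>
        obtain ⟨z, hz, hz'⟩ := dualComod_coact φ
        have key2 : ∀ (y : B ⊗[k] A) (z : A ⊗[k] Module.Dual k A) (t : A ⊗[k] A),
            pair ((TensorProduct.map LinearMap.id (LinearMap.mul' k A) (AlgebraTensorModule.tensorTensorTensorComm k k k k B A
              (Module.Dual k A) A (y ⊗ₜ[k] TensorProduct.comm k A _ ((HopfAlgebra.antipode k).rTensor _ z)))) ⊗ₜ[k] t) =
            (LinearMap.mulRight k (LinearMap.mul' k A
              (TensorProduct.map (HopfAlgebra.antipode k ∘ₗ readL (k := k) A z) LinearMap.id t))).lTensor B y := by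
          intro y z t
          induction y using TensorProduct.induction_on with
          | zero => simp
          | tmul p p' =>
            induction t using TensorProduct.induction_on with
            | zero => simp
            | tmul u u' =>
              induction z using TensorProduct.induction_on with
              | zero => simp
              | tmul c ψ => simp [pair, TensorProduct.smul_tmul', mul_assoc]
              | add z₁ z₂ h₁ h₂ =>
                simp only [map_add, TensorProduct.tmul_add, TensorProduct.add_tmul, h₁, h₂]
                simp [mul_add, add_mul, mul_assoc, TensorProduct.tmul_add]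
            | add u v hu hv =>
              simp only [map_add, TensorProduct.tmul_add, hu, hv]
              simp [mul_add, TensorProduct.tmul_add]
          | add u v hu hv => simp only [map_add, TensorProduct.add_tmul, hu, hv]
        rw [hcoact, show d.coact φ = _ from hz, key2, mul_antipode_apply φ z hz', readL_tmul, map_smul]
        generalize Comod.coact (k := k) (A := A) b = y
        induction y using TensorProduct.induction_on with
        | zero => simp
        | tmul p p' => simp [TensorProduct.tmul_smul]
        | add u v hu hv => simp only [map_add, smul_add, hu, hv]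
      | add u v hu hv => simp only [map_add, TensorProduct.add_tmul, LinearMap.add_apply, hu, hv]
    show Comod.coact (k := k) (A := A) (readL (k := k) B m a) = (readL (k := k) B m).rTensor A (CoalgebraStruct.comul (R := k) a)
    rw [← key, show Comod.coact (k := k) (A := A) m = m ⊗ₜ[k] (1 : A) from hm]
    generalize CoalgebraStruct.comul (R := k) a = t
    induction t using TensorProduct.induction_on with
    | zero => simp
    | tmul u u' => simp [pair]
    | add u v hu hv => simp only [TensorProduct.tmul_add, map_add, hu, hv]
  · have e : ∀ m : B ⊗[k] Module.Dual k A, readL (k := k) B m 1 = f m := fun m => by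
      induction m using TensorProduct.induction_on with
      | zero => simp
      | tmul b φ => rw [readL_tmul, hf]
      | add u v hu hv => simp only [map_add, LinearMap.add_apply, hu, hv]
    rw [e, hm1]

end Groth.Agent.S12928
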