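import Groth.Statements.S12929
import Groth.Agent.H20Comod.Cochain

set_option autoImplicit false
universe u v w w'
open HopfRep

namespace Groth.Agent.S12929

/-- Let `k` be a commutative ring, `A` a commutative Hopf algebra over `k`, `M` a right `A`-comodule and
`N` a `k`-module; give `N ⊗ A` the coaction `id ⊗ Δ`. Then for every `k`-linear map `h : M → N` the
composite `(h ⊗ id_A) ∘ ρ_M : M → N ⊗ A` is a comodule map, and every comodule map `f : M → N ⊗ A`
is of this form for exactly one `h` (which is `(id_N ⊗ ε) ∘ f`): comodule maps `M → N ⊗ A`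
correspond bijectively to linear maps `M → N`. -/
theorem result
    (k : Type u) [CommRing k] (A : Type v) [CommRing A] [HopfAlgebra k A]
    (M : Type w) [AddCommGroup M] [Module k M] [HopfRep.Comod k A M]
    (N : Type w') [AddCommGroup N] [Module k N] :
    (∀ h : M →ₗ[k] N, Hoch.IsComodHom A
        ((Hoch.Ind.equiv k A N).toLinearMap ∘ₗ h.rTensor A ∘ₗ HopfRep.Comod.coact (k := k) (A := A))) ∧
      ∀ f : M →ₗ[k] Hoch.Ind k A N, Hoch.IsComodHom A f →
        ∃! h : M →ₗ[k] N,
          f = (Hoch.Ind.equiv k A N).toLinearMap ∘ₗ h.rTensor A ∘ₗ HopfRep.Comod.coact (k := k) (A := A) := by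
  refine ⟨fun h => ?_, fun f hf => ?_⟩
  · apply LinearMap.ext
    intro m
    show Hoch.Ind.coactAux k A N (h.rTensor A (HopfRep.Comod.coact (k := k) (A := A) m)) =
      (h.rTensor A ∘ₗ HopfRep.Comod.coact (k := k) (A := A)).rTensor A (HopfRep.Comod.coact (k := k) (A := A) m)
    have hco := LinearMap.congr_fun (HopfRep.Comod.coassoc (k := k) (A := A) (V := M)) m
    simp only [LinearMap.coe_comp, Function.comp_apply, LinearEquiv.coe_coe] at hco
    rw [LinearMap.rTensor_comp_apply, (TensorProduct.assoc k M A A).eq_symm_apply.2 hco]
    generalize HopfRep.Comod.coact (k := k) (A := A) m = z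
    induction z using TensorProduct.induction_on with
    | zero => simp
    | tmul x a =>
      rw [LinearMap.rTensor_tmul, Hoch.Ind.coactAux_tmul, LinearMap.lTensor_tmul]
      generalize CoalgebraStruct.comul (R := k) a = t
      induction t using TensorProduct.induction_on with
      | zero => simp
      | tmul p q => simp
      | add u v hu hv => simp only [TensorProduct.tmul_add, map_add, hu, hv]
    | add u v hu hv => simp only [map_add, hu, hv]
  · refine ⟨Hoch.Ind.counit k A N ∘ₗ f, ?_, ?_⟩
    · apply LinearMap.ext
      intro m
      obtain ⟨z, hz⟩ := (Hoch.Ind.equiv k A N).surjective (f m)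
      show f m = (Hoch.Ind.equiv k A N).toLinearMap ((Hoch.Ind.counit k A N ∘ₗ f).rTensor A (HopfRep.Comod.coact (k := k) (A := A) m))
      rw [LinearMap.rTensor_comp_apply,
        show f.rTensor A (HopfRep.Comod.coact (k := k) (A := A) m) = HopfRep.Comod.coact (k := k) (A := A) (f m) from
          (LinearMap.congr_fun hf m).symm, ← hz]
      exact (congrArg (Hoch.Ind.equiv k A N).toLinearMap (H20Comod.rTensor_counit_coactAux z)).symm
    · intro h hh
      apply LinearMap.ext
      intro m
      subst hh
      have h1 := LinearMap.congr_fun (HopfRep.Comod.counit_comp (k := k) (A := A) (V := M)) m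
      simp only [LinearMap.coe_comp, Function.comp_apply, LinearMap.flip_apply, TensorProduct.mk_apply] at h1
      have h2 := congrArg (fun t => h (TensorProduct.rid k M t)) h1
      simp only [TensorProduct.rid_tmul, one_smul] at h2
      rw [← h2]
      show h _ = Hoch.Ind.counit k A N (Hoch.Ind.equiv k A N (h.rTensor A (HopfRep.Comod.coact (k := k) (A := A) m)))
      generalize HopfRep.Comod.coact (k := k) (A := A) m = z
      induction z using TensorProduct.induction_on with
      | zero => simp
      | tmul x a => simp
      | add u v hu hv => simp only [map_add, hu, hv]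

end Groth.Agent.S12929
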