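-- statement FlatMor.GrothFrozen.S1293 (Groth/Statements/S1293.lean; the theorem FlatMor.content_and_univInj_of_hasPureSpreadout);
import Groth.Statements.S1293
import Groth.Agent.H7Flat.PureSpreadout

set_option autoImplicit false
universe u
open FlatMor

namespace Groth.Agent.S1293
set_option backward.isDefEq.respectTransparency false

open TensorProduct in
/-- Let B be a finitely presented A-algebra, T ⊆ B a multiplicative subset and N a finitely presented
T⁻¹B-module which admits a pure spreadout (FlatCA.HasPureSpreadout). Then (1) every x ∈ N has a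
content ideal, i.e. a smallest ideal I of A with x ∈ IN; and (2) every A-linear map u from N to a
flat A-module M such that u ⊗ A/𝔪 is injective for every maximal ideal 𝔪 of A is universally
injective over A. -/
theorem result {A B : Type u} [CommRing A] [CommRing B] [Algebra A B] [Algebra.FinitePresentation A B]
    (T : Submonoid B) (N : Type u) [AddCommGroup N] [Module (Localization T) N] [Module A N] [IsScalarTower A (Localization T) N]
    [Module.FinitePresentation (Localization T) N] (h : FlatCA.HasPureSpreadout A B T N) :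
    (∀ x : N, ∃ I : Ideal A, x ∈ I • (⊤ : Submodule A N) ∧ ∀ J : Ideal A, x ∈ J • (⊤ : Submodule A N) → I ≤ J) ∧
    ∀ (M : Type u) [AddCommGroup M] [Module A M] [Module.Flat A M] (u : N →ₗ[A] M),
      (∀ (m : Ideal A) [m.IsMaximal], Function.Injective (u.lTensor (A ⧸ m))) → FlatCA.UnivInj A u := by
  classical
  obtain ⟨C, _, _, _, _, _, _, _, _, _, _, N', _, _, _, _, g, -, -, hg, hproj, hui⟩ := h
  let L := Localization T
  let gA : N' →ₗ[A] N := g.restrictScalars A
  let μ : T → (N →ₗ[A] N) := fun t => (LinearMap.lsmul L N (algebraMap B L t)).restrictScalars A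
  have hμ : ∀ t : T, ∃ ν : N →ₗ[A] N, ν ∘ₗ μ t = LinearMap.id ∧ μ t ∘ₗ ν = LinearMap.id := by
    intro t
    obtain ⟨v, hv⟩ := (IsLocalization.map_units L t).exists_left_inv
    exact ⟨(LinearMap.lsmul L N v).restrictScalars A, LinearMap.ext fun x => show v • algebraMap B L t • x = x by rw [smul_smul, hv, one_smul],
      LinearMap.ext fun x => show algebraMap B L t • v • x = x by rw [smul_smul, mul_comm, hv, one_smul]⟩
  choose ν hν hν' using hμ
  have hBC : ∀ (b : B) (y : N'), algebraMap B L b • g y = g (algebraMap B C b • y) := fun b y => by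
    rw [map_smul, IsScalarTower.algebraMap_apply B C L b, algebraMap_smul]
  have hden : ∀ x : N, ∃ (t : T) (y : N'), μ t x = gA y := by
    intro x
    induction x using hg.inductionOn with
    | zero => exact ⟨1, 0, by simp⟩
    | tmul m => exact ⟨1, m, by simp [μ, gA]⟩
    | smul l m hm =>
      obtain ⟨t, y, hy⟩ := hm
      obtain ⟨⟨b, s⟩, hbs⟩ := IsLocalization.surj T l
      refine ⟨s * t, algebraMap B C b • y, ?_⟩
      change algebraMap B L ((s * t : T) : B) • l • m = g _
      rw [← hBC, show g y = algebraMap B L t • m from hy.symm, smul_smul, smul_smul,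
        Submonoid.coe_mul, map_mul, ← hbs]
      congr 1
      ring
    | add a b ha hb =>
      obtain ⟨t, y, hy⟩ := ha
      obtain ⟨s, w, hw⟩ := hb
      refine ⟨t * s, algebraMap B C s • y + algebraMap B C t • w, ?_⟩
      change algebraMap B L ((t * s : T) : B) • (a + b) = g _
      rw [map_add, ← hBC, ← hBC, show g y = algebraMap B L t • a from hy.symm,
        show g w = algebraMap B L s • b from hw.symm, smul_smul, smul_smul, smul_add,
        Submonoid.coe_mul, map_mul, mul_comm (algebraMap B L (s : B))]
  have hcancel : ∀ (t : T) (x : N), ν t (μ t x) = x := fun t => LinearMap.congr_fun (hν t)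
  refine ⟨fun x => ?_, fun M _ _ _ u hu => ?_⟩
  · obtain ⟨t, y, hy⟩ := hden x
    obtain ⟨i, hi⟩ := Module.projective_def'.mp hproj
    let I : Ideal A := Ideal.span (Set.range fun l => i y l)
    refine ⟨I, ?_, fun J hJ => Ideal.span_le.mpr ?_⟩
    · have hyI : y ∈ I • (⊤ : Submodule A N') := by
        rw [← show Finsupp.linearCombination A (id : N' → N') (i y) = y from LinearMap.congr_fun hi y,
          Finsupp.linearCombination_apply, Finsupp.sum]
        exact Submodule.sum_mem _ fun l _ =>
          Submodule.smul_mem_smul (Ideal.subset_span ⟨l, rfl⟩) trivial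
      rw [← hcancel t x, hy]
      exact Submodule.smul_top_le_comap_smul_top I (ν t) (Submodule.smul_top_le_comap_smul_top I gA hyI)
    · have hgy : gA y ∈ J • (⊤ : Submodule A N) := hy ▸ Submodule.smul_top_le_comap_smul_top J (μ t) hJ
      have hyJ : y ∈ J • (⊤ : Submodule A N') := by
        rw [← Submodule.Quotient.mk_eq_zero]
        apply (TensorProduct.quotTensorEquivQuotSMul N' J).symm.injective
        apply hui (A ⧸ J)
        rw [map_zero, map_zero, TensorProduct.quotTensorEquivQuotSMul_symm_mk,
          LinearMap.lTensor_tmul,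
          ← TensorProduct.quotTensorEquivQuotSMul_symm_mk,
          (Submodule.Quotient.mk_eq_zero _).mpr hgy, map_zero]
      rintro _ ⟨l, rfl⟩
      have := Submodule.smul_top_le_comap_smul_top J ((Finsupp.lapply l).comp i) hyJ
      simpa [Submodule.mem_comap, smul_eq_mul] using this
  · intro Q _ _
    rw [← LinearMap.ker_eq_bot, Submodule.eq_bot_iff]
    intro z hz
    have hdenQ : ∃ (t : T) (z' : Q ⊗[A] N'), (μ t).lTensor Q z = gA.lTensor Q z' := by
      clear hz
      induction z using TensorProduct.induction_on with
      | zero => exact ⟨1, 0, by simp⟩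
      | tmul q x =>
        obtain ⟨t, y, hy⟩ := hden x
        exact ⟨t, q ⊗ₜ y, by simp [hy]⟩
      | add a b ha hb =>
        obtain ⟨t, y, hy⟩ := ha
        obtain ⟨s, w, hw⟩ := hb
        let m : B → (N' →ₗ[A] N') := fun c => (LinearMap.lsmul C N' (algebraMap B C c)).restrictScalars A
        have hm : ∀ c : T, gA ∘ₗ m c = μ c ∘ₗ gA := fun c => LinearMap.ext fun y => (hBC c y).symm
        have hmul : ∀ c d : T, μ (c * d) = μ c ∘ₗ μ d := fun c d => LinearMap.ext fun x => by
          change algebraMap B L ((c * d : T) : B) • x = algebraMap B L c • algebraMap B L d • x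
          rw [Submonoid.coe_mul, map_mul, mul_smul]
        refine ⟨t * s, (m s).lTensor Q y + (m t).lTensor Q w, ?_⟩
        rw [map_add (gA.lTensor Q), ← LinearMap.lTensor_comp_apply, ← LinearMap.lTensor_comp_apply, hm,
          hm, LinearMap.lTensor_comp_apply, LinearMap.lTensor_comp_apply, ← hy, ← hw, map_add,
          ← LinearMap.lTensor_comp_apply, ← LinearMap.lTensor_comp_apply, ← hmul, ← hmul, mul_comm s t]
    obtain ⟨t, z', hz'⟩ := hdenQ
    have hzν : z = (ν t).lTensor Q (gA.lTensor Q z') := by
      rw [← hz', ← LinearMap.lTensor_comp_apply, hν, LinearMap.lTensor_id, LinearMap.id_apply]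
    have hν_inj : ∀ (R : Type u) [AddCommGroup R] [Module A R], Function.Injective ((ν t).lTensor R) :=
      fun R _ _ => Function.LeftInverse.injective (g := (μ t).lTensor R) fun x => by
        rw [← LinearMap.lTensor_comp_apply, hν', LinearMap.lTensor_id, LinearMap.id_apply]
    have hU : FlatCA.UnivInj A (u ∘ₗ ν t ∘ₗ gA) := by
      refine Groth.Agent.H7Flat.PureSpreadout.univInj_projective _ fun m _ => ?_
      rw [LinearMap.lTensor_comp, LinearMap.lTensor_comp, LinearMap.coe_comp, LinearMap.coe_comp]
      exact (hu m).comp ((hν_inj _).comp (hui _))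
    have hz0 : z' = 0 := hU Q (by
      rw [map_zero, LinearMap.lTensor_comp_apply, LinearMap.lTensor_comp_apply, ← hzν]
      exact hz)
    rw [hzν, hz0, map_zero, map_zero]

end Groth.Agent.S1293
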