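import Groth.Statements.S12931
import Mathlib.Algebra.BigOperators.Pi

set_option autoImplicit false
universe u v w
open HopfRep

namespace Groth.Agent.S12931

/-- Let `R` be a commutative ring, `Γ` a finite set and `T` a commutative `R`-algebra which is
connected: nonzero, with no idempotents other than `0` and `1`. Then `γ ↦ (evaluation at γ : (Γ → R)
→ R → T)` is a bijection from `Γ` onto the `R`-algebra maps `(Γ → R) → T`: every such map sends
exactly one of the indicator functions to `1` and the others to `0`. (Only the bijection of sets is
stated; when `Γ` is a group, the compatibility with the group structures on both sides is not.) -/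
theorem result
    (R : Type u) [CommRing R] (Γ : Type v) [Finite Γ]
    (T : Type w) [CommRing T] [Algebra R T] [Nontrivial T]
    (hT : ∀ e : T, IsIdempotentElem e → e = 0 ∨ e = 1) :
    Function.Bijective (fun γ : Γ => (Algebra.ofId R T).comp (Pi.evalAlgHom R (fun _ : Γ => R) γ)) := by
  classical
  haveI := Fintype.ofFinite Γ
  constructor
  · intro γ δ h
    by_contra hne
    have := DFunLike.congr_fun h (Pi.single γ 1)
    simp [Pi.single_eq_of_ne (Ne.symm hne)] at this
  · intro f
    have hsum : ∑ γ : Γ, f (Pi.single γ 1) = 1 := by
      rw [← map_sum, Finset.univ_sum_single (fun _ : Γ => (1 : R))]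
      exact map_one f
    have hidem : ∀ γ, IsIdempotentElem (f (Pi.single γ (1 : R))) := fun γ => by
      rw [IsIdempotentElem, ← map_mul, ← Pi.single_mul, one_mul]
    obtain ⟨γ, hγ⟩ : ∃ γ, f (Pi.single γ 1) = 1 := by
      by_contra hcon
      push Not at hcon
      have : ∑ γ : Γ, f (Pi.single γ 1) = 0 :=
        Finset.sum_eq_zero fun γ _ => (hT _ (hidem γ)).resolve_right (hcon γ)
      exact zero_ne_one (this.symm.trans hsum)
    refine ⟨γ, AlgHom.ext fun φ => ?_⟩
    have h1 : φ * Pi.single γ 1 = φ γ • Pi.single γ (1 : R) := by
      ext δ
      by_cases h : δ = γ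
      · subst h; simp
      · simp [h]
    have : f φ = algebraMap R T (φ γ) := by
      rw [← mul_one (f φ), ← hγ, ← map_mul, h1, map_smul, hγ, Algebra.algebraMap_eq_smul_one]
    simp [this]

end Groth.Agent.S12931
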