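import Groth.Statements.S12932
import Mathlib.RingTheory.Invariant.Basic
import Mathlib.RingTheory.Ideal.GoingUp
import Mathlib.LinearAlgebra.LinearIndependent.Basic
import Mathlib.RingTheory.Localization.FractionRing

set_option autoImplicit false
universe u v
open scoped BigOperators
open InvTh

namespace Groth.Agent.S12932

/-- Let `B` be a commutative ring with an action of a finite group `Γ` by ring automorphisms, and call a
prime ideal `P` of `B` tame when the order of its inertia group `{γ | γ • x - x ∈ P for all x}` is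
not divisible by the characteristic of `B/P` (its ramification group is trivial). Then every prime
of `B` is tame if and only if the trace `b ↦ Σ_γ γ • b`, which takes values in the invariant ring
`B^Γ` and is `B^Γ`-linear, is onto `B^Γ` — equivalently, some element of `B` has trace `1`. -/
theorem result
    (B : Type u) [CommRing B] (Γ : Type v) [Group Γ] [Fintype Γ] [MulSemiringAction Γ B] :
    (∃ b : B, ∑ γ : Γ, γ • b = 1) ↔
      ∀ P : Ideal B, P.IsPrime → ((Nat.card (P.inertia Γ) : ℕ) : B ⧸ P) ≠ 0 := by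
  classical
  let φ : ∀ P : Ideal B, Γ → (B →* B ⧸ P) := fun P γ =>
    ((Ideal.Quotient.mk P).comp (MulSemiringAction.toRingHom Γ B γ)).toMonoidHom
  have hfib : ∀ (P : Ideal B) (δ : Γ),
      (Finset.univ.filter fun γ => φ P γ = φ P δ).card = Nat.card (P.inertia Γ) := by
    intro P δ
    rw [← Fintype.card_subtype, ← Nat.card_eq_fintype_card]
    refine Nat.card_congr ⟨fun γ => ⟨γ.1 * δ⁻¹, fun x => ?_⟩, fun g => ⟨g.1 * δ, ?_⟩, fun γ => ?_, fun g => ?_⟩
    · have h := congrArg (fun ψ : B →* B ⧸ P => ψ (δ⁻¹ • x)) γ.2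
      simp only [φ, RingHom.toMonoidHom_eq_coe, MonoidHom.coe_coe, RingHom.coe_comp, Function.comp_apply,
        MulSemiringAction.toRingHom_apply, smul_inv_smul, Ideal.Quotient.eq] at h
      rw [mul_smul]
      exact h
    · refine MonoidHom.ext fun x => ?_
      simp only [φ, RingHom.toMonoidHom_eq_coe, MonoidHom.coe_coe, RingHom.coe_comp, Function.comp_apply,
        MulSemiringAction.toRingHom_apply, Ideal.Quotient.eq, mul_smul]
      exact g.2 (δ • x)
    · exact Subtype.ext (inv_mul_cancel_right γ.1 δ)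
    · exact Subtype.ext (mul_inv_cancel_right g.1 δ)
  have key : ∀ (P : Ideal B) (b : B), Ideal.Quotient.mk P (∑ γ : Γ, γ • b) =
      ((Nat.card (P.inertia Γ) : ℕ) : B ⧸ P) * ∑ ψ ∈ Finset.univ.image (φ P), ψ b := by
    intro P b
    rw [map_sum, Finset.mul_sum, ← Finset.sum_fiberwise_of_maps_to (g := φ P) (fun γ _ => Finset.mem_image_of_mem _ (Finset.mem_univ γ))]
    refine Finset.sum_congr rfl fun ψ hψ => ?_
    obtain ⟨δ, -, rfl⟩ := Finset.mem_image.1 hψ
    rw [Finset.sum_congr rfl fun γ hγ => show Ideal.Quotient.mk P (γ • b) = φ P δ b by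
      rw [← (Finset.mem_filter.1 hγ).2]; rfl, Finset.sum_const, hfib, nsmul_eq_mul]
  constructor
  · rintro ⟨b, hb⟩ P hP hzero
    haveI := hP
    have h := key P b
    rw [hb, hzero, zero_mul, map_one] at h
    exact one_ne_zero h
  · intro h
    let C := FixedPoints.subring B Γ
    let T : Ideal C :=
      { carrier := {c | ∃ b : B, ∑ γ : Γ, γ • b = (c : B)}
        add_mem' := by
          rintro c c' ⟨b, hb⟩ ⟨b', hb'⟩
          exact ⟨b + b', by simp [smul_add, Finset.sum_add_distrib, hb, hb']⟩
        zero_mem' := ⟨0, by simp⟩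
        smul_mem' := by
          rintro c c' ⟨b, hb⟩
          refine ⟨(c : B) * b, ?_⟩
          simp only [smul_mul', smul_eq_mul, Subring.coe_mul, ← hb, Finset.mul_sum]
          exact Finset.sum_congr rfl fun γ _ => by rw [c.2 γ] }
    suffices hT : T = ⊤ by
      obtain ⟨b, hb⟩ : (1 : C) ∈ T := hT ▸ Submodule.mem_top
      exact ⟨b, hb⟩
    by_contra hne
    obtain ⟨m, hm, hle⟩ := Ideal.exists_le_maximal T hne
    haveI := hm
    haveI : Algebra.IsInvariant C B Γ := ⟨fun b hb => ⟨⟨b, hb⟩, rfl⟩⟩
    haveI : Algebra.IsIntegral C B := Algebra.IsInvariant.isIntegral C B Γ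
    obtain ⟨P, -, hP, hPm⟩ := Ideal.exists_ideal_over_prime_of_isIntegral (S := B) m ⊥ (by
      intro c hc
      have hc' : (c : B) = 0 := by simpa using hc
      rw [show c = 0 from Subtype.ext hc']; exact zero_mem m)
    haveI := hP
    refine h P hP ?_
    have h0 : ∀ b : B, ((Nat.card (P.inertia Γ) : ℕ) : B ⧸ P) * ∑ ψ ∈ Finset.univ.image (φ P), ψ b = 0 := by
      intro b
      rw [← key P b, Ideal.Quotient.eq_zero_iff_mem]
      have hfix : ∀ γ : Γ, γ • (∑ δ : Γ, δ • b) = ∑ δ : Γ, δ • b := fun γ => by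
        rw [Finset.smul_sum]
        exact (Finset.sum_congr rfl fun δ _ => (mul_smul γ δ b).symm).trans
          (Equiv.sum_comp (Equiv.mulLeft γ) (fun δ => δ • b))
      have : (⟨∑ δ : Γ, δ • b, hfix⟩ : C) ∈ P.comap (algebraMap C B) := by rw [hPm]; exact hle ⟨b, rfl⟩
      exact this
    have hli := linearIndependent_iff'.1 (linearIndependent_monoidHom B (B ⧸ P)) (Finset.univ.image (φ P))
      (fun _ => ((Nat.card (P.inertia Γ) : ℕ) : B ⧸ P)) (by
        funext b
        simp only [Finset.sum_apply, Pi.smul_apply, smul_eq_mul, Pi.zero_apply, ← Finset.mul_sum]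
        exact h0 b) (φ P 1) (Finset.mem_image_of_mem _ (Finset.mem_univ _))
    exact hli

end Groth.Agent.S12932
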