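import Groth.Statements.S12933
import Mathlib.RingTheory.Flat.Basic
import Mathlib.LinearAlgebra.TensorProduct.Pi

set_option autoImplicit false
universe u v w w'
open TensorProduct
open InvTh

namespace Groth.Agent.S12933

/-- Let `R` be a commutative ring, `B` a commutative `R`-algebra with an action of a finite group `Γ` by
`R`-algebra automorphisms, and `R'` a flat commutative `R`-algebra; let `Γ` act on `R' ⊗_R B`
through the factor `B`. Then an element of `R' ⊗_R B` is fixed by every element of `Γ` if and only
if it lies in the `R'`-submodule spanned by the tensors `1 ⊗ b` with `b ∈ B^Γ`: taking invariants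
commutes with flat base change (the map `R' ⊗_R B^Γ → R' ⊗_R B` being moreover injective by
flatness). -/
theorem result
    (R : Type u) [CommRing R] (B : Type v) [CommRing B] [Algebra R B]
    (Γ : Type w) [Group Γ] [Finite Γ] [MulSemiringAction Γ B] [SMulCommClass Γ R B]
    (R' : Type w') [CommRing R'] [Algebra R R'] [Module.Flat R R']
    (x : R' ⊗[R] B) :
    (∀ γ : Γ, Algebra.TensorProduct.map (AlgHom.id R R') (MulSemiringAction.toAlgHom R B γ) x = x) ↔
      x ∈ Submodule.span R' ((fun b : B => (1 : R') ⊗ₜ[R] b) '' {b : B | ∀ γ : Γ, γ • b = b}) := by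
  classical
  haveI := Fintype.ofFinite Γ
  constructor
  · intro hx
    let δ : B →ₗ[R] (Γ → B) := LinearMap.pi fun γ => (MulSemiringAction.toAlgHom R B γ).toLinearMap - LinearMap.id
    have hex := Module.Flat.lTensor_exact R' (LinearMap.exact_subtype_ker_map δ)
    have h0 : δ.lTensor R' x = 0 := by
      apply (TensorProduct.piRight R R R' (fun _ : Γ => B)).injective
      ext γ
      rw [map_zero, Pi.zero_apply]
      have : ∀ y, TensorProduct.piRight R R R' (fun _ : Γ => B) (δ.lTensor R' y) γ =
          Algebra.TensorProduct.map (AlgHom.id R R') (MulSemiringAction.toAlgHom R B γ) y - y := by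
        intro y
        induction y using TensorProduct.induction_on with
        | zero => simp
        | tmul a b => simp [δ, TensorProduct.tmul_sub]
        | add x y hx hy => simp only [map_add, Pi.add_apply, hx, hy]; abel
      rw [this, hx γ, sub_self]
    obtain ⟨y, rfl⟩ := (hex x).1 h0
    clear hx h0
    induction y using TensorProduct.induction_on with
    | zero => simp
    | tmul a b =>
      rw [LinearMap.lTensor_tmul, Submodule.coe_subtype,
        show a ⊗ₜ[R] (b : B) = a • ((1 : R') ⊗ₜ[R] (b : B)) by rw [TensorProduct.smul_tmul', smul_eq_mul, mul_one]]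
      refine Submodule.smul_mem _ _ (Submodule.subset_span ⟨b, fun γ => ?_, rfl⟩)
      have := congrFun b.2 γ
      simpa [δ, sub_eq_zero] using this
    | add x y hx hy => rw [map_add]; exact add_mem hx hy
  · intro hx γ
    have hlin : ∀ (c : R') (y : R' ⊗[R] B),
        Algebra.TensorProduct.map (AlgHom.id R R') (MulSemiringAction.toAlgHom R B γ) (c • y) =
        c • Algebra.TensorProduct.map (AlgHom.id R R') (MulSemiringAction.toAlgHom R B γ) y := by
      intro c y
      induction y using TensorProduct.induction_on with
      | zero => simp
      | tmul a b => simp [TensorProduct.smul_tmul']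
      | add x y hx hy => simp only [smul_add, map_add, hx, hy]
    induction hx using Submodule.span_induction with
    | mem x hx =>
      obtain ⟨b, hb, rfl⟩ := hx
      simp [hb γ]
    | zero => simp
    | add x y _ _ hx hy => rw [map_add, hx, hy]
    | smul c x _ hx =>
      rw [hlin, hx]

end Groth.Agent.S12933
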