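import Groth.Statements.S12934
import Mathlib.Tactic.LinearCombination
import Mathlib.GroupTheory.Sylow
import Mathlib.RingTheory.RootsOfUnity.PrimitiveRoots
import Mathlib.RingTheory.IntegralDomain

set_option autoImplicit false
universe u v
open InvTh

namespace Groth.Agent.S12934

open IsLocalRing

section

variable {B : Type u} [CommRing B] [IsLocalRing B] {Γ : Type v} [Group Γ] [MulSemiringAction Γ B]

theorem residue_smul (hin : ∀ (γ : Γ) (b : B), γ • b - b ∈ maximalIdeal B) (γ : Γ) (b : B) :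
    residue B (γ • b) = residue B b := Ideal.Quotient.eq.2 (hin γ b)

theorem residue_eq_of_mul_eq {b u v : B} (hb : b ≠ 0) (h : b * u = b * v) : residue B u = residue B v := by
  refine Ideal.Quotient.eq.2 ((mem_maximalIdeal _).2 fun hu => hb ?_)
  exact hu.mul_left_eq_zero.1 (by rw [mul_sub, h, sub_self])

/-- The character attached to a stable principal ideal. -/
noncomputable def chi (hst : ∀ (γ : Γ) (b : B), ∃ u : B, γ • b = b * u) (b : B) (γ : Γ) : ResidueField B :=
  residue B (hst γ b).choose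

theorem chi_eq (hst : ∀ (γ : Γ) (b : B), ∃ u : B, γ • b = b * u) {b u : B} (hb : b ≠ 0) {γ : Γ} (h : γ • b = b * u) :
    chi hst b γ = residue B u :=
  residue_eq_of_mul_eq hb ((hst γ b).choose_spec.symm.trans h)

/-- The characters as homomorphisms. -/
noncomputable def chiHom (hin : ∀ (γ : Γ) (b : B), γ • b - b ∈ maximalIdeal B)
    (hst : ∀ (γ : Γ) (b : B), ∃ u : B, γ • b = b * u) (b : {b : B // b ≠ 0}) : Γ →* ResidueField B where
  toFun := chi hst b
  map_one' := (chi_eq hst b.2 (by rw [one_smul, mul_one])).trans (map_one _)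
  map_mul' γ δ := by
    obtain ⟨u, hu⟩ := hst γ b
    obtain ⟨v, hv⟩ := hst δ b
    rw [chi_eq hst b.2 hu, chi_eq hst b.2 hv, chi_eq (u := u * γ • v) hst b.2 (by rw [mul_smul, hv, smul_mul', hu, mul_assoc]),
      map_mul, residue_smul hin]

theorem mem_iff_chi (hst : ∀ (γ : Γ) (b : B), ∃ u : B, γ • b = b * u) (γ : Γ) :
    (∀ b : B, ∃ x ∈ maximalIdeal B, γ • b = b + b * x) ↔ ∀ b : {b : B // b ≠ 0}, chi hst (b : B) γ = 1 := by
  refine ⟨fun h b => ?_, fun h b => ?_⟩
  · obtain ⟨x, hx, hb⟩ := h b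
    rw [chi_eq hst b.2 (u := 1 + x) (by rw [hb, mul_add, mul_one]), map_add, map_one,
      show residue B x = 0 from Ideal.Quotient.eq_zero_iff_mem.2 hx, add_zero]
  · by_cases hb : b = 0
    · exact ⟨0, Submodule.zero_mem _, by simp [hb]⟩
    · obtain ⟨u, hu⟩ := hst γ b
      have h1 := h ⟨b, hb⟩
      rw [chi_eq hst hb hu, ← map_one (residue B)] at h1
      exact ⟨u - 1, Ideal.Quotient.eq.1 h1, by rw [hu]; ring⟩

theorem eq_one_of_pow_prime [FaithfulSMul Γ B] {γ : Γ} (hγ : ∀ b : B, ∃ x ∈ maximalIdeal B, γ • b = b + b * x)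
    (hin : ∀ (γ : Γ) (b : B), γ • b - b ∈ maximalIdeal B) {q : ℕ} (hq : γ ^ q = 1)
    (hq0 : (q : ResidueField B) ≠ 0) : γ = 1 := by
  have hu : IsUnit (q : B) := by
    by_contra h
    exact hq0 (by rw [← map_natCast (residue B)]; exact Ideal.Quotient.eq_zero_iff_mem.2 ((mem_maximalIdeal _).2 h))
  have hpow : ∀ (i : ℕ) (b : B), ∃ x ∈ maximalIdeal B, γ ^ i • b = b + b * x := by
    intro i
    induction i with
    | zero => exact fun b => ⟨0, Submodule.zero_mem _, by simp⟩
    | succ i ih =>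
      intro b
      obtain ⟨x, hx, hb⟩ := hγ b
      obtain ⟨y, hy, hb'⟩ := ih (γ • b)
      refine ⟨x + y + x * y, add_mem (add_mem hx hy) (Ideal.mul_mem_left _ _ hy), ?_⟩
      rw [pow_succ, mul_smul, hb', hb]
      ring
  refine eq_of_smul_eq_smul (α := B) fun b => ?_
  rw [one_smul]
  let N : B → B := fun b => ∑ i ∈ Finset.range q, γ ^ i • b
  have hN : ∀ b, γ • N b = N b := fun b => by
    have h1 := Finset.sum_range_succ' (fun i => γ ^ i • b) q
    rw [Finset.sum_range_succ, hq, one_smul, pow_zero, one_smul, add_left_inj] at h1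
    simp only [N, Finset.smul_sum, ← mul_smul, ← pow_succ']
    exact h1.symm
  have hNu : ∀ b, ∃ w : B, IsUnit w ∧ N b = b * w := fun b => by
    choose x hx hxb using fun i => hpow i b
    refine ⟨(q : B) + ∑ i ∈ Finset.range q, x i, ?_, ?_⟩
    · by_contra hn
      have h1 : ∑ i ∈ Finset.range q, x i ∈ maximalIdeal B := Submodule.sum_mem _ fun i _ => hx i
      have h2 := Ideal.sub_mem _ ((mem_maximalIdeal _).2 hn) h1
      rw [add_sub_cancel_right] at h2
      exact (mem_maximalIdeal _).1 h2 hu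
    · simp only [N, hxb, Finset.sum_add_distrib, Finset.sum_const, Finset.card_range, nsmul_eq_mul, mul_add, Finset.mul_sum]
      ring
  obtain ⟨c, hc⟩ := hu.exists_left_inv
  have hγc : γ • c = c := by
    have h1 : γ • c * (q : B) = 1 := by
      have := congrArg (γ • ·) hc
      simpa [smul_mul', show γ • (q : B) = q from map_natCast (MulSemiringAction.toRingHom Γ B γ) q] using this
    calc γ • c = γ • c * (c * (q : B)) := by rw [hc, mul_one]
      _ = γ • c * (q : B) * c := by ring
      _ = c := by rw [h1, one_mul]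
  have hfixN : ∀ i, γ ^ i • (N b * c) = N b * c := fun i => by
    induction i with
    | zero => simp
    | succ i ih => rw [pow_succ, mul_smul, smul_mul', hN, hγc, ih]
  have he : N (b - N b * c) = 0 := by
    simp only [N, smul_sub, Finset.sum_sub_distrib]
    rw [show ∑ i ∈ Finset.range q, γ ^ i • (N b * c) = (q : B) * (N b * c) by simp [hfixN]]
    show N b - (q : B) * (N b * c) = 0
    linear_combination -(N b) * hc
  obtain ⟨w, hw, hw'⟩ := hNu (b - N b * c)
  rw [he] at hw'
  have : b = N b * c := sub_eq_zero.1 (hw.mul_left_eq_zero.1 hw'.symm)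
  rw [this, smul_mul', hN, hγc]

end

/-- Let `B` be a local commutative ring with maximal ideal `m` and residue field `k`, and `Γ` a finite
group acting faithfully on `B` by ring automorphisms, such that every element of `Γ` acts trivially
modulo `m` (the whole group is inertia) and maps each principal ideal of `B` into itself (every
ideal is stable). Let `S ⊆ Γ` be the set of `γ` with `γ b ∈ b + b m` for all `b`. Then: if `k` has
characteristic `0`, `S = {1}`; if `k` has characteristic `p > 0`, `S` is (the underlying set of) a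
Sylow `p`-subgroup; every commutator of `Γ` lies in `S`, so `Γ/S` is abelian; and whenever the class
of `γ` in `Γ/S` has order `n` (`γ^n ∈ S`, no smaller positive power in `S`), `k` contains a
primitive `n`-th root of unity. (The published statement also bounds the number of generators of
`Γ/S` by the number of generators of the monoid of principal ideals; that clause is not included.) -/
theorem result
    (B : Type u) [CommRing B] [IsLocalRing B]
    (Γ : Type v) [Group Γ] [Finite Γ] [MulSemiringAction Γ B] [FaithfulSMul Γ B]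
    (hin : ∀ (γ : Γ) (b : B), γ • b - b ∈ IsLocalRing.maximalIdeal B)
    (hst : ∀ (γ : Γ) (b : B), ∃ u : B, γ • b = b * u)
    (S : Set Γ)
    (hS : ∀ γ : Γ, γ ∈ S ↔ ∀ b : B, ∃ x ∈ IsLocalRing.maximalIdeal B, γ • b = b + b * x) :
    (ringChar (IsLocalRing.ResidueField B) = 0 → S = {1}) ∧
      (∀ (p : ℕ) [Fact p.Prime], ringChar (IsLocalRing.ResidueField B) = p →
        ∃ Q : Sylow p Γ, (Q : Set Γ) = S) ∧
      (∀ γ δ : Γ, γ * δ * γ⁻¹ * δ⁻¹ ∈ S) ∧
      (∀ (γ : Γ) (n : ℕ), 0 < n → γ ^ n ∈ S → (∀ i : ℕ, 0 < i → i < n → γ ^ i ∉ S) →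
        ∃ ζ : IsLocalRing.ResidueField B, IsPrimitiveRoot ζ n) := by
  classical
  let K : Subgroup Γ := ⨅ b, (chiHom hin hst b).ker
  have hSK : ∀ γ, γ ∈ S ↔ γ ∈ K := fun γ => by
    rw [hS, mem_iff_chi hst, Subgroup.mem_iInf]
    rfl
  have hSK' : S = (K : Set Γ) := Set.ext hSK
  haveI hKn : K.Normal := ⟨fun γ hγ δ => Subgroup.mem_iInf.2 fun b => (chiHom hin hst b).normal_ker.conj_mem γ (Subgroup.mem_iInf.1 hγ b) δ⟩
  have hprim : ∀ (γ : Γ) (n : ℕ), 0 < n → γ ^ n ∈ S → (∀ i : ℕ, 0 < i → i < n → γ ^ i ∉ S) →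
      ∃ ζ : ResidueField B, IsPrimitiveRoot ζ n := by
    intro γ n hn hγn hmin
    let f : {b : B // b ≠ 0} → (ResidueField B)ˣ := fun b => (chiHom hin hst b).toHomUnits γ
    let H : Subgroup (ResidueField B)ˣ := Subgroup.closure (Set.range f)
    have hfn : ∀ b, f b ^ n = 1 := fun b => by
      refine Units.ext ?_
      rw [Units.val_pow_eq_pow_val, Units.val_one]
      exact ((chiHom hin hst b).map_pow γ n).symm.trans (Subgroup.mem_iInf.1 ((hSK _).1 hγn) b)
    haveI : NeZero n := ⟨hn.ne'⟩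
    have hle : H ≤ rootsOfUnity n (ResidueField B) := (Subgroup.closure_le _).2 (by rintro _ ⟨b, rfl⟩; exact hfn b)
    haveI : Finite H := Finite.of_injective _ (Subgroup.inclusion_injective hle)
    haveI : IsCyclic H := subgroup_units_cyclic H
    obtain ⟨g, hg⟩ := IsCyclic.exists_generator (α := H)
    refine ⟨((g : (ResidueField B)ˣ) : ResidueField B), ?_⟩
    rw [IsPrimitiveRoot.iff hn]
    refine ⟨?_, fun l hl hln h1 => hmin l hl hln ((hSK _).2 (Subgroup.mem_iInf.2 fun b => ?_))⟩
    · rw [← Units.val_pow_eq_pow_val]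
      exact congrArg Units.val (hle g.2)
    · have h2 : (g : (ResidueField B)ˣ) ^ l = 1 := Units.ext (by simpa using h1)
      obtain ⟨z, hz⟩ := hg ⟨f b, Subgroup.subset_closure ⟨b, rfl⟩⟩
      have h3 : f b ^ l = 1 := by
        rw [show f b = ((g ^ z : H) : (ResidueField B)ˣ) from (congrArg Subtype.val hz).symm, SubgroupClass.coe_zpow,
          ← zpow_natCast, zpow_comm, zpow_natCast, h2, one_zpow]
      show chiHom hin hst b (γ ^ l) = 1
      rw [map_pow]
      exact congrArg Units.val h3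
  have hord : ∀ γ ∈ S, ∀ q : ℕ, q.Prime → orderOf γ = q → (q : ResidueField B) = 0 := fun γ hγ q hq hord => by
    by_contra h0
    have h1 := eq_one_of_pow_prime ((hS γ).1 hγ) hin (hord ▸ pow_orderOf_eq_one γ) h0
    rw [h1, orderOf_one] at hord
    exact hq.ne_one hord.symm
  refine ⟨fun h0 => ?_, fun p _ hp => ?_, fun γ δ => (hSK _).2 (Subgroup.mem_iInf.2 fun b => ?_), hprim⟩
  · haveI : CharZero (ResidueField B) := by
      haveI := ringChar.of_eq h0
      exact CharP.charP_to_charZero _
    rw [hSK']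
    suffices h : K = ⊥ by rw [h]; rfl
    refine Subgroup.card_eq_one.1 ?_
    by_contra hne
    haveI : Fact (Nat.card K).minFac.Prime := ⟨Nat.minFac_prime hne⟩
    obtain ⟨x, hx⟩ := exists_prime_orderOf_dvd_card' (G := K) (Nat.card K).minFac (Nat.minFac_dvd _)
    have := hord x ((hSK _).2 x.2) (Nat.card K).minFac Fact.out (by rw [Subgroup.orderOf_coe]; exact hx)
    exact Nat.cast_ne_zero.2 (Nat.minFac_pos _).ne' this
  · haveI : CharP (ResidueField B) p := ringChar.of_eq hp
    have hK : IsPGroup p K := by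
      rw [IsPGroup.iff_card]
      refine ⟨_, Nat.eq_prime_pow_of_unique_prime_dvd (p := p) Nat.card_pos.ne' fun {q} hq hqd => ?_⟩
      haveI := Fact.mk hq
      obtain ⟨x, hx⟩ := exists_prime_orderOf_dvd_card' (G := K) q hqd
      have := hord x ((hSK _).2 x.2) q hq (by rw [Subgroup.orderOf_coe]; exact hx)
      exact ((Nat.prime_dvd_prime_iff_eq (Fact.out) hq).1 ((CharP.cast_eq_zero_iff (ResidueField B) p q).1 this)).symm
    have hidx : ¬ p ∣ K.index := by
      intro hdvd
      obtain ⟨x, hx⟩ := exists_prime_orderOf_dvd_card' (G := Γ ⧸ K) p hdvd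
      obtain ⟨γ, rfl⟩ := QuotientGroup.mk_surjective x
      obtain ⟨ζ, hζ⟩ := hprim γ p (Nat.Prime.pos Fact.out) ((hSK _).2 (by
        rw [← QuotientGroup.eq_one_iff, QuotientGroup.mk_pow, ← hx, pow_orderOf_eq_one])) fun i hi hip hmem => by
          refine pow_ne_one_of_lt_orderOf hi.ne' (hx.symm ▸ hip) ?_
          rw [← QuotientGroup.mk_pow, QuotientGroup.eq_one_iff]
          exact (hSK _).1 hmem
      have h1 : ζ = 1 := frobenius_inj (ResidueField B) p (by simp [frobenius_def, hζ.pow_eq_one])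
      exact (Fact.out : p.Prime).ne_one (hζ.unique (h1 ▸ IsPrimitiveRoot.one))
    exact ⟨hK.toSylow hidx, hSK'.symm⟩
  · show chiHom hin hst b (γ * δ * γ⁻¹ * δ⁻¹) = 1
    rw [map_mul, map_mul, map_mul]
    calc chiHom hin hst b γ * chiHom hin hst b δ * chiHom hin hst b γ⁻¹ * chiHom hin hst b δ⁻¹ =
        (chiHom hin hst b γ * chiHom hin hst b γ⁻¹) * (chiHom hin hst b δ * chiHom hin hst b δ⁻¹) := by ring
      _ = 1 := by rw [← map_mul, ← map_mul, mul_inv_cancel, mul_inv_cancel, map_one, one_mul]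

end Groth.Agent.S12934
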