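import Groth.Statements.S12935
import Mathlib.RingTheory.Invariant.Basic

set_option autoImplicit false
universe u v
open InvTh

namespace Groth.Agent.S12935
open scoped Pointwise

theorem aux {B : Type u} [CommRing B] {Γ : Type v} [Group Γ] [Finite Γ] [MulSemiringAction Γ B]
    (Ω : Subgroup Γ) (P : Ideal B) [P.IsPrime] (γ : Γ) :
    ((∀ x : B, (∀ ω ∈ Ω, ω • x = x) → (x ∈ P ↔ γ • x ∈ P)) → ∃ ω ∈ Ω, ∀ x : B, x ∈ P ↔ (γ * ω) • x ∈ P) ∧
      ((∀ x : B, (∀ ω ∈ Ω, ω • x = x) → γ • x - x ∈ P) → ∃ ω ∈ Ω, ∀ x : B, (γ * ω) • x - x ∈ P) := by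
  let A : Subring B :=
    { carrier := {x | ∀ ω ∈ Ω, ω • x = x}
      mul_mem' := fun {a b} ha hb ω hω => by rw [smul_mul', ha ω hω, hb ω hω]
      one_mem' := fun ω _ => smul_one ω
      add_mem' := fun {a b} ha hb ω hω => by rw [smul_add, ha ω hω, hb ω hω]
      zero_mem' := fun ω _ => smul_zero ω
      neg_mem' := fun {a} ha ω hω => by rw [smul_neg, ha ω hω] }
  haveI : SMulCommClass Ω A B := ⟨fun ω a x => by
    change (ω : Γ) • ((a : B) * x) = (a : B) * (ω : Γ) • x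
    rw [smul_mul', a.2 ω ω.2]⟩
  haveI : Algebra.IsInvariant A B Ω := ⟨fun b hb => ⟨⟨b, fun ω hω => hb ⟨ω, hω⟩⟩, rfl⟩⟩
  have hdec : (∀ x : B, (∀ ω ∈ Ω, ω • x = x) → (x ∈ P ↔ γ • x ∈ P)) →
      ∃ ω ∈ Ω, ∀ x : B, x ∈ P ↔ (γ * ω) • x ∈ P := by
    intro h
    let P' := P.comap (MulSemiringAction.toRingHom Γ B γ)
    obtain ⟨g, hg⟩ := Algebra.IsInvariant.exists_smul_of_under_eq A B Ω P P' (Ideal.ext fun a => h a.1 a.2)
    refine ⟨g.1, g.2, fun x => ?_⟩
    have := SetLike.ext_iff.1 hg (g.1 • x)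
    rw [Ideal.mem_comap, MulSemiringAction.toRingHom_apply, ← mul_smul] at this
    rw [this]
    exact (Ideal.smul_mem_pointwise_smul_iff (a := g)).symm
  refine ⟨hdec, fun h => ?_⟩
  obtain ⟨ω, hω, hst⟩ := hdec fun x hx => by
    have := h x hx
    constructor <;> intro hm
    · simpa using P.add_mem this hm
    · simpa using P.sub_mem hm this
  let p : Ideal A := P.under A
  have hfix : ∀ a : A, (γ * ω) • (a : B) - a ∈ P := fun a => by
    rw [mul_smul, a.2 ω hω]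
    exact h a.1 a.2
  let g : B ≃+* B := MulSemiringAction.toRingEquiv Γ B (γ * ω)
  have hPg : P = P.map (g : B →+* B) := by
    ext x
    rw [Ideal.mem_map_iff_of_surjective (g : B →+* B) g.surjective]
    exact ⟨fun hx => ⟨(γ * ω)⁻¹ • x, by rw [hst, smul_inv_smul]; exact hx, smul_inv_smul _ _⟩,
      fun ⟨y, hy, hyx⟩ => hyx ▸ (hst y).1 hy⟩
  let e : (B ⧸ P) ≃ₐ[A ⧸ p] (B ⧸ P) :=
    AlgEquiv.ofRingEquiv (f := Ideal.quotientEquiv P P g hPg) (fun a => by
      obtain ⟨a, rfl⟩ := Ideal.Quotient.mk_surjective a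
      exact Ideal.Quotient.eq.2 (hfix a))
  obtain ⟨σ, hσ⟩ := Ideal.Quotient.stabilizerHom_surjective Ω p P e
  refine ⟨ω * (σ.1.1)⁻¹, Ω.mul_mem hω (Ω.inv_mem σ.1.2), fun x => ?_⟩
  have := AlgEquiv.congr_fun hσ (Ideal.Quotient.mk P ((σ.1.1)⁻¹ • x))
  have h2 : Ideal.Quotient.mk P (σ.1.1 • (σ.1.1)⁻¹ • x) = Ideal.Quotient.mk P ((γ * ω) • (σ.1.1)⁻¹ • x) := this
  rw [smul_inv_smul, Ideal.Quotient.eq] at h2
  rw [← _root_.mul_assoc, mul_smul]
  simpa using P.neg_mem h2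


/-- Let `B` be a commutative ring with an action of a finite group `Γ` by ring automorphisms, `Ω` a
normal subgroup of `Γ`, `B^Ω` the subring of `Ω`-invariants (stable under `Γ`, with the induced
action of `Γ/Ω`), and `P` a prime ideal of `B`. Then (decomposition groups) an element `γ` maps `P ∩
B^Ω` onto itself if and only if `γω` maps `P` onto itself for some `ω ∈ Ω`; and (inertia groups) `γ`
fixes `B^Ω` modulo `P ∩ B^Ω` if and only if `γω` fixes `B` modulo `P` for some `ω ∈ Ω`. In other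
words the decomposition and inertia groups of `P ∩ B^Ω` under `Γ/Ω` are the images of those of `P`.
(The published statement also asserts the same for the ramification groups, the Sylow subgroups of
the inertia groups at the residue characteristic; that clause is not included here.) -/
theorem result
    (B : Type u) [CommRing B] (Γ : Type v) [Group Γ] [Finite Γ] [MulSemiringAction Γ B]
    (Ω : Subgroup Γ) [Ω.Normal] (P : Ideal B) [P.IsPrime] (γ : Γ) :
    ((∀ x : B, (∀ ω ∈ Ω, ω • x = x) → (x ∈ P ↔ γ • x ∈ P)) ↔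
        ∃ ω ∈ Ω, ∀ x : B, x ∈ P ↔ (γ * ω) • x ∈ P) ∧
      ((∀ x : B, (∀ ω ∈ Ω, ω • x = x) → γ • x - x ∈ P) ↔
        ∃ ω ∈ Ω, ∀ x : B, (γ * ω) • x - x ∈ P) := by
  obtain ⟨h1, h2⟩ := aux Ω P γ
  refine ⟨⟨h1, ?_⟩, ⟨h2, ?_⟩⟩
  · rintro ⟨ω, hω, h⟩ x hx
    rw [h x, mul_smul, hx ω hω]
  · rintro ⟨ω, hω, h⟩ x hx
    have := h x
    rwa [mul_smul, hx ω hω] at this

end Groth.Agent.S12935
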