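import Groth.Statements.S12936
import Mathlib.RingTheory.Ideal.Quotient.Operations
import Mathlib.Algebra.BigOperators.GroupWithZero.Action
import Mathlib.Algebra.Ring.Action.Group
import Mathlib.GroupTheory.GroupAction.Quotient

set_option autoImplicit false
universe u v
open InvTh

namespace Groth.Agent.S12936

/-- Let `B` be a commutative ring with an action of a finite group `Γ` by ring automorphisms and `P` a
maximal ideal of `B`, with decomposition group `D_P = {γ | γP = P}` and decomposition ring `D =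
B^{D_P}`. Then `D = B^Γ + (P ∩ D)`: every element of `B` fixed by `D_P` is congruent modulo `P` to a
`Γ`-invariant element. Hence the residue field of `D` at `P ∩ D` is that of `B^Γ` at `P ∩ B^Γ`; for
an arbitrary prime `P` the same equality of residue fields follows by localising at `P ∩ B^Γ`. (The
published statement prints this residue field as `k(P)`; the proof establishes the equality with the
residue field of `B^Γ` stated here.) -/
theorem result
    (B : Type u) [CommRing B] (Γ : Type v) [Group Γ] [Finite Γ] [MulSemiringAction Γ B]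
    (P : Ideal B) [P.IsMaximal] (x : B)
    (hx : ∀ γ : Γ, (∀ y : B, y ∈ P ↔ γ • y ∈ P) → γ • x = x) :
    ∃ c : B, (∀ γ : Γ, γ • c = c) ∧ x - c ∈ P := by
  classical
  haveI := Fintype.ofFinite Γ
  let D : Subgroup Γ :=
    { carrier := {γ | ∀ y : B, y ∈ P ↔ γ • y ∈ P}
      mul_mem' := fun {g h} hg hh y => by rw [mul_smul, ← hg, ← hh]
      one_mem' := fun y => by rw [one_smul]
      inv_mem' := fun {g} hg y => by rw [hg (g⁻¹ • y), smul_inv_smul] }
  have hsep : ∀ γ : Γ, γ ∉ D → ∃ y : B, γ • y ∈ P ∧ y ∉ P := by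
    intro γ hγ
    by_contra hcon
    push Not at hcon
    have hle : Ideal.comap (MulSemiringAction.toRingHom Γ B γ) P ≤ P := fun y hy => hcon y hy
    haveI : (Ideal.comap (MulSemiringAction.toRingHom Γ B γ) P).IsMaximal :=
      Ideal.comap_isMaximal_of_surjective _ (MulAction.surjective γ)
    have := Ideal.IsMaximal.eq_of_le this (Ideal.IsMaximal.ne_top inferInstance) hle
    exact hγ fun y => (SetLike.ext_iff.1 this y).symm.trans Ideal.mem_comap
  choose! y hy1 hy2 using hsep
  let S : Finset Γ := Finset.univ.filter (· ∉ D)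
  let f := ∏ γ ∈ S, y γ
  have hf : f ∉ P := fun h => by
    obtain ⟨γ, hγ, hmem⟩ := (Ideal.IsPrime.prod_mem_iff).1 h
    exact hy2 γ (Finset.mem_filter.1 hγ).2 hmem
  obtain ⟨g, i, hi, hgi⟩ := Ideal.IsMaximal.exists_inv (I := P) inferInstance hf
  let e0 := g * f
  let e := ∏ δ : D, (δ : Γ) • e0
  have he0 : ∀ γ, γ ∉ D → γ • e0 ∈ P := fun γ hγ => by
    simp only [e0, smul_mul', f, Finset.smul_prod']
    exact Ideal.mul_mem_left _ _ (Ideal.IsPrime.prod_mem_iff.2 ⟨γ, Finset.mem_filter.2 ⟨Finset.mem_univ _, hγ⟩, hy1 γ hγ⟩)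
  have he1 : Ideal.Quotient.mk P e0 = 1 := by
    rw [← map_one (Ideal.Quotient.mk P), Ideal.Quotient.eq]
    have : e0 - 1 = -i := by rw [← hgi]; ring
    rw [this]; exact neg_mem hi
  have heD : ∀ δ ∈ D, δ • e = e := by
    intro δ hδ
    simp only [e, Finset.smul_prod', smul_smul]
    exact Fintype.prod_bijective ((⟨δ, hδ⟩ : D) * ·) (Group.mulLeft_bijective _) (fun δ' => (δ * (δ' : Γ)) • e0) (fun δ' => (δ' : Γ) • e0) fun δ' => rfl
  have heP : ∀ γ, γ ∉ D → γ • e ∈ P := fun γ hγ => by
    simp only [e, Finset.smul_prod']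
    exact Ideal.IsPrime.prod_mem_iff.2 ⟨1, Finset.mem_univ _, by simpa using he0 γ hγ⟩
  have hemk : Ideal.Quotient.mk P e = 1 := by
    simp only [e, map_prod]
    refine Finset.prod_eq_one fun δ _ => ?_
    rw [← map_one (Ideal.Quotient.mk P), Ideal.Quotient.eq] at he1 ⊢
    have := (δ.2 _).1 he1
    simpa [smul_sub, smul_one] using this
  let z := e * x
  have hz : ∀ δ ∈ D, δ • z = z := fun δ hδ => by rw [smul_mul', heD δ hδ, hx δ hδ]
  haveI : Finite (Γ ⧸ D) := Quotient.finite _
  haveI : Fintype (Γ ⧸ D) := Fintype.ofFinite _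
  let φ : Γ ⧸ D → B := Quotient.lift (fun γ => γ • z) (fun a b (hab : QuotientGroup.leftRel D a b) => by
    rw [QuotientGroup.leftRel_apply] at hab
    calc a • z = a • (a⁻¹ * b) • z := by rw [hz _ hab]
      _ = b • z := by rw [smul_smul, mul_inv_cancel_left])
  have hφ : ∀ (γ : Γ) (q : Γ ⧸ D), φ (γ • q) = γ • φ q := fun γ q => by
    induction q using QuotientGroup.induction_on with
    | H a => exact mul_smul γ a z
  refine ⟨∑ q, φ q, fun γ => ?_, ?_⟩
  · rw [Finset.smul_sum]
    exact Fintype.sum_bijective (γ • ·) (MulAction.bijective γ) _ _ fun q => (hφ γ q).symm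
  · rw [← Ideal.Quotient.eq, map_sum, Finset.sum_eq_single (QuotientGroup.mk (1 : Γ))]
    · show _ = Ideal.Quotient.mk P ((1 : Γ) • z)
      rw [one_smul, map_mul, hemk, one_mul]
    · intro q _ hq
      induction q using QuotientGroup.induction_on with
      | H a =>
        have ha : a ∉ D := fun ha => hq (QuotientGroup.eq.2 (by simpa using D.inv_mem ha))
        show Ideal.Quotient.mk P (a • z) = 0
        rw [Ideal.Quotient.eq_zero_iff_mem, smul_mul']
        exact Ideal.mul_mem_right _ _ (heP a ha)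
    · simp

end Groth.Agent.S12936
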