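import Groth.Statements.S12937
import Mathlib.RingTheory.Invariant.Basic
import Mathlib.FieldTheory.SeparableClosure
import Mathlib.FieldTheory.Perfect
import Mathlib.FieldTheory.Finite.Basic

set_option autoImplicit false
universe u v
open InvTh

namespace Groth.Agent.S12937

open Polynomial
open scoped Pointwise

section

variable {B : Type u} [CommRing B] {Γ : Type v} [Group Γ] [Finite Γ] [MulSemiringAction Γ B] (P : Ideal B) [P.IsMaximal]

local notation "inv" => FixedPoints.subring B Γ

omit [Finite Γ] [P.IsMaximal] in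
theorem smul_mem_iff (γ : Γ) (b : B) : γ • b ∈ P ↔ b ∈ γ⁻¹ • P := Ideal.mem_inv_pointwise_smul_iff.symm

omit [Finite Γ] [P.IsMaximal] in
theorem mk_smul_eq {γ : Γ} (hγ : γ • P = P) {a b : B} (h : a - b ∈ P) : γ • a - γ • b ∈ P := by
  rw [← smul_sub, ← hγ]
  exact Ideal.smul_mem_pointwise_smul γ _ P h

set_option maxHeartbeats 800000 in
theorem main (x : B) :
    letI : Field (B ⧸ P) := Ideal.Quotient.field P
    (∃ y : B, (∀ γ : Γ, γ ∈ P.inertia Γ → γ • y = y) ∧ x - y ∈ P) ↔
      ∃ g : Polynomial B, (∀ (i : ℕ) (γ : Γ), γ • g.coeff i = g.coeff i) ∧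
        (g.map (Ideal.Quotient.mk P)).Separable ∧ Polynomial.aeval x g ∈ P := by
  classical
  letI := Fintype.ofFinite Γ
  letI : Field (B ⧸ P) := Ideal.Quotient.field P
  haveI : Algebra.IsInvariant (FixedPoints.subring B Γ) B Γ := ⟨fun b hb => ⟨⟨b, hb⟩, rfl⟩⟩
  haveI : Algebra.IsIntegral (FixedPoints.subring B Γ) B := Algebra.IsInvariant.isIntegral _ B Γ
  set C := FixedPoints.subring B Γ with hC
  let Q := P.under C
  haveI : Q.IsMaximal := Ideal.IsMaximal.under C P
  letI : Field (C ⧸ Q) := Ideal.Quotient.field Q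
  let K := C ⧸ Q
  let L := B ⧸ P
  let π : B →+* L := Ideal.Quotient.mk P
  have hπc : ∀ c : C, algebraMap K L (Ideal.Quotient.mk Q c) = π (c : B) := fun c => rfl
  haveI hint : Algebra.IsIntegral K L := ⟨fun l => by
    obtain ⟨b, rfl⟩ := Ideal.Quotient.mk_surjective l
    obtain ⟨q, hq, hq0⟩ := Algebra.IsIntegral.isIntegral (R := C) b
    refine ⟨q.map (Ideal.Quotient.mk Q), hq.map _, ?_⟩
    rw [eval₂_map, show (algebraMap K L).comp (Ideal.Quotient.mk Q) = π.comp (algebraMap C B) from rfl,
      ← hom_eval₂, hq0, map_zero]⟩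
  let T : Subgroup Γ := P.inertia Γ
  have hTP : ∀ t ∈ T, ∀ b : B, π (t • b) = π b := fun t ht b => Ideal.Quotient.eq.2 (ht b)
  let M : Subalgebra K L :=
    { carrier := {l | ∃ y : B, (∀ t ∈ T, t • y = y) ∧ π y = l}
      mul_mem' := by
        rintro _ _ ⟨a, ha, rfl⟩ ⟨b, hb, rfl⟩
        exact ⟨a * b, fun t ht => by rw [smul_mul', ha t ht, hb t ht], map_mul _ _ _⟩
      add_mem' := by
        rintro _ _ ⟨a, ha, rfl⟩ ⟨b, hb, rfl⟩
        exact ⟨a + b, fun t ht => by rw [smul_add, ha t ht, hb t ht], map_add _ _ _⟩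
      algebraMap_mem' := fun c => by
        obtain ⟨c, rfl⟩ := Ideal.Quotient.mk_surjective c
        exact ⟨c, fun t _ => c.2 t, (hπc c).symm⟩ }
  have hpoly : ∀ b : B, ((Polynomial.X - Polynomial.C (π b)) ^ Fintype.card T : Polynomial L) ∈
      Polynomial.lifts (algebraMap M L) := fun b => by
    let q : Polynomial B := ∏ t : T, (Polynomial.X - Polynomial.C ((t : Γ) • b))
    have hq : ∀ (s : T) i, (s : Γ) • q.coeff i = q.coeff i := fun s i => by
      have h1 : q.map (MulSemiringAction.toRingHom Γ B s) = q := by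
        rw [Polynomial.map_prod]
        refine Fintype.prod_bijective (s * ·) (Group.mulLeft_bijective s) _ _ fun t => ?_
        rw [Polynomial.map_sub, map_X, map_C, Subgroup.coe_mul, mul_smul]
        rfl
      conv_rhs => rw [← h1, coeff_map]
      rfl
    have e : q.map π = (Polynomial.X - Polynomial.C (π b)) ^ Fintype.card T := by
      rw [Polynomial.map_prod, ← Finset.card_univ, ← Finset.prod_const]
      exact Finset.prod_congr rfl fun t _ => by rw [Polynomial.map_sub, map_X, map_C, hTP t t.2]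
    rw [← e, Polynomial.lifts_iff_coeff_lifts]
    intro i
    exact ⟨⟨π (q.coeff i), _, fun t ht => hq ⟨t, ht⟩ i, rfl⟩, (coeff_map π i).symm⟩
  -- separable elements of the residue field come from the inertia ring
  have hsep_mem : ∀ l : L, IsSeparable K l → l ∈ M := by
    intro l hl
    obtain ⟨b, rfl⟩ := Ideal.Quotient.mk_surjective l
    obtain ⟨q, hq⟩ := (Polynomial.mem_lifts _).1 (hpoly b)
    letI : Field M := (Subalgebra.isField_of_algebraic M).toField
    have hdvd : (minpoly M (π b)) ∣ q := minpoly.dvd M (π b) (by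
      rw [aeval_def, ← eval_map, hq, eval_pow, eval_sub, eval_X, eval_C, sub_self,
        zero_pow Fintype.card_ne_zero])
    have hsepM : IsSeparable M (π b) := IsSeparable.tower_top M hl
    have hint' : IsIntegral M (π b) := hsepM.isIntegral
    have hmap : (minpoly M (π b)).map (algebraMap M L) ∣ (Polynomial.X - Polynomial.C (π b)) ^ Fintype.card T :=
      hq ▸ Polynomial.map_dvd _ hdvd
    obtain ⟨j, hj, hj'⟩ := (dvd_prime_pow (Polynomial.prime_X_sub_C (π b)) _).1 hmap
    have hj1 : j = 1 := by
      have hsq := ((show (minpoly M (π b)).Separable from hsepM).map (f := algebraMap M L)).squarefree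
      have hne : ¬ IsUnit ((minpoly M (π b)).map (algebraMap M L)) := fun h => by
        rw [isUnit_iff_degree_eq_zero, degree_map] at h
        exact (minpoly.degree_pos hint').ne' h
      rcases j with _ | _ | j
      · exact absurd (hj'.symm.isUnit (by simp)) hne
      · rfl
      · exact absurd (hsq (Polynomial.X - Polynomial.C (π b))
          (Dvd.dvd.trans ⟨(Polynomial.X - Polynomial.C (π b)) ^ j, by ring⟩ hj'.symm.dvd)) (Polynomial.not_isUnit_X_sub_C _)
    rw [hj1, pow_one] at hj'
    have heq := Polynomial.eq_of_monic_of_associated ((minpoly.monic hint').map _) (Polynomial.monic_X_sub_C _) hj'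
    have hc := congrArg (fun r : Polynomial L => r.coeff 0) heq
    simp only [coeff_map, coeff_sub, coeff_X_zero, coeff_C_zero, zero_sub] at hc
    have hm : π b = algebraMap M L (-(minpoly M (π b)).coeff 0) := by
      rw [map_neg, hc, neg_neg]
    rw [hm]
    exact SetLike.coe_mem (-(minpoly M (π b)).coeff 0)
  -- an element vanishing at the other conjugates
  obtain ⟨b₀, hb₀, hb₀P⟩ : ∃ b : B, (∀ γ : Γ, γ • P ≠ P → b ∈ γ • P) ∧ b ∉ P := by
    let I := Finset.inf {g : Γ | g • P ≠ P} (fun g => g • P)
    have h1 : ¬ I ≤ P := by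
      rw [Ideal.IsPrime.inf_le' inferInstance]
      rintro ⟨g, hg1, hg2⟩
      exact (Finset.mem_filter.mp hg1).2 (smul_eq_of_smul_le hg2)
    obtain ⟨b, hbI, hbP⟩ := SetLike.not_le_iff_exists.mp h1
    exact ⟨b, fun g hg => (Finset.inf_le (Finset.mem_filter.mpr ⟨Finset.mem_univ g, hg⟩) : I ≤ g • P) hbI, hbP⟩
  -- elements with minimal stabiliser are separable
  have hgen : ∀ y : B, (∀ t ∈ T, t • y = y) → (∀ σ : Γ, σ • P = P → σ • y - y ∈ P → σ ∈ T) →
      IsSeparable K (π y) := by
    intro y hy hstab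
    let b₁ := ∏ t : T, (t : Γ) • b₀
    have hb₁T : ∀ t ∈ T, t • b₁ = b₁ := fun t ht => by
      rw [Finset.smul_prod']
      refine Fintype.prod_bijective (⟨t, ht⟩ * ·) (Group.mulLeft_bijective _) _ _ fun s => ?_
      rw [Subgroup.coe_mul, mul_smul]
    have hb₁ : ∀ γ : Γ, γ • P ≠ P → b₁ ∈ γ • P := fun γ hγ => by
      rw [show b₁ = ((1 : T) : Γ) • b₀ * ∏ t ∈ Finset.univ.erase (1 : T), (t : Γ) • b₀ from
        (Finset.mul_prod_erase _ _ (Finset.mem_univ _)).symm, OneMemClass.coe_one, one_smul]
      exact Ideal.mul_mem_right _ _ (hb₀ γ hγ)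
    have hb₁0 : π b₁ ≠ 0 := by
      rw [map_prod, Finset.prod_ne_zero_iff]
      intro t _
      rw [hTP t t.2]
      exact fun h => hb₀P (Ideal.Quotient.eq_zero_iff_mem.1 h)
    obtain ⟨v, hvT, hv⟩ : (π b₁)⁻¹ ∈ M := by
      letI : Field M := (Subalgebra.isField_of_algebraic M).toField
      have hmem : π b₁ ∈ M := ⟨b₁, hb₁T, rfl⟩
      obtain ⟨w, hw⟩ := (Subalgebra.isField_of_algebraic M).mul_inv_cancel
        (show (⟨_, hmem⟩ : M) ≠ 0 from fun h => hb₁0 (congrArg Subtype.val h))
      rw [show (π b₁)⁻¹ = (w : L) from inv_eq_of_mul_eq_one_right (congrArg Subtype.val hw)]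
      exact w.2
    let y' := y * (b₁ * v)
    have hy'π : π y' = π y := by rw [map_mul, map_mul, hv, mul_inv_cancel₀ hb₁0, mul_one]
    have hy'T : ∀ t ∈ T, t • y' = y' := fun t ht => by rw [smul_mul', smul_mul', hy t ht, hb₁T t ht, hvT t ht]
    have hy'0 : ∀ γ : Γ, γ • P ≠ P → γ • y' ∈ P := fun γ hγ => by
      rw [smul_mem_iff]
      refine Ideal.mul_mem_left _ _ (Ideal.mul_mem_right _ _ (hb₁ _ fun h => hγ ?_))
      conv_lhs => rw [← h, smul_inv_smul]
    let f : Γ ⧸ T → B := fun q => Quotient.liftOn' q (· • y') fun a b hab => by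
      rw [QuotientGroup.leftRel_apply] at hab
      conv_rhs => rw [← mul_inv_cancel_left a b, mul_smul, hy'T _ hab]
    have hf : ∀ γ : Γ, f (γ : Γ ⧸ T) = γ • y' := fun γ => rfl
    let g : Polynomial B := ∏ q : Γ ⧸ T, (Polynomial.X - Polynomial.C (f q))
    have hg : ∀ (γ : Γ) i, γ • g.coeff i = g.coeff i := fun γ i => by
      have h1 : g.map (MulSemiringAction.toRingHom Γ B γ) = g := by
        rw [Polynomial.map_prod]
        refine Fintype.prod_bijective (γ • ·) (MulAction.bijective γ) _ _ fun q => ?_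
        induction q using QuotientGroup.induction_on with
        | H a =>
          rw [Polynomial.map_sub, map_X, map_C, hf, MulAction.Quotient.smul_coe, smul_eq_mul, hf, mul_smul]
          rfl
      conv_rhs => rw [← h1, coeff_map]
      rfl
    obtain ⟨gK, hgK⟩ : g.map π ∈ Polynomial.lifts (algebraMap K L) := by
      rw [Polynomial.lifts_iff_coeff_lifts]
      exact fun i => ⟨Ideal.Quotient.mk Q ⟨g.coeff i, fun γ => hg γ i⟩, (coeff_map π i).symm⟩
    change gK.map (algebraMap K L) = _ at hgK
    let D : Finset (Γ ⧸ T) := Finset.univ.filter fun q => q.out • P = P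
    have hout : ∀ q : Γ ⧸ T, π (f q) = π (q.out • y') := fun q => congrArg (fun r => π (f r)) (QuotientGroup.out_eq' q).symm
    have hsplit : g.map π = (∏ q ∈ D, (Polynomial.X - Polynomial.C (π (f q)))) * Polynomial.X ^ (Finset.univ \ D).card := by
      rw [Polynomial.map_prod, ← Finset.prod_sdiff (Finset.subset_univ D), mul_comm, ← Finset.prod_const]
      simp only [Polynomial.map_sub, map_X, map_C]
      congr 1
      refine Finset.prod_congr rfl fun q hq => ?_
      rw [hout, show π (q.out • y') = 0 from Ideal.Quotient.eq_zero_iff_mem.2 (hy'0 _ (by simpa [D] using hq)),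
        map_zero, sub_zero]
    have hR : (∏ q ∈ D, (Polynomial.X - Polynomial.C (π (f q)))).Separable := by
      refine Polynomial.separable_prod_X_sub_C_iff'.2 fun q hq q' hq' h => ?_
      rw [hout, hout] at h
      have hq1 : q.out • P = P := (Finset.mem_filter.1 hq).2
      have hq2 : q'.out • P = P := (Finset.mem_filter.1 hq').2
      have hd : (q.out⁻¹ * q'.out) • P = P := by rw [mul_smul, hq2, inv_smul_eq_iff, hq1]
      have h3 := mk_smul_eq P (show q.out⁻¹ • P = P by rw [inv_smul_eq_iff, hq1]) (Ideal.Quotient.eq.1 h.symm)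
      rw [inv_smul_smul, ← mul_smul] at h3
      have h4 : (q.out⁻¹ * q'.out) • y - y ∈ P := by
        rw [← Ideal.Quotient.eq]
        have h5 : π ((q.out⁻¹ * q'.out) • y') = π ((q.out⁻¹ * q'.out) • y) :=
          Ideal.Quotient.eq.2 (mk_smul_eq P hd (Ideal.Quotient.eq.1 hy'π))
        exact h5.symm.trans ((Ideal.Quotient.eq.2 h3).trans hy'π)
      rw [← Quotient.out_eq' q, ← Quotient.out_eq' q']
      exact QuotientGroup.eq.2 (hstab _ hd h4)
    have hroot : Polynomial.aeval (π y) gK = 0 := by
      rw [aeval_def, ← eval_map, hgK, ← hy'π]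
      simp only [g, Polynomial.map_prod, eval_prod]
      refine Finset.prod_eq_zero (Finset.mem_univ ((1 : Γ) : Γ ⧸ T)) ?_
      rw [Polynomial.map_sub, map_X, map_C, eval_sub, eval_X, eval_C, hf, one_smul, sub_self]
    by_cases h0 : π y = 0
    · rw [h0]; exact isSeparable_algebraMap (F := K) (K := L) 0 |> fun h => by rwa [map_zero] at h
    have hint0 : IsIntegral K (π y) := Algebra.IsIntegral.isIntegral _
    have hdvd := Polynomial.map_dvd (algebraMap K L) (minpoly.dvd K (π y) hroot)
    rw [hgK, hsplit] at hdvd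
    have hcop : IsCoprime ((minpoly K (π y)).map (algebraMap K L)) ((Polynomial.X : Polynomial L) ^ (Finset.univ \ D).card) := by
      refine IsCoprime.pow_right ?_
      have hnd : ¬ minpoly K (π y) ∣ (Polynomial.X : Polynomial K) := fun h => h0 (by
        have hz := Polynomial.eval₂_eq_zero_of_dvd_of_eval₂_eq_zero (algebraMap K L) (π y) h (minpoly.aeval K (π y))
        rwa [eval₂_X] at hz)
      have hc0 : IsCoprime (minpoly K (π y)) (Polynomial.X : Polynomial K) :=
        (Irreducible.coprime_iff_not_dvd (minpoly.irreducible hint0)).2 hnd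
      have hc1 := hc0.map (mapRingHom (algebraMap K L))
      rw [coe_mapRingHom, map_X] at hc1
      exact hc1
    exact Polynomial.separable_map _ |>.1 (hR.of_dvd (hcop.dvd_of_dvd_mul_right hdvd))
  -- the inertia ring gives separable elements
  have hmem_sep : ∀ y : B, (∀ t ∈ T, t • y = y) → IsSeparable K (π y) := by
    intro y hy
    rcases finite_or_infinite K with hK | hK
    · exact PerfectField.separable_of_irreducible (minpoly.irreducible (Algebra.IsIntegral.isIntegral _))
    let s : Finset Γ := Finset.univ.filter fun σ => σ • P = P ∧ σ ∉ T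
    have hsplit : ∀ σ ∈ s, ∃ m : B, (∀ t ∈ T, t • m = m) ∧ σ • m - m ∉ P := by
      intro σ hσ
      obtain ⟨hσP, hσT⟩ := (Finset.mem_filter.1 hσ).2
      by_contra hall
      push Not at hall
      refine hσT fun b => ?_
      obtain ⟨q, hq⟩ := (Polynomial.mem_lifts _).1 (hpoly b)
      let σL : L →+* L := Ideal.quotientMap P (MulSemiringAction.toRingHom Γ B σ) fun a ha => by
        show σ • a ∈ P
        rw [← hσP]
        exact Ideal.smul_mem_pointwise_smul σ a P ha
      have hσq : (q.map (algebraMap M L)).map σL = q.map (algebraMap M L) := by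
        ext i
        rw [coeff_map, coeff_map]
        obtain ⟨m, hm, hme⟩ := (q.coeff i).2
        show σL (q.coeff i : L) = (q.coeff i : L)
        rw [← hme]
        exact Ideal.Quotient.eq.2 (hall m hm)
      rw [hq, Polynomial.map_pow, Polynomial.map_sub, map_X, map_C] at hσq
      have := congrArg (Polynomial.eval (π b)) hσq
      rw [eval_pow, eval_pow, eval_sub, eval_sub, eval_X, eval_C, eval_C, sub_self, zero_pow Fintype.card_ne_zero] at this
      exact Ideal.Quotient.eq.1 (sub_eq_zero.1 (pow_eq_zero_iff Fintype.card_ne_zero |>.1 this)).symm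
    have hgood : ∀ s' ⊆ s, ∃ θ : B, (∀ t ∈ T, t • θ = θ) ∧ ∀ σ ∈ s', σ • θ - θ ∉ P := by
      intro s' hs'
      induction s' using Finset.induction_on with
      | empty => exact ⟨0, fun t _ => smul_zero t, fun σ h => absurd h (Finset.notMem_empty σ)⟩
      | @insert a s₁ ha ih =>
        obtain ⟨θ, hθT, hθ⟩ := ih fun σ hσ => hs' (Finset.mem_insert_of_mem hσ)
        obtain ⟨m, hmT, hm⟩ := hsplit a (hs' (Finset.mem_insert_self a s₁))
        obtain ⟨z, hz⟩ := Set.Finite.exists_notMem (s := (fun σ => -(π (σ • θ - θ)) / π (σ • m - m)) '' (↑(insert a s₁) : Set Γ) |>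
          fun S : Set L => (algebraMap K L) ⁻¹' S) (((Finset.finite_toSet _).image _).preimage (algebraMap K L).injective.injOn)
        obtain ⟨c, rfl⟩ := Ideal.Quotient.mk_surjective z
        refine ⟨θ + c * m, fun t ht => by rw [smul_add, smul_mul', hθT t ht, hmT t ht, c.2 t], fun σ hσ hmem => ?_⟩
        rw [← Ideal.Quotient.eq_zero_iff_mem, show σ • (θ + (c : B) * m) - (θ + (c : B) * m) =
          (σ • θ - θ) + (c : B) * (σ • m - m) by rw [smul_add, smul_mul', c.2 σ]; ring, map_add, map_mul] at hmem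
        by_cases hσm : π (σ • m - m) = 0
        · rw [hσm, mul_zero, add_zero] at hmem
          rcases Finset.mem_insert.1 hσ with rfl | hσ'
          · exact hm (Ideal.Quotient.eq_zero_iff_mem.1 hσm)
          · exact hθ σ hσ' (Ideal.Quotient.eq_zero_iff_mem.1 hmem)
        · refine hz ⟨σ, hσ, ?_⟩
          rw [hπc, div_eq_iff hσm]
          linear_combination -hmem
    obtain ⟨θ, hθT, hθ⟩ := hgood s subset_rfl
    obtain ⟨z, hz⟩ := Set.Finite.exists_notMem (s := (algebraMap K L) ⁻¹'
        ((fun σ => -(π (σ • y - y)) / π (σ • θ - θ)) '' (↑s : Set Γ)))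
      (((Finset.finite_toSet _).image _).preimage (algebraMap K L).injective.injOn)
    obtain ⟨c, rfl⟩ := Ideal.Quotient.mk_surjective z
    have h1 : IsSeparable K (π (y + c * θ)) := by
      refine hgen _ (fun t ht => by rw [smul_add, smul_mul', hy t ht, hθT t ht, c.2 t]) fun σ hσP hmem => ?_
      by_contra hσT
      have hσs : σ ∈ s := Finset.mem_filter.2 ⟨Finset.mem_univ _, hσP, hσT⟩
      rw [← Ideal.Quotient.eq_zero_iff_mem, show σ • (y + (c : B) * θ) - (y + (c : B) * θ) =
          (σ • y - y) + (c : B) * (σ • θ - θ) by rw [smul_add, smul_mul', c.2 σ]; ring, map_add, map_mul] at hmem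
      refine hz ⟨σ, hσs, ?_⟩
      rw [hπc, div_eq_iff (fun h => hθ σ hσs (Ideal.Quotient.eq_zero_iff_mem.1 h))]
      linear_combination -hmem
    have h2 : IsSeparable K (π θ) := hgen θ hθT fun σ hσP hmem => by
      by_contra hσT
      exact hθ σ (Finset.mem_filter.2 ⟨Finset.mem_univ _, hσP, hσT⟩) hmem
    have h3 : π (y + c * θ) - algebraMap K L (Ideal.Quotient.mk Q c) * π θ ∈ separableClosure K L :=
      sub_mem (mem_separableClosure_iff.2 h1) (mul_mem (IntermediateField.algebraMap_mem _ _) (mem_separableClosure_iff.2 h2))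
    rw [hπc, map_add, map_mul, add_sub_cancel_right] at h3
    exact mem_separableClosure_iff.1 h3
  constructor
  · rintro ⟨y, hy, hxy⟩
    have hsep : IsSeparable K (π x) := by
      rw [show π x = π y from Ideal.Quotient.eq.2 hxy]
      exact hmem_sep y hy
    obtain ⟨q, hq⟩ := Polynomial.map_surjective _ Ideal.Quotient.mk_surjective (minpoly K (π x))
    refine ⟨q.map (algebraMap C B), fun i γ => by rw [coeff_map]; exact (q.coeff i).2 γ, ?_, ?_⟩
    · rw [Polynomial.map_map, show (Ideal.Quotient.mk P).comp (algebraMap C B) = (algebraMap K L).comp (Ideal.Quotient.mk Q) from rfl,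
        ← Polynomial.map_map, hq, separable_map]
      exact hsep
    · rw [← Ideal.Quotient.eq_zero_iff_mem, aeval_def, Algebra.algebraMap_self, eval₂_map, RingHom.id_comp,
        show π (q.eval₂ (algebraMap C B) x) = (q.map (Ideal.Quotient.mk Q)).eval₂ (algebraMap K L) (π x) by
          rw [eval₂_map, hom_eval₂]; rfl, hq]
      exact minpoly.aeval K (π x)
  · rintro ⟨g, hg, hsep, hroot⟩
    obtain ⟨gK, hgK⟩ : g.map π ∈ Polynomial.lifts (algebraMap K L) := by
      rw [Polynomial.lifts_iff_coeff_lifts]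
      exact fun i => ⟨Ideal.Quotient.mk Q ⟨g.coeff i, fun γ => hg i γ⟩, (coeff_map π i).symm⟩
    change gK.map (algebraMap K L) = _ at hgK
    have h0 : Polynomial.aeval (π x) gK = 0 := by
      rw [aeval_def, ← eval_map, hgK, eval_map, eval₂_at_apply]
      exact Ideal.Quotient.eq_zero_iff_mem.2 (by simpa [aeval_def] using hroot)
    have hs : gK.Separable := (separable_map (algebraMap K L)).1 (hgK ▸ hsep)
    obtain ⟨y, hy, hyx⟩ := hsep_mem (π x) (hs.of_dvd (minpoly.dvd K _ h0))
    exact ⟨y, hy, Ideal.Quotient.eq.1 hyx.symm⟩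

end

/-- Let `B` be a commutative ring with an action of a finite group `Γ` by ring automorphisms, `P` a
maximal ideal of `B`, `T = {γ | γ x - x ∈ P for all x}` its inertia group, `B^T` the inertia ring
and `B^Γ` the ring of invariants, so that `k(P ∩ B^Γ) ⊆ k(P ∩ B^T) ⊆ k(P) = B/P`. Then `k(P ∩ B^T)`
is the largest separable extension of `k(P ∩ B^Γ)` inside `k(P)`: an element `x` of `B` is congruent
modulo `P` to a `T`-invariant element if and only if `x mod P` is a root of some polynomial with
`Γ`-invariant coefficients whose reduction modulo `P` is separable. (The published statement is for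
every prime ideal `P`, as an equality of residue fields; this row takes `P` maximal, the case to
which the published proof reduces by localising at `P ∩ B^Γ`.) -/
theorem result
    (B : Type u) [CommRing B] (Γ : Type v) [Group Γ] [Finite Γ] [MulSemiringAction Γ B]
    (P : Ideal B) [P.IsMaximal] (x : B) :
    (∃ y : B, (∀ γ : Γ, γ ∈ P.inertia Γ → γ • y = y) ∧ x - y ∈ P) ↔
      ∃ g : Polynomial B, (∀ (i : ℕ) (γ : Γ), γ • g.coeff i = g.coeff i) ∧
        (g.map (Ideal.Quotient.mk P)).Separable ∧ Polynomial.aeval x g ∈ P := by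
  exact main P x

end Groth.Agent.S12937
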