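import Groth.Statements.S12938
import Groth.Agent.H14AlgSt.DiagLFT

set_option autoImplicit false
set_option backward.isDefEq.respectTransparency false
set_option backward.isDefEq.respectTransparency.types false
universe u
open CategoryTheory AlgebraicGeometry
open AlgSt

namespace Groth.Agent.S12938

/-- For an algebraic stack over a base scheme, the diagonal over the base is representable by algebraic
spaces and locally of finite type. Equivalently: for a scheme T over the base and two objects x, y
of the stack over T, the algebraic space of isomorphisms from x to y is locally of finite type over
T (the published statement is this second form; the first form says it for every T-valued point of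
the twofold product over the base at once, and such a point is a pair of objects over T with an
isomorphism of their images in the base, which is no extra datum). -/
theorem result
    (S : Scheme.{u}) (𝒳 : AlgSt.Cat S)
    (h𝒳 : AlgSt.IsAlgStack Scheme.fppfPrecoverage 𝒳) :
    AlgSt.RepByAlgSpWith (AlgSp.LocP @LocallyOfFiniteType) (FibCat.diag (FibCat.toSelf 𝒳)) := by
  exact Groth.Agent.H14AlgSt.repWith_lft_diag_toSelf h𝒳

end Groth.Agent.S12938
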