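import Groth.Statements.S1294
import Groth.Agent.H7Flat.PureSpreadoutQuotient

set_option autoImplicit false
universe u
open FlatMor

namespace Groth.Agent.S1294

open H7Flat.PureSpreadoutQuotient TensorProduct AlgebraicGeometry CategoryTheory
set_option linter.style.haveILetI false
set_option maxHeartbeats 1600000
set_option synthInstance.maxHeartbeats 400000

open IsLocalRing in
/-- Let B be a finitely presented A-algebra, T ⊆ B a multiplicative subset and N a finitely presented
T⁻¹B-module. Then for every prime p of A there is a finitely generated ideal I of A_p contained in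
its maximal ideal such that, writing A₁ = A_p/I, B₁ = B ⊗_A A₁, T₁ for the image of T in B₁ and N₁
for the base change of N (a T₁⁻¹B₁-module; any models), the base-changed data admits a pure
spreadout over A₁. -/
theorem result {A B : Type u} [CommRing A] [CommRing B] [Algebra A B] [Algebra.FinitePresentation A B]
    (T : Submonoid B) (N : Type u) [AddCommGroup N] [Module (Localization T) N] [Module B N] [Module A N]
    [IsScalarTower B (Localization T) N] [IsScalarTower A (Localization T) N] [IsScalarTower A B N]
    [Module.FinitePresentation (Localization T) N] (p : Ideal A) [p.IsPrime] :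
    ∃ I : Ideal (Localization.AtPrime p), I.FG ∧ I ≤ maximalIdeal (Localization.AtPrime p) ∧
      ∀ (B₁ N₁ : Type u) [CommRing B₁] [Algebra B B₁] [Algebra (Localization.AtPrime p ⧸ I) B₁] [Algebra A B₁]
        [IsScalarTower A B B₁] [IsScalarTower A (Localization.AtPrime p ⧸ I) B₁]
        [Algebra.IsPushout A B (Localization.AtPrime p ⧸ I) B₁]
        [AddCommGroup N₁] [Module (Localization (T.map (algebraMap B B₁))) N₁] [Module (Localization.AtPrime p ⧸ I) N₁]
        [IsScalarTower (Localization.AtPrime p ⧸ I) (Localization (T.map (algebraMap B B₁))) N₁]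
        [Module B N₁] [IsScalarTower B (Localization (T.map (algebraMap B B₁))) N₁]
        [Module A N₁] [IsScalarTower A (Localization.AtPrime p ⧸ I) N₁] [IsScalarTower A B N₁]
        (h : N →ₗ[B] N₁), IsBaseChange (Localization.AtPrime p ⧸ I) (h.restrictScalars A) →
        FlatCA.HasPureSpreadout (Localization.AtPrime p ⧸ I) B₁ (T.map (algebraMap B B₁)) N₁ := by
  classical
  obtain ⟨NB, _, _, hNB, ⟨eN⟩⟩ := H7Flat.Chain.exists_fp_model T (B := Localization T) N
  haveI := hNB
  let j : NB →ₗ[B] N := (eN.toLinearMap.restrictScalars B).comp (TensorProduct.mk B (Localization T) NB 1)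
  haveI : IsLocalizedModule T j := (isLocalizedModule_iff_isBaseChange T (Localization T) j).mpr
    (IsBaseChange.of_equiv eN fun _ => rfl)
  obtain ⟨BL, _, _, _, _, _, _, _, _, NL, _, _, _, _, _, _, _, mk, hmk⟩ :=
    exists_baseChange_models (A := A) (B := B) (Localization.AtPrime p) NB
  exact exists_ideal_hasPureSpreadout T j mk hmk

end Groth.Agent.S1294
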