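import Groth.Statements.S12943
import Groth.Agent.H14AlgSt.Diag2

set_option autoImplicit false
set_option backward.isDefEq.respectTransparency false
set_option backward.isDefEq.respectTransparency.types false
universe u
open CategoryTheory AlgebraicGeometry
open AlgSt

namespace Groth.Agent.S12943

/-- For a morphism f of algebraic stacks that is representable by algebraic spaces, the following are
equivalent: f is separated (every base change to a scheme is a separated morphism of algebraic
spaces); the diagonal of f is a closed immersion; the diagonal of f is proper; the diagonal of f is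
universally closed. -/
theorem result
    (S : Scheme.{u}) (𝒳 : AlgSt.Cat S) (𝒴 : AlgSt.Cat S)
    (h𝒳 : AlgSt.IsAlgStack Scheme.fppfPrecoverage 𝒳)
    (h𝒴 : AlgSt.IsAlgStack Scheme.fppfPrecoverage 𝒴)
    (f : 𝒳 ⥤ᵇ 𝒴)
    (hf : AlgSt.RepByAlgSp1 f) :
    [AlgSt.RepByAlgSpWith AlgSp.IsSeparatedMor f, AlgSt.IsClosedImm (FibCat.diag f),
      AlgSt.IsSeparatedMor f, AlgSt.RepByAlgSpWith AlgSp.IsUnivClosedMor (FibCat.diag f)].TFAE := by
  open Groth.Agent Groth.Agent.H14AlgSt in
  have hCI : AlgSt.RepByAlgSpWith AlgSp.IsSeparatedMor f ↔ AlgSt.IsClosedImm (FibCat.diag f) :=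
    (repWith_diag_iff_diagonal @IsClosedImmersion hf).symm
  tfae_have 1 ↔ 2 := hCI
  tfae_have 2 → 3 := fun h => Groth.Agent.H14AlgSt.repWith_mono
    (fun _ _ hG h => Groth.Agent.H12AlgSp.isProperMor_of_isClosedImmersion hG h) h
  tfae_have 3 → 4 := fun h => Groth.Agent.H14AlgSt.repWith_mono (fun _ _ _ h => h.2.2) h
  tfae_have 4 → 2 := fun h => Groth.Agent.H14AlgSt.repWith_diag_transfer
    Groth.Agent.H14AlgSt.sourceIsoInv_univClosed
    (Groth.Agent.H14AlgSt.sourceIsoInv_of_respectsIso _) h𝒳 h𝒴 hf (fun U V v hm hl hu => by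
      have : UniversallyClosed v.left := (AlgSp.repWith_yon_map_iff _ v).1
        ((Groth.Agent.H12AlgSp.repWith_universallyClosed_iff (AlgSp.representable_yon_map v)).2 hu)
      have : IsIso (Limits.pullback.diagonal v.left) :=
        (Limits.pullback.isIso_diagonal_iff _).2 inferInstance
      have : IsSeparated v.left := ⟨inferInstance⟩
      have : IsProper v.left := {}
      exact (AlgSp.repWith_yon_map_iff _ v).2
        ((IsClosedImmersion.iff_isProper_and_mono v.left).2 ⟨inferInstance, inferInstance⟩)) h
  tfae_finish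

end Groth.Agent.S12943
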