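import Groth.Statements.S12944
import Groth.Agent.H14AlgSt.Diag2

set_option autoImplicit false
set_option backward.isDefEq.respectTransparency false
set_option backward.isDefEq.respectTransparency.types false
universe u
open CategoryTheory AlgebraicGeometry
open AlgSt

namespace Groth.Agent.S12944

/-- For a morphism f of algebraic stacks that is representable by algebraic spaces, these three
conditions coincide: f is quasi-separated (every base change to a scheme is a quasi-separated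
morphism of algebraic spaces); the diagonal of f is quasi-compact; the diagonal of f is of finite
type. -/
theorem result
    (S : Scheme.{u}) (𝒳 : AlgSt.Cat S) (𝒴 : AlgSt.Cat S)
    (h𝒳 : AlgSt.IsAlgStack Scheme.fppfPrecoverage 𝒳)
    (h𝒴 : AlgSt.IsAlgStack Scheme.fppfPrecoverage 𝒴)
    (f : 𝒳 ⥤ᵇ 𝒴)
    (hf : AlgSt.RepByAlgSp1 f) :
    [AlgSt.RepByAlgSpWith AlgSp.IsQuasiSeparatedMor f,
      AlgSt.RepByAlgSpWith AlgSp.IsQuasiCompactMor (FibCat.diag f),
      AlgSt.RepByAlgSpWith AlgSp.IsFiniteTypeMor (FibCat.diag f)].TFAE := by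
  tfae_have 1 → 2 := fun h => Groth.Agent.H14AlgSt.repWith_diag_transfer
    (Groth.Agent.H14AlgSt.sourceIsoInv_of_respectsIso _) Groth.Agent.H14AlgSt.sourceIsoInv_qc
    h𝒳 h𝒴 hf (fun U V v _ _ hq => (Groth.Agent.H14AlgSt.isQuasiCompactMor_yon_iff v).2
      ((AlgSp.repWith_yon_map_iff _ v).1 hq))
    ((Groth.Agent.H14AlgSt.repWith_diag_iff_diagonal @QuasiCompact hf).2 h)
  tfae_have 2 → 3 := fun h => Groth.Agent.H14AlgSt.repWith_diag_transfer
    Groth.Agent.H14AlgSt.sourceIsoInv_qc Groth.Agent.H14AlgSt.sourceIsoInv_finiteType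
    h𝒳 h𝒴 hf (fun U V v _ hl hq => ⟨Groth.Agent.H12AlgSp.locP_of_repWith
      Groth.Agent.H12AlgSp.etLocal_lft ((AlgSp.repWith_yon_map_iff _ v).2 hl), hq⟩) h
  tfae_have 3 → 1 := fun h => (Groth.Agent.H14AlgSt.repWith_diag_iff_diagonal @QuasiCompact hf).1
    (Groth.Agent.H14AlgSt.repWith_diag_transfer Groth.Agent.H14AlgSt.sourceIsoInv_finiteType
      (Groth.Agent.H14AlgSt.sourceIsoInv_of_respectsIso _) h𝒳 h𝒴 hf (fun U V v _ _ hq =>
        (AlgSp.repWith_yon_map_iff _ v).2
          ((Groth.Agent.H14AlgSt.isQuasiCompactMor_yon_iff v).1 hq.2)) h)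
  tfae_finish

end Groth.Agent.S12944
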