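import Groth.Statements.S12945
import Groth.Agent.H14AlgSt.Diag2

set_option autoImplicit false
set_option backward.isDefEq.respectTransparency false
set_option backward.isDefEq.respectTransparency.types false
universe u
open CategoryTheory AlgebraicGeometry
open AlgSt

namespace Groth.Agent.S12945

/-- For a morphism f of algebraic stacks that is representable by algebraic spaces, f is quasi-separated
in the sense of stacks (diagonal quasi-compact and quasi-separated) if and only if every base change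
of f to a scheme is a quasi-separated morphism of algebraic spaces. (For such f the diagonal is
separated, so the two notions of quasi-separated agree.) -/
theorem result
    (S : Scheme.{u}) (𝒳 : AlgSt.Cat S) (𝒴 : AlgSt.Cat S)
    (h𝒳 : AlgSt.IsAlgStack Scheme.fppfPrecoverage 𝒳)
    (h𝒴 : AlgSt.IsAlgStack Scheme.fppfPrecoverage 𝒴)
    (f : 𝒳 ⥤ᵇ 𝒴)
    (hf : AlgSt.RepByAlgSp1 f) :
    AlgSt.IsQuasiSeparatedMor f ↔ AlgSt.RepByAlgSpWith AlgSp.IsQuasiSeparatedMor f := by
  refine ⟨fun h => (Groth.Agent.H14AlgSt.repWith_diag_iff_diagonal @QuasiCompact hf).1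
    (Groth.Agent.H14AlgSt.repWith_diag_transfer Groth.Agent.H14AlgSt.sourceIsoInv_qc
      (Groth.Agent.H14AlgSt.sourceIsoInv_of_respectsIso _) h𝒳 h𝒴 hf (fun U V v _ _ hq =>
        (AlgSp.repWith_yon_map_iff _ v).2
          ((Groth.Agent.H14AlgSt.isQuasiCompactMor_yon_iff v).1 hq))
      (Groth.Agent.H14AlgSt.repWith_mono (fun _ _ _ h => h.1) h)), fun h => ?_⟩
  refine Groth.Agent.H14AlgSt.repWith_diag_transfer
    (Groth.Agent.H14AlgSt.sourceIsoInv_of_respectsIso _)
    (Groth.Agent.H14AlgSt.BaseStable.sourceIsoInv Groth.Agent.H14AlgSt.baseStable_qcqs) h𝒳 h𝒴 hf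
    (fun U V v _ _ hq => ⟨(Groth.Agent.H14AlgSt.isQuasiCompactMor_yon_iff v).2
      ((AlgSp.repWith_yon_map_iff _ v).1 hq), ?_⟩)
    ((Groth.Agent.H14AlgSt.repWith_diag_iff_diagonal @QuasiCompact hf).2 h)
  exact (AlgSp.isQuasiSeparatedMor_yon_map_iff v).2 inferInstance

end Groth.Agent.S12945
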