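import Groth.Statements.S1295
import Groth.Agent.H7Flat.PureDescendStage

set_option autoImplicit false
universe u
open FlatMor

namespace Groth.Agent.S1295

open H7Flat.PureDescend

/-- The system of algebras over a stage. -/
noncomputable def sysGE {ι : Type u} [Preorder ι] {G : ι → Type u} [∀ i, CommRing (G i)]
    {g : ∀ i j, i ≤ j → G i →+* G j} {A : Type u} [CommRing A] [∀ i, Algebra (G i) A]
    (h : FlatCA.IsDirectedColimitRing G g A) (i₀ : ι) :
    letI : ∀ m : {m : ι // i₀ ≤ m}, Algebra (G i₀) (G m.1) := fun m => (g i₀ m.1 m.2).toAlgebra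
    H8Props.FunDescent.Stage.Sys (R := G i₀) (fun m : {m : ι // i₀ ≤ m} => G m.1) A Arrow :=
  letI : ∀ m : {m : ι // i₀ ≤ m}, Algebra (G i₀) (G m.1) := fun m => (g i₀ m.1 m.2).toAlgebra
  haveI := h.1
  { g := fun m =>
      { toRingHom := algebraMap (G m.1) A
        commutes' := fun x => RingHom.congr_fun (h.2.2.2.2.1 i₀ m.1 m.2) x }
    m := fun {a b} hab =>
      { toRingHom := g a.1 b.1 hab.down
        commutes' := fun x => RingHom.congr_fun (h.2.2.2.1 i₀ a.1 b.1 a.2 hab.down) x }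
    w := fun {a b} hab x => RingHom.congr_fun (h.2.2.2.2.1 a.1 b.1 hab.down) x
    comp := fun {a b c} u v =>
      ⟨⟨u.down.trans v.down⟩, fun x => (RingHom.congr_fun (h.2.2.2.1 a.1 b.1 c.1 u.down v.down) x).symm⟩
    dir := fun a b => by
      obtain ⟨c, hac, hbc⟩ := directed_of (· ≤ ·) a.1 b.1
      exact ⟨⟨c, a.2.trans hac⟩, ⟨⟨hac⟩⟩, ⟨⟨hbc⟩⟩⟩
    ne := ⟨⟨i₀, le_rfl⟩⟩
    surj := fun y => by
      obtain ⟨i, x, hx⟩ := h.2.2.2.2.2.1 y
      obtain ⟨c, hac, hbc⟩ := directed_of (· ≤ ·) i₀ i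
      exact ⟨⟨c, hac⟩, g i c hbc x, (RingHom.congr_fun (h.2.2.2.2.1 i c hbc) x).trans hx⟩
    eq := fun a x y hxy => by
      obtain ⟨c, hac, hc⟩ := h.2.2.2.2.2.2 a.1 (x - y) (by
        rw [map_sub, sub_eq_zero]; exact hxy)
      exact ⟨⟨c, a.2.trans hac⟩, ⟨hac⟩, sub_eq_zero.mp ((map_sub _ _ _).symm.trans hc)⟩ }

/-- A map from a finitely presented ring factors through a stage. -/
theorem exists_lift {ι : Type u} [Preorder ι] {G : ι → Type u} [∀ i, CommRing (G i)]
    {g : ∀ i j, i ≤ j → G i →+* G j} {A : Type u} [CommRing A] [∀ i, Algebra (G i) A]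
    (h : FlatCA.IsDirectedColimitRing G g A) (R : Type u) [CommRing R] [Algebra.FinitePresentation ℤ R]
    (φ : R →+* A) : ∃ (i : ι) (ψ : R →+* G i), (algebraMap (G i) A).comp ψ = φ := by
  classical
  obtain ⟨hdir, hne, -, hcomp, hw, hsurj, hker⟩ := h
  haveI := hdir
  haveI := hne
  obtain ⟨n, π, hπ, hfg⟩ := Algebra.FinitePresentation.out (R := ℤ) (A := R)
  choose il xl hxl using fun l => hsurj (φ (π (MvPolynomial.X l)))
  obtain ⟨i, hi⟩ := Finite.exists_le il
  let ψ₀ : MvPolynomial (Fin n) ℤ →+* G i :=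
    (MvPolynomial.aeval (R := ℤ) fun l => g (il l) i (hi l) (xl l)).toRingHom
  have hψ₀ : ∀ z, algebraMap (G i) A (ψ₀ z) = φ (π z) := by
    intro z
    have : (algebraMap (G i) A).comp ψ₀ = φ.comp π.toRingHom :=
      MvPolynomial.ringHom_ext (fun c => by simp) fun l => by
        simp only [ψ₀, RingHom.comp_apply, AlgHom.toRingHom_eq_coe, RingHom.coe_coe, MvPolynomial.aeval_X]
        exact (RingHom.congr_fun (hw _ _ (hi l)) (xl l)).trans (hxl l)
    exact RingHom.congr_fun this z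
  obtain ⟨s, hs⟩ := hfg
  have hzero : ∀ z : s, ∃ j, ∃ hij : i ≤ j, g i j hij (ψ₀ z.1) = 0 := fun z => hker i _ (by
    rw [hψ₀, show π z.1 = 0 from hs.le (Ideal.subset_span z.2), map_zero])
  choose jz hjz hgz using hzero
  obtain ⟨j', hj'⟩ := Finite.exists_le jz
  obtain ⟨j, hij, hjj⟩ := directed_of (· ≤ ·) i j'
  have hk : RingHom.ker π.toRingHom ≤ RingHom.ker ((g i j hij).comp ψ₀) := by
    rw [show RingHom.ker π.toRingHom = Ideal.span (s : Set (MvPolynomial (Fin n) ℤ)) from hs.symm]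
    refine Ideal.span_le.mpr fun z hz => ?_
    show g i j hij (ψ₀ z) = 0
    rw [← hcomp i (jz ⟨z, hz⟩) j (hjz _) ((hj' _).trans hjj), RingHom.comp_apply, hgz ⟨z, hz⟩, map_zero]
  let ψ : R →+* G j := RingHom.liftOfSurjective π.toRingHom hπ ⟨(g i j hij).comp ψ₀, hk⟩
  refine ⟨j, ψ, RingHom.ext fun r => ?_⟩
  obtain ⟨z, rfl⟩ := hπ r
  show algebraMap (G j) A (ψ (π.toRingHom z)) = φ (π z)
  rw [show ψ (π.toRingHom z) = g i j hij (ψ₀ z) from RingHom.liftOfSurjective_comp_apply _ _ _ z]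
  exact (RingHom.congr_fun (hw i j hij) _).trans (hψ₀ z)

/-- Ring form, X = Spec B and the S_i = Spec A_i affine: let A be the colimit of a directed system of
rings (A_i), p a prime of A with contractions p_i, B a finitely presented A-algebra and N a finitely
presented B-module which is pure along the fibre over p and flat over A at every prime of B over p.
Then for some index i there are a finitely presented A_i-algebra B_i with B ≅ B_i ⊗_{A_i} A and a
finitely presented B_i-module N_i with N ≅ N_i ⊗_{B_i} B, such that N_i is pure along the fibre over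
p_i and flat over A_i at every prime of B_i over p_i. -/
theorem result {ι : Type u} [Preorder ι] (G : ι → Type u) [∀ i, CommRing (G i)]
    (g : ∀ i j, i ≤ j → G i →+* G j) {A : Type u} [CommRing A] [∀ i, Algebra (G i) A] (hcolim : FlatCA.IsDirectedColimitRing G g A)
    {B : Type u} [CommRing B] [Algebra A B] [Algebra.FinitePresentation A B]
    (N : Type u) [AddCommGroup N] [Module B N] [Module A N] [IsScalarTower A B N] [Module.FinitePresentation B N]
    (p : Ideal A) [p.IsPrime] (hpure : FlatCA.IsPureAlong A B N p)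
    (hflat : ∀ (q : Ideal B) [q.IsPrime], q.LiesOver p → FlatCA.FlatAt A q N) :
    ∃ (i : ι) (Bi Ni : Type u) (_ : CommRing Bi) (_ : Algebra (G i) Bi) (_ : Algebra Bi B) (_ : Algebra (G i) B)
      (_ : IsScalarTower (G i) A B) (_ : IsScalarTower (G i) Bi B)
      (_ : AddCommGroup Ni) (_ : Module Bi Ni) (_ : Module (G i) Ni) (_ : IsScalarTower (G i) Bi Ni)
      (_ : Module Bi N) (_ : IsScalarTower Bi B N) (f : Ni →ₗ[Bi] N),
      Algebra.FinitePresentation (G i) Bi ∧ Algebra.IsPushout (G i) Bi A B ∧ Module.FinitePresentation Bi Ni ∧ IsBaseChange B f ∧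
      FlatCA.IsPureAlong (G i) Bi Ni (p.comap (algebraMap (G i) A)) ∧
      ∀ (q : Ideal Bi) [q.IsPrime], q.LiesOver (p.comap (algebraMap (G i) A)) → FlatCA.FlatAt (G i) q Ni := by
  classical
  obtain ⟨R₀, S₀, _, _, _, _, _, _, _, _, M₀, _, _, hR₀, hS₀, hM₀, hpush, ⟨e⟩⟩ :=
    exists_model_pushout A B N
  haveI := hR₀
  haveI := hS₀
  haveI := hM₀
  haveI := hpush
  -- a first stage
  obtain ⟨i₀, ψ, hψ⟩ := exists_lift hcolim R₀ (algebraMap R₀ A)
  letI : Algebra R₀ (G i₀) := ψ.toAlgebra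
  haveI : IsScalarTower R₀ (G i₀) A := IsScalarTower.of_algebraMap_eq fun r => (RingHom.congr_fun hψ r).symm
  obtain ⟨B₀, N₀, _, _, _, _, _, _, _, _, _, _, _, _, f₀, hB₀, hpush₀, hN₀, hf₀, -⟩ :=
    exists_model_at (R := R₀) (A := A) (G := G i₀) e
  haveI := hB₀
  haveI := hN₀
  haveI := hpush₀
  letI aG₀ : ∀ m : {m : ι // i₀ ≤ m}, Algebra (G i₀) (G m.1) := fun m => (g i₀ m.1 m.2).toAlgebra
  obtain ⟨n, hn⟩ := exists_stage_flatAlong (sysGE hcolim i₀) f₀ hf₀ p hflat
  -- the stage where the module is flat along the fibre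
  haveI : IsScalarTower (G i₀) (G n.1) A := IsScalarTower.of_algebraMap_eq fun x =>
    (RingHom.congr_fun (hcolim.2.2.2.2.1 i₀ n.1 n.2) x).symm
  obtain ⟨B₁, N₁, _, _, _, _, _, _, _, _, _, _, _, _, f₁, hB₁, hpush₁, hN₁, hf₁, _, _, _, _, _, _, fM₁,
    hp₁, hfM₁⟩ := exists_model_at (R := G i₀) (A := A) (G := G n.1) (M := N₀) hf₀.equiv
  haveI := hB₁
  haveI := hN₁
  haveI := hpush₁
  haveI := hp₁
  have hflat₁ : ∀ (q : Ideal B₁) [q.IsPrime], q.LiesOver (p.comap (algebraMap (G n.1) A)) →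
      FlatCA.FlatAt (G n.1) q N₁ := fun q _ hq => hn B₁ N₁ fM₁ hfM₁ q hq
  letI aG₁ : ∀ m : {m : ι // n.1 ≤ m}, Algebra (G n.1) (G m.1) := fun m => (g n.1 m.1 m.2).toAlgebra
  obtain ⟨m, hm⟩ := exists_stage_pure (sysGE hcolim n.1) f₁ hf₁ p hflat₁ hpure
  haveI : IsScalarTower (G n.1) (G m.1) A := IsScalarTower.of_algebraMap_eq fun x =>
    (RingHom.congr_fun (hcolim.2.2.2.2.1 n.1 m.1 m.2) x).symm
  obtain ⟨Bi, Ni, _, _, _, _, _, _, _, _, _, _, _, _, f, hBi, hpushi, hNi, hf, _, _, _, _, _, _, fM,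
    hpi, hfM⟩ := exists_model_at (R := G n.1) (A := A) (G := G m.1) (M := N₁) hf₁.equiv
  haveI := hpi
  refine ⟨m.1, Bi, Ni, inferInstance, inferInstance, inferInstance, inferInstance, inferInstance,
    inferInstance, inferInstance, inferInstance, inferInstance, inferInstance, inferInstance, inferInstance,
    f, hBi, hpushi, hNi, hf, hm Bi Ni fM hfM, fun q _ hq => ?_⟩
  letI : Module (G n.1) Ni := Module.compHom Ni (algebraMap (G n.1) Bi)
  haveI : IsScalarTower (G n.1) Bi Ni := IsScalarTower.of_algebraMap_smul fun _ _ => rfl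
  haveI : IsScalarTower (G n.1) (G m.1) Ni := IsScalarTower.of_algebraMap_smul fun a (x : Ni) => by
    rw [← algebraMap_smul Bi (algebraMap (G n.1) (G m.1) a) x, ← IsScalarTower.algebraMap_apply, algebraMap_smul]
  haveI : IsScalarTower (G n.1) B₁ Ni := IsScalarTower.of_algebraMap_smul fun a (x : Ni) => by
    rw [← algebraMap_smul Bi (algebraMap (G n.1) B₁ a) x, ← IsScalarTower.algebraMap_apply, algebraMap_smul]
  refine H8Props.FlatAtBC.flat_localizedModule_of_comap (R := G n.1) (S := B₁) fM hfM q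
    (hflat₁ _ ⟨?_⟩)
  rw [Ideal.under_def, Ideal.comap_comap, ← IsScalarTower.algebraMap_eq,
    IsScalarTower.algebraMap_eq (G n.1) (G m.1) Bi, ← Ideal.comap_comap,
    show Ideal.comap (algebraMap (G m.1) Bi) q = p.comap (algebraMap (G m.1) A) from hq.over.symm,
    Ideal.comap_comap, ← IsScalarTower.algebraMap_eq]

end Groth.Agent.S1295
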