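import Groth.Statements.S12955
import Groth.Agent.H14AlgSt.DiagProps

set_option autoImplicit false
set_option backward.isDefEq.respectTransparency false
set_option backward.isDefEq.respectTransparency.types false
universe u
open CategoryTheory AlgebraicGeometry
open AlgSt

namespace Groth.Agent.S12955

/-- The composition of two quasi-separated morphisms of algebraic stacks is quasi-separated
(quasi-separated: the diagonal is representable by algebraic spaces and quasi-compact and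
quasi-separated). -/
theorem result
    (S : Scheme.{u}) (𝒳 : AlgSt.Cat S) (𝒴 : AlgSt.Cat S) (𝒵 : AlgSt.Cat S)
    (h𝒳 : AlgSt.IsAlgStack Scheme.fppfPrecoverage 𝒳)
    (h𝒴 : AlgSt.IsAlgStack Scheme.fppfPrecoverage 𝒴)
    (h𝒵 : AlgSt.IsAlgStack Scheme.fppfPrecoverage 𝒵)
    (f : 𝒳 ⥤ᵇ 𝒴) (g : 𝒴 ⥤ᵇ 𝒵) :
    AlgSt.IsQuasiSeparatedMor f → AlgSt.IsQuasiSeparatedMor g → AlgSt.IsQuasiSeparatedMor (BasedFunctor.comp f g) := by
  exact Groth.Agent.H14AlgSt.repWith_diag_comp
    (Groth.Agent.H14AlgSt.BaseStable.sourceIsoInv Groth.Agent.H14AlgSt.baseStable_qcqs)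
    Groth.Agent.H14AlgSt.testOnSchemes_qcqs
    (fun _ _ _ hA hB hC _ _ ha hb => ⟨Groth.Agent.H12AlgSp.isQuasiCompactMor_comp hB hC ha.1 hb.1,
      Groth.Agent.H14AlgSt.isQuasiSeparatedMor_comp ha.2 hb.2⟩)
    h𝒳.isStack.1 h𝒴.isStack.1

end Groth.Agent.S12955
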