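import Groth.Statements.S12958
import Groth.Agent.H14AlgSt.DiagProps

set_option autoImplicit false
set_option backward.isDefEq.respectTransparency false
set_option backward.isDefEq.respectTransparency.types false
universe u
open CategoryTheory AlgebraicGeometry
open AlgSt

namespace Groth.Agent.S12958

/-- If the composite of f : 𝒳 → 𝒴 and g : 𝒴 → 𝒵 (morphisms of algebraic stacks) is separated and the
diagonal of g is separated (as a morphism representable by algebraic spaces), then f is separated. -/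
theorem result
    (S : Scheme.{u}) (𝒳 : AlgSt.Cat S) (𝒴 : AlgSt.Cat S) (𝒵 : AlgSt.Cat S)
    (h𝒳 : AlgSt.IsAlgStack Scheme.fppfPrecoverage 𝒳)
    (h𝒴 : AlgSt.IsAlgStack Scheme.fppfPrecoverage 𝒴)
    (h𝒵 : AlgSt.IsAlgStack Scheme.fppfPrecoverage 𝒵)
    (f : 𝒳 ⥤ᵇ 𝒴) (g : 𝒴 ⥤ᵇ 𝒵) :
    AlgSt.IsSeparatedMor (BasedFunctor.comp f g) →
      AlgSt.RepByAlgSpWith AlgSp.IsSeparatedMor (FibCat.diag g) → AlgSt.IsSeparatedMor f := by
  exact fun h hg => Groth.Agent.H14AlgSt.repWith_diag_cancel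
    Groth.Agent.H14AlgSt.baseStable_proper
    (fun _ _ _ hX hY hZ _ _ hb hab => Groth.Agent.H12AlgSp.isProperMor_of_comp hX hY hZ hab hb)
    h𝒳.isStack.1 h𝒴.isStack.1 (Groth.Agent.H14AlgSt.rep1_diag_of_algStack h𝒳 h𝒴 f) hg h

end Groth.Agent.S12958
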