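-- statement FlatMor.GrothFrozen.S1296 (Groth/Statements/S1296.lean; the theorem FlatMor.hasImpurity_over_some_stage_of_directed_colimit);
import Groth.Statements.S1296
import Groth.Agent.H7Flat.ImpurityDescend

set_option autoImplicit false
universe u
open FlatMor

namespace Groth.Agent.S1296
open scoped TensorProduct
set_option backward.isDefEq.respectTransparency false
set_option maxHeartbeats 1000000
set_option synthInstance.maxHeartbeats 400000

/-- Ring form, X = Spec B affine, T = Spec A' with A' the colimit of a directed system of A-algebras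
A'_i: let B be a finite type A-algebra, N a finite B-module, p a prime of A, and suppose given an
impurity of N above p with base change ring A' and points t' ⊆ t. Then for some index i there is an
impurity of N above p whose base change ring is A'_i (up to an A-isomorphism) and whose point t
corresponds to the contraction of t to A'_i. -/
theorem result {A B : Type u} [CommRing A] [CommRing B] [Algebra A B] [Algebra.FiniteType A B]
    (N : Type u) [AddCommGroup N] [Module B N] [Module.Finite B N] (p : Ideal A) [p.IsPrime]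
    {ι : Type u} [Preorder ι] (G : ι → Type u) [∀ i, CommRing (G i)] [∀ i, Algebra A (G i)]
    (g : ∀ i j, i ≤ j → G i →ₐ[A] G j)
    (A' : Type u) [CommRing A'] [Algebra A A'] [∀ i, Algebra (G i) A'] [∀ i, IsScalarTower A (G i) A']
    (hcolim : FlatCA.IsDirectedColimitRing G (fun i j h => (g i j h).toRingHom) A')
    (B' N' : Type u) [CommRing B'] [Algebra B B'] [Algebra A' B'] [Algebra A B'] [IsScalarTower A B B'] [IsScalarTower A A' B']
    [AddCommGroup N'] [Module B' N'] [Module B N'] [IsScalarTower B B' N'] [Module A' N'] [IsScalarTower A' B' N']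
    (f : N →ₗ[B] N') (t' t : Ideal A') [t'.IsPrime] [t.IsPrime] (P : Ideal B') [P.IsPrime]
    (himp : FlatCA.IsImpurity A B N p A' B' N' f t' t P) :
    ∃ i : ι, FlatCA.HasImpurity A B N p (fun A'' _ _ t'' => ∃ e : A'' ≃ₐ[A] G i, t''.map e = t.comap (algebraMap (G i) A')) := by
  let : ∀ i, Algebra B (G i ⊗[A] B) := fun _ => Algebra.TensorProduct.rightAlgebra
  have hB : ∀ i, IsScalarTower A B (G i ⊗[A] B) := fun i => IsScalarTower.of_algebraMap_eq fun a => by
    exact ((Algebra.TensorProduct.includeRight : B →ₐ[A] G i ⊗[A] B).commutes a).symm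
  obtain ⟨hpush, hbc, htt, htp, hPt', hass, hnone⟩ := himp
  obtain ⟨hdir, -, -, -, hcomp, hsurj, -⟩ := hcolim
  let φ : ∀ i, G i ⊗[A] B →ₐ[A] B' := fun i => Algebra.TensorProduct.lift
    ((IsScalarTower.toAlgHom A A' B').comp (IsScalarTower.toAlgHom A (G i) A'))
    (IsScalarTower.toAlgHom A B B') (fun _ _ => mul_comm _ _)
  have hφl : ∀ i x, φ i (x ⊗ₜ[A] 1) = algebraMap A' B' (algebraMap (G i) A' x) := fun i x => by
    simp [φ]
  have hφr : ∀ i b, φ i (1 ⊗ₜ[A] b) = algebraMap B B' b := fun i b => by simp [φ]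
  let T : ∀ i j, i ≤ j → G i ⊗[A] B →ₐ[A] G j ⊗[A] B := fun i j h =>
    Algebra.TensorProduct.map (g i j h) (AlgHom.id A B)
  have hgA : ∀ i j (h : i ≤ j) x, algebraMap (G j) A' (g i j h x) = algebraMap (G i) A' x :=
    fun i j h x => RingHom.congr_fun (hcomp i j h) x
  have hT : ∀ i j (h : i ≤ j) z, φ j (T i j h z) = φ i z := fun i j h z => by
    induction z using TensorProduct.induction_on with
    | zero => simp
    | add x y hx hy => simp only [map_add, hx, hy]
    | tmul x b => simp [φ, T, hgA]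
  let tI : ∀ i, Ideal (G i ⊗[A] B) := fun i =>
    (t.comap (algebraMap (G i) A')).map (algebraMap (G i) (G i ⊗[A] B))
  have hTt : ∀ i j (h : i ≤ j), ∀ z ∈ tI i, T i j h z ∈ tI j := fun i j h z hz => by
    revert z
    change tI i ≤ (tI j).comap (T i j h)
    rw [Ideal.map_le_iff_le_comap]
    intro x hx
    change T i j h (x ⊗ₜ[A] 1) ∈ tI j
    rw [Algebra.TensorProduct.map_tmul, map_one]
    refine Ideal.mem_map_of_mem _ ?_
    change algebraMap (G j) A' (g i j h x) ∈ t
    rw [hgA]
    exact hx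
  have hgen : ∀ y : B', ∃ i, ∃ z, φ i z = y := by
    intro y
    refine hpush.out.inductionOn y (fun y => ∃ i, ∃ z, φ i z = y) ?_ ?_ ?_ ?_
    · obtain ⟨i, -⟩ := hsurj 0
      exact ⟨i, 0, map_zero _⟩
    · intro a
      obtain ⟨i, x, rfl⟩ := hsurj a
      exact ⟨i, x ⊗ₜ[A] 1, hφl i x⟩
    · rintro b _ ⟨i, z, rfl⟩
      exact ⟨i, 1 ⊗ₜ[A] b * z, by rw [map_mul, hφr, Algebra.smul_def]⟩
    · rintro _ _ ⟨i, z, rfl⟩ ⟨j, w, rfl⟩
      obtain ⟨k, hik, hjk⟩ := directed_of (· ≤ ·) i j
      exact ⟨k, T i k hik z + T j k hjk w, by rw [map_add, hT, hT]⟩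
  have hgt : ∀ y ∈ t.map (algebraMap A' B'), ∃ i, ∃ z ∈ tI i, φ i z = y := by
    intro y hy
    induction hy using Submodule.span_induction with
    | mem y hy =>
      obtain ⟨a, ha, rfl⟩ := hy
      obtain ⟨i, x, rfl⟩ := hsurj a
      exact ⟨i, x ⊗ₜ[A] 1, Ideal.mem_map_of_mem _ ha, hφl i x⟩
    | zero =>
      obtain ⟨i, -⟩ := hsurj 0
      exact ⟨i, 0, zero_mem _, map_zero _⟩
    | add y₁ y₂ _ _ h₁ h₂ =>
      obtain ⟨i, z, hz, rfl⟩ := h₁
      obtain ⟨j, w, hw, rfl⟩ := h₂
      obtain ⟨k, hik, hjk⟩ := directed_of (· ≤ ·) i j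
      exact ⟨k, _, add_mem (hTt i k hik z hz) (hTt j k hjk w hw), by rw [map_add, hT, hT]⟩
    | smul c y _ h =>
      obtain ⟨i, z, hz, rfl⟩ := h
      obtain ⟨j, w, rfl⟩ := hgen c
      obtain ⟨k, hik, hjk⟩ := directed_of (· ≤ ·) i j
      exact ⟨k, _, Ideal.mul_mem_left _ (T j k hjk w) (hTt i k hik z hz),
        by rw [map_mul, hT, hT, smul_eq_mul]⟩
  have hmeet : ∃ a ∉ t, algebraMap A' B' a ∈ P ⊔ t.map (algebraMap A' B') := by
    by_contra hcon
    push_neg at hcon
    obtain ⟨P', hP', hle, hdisj⟩ := Ideal.exists_le_prime_disjoint _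
      (Algebra.algebraMapSubmonoid B' t.primeCompl) (Set.disjoint_left.mpr fun y hy hy' => by
        obtain ⟨a, ha, rfl⟩ := hy'
        exact hcon a ha hy)
    have := hP'
    refine hnone P' (le_sup_left.trans hle) ⟨le_antisymm ?_ ?_⟩
    · intro a ha
      exact Ideal.map_le_iff_le_comap.mp (le_sup_right.trans hle) ha
    · intro a ha
      by_contra hat
      exact Set.disjoint_left.mp hdisj ha ⟨a, hat, rfl⟩
  obtain ⟨a, ha, hmem⟩ := hmeet
  obtain ⟨π, hπ, y, hy, hsum⟩ := Submodule.mem_sup.mp hmem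
  obtain ⟨i₀, a₀, rfl⟩ := hsurj a
  obtain ⟨i₁, z, hz, rfl⟩ := hgt y hy
  obtain ⟨i, h0, h1⟩ := directed_of (· ≤ ·) i₀ i₁
  refine ⟨i, ?_⟩
  let : Algebra (G i ⊗[A] B) B' := (φ i).toRingHom.toAlgebra
  let : Algebra (G i) B' := ((algebraMap A' B').comp (algebraMap (G i) A')).toAlgebra
  have : IsScalarTower (G i) A' B' := IsScalarTower.of_algebraMap_eq fun _ => rfl
  have : IsScalarTower (G i) (G i ⊗[A] B) B' :=
    IsScalarTower.of_algebraMap_eq fun x => (hφl i x).symm
  have : IsScalarTower B (G i ⊗[A] B) B' :=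
    IsScalarTower.of_algebraMap_eq fun b => (hφr i b).symm
  have : IsScalarTower A (G i) B' := IsScalarTower.of_algebraMap_eq fun c => by
    change _ = algebraMap A' B' (algebraMap (G i) A' (algebraMap A (G i) c))
    rw [← IsScalarTower.algebraMap_apply A (G i) A', ← IsScalarTower.algebraMap_apply A A' B']
  have : IsScalarTower A (G i ⊗[A] B) B' :=
    IsScalarTower.of_algebraMap_eq fun c => ((φ i).commutes c).symm
  have hpo : Algebra.IsPushout A B (G i) (G i ⊗[A] B) := Algebra.IsPushout.symm inferInstance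
  have : Algebra.IsPushout (G i) (G i ⊗[A] B) A' B' := by
    have : Algebra.IsPushout A (G i) B (G i ⊗[A] B) := inferInstance
    have h2 : Algebra.IsPushout A A' B B' := Algebra.IsPushout.symm hpush
    exact ((Algebra.IsPushout.comp_iff A (G i) B (G i ⊗[A] B) (T := A') (T' := B')).mp h2).symm
  let fi : N →ₗ[B] (G i ⊗[A] B) ⊗[B] N := TensorProduct.mk B _ N 1
  have hfi : IsBaseChange (G i ⊗[A] B) fi := TensorProduct.isBaseChange B N (G i ⊗[A] B)
  let : Module (G i ⊗[A] B) N' := Module.compHom N' (algebraMap (G i ⊗[A] B) B')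
  have : IsScalarTower (G i ⊗[A] B) B' N' := IsScalarTower.of_algebraMap_smul fun _ _ => rfl
  have : IsScalarTower B (G i ⊗[A] B) N' := IsScalarTower.of_algebraMap_smul fun b n => by
    change algebraMap (G i ⊗[A] B) B' (algebraMap B (G i ⊗[A] B) b) • n = b • n
    rw [← IsScalarTower.algebraMap_apply, algebraMap_smul]
  let γ : (G i ⊗[A] B) ⊗[B] N →ₗ[G i ⊗[A] B] N' := hfi.lift f
  have hγ : IsBaseChange B' γ := by
    refine IsBaseChange.of_comp hfi ?_
    rw [show γ.restrictScalars B ∘ₗ fi = f from hfi.lift_comp f]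
    exact hbc
  let Pi : Ideal (G i ⊗[A] B) := P.comap (algebraMap (G i ⊗[A] B) B')
  let t'i : Ideal (G i) := t'.comap (algebraMap (G i) A')
  let ti : Ideal (G i) := t.comap (algebraMap (G i) A')
  have : Pi.IsPrime := Ideal.comap_isPrime _ _
  have : t'i.IsPrime := Ideal.comap_isPrime _ _
  have : ti.IsPrime := Ideal.comap_isPrime _ _
  have : t'.LiesOver t'i := ⟨rfl⟩
  have := hPt'
  have hass' := Groth.Agent.H7Flat.ImpurityDescend.fiberIdeal_comap_mem_associatedPrimes hγ t'i t' P hass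
  refine ⟨G i, G i ⊗[A] B, (G i ⊗[A] B) ⊗[B] N, inferInstance, inferInstance, inferInstance,
    inferInstance, inferInstance, inferInstance, hB i, inferInstance, inferInstance, inferInstance,
    inferInstance, inferInstance, inferInstance, inferInstance, fi, t'i, ti,
    inferInstance, inferInstance, Pi, inferInstance, ?_, AlgEquiv.refl, ?_⟩
  swap
  · exact Ideal.map_id _
  refine ⟨hpo, hfi, Ideal.comap_mono htt, ⟨?_⟩, ⟨?_⟩, hass', ?_⟩
  · rw [Ideal.under, Ideal.comap_comap, ← IsScalarTower.algebraMap_eq]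
    exact htp.over
  · rw [Ideal.under, Ideal.comap_comap, ← IsScalarTower.algebraMap_eq,
      IsScalarTower.algebraMap_eq (G i) A' B', ← Ideal.comap_comap]
    exact congrArg (Ideal.comap (algebraMap (G i) A')) hPt'.over
  · intro P' _ hle hlie
    have hti : ti = P'.comap (algebraMap (G i) (G i ⊗[A] B)) := hlie.over
    have hπi : algebraMap (G i) (G i ⊗[A] B) (g i₀ i h0 a₀) - T i₁ i h1 z ∈ P' := by
      refine hle ?_
      change φ i ((g i₀ i h0 a₀) ⊗ₜ[A] 1 - T i₁ i h1 z) ∈ P
      rw [map_sub, hφl, hgA, hT, ← hsum, add_sub_cancel_right]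
      exact hπ
    have hTz : T i₁ i h1 z ∈ P' := by
      refine (Ideal.map_le_iff_le_comap.mpr ?_) (hTt i₁ i h1 z hz)
      exact hti.le
    have : g i₀ i h0 a₀ ∈ ti := by
      rw [hti, Ideal.mem_comap]
      simpa using add_mem hπi hTz
    rw [Ideal.mem_comap, hgA] at this
    exact ha this

end Groth.Agent.S1296
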