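import Groth.Statements.S12963
import Groth.Agent.H14AlgSt.DiagDescent

set_option autoImplicit false
set_option backward.isDefEq.respectTransparency false
set_option backward.isDefEq.respectTransparency.types false
universe u
open CategoryTheory AlgebraicGeometry
open AlgSt

namespace Groth.Agent.S12963

/-- Let f : 𝒳 → 𝒴 be a morphism of algebraic stacks and W → 𝒴 a surjective, flat, locally finitely
presented morphism whose source is an algebraic space. Whenever the projection W ×_𝒴 𝒳 → W is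
quasi-separated, f is quasi-separated too (quasi-separated: the diagonal is quasi-compact and
quasi-separated, and representable by algebraic spaces). -/
theorem result
    (S : Scheme.{u}) (𝒳 : AlgSt.Cat S) (𝒴 : AlgSt.Cat S)
    (h𝒳 : AlgSt.IsAlgStack Scheme.fppfPrecoverage 𝒳)
    (h𝒴 : AlgSt.IsAlgStack Scheme.fppfPrecoverage 𝒴)
    (f : 𝒳 ⥤ᵇ 𝒴)
    (W : AlgSp.Space S) (w : AlgSt.ofSp W.obj ⥤ᵇ 𝒴)
    (hw₁ : AlgSt.RepByAlgSpWith (AlgSp.LocP @Flat) w)
    (hw₂ : AlgSt.RepByAlgSpWith (AlgSp.LocP @LocallyOfFinitePresentation) w)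
    (hw₃ : AlgSt.RepByAlgSpWith AlgSp.IsSurjectiveMor w) :
    AlgSt.IsQuasiSeparatedMor (FibCat.fpFst w f) → AlgSt.IsQuasiSeparatedMor f := by
  exact fun h => Groth.Agent.H14AlgSt.repWith_diag_of_fppf Groth.Agent.H14AlgSt.localFppf_qcqs
    (Groth.Agent.H14AlgSt.BaseStable.sourceIsoInv Groth.Agent.H14AlgSt.baseStable_qcqs)
    (Groth.Agent.H14AlgSt.rep1_diag_of_algStack h𝒳 h𝒴 f) hw₁ hw₂ hw₃ h

end Groth.Agent.S12963
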