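import Groth.Statements.S12971
import Groth.Agent.H14AlgSt.Diag2

set_option autoImplicit false
set_option backward.isDefEq.respectTransparency false
set_option backward.isDefEq.respectTransparency.types false
universe u
open CategoryTheory AlgebraicGeometry
open AlgSt

namespace Groth.Agent.S12971

/-- A monomorphism of algebraic stacks (representable by algebraic spaces and a monomorphism) is
separated and DM. -/
theorem result
    (S : Scheme.{u}) (𝒳 : AlgSt.Cat S) (𝒴 : AlgSt.Cat S)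
    (h𝒳 : AlgSt.IsAlgStack Scheme.fppfPrecoverage 𝒳)
    (h𝒴 : AlgSt.IsAlgStack Scheme.fppfPrecoverage 𝒴)
    (f : 𝒳 ⥤ᵇ 𝒴) :
    AlgSt.IsMono f → AlgSt.IsSeparatedMor f ∧ AlgSt.IsDMMor f := by
  intro h
  have hf := Groth.Agent.H14AlgSt.repByAlgSp1_of_with h
  refine ⟨?_, Groth.Agent.H14AlgSt.isDMMor_of_rep1 h𝒳 h𝒴 hf⟩
  have hs : AlgSt.RepByAlgSpWith AlgSp.IsSeparatedMor f := Groth.Agent.H14AlgSt.repWith_mono
    (fun a _ _ ha => @Groth.Agent.H12AlgSp.isSeparatedMor_of_mono _ _ _ a ha) h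
  exact Groth.Agent.H14AlgSt.repWith_mono
    (fun _ _ hG h => Groth.Agent.H12AlgSp.isProperMor_of_isClosedImmersion hG h)
    ((Groth.Agent.H14AlgSt.repWith_diag_iff_diagonal @IsClosedImmersion hf).2 hs)

end Groth.Agent.S12971
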