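import Groth.Statements.S12973
import Groth.Agent.H14AlgSt.InertiaDiag

set_option autoImplicit false
set_option backward.isDefEq.respectTransparency false
set_option backward.isDefEq.respectTransparency.types false
universe u
open CategoryTheory AlgebraicGeometry
open AlgSt

namespace Groth.Agent.S12973

/-- For a morphism f : 𝒳 → 𝒴 of algebraic stacks the following are equivalent: the relative inertia
𝓘_{𝒳/𝒴} → 𝒳 is quasi-separated; the diagonal of f is quasi-separated; the neutral section 𝒳 →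
𝓘_{𝒳/𝒴} is quasi-compact. All three morphisms are representable by algebraic spaces and the
properties are the ones of such morphisms. -/
theorem result
    (S : Scheme.{u}) (𝒳 : AlgSt.Cat S) (𝒴 : AlgSt.Cat S)
    (h𝒳 : AlgSt.IsAlgStack Scheme.fppfPrecoverage 𝒳)
    (h𝒴 : AlgSt.IsAlgStack Scheme.fppfPrecoverage 𝒴)
    (f : 𝒳 ⥤ᵇ 𝒴) :
    [AlgSt.RepByAlgSpWith AlgSp.IsQuasiSeparatedMor (FibCat.inertiaToBase f),
      AlgSt.RepByAlgSpWith AlgSp.IsQuasiSeparatedMor (FibCat.diag f),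
      AlgSt.RepByAlgSpWith AlgSp.IsQuasiCompactMor (FibCat.inertiaNeutral f)].TFAE := by
  open Groth.Agent.H14AlgSt Groth.Agent.H14Stk in
  have hd := rep1_diag_of_algStack h𝒳 h𝒴 f
  open Groth.Agent.H14AlgSt Groth.Agent.H14Stk in
  have key : AlgSt.RepByAlgSpWith (AlgSp.RepWith @QuasiCompact) (FibCat.inertiaNeutral f) ↔
      AlgSt.RepByAlgSpWith AlgSp.IsQuasiCompactMor (FibCat.inertiaNeutral f) := by
    rw [repWith_inertiaNeutral_iff h𝒳.isStack.1, repWith_inertiaNeutral_iff h𝒳.isStack.1]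
    refine ⟨fun h => ?_, fun h => ?_⟩
    · exact repWith_diag_transfer (sourceIsoInv_of_respectsIso _) sourceIsoInv_qc h𝒳
        (isAlgStack_fp' h𝒳 h𝒳 h𝒴 f f) hd
        (fun U V v _ _ hv => (isQuasiCompactMor_yon_iff v).2 ((AlgSp.repWith_yon_map_iff _ v).1 hv)) h
    · exact repWith_diag_transfer sourceIsoInv_qc (sourceIsoInv_of_respectsIso _) h𝒳
        (isAlgStack_fp' h𝒳 h𝒳 h𝒴 f f) hd
        (fun U V v _ _ hv => (AlgSp.repWith_yon_map_iff _ v).2 ((isQuasiCompactMor_yon_iff v).1 hv)) h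
  have h := Groth.Agent.H14AlgSt.tfae_inertia_diagonal @QuasiCompact h𝒳 h𝒴 f
  tfae_have 1 ↔ 2 := h.out 0 1
  tfae_have 2 ↔ 3 := (h.out 1 2).trans key
  tfae_finish

end Groth.Agent.S12973
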