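import Groth.Statements.S12976
import Groth.Agent.H14AlgSt.SetoidSpace

set_option autoImplicit false
set_option backward.isDefEq.respectTransparency false
set_option backward.isDefEq.respectTransparency.types false
universe u
open CategoryTheory AlgebraicGeometry
open AlgSt

namespace Groth.Agent.S12976

/-- A morphism f between algebraic stacks is representable by algebraic spaces exactly when its second
diagonal 𝒳 → 𝒳 ×_{𝒳 ×_𝒴 𝒳} 𝒳 is an isomorphism, that is an equivalence over the base. -/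
theorem result
    (S : Scheme.{u}) (𝒳 : AlgSt.Cat S) (𝒴 : AlgSt.Cat S)
    (h𝒳 : AlgSt.IsAlgStack Scheme.fppfPrecoverage 𝒳)
    (h𝒴 : AlgSt.IsAlgStack Scheme.fppfPrecoverage 𝒴)
    (f : 𝒳 ⥤ᵇ 𝒴) :
    AlgSt.RepByAlgSp1 f ↔ FibCat.IsEquivOver (FibCat.diag (FibCat.diag f)) := by
  open Groth.Agent.H14AlgSt in
  refine ⟨fun h => ?_, fun h =>
    have := faithful_of_equiv_diag_diag h𝒳.isStack.1 h𝒴.isStack.1 h
    repByAlgSp1_of_faithful h𝒳 h𝒴⟩
  have := Groth.Agent.H14AlgSt.faithful_of_repByAlgSp1 h𝒳.isStack.1 h𝒴.isStack.1 h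
  obtain ⟨_, _⟩ := Groth.Agent.H14AlgSt.full_faithful_diag f
  exact Groth.Agent.H14AlgSt.isEquivOver_diag_of_ff _

end Groth.Agent.S12976
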