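import Groth.Statements.S12979
import Groth.Agent.H14AlgSt.InertiaDiag
import Groth.Agent.H12AlgSp.UnivClosedQC
import Groth.Agent.H12AlgSp.Univ
import Groth.Agent.H12AlgSp.Proper

set_option autoImplicit false
set_option backward.isDefEq.respectTransparency false
set_option backward.isDefEq.respectTransparency.types false
universe u
open CategoryTheory AlgebraicGeometry
open AlgSt

namespace Groth.Agent.S12979

/-- If the first and second diagonals of a morphism f of algebraic stacks are both universally closed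
(as morphisms representable by algebraic spaces), then f is separated. (The published statement is
an equivalence; this row states the implication from the two diagonals to separatedness.) -/
theorem result
    (S : Scheme.{u}) (𝒳 : AlgSt.Cat S) (𝒴 : AlgSt.Cat S)
    (h𝒳 : AlgSt.IsAlgStack Scheme.fppfPrecoverage 𝒳)
    (h𝒴 : AlgSt.IsAlgStack Scheme.fppfPrecoverage 𝒴)
    (f : 𝒳 ⥤ᵇ 𝒴) :
    AlgSt.RepByAlgSpWith AlgSp.IsUnivClosedMor (FibCat.diag f) →
      AlgSt.RepByAlgSpWith AlgSp.IsUnivClosedMor (FibCat.diag (FibCat.diag f)) → AlgSt.IsSeparatedMor f := by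
  open Groth.Agent.H14AlgSt Groth.Agent.H12AlgSp CategoryTheory.Limits in
  intro h1 h2
  have hd := Groth.Agent.H14AlgSt.rep1_diag_of_algStack h𝒳 h𝒴 f
  have hF := Groth.Agent.H14AlgSt.isAlgStack_fp' h𝒳 h𝒳 h𝒴 f f
  have hc : AlgSt.RepByAlgSpWith (AlgSp.RepWith @IsClosedImmersion) (FibCat.diag (FibCat.diag f)) :=
    Groth.Agent.H14AlgSt.repWith_diag_transfer Groth.Agent.H14AlgSt.sourceIsoInv_univClosed
      (Groth.Agent.H14AlgSt.sourceIsoInv_of_respectsIso _) h𝒳 hF hd
      (fun U V v hm hl hv => (AlgSp.repWith_yon_map_iff _ v).2 (by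
        have hu : UniversallyClosed v.left := (AlgSp.repWith_yon_map_iff @UniversallyClosed v).1
          ((Groth.Agent.H12AlgSp.repWith_universallyClosed_iff (AlgSp.representable_yon_map v)).2 hv)
        have : IsProper v.left := {}
        exact (IsClosedImmersion.iff_isProper_and_mono v.left).2 ⟨this, hm⟩)) h2
  have hs := (Groth.Agent.H14AlgSt.repWith_diag_iff_diagonal @IsClosedImmersion hd).1 hc
  have hl := Groth.Agent.H14AlgSt.repWith_lft_diag h𝒳 h𝒴 f
  intro U z
  obtain ⟨G, e, he, hu⟩ := h1 U z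
  obtain ⟨k⟩ := Groth.Agent.H14AlgSt.spMapOfOver_eq (BasedFunctor.comp e (FibCat.fpFst z (FibCat.diag f)))
  have hu' : AlgSp.IsUnivClosedMor _ := hu
  have hsep : AlgSp.IsSeparatedMor (AlgSt.spMapOfOver (BasedFunctor.comp e (FibCat.fpFst z (FibCat.diag f)))) :=
    Groth.Agent.H14AlgSt.prop_of_repData
      (Groth.Agent.H14AlgSt.BaseStable.sourceIsoInv (fun _ _ _ _ _ _ _ _ _ _ _ _ sq h =>
        Groth.Agent.H12AlgSp.isSeparatedMor_of_isPullback sq h)) (hs U z) he k
  exact ⟨G, e, he, hsep, ⟨Groth.Agent.H14AlgSt.prop_of_repData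
      (Groth.Agent.H14AlgSt.sourceIsoInv_locP _) (hl U z) he k,
    Groth.Agent.H12AlgSp.isQuasiCompactMor_of_isUnivClosedMor G.property
      (AlgSp.IsAlgSpace.yon_obj U) hu⟩, hu⟩

end Groth.Agent.S12979
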