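import Groth.Statements.S12981
import Groth.Agent.H14AlgSt.QC

set_option autoImplicit false
set_option backward.isDefEq.respectTransparency false
set_option backward.isDefEq.respectTransparency.types false
universe u
open CategoryTheory AlgebraicGeometry
open AlgSt

namespace Groth.Agent.S12981

/-- For a morphism f of algebraic stacks that is representable by algebraic spaces, every base change of
f to a scheme is a quasi-compact morphism of algebraic spaces if and only if for every quasi-compact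
algebraic stack 𝒵 and every 𝒵 → 𝒴 the 2-fibre product 𝒵 ×_𝒴 𝒳 is quasi-compact. -/
theorem result
    (S : Scheme.{u}) (𝒳 : AlgSt.Cat S) (𝒴 : AlgSt.Cat S)
    (h𝒳 : AlgSt.IsAlgStack Scheme.fppfPrecoverage 𝒳)
    (h𝒴 : AlgSt.IsAlgStack Scheme.fppfPrecoverage 𝒴)
    (f : 𝒳 ⥤ᵇ 𝒴)
    (hf : AlgSt.RepByAlgSp1 f) :
    AlgSt.RepByAlgSpWith AlgSp.IsQuasiCompactMor f ↔ AlgSt.IsQuasiCompactMor Scheme.fppfPrecoverage f := by
  exact ⟨Groth.Agent.H14AlgSt.isQCMor_of_repWith h𝒳 h𝒴,
    Groth.Agent.H14AlgSt.repWith_of_isQCMor h𝒳 h𝒴 hf⟩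

end Groth.Agent.S12981
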