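-- statement FlatMor.GrothFrozen.S1299 (Groth/Statements/S1299.lean; the theorem FlatMor.fibres_covered_near_generic_point);
import Groth.Statements.S1299
import Groth.Agent.H7Flat.GenericFlatness
import Groth.Agent.H17.Reduced
import Mathlib.AlgebraicGeometry.IdealSheaf.Subscheme
import Mathlib.AlgebraicGeometry.Morphisms.UniversallyOpen

set_option autoImplicit false
universe u
open FlatMor
set_option backward.isDefEq.respectTransparency false
set_option linter.style.haveILetI false

namespace Groth.Agent.S1299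

open AlgebraicGeometry CategoryTheory Limits in
/-- Let f : X → Y be a morphism of finite type (locally of finite type and quasi-compact) with Y
irreducible, and let Z_1, …, Z_n be finitely many closed subsets of the generic fibre of f which
together cover it. For each i let T_i ⊆ X be the closure in X of the image of Z_i. Then there is a
nonempty open subset V ⊆ Y such that for every y ∈ V the fibre X_y is covered by the preimages of
T_1, …, T_n. -/
theorem result {X Y : Scheme.{u}} (f : X ⟶ Y) [IrreducibleSpace ↑Y] [LocallyOfFiniteType f] [QuasiCompact f]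
    {ι : Type} [Finite ι] (Z : ι → Set ↑(f.fiber (genericPoint ↑Y))) (hZ : ∀ i, IsClosed (Z i)) (hcov : ⋃ i, Z i = Set.univ) :
    ∃ V : Y.Opens, (V : Set ↑Y).Nonempty ∧ ∀ y ∈ V, ⋃ i, (f.fiberι y) ⁻¹' closure ((f.fiberι (genericPoint ↑Y)) '' Z i) = Set.univ := by
  classical
  let I : Y.IdealSheafData := Scheme.IdealSheafData.vanishingIdeal ⊤
  let i := I.subschemeι
  haveI : IsReduced I.subscheme := Groth.Agent.H17.isReduced_vanishingIdeal_subscheme _
  have hi : Function.Surjective i := Set.range_eq_univ.1 (by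
    rw [Scheme.IdealSheafData.range_subschemeι, Scheme.IdealSheafData.coe_support_vanishingIdeal]; rfl)
  let f' := pullback.snd f i
  obtain ⟨W, hW, hflat, -⟩ := Groth.Agent.H7Flat.exists_dense_flatLFP f'
  obtain ⟨η', hη'⟩ := hi (genericPoint ↑Y)
  have hspec : ∀ w, η' ⤳ w := fun w => by
    rw [← i.isEmbedding.isInducing.specializes_iff, hη']
    exact (genericPoint_spec ↑Y).specializes trivial
  haveI : Nonempty ↑I.subscheme := ⟨η'⟩
  obtain ⟨O, hO, hOW⟩ := i.isEmbedding.isInducing.isOpen_iff.1 W.2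
  obtain ⟨w₀, hw₀⟩ := hW.nonempty
  refine ⟨⟨O, hO⟩, ⟨i w₀, hOW.ge hw₀⟩, fun y hy => Set.eq_univ_of_forall fun u => ?_⟩
  obtain ⟨w, rfl⟩ := hi y
  have hwW : w ∈ W := hOW.le hy
  have hfu : f (f.fiberι (i w) u) = i w := (f.range_fiberι _).subset (Set.mem_range_self u)
  obtain ⟨p, hp₁, hp₂⟩ := Scheme.Pullback.exists_preimage_pullback (f.fiberι (i w) u) w hfu
  have hpW : p ∈ f' ⁻¹ᵁ W := by
    show f' p ∈ W
    rw [show f' p = w from hp₂]
    exact hwW
  haveI := hflat
  have hgm : GeneralizingMap (f' ∣_ W) := Flat.generalizingMap _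
  have hηW : η' ∈ W := (hspec w).mem_open W.2 hwW
  obtain ⟨⟨q, hqW⟩, hqp, hq⟩ := hgm (a := ⟨p, hpW⟩) (b := (⟨η', hηW⟩ : ↑(W : Scheme.{u}))) (by
    show _ ⤳ _
    rw [← W.ι.isEmbedding.isInducing.specializes_iff]
    exact hspec _)
  have hq' : f' q = η' := by
    have := congrArg Subtype.val hq
    rwa [morphismRestrict_base_coe] at this
  have hxq : pullback.fst f i q ⤳ f.fiberι (i w) u := by
    rw [← hp₁]
    exact ((f' ⁻¹ᵁ W).ι.isEmbedding.isInducing.specializes_iff.2 hqp).map (pullback.fst f i).continuous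
  have hfq : f (pullback.fst f i q) = genericPoint ↑Y := by
    rw [← Scheme.Hom.comp_apply, pullback.condition, Scheme.Hom.comp_apply]
    exact (congrArg i hq').trans hη'
  obtain ⟨v, hv⟩ : pullback.fst f i q ∈ Set.range (f.fiberι (genericPoint ↑Y)) := (f.range_fiberι _).ge hfq
  obtain ⟨j, hj⟩ := Set.mem_iUnion.1 (hcov.ge (Set.mem_univ v))
  refine Set.mem_iUnion.2 ⟨j, ?_⟩
  exact hxq.mem_closed isClosed_closure (subset_closure ⟨v, hj, hv⟩)

end Groth.Agent.S1299
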