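import Groth.Statements.S12996
import Groth.Agent.H14AlgSt.LocQ2

set_option autoImplicit false
set_option backward.isDefEq.respectTransparency false
set_option backward.isDefEq.respectTransparency.types false
universe u
open CategoryTheory AlgebraicGeometry
open AlgSt

namespace Groth.Agent.S12996

/-- An immersion of algebraic stacks is locally of finite type. -/
theorem result
    (S : Scheme.{u}) (𝒳 : AlgSt.Cat S) (𝒴 : AlgSt.Cat S)
    (h𝒳 : AlgSt.IsAlgStack Scheme.fppfPrecoverage 𝒳)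
    (h𝒴 : AlgSt.IsAlgStack Scheme.fppfPrecoverage 𝒴)
    (f : 𝒳 ⥤ᵇ 𝒴) :
    AlgSt.IsImm f → AlgSt.LocQ (AlgSp.LocP @LocallyOfFiniteType) f := by
  intro hf
  refine Groth.Agent.H14AlgSt.locQ_of_repWith Groth.Agent.H14AlgSt.smLocal_lft h𝒳 h𝒴
    (Groth.Agent.H14AlgSt.repWith_mono (fun _ _ _ h => ?_) hf)
  exact Groth.Agent.H12AlgSp.locP_of_repWith Groth.Agent.H12AlgSp.etLocal_lft
    (Groth.Agent.H12AlgSp.repWith_le (fun _ _ g (_ : IsImmersion g) =>
      (inferInstance : LocallyOfFiniteType g)) h)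

end Groth.Agent.S12996
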