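import Groth.Statements.S12999
import Groth.Agent.H14AlgSt.LocQ4

set_option autoImplicit false
set_option backward.isDefEq.respectTransparency false
set_option backward.isDefEq.respectTransparency.types false
universe u
open CategoryTheory AlgebraicGeometry
open AlgSt

namespace Groth.Agent.S12999

/-- A morphism of algebraic stacks which is locally of finite type with locally Noetherian target is
locally of finite presentation. (Part (2), for finite type and quasi-separated, only adds the
quasi-compactness clauses.) -/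
theorem result
    (S : Scheme.{u}) (𝒳 : AlgSt.Cat S) (𝒴 : AlgSt.Cat S)
    (h𝒳 : AlgSt.IsAlgStack Scheme.fppfPrecoverage 𝒳)
    (h𝒴 : AlgSt.IsAlgStack Scheme.fppfPrecoverage 𝒴)
    (f : 𝒳 ⥤ᵇ 𝒴) :
    AlgSt.SmoothLocally (fun T ↦ IsLocallyNoetherian T) 𝒴 → AlgSt.LocQ (AlgSp.LocP @LocallyOfFiniteType) f → AlgSt.LocQ (AlgSp.LocP @LocallyOfFinitePresentation) f := by
  open Groth.Agent.H14AlgSt in
  intro hY hf
  obtain ⟨V, y, hy, hys⟩ := h𝒴.atlas
  obtain ⟨A, a, h, ha, has, ⟨jh⟩⟩ := exists_atlas_fp h𝒳 h𝒴 f y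
  have : LocallyOfFiniteType h.left := (locP_yon_iff Groth.Agent.H12AlgSp.etLocal_lft h).1
    (prop_of_locQ smLocal_lft hf hy a ha jh)
  have : IsLocallyNoetherian V.left := hY V y hy
  exact locQ_of_atlas h𝒳.isStack.1 h𝒴.isStack.1 hy hys ha has jh
    ((locP_yon_iff Groth.Agent.H12AlgSp.etLocal_lfp h).2
      (Groth.Agent.H12AlgSp.lfp_of_lft_of_isLocallyNoetherian h.left))

end Groth.Agent.S12999
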