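import Groth.Statements.S13004
import Groth.Agent.H14AlgSt.LocQ4

set_option autoImplicit false
set_option backward.isDefEq.respectTransparency false
set_option backward.isDefEq.respectTransparency.types false
universe u
open CategoryTheory AlgebraicGeometry
open AlgSt

namespace Groth.Agent.S13004

/-- Let 𝒳 → 𝒴 → 𝒵 be morphisms of algebraic stacks with 𝒳 → 𝒵 flat and 𝒳 → 𝒴 surjective and flat. Then 𝒴
→ 𝒵 is flat. -/
theorem result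
    (S : Scheme.{u}) (𝒳 : AlgSt.Cat S) (𝒴 : AlgSt.Cat S) (𝒵 : AlgSt.Cat S)
    (h𝒳 : AlgSt.IsAlgStack Scheme.fppfPrecoverage 𝒳)
    (h𝒴 : AlgSt.IsAlgStack Scheme.fppfPrecoverage 𝒴)
    (h𝒵 : AlgSt.IsAlgStack Scheme.fppfPrecoverage 𝒵)
    (f : 𝒳 ⥤ᵇ 𝒴) (g : 𝒴 ⥤ᵇ 𝒵)
    (hf₁ : AlgSt.LocQ (AlgSp.LocP @Flat) f) (hf₂ : AlgSt.IsSurjective f) :
    AlgSt.LocQ (AlgSp.LocP @Flat) (BasedFunctor.comp f g) → AlgSt.LocQ (AlgSp.LocP @Flat) g := by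
  open Groth.Agent.H14AlgSt in
  intro hfg
  obtain ⟨A, B, C, h, c, z, b, y, a, Θ, hz, hb, hy, ha, hΘ, ⟨jh⟩, ⟨jc⟩, ⟨jt⟩⟩ :=
    exists_tower h𝒳 h𝒴 h𝒵 f g
  have h1 : Flat h.left := (locP_yon_iff Groth.Agent.H12AlgSp.etLocal_flat h).1
    (prop_of_locQ smLocal_flat hf₁ hy.1 a ha.1 jh)
  have h3 := ofChart_surjective_of_atlas h𝒳 h𝒴 hf₂ ha.2 jh
  refine locQ_of_atlas h𝒴.isStack.1 h𝒵.isStack.1 hz.1 hz.2 hb.1 hb.2 jc
    ((locP_yon_iff Groth.Agent.H12AlgSp.etLocal_flat c).2 ?_)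
  refine Groth.Agent.H13AlgSp.flat_of_jointly_surjective c.left (fun _ : PUnit.{u+1} => A.left)
    (fun _ => h.left) (fun t => ⟨PUnit.unit, h3 t⟩) (fun _ => h1) fun _ => ?_
  rw [← Over.comp_left]
  exact (locP_yon_iff Groth.Agent.H12AlgSp.etLocal_flat (h ≫ c)).1
    (prop_of_locQ smLocal_flat hfg hz.1 Θ hΘ.1 jt)

end Groth.Agent.S13004
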