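import Groth.Statements.S13005
import Groth.Agent.H14AlgSt.LocQ4

set_option autoImplicit false
set_option backward.isDefEq.respectTransparency false
set_option backward.isDefEq.respectTransparency.types false
universe u
open CategoryTheory AlgebraicGeometry
open AlgSt

namespace Groth.Agent.S13005

/-- Take morphisms of algebraic stacks f : 𝒳 → 𝒴 and g : 𝒴 → 𝒵. Suppose g is locally of finite type
while the composite 𝒳 → 𝒵 is locally of finite presentation; it follows that f is also locally of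
finite presentation. -/
theorem result
    (S : Scheme.{u}) (𝒳 : AlgSt.Cat S) (𝒴 : AlgSt.Cat S) (𝒵 : AlgSt.Cat S)
    (h𝒳 : AlgSt.IsAlgStack Scheme.fppfPrecoverage 𝒳)
    (h𝒴 : AlgSt.IsAlgStack Scheme.fppfPrecoverage 𝒴)
    (h𝒵 : AlgSt.IsAlgStack Scheme.fppfPrecoverage 𝒵)
    (f : 𝒳 ⥤ᵇ 𝒴) (g : 𝒴 ⥤ᵇ 𝒵) :
    AlgSt.LocQ (AlgSp.LocP @LocallyOfFinitePresentation) (BasedFunctor.comp f g) → AlgSt.LocQ (AlgSp.LocP @LocallyOfFiniteType) g →
      AlgSt.LocQ (AlgSp.LocP @LocallyOfFinitePresentation) f := by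
  open Groth.Agent.H14AlgSt in
  intro hfg hg
  obtain ⟨A, B, C, h, c, z, b, y, a, Θ, hz, hb, hy, ha, hΘ, ⟨jh⟩, ⟨jc⟩, ⟨jt⟩⟩ :=
    exists_tower h𝒳 h𝒴 h𝒵 f g
  exact locQ_of_atlas h𝒳.isStack.1 h𝒴.isStack.1 hy.1 hy.2 ha.1 ha.2 jh
    ((locP_yon_iff Groth.Agent.H12AlgSp.etLocal_lfp h).2 (locP_lfp_of_comp_lft h c
      ((locP_yon_iff Groth.Agent.H12AlgSp.etLocal_lfp (h ≫ c)).1
        (prop_of_locQ smLocal_lfp hfg hz.1 Θ hΘ.1 jt))
      ((locP_yon_iff Groth.Agent.H12AlgSp.etLocal_lft c).1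
        (prop_of_locQ smLocal_lft hg hz.1 b hb.1 jc))))

end Groth.Agent.S13005
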