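import Groth.Statements.S13015
import Groth.Agent.H14AlgSt.Comp
import Groth.Agent.H13AlgSp.AffineLocal

set_option autoImplicit false
set_option backward.isDefEq.respectTransparency false
set_option backward.isDefEq.respectTransparency.types false
universe u
open CategoryTheory AlgebraicGeometry
open AlgSt

namespace Groth.Agent.S13015

/-- The composition of two finite morphisms of algebraic stacks is finite (finite: representable by
algebraic spaces, and every base change to an affine scheme is an affine scheme finite over it). -/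
theorem result
    (S : Scheme.{u}) (𝒳 : AlgSt.Cat S) (𝒴 : AlgSt.Cat S) (𝒵 : AlgSt.Cat S)
    (h𝒳 : AlgSt.IsAlgStack Scheme.fppfPrecoverage 𝒳)
    (h𝒴 : AlgSt.IsAlgStack Scheme.fppfPrecoverage 𝒴)
    (h𝒵 : AlgSt.IsAlgStack Scheme.fppfPrecoverage 𝒵)
    (f : 𝒳 ⥤ᵇ 𝒴) (g : 𝒴 ⥤ᵇ 𝒵) :
    AlgSt.RepByAlgSpWith AlgSp.IsFiniteMor f → AlgSt.RepByAlgSpWith AlgSp.IsFiniteMor g → AlgSt.RepByAlgSpWith AlgSp.IsFiniteMor (BasedFunctor.comp f g) := by
  intro hf hg
  exact Groth.Agent.H14AlgSt.repWith_mono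
    (fun _ _ _ h => Groth.Agent.H13AlgSp.isFiniteMor_iff.2 h)
    (Groth.Agent.H14AlgSt.repWith_repWith_comp @IsFinite h𝒳.isStack.1 h𝒴.isStack.1
      (Groth.Agent.H14AlgSt.repWith_mono (fun _ _ _ h => Groth.Agent.H13AlgSp.isFiniteMor_iff.1 h) hf)
      (Groth.Agent.H14AlgSt.repWith_mono (fun _ _ _ h => Groth.Agent.H13AlgSp.isFiniteMor_iff.1 h) hg))

end Groth.Agent.S13015
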