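import Groth.Statements.S13017
import Groth.Agent.H14AlgSt.Noeth

set_option autoImplicit false
set_option backward.isDefEq.respectTransparency false
set_option backward.isDefEq.respectTransparency.types false
universe u
open CategoryTheory AlgebraicGeometry
open AlgSt

namespace Groth.Agent.S13017

/-- If j : 𝒳 → 𝒴 is an immersion of algebraic stacks with 𝒴 locally Noetherian, then j is quasi-compact
and 𝒳 is also locally Noetherian. -/
theorem result
    (S : Scheme.{u}) (𝒳 : AlgSt.Cat S) (𝒴 : AlgSt.Cat S)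
    (h𝒳 : AlgSt.IsAlgStack Scheme.fppfPrecoverage 𝒳)
    (h𝒴 : AlgSt.IsAlgStack Scheme.fppfPrecoverage 𝒴)
    (j : 𝒳 ⥤ᵇ 𝒴) (hj : AlgSt.IsImm j) :
    AlgSt.SmoothLocally (fun T ↦ IsLocallyNoetherian T) 𝒴 → AlgSt.SmoothLocally (fun T ↦ IsLocallyNoetherian T) 𝒳 ∧ AlgSt.IsQuasiCompactMor Scheme.fppfPrecoverage j := by
  exact fun hN => ⟨Groth.Agent.H14AlgSt.noetherian_of_isImm h𝒳 h𝒴 hj hN,
    Groth.Agent.H14AlgSt.isQCMor_of_repWith h𝒳 h𝒴 (Groth.Agent.H14AlgSt.qc_of_isImm h𝒳 h𝒴 hj hN)⟩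

end Groth.Agent.S13017
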