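import Groth.Statements.S13021
import Groth.Agent.H14AlgSt.Noeth
import Groth.Agent.H14Top.SoberImage

set_option autoImplicit false
set_option backward.isDefEq.respectTransparency false
set_option backward.isDefEq.respectTransparency.types false
universe u
open CategoryTheory AlgebraicGeometry
open AlgSt

namespace Groth.Agent.S13021

/-- The space of points of a locally Noetherian algebraic stack is quasi-sober: every irreducible closed
subset has a generic point. -/
theorem result
    (S : Scheme.{u}) (𝒳 : AlgSt.Cat S)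
    (h𝒳 : AlgSt.IsAlgStack Scheme.fppfPrecoverage 𝒳) :
    AlgSt.SmoothLocally (fun T ↦ IsLocallyNoetherian T) 𝒳 → QuasiSober (AlgSt.Points 𝒳) := by
  intro hN
  obtain ⟨U, x, hx, hxs⟩ := h𝒳.atlas
  have : IsLocallyNoetherian U.left := hN U x hx
  have ho := H14AlgSt.isOpenMap_ofChart h𝒳.isStack.1
    (H14AlgSt.repWith_locP_mono H14AlgSt.smooth_le_flat hx)
    (H14AlgSt.repWith_locP_mono H14AlgSt.smooth_le_lfp hx)
  let O : U.left.affineOpens → Set (AlgSt.Points 𝒳) := fun W =>
    AlgSt.Points.ofChart x '' (W.1 : Set U.left)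
  refine @quasiSober_of_open_cover _ _ (Set.range O) (fun s => ?_) ?_ ?_
  · obtain ⟨_, W, rfl⟩ := s
    exact ho _ W.1.isOpen
  · intro s
    obtain ⟨_, W, rfl⟩ := s
    have : IsNoetherianRing Γ(U.left, W.1) := IsLocallyNoetherian.component_noetherian W
    have : TopologicalSpace.NoetherianSpace (W.1 : Set U.left) :=
      noetherianSpace_of_isAffineOpen W.1 W.2
    have : QuasiSober ↥(W.1 : Set U.left) := W.1.isOpenEmbedding'.quasiSober
    let π : ↥(W.1 : Set U.left) → ↥(O W) := fun t => ⟨_, t.1, t.2, rfl⟩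
    exact H14Top.quasiSober_of_surjective (π := π)
      (((H14AlgSt.continuous_ofChart h𝒳 x).comp continuous_subtype_val).subtype_mk _)
      fun ⟨_, t, ht, e⟩ => ⟨⟨t, ht⟩, Subtype.ext e⟩
  · refine Set.eq_univ_of_forall fun y => ?_
    obtain ⟨t, rfl⟩ := H14AlgSt.ofChart_surjective h𝒳.isStack.1 hxs y
    obtain ⟨W, hW⟩ := TopologicalSpace.Opens.mem_iSup.1
      ((iSup_affineOpens_eq_top U.left).ge (Set.mem_univ t))
    exact Set.mem_sUnion.2 ⟨O W, ⟨W, rfl⟩, t, hW, rfl⟩

end Groth.Agent.S13021
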