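import Groth.Statements.S13022
import Groth.Agent.H14AlgSt.SmoothBootstrap
import Groth.Agent.H14AlgSt.LocQ3
import Groth.Agent.H14AlgSt.Descent

set_option autoImplicit false
set_option backward.isDefEq.respectTransparency false
set_option backward.isDefEq.respectTransparency.types false
universe u
open CategoryTheory AlgebraicGeometry
open AlgSt

namespace Groth.Agent.S13022

open Groth.Agent.H14AlgSt Groth.Agent.H14Fib Groth.Agent.H14Stk CategoryTheory.Limits CategoryTheory.Functor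

lemma exists_lift_chart {S : Scheme.{u}} {𝒳 : AlgSt.Cat S} {W U : Over S}
    (hX : AlgSt.IsAlgStack Scheme.fppfPrecoverage 𝒳)
    {z : FibCat.overCat W ⥤ᵇ 𝒳} (h1 : AlgSt.RepByAlgSpWith (AlgSp.LocP @Flat) z)
    (h2 : AlgSt.RepByAlgSpWith (AlgSp.LocP @LocallyOfFinitePresentation) z)
    (x : FibCat.overCat U ⥤ᵇ 𝒳) :
    ∃ (C : Over S) (c : C ⟶ U) (v : FibCat.overCat C ⥤ᵇ FibCat.overCat W),
      Flat c.left ∧ LocallyOfFinitePresentation c.left ∧
      Nonempty (BasedFunctor.comp v z ≅ BasedFunctor.comp (AlgSt.overMap c) x) ∧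
      ∀ t : U.left, AlgSt.Points.ofChart x t ∈ Set.range (AlgSt.Points.map z) →
        t ∈ Set.range c.left := by
  obtain ⟨G, e, he⟩ := repByAlgSp1_of_with h1 U x
  obtain ⟨A, p, hp, hps⟩ := G.property.atlas
  let a := BasedFunctor.comp (BasedFunctor.comp (AlgSt.ofOverCat A) (AlgSt.ofSpMap p)) e
  have hS := fp_fibGrpd (fibGrpd_overCat U) (fibGrpd_overCat W) hX.isStack.1 (F := x) (G := z)
  have has : AlgSt.RepByAlgSpWith AlgSp.IsSurjectiveMor a :=
    (repWith_comp_equiv_iff he).2 ((repWith_equiv_comp_iff (ofOverCat_isEquivOver A)).1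
      (repWith_surjective_of_repWith p hps))
  obtain ⟨c, ⟨j⟩⟩ := exists_overMap_iso (BasedFunctor.comp a (FibCat.fpFst x z))
  have key : ∀ {Q : MorphismProperty Scheme.{u}}, Groth.Agent.H12AlgSp.EtLocal Q →
      AlgSt.RepByAlgSpWith (AlgSp.LocP Q) z → Q c.left := fun {Q} hQ h => by
    have ha : AlgSt.RepByAlgSpWith (AlgSp.LocP Q) a :=
      (repWith_comp_equiv_iff he).2 ((repWith_equiv_comp_iff (ofOverCat_isEquivOver A)).1
        (repWith_locP_mono hQ.etale_le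
          (repWith_locP_of_repWith Groth.Agent.H12AlgSp.etLocal_etale p hp)))
    have hc := repWith_of_iso j (repWith_locP_comp hQ (fibGrpd_overCat A) hS ha (repWith_fpFst x h))
    have hd := prop_of_repWith_spMap (sourceIsoInv_locP _)
      (F := ⟨_, AlgSp.IsAlgSpace.yon_obj A⟩)
      ((repWith_equiv_comp_iff (toOverCat_isEquivOver A)).1 hc)
    rw [spMapOfOver_overMap, spMapOfOver_toOverCat, Category.id_comp] at hd
    exact (locP_yon_iff hQ c).1 hd
  refine ⟨A, c, BasedFunctor.comp a (FibCat.fpSnd x z),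
    key Groth.Agent.H12AlgSp.etLocal_flat h1, key Groth.Agent.H12AlgSp.etLocal_lfp h2,
    ⟨(Stk.restr a _).mapIso (FibCat.fpIso x z).symm ≪≫ (post (FibCat.overCat A) x).mapIso j⟩,
    fun t ⟨q, hq⟩ => ?_⟩
  obtain ⟨w, hw1, -⟩ := exists_points_fp (fibGrpd_overCat U) (fibGrpd_overCat W) hX.isStack.1
    (F := x) (G := z) ((ofChart_eq_map x t).symm.trans hq.symm)
  obtain ⟨s, rfl⟩ := surjective_of_repWith hS has w
  refine ⟨chartPoint s, ?_⟩
  rw [← chartPoint_overMap, ← points_map_iso j, points_map_comp, hw1, chartPoint_ofChart]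

/-- Let f_j : 𝒳_j → 𝒳 be a family of flat, locally finitely presented morphisms of algebraic stacks
which is jointly surjective on points. Then, given any scheme U and any object x of 𝒳 lying over U,
one can find an fppf covering {U_i → U}, indices j(i) and objects x_i of 𝒳_{j(i)} over U_i with
f_{j(i)}(x_i) ≅ x|_{U_i}. -/
theorem result
    (S : Scheme.{u}) (𝒳 : AlgSt.Cat S)
    (h𝒳 : AlgSt.IsAlgStack Scheme.fppfPrecoverage 𝒳)
    (J : Type u) (𝒳' : J → AlgSt.Cat S) (h𝒳' : ∀ j, AlgSt.IsAlgStack Scheme.fppfPrecoverage (𝒳' j))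
    (f : ∀ j, 𝒳' j ⥤ᵇ 𝒳)
    (hf₁ : ∀ j, AlgSt.LocQ (AlgSp.LocP @Flat) (f j)) (hf₂ : ∀ j, AlgSt.LocQ (AlgSp.LocP @LocallyOfFinitePresentation) (f j))
    (hf₃ : ∀ p : AlgSt.Points 𝒳, ∃ j, p ∈ Set.range (AlgSt.Points.map (f j)))
    (U : Over S) (x : FibCat.overCat U ⥤ᵇ 𝒳) :
    ∃ (ι : Type u) (V : ι → Over S) (g : ∀ i, V i ⟶ U) (c : ι → J),
      (Presieve.ofArrows (fun i ↦ (V i).left) fun i ↦ (g i).left) ∈ Scheme.fppfPrecoverage U.left ∧
      ∀ i, ∃ x' : FibCat.overCat (V i) ⥤ᵇ 𝒳' (c i),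
        Nonempty (BasedFunctor.comp x' (f (c i)) ≅ BasedFunctor.comp (AlgSt.overMap (g i)) x) := by
  open Groth.Agent.H14AlgSt in
  have hch : ∀ j : J, ∃ (W : Over S) (w : FibCat.overCat W ⥤ᵇ 𝒳' j),
      AlgSt.RepByAlgSpWith (AlgSp.LocP @Smooth) w ∧
        AlgSt.RepByAlgSpWith AlgSp.IsSurjectiveMor w := fun j => (h𝒳' j).atlas
  choose W w hw hws using hch
  let z := fun j => BasedFunctor.comp (w j) (f j)
  have hz1 : ∀ j, AlgSt.RepByAlgSpWith (AlgSp.LocP @Flat) (z j) := fun j =>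
    repWith_of_locQ smLocal_flat (baseStable_locP Groth.Agent.H12AlgSp.etLocal_flat)
      (localFppf_of_fpqc (Groth.Agent.S10530.result S)) (isAlgStack_overCat _) h𝒳 (rep1_chart h𝒳 _)
      (locQ_comp Groth.Agent.H12AlgSp.etLocal_flat smLocal_flat (isAlgStack_overCat _) (h𝒳' j) h𝒳
        (locQ_of_repWith smLocal_flat (isAlgStack_overCat _) (h𝒳' j)
          (repWith_locP_mono smooth_le_flat (hw j))) (hf₁ j))
  have hz2 : ∀ j, AlgSt.RepByAlgSpWith (AlgSp.LocP @LocallyOfFinitePresentation) (z j) := fun j =>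
    repWith_of_locQ smLocal_lfp (baseStable_locP Groth.Agent.H12AlgSp.etLocal_lfp)
      (localFppf_of_fpqc (Groth.Agent.S10527.result S)) (isAlgStack_overCat _) h𝒳 (rep1_chart h𝒳 _)
      (locQ_comp Groth.Agent.H12AlgSp.etLocal_lfp smLocal_lfp (isAlgStack_overCat _) (h𝒳' j) h𝒳
        (locQ_of_repWith smLocal_lfp (isAlgStack_overCat _) (h𝒳' j)
          (repWith_locP_mono smooth_le_lfp (hw j))) (hf₂ j))
  choose V c v hflat hlfp hv hcov using fun j => exists_lift_chart h𝒳 (hz1 j) (hz2 j) x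
  refine ⟨J, V, c, id, ?_, fun j => ⟨BasedFunctor.comp (v j) (w j), ?_⟩⟩
  · refine (Scheme.ofArrows_mem_precoverage_iff _).2 ⟨fun t => ?_, fun j => ⟨hflat j, hlfp j⟩⟩
    obtain ⟨j, q, hq⟩ := hf₃ (AlgSt.Points.ofChart x t)
    obtain ⟨q', rfl⟩ := surjective_of_repWith (h𝒳' j).isStack.1 (hws j) q
    obtain ⟨s, hs⟩ := hcov j t ⟨q', by rw [points_map_comp]; exact hq⟩
    exact ⟨j, s, hs⟩
  · obtain ⟨k⟩ := hv j
    exact ⟨k⟩

end Groth.Agent.S13022
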