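import Groth.Statements.S13026
import Groth.Agent.H14AlgSt.Graph

set_option autoImplicit false
set_option backward.isDefEq.respectTransparency false
set_option backward.isDefEq.respectTransparency.types false
universe u
open CategoryTheory AlgebraicGeometry
open AlgSt

namespace Groth.Agent.S13026

/-- Let 𝒳 → 𝒯 and 𝒴 → 𝒯 be algebraic stacks over an algebraic stack 𝒯 and g : 𝒳 → 𝒴 a morphism over 𝒯
(with a 2-isomorphism between 𝒳 → 𝒯 and 𝒳 → 𝒴 → 𝒯). The graph 𝒳 → 𝒳 ×_𝒯 𝒴 of g, x ↦ (x, g x), is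
representable by algebraic spaces and proper provided 𝒴 → 𝒯 is separated. -/
theorem result
    (S : Scheme.{u}) (𝒳 : AlgSt.Cat S) (𝒴 : AlgSt.Cat S) (𝒯 : AlgSt.Cat S)
    (h𝒳 : AlgSt.IsAlgStack Scheme.fppfPrecoverage 𝒳)
    (h𝒴 : AlgSt.IsAlgStack Scheme.fppfPrecoverage 𝒴)
    (h𝒯 : AlgSt.IsAlgStack Scheme.fppfPrecoverage 𝒯)
    (p : 𝒳 ⥤ᵇ 𝒯) (q : 𝒴 ⥤ᵇ 𝒯) (g : 𝒳 ⥤ᵇ 𝒴) (e : BasedFunctor.comp (BasedFunctor.id 𝒳) p ≅ BasedFunctor.comp g q) :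
    AlgSt.IsSeparatedMor q → AlgSt.RepByAlgSpWith AlgSp.IsProperMor (FibCat.fpLift (BasedFunctor.id 𝒳) g e) := by
  exact fun h => Groth.Agent.H14AlgSt.repWith_graph g e h

end Groth.Agent.S13026
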