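import Groth.Statements.S13032
import Groth.Agent.H14AlgSt.Graph

set_option autoImplicit false
set_option backward.isDefEq.respectTransparency false
set_option backward.isDefEq.respectTransparency.types false
universe u
open CategoryTheory AlgebraicGeometry
open AlgSt

namespace Groth.Agent.S13032

/-- Let f : 𝒳 → 𝒵, g : 𝒴 → 𝒵 and 𝒵 → 𝒯 be morphisms of algebraic stacks and i : 𝒳 ×_𝒵 𝒴 → 𝒳 ×_𝒯 𝒴 the
induced morphism (the two projections, with the 2-isomorphism obtained by applying 𝒵 → 𝒯 to the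
canonical one). When 𝒵 → 𝒯 is quasi-DM, the morphism i is locally quasi-finite (and locally of
finite type). -/
theorem result
    (S : Scheme.{u}) (𝒳 : AlgSt.Cat S) (𝒴 : AlgSt.Cat S) (𝒵 : AlgSt.Cat S) (𝒯 : AlgSt.Cat S) (h𝒯 : AlgSt.IsAlgStack Scheme.fppfPrecoverage 𝒯)
    (h𝒳 : AlgSt.IsAlgStack Scheme.fppfPrecoverage 𝒳)
    (h𝒴 : AlgSt.IsAlgStack Scheme.fppfPrecoverage 𝒴)
    (h𝒵 : AlgSt.IsAlgStack Scheme.fppfPrecoverage 𝒵)
    (f : 𝒳 ⥤ᵇ 𝒵) (g : 𝒴 ⥤ᵇ 𝒵) (t : 𝒵 ⥤ᵇ 𝒯)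
    (e : BasedFunctor.comp (FibCat.fpFst f g) (BasedFunctor.comp f t) ≅
      BasedFunctor.comp (FibCat.fpSnd f g) (BasedFunctor.comp g t))
    (he : ∀ x, e.hom.toNatTrans.app x = t.map x.obj.iso.hom) :
    AlgSt.IsQuasiDMMor t → AlgSt.RepByAlgSpWith (AlgSp.LocP (@LocallyQuasiFinite ⊓ @LocallyOfFiniteType)) (FibCat.fpLift (FibCat.fpFst f g) (FibCat.fpSnd f g) e) := by
  exact fun h => Groth.Agent.H14AlgSt.repWith_fpComparison f g t e he h

end Groth.Agent.S13032
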