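import Groth.Statements.S13037
import Groth.Agent.H14AlgSt.LargestSmooth

set_option autoImplicit false
set_option backward.isDefEq.respectTransparency false
set_option backward.isDefEq.respectTransparency.types false
universe u
open CategoryTheory AlgebraicGeometry
open AlgSt

namespace Groth.Agent.S13037

/-- For a morphism f : 𝒳 → 𝒴 of algebraic stacks there is a largest open substack of 𝒳 on which f is
smooth: a strictly full open substack 𝒰 with 𝒰 → 𝒳 → 𝒴 smooth, containing every open substack with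
that property. (The compatibilities of its formation with smooth precomposition and flat base change
are not part of this statement.) -/
theorem result
    (S : Scheme.{u}) (𝒳 : AlgSt.Cat S) (𝒴 : AlgSt.Cat S)
    (h𝒳 : AlgSt.IsAlgStack Scheme.fppfPrecoverage 𝒳)
    (h𝒴 : AlgSt.IsAlgStack Scheme.fppfPrecoverage 𝒴)
    (f : 𝒳 ⥤ᵇ 𝒴) :
    ∃ Q : 𝒳.obj → Prop, AlgSt.IsOpenSubstack 𝒳 Q Scheme.fppfPrecoverage ∧
      AlgSt.LocQ (AlgSp.LocP @Smooth) (BasedFunctor.comp (AlgSt.subIncl 𝒳 Q) f) ∧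
      ∀ Q' : 𝒳.obj → Prop, AlgSt.IsOpenSubstack 𝒳 Q' Scheme.fppfPrecoverage →
        AlgSt.LocQ (AlgSp.LocP @Smooth) (BasedFunctor.comp (AlgSt.subIncl 𝒳 Q') f) → ∀ a, Q' a → Q a := by
  obtain ⟨V, y, hy, hys⟩ := h𝒴.atlas
  obtain ⟨A, a, h, ha, has, ⟨j⟩⟩ := H14AlgSt.exists_atlas_fp h𝒳 h𝒴 f y
  have hO := H14AlgSt.isOpenSubstack_ptPred h𝒳
    (H14AlgSt.isOpen_smoothSet (h := h) h𝒳.isStack.1 h𝒴.isStack.1 hy ha)
  refine ⟨_, hO, H14AlgSt.locQ_smoothSet h𝒳 h𝒴.isStack.1 hy ha j, fun Q' hQ' hf =>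
    (H14AlgSt.openSubstack_le_iff h𝒳 hQ' hO).2 ?_⟩
  rw [H14AlgSt.range_ptPred]
  exact H14AlgSt.smoothSet_spec h𝒳 h𝒴 hy hys ha has j hQ' hf

end Groth.Agent.S13037
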