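import Groth.Statements.S13038
import Groth.Agent.H14AlgSt.LocQ4

set_option autoImplicit false
set_option backward.isDefEq.respectTransparency false
set_option backward.isDefEq.respectTransparency.types false
universe u
open CategoryTheory AlgebraicGeometry
open AlgSt

namespace Groth.Agent.S13038

/-- Suppose P, a property of morphisms between algebraic spaces, is local on source and target for the
smooth topology and is preserved by composition of algebraic spaces. Then the induced property of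
morphisms of algebraic stacks, read on one square of smooth charts, is stable under composition. -/
theorem result
    (S : Scheme.{u}) (P : MorphismProperty (AlgSp.Sp S)) (hP : AlgSp.IsSmoothLocalST P)
    (hPc : ∀ ⦃X₁ Y₁ Z₁ : AlgSp.Sp S⦄, AlgSp.IsAlgSpace X₁ → AlgSp.IsAlgSpace Y₁ → AlgSp.IsAlgSpace Z₁ →
      ∀ (a : X₁ ⟶ Y₁) (b : Y₁ ⟶ Z₁), P a → P b → P (a ≫ b))
    (𝒳 : AlgSt.Cat S) (𝒴 : AlgSt.Cat S) (𝒵 : AlgSt.Cat S)
    (h𝒳 : AlgSt.IsAlgStack Scheme.fppfPrecoverage 𝒳)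
    (h𝒴 : AlgSt.IsAlgStack Scheme.fppfPrecoverage 𝒴)
    (h𝒵 : AlgSt.IsAlgStack Scheme.fppfPrecoverage 𝒵)
    (f : 𝒳 ⥤ᵇ 𝒴) (g : 𝒴 ⥤ᵇ 𝒵) :
    AlgSt.LocQ P f → AlgSt.LocQ P g → AlgSt.LocQ P (BasedFunctor.comp f g) := by
  open Groth.Agent.H14AlgSt in
  intro hf hg
  obtain ⟨A, B, C, h, c, z, b, y, a, Θ, hz, hb, hy, ha, hΘ, ⟨jh⟩, ⟨jc⟩, ⟨jt⟩⟩ :=
    exists_tower h𝒳 h𝒴 h𝒵 f g
  refine locQ_of_atlas h𝒳.isStack.1 h𝒵.isStack.1 hz.1 hz.2 hΘ.1 hΘ.2 jt ?_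
  rw [(AlgSp.yon S).map_comp]
  exact hPc (AlgSp.IsAlgSpace.yon_obj A) (AlgSp.IsAlgSpace.yon_obj B) (AlgSp.IsAlgSpace.yon_obj C)
    _ _ (prop_of_locQ hP hf hy.1 a ha.1 jh) (prop_of_locQ hP hg hz.1 b hb.1 jc)

end Groth.Agent.S13038
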