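import Groth.Statements.S13041
import Groth.Agent.H17.Imports
import Mathlib.RingTheory.Ideal.AssociatedPrime.Localization
import Mathlib.LinearAlgebra.Matrix.SpecialLinearGroup
import Mathlib.LinearAlgebra.Matrix.Transvection
import Mathlib.RingTheory.IntegralClosure.IntegrallyClosed
import Mathlib.RingTheory.Length
import Mathlib.RingTheory.Nakayama
import Mathlib.RingTheory.LocalRing.Basic

set_option autoImplicit false
universe u
open MaxMod

namespace Groth.Agent.S13041

open CategoryTheory Limits AlgebraicGeometry TopologicalSpace

/-- Let R be a domain with fraction field K, let A → B be a homomorphism of commutative R-algebras that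
are flat over R, with B module-finite over A, such that the induced map K ⊗_R A → K ⊗_R B is
bijective. If the A-linear map Hom_A(B, A) → A evaluating at 1 is surjective, then A → B is
bijective. (The published statement concerns a finite morphism of flat schemes over a discrete
valuation ring, with locally free relative dualizing sheaves, that is an isomorphism over a
schematically dense open and whose trace map on dualizing sheaves is surjective; this row is the
statement about rings to which the printed proof reduces it and which that proof establishes, and
the argument uses only that R is a domain.) -/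
theorem result
    (R K A B : Type u) [CommRing R] [IsDomain R] [Field K] [Algebra R K] [IsFractionRing R K]
    [CommRing A] [CommRing B] [Algebra R A] [Algebra R B] [Algebra A B] [IsScalarTower R A B]
    [Module.Flat R A] [Module.Flat R B] [Module.Finite A B]
    (hK : Function.Bijective
      (Algebra.TensorProduct.map (AlgHom.id R K) (IsScalarTower.toAlgHom R A B)))
    (htr : Function.Surjective (fun u : B →ₗ[A] A => u 1)) :
    Function.Bijective (algebraMap A B) := by
  have hmk : ∀ (M : Type u) [AddCommGroup M] [Module R M] [Module.Flat R M],
      Function.Injective (fun m : M => (1 : K) ⊗ₜ[R] m) := by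
    intro M _ _ _
    have := (Module.Flat.rTensor_preserves_injective_linearMap (M := M) (Algebra.linearMap R K)
      (IsFractionRing.injective R K)).comp (TensorProduct.lid R M).symm.injective
    convert this using 1
    funext m
    simp
  obtain ⟨u, hu⟩ := htr 1
  change u 1 = 1 at hu
  have hinj : Function.Injective (algebraMap A B) := by
    intro a a' h
    have := congrArg u h
    rwa [Algebra.algebraMap_eq_smul_one, Algebra.algebraMap_eq_smul_one, map_smul, map_smul, hu,
      smul_eq_mul, smul_eq_mul, mul_one, mul_one] at this
  refine ⟨hinj, fun b => ⟨u b, ?_⟩⟩
  apply hmk B
  obtain ⟨z, hz⟩ := hK.2 ((1 : K) ⊗ₜ[R] b)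
  let U : TensorProduct R K B →ₗ[R] TensorProduct R K A := TensorProduct.map LinearMap.id (u.restrictScalars R)
  let I := Algebra.TensorProduct.map (AlgHom.id R K) (IsScalarTower.toAlgHom R A B)
  have hUI : ∀ z, U (I z) = z := by
    intro z
    induction z using TensorProduct.induction_on with
    | zero => simp
    | tmul k a => simp [U, I, Algebra.algebraMap_eq_smul_one, hu]
    | add x y hx hy => rw [map_add, map_add, hx, hy]
  have h1 : I (U ((1 : K) ⊗ₜ[R] b)) = (1 : K) ⊗ₜ[R] b := by
    rw [← hz, hUI]
  simpa [U, I] using h1

end Groth.Agent.S13041
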