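import Groth.Statements.S13042
import Groth.Agent.H17.Imports
import Mathlib.Algebra.CharP.Lemmas
import Mathlib.Algebra.MvPolynomial.Expand
import Mathlib.Algebra.CharP.Algebra
import Mathlib.Tactic.LinearCombination
import Mathlib.RingTheory.Ideal.Quotient.Operations
import Mathlib.Algebra.MvPolynomial.CommRing
import Mathlib.RingTheory.LocalRing.MaximalIdeal.Basic

set_option autoImplicit false
universe u
open MaxMod

namespace Groth.Agent.S13042

open MvPolynomial

open MvPolynomial in
/-- Let p be a prime, R a local ring of characteristic p, λ an element of the maximal ideal of R and f ∈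
R. Then there is an isomorphism of R-algebras R[W₁, W₂]/(W₁^p − f, W₂^p − f) ≅ R[x, W]/(x^p, W^p −
f) with W₁ ↦ x + W + λ·x·W and W₂ ↦ W; that is, Spec R[W]/(W^p − f) with the action w ↦ x + w + λxw
is a torsor under the group scheme Spec R[x]/(x^p) with law x₁ ∘ x₂ = x₁ + x₂ + λx₁x₂. (The
published statement is over a complete discrete valuation ring of characteristic p with λ a nonzero
nonunit, and also asserts that for f in the fraction field with negative valuation v(f) > −p·v(λ)
the torsor W^p = f extends to a torsor over R, using the coordinate 1/W; that second case fails: for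
p = 2, λ = π a uniformizer and f = 1/π, every model is Spec R[π^a t] with t² = π, and none of these
is a torsor since the coaction sends t to t − π(1 + t)x. Only the case f ∈ R is stated, and the
argument there uses only that R is local of characteristic p.) -/
theorem result
    (p : ℕ) [Fact p.Prime] (R : Type u) [CommRing R] [IsLocalRing R] [CharP R p]
    (lam f : R) (hlam : lam ∈ IsLocalRing.maximalIdeal R) :
    ∃ e : (MvPolynomial (Fin 2) R ⧸ Ideal.span {(X 0 ^ p - C f : MvPolynomial (Fin 2) R), X 1 ^ p - C f}) ≃ₐ[R]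
        (MvPolynomial (Fin 2) R ⧸ Ideal.span {(X 0 ^ p : MvPolynomial (Fin 2) R), X 1 ^ p - C f}),
      e (Ideal.Quotient.mk _ (X 0)) = Ideal.Quotient.mk _ (X 0 + X 1 + C lam * X 0 * X 1) ∧
      e (Ideal.Quotient.mk _ (X 1)) = Ideal.Quotient.mk _ (X 1) := by
  classical
  set I : Ideal (MvPolynomial (Fin 2) R) := Ideal.span {X 0 ^ p - C f, X 1 ^ p - C f} with hI
  set J : Ideal (MvPolynomial (Fin 2) R) := Ideal.span {X 0 ^ p, X 1 ^ p - C f} with hJ
  have hp : p ≠ 0 := (Fact.out : p.Prime).ne_zero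
  -- relations
  have a0 : (Ideal.Quotient.mk I (X 0)) ^ p = algebraMap R _ f := by
    rw [← map_pow]
    exact (Ideal.Quotient.mk_eq_mk_iff_sub_mem _ _).2 (Ideal.subset_span (Set.mem_insert _ _))
  have a1 : (Ideal.Quotient.mk I (X 1)) ^ p = algebraMap R _ f := by
    rw [← map_pow]
    exact (Ideal.Quotient.mk_eq_mk_iff_sub_mem _ _).2
      (Ideal.subset_span (Set.mem_insert_of_mem _ rfl))
  have b0 : (Ideal.Quotient.mk J (X 0)) ^ p = 0 := by
    rw [← map_pow]
    exact Ideal.Quotient.eq_zero_iff_mem.2 (Ideal.subset_span (Set.mem_insert _ _))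
  have b1 : (Ideal.Quotient.mk J (X 1)) ^ p = algebraMap R _ f := by
    rw [← map_pow]
    exact (Ideal.Quotient.mk_eq_mk_iff_sub_mem _ _).2
      (Ideal.subset_span (Set.mem_insert_of_mem _ rfl))
  -- the scalar `1 + lam ^ p * f`
  have hu0 : IsUnit (1 + lam ^ p * f) := by
    by_contra hc
    have h1 : lam ^ p * f ∈ IsLocalRing.maximalIdeal R :=
      Ideal.mul_mem_right _ _ (Ideal.pow_mem_of_mem _ hlam p (Nat.pos_of_ne_zero hp))
    have h2 := Ideal.sub_mem _ ((IsLocalRing.mem_maximalIdeal _).2 hc) h1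
    rw [add_sub_cancel_right] at h2
    exact (IsLocalRing.maximalIdeal.isMaximal R).ne_top ((Ideal.eq_top_iff_one _).2 h2)
  -- frobenius identities in a polynomial quotient
  have frob : ∀ (K : Ideal (MvPolynomial (Fin 2) R)) (a b : MvPolynomial (Fin 2) R),
      (Ideal.Quotient.mk K (a + b)) ^ p = Ideal.Quotient.mk K a ^ p + Ideal.Quotient.mk K b ^ p := by
    intro K a b
    rw [← map_pow, add_pow_char, map_add, map_pow, map_pow]
  have hunit : IsUnit (1 + algebraMap R _ lam * Ideal.Quotient.mk I (X 1)) := by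
    rw [← isUnit_pow_iff hp]
    have : (1 + algebraMap R _ lam * Ideal.Quotient.mk I (X 1)) ^ p =
        algebraMap R _ (1 + lam ^ p * f) := by
      have h := frob I 1 (C lam * X 1)
      simp only [map_add, map_one, map_mul, one_pow, mul_pow, a1] at h
      rw [show algebraMap R (MvPolynomial (Fin 2) R ⧸ I) lam = Ideal.Quotient.mk I (C lam) from rfl, h]
      simp only [map_add, map_one, map_mul, map_pow]
      rfl
    rw [this]
    exact hu0.map _
  obtain ⟨w, hw⟩ := hunit
  set v : MvPolynomial (Fin 2) R ⧸ I := ↑w⁻¹ with hv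
  -- forward map
  let φ : MvPolynomial (Fin 2) R →ₐ[R] MvPolynomial (Fin 2) R ⧸ J :=
    aeval ![Ideal.Quotient.mk J (X 0 + X 1 + C lam * X 0 * X 1), Ideal.Quotient.mk J (X 1)]
  let ψ : MvPolynomial (Fin 2) R →ₐ[R] MvPolynomial (Fin 2) R ⧸ I :=
    aeval ![(Ideal.Quotient.mk I (X 0) - Ideal.Quotient.mk I (X 1)) * v, Ideal.Quotient.mk I (X 1)]
  have hφ : ∀ a ∈ I, φ a = 0 := by
    suffices I ≤ RingHom.ker φ.toRingHom from fun a ha => this ha
    rw [hI, Ideal.span_le]
    rintro a (rfl | rfl)
    · show φ _ = 0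
      simp only [φ, map_sub, map_pow, aeval_X, aeval_C, Matrix.cons_val_zero]
      have hh : (Ideal.Quotient.mk J (X 0 + X 1 + C lam * X 0 * X 1)) ^ p = algebraMap R _ f := by
        rw [frob, frob]
        simp only [map_mul, mul_pow, b0, b1, mul_zero, zero_mul, add_zero, zero_add]
      rw [hh, sub_self]
    · show φ _ = 0
      simp only [φ, map_sub, map_pow, aeval_X, aeval_C, Matrix.cons_val_one, Matrix.cons_val_fin_one]
      rw [b1, sub_self]
  have hψ : ∀ a ∈ J, ψ a = 0 := by
    suffices J ≤ RingHom.ker ψ.toRingHom from fun a ha => this ha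
    rw [hJ, Ideal.span_le]
    rintro a (rfl | rfl)
    · show ψ _ = 0
      simp only [ψ, map_pow, aeval_X, Matrix.cons_val_zero]
      have hh : (Ideal.Quotient.mk I (X 0) - Ideal.Quotient.mk I (X 1)) ^ p = 0 := by
        have h := frob I (X 0 - X 1) (X 1)
        rw [sub_add_cancel, a0, a1, map_sub] at h
        exact (add_eq_right.1 h.symm)
      rw [mul_pow, hh, zero_mul]
    · show ψ _ = 0
      simp only [ψ, map_sub, map_pow, aeval_X, aeval_C, Matrix.cons_val_one, Matrix.cons_val_fin_one]
      rw [a1, sub_self]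
  let φ' := Ideal.Quotient.liftₐ I φ hφ
  let ψ' := Ideal.Quotient.liftₐ J ψ hψ
  have e1 : φ' (Ideal.Quotient.mk I (X 1)) = Ideal.Quotient.mk J (X 1) := by
    show φ (X 1) = _
    simp [φ]
  have e0 : φ' (Ideal.Quotient.mk I (X 0)) = Ideal.Quotient.mk J (X 0 + X 1 + C lam * X 0 * X 1) := by
    show φ (X 0) = _
    simp [φ]
  have f1 : ψ' (Ideal.Quotient.mk J (X 1)) = Ideal.Quotient.mk I (X 1) := by
    show ψ (X 1) = _
    simp [ψ]
  have f0 : ψ' (Ideal.Quotient.mk J (X 0)) =
      (Ideal.Quotient.mk I (X 0) - Ideal.Quotient.mk I (X 1)) * v := by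
    show ψ (X 0) = _
    simp [ψ]
  have hv1 : v * (1 + algebraMap R _ lam * Ideal.Quotient.mk I (X 1)) = 1 := by
    rw [← hw, hv, Units.inv_mul]
  have hcomp1 : ψ'.comp φ' = AlgHom.id R _ := by
    refine Ideal.Quotient.algHom_ext _ (MvPolynomial.algHom_ext fun i => ?_)
    fin_cases i
    · show ψ' (φ' (Ideal.Quotient.mk I (X 0))) = Ideal.Quotient.mk I (X 0)
      rw [e0, map_add, map_add, map_add, map_add, map_mul, map_mul, map_mul, map_mul, f0, f1,
        show ψ' (Ideal.Quotient.mk J (C lam)) = algebraMap R _ lam from ψ'.commutes lam]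
      linear_combination (Ideal.Quotient.mk I (X 0) - Ideal.Quotient.mk I (X 1)) * hv1
    · show ψ' (φ' (Ideal.Quotient.mk I (X 1))) = Ideal.Quotient.mk I (X 1)
      rw [e1, f1]
  have hcomp2 : φ'.comp ψ' = AlgHom.id R _ := by
    refine Ideal.Quotient.algHom_ext _ (MvPolynomial.algHom_ext fun i => ?_)
    fin_cases i
    · show φ' (ψ' (Ideal.Quotient.mk J (X 0))) = Ideal.Quotient.mk J (X 0)
      rw [f0, map_mul, map_sub, e0, e1]
      have h2 := congrArg φ' hv1
      rw [map_mul, map_add, map_one, map_mul, AlgHom.commutes, e1] at h2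
      simp only [map_add, map_mul]
      rw [show Ideal.Quotient.mk J (C lam) = algebraMap R _ lam from rfl]
      linear_combination Ideal.Quotient.mk J (X 0) * h2
    · show φ' (ψ' (Ideal.Quotient.mk J (X 1))) = Ideal.Quotient.mk J (X 1)
      rw [f1, e1]
  exact ⟨AlgEquiv.ofAlgHom φ' ψ' hcomp2 hcomp1, e0, e1⟩

end Groth.Agent.S13042
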