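import Groth.Statements.S13043
import Groth.Agent.H17.AffineCompl
-- import your own Groth.Agent.* helpers here

set_option autoImplicit false
universe u
open CoPerf

namespace Groth.Agent.S13043

open AlgebraicGeometry in
/-- For a Noetherian scheme S that is separated, and a dense open subset U ⊆ S that is not empty, only
finitely many open subsets V ⊇ U have an affine inclusion morphism V → S, and among them there is
one contained in all the others (a least element for inclusion). -/
theorem result
    (S : Scheme.{u}) [IsNoetherian S] [S.IsSeparated] (U : S.Opens)
    (hne : (U : Set S).Nonempty) (hU : Dense (U : Set S)) :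
    Set.Finite {V : S.Opens | U ≤ V ∧ IsAffineHom V.ι} ∧
      ∃ V₀ : S.Opens, (U ≤ V₀ ∧ IsAffineHom V₀.ι) ∧
        ∀ V : S.Opens, U ≤ V → IsAffineHom V.ι → V₀ ≤ V := by
  exact Groth.Agent.H17.AffineCompl.main U hU

end Groth.Agent.S13043
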