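import Groth.Statements.S13044
import Groth.Agent.H17.Imports
import Mathlib.AlgebraicGeometry.Morphisms.SchemeTheoreticallyDominant
import Mathlib.AlgebraicGeometry.Morphisms.Separated
import Mathlib.AlgebraicGeometry.Morphisms.ClosedImmersion
import Mathlib.RingTheory.DiscreteValuationRing.Basic

set_option autoImplicit false
universe u
open MaxMod

namespace Groth.Agent.S13044

open CategoryTheory CategoryTheory.Limits AlgebraicGeometry TopologicalSpace Opposite

open CategoryTheory Limits AlgebraicGeometry in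
/-- Let R be a discrete valuation ring with fraction field K, let Y be a flat separated R-scheme and let
Γ → Y ×_R Y be a closed subscheme, with projections p₁, p₂ : Γ → Y, such that Γ is flat over R
(equivalently, Γ is the schematic closure of its generic fibre) and p₁, p₂ are flat. If for every
scheme T over Spec K the relation on the T-valued points of Y defined by the T-valued points of Γ is
an equivalence relation, then for every scheme T over Spec R that relation is an equivalence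
relation: Γ is a flat equivalence relation on Y. -/
theorem result
    (R K : Type u) [CommRing R] [IsDomain R] [IsDiscreteValuationRing R]
    [Field K] [Algebra R K] [IsFractionRing R K]
    (Y Γ : Scheme.{u}) (f : Y ⟶ Spec (CommRingCat.of R)) [IsSeparated f] [Flat f]
    (p₁ p₂ : Γ ⟶ Y) (h : p₁ ≫ f = p₂ ≫ f)
    (hΓ : IsClosedImmersion (pullback.lift p₁ p₂ h))
    [Flat (p₁ ≫ f)] [Flat p₁] [Flat p₂]
    (hK : ∀ (T : Scheme.{u}) (t : T ⟶ Spec (CommRingCat.of R)),
      (∃ s : T ⟶ Spec (CommRingCat.of K), t = s ≫ Spec.map (CommRingCat.ofHom (algebraMap R K))) →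
      _root_.Equivalence fun a b : {a : T ⟶ Y // a ≫ f = t} =>
        ∃ c : T ⟶ Γ, c ≫ p₁ = a.1 ∧ c ≫ p₂ = b.1) :
    ∀ (T : Scheme.{u}) (t : T ⟶ Spec (CommRingCat.of R)),
      _root_.Equivalence fun a b : {a : T ⟶ Y // a ≫ f = t} =>
        ∃ c : T ⟶ Γ, c ≫ p₁ = a.1 ∧ c ≫ p₂ = b.1 := by
  set γ := pullback.lift p₁ p₂ h
  set η := Spec.map (CommRingCat.ofHom (algebraMap R K))
  haveI : IsDominant η := by
    refine ⟨?_⟩
    show DenseRange (PrimeSpectrum.comap (algebraMap R K))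
    rw [PrimeSpectrum.denseRange_comap_iff_ker_le_nilRadical]
    rw [(RingHom.injective_iff_ker_eq_bot _).1 (IsFractionRing.injective R K)]
    exact bot_le
  haveI : IsSchemeTheoreticallyDominant η := .of_isDominant _
  -- relations over the generic fibre of a flat scheme extend
  have key : ∀ (W : Scheme.{u}) (w : W ⟶ Spec (CommRingCat.of R)) [Flat w] (a b : W ⟶ Y),
      a ≫ f = w → b ≫ f = w →
      (∃ c : pullback w η ⟶ Γ, c ≫ p₁ = pullback.fst w η ≫ a ∧ c ≫ p₂ = pullback.fst w η ≫ b) →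
      ∃ c : W ⟶ Γ, c ≫ p₁ = a ∧ c ≫ p₂ = b := by
    intro W w _ a b ha hb ⟨c, hc₁, hc₂⟩
    let ab : W ⟶ pullback f f := pullback.lift a b (ha.trans hb.symm)
    let j := pullback.snd γ ab
    haveI : IsClosedImmersion γ := hΓ
    haveI : IsClosedImmersion j := inferInstance
    have hab : c ≫ γ = pullback.fst w η ≫ ab := by
      apply pullback.hom_ext
      · rw [Category.assoc, pullback.lift_fst, hc₁, Category.assoc, pullback.lift_fst]
      · rw [Category.assoc, pullback.lift_snd, hc₂, Category.assoc, pullback.lift_snd]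
    let l := pullback.lift c (pullback.fst w η) hab
    have hl : l ≫ j = pullback.fst w η := pullback.lift_snd _ _ _
    haveI : QuasiCompact η := inferInstance
    have hker : j.ker = ⊥ := by
      rw [← le_bot_iff, ← (pullback.fst w η).ker_eq_bot, ← hl, Scheme.Hom.ker_comp]
      have := Scheme.IdealSheafData.map_mono j (bot_le : (⊥ : (pullback γ ab).IdealSheafData) ≤ l.ker)
      simpa [Scheme.IdealSheafData.map_bot] using this
    haveI : IsIso j := (IsClosedImmersion.isIso_iff_ker_eq_bot).2 hker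
    refine ⟨inv j ≫ pullback.fst γ ab, ?_, ?_⟩
    · have := congrArg (fun φ => φ ≫ pullback.fst f f) (pullback.condition (f := γ) (g := ab))
      simp only [Category.assoc, γ, ab, pullback.lift_fst] at this
      rw [Category.assoc, this, IsIso.inv_hom_id_assoc]
    · have := congrArg (fun φ => φ ≫ pullback.snd f f) (pullback.condition (f := γ) (g := ab))
      simp only [Category.assoc, γ, ab, pullback.lift_snd] at this
      rw [Category.assoc, this, IsIso.inv_hom_id_assoc]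
  -- points of the generic fibre
  have gen : ∀ (W : Scheme.{u}) (w : W ⟶ Spec (CommRingCat.of R)),
      ∃ s : pullback w η ⟶ Spec (CommRingCat.of K), pullback.fst w η ≫ w = s ≫ η :=
    fun W w => ⟨pullback.snd w η, pullback.condition⟩
  have hrefl : ∃ c : Y ⟶ Γ, c ≫ p₁ = 𝟙 Y ∧ c ≫ p₂ = 𝟙 Y := by
    refine key Y f (𝟙 Y) (𝟙 Y) (Category.id_comp f) (Category.id_comp f) ?_
    obtain ⟨c, h1, h2⟩ := (hK _ _ (gen Y f)).refl ⟨pullback.fst f η, rfl⟩
    exact ⟨c, by simpa using h1, by simpa using h2⟩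
  have hsymm : ∃ σ : Γ ⟶ Γ, σ ≫ p₁ = p₂ ∧ σ ≫ p₂ = p₁ := by
    refine key Γ (p₁ ≫ f) p₂ p₁ h.symm rfl ?_
    obtain ⟨c, h1, h2⟩ := (hK _ _ (gen Γ (p₁ ≫ f))).symm
      (x := ⟨pullback.fst (p₁ ≫ f) η ≫ p₁, by simp⟩) (y := ⟨pullback.fst (p₁ ≫ f) η ≫ p₂, by simp [h]⟩)
      ⟨pullback.fst (p₁ ≫ f) η, rfl, rfl⟩
    exact ⟨c, h1, h2⟩
  let P := pullback p₂ p₁
  let wP : P ⟶ Spec (CommRingCat.of R) := pullback.fst p₂ p₁ ≫ p₁ ≫ f
  have e : (pullback.snd p₂ p₁ ≫ p₂) ≫ f = wP := by
    show _ = pullback.fst p₂ p₁ ≫ p₁ ≫ f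
    rw [Category.assoc, ← h, ← pullback.condition_assoc, h]
  have htrans : ∃ τ : P ⟶ Γ, τ ≫ p₁ = pullback.fst p₂ p₁ ≫ p₁ ∧ τ ≫ p₂ = pullback.snd p₂ p₁ ≫ p₂ := by
    refine key P wP _ _ (Category.assoc _ _ _) e ?_
    have em : (pullback.fst p₂ p₁ ≫ p₂) ≫ f = wP := by simp only [wP, Category.assoc, h]
    obtain ⟨c, h1, h2⟩ := (hK _ _ (gen P wP)).trans
      (x := ⟨pullback.fst wP η ≫ pullback.fst p₂ p₁ ≫ p₁, by simp [wP]⟩)
      (y := ⟨pullback.fst wP η ≫ pullback.fst p₂ p₁ ≫ p₂, by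
        rw [Category.assoc, Category.assoc]; rw [← Category.assoc (pullback.fst p₂ p₁), em]⟩)
      (z := ⟨pullback.fst wP η ≫ pullback.snd p₂ p₁ ≫ p₂, by
        rw [Category.assoc, Category.assoc]; rw [← Category.assoc (pullback.snd p₂ p₁), e]⟩)
      ⟨pullback.fst wP η ≫ pullback.fst p₂ p₁, by simp, by simp⟩
      ⟨pullback.fst wP η ≫ pullback.snd p₂ p₁, by simp [← pullback.condition], by simp⟩
    exact ⟨c, h1, h2⟩
  obtain ⟨d, hd1, hd2⟩ := hrefl
  obtain ⟨σ, hσ1, hσ2⟩ := hsymm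
  obtain ⟨τ, hτ1, hτ2⟩ := htrans
  intro T t
  refine ⟨fun a => ⟨a.1 ≫ d, by rw [Category.assoc, hd1, Category.comp_id],
    by rw [Category.assoc, hd2, Category.comp_id]⟩, ?_, ?_⟩
  · rintro a b ⟨c, h1, h2⟩
    exact ⟨c ≫ σ, by rw [Category.assoc, hσ1, h2], by rw [Category.assoc, hσ2, h1]⟩
  · rintro a b c ⟨c₁, h1, h2⟩ ⟨c₂, h3, h4⟩
    refine ⟨pullback.lift c₁ c₂ (h2.trans h3.symm) ≫ τ, ?_, ?_⟩
    · rw [Category.assoc, hτ1, pullback.lift_fst_assoc, h1]
    · rw [Category.assoc, hτ2, pullback.lift_snd_assoc, h4]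

end Groth.Agent.S13044
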