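import Groth.Statements.S13045
import Groth.Agent.H27Perf.PiTensor
import Mathlib

set_option autoImplicit false
universe u
open FrobAlg

namespace Groth.Agent.S13045

open TensorProduct in
/-- Let p be a prime, R a commutative ring of characteristic p and A a commutative R-algebra of
characteristic p, with Frobenius twists A^{p^i/R} = R ⊗_{F^i,R} A, relative Frobenius maps F_i :
A^{p^{i+1}/R} → A^{p^i/R} and preperfection A^{p^∞/R} = lim_i A^{p^i/R} ⊆ Π_i A^{p^i/R}. For every
projective R-module M the natural map M ⊗_R A^{p^∞/R} → Π_i (M ⊗_R A^{p^i/R}), m ⊗ x ↦ (m ⊗ x_i)_i,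
is injective; in particular the base change map M ⊗_R lim_i A^{p^i/R} → lim_i (M ⊗_R A^{p^i/R}) is
injective. (The published statement is phrased for a projective R-algebra R′ in place of M; the
printed argument is the module statement given here.) -/
theorem result
    (p : ℕ) [Fact p.Prime] (R : Type u) [CommRing R] [CharP R p]
    (A : Type u) [CommRing A] [Algebra R A] [CharP A p]
    (M : Type u) [AddCommGroup M] [Module R M] [Module.Projective R M] :
    Function.Injective
      (LinearMap.pi fun i : ℕ =>
        LinearMap.lTensor M
          (((Pi.evalAlgHom R (fun k => W4c1imperftorsors.Twist p R A k) i).comp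
            (W4c1imperftorsors.prePerf p R A).val).toLinearMap) :
        M ⊗[R] ↥(W4c1imperftorsors.prePerf p R A) →ₗ[R] (Π i : ℕ, M ⊗[R] W4c1imperftorsors.Twist p R A i)) := by
  exact Groth.Agent.H27Perf.injective_pi_tensor (W4c1imperftorsors.prePerf p R A).toSubmodule

end Groth.Agent.S13045
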