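import Groth.Statements.S13047
import Groth.Agent.H27Perf.NodeTwist
import Mathlib

set_option autoImplicit false
universe u
open FrobAlg

namespace Groth.Agent.S13047

open Polynomial in
/-- Let p be an odd prime, R a commutative ring of characteristic p and u, v ∈ R with uv = 0, such that
for every N ≥ 1 an element of R lying in (v^n) + (u^N) for all n lies in (u^N) (v-adic separatedness
of R/(u^N)). Let B = R[α]/(uα, α² − v²), an R-algebra of characteristic p, with Frobenius twists
B^{p^i/R} = R ⊗_{F^i,R} B and preperfection B^{p^∞/R} = lim_i B^{p^i/R} along the relative Frobenius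
maps. Then the structure map R → B^{p^∞/R} is bijective: the preperfection of B is R. (The published
statement is for R = F_p[[u, v]]/(uv), where B arises as the preperfection of R[x, y, 1/(x − y)]/(xy
− u), so that the second preperfection of that algebra is R although the first is not perfect; the
printed computation uses only the hypotheses listed here, which that R satisfies.) -/
theorem result
    (p : ℕ) [Fact p.Prime] (hp : p ≠ 2) (R : Type u) [CommRing R] [CharP R p]
    (u v : R) (huv : u * v = 0)
    (hsep : ∀ N : ℕ, 1 ≤ N → ∀ g : R,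
      (∀ n : ℕ, g ∈ Ideal.span {v ^ n} ⊔ Ideal.span {u ^ N}) → g ∈ Ideal.span {u ^ N})
    [CharP (R[X] ⧸ Ideal.span {(C u * X : R[X]), X ^ 2 - C (v ^ 2)}) p] :
    Function.Bijective
      (algebraMap R ↥(W4c1imperftorsors.prePerf p R
        (R[X] ⧸ Ideal.span {(C u * X : R[X]), X ^ 2 - C (v ^ 2)}))) := by
  let I : Ideal R[X] := Ideal.span {(C u * X : R[X]), X ^ 2 - C (v ^ 2)}
  let B := R[X] ⧸ I
  let α : B := Ideal.Quotient.mk I X
  have hC : ∀ r : R, algebraMap R B r = Ideal.Quotient.mk I (C r) := fun r => rfl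
  have hα : α ^ 2 = algebraMap R B (v ^ 2) := by
    rw [hC, ← map_pow, ← sub_eq_zero, ← map_sub, Ideal.Quotient.eq_zero_iff_mem]
    exact Ideal.subset_span (Set.mem_insert_of_mem _ rfl)
  have huα : algebraMap R B u * α = 0 := by
    rw [hC, ← map_mul, Ideal.Quotient.eq_zero_iff_mem]
    exact Ideal.subset_span (Set.mem_insert _ _)
  have hlift : ∀ {T : Type u} [CommRing T] (f : R →+* T) (x : T), f u * x = 0 → x ^ 2 = f (v ^ 2) →
      ∃ g : B →+* T, (∀ r, g (algebraMap R B r) = f r) ∧ g α = x := by
    intro T _ f x h1 h2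
    refine ⟨Ideal.Quotient.lift I (Polynomial.eval₂RingHom f x) ?_, fun r => ?_, ?_⟩
    · show I ≤ RingHom.ker (Polynomial.eval₂RingHom f x)
      rw [Ideal.span_le, Set.insert_subset_iff, Set.singleton_subset_iff]
      simp only [SetLike.mem_coe, RingHom.mem_ker, coe_eval₂RingHom, eval₂_mul, eval₂_C, eval₂_X, eval₂_sub,
        eval₂_X_pow]
      exact ⟨h1, sub_eq_zero.mpr h2⟩
    · rw [hC, Ideal.Quotient.lift_mk, coe_eval₂RingHom, eval₂_C]
    · rw [Ideal.Quotient.lift_mk, coe_eval₂RingHom, eval₂_X]
  refine Groth.Agent.H27Perf.NodeTwist.bijective_prePerf p hp u v huv hsep α hα huα ?_ ?_ ?_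
  · intro b
    obtain ⟨f, rfl⟩ := Ideal.Quotient.mk_surjective b
    induction f using Polynomial.induction_on with
    | C a => exact ⟨a, 0, by rw [map_zero, zero_mul, add_zero]; rfl⟩
    | add f g hf hg =>
      obtain ⟨a, c, h1⟩ := hf
      obtain ⟨a', c', h2⟩ := hg
      exact ⟨a + a', c + c', by rw [map_add, map_add, map_add, h1, h2]; ring⟩
    | monomial n a h =>
      obtain ⟨a', c', h1⟩ := h
      refine ⟨c' * v ^ 2, a', ?_⟩
      rw [show C a * X ^ (n + 1) = C a * X ^ n * X by ring, map_mul, h1]
      show (algebraMap R B a' + algebraMap R B c' * α) * α = _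
      rw [add_mul, mul_assoc, ← sq, hα, ← map_mul, add_comm]
  · exact hlift (RingHom.id R) v huv rfl
  · intro i
    let R' := R ⧸ Ideal.span {u ^ p ^ i}
    let w : R' := Ideal.Quotient.mk _ (v ^ p ^ i)
    let P : R'[X] := X ^ 2 - C (w ^ 2)
    have hP : P.Monic := monic_X_pow_sub_C _ two_ne_zero
    have hq : p ^ i ≠ 0 := pow_ne_zero i (Fact.out : p.Prime).ne_zero
    obtain ⟨g, hg1, hg2⟩ := hlift ((algebraMap R (AdjoinRoot P)).comp (iterateFrobenius R p i)) (AdjoinRoot.root P)
      (by
        rw [RingHom.comp_apply, iterateFrobenius_def, IsScalarTower.algebraMap_apply R R' (AdjoinRoot P)]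
        rw [show algebraMap R R' (u ^ p ^ i) = 0 from Ideal.Quotient.eq_zero_iff_mem.mpr (Ideal.mem_span_singleton_self _),
          map_zero, zero_mul])
      (by
        have h := AdjoinRoot.eval₂_root P
        rw [eval₂_sub, eval₂_X_pow, eval₂_C, sub_eq_zero] at h
        rw [h, RingHom.comp_apply, iterateFrobenius_def, IsScalarTower.algebraMap_apply R R' (AdjoinRoot P),
          ← pow_mul, mul_comm, pow_mul]
        show AdjoinRoot.of P _ = AdjoinRoot.of P _
        rw [← map_pow (Ideal.Quotient.mk (Ideal.span {u ^ p ^ i}))]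
        rfl)
    refine ⟨AdjoinRoot P, inferInstance, inferInstance, g, AdjoinRoot.root P, fun r => ?_, hg2, fun a ha => ?_⟩
    · rw [hg1, RingHom.comp_apply, iterateFrobenius_def]
    · by_contra hne
      have hne' : (Ideal.Quotient.mk (Ideal.span {u ^ p ^ i}) a) ≠ 0 := fun h => hne (Ideal.Quotient.eq_zero_iff_mem.mp h)
      haveI : Nontrivial R' := ⟨⟨_, _, hne'⟩⟩
      have h0 : AdjoinRoot.mk P (C (Ideal.Quotient.mk _ a) * (X - C w)) = 0 := by
        rw [map_mul, map_sub, AdjoinRoot.mk_X]
        exact ha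
      rw [AdjoinRoot.mk_eq_zero] at h0
      have hz : C (Ideal.Quotient.mk (Ideal.span {u ^ p ^ i}) a) * (X - C w) = 0 := by
        by_contra hnz
        refine hP.not_dvd_of_degree_lt hnz ?_ h0
        refine lt_of_le_of_lt (degree_mul_le _ _) ?_
        rw [degree_C hne', degree_X_sub_C, degree_X_pow_sub_C two_pos]
        decide
      have := congrArg (fun q : R'[X] => q.coeff 1) hz
      simp at this
      exact hne' this

end Groth.Agent.S13047
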