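import Groth.Statements.S13048
import Mathlib

set_option autoImplicit false
universe u
open FrobAlg

namespace Groth.Agent.S13048

/-- Let k be an algebraically closed field of characteristic p > 0 and let A be a reduced finitely
generated commutative k-algebra with connected spectrum (A ≠ 0 and 0, 1 are its only idempotents).
If x ∈ A is a p^n-th power in A for every n ≥ 0, then x lies in the image of k; that is, ⋂_n A^{p^n}
= k. (The published statement is: for an artinian local ring R of characteristic p and a flat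
R-algebra A of finite type, the maps A^ét → O(π₀(A)) → A^{p^∞/R} from the largest étale subalgebra
to the preperfection are isomorphisms. This row is the case R = k algebraically closed and A reduced
with connected spectrum, where A^ét = k and the preperfection is ⋂_n A^{p^n}; the printed proof
reduces to this case and its last step proves it.) -/
theorem result
    (p : ℕ) [Fact p.Prime] (k : Type u) [Field k] [IsAlgClosed k] [CharP k p]
    (A : Type u) [CommRing A] [Algebra k A] [Algebra.FiniteType k A] [IsReduced A] [Nontrivial A]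
    (hconn : ∀ e : A, IsIdempotentElem e → e = 0 ∨ e = 1)
    (x : A) (hx : ∀ n : ℕ, ∃ a : A, a ^ p ^ n = x) :
    x ∈ (algebraMap k A).range := by
  classical
  haveI : IsNoetherianRing A := Algebra.FiniteType.isNoetherianRing k A
  haveI : ExpChar k p := ExpChar.prime Fact.out
  have hcharA : CharP A p := charP_of_injective_algebraMap (algebraMap k A).injective p
  have hres : ∀ (m : Ideal A), m.IsMaximal → ∀ a : A, ∃ c : k, a - algebraMap k A c ∈ m := by
    intro m hm a
    letI := Ideal.Quotient.field m
    haveI : Module.Finite k (A ⧸ m) := finite_of_finite_type_of_isJacobsonRing k (A ⧸ m)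
    obtain ⟨c, hc⟩ := IsAlgClosed.algebraMap_bijective_of_isIntegral (k := k) (K := A ⧸ m) |>.2 (Ideal.Quotient.mk m a)
    refine ⟨c, ?_⟩
    rw [← Ideal.Quotient.eq, ← hc, ← Ideal.Quotient.algebraMap_eq, ← IsScalarTower.algebraMap_apply]
  obtain ⟨m₀, hm₀⟩ := Ideal.exists_maximal A
  obtain ⟨c, hc⟩ := hres m₀ hm₀ x
  let y : A := x - algebraMap k A c
  have hloc : ∀ m : Ideal A, m.IsMaximal → y ∈ m → ∃ s, s ∉ m ∧ s * y = 0 := by
    intro m hm hy
    have hy' : y ∈ ⨅ i : ℕ, m ^ i • (⊤ : Submodule A A) := by
      refine Submodule.mem_iInf _ |>.mpr fun i => ?_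
      obtain ⟨a, ha⟩ := hx i
      obtain ⟨d, hd⟩ := IsAlgClosed.exists_pow_nat_eq c (pow_pos (Fact.out : p.Prime).pos i)
      have e : y = (a - algebraMap k A d) ^ p ^ i := by
        rw [sub_pow_char_pow, ha, ← map_pow, hd]
      rw [Ideal.smul_eq_mul, Ideal.mul_top, e]
      refine Ideal.pow_le_pow_right (Nat.lt_pow_self (Fact.out : p.Prime).one_lt).le (Ideal.pow_mem_pow ?_ _)
      exact hm.isPrime.mem_of_pow_mem _ (e ▸ hy)
    obtain ⟨r, hr⟩ := (Ideal.mem_iInf_smul_pow_eq_bot_iff m y).mp hy'
    refine ⟨1 - (r : A), fun h => hm.ne_top ((Ideal.eq_top_iff_one _).mpr ?_), ?_⟩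
    · simpa using m.add_mem h r.2
    · rw [sub_mul, one_mul, sub_eq_zero]
      exact hr.symm
  have htop : Ideal.span {y} ⊔ (Submodule.span A {y}).annihilator = ⊤ := by
    by_contra hne
    obtain ⟨m, hm, hle⟩ := Ideal.exists_le_maximal _ hne
    obtain ⟨s, hs, hsy⟩ := hloc m hm (hle (Ideal.mem_sup_left (Ideal.mem_span_singleton_self y)))
    exact hs (hle (Ideal.mem_sup_right ((Submodule.mem_annihilator_span_singleton y s).mpr hsy)))
  obtain ⟨a, ha, s, hs, hsum⟩ := Submodule.mem_sup.mp ((Ideal.eq_top_iff_one _).mp htop)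
  obtain ⟨t, rfl⟩ := Ideal.mem_span_singleton'.mp ha
  rw [Submodule.mem_annihilator_span_singleton, smul_eq_mul] at hs
  have hidem : IsIdempotentElem (t * y) := by
    show t * y * (t * y) = t * y
    linear_combination t * y * hsum - t * hs
  rcases hconn _ hidem with h | h
  · refine ⟨c, ?_⟩
    rw [h, zero_add] at hsum
    rw [hsum, one_mul] at hs
    exact (sub_eq_zero.mp hs).symm
  · exact absurd ((Ideal.eq_top_iff_one _).mpr (h ▸ m₀.mul_mem_left t hc)) hm₀.ne_top

end Groth.Agent.S13048
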