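import Groth.Statements.S13049
import Groth.Agent.H27Frob.Small

set_option autoImplicit false
universe u
open FrobAlg

namespace Groth.Agent.S13049

/-- Let p be a prime and A a commutative ring of characteristic p whose nilradical N satisfies x^(p^e) =
0 for all x ∈ N and some fixed e (for instance A Noetherian). Then the map between the inverse-limit
perfections along the absolute Frobenius, lim (⋯ → A → A) → lim (⋯ → A/N → A/N), induced by the
projection A → A/N, is bijective. (The published argument takes A of finite type over a field, where
the nilradical is finitely generated; this row assumes only that the nilradical is killed by one
fixed iterate of Frobenius, which is all that argument uses.) -/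
theorem result
    (p : ℕ) [Fact p.Prime] (A : Type u) [CommRing A] [CharP A p]
    [CharP (A ⧸ nilradical A) p] (e : ℕ) (he : ∀ x ∈ nilradical A, x ^ p ^ e = 0) :
    Function.Bijective (Perfection.map p (Ideal.Quotient.mk (nilradical A))) := by
  exact Groth.Agent.H27Frob.perfection_map_quotient_nilradical_bijective A e he

end Groth.Agent.S13049
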