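import Groth.Statements.S13052
import Groth.Agent.H27Zeta.ZetaBasics

set_option autoImplicit false
universe u
open CategoryTheory AlgebraicGeometry
open Zeta

namespace Groth.Agent.S13052

/-- If X is a scheme of finite type over a finite field k, Y ↪ X a closed subscheme and U = X ∖ Y its
open complement, then Z(X, t) = Z(Y, t) · Z(U, t). Here Y is any scheme with a closed immersion into
X whose image is the complement of U (its scheme structure plays no role), and Y, U are k-schemes
through X. -/
theorem result {k : Type u} [Field k] [Finite k]
    {X Y : Scheme.{u}} (f : X ⟶ Spec (CommRingCat.of k)) [LocallyOfFiniteType f] [QuasiCompact f]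
    (U : X.Opens) (i : Y ⟶ X) [IsClosedImmersion i] (hY : Set.range i.base = (U : Set X)ᶜ) :
    Zeta.zetaFun f = Zeta.zetaFun (i ≫ f) * Zeta.zetaFun (U.ι ≫ f) := by
  exact Groth.Agent.H27Zeta.zetaFun_eq_mul f U i hY

end Groth.Agent.S13052
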