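import Groth.Statements.S13056
import Groth.Agent.H27Zeta.Series

set_option autoImplicit false
universe u v
open Zeta

namespace Groth.Agent.S13056

/-- For an endomorphism φ of a finite-dimensional vector space over a field K, det(Id − tφ) = exp(−∑_{m
≥ 1} tr(φ^m) t^m / m) as power series in t. Stated for a square matrix M, with det(1 − tM) Mathlib's
reversed characteristic polynomial, and over a field of characteristic zero (the exponential series
needs ℚ ⊆ K; this is the case in which the identity is used). -/
theorem result {K : Type u} [Field K] [CharZero K]
    {n : Type v} [Fintype n] [DecidableEq n] (M : Matrix n n K) :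
    ((M.charpolyRev : Polynomial K) : PowerSeries K) =
      PowerSeries.subst (PowerSeries.mk fun m : ℕ => -(Matrix.trace (M ^ m)) / (m : K))
        (PowerSeries.exp K) := by
  exact Groth.Agent.H27Zeta.charpolyRev_eq_exp M

end Groth.Agent.S13056
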