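import Groth.Statements.S13057
import Groth.Agent.H27Zeta.Series

set_option autoImplicit false
universe u
open Zeta

namespace Groth.Agent.S13057

/-- A power series f = ∑_{m ≥ 0} a_m t^m over a field L lies in L(t), i.e. f · Q = P for some
polynomials P, Q with Q ≠ 0, if and only if there are natural numbers M, N such that the vectors
(a_i, a_{i+1}, …, a_{i+N}) ∈ L^{N+1}, i ≥ M, span a proper subspace. -/
theorem result {L : Type u} [Field L]
    (f : PowerSeries L) :
    (∃ P Q : Polynomial L, Q ≠ 0 ∧ f * (Q : PowerSeries L) = (P : PowerSeries L)) ↔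
      ∃ M N : ℕ, Submodule.span L
          {v : Fin (N + 1) → L | ∃ i : ℕ, M ≤ i ∧ v = fun j : Fin (N + 1) => PowerSeries.coeff (i + (j : ℕ)) f} ≠ ⊤ := by
  exact Groth.Agent.H27Zeta.rational_iff f

end Groth.Agent.S13057
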