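import Groth.Statements.S13058
import Groth.Agent.H27Zeta.Series

set_option autoImplicit false
universe u v
open Zeta

namespace Groth.Agent.S13058

/-- If L'/L is a field extension, a power series f ∈ L⟦t⟧ belongs to L(t) exactly when it belongs to
L'(t); here membership in L(t) means f · Q = P for polynomials P, Q over the field in question with
Q ≠ 0. -/
theorem result {L : Type u} {L' : Type v} [Field L] [Field L']
    [Algebra L L'] (f : PowerSeries L) :
    (∃ P Q : Polynomial L', Q ≠ 0 ∧
        PowerSeries.map (algebraMap L L') f * (Q : PowerSeries L') = (P : PowerSeries L')) ↔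
      ∃ P Q : Polynomial L, Q ≠ 0 ∧ f * (Q : PowerSeries L) = (P : PowerSeries L) := by
  constructor
  · intro h
    obtain ⟨M, N, hne⟩ := (Groth.Agent.H27Zeta.rational_iff _).1 h
    refine (Groth.Agent.H27Zeta.rational_iff _).2 ⟨M, N, fun htop => hne ?_⟩
    let g : (Fin (N + 1) → L) →ₗ[L] (Fin (N + 1) → L') := LinearMap.compLeft (Algebra.linearMap L L') _
    have key : ∀ v, g v ∈ Submodule.span L' (Groth.Agent.H27Zeta.windows
        (PowerSeries.map (algebraMap L L') f) M N) := by
      intro v
      have hv : v ∈ Submodule.span L (Groth.Agent.H27Zeta.windows f M N) := by rw [htop]; trivial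
      induction hv using Submodule.span_induction with
      | mem w hw =>
        obtain ⟨i, hi, rfl⟩ := hw
        exact Submodule.subset_span ⟨i, hi, by funext j; simp [g]⟩
      | zero => rw [map_zero]; exact zero_mem _
      | add a b _ _ iha ihb => rw [map_add]; exact add_mem iha ihb
      | smul c a _ ih => rw [map_smul, ← IsScalarTower.algebraMap_smul L' c]; exact Submodule.smul_mem _ _ ih
    refine eq_top_iff.2 fun v _ => ?_
    rw [← Finset.univ_sum_single v]
    refine Submodule.sum_mem _ fun j _ => ?_
    have he : g (Pi.single j 1) = Pi.single j 1 := by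
      funext i; rcases eq_or_ne i j with rfl | h <;> simp [g, *]
    have h2 := Submodule.smul_mem _ (v j) (key (Pi.single j 1))
    rwa [he, ← Pi.single_smul', smul_eq_mul, mul_one] at h2
  · rintro ⟨P, Q, hQ, h⟩
    refine ⟨P.map (algebraMap L L'), Q.map (algebraMap L L'),
      (Polynomial.map_ne_zero_iff (algebraMap L L').injective).2 hQ, ?_⟩
    rw [Polynomial.polynomial_map_coe, Polynomial.polynomial_map_coe, ← map_mul, h]

end Groth.Agent.S13058
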