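import Groth.Statements.S13060
import Groth.Agent.H27LV.Basic

set_option autoImplicit false
universe u v w x
open TensorProduct
open Zeta

namespace Groth.Agent.S13060

/-- Let k be a field, V and W vector spaces over k and G a group acting on V by k-linear automorphisms;
for the induced action on V ⊗_k W (trivial on W) one has (V ⊗_k W)^G = V^G ⊗_k W, i.e. the
invariants of V ⊗ W are the image of V^G ⊗ W → V ⊗ W. -/
theorem result {k : Type u} [Field k] {G : Type v} [Group G]
    {V : Type w} {W : Type x} [AddCommGroup V] [Module k V] [AddCommGroup W] [Module k W]
    (ρ : Representation k G V) :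
    (ρ.tprod (Representation.trivial k G W)).invariants =
      LinearMap.range (TensorProduct.map ρ.invariants.subtype (LinearMap.id : W →ₗ[k] W)) := by
  exact H27LV.invariants_tprod_trivial ρ

end Groth.Agent.S13060
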