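import Groth.Statements.S13061
import Groth.Agent.H27LV.Invariants

set_option autoImplicit false
universe u v w
open Zeta

namespace Groth.Agent.S13061

/-- Let A be a commutative algebra over a field k, G a finite group acting on A by k-algebra
automorphisms and I ⊆ A an ideal preserved by G. If p^n is the largest power of p = char(k) dividing
|G| (with p^n = 1 when char(k) = 0), then for every G-invariant b ∈ A/I the power b^{p^n} lies in
the image of A^G → (A/I)^G. (The published statement takes A finitely generated over k, which the
proof does not use.) -/
theorem result {k : Type u} [Field k]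
    {A : Type v} [CommRing A] [Algebra k A] {G : Type w} [Group G] [Finite G]
    [MulSemiringAction G A] [SMulCommClass G k A] (I : Ideal A)
    (hI : ∀ (g : G) (a : A), a ∈ I → g • a ∈ I) (u : A) (hu : ∀ g : G, g • u - u ∈ I) :
    ∃ a : A, (∀ g : G, g • a = a) ∧
      Ideal.Quotient.mk I a =
        Ideal.Quotient.mk I u ^ (ringChar k ^ (Nat.card G).factorization (ringChar k)) := by
  exact H27LV.exists_invariant_lift_pow_char I hI u hu

end Groth.Agent.S13061
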