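import Groth.Statements.S13063
import Groth.Agent.H27LangWeil.Components

set_option autoImplicit false
universe u
open CategoryTheory AlgebraicGeometry Limits
open Zeta

namespace Groth.Agent.S13063

/-- Let X be a scheme of finite type over a finite field k with q elements, of dimension r. For each
irreducible component Z of X of dimension r let m_Z be the number of irreducible components of its
preimage in X ×_k k̄, k̄ an algebraic closure of k, and put a_e = ∑_{Z : m_Z ∣ e} m_Z. Then there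
are constants α, α' > 0 such that for every e ≥ 1: if a_e > 0 then |N_e − a_e q^{er}| ≤ α q^{e(r −
1/2)}, and if a_e = 0 then N_e ≤ α' q^{e(r − 1)}, where N_e = ∑_{d ∣ e} d · #{closed points of
residue degree d} is the number of points of X in the degree-e extension of k. (Stated for schemes
of finite type; reducedness plays no role.) -/
theorem result {k : Type u} [Field k] [Finite k] {X : Scheme.{u}}
    (f : X ⟶ Spec (CommRingCat.of k)) [LocallyOfFiniteType f] [QuasiCompact f] (r : ℕ)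
    (hr : topologicalKrullDim X = r) :
    ∃ α α' : ℝ, 0 < α ∧ 0 < α' ∧ ∀ e : ℕ, 1 ≤ e →
      (0 < (∑ᶠ (Z : Set X) (_ : Z ∈ irreducibleComponents X ∧ topologicalKrullDim Z = r ∧
            Nat.card (irreducibleComponents ((pullback.fst f (Spec.map (CommRingCat.ofHom
              (algebraMap k (AlgebraicClosure k))))).base ⁻¹' Z)) ∣ e),
          Nat.card (irreducibleComponents ((pullback.fst f (Spec.map (CommRingCat.ofHom
              (algebraMap k (AlgebraicClosure k))))).base ⁻¹' Z))) →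
        |(Zeta.nPts f e : ℝ) -
            (∑ᶠ (Z : Set X) (_ : Z ∈ irreducibleComponents X ∧ topologicalKrullDim Z = r ∧
              Nat.card (irreducibleComponents ((pullback.fst f (Spec.map (CommRingCat.ofHom
                (algebraMap k (AlgebraicClosure k))))).base ⁻¹' Z)) ∣ e),
            Nat.card (irreducibleComponents ((pullback.fst f (Spec.map (CommRingCat.ofHom
                (algebraMap k (AlgebraicClosure k))))).base ⁻¹' Z)) : ℕ) *
              (Nat.card k : ℝ) ^ (e * r)| ≤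
          α * (Nat.card k : ℝ) ^ ((e : ℝ) * ((r : ℝ) - 1 / 2))) ∧
      ((∑ᶠ (Z : Set X) (_ : Z ∈ irreducibleComponents X ∧ topologicalKrullDim Z = r ∧
            Nat.card (irreducibleComponents ((pullback.fst f (Spec.map (CommRingCat.ofHom
              (algebraMap k (AlgebraicClosure k))))).base ⁻¹' Z)) ∣ e),
          Nat.card (irreducibleComponents ((pullback.fst f (Spec.map (CommRingCat.ofHom
              (algebraMap k (AlgebraicClosure k))))).base ⁻¹' Z))) = 0 →
        (Zeta.nPts f e : ℝ) ≤ α' * (Nat.card k : ℝ) ^ ((e : ℝ) * ((r : ℝ) - 1))) := by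
  classical
  obtain ⟨T, m, C, c, hC, hT, hm, hest⟩ := Groth.Agent.H27LangWeil.exists_componentEstimate f r hr
  refine ⟨(T.card : ℝ) * C + c + 1, (c : ℝ) + 1, by positivity, by positivity, fun e he => ?_⟩
  obtain ⟨N, w, hN, hw0, hw, hZ⟩ := hest e (by omega)
  rw [finsum_cond_eq_sum_of_cond_iff (t := T.filter (fun Z => m Z ∣ e)) _ (fun {Z} _ => by
    rw [Finset.mem_filter, hT]
    constructor
    · rintro ⟨h1, h2, h3⟩
      exact ⟨⟨h1, h2⟩, (hm Z ((hT Z).2 ⟨h1, h2⟩)).2 ▸ h3⟩
    · rintro ⟨⟨h1, h2⟩, h3⟩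
      exact ⟨h1, h2, (hm Z ((hT Z).2 ⟨h1, h2⟩)).2.symm ▸ h3⟩),
    Finset.sum_congr rfl (fun Z hZ' => (hm Z (Finset.mem_filter.1 hZ').1).2)]
  set T' := T.filter (fun Z => m Z ∣ e)
  have hsum : ∑ Z ∈ T, N Z = ∑ Z ∈ T', N Z := by
    refine (Finset.sum_subset (Finset.filter_subset _ _) fun Z h1 h2 => ?_).symm
    exact (hZ Z h1).2 fun hd => h2 (Finset.mem_filter.2 ⟨h1, hd⟩)
  set q : ℝ := (Nat.card k : ℝ)
  have hq : (1 : ℝ) ≤ q := Nat.one_le_cast.2 Nat.card_pos
  set Q : ℝ := q ^ e
  have hQ1 : (1 : ℝ) ≤ Q := one_le_pow₀ hq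
  set s := Real.sqrt Q
  have hs : 0 < s := Real.sqrt_pos.2 (by linarith)
  have hw' : (w : ℝ) ≤ c * Q ^ ((r : ℝ) - 1) := by
    rcases Nat.eq_zero_or_pos r with h0 | h0
    · rw [hw0 h0, Nat.cast_zero]; positivity
    · rw [show (r : ℝ) - 1 = ((r - 1 : ℕ) : ℝ) by rw [Nat.cast_sub h0]; simp, Real.rpow_natCast]
      exact (Nat.cast_le.2 hw).trans_eq (by push_cast; rfl)
  have hexp1 : q ^ ((e : ℝ) * ((r : ℝ) - 1)) = Q ^ ((r : ℝ) - 1) := by
    rw [Real.rpow_mul (by linarith), Real.rpow_natCast]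
  have hexp2 : q ^ ((e : ℝ) * ((r : ℝ) - 1 / 2)) = Q ^ r / s := by
    rw [Real.rpow_mul (by linarith), Real.rpow_natCast, Real.rpow_sub (by linarith), Real.rpow_natCast,
      ← Real.sqrt_eq_rpow]
  refine ⟨fun hpos => ?_, fun h0 => ?_⟩
  · rw [hexp2, pow_mul]
    have hle : ∀ Z ∈ T', |(N Z : ℝ) - m Z * Q ^ r| ≤ C * (Q ^ r / s) := fun Z hZ' => by
      rw [← mul_div_assoc, le_div_iff₀ hs]
      exact (hZ Z (Finset.mem_filter.1 hZ').1).1 (Finset.mem_filter.1 hZ').2
    have hwle : Q ^ ((r : ℝ) - 1) ≤ Q ^ r / s := by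
      simp only [s]; rw [Real.sqrt_eq_rpow, ← Real.rpow_natCast Q r, ← Real.rpow_sub (by linarith)]
      exact Real.rpow_le_rpow_of_exponent_le hQ1 (by linarith)
    have hD : 0 ≤ Q ^ r / s := by positivity
    have h1 : ∑ Z ∈ T', |(N Z : ℝ) - m Z * Q ^ r| ≤ T.card * (C * (Q ^ r / s)) := by
      refine (Finset.sum_le_sum hle).trans ?_
      rw [Finset.sum_const, nsmul_eq_mul]
      exact mul_le_mul_of_nonneg_right (Nat.cast_le.2 (Finset.card_le_card (Finset.filter_subset _ _)))
        (mul_nonneg hC hD)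
    have h2 := Finset.abs_sum_le_sum_abs (fun Z => (N Z : ℝ) - m Z * Q ^ r) T'
    rw [Finset.sum_sub_distrib, ← Finset.sum_mul] at h2
    rw [hN, hsum]
    push_cast
    rw [abs_le] at h2 ⊢
    have h3 : (c : ℝ) * Q ^ ((r : ℝ) - 1) ≤ c * (Q ^ r / s) := mul_le_mul_of_nonneg_left hwle (Nat.cast_nonneg c)
    have h4 : (0 : ℝ) ≤ w := Nat.cast_nonneg w
    constructor <;> nlinarith [h2.1, h2.2]
  · have hempty : T' = ∅ := by
      by_contra hne
      obtain ⟨Z, hZ'⟩ := Finset.nonempty_iff_ne_empty.2 hne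
      have hmp := (hm Z (Finset.mem_filter.1 hZ').1).1
      have hle2 := Finset.single_le_sum (f := m) (fun i _ => Nat.zero_le (m i)) hZ'
      exact absurd (le_of_le_of_eq hle2 h0) (by omega)
    rw [hexp1, hN, hsum, hempty, Finset.sum_empty, zero_add]
    refine hw'.trans (mul_le_mul_of_nonneg_right (by linarith) (Real.rpow_nonneg (by linarith) _))

end Groth.Agent.S13063
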