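import Groth.Statements.S13064
import Groth.Agent.H27FulTrace.Main

set_option autoImplicit false
universe u
open CategoryTheory AlgebraicGeometry
open Zeta

namespace Groth.Agent.S13064

/-- Let X be a projective scheme over a finite field k = F_q and F the q-Frobenius endomorphism of X,
acting k-linearly on the cohomology groups H^i(X, O_X) through the map s ↦ s^q on the structure
sheaf. Then #X(F_q) mod p = ∑_{i = 0}^{dim X} (−1)^i tr(F | H^i(X, O_X)), an identity in k. The
sheaf map φ is pinned as the endomorphism of the abelian sheaf O_X given by s ↦ s^q on sections, and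
T_i as the k-linear endomorphism of H^i(X, O_X) that agrees with the map φ induces; d is any bound
for dim X. -/
theorem result (k : Type u) [Field k] [Finite k]
    (X : Scheme.{u}) [X.Over (Spec (CommRingCat.of k))] (n : ℕ) (ι : X ⟶ CohB1.ProjSpace n k)
    [IsClosedImmersion ι] (hι : ι ≫ CohB1.ProjSpace.toSpec n k = X ↘ Spec (CommRingCat.of k))
    (d : ℕ) (hd : topologicalKrullDim X ≤ d)
    (φ : Coh.toAb (Coh.structureModule X) ⟶ Coh.toAb (Coh.structureModule X))
    (hφ : ∀ (U : X.Opens) (s : Γ(X, U)), (φ.hom.app (Opposite.op U)).hom s = s ^ Nat.card k)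
    (T : (i : ℕ) → Coh.HH X (Coh.structureModule X) i →ₗ[k] Coh.HH X (Coh.structureModule X) i)
    (hT : ∀ (i : ℕ) (x : Coh.HH X (Coh.structureModule X) i), T i x = Sheaf.H.map φ i x) :
    (SgaExt.pointCount (X ↘ Spec (CommRingCat.of k)) k : k) =
      ∑ i ∈ Finset.range (d + 1), (-1 : k) ^ i * LinearMap.trace k _ (T i) := by
  haveI : Fintype k := Fintype.ofFinite k
  have hφ' : ∀ (U : X.Opens) (s : Γ(X, U)),
      (φ.hom.app (Opposite.op U)).hom s = s ^ Fintype.card k := fun U s => by
    rw [← Nat.card_eq_fintype_card]; exact hφ U s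
  haveI : IsClosedImmersion (show X ⟶ Proj (CohB1.polyGrading n k) from ι) := ‹IsClosedImmersion ι›
  exact @Groth.Agent.H27FulTrace.Link.trace_formula n k _ _ X _ ι ‹IsClosedImmersion ι› hι d hd φ hφ' T hT

end Groth.Agent.S13064
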