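import Groth.Statements.S13066
import Groth.Agent.H27Zeta.CharCount

set_option autoImplicit false
universe u
open Zeta

namespace Groth.Agent.S13066

/-- Let k be a finite field with q elements and characteristic p, n ≥ 2, and f ∈ k[x_0, …, x_n]
homogeneous of degree n + 1. Then the coefficient of (x_0 ⋯ x_n)^{q−1} in f^{q−1} is nonzero if and
only if the coefficient of (x_0 ⋯ x_n)^{p−1} in f^{p−1} is nonzero. -/
theorem result {k : Type u} [Field k] [Finite k]
    (p : ℕ) [CharP k p] (n : ℕ) (hn : 2 ≤ n) (f : MvPolynomial (Fin (n + 1)) k)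
    (hf : f.IsHomogeneous (n + 1)) :
    MvPolynomial.coeff (Finsupp.equivFunOnFinite.symm fun _ : Fin (n + 1) => Nat.card k - 1)
        (f ^ (Nat.card k - 1)) ≠ 0 ↔
      MvPolynomial.coeff (Finsupp.equivFunOnFinite.symm fun _ : Fin (n + 1) => p - 1)
        (f ^ (p - 1)) ≠ 0 := by
  have : Fintype k := Fintype.ofFinite k
  obtain ⟨m, hp, hcard⟩ := FiniteField.card k p
  have : Fact p.Prime := ⟨hp⟩
  rw [Nat.card_eq_fintype_card (α := k), hcard,
    show ((m : ℕ+) : ℕ) = ((m : ℕ) - 1) + 1 from (Nat.sub_add_cancel m.pos).symm]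
  exact Groth.Agent.H27Zeta.coeff_diag_ne_zero_iff p f (by simpa using hf) _

end Groth.Agent.S13066
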