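import Groth.Statements.S13067
import Mathlib

set_option autoImplicit false
universe u
open CategoryTheory AlgebraicGeometry Limits
open Zeta

namespace Groth.Agent.S13067

/-- Let X be smooth over a finite field k = F_q, k̄ an algebraic closure, and F = Frob_{X,q} × id the
k̄-endomorphism of X̄ = X ×_k k̄ induced by the q-Frobenius of X. Then the intersection Γ_F ∩ Δ of
the graph of F with the diagonal in X̄ ×_{k̄} X̄ is a reduced (finite) scheme. The published
statement is for the graph of F^r, r ≥ 1; that case is this one applied to X ×_k F_{q^r}, whose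
q^r-Frobenius induces F^r on X̄. The q-Frobenius F_X is pinned as the endomorphism that is the
identity on points and raises sections to the q-th power, and F by F ≫ pr_1 = pr_1 ≫ F_X and F ≫
pr_2 = pr_2. -/
theorem result {k : Type u} [Field k] [Finite k]
    {X : Scheme.{u}} (f : X ⟶ Spec (CommRingCat.of k)) [Smooth f] (FX : X ⟶ X)
    (hFb : FX.base = 𝟙 _) (hle : ∀ U : X.Opens, U ≤ FX ⁻¹ᵁ U)
    (hFapp : ∀ (U : X.Opens) (s : Γ(X, U)), (FX.appLE U U (hle U)).hom s = s ^ Nat.card k)
    (F : FinFr.ext (AlgebraicClosure k) f ⟶ FinFr.ext (AlgebraicClosure k) f)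
    (hF1 : F ≫ FinFr.extπ (AlgebraicClosure k) f = FinFr.extπ (AlgebraicClosure k) f ≫ FX)
    (hF2 : F ≫ FinFr.extStr (AlgebraicClosure k) f = FinFr.extStr (AlgebraicClosure k) f) :
    IsReduced (FinFr.fixScheme (FinFr.extStr (AlgebraicClosure k) f) F hF2) := by
  let K := AlgebraicClosure k
  set π := FinFr.extπ K f with hπ
  set pr := FinFr.extStr K f with hpr
  let Γ₁ : FinFr.ext K f ⟶ pullback pr pr := pullback.lift (𝟙 _) F (by rw [hF2, Category.id_comp])
  let Γ₂ : FinFr.ext K f ⟶ pullback pr pr := pullback.lift (𝟙 _) (𝟙 _) rfl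
  show IsReduced (pullback Γ₁ Γ₂)
  let ι := pullback.fst Γ₁ Γ₂
  have e1 : Γ₁ ≫ pullback.fst pr pr = 𝟙 _ := pullback.lift_fst _ _ _
  have e2 : Γ₂ ≫ pullback.fst pr pr = 𝟙 _ := pullback.lift_fst _ _ _
  have e3 : Γ₁ ≫ pullback.snd pr pr = F := pullback.lift_snd _ _ _
  have e4 : Γ₂ ≫ pullback.snd pr pr = 𝟙 _ := pullback.lift_snd _ _ _
  have hfix : ι ≫ F = ι := by
    have h1 := congrArg (· ≫ pullback.fst pr pr) (pullback.condition (f := Γ₁) (g := Γ₂))
    have h2 := congrArg (· ≫ pullback.snd pr pr) (pullback.condition (f := Γ₁) (g := Γ₂))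
    simp only [Category.assoc, e1, e2, e3, e4, Category.comp_id] at h1 h2
    exact h2.trans h1.symm
  haveI : IsImmersion Γ₂ := by
    show IsImmersion (pullback.diagonal pr); infer_instance
  haveI : IsImmersion ι := MorphismProperty.pullback_fst Γ₁ Γ₂ inferInstance
  haveI : LocallyOfFiniteType pr := MorphismProperty.pullback_snd f _ inferInstance
  -- the fixed scheme is unramified over the field
  let g := ι ≫ π
  have hg : g ≫ FX = g := by
    show (ι ≫ π) ≫ FX = ι ≫ π
    rw [Category.assoc, ← hF1, reassoc_of% hfix]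
  have key : ∀ W : (pullback Γ₁ Γ₂).Opens, IsAffineOpen W → ∀ U : X.Opens, IsAffineOpen U → W ≤ g ⁻¹ᵁ U →
      IsReduced (W : Scheme.{u}) ∧ Finite ↥W := by
    intro W hW U hU e
    haveI : IsAffine (W : Scheme.{u}) := hW
    let s : Spec (Γ(pullback Γ₁ Γ₂, W)) ⟶ Spec (CommRingCat.of K) := hW.fromSpec ≫ ι ≫ pr
    letI : Algebra K Γ(pullback Γ₁ Γ₂, W) := (Spec.preimage s).hom.toAlgebra
    haveI : LocallyOfFiniteType s := inferInstance
    haveI : Algebra.FiniteType K Γ(pullback Γ₁ Γ₂, W) := by
      have : LocallyOfFiniteType (Spec.map (Spec.preimage s)) := by rw [Spec.map_preimage]; infer_instance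
      exact (HasRingHomProperty.Spec_iff (P := @LocallyOfFiniteType)).mp this
    have hq : ((Nat.card k : ℕ) : K) = 0 := by
      haveI := Fintype.ofFinite k
      rw [← map_natCast (algebraMap k K), Nat.card_eq_fintype_card, Nat.cast_card_eq_zero, map_zero]
    let ψ := g.appLE U W e
    have hψ : ∀ a, (ψ.hom a) ^ Nat.card k = ψ.hom a := by
      intro a
      have h1 : FX.appLE U U (hle U) ≫ g.appLE U W e = (g ≫ FX).appLE U W (e.trans (fun _ h => (hle U) h)) :=
        Scheme.Hom.appLE_comp_appLE _ _ _ _ _ _ _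
      have h2 := ConcreteCategory.congr_hom h1 a
      simp only [ConcreteCategory.comp_apply] at h2
      rw [← map_pow, ← hFapp U a]
      refine h2.trans ?_
      simp only [hg]
      rfl
    haveI hu : Algebra.FormallyUnramified K Γ(pullback Γ₁ Γ₂, W) := by
      rw [Algebra.FormallyUnramified.iff_comp_injective]
      intro B _ _ I hI φ₁ φ₂ h
      have hpr' : ∀ φ : Γ(pullback Γ₁ Γ₂, W) →ₐ[K] B,
          Spec.map (CommRingCat.ofHom φ.toRingHom) ≫ hW.fromSpec ≫ ι ≫ pr =
            Spec.map (CommRingCat.ofHom (algebraMap K B)) := by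
        intro φ
        rw [← φ.comp_algebraMap]
        show _ ≫ s = _
        rw [← Spec.map_preimage s, ← Spec.map_comp]
        rfl
      have hg' : ∀ φ : Γ(pullback Γ₁ Γ₂, W) →ₐ[K] B,
          Spec.map (CommRingCat.ofHom φ.toRingHom) ≫ hW.fromSpec ≫ ι ≫ π =
            Spec.map (ψ ≫ CommRingCat.ofHom φ.toRingHom) ≫ hU.fromSpec := by
        intro φ
        rw [Spec.map_comp, Category.assoc, hU.SpecMap_appLE_fromSpec g hW e]
      have hψφ : ψ ≫ CommRingCat.ofHom φ₁.toRingHom = ψ ≫ CommRingCat.ofHom φ₂.toRingHom := by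
        ext a
        show φ₁ (ψ.hom a) = φ₂ (ψ.hom a)
        set y := φ₁ (ψ.hom a)
        set z := φ₂ (ψ.hom a)
        have hε : z - y ∈ I := by
          rw [← Ideal.Quotient.eq]
          exact (AlgHom.congr_fun h (ψ.hom a)).symm
        have hyq : y ^ Nat.card k = y := by rw [← map_pow, hψ]
        have hzq : z ^ Nat.card k = z := by rw [← map_pow, hψ]
        have hsq : (z - y) ^ 2 = 0 := by
          have : (z - y) ^ 2 ∈ I ^ 2 := Ideal.pow_mem_pow hε 2
          rwa [hI, Ideal.mem_bot] at this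
        have hexp : z ^ Nat.card k = y ^ Nat.card k := by
          have hzy : z = (z - y) + y := by ring
          rw [hzy, add_pow]
          have hq' : ((Nat.card k : ℕ) : B) = 0 := by rw [← map_natCast (algebraMap K B), hq, map_zero]
          rw [Finset.sum_eq_single 0]
          · simp
          · intro m hm hm0
            rcases Nat.lt_or_ge m 2 with hm2 | hm2
            · obtain rfl : m = 1 := by omega
              simp [hq']
            · rw [show m = 2 + (m - 2) by omega, pow_add, hsq, zero_mul, zero_mul, zero_mul]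
          · simp
        rw [hzq, hyq] at hexp
        exact hexp.symm
      have heq : Spec.map (CommRingCat.ofHom φ₁.toRingHom) ≫ hW.fromSpec ≫ ι =
          Spec.map (CommRingCat.ofHom φ₂.toRingHom) ≫ hW.fromSpec ≫ ι := by
        apply pullback.hom_ext
        · simp only [Category.assoc]
          exact (hg' φ₁).trans ((by rw [hψφ]) : _ = _) |>.trans (hg' φ₂).symm
        · simp only [Category.assoc]
          exact (hpr' φ₁).trans (hpr' φ₂).symm
      have h3 : Spec.map (CommRingCat.ofHom φ₁.toRingHom) ≫ hW.fromSpec =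
          Spec.map (CommRingCat.ofHom φ₂.toRingHom) ≫ hW.fromSpec :=
        (cancel_mono ι).mp (by rw [Category.assoc, Category.assoc]; exact heq)
      exact AlgHom.coe_ringHom_injective
        (CommRingCat.hom_ext_iff.mp (Spec.map_injective ((cancel_mono hW.fromSpec).mp h3)))
    haveI : IsReduced Γ(pullback Γ₁ Γ₂, W) := Algebra.FormallyUnramified.isReduced_of_field K _
    haveI : Module.Finite K Γ(pullback Γ₁ Γ₂, W) := Algebra.FormallyUnramified.finite_of_free K _
    haveI : IsArtinianRing Γ(pullback Γ₁ Γ₂, W) := IsArtinianRing.of_finite K _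
    exact ⟨isReduced_of_isOpenImmersion hW.isoSpec.hom,
      Finite.of_equiv _ (TopCat.homeoOfIso (asIso hW.isoSpec.hom.base)).toEquiv.symm⟩
  have hloc : ∀ w : ↥(pullback Γ₁ Γ₂), ∃ W : (pullback Γ₁ Γ₂).Opens,
      w ∈ W ∧ IsReduced (W : Scheme.{u}) ∧ Finite ↥W := by
    intro w
    obtain ⟨U, hU, hwU, -⟩ := exists_isAffineOpen_mem_and_subset (X := X) (x := g w) (U := ⊤) trivial
    obtain ⟨W, hW, hwW, hWU⟩ := exists_isAffineOpen_mem_and_subset (X := pullback Γ₁ Γ₂) (x := w) (U := g ⁻¹ᵁ U) hwU
    exact ⟨W, hwW, key W hW U hU hWU⟩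
  choose W hwW hWr hWf using hloc
  haveI : ∀ w, _root_.IsReduced ((pullback Γ₁ Γ₂).presheaf.stalk w) := fun w => by
    haveI := hWr w
    exact isReduced_of_injective ((W w).stalkIso ⟨w, hwW w⟩).inv.hom
      ((W w).stalkIso ⟨w, hwW w⟩).commRingCatIsoToRingEquiv.symm.injective
  exact isReduced_of_isReduced_stalk _

end Groth.Agent.S13067
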