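import Groth.Statements.S13069
import Groth.Agent.H27CurveZeta.Classes

set_option autoImplicit false
universe u
open CategoryTheory AlgebraicGeometry
open Zeta

namespace Groth.Agent.S13069

/-- If X is a smooth, geometrically connected, projective curve over F_q (here: smooth proper
geometrically irreducible of dimension one over a finite field k), then all the sets Pic^m(X) of
isomorphism classes of line bundles of degree m, m ∈ ℤ, have the same finite nonzero number of
elements. -/
theorem result (k : Type u) [Field k] [Finite k]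
    (X : Scheme.{u}) [X.Over (Spec (CommRingCat.of k))]
    (hX : Curve.IsSmoothProperCurve k X (X ↘ Spec (CommRingCat.of k)))
    [GeometricallyIrreducible (X ↘ Spec (CommRingCat.of k))] (m : ℤ) :
    Finite {c : PicF.Cl X // ∃ L : X.Modules, PicF.cl L = c ∧ PicF.IsInvertible L ∧
        Curv2.deg k X L 1 = m} ∧
      Nonempty {c : PicF.Cl X // ∃ L : X.Modules, PicF.cl L = c ∧ PicF.IsInvertible L ∧
        Curv2.deg k X L 1 = m} ∧
      Nat.card {c : PicF.Cl X // ∃ L : X.Modules, PicF.cl L = c ∧ PicF.IsInvertible L ∧
          Curv2.deg k X L 1 = m} =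
        Nat.card {c : PicF.Cl X // ∃ L : X.Modules, PicF.cl L = c ∧ PicF.IsInvertible L ∧
          Curv2.deg k X L 1 = 0} := by
  obtain ⟨hp, hs, hi, hdim⟩ := hX
  haveI := hp; haveI := hs; haveI := hi
  obtain ⟨hm, ⟨em⟩⟩ := H27CurveZeta.natCard_clEquiv (k := k) (C := X) m
  obtain ⟨h0, -⟩ := H27CurveZeta.natCard_clEquiv (k := k) (C := X) 0
  haveI := H27CurveZeta.finite_cls (k := k) (C := X) hdim m
  haveI := H27CurveZeta.nonempty_cls (k := k) (C := X) hdim m
  exact ⟨Finite.of_equiv _ em.symm, em.nonempty, by rw [hm, h0]; exact H27CurveZeta.card_cls_eq hdim m 0⟩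

end Groth.Agent.S13069
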