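import Groth.Statements.S13070
import Groth.Agent.H27Zeta.PointBound

set_option autoImplicit false
universe u
open CategoryTheory AlgebraicGeometry
open Zeta

namespace Groth.Agent.S13070

/-- For an arithmetic scheme X (of finite type over ℤ) of dimension r there are c_X > 0 and p₀ such that
#X(F_{p^m}) ≤ c_X p^{m(r−1)} for all primes p ≥ p₀ and m ≥ 1, and #X(F_{p^m}) ≤ c_X p^{mr} for p <
p₀ and m ≥ 1. Here #X(F) is the number of morphisms Spec F → X, and the dimension is only assumed ≤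
r. -/
theorem result {X : Scheme.{u}}
    (f : X ⟶ Spec (CommRingCat.of (ULift.{u} ℤ))) [LocallyOfFiniteType f] [QuasiCompact f] (r : ℕ)
    (hr : topologicalKrullDim X ≤ r) :
    ∃ (c : ℝ) (p₀ : ℕ), 0 < c ∧ ∀ (p m : ℕ), p.Prime → 1 ≤ m →
      ∀ (F : Type u) [Field F], Nat.card F = p ^ m →
        (p₀ ≤ p → (Nat.card (Spec (CommRingCat.of F) ⟶ X) : ℝ) ≤
            c * (p : ℝ) ^ ((m : ℝ) * ((r : ℝ) - 1))) ∧
        (p < p₀ → (Nat.card (Spec (CommRingCat.of F) ⟶ X) : ℝ) ≤ c * (p : ℝ) ^ ((m : ℝ) * r)) := by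
  exact Groth.Agent.H27Zeta.exists_point_bound_real f r hr

end Groth.Agent.S13070
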