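import Groth.Statements.S13074
import Groth.Agent.H27UPts.Main
import Groth.Agent.LeadAff.Chevalley

set_option autoImplicit false
universe u
open CategoryTheory AlgebraicGeometry
open Zeta

namespace Groth.Agent.S13074

open Groth.Agent.H27UPts Groth.Agent.H28Int Groth.Agent.H27FulTrace.Link
open Groth.Agent.H8Props.FieldDim (cdim)

set_option linter.style.haveILetI false
set_option backward.isDefEq.respectTransparency false

theorem aux {n r : ℕ} {k : Type u} [Field k] [Fintype k] {X : Scheme.{u}} [IsIntegral X]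
    (ι : X ⟶ CohB1.ProjSpace n k) [IsClosedImmersion ι] (hdim : topologicalKrullDim X = r) :
    letI : X.Over (Spec (CommRingCat.of k)) := ⟨ι ≫ CohB1.ProjSpace.toSpec n k⟩
    (SgaExt.pointCount (ι ≫ CohB1.ProjSpace.toSpec n k) k : ℤ) ≤ 2 ^ r * (Fintype.card k : ℤ) ^ r *
      FGA.intNum k X r (fun _ : Fin r => (Scheme.Modules.pullback ι).obj (Twist.twistProjSpace n k (-1)))
        (Coh.structureModule X) := by
  classical
  letI : X.Over (Spec (CommRingCat.of k)) := ⟨ι ≫ CohB1.ProjSpace.toSpec n k⟩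
  haveI : IsProper (X ↘ Spec (CommRingCat.of k)) :=
    inferInstanceAs (IsProper (ι ≫ CohB1.ProjSpace.toSpec n k))
  have hO := LeadAff.isCoh_structureModule X
  have hsupp : genericPoint X ∈ CohB1.support (Coh.structureModule X) := fun h => by
    haveI : Subsingleton ↑((Coh.structureModule X).presheaf.stalk (genericPoint X)) := h
    obtain ⟨V, hηV, i₁, i₂, e⟩ := (Coh.structureModule X).presheaf.germ_eq (genericPoint X)
      (U := (⊤ : X.Opens)) (V := (⊤ : X.Opens)) trivial trivial (show Γ(X, ⊤) from 1) (show Γ(X, ⊤) from 0)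
      (Subsingleton.elim _ _)
    haveI : Nonempty ↥(V : X.Opens) := ⟨⟨genericPoint X, hηV⟩⟩
    have e' : X.presheaf.map i₁.op (1 : Γ(X, ⊤)) = X.presheaf.map i₂.op (0 : Γ(X, ⊤)) := e
    rw [map_one, map_zero] at e'
    exact one_ne_zero e'
  have hgd : (r : WithBot ℕ∞) ≤ cdim (genericPoint X) := by
    have h1 : closure ({genericPoint X} : Set X) = Set.univ := genericPoint_closure (α := X)
    rw [← hdim, H8Props.FieldDim.cdim, h1]
    exact (Homeomorph.Set.univ X).isHomeomorph.topologicalKrullDim_eq.ge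
  have hd : topologicalKrullDim (CohB1.support (Coh.structureModule X)) ≤ (r : WithBot ℕ∞) :=
    (dim_le_of_subset (Set.subset_univ _)).trans
      ((Homeomorph.Set.univ X).isHomeomorph.topologicalKrullDim_eq.le.trans hdim.le)
  obtain ⟨h0, hb⟩ := bound_all ι r _ hO hd
  rw [intNum_eq k hdim.le _ (fun _ => isInvertible_Mn ι) hO, List.ofFn_const]
  refine le_trans (Int.ofNat_le.2 ?_) hb
  let f : {g : Spec (CommRingCat.of k) ⟶ X //
      g ≫ ι ≫ CohB1.ProjSpace.toSpec n k = Spec.map (CommRingCat.ofHom (algebraMap k k))} → NIdx n k :=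
    fun g => (chartPoint_bijective.2 ⟨g.1 ≫ ι, (Category.assoc _ _ _).trans g.2⟩).choose
  have hf : ∀ g, H27Zeta.chartPoint (k := k) (f g).1 (H27Zeta.extZero (f g).1 (f g).2) = g.1 ≫ ι := fun g =>
    congrArg Subtype.val (chartPoint_bijective.2 ⟨g.1 ≫ ι, (Category.assoc _ _ _).trans g.2⟩).choose_spec
  have hinj : Function.Injective f := fun g g' e => Subtype.ext ((cancel_mono ι).1 (by rw [← hf g, ← hf g', e]))
  have hmem : ∀ g, f g ∈ ptsIn ι (topPart (Coh.structureModule X) r) := fun g =>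
    (mem_ptsIn ι).2 ⟨g.1.base (IsLocalRing.closedPoint k), ⟨genericPoint X, hsupp, hgd,
      (genericPoint_closure (α := X)).symm ▸ Set.mem_univ _⟩, by rw [ptv, hf]; rfl⟩
  rw [SgaExt.pointCount, ← Nat.card_eq_finsetCard]
  exact Nat.card_le_card_of_injective (fun g => (⟨f g, hmem g⟩ : {t // t ∈ ptsIn ι (topPart (Coh.structureModule X) r)}))
    fun g g' e => hinj (congrArg Subtype.val e)

/-- Given n, d, r ≥ 0 with d > 0 there is A₁ = A₁(n, d, r) > 0 such that for every finite field k = F_q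
and every irreducible (reduced) closed subvariety X ⊆ P^n_k of dimension r and degree ≤ d, #X(k) ≤
A₁ q^r. The degree is the intersection number (O(1)^r · O_X), written as the
alternating-Euler-characteristic intersection number of r copies of O(−1)|_X with O_X. -/
theorem result (n d r : ℕ) (hd : 0 < d) :
    ∃ A₁ : ℕ, 0 < A₁ ∧ ∀ (k : Type u) [Field k] [Finite k] (X : Scheme.{u})
      (ι : X ⟶ CohB1.ProjSpace n k) [IsClosedImmersion ι] [IsIntegral X],
      topologicalKrullDim X = r →
      letI : X.Over (Spec (CommRingCat.of k)) := ⟨ι ≫ CohB1.ProjSpace.toSpec n k⟩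
      FGA.intNum k X r (fun _ : Fin r => (Scheme.Modules.pullback ι).obj (Twist.twistProjSpace n k (-1)))
          (Coh.structureModule X) ≤ d →
        SgaExt.pointCount (ι ≫ CohB1.ProjSpace.toSpec n k) k ≤ A₁ * Nat.card k ^ r := by
  refine ⟨2 ^ r * d, Nat.mul_pos (Nat.two_pow_pos r) hd, fun k _ _ X ι _ _ hdim hdeg => ?_⟩
  haveI : Fintype k := Fintype.ofFinite k
  have h := aux ι hdim
  have h2 : (SgaExt.pointCount (ι ≫ CohB1.ProjSpace.toSpec n k) k : ℤ) ≤
      2 ^ r * (Fintype.card k : ℤ) ^ r * (d : ℤ) :=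
    h.trans (mul_le_mul_of_nonneg_left hdeg (by positivity))
  rw [Nat.card_eq_fintype_card]
  have h3 : (SgaExt.pointCount (ι ≫ CohB1.ProjSpace.toSpec n k) k : ℤ) ≤
      ((2 ^ r * d * Fintype.card k ^ r : ℕ) : ℤ) := by push_cast; linarith
  exact_mod_cast h3

end Groth.Agent.S13074
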