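import Groth.Statements.S13075
import Groth.Agent.H27Zeta.Series

set_option autoImplicit false
open Zeta

namespace Groth.Agent.S13075

/-- For the formal power series exp(t) = ∑_{m ≥ 0} t^m / m! and log(1 + t) = ∑_{m ≥ 1} (−1)^{m+1} t^m /
m over ℚ, log(exp(u)) = u and exp(log(1 + u)) = 1 + u for every u ∈ tℚ⟦t⟧; stated for u = t (the
general case is obtained by substitution): substituting exp(t) − 1 into log(1 + ·) gives t, and
substituting log(1 + t) into exp gives 1 + t. -/
theorem result :
    PowerSeries.subst (PowerSeries.exp ℚ - 1)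
        (PowerSeries.mk fun m : ℕ => if m = 0 then (0 : ℚ) else (-1) ^ (m + 1) / (m : ℚ)) =
      PowerSeries.X ∧
    PowerSeries.subst (PowerSeries.mk fun m : ℕ => if m = 0 then (0 : ℚ) else (-1) ^ (m + 1) / (m : ℚ))
        (PowerSeries.exp ℚ) = 1 + PowerSeries.X := by
  have h : (PowerSeries.mk fun m : ℕ => if m = 0 then (0 : ℚ) else (-1) ^ (m + 1) / (m : ℚ)) =
      PowerSeries.log ℚ := by
    ext m; simp [PowerSeries.coeff_log]
  rw [h]
  exact ⟨Groth.Agent.H27Zeta.log_subst_exp, Groth.Agent.H27Zeta.exp_subst_log⟩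

end Groth.Agent.S13075
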