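import Groth.Statements.S13079
import Groth.Agent.H27QuotBC.Basic
import Groth.Agent.H28Def.DefFunctor

set_option autoImplicit false
universe u
open CategoryTheory AlgebraicGeometry Limits
open Zeta

namespace Groth.Agent.S13079

/-- Suppose the finite groups G and H act by algebraic k-automorphisms on schemes X and Y of finite type
over k, both admitting quotients X → X/G and Y → Y/H (equivalently, covered by invariant affine
opens). Then X × Y has the same property for the product action of G × H and (X × Y)/(G × H) ≅ X/G ×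
Y/H: the morphism X ×_k Y → X/G ×_k Y/H with components the two quotient maps is a quotient for the
product action. The product action θ and that morphism π are pinned by their composites with the
projections. -/
theorem result {k : Type u} [Field k] {G H : Type u} [Group G] [Finite G] [Group H]
    [Finite H] {X Y XG YH : Scheme.{u}} (fX : X ⟶ Spec (CommRingCat.of k))
    (fY : Y ⟶ Spec (CommRingCat.of k)) [LocallyOfFiniteType fX] [QuasiCompact fX]
    [LocallyOfFiniteType fY] [QuasiCompact fY] (gX : XG ⟶ Spec (CommRingCat.of k))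
    (gY : YH ⟶ Spec (CommRingCat.of k)) (ρ : G →* Aut X) (σ : H →* Aut Y)
    (hρ : ∀ g, (ρ g).hom ≫ fX = fX) (hσ : ∀ h, (σ h).hom ≫ fY = fY)
    (p : X ⟶ XG) (hp : p ≫ gX = fX) (q : Y ⟶ YH) (hq : q ≫ gY = fY)
    (hP : SGA1.IsQuot ρ p) (hQ : SGA1.IsQuot σ q)
    (θ : G × H →* Aut (pullback fX fY))
    (hθ1 : ∀ gh : G × H, (θ gh).hom ≫ pullback.fst fX fY = pullback.fst fX fY ≫ (ρ gh.1).hom)
    (hθ2 : ∀ gh : G × H, (θ gh).hom ≫ pullback.snd fX fY = pullback.snd fX fY ≫ (σ gh.2).hom)
    (π : pullback fX fY ⟶ pullback gX gY) (hπ1 : π ≫ pullback.fst gX gY = pullback.fst fX fY ≫ p)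
    (hπ2 : π ≫ pullback.snd gX gY = pullback.snd fX fY ≫ q) :
    SGA1.IsQuot θ π := by
  haveI : Flat fY := Groth.Agent.H28Def.flat_of_field fY
  haveI : Flat gX := Groth.Agent.H28Def.flat_of_field gX
  exact Groth.Agent.H27QuotBC.isQuot_prod fX fY gX gY ρ σ hσ p hp q hq hP hQ θ hθ1 hθ2 π hπ1 hπ2

end Groth.Agent.S13079
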