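import Groth.Statements.S13080
import Groth.Agent.H27Quot.Basic
import Mathlib

set_option autoImplicit false
universe u
open CategoryTheory AlgebraicGeometry Limits
open Zeta Opposite TopologicalSpace

namespace Groth.Agent.S13080

/-- Let G be a finite group acting by algebraic automorphisms over k on a scheme X of finite type over k
admitting a quotient p : X → X/G, H ⊆ G a subgroup and Y ⊆ X an open subset preserved by H such that
X is the disjoint union of the translates Y g over the cosets of G mod H. Then the natural morphism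
Y/H → X/G is an isomorphism: Y → X/G is a quotient of Y by H. The action of H on Y is pinned by
compatibility with the inclusion Y → X; the coset condition is stated as: the translates of Y cover
X, and g(Y) is disjoint from Y for g ∉ H. -/
theorem result {k : Type u} [Field k] {G : Type u} [Group G]
    [Finite G] {X XG : Scheme.{u}} (fX : X ⟶ Spec (CommRingCat.of k)) [LocallyOfFiniteType fX]
    [QuasiCompact fX] (ρ : G →* Aut X) (hρ : ∀ g, (ρ g).hom ≫ fX = fX) (p : X ⟶ XG)
    (hP : SGA1.IsQuot ρ p) (H : Subgroup G) (Y : X.Opens)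
    (hcov : ∀ x : X, ∃ g : G, x ∈ (ρ g).hom.base '' (Y : Set X))
    (hdisj : ∀ g : G, g ∉ H → Disjoint ((ρ g).hom.base '' (Y : Set X)) (Y : Set X))
    (ρY : H →* Aut (Y : Scheme.{u})) (hρY : ∀ h : H, (ρY h).hom ≫ Y.ι = Y.ι ≫ (ρ (h : G)).hom) :
    SGA1.IsQuot ρY (Y.ι ≫ p) := by
  classical
  have hmul : ∀ a b : G, (ρ (a * b)).hom = (ρ b).hom ≫ (ρ a).hom := fun a b => by rw [map_mul]; rfl
  have hone : (ρ 1).hom = 𝟙 X := by rw [map_one]; rfl
  have happ : ∀ (a b : G) (x : X), (ρ (a * b)).hom x = (ρ a).hom ((ρ b).hom x) := fun a b x => by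
    rw [hmul]; rfl
  have happ1 : ∀ x : X, (ρ 1).hom x = x := fun x => by rw [hone]; rfl
  -- `H` preserves `Y`; translates
  have hYH : ∀ (c : H) (x : X), x ∈ Y → (ρ (c : G)).hom x ∈ Y := by
    intro c x hx
    have := congrArg (fun m : (Y : Scheme) ⟶ X => m ⟨x, hx⟩) (hρY c)
    simp only [Scheme.Hom.comp_apply, Scheme.Opens.ι_apply] at this
    rw [← this]
    exact ((ρY c).hom ⟨x, hx⟩).2
  have hmemH : ∀ (g : G) (x : X), x ∈ Y → (ρ g).hom x ∈ Y → g ∈ H := by
    intro g x hx hgx
    by_contra hg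
    exact Set.disjoint_left.mp (hdisj g hg) ⟨x, hx, rfl⟩ hgx
  have hclosed : IsClosed (Set.range Y.ι) := by
    rw [Scheme.Opens.range_ι, ← isOpen_compl_iff]
    have : (Y : Set X)ᶜ = ⋃ g : {g : G // g ∉ H}, (ρ g.1).hom.base '' (Y : Set X) := by
      ext x
      simp only [Set.mem_compl_iff, Set.mem_iUnion]
      constructor
      · intro hx
        obtain ⟨g, y, hy, rfl⟩ := hcov x
        exact ⟨⟨g, fun hg => hx (hYH ⟨g, hg⟩ y hy)⟩, y, hy, rfl⟩
      · rintro ⟨g, hg⟩
        exact Set.disjoint_left.mp (hdisj g.1 g.2) hg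
    rw [this]
    exact isOpen_iUnion fun g => (ρ g.1).hom.isOpenEmbedding.isOpenMap _ Y.2
  haveI : IsClosedImmersion Y.ι := IsClosedImmersion.of_isPreimmersion _ hclosed
  have hinv : ∀ c : H, (ρY c).hom ≫ Y.ι ≫ p = Y.ι ≫ p := by
    intro c
    rw [← Category.assoc, hρY, Category.assoc, hP.inv]
  -- sections
  let W : XG.Opens → X.Opens := fun U => p ⁻¹ᵁ U
  let O : XG.Opens → X.Opens := fun U => Y.ι ''ᵁ (Y.ι ⁻¹ᵁ W U)
  have hOW : ∀ U, O U ≤ W U := fun U => Scheme.Hom.image_preimage_le _ _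
  have hmemO : ∀ U (x : X), x ∈ O U ↔ x ∈ Y ∧ x ∈ W U := by
    intro U x
    simp only [O, Scheme.Hom.image_preimage_eq_opensRange_inf, Scheme.Opens.opensRange_ι]
    rfl
  have hWg : ∀ U (g : G), (ρ g).hom ⁻¹ᵁ W U = W U := fun U g => by
    show (ρ g).hom ⁻¹ᵁ (p ⁻¹ᵁ U) = p ⁻¹ᵁ U
    rw [← Scheme.Hom.comp_preimage, hP.inv]
  let V : XG.Opens → G → X.Opens := fun U g => (ρ g).hom ⁻¹ᵁ O U
  have hVW : ∀ U g, V U g ≤ W U := fun U g =>
    ((ρ g).hom.preimage_mono (hOW U)).trans_eq (hWg U g)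
  have hcovV : ∀ U, W U ≤ ⨆ g, V U g := by
    intro U x hx
    obtain ⟨g, y, hy, rfl⟩ := hcov x
    refine Opens.mem_iSup.mpr ⟨g⁻¹, ?_⟩
    show (ρ g⁻¹).hom ((ρ g).hom y) ∈ O U
    rw [← happ, inv_mul_cancel, happ1, hmemO]
    refine ⟨hy, ?_⟩
    rw [← hWg U g]
    exact hx
  let res : ∀ U (T : Γ(X, W U)), Γ(X, O U) := fun U T => X.presheaf.map (homOfLE (hOW U)).op T
  have hres : ∀ U (T : Γ(X, W U)), Groth.Agent.H27Quot.act hP U 1 T = T := fun U T =>
    Groth.Agent.H27Quot.act_one hP U T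
  -- invariant sections are determined by their restriction to `O`
  have hloc : ∀ U (T : Γ(X, W U)), (∀ g, Groth.Agent.H27Quot.act hP U g T = T) → ∀ g,
      X.presheaf.map (homOfLE (hVW U g)).op T = (ρ g).hom.appLE (O U) (V U g) le_rfl (res U T) := by
    intro U T hT g
    conv_lhs => rw [← hT g]
    simp only [Groth.Agent.H27Quot.act, res]
    rw [← CommRingCat.comp_apply, ← CommRingCat.comp_apply, Scheme.Hom.appLE_map,
      Scheme.Hom.map_appLE]
  have hiota : ∀ U (T : Γ(X, W U)), (Y.ι.app (W U)).hom T = (Y.ι.appIso _).hom (res U T) := by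
    intro U T
    simp only [res]
    rw [Scheme.Hom.appIso_hom', Scheme.Hom.app_eq_appLE, ← CommRingCat.comp_apply, Scheme.Hom.map_appLE]
  refine ⟨?_, hinv, fun U a b h => ?_, fun U t => ?_⟩
  · haveI := hP.affine
    infer_instance
  · apply hP.injective U
    refine TopCat.Sheaf.eq_of_locally_eq' X.sheaf (V U) (W U) (fun g => homOfLE (hVW U g)) (hcovV U) _ _ fun g => ?_
    show X.presheaf.map _ _ = X.presheaf.map _ _
    rw [hloc U _ ((hP.range_iff U _).mp ⟨a, rfl⟩) g, hloc U _ ((hP.range_iff U _).mp ⟨b, rfl⟩) g]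
    congr 1
  · constructor
    · rintro ⟨b, rfl⟩ c
      have e : ((ρY c).hom ≫ Y.ι ≫ p).appLE U ((Y.ι ≫ p) ⁻¹ᵁ U) (by rw [hinv]) = (Y.ι ≫ p).app U := by
        rw [Scheme.Hom.app_eq_appLE]
        simp only [hinv]
      conv_rhs => rw [← e]
      rw [← Scheme.Hom.appLE_comp_appLE _ _ U ((Y.ι ≫ p) ⁻¹ᵁ U) ((Y.ι ≫ p) ⁻¹ᵁ U) le_rfl
        (SGA1.preimage_le_of_inv ρY _ hinv c U), ← Scheme.Hom.app_eq_appLE]
      rfl
    · intro ht
      let t' : Γ(X, O U) := (Y.ι.appIso _).inv t
      have hcO : ∀ c : H, O U ≤ (ρ (c : G)).hom ⁻¹ᵁ O U := by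
        intro c x hx
        rw [hmemO] at hx
        show (ρ (c : G)).hom x ∈ O U
        rw [hmemO]
        exact ⟨hYH c x hx.1, (hWg U c).symm.le hx.2⟩
      have ht' : ∀ c : H, (ρ (c : G)).hom.appLE (O U) (O U) (hcO c) t' = t' := by
        intro c
        apply ((ConcreteCategory.isIso_iff_bijective (Y.ι.appIso _).hom).mp inferInstance).injective
        have h2 : (Y.ι.appIso (Y.ι ⁻¹ᵁ W U)).hom t' = t := by
          simp only [t']
          rw [← CommRingCat.comp_apply, Iso.inv_hom_id]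
          rfl
        rw [h2]
        conv_rhs => rw [← ht c, ← h2]
        rw [Scheme.Hom.appIso_hom', ← CommRingCat.comp_apply, Scheme.Hom.appLE_comp_appLE]
        show _ = ((Y.ι.appLE _ _ _) ≫ (ρY c).hom.appLE _ _ _) t'
        erw [Scheme.Hom.appLE_comp_appLE]
        simp only [hρY]
      let sf : ∀ g, Γ(X, V U g) := fun g => (ρ g).hom.appLE (O U) (V U g) le_rfl t'
      have hcompat : TopCat.Presheaf.IsCompatible X.sheaf.obj (V U) sf := by
        intro g h
        show X.presheaf.map _ _ = X.presheaf.map _ _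
        simp only [sf]
        have hr : ∀ (a : G) {V1 V2 : X.Opens} (i : V2 ≤ V1) (e : V1 ≤ (ρ a).hom ⁻¹ᵁ O U) (x : Γ(X, O U)),
            X.presheaf.map (homOfLE i).op ((ρ a).hom.appLE (O U) V1 e x) =
              (ρ a).hom.appLE (O U) V2 (i.trans e) x := fun a V1 V2 i e x =>
          ConcreteCategory.congr_hom ((ρ a).hom.appLE_map e (homOfLE i).op) x
        refine (hr g (inf_le_left : V U g ⊓ V U h ≤ V U g) le_rfl t').trans (Eq.trans ?_ (hr h (inf_le_right : V U g ⊓ V U h ≤ V U h) le_rfl t').symm)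
        by_cases hne : (((V U g ⊓ V U h : X.Opens)) : Set X).Nonempty
        · obtain ⟨z, hz1, hz2⟩ := hne
          have h1 : (ρ g).hom z ∈ O U := hz1
          have h2 : (ρ h).hom z ∈ O U := hz2
          rw [hmemO] at h1 h2
          have hc : h * g⁻¹ ∈ H := hmemH _ _ h1.1 (by rw [← happ, inv_mul_cancel_right]; exact h2.1)
          have e : (ρ h).hom = (ρ g).hom ≫ (ρ (h * g⁻¹)).hom := by
            rw [← hmul, inv_mul_cancel_right]
          simp only [e]
          rw [← Scheme.Hom.appLE_comp_appLE _ _ (O U) (O U) (V U g ⊓ V U h)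
            (hcO ⟨_, hc⟩) (inf_le_left : V U g ⊓ V U h ≤ V U g), CommRingCat.comp_apply, ht' ⟨_, hc⟩]
        · have : (V U g ⊓ V U h : X.Opens) = ⊥ := by
            ext1; simpa [Set.not_nonempty_iff_eq_empty] using hne
          haveI : Subsingleton Γ(X, V U g ⊓ V U h) := CommRingCat.subsingleton_of_isTerminal
            (X.sheaf.isTerminalOfEqEmpty this)
          exact Subsingleton.elim _ _
      obtain ⟨T, hT, hTu⟩ := TopCat.Sheaf.existsUnique_gluing' X.sheaf (V U) (W U)
        (fun g => homOfLE (hVW U g)) (hcovV U) sf hcompat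
      have hTg : ∀ g, X.presheaf.map (homOfLE (hVW U g)).op T = sf g := hT
      have hTinv : ∀ k, Groth.Agent.H27Quot.act hP U k T = T := by
        intro k
        refine hTu _ fun g => ?_
        show X.presheaf.map _ _ = _
        have hle : V U g ≤ (ρ k).hom ⁻¹ᵁ V U (g * k⁻¹) := by
          intro x hx
          show (ρ (g * k⁻¹)).hom ((ρ k).hom x) ∈ O U
          rw [← happ, inv_mul_cancel_right]
          exact hx
        rw [Groth.Agent.H27Quot.act, ← CommRingCat.comp_apply, Scheme.Hom.appLE_map,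
          ← Scheme.Hom.map_appLE (ρ k).hom hle (homOfLE (hVW U (g * k⁻¹))).op, CommRingCat.comp_apply, hTg]
        simp only [sf]
        rw [← CommRingCat.comp_apply, Scheme.Hom.appLE_comp_appLE]
        simp only [← hmul, inv_mul_cancel_right]
      obtain ⟨b, hb⟩ := (hP.range_iff U T).mpr hTinv
      refine ⟨b, ?_⟩
      show (Y.ι.app (W U)).hom ((p.app U).hom b) = t
      rw [hb]
      show (Y.ι.app (W U)).hom T = t
      rw [hiota]
      have hres : res U T = t' := by
        have hV1 : O U ≤ V U 1 := by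
          intro x hx
          show (ρ 1).hom x ∈ O U
          rwa [happ1]
        have h3 := congrArg (X.presheaf.map (homOfLE hV1).op) (hTg 1)
        simp only [sf] at h3
        rw [← CommRingCat.comp_apply, ← CommRingCat.comp_apply, ← Functor.map_comp,
          Scheme.Hom.appLE_map] at h3
        simp only [hone] at h3
        refine h3.trans ?_
        simp [Scheme.Hom.appLE]
        erw [Subsingleton.elim (homOfLE _).op (𝟙 _), X.presheaf.map_id]
        rfl
      rw [hres]
      simp only [t']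
      rw [← CommRingCat.comp_apply, Iso.inv_hom_id]
      rfl

end Groth.Agent.S13080
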