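import Groth.Statements.S13081
import Groth.Agent.H27Quot.Basic
import Mathlib

set_option autoImplicit false
universe u
open CategoryTheory AlgebraicGeometry Limits
open Zeta

namespace Groth.Agent.S13081

/-- Let G be a finite group acting by algebraic automorphisms over k on a scheme X of finite type over k
admitting a quotient X → X/G, and H a normal subgroup of G. Then X/H carries an induced action of
G/H and its quotient by this action is X/G: the induced morphism r : X/H → X/G is a quotient of X/H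
by G/H. The induced action ρ̄ is pinned by p_H ≫ ρ̄(ḡ) = ρ(g) ≫ p_H and r by p_H ≫ r = p. -/
theorem result {k : Type u} [Field k] {G : Type u} [Group G]
    [Finite G] {X XG XH : Scheme.{u}} (fX : X ⟶ Spec (CommRingCat.of k)) [LocallyOfFiniteType fX]
    [QuasiCompact fX] (ρ : G →* Aut X) (hρ : ∀ g, (ρ g).hom ≫ fX = fX) (p : X ⟶ XG)
    (hP : SGA1.IsQuot ρ p) (H : Subgroup G) [H.Normal] (pH : X ⟶ XH)
    (hPH : SGA1.IsQuot (ρ.comp H.subtype) pH) (ρbar : G ⧸ H →* Aut XH)
    (hρbar : ∀ g : G, pH ≫ (ρbar (QuotientGroup.mk g)).hom = (ρ g).hom ≫ pH)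
    (r : XH ⟶ XG) (hr : pH ≫ r = p) :
    SGA1.IsQuot ρbar r := by
  subst hr
  haveI := Groth.Agent.H27Quot.epi hPH
  have hinv : ∀ q, (ρbar q).hom ≫ r = r := by
    intro q
    induction q using QuotientGroup.induction_on with
    | _ g =>
      rw [← cancel_epi pH, ← Category.assoc, hρbar, Category.assoc, hP.inv]
  have hinj : ∀ U : XG.Opens, Function.Injective (pH.app (r ⁻¹ᵁ U)).hom := fun U => hPH.injective _
  have key : ∀ (U : XG.Opens) (g : G) (s : Γ(XH, r ⁻¹ᵁ U)),
      ((ρ g).hom.appLE (pH ⁻¹ᵁ (r ⁻¹ᵁ U)) (pH ⁻¹ᵁ (r ⁻¹ᵁ U)) (SGA1.preimage_le_of_inv ρ _ hP.inv g U)).hom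
        ((pH.app (r ⁻¹ᵁ U)).hom s) = (pH.app (r ⁻¹ᵁ U)).hom
        (((ρbar (QuotientGroup.mk g)).hom.appLE (r ⁻¹ᵁ U) (r ⁻¹ᵁ U)
          (SGA1.preimage_le_of_inv ρbar r hinv _ U)).hom s) := by
    intro U g s
    rw [← Scheme.Hom.appLE_eq_app]
    have e := hρbar g
    rw [← CommRingCat.comp_apply, ← CommRingCat.comp_apply, Scheme.Hom.appLE_comp_appLE,
      Scheme.Hom.appLE_comp_appLE]
    simp only [e]
  refine ⟨⟨fun U hU => Groth.Agent.H27Quot.isAffineOpen_of_preimage hPH ?_⟩, hinv, fun U a b h => ?_, fun U s => ?_⟩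
  · haveI := hP.affine
    exact hU.preimage (pH ≫ r)
  · apply hP.injective U
    simp only [Scheme.Hom.comp_app]
    exact congrArg (pH.app (r ⁻¹ᵁ U)).hom h
  · constructor
    · rintro ⟨b, rfl⟩ q
      induction q using QuotientGroup.induction_on with
      | _ g =>
        apply hinj U
        rw [← key]
        exact ((hP.range_iff U _).mp ⟨b, rfl⟩) g
    · intro h
      obtain ⟨b, hb⟩ := (hP.range_iff U ((pH.app (r ⁻¹ᵁ U)).hom s)).mpr fun g => by
        refine (key U g s).trans ?_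
        rw [h]
      exact ⟨b, hinj U hb⟩

end Groth.Agent.S13081
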