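import Groth.Statements.S13083
import Groth.Agent.H27FrobPts.Cycles
import Mathlib

set_option autoImplicit false
universe u
open CategoryTheory AlgebraicGeometry Limits
open Zeta

namespace Groth.Agent.S13083

/-- Let X be a variety over a perfect field k, k̄ an algebraic closure and π : X_{k̄} → X the
projection. Sending a closed point x to the sum of the points of π⁻¹(x) induces a bijection between
effective 0-cycles of degree n on X and effective 0-cycles of degree n on X_{k̄} fixed by G(k̄/k).
Stated for schemes of finite type over k, with 0-cycles as finitely supported ℕ-valued functions on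
closed points, the degree on X weighted by the residue degrees [κ(x) : k], the map being c ↦ c ∘ π,
and the Galois automorphisms τ_σ = id × Spec σ pinned by their projections. -/
theorem result {k : Type u} [Field k]
    [PerfectField k] {X : Scheme.{u}} (f : X ⟶ Spec (CommRingCat.of k)) [LocallyOfFiniteType f]
    [QuasiCompact f]
    (τ : (AlgebraicClosure k ≃ₐ[k] AlgebraicClosure k) →
      (pullback f (Spec.map (CommRingCat.ofHom (algebraMap k (AlgebraicClosure k)))) ⟶
        pullback f (Spec.map (CommRingCat.ofHom (algebraMap k (AlgebraicClosure k))))))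
    (hτ1 : ∀ σ, τ σ ≫ pullback.fst f _ = pullback.fst f _)
    (hτ2 : ∀ σ, τ σ ≫ pullback.snd f (Spec.map (CommRingCat.ofHom (algebraMap k (AlgebraicClosure k)))) =
        pullback.snd f _ ≫ Spec.map (CommRingCat.ofHom (σ : AlgebraicClosure k →+* AlgebraicClosure k)))
    (n : ℕ) :
    Set.BijOn
      (fun c : X → ℕ => c ∘ (pullback.fst f (Spec.map (CommRingCat.ofHom
        (algebraMap k (AlgebraicClosure k))))).base)
      {c : X → ℕ | (Function.support c).Finite ∧ (∀ x, c x ≠ 0 → IsClosed ({x} : Set X)) ∧
        ∑ᶠ x, c x * EGA4loc.residueDegree f x = n}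
      {d : ↑(pullback f (Spec.map (CommRingCat.ofHom (algebraMap k (AlgebraicClosure k))))) → ℕ |
        (Function.support d).Finite ∧ (∀ y, d y ≠ 0 → IsClosed ({y} : Set _)) ∧
        ∑ᶠ y, d y = n ∧ ∀ σ y, d ((τ σ).base y) = d y} := by
  haveI : Normal k (AlgebraicClosure k) := IsAlgClosure.normal k _
  have hτ : ∀ σ, τ σ = Groth.Agent.H22Alg.GaloisFibres.act f (AlgebraicClosure k) σ := fun σ =>
    Limits.pullback.hom_ext ((hτ1 σ).trans (Groth.Agent.H22Alg.GaloisFibres.act_fst f _ σ).symm)
      ((hτ2 σ).trans (Groth.Agent.H22Alg.GaloisFibres.act_snd f _ σ).symm)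
  simp only [hτ]
  exact Groth.Agent.H27FrobPts.bijOn f (AlgebraicClosure k) n

end Groth.Agent.S13083
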