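import Groth.Statements.S13085
import Groth.Agent.H27LangWeil.Abscissa
import Groth.Agent.H27Zeta.PointBoundField

set_option autoImplicit false
universe u
open CategoryTheory AlgebraicGeometry
open Zeta

namespace Groth.Agent.S13085

/-- If Y is a scheme of finite type over F_p (here: over any finite field) of dimension r, the abscissa
of convergence of the Dirichlet series L_Y(s) = Σ a_n n^{−s} (a_n = number of effective 0-cycles of
norm n; nonnegative coefficients, so convergence and absolute convergence agree) is r. -/
theorem result {k : Type u} [Field k] [Finite k]
    {Y : Scheme.{u}} (f : Y ⟶ Spec (CommRingCat.of k)) [LocallyOfFiniteType f] [QuasiCompact f] (r : ℕ)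
    (hr : topologicalKrullDim Y = r) :
    LSeries.abscissaOfAbsConv (Zeta.arithCoeff Y) = (r : ℝ) := by
  exact Groth.Agent.H27LangWeil.abscissa_eq (Groth.Agent.H27Zeta.toInt f) r hr

end Groth.Agent.S13085
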