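import Groth.Statements.S13087
import Groth.Agent.H26Lie3.Regular

set_option autoImplicit false
universe u
open Lie3Mod

namespace Groth.Agent.S13087

open MvPolynomial Groth.Agent.H26Misc Groth.Agent.H26Lie3

/-- Let A be a nontrivial commutative ring and D = A[a,b,c,d,e,f,g,h,i] the polynomial ring in nine
variables. Then the linear forms a − i, b + f, d + h form a regular sequence on D, and so do the
three Jacobi polynomials Q1 = ah + di − fg − bg, Q2 = ie + bd − fh − ae, Q3 = hc + dc − af − bi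
(each term is a non-zero-divisor on the quotient of D by the preceding terms, and the quotient by
all three is non-zero). (The published statement is made with a regular base ring in force; the
printed argument does not use that hypothesis, and the statement is given here over every nontrivial
commutative base ring.) -/
theorem result (A : Type u) [CommRing A] [Nontrivial A] :
    RingTheory.Sequence.IsRegular (Lie3Mod.D A) [Lie3Mod.L1 A, Lie3Mod.L2 A, Lie3Mod.L3 A] ∧
      RingTheory.Sequence.IsRegular (Lie3Mod.D A) [Lie3Mod.Q1 A, Lie3Mod.Q2 A, Lie3Mod.Q3 A] := by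
  constructor
  · refine isRegular_triple A ![L1 A, L2 A, L3 A] (fun _ => 1)
      ![![1, 0, 0, 0, 0, 0, 0, 0, 0], ![0, 1, 0, 0, 0, 0, 0, 0, 0], ![0, 0, 1, 0, 0, 0, 0, 0, 0]] ![[], [], []]
      (by decide) (by decide) (fun j => Or.inl ?_) (fun j => ?_)
    · fin_cases j <;> simp [psi_L1, psi_L2, psi_L3, WGB.toP, Fin.prod_univ_succ]
    · fin_cases j <;> simp [L1, L2, L3]
  · refine isRegular_triple A ![Q1 A, Q2 A, Q3 A] ![1, 1, 1, 1, 3, 1, 3, 1, 3]
      ![![0, 1, 0, 0, 1, 0, 0, 0, 0], ![1, 0, 0, 0, 0, 0, 1, 0, 0], ![0, 0, 1, 0, 0, 0, 0, 0, 1]]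
      ![[(-1, ![1, 0, 0, 1, 0, 0, 0, 0, 0]), (-1, ![0, 0, 1, 0, 0, 1, 0, 0, 0])],
        [(1, ![0, 1, 0, 1, 0, 0, 0, 0, 0]), (-1, ![0, 0, 1, 0, 0, 0, 0, 1, 0])],
        [(1, ![1, 0, 0, 0, 0, 0, 0, 1, 0]), (-1, ![1, 1, 0, 0, 0, 0, 0, 0, 0]), (-1, ![0, 1, 0, 0, 0, 1, 0, 0, 0])]]
      (by decide) (by decide) (fun j => ?_) (fun j => ?_)
    · fin_cases j
      · right; simp [psi_Q1, WGB.toP, Fin.prod_univ_succ]; ring
      · right; simp [psi_Q2, WGB.toP, Fin.prod_univ_succ]; ring
      · left; simp [psi_Q3, WGB.toP, Fin.prod_univ_succ]; ring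
    · fin_cases j <;> simp [Q1, Q2, Q3]

end Groth.Agent.S13087
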