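import Groth.Statements.S13088
import Groth.Agent.H26Lie3.Base
import Mathlib.RingTheory.Ideal.MinimalPrime.Basic

set_option autoImplicit false
universe u
open Lie3Mod

namespace Groth.Agent.S13088

/-- Let A be a commutative domain and D = A[a,b,c,d,e,f,g,h,i]. Then the ideal L = (a − i, b + f, d + h)
of D is minimal among the prime ideals of D containing the Jacobi ideal I = (Q1, Q2, Q3), where Q1 =
ah + di − fg − bg, Q2 = ie + bd − fh − ae, Q3 = hc + dc − af − bi. (The published statement is made
with a regular base ring in force, used there as a domain; the printed argument uses only that the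
base ring is a domain, which is the hypothesis taken here.) -/
theorem result (A : Type u) [CommRing A] [IsDomain A] :
    Lie3Mod.idL A ∈ (Lie3Mod.idI A).minimalPrimes := by
  have hprime : (Lie3Mod.idL A).IsPrime := by
    rw [Groth.Agent.H26Lie3.idL_eq_ker]; exact RingHom.ker_isPrime _
  refine ⟨⟨hprime, Groth.Agent.H26Lie3.idI_le_idL A⟩, fun p hp hpL => ?_⟩
  intro l hl
  have h1 : Lie3Mod.detM A * l ∈ p :=
    hp.2 (Groth.Agent.H26Lie3.mul_mem_idI A hl (Ideal.subset_span (by simp)))
  refine (hp.1.mem_or_mem h1).resolve_left fun h => ?_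
  have h2 : (1 : Lie3Mod.D A) * Lie3Mod.detM A ∈ Lie3Mod.idL A := by rw [one_mul]; exact hpL h
  exact hprime.ne_top ((Ideal.eq_top_iff_one _).mpr (Groth.Agent.H26Lie3.mem_idL_of_mul_detM A h2))

end Groth.Agent.S13088
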