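import Groth.Statements.S13094
import Groth.Agent.H26Lie3.Base
import Mathlib.RingTheory.Flat.TorsionFree
import Mathlib.RingTheory.DedekindDomain.PID

set_option autoImplicit false
open Lie3Mod

namespace Groth.Agent.S13094

/-- The second component of the moduli scheme of based three-dimensional Lie algebras is flat over the
integers: the ring Z[a,b,c,d,e,f,g,h,i]/J, where J = (Q1, Q2, Q3, det M) with Q1 = ah + di − fg −
bg, Q2 = ie + bd − fh − ae, Q3 = hc + dc − af − bi and det M = −ch² + gbf + ei² − gec + hbi − ihf,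
is a flat Z-module. -/
theorem result :
    Module.Flat ℤ (Lie3Mod.D ℤ ⧸ Lie3Mod.idJ ℤ) := by
  haveI : IsDomain (Groth.Agent.H26Lie3.T ℤ) := IsLocalization.isDomain_localization
    (powers_le_nonZeroDivisors_of_noZeroDivisors (MvPolynomial.X_ne_zero (0 : Fin 9)))
  let f : MvPolynomial (Fin 9) ℤ →+* Groth.Agent.H26Lie3.T ℤ := algebraMap _ _
  have hinj : Function.Injective f := IsLocalization.injective _
    (powers_le_nonZeroDivisors_of_noZeroDivisors (MvPolynomial.X_ne_zero (0 : Fin 9)))
  haveI : Module.IsTorsionFree ℤ (Lie3Mod.D ℤ ⧸ Lie3Mod.idJ ℤ) := by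
    rw [Module.isTorsionFree_iff_smul_eq_zero]
    intro n x h
    rw [or_iff_not_imp_left]
    intro hn
    obtain ⟨x, rfl⟩ := Ideal.Quotient.mk_surjective x
    rw [← map_zsmul] at h
    have h' := Ideal.Quotient.eq_zero_iff_mem.mp h
    rw [Groth.Agent.H26Lie3.idJ_eq_ker, RingHom.mem_ker, map_zsmul, zsmul_eq_mul, mul_eq_zero] at h'
    rw [Ideal.Quotient.eq_zero_iff_mem, Groth.Agent.H26Lie3.idJ_eq_ker, RingHom.mem_ker]
    refine h'.resolve_left fun hc => hn ?_
    have e : f (n : MvPolynomial (Fin 9) ℤ) = f 0 := by rw [map_intCast, hc, map_zero]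
    simpa using congrArg MvPolynomial.constantCoeff (hinj e)
  infer_instance

end Groth.Agent.S13094
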