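import Groth.Statements.S13095
import Groth.Agent.H26Lie3.Base
import Mathlib.RingTheory.Flat.TorsionFree
import Mathlib.RingTheory.DedekindDomain.PID

set_option autoImplicit false
open Lie3Mod

namespace Groth.Agent.S13095

/-- The moduli scheme of based three-dimensional Lie algebras is flat over the integers and reduced:
with I = (Q1, Q2, Q3) the Jacobi ideal of Z[a,b,c,d,e,f,g,h,i] (Q1 = ah + di − fg − bg, Q2 = ie + bd
− fh − ae, Q3 = hc + dc − af − bi), the ring Z[a,b,c,d,e,f,g,h,i]/I is a flat Z-module and I is a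
radical ideal. -/
theorem result :
    Module.Flat ℤ (Lie3Mod.D ℤ ⧸ Lie3Mod.idI ℤ) ∧ (Lie3Mod.idI ℤ).IsRadical := by
  haveI : IsDomain (Groth.Agent.H26Lie3.T ℤ) := IsLocalization.isDomain_localization
    (powers_le_nonZeroDivisors_of_noZeroDivisors (MvPolynomial.X_ne_zero (0 : Fin 9)))
  let f : MvPolynomial (Fin 9) ℤ →+* Groth.Agent.H26Lie3.T ℤ := algebraMap _ _
  have hinj : Function.Injective f := IsLocalization.injective _
    (powers_le_nonZeroDivisors_of_noZeroDivisors (MvPolynomial.X_ne_zero (0 : Fin 9)))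
  have hJ : (Lie3Mod.idJ ℤ).IsPrime := by
    rw [Groth.Agent.H26Lie3.idJ_eq_ker]; exact RingHom.ker_isPrime _
  have hL : (Lie3Mod.idL ℤ).IsPrime := by
    rw [Groth.Agent.H26Lie3.idL_eq_ker]; exact RingHom.ker_isPrime _
  refine ⟨?_, ?_⟩
  · haveI : Module.IsTorsionFree ℤ (Lie3Mod.D ℤ ⧸ Lie3Mod.idI ℤ) := by
      rw [Module.isTorsionFree_iff_smul_eq_zero]
      intro n x h
      rw [or_iff_not_imp_left]
      intro hn
      obtain ⟨x, rfl⟩ := Ideal.Quotient.mk_surjective x
      rw [← map_zsmul] at h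
      have h' := Ideal.Quotient.eq_zero_iff_mem.mp h
      rw [Ideal.Quotient.eq_zero_iff_mem]
      rw [Groth.Agent.H26Lie3.idI_eq_inf] at h' ⊢
      refine ⟨?_, ?_⟩
      · have h1 := h'.1
        rw [SetLike.mem_coe, Groth.Agent.H26Lie3.idJ_eq_ker, RingHom.mem_ker, map_zsmul, zsmul_eq_mul, mul_eq_zero] at h1
        rw [SetLike.mem_coe, Groth.Agent.H26Lie3.idJ_eq_ker, RingHom.mem_ker]
        refine h1.resolve_left fun hc => hn ?_
        have e : f (n : MvPolynomial (Fin 9) ℤ) = f 0 := by rw [map_intCast, hc, map_zero]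
        simpa using congrArg MvPolynomial.constantCoeff (hinj e)
      · have h2 := h'.2
        rw [SetLike.mem_coe, Groth.Agent.H26Lie3.idL_eq_ker, RingHom.mem_ker, map_zsmul, smul_eq_zero] at h2
        rw [SetLike.mem_coe, Groth.Agent.H26Lie3.idL_eq_ker, RingHom.mem_ker]
        exact h2.resolve_left hn
    infer_instance
  · rw [Groth.Agent.H26Lie3.idI_eq_inf]
    exact hJ.isRadical.inf hL.isRadical

end Groth.Agent.S13095
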