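import Groth.Statements.S13096
import Mathlib.NumberTheory.Padics.PadicIntegers
import Mathlib.Order.CompletePartialOrder
import Mathlib.RingTheory.Flat.FaithfullyFlat.Algebra
import Mathlib.RingTheory.HopkinsLevitzki
import Mathlib.RingTheory.Noetherian.OfPrime
import Mathlib.RingTheory.SimpleRing.Principal
import Mathlib.RingTheory.Support
import Mathlib.RingTheory.WittVector.Domain
import Mathlib.RingTheory.WittVector.Teichmuller

set_option autoImplicit false
universe u v
open CAlg

namespace Groth.Agent.S13096

/-- Let R be a commutative ring and R' a commutative R-algebra of finite presentation. Then every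
surjective R-algebra endomorphism α : R' → R' is bijective (an automorphism). -/
theorem result (R : Type u) [CommRing R]
    (R' : Type v) [CommRing R'] [Algebra R R'] [Algebra.FinitePresentation R R']
    (α : R' →ₐ[R] R') (hα : Function.Surjective α) : Function.Bijective α := by
  classical
  refine ⟨?_, hα⟩
  rw [injective_iff_map_eq_zero]
  intro x hx
  obtain ⟨s, hs⟩ := (Algebra.FiniteType.out : (⊤ : Subalgebra R R').FG)
  have hfin : ∀ y : R', ∃ C : Finset R, y ∈ Subring.closure (algebraMap R R' '' C ∪ s) := by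
    intro y
    have hy : y ∈ Algebra.adjoin R (s : Set R') := hs ▸ trivial
    induction hy using Algebra.adjoin_induction with
    | mem z hz => exact ⟨∅, Subring.subset_closure (Or.inr hz)⟩
    | algebraMap r => exact ⟨{r}, Subring.subset_closure (Or.inl ⟨r, by simp, rfl⟩)⟩
    | add a b _ _ ha hb =>
      obtain ⟨C, hC⟩ := ha; obtain ⟨D, hD⟩ := hb
      exact ⟨C ∪ D, add_mem (Subring.closure_mono (by gcongr; simp) hC) (Subring.closure_mono (by gcongr; simp) hD)⟩
    | mul a b _ _ ha hb =>
      obtain ⟨C, hC⟩ := ha; obtain ⟨D, hD⟩ := hb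
      exact ⟨C ∪ D, mul_mem (Subring.closure_mono (by gcongr; simp) hC) (Subring.closure_mono (by gcongr; simp) hD)⟩
  choose C hC using hfin
  choose β hβ using hα
  let D : Finset R := C x ∪ s.biUnion (fun g => C (α g) ∪ C (β g))
  let gens : Set R' := algebraMap R R' '' D ∪ s
  let T := Subring.closure gens
  have hT : ∀ y, C y ⊆ D → y ∈ T := fun y hy =>
    Subring.closure_mono (Set.union_subset_union_left _ (Set.image_mono (by exact_mod_cast hy))) (hC y)
  have hgen : ∀ z ∈ gens, α z ∈ T ∧ ∃ w ∈ T, α w = z := by
    rintro z (⟨r, hr, rfl⟩ | hz)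
    · have : algebraMap R R' r ∈ T := Subring.subset_closure (Or.inl ⟨r, hr, rfl⟩)
      exact ⟨by simpa using this, _, this, α.commutes r⟩
    · refine ⟨hT _ ?_, β z, hT _ ?_, hβ z⟩ <;>
      · intro r hr
        simp only [D, Finset.mem_union, Finset.mem_biUnion]
        exact Or.inr ⟨z, hz, by simp [hr]⟩
  have hN : IsNoetherianRing T :=
    is_noetherian_subring_closure _ (((Finset.finite_toSet D).image _).union (Finset.finite_toSet s))
  have hmaps : T ≤ T.comap α.toRingHom := Subring.closure_le.mpr fun z hz => (hgen z hz).1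
  let f : T →+* T := (α.toRingHom.comp T.subtype).codRestrict T fun z => hmaps z.2
  have hf : Function.Surjective f := by
    have : T ≤ T.map α.toRingHom := Subring.closure_le.mpr fun z hz => by
      obtain ⟨_, w, hw, rfl⟩ := hgen z hz
      exact ⟨w, hw, rfl⟩
    intro z
    obtain ⟨w, hw, hwz⟩ := this z.2
    exact ⟨⟨w, hw⟩, Subtype.ext hwz⟩
  have hiter : ∀ n, ∀ z : T, ((f : T → T)^[n+1]) z = 0 → f ((f : T → T)^[n] z) = 0 := fun n z h => by
    simpa [Function.iterate_succ_apply'] using h
  let K : ℕ →o Ideal T := ⟨fun n => RingHom.ker (f ^ n : T →+* T), monotone_nat_of_le_succ fun n z hz => by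
    simp only [RingHom.mem_ker, RingHom.coe_pow] at hz ⊢
    rw [Function.iterate_succ_apply', hz, map_zero]⟩
  obtain ⟨n, hn⟩ := monotone_stabilizes_iff_noetherian.mpr hN K
  have hxT : x ∈ T := hT x Finset.subset_union_left
  obtain ⟨y, hy⟩ := (hf.iterate n) ⟨x, hxT⟩
  have : y ∈ K (n+1) := by
    show y ∈ RingHom.ker _
    rw [RingHom.mem_ker, RingHom.coe_pow, Function.iterate_succ_apply', hy]
    exact Subtype.ext hx
  rw [← hn (n+1) (Nat.le_succ n)] at this
  change y ∈ RingHom.ker _ at this
  rw [RingHom.mem_ker, RingHom.coe_pow, hy] at this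
  simpa using congrArg Subtype.val this

end Groth.Agent.S13096
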