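import Groth.Statements.S13097
import Groth.Agent.S0415

set_option autoImplicit false
universe u
open FlatMor

namespace Groth.Agent.S13097
open CategoryTheory.Limits
set_option backward.isDefEq.respectTransparency false
set_option linter.style.haveILetI false


open CategoryTheory AlgebraicGeometry in
/-- Let f : X → S be a quasi-compact, separated morphism of schemes with a section e : S → X (e followed
by f is the identity of S), and U ⊆ S an open subscheme such that f⁻¹(U) is schematically dense in X
(for every open V of X, restriction of functions from V to V ∩ f⁻¹(U) is injective) and such that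
the restriction f⁻¹(U) → U of f is a homeomorphism of underlying spaces. Then f is universally a
homeomorphism (every base change of f is a homeomorphism), and f is finite as soon as it is locally
of finite type. (The published statement also lists surjectivity of f, which a section forces, and
offers as an alternative to the section the hypothesis that f be flat, still with f⁻¹(U) → U only a
homeomorphism; that flat alternative fails: the spectrum of a separable quadratic field extension
over the spectrum of the ground field, with U the whole base, is flat, surjective, quasi-compact,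
separated and a homeomorphism over U, yet not universally injective. Only the case of a section,
whose published proof is complete, is stated here.) -/
theorem result {X S : Scheme.{u}} (f : X ⟶ S)
    [QuasiCompact f] [IsSeparated f] (U : S.Opens)
    (hdense : CInt.IsSchematicallyDense (f ⁻¹ᵁ U)) (hU : IsHomeomorph (f ∣_ U).base)
    (e : S ⟶ X) (he : e ≫ f = 𝟙 S) :
    FlatMor.IsUnivHomeo f ∧ (LocallyOfFiniteType f → IsFinite f) := by
    classical
    haveI : IsClosedImmersion e := by
      haveI : IsClosedImmersion (e ≫ f) := by rw [he]; infer_instance
      exact IsClosedImmersion.of_comp e f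
    have hd : Dense ((f ⁻¹ᵁ U : X.Opens) : Set X) := by
      rw [dense_iff_inter_open]
      intro W hW hne
      by_contra h
      rw [Set.not_nonempty_iff_eq_empty] at h
      obtain ⟨x, hx⟩ := hne
      let V : X.Opens := ⟨W, hW⟩
      have hbot : V ⊓ f ⁻¹ᵁ U = ⊥ := SetLike.coe_injective h
      have : Subsingleton Γ(X, V ⊓ f ⁻¹ᵁ U) :=
        CommRingCat.subsingleton_of_isTerminal (by rw [hbot]; exact X.sheaf.isTerminalOfEmpty)
      have h01 : (0 : Γ(X, V)) = 1 := hdense V (Subsingleton.elim _ _)
      have := congrArg (X.presheaf.germ V x hx) h01
      rw [map_zero, map_one] at this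
      exact zero_ne_one this
    haveI : Surjective e := by
      refine ⟨Set.range_eq_univ.mp ?_⟩
      rw [← e.isClosedEmbedding.isClosed_range.closure_eq]
      refine (hd.mono ?_).closure_eq
      intro x (hx : f x ∈ U)
      have h1 : f (e (f x)) = f x := congrArg (fun m : S ⟶ S => m (f x)) he
      have h2 : e (f x) ∈ f ⁻¹ᵁ U := show f _ ∈ U by rw [h1]; exact hx
      exact ⟨f x, congrArg Subtype.val (hU.injective (a₁ := ⟨e (f x), h2⟩) (a₂ := ⟨x, hx⟩)
        (Subtype.ext (by simpa using h1)))⟩
    have hhomeo : FlatMor.IsUnivHomeo f := by
      intro X' S' i₁ i₂ f' hpb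
      let e' : S' ⟶ X' := hpb.lift (𝟙 _) (i₂ ≫ e) (by rw [Category.id_comp, Category.assoc, he, Category.comp_id])
      have he' : e' ≫ f' = 𝟙 _ := hpb.lift_fst _ _ _
      have hq : IsPullback e' i₂ i₁ e := by
        refine IsPullback.of_right (h₁₂ := f') (h₂₂ := f) ?_ (hpb.lift_snd _ _ _) hpb
        rw [he', he]
        exact IsPullback.id_horiz i₂
      haveI : IsClosedImmersion e' := MorphismProperty.of_isPullback hq.flip ‹IsClosedImmersion e›
      haveI : Surjective e' := MorphismProperty.of_isPullback hq.flip ‹Surjective e›
      let H := (e'.isClosedEmbedding.isEmbedding.toHomeomorphOfSurjective e'.surjective)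
      have hfe : ∀ y, f' (e' y) = y := fun y => congrArg (fun m : S' ⟶ S' => m y) he'
      have hfun : (f' : X' → S') = H.symm := funext fun x => by
        obtain ⟨y, rfl⟩ := e'.surjective x
        rw [hfe]
        exact (H.symm_apply_apply y).symm
      show IsHomeomorph f'
      rw [hfun]
      exact H.symm.isHomeomorph
    refine ⟨hhomeo, fun _ => ?_⟩
    obtain ⟨hint, -, -⟩ := (Groth.Agent.S0415.result f).mp hhomeo
    exact (IsFinite.iff_isIntegralHom_and_locallyOfFiniteType f).mpr ⟨hint, inferInstance⟩

end Groth.Agent.S13097
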