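import Groth.Statements.S13099
import Mathlib

set_option autoImplicit false
set_option linter.style.haveILetI false
universe u
open GrpSch

namespace Groth.Agent.S13099

open MvPolynomial in
private theorem coeff_add_pow {A : Type u} [CommRing A] (n j k : ℕ) :
    coeff (Finsupp.single 0 j + Finsupp.single 1 k) ((X 0 + X 1 : MvPolynomial (Fin 2) A) ^ n) =
      if j + k = n then ((j + k).choose j : A) else 0 := by
  classical
  rw [add_pow, coeff_sum]
  have h : ∀ m ∈ Finset.range (n + 1),
      coeff (Finsupp.single 0 j + Finsupp.single 1 k) (X 0 ^ m * X 1 ^ (n - m) * (n.choose m : MvPolynomial (Fin 2) A)) =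
        if j = m ∧ k = n - m then (n.choose m : A) else 0 := by
    intro m _
    rw [X_pow_eq_monomial, X_pow_eq_monomial, monomial_mul, mul_comm,
      show (n.choose m : MvPolynomial (Fin 2) A) = C (n.choose m : A) from (map_natCast _ _).symm,
      coeff_C_mul, coeff_monomial]
    by_cases hc : j = m ∧ k = n - m
    · rw [if_pos hc, if_pos (by rw [hc.1, hc.2]), _root_.mul_one, _root_.mul_one]
    · rw [if_neg hc, if_neg, mul_zero]
      intro e
      have e0 := DFunLike.congr_fun e 0
      have e1 := DFunLike.congr_fun e 1
      simp at e0 e1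
      exact hc ⟨e0.symm, e1.symm⟩
  rw [Finset.sum_congr rfl h]
  by_cases hjk : j + k = n
  · rw [if_pos hjk, Finset.sum_eq_single j]
    · rw [if_pos ⟨rfl, by omega⟩, hjk]
    · intro b _ hb; rw [if_neg fun h => hb h.1.symm]
    · intro h; exact absurd (Finset.mem_range.2 (by omega)) h
  · rw [if_neg hjk]
    refine Finset.sum_eq_zero fun m hm => if_neg fun h => hjk ?_
    rw [Finset.mem_range] at hm
    omega

open MvPolynomial in
private theorem coeff_pow_single {A : Type u} [CommRing A] (n j k : ℕ) (hj : 0 < j) (hk : 0 < k) (i : Fin 2) :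
    coeff (Finsupp.single 0 j + Finsupp.single 1 k) ((X i : MvPolynomial (Fin 2) A) ^ n) = 0 := by
  classical
  rw [X_pow_eq_monomial, coeff_monomial, if_neg]
  intro e
  have e0 := DFunLike.congr_fun e 0
  have e1 := DFunLike.congr_fun e 1
  fin_cases i <;> simp at e0 e1 <;> omega

open Polynomial in
private theorem exists_choose_isUnit {p : ℕ} [Fact p.Prime] {i : ℕ} (hi : i < p ^ 2) (h1 : 1 < i) (hp : i ≠ p) :
    ∃ j, 0 < j ∧ j < i ∧ ¬ p ∣ i.choose j := by
  have hpp := (Fact.out : p.Prime)
  by_cases hd : p ∣ i
  · obtain ⟨m, rfl⟩ := hd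
    have hm2 : 2 ≤ m := by
      rcases m with _ | _ | m
      · simp at h1
      · simp at hp
      · omega
    have hmp : m < p := by
      rw [pow_two] at hi
      exact Nat.lt_of_mul_lt_mul_left hi
    refine ⟨p, hpp.pos, by nlinarith [hpp.pos], fun hdvd => ?_⟩
    have h := Choose.choose_modEq_choose_mod_mul_choose_div_nat (n := p * m) (k := p) (p := p)
    rw [Nat.mul_mod_right, Nat.mod_self, Nat.choose_self, Nat.mul_div_cancel_left _ hpp.pos, Nat.div_self hpp.pos,
      Nat.choose_one_right, _root_.one_mul] at h
    have : p ∣ m := (Nat.ModEq.dvd_iff h dvd_rfl).1 hdvd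
    exact absurd (Nat.le_of_dvd (by omega) this) (by omega)
  · exact ⟨1, one_pos, h1, by rwa [Nat.choose_one_right]⟩


open Polynomial in
/-- Let p be a prime and A a commutative ring of characteristic p, and consider the infinitesimal group
scheme Spec A[X]/(X^{p²}) with the additive group law. In coordinates: (1) a polynomial q ∈ A[X] of
degree less than p² satisfies q(Y + Z) − q(Y) − q(Z) ∈ (Y^{p²}, Z^{p²}) in A[Y, Z] (that is, X ↦ q
respects the comultiplication) if and only if q = a₁ X + a_p X^p for some a₁, a_p ∈ A; (2) an
A-algebra endomorphism of A[X]/(X^{p²}) that sends the class of X to the class of a₁ X + a_p X^p is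
bijective if and only if a₁ is a unit of A. (The printed statement is that the automorphism group
scheme of this group scheme is the semidirect product of the additive group by the multiplicative
group, v acting on u by v^{p−1}u; this row records the two computations it consists of, in
coordinates.) -/
theorem result (p : ℕ) [Fact p.Prime] (A : Type u) [CommRing A] [CharP A p] :
    (∀ q : A[X], q.natDegree < p ^ 2 →
      (Polynomial.aeval (MvPolynomial.X 0 + MvPolynomial.X 1 : MvPolynomial (Fin 2) A) q -
            Polynomial.aeval (MvPolynomial.X 0 : MvPolynomial (Fin 2) A) q -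
            Polynomial.aeval (MvPolynomial.X 1 : MvPolynomial (Fin 2) A) q ∈
          Ideal.span ({MvPolynomial.X 0 ^ p ^ 2, MvPolynomial.X 1 ^ p ^ 2} : Set (MvPolynomial (Fin 2) A)) ↔
        ∃ a₁ ap : A, q = Polynomial.C a₁ * X + Polynomial.C ap * X ^ p)) ∧
    (∀ (a₁ ap : A) (φ : (A[X] ⧸ Ideal.span ({X ^ p ^ 2} : Set A[X])) →ₐ[A] (A[X] ⧸ Ideal.span ({X ^ p ^ 2} : Set A[X]))),
      φ (Ideal.Quotient.mk (Ideal.span ({X ^ p ^ 2} : Set A[X])) X) =
          Ideal.Quotient.mk (Ideal.span ({X ^ p ^ 2} : Set A[X])) (Polynomial.C a₁ * X + Polynomial.C ap * X ^ p) →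
        (Function.Bijective φ ↔ IsUnit a₁)) := by
  classical
  have hpp := (Fact.out : p.Prime)
  have hp2 : 2 ≤ p ^ 2 := le_trans hpp.two_le (Nat.le_self_pow (by norm_num) p)
  refine ⟨fun q hq => ?_, fun a₁ ap φ hφ => ?_⟩
  · constructor
    · intro h
      have hc : ∀ j k, 0 < j → 0 < k → j + k < p ^ 2 → q.coeff (j + k) * ((j + k).choose j : A) = 0 := by
        intro j k hj hk hjk
        have h0 : MvPolynomial.coeff (Finsupp.single 0 j + Finsupp.single 1 k)
            (Polynomial.aeval (MvPolynomial.X 0 + MvPolynomial.X 1 : MvPolynomial (Fin 2) A) q -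
              Polynomial.aeval (MvPolynomial.X 0 : MvPolynomial (Fin 2) A) q -
              Polynomial.aeval (MvPolynomial.X 1 : MvPolynomial (Fin 2) A) q) = 0 := by
          rw [MvPolynomial.X_pow_eq_monomial, MvPolynomial.X_pow_eq_monomial,
            show ({MvPolynomial.monomial (Finsupp.single 0 (p ^ 2)) 1, MvPolynomial.monomial (Finsupp.single 1 (p ^ 2)) 1} :
              Set (MvPolynomial (Fin 2) A)) = (fun s => MvPolynomial.monomial s (1 : A)) ''
                {Finsupp.single (0 : Fin 2) (p ^ 2), Finsupp.single 1 (p ^ 2)} by rw [Set.image_pair],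
            MvPolynomial.mem_ideal_span_monomial_image] at h
          by_contra hne
          obtain ⟨s, hs, hsle⟩ := h _ (MvPolynomial.mem_support_iff.2 hne)
          rcases hs with rfl | rfl
          · have := hsle 0
            simp at this
            omega
          · have := hsle 1
            simp at this
            omega
        simp only [Polynomial.aeval_eq_sum_range, MvPolynomial.coeff_sub, MvPolynomial.coeff_sum,
          MvPolynomial.coeff_smul, coeff_add_pow, coeff_pow_single _ _ _ hj hk, smul_eq_mul, mul_zero,
          Finset.sum_const_zero, sub_zero, mul_ite, Finset.sum_ite_eq, Finset.mem_range] at h0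
        by_cases hle : j + k < q.natDegree + 1
        · rwa [if_pos hle] at h0
        · rw [Polynomial.coeff_eq_zero_of_natDegree_lt (by omega), zero_mul]
      have hz : q.coeff 0 = 0 := by
        rw [MvPolynomial.X_pow_eq_monomial, MvPolynomial.X_pow_eq_monomial,
          show ({MvPolynomial.monomial (Finsupp.single 0 (p ^ 2)) 1, MvPolynomial.monomial (Finsupp.single 1 (p ^ 2)) 1} :
            Set (MvPolynomial (Fin 2) A)) = (fun s => MvPolynomial.monomial s (1 : A)) ''
              {Finsupp.single (0 : Fin 2) (p ^ 2), Finsupp.single 1 (p ^ 2)} by rw [Set.image_pair],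
          MvPolynomial.mem_ideal_span_monomial_image] at h
        have e : ∀ v : MvPolynomial (Fin 2) A, MvPolynomial.constantCoeff v = 0 →
            MvPolynomial.constantCoeff (Polynomial.aeval v q) = q.coeff 0 := fun v hv => by
          rw [Polynomial.aeval_def, Polynomial.hom_eval₂, hv, Polynomial.eval₂_at_zero]
          simp
        by_contra hne
        obtain ⟨s, hs, hsle⟩ := h 0 (MvPolynomial.mem_support_iff.2 (by
          rw [← MvPolynomial.constantCoeff_eq, map_sub, map_sub, e _ (by simp), e _ (by simp), e _ (by simp), sub_self, zero_sub]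
          exact neg_ne_zero.2 hne))
        have hp0 : 0 < p ^ 2 := by omega
        rcases hs with rfl | rfl
        · have := hsle 0
          simp [hpp.ne_zero] at this
        · have := hsle 1
          simp [hpp.ne_zero] at this
      refine ⟨q.coeff 1, q.coeff p, Polynomial.ext fun i => ?_⟩
      simp only [Polynomial.coeff_add, Polynomial.coeff_C_mul, Polynomial.coeff_X, Polynomial.coeff_X_pow]
      rcases lt_trichotomy i 1 with hi | rfl | hi
      · obtain rfl : i = 0 := by omega
        simp [hz, hpp.ne_zero.symm]
      · simp [hpp.ne_one.symm]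
      · rw [if_neg (by omega), mul_zero, zero_add]
        by_cases hip : i = p
        · subst hip; simp
        · rw [if_neg hip, mul_zero]
          by_cases hiN : i < p ^ 2
          · obtain ⟨j, hj0, hji, hju⟩ := exists_choose_isUnit hiN hi hip
            have hu : IsUnit (i.choose j : A) :=
              (CharP.isUnit_natCast_iff hpp).2 hju
            have := hc j (i - j) hj0 (by omega) (by omega)
            rw [show j + (i - j) = i by omega] at this
            exact (hu.mul_left_eq_zero).1 this
          · exact Polynomial.coeff_eq_zero_of_natDegree_lt (by omega)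
    · rintro ⟨a₁, ap, rfl⟩
      convert Submodule.zero_mem _ using 1
      haveI : CharP (MvPolynomial (Fin 2) A) p := inferInstance
      simp only [map_add, map_mul, Polynomial.aeval_C, Polynomial.aeval_X, map_pow, add_pow_char]
      ring
  · let I := Ideal.span ({X ^ p ^ 2} : Set A[X])
    let x := Ideal.Quotient.mk I X
    have hxN : x ^ p ^ 2 = 0 := by
      rw [← map_pow]; exact Ideal.Quotient.eq_zero_iff_mem.2 (Ideal.subset_span rfl)
    let u : A[X] ⧸ I := algebraMap A _ a₁ + algebraMap A _ ap * x ^ (p - 1)
    have hφx : φ x = x * u := by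
      rw [hφ, map_add, map_mul, map_mul, map_pow]
      show algebraMap A _ a₁ * x + algebraMap A _ ap * x ^ p = _
      conv_lhs => rw [show p = (p - 1) + 1 by have := hpp.two_le; omega, pow_succ]
      simp only [u]
      ring
    constructor
    · intro hb
      let ψ : (A[X] ⧸ I) →ₐ[A] DualNumber A := Ideal.Quotient.liftₐ I (Polynomial.aeval DualNumber.eps) (by
        intro g hg
        obtain ⟨c, rfl⟩ := Ideal.mem_span_singleton.1 hg
        rw [map_mul, map_pow, Polynomial.aeval_X, ← Nat.add_sub_cancel' hp2, pow_add, pow_two, DualNumber.eps_mul_eps,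
          zero_mul, zero_mul])
      have hψx : ψ x = DualNumber.eps := Polynomial.aeval_X _
      have hψφ : ψ (φ x) = algebraMap A _ a₁ * DualNumber.eps := by
        rw [hφx, map_mul, hψx]
        simp only [u, map_add, map_mul, map_pow, AlgHom.commutes, hψx]
        rw [← Nat.add_sub_cancel' (show 1 ≤ p - 1 by have := hpp.two_le; omega), pow_add, pow_one, mul_add,
          mul_left_comm DualNumber.eps, ← mul_assoc DualNumber.eps, DualNumber.eps_mul_eps, zero_mul, mul_zero,
          add_zero, mul_comm]
      obtain ⟨f, hf⟩ := hb.2 x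
      obtain ⟨g, rfl⟩ := Ideal.Quotient.mk_surjective f
      have h := congrArg ψ hf
      rw [hψx, ← Ideal.Quotient.mkₐ_eq_mk A, ← AlgHom.comp_apply, ← AlgHom.comp_apply,
        show ((ψ.comp φ).comp (Ideal.Quotient.mkₐ A I)) = Polynomial.aeval (algebraMap A (DualNumber A) a₁ * DualNumber.eps) from
          Polynomial.algHom_ext (by simpa using hψφ)] at h
      conv_lhs at h => rw [← Polynomial.X_mul_divX_add g, map_add, map_mul, Polynomial.aeval_X, Polynomial.aeval_C]
      generalize Polynomial.aeval (algebraMap A (DualNumber A) a₁ * DualNumber.eps) g.divX = c at h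
      have h2 := congrArg TrivSqZeroExt.snd h
      simp [TrivSqZeroExt.algebraMap_eq_inl, TrivSqZeroExt.snd_mul] at h2
      exact IsUnit.of_mul_eq_one _ h2
    · intro ha
      have hu : ∀ k, ∃ v : A[X] ⧸ I, u ^ k = algebraMap A _ (a₁ ^ k) + x * v := by
        intro k
        induction k with
        | zero => exact ⟨0, by simp⟩
        | succ k ih =>
          obtain ⟨v, hv⟩ := ih
          refine ⟨v * u + algebraMap A _ (a₁ ^ k * ap) * x ^ (p - 2), ?_⟩
          rw [pow_succ, hv]
          simp only [u, map_mul, map_pow, pow_succ]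
          rw [show p - 1 = (p - 2) + 1 by have := hpp.two_le; omega, pow_succ]
          ring
      have key : ∀ n k, p ^ 2 ≤ k + n → ∀ w, x ^ k * w ∈ φ.range := by
        intro n
        induction n with
        | zero =>
          intro k hk w
          rw [← Nat.add_sub_cancel' (show p ^ 2 ≤ k by omega), pow_add, hxN, zero_mul, zero_mul]
          exact zero_mem _
        | succ n ih =>
          intro k hk w
          obtain ⟨g, rfl⟩ := Ideal.Quotient.mk_surjective w
          obtain ⟨b, hb⟩ := ha.pow k
          obtain ⟨v, hv⟩ := hu k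
          have e : φ (algebraMap A _ (g.coeff 0 * ↑b⁻¹) * x ^ k) =
              x ^ k * algebraMap A _ (g.coeff 0) + x ^ (k + 1) * (algebraMap A _ (g.coeff 0 * ↑b⁻¹) * v) := by
            rw [map_mul, AlgHom.commutes, map_pow, hφx, mul_pow, hv, ← hb]
            have e2 : algebraMap A (A[X] ⧸ I) (↑b⁻¹ : A) * algebraMap A _ (↑b : A) = 1 := by
              rw [← map_mul, Units.inv_mul, map_one]
            rw [map_mul]
            linear_combination (x ^ k * algebraMap A (A[X] ⧸ I) (g.coeff 0)) * e2
          have hg : Ideal.Quotient.mk I g = algebraMap A _ (g.coeff 0) + x * Ideal.Quotient.mk I g.divX := by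
            conv_lhs => rw [← Polynomial.X_mul_divX_add g, map_add, map_mul]
            exact add_comm _ _
          have e3 : x ^ k * Ideal.Quotient.mk I g = φ (algebraMap A _ (g.coeff 0 * ↑b⁻¹) * x ^ k) +
              x ^ (k + 1) * (Ideal.Quotient.mk I g.divX - algebraMap A _ (g.coeff 0 * ↑b⁻¹) * v) := by
            rw [e, hg]; ring
          rw [e3]
          exact add_mem ⟨_, rfl⟩ (ih (k + 1) (by omega) _)
      have hs : Function.Surjective φ := fun w => by
        have := key (p ^ 2) 0 (by omega) w
        rwa [pow_zero, _root_.one_mul] at this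
      haveI : Module.Finite A (A[X] ⧸ I) := (Polynomial.monic_X_pow (p ^ 2)).finite_quotient
      exact ⟨OrzechProperty.injective_of_surjective_endomorphism φ.toLinearMap hs, hs⟩

end Groth.Agent.S13099
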