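import Groth.Statements.S13100
import Mathlib.RingTheory.LaurentSeries
import Mathlib.RingTheory.AdicCompletion.Completeness
import Mathlib.RingTheory.Henselian
import Mathlib.FieldTheory.IsAlgClosed.Basic

set_option autoImplicit false
universe u
open GrpSch

namespace Groth.Agent.S13100

theorem isSquare_powerSeries {k : Type u} [Field k] [IsAlgClosed k] (h2 : (2 : k) ≠ 0)
    (g : PowerSeries k) (hg : PowerSeries.constantCoeff g ≠ 0) : IsSquare g := by
  obtain ⟨c, hc⟩ := IsAlgClosed.exists_pow_nat_eq (PowerSeries.constantCoeff g) two_pos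
  have : HenselianRing (PowerSeries k) (Ideal.span {PowerSeries.X}) :=
    IsAdicComplete.henselianRing _ _
  have hmem : ∀ φ : PowerSeries k, φ ∈ Ideal.span {(PowerSeries.X : PowerSeries k)} ↔
      PowerSeries.constantCoeff φ = 0 := fun φ => by
    rw [Ideal.mem_span_singleton, PowerSeries.X_dvd_iff]
  obtain ⟨a, ha, -⟩ := HenselianRing.is_henselian
    (I := Ideal.span {(PowerSeries.X : PowerSeries k)})
    (Polynomial.X ^ 2 - Polynomial.C g) (Polynomial.monic_X_pow_sub_C g two_ne_zero)
    (PowerSeries.C c) (by rw [hmem]; simp [hc]) (by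
      have hc0 : c ≠ 0 := fun h => hg (by rw [← hc, h]; simp)
      apply IsUnit.map
      rw [PowerSeries.isUnit_iff_constantCoeff, isUnit_iff_ne_zero]
      simp [hc0, h2, one_add_one_eq_two, map_ofNat])
  refine ⟨a, ?_⟩
  simpa [Polynomial.IsRoot, sub_eq_zero, sq, eq_comm] using ha


/-- Let k be an algebraically closed field of characteristic different from 2 and K = k((t)) the field
of Laurent series over k. Then a non-zero Laurent series f is a square in K if and only if its order
in t is even; consequently the group Kˣ/Kˣ² of non-zero elements modulo squares has exactly two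
elements, represented by 1 and t. -/
theorem result (k : Type u) [Field k] [IsAlgClosed k] (h2 : (2 : k) ≠ 0)
    (f : LaurentSeries k) (hf : f ≠ 0) : IsSquare f ↔ Even f.order := by
  constructor
  · rintro ⟨g, rfl⟩
    rcases mul_ne_zero_iff.mp hf with ⟨hg, -⟩
    rw [HahnSeries.order_mul hg hg]
    exact ⟨_, rfl⟩
  · intro ⟨m, hm⟩
    obtain ⟨s, hs⟩ := isSquare_powerSeries h2 f.powerSeriesPart (by
      simp [← PowerSeries.coeff_zero_eq_constantCoeff_apply, LaurentSeries.powerSeriesPart_coeff,
        HahnSeries.coeff_order_eq_zero, hf])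
    refine ⟨HahnSeries.single m (1 : k) * HahnSeries.ofPowerSeries ℤ k s, ?_⟩
    have := LaurentSeries.single_order_mul_powerSeriesPart f
    rw [hs, map_mul, hm, show (HahnSeries.single (m + m)) (1 : k) =
      HahnSeries.single m (1 : k) * HahnSeries.single m 1 by simp] at this
    exact this.symm.trans (mul_mul_mul_comm _ _ _ _)

end Groth.Agent.S13100
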