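import Groth.Statements.S13101
import Mathlib

set_option autoImplicit false
universe u v
open GrpSch

namespace Groth.Agent.S13101

/-- Let A be a commutative ring in which 2 is a unit, and L a Lie algebra over A, free as a module with
basis x = bs 0, y = bs 1, z = bs 2 and brackets [x,y] = y, [x,z] = y + z, [y,z] = 0. Then for every
Lie algebra automorphism φ of L over A there are b, c, h ∈ A and a unit i of A with φ(x) = x + b y +
c z, φ(y) = i y and φ(z) = h y + i z. Only the form of an automorphism is stated, not that every map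
of this form is one. (The published statement identifies the automorphism group scheme with a
semidirect product of two additive groups by the product of the multiplicative and additive group,
for algebras over a field of Laurent series of characteristic not 2, and deduces the vanishing of
its first cohomology; this row records the determination of the automorphisms, over any base ring
with 2 invertible; the cohomological consequence is not restated.) -/
theorem result (A : Type u) [CommRing A] (h2 : IsUnit (2 : A))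
    (L : Type v) [LieRing L] [LieAlgebra A L] (bs : Module.Basis (Fin 3) A L)
    (hxy : ⁅bs 0, bs 1⁆ = bs 1) (hxz : ⁅bs 0, bs 2⁆ = bs 1 + bs 2) (hyz : ⁅bs 1, bs 2⁆ = 0)
    (φ : L ≃ₗ⁅A⁆ L) :
    ∃ b c h i : A, IsUnit i ∧ φ (bs 0) = bs 0 + b • bs 1 + c • bs 2 ∧ φ (bs 1) = i • bs 1 ∧
      φ (bs 2) = h • bs 1 + i • bs 2 := by
  have hyx : ⁅bs 1, bs 0⁆ = -bs 1 := by rw [← lie_skew, hxy]
  have hzx : ⁅bs 2, bs 0⁆ = -(bs 1 + bs 2) := by rw [← lie_skew, hxz]
  have hzy : ⁅bs 2, bs 1⁆ = 0 := by rw [← lie_skew, hyz, neg_zero]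
  have hbr : ∀ u w : L, ⁅u, w⁆ =
      ((bs.repr u 0 * bs.repr w 1 - bs.repr u 1 * bs.repr w 0) +
        (bs.repr u 0 * bs.repr w 2 - bs.repr u 2 * bs.repr w 0)) • bs 1 +
      (bs.repr u 0 * bs.repr w 2 - bs.repr u 2 * bs.repr w 0) • bs 2 := by
    intro u w
    conv_lhs => rw [← bs.sum_repr u, ← bs.sum_repr w]
    simp only [Fin.sum_univ_three, add_lie, lie_add, smul_lie, lie_smul, lie_self, hxy, hxz,
      hyz, hyx, hzx, hzy]
    module
  have E1 : ⁅φ (bs 0), φ (bs 1)⁆ = φ (bs 1) := by rw [← LieEquiv.map_lie, hxy]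
  have E2 : ⁅φ (bs 0), φ (bs 2)⁆ = φ (bs 1) + φ (bs 2) := by rw [← LieEquiv.map_lie, hxz, map_add]
  rw [hbr] at E1 E2
  have m0 : bs.repr (φ (bs 1)) 0 = 0 := by
    simpa using (congrArg (fun v => bs.repr v 0) E1).symm
  have n0 : bs.repr (φ (bs 2)) 0 = 0 := by
    simpa [m0] using (congrArg (fun v => bs.repr v 0) E2).symm
  set a := bs.repr (φ (bs 0)) 0 with ha'
  set e := bs.repr (φ (bs 1)) 1 with he'
  set f := bs.repr (φ (bs 1)) 2 with hf'
  set h := bs.repr (φ (bs 2)) 1 with hh'
  set i := bs.repr (φ (bs 2)) 2 with hi'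
  have p1 : a * e + a * f = e := by
    simpa [m0, ← he', ← hf', mul_add] using congrArg (fun v => bs.repr v 1) E1
  have p2 : a * f = f := by
    simpa [m0, ← he', ← hf'] using congrArg (fun v => bs.repr v 2) E1
  have p3 : a * h + a * i = e + h := by
    simpa [m0, n0, ← he', ← hh', ← hi', mul_add] using congrArg (fun v => bs.repr v 1) E2
  have p4 : a * i = f + i := by
    simpa [m0, n0, ← hf', ← hi'] using congrArg (fun v => bs.repr v 2) E2
  have hd : IsUnit (a * (e * i - h * f)) := by
    have h3 := LinearEquiv.isUnit_det φ.toLinearEquiv bs bs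
    rw [Matrix.det_fin_three] at h3
    simp only [LinearMap.toMatrix_apply] at h3
    convert h3 using 1
    simp [LieEquiv.coe_toLinearEquiv, ← ha', ← he', ← hf', ← hh', ← hi', m0, n0]
    ring
  have hdet := isUnit_of_mul_isUnit_right hd
  have a1 : a = 1 := by
    have : (2 * (e * i - h * f)) * (a - 1) = 0 := by
      linear_combination i * p1 - h * p2 - f * p3 + e * p4
    have h' := ((h2.mul hdet).mul_right_eq_zero).mp this
    linear_combination h'
  have f0 : f = 0 := by linear_combination p1 - (e + f) * a1
  have ie : i = e := by linear_combination p3 - (h + i) * a1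
  refine ⟨bs.repr (φ (bs 0)) 1, bs.repr (φ (bs 0)) 2, h, i, ?_, ?_, ?_, ?_⟩
  · rw [f0, mul_zero, sub_zero] at hdet
    exact isUnit_of_mul_isUnit_right hdet
  · have := bs.sum_repr (φ (bs 0))
    rw [Fin.sum_univ_three, ← ha', a1, one_smul] at this
    exact this.symm
  · have := bs.sum_repr (φ (bs 1))
    rw [Fin.sum_univ_three, m0, ← he', ← hf', f0, zero_smul, zero_smul, zero_add, add_zero, ← ie] at this
    exact this.symm
  · have := bs.sum_repr (φ (bs 2))
    rw [Fin.sum_univ_three, n0, ← hh', ← hi', zero_smul, zero_add] at this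
    exact this.symm

end Groth.Agent.S13101
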