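import Groth.Statements.S13102
import Mathlib

set_option autoImplicit false
universe u v w
open GrpSch

namespace Groth.Agent.S13102

/-- Let K be a field, α ∈ K, A a commutative K-algebra and L a Lie algebra over A which is free as an
A-module with basis x = bs 0, y = bs 1, z = bs 2 and brackets [x,y] = y, [x,z] = α z, [y,z] = 0. If
α² ≠ 1 then every Lie algebra automorphism φ of L over A satisfies φ(x) = x + b y + c z, φ(y) = e y,
φ(z) = i z for some b, c ∈ A and units e, i of A. If α = 1 then every such φ satisfies φ(x) = x + b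
y + c z, φ(y) = e y + f z, φ(z) = h y + i z with e i − f h a unit of A. (The printed statement
identifies the automorphism group schemes with the corresponding semidirect products, treats also α
= −1 in characteristic not 2, and computes first cohomology over a field of Laurent series; those
clauses are not restated here.) -/
theorem result (K : Type u) [Field K] (α : K) (A : Type v) [CommRing A] [Algebra K A]
    (L : Type w) [LieRing L] [LieAlgebra A L] (bs : Module.Basis (Fin 3) A L)
    (hxy : ⁅bs 0, bs 1⁆ = bs 1) (hxz : ⁅bs 0, bs 2⁆ = algebraMap K A α • bs 2) (hyz : ⁅bs 1, bs 2⁆ = 0)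
    (φ : L ≃ₗ⁅A⁆ L) :
    (α ^ 2 ≠ 1 → ∃ b c e i : A, IsUnit e ∧ IsUnit i ∧ φ (bs 0) = bs 0 + b • bs 1 + c • bs 2 ∧
        φ (bs 1) = e • bs 1 ∧ φ (bs 2) = i • bs 2) ∧
    (α = 1 → ∃ b c e f h i : A, IsUnit (e * i - f * h) ∧ φ (bs 0) = bs 0 + b • bs 1 + c • bs 2 ∧
        φ (bs 1) = e • bs 1 + f • bs 2 ∧ φ (bs 2) = h • bs 1 + i • bs 2) := by
  set αA : A := algebraMap K A α with hαA
  have hyx : ⁅bs 1, bs 0⁆ = -bs 1 := by rw [← lie_skew, hxy]
  have hzx : ⁅bs 2, bs 0⁆ = -(αA • bs 2) := by rw [← lie_skew, hxz]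
  have hzy : ⁅bs 2, bs 1⁆ = 0 := by rw [← lie_skew, hyz, neg_zero]
  have hbr : ∀ u w : L, ⁅u, w⁆ =
      (bs.repr u 0 * bs.repr w 1 - bs.repr u 1 * bs.repr w 0) • bs 1 +
      (αA * (bs.repr u 0 * bs.repr w 2 - bs.repr u 2 * bs.repr w 0)) • bs 2 := by
    intro u w
    conv_lhs => rw [← bs.sum_repr u, ← bs.sum_repr w]
    simp only [Fin.sum_univ_three, add_lie, lie_add, smul_lie, lie_smul, lie_self, hxy, hxz,
      hyz, hyx, hzx, hzy]
    module
  have E1 : ⁅φ (bs 0), φ (bs 1)⁆ = φ (bs 1) := by rw [← LieEquiv.map_lie, hxy]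
  have E2 : ⁅φ (bs 0), φ (bs 2)⁆ = αA • φ (bs 2) := by rw [← LieEquiv.map_lie, hxz, map_smul]
  have E3 : ⁅φ (bs 1), φ (bs 2)⁆ = 0 := by rw [← LieEquiv.map_lie, hyz, map_zero]
  rw [hbr] at E1 E2 E3
  have m0 : bs.repr (φ (bs 1)) 0 = 0 := by
    simpa using (congrArg (fun v => bs.repr v 0) E1).symm
  set a := bs.repr (φ (bs 0)) 0 with ha'
  set b := bs.repr (φ (bs 0)) 1 with hb'
  set c := bs.repr (φ (bs 0)) 2 with hc'
  set e := bs.repr (φ (bs 1)) 1 with he'
  set f := bs.repr (φ (bs 1)) 2 with hf'
  set n0 := bs.repr (φ (bs 2)) 0 with hn'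
  set h := bs.repr (φ (bs 2)) 1 with hh'
  set i := bs.repr (φ (bs 2)) 2 with hi'
  have p1 : a * e = e := by
    simpa [m0, ← he', ← hf'] using congrArg (fun v => bs.repr v 1) E1
  have p2 : αA * (a * f) = f := by
    simpa [m0, ← he', ← hf'] using congrArg (fun v => bs.repr v 2) E1
  have q0 : αA * n0 = 0 := by
    simpa [← hn'] using (congrArg (fun v => bs.repr v 0) E2).symm
  have q1 : a * h - b * n0 = αA * h := by
    simpa [← hn', ← hh'] using congrArg (fun v => bs.repr v 1) E2
  have q2 : αA * (a * i - c * n0) = αA * i := by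
    simpa [← hn', ← hi'] using congrArg (fun v => bs.repr v 2) E2
  have r1 : e * n0 = 0 := by
    simpa [m0, ← he', ← hn'] using congrArg (fun v => bs.repr v 1) E3
  have hd : IsUnit (a * (e * i - h * f) - n0 * (e * c - b * f)) := by
    have h3 := LinearEquiv.isUnit_det φ.toLinearEquiv bs bs
    rw [Matrix.det_fin_three] at h3
    simp only [LinearMap.toMatrix_apply] at h3
    convert h3 using 1
    simp [LieEquiv.coe_toLinearEquiv, ← ha', ← hb', ← hc', ← he', ← hf', ← hh', ← hi', ← hn', m0]
    ring
  refine ⟨fun hα => ?_, fun hα => ?_⟩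
  · have hu : IsUnit (αA * αA - 1) := by
      have h0 : IsUnit (α ^ 2 - 1) := (sub_ne_zero.mpr hα).isUnit
      have := h0.map (algebraMap K A)
      rwa [map_sub, map_pow, map_one, pow_two, ← hαA] at this
    have key : n0 = 0 ∧ f * h = 0 := by
      by_cases hz : α = 0
      · have hA0 : αA = 0 := by simp [hαA, hz]
        have f0 : f = 0 := by linear_combination -p2 + (a * f) * hA0
        rw [f0] at hd
        have he : IsUnit e := by
          apply isUnit_of_mul_isUnit_left (y := a * i - n0 * c)
          convert hd using 1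
          ring
        exact ⟨he.mul_right_eq_zero.mp r1, by rw [f0, zero_mul]⟩
      · have hαu : IsUnit αA := (isUnit_iff_ne_zero.mpr hz).map (algebraMap K A)
        have hn0 : n0 = 0 := hαu.mul_right_eq_zero.mp q0
        refine ⟨hn0, ?_⟩
        rw [hn0] at q1
        exact hu.mul_right_eq_zero.mp (by linear_combination h * p2 - (αA * f) * q1)
    obtain ⟨hn0, hfh⟩ := key
    rw [hn0] at q1 q2 hd
    have hd' : IsUnit (a * e * i) := by
      convert hd using 1
      linear_combination a * hfh
    have hi1 : IsUnit i := isUnit_of_mul_isUnit_right hd'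
    have he1 : IsUnit e := isUnit_of_mul_isUnit_right (isUnit_of_mul_isUnit_left hd')
    have a1 : a = 1 := by
      have : e * (a - 1) = 0 := by linear_combination p1
      linear_combination he1.mul_right_eq_zero.mp this
    have f0 : f = 0 := hu.mul_right_eq_zero.mp (by linear_combination (αA + 1) * p2 - (αA + 1) * αA * f * a1)
    have h0 : h = 0 := hu.mul_right_eq_zero.mp (by linear_combination -(αA + 1) * q1 + (αA + 1) * h * a1)
    refine ⟨b, c, e, i, he1, hi1, ?_, ?_, ?_⟩
    · have := bs.sum_repr (φ (bs 0))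
      rw [Fin.sum_univ_three, ← ha', ← hb', ← hc', a1, one_smul] at this
      exact this.symm
    · have := bs.sum_repr (φ (bs 1))
      rw [Fin.sum_univ_three, m0, ← he', ← hf', f0, zero_smul, zero_smul, zero_add, add_zero] at this
      exact this.symm
    · have := bs.sum_repr (φ (bs 2))
      rw [Fin.sum_univ_three, ← hn', ← hh', ← hi', hn0, h0, zero_smul, zero_smul, zero_add, zero_add] at this
      exact this.symm
  · have hA1 : αA = 1 := by simp [hαA, hα]
    rw [hA1, one_mul] at q0 p2 q2
    rw [q0] at hd q1 q2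
    rw [hA1] at q1
    have hd' : IsUnit (a * (e * i - f * h)) := by
      convert hd using 1
      ring
    have hu := isUnit_of_mul_isUnit_right hd'
    have a1 : a = 1 := by
      have : (e * i - f * h) * (a - 1) = 0 := by linear_combination i * p1 - h * p2
      linear_combination hu.mul_right_eq_zero.mp this
    refine ⟨b, c, e, f, h, i, hu, ?_, ?_, ?_⟩
    · have := bs.sum_repr (φ (bs 0))
      rw [Fin.sum_univ_three, ← ha', ← hb', ← hc', a1, one_smul] at this
      exact this.symm
    · have := bs.sum_repr (φ (bs 1))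
      rw [Fin.sum_univ_three, m0, ← he', ← hf', zero_smul, zero_add] at this
      exact this.symm
    · have := bs.sum_repr (φ (bs 2))
      rw [Fin.sum_univ_three, ← hn', ← hh', ← hi', q0, zero_smul, zero_add] at this
      exact this.symm

end Groth.Agent.S13102
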