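import Groth.Statements.S13104
import Mathlib.AlgebraicGeometry.Morphisms.Flat
import Mathlib.RingTheory.RingHom.Injective
import Mathlib.RingTheory.DualNumber
import Mathlib.Tactic.LinearCombination

set_option autoImplicit false
universe u
open GrpSch

namespace Groth.Agent.S13104

open CategoryTheory AlgebraicGeometry in
theorem epi_SpecMap {R S : Type u} [CommRing R] [CommRing S] (φ : R →+* S)
    (hsurj : Function.Surjective (PrimeSpectrum.comap φ))
    (hloc : ∀ (q : Ideal S) [q.IsPrime] (r : R) (t : S), t ∉ q → t * φ r = 0 →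
      ∃ u : R, u ∉ q.comap φ ∧ u * r = 0) :
    Epi (Spec.map (CommRingCat.ofHom φ)) := by
  apply CategoryTheory.Functor.epi_of_epi_map (Scheme.forgetToLocallyRingedSpace)
  apply CategoryTheory.Functor.epi_of_epi_map (LocallyRingedSpace.forgetToSheafedSpace)
  apply SheafedSpace.epi_of_base_surjective_of_stalk_mono _ hsurj
  intro x
  apply ConcreteCategory.mono_of_injective
  have : (RingHom.toMorphismProperty (fun f ↦ Function.Injective f)).RespectsIso := by
    rw [← RingHom.toMorphismProperty_respectsIso_iff]
    exact RingHom.injective_respectsIso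
  apply (MorphismProperty.arrow_mk_iso_iff
    (RingHom.toMorphismProperty (fun f ↦ Function.Injective f))
    (Scheme.arrowStalkMapSpecIso (CommRingCat.ofHom φ) x)).mpr
  have hxp : x.asIdeal.IsPrime := x.2
  show Function.Injective (Localization.localRingHom _ x.asIdeal φ rfl)
  rw [injective_iff_map_eq_zero]
  intro z hz
  obtain ⟨r, s, rfl⟩ := IsLocalization.exists_mk'_eq (x.asIdeal.comap φ).primeCompl z
  rw [Localization.localRingHom_mk', IsLocalization.mk'_eq_zero_iff] at hz
  obtain ⟨t, ht⟩ := hz
  obtain ⟨u, hu, hur⟩ := hloc x.asIdeal r t.1 t.2 ht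
  rw [IsLocalization.mk'_eq_zero_iff]
  exact ⟨⟨u, hu⟩, hur⟩

theorem psi_apply {B : Type u} [CommRing B]
    (ψ : DualNumber B →+* DualNumber (DualNumber B))
    (hψB : ∀ b : B, ψ (algebraMap B (DualNumber B) b) = algebraMap B (DualNumber (DualNumber B)) b)
    (hψ : ψ DualNumber.eps = algebraMap (DualNumber B) (DualNumber (DualNumber B)) DualNumber.eps * DualNumber.eps)
    (z : DualNumber B) :
    ψ z = TrivSqZeroExt.inl (TrivSqZeroExt.inl z.fst) +
      TrivSqZeroExt.inr (TrivSqZeroExt.inr z.snd) := by
  have hz : z = algebraMap B (DualNumber B) z.fst + algebraMap B (DualNumber B) z.snd * DualNumber.eps := by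
    ext <;> simp [TrivSqZeroExt.algebraMap_eq_inl]
  conv_lhs => rw [hz, map_add, map_mul, hψB, hψB, hψ]
  ext <;> simp [TrivSqZeroExt.algebraMap_eq_inl, IsScalarTower.algebraMap_apply B (DualNumber B) (DualNumber (DualNumber B))]


open CategoryTheory AlgebraicGeometry in
/-- Let B be a commutative ring, B[ε] the ring of dual numbers (ε² = 0) and B[α, β]/(α², β²) the double
dual numbers, realised as dual numbers over the dual numbers with α the inner and β the outer
generator, and let ψ : B[ε] → B[α, β]/(α², β²) be the B-algebra homomorphism with ψ(ε) = αβ. Then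
for every scheme G the map u ↦ Spec(ψ) ≫ u from morphisms Spec B[ε] → G to morphisms Spec
B[α,β]/(α²,β²) → G is injective. (The printed statement is its consequence for a group scheme G: the
map Lie(G)(B) → G(B[α,β]/(α²,β²)), x ↦ exp(αβ x), is injective; the injectivity on all B[ε]-points
stated here is what the printed argument establishes.) -/
theorem result (B : Type u) [CommRing B]
    (ψ : DualNumber B →+* DualNumber (DualNumber B))
    (hψB : ∀ b : B, ψ (algebraMap B (DualNumber B) b) = algebraMap B (DualNumber (DualNumber B)) b)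
    (hψ : ψ DualNumber.eps = algebraMap (DualNumber B) (DualNumber (DualNumber B)) DualNumber.eps * DualNumber.eps)
    (G : Scheme.{u}) :
    Function.Injective (fun u : Spec (CommRingCat.of (DualNumber B)) ⟶ G =>
      Spec.map (CommRingCat.ofHom (R := DualNumber B) (S := DualNumber (DualNumber B)) ψ) ≫ u) := by
  have : Epi (Spec.map (CommRingCat.ofHom (R := DualNumber B) (S := DualNumber (DualNumber B)) ψ)) := by
    apply epi_SpecMap
    · intro p
      have hp : ∀ z : DualNumber B, TrivSqZeroExt.inr z.snd ∈ p.asIdeal := fun z => by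
        have : (TrivSqZeroExt.inr z.snd : DualNumber B) ^ 2 = 0 := by
          rw [sq, TrivSqZeroExt.inr_mul_inr]
        exact p.2.mem_of_pow_mem 2 (this ▸ p.asIdeal.zero_mem)
      refine ⟨⟨p.asIdeal.comap ((TrivSqZeroExt.inlHom B B).comp
        (((TrivSqZeroExt.fstHom B B B).toRingHom).comp
          (TrivSqZeroExt.fstHom (DualNumber B) (DualNumber B) (DualNumber B)).toRingHom)),
        inferInstance⟩, ?_⟩
      ext z
      simp only [PrimeSpectrum.comap_asIdeal, Ideal.mem_comap]
      have hz : (TrivSqZeroExt.inl z.fst : DualNumber B) + TrivSqZeroExt.inr z.snd = z :=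
        TrivSqZeroExt.inl_fst_add_inr_snd_eq z
      conv_rhs => rw [← hz, Submodule.add_mem_iff_left _ (hp z)]
      simp [psi_apply ψ hψB hψ]
    · intro q hq r t ht hr
      rw [psi_apply ψ hψB hψ] at hr
      have e1 := congrArg (fun w => TrivSqZeroExt.fst (TrivSqZeroExt.fst w)) hr
      have e2 := congrArg (fun w => TrivSqZeroExt.snd (TrivSqZeroExt.snd w)) hr
      simp at e1 e2
      have hni : (TrivSqZeroExt.inl (TrivSqZeroExt.inl t.fst.fst) : DualNumber (DualNumber B)) ∉ q := by
        intro h
        apply ht
        have hnil : IsNilpotent (t - TrivSqZeroExt.inl (TrivSqZeroExt.inl t.fst.fst)) := by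
          rw [TrivSqZeroExt.isNilpotent_iff_isNilpotent_fst, TrivSqZeroExt.isNilpotent_iff_isNilpotent_fst]
          simp
        obtain ⟨m, hm⟩ := hnil
        have := hq.mem_of_pow_mem m (hm ▸ q.zero_mem :
          (t - TrivSqZeroExt.inl (TrivSqZeroExt.inl t.fst.fst)) ^ m ∈ q)
        simpa using q.add_mem this h
      refine ⟨TrivSqZeroExt.inl t.fst.fst * TrivSqZeroExt.inl t.fst.fst, ?_, ?_⟩
      · rw [Ideal.mem_comap, map_mul]
        intro h
        rcases hq.mem_or_mem h with h | h <;> exact hni (by simpa [psi_apply ψ hψB hψ] using h)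
      · ext
        · simp [mul_assoc, e1]
        · simp
          linear_combination (t.fst.fst) * e2 - (t.snd.snd) * e1
  exact fun u₁ u₂ h => (cancel_epi _).mp h

end Groth.Agent.S13104
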