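import Groth.Statements.S13105
import Groth.Agent.H26Lie3.Local

set_option autoImplicit false
universe u
open Lie3Mod

namespace Groth.Agent.S13105

open MvPolynomial in
/-- Let k be a field, t ∈ k, D = k[a,b,c,d,e,f,g,h,i] and J = (Q1, Q2, Q3, det M) with Q1 = ah + di − fg
− bg, Q2 = ie + bd − fh − ae, Q3 = hc + dc − af − bi, det M = −ch² + gbf + ei² − gec + hbi − ihf.
The maximal ideal (a, b − 1, c, d, e, f − t, g, h, i) of D contains J (it is the point given by the
Lie algebra with [x,y] = y, [x,z] = t z, [y,z] = 0), and the localization of D/J at the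
corresponding prime is a regular local ring of Krull dimension 6: the scheme Spec(D/J) has a smooth
k-rational point. -/
theorem result (k : Type u) [Field k] (t : k)
    (P : Ideal (Lie3Mod.D k ⧸ Lie3Mod.idJ k)) [P.IsPrime]
    (hP : P = Ideal.map (Ideal.Quotient.mk (Lie3Mod.idJ k))
      (Ideal.span ({X 0, X 1 - 1, X 2, X 3, X 4, X 5 - C t, X 6, X 7, X 8} : Set (Lie3Mod.D k)))) :
    IsRegularLocalRing (Localization.AtPrime P) ∧ ringKrullDim (Localization.AtPrime P) = 6 := by
  have hspan : (Ideal.span ({X 0, X 1 - 1, X 2, X 3, X 4, X 5 - C t, X 6, X 7, X 8} : Set (Lie3Mod.D k)))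
      = Groth.Agent.H26Lie3.ptIdeal k (Groth.Agent.H26Lie3.linePt k t) := by
    rw [Groth.Agent.H26Lie3.ptIdeal_eq_span]
    congr 1
    ext x
    simp [Groth.Agent.H26Lie3.linePt, Fin.exists_fin_succ, eq_comm]
  have hJ : Lie3Mod.idJ k ≤ Groth.Agent.H26Lie3.ptIdeal k (Groth.Agent.H26Lie3.linePt k t) := by
    rw [Lie3Mod.idJ, Ideal.span_le]
    rintro y hy
    simp only [Set.mem_insert_iff, Set.mem_singleton_iff] at hy
    rcases hy with rfl | rfl | rfl | rfl <;>
      simp [Groth.Agent.H26Lie3.ptIdeal, Groth.Agent.H26Lie3.linePt, Lie3Mod.Q1, Lie3Mod.Q2, Lie3Mod.Q3, Lie3Mod.detM]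
  have hc : P.comap (Ideal.Quotient.mk (Lie3Mod.idJ k)) = Groth.Agent.H26Lie3.ptIdeal k (Groth.Agent.H26Lie3.linePt k t) := by
    rw [hP, hspan, Ideal.comap_map_of_surjective _ Ideal.Quotient.mk_surjective, ← RingHom.ker_eq_comap_bot,
      Ideal.mk_ker, sup_eq_left]
    exact hJ
  by_cases h : 1 + t = 0
  · exact Groth.Agent.H26Lie3.regular_line_W k t (fun h0 => by simp [h0] at h) P hc
  · exact Groth.Agent.H26Lie3.regular_line_V k t h P hc

end Groth.Agent.S13105
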