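import Groth.Statements.S13107
import Mathlib

set_option autoImplicit false
universe u v w
open GrpSch

namespace Groth.Agent.S13107

theorem aux {K : Type u} [Field K] (T : K)
    {F : Type v} [LieRing F] [LieAlgebra K F] (bF : Module.Basis (Fin 3) K F)
    (hF01 : ⁅bF 0, bF 1⁆ = bF 2) (hF02 : ⁅bF 0, bF 2⁆ = T • bF 1)
    (hF12 : ⁅bF 1, bF 2⁆ = 0)
    {L : Type w} [LieRing L] [LieAlgebra K L] (bL : Module.Basis (Fin 3) K L)
    (hL01 : ⁅bL 0, bL 1⁆ = bL 1) (ψ : L ≃ₗ⁅K⁆ F) : ∃ a : K, a ≠ 0 ∧ T * (a * a) = 1 := by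
  have h10 : ⁅bF 1, bF 0⁆ = -bF 2 := by rw [← lie_skew, hF01]
  have h20 : ⁅bF 2, bF 0⁆ = -(T • bF 1) := by rw [← lie_skew, hF02]
  have h21 : ⁅bF 2, bF 1⁆ = 0 := by rw [← lie_skew, hF12, neg_zero]
  have hbr : ∀ u w : F, ⁅u, w⁆ =
      (T * (bF.repr u 0 * bF.repr w 2 - bF.repr u 2 * bF.repr w 0)) • bF 1 +
      (bF.repr u 0 * bF.repr w 1 - bF.repr u 1 * bF.repr w 0) • bF 2 := by
    intro u w
    conv_lhs => rw [← bF.sum_repr u, ← bF.sum_repr w]
    simp only [Fin.sum_univ_three, add_lie, lie_add, smul_lie, lie_smul, lie_self, hF01, hF02,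
      hF12, h10, h20, h21]
    module
  have E1 : ⁅ψ (bL 0), ψ (bL 1)⁆ = ψ (bL 1) := by rw [← LieEquiv.map_lie, hL01]
  rw [hbr] at E1
  have m0 : bF.repr (ψ (bL 1)) 0 = 0 := by
    simpa using (congrArg (fun v => bF.repr v 0) E1).symm
  set a := bF.repr (ψ (bL 0)) 0 with ha
  set p := bF.repr (ψ (bL 1)) 1 with hp
  set q := bF.repr (ψ (bL 1)) 2 with hq
  have e1 : T * (a * q) = p := by
    simpa [m0, ← hp, ← hq] using congrArg (fun v => bF.repr v 1) E1
  have e2 : a * p = q := by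
    simpa [m0, ← hp, ← hq] using congrArg (fun v => bF.repr v 2) E1
  have hq0 : q ≠ 0 := by
    intro h0
    have hp0 : p = 0 := by rw [← e1, h0, mul_zero, mul_zero]
    have hv : ψ (bL 1) = 0 := by
      rw [← bF.sum_repr (ψ (bL 1)), Fin.sum_univ_three, m0, ← hp, ← hq, hp0, h0]
      simp
    exact bL.ne_zero 1 ((map_eq_zero_iff ψ ψ.injective).mp hv)
  have hsq : T * (a * a) = 1 := mul_right_cancel₀ hq0 (by linear_combination a * e1 + e2)
  have ha0 : a ≠ 0 := by
    intro h0
    rw [h0] at hsq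
    simp at hsq
  exact ⟨a, ha0, hsq⟩


/-- Let k be a field, K = k((t)) the field of Laurent series over k, F a Lie algebra over K with a basis
x' = bF 0, y' = bF 1, z' = bF 2 and brackets [x',y'] = z', [x',z'] = t y', [y',z'] = 0, and L a Lie
algebra over K with a basis x = bL 0, y = bL 1, z = bL 2 and brackets [x,y] = y, [x,z] = −z, [y,z] =
0. Then there is no K-linear isomorphism of Lie algebras between L and F: F is a non-trivial form of
L over K. (The published result is the classification of three-dimensional Lie algebras over k((t))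
for k algebraically closed of characteristic not 2, with F its only non-split entry; this row states
the non-isomorphism of F and L over k((t)) for every field k.) -/
theorem result (k : Type u) [Field k]
    (F : Type v) [LieRing F] [LieAlgebra (LaurentSeries k) F] (bF : Module.Basis (Fin 3) (LaurentSeries k) F)
    (hF01 : ⁅bF 0, bF 1⁆ = bF 2) (hF02 : ⁅bF 0, bF 2⁆ = (HahnSeries.single 1 (1 : k) : LaurentSeries k) • bF 1)
    (hF12 : ⁅bF 1, bF 2⁆ = 0)
    (L : Type w) [LieRing L] [LieAlgebra (LaurentSeries k) L] (bL : Module.Basis (Fin 3) (LaurentSeries k) L)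
    (hL01 : ⁅bL 0, bL 1⁆ = bL 1) (hL02 : ⁅bL 0, bL 2⁆ = -bL 2) (hL12 : ⁅bL 1, bL 2⁆ = 0) :
    IsEmpty (L ≃ₗ⁅LaurentSeries k⁆ F) := by
  constructor
  intro ψ
  obtain ⟨a, ha0, hsq⟩ := aux _ bF hF01 hF02 hF12 bL hL01 ψ
  have := congrArg HahnSeries.order hsq
  rw [HahnSeries.order_mul (by simp) (mul_ne_zero ha0 ha0), HahnSeries.order_mul ha0 ha0,
    HahnSeries.order_single one_ne_zero, HahnSeries.order_one] at this
  omega

end Groth.Agent.S13107
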