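import Groth.Statements.S13108
import Mathlib

set_option autoImplicit false
universe u v w
open GrpSch

namespace Groth.Agent.S13108

/-- Let k be a field and t, t' ∈ k both non-zero; let L be a Lie algebra over k with a basis x = b 0, y
= b 1, z = b 2 and brackets [x,y] = y, [x,z] = t z, [y,z] = 0, and L' a Lie algebra over k with a
basis x' = b' 0, y' = b' 1, z' = b' 2 and brackets [x',y'] = y', [x',z'] = t' z', [y',z'] = 0. Then
L and L' are isomorphic Lie algebras over k if and only if t' = t or t' = t⁻¹. -/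
theorem result (k : Type u) [Field k] (t t' : k) (ht : t ≠ 0) (ht' : t' ≠ 0)
    (L : Type v) [LieRing L] [LieAlgebra k L] (b : Module.Basis (Fin 3) k L)
    (h01 : ⁅b 0, b 1⁆ = b 1) (h02 : ⁅b 0, b 2⁆ = t • b 2) (h12 : ⁅b 1, b 2⁆ = 0)
    (L' : Type w) [LieRing L'] [LieAlgebra k L'] (b' : Module.Basis (Fin 3) k L')
    (h01' : ⁅b' 0, b' 1⁆ = b' 1) (h02' : ⁅b' 0, b' 2⁆ = t' • b' 2) (h12' : ⁅b' 1, b' 2⁆ = 0) :
    Nonempty (L ≃ₗ⁅k⁆ L') ↔ (t' = t ∨ t' = t⁻¹) := by
  have mk : ∀ (f : L ≃ₗ[k] L'), (∀ i j, f ⁅b i, b j⁆ = ⁅f (b i), f (b j)⁆) → Nonempty (L ≃ₗ⁅k⁆ L') := by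
    intro f hf
    have hB : ∀ x y, f ⁅x, y⁆ = ⁅f x, f y⁆ := by
      have : (LinearMap.compr₂ (LinearMap.mk₂ k (fun x y : L => ⁅x, y⁆) add_lie smul_lie lie_add
          (fun c m n => lie_smul c m n)) f.toLinearMap) =
        (LinearMap.compl₁₂ (LinearMap.mk₂ k (fun x y : L' => ⁅x, y⁆) add_lie smul_lie lie_add
          (fun c m n => lie_smul c m n)) f.toLinearMap f.toLinearMap) := by
        refine b.ext fun i => b.ext fun j => ?_
        simpa using hf i j
      intro x y
      simpa using LinearMap.congr_fun₂ this x y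
    exact ⟨{ f with map_lie' := fun {x y} => hB x y }⟩
  have h10 : ⁅b 1, b 0⁆ = -b 1 := by rw [← lie_skew, h01]
  have h20 : ⁅b 2, b 0⁆ = -(t • b 2) := by rw [← lie_skew, h02]
  have h21 : ⁅b 2, b 1⁆ = 0 := by rw [← lie_skew, h12, neg_zero]
  have h10' : ⁅b' 1, b' 0⁆ = -b' 1 := by rw [← lie_skew, h01']
  have h20' : ⁅b' 2, b' 0⁆ = -(t' • b' 2) := by rw [← lie_skew, h02']
  have h21' : ⁅b' 2, b' 1⁆ = 0 := by rw [← lie_skew, h12', neg_zero]
  constructor
  · rintro ⟨e⟩
    have hbr : ∀ u w : L', ⁅u, w⁆ =
        (b'.repr u 0 * b'.repr w 1 - b'.repr u 1 * b'.repr w 0) • b' 1 +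
        (t' * (b'.repr u 0 * b'.repr w 2 - b'.repr u 2 * b'.repr w 0)) • b' 2 := by
      intro u w
      conv_lhs => rw [← b'.sum_repr u, ← b'.sum_repr w]
      simp only [Fin.sum_univ_three, add_lie, lie_add, smul_lie, lie_smul, lie_self, h01', h02',
        h12', h10', h20', h21']
      module
    have e1 : ⁅e (b 0), e (b 1)⁆ = e (b 1) := by rw [← LieEquiv.map_lie, h01]
    have e2 : ⁅e (b 0), e (b 2)⁆ = t • e (b 2) := by rw [← LieEquiv.map_lie, h02, map_smul]
    rw [hbr] at e1 e2
    have c10 : b'.repr (e (b 1)) 0 = 0 := by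
      have := congrArg (fun v => b'.repr v 0) e1
      simpa using this.symm
    have c20 : b'.repr (e (b 2)) 0 = 0 := by
      have := congrArg (fun v => b'.repr v 0) e2
      simpa [ht] using this.symm
    have a1 : b'.repr (e (b 0)) 0 * b'.repr (e (b 1)) 1 = b'.repr (e (b 1)) 1 := by
      have := congrArg (fun v => b'.repr v 1) e1
      simpa [c10] using this
    have a2 : t' * (b'.repr (e (b 0)) 0 * b'.repr (e (b 1)) 2) = b'.repr (e (b 1)) 2 := by
      have := congrArg (fun v => b'.repr v 2) e1
      simpa [c10] using this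
    have a3 : b'.repr (e (b 0)) 0 * b'.repr (e (b 2)) 1 = t * b'.repr (e (b 2)) 1 := by
      have := congrArg (fun v => b'.repr v 1) e2
      simpa [c20] using this
    have a4 : t' * (b'.repr (e (b 0)) 0 * b'.repr (e (b 2)) 2) = t * b'.repr (e (b 2)) 2 := by
      have := congrArg (fun v => b'.repr v 2) e2
      simpa [c20] using this
    have d1 : e (b 1) = b'.repr (e (b 1)) 1 • b' 1 + b'.repr (e (b 1)) 2 • b' 2 := by
      have := b'.sum_repr (e (b 1))
      rw [Fin.sum_univ_three, c10, zero_smul, zero_add] at this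
      exact this.symm
    have d2 : e (b 2) = b'.repr (e (b 2)) 1 • b' 1 + b'.repr (e (b 2)) 2 • b' 2 := by
      have := b'.sum_repr (e (b 2))
      rw [Fin.sum_univ_three, c20, zero_smul, zero_add] at this
      exact this.symm
    generalize b'.repr (e (b 0)) 0 = a at a1 a2 a3 a4
    generalize b'.repr (e (b 1)) 1 = p at a1 d1
    generalize b'.repr (e (b 1)) 2 = q at a2 d1
    generalize b'.repr (e (b 2)) 1 = r at a3 d2
    generalize b'.repr (e (b 2)) 2 = s at a4 d2
    have hne : p * s - q * r ≠ 0 := by
      intro h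
      have hs : e (s • b 1 - q • b 2) = 0 := by
        rw [map_sub, map_smul, map_smul, d1, d2]
        match_scalars <;> first | linear_combination h | linear_combination -h | linear_combination (0:k) * h
      have hp : e (r • b 1 - p • b 2) = 0 := by
        rw [map_sub, map_smul, map_smul, d1, d2]
        match_scalars <;> first | linear_combination h | linear_combination -h | linear_combination (0:k) * h
      rw [map_eq_zero_iff e e.injective] at hs hp
      have r1 : r = 0 := by simpa using congrArg (fun v => b.repr v 1) hp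
      have p1 : p = 0 := by simpa using congrArg (fun v => b.repr v 2) hp
      have q1 : q = 0 := by simpa using congrArg (fun v => b.repr v 2) hs
      apply b.ne_zero 1
      have h0 : e (b 1) = 0 := by rw [d1, p1, q1]; simp
      exact (map_eq_zero_iff e e.injective).mp h0
    by_cases hp : p = 0
    · right
      have hq : q ≠ 0 := fun hq => hne (by simp [hp, hq])
      have hr : r ≠ 0 := fun hr => hne (by simp [hp, hr])
      have : a = t := mul_right_cancel₀ hr a3
      subst this
      field_simp
      exact mul_right_cancel₀ hq (by linear_combination a2)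
    · left
      have ha : a = 1 := mul_right_cancel₀ hp (by rw [a1, one_mul])
      subst ha
      by_cases hs : s = 0
      · have hq : q ≠ 0 := fun hq => hne (by simp [hq, hs])
        have hr : r ≠ 0 := fun hr => hne (by simp [hr, hs])
        have h1 : (1:k) = t := mul_right_cancel₀ hr a3
        rw [← h1]
        exact mul_right_cancel₀ hq (by linear_combination a2)
      · exact mul_right_cancel₀ hs (by linear_combination a4)
  · rintro (rfl | rfl)
    · refine mk (b.equiv b' (Equiv.refl _)) fun i j => ?_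
      fin_cases i <;> fin_cases j <;>
        simp [h01, h02, h12, h10, h20, h21, h01', h02', h12', h10', h20', h21', Module.Basis.equiv_apply]
    · let b'' := (b'.reindex (Equiv.swap (1 : Fin 3) 2)).unitsSMul
        (fun i => if i = 0 then Units.mk0 t ht else 1)
      have e0 : b'' 0 = t • b' 0 := by
        simp [b'', Module.Basis.unitsSMul_apply, Equiv.swap_apply_of_ne_of_ne]
      have e1 : b'' 1 = b' 2 := by simp [b'', Module.Basis.unitsSMul_apply]
      have e2 : b'' 2 = b' 1 := by simp [b'', Module.Basis.unitsSMul_apply]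
      refine mk (b.equiv b'' (Equiv.refl _)) fun i j => ?_
      fin_cases i <;> fin_cases j <;>
        simp [h01, h02, h12, h10, h20, h21, h01', h02', h12', h10', h20', h21', Module.Basis.equiv_apply,
          e0, e1, e2, smul_smul, ht]

end Groth.Agent.S13108
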