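import Groth.Statements.S13111
import Groth.Agent.H18Subint.DVRFun
import Groth.Agent.H18Subint.Roots

set_option autoImplicit false
universe u
open HTop

namespace Groth.Agent.S13111

open AlgebraicGeometry W4c1hilbchowinc in
/-- Let A be a reduced Noetherian ring whose integral closure in its total ring of fractions is a finite
A-module. Suppose that any pointwise function on Spec A that is algebraic along every discrete
valuation ring (for every discrete valuation ring R and every morphism Spec R → Spec A there is an
element of R whose values at the two points of Spec R are the images of the chosen values) is the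
family of values of exactly one global section. Then A is seminormal: whenever x^3 = y^2 there is
exactly one a with x = a^2 and y = a^3. Test rings range over the universe of A. -/
theorem result
    (A : Type u) [CommRing A] [IsReduced A] [IsNoetherianRing A]
    (hfin : Module.Finite A (integralClosure A (FractionRing A)))
    (h : ∀ f : PtFun (Spec (CommRingCat.of A)), f.VariesAlongDVR →
      ∃! a : Γ(Spec (CommRingCat.of A), ⊤), PtFun.ofSection (Spec (CommRingCat.of A)) a = f) :
    HTop.IsSeminormalRing A := by
  classical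
  intro x y hxy
  let X := Spec (CommRingCat.of A)
  let f : PtFun X := fun P => if H18Subint.ev A P x = 0 then 0 else H18Subint.ev A P y / H18Subint.ev A P x
  have hfd : ∀ P, f P ^ 2 = H18Subint.ev A P x ∧ f P ^ 3 = H18Subint.ev A P y := fun P => by
    have h : H18Subint.ev A P x ^ 3 = H18Subint.ev A P y ^ 2 := by rw [← map_pow, ← map_pow, hxy]
    by_cases h0 : H18Subint.ev A P x = 0
    · rw [show f P = 0 from if_pos h0, h0]
      refine ⟨zero_pow two_ne_zero, (zero_pow three_ne_zero).trans ?_⟩
      rw [h0, zero_pow three_ne_zero] at h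
      exact (pow_eq_zero_iff two_ne_zero).1 h.symm |>.symm
    · rw [show f P = H18Subint.ev A P y / H18Subint.ev A P x from if_neg h0]
      constructor
      · rw [div_pow, ← h]; field_simp
      · have h3 : H18Subint.ev A P x ^ 3 ≠ 0 := pow_ne_zero 3 h0
        rw [div_pow, div_eq_iff h3, h]; ring
  have hf : f.VariesAlongDVR := by
    intro R _ _ _ g
    let φ : A →+* R := (Spec.preimage g).hom
    have hh : φ x ^ 3 = φ y ^ 2 := by rw [← map_pow, ← map_pow, hxy]
    obtain ⟨a, ha2, ha3⟩ : ∃ a : R, a ^ 2 = φ x ∧ a ^ 3 = φ y := by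
      rcases eq_or_ne (φ x) 0 with h0 | h0
      · refine ⟨0, by rw [h0, zero_pow two_ne_zero], ?_⟩
        rw [h0, zero_pow three_ne_zero] at hh
        rw [zero_pow three_ne_zero, (pow_eq_zero_iff two_ne_zero).1 hh.symm]
      · let K := FractionRing R
        have hx0 : algebraMap R K (φ x) ≠ 0 := (map_ne_zero_iff _ (IsFractionRing.injective R K)).2 h0
        let q := algebraMap R K (φ y) / algebraMap R K (φ x)
        have hK : algebraMap R K (φ x) ^ 3 = algebraMap R K (φ y) ^ 2 := by
          rw [← map_pow (algebraMap R K), ← map_pow (algebraMap R K), hh]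
        have hq2 : q ^ 2 = algebraMap R K (φ x) := by rw [div_pow, ← hK, div_eq_iff (pow_ne_zero 2 hx0)]; ring
        have hq3 : q ^ 3 = algebraMap R K (φ y) := by
          rw [div_pow, div_eq_iff (pow_ne_zero 3 hx0), hK]; ring
        obtain ⟨a, ha⟩ := IsIntegrallyClosed.isIntegral_iff.1
          (IsIntegral.of_pow (n := 2) two_pos (hq2 ▸ isIntegral_algebraMap) : IsIntegral R q)
        exact ⟨a, IsFractionRing.injective R K (by rw [map_pow, ha, hq2]),
          IsFractionRing.injective R K (by rw [map_pow, ha, hq3])⟩
    refine ⟨(Scheme.ΓSpecIso (CommRingCat.of R)).inv a, funext fun P => ?_⟩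
    show H18Subint.ev R P a = g.residueFieldMap P (f (g P))
    refine H18Subint.eq_of_sq_cube_field ?_ ?_
    · rw [← map_pow, ← map_pow (g.residueFieldMap P).hom, (hfd _).1, H18Subint.pullback_ev, ha2]
    · rw [← map_pow, ← map_pow (g.residueFieldMap P).hom, (hfd _).2, H18Subint.pullback_ev, ha3]
  obtain ⟨s, hs, -⟩ := h f hf
  let a : A := (Scheme.ΓSpecIso (CommRingCat.of A)).hom s
  have hev : ∀ P, H18Subint.ev A P a = f P := fun P => by
    rw [← congrFun hs P]
    show (Spec (CommRingCat.of A)).Γevaluation P
      ((Scheme.ΓSpecIso (CommRingCat.of A)).inv ((Scheme.ΓSpecIso (CommRingCat.of A)).hom s)) = _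
    rw [CategoryTheory.Iso.hom_inv_id_apply]
    rfl
  have inj : ∀ u v : A, (∀ P, H18Subint.ev A P u = H18Subint.ev A P v) → u = v := fun u v huv => sub_eq_zero.1 <| by
    have : u - v ∈ nilradical A := by
      rw [nilradical_eq_sInf, Ideal.mem_sInf]
      intro q hq
      exact (H18Subint.ev_eq_zero_iff (⟨q, hq⟩ : PrimeSpectrum A) _).1 (by rw [map_sub]; exact sub_eq_zero.2 (huv _))
    rwa [nilradical_eq_zero] at this
  have hx : x = a ^ 2 := inj _ _ fun P => by rw [map_pow, hev, (hfd P).1]
  have hy : y = a ^ 3 := inj _ _ fun P => by rw [map_pow, hev, (hfd P).2]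
  exact ⟨a, ⟨hx, hy⟩, fun b hb => H18Subint.eq_of_sq_cube (hb.1.symm.trans hx) (hb.2.symm.trans hy)⟩

end Groth.Agent.S13111
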