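import Groth.Statements.S13112
import Groth.Agent.H18Subint.SN
import Mathlib.AlgebraicGeometry.ZariskisMainTheorem

set_option autoImplicit false
universe u
open HTop

namespace Groth.Agent.S13112

open CategoryTheory CategoryTheory.Limits AlgebraicGeometry
set_option backward.isDefEq.respectTransparency false

open CategoryTheory AlgebraicGeometry in
/-- Let k be a field, T a seminormal scheme of finite type over k, and f : X → Y a proper universally
injective k-morphism of schemes locally of finite type over k. If a morphism of schemes g : T → Y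
lifts through f at every point of T, i.e. for every t the composite Spec κ(t) → T → Y factors
through f, then g itself factors through f. -/
theorem result
    {k : Type u} [Field k] {T X Y : Scheme.{u}}
    (sT : T ⟶ Spec (CommRingCat.of k)) (sX : X ⟶ Spec (CommRingCat.of k)) (sY : Y ⟶ Spec (CommRingCat.of k))
    [LocallyOfFiniteType sT] [QuasiCompact sT] [LocallyOfFiniteType sX] [LocallyOfFiniteType sY]
    (hT : HTop.IsSeminormal T)
    (f : X ⟶ Y) (hf : f ≫ sY = sX) [IsProper f] [UniversallyInjective f]
    (g : T ⟶ Y)
    (hlift : ∀ t : T, ∃ l : Spec (T.residueField t) ⟶ X, l ≫ f = T.fromSpecResidueField t ≫ g) :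
    ∃ h : T ⟶ X, h ≫ f = g := by
  let p : pullback g f ⟶ T := pullback.fst g f
  haveI : UniversallyInjective p := MorphismProperty.of_isPullback
    (P := @UniversallyInjective) (IsPullback.of_hasPullback g f).flip ‹_›
  haveI : IsProper p := MorphismProperty.pullback_fst (P := @IsProper) g f ‹_›
  have hl : ∀ t : T, ∃ m : Spec (T.residueField t) ⟶ pullback g f, m ≫ p = T.fromSpecResidueField t := fun t => by
    obtain ⟨l, hl⟩ := hlift t
    exact ⟨pullback.lift (T.fromSpecResidueField t) l hl.symm, pullback.lift_fst _ _ _⟩
  haveI : Surjective p := ⟨fun t => by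
    obtain ⟨m, hm⟩ := hl t
    refine ⟨m (IsLocalRing.closedPoint _), ?_⟩
    rw [← Scheme.Hom.comp_apply, hm]
    exact Scheme.fromSpecResidueField_apply t _⟩
  haveI : LocallyQuasiFinite p := LocallyQuasiFinite.of_injective p.injective
  haveI : IsFinite p := IsFinite.of_isProper_of_locallyQuasiFinite p
  obtain ⟨h, hh⟩ := H18Subint.exists_section_of_subintegral (𝟙 T) hT p
    ((H7Flat.isUnivHomeo_iff p).mpr ⟨inferInstance, ‹_›, ‹_›⟩)
    (H18Subint.residueFieldsIso_of_exists_lift p fun y => hl (p y))
  refine ⟨h ≫ pullback.snd g f, ?_⟩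
  rw [Category.assoc, ← pullback.condition, ← Category.assoc, hh, Category.id_comp]

end Groth.Agent.S13112
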