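import Groth.Statements.S13114
import Mathlib.LinearAlgebra.Eigenspace.Zero
import Mathlib.FieldTheory.IsAlgClosed.Basic
import Mathlib.RingTheory.LocalRing.ResidueField.Basic
import Mathlib.RingTheory.Artinian.Ring
import Mathlib.Tactic

set_option autoImplicit false
universe u
open HilbChow

namespace Groth.Agent.S13114

theorem det_smul_one_add {k V : Type*} [Field k] [AddCommGroup V] [Module k V] [FiniteDimensional k V]
    (f : Module.End k V) (hf : IsNilpotent f) (c : k) :
    LinearMap.det (c • (1 : Module.End k V) + f) = c ^ Module.finrank k V := by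
  classical
  let b := Module.finBasis k V
  have h := hf.neg.charpoly_eq_X_pow_finrank
  rw [← LinearMap.charpoly_toMatrix (-f) b] at h
  have h1 := congrArg (Polynomial.eval c) h
  rw [Matrix.eval_charpoly, Polynomial.eval_pow, Polynomial.eval_X] at h1
  rw [← LinearMap.det_toMatrix b, ← h1]
  congr 1
  rw [map_add, map_neg, sub_neg_eq_add, map_smul, LinearMap.toMatrix_one, Matrix.scalar_apply,
    ← Matrix.smul_one_eq_diagonal]

/-- Let k be an algebraically closed field, A a commutative local k-algebra of finite dimension n over k
and u a unit of A. Then the determinant of multiplication by u on the k-vector space A, mapped to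
the residue field of A, equals the n-th power of the residue class of u. -/
theorem result
    (k A : Type u) [Field k] [IsAlgClosed k] [CommRing A] [Algebra k A] [IsLocalRing A]
    [Module.Finite k A] (u : Aˣ) :
    algebraMap k (IsLocalRing.ResidueField A) (Algebra.norm k (u : A)) =
      IsLocalRing.residue A (u : A) ^ Module.finrank k A := by
  haveI : IsArtinianRing A := IsArtinianRing.of_finite k A
  have hint : Algebra.IsIntegral k (IsLocalRing.ResidueField A) :=
    ⟨fun x => by
      obtain ⟨a, rfl⟩ := IsLocalRing.residue_surjective x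
      exact ((Algebra.IsIntegral.isIntegral (R := k) a).map (IsScalarTower.toAlgHom k A (IsLocalRing.ResidueField A)))⟩
  obtain ⟨c, hc⟩ := IsAlgClosed.algebraMap_bijective_of_isIntegral (k := k) (K := IsLocalRing.ResidueField A) |>.2
    (IsLocalRing.residue A (u : A))
  have hm : (u : A) - algebraMap k A c ∈ IsLocalRing.maximalIdeal A := by
    rw [← IsLocalRing.residue_eq_zero_iff, map_sub, ← hc, sub_eq_zero]
    rfl
  obtain ⟨m, hm'⟩ := IsArtinianRing.isNilpotent_jacobson_bot (R := A)
  have hnil : IsNilpotent ((u : A) - algebraMap k A c) := by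
    refine ⟨m, ?_⟩
    have h1 := Ideal.pow_mem_pow (show (u : A) - algebraMap k A c ∈ Ideal.jacobson ⊥ by
      rw [IsLocalRing.jacobson_eq_maximalIdeal ⊥ bot_ne_top]; exact hm) m
    rwa [hm', Ideal.zero_eq_bot, Ideal.mem_bot] at h1
  have h := det_smul_one_add (Algebra.lmul k A ((u : A) - algebraMap k A c)) (hnil.map (Algebra.lmul k A)) c
  have he : c • (1 : Module.End k A) + Algebra.lmul k A ((u : A) - algebraMap k A c) = Algebra.lmul k A (u : A) := by
    rw [map_sub, AlgHom.commutes, Algebra.algebraMap_eq_smul_one]
    abel
  rw [he] at h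
  rw [Algebra.norm_apply, h, map_pow, hc]

end Groth.Agent.S13114
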