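import Groth.Statements.S13115
import Mathlib.LinearAlgebra.PiTensorProduct.Basis
import Mathlib.LinearAlgebra.Dual.Lemmas
import Mathlib.Algebra.MvPolynomial.Funext
import Mathlib.Tactic

set_option autoImplicit false
universe u
open scoped TensorProduct
open HilbChow

namespace Groth.Agent.S13115

open scoped TensorProduct

/-- Let k be an infinite field, V a k-vector space and m a natural number. Then every symmetric tensor
in the m-fold tensor power of V — one fixed by every permutation of the factors — is a k-linear
combination of pure powers v ⊗ ⋯ ⊗ v with v in V. (The published statement concerns the ring of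
functions of an affine scheme over an infinite field, where it gives the uniqueness of the algebra
map defining the Hilbert-to-Chow morphism for zero-cycles; this row states it for any vector space.) -/
theorem result
    (k V : Type u) [Field k] [Infinite k] [AddCommGroup V] [Module k V] (m : ℕ)
    (x : ⨂[k] _ : Fin m, V)
    (hx : ∀ σ : Equiv.Perm (Fin m), PiTensorProduct.reindex k (fun _ : Fin m => V) σ x = x) :
    x ∈ Submodule.span k (Set.range fun v : V => PiTensorProduct.tprod k (fun _ : Fin m => v)) := by
  classical
  by_contra hnot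
  obtain ⟨φ, hφx, hφ⟩ := Submodule.exists_dual_map_eq_bot_of_notMem hnot inferInstance
  rw [Submodule.map_span, Submodule.span_eq_bot] at hφ
  have hv : ∀ v : V, φ (PiTensorProduct.tprod k fun _ : Fin m => v) = 0 :=
    fun v => hφ _ ⟨_, ⟨v, rfl⟩, rfl⟩
  let b := Module.Basis.ofVectorSpace k V
  let B := _root_.Basis.piTensorProduct (fun _ : Fin m => b)
  let F : (Fin m → Module.Basis.ofVectorSpaceIndex k V) → k := fun f => φ (B f)
  have hperm : ∀ (f : Fin m → Module.Basis.ofVectorSpaceIndex k V) (σ : Equiv.Perm (Fin m)),
      B.repr x (f ∘ σ) = B.repr x f := by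
    intro f σ
    have hlin : ∀ g, B.repr (PiTensorProduct.reindex k (fun _ : Fin m => V) σ⁻¹ (B g)) = Finsupp.single (g ∘ σ) 1 := by
      intro g
      have : PiTensorProduct.reindex k (fun _ : Fin m => V) σ⁻¹ (B g) = B (g ∘ σ) := by
        simp only [B, _root_.Basis.piTensorProduct_apply, PiTensorProduct.reindex_tprod]
        rfl
      rw [this, B.repr_self]
    have h1 : B.repr (PiTensorProduct.reindex k (fun _ : Fin m => V) σ⁻¹ x) (f ∘ σ) = B.repr x f := by
      have : (Finsupp.lapply (f ∘ σ)) ∘ₗ B.repr.toLinearMap ∘ₗ
          (PiTensorProduct.reindex k (fun _ : Fin m => V) σ⁻¹).toLinearMap =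
          (Finsupp.lapply f) ∘ₗ B.repr.toLinearMap := by
        refine B.ext fun g => ?_
        simp only [LinearMap.comp_apply, LinearEquiv.coe_coe, hlin, B.repr_self, Finsupp.lapply_apply,
          Finsupp.single_apply]
        have : g ∘ σ = f ∘ σ ↔ g = f := σ.surjective.injective_comp_right.eq_iff
        simp only [this]
      exact DFunLike.congr_fun this x
    rw [hx] at h1
    exact h1
  -- the monomial attached to a word
  let μ : (Fin m → Module.Basis.ofVectorSpaceIndex k V) → (Module.Basis.ofVectorSpaceIndex k V →₀ ℕ) :=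
    fun f => ∑ i, Finsupp.single (f i) 1
  have hμ : ∀ f a, μ f a = Fintype.card {i // f i = a} := by
    intro f a
    simp only [μ, Finsupp.finset_sum_apply, Finsupp.single_apply, Fintype.card_subtype]
    rw [Finset.sum_boole]
    rfl
  have hconst : ∀ f g, μ f = μ g → B.repr x f = B.repr x g := by
    intro f g h
    let e : ∀ a, {i // g i = a} ≃ {i // f i = a} := fun a =>
      Fintype.equivOfCardEq (by rw [← hμ, ← hμ, h])
    let σ : Equiv.Perm (Fin m) := Equiv.ofFiberEquiv e
    have : f ∘ σ = g := funext fun i => Equiv.ofFiberEquiv_map e i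
    rw [← this, hperm]
  set T := (B.repr x).support
  set U : Finset (Module.Basis.ofVectorSpaceIndex k V) := T.biUnion fun f => Finset.univ.image f
  set W := Fintype.piFinset fun _ : Fin m => U
  have hTW : T ⊆ W := fun f hf => Fintype.mem_piFinset.2 fun i =>
    Finset.mem_biUnion.2 ⟨f, hf, Finset.mem_image.2 ⟨i, Finset.mem_univ _, rfl⟩⟩
  let P : MvPolynomial (Module.Basis.ofVectorSpaceIndex k V) k := ∑ f ∈ W, MvPolynomial.monomial (μ f) (F f)
  have hP : P = 0 := MvPolynomial.funext fun t => by
    rw [map_zero, map_sum]
    have hv' := hv (∑ a ∈ U, t a • b a)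
    rw [(PiTensorProduct.tprod k).map_sum_finset (fun (_ : Fin m) a => t a • b a) (fun _ => U), map_sum] at hv'
    rw [← hv']
    refine Finset.sum_congr rfl fun f _ => ?_
    rw [(PiTensorProduct.tprod k).map_smul_univ, map_smul, ← _root_.Basis.piTensorProduct_apply]
    have h2 : MvPolynomial.monomial (μ f) (F f) = MvPolynomial.C (F f) * ∏ i, MvPolynomial.X (f i) := by
      simp only [μ, MvPolynomial.monomial_sum_index]
      rfl
    rw [h2]
    simp [F, B, mul_comm]
  refine hφx ?_
  have hx' : x = ∑ f ∈ W, B.repr x f • B f := by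
    conv_lhs => rw [← B.linearCombination_repr x, Finsupp.linearCombination_apply]
    exact Finset.sum_subset hTW fun f _ hf => by simp [Finsupp.notMem_support_iff.1 hf]
  rw [hx', map_sum, ← Finset.sum_fiberwise_of_maps_to (g := μ) (t := W.image μ) fun f hf => Finset.mem_image_of_mem _ hf]
  refine Finset.sum_eq_zero fun d hd => ?_
  obtain ⟨g, -, rfl⟩ := Finset.mem_image.1 hd
  have hc := congrArg (MvPolynomial.coeff (μ g)) hP
  rw [MvPolynomial.coeff_sum, MvPolynomial.coeff_zero] at hc
  simp only [MvPolynomial.coeff_monomial] at hc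
  rw [← Finset.sum_filter] at hc
  calc ∑ f ∈ W with μ f = μ g, φ (B.repr x f • B f) = ∑ f ∈ W with μ f = μ g, B.repr x g * F f :=
        Finset.sum_congr rfl fun f hf => by rw [map_smul, hconst f g (Finset.mem_filter.1 hf).2]; rfl
    _ = 0 := by rw [← Finset.mul_sum, hc, mul_zero]

end Groth.Agent.S13115
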