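import Groth.Statements.S13116
import Groth.Agent.H26Base.Finite
import Groth.Agent.H11Ample.Converse
import Mathlib.AlgebraicGeometry.Morphisms.Finite

set_option autoImplicit false
universe u
open HilbChow

namespace Groth.Agent.S13116

open CategoryTheory CategoryTheory.Limits AlgebraicGeometry TopologicalSpace Opposite Groth.Agent.H26Base Groth.Agent.H11Ample

theorem trivial_of_semilocal {Z : Scheme.{u}} [IsAffine Z] (hfin : {z : Z | IsClosed ({z} : Set Z)}.Finite)
    {M : Z.Modules} (hM : PicF.IsInvertible M) : Nonempty (M ≅ Coh.structureModule Z) := by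
  obtain ⟨g, hg⟩ := exists_gen_of_local hM hfin fun x V hx => exists_gen_le_of_isAffine hM x V hx
  have htop : gen M g = ⊤ := by
    refine eq_top_iff.2 fun z _ => ?_
    obtain ⟨x, hx, hxc⟩ := (isClosed_closure (s := ({z} : Set Z))).exists_closed_singleton ⟨z, subset_closure rfl⟩
    exact (specializes_iff_mem_closure.2 hx).mem_open (gen M g).isOpen (hg hxc)
  haveI : IsIso (H11Tilde.homOfGlobal M g) := H11Tilde.isIso_homOfGlobal M g fun V => by
    have := (isGen_gen g).bijective (htop.ge.trans' le_top : V ≤ gen M g)
    refine Eq.mpr (congrArg Function.Bijective (funext fun r => ?_)) this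
    rw [H10Coh.mres_mres]
  exact ⟨(asIso (H11Tilde.homOfGlobal M g)).symm⟩

/-- Let k be a field, X an integral scheme smooth over k that is a closed subscheme of a projective
space over k, R a discrete valuation ring containing k, Z a subscheme of X ×_k Spec R which is
finite over Spec R, and L an invertible module on X. Then the pullback of L to Z along Z → X ×_k
Spec R → X is isomorphic to the structure sheaf of Z (an isomorphism exists; none is singled out). -/
theorem result
    {k : Type u} [Field k] {X : Scheme.{u}} (sX : X ⟶ Spec (CommRingCat.of k))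
    [IsIntegral X] [Smooth sX] (hproj : RelProj.IsHProjective sX)
    (R : Type u) [CommRing R] [IsDomain R] [IsDiscreteValuationRing R] [Algebra k R]
    {Z : Scheme.{u}}
    (i : Z ⟶ pullback sX (Spec.map (CommRingCat.ofHom (algebraMap k R)))) [IsImmersion i]
    [IsFinite (i ≫ pullback.snd sX (Spec.map (CommRingCat.ofHom (algebraMap k R))))]
    (L : X.Modules) (hL : PicF.IsInvertible L) :
    Nonempty ((Scheme.Modules.pullback
        (i ≫ pullback.fst sX (Spec.map (CommRingCat.ofHom (algebraMap k R))))).obj L ≅
      Coh.structureModule Z) := by
  let π := i ≫ pullback.snd sX (Spec.map (CommRingCat.ofHom (algebraMap k R)))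
  haveI : IsAffine Z := isAffine_of_isAffineHom π
  refine trivial_of_semilocal ?_ (isInvertible_pullback _ hL)
  refine (π.finite_preimage_singleton (IsLocalRing.closedPoint R)).subset fun z hz => ?_
  have hclosed : IsClosed ({π z} : Set _) := by
    have := π.isClosedMap _ hz
    rwa [Set.image_singleton] at this
  exact ((IsLocalRing.specializes_closedPoint (π z)).mem_closed hclosed rfl).symm

end Groth.Agent.S13116
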