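import Groth.Statements.S13117
import Mathlib.RingTheory.Spectrum.Prime.Noetherian
import Mathlib.RingTheory.Norm.Basic
import Mathlib.LinearAlgebra.Eigenspace.Zero
import Mathlib.FieldTheory.IsAlgClosed.Basic
import Mathlib.Tactic

set_option autoImplicit false
universe u
open HilbChow

namespace Groth.Agent.S13117

open Module in
lemma norm_pi {ι : Type*} [Fintype ι] {k : Type*} [Field k] (M : ι → Type*) [∀ i, CommRing (M i)]
    [∀ i, Algebra k (M i)] [∀ i, Module.Finite k (M i)] (x : ∀ i, M i) :
    Algebra.norm k x = ∏ i, Algebra.norm k (x i) := by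
  classical
  let o := Fintype.equivFin ι
  letI : LinearOrder ι := LinearOrder.lift' o o.injective
  let b := fun i => Free.chooseBasis k (M i)
  let B := Pi.basis b
  have hB : ∀ p q, Algebra.leftMulMatrix B x p q =
      (b p.1).repr ((x p.1) * (Pi.single q.1 (b q.1 q.2) : ∀ i, M i) p.1) p.2 := fun p q => by
    rw [Algebra.leftMulMatrix_eq_repr_mul, Pi.basis_repr, Pi.basis_apply]
    rfl
  have hbt : (Algebra.leftMulMatrix B x).BlockTriangular Sigma.fst := fun p q h => by
    rw [hB, Pi.single_eq_of_ne (ne_of_gt h), mul_zero, map_zero]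
    rfl
  rw [Algebra.norm_eq_matrix_det B, hbt.det_fintype]
  refine Finset.prod_congr rfl fun i _ => ?_
  rw [Algebra.norm_eq_matrix_det (b i)]
  refine (Matrix.det_reindex_self (Equiv.sigmaSubtype i) _).symm.trans ?_
  refine congrArg Matrix.det ?_
  ext p q
  rw [Matrix.reindex_apply, Matrix.submatrix_apply, Matrix.toSquareBlock_def, Matrix.of_apply, hB,
    Algebra.leftMulMatrix_eq_repr_mul]
  simp [Equiv.sigmaSubtype]
  rfl

/-- Let k be an algebraically closed field, A a finite-dimensional commutative k-algebra (the coordinate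
ring of a zero-dimensional subscheme Z of length dim_k A) and f ∈ A. Then the determinant of
multiplication by f on A is the product over the points x of Z — the k-algebra homomorphisms A → k —
of the value f(x) raised to the length of the local ring of Z at x, that length being the
k-dimension of the localisation of A at the corresponding maximal ideal. This is the formula by
which the Hilbert-to-Chow morphism for zero-cycles sends Z to its fundamental cycle Σ ℓ(O_{Z,x})[x]. -/
theorem result
    (k A : Type u) [Field k] [IsAlgClosed k] [CommRing A] [Algebra k A] [Module.Finite k A] (f : A) :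
    Algebra.norm k f =
      ∏ᶠ φ : A →ₐ[k] k, φ f ^ Module.finrank k (Localization.AtPrime (Ideal.comap φ ⊥)) := by
  classical
  haveI : IsArtinianRing A := IsArtinianRing.of_finite k A
  letI : Fintype (MaximalSpectrum A) := Fintype.ofFinite _
  haveI : ∀ I : MaximalSpectrum A, Module.Finite k (Localization.AtPrime I.asIdeal) := fun I =>
    Module.Finite.of_surjective (Algebra.algHom k A (Localization.AtPrime I.asIdeal)).toLinearMap
      (IsArtinianRing.localization_surjective I.asIdeal.primeCompl (Localization.AtPrime I.asIdeal))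
  have hres : ∀ I : MaximalSpectrum A, ∃! φ : A →ₐ[k] k, Ideal.comap φ (⊥ : Ideal k) = I.asIdeal := fun I => by
    haveI := I.isMaximal
    letI : Field (A ⧸ I.asIdeal) := Ideal.Quotient.field _
    haveI : Algebra.IsIntegral k (A ⧸ I.asIdeal) := Algebra.IsIntegral.of_finite k _
    have hb : Function.Bijective (Algebra.ofId k (A ⧸ I.asIdeal)) :=
      ⟨RingHom.injective _, IsAlgClosed.algebraMap_bijective_of_isIntegral.2⟩
    refine ⟨(AlgEquiv.ofBijective _ hb).symm.toAlgHom.comp (Ideal.Quotient.mkₐ k I.asIdeal), ?_, fun φ hφ => ?_⟩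
    · ext z
      refine Ideal.mem_comap.trans (Ideal.mem_bot.trans ?_)
      exact (map_eq_zero_iff (AlgEquiv.ofBijective (Algebra.ofId k (A ⧸ I.asIdeal)) hb).symm
        (AlgEquiv.injective _)).trans Ideal.Quotient.eq_zero_iff_mem
    · refine AlgHom.ext fun z => ?_
      have hzI : z - algebraMap k A (φ z) ∈ I.asIdeal := by
        rw [← hφ, Ideal.mem_comap, map_sub, AlgHom.commutes]; exact Ideal.mem_bot.2 (sub_self _)
      have := Ideal.Quotient.eq.2 hzI
      show φ z = (AlgEquiv.ofBijective _ hb).symm (Ideal.Quotient.mk I.asIdeal z)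
      rw [this, eq_comm, AlgEquiv.symm_apply_eq]
      rfl
  choose φI hφI huniq using hres
  let e : MaximalSpectrum A ≃ (A →ₐ[k] k) := Equiv.ofBijective φI
    ⟨fun I J h => MaximalSpectrum.ext (by rw [← hφI I, h, hφI J]),
      fun φ => ⟨⟨Ideal.comap φ (⊥ : Ideal k), Ideal.comap_isMaximal_of_surjective φ
        (fun c => ⟨algebraMap k A c, by simp⟩)⟩, (huniq _ φ rfl).symm⟩⟩
  letI : Fintype (A →ₐ[k] k) := Fintype.ofEquiv _ e
  let E : A ≃ₐ[k] ((I : MaximalSpectrum A) → Localization.AtPrime I.asIdeal) :=
    (MaximalSpectrum.toPiLocalizationEquiv A).restrictScalars k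
  rw [← Algebra.norm_eq_of_algEquiv E f, norm_pi, finprod_eq_prod_of_fintype, ← e.prod_comp]
  refine Finset.prod_congr rfl fun I _ => ?_
  have hfr : ∀ (P : Ideal A) [P.IsPrime], P = I.asIdeal →
      Module.finrank k (Localization.AtPrime P) = Module.finrank k (Localization.AtPrime I.asIdeal) := by
    intro P _ h
    subst h
    rfl
  show _ = φI I f ^ Module.finrank k (Localization.AtPrime (Ideal.comap (φI I) (⊥ : Ideal k)))
  rw [hfr _ (hφI I)]
  set L := Localization.AtPrime I.asIdeal
  set c := φI I f
  have hnil : IsNilpotent (algebraMap k L c - E f I) := by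
    have hE : E f I = algebraMap A L f := rfl
    rw [hE, IsScalarTower.algebraMap_apply k A L, ← map_sub]
    refine IsArtinianRing.isNilpotent_jacobson_bot (R := L) |> fun h => ?_
    refine (Ring.KrullDimLE.isNilpotent_iff_mem_maximalIdeal).2 ?_
    rw [IsLocalization.AtPrime.to_map_mem_maximal_iff L I.asIdeal, ← hφI I, Ideal.mem_comap, map_sub,
      AlgHom.commutes]
    exact Ideal.mem_bot.2 (sub_self c)
  have hN : IsNilpotent (Algebra.lmul k L (algebraMap k L c - E f I)) := hnil.map _
  have hch := (LinearMap.eval_charpoly (Algebra.lmul k L (algebraMap k L c - E f I)) c).symm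
  rw [hN.charpoly_eq_X_pow_finrank, Polynomial.eval_pow, Polynomial.eval_X] at hch
  rw [← hch, Algebra.norm_apply]
  refine congrArg LinearMap.det (LinearMap.ext fun z => ?_)
  show E f I * z = c • z - (algebraMap k L c - E f I) * z
  rw [Algebra.smul_def]; ring

end Groth.Agent.S13117
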