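import Groth.Statements.S13120
import Groth.Agent.H25Kum.Frob
import Mathlib.Tactic

set_option autoImplicit false
universe u
open KumFam

namespace Groth.Agent.S13120

open MvPolynomial in
/-- Let R be a commutative ring of characteristic 2 and l0, l2, l4, s0, s2, s4, τ ∈ R with τ a unit.
Inside R[u, v] (u = X 0, v = X 1) let A = R[u², u³, v², v³] be the coordinate ring of the product of
two cuspidal curves, and let D be the R-derivation of R[u, v] with D(u) = v²(l0 u⁴ + τ u³ + l2 u² +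
l4) and D(v) = u²(s0 v⁴ + τ v³ + s2 v² + s4); D is u²v² times the rational vector field (l0 u² + τ u
+ l2 + l4 u⁻²) ∂_u + (s0 v² + τ v + s2 + s4 v⁻²) ∂_v, which maps A into itself, and u²v² is a
non-zero-divisor, so the kernel of that vector field on A is the set of a ∈ A with D(a) = 0. Then
for a ∈ A: D(a) = 0 if and only if a ∈ R[u², v², g], where g = (s0 v⁴ + s2 v² + s4) u³ + (l0 u⁴ + l2
u² + l4) v³ + τ u³ v³. (The published statement identifies this kernel with the ring of invariants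
of the corresponding action of the group scheme of square roots of unity; this row states the kernel
computation that is actually carried out.) -/
theorem result (R : Type u) [CommRing R] [CharP R 2]
    (l0 l2 l4 s0 s2 s4 τ : R) (hτ : IsUnit τ) (a : MvPolynomial (Fin 2) R)
    (ha : a ∈ Algebra.adjoin R
      ({X 0 ^ 2, X 0 ^ 3, X 1 ^ 2, X 1 ^ 3} : Set (MvPolynomial (Fin 2) R))) :
    MvPolynomial.mkDerivation R
        (![X 1 ^ 2 * (C l0 * X 0 ^ 4 + C τ * X 0 ^ 3 + C l2 * X 0 ^ 2 + C l4),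
          X 0 ^ 2 * (C s0 * X 1 ^ 4 + C τ * X 1 ^ 3 + C s2 * X 1 ^ 2 + C s4)] :
          Fin 2 → MvPolynomial (Fin 2) R) a = 0 ↔
      a ∈ Algebra.adjoin R
        ({X 0 ^ 2, X 1 ^ 2,
          (C s0 * X 1 ^ 4 + C s2 * X 1 ^ 2 + C s4) * X 0 ^ 3 +
            (C l0 * X 0 ^ 4 + C l2 * X 0 ^ 2 + C l4) * X 1 ^ 3 +
            C τ * X 0 ^ 3 * X 1 ^ 3} : Set (MvPolynomial (Fin 2) R)) := by
  have h2 : (2 : MvPolynomial (Fin 2) R) = 0 := by
    rw [← map_ofNat C 2, (CharTwo.two_eq_zero : (2 : R) = 0), map_zero]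
  obtain ⟨t, ht⟩ := hτ.exists_left_inv
  have htC : (C t : MvPolynomial (Fin 2) R) * C τ = 1 := by rw [← map_mul, ht, map_one]
  obtain ⟨L, hL⟩ : ∃ L : MvPolynomial (Fin 2) R, L = C l0 * X 0 ^ 2 + C l2 * X 0 + C l4 := ⟨_, rfl⟩
  obtain ⟨S, hS⟩ : ∃ S : MvPolynomial (Fin 2) R, S = C s0 * X 1 ^ 2 + C s2 * X 1 + C s4 := ⟨_, rfl⟩
  obtain ⟨ρ, hρ⟩ : ∃ ρ : MvPolynomial (Fin 2) R,
      ρ = S ^ 2 * X 0 ^ 3 + L ^ 2 * X 1 ^ 3 + C τ ^ 2 * X 0 ^ 3 * X 1 ^ 3 := ⟨_, rfl⟩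
  set g : MvPolynomial (Fin 2) R := (C s0 * X 1 ^ 4 + C s2 * X 1 ^ 2 + C s4) * X 0 ^ 3 +
    (C l0 * X 0 ^ 4 + C l2 * X 0 ^ 2 + C l4) * X 1 ^ 3 + C τ * X 0 ^ 3 * X 1 ^ 3 with hgdef
  have eg : g = expand 2 S * X 0 ^ 3 + expand 2 L * X 1 ^ 3 + C τ * (X 0 ^ 3 * X 1 ^ 3) := by
    rw [hS, hL, hgdef]; simp only [map_add, map_mul, map_pow, expand_C, expand_X]; ring
  have hg : g ^ 2 + expand 2 ρ = 0 := by
    rw [hρ, eg]
    simp only [map_add, map_mul, map_pow, expand_C, expand_X]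
    linear_combination (expand 2 S ^ 2 * X 0 ^ 6 + expand 2 L ^ 2 * X 1 ^ 6 + C τ ^ 2 * X 0 ^ 6 * X 1 ^ 6 +
      expand 2 S * X 0 ^ 3 * (expand 2 L * X 1 ^ 3) +
      (expand 2 S * X 0 ^ 3 + expand 2 L * X 1 ^ 3) * (C τ * (X 0 ^ 3 * X 1 ^ 3))) * h2
  have cancel : ∀ (q : MvPolynomial (Fin 2) R) (i : Fin 2), q * X i = 0 → q = 0 := fun q i h =>
    isRegular_X.right (show q * X i = 0 * X i by rw [h, zero_mul])
  -- the shape of the elements of `A`
  have shape : ∃ q0 q1 q2 q3, a = expand 2 q0 + expand 2 q1 * X 0 ^ 3 + expand 2 q2 * X 1 ^ 3 +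
      expand 2 q3 * (X 0 ^ 3 * X 1 ^ 3) := by
    induction ha using Algebra.adjoin_induction with
    | mem x hx =>
      simp only [Set.mem_insert_iff, Set.mem_singleton_iff] at hx
      rcases hx with rfl | rfl | rfl | rfl
      · exact ⟨X 0, 0, 0, 0, by simp⟩
      · exact ⟨0, 1, 0, 0, by simp⟩
      · exact ⟨X 1, 0, 0, 0, by simp⟩
      · exact ⟨0, 0, 1, 0, by simp⟩
    | algebraMap r => exact ⟨C r, 0, 0, 0, by simp⟩
    | add x y _ _ hx hy =>
      obtain ⟨a0, a1, a2, a3, rfl⟩ := hx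
      obtain ⟨b0, b1, b2, b3, rfl⟩ := hy
      exact ⟨a0 + b0, a1 + b1, a2 + b2, a3 + b3, by simp only [map_add]; ring⟩
    | mul x y _ _ hx hy =>
      obtain ⟨a0, a1, a2, a3, rfl⟩ := hx
      obtain ⟨b0, b1, b2, b3, rfl⟩ := hy
      refine ⟨a0 * b0 + a1 * b1 * X 0 ^ 3 + a2 * b2 * X 1 ^ 3 + a3 * b3 * (X 0 ^ 3 * X 1 ^ 3),
        a0 * b1 + a1 * b0 + (a2 * b3 + a3 * b2) * X 1 ^ 3,
        a0 * b2 + a2 * b0 + (a1 * b3 + a3 * b1) * X 0 ^ 3,
        a0 * b3 + a3 * b0 + a1 * b2 + a2 * b1, ?_⟩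
      simp only [map_add, map_mul, map_pow, expand_X]
      ring
  obtain ⟨q0, q1, q2, q3, rfl⟩ := shape
  have hrange : (Algebra.adjoin R ({X 0 ^ 2, X 1 ^ 2, g} : Set (MvPolynomial (Fin 2) R))) =
      (aeval (R := R) (S₁ := MvPolynomial (Fin 2) R) ![X 0 ^ 2, X 1 ^ 2, g]).range := by
    rw [← Algebra.adjoin_range_eq_range_aeval]
    congr 1
    ext z
    simp [Matrix.range_cons, Matrix.range_empty]; tauto
  rw [hrange, Groth.Agent.H25Kum.mem_range_iff g ρ hg]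
  set D := MvPolynomial.mkDerivation R
    (![X 1 ^ 2 * (C l0 * X 0 ^ 4 + C τ * X 0 ^ 3 + C l2 * X 0 ^ 2 + C l4),
      X 0 ^ 2 * (C s0 * X 1 ^ 4 + C τ * X 1 ^ 3 + C s2 * X 1 ^ 2 + C s4)] :
      Fin 2 → MvPolynomial (Fin 2) R) with hD
  have dx : D (X 0) = X 1 ^ 2 * (expand 2 L + C τ * X 0 ^ 3) := by
    rw [hD, mkDerivation_X, hL]; simp; ring
  have dy : D (X 1) = X 0 ^ 2 * (expand 2 S + C τ * X 1 ^ 3) := by
    rw [hD, mkDerivation_X, hS]; simp; ring
  have de : ∀ q, D (expand 2 q) = 0 := Groth.Agent.H25Kum.derivation_expand D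
  have hDp : D (expand 2 q0 + expand 2 q1 * X 0 ^ 3 + expand 2 q2 * X 1 ^ 3 +
        expand 2 q3 * (X 0 ^ 3 * X 1 ^ 3)) =
      expand 2 ((q1 * L + q2 * S) * (X 0 * X 1)) +
        expand 2 ((C τ * q1 + q3 * S) * (X 0 * X 1) * X 0) * X 0 +
        expand 2 ((C τ * q2 + q3 * L) * (X 0 * X 1) * X 1) * X 1 +
        expand 2 0 * (X 0 * X 1) := by
    simp only [map_add, Derivation.leibniz, Derivation.leibniz_pow, de, dx, dy, smul_eq_mul,
      nsmul_eq_mul, smul_zero, add_zero, zero_add, mul_zero]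
    simp only [map_add, map_mul, map_zero, expand_C, expand_X]
    push_cast
    linear_combination (X 0 ^ 2 * X 1 ^ 2 * (expand 2 q1 * expand 2 L + expand 2 q2 * expand 2 S +
      (C τ * expand 2 q1 + expand 2 q3 * expand 2 S) * X 0 ^ 3 +
      (C τ * expand 2 q2 + expand 2 q3 * expand 2 L) * X 1 ^ 3 +
      3 * C τ * expand 2 q3 * X 0 ^ 3 * X 1 ^ 3)) * h2
  rw [hDp]
  constructor
  · intro h
    obtain ⟨-, h1, h2', -⟩ := Groth.Agent.H25Kum.expand_indep h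
    have k1 : C τ * q1 + q3 * S = 0 :=
      cancel _ 0 (cancel _ 1 (cancel _ 0 (by linear_combination h1)))
    have k2 : C τ * q2 + q3 * L = 0 :=
      cancel _ 0 (cancel _ 1 (cancel _ 1 (by linear_combination h2')))
    refine ⟨q0, C t * q3, ?_⟩
    have e1 : q1 = C t * q3 * S := by linear_combination C t * k1 - q1 * htC - C t * q3 * S * h2
    have e2 : q2 = C t * q3 * L := by linear_combination C t * k2 - q2 * htC - C t * q3 * L * h2
    rw [e1, e2, eg]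
    simp only [map_mul, expand_C]
    linear_combination (-(expand 2 q3 * (X 0 ^ 3 * X 1 ^ 3))) * htC
  · rintro ⟨r0, r1, h⟩
    obtain ⟨-, e1, e2, e3⟩ := Groth.Agent.H25Kum.expand_indep (q0 := q0 - r0)
      (q1 := (q1 - r1 * S) * X 0) (q2 := (q2 - r1 * L) * X 1)
      (q3 := (q3 - r1 * C τ) * X 0 * X 1) (by
        rw [eg] at h; simp only [map_sub, map_mul, expand_C, expand_X]; linear_combination h)
    rw [show q1 = r1 * S by linear_combination cancel _ _ e1,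
      show q2 = r1 * L by linear_combination cancel _ _ e2,
      show q3 = r1 * C τ by linear_combination cancel _ _ (cancel _ _ e3)]
    simp only [map_add, map_mul, map_zero, expand_C, expand_X]
    linear_combination (X 0 ^ 2 * X 1 ^ 2 * (expand 2 r1 * expand 2 S * expand 2 L +
      C τ * expand 2 r1 * expand 2 S * X 0 ^ 3 + C τ * expand 2 r1 * expand 2 L * X 1 ^ 3)) * h2

end Groth.Agent.S13120
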