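import Groth.Statements.S13121
import Groth.Agent.H25Kum.Frob
import Mathlib.Tactic

set_option autoImplicit false
universe u
open KumFam

namespace Groth.Agent.S13121

open MvPolynomial in
/-- Let R be a commutative ring of characteristic 2 and l0, l2, l4, s0, s2, s4, τ ∈ R with τ a unit. In
R[u, v] (u = X 0, v = X 1) put g = (s0 v⁴ + s2 v² + s4) u³ + (l0 u⁴ + l2 u² + l4) v³ + τ u³ v³. Then
the kernel of the R-algebra homomorphism R[a, b, c] → R[u, v] (a = X 0, b = X 1, c = X 2) with a ↦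
u², b ↦ v², c ↦ g is the ideal generated by c² + s0² a³ b⁴ + s2² a³ b² + s4² a³ + l0² a⁴ b³ + l2² a²
b³ + l4² b³ + τ² a³ b³; its image is the subalgebra R[u², v², g], which is therefore presented by
this one equation. -/
theorem result (R : Type u) [CommRing R] [CharP R 2]
    (l0 l2 l4 s0 s2 s4 τ : R) (hτ : IsUnit τ) :
    RingHom.ker (MvPolynomial.aeval (R := R) (S₁ := MvPolynomial (Fin 2) R)
        ![X 0 ^ 2, X 1 ^ 2,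
          (C s0 * X 1 ^ 4 + C s2 * X 1 ^ 2 + C s4) * X 0 ^ 3 +
            (C l0 * X 0 ^ 4 + C l2 * X 0 ^ 2 + C l4) * X 1 ^ 3 +
            C τ * X 0 ^ 3 * X 1 ^ 3]) =
      Ideal.span {(X 2 ^ 2 + C (s0 ^ 2) * X 0 ^ 3 * X 1 ^ 4 + C (s2 ^ 2) * X 0 ^ 3 * X 1 ^ 2 +
        C (s4 ^ 2) * X 0 ^ 3 + C (l0 ^ 2) * X 0 ^ 4 * X 1 ^ 3 + C (l2 ^ 2) * X 0 ^ 2 * X 1 ^ 3 +
        C (l4 ^ 2) * X 1 ^ 3 + C (τ ^ 2) * X 0 ^ 3 * X 1 ^ 3 : MvPolynomial (Fin 3) R)} := by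
  have h2 : (2 : MvPolynomial (Fin 2) R) = 0 := by
    rw [← map_ofNat C 2, (CharTwo.two_eq_zero : (2 : R) = 0), map_zero]
  obtain ⟨t, ht⟩ := hτ.exists_left_inv
  have htC : (C t : MvPolynomial (Fin 2) R) * C τ = 1 := by rw [← map_mul, ht, map_one]
  obtain ⟨L, hL⟩ : ∃ L : MvPolynomial (Fin 2) R, L = C l0 * X 0 ^ 2 + C l2 * X 0 + C l4 := ⟨_, rfl⟩
  obtain ⟨S, hS⟩ : ∃ S : MvPolynomial (Fin 2) R, S = C s0 * X 1 ^ 2 + C s2 * X 1 + C s4 := ⟨_, rfl⟩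
  obtain ⟨ρ, hρ⟩ : ∃ ρ : MvPolynomial (Fin 2) R, ρ = C (s0 ^ 2) * X 0 ^ 3 * X 1 ^ 4 +
      C (s2 ^ 2) * X 0 ^ 3 * X 1 ^ 2 + C (s4 ^ 2) * X 0 ^ 3 + C (l0 ^ 2) * X 0 ^ 4 * X 1 ^ 3 +
      C (l2 ^ 2) * X 0 ^ 2 * X 1 ^ 3 + C (l4 ^ 2) * X 1 ^ 3 + C (τ ^ 2) * X 0 ^ 3 * X 1 ^ 3 := ⟨_, rfl⟩
  set g : MvPolynomial (Fin 2) R := (C s0 * X 1 ^ 4 + C s2 * X 1 ^ 2 + C s4) * X 0 ^ 3 +
    (C l0 * X 0 ^ 4 + C l2 * X 0 ^ 2 + C l4) * X 1 ^ 3 + C τ * X 0 ^ 3 * X 1 ^ 3 with hgdef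
  have eg : g = expand 2 (S * X 0) * X 0 + expand 2 (L * X 1) * X 1 +
      expand 2 (C τ * (X 0 * X 1)) * (X 0 * X 1) := by
    rw [hS, hL, hgdef]; simp only [map_add, map_mul, map_pow, expand_C, expand_X]; ring
  have hg : g ^ 2 + expand 2 ρ = 0 := by
    rw [hρ, hgdef]
    simp only [map_add, map_mul, map_pow, expand_C, expand_X]
    linear_combination
      ((C s0 ^ 2 * X 1 ^ 8 + C s2 ^ 2 * X 1 ^ 4 + C s4 ^ 2) * X 0 ^ 6 +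
        (C l0 ^ 2 * X 0 ^ 8 + C l2 ^ 2 * X 0 ^ 4 + C l4 ^ 2) * X 1 ^ 6 +
        C τ ^ 2 * X 0 ^ 6 * X 1 ^ 6 +
        (C s0 * C s2 * X 1 ^ 6 + C s0 * C s4 * X 1 ^ 4 + C s2 * C s4 * X 1 ^ 2) * X 0 ^ 6 +
        (C l0 * C l2 * X 0 ^ 6 + C l0 * C l4 * X 0 ^ 4 + C l2 * C l4 * X 0 ^ 2) * X 1 ^ 6 +
        (C s0 * X 1 ^ 4 + C s2 * X 1 ^ 2 + C s4) * X 0 ^ 3 *
          ((C l0 * X 0 ^ 4 + C l2 * X 0 ^ 2 + C l4) * X 1 ^ 3) +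
        ((C s0 * X 1 ^ 4 + C s2 * X 1 ^ 2 + C s4) * X 0 ^ 3 +
          (C l0 * X 0 ^ 4 + C l2 * X 0 ^ 2 + C l4) * X 1 ^ 3) * (C τ * X 0 ^ 3 * X 1 ^ 3)) * h2
  have hind : ∀ r0 r1 : MvPolynomial (Fin 2) R, expand 2 r0 + expand 2 r1 * g = 0 →
      r0 = 0 ∧ r1 = 0 := by
    intro r0 r1 h
    obtain ⟨h0, -, -, h3⟩ := Groth.Agent.H25Kum.expand_indep (q0 := r0) (q1 := r1 * (S * X 0))
      (q2 := r1 * (L * X 1)) (q3 := r1 * (C τ * (X 0 * X 1)))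
      (by rw [← h, eg]; simp only [map_mul, expand_C]; ring)
    refine ⟨h0, ?_⟩
    have h4 : (r1 * X 0) * X 1 = 0 := by linear_combination C t * h3 - r1 * X 0 * X 1 * htC
    have h5 : r1 * X 0 = 0 := isRegular_X.right (show r1 * X 0 * X 1 = 0 * X 1 by rw [h4, zero_mul])
    exact isRegular_X.right (show r1 * X 0 = 0 * X 0 by rw [h5, zero_mul])
  rw [Groth.Agent.H25Kum.ker_eq g ρ hg hind, hρ]
  congr 2
  simp [Groth.Agent.H25Kum.inc]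
  ring

end Groth.Agent.S13121
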