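import Groth.Statements.S13122
import Groth.Agent.H25Kum.Frob
import Mathlib.Tactic

set_option autoImplicit false
universe u
open KumFam

namespace Groth.Agent.S13122

open MvPolynomial in
/-- Let R be a commutative ring of characteristic 2 and l0, l2, l4, s0, s2, s4, τ ∈ R with τ a unit. On
R[x, y] (x = X 0, y = X 1; the coordinates u⁻¹, v⁻¹ of the smooth chart of the product of two
cuspidal curves) let D be the R-derivation with D(x) = l4 x⁴ + l2 x² + τ x + l0 and D(y) = s4 y⁴ +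
s2 y² + τ y + s0, and put h = (s4 y⁴ + s2 y² + s0) x + (l4 x⁴ + l2 x² + l0) y + τ x y. Then: (1) for
p ∈ R[x, y], D(p) = 0 if and only if p lies in the image of the R-algebra homomorphism R[a, b, c] →
R[x, y] (a = X 0, b = X 1, c = X 2) with a ↦ x², b ↦ y², c ↦ h; (2) the kernel of that homomorphism
is the ideal generated by c² + τ² a b + (s4² b⁴ + s2² b² + s0²) a + (l4² a⁴ + l2² a² + l0²) b. (The
published statement asserts that the ring of invariants of the action of the group scheme of square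
roots of unity given by this vector field is R[a, b, c] modulo this equation, by the same
computation as on the other chart; this row pins the generator h and states the kernel computation.) -/
theorem result (R : Type u) [CommRing R]
    [CharP R 2] (l0 l2 l4 s0 s2 s4 τ : R) (hτ : IsUnit τ) :
    (∀ p : MvPolynomial (Fin 2) R,
      MvPolynomial.mkDerivation R
          (![C l4 * X 0 ^ 4 + C l2 * X 0 ^ 2 + C τ * X 0 + C l0,
            C s4 * X 1 ^ 4 + C s2 * X 1 ^ 2 + C τ * X 1 + C s0] :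
            Fin 2 → MvPolynomial (Fin 2) R) p = 0 ↔
        p ∈ (MvPolynomial.aeval (R := R) (S₁ := MvPolynomial (Fin 2) R)
          ![X 0 ^ 2, X 1 ^ 2,
            (C s4 * X 1 ^ 4 + C s2 * X 1 ^ 2 + C s0) * X 0 +
              (C l4 * X 0 ^ 4 + C l2 * X 0 ^ 2 + C l0) * X 1 + C τ * X 0 * X 1]).range) ∧
    RingHom.ker (MvPolynomial.aeval (R := R) (S₁ := MvPolynomial (Fin 2) R)
        ![X 0 ^ 2, X 1 ^ 2,
          (C s4 * X 1 ^ 4 + C s2 * X 1 ^ 2 + C s0) * X 0 +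
            (C l4 * X 0 ^ 4 + C l2 * X 0 ^ 2 + C l0) * X 1 + C τ * X 0 * X 1]) =
      Ideal.span {(X 2 ^ 2 + C (τ ^ 2) * X 0 * X 1 +
        (C (s4 ^ 2) * X 1 ^ 4 + C (s2 ^ 2) * X 1 ^ 2 + C (s0 ^ 2)) * X 0 +
        (C (l4 ^ 2) * X 0 ^ 4 + C (l2 ^ 2) * X 0 ^ 2 + C (l0 ^ 2)) * X 1 : MvPolynomial (Fin 3) R)} := by
  have h2 : (2 : MvPolynomial (Fin 2) R) = 0 := by
    rw [← map_ofNat C 2, (CharTwo.two_eq_zero : (2 : R) = 0), map_zero]
  have h2' : (2 : MvPolynomial (Fin 3) R) = 0 := by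
    rw [← map_ofNat C 2, (CharTwo.two_eq_zero : (2 : R) = 0), map_zero]
  obtain ⟨t, ht⟩ := hτ.exists_left_inv
  have htC : (C t : MvPolynomial (Fin 2) R) * C τ = 1 := by rw [← map_mul, ht, map_one]
  obtain ⟨A, hA⟩ : ∃ A : MvPolynomial (Fin 2) R, A = C l4 * X 0 ^ 2 + C l2 * X 0 + C l0 := ⟨_, rfl⟩
  obtain ⟨B, hB⟩ : ∃ B : MvPolynomial (Fin 2) R, B = C s4 * X 1 ^ 2 + C s2 * X 1 + C s0 := ⟨_, rfl⟩
  obtain ⟨ρ, hρ⟩ : ∃ ρ : MvPolynomial (Fin 2) R, ρ = C (τ ^ 2) * X 0 * X 1 +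
      (C (s4 ^ 2) * X 1 ^ 4 + C (s2 ^ 2) * X 1 ^ 2 + C (s0 ^ 2)) * X 0 +
      (C (l4 ^ 2) * X 0 ^ 4 + C (l2 ^ 2) * X 0 ^ 2 + C (l0 ^ 2)) * X 1 := ⟨_, rfl⟩
  set g : MvPolynomial (Fin 2) R := (C s4 * X 1 ^ 4 + C s2 * X 1 ^ 2 + C s0) * X 0 +
    (C l4 * X 0 ^ 4 + C l2 * X 0 ^ 2 + C l0) * X 1 + C τ * X 0 * X 1 with hgdef
  have eA : expand 2 A = C l4 * X 0 ^ 4 + C l2 * X 0 ^ 2 + C l0 := by
    rw [hA]; simp only [map_add, map_mul, map_pow, expand_C, expand_X]; ring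
  have eB : expand 2 B = C s4 * X 1 ^ 4 + C s2 * X 1 ^ 2 + C s0 := by
    rw [hB]; simp only [map_add, map_mul, map_pow, expand_C, expand_X]; ring
  have eg : g = expand 2 B * X 0 + expand 2 A * X 1 + C τ * (X 0 * X 1) := by
    rw [eA, eB, hgdef]; ring
  have hg : g ^ 2 + expand 2 ρ = 0 := by
    rw [hρ, hgdef]
    simp only [map_add, map_mul, map_pow, expand_C, expand_X]
    linear_combination
      (C τ ^ 2 * X 0 ^ 2 * X 1 ^ 2 +
        (C s4 ^ 2 * X 1 ^ 8 + C s2 ^ 2 * X 1 ^ 4 + C s0 ^ 2) * X 0 ^ 2 +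
        (C l4 ^ 2 * X 0 ^ 8 + C l2 ^ 2 * X 0 ^ 4 + C l0 ^ 2) * X 1 ^ 2 +
        (C s4 * C s2 * X 1 ^ 6 + C s4 * C s0 * X 1 ^ 4 + C s2 * C s0 * X 1 ^ 2) * X 0 ^ 2 +
        (C l4 * C l2 * X 0 ^ 6 + C l4 * C l0 * X 0 ^ 4 + C l2 * C l0 * X 0 ^ 2) * X 1 ^ 2 +
        (C s4 * X 1 ^ 4 + C s2 * X 1 ^ 2 + C s0) * X 0 *
          ((C l4 * X 0 ^ 4 + C l2 * X 0 ^ 2 + C l0) * X 1) +
        ((C s4 * X 1 ^ 4 + C s2 * X 1 ^ 2 + C s0) * X 0 +
          (C l4 * X 0 ^ 4 + C l2 * X 0 ^ 2 + C l0) * X 1) * (C τ * X 0 * X 1)) * h2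
  have hind : ∀ r0 r1 : MvPolynomial (Fin 2) R, expand 2 r0 + expand 2 r1 * g = 0 →
      r0 = 0 ∧ r1 = 0 := by
    intro r0 r1 h
    obtain ⟨h0, -, -, h3⟩ := Groth.Agent.H25Kum.expand_indep (q0 := r0) (q1 := r1 * B) (q2 := r1 * A)
      (q3 := r1 * C τ) (by rw [← h, eg]; simp only [map_mul, expand_C]; ring)
    exact ⟨h0, by linear_combination C t * h3 - r1 * htC⟩
  refine ⟨fun p => ?_, ?_⟩
  · rw [Groth.Agent.H25Kum.mem_range_iff g ρ hg]
    set D := MvPolynomial.mkDerivation R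
      (![C l4 * X 0 ^ 4 + C l2 * X 0 ^ 2 + C τ * X 0 + C l0,
        C s4 * X 1 ^ 4 + C s2 * X 1 ^ 2 + C τ * X 1 + C s0] : Fin 2 → MvPolynomial (Fin 2) R) with hD
    have dx : D (X 0) = expand 2 A + C τ * X 0 := by
      rw [hD, mkDerivation_X, eA]; simp; ring
    have dy : D (X 1) = expand 2 B + C τ * X 1 := by
      rw [hD, mkDerivation_X, eB]; simp; ring
    have de : ∀ q, D (expand 2 q) = 0 := Groth.Agent.H25Kum.derivation_expand D
    obtain ⟨p0, p1, p2, p3, rfl⟩ := Groth.Agent.H25Kum.expand_decomp p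
    have hDp : D (expand 2 p0 + expand 2 p1 * X 0 + expand 2 p2 * X 1 + expand 2 p3 * (X 0 * X 1)) =
        expand 2 (p1 * A + p2 * B) + expand 2 (C τ * p1 + p3 * B) * X 0 +
          expand 2 (C τ * p2 + p3 * A) * X 1 + expand 2 0 * (X 0 * X 1) := by
      simp only [map_add, Derivation.leibniz, de, dx, dy, smul_eq_mul, smul_zero, add_zero, zero_add,
        mul_zero]
      simp only [map_add, map_mul, map_zero, expand_C]
      linear_combination C τ * X 0 * X 1 * expand 2 p3 * h2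
    rw [hDp]
    constructor
    · intro h
      obtain ⟨-, h1, h2'', -⟩ := Groth.Agent.H25Kum.expand_indep h
      refine ⟨p0, C t * p3, ?_⟩
      have q1 : p1 = C t * p3 * B := by
        linear_combination C t * h1 - p1 * htC - C t * p3 * B * h2
      have q2 : p2 = C t * p3 * A := by
        linear_combination C t * h2'' - p2 * htC - C t * p3 * A * h2
      rw [q1, q2, eg]
      simp only [map_mul, expand_C]
      linear_combination (-(expand 2 p3 * (X 0 * X 1))) * htC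
    · rintro ⟨r0, r1, h⟩
      obtain ⟨-, e1, e2, e3⟩ := Groth.Agent.H25Kum.expand_indep (q0 := p0 - r0) (q1 := p1 - r1 * B)
        (q2 := p2 - r1 * A) (q3 := p3 - r1 * C τ) (by
          rw [eg] at h; simp only [map_sub, map_mul, expand_C]; linear_combination h)
      rw [show p1 = r1 * B by linear_combination e1, show p2 = r1 * A by linear_combination e2,
        show p3 = r1 * C τ by linear_combination e3]
      simp only [map_add, map_mul, map_zero, expand_C]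
      linear_combination (expand 2 r1 * expand 2 B * expand 2 A +
        C τ * expand 2 r1 * expand 2 B * X 0 + C τ * expand 2 r1 * expand 2 A * X 1) * h2
  · rw [Groth.Agent.H25Kum.ker_eq g ρ hg hind, hρ]
    congr 2
    simp [Groth.Agent.H25Kum.inc]
    ring

end Groth.Agent.S13122
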