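import Groth.Statements.S13124
import Groth.Prelude.Def_GLin
import Mathlib.RingTheory.IntegralClosure.IntegrallyClosed
import Mathlib.RingTheory.Flat.Basic
import Mathlib.RingTheory.Localization.FractionRing

set_option autoImplicit false
universe u v w
open KumFam

namespace Groth.Agent.S13124

open TensorProduct

theorem saturated_aux {S R K L : Type*} [CommRing S] [IsDomain S] [CommRing R] [IsDomain R]
    [IsIntegrallyClosed R] [Algebra S R] [Field K] [Algebra S K] [IsFractionRing S K]
    [Field L] [Algebra R L] [IsFractionRing R L] (hinj : Function.Injective (algebraMap S R))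
    (h : ∀ (r : R) (a b : S), b ≠ 0 → r * algebraMap S R b = algebraMap S R a → ∃ c, algebraMap S R c = r) :
    ∀ {x : K}, IsIntegral S x → ∃ y, algebraMap S K y = x := by
  intro x hx
  have hinj' : Function.Injective ((algebraMap R (L)).comp (algebraMap S R)) :=
    (IsFractionRing.injective R (L)).comp hinj
  let φ : K →+* L := IsFractionRing.lift (A := S) hinj'
  have hφ : φ.comp (algebraMap S (K)) = (algebraMap R (L)).comp (algebraMap S R) :=
    RingHom.ext fun s => IsFractionRing.lift_algebraMap hinj' s
  obtain ⟨p, hp, hev⟩ := hx
  have hint : IsIntegral R (φ x) := by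
    refine ⟨p.map (algebraMap S R), hp.map _, ?_⟩
    rw [Polynomial.eval₂_map, ← hφ, ← Polynomial.hom_eval₂, hev, map_zero]
  obtain ⟨r, hr⟩ := IsIntegrallyClosed.isIntegral_iff.1 hint
  obtain ⟨a, b, hb, hab⟩ := IsFractionRing.div_surjective (A := S) x
  have hb0 : b ≠ 0 := nonZeroDivisors.ne_zero hb
  have hb' : φ (algebraMap S (K) b) = algebraMap R (L) (algebraMap S R b) :=
    RingHom.congr_fun hφ b
  have ha' : φ (algebraMap S (K) a) = algebraMap R (L) (algebraMap S R a) :=
    RingHom.congr_fun hφ a
  have hne : algebraMap R (L) (algebraMap S R b) ≠ 0 :=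
    (map_ne_zero_iff _ (IsFractionRing.injective R (L))).2 ((map_ne_zero_iff _ hinj).2 hb0)
  have hrb : r * algebraMap S R b = algebraMap S R a := by
    apply IsFractionRing.injective R (L)
    rw [map_mul, hr, ← hab, map_div₀, ha', hb', div_mul_cancel₀ _ hne]
  obtain ⟨c, hc⟩ := h r a b hb0 hrb
  exact ⟨c, φ.injective ((RingHom.congr_fun hφ c).trans (by rw [RingHom.comp_apply, hc, hr]))⟩
theorem isIntegrallyClosed_of_saturated {S R : Type*} [CommRing S] [IsDomain S] [CommRing R] [IsDomain R]
    [IsIntegrallyClosed R] [Algebra S R] (hinj : Function.Injective (algebraMap S R))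
    (h : ∀ (r : R) (a b : S), b ≠ 0 → r * algebraMap S R b = algebraMap S R a → ∃ c, algebraMap S R c = r) :
    IsIntegrallyClosed S :=
  (isIntegrallyClosed_iff (FractionRing S)).2 (saturated_aux (R := R) (L := FractionRing R) hinj h)

/-- Let k be a commutative ring, A a commutative k-bialgebra that is flat over k, and R a commutative
k-algebra which is an integrally closed domain, with a coaction R → R ⊗ A that is an algebra
homomorphism. Then the ring of invariants (the elements f with coaction f ⊗ 1) is an integrally
closed domain. (The published statement is for a finite group scheme acting on a normal scheme whose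
quotient is, locally, the spectrum of the ring of invariants; this row is the affine integral case
and allows any commutative bialgebra flat over k, flatness being automatic over a field.) -/
theorem result (k : Type u) [CommRing k]
    (A : Type v) [CommRing A] [Bialgebra k A] [Module.Flat k A]
    (R : Type w) [CommRing R] [Algebra k R] [IsDomain R] [IsIntegrallyClosed R]
    [HopfRep.Comod k A R] [GLin.IsCoactAlg k A R] :
    IsIntegrallyClosed (GLin.invariants k A R) := by
  refine isIntegrallyClosed_of_saturated (R := R) Subtype.val_injective fun r a b hb hab => ⟨⟨r, ?_⟩, rfl⟩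
  have hb0 : (b : R) ≠ 0 := fun h0 => hb (Subtype.ext h0)
  have hab' : r * (b : R) = (a : R) := hab
  have hrb : r * (b : R) ∈ GLin.invariants k A R := hab' ▸ a.2
  show HopfRep.Comod.coact (k := k) (A := A) r = r ⊗ₜ[k] (1 : A)
  have ha : HopfRep.Comod.coact (k := k) (A := A) (r * (b : R)) = (r * (b : R)) ⊗ₜ[k] (1 : A) := hrb
  have hbb : HopfRep.Comod.coact (k := k) (A := A) (b : R) = (b : R) ⊗ₜ[k] (1 : A) := b.2
  rw [GLin.IsCoactAlg.coact_mul, hbb] at ha
  have hj : Function.Injective (LinearMap.rTensor A (LinearMap.mulRight k (b : R))) :=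
    Module.Flat.rTensor_preserves_injective_linearMap _ fun u v h => mul_right_cancel₀ hb0 h
  have hmul : ∀ z : R ⊗[k] A, LinearMap.rTensor A (LinearMap.mulRight k (b : R)) z = z * ((b : R) ⊗ₜ[k] (1 : A)) := by
    intro z
    induction z using TensorProduct.induction_on with
    | zero => simp
    | tmul u v => simp
    | add u v h1 h2 => rw [map_add, h1, h2, add_mul]
  refine hj ?_
  rw [hmul, hmul, Algebra.TensorProduct.tmul_mul_tmul, one_mul]
  exact ha

end Groth.Agent.S13124
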