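import Groth.Statements.S13125
import Mathlib.RingTheory.GradedAlgebra.Homogeneous.Ideal
import Mathlib.Tactic

set_option autoImplicit false
universe u v
open KumFam

namespace Groth.Agent.S13125

/-- Let A be a commutative ring graded by an additive monoid ι (an abelian group in the published
statement) through additive subgroups 𝒜 i, and I an ideal of A. Then I is a homogeneous ideal if and
only if A/I carries a structure of ι-graded ring ℬ for which the quotient map sends 𝒜 i into ℬ i for
all i. -/
theorem result (ι : Type u) [DecidableEq ι] [AddMonoid ι]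
    (A : Type v) [CommRing A] (𝒜 : ι → AddSubgroup A) [GradedRing 𝒜] (I : Ideal A) :
    I.IsHomogeneous 𝒜 ↔
      ∃ ℬ : ι → AddSubgroup (A ⧸ I), Nonempty (GradedRing ℬ) ∧
        ∀ i : ι, (𝒜 i).map (Ideal.Quotient.mk I : A →+ A ⧸ I) ≤ ℬ i := by
  classical
  constructor
  · intro hI
    let π : A →+* A ⧸ I := Ideal.Quotient.mk I
    let ℬ : ι → AddSubgroup (A ⧸ I) := fun i => (𝒜 i).map (π : A →+ A ⧸ I)
    let φ0 : (DirectSum ι fun i => 𝒜 i) →+ DirectSum ι fun i => ℬ i := DirectSum.map fun i => ((π : A →+ A ⧸ I).comp (𝒜 i).subtype).codRestrict (ℬ i) (fun a => ⟨a, a.2, rfl⟩)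
    let φ : A →+ DirectSum ι fun i => ℬ i := φ0.comp (DirectSum.decomposeAddEquiv 𝒜).toAddMonoidHom
    have hφ : I.toAddSubgroup ≤ φ.ker := by
      intro a ha
      ext i
      simp only [φ, φ0, AddMonoidHom.coe_comp, Function.comp_apply, DirectSum.map_apply]
      exact Ideal.Quotient.eq_zero_iff_mem.mpr ((Ideal.IsHomogeneous.mem_iff (𝒜 := 𝒜) hI).mp ha i)
    let dec : A ⧸ I →+ DirectSum ι fun i => ℬ i := QuotientAddGroup.lift I.toAddSubgroup φ hφ
    have hmk : ∀ a : A, dec (π a) = φ a := fun a => rfl
    have hsum : ∀ x : DirectSum ι fun i => 𝒜 i, DirectSum.coeAddMonoidHom ℬ (φ0 x) = π (DirectSum.coeAddMonoidHom 𝒜 x) := by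
      intro x
      induction x using DirectSum.induction_on with
      | zero => simp
      | of i a => simp [φ0] <;> rfl
      | add x y hx hy => simp only [map_add, hx, hy]
    let gm : SetLike.GradedMonoid ℬ :=
      { one_mem := ⟨1, SetLike.one_mem_graded 𝒜, map_one π⟩
        mul_mem := fun i j x y hx hy => by
          obtain ⟨a, ha, rfl⟩ := hx
          obtain ⟨b, hb, rfl⟩ := hy
          exact ⟨a * b, SetLike.mul_mem_graded ha hb, map_mul π a b⟩ }
    have hl : (DirectSum.coeAddMonoidHom ℬ).comp dec = AddMonoidHom.id _ := by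
      ext q
      obtain ⟨a, rfl⟩ := Ideal.Quotient.mk_surjective q
      show DirectSum.coeAddMonoidHom ℬ (φ a) = π a
      simp only [φ, AddMonoidHom.coe_comp, Function.comp_apply, hsum]
      congr 1
      exact (DirectSum.decomposeAddEquiv 𝒜).symm_apply_apply a
    have hr : dec.comp (DirectSum.coeAddMonoidHom ℬ) = AddMonoidHom.id _ := by
      refine DirectSum.addHom_ext fun i y => ?_
      obtain ⟨_, a, ha, rfl⟩ := y
      simp only [AddMonoidHom.coe_comp, Function.comp_apply, DirectSum.coeAddMonoidHom_of, AddMonoidHom.id_apply]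
      show φ a = _
      simp only [φ, φ0, AddMonoidHom.coe_comp, Function.comp_apply]
      show DirectSum.map _ (DirectSum.decompose 𝒜 a) = _
      rw [DirectSum.decompose_of_mem 𝒜 ha, DirectSum.map_of]
      rfl
    exact ⟨ℬ, ⟨{ gm with toDecomposition := DirectSum.Decomposition.ofAddHom ℬ dec hl hr }⟩, fun i => le_rfl⟩
  · rintro ⟨ℬ, ⟨hB⟩, hle⟩
    intro i a ha
    have key : ∀ x : A, ∀ i, ((DirectSum.decompose ℬ (Ideal.Quotient.mk I x)) i : A ⧸ I) = Ideal.Quotient.mk I (DirectSum.decompose 𝒜 x i : A) := by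
      intro x
      induction x using DirectSum.Decomposition.inductionOn 𝒜 with
      | zero => simp
      | homogeneous m =>
        intro l
        rename_i j
        have hm : Ideal.Quotient.mk I (m : A) ∈ ℬ j := hle j ⟨m, m.2, rfl⟩
        rw [DirectSum.decompose_of_mem ℬ hm, DirectSum.decompose_coe]
        by_cases hl : j = l
        · subst hl; simp
        · simp [DirectSum.of_eq_of_ne _ _ _ (Ne.symm hl)]
      | add u v hu hv => intro l; simp [DirectSum.decompose_add, hu l, hv l]
    have := key a i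
    rw [Ideal.Quotient.eq_zero_iff_mem.mpr ha, DirectSum.decompose_zero] at this
    exact Ideal.Quotient.eq_zero_iff_mem.mp this.symm

end Groth.Agent.S13125
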