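import Groth.Statements.S13126
import Mathlib.RingTheory.Ideal.Quotient.Operations
import Mathlib.RingTheory.Polynomial.Basic
import Mathlib.Algebra.Polynomial.RingDivision
import Mathlib.RingTheory.Coprime.Lemmas

set_option autoImplicit false
universe u
open KumFam

namespace Groth.Agent.S13126

open Polynomial

theorem prod_eq (R : Type*) [CommRing R] (n : ℕ) (hn : 0 < n) (ζ : R) (hζ : ζ ^ n = 1)
    (hprim : ∀ i : ℕ, 0 < i → i < n → IsUnit (1 - ζ ^ i)) :
    Pairwise (Function.onFun IsCoprime (fun i : Fin n => X - C (ζ ^ (i : ℕ)))) ∧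
      ∏ i : Fin n, (X - C (ζ ^ (i : ℕ))) = X ^ n - 1 := by
  have hu : IsUnit ζ := IsUnit.of_mul_eq_one (ζ ^ (n - 1)) (by rw [← pow_succ', Nat.sub_add_cancel hn, hζ])
  have hlt : ∀ i j : Fin n, (i : ℕ) < j → IsCoprime (X - C (ζ ^ (i : ℕ))) (X - C (ζ ^ (j : ℕ))) := by
    intro i j h
    refine isCoprime_X_sub_C_of_isUnit_sub ?_
    rw [show ζ ^ (i : ℕ) - ζ ^ (j : ℕ) = ζ ^ (i : ℕ) * (1 - ζ ^ ((j : ℕ) - i)) by
      rw [mul_sub, mul_one, ← pow_add]; congr 2; omega]
    exact (hu.pow _).mul (hprim _ (by omega) (by omega))
  have hpair : Pairwise (Function.onFun IsCoprime (fun i : Fin n => X - C (ζ ^ (i : ℕ)))) := fun i j h => by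
    rcases lt_or_gt_of_ne (fun hh => h (Fin.ext hh) : (i : ℕ) ≠ j) with h' | h'
    exacts [hlt i j h', (hlt j i h').symm]
  refine ⟨hpair, ?_⟩
  rcases subsingleton_or_nontrivial R with hR | hR
  · exact Subsingleton.elim _ _
  refine (eq_of_monic_of_dvd_of_natDegree_le (monic_prod_of_monic _ _ fun i _ => monic_X_sub_C _)
    (monic_X_pow_sub_C (1 : R) hn.ne') ?_ ?_).symm.trans ?_
  · refine Fintype.prod_dvd_of_coprime hpair fun i => ?_
    rw [dvd_iff_isRoot, IsRoot, eval_sub, eval_pow, eval_X, eval_C, pow_right_comm, hζ, one_pow, sub_self]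
  · rw [natDegree_prod_of_monic _ _ fun i _ => monic_X_sub_C _, natDegree_X_pow_sub_C,
      Finset.sum_congr rfl fun (i : Fin n) _ => natDegree_X_sub_C (ζ ^ (i : ℕ))]
    simp
  · rw [map_one]

open Polynomial in
/-- Let R be a commutative ring, n a natural number which is a unit in R, and ζ ∈ R with ζ^n = 1 and 1 −
ζ^i a unit for 0 < i < n (a primitive n-th root of unity in the fibrewise sense: the powers ζ^0, …,
ζ^(n−1) are roots of X^n − 1 with pairwise unit differences; over an integral domain in which n is a
unit this is the same as ζ having multiplicative order n). Then the R-algebra homomorphism R[X] →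
(Fin n → R) sending a polynomial to its values at ζ^0, …, ζ^(n−1) is surjective and its kernel is
the ideal generated by X^n − 1; hence R[X]/(X^n − 1) ≅ R^n as R-algebras, i.e. the scheme of n-th
roots of unity over Spec R is the disjoint union of n copies of Spec R. (The published statement
asks that R contain a primitive n-th root of unity without defining the term; its Chinese-remainder
argument uses that the ideals (X − ζ^i), i < n, are pairwise comaximal, which is the unit-difference
condition taken as the hypothesis here, whereas under the reading 'ζ has multiplicative order n'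
alone the surjectivity fails over a product of two fields. The published statement also asserts that
the isomorphism respects the group-scheme structures of the n-th roots of unity and of the constant
group ℤ/n; this row does not state that.) -/
theorem result (R : Type u) [CommRing R]
    (n : ℕ) (hn : IsUnit (n : R)) (ζ : R) (hζ : ζ ^ n = 1)
    (hprim : ∀ i : ℕ, 0 < i → i < n → IsUnit (1 - ζ ^ i)) :
    Function.Surjective (AlgHom.pi (fun i : Fin n => Polynomial.aeval (R := R) (ζ ^ (i : ℕ)))) ∧
      RingHom.ker (AlgHom.pi (fun i : Fin n => Polynomial.aeval (R := R) (ζ ^ (i : ℕ)))) =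
        Ideal.span {(X ^ n - 1 : R[X])} := by
  rcases Nat.eq_zero_or_pos n with rfl | hn0
  · have : Subsingleton R := subsingleton_of_zero_eq_one (by simpa using hn)
    exact ⟨fun y => ⟨0, funext fun i => i.elim0⟩, Subsingleton.elim _ _⟩
  obtain ⟨hpair, hprod⟩ := prod_eq R n hn0 ζ hζ hprim
  refine ⟨fun y => ?_, ?_⟩
  · obtain ⟨f, hf⟩ := Ideal.exists_forall_sub_mem_ideal (I := fun i : Fin n => Ideal.span {X - C (ζ ^ (i : ℕ))})
      (fun i j h => (Ideal.isCoprime_span_singleton_iff _ _).2 (hpair h)) (fun i => C (y i))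
    refine ⟨f, funext fun i => ?_⟩
    obtain ⟨g, hg⟩ := Ideal.mem_span_singleton.1 (hf i)
    have := congrArg (eval (ζ ^ (i : ℕ))) hg
    simp [sub_eq_zero] at this
    simpa [coe_aeval_eq_eval] using this
  · ext f
    rw [Ideal.mem_span_singleton, ← hprod, RingHom.mem_ker]
    constructor
    · intro h
      refine Fintype.prod_dvd_of_coprime hpair fun i => ?_
      refine dvd_iff_isRoot.2 ?_
      have h2 : (aeval (ζ ^ (i : ℕ))) f = 0 := congrFun h i
      simpa [IsRoot, coe_aeval_eq_eval] using h2
    · rintro h
      funext i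
      have h2 := dvd_iff_isRoot.1 (dvd_trans (Finset.dvd_prod_of_mem (fun i : Fin n => X - C (ζ ^ (i : ℕ))) (Finset.mem_univ i)) h)
      simpa [IsRoot, coe_aeval_eq_eval] using h2

end Groth.Agent.S13126
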