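import Groth.Statements.S13127
import Groth.Agent.H25Kum.Auto
import Mathlib.Tactic

set_option autoImplicit false
universe u
open KumFam

namespace Groth.Agent.S13127

open MvPowerSeries in
/-- Let R be a commutative ring of characteristic 2 and l0, l2, l4, s0, s2, s4, τ, lam, sig ∈ R with l4,
s4, lam, sig units, and let κ₁, κ₂ ∈ R satisfy s4² κ₁³ = sig² and l4² κ₂³ = lam² (cube roots of
sig²/s4² and lam²/l4²). In the power series ring R[[a, b, c]] (a = X 0, b = X 1, c = X 2) put F = c²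
+ s0² a³ b⁴ + s2² a³ b² + s4² a³ + l0² a⁴ b³ + l2² a² b³ + l4² b³ + τ² a³ b³ and F₀ = c² + sig² a³ +
lam² b³. Then some R-algebra automorphism of R[[a, b, c]] maps F to F₀; consequently R[[a, b,
c]]/(F) ≅ R[[a, b, c]]/(F₀). (In the published statement lam, sig are the representatives in the
ground field of the residues of l4, s4 at a rational point, so that F₀ is the equation of the
special fibre made constant; this row takes them to be arbitrary units.) -/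
theorem result (R : Type u) [CommRing R] [CharP R 2]
    (l0 l2 l4 s0 s2 s4 τ lam sig κ₁ κ₂ : R) (hl4 : IsUnit l4) (hs4 : IsUnit s4) (hlam : IsUnit lam)
    (hsig : IsUnit sig) (h₁ : s4 ^ 2 * κ₁ ^ 3 = sig ^ 2) (h₂ : l4 ^ 2 * κ₂ ^ 3 = lam ^ 2) :
    ∃ φ : MvPowerSeries (Fin 3) R ≃ₐ[R] MvPowerSeries (Fin 3) R,
      φ ((X 2 ^ 2 + C (s0 ^ 2) * X 0 ^ 3 * X 1 ^ 4 + C (s2 ^ 2) * X 0 ^ 3 * X 1 ^ 2 +
          C (s4 ^ 2) * X 0 ^ 3 + C (l0 ^ 2) * X 0 ^ 4 * X 1 ^ 3 + C (l2 ^ 2) * X 0 ^ 2 * X 1 ^ 3 +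
          C (l4 ^ 2) * X 1 ^ 3 + C (τ ^ 2) * X 0 ^ 3 * X 1 ^ 3 : MvPowerSeries (Fin 3) R)) =
        (X 2 ^ 2 + C (sig ^ 2) * X 0 ^ 3 + C (lam ^ 2) * X 1 ^ 3 : MvPowerSeries (Fin 3) R) := by
  have hκ₁ : IsUnit κ₁ := by
    have : IsUnit (s4 ^ 2 * κ₁ ^ 3) := h₁ ▸ hsig.pow 2
    exact (isUnit_pow_iff (by norm_num : (3:ℕ) ≠ 0)).1 (isUnit_of_mul_isUnit_right this)
  have hκ₂ : IsUnit κ₂ := by
    have : IsUnit (l4 ^ 2 * κ₂ ^ 3) := h₂ ▸ hlam.pow 2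
    exact (isUnit_pow_iff (by norm_num : (3:ℕ) ≠ 0)).1 (isUnit_of_mul_isUnit_right this)
  obtain ⟨e, he⟩ := (hs4.pow 2).exists_left_inv
  obtain ⟨e', he'⟩ := (hl4.pow 2).exists_left_inv
  obtain ⟨k₁, hk₁⟩ := hκ₁.exists_left_inv
  obtain ⟨k₂, hk₂⟩ := hκ₂.exists_left_inv
  obtain ⟨v, hv, hv0⟩ := Groth.Agent.H25Kum.exists_cube_root
    (1 + PowerSeries.C (e * s2 ^ 2) * PowerSeries.X ^ 2 + PowerSeries.C (e * τ ^ 2) * PowerSeries.X ^ 3
      + PowerSeries.C (e * s0 ^ 2) * PowerSeries.X ^ 4 : PowerSeries R) (by simp)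
  obtain ⟨w, hw, hw0⟩ := Groth.Agent.H25Kum.exists_cube_root
    (1 + PowerSeries.C (e' * l2 ^ 2) * PowerSeries.X ^ 2
      + PowerSeries.C (e' * l0 ^ 2) * PowerSeries.X ^ 4 : PowerSeries R) (by simp)
  have hX : ∀ i : Fin 3, PowerSeries.HasSubst (X i : MvPowerSeries (Fin 3) R) :=
    fun i => PowerSeries.HasSubst.X i
  let ι : Fin 3 → (PowerSeries R →ₐ[R] MvPowerSeries (Fin 3) R) := fun i =>
    PowerSeries.substAlgHom (hX i)
  have ιX : ∀ i, ι i PowerSeries.X = X i := fun i => PowerSeries.substAlgHom_X (hX i)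
  have ιC : ∀ i (r : R), ι i (PowerSeries.C r) = C r := fun i r => by
    have := (ι i).commutes r
    simpa [MvPowerSeries.algebraMap_apply, PowerSeries.algebraMap_apply] using this
  have ι0 : ∀ i (p : PowerSeries R), PowerSeries.constantCoeff p = 1 →
      constantCoeff (ι i p) = 1 := fun i p hp => by
    obtain ⟨q, hq⟩ := PowerSeries.X_dvd_iff.2 (show PowerSeries.constantCoeff (p - 1) = 0 by simp [hp])
    have : p = 1 + PowerSeries.X * q := by rw [← hq]; ring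
    simp [this, ιX]
  let u : Fin 3 → MvPowerSeries (Fin 3) R := ![C k₁ * ι 1 v, C k₂ * ι 0 w, 1]
  have hu : ∀ s, IsUnit (constantCoeff (u s)) := by
    intro s
    fin_cases s
    · simp [u, ι0 1 v hv0, IsUnit.of_mul_eq_one κ₁ hk₁]
    · simp [u, ι0 0 w hw0, IsUnit.of_mul_eq_one κ₂ hk₂]
    · simp [u]
  refine ⟨(Groth.Agent.H25Kum.scaleAut hu).symm, ?_⟩
  rw [AlgEquiv.symm_apply_eq]
  have hC : ∀ r : R, (Groth.Agent.H25Kum.scaleAut hu) (C r) = C r := fun r =>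
    Groth.Agent.H25Kum.algHom_C (Groth.Agent.H25Kum.scaleAut hu).toAlgHom r
  simp only [map_add, map_mul, map_pow, Groth.Agent.H25Kum.scaleAut_X hu, hC]
  simp only [u, Matrix.cons_val_zero, Matrix.cons_val_one, Matrix.cons_val, mul_one, mul_pow]
  rw [← map_pow (ι 1), ← map_pow (ι 0), hv, hw]
  simp only [map_add, map_mul, map_pow, map_one, ιX, ιC]
  simp only [← map_pow, ← map_mul]
  have a0 : sig ^ 2 * k₁ ^ 3 = s4 ^ 2 := by
    linear_combination (-(k₁ ^ 3)) * h₁ + s4 ^ 2 * (k₁ ^ 2 * κ₁ ^ 2 + k₁ * κ₁ + 1) * hk₁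
  have b0 : lam ^ 2 * k₂ ^ 3 = l4 ^ 2 := by
    linear_combination (-(k₂ ^ 3)) * h₂ + l4 ^ 2 * (k₂ ^ 2 * κ₂ ^ 2 + k₂ * κ₂ + 1) * hk₂
  have c0 : (C sig : MvPowerSeries (Fin 3) R) ^ 2 * C k₁ ^ 3 = C s4 ^ 2 := by
    simp only [← map_pow, ← map_mul, a0]
  have d0 : (C lam : MvPowerSeries (Fin 3) R) ^ 2 * C k₂ ^ 3 = C l4 ^ 2 := by
    simp only [← map_pow, ← map_mul, b0]
  have c1 : (C e : MvPowerSeries (Fin 3) R) * C s4 ^ 2 = 1 := by
    rw [← map_pow, ← map_mul, he, map_one]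
  have d1 : (C e' : MvPowerSeries (Fin 3) R) * C l4 ^ 2 = 1 := by
    rw [← map_pow, ← map_mul, he', map_one]
  simp only [map_pow, map_mul]
  linear_combination
    (-(X 0 ^ 3 * (1 + C e * C s2 ^ 2 * X 1 ^ 2 + C e * C τ ^ 2 * X 1 ^ 3 + C e * C s0 ^ 2 * X 1 ^ 4))) * c0
    - X 1 ^ 3 * (1 + C e' * C l2 ^ 2 * X 0 ^ 2 + C e' * C l0 ^ 2 * X 0 ^ 4) * d0
    - X 0 ^ 3 * (C s2 ^ 2 * X 1 ^ 2 + C τ ^ 2 * X 1 ^ 3 + C s0 ^ 2 * X 1 ^ 4) * c1
    - X 1 ^ 3 * (C l2 ^ 2 * X 0 ^ 2 + C l0 ^ 2 * X 0 ^ 4) * d1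

end Groth.Agent.S13127
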