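import Groth.Statements.S13128
import Groth.Agent.H25Kum.Auto
import Mathlib.Tactic

set_option autoImplicit false
universe u
open KumFam

namespace Groth.Agent.S13128

open MvPowerSeries in
/-- Let R be a commutative ring of characteristic 2, l0, l2, l4, s0, s2, s4, τ ∈ R with τ a unit, and α,
β ∈ R with l4² α⁴ + l2² α² + τ² α + l0² = 0 and s4² β⁴ + s2² β² + τ² β + s0² = 0. In characteristic
2 these relations give τ² α = (l4 α² + l2 α + l0)² and τ² β = (s4 β² + s2 β + s0)², so α = α′² and β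
= β′² with α′ = (l4 α² + l2 α + l0)/τ and β′ = (s4 β² + s2 β + s0)/τ. In R[[a, b, c]] (a = X 0, b =
X 1, c = X 2) put h = c² + τ² a b + (s4² b⁴ + s2² b²) a + (l4² a⁴ + l2² a²) b + l4² β a⁴ + l2² β a²
+ s4² α b⁴ + s2² α b²; this is the chart equation c² + τ² a b + (s4² b⁴ + s2² b² + s0²) a + (l4² a⁴
+ l2² a² + l0²) b after the substitution a ↦ a + α, b ↦ b + β, c ↦ c + τ α′ β′, which moves the
point (α, β, τ α′ β′) of that surface, where all partial derivatives vanish, to the origin. Then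
some R-algebra automorphism of R[[a, b, c]] maps h to c² + a b; consequently R[[a, b, c]]/(h) ≅
R[[a, b, c]]/(c² + a b), the completed local ring of an ordinary double point, constant over R. (The
published statement translates only a and b, so that its h carries the additional constant term τ² α
β; with that term h is a unit of R[[a, b, c]] whenever τ α β is a unit, for instance c² + a b + 1
over the field with two elements with l0 = s0 = τ = α = β = 1 and l2 = l4 = s2 = s4 = 0, and no ring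
automorphism carries a unit to c² + a b. The published proof begins by shifting c by a polynomial in
a, b whose constant term is τ α′ β′, a substitution of the polynomial ring which removes the term τ²
α β, and the rest of its argument takes place in R[[a, b, c]]; this row states the result for the
fully translated equation, which is what that argument proves.) -/
theorem result (R : Type u) [CommRing R] [CharP R 2]
    (l0 l2 l4 s0 s2 s4 τ α β : R) (hτ : IsUnit τ)
    (hα : l4 ^ 2 * α ^ 4 + l2 ^ 2 * α ^ 2 + τ ^ 2 * α + l0 ^ 2 = 0)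
    (hβ : s4 ^ 2 * β ^ 4 + s2 ^ 2 * β ^ 2 + τ ^ 2 * β + s0 ^ 2 = 0) :
    ∃ φ : MvPowerSeries (Fin 3) R ≃ₐ[R] MvPowerSeries (Fin 3) R,
      φ ((X 2 ^ 2 + C (τ ^ 2) * X 0 * X 1 + (C (s4 ^ 2) * X 1 ^ 4 + C (s2 ^ 2) * X 1 ^ 2) * X 0 +
          (C (l4 ^ 2) * X 0 ^ 4 + C (l2 ^ 2) * X 0 ^ 2) * X 1 + C (l4 ^ 2 * β) * X 0 ^ 4 +
          C (l2 ^ 2 * β) * X 0 ^ 2 + C (s4 ^ 2 * α) * X 1 ^ 4 + C (s2 ^ 2 * α) * X 1 ^ 2 :
          MvPowerSeries (Fin 3) R)) =
        (X 2 ^ 2 + X 0 * X 1 : MvPowerSeries (Fin 3) R) := by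
  have h2 : (2 : R) = 0 := CharTwo.two_eq_zero
  have h2' : (2 : MvPowerSeries (Fin 3) R) = 0 := by
    rw [← map_ofNat (MvPowerSeries.C (σ := Fin 3)) 2, h2, map_zero]
  obtain ⟨t, ht⟩ := hτ.exists_left_inv
  obtain ⟨a', ha'⟩ : ∃ a' : R, a' ^ 2 = α :=
    ⟨t * (l4 * α ^ 2 + l2 * α + l0), by
      linear_combination t ^ 2 * hα + α * (t * τ + 1) * ht +
        (t ^ 2 * (l4 * α ^ 2 * (l2 * α) + l4 * α ^ 2 * l0 + l2 * α * l0) - t ^ 2 * τ ^ 2 * α) * h2⟩
  obtain ⟨b', hb'⟩ : ∃ b' : R, b' ^ 2 = β :=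
    ⟨t * (s4 * β ^ 2 + s2 * β + s0), by
      linear_combination t ^ 2 * hβ + β * (t * τ + 1) * ht +
        (t ^ 2 * (s4 * β ^ 2 * (s2 * β) + s4 * β ^ 2 * s0 + s2 * β * s0) - t ^ 2 * τ ^ 2 * β) * h2⟩
  let W : MvPowerSeries (Fin 3) R := C (τ ^ 2) + X 1 * (C (s4 ^ 2) * X 1 ^ 2 + C (s2 ^ 2)) +
    X 0 * (C (l4 ^ 2) * X 0 ^ 2 + C (l2 ^ 2))
  let P : MvPowerSeries (Fin 3) R := C a' * (C s4 * X 1 ^ 2 + C s2 * X 1) +
    C b' * (C l4 * X 0 ^ 2 + C l2 * X 0)
  have hu : ∀ s, IsUnit (constantCoeff ((![W, 1, 1] : Fin 3 → MvPowerSeries (Fin 3) R) s)) := by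
    intro s
    fin_cases s
    · simp [W, hτ.pow 2]
    · simp
    · simp
  let a : Fin 3 → MvPowerSeries (Fin 3) R := ![X 0, X 1, X 2 + P]
  have ha : MvPowerSeries.HasSubst a := MvPowerSeries.hasSubst_of_constantCoeff_zero fun s => by
    fin_cases s <;> simp [a, P]
  let T := MvPowerSeries.substAlgHom (R := R) ha
  have TX : ∀ s, T (X s) = a s := fun s => by
    simp [T, MvPowerSeries.subst_X ha]
  have TC : ∀ r, T (C r) = C r := Groth.Agent.H25Kum.algHom_C T
  have TT : ∀ f, T (T f) = f := by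
    intro f
    show MvPowerSeries.substAlgHom ha (MvPowerSeries.substAlgHom ha f) = f
    rw [MvPowerSeries.substAlgHom_comp_substAlgHom_apply]
    have : (fun s => MvPowerSeries.substAlgHom (R := R) ha (a s)) = MvPowerSeries.X := by
      funext s
      have e : ∀ x, MvPowerSeries.substAlgHom (R := R) ha x = T x := fun _ => rfl
      rw [e]
      fin_cases s
      · simp [a, TX]
      · simp [a, TX]
      · show T (X 2 + P) = X 2
        have : T P = P := by simp [P, TX, TC, a]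
        rw [map_add, TX, this]
        show X 2 + P + P = X 2
        linear_combination P * h2'
    simp only [MvPowerSeries.substAlgHom_apply] at this ⊢
    rw [this, MvPowerSeries.subst_self]
    rfl
  let E : MvPowerSeries (Fin 3) R ≃ₐ[R] MvPowerSeries (Fin 3) R :=
    AlgEquiv.ofAlgHom T T (AlgHom.ext TT) (AlgHom.ext TT)
  refine ⟨((Groth.Agent.H25Kum.scaleAut hu).trans E).symm, ?_⟩
  rw [AlgEquiv.symm_apply_eq]
  simp only [AlgEquiv.trans_apply, map_add, map_mul, map_pow, Groth.Agent.H25Kum.scaleAut_X hu]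
  simp only [Matrix.cons_val_zero, Matrix.cons_val_one, Matrix.cons_val, mul_one]
  simp only [E, AlgEquiv.ofAlgHom_apply, W, map_add, map_mul, map_pow, map_one, TX, TC, a, P,
    Matrix.cons_val_zero, Matrix.cons_val_one, Matrix.cons_val, one_pow, mul_one]
  have cα : (C α : MvPowerSeries (Fin 3) R) = C a' ^ 2 := by rw [← map_pow, ha']
  have cβ : (C β : MvPowerSeries (Fin 3) R) = C b' ^ 2 := by rw [← map_pow, hb']
  simp only [cα, cβ]
  linear_combination
    (-(C a' * (C s4 * X 1 ^ 2 + C s2 * X 1) * (C b' * (C l4 * X 0 ^ 2 + C l2 * X 0))) -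
      C a' ^ 2 * C s4 * C s2 * X 1 ^ 3 - C b' ^ 2 * C l4 * C l2 * X 0 ^ 3 -
      X 2 * (C a' * (C s4 * X 1 ^ 2 + C s2 * X 1) + C b' * (C l4 * X 0 ^ 2 + C l2 * X 0))) * h2'

end Groth.Agent.S13128
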