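import Groth.Statements.S13129
import Groth.Agent.H10Coh.IntPush
import Groth.Agent.H28Pinch.ContractionUnique
import Groth.Agent.LeadBC.GenBC.AppIsoApps
import Groth.Agent.H25Par.FiniteSupport
import Groth.Agent.H13AlgSp.EtaleLocally

set_option autoImplicit false
universe u
open CategoryTheory CategoryTheory.Limits AlgebraicGeometry TopologicalSpace Opposite
open KumFam

set_option linter.style.haveILetI false
set_option backward.isDefEq.respectTransparency.types false
set_option maxHeartbeats 1000000

namespace Groth.Agent.S13129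

attribute [local instance 10000] H10Coh.hasSheafifyAb H10Coh.hasWeakSheafifyAb H10Coh.hasExtAb H10Coh.enoughInjAb
attribute [local instance] H10Coh.enoughInjMod

/-- A coherent module on a proper scheme supported at one closed point is zero iff its Euler characteristic is. -/
theorem euler_eq_zero_iff_of_point {k : Type u} [Field k] {Y : Scheme.{u}} [Y.Over (Spec (CommRingCat.of k))]
    [IsProper (Y ↘ Spec (CommRingCat.of k))] {M : Y.Modules} (hM : Coh.IsCoh M) {y : Y}
    (hy : IsClosed ({y} : Set Y)) (h : ∀ z, z ≠ y → Subsingleton (M.presheaf.stalk z)) :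
    Curv2.euler k Y M = 0 ↔ IsZero M := by
  refine ⟨fun h0 => ?_, H10Coh.IntPush.euler_of_isZero⟩
  have hfl : H10Coh.Flasque (H10Coh.sh M) :=
    H25Par.flasque_of_finite_support _ (Set.finite_singleton y) (fun z hz => by rw [Set.mem_singleton_iff.1 hz]; exact hy)
      fun z hz => h z hz
  rw [H25Euler.euler_eq_sum M 1 fun p hp => by
    obtain ⟨q, rfl⟩ := Nat.exists_eq_succ_of_ne_zero (show p ≠ 0 by omega)
    exact H22Alg.ESZ.fromM (H10Coh.subsingleton_of_flasque hfl q ⊤)] at h0
  simp only [Finset.range_one, Finset.sum_singleton, pow_zero, one_mul, Nat.cast_eq_zero] at h0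
  haveI : Module.Finite k (Coh.HH Y M 0) := H10Coh.finite_HH_proper k Y M hM 0
  haveI : Subsingleton (Coh.HH Y M 0) := Module.finrank_zero_iff.1 h0
  have hΓ : ∀ s : Γ(M, ⊤), s = 0 := fun s =>
    (H10Coh.HH0Equiv M).symm.injective (Subsingleton.elim _ _)
  refine H17.FPExt.isZero_of_stalk _ fun z => subsingleton_of_forall_eq 0 fun t => ?_
  obtain ⟨V, hzV, s, rfl⟩ := TopCat.Presheaf.exists_germ_eq M.presheaf t
  obtain ⟨g, hg⟩ := hfl (le_top : V ≤ ⊤) s
  obtain rfl : g = 0 := hΓ g
  rw [map_zero] at hg
  rw [← hg]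
  exact map_zero _

/-- Let k be an algebraically closed field, Y a proper normal surface over k (irreducible of dimension 2
with integrally closed local domains), X a proper smooth surface over k, and π : X → Y a k-morphism
which restricts to an isomorphism over Y minus a closed point y and whose fibre over y is
one-dimensional (a resolution of the singularity (Y, y)). Then R¹π_* O_X = 0 (first higher direct
image of the underlying abelian sheaf) if and only if χ(X, O_X) = χ(Y, O_Y). -/
theorem result (k : Type u) [Field k] [IsAlgClosed k]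
    (X Y : Scheme.{u}) [X.Over (Spec (CommRingCat.of k))] [Y.Over (Spec (CommRingCat.of k))]
    [IsProper (X ↘ Spec (CommRingCat.of k))] [IsProper (Y ↘ Spec (CommRingCat.of k))]
    [IrreducibleSpace X] [IrreducibleSpace Y] (hdX : topologicalKrullDim X = 2)
    (hdY : topologicalKrullDim Y = 2) [Smooth (X ↘ Spec (CommRingCat.of k))]
    (hYn : Pi1.IsNormalScheme Y) (π : X ⟶ Y) [π.IsOver (Spec (CommRingCat.of k))]
    (y : Y) (hy : IsClosed ({y} : Set Y))
    (hiso : IsIso (π ∣_ (⟨({y} : Set Y)ᶜ, hy.isOpen_compl⟩ : Y.Opens)))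
    (hfib : topologicalKrullDim ((fun x : X => π.base x) ⁻¹' ({y} : Set Y)) = 1) :
    IsZero ((Coh.RpushAb π 1).obj (Coh.toAb (Coh.structureModule X))) ↔
      Curv2.euler k X (Coh.structureModule X) = Curv2.euler k Y (Coh.structureModule Y) := by
  have hπ : π ≫ (Y ↘ Spec (CommRingCat.of k)) = X ↘ Spec (CommRingCat.of k) := comp_over π _
  haveI : IsProper (π ≫ (Y ↘ Spec (CommRingCat.of k))) := by rw [hπ]; infer_instance
  haveI : IsProper π := IsProper.of_comp π (Y ↘ Spec (CommRingCat.of k))
  haveI : IsLocallyNoetherian Y := LocallyOfFiniteType.isLocallyNoetherian (Y ↘ Spec (CommRingCat.of k))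
  haveI : IsReduced X := H13AlgSp.isReduced_of_smooth_mor (X ↘ Spec (CommRingCat.of k))
  haveI : IsIntegral X := isIntegral_of_irreducibleSpace_of_isReduced X
  haveI : ∀ z : Y, _root_.IsReduced (Y.presheaf.stalk z) := fun z => haveI := (hYn z).1; inferInstance
  haveI : IsReduced Y := isReduced_of_isReduced_stalk Y
  haveI : IsIntegral Y := isIntegral_of_irreducibleSpace_of_isReduced Y
  let U : Y.Opens := ⟨({y} : Set Y)ᶜ, hy.isOpen_compl⟩
  haveI : IsIso (π ∣_ U) := hiso
  -- birationality
  have hηU : genericPoint Y ∈ U := by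
    refine ((genericPoint_spec Y).mem_open_set_iff U.2).2 ?_
    by_contra hne
    have hall : ∀ z : Y, z = y := fun z => by
      by_contra hz
      exact hne ⟨z, trivial, hz⟩
    have h0 : topologicalKrullDim Y ≤ ((0 : ℕ) : WithBot ℕ∞) :=
      H10Coh.IntPush.dim_le_zero fun a b _ => (hall a).trans (hall b).symm
    rw [hdY] at h0
    exact absurd h0 (by decide)
  obtain ⟨w, hw⟩ := (π ∣_ U).homeomorph.surjective ⟨_, hηU⟩
  have hw' : π w.1 = genericPoint Y := (congr($(morphismRestrict_ι π U) w)).symm.trans (congrArg U.ι hw)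
  have hξ : π (genericPoint X) = genericPoint Y := by
    refine (((genericPoint_spec Y).specializes trivial).antisymm ?_).eq.symm
    rw [← hw']
    exact ((genericPoint_spec X).specializes trivial).map π.continuous
  have hbir : Function.Bijective (π.stalkMap (genericPoint X)) := by
    have hpre : genericPoint X ∈ π ⁻¹ᵁ U := by
      show π (genericPoint X) ∈ U
      rw [hξ]; exact hηU
    haveI : IsIso (π.stalkMap (genericPoint X)) :=
      ((MorphismProperty.isomorphisms CommRingCat).arrow_mk_iso_iff
        (morphismRestrictStalkMap π U ⟨genericPoint X, hpre⟩)).1 (inferInstanceAs (IsIso _))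
    exact ConcreteCategory.bijective_of_isIso _
  -- fibres
  have hone : ∀ z : Y, z ≠ y → ∀ a b : X, π a = z → π b = z → a = b := fun z hz a b ha hb => by
    have hinj := (π ∣_ U).homeomorph.injective
    have ha' : a ∈ π ⁻¹ᵁ U := show π a ∈ U by rw [ha]; exact hz
    have hb' : b ∈ π ⁻¹ᵁ U := show π b ∈ U by rw [hb]; exact hz
    refine congrArg Subtype.val (@hinj ⟨a, ha'⟩ ⟨b, hb'⟩ ?_)
    apply U.ι.isOpenEmbedding.injective
    exact (congr($(morphismRestrict_ι π U) ⟨a, ha'⟩)).trans ((ha.trans hb.symm).trans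
      (congr($(morphismRestrict_ι π U) ⟨b, hb'⟩)).symm)
  have hd : ∀ z : Y, topologicalKrullDim ↥(π.fiber z) ≤ ((1 : ℕ) : WithBot ℕ∞) := fun z => by
    by_cases hz : z = y
    · subst hz
      rw [(π.fiberHomeo z).isHomeomorph.topologicalKrullDim_eq, Nat.cast_one]
      exact hfib.le
    · exact (H10Coh.IntPush.dim_le_zero fun a b _ => (π.fiberHomeo z).injective (Subtype.ext
        (hone z hz _ _ (π.fiberHomeo z a).2 (π.fiberHomeo z b).2))).trans (by norm_num)
  let O := Coh.structureModule X
  haveI : O.IsQuasicoherent := (H10Coh.isCoh_structureModule' X).1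
  haveI : Coh.IsQCoh O := (H10Coh.isCoh_structureModule' X).1
  haveI : (Scheme.Modules.pushforward π).IsRightAdjoint :=
    (Scheme.Modules.pullbackPushforwardAdjunction π).isRightAdjoint
  haveI : PreservesFiniteLimits (Scheme.Modules.pushforward π) := inferInstance
  have hO : Coh.IsCoh O := H10Coh.isCoh_structureModule' X
  have h2 : ∀ i, 2 ≤ i → IsZero ((Coh.Rpush π i).obj O) := fun i hi => by
    have h : IsZero (Coh.toAb ((Coh.Rpush π i).obj O)) :=
      (H7Flat.CohDim.isZero_rpushAb π 1 hd O i (by omega)).of_iso (H10Coh.nonempty_toAb_rpush π O i).some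
    rw [IsZero.iff_id_eq_zero]
    exact (H10Coh.shF Y).map_injective (h.eq_of_src _ _)
  have e₀ : (Coh.Rpush π 0).obj O ≅ Coh.structureModule Y := by
    haveI := LeadBC.GenBC.isIso_unitToPush_of_app π fun V =>
      (ConcreteCategory.isIso_iff_bijective _).2 (H28Pinch.bijective_app_of_birational π hYn hξ hbir V)
    exact (Scheme.Modules.pushforward π).rightDerivedZeroIsoSelf.app O ≪≫ (asIso (ClSub.unitToPush π)).symm
  have hR : Coh.IsCoh ((Coh.Rpush π 1).obj O) := H10Coh.isCoh_rpush π O hO 1
  have hsupp : ∀ z, z ≠ y → Subsingleton (((Coh.Rpush π 1).obj O).presheaf.stalk z) := fun z hz =>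
    H10Coh.IntPush.subsingleton_stalk π hO z (fun a _ b _ ha hb _ => hone z hz a b ha hb) 0
  have hE : Curv2.euler k X O = Curv2.euler k Y (Coh.structureModule Y) -
      Curv2.euler k Y ((Coh.Rpush π 1).obj O) := by
    rw [H10Coh.EulerLeray.euler_eq π hπ O hO, finsum_eq_sum_of_support_subset
      (fun i : ℕ => (-1 : ℤ) ^ i * Curv2.euler k Y ((Coh.Rpush π i).obj O)) (s := Finset.range 2) fun i hi => ?_,
      Finset.sum_range_succ, Finset.sum_range_one, H25Euler.euler_congr e₀]
    · ring
    · by_contra h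
      exact hi (by
        show _ * _ = (0 : ℤ)
        rw [H10Coh.IntPush.euler_of_isZero (h2 i (by simp at h; omega)), mul_zero])
  have hiff : IsZero ((Coh.RpushAb π 1).obj (Coh.toAb O)) ↔ IsZero ((Coh.Rpush π 1).obj O) := by
    obtain ⟨e⟩ := H10Coh.nonempty_toAb_rpush π O 1
    refine ⟨fun h => ?_, fun h => ((H10Coh.shF Y).map_isZero h).of_iso e.symm⟩
    rw [IsZero.iff_id_eq_zero]
    exact (H10Coh.shF Y).map_injective ((h.of_iso e).eq_of_src _ _)
  rw [hiff, ← euler_eq_zero_iff_of_point (k := k) hR hy hsupp, hE]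
  constructor <;> intro h <;> linarith

end Groth.Agent.S13129
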