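import Groth.Statements.S13130
import Mathlib.RingTheory.IntegralClosure.IsIntegralClosure.Basic
import Mathlib.Tactic

set_option autoImplicit false
universe u v
open KumFam

namespace Groth.Agent.S13130

/-- Let R be a nontrivial commutative ring and M a commutative group, with group algebra R[M], the
coordinate ring of the diagonalizable group scheme D(M) over Spec R. Then D(M) is integral over Spec
R, i.e. R[M] is an integral R-algebra, if and only if M is a torsion group. (The published statement
is over an arbitrary base scheme; the question is local and this row is the affine form, with R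
nontrivial so that the elements of M are R-linearly independent.) -/
theorem result (R : Type u) [CommRing R] [Nontrivial R]
    (M : Type v) [CommGroup M] :
    Algebra.IsIntegral R (MonoidAlgebra R M) ↔ IsMulTorsion M := by
  constructor
  · intro hint g
    by_contra hg
    obtain ⟨p, hp, hp0⟩ := hint.isIntegral (MonoidAlgebra.of R M g)
    rw [← Polynomial.aeval_def, Polynomial.aeval_eq_sum_range] at hp0
    have hinj : Function.Injective fun i : ℕ => g ^ i := injective_pow_iff_not_isOfFinOrder.mpr hg
    have := congrArg (fun q : MonoidAlgebra R M => q.coeff (g ^ p.natDegree)) hp0
    simp only [MonoidAlgebra.of_apply, MonoidAlgebra.single_pow, one_pow, MonoidAlgebra.coeff_sum, Finsupp.coe_finsetSum, Finset.sum_apply,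
      MonoidAlgebra.smul_single', MonoidAlgebra.coeff_single, mul_one, MonoidAlgebra.coeff_zero, Finsupp.coe_zero, Pi.zero_apply] at this
    rw [Finset.sum_eq_single p.natDegree] at this
    · simp [hp.coeff_natDegree] at this
    · intro b _ hb
      apply Finsupp.single_eq_of_ne; exact fun h => hb (hinj h).symm
    · simp
  · intro ht
    refine ⟨fun x => ?_⟩
    induction x using MonoidAlgebra.induction_on with
    | of g =>
      obtain ⟨n, hn, hgn⟩ := isOfFinOrder_iff_pow_eq_one.mp (ht g)
      exact IsIntegral.of_pow hn (by rw [← map_pow, hgn, map_one]; exact isIntegral_one)
    | add a b ha hb => exact ha.add hb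
    | smul c a ha => exact ha.smul c

end Groth.Agent.S13130
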