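import Groth.Statements.S13131
import Mathlib.AlgebraicGeometry.Limits
import Mathlib.Tactic

set_option autoImplicit false
universe u
open CategoryTheory CategoryTheory.Limits AlgebraicGeometry
open KumFam

namespace Groth.Agent.S13131

/-- Let S be a scheme, M a set and p : T → S a scheme over S. The S-morphisms T → ∐_{m ∈ M} S (the
constant S-scheme on M, with its structure map the codiagonal) are in bijection with the locally
constant maps T → M, a morphism f corresponding to the function sending t to the index of the copy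
of S containing f(t). (In the published statement M is a group and ∐_M S the constant group scheme;
the group structures play no role in this description of T-points.) -/
theorem result (S : Scheme.{u}) (M : Type u)
    (T : Scheme.{u}) (p : T ⟶ S) :
    ∃ e : {f : T ⟶ ∐ (fun _ : M => S) // f ≫ Sigma.desc (fun _ : M => 𝟙 S) = p} ≃
        LocallyConstant T M,
      ∀ (f : {f : T ⟶ ∐ (fun _ : M => S) // f ≫ Sigma.desc (fun _ : M => 𝟙 S) = p}) (t : T),
        e f t = ((sigmaMk (fun _ : M => S)).symm (f.1.base t)).1 := by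
  classical
  let idx : {f : T ⟶ ∐ (fun _ : M => S) // f ≫ Sigma.desc (fun _ : M => 𝟙 S) = p} → T → M :=
    fun f t => ((sigmaMk (fun _ : M => S)).symm (f.1.base t)).1
  have hfib : ∀ f m, idx f ⁻¹' {m} = f.1.base ⁻¹' Set.range (Sigma.ι (fun _ : M => S) m).base := by
    intro f m
    ext t
    simp only [Set.mem_preimage, Set.mem_singleton_iff, Set.mem_range, idx]
    constructor
    · intro h
      refine ⟨((sigmaMk (fun _ : M => S)).symm (f.1.base t)).2, ?_⟩
      subst h
      rw [← sigmaMk_mk]
      exact (sigmaMk (fun _ : M => S)).apply_symm_apply _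
    · rintro ⟨s, hs⟩
      rw [← hs, ← sigmaMk_mk, Homeomorph.symm_apply_apply]
  let toLC : {f : T ⟶ ∐ (fun _ : M => S) // f ≫ Sigma.desc (fun _ : M => 𝟙 S) = p} → LocallyConstant T M :=
    fun f => ⟨idx f, (IsLocallyConstant.iff_isOpen_fiber).mpr fun m => by
      rw [hfib]; exact (Sigma.ι (fun _ : M => S) m).isOpenEmbedding.isOpen_range.preimage f.1.base.hom.continuous⟩
  let U : LocallyConstant T M → M → T.Opens := fun g m => ⟨g ⁻¹' {m}, g.isLocallyConstant.isOpen_fiber m⟩
  have hbij : Function.Bijective toLC := by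
    constructor
    · intro f f' h
      apply Subtype.ext
      have hidx : idx f = idx f' := congrArg DFunLike.coe h
      refine Scheme.Cover.hom_ext (T.openCoverOfIsOpenCover (U (toLC f)) ?_) _ _ fun m => ?_
      · exact TopologicalSpace.Opens.ext (Set.eq_univ_of_forall fun t => TopologicalSpace.Opens.mem_iSup.mpr ⟨idx f t, rfl⟩) |> fun h => h
      · show (U (toLC f) m).ι ≫ f.1 = (U (toLC f) m).ι ≫ f'.1
        have key : ∀ e : {f : T ⟶ ∐ (fun _ : M => S) // f ≫ Sigma.desc (fun _ : M => 𝟙 S) = p}, idx e = idx f →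
            (U (toLC f) m).ι ≫ e.1 = ((U (toLC f) m).ι ≫ p) ≫ Sigma.ι (fun _ : M => S) m := by
          intro e he
          have hr : Set.range ((U (toLC f) m).ι ≫ e.1).base ⊆ Set.range (Sigma.ι (fun _ : M => S) m).base := by
            rintro _ ⟨t, rfl⟩
            have : ((U (toLC f) m).ι.base t) ∈ idx e ⁻¹' {m} := by rw [he]; exact t.2
            exact (Set.ext_iff.mp (hfib e m) _).mp this
          have h1 := IsOpenImmersion.lift_fac (Sigma.ι (fun _ : M => S) m) _ hr
          have h2 : IsOpenImmersion.lift (Sigma.ι (fun _ : M => S) m) _ hr = (U (toLC f) m).ι ≫ p := by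
            have := congrArg (fun q => q ≫ Sigma.desc (fun _ : M => 𝟙 S)) h1
            simp only [Category.assoc, Sigma.ι_desc, Category.comp_id, e.2] at this
            exact this
          rw [← h1, h2]
        rw [key f rfl, key f' hidx.symm]
    · intro g
      have hU : TopologicalSpace.IsOpenCover (U g) := TopologicalSpace.Opens.ext (Set.eq_univ_of_forall fun t => TopologicalSpace.Opens.mem_iSup.mpr ⟨g t, rfl⟩)
      let 𝒰 := T.openCoverOfIsOpenCover (U g) hU
      let F : ∀ m, 𝒰.X m ⟶ ∐ (fun _ : M => S) := fun m => ((U g m).ι ≫ p) ≫ Sigma.ι (fun _ : M => S) m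
      have hF : ∀ a b, pullback.fst (𝒰.f a) (𝒰.f b) ≫ F a = pullback.snd (𝒰.f a) (𝒰.f b) ≫ F b := by
        intro a b
        by_cases hab : a = b
        · subst hab
          have : pullback.fst (𝒰.f a) (𝒰.f a) = pullback.snd (𝒰.f a) (𝒰.f a) := (cancel_mono (𝒰.f a)).mp pullback.condition
          rw [this]
        · have : IsEmpty ↥(pullback (𝒰.f a) (𝒰.f b)) := ⟨fun z => hab (by
            have h1 : (U g a).ι.base ((pullback.fst (𝒰.f a) (𝒰.f b)).base z) = (U g b).ι.base ((pullback.snd (𝒰.f a) (𝒰.f b)).base z) := by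
              have := congrArg (fun q => q.base z) (pullback.condition (f := 𝒰.f a) (g := 𝒰.f b))
              simp only [Scheme.Hom.comp_apply] at this
              exact this
            have ha : g ((U g a).ι.base ((pullback.fst (𝒰.f a) (𝒰.f b)).base z)) = a := ((pullback.fst (𝒰.f a) (𝒰.f b)).base z).2
            have hb : g ((U g b).ι.base ((pullback.snd (𝒰.f a) (𝒰.f b)).base z)) = b := ((pullback.snd (𝒰.f a) (𝒰.f b)).base z).2
            exact ha.symm.trans ((congrArg g h1).trans hb))⟩
          exact isInitialOfIsEmpty.hom_ext _ _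
      refine ⟨⟨𝒰.glueMorphisms F hF, ?_⟩, ?_⟩
      · refine Scheme.Cover.hom_ext 𝒰 _ _ fun m => ?_
        rw [Scheme.Cover.ι_glueMorphisms_assoc]
        simp only [F, Category.assoc, Sigma.ι_desc, Category.comp_id]
        rfl
      · refine LocallyConstant.ext fun t => ?_
        let t' : ↥(U g (g t)) := ⟨t, rfl⟩
        have h := congrArg (fun q : 𝒰.X (g t) ⟶ _ => q.base t') (Scheme.Cover.ι_glueMorphisms 𝒰 F hF (g t))
        simp only [Scheme.Hom.comp_apply, F] at h
        show ((sigmaMk (fun _ : M => S)).symm ((𝒰.glueMorphisms F hF).base t)).1 = g t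
        have h2 : (𝒰.glueMorphisms F hF).base t = (Sigma.ι (fun _ : M => S) (g t)).base (p.base t) := h
        rw [h2, ← sigmaMk_mk, Homeomorph.symm_apply_apply]
  exact ⟨Equiv.ofBijective toLC hbij, fun f t => rfl⟩

end Groth.Agent.S13131
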