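import Groth.Statements.S15130
import Groth.Agent.H3CAlg.ArtinFlat

set_option autoImplicit false
universe u v
open CAlg

namespace Groth.Agent.S15130

/-- Let A be an Artinian local ring with residue field k and P → Q → R → M → 0 a complex of A-modules
with P, Q, R flat which is exact at R and at M. If the reduced complex k ⊗ P → k ⊗ Q → k ⊗ R is
exact (the rest of the reduced sequence is then automatically exact), then M is flat and the
original complex is exact at Q as well. (The published statement is for local Artinian algebras over
an algebraically closed field of characteristic zero having that field as residue field; this row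
allows any Artinian local ring.) -/
theorem result
    (A : Type u) [CommRing A] [IsLocalRing A] [IsArtinianRing A]
    (P Q R M : Type v) [AddCommGroup P] [Module A P] [AddCommGroup Q] [Module A Q]
    [AddCommGroup R] [Module A R] [AddCommGroup M] [Module A M]
    [Module.Flat A P] [Module.Flat A Q] [Module.Flat A R]
    (f : P →ₗ[A] Q) (g : Q →ₗ[A] R) (h : R →ₗ[A] M)
    (hfg : g ∘ₗ f = 0) (hgh : Function.Exact g h) (hh : Function.Surjective h)
    (hred : Function.Exact (f.lTensor (IsLocalRing.ResidueField A)) (g.lTensor (IsLocalRing.ResidueField A))) :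
    Module.Flat A M ∧ Function.Exact f g := by
  let gb : (Q ⧸ LinearMap.range f) →ₗ[A] R := (LinearMap.range f).liftQ g (by
    rintro _ ⟨x, rfl⟩; exact LinearMap.congr_fun hfg x)
  have hgb : ∀ y, gb (Submodule.Quotient.mk y) = g y := fun y => rfl
  have hi : Function.Injective (gb.lTensor (IsLocalRing.ResidueField A)) := by
    rw [injective_iff_map_eq_zero]
    intro z hz
    obtain ⟨y, rfl⟩ := LinearMap.lTensor_surjective (IsLocalRing.ResidueField A) (Submodule.mkQ_surjective (LinearMap.range f)) z
    rw [← LinearMap.comp_apply, ← LinearMap.lTensor_comp, show gb ∘ₗ (LinearMap.range f).mkQ = g from rfl] at hz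
    obtain ⟨x, rfl⟩ := (hred y).mp hz
    rw [← LinearMap.comp_apply, ← LinearMap.lTensor_comp, LinearMap.range_mkQ_comp, LinearMap.lTensor_zero]
    rfl
  obtain ⟨⟨r, hr⟩, -⟩ := Groth.Agent.H3CAlg.exists_leftInverse_and_flat gb hi
  have hr' : ∀ c, r (gb c) = c := fun c => LinearMap.congr_fun hr c
  constructor
  · let t : R →ₗ[A] R := LinearMap.id - gb.comp r
    have ht : LinearMap.ker h ≤ LinearMap.ker t := by
      intro y hy
      obtain ⟨q, rfl⟩ := (hgh y).mp hy
      simp [t, ← hgb, hr']
    let s : M →ₗ[A] R := ((LinearMap.ker h).liftQ t ht).comp (h.quotKerEquivOfSurjective hh).symm.toLinearMap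
    refine Module.Flat.of_retract s h (LinearMap.ext fun p => ?_)
    obtain ⟨y, rfl⟩ := hh p
    have h1 : (h.quotKerEquivOfSurjective hh).symm (h y) = Submodule.Quotient.mk y := by
      rw [LinearEquiv.symm_apply_eq]; rfl
    obtain ⟨q, hq⟩ := Submodule.Quotient.mk_surjective _ (r y)
    simp [s, h1, t, ← hq, hgb, hgh.apply_apply_eq_zero]
  · intro y
    refine ⟨fun hy => ?_, ?_⟩
    · have : gb (Submodule.Quotient.mk y) = gb 0 := by rw [hgb, hy, map_zero]
      have h2 := congrArg r this
      rw [hr', hr', Submodule.Quotient.mk_eq_zero] at h2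
      exact h2
    · rintro ⟨x, rfl⟩; exact LinearMap.congr_fun hfg x

end Groth.Agent.S15130
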