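import Groth.Statements.S13132
import Groth.Agent.H3CAlg.ArtinRegular
import Groth.Agent.S15130
import Mathlib.Algebra.Category.ModuleCat.Monoidal.Basic
import Mathlib.Algebra.Homology.ShortComplex.HomologicalComplex
import Mathlib.Algebra.Homology.ShortComplex.ModuleCat
import Mathlib.RingTheory.Flat.FaithfullyFlat.Basic
import Mathlib.RingTheory.MvPolynomial.IrreducibleQuadratic

set_option autoImplicit false
universe u v
open CAlg

namespace Groth.Agent.S13132

/-- Let A' be an Artinian local ring, I a proper ideal of A' and S' a flat A'-algebra. An element f' of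
S' is a non-zero-divisor exactly when its image in S'/IS' is one; and when f' is a non-zero-divisor,
the quotient S'/(f') is flat over A'. (The published statement is for local Artinian algebras with a
fixed residue field over a ring of Witt vectors and a surjection between two of them; the argument
uses only that A' is Artinian local and I is a proper ideal, which is the form taken here.) -/
theorem result
    {A' : Type u} [CommRing A'] [IsArtinianRing A'] [IsLocalRing A'] (I : Ideal A') (hI : I ≠ ⊤)
    {S' : Type v} [CommRing S'] [Algebra A' S'] [Module.Flat A' S'] (f' : S') :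
    (f' ∈ nonZeroDivisors S' ↔
      Ideal.Quotient.mk (I.map (algebraMap A' S')) f' ∈ nonZeroDivisors (S' ⧸ I.map (algebraMap A' S'))) ∧
    (f' ∈ nonZeroDivisors S' → Module.Flat A' (S' ⧸ Ideal.span {f'})) := by
  set J := I.map (algebraMap A' S')
  have h1 : f' ∈ nonZeroDivisors S' ↔ IsSMulRegular S' f' := by
    rw [isSMulRegular_iff_right_eq_zero_of_smul, mem_nonZeroDivisors_iff_left]; rfl
  have h2 : Ideal.Quotient.mk J f' ∈ nonZeroDivisors (S' ⧸ J) ↔ IsSMulRegular (S' ⧸ (J • ⊤ : Submodule S' S')) f' := by
    rw [(Submodule.quotEquivOfEq (J • ⊤ : Submodule S' S') J (by simp)).isSMulRegular_congr f',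
      isSMulRegular_iff_right_eq_zero_of_smul, mem_nonZeroDivisors_iff_left]
    rfl
  refine ⟨?_, fun hf => ?_⟩
  · rw [h1, h2]
    exact Groth.Agent.H3CAlg.isSMulRegular_quotient_iff I S' hI f'
  · have := Groth.Agent.H3CAlg.flat_quotSMulTop (A := A') S' f' (h1.mp hf)
    have e : QuotSMulTop f' S' ≃ₗ[S'] S' ⧸ Ideal.span {f'} :=
      Submodule.quotEquivOfEq _ _ (by rw [← Submodule.ideal_span_singleton_smul]; simp)
    exact Module.Flat.of_linearEquiv (e.restrictScalars A').symm

end Groth.Agent.S13132
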