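import Groth.Statements.S13133
import Groth.Agent.H3CAlg.ArtinRegular
import Groth.Agent.S15130
import Mathlib.Algebra.Category.ModuleCat.Monoidal.Basic
import Mathlib.Algebra.Homology.ShortComplex.HomologicalComplex
import Mathlib.Algebra.Homology.ShortComplex.ModuleCat
import Mathlib.RingTheory.Flat.FaithfullyFlat.Basic
import Mathlib.RingTheory.MvPolynomial.IrreducibleQuadratic

set_option autoImplicit false
universe u v
open CAlg

namespace Groth.Agent.S13133

/-- Let A' be an Artinian local ring, I a proper ideal of A', S' a flat A'-algebra and f'_1, …, f'_n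
elements of S' with n ≥ 1. A family f'_1, …, f'_n in S' is a regular sequence exactly when its
reduction modulo I·S' is a regular sequence of S'/IS'. (Regular sequences are defined in the
published text over Noetherian rings; this row does not assume S' Noetherian, which the argument
does not use. The published statement is for a surjection of local Artinian algebras with a fixed
residue field over a ring of Witt vectors; only the Artinian local base and the proper ideal are
used, which is the form taken here.) -/
theorem result
    {A' : Type u} [CommRing A'] [IsArtinianRing A'] [IsLocalRing A'] (I : Ideal A') (hI : I ≠ ⊤)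
    {S' : Type v} [CommRing S'] [Algebra A' S'] [Module.Flat A' S'] {n : ℕ} (hn : 1 ≤ n)
    (f' : Fin n → S') :
    RingTheory.Sequence.IsRegular S' (List.ofFn f') ↔
      RingTheory.Sequence.IsRegular (S' ⧸ I.map (algebraMap A' S'))
        (List.ofFn fun i => Ideal.Quotient.mk (I.map (algebraMap A' S')) (f' i)) := by
  set J := I.map (algebraMap A' S') with hJ
  set rs := List.ofFn f'
  have hl : (List.ofFn fun i => Ideal.Quotient.mk J (f' i)) = rs.map (algebraMap S' (S' ⧸ J)) := by
    rw [List.map_ofFn]; rfl
  obtain ⟨N, hN⟩ := Groth.Agent.H3CAlg.isNilpotent_maximalIdeal (A := A')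
  have hJN : IsNilpotent J := by
    refine ⟨N, ?_⟩
    have : I ^ N ≤ IsLocalRing.maximalIdeal A' ^ N := Ideal.pow_right_mono (IsLocalRing.le_maximalIdeal hI) N
    rw [hN, Ideal.zero_eq_bot, le_bot_iff] at this
    rw [hJ, ← Ideal.map_pow, this, Ideal.map_bot]; rfl
  rw [hl, RingTheory.Sequence.isRegular_iff, RingTheory.Sequence.isRegular_iff,
    RingTheory.Sequence.isWeaklyRegular_map_algebraMap_iff,
    (Groth.Agent.H3CAlg.isWeaklyRegular_iff_and_flat I hI rs S').1,
    (Submodule.quotEquivOfEq (J • ⊤ : Submodule S' S') J (by simp)).isWeaklyRegular_congr]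
  refine and_congr_right fun _ => not_congr ?_
  rw [eq_comm, eq_comm (a := (⊤ : Submodule (S' ⧸ J) (S' ⧸ J))), smul_eq_mul, Ideal.mul_top, smul_eq_mul, Ideal.mul_top,
    ← Ideal.map_ofList]
  constructor
  · intro h; rw [h, Ideal.map_top]
  · intro h
    have h2 : Ideal.ofList rs ⊔ J = ⊤ := by
      have := congrArg (Ideal.comap (algebraMap S' (S' ⧸ J))) h
      rwa [Ideal.Quotient.algebraMap_eq, Ideal.comap_map_of_surjective _ Ideal.Quotient.mk_surjective, Ideal.comap_top, ← RingHom.ker_eq_comap_bot, Ideal.mk_ker] at this
    obtain ⟨M, hM⟩ := hJN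
    have h3 := Ideal.sup_pow_eq_top (n := M) h2
    rwa [hM, Ideal.zero_eq_bot, sup_bot_eq] at h3

end Groth.Agent.S13133
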