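import Groth.Statements.S13134
import Groth.Agent.H3CAlg.ArtinRegular
import Groth.Agent.S15130
import Mathlib.Algebra.Category.ModuleCat.Monoidal.Basic
import Mathlib.Algebra.Homology.ShortComplex.HomologicalComplex
import Mathlib.Algebra.Homology.ShortComplex.ModuleCat
import Mathlib.RingTheory.Flat.FaithfullyFlat.Basic
import Mathlib.RingTheory.MvPolynomial.IrreducibleQuadratic

set_option autoImplicit false
universe u v
open CAlg

namespace Groth.Agent.S13134

/-- Let A' be an Artinian local ring, I a proper ideal, A = A'/I and f_1, …, f_m ∈ A[x_1, …, x_n]. Every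
flat A'-algebra B' equipped with a surjection π onto A[x]/(f_1, …, f_m) with kernel I·B', compatible
with A' → A, is a quotient of A'[x_1, …, x_n] by the ideal generated by some lifts f'_1, …, f'_m of
the f_i, compatibly with π and with reduction of polynomials modulo I. (The published statement is
for a surjection of local Artinian algebras with a fixed residue field over a ring of Witt vectors;
only the Artinian local base and the proper ideal are used, which is the form taken here.) -/
theorem result
    {A' : Type u} [CommRing A'] [IsArtinianRing A'] [IsLocalRing A'] (I : Ideal A') (hI : I ≠ ⊤)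
    {n m : ℕ} (f : Fin m → MvPolynomial (Fin n) (A' ⧸ I))
    {B' : Type v} [CommRing B'] [Algebra A' B'] [Module.Flat A' B']
    (π : B' →+* MvPolynomial (Fin n) (A' ⧸ I) ⧸ Ideal.span (Set.range f))
    (hπ : Function.Surjective π) (hker : RingHom.ker π = I.map (algebraMap A' B'))
    (hcomp : π.comp (algebraMap A' B') =
      ((Ideal.Quotient.mk (Ideal.span (Set.range f))).comp MvPolynomial.C).comp (Ideal.Quotient.mk I)) :
    ∃ (f' : Fin m → MvPolynomial (Fin n) A') (ψ : MvPolynomial (Fin n) A' →ₐ[A'] B'),
      (∀ i, MvPolynomial.map (Ideal.Quotient.mk I) (f' i) = f i) ∧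
      Function.Surjective ψ ∧ RingHom.ker ψ.toRingHom = Ideal.span (Set.range f') ∧
      ∀ q, π (ψ q) = Ideal.Quotient.mk (Ideal.span (Set.range f)) (MvPolynomial.map (Ideal.Quotient.mk I) q) := by
  set P := MvPolynomial (Fin n) A'
  have hIn : IsNilpotent I := by
    obtain ⟨N, hN⟩ := Groth.Agent.H3CAlg.isNilpotent_maximalIdeal (A := A')
    refine ⟨N, ?_⟩
    have : I ^ N ≤ IsLocalRing.maximalIdeal A' ^ N := Ideal.pow_right_mono (IsLocalRing.le_maximalIdeal hI) N
    rw [hN, Ideal.zero_eq_bot, le_bot_iff] at this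
    exact this
  choose b hb using fun i => hπ (Ideal.Quotient.mk _ (MvPolynomial.X i))
  let ψ : P →ₐ[A'] B' := MvPolynomial.aeval b
  let mp : P →+* MvPolynomial (Fin n) (A' ⧸ I) := MvPolynomial.map (Ideal.Quotient.mk I)
  have hcompat : ∀ q, π (ψ q) = Ideal.Quotient.mk (Ideal.span (Set.range f)) (mp q) := by
    intro q
    induction q using MvPolynomial.induction_on with
    | C a =>
      change π (MvPolynomial.aeval b (MvPolynomial.C a)) = Ideal.Quotient.mk _ (MvPolynomial.map (Ideal.Quotient.mk I) (MvPolynomial.C a))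
      rw [MvPolynomial.aeval_C, MvPolynomial.map_C]
      exact RingHom.congr_fun hcomp a
    | add p q hp hq => rw [map_add, map_add, hp, hq, map_add mp, map_add]
    | mul_X p i hp => rw [map_mul, map_mul, hp, map_mul mp, map_mul, MvPolynomial.aeval_X, hb, MvPolynomial.map_X]
  have hmps : Function.Surjective mp := MvPolynomial.map_surjective _ Ideal.Quotient.mk_surjective
  have hmem : ∀ x : B', x ∈ (I • ⊤ : Submodule A' B') ↔ π x = 0 := fun x => by
    rw [Ideal.smul_top_eq_map, Submodule.restrictScalars_mem, ← hker]; rfl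
  have hψs : Function.Surjective ψ := by
    have : LinearMap.range ψ.toLinearMap ⊔ (I • ⊤ : Submodule A' B') = ⊤ := by
      refine eq_top_iff.mpr fun x _ => ?_
      obtain ⟨q0, hq0⟩ := Ideal.Quotient.mk_surjective (π x)
      obtain ⟨q, rfl⟩ := hmps q0
      exact Submodule.mem_sup.mpr ⟨ψ q, ⟨q, rfl⟩, x - ψ q, (hmem _).mpr (by rw [map_sub, hcompat, hq0, sub_self]), by abel⟩
    refine Groth.Agent.H3CAlg.surjective_of_lTensor_quot I hIn ψ.toLinearMap ?_
    intro z
    obtain ⟨x, rfl⟩ := TensorProduct.mk_surjective A' B' (A' ⧸ I) Ideal.Quotient.mk_surjective z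
    obtain ⟨y, ⟨q, rfl⟩, w, hw, hyw⟩ := Submodule.mem_sup.mp (show x ∈ LinearMap.range ψ.toLinearMap ⊔ (I • ⊤ : Submodule A' B') by rw [this]; trivial)
    refine ⟨(1 : A' ⧸ I) ⊗ₜ q, (TensorProduct.quotTensorEquivQuotSMul B' I).injective ?_⟩
    rw [LinearMap.lTensor_tmul, TensorProduct.mk_apply, TensorProduct.quotTensorEquivQuotSMul_mk_one_tmul, TensorProduct.quotTensorEquivQuotSMul_mk_one_tmul, Submodule.Quotient.eq, ← hyw]
    rw [sub_add_cancel_left]; exact neg_mem hw
  have hkerP : ∀ x : P, mp x = 0 ↔ x ∈ (I • ⊤ : Submodule A' P) := fun x => by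
    rw [Ideal.smul_top_eq_map, Submodule.restrictScalars_mem]
    change x ∈ RingHom.ker mp ↔ _
    rw [MvPolynomial.ker_map, Ideal.mk_ker]; rfl
  have hlift : ∀ i, ∃ g : P, mp g = f i ∧ ψ g = 0 := by
    intro i
    obtain ⟨g, hg⟩ := hmps (f i)
    have h1 : ψ g ∈ (I • ⊤ : Submodule A' B') := by
      rw [hmem, hcompat, hg, Ideal.Quotient.eq_zero_iff_mem]
      exact Ideal.subset_span ⟨i, rfl⟩
    have h2 : ψ g ∈ Submodule.map ψ.toLinearMap (I • ⊤ : Submodule A' P) := by
      rwa [Submodule.map_smul'', Submodule.map_top, LinearMap.range_eq_top.mpr hψs]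
    obtain ⟨j, hj, hjg⟩ := h2
    exact ⟨g - j, by rw [map_sub, hg, (hkerP j).mpr hj, sub_zero], by rw [map_sub]; exact sub_eq_zero.mpr hjg.symm⟩
  choose f' hf' hψf' using hlift
  refine ⟨f', ψ, hf', hψs, le_antisymm ?_ ?_, hcompat⟩
  · let K : Submodule A' P := LinearMap.ker ψ.toLinearMap
    let N : Submodule A' P := (Ideal.span (Set.range f')).restrictScalars A'
    have hstep : K ≤ N ⊔ I • K := by
      intro k hk
      have h1 : mp k ∈ Ideal.span (Set.range f) := by
        have hk' : ψ k = 0 := hk
        rw [← Ideal.Quotient.eq_zero_iff_mem, ← hcompat, hk', map_zero]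
      obtain ⟨c, hc⟩ := (Submodule.mem_span_range_iff_exists_fun _).mp h1
      choose d hd using fun i => hmps (c i)
      set w := ∑ i, d i * f' i
      have hwN : w ∈ N := sum_mem fun i _ => Ideal.mul_mem_left _ _ (Ideal.subset_span ⟨i, rfl⟩)
      have hwK : k - w ∈ K := by
        change ψ (k - w) = 0
        have hk' : ψ k = 0 := hk
        simp [w, hψf', hk']
      have hkI : k - w ∈ (I • ⊤ : Submodule A' P) := by
        rw [← hkerP, map_sub, map_sum, ← hc, sub_eq_zero]
        simp [hd, hf', smul_eq_mul]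
      have hinj : Function.Injective (K.subtype.lTensor (A' ⧸ I)) :=
        LinearMap.lTensor_injective_of_exact_of_flat ψ.toLinearMap hψs _ (Submodule.injective_subtype _)
          (LinearMap.exact_subtype_ker_map _) (A' ⧸ I)
      have h3 : ((1 : A' ⧸ I) ⊗ₜ[A'] (⟨k - w, hwK⟩ : K)) = 0 := by
        apply hinj
        rw [map_zero, LinearMap.lTensor_tmul]
        apply (TensorProduct.quotTensorEquivQuotSMul P I).injective
        rw [TensorProduct.quotTensorEquivQuotSMul_mk_one_tmul, map_zero, Submodule.Quotient.mk_eq_zero]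
        exact hkI
      have h4 := congrArg (TensorProduct.quotTensorEquivQuotSMul K I) h3
      rw [TensorProduct.quotTensorEquivQuotSMul_mk_one_tmul, map_zero, Submodule.Quotient.mk_eq_zero] at h4
      have h5 := Submodule.mem_map_of_mem (f := K.subtype) h4
      rw [Submodule.map_smul'', Submodule.map_top, Submodule.range_subtype] at h5
      exact Submodule.mem_sup.mpr ⟨w, hwN, k - w, h5, by abel⟩
    have hpow : ∀ j, K ≤ N ⊔ I ^ j • K := by
      intro j
      induction j with
      | zero => simp
      | succ j ih =>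
        calc K ≤ N ⊔ I • K := hstep
          _ ≤ N ⊔ I • (N ⊔ I ^ j • K) := sup_le_sup_left (smul_mono_right _ ih) _
          _ ≤ N ⊔ I ^ (j + 1) • K := by
            rw [Submodule.smul_sup, ← Submodule.mul_smul, ← pow_succ', ← sup_assoc]
            exact sup_le_sup_right (sup_le le_rfl Submodule.smul_le_right) _
    obtain ⟨M, hM⟩ := hIn
    intro k hk
    have := hpow M (show k ∈ K from hk)
    rw [hM, Submodule.zero_eq_bot, Submodule.bot_smul, sup_bot_eq] at this
    exact this
  · rw [Ideal.span_le]
    rintro _ ⟨i, rfl⟩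
    exact hψf' i

end Groth.Agent.S13134
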