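import Groth.Statements.S13135
import Groth.Agent.H3CAlg.ArtinRegular
import Groth.Agent.S15130
import Mathlib.Algebra.Category.ModuleCat.Monoidal.Basic
import Mathlib.Algebra.Homology.ShortComplex.HomologicalComplex
import Mathlib.Algebra.Homology.ShortComplex.ModuleCat
import Mathlib.RingTheory.Flat.FaithfullyFlat.Basic
import Mathlib.RingTheory.MvPolynomial.IrreducibleQuadratic

set_option autoImplicit false
universe u
open CAlg

namespace Groth.Agent.S13135

/-- Let A' be an Artinian local ring, I a proper ideal, A = A'/I and f_1, …, f_m a regular sequence in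
A[x_1, …, x_n]. For every choice of lifts f'_1, …, f'_m in A'[x_1, …, x_n] the quotient A'[x]/(f'_1,
…, f'_m) is flat over A' (so it is a flat lifting of A[x]/(f_1, …, f_m)). (The published statement
is for a surjection of local Artinian algebras with a fixed residue field over a ring of Witt
vectors; only the Artinian local base and the proper ideal are used, which is the form taken here.) -/
theorem result
    {A' : Type u} [CommRing A'] [IsArtinianRing A'] [IsLocalRing A'] (I : Ideal A') (hI : I ≠ ⊤)
    {n m : ℕ} (f : Fin m → MvPolynomial (Fin n) (A' ⧸ I))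
    (hreg : RingTheory.Sequence.IsRegular (MvPolynomial (Fin n) (A' ⧸ I)) (List.ofFn f))
    (f' : Fin m → MvPolynomial (Fin n) A') (hf' : ∀ i, MvPolynomial.map (Ideal.Quotient.mk I) (f' i) = f i) :
    Module.Flat A' (MvPolynomial (Fin n) A' ⧸ Ideal.span (Set.range f')) := by
  set J := I.map (algebraMap A' (MvPolynomial (Fin n) A'))
  let π : (MvPolynomial (Fin n) A') →+* MvPolynomial (Fin n) (A' ⧸ I) := MvPolynomial.map (Ideal.Quotient.mk I)
  have hker : RingHom.ker π = J := by
    rw [MvPolynomial.ker_map, Ideal.mk_ker]; rfl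
  have hπ : Function.Surjective π := MvPolynomial.map_surjective _ Ideal.Quotient.mk_surjective
  let e : ((MvPolynomial (Fin n) A') ⧸ J) ≃+* MvPolynomial (Fin n) (A' ⧸ I) :=
    (Ideal.quotEquivOfEq hker.symm).trans (RingHom.quotientKerEquivOfSurjective hπ)
  let e' : ((MvPolynomial (Fin n) A') ⧸ (J • ⊤ : Submodule (MvPolynomial (Fin n) A') (MvPolynomial (Fin n) A'))) ≃+ MvPolynomial (Fin n) (A' ⧸ I) :=
    (Submodule.quotEquivOfEq (J • ⊤ : Submodule (MvPolynomial (Fin n) A') (MvPolynomial (Fin n) A')) J (by simp)).toAddEquiv.trans e.toAddEquiv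
  have hw : RingTheory.Sequence.IsWeaklyRegular ((MvPolynomial (Fin n) A') ⧸ (J • ⊤ : Submodule (MvPolynomial (Fin n) A') (MvPolynomial (Fin n) A'))) (List.ofFn f') := by
    rw [e'.isWeaklyRegular_congr (bs := List.ofFn f)]
    · exact hreg.toIsWeaklyRegular
    · rw [List.forall₂_iff_get]
      refine ⟨by simp, fun i h₁ h₂ x => ?_⟩
      obtain ⟨y, rfl⟩ := Submodule.Quotient.mk_surjective _ x
      simp only [List.get_eq_getElem, List.getElem_ofFn]
      change π (f' _ * y) = f _ * π y
      rw [map_mul]
      exact congrArg (· * π y) (hf' _)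
  have h1 := (Groth.Agent.H3CAlg.isWeaklyRegular_iff_and_flat I hI (List.ofFn f') (MvPolynomial (Fin n) A')).1.mpr hw
  have := (Groth.Agent.H3CAlg.isWeaklyRegular_iff_and_flat I hI (List.ofFn f') (MvPolynomial (Fin n) A')).2 h1
  have hspan : (Ideal.ofList (List.ofFn f') • ⊤ : Submodule (MvPolynomial (Fin n) A') (MvPolynomial (Fin n) A')) = Ideal.span (Set.range f') := by
    rw [smul_eq_mul, Ideal.mul_top]
    exact congrArg Ideal.span (Set.ext fun x => List.mem_ofFn)
  exact Module.Flat.of_linearEquiv ((Submodule.quotEquivOfEq _ _ hspan.symm).restrictScalars A')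

end Groth.Agent.S13135
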