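import Groth.Statements.S13141
import Mathlib.RingTheory.TensorProduct.Basic
import Mathlib.RepresentationTheory.Invariants

set_option autoImplicit false
universe u v w w'
open scoped TensorProduct
open GrpAlg

namespace Groth.Agent.S13141

/-- Let G be a finite group, R a commutative ring with |G| invertible in R, M a projective R-module with
an R-linear G-action and S an R-algebra. The natural map M^G ⊗_R S → M ⊗_R S is injective and its
image is the submodule of G-invariants of M ⊗_R S (G acting on the first factor); that is, M^G ⊗_R S
→ (M ⊗_R S)^G is bijective. -/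
theorem result
    (R : Type u) [CommRing R] (G : Type v) [Group G] [Finite G] (hG : IsUnit ((Nat.card G : ℕ) : R))
    (M : Type w) [AddCommGroup M] [Module R M] [Module.Projective R M] (ρ : Representation R G M)
    (S : Type w') [CommRing S] [Algebra R S] :
    Function.Injective (TensorProduct.map ρ.invariants.subtype (LinearMap.id : S →ₗ[R] S)) ∧
    LinearMap.range (TensorProduct.map ρ.invariants.subtype (LinearMap.id : S →ₗ[R] S)) =
      ⨅ g : G, LinearMap.eqLocus (LinearMap.rTensor S (ρ g)) LinearMap.id := by
  classical
  haveI := Fintype.ofFinite G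
  haveI : Invertible (Fintype.card G : R) := by
    rw [Fintype.card_eq_nat_card]; exact hG.invertible
  let P : M →ₗ[R] ρ.invariants := LinearMap.codRestrict ρ.invariants ρ.averageMap ρ.averageMap_invariant
  have h1 : P ∘ₗ ρ.invariants.subtype = LinearMap.id := by
    ext ⟨x, hx⟩
    exact ρ.averageMap_id x hx
  refine ⟨?_, ?_⟩
  · intro x y hxy
    have := congrArg (TensorProduct.map P (LinearMap.id : S →ₗ[R] S)) hxy
    simpa [← LinearMap.comp_apply, ← TensorProduct.map_comp, h1] using this
  · apply le_antisymm
    · rintro _ ⟨x, rfl⟩
      rw [Submodule.mem_iInf]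
      intro g
      show LinearMap.rTensor S (ρ g) _ = _
      induction x using TensorProduct.induction_on with
      | zero => simp
      | tmul v s => simp [v.2 g]
      | add x y hx hy => simp only [map_add, hx, hy]
    · intro x hx
      rw [Submodule.mem_iInf] at hx
      have hx' : ∀ g, LinearMap.rTensor S (ρ g) x = x := hx
      refine ⟨TensorProduct.map P LinearMap.id x, ?_⟩
      rw [← LinearMap.comp_apply, ← TensorProduct.map_comp]
      have h2 : ρ.invariants.subtype ∘ₗ P = ρ.averageMap := rfl
      rw [h2, LinearMap.id_comp]
      have h3 : ρ.averageMap = ⅟(Fintype.card G : R) • ∑ g : G, ρ g := by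
        simp [Representation.averageMap, GroupAlgebra.average, map_sum]
      show LinearMap.rTensor S ρ.averageMap x = x
      rw [h3, LinearMap.rTensor_smul, LinearMap.smul_apply]
      have hs : LinearMap.rTensor S (∑ g : G, ρ g) = ∑ g : G, LinearMap.rTensor S (ρ g) :=
        map_sum (LinearMap.rTensorHom (R := R) S) _ _
      rw [hs, LinearMap.sum_apply]
      simp only [hx', Finset.sum_const, Finset.card_univ]
      rw [← Nat.cast_smul_eq_nsmul R, smul_smul, invOf_mul_self, one_smul]

end Groth.Agent.S13141
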