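import Groth.Statements.S13142
import Mathlib.RingTheory.Flat.Basic

set_option autoImplicit false
universe u v
open GrpAlg

namespace Groth.Agent.S13142

/-- Let G be a finite group and R a commutative ring with |G| invertible in R, acting on R[x_1, …, x_n]
by R-algebra automorphisms. The invariant subring R[x_1, …, x_n]^G is a flat R-module (so the
quotient of affine n-space over R by G is flat over R). -/
theorem result
    (R : Type u) [CommRing R] (G : Type v) [Group G] [Finite G] (hG : IsUnit ((Nat.card G : ℕ) : R))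
    (n : ℕ) (ρ : G →* (MvPolynomial (Fin n) R ≃ₐ[R] MvPolynomial (Fin n) R)) :
    Module.Flat R ↥(⨅ g : G, LinearMap.eqLocus (ρ g).toLinearMap (LinearMap.id : MvPolynomial (Fin n) R →ₗ[R] MvPolynomial (Fin n) R)) := by
  classical
  haveI := Fintype.ofFinite G
  set F := (⨅ g : G, LinearMap.eqLocus (ρ g).toLinearMap (LinearMap.id : MvPolynomial (Fin n) R →ₗ[R] MvPolynomial (Fin n) R)) with hF
  let P : MvPolynomial (Fin n) R →ₗ[R] MvPolynomial (Fin n) R :=
    (↑hG.unit⁻¹ : R) • ∑ g : G, (ρ g).toLinearMap
  have hmem : ∀ x, P x ∈ F := by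
    intro x
    rw [hF, Submodule.mem_iInf]
    intro h
    show ρ h (P x) = P x
    simp only [P, LinearMap.smul_apply, LinearMap.sum_apply, AlgEquiv.toLinearMap_apply, map_smul, map_sum]
    congr 1
    refine Fintype.sum_bijective (h * ·) (Group.mulLeft_bijective h) _ _ fun g => ?_
    simp [map_mul]
  refine Module.Flat.of_retract F.subtype (P.codRestrict F hmem) ?_
  refine LinearMap.ext fun ⟨x, hx⟩ => Subtype.ext ?_
  rw [hF, Submodule.mem_iInf] at hx
  show (((P.codRestrict F hmem) (F.subtype ⟨x, _⟩) : F) : MvPolynomial (Fin n) R) = x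
  have hx' : ∀ g, ρ g x = x := hx
  simp only [LinearMap.codRestrict_apply, Submodule.coe_subtype, P, LinearMap.smul_apply,
    LinearMap.sum_apply, AlgEquiv.toLinearMap_apply, hx', Finset.sum_const, Finset.card_univ]
  rw [← Nat.cast_smul_eq_nsmul R, smul_smul, Fintype.card_eq_nat_card, hG.val_inv_mul, one_smul]

end Groth.Agent.S13142
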