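import Groth.Statements.S13143
import Groth.Agent.H27Frob.Liftable

set_option autoImplicit false
universe u
open FrobAlg

namespace Groth.Agent.S13143

/-- Let k be a perfect field of characteristic p and A → B a homomorphism of Noetherian k-algebras with
an A-linear retraction B → A. If B lifts flatly to W₂(k), so does A. (The published statement
phrases the descent for finite surjective morphisms of degree prime to p, via a trace splitting; the
argument uses exactly an A-linear splitting of A → B for an affine morphism, which is the hypothesis
taken here.) -/
theorem result
    (p : ℕ) [Fact p.Prime] (k : Type u) [Field k] [CharP k p] [PerfectRing k p]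
    (A B : Type u) [CommRing A] [CommRing B] [Algebra k A] [Algebra k B]
    [IsNoetherianRing A] [IsNoetherianRing B] [Algebra A B] [IsScalarTower k A B]
    (r : B →ₗ[A] A) (hr : ∀ a : A, r (algebraMap A B a) = a)
    (hB : FrobAlg.IsW2Liftable p k B) : FrobAlg.IsW2Liftable p k A := by
  exact H27Frob.isW2Liftable_of_linear_retraction p k r hr hB

end Groth.Agent.S13143
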