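import Groth.Statements.S13147
import Groth.Agent.H27Frob.W2Alg
import Mathlib

set_option autoImplicit false
universe u
open FrobAlg

namespace Groth.Agent.S13147

/-- Let k be a perfect field of characteristic p and (A, φ) a k-algebra with a Frobenius splitting (φ
additive, φ(a^p b) = a φ(b), φ(1) = 1). The quotient of W₂(A) by the ideal generated by the Witt
vectors (0, a) with φ(a) = 0 — the ring of twisted Witt vectors of (A, φ) — is a flat lifting of A
over W₂(k): flat over W₂(k), with reduction map onto A induced by (a₀, a₁) ↦ a₀ whose kernel is
generated by the maximal ideal of W₂(k). (The published statement also asserts that a morphism of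
algebras with Frobenius splittings compatible with the splittings induces a ring map between these
quotients; that part is not stated here.) -/
theorem result
    (p : ℕ) [Fact p.Prime] (k : Type u) [Field k] [CharP k p] [PerfectRing k p]
    (A : Type u) [CommRing A] [Algebra k A] (φ : A →+ A)
    (hφ : ∀ a b : A, φ (a ^ p * b) = a * φ b) (hφ1 : φ 1 = 1) :
    FrobAlg.IsLift p k A (FrobAlg.W2 p A ⧸ FrobAlg.splitIdeal p A φ)
      ((Ideal.Quotient.mk (FrobAlg.splitIdeal p A φ)).comp (WittGrp.truncMap p 2 (algebraMap k A)))
      (FrobAlg.splitRes p A φ) := by
  exact Groth.Agent.H27Frob.isLift_split p k φ hφ hφ1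

end Groth.Agent.S13147
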