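import Groth.Statements.S13149
import Groth.Agent.H22Alg.FiniteLength
import Groth.Agent.H3CAlg.FormsDim
import Mathlib.GroupTheory.CosetCover
import Mathlib.RingTheory.Henselian
import Mathlib.RingTheory.Ideal.AssociatedPrime.Finiteness
import Mathlib.RingTheory.Ideal.AssociatedPrime.Localization
import Mathlib.RingTheory.MvPolynomial.IrreducibleQuadratic
import Mathlib.RingTheory.RegularLocalRing.Defs
import Mathlib.RingTheory.SimpleRing.Principal
import Mathlib.Tactic.LinearCombination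
import Mathlib.Tactic.Ring
import Mathlib.Tactic.Push

set_option autoImplicit false
universe u
open CAlg

namespace Groth.Agent.S13149

/-- Let A be a local ring and ρ a map from the points of the projective plane over F_p to the points of
the projective plane over A (vectors with a unit coordinate, up to units) taking collinear triples
to collinear triples (three points are collinear when a vector with a unit coordinate is orthogonal
to all three). If ρ sends the standard frame (1:0:0), (0:1:0), (0:0:1), (1:1:1) to four points in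
general position, then p = 0 in A. (The published statement asks only that ρ preserve collinearity;
a constant map does so over any ring, and the published argument begins by moving the images of the
standard frame to the standard frame, which needs them in general position — that condition is made
a hypothesis here.) -/
theorem result
    (p : ℕ) [Fact p.Prime] (A : Type u) [CommRing A] [IsLocalRing A]
    (ρ : (Fin 3 → ZMod p) → (Fin 3 → A))
    (hpt : ∀ v : Fin 3 → ZMod p, v ≠ 0 → ∃ i, IsUnit (ρ v i))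
    (hcol : ∀ u v w : Fin 3 → ZMod p, u ≠ 0 → v ≠ 0 → w ≠ 0 →
      Matrix.det (Matrix.of ![u, v, w]) = 0 →
      ∃ n : Fin 3 → A, (∃ i, IsUnit (n i)) ∧
        dotProduct (ρ u) n = 0 ∧ dotProduct (ρ v) n = 0 ∧ dotProduct (ρ w) n = 0)
    (hgen : IsUnit (Matrix.det (Matrix.of ![ρ (Pi.single 0 1), ρ (Pi.single 1 1), ρ (Pi.single 2 1)])) ∧
      IsUnit (Matrix.det (Matrix.of ![ρ (Pi.single 0 1), ρ (Pi.single 1 1), ρ (fun _ => 1)])) ∧
      IsUnit (Matrix.det (Matrix.of ![ρ (Pi.single 0 1), ρ (Pi.single 2 1), ρ (fun _ => 1)])) ∧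
      IsUnit (Matrix.det (Matrix.of ![ρ (Pi.single 1 1), ρ (Pi.single 2 1), ρ (fun _ => 1)]))) :
    (p : A) = 0 := by
  classical
  have hmax : ∀ x : A, ¬ IsUnit x ↔ x ∈ IsLocalRing.maximalIdeal A := fun x ↦ (IsLocalRing.mem_maximalIdeal x).symm
  have huni : ∀ (N N' : Matrix (Fin 3) (Fin 3) A), N * N' = 1 → ∀ v : Fin 3 → A, (∃ i, IsUnit (v i)) → ∃ i, IsUnit (Matrix.vecMul v N i) := by
    intro N N' hN v ⟨i, hi⟩
    by_contra! h
    apply (hmax (v i)).mpr ?_ hi
    have : v = Matrix.vecMul (Matrix.vecMul v N) N' := by rw [Matrix.vecMul_vecMul, hN, Matrix.vecMul_one]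
    rw [this]
    simp only [Matrix.vecMul, dotProduct]
    exact sum_mem fun j _ ↦ Ideal.mul_mem_right _ _ ((hmax _).mp (h j))
  let e : Fin 3 → Fin 3 → ZMod p := fun i ↦ Pi.single i 1
  let u : Fin 3 → ZMod p := fun _ ↦ 1
  let M : Matrix (Fin 3) (Fin 3) A := Matrix.of fun i ↦ ρ (e i)
  have hM : IsUnit M.det := by
    have := hgen.1
    rwa [show M = Matrix.of ![ρ (Pi.single 0 1), ρ (Pi.single 1 1), ρ (Pi.single 2 1)] by
      ext i j; fin_cases i <;> rfl]
  let c : (Fin 3 → ZMod p) → Fin 3 → A := fun v ↦ Matrix.vecMul (ρ v) M⁻¹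
  have hc : ∀ v, Matrix.vecMul (c v) M = ρ v := fun v ↦ by
    rw [Matrix.vecMul_vecMul, Matrix.nonsing_inv_mul _ hM, Matrix.vecMul_one]
  have hce : ∀ i, c (e i) = Pi.single i 1 := fun i ↦ by
    have : ρ (e i) = Matrix.vecMul (Pi.single i 1) M := by rw [Matrix.single_one_vecMul]; rfl
    simp only [c, this, Matrix.vecMul_vecMul, Matrix.mul_nonsing_inv _ hM, Matrix.vecMul_one]
  have hcu : ∀ i, IsUnit (c u i) := by
    have key : ∀ i j, IsUnit (Matrix.det (Matrix.of ![ρ (e i), ρ (e j), ρ u])) →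
        IsUnit (Matrix.det (Matrix.of ![(Pi.single i 1 : Fin 3 → A), Pi.single j 1, c u])) := by
      intro i j h
      have : Matrix.of ![ρ (e i), ρ (e j), ρ u] = Matrix.of ![(Pi.single i 1 : Fin 3 → A), Pi.single j 1, c u] * M := by
        ext a b
        rw [Matrix.mul_apply_eq_vecMul]
        fin_cases a
        · show ρ (e i) b = Matrix.vecMul (Pi.single i 1) M b
          rw [Matrix.single_one_vecMul]; rfl
        · show ρ (e j) b = Matrix.vecMul (Pi.single j 1) M b
          rw [Matrix.single_one_vecMul]; rfl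
        · show ρ u b = Matrix.vecMul (c u) M b
          rw [hc]
      rw [this, Matrix.det_mul] at h
      exact isUnit_of_mul_isUnit_left h
    intro i
    fin_cases i
    · simpa [Matrix.det_fin_three] using key 1 2 hgen.2.2.2
    · simpa [Matrix.det_fin_three] using key 0 2 hgen.2.2.1
    · simpa [Matrix.det_fin_three] using key 0 1 hgen.2.1
  let d : Fin 3 → A := fun i ↦ ((hcu i).unit⁻¹ : Aˣ)
  have hd : ∀ i, c u i * d i = 1 := fun i ↦ IsUnit.mul_val_inv (hcu i)
  let σ : (Fin 3 → ZMod p) → Fin 3 → A := fun v i ↦ c v i * d i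
  have hσu : ∀ v, v ≠ 0 → ∃ i, IsUnit (σ v i) := by
    intro v hv
    obtain ⟨i, hi⟩ := huni M⁻¹ M (Matrix.nonsing_inv_mul _ hM) (ρ v) (hpt v hv)
    exact ⟨i, hi.mul (IsUnit.of_mul_eq_one (c u i) (by rw [mul_comm]; exact hd i))⟩
  have hσc : ∀ x y z : Fin 3 → ZMod p, x ≠ 0 → y ≠ 0 → z ≠ 0 → Matrix.det (Matrix.of ![x, y, z]) = 0 →
      ∃ n : Fin 3 → A, (∃ i, IsUnit (n i)) ∧ σ x 0 * n 0 + σ x 1 * n 1 + σ x 2 * n 2 = 0 ∧
        σ y 0 * n 0 + σ y 1 * n 1 + σ y 2 * n 2 = 0 ∧ σ z 0 * n 0 + σ z 1 * n 1 + σ z 2 * n 2 = 0 := by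
    intro x y z hx hy hz hdet
    obtain ⟨n, hn, h1, h2, h3⟩ := hcol x y z hx hy hz hdet
    have key : ∀ v, dotProduct (ρ v) n = 0 →
        σ v 0 * (c u 0 * Matrix.mulVec M n 0) + σ v 1 * (c u 1 * Matrix.mulVec M n 1) +
          σ v 2 * (c u 2 * Matrix.mulVec M n 2) = 0 := by
      intro v h
      rw [← hc v, ← Matrix.dotProduct_mulVec] at h
      simp only [dotProduct, Fin.sum_univ_three] at h
      linear_combination h + c v 0 * Matrix.mulVec M n 0 * hd 0 + c v 1 * Matrix.mulVec M n 1 * hd 1 +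
        c v 2 * Matrix.mulVec M n 2 * hd 2
    refine ⟨fun i ↦ c u i * Matrix.mulVec M n i, ?_, key x h1, key y h2, key z h3⟩
    obtain ⟨i, hi⟩ := huni M.transpose M⁻¹.transpose
      (by rw [← Matrix.transpose_mul, Matrix.nonsing_inv_mul _ hM, Matrix.transpose_one]) n hn
    rw [Matrix.vecMul_transpose] at hi
    exact ⟨i, (hcu i).mul hi⟩
  have hσe : ∀ i j, i ≠ j → σ (e i) j = 0 := fun i j h ↦ by simp [σ, hce, h.symm]
  have hσe' : ∀ i, IsUnit (σ (e i) i) := fun i ↦ by
    simp only [σ, hce, Pi.single_eq_same, one_mul]; exact IsUnit.of_mul_eq_one (c u i) (by rw [mul_comm]; exact hd i)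
  have hσone : ∀ i, σ u i = 1 := hd
  have hne : ∀ v : Fin 3 → ZMod p, ∀ i, v i = 1 → v ≠ 0 := fun v i h h0 ↦ by
    rw [h0] at h; exact zero_ne_one h
  have he : ∀ i, e i ≠ 0 := fun i ↦ hne _ i (Pi.single_eq_same i 1)
  have hu : u ≠ 0 := hne _ 0 rfl
  have hzero : ∀ a n : A, IsUnit a → a * n = 0 → n = 0 := fun a n ha h ↦ ha.mul_right_eq_zero.mp h
  have hn0 : ∀ {n : Fin 3 → A}, (∃ i, IsUnit (n i)) → ∀ i, (∀ j, n i = 0 → n j = 0) → n i = 0 → False :=
    fun {n} h i hall h0 ↦ by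
      obtain ⟨j, hj⟩ := h; rw [hall j h0] at hj; exact not_isUnit_zero hj
  have hw : ∀ {w : Fin 3 → A}, (∃ i, IsUnit (w i)) → ∀ (a b : A) (i : Fin 3),
      w 0 = a * w i → w 1 = b * w i → (i = 2 ∨ w 2 = 0) → IsUnit (w i) := by
    rintro w ⟨j, hj⟩ a b i h0 h1 h2
    fin_cases j
    · rw [show (⟨0, _⟩ : Fin 3) = 0 from rfl, h0] at hj; exact isUnit_of_mul_isUnit_right hj
    · rw [show (⟨1, _⟩ : Fin 3) = 1 from rfl, h1] at hj; exact isUnit_of_mul_isUnit_right hj
    · rcases h2 with rfl | h2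
      · exact hj
      · rw [show (⟨2, _⟩ : Fin 3) = 2 from rfl, h2] at hj; exact absurd hj not_isUnit_zero
  have hnu : ∀ {n : Fin 3 → A}, (∃ i, IsUnit (n i)) → ∀ (i : Fin 3) (f : Fin 3 → A), (∀ j, n j = f j * n i) → IsUnit (n i) := by
    rintro n ⟨j, hj⟩ i f h
    rw [h j] at hj; exact isUnit_of_mul_isUnit_right hj
  let P : ℕ → Fin 3 → ZMod p := fun k ↦ ![(k : ZMod p), 0, 1]
  let Q : ℕ → Fin 3 → ZMod p := fun k ↦ ![(k : ZMod p), 1, 1]
  let E : Fin 3 → ZMod p := ![1, -1, 0]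
  have hP : ∀ k, P k ≠ 0 := fun k ↦ hne _ 2 rfl
  have hQ : ∀ k, Q k ≠ 0 := fun k ↦ hne _ 2 rfl
  have hE : E ≠ 0 := hne _ 0 rfl
  have hP1 : ∀ k, σ (P k) 1 = 0 := by
    intro k
    obtain ⟨n, hn, h0, h2, h⟩ := hσc (e 0) (e 2) (P k) (he 0) (he 2) (hP k)
      (by simp [e, P, Matrix.det_fin_three])
    simp [hσe] at h0 h2
    have a0 := hzero _ _ (hσe' 0) h0
    have a2 := hzero _ _ (hσe' 2) h2
    rw [a0, a2] at h
    have a1 : IsUnit (n 1) := hnu hn 1 ![0, 1, 0] fun j ↦ by fin_cases j <;> simp [a0, a2]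
    simpa [a1.mul_left_eq_zero] using h
  have hQk : ∀ k, σ (P k) 0 = (k : A) * σ (P k) 2 →
      σ (Q k) 0 = (k : A) * σ (Q k) 2 ∧ σ (Q k) 1 = σ (Q k) 2 := by
    intro k hk
    have hk2 : IsUnit (σ (P k) 2) := hw (hσu _ (hP k)) (k : A) 0 2 hk (by rw [hP1 k]; ring) (Or.inl rfl)
    constructor
    · obtain ⟨n, hn, h1, h2, h⟩ := hσc (e 1) (P k) (Q k) (he 1) (hP k) (hQ k)
        (by simp [e, P, Q, Matrix.det_fin_three])
      simp [hσe] at h1
      have a1 := hzero _ _ (hσe' 1) h1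
      have a2 : n 2 = -(k : A) * n 0 := by
        have : σ (P k) 2 * (n 2 + (k : A) * n 0) = 0 := by
          rw [hP1 k, hk, a1] at h2; linear_combination h2
        linear_combination hzero _ _ hk2 this
      have a0 : IsUnit (n 0) := hnu hn 0 ![1, 0, -(k : A)] fun j ↦ by fin_cases j <;> simp [a1, a2]
      have : n 0 * (σ (Q k) 0 - (k : A) * σ (Q k) 2) = 0 := by rw [a1, a2] at h; linear_combination h
      linear_combination hzero _ _ a0 this
    · obtain ⟨n, hn, h0, h2, h⟩ := hσc (e 0) u (Q k) (he 0) hu (hQ k)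
        (by simp [e, u, Q, Matrix.det_fin_three])
      simp [hσe] at h0
      have a0 := hzero _ _ (hσe' 0) h0
      rw [a0, hσone, hσone, hσone] at h2
      have a2 : n 2 = -n 1 := by linear_combination h2
      have a1 : IsUnit (n 1) := hnu hn 1 ![0, 1, -1] fun j ↦ by fin_cases j <;> simp [a0, a2]
      have : n 1 * (σ (Q k) 1 - σ (Q k) 2) = 0 := by rw [a0, a2] at h; linear_combination h
      linear_combination hzero _ _ a1 this
  have hX : σ (P 1) 0 = σ (P 1) 2 := by
    obtain ⟨n, hn, h0, h2, h⟩ := hσc (e 1) u (P 1) (he 1) hu (hP 1)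
      (by simp [e, u, P, Matrix.det_fin_three])
    simp [hσe] at h0
    have a1 := hzero _ _ (hσe' 1) h0
    rw [a1, hσone, hσone, hσone] at h2
    have a2 : n 2 = -n 0 := by linear_combination h2
    have a0 : IsUnit (n 0) := hnu hn 0 ![1, 0, -1] fun j ↦ by fin_cases j <;> simp [a1, a2]
    have : n 0 * (σ (P 1) 0 - σ (P 1) 2) = 0 := by rw [a1, a2] at h; linear_combination h
    linear_combination hzero _ _ a0 this
  have hX2 : IsUnit (σ (P 1) 2) := hw (hσu _ (hP 1)) 1 0 2 (by rw [hX, one_mul]) (by rw [hP1]; ring) (Or.inl rfl)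
  have hPzero : σ (P 0) 0 = 0 := by
    rw [show P 0 = e 2 by ext i; fin_cases i <;> simp [P, e]]; exact hσe 2 0 (by decide)
  obtain ⟨hY0, hY1⟩ := hQk 0 (by simpa using hPzero)
  rw [Nat.cast_zero, zero_mul] at hY0
  have hY2 : IsUnit (σ (Q 0) 2) := hw (hσu _ (hQ 0)) 0 1 2 (by rw [hY0, zero_mul]) (by rw [hY1, one_mul]) (Or.inl rfl)
  have hE2 : σ E 2 = 0 := by
    obtain ⟨n, hn, h0, h1, h⟩ := hσc (e 0) (e 1) E (he 0) (he 1) hE (by simp [e, E, Matrix.det_fin_three])
    simp [hσe] at h0 h1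
    have a0 := hzero _ _ (hσe' 0) h0
    have a1 := hzero _ _ (hσe' 1) h1
    rw [a0, a1] at h
    have a2 : IsUnit (n 2) := hnu hn 2 ![0, 0, 1] fun j ↦ by fin_cases j <;> simp [a0, a1]
    simpa [a2.mul_left_eq_zero] using h
  have hE01 : σ E 0 = -σ E 1 := by
    obtain ⟨n, hn, h1, h2, h⟩ := hσc (P 1) (Q 0) E (hP 1) (hQ 0) hE
      (by simp [P, Q, E, Matrix.det_fin_three])
    rw [hX, hP1] at h1
    rw [hY0, hY1] at h2
    have a0 : n 0 = -n 2 := by
      linear_combination hzero (σ (P 1) 2) (n 0 + n 2) hX2 (by linear_combination h1)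
    have a1 : n 1 = -n 2 := by
      linear_combination hzero (σ (Q 0) 2) (n 1 + n 2) hY2 (by linear_combination h2)
    have a2 : IsUnit (n 2) := hnu hn 2 ![-1, -1, 1] fun j ↦ by fin_cases j <;> simp [a0, a1]
    linear_combination hzero (n 2) (σ E 0 + σ E 1) a2 (by rw [hE2, a0, a1] at h; linear_combination -h)
  have hEu : IsUnit (σ E 1) := hw (hσu _ hE) (-1) 1 1 (by rw [hE01]; ring) (by ring) (Or.inr hE2)
  have main : ∀ k : ℕ, σ (P k) 0 = (k : A) * σ (P k) 2 := by
    intro k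
    induction k with
    | zero => simpa using hPzero
    | succ k ih =>
      obtain ⟨q0, q1⟩ := hQk k ih
      have hq2 : IsUnit (σ (Q k) 2) := hw (hσu _ (hQ k)) (k : A) 1 2 q0 (by rw [q1, one_mul]) (Or.inl rfl)
      obtain ⟨n, hn, h1, h2, h⟩ := hσc E (Q k) (P (k + 1)) hE (hQ k) (hP (k + 1))
        (by simp [E, P, Q, Matrix.det_fin_three]; ring)
      rw [hE01, hE2] at h1
      rw [q0, q1] at h2
      have a1 : n 1 = n 0 := by
        linear_combination hzero (σ E 1) (n 1 - n 0) hEu (by linear_combination h1)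
      have a2 : n 2 = -((k : A) + 1) * n 0 := by
        linear_combination hzero (σ (Q k) 2) (n 2 + ((k : A) + 1) * n 0) hq2 (by rw [a1] at h2; linear_combination h2)
      have a0 : IsUnit (n 0) := hnu hn 0 ![1, 1, -((k : A) + 1)] fun j ↦ by fin_cases j <;> simp [a1, a2]
      have := hzero (n 0) (σ (P (k + 1)) 0 - ((k : A) + 1) * σ (P (k + 1)) 2) a0
        (by rw [hP1 (k + 1), a2] at h; linear_combination h)
      push_cast
      linear_combination this
  have h := main p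
  rw [show P p = e 2 by ext i; fin_cases i <;> simp [P, e]] at h
  rw [hσe 2 0 (by decide)] at h
  exact (hσe' 2).mul_left_eq_zero.mp h.symm

end Groth.Agent.S13149
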