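import Groth.Statements.S13150
import Groth.Agent.H27Frob.W2Alg
import Mathlib

set_option autoImplicit false
universe u
open FrobAlg

namespace Groth.Agent.S13150

/-- Let k be a perfect field of characteristic p and (B, ι, π) a flat lifting over W₂(k) of a Noetherian
k-algebra A. The Frobenius of A lifts to B (a σ₂-semilinear ring endomorphism of B reducing to the
p-th power map) if and only if there is a ring homomorphism θ : B → W₂(A) over A (the zeroth Witt
component of θ(b) is π(b)) with θ ∘ ι equal to the map W₂(k) → W₂(A) induced by k → A. (The
published statement is for a flat W₂(k)-extension of the structure sheaf of a scheme and says: the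
push-out of that extension along the Frobenius O_X → F_*O_X is isomorphic, as an extension by F_*O_X
over W₂(k), to W₂(O_X); by the universal property of the push-out this is the existence of a
morphism of extensions to W₂(O_X), which in the affine case taken here is the map θ.) -/
theorem result
    (p : ℕ) [Fact p.Prime] (k : Type u) [Field k] [CharP k p] [PerfectRing k p]
    (A B : Type u) [CommRing A] [Algebra k A] [IsNoetherianRing A] [CommRing B]
    (ι : FrobAlg.W2 p k →+* B) (π : B →+* A) (hB : FrobAlg.IsLift p k A B ι π) :
    (∃ Φ : B →+* B, FrobAlg.IsFrobLift p k A B ι π Φ) ↔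
      ∃ θ : B →+* FrobAlg.W2 p A,
        (FrobAlg.res p A).comp θ = π ∧ θ.comp ι = WittGrp.truncMap p 2 (algebraMap k A) := by
  exact Groth.Agent.H27Frob.exists_frobLift_iff p k ι π hB

end Groth.Agent.S13150
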