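import Groth.Statements.S13151
import Mathlib.RepresentationTheory.Invariants
import Mathlib.RingTheory.Henselian
import Mathlib.RingTheory.LocalProperties.Reduced
import Mathlib.RingTheory.LocalRing.Pullback
import Mathlib.RingTheory.PowerSeries.NoZeroDivisors
import Mathlib.RingTheory.RegularLocalRing.Defs
import Mathlib.RingTheory.SimpleRing.Principal

set_option autoImplicit false
universe u
open CAlg

namespace Groth.Agent.S13151

/-- Let A → B be an injective ring homomorphism of integral domains which is integral, with A integrally
closed, and let π be an element of A. Then the contraction to A of the ideal πB is πA, i.e. an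
element of A which is a multiple of π in B is already a multiple of π in A; in particular if B/πB is
an integral domain then A/πA is an integral domain. (The published statement is for an integral
dominant morphism of integral schemes flat over a discrete valuation ring, with normal target and π
a uniformizer; flatness and the valuation ring play no role, so π is an arbitrary element here.) -/
theorem result {A B : Type u} [CommRing A] [CommRing B]
    [IsDomain A] [IsDomain B] [IsIntegrallyClosed A] [Algebra A B] [Algebra.IsIntegral A B]
    (hinj : Function.Injective (algebraMap A B)) (π : A) :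
    (Ideal.span {algebraMap A B π}).comap (algebraMap A B) = Ideal.span {π} ∧
      (IsDomain (B ⧸ Ideal.span {algebraMap A B π}) → IsDomain (A ⧸ Ideal.span {π})) := by
  have key : (Ideal.span {algebraMap A B π}).comap (algebraMap A B) = Ideal.span {π} := by
    apply le_antisymm
    · intro a ha
      obtain ⟨b, hb⟩ := Ideal.mem_span_singleton'.mp (Ideal.mem_comap.mp ha)
      rw [Ideal.mem_span_singleton]
      by_cases hπ : π = 0
      · subst hπ
        rw [map_zero, mul_zero] at hb
        rw [hinj (hb.symm.trans (map_zero _).symm)]
      obtain ⟨P, hPm, hPb⟩ := Algebra.IsIntegral.isIntegral (R := A) b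
      have h1 : Polynomial.eval₂ (algebraMap A B) (algebraMap A B π * b) (P.scaleRoots π) = 0 :=
        Polynomial.scaleRoots_eval₂_eq_zero _ hPb
      have h2 : (P.scaleRoots π).eval a = 0 := by
        apply hinj
        rw [map_zero, ← h1, mul_comm, hb, Polynomial.eval₂_at_apply]
      have hπK : algebraMap A (FractionRing A) π ≠ 0 := (map_ne_zero_iff _ (IsFractionRing.injective A _)).mpr hπ
      obtain ⟨c, hc⟩ : ∃ c, algebraMap A (FractionRing A) c = algebraMap A (FractionRing A) a / algebraMap A (FractionRing A) π := by
        refine IsIntegrallyClosed.isIntegral_iff.mp ⟨P, hPm, ?_⟩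
        have h3 := congrArg (algebraMap A (FractionRing A)) h2
        rw [map_zero, ← Polynomial.eval₂_at_apply,
          show algebraMap A (FractionRing A) a = algebraMap A (FractionRing A) π * (algebraMap A (FractionRing A) a / algebraMap A (FractionRing A) π) from (mul_div_cancel₀ _ hπK).symm,
          Polynomial.scaleRoots_eval₂_mul] at h3
        exact (mul_eq_zero.mp h3).resolve_left (pow_ne_zero _ hπK)
      refine ⟨c, IsFractionRing.injective A (FractionRing A) ?_⟩
      rw [map_mul, hc, mul_div_cancel₀ _ hπK]
    · rw [Ideal.span_le, Set.singleton_subset_iff]
      exact Ideal.mem_span_singleton_self _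
  refine ⟨key, fun h => ?_⟩
  rw [Ideal.Quotient.isDomain_iff_prime] at h ⊢
  rw [← key]
  exact Ideal.IsPrime.comap _

end Groth.Agent.S13151
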