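import Groth.Statements.S13153
import Groth.Agent.H05EGA4.Regular2
import Groth.Agent.H8Props.FlatDepth
import Mathlib.Tactic.Ring

set_option autoImplicit false
universe u
open CAlg

namespace Groth.Agent.S13153

/-- Let R be a discrete valuation ring whose fraction field K has characteristic zero, A an integral
domain which is a faithfully flat R-algebra, with fraction field L, such that K is algebraically
closed in L (every element of L algebraic over K is in the image of K). If f ∈ A has vanishing
differential, df = 0 in Ω_{A/R}, then f is the image of an element of R. (The published statement is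
the sheaf form: for a faithfully flat morphism X → Spec R with geometrically integral generic fibre,
the kernel of d : O_X → Ω¹_{X/R} is the inverse image of O_{Spec R}; for integral X, geometric
integrality of the generic fibre in characteristic zero amounts to K being algebraically closed in
the function field, which is the form used here, and this row is the case of global sections over an
affine X = Spec A.) -/
theorem result (R : Type u) [CommRing R] [IsDomain R]
    [IsDiscreteValuationRing R] [CharZero R] (K : Type u) [Field K] [Algebra R K] [IsFractionRing R K]
    (A : Type u) [CommRing A] [IsDomain A] [Algebra R A] [Module.FaithfullyFlat R A]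
    (L : Type u) [Field L] [Algebra A L] [IsFractionRing A L] [Algebra R L] [Algebra K L]
    [IsScalarTower R A L] [IsScalarTower R K L]
    (hac : ∀ x : L, IsAlgebraic K x → x ∈ (algebraMap K L).range)
    (f : A) (hf : KaehlerDifferential.D R A f = 0) : f ∈ (algebraMap R A).range := by
  classical
  haveI : CharZero L := by
    have hR : Function.Injective (algebraMap R L) := by
      rw [IsScalarTower.algebraMap_eq R K L]
      exact (algebraMap K L).injective.comp (IsFractionRing.injective R K)
    exact charZero_of_injective_ringHom hR
  letI : SMulCommClass K A L := ⟨fun k a l ↦ by simp only [Algebra.smul_def]; ring⟩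
  have hx : KaehlerDifferential.D K L (algebraMap A L f) = 0 := by
    rw [← KaehlerDifferential.map_D R K A L f, hf, map_zero]
  obtain ⟨y, hy⟩ : algebraMap A L f ∈ (algebraMap K L).range := by
    refine hac _ (by_contra fun htr ↦ ?_)
    have hind : AlgebraicIndepOn K id ({algebraMap A L f} : Set L) :=
      algebraicIndependent_unique_type_iff.mpr (fun h ↦ htr h)
    obtain ⟨t, hxt, ht⟩ := exists_isTranscendenceBasis_superset hind
    let P := MvPolynomial t K
    let φ : P →ₐ[K] L := MvPolynomial.aeval ((↑) : t → L)
    have hφ : Function.Injective φ := ht.1
    letI : Algebra P L := φ.toRingHom.toAlgebra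
    haveI : IsScalarTower K P L := IsScalarTower.of_algebraMap_eq fun r ↦ (φ.commutes r).symm
    haveI : Algebra.IsAlgebraic (Algebra.adjoin K (Set.range ((↑) : t → L))) L := ht.isAlgebraic
    haveI : Algebra.IsAlgebraic P L := by
      refine Algebra.IsAlgebraic.of_ringHom_of_comp_eq (S := Algebra.adjoin K (Set.range ((↑) : t → L))) (B := L)
        ht.1.aevalEquiv.toRingEquiv (RingHom.id L) (EquivLike.surjective _) Function.injective_id ?_
      ext p <;> simp [AlgebraicIndependent.algebraMap_aevalEquiv] <;> rfl
    haveI : FaithfulSMul P L := (faithfulSMul_iff_algebraMap_injective P L).mpr hφ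
    let F := FractionRing P
    letI : Algebra F L := FractionRing.liftAlgebra P L
    haveI : IsScalarTower P F L := FractionRing.isScalarTower_liftAlgebra P L
    haveI : Algebra.IsAlgebraic F L := Algebra.IsAlgebraic.extendScalars (R := P) (IsFractionRing.injective P F)
    haveI : CharZero K := charZero_of_injective_ringHom (IsFractionRing.injective R K)
    haveI : CharZero F := charZero_of_injective_ringHom (f := (algebraMap P F).comp MvPolynomial.C)
      ((IsFractionRing.injective P F).comp (MvPolynomial.C_injective _ _))
    haveI : Algebra.IsSeparable F L := inferInstance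
    haveI : Algebra.FormallyEtale F L := Algebra.FormallyEtale.of_isSeparable _ L
    haveI : Algebra.FormallyEtale P F := Algebra.FormallyEtale.of_isLocalization (nonZeroDivisors P)
    haveI : Algebra.FormallyEtale P L := Algebra.FormallyEtale.comp P F L
    haveI : Algebra.FormallySmooth P L := inferInstance
    haveI := Algebra.FormallySmooth.subsingleton_h1Cotangent (R := P) (A := L)
    have hinj : Function.Injective (KaehlerDifferential.mapBaseChange K P L) := by
      rw [injective_iff_map_eq_zero]
      intro z hz
      obtain ⟨w, rfl⟩ := (Algebra.H1Cotangent.exact_δ_mapBaseChange K P L z).mp hz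
      rw [Subsingleton.elim w 0, map_zero]
    let b := (KaehlerDifferential.mvPolynomialBasis K t).baseChange L
    let i : t := ⟨algebraMap A L f, hxt rfl⟩
    have h0 : (1 : L) ⊗ₜ[P] KaehlerDifferential.D K P (MvPolynomial.X i) = 0 := by
      apply hinj
      rw [KaehlerDifferential.mapBaseChange_tmul, one_smul, map_zero, KaehlerDifferential.map_D]
      have : algebraMap P L (MvPolynomial.X i) = algebraMap A L f := MvPolynomial.aeval_X _ i
      rw [this, hx]
    have h1 := congrArg (fun z ↦ b.repr z i) h0
    simp only [map_zero, Finsupp.coe_zero, Pi.zero_apply] at h1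
    rw [Module.Basis.baseChange_repr_tmul, KaehlerDifferential.mvPolynomialBasis_repr_D_X, Finsupp.single_eq_same, one_smul] at h1
    exact one_ne_zero h1
  obtain ⟨⟨r, s⟩, hrs⟩ := IsLocalization.surj (nonZeroDivisors R) y
  have h1 : algebraMap R A s * f = algebraMap R A r := by
    apply IsFractionRing.injective A L
    rw [map_mul, ← IsScalarTower.algebraMap_apply, ← IsScalarTower.algebraMap_apply, ← hy,
      IsScalarTower.algebraMap_apply R K L, IsScalarTower.algebraMap_apply R K L r, ← map_mul, mul_comm, hrs]
  have h2 : r ∈ Ideal.span {(s : R)} := by
    rw [← Ideal.comap_map_eq_self_of_faithfullyFlat (B := A) (Ideal.span {(s : R)}), Ideal.mem_comap, Ideal.map_span,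
      Set.image_singleton, ← h1]
    exact Ideal.mul_mem_right _ _ (Ideal.mem_span_singleton_self _)
  obtain ⟨c, rfl⟩ := Ideal.mem_span_singleton'.mp h2
  refine ⟨c, ?_⟩
  have hs : algebraMap R A s ≠ 0 := fun h ↦
    nonZeroDivisors.ne_zero s.2 (FaithfulSMul.algebraMap_injective R A (by rw [h, map_zero]))
  apply mul_left_cancel₀ hs
  rw [h1, mul_comm c, map_mul]

end Groth.Agent.S13153
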