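import Groth.Statements.S13154
import Groth.Agent.H02CA.SmoothRegular
import Groth.Agent.S0560
import Mathlib.Tactic.Ring

set_option autoImplicit false
universe u
open scoped TensorProduct
open CAlg

namespace Groth.Agent.S13154

/-- Let R be a discrete valuation ring with fraction field K, A a faithfully flat R-algebra (an affine
faithfully flat base change S' → S = Spec R) and B₁, B₂ flat R-algebras (two affine S-schemes X₁ =
Spec B₁, X₂ = Spec B₂, flat over S). Suppose given a K-algebra homomorphism φ_K : K ⊗ B₂ → K ⊗ B₁ (a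
morphism of the generic fibres X₁,K → X₂,K) and an A-algebra homomorphism φ_A : A ⊗ B₂ → A ⊗ B₁ (a
morphism X₁ ×_S S' → X₂ ×_S S' over S') which coincide after base change to K ⊗ A, in the sense that
for every b ∈ B₂ the images of φ_K(1 ⊗ b) and φ_A(1 ⊗ b) in (K ⊗ A) ⊗ B₁ agree. Then there is
exactly one R-algebra homomorphism φ : B₂ → B₁ (a morphism X₁ → X₂) whose base changes to K and to A
are φ_K and φ_A. (The published statement assumes only X₂ flat over S; flatness of X₁ is also
needed: with B₂ = R[t], B₁ = R[e]/(e², πe) for a uniformizer π and A = R[x], the maps t ↦ 0 over K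
and t ↦ e x over A agree over K ⊗ A = K[x] but come from no map over R.) -/
theorem result (R : Type u) [CommRing R] [IsDomain R]
    [IsDiscreteValuationRing R] (K : Type u) [Field K] [Algebra R K] [IsFractionRing R K]
    (A : Type u) [CommRing A] [Algebra R A] [Module.FaithfullyFlat R A]
    (B₁ B₂ : Type u) [CommRing B₁] [CommRing B₂] [Algebra R B₁] [Algebra R B₂]
    [Module.Flat R B₁] [Module.Flat R B₂]
    (φK : K ⊗[R] B₂ →ₐ[K] K ⊗[R] B₁) (φA : A ⊗[R] B₂ →ₐ[A] A ⊗[R] B₁)
    (hcomp : ∀ b : B₂,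
      Algebra.TensorProduct.map (Algebra.TensorProduct.includeLeft : K →ₐ[R] K ⊗[R] A) (AlgHom.id R B₁)
          (φK (1 ⊗ₜ b)) =
        Algebra.TensorProduct.map (Algebra.TensorProduct.includeRight : A →ₐ[R] K ⊗[R] A) (AlgHom.id R B₁)
          (φA (1 ⊗ₜ b))) :
    ∃! φ : B₂ →ₐ[R] B₁, (∀ b : B₂, φK (1 ⊗ₜ b) = 1 ⊗ₜ φ b) ∧ (∀ b : B₂, φA (1 ⊗ₜ b) = 1 ⊗ₜ φ b) := by
  classical
  obtain ⟨ϖ, hϖ⟩ := IsDiscreteValuationRing.exists_irreducible R
  let ι : B₁ →ₐ[R] K ⊗[R] B₁ := Algebra.TensorProduct.includeRight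
  let iK : K →ₐ[R] K ⊗[R] A := Algebra.TensorProduct.includeLeft
  let iA : A →ₐ[R] K ⊗[R] A := Algebra.TensorProduct.includeRight
  let mK := Algebra.TensorProduct.map iK (AlgHom.id R B₁)
  let mA := Algebra.TensorProduct.map iA (AlgHom.id R B₁)
  have hι : Function.Injective ι :=
    Algebra.TensorProduct.includeRight_injective (IsFractionRing.injective R K)
  have hiA : Function.Injective iA :=
    Algebra.TensorProduct.includeRight_injective (IsFractionRing.injective R K)
  have hmA : Function.Injective mA := by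
    have h2 := Module.Flat.rTensor_preserves_injective_linearMap (M := B₁) iA.toLinearMap hiA
    intro p q h
    apply h2
    have e : ∀ z, LinearMap.rTensor B₁ iA.toLinearMap z = mA z := by
      intro z
      induction z using TensorProduct.induction_on with
      | zero => simp
      | tmul a b => simp [mA]
      | add p q hp hq => rw [map_add, map_add, hp, hq]
    rw [e, e, h]
  have hcl : ∀ x : K ⊗[R] B₁, ∃ (n : ℕ) (b : B₁), (ϖ ^ n) • x = ι b := by
    intro x
    induction x using TensorProduct.induction_on with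
    | zero => exact ⟨0, 0, by simp⟩
    | tmul k b =>
      obtain ⟨⟨a, r⟩, hr⟩ := IsLocalization.surj (nonZeroDivisors R) k
      obtain ⟨n, u, hu⟩ := IsDiscreteValuationRing.eq_unit_mul_pow_irreducible
        (nonZeroDivisors.ne_zero r.2) hϖ
      refine ⟨n, (((u⁻¹ : Rˣ) : R) * a) • b, ?_⟩
      have h1 : (ϖ ^ n) • k = algebraMap R K (((u⁻¹ : Rˣ) : R) * a) := by
        rw [map_mul, ← hr, Algebra.smul_def]
        have : (ϖ ^ n : R) = ((u⁻¹ : Rˣ) : R) * (r : R) := by
          rw [hu, ← mul_assoc, Units.inv_mul, one_mul]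
        rw [this, map_mul]
        dsimp only
        ring
      rw [TensorProduct.smul_tmul', h1, Algebra.algebraMap_eq_smul_one, TensorProduct.smul_tmul]
      rfl
    | add p q hp hq =>
      obtain ⟨n, b, hb⟩ := hp
      obtain ⟨m, c, hc⟩ := hq
      refine ⟨n + m, (ϖ ^ m) • b + (ϖ ^ n) • c, ?_⟩
      rw [smul_add, map_add, map_smul, map_smul, ← hb, ← hc, smul_smul, smul_smul, pow_add,
        mul_comm (ϖ ^ m) (ϖ ^ n)]
  have key : ∀ (x : K ⊗[R] B₁) (y : A ⊗[R] B₁), mK x = mA y →
      ∃ c : B₁, x = ι c ∧ y = 1 ⊗ₜ c := by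
    intro x y hxy
    obtain ⟨n, b, hb⟩ := hcl x
    have hK1 : ∀ c : B₁, mK (ι c) = mA (1 ⊗ₜ c) := by
      intro c
      simp [mK, mA, ι]
    have hy : (ϖ ^ n) • y = 1 ⊗ₜ b := by
      apply hmA
      rw [map_smul, ← hxy, ← map_smul, hb, hK1]
    let N : Submodule R B₁ := LinearMap.range (LinearMap.lsmul R B₁ (ϖ ^ n))
    have hbN : b ∈ N := by
      rw [← Submodule.Quotient.mk_eq_zero]
      apply Module.FaithfullyFlat.tensorProduct_mk_injective (A := R) (B := A) (B₁ ⧸ N)
      rw [map_zero, TensorProduct.mk_apply]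
      have := congrArg (LinearMap.lTensor A N.mkQ) hy.symm
      rw [LinearMap.lTensor_tmul, Submodule.mkQ_apply, map_smul] at this
      rw [this]
      generalize LinearMap.lTensor A N.mkQ y = z
      induction z using TensorProduct.induction_on with
      | zero => simp
      | tmul a q =>
        obtain ⟨q, rfl⟩ := Submodule.mkQ_surjective N q
        rw [← TensorProduct.tmul_smul, ← map_smul]
        have : N.mkQ ((ϖ ^ n) • q) = 0 := by
          rw [Submodule.mkQ_apply, Submodule.Quotient.mk_eq_zero]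
          exact ⟨q, rfl⟩
        rw [this, TensorProduct.tmul_zero]
      | add p q hp hq => rw [smul_add, hp, hq, add_zero]
    obtain ⟨c, hc⟩ := hbN
    have hc' : (ϖ ^ n) • c = b := hc
    have hx : x = ι c := by
      have h0 : (algebraMap R K (ϖ ^ n)) • x = (algebraMap R K (ϖ ^ n)) • ι c := by
        rw [algebraMap_smul, algebraMap_smul, hb, ← map_smul, hc']
      have hne : algebraMap R K (ϖ ^ n) ≠ 0 := by
        rw [Ne, map_eq_zero_iff _ (IsFractionRing.injective R K)]
        exact pow_ne_zero _ hϖ.ne_zero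
      exact (IsUnit.smul_left_cancel (Ne.isUnit hne)).mp h0
    refine ⟨c, hx, hmA ?_⟩
    rw [← hxy, hx, hK1]
  let f : B₂ →ₐ[R] K ⊗[R] B₁ :=
    (φK.restrictScalars R).comp Algebra.TensorProduct.includeRight
  have hf : ∀ b, f b ∈ ι.range := by
    intro b
    obtain ⟨c, hc, -⟩ := key (φK (1 ⊗ₜ b)) (φA (1 ⊗ₜ b)) (hcomp b)
    exact ⟨c, hc.symm⟩
  let φ : B₂ →ₐ[R] B₁ := (AlgEquiv.ofInjective ι hι).symm.toAlgHom.comp (f.codRestrict ι.range hf)
  have hφ : ∀ b, ι (φ b) = f b := by
    intro b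
    have := (AlgEquiv.ofInjective ι hι).apply_symm_apply (f.codRestrict ι.range hf b)
    exact congrArg Subtype.val this
  refine ⟨φ, ⟨fun b => (hφ b).symm, fun b => ?_⟩, ?_⟩
  · obtain ⟨c, hc, hy⟩ := key (φK (1 ⊗ₜ b)) (φA (1 ⊗ₜ b)) (hcomp b)
    have : φ b = c := hι ((hφ b).trans hc)
    rw [this, hy]
  · rintro ψ ⟨h1, -⟩
    ext b
    apply hι
    rw [hφ b]
    exact (h1 b).symm

end Groth.Agent.S13154
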