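import Groth.Statements.S13155
import Mathlib.RingTheory.AdjoinRoot
import Mathlib.RingTheory.IntegralClosure.IntegrallyClosed
import Mathlib.RingTheory.Localization.Away.Basic

set_option autoImplicit false
universe u
open CAlg

namespace Groth.Agent.S13155

/-- Let R be a discrete valuation ring of characteristic zero with uniformizer π, and A a Noetherian
integrally closed domain which is an R-algebra with injective structure map and in which πA is a
prime ideal (X = Spec A is normal, flat over R, with integral special fibre). Let m ≥ 1 and let f ∈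
A be invertible in A[1/π] (so Z^m = f defines a μ_m-torsor over the generic fibre), such that S =
A[1/π][Z]/(Z^m − f) is an integral domain and, writing B for the integral closure of A in S (the
normalization of X in that cover), πB is a prime ideal of B (the normalization has integral special
fibre). Then f is, up to a unit of A, an m-th power of a power of π: f = π^{mq}·u with q ≥ 0 and u ∈
A^×, so that the cover extends to the μ_m-torsor Z^m = u over all of X. (The published statement is
the existence and uniqueness of the extending μ_m-torsor over a normal faithfully flat R-scheme with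
integral fibres, R containing a primitive m-th root of unity; this row is the affine computation
that carries the proof.) -/
theorem result (R : Type u) [CommRing R]
    [IsDomain R] [IsDiscreteValuationRing R] [CharZero R] (ϖ : R) (hϖ : Irreducible ϖ)
    (A : Type u) [CommRing A] [IsDomain A] [IsNoetherianRing A] [IsIntegrallyClosed A] [Algebra R A]
    (hinj : Function.Injective (algebraMap R A)) (hprime : (Ideal.span {algebraMap R A ϖ}).IsPrime)
    (m : ℕ) (hm : 0 < m) (f : A) (hf : IsUnit (algebraMap A (Localization.Away (algebraMap R A ϖ)) f))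
    [IsDomain (AdjoinRoot (Polynomial.X ^ m - Polynomial.C (algebraMap A (Localization.Away (algebraMap R A ϖ)) f)))]
    (hsp : (Ideal.span {algebraMap A (integralClosure A
        (AdjoinRoot (Polynomial.X ^ m - Polynomial.C (algebraMap A (Localization.Away (algebraMap R A ϖ)) f))))
          (algebraMap R A ϖ)}).IsPrime) :
    ∃ (q : ℕ) (u : Aˣ), f = algebraMap R A ϖ ^ (m * q) * (u : A) := by
  classical
  set π := algebraMap R A ϖ with hπdef
  have hπ0 : π ≠ 0 := fun h => hϖ.ne_zero (hinj (h.trans (map_zero _).symm))
  have hπp : Prime π := (Ideal.span_singleton_prime hπ0).mp hprime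
  -- `f` is a power of `π` up to a unit
  obtain ⟨a, u, hfa⟩ : ∃ (a : ℕ) (u : Aˣ), f = π ^ a * u := by
    obtain ⟨z, hz⟩ := hf.exists_right_inv
    obtain ⟨⟨g, ⟨_, n, rfl⟩⟩, hg⟩ := IsLocalization.surj (Submonoid.powers π) z
    have h1 : algebraMap A (Localization.Away π) (f * g) = algebraMap A (Localization.Away π) (π ^ n) := by
      simp only at hg
      rw [map_mul, ← hg, ← mul_assoc, hz, one_mul]
    have h2 : f * g = π ^ n := IsLocalization.injective _ (powers_le_nonZeroDivisors_of_noZeroDivisors hπ0) h1
    obtain ⟨a, -, hass⟩ := (dvd_prime_pow hπp n).mp ⟨g, h2.symm⟩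
    obtain ⟨u, hu⟩ := hass.symm
    exact ⟨a, u, hu.symm⟩
  set T := AdjoinRoot (Polynomial.X ^ m - Polynomial.C (algebraMap A (Localization.Away π) f))
  let B := integralClosure A T
  let Y : T := AdjoinRoot.root _
  have hY : Y ^ m = algebraMap A T f := by
    have := AdjoinRoot.eval₂_root (Polynomial.X ^ m - Polynomial.C (algebraMap A (Localization.Away π) f))
    rw [Polynomial.eval₂_sub, Polynomial.eval₂_X_pow, Polynomial.eval₂_C, sub_eq_zero] at this
    exact this
  let y : B := ⟨Y, IsIntegral.of_pow hm (by rw [hY]; exact isIntegral_algebraMap)⟩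
  let ρ : B := algebraMap A B π
  have hy : y ^ m = ρ ^ a * algebraMap A B u := Subtype.ext (by
    change Y ^ m = _
    rw [hY, show algebraMap A T f = algebraMap A T (π ^ a * u) from congrArg _ hfa, map_mul, map_pow]; rfl)
  have hρT : IsUnit (algebraMap A T π) := by
    rw [IsScalarTower.algebraMap_apply A (Localization.Away π) T]
    exact (IsLocalization.Away.algebraMap_isUnit π).map _
  have hρ0 : ρ ≠ 0 := fun h => hρT.ne_zero (congrArg Subtype.val h)
  have hρp : Prime ρ := (Ideal.span_singleton_prime hρ0).mp hsp
  have hu : IsUnit (algebraMap A B (u : A)) := u.isUnit.map _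
  have hbd : ∀ j, ρ ^ j ∣ y → j * m ≤ a := by
    intro j hj
    by_contra hlt
    have h1 : ρ ^ (j * m) ∣ ρ ^ a * algebraMap A B u := by rw [← hy, pow_mul]; exact pow_dvd_pow_of_dvd hj m
    rw [hu.dvd_mul_right] at h1
    have := (pow_dvd_pow_iff hρ0 hρp.not_unit).mp h1
    omega
  let q := Nat.findGreatest (fun j => ρ ^ j ∣ y) a
  obtain ⟨w, hw⟩ : ρ ^ q ∣ y := Nat.findGreatest_spec (P := fun j => ρ ^ j ∣ y) (Nat.zero_le a) (by simp)
  have hnd : ¬ ρ ∣ w := by
    rintro ⟨w', rfl⟩
    have hdvd : ρ ^ (q + 1) ∣ y := ⟨w', by rw [hw, pow_succ, mul_assoc]⟩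
    have h1 := hbd _ hdvd
    have : q + 1 ≤ q := Nat.le_findGreatest ((Nat.le_mul_of_pos_right _ hm).trans h1) hdvd
    omega
  have hqa : q * m ≤ a := hbd q ⟨w, hw⟩
  have hwm : w ^ m = ρ ^ (a - q * m) * algebraMap A B u := by
    refine mul_left_cancel₀ (pow_ne_zero (q * m) hρ0) ?_
    rw [← mul_assoc, ← pow_add, Nat.add_sub_cancel' hqa, ← hy, hw, mul_pow, pow_mul]
  refine ⟨q, u, ?_⟩
  rcases Nat.eq_zero_or_pos (a - q * m) with h | h
  · rw [hfa, mul_comm m q, show a = q * m by omega]
  · exact absurd (hρp.dvd_of_dvd_pow (hwm ▸ dvd_mul_of_dvd_left (dvd_pow_self ρ h.ne') _)) hnd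

end Groth.Agent.S13155
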