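import Groth.Statements.S13156
import Mathlib.RingTheory.MvPolynomial.IrreducibleQuadratic
import Mathlib.RingTheory.RegularLocalRing.Defs
import Mathlib.Tactic.LinearCombination
import Mathlib.Tactic.Ring
import Mathlib.Tactic.Push

set_option autoImplicit false
universe u
open scoped Polynomial
open CAlg

namespace Groth.Agent.S13156

/-- Let p be a prime number, A a commutative ring in which (p−1)! is invertible, μ an element of A, and
F ∈ A[X] a polynomial of degree at most p − 1 with coefficients a_0, a_1, …. Then the identity
F(S)·F(T) − a_0² = F(S + T + μST) − a_0 holds in the polynomial ring A[S, T] if and only if a_1·F(S)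
= F′(S)·(1 + μS) holds in A[S], F′ the formal derivative. (The published statement is over the
quotient of a discrete valuation ring of residue characteristic p by a nonzero element of its
maximal ideal; only the invertibility of 1, …, p − 1 is used, so an arbitrary such ring A is allowed
here.) -/
theorem result (A : Type u) [CommRing A] (p : ℕ) [Fact p.Prime]
    (hu : IsUnit ((Nat.factorial (p - 1) : ℕ) : A)) (μ : A) (F : A[X]) (hF : F.natDegree < p) :
    (Polynomial.aeval (MvPolynomial.X 0 : MvPolynomial (Fin 2) A) F *
          Polynomial.aeval (MvPolynomial.X 1 : MvPolynomial (Fin 2) A) F - MvPolynomial.C (F.coeff 0 ^ 2) =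
        Polynomial.aeval (MvPolynomial.X 0 + MvPolynomial.X 1 +
            MvPolynomial.C μ * MvPolynomial.X 0 * MvPolynomial.X 1 : MvPolynomial (Fin 2) A) F -
          MvPolynomial.C (F.coeff 0)) ↔
      F * Polynomial.C (F.coeff 1) = Polynomial.derivative F * (1 + Polynomial.C μ * Polynomial.X) := by
  classical
  have hunit : ∀ k : ℕ, 0 < k → k < p → IsUnit ((k : ℕ) : A) := fun k hk hkp =>
    isUnit_of_dvd_unit (Nat.cast_dvd_cast (Nat.dvd_factorial hk (by omega))) hu
  let a0 := F.coeff 0
  let a1 := F.coeff 1
  let ι : A →+* A[X][X] := Polynomial.C.comp Polynomial.C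
  let x : A[X][X] := Polynomial.C Polynomial.X
  let y : A[X][X] := Polynomial.X
  let w : A[X][X] := x + y + ι μ * x * y
  let Fx := Polynomial.eval₂ ι x F
  let Fy := Polynomial.eval₂ ι y F
  let Fw := Polynomial.eval₂ ι w F
  have hFx : Fx = Polynomial.C F := by
    simp only [Fx, x, ι, ← Polynomial.hom_eval₂]
    congr 1
    exact Polynomial.eval₂_C_X
  have hFy : Fy = F.map Polynomial.C := rfl
  let φ : MvPolynomial (Fin 2) A →ₐ[A] A[X][X] := MvPolynomial.aeval ![x, y]
  let ψ : A[X][X] →+* MvPolynomial (Fin 2) A := Polynomial.eval₂RingHom
    (Polynomial.aeval (MvPolynomial.X 0 : MvPolynomial (Fin 2) A)).toRingHom (MvPolynomial.X 1)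
  have hinj : Function.Injective φ := by
    refine Function.LeftInverse.injective (g := ψ) fun z => ?_
    have : ψ.comp φ.toRingHom = RingHom.id _ := by
      refine MvPolynomial.ringHom_ext (fun r => ?_) fun i => ?_
      · simp [φ, ψ, Polynomial.algebraMap_def]
      · fin_cases i <;> simp [φ, ψ, x, y]
    exact RingHom.congr_fun this z
  have hev : ∀ (G : A[X]) (v : MvPolynomial (Fin 2) A),
      φ (Polynomial.aeval v G) = Polynomial.eval₂ ι (φ v) G := by
    intro G v
    rw [← Polynomial.aeval_algHom_apply, Polynomial.aeval_def]
    rfl
  let D := Fx * Fy - ι (a0 ^ 2) - (Fw - ι a0)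
  have hiff : (Polynomial.aeval (MvPolynomial.X 0 : MvPolynomial (Fin 2) A) F *
          Polynomial.aeval (MvPolynomial.X 1 : MvPolynomial (Fin 2) A) F - MvPolynomial.C (F.coeff 0 ^ 2) =
        Polynomial.aeval (MvPolynomial.X 0 + MvPolynomial.X 1 +
            MvPolynomial.C μ * MvPolynomial.X 0 * MvPolynomial.X 1 : MvPolynomial (Fin 2) A) F -
          MvPolynomial.C (F.coeff 0)) ↔ D = 0 := by
    rw [← hinj.eq_iff, sub_eq_zero]
    simp only [map_sub, map_mul, hev, map_add]
    simp [φ, Fx, Fy, Fw, w, ι, a0, x, y, Polynomial.algebraMap_def]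
  rw [hiff]
  -- the derivative in `y`
  have hder : ∀ (G : A[X]) (v : A[X][X]), Polynomial.derivative (Polynomial.eval₂ ι v G) =
      Polynomial.derivative v * Polynomial.eval₂ ι v (Polynomial.derivative G) := by
    intro G v
    induction G using Polynomial.induction_on' with
    | add a b ha hb => simp only [Polynomial.eval₂_add, map_add, ha, hb, mul_add]
    | monomial n a =>
      simp only [Polynomial.eval₂_monomial, Polynomial.derivative_monomial, map_mul, map_natCast,
        Polynomial.derivative_mul, Polynomial.derivative_pow]
      simp only [ι, RingHom.comp_apply, Polynomial.derivative_C, zero_mul, zero_add]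
      ring
  have hw0 : Polynomial.eval 0 w = Polynomial.X := by simp [w, x, y, ι]
  have hw' : Polynomial.derivative w = 1 + ι μ * x := by simp [w, x, y, ι]
  have hev0 : ∀ (v : A[X][X]) (G : A[X]),
      Polynomial.eval 0 (Polynomial.eval₂ ι v G) = Polynomial.eval₂ Polynomial.C (Polynomial.eval 0 v) G := by
    intro v G
    rw [← Polynomial.coe_evalRingHom, Polynomial.hom_eval₂]
    congr 1
    ext r : 1
    simp [ι]
  have hFx0 : Polynomial.eval 0 Fx = F := by rw [hFx, Polynomial.eval_C]
  have hFy0 : Polynomial.eval 0 Fy = Polynomial.C a0 := by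
    rw [hev0, show Polynomial.eval 0 y = 0 from Polynomial.eval_X, Polynomial.eval₂_at_zero]
  have hFw0 : Polynomial.eval 0 Fw = F := by rw [hev0, hw0, Polynomial.eval₂_C_X]
  have hFy0' : Polynomial.eval 0 (Polynomial.eval₂ ι y (Polynomial.derivative F)) = Polynomial.C a1 := by
    rw [hev0, show Polynomial.eval 0 y = 0 from Polynomial.eval_X, Polynomial.eval₂_at_zero,
      Polynomial.coeff_derivative]
    simp [a1]
  have hD' : Polynomial.derivative D = Fx * Polynomial.eval₂ ι y (Polynomial.derivative F) -
      (1 + ι μ * x) * Polynomial.eval₂ ι w (Polynomial.derivative F) := by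
    simp only [D, Fx, Fy, Fw, map_sub, Polynomial.derivative_mul, hder, hw']
    simp [ι, x, y, -map_pow]
  refine ⟨fun hD => ?_, fun hode => ?_⟩
  · have h1 := congrArg (Polynomial.eval 0) hD'
    rw [hD, map_zero, Polynomial.eval_zero, Polynomial.eval_sub, Polynomial.eval_mul, Polynomial.eval_mul,
      hFx0, hFy0', hev0, hw0, Polynomial.eval₂_C_X] at h1
    simp only [ι, x, Polynomial.eval_add, Polynomial.eval_one, Polynomial.eval_mul, Polynomial.eval_C,
      RingHom.comp_apply] at h1
    linear_combination -h1
  · have hcoef : ∀ k, 1 ≤ k → F.coeff k * (a0 - 1) = 0 := by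
      intro k hk
      induction k, hk using Nat.le_induction with
      | base =>
        have h := congrArg (fun G => Polynomial.coeff G 0) hode
        simp [Polynomial.coeff_derivative, Polynomial.mul_coeff_zero] at h
        linear_combination h
      | succ k hk ih =>
        by_cases hkp : k + 1 < p
        · obtain ⟨k, rfl⟩ : ∃ l, k = l + 1 := ⟨k - 1, by omega⟩
          have h := congrArg (fun G => Polynomial.coeff G (k + 1)) hode
          simp only [mul_add, mul_one, Polynomial.coeff_mul_C, Polynomial.coeff_add, Polynomial.coeff_derivative,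
            show Polynomial.derivative F * (Polynomial.C μ * Polynomial.X) =
              (Polynomial.derivative F * Polynomial.C μ) * Polynomial.X by ring,
            Polynomial.coeff_mul_X] at h
          push_cast at h
          refine (IsUnit.mul_left_eq_zero (hunit (k + 2) (by omega) (by omega))).mp ?_
          push_cast
          linear_combination (a0 - 1) * (-h) + (a1 - μ * ((k : A) + 1)) * ih
        · rw [Polynomial.coeff_eq_zero_of_natDegree_lt (by omega), zero_mul]
    have hFc : Polynomial.C (a0 - 1) * (F - Polynomial.C a0) = 0 := by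
      ext k
      rw [Polynomial.coeff_C_mul, Polynomial.coeff_sub, Polynomial.coeff_zero]
      rcases Nat.eq_zero_or_pos k with rfl | hk
      · simp [a0]
      · rw [Polynomial.coeff_C, if_neg (by omega), sub_zero, mul_comm]
        exact hcoef k hk
    have ha01 : a1 * (a0 ^ 2 - a0) = 0 := by linear_combination a0 * hcoef 1 le_rfl
    have hodev : ∀ v : A[X][X], Polynomial.eval₂ ι v F * ι a1 =
        Polynomial.eval₂ ι v (Polynomial.derivative F) * (1 + ι μ * v) := by
      intro v
      simpa [Polynomial.eval₂_mul, Polynomial.eval₂_add] using congrArg (Polynomial.eval₂ ι v) hode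
    have hrec : (1 + ι μ * y) * Polynomial.derivative D = ι a1 * D := by
      rw [hD']
      have h1 := hodev y
      have h2 := hodev w
      have h3 : ι a1 * (ι (a0 ^ 2) - ι a0) = 0 := by rw [← map_sub, ← map_mul, ha01, map_zero]
      simp only [D]
      have h4 : 1 + ι μ * w = (1 + ι μ * x) * (1 + ι μ * y) := by simp only [w]; ring
      rw [h4] at h2
      linear_combination -(Fx * h1) + h2 + h3
    have hdeg : D.natDegree ≤ p - 1 := by
      have hF' : F.natDegree ≤ p - 1 := by omega
      have hy : ∀ v : A[X][X], v.natDegree ≤ 1 → (Polynomial.eval₂ ι v F).natDegree ≤ p - 1 := by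
        intro v hv
        rw [Polynomial.eval₂_eq_sum_range]
        refine Polynomial.natDegree_sum_le_of_forall_le _ _ fun i hi => ?_
        refine Polynomial.natDegree_mul_le.trans ?_
        simp only [ι, RingHom.comp_apply, Polynomial.natDegree_C, zero_add]
        refine Polynomial.natDegree_pow_le.trans ((Nat.mul_le_mul_left i hv).trans ?_)
        have := Finset.mem_range.mp hi
        omega
      refine (Polynomial.natDegree_sub_le _ _).trans (max_le ((Polynomial.natDegree_sub_le _ _).trans
        (max_le ?_ (by simp [ι, -map_pow]))) ((Polynomial.natDegree_sub_le _ _).trans (max_le (hy w ?_) (by simp [ι, -map_pow]))))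
      · rw [hFx]
        exact (Polynomial.natDegree_C_mul_le _ _).trans (hy y Polynomial.natDegree_X_le)
      · rw [show w = Polynomial.C (1 + Polynomial.C μ * Polynomial.X) * Polynomial.X + x by
          simp only [w, x, y, ι, RingHom.comp_apply, map_add, map_mul, map_one]; ring]
        exact Polynomial.natDegree_linear_le
    have hD0 : D.coeff 0 = 0 := by
      rw [Polynomial.coeff_zero_eq_eval_zero]
      simp only [D, Polynomial.eval_sub, Polynomial.eval_mul, hFx0, hFy0, hFw0]
      simp only [ι, RingHom.comp_apply, Polynomial.eval_C]
      rw [map_sub, map_one] at hFc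
      rw [map_pow]
      linear_combination hFc
    ext k : 1
    rw [Polynomial.coeff_zero]
    induction k with
    | zero => exact hD0
    | succ k ih =>
      by_cases hkp : k + 1 < p
      · have h := congrArg (fun G => Polynomial.coeff G k) hrec
        rw [add_mul, one_mul, Polynomial.coeff_add, show ι μ * y * Polynomial.derivative D =
          Polynomial.C (Polynomial.C μ) * (Polynomial.derivative D * Polynomial.X) by
            simp only [ι, y, RingHom.comp_apply]; ring] at h
        simp only [ι, RingHom.comp_apply, Polynomial.coeff_C_mul, Polynomial.coeff_derivative, ih, mul_zero] at h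
        have hx : Polynomial.coeff (Polynomial.derivative D * Polynomial.X) k = 0 := by
          cases k with
          | zero => exact Polynomial.coeff_mul_X_zero _
          | succ l => rw [Polynomial.coeff_mul_X, Polynomial.coeff_derivative, ih, zero_mul]
        rw [hx, mul_zero, add_zero] at h
        have hu' : IsUnit ((k : A[X]) + 1) := by
          have := (hunit (k + 1) (by omega) hkp).map Polynomial.C
          simpa using this
        exact hu'.mul_left_eq_zero.mp h
      · exact Polynomial.coeff_eq_zero_of_natDegree_lt (by omega)

end Groth.Agent.S13156
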