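import Groth.Statements.S14051
import Mathlib.Algebra.Order.Ring.Star
import Mathlib.Algebra.TrivSqZeroExt.Basic
import Mathlib.Order.CompletePartialOrder
import Mathlib.RingTheory.Flat.TorsionFree
import Mathlib.RingTheory.Henselian
import Mathlib.RingTheory.MvPolynomial.IrreducibleQuadratic
import Mathlib.RingTheory.PicardGroup
import Mathlib.RingTheory.RegularLocalRing.Defs
import Mathlib.RingTheory.SimpleRing.Principal
import Mathlib.RingTheory.TotallySplit

set_option autoImplicit false
universe u
open CAlg

namespace Groth.Agent.S14051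

/-- Let A be a commutative ℕ-graded algebra over a base ring R which is generated by A_1 as an
A_0-algebra, written as A_{n+1} = A_1 · A_n for every n, and let M be a graded A-module: an A-module
with R-submodules M_n giving a direct-sum decomposition and A_i · M_j ⊆ M_{i+j}. If M is spanned
over A by a set of homogeneous elements all of degree at most n₀, then for every n ≥ n₀ and every k
≥ 0 the degree-(n+k) part of M is A_k · M_n. -/
theorem result
    (R : Type u) [CommRing R] (A : Type u) [CommRing A] [Algebra R A]
    (𝒜 : ℕ → Submodule R A) [GradedAlgebra 𝒜]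
    (hA : ∀ n : ℕ, 𝒜 (n + 1) = 𝒜 1 * 𝒜 n)
    (M : Type u) [AddCommGroup M] [Module R M] [Module A M] [IsScalarTower R A M]
    (ℳ : ℕ → Submodule R M) [DirectSum.Decomposition ℳ] [SetLike.GradedSMul 𝒜 ℳ]
    (s : Set M) (n₀ : ℕ) (hs : ∀ y ∈ s, ∃ d : ℕ, d ≤ n₀ ∧ y ∈ ℳ d)
    (hspan : Submodule.span A s = ⊤)
    (n k : ℕ) (hn : n₀ ≤ n) :
    ℳ (n + k) = 𝒜 k • ℳ n := by
  classical
  have hle : ∀ i d, 𝒜 i • ℳ d ≤ ℳ (i + d) := fun i d => Submodule.smul_le.mpr fun a ha m hm => SetLike.GradedSMul.smul_mem ha hm
  have hstep : ∀ n, n₀ ≤ n → ℳ (n + 1) ≤ 𝒜 1 • ℳ n := by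
    intro n hn x hx
    suffices ∀ m ∈ Submodule.span A s, ∀ a : A, ((DirectSum.decompose ℳ (a • m)) (n + 1) : M) ∈ 𝒜 1 • ℳ n by
      have := this x (hspan ▸ Submodule.mem_top) 1
      rwa [one_smul, DirectSum.decompose_of_mem_same ℳ hx] at this
    intro m hm
    induction hm using Submodule.span_induction with
    | mem y hy =>
      intro a
      obtain ⟨d, hd, hyd⟩ := hs y hy
      rw [← DirectSum.sum_support_decompose 𝒜 a, Finset.sum_smul, DirectSum.decompose_sum,
        DirectSum.sum_apply, AddSubmonoidClass.coe_finsetSum]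
      refine Submodule.sum_mem _ fun i _ => ?_
      have hmem : (DirectSum.decompose 𝒜 a i : A) • y ∈ ℳ (i + d) :=
        SetLike.GradedSMul.smul_mem (DirectSum.decompose 𝒜 a i).2 hyd
      by_cases he : i + d = n + 1
      · rw [he] at hmem
        rw [DirectSum.decompose_of_mem_same ℳ hmem]
        have h1 : (DirectSum.decompose 𝒜 a i : A) ∈ 𝒜 1 * 𝒜 (n - d) := by
          rw [← hA]; rw [show n - d + 1 = i by omega]; exact (DirectSum.decompose 𝒜 a i).2
        have h2 := Submodule.smul_mem_smul h1 hyd
        rw [← smul_eq_mul, Submodule.smul_assoc] at h2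
        exact Submodule.smul_mono le_rfl (by simpa [show n - d + d = n by omega] using hle (n - d) d) h2
      · rw [DirectSum.decompose_of_mem_ne ℳ hmem he]
        exact Submodule.zero_mem _
    | zero => intro a; simp
    | add y z _ _ hy hz =>
      intro a
      rw [smul_add, DirectSum.decompose_add, DirectSum.add_apply, Submodule.coe_add]
      exact add_mem (hy a) (hz a)
    | smul b y _ hy => intro a; rw [smul_smul]; exact hy _
  refine le_antisymm ?_ ((hle k n).trans (by rw [add_comm]))
  induction k with
  | zero =>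
    intro x hx
    rw [← one_smul A x]
    exact Submodule.smul_mem_smul (SetLike.GradedOne.one_mem) (by simpa using hx)
  | succ k ih =>
    intro x hx
    have h1 := hstep (n + k) (by omega) (by simpa [add_assoc] using hx)
    have h2 := Submodule.smul_mono le_rfl ih h1
    rw [← Submodule.smul_assoc, smul_eq_mul, ← hA] at h2
    exact h2

end Groth.Agent.S14051
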