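import Groth.Statements.S13157
import Groth.Agent.H3CAlg.WittHomog
import Groth.Agent.S14051
import Mathlib.RingTheory.WittVector.Frobenius

set_option autoImplicit false
universe u
open scoped Polynomial
open CAlg

namespace Groth.Agent.S13157

/-- (i) ⇔ (ii): let p be a prime number, A a commutative ring in which (p−1)! is invertible, μ ∈ A, and
F ∈ A[X] a polynomial of degree at most p − 1 with constant term a_0 = 1 and coefficients a_1, a_2,
…. Then the relations a_{r−1}·a_1 = (r − 1)μ·a_{r−1} + r·a_r for 1 ≤ r ≤ p (with a_p = 0), written
here as the single identity a_1·F = F′·(1 + μX), hold if and only if r!·a_r = ∏_{k=0}^{r−1} (a_1 −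
kμ) for every 1 ≤ r ≤ p − 1 and ∏_{k=0}^{p−1} (a_1 − kμ) = 0. (The published statement lists the
relations only for 1 ≤ r ≤ p − 1, while its proof uses and derives the relation for r = p as well,
which is needed for the vanishing of the last product; it is included here. The published setting is
the quotient of a discrete valuation ring of residue characteristic p by a nonzero non-unit; only
the invertibility of 1, …, p − 1 is used.) -/
theorem result (A : Type u) [CommRing A] (p : ℕ) [Fact p.Prime]
    (hu : IsUnit ((Nat.factorial (p - 1) : ℕ) : A)) (μ : A) (F : A[X]) (hF : F.natDegree < p)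
    (h0 : F.coeff 0 = 1) :
    F * Polynomial.C (F.coeff 1) = Polynomial.derivative F * (1 + Polynomial.C μ * Polynomial.X) ↔
      ((∀ r : ℕ, 1 ≤ r → r < p →
          (r.factorial : A) * F.coeff r = ∏ k ∈ Finset.range r, (F.coeff 1 - (k : A) * μ)) ∧
        ∏ k ∈ Finset.range p, (F.coeff 1 - (k : A) * μ) = 0) := by
  set a := F.coeff 1
  have hcoef : ∀ r : ℕ, (Polynomial.derivative F * (1 + Polynomial.C μ * Polynomial.X)).coeff r =
      ((r + 1 : ℕ) : A) * F.coeff (r + 1) + μ * ((r : A) * F.coeff r) := by
    intro r
    rw [mul_add, mul_one, Polynomial.coeff_add, Polynomial.coeff_derivative, ← mul_assoc]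
    congr 1
    · push_cast; ring
    · cases r with
      | zero => simp
      | succ r => rw [Polynomial.coeff_mul_X, Polynomial.coeff_mul_C, Polynomial.coeff_derivative]; push_cast; ring
  have hrec : (F * Polynomial.C a = Polynomial.derivative F * (1 + Polynomial.C μ * Polynomial.X)) ↔
      ∀ r : ℕ, ((r + 1 : ℕ) : A) * F.coeff (r + 1) = (a - (r : A) * μ) * F.coeff r := by
    rw [Polynomial.ext_iff]
    refine forall_congr' fun r => ?_
    rw [hcoef, Polynomial.coeff_mul_C]
    constructor <;> intro h <;> linear_combination -h
  have hvan : ∀ r, p ≤ r → F.coeff r = 0 := fun r hr => Polynomial.coeff_eq_zero_of_natDegree_lt (by omega)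
  have hp1 := (Fact.out : p.Prime).one_lt
  have hfac : ∀ r, r ≤ p - 1 → IsUnit ((r.factorial : ℕ) : A) := fun r hr =>
    isUnit_of_dvd_unit (Nat.cast_dvd_cast (Nat.factorial_dvd_factorial hr)) hu
  rw [hrec]
  constructor
  · intro h
    have hall : ∀ r, r < p → (r.factorial : A) * F.coeff r = ∏ k ∈ Finset.range r, (a - (k : A) * μ) := by
      intro r
      induction r with
      | zero => intro _; simp [h0]
      | succ r ih =>
        intro hr
        rw [Finset.prod_range_succ, ← ih (by omega), Nat.factorial_succ]
        push_cast
        have := h r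
        push_cast at this
        linear_combination (r.factorial : A) * this
    refine ⟨fun r _ hr => hall r hr, ?_⟩
    obtain ⟨q, rfl⟩ : ∃ q, p = q + 1 := ⟨p - 1, by omega⟩
    have := h q
    rw [hvan (q + 1) le_rfl, mul_zero] at this
    rw [Finset.prod_range_succ, ← hall q (by omega)]
    linear_combination -(q.factorial : A) * this
  · rintro ⟨h1, h2⟩ r
    have hall : ∀ r, r < p → (r.factorial : A) * F.coeff r = ∏ k ∈ Finset.range r, (a - (k : A) * μ) := by
      intro r hr
      rcases Nat.eq_zero_or_pos r with rfl | h
      · simp [h0]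
      · exact h1 r h hr
    rcases lt_trichotomy (r + 1) p with hr | hr | hr
    · apply (hfac r (by omega)).mul_left_cancel
      have e1 := hall (r + 1) hr
      have e2 := hall r (by omega)
      rw [Finset.prod_range_succ, ← e2, Nat.factorial_succ] at e1
      push_cast at e1 ⊢
      linear_combination e1
    · rw [hvan (r + 1) hr.ge, mul_zero]
      apply (hfac r (by omega)).mul_left_cancel
      rw [← hr, Finset.prod_range_succ, ← hall r (by omega)] at h2
      linear_combination -h2
    · rw [hvan (r + 1) hr.le, hvan r (by omega), mul_zero, mul_zero]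

end Groth.Agent.S13157
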