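import Groth.Statements.S13158
import Groth.Agent.H3CAlg.KummerCongr

set_option autoImplicit false
universe u
open CAlg

namespace Groth.Agent.S13158

/-- Let R be a discrete valuation ring of characteristic zero whose maximal ideal contains the prime
number p, let n ≥ 1, and let λ be a nonzero element of R such that λ^(p^(n−1)(p−1)) divides p (the
condition v(p) ≥ p^(n−1)(p−1)·v(λ) under which the polynomial ((1 + λT)^(p^n) − 1)/λ^(p^n) has
coefficients in R). Let A be an integrally closed integral domain which is a faithfully flat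
R-algebra. Then for every unit x of A, λ^(p^n) divides x^(p^n) − 1 in A if and only if λ divides x −
1 in A. -/
theorem result (R : Type u) [CommRing R]
    [IsDomain R] [IsDiscreteValuationRing R] [CharZero R] (p n : ℕ) [Fact p.Prime] (hn : 1 ≤ n)
    (hp : (p : R) ∈ IsLocalRing.maximalIdeal R) (lam : R) (hlam : lam ≠ 0)
    (hstar : lam ^ (p ^ (n - 1) * (p - 1)) ∣ (p : R))
    (A : Type u) [CommRing A] [IsDomain A] [IsIntegrallyClosed A] [Algebra R A] [Module.FaithfullyFlat R A]
    (x : Aˣ) :
    (algebraMap R A lam ^ p ^ n ∣ (x : A) ^ p ^ n - 1) ↔ (algebraMap R A lam ∣ (x : A) - 1) := by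
  let K := FractionRing A
  have hinj : Function.Injective (algebraMap R A) := FaithfulSMul.algebraMap_injective R A
  have hdiv : ∀ i < n, (algebraMap R A lam) ^ (p ^ i * (p - 1)) ∣ (p : A) := fun i hi => by
    rw [← map_pow, ← map_natCast (algebraMap R A)]
    refine map_dvd _ ((pow_dvd_pow lam (Nat.mul_le_mul_right _ ?_)).trans hstar)
    exact Nat.pow_le_pow_right (Fact.out : p.Prime).pos (by omega)
  have hu : IsUnit (algebraMap A K (algebraMap R A lam)) := by
    refine isUnit_iff_ne_zero.mpr fun h => hlam ?_
    exact hinj ((IsFractionRing.injective A K (h.trans (map_zero _).symm)).trans (map_zero _).symm)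
  have hint : ∀ z : K, IsIntegral A z → ∃ a, algebraMap A K a = z := fun z hz =>
    IsIntegrallyClosed.algebraMap_eq_of_integral hz
  constructor
  · rintro ⟨c, hc⟩
    obtain ⟨z, hz, hxz⟩ := Groth.Agent.H3CAlg.KummerCongr.bwd (A := A) (L := K) (p := p) hu n hdiv
      (x := algebraMap A K (x : A)) (c := algebraMap A K c) isIntegral_algebraMap
      (by rw [← map_pow, ← map_pow, ← map_mul, ← hc, ← map_one (algebraMap A K), ← map_add, add_sub_cancel])
    obtain ⟨a, rfl⟩ := hint z hz
    refine ⟨a, IsFractionRing.injective A K ?_⟩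
    rw [map_sub, map_mul, map_one, hxz, add_sub_cancel_left]
  · rintro ⟨a, ha⟩
    obtain ⟨c, d, hc, -, -, hx⟩ := Groth.Agent.H3CAlg.KummerCongr.fwd (A := A) (L := K) (p := p)
      (lam := algebraMap R A lam) (μ := 1) (one_dvd _) n (fun i hi => by rw [mul_one]; exact hdiv i hi)
      (z := algebraMap A K a) isIntegral_algebraMap
    obtain ⟨c', rfl⟩ := hint c hc
    refine ⟨c', IsFractionRing.injective A K ?_⟩
    rw [← map_mul, ← map_one (algebraMap A K), ← map_add, ← ha, add_sub_cancel, ← map_pow] at hx
    rw [map_sub, hx, map_mul, map_pow, map_one, add_sub_cancel_left]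

end Groth.Agent.S13158
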