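import Groth.Statements.S13159
import Mathlib.Algebra.Module.StablyFree.Basic
import Mathlib.Data.Int.ConditionallyCompleteOrder
import Mathlib.LinearAlgebra.Dual.Lemmas
import Mathlib.LinearAlgebra.FreeModule.PID
import Mathlib.RingTheory.Flat.TorsionFree
import Mathlib.RingTheory.Henselian
import Mathlib.RingTheory.RegularLocalRing.Defs
import Mathlib.RingTheory.SimpleRing.Principal

set_option autoImplicit false
universe u
open CAlg

namespace Groth.Agent.S13159

/-- Let R be a discrete valuation ring with fraction field K, C an R-algebra which is finitely generated
as an R-module (the coordinate ring of a finite R-scheme G), and A an integral domain which is an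
R-algebra with injective structure map and fraction field L, K → L being compatible, such that every
element of L algebraic over K lies in the image of K (the condition satisfied by the rings of
nonempty opens of an R-scheme with geometrically integral fibres). Then every R-algebra homomorphism
C → A factors uniquely through the structure map R → A: the points of G with values in A are the
R-points of G. (The published statement is that for Y → Spec R with geometrically integral fibres
and G finite flat, the map H¹(Y, G) → H⁰(Y_Zar, R¹f_*G) from the Leray spectral sequence of Y_fl →
Y_Zar is bijective; this row is the step asserting that G restricted to the Zariski site of Y is the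
constant sheaf G(R), for an affine open with function ring A.) -/
theorem result (R : Type u) [CommRing R]
    [IsDomain R] [IsDiscreteValuationRing R] (K : Type u) [Field K] [Algebra R K] [IsFractionRing R K]
    (C : Type u) [CommRing C] [Algebra R C] [Module.Finite R C]
    (A : Type u) [CommRing A] [IsDomain A] [Algebra R A] (hinj : Function.Injective (algebraMap R A))
    (L : Type u) [Field L] [Algebra A L] [IsFractionRing A L] [Algebra R L] [Algebra K L]
    [IsScalarTower R A L] [IsScalarTower R K L]
    (hac : ∀ x : L, IsAlgebraic K x → x ∈ (algebraMap K L).range)
    (φ : C →ₐ[R] A) : ∃! ψ : C →ₐ[R] R, φ = (Algebra.ofId R A).comp ψ := by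
  have hK : ∀ c : C, ∃ r : R, algebraMap R A r = φ c := by
    intro c
    have hint : IsIntegral R (algebraMap A L (φ c)) :=
      ((IsIntegral.of_finite R c).map φ).map (IsScalarTower.toAlgHom R A L)
    obtain ⟨x, hx⟩ := hac _ (hint.tower_top (A := K)).isAlgebraic
    have hxint : IsIntegral R x := by
      rw [← isIntegral_algHom_iff (IsScalarTower.toAlgHom R K L) (algebraMap K L).injective]
      show IsIntegral R (algebraMap K L x)
      rwa [hx]
    obtain ⟨r, rfl⟩ := IsIntegrallyClosed.isIntegral_iff.mp hxint
    refine ⟨r, IsFractionRing.injective A L ?_⟩
    rw [← hx, ← IsScalarTower.algebraMap_apply, ← IsScalarTower.algebraMap_apply]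
  choose ψ hψ using hK
  refine ⟨{ toFun := ψ, map_one' := hinj (by rw [hψ, map_one, map_one]),
            map_mul' := fun a b => hinj (by rw [hψ, map_mul, map_mul, hψ, hψ]),
            map_zero' := hinj (by rw [hψ, map_zero, map_zero]),
            map_add' := fun a b => hinj (by rw [hψ, map_add, map_add, hψ, hψ]),
            commutes' := fun r => hinj (by rw [hψ, AlgHom.commutes]; rfl) }, ?_, ?_⟩
  · exact AlgHom.ext fun c => (hψ c).symm
  · intro ψ' hψ'
    refine AlgHom.ext fun c => hinj ?_
    rw [show (algebraMap R A) (ψ' c) = φ c from (AlgHom.congr_fun hψ' c).symm]
    exact (hψ c).symm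

end Groth.Agent.S13159
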