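import Groth.Statements.S13160
import Groth.Agent.H3CAlg.WittHomog
import Groth.Agent.S14051
import Mathlib.RingTheory.WittVector.Frobenius

set_option autoImplicit false
universe u
open CAlg

namespace Groth.Agent.S13160

/-- Let R be a discrete valuation ring, p a prime number and λ an element of R dividing p (so that R/λR
is an 𝔽_p-algebra), and let a and b be p-typical Witt vectors with coefficients in R/λR which are
killed by the Frobenius endomorphism. Then the Witt sum a + b has components a_n + b_n for every n.
(The published statement allows an arbitrary λ ∈ R and is stated for Witt vectors with finitely many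
nonzero components; this row assumes that λ divides p, so that p = 0 in R/λR, and allows all Witt
vectors.) -/
theorem result (R : Type u) [CommRing R] [IsDomain R]
    [IsDiscreteValuationRing R] (p : ℕ) [Fact p.Prime] (lam : R) (hlam : lam ∣ (p : R))
    (a b : WittVector p (R ⧸ Ideal.span {lam})) (ha : WittVector.frobenius a = 0)
    (hb : WittVector.frobenius b = 0) (n : ℕ) : (a + b).coeff n = a.coeff n + b.coeff n := by
  classical
  rcases subsingleton_or_nontrivial (R ⧸ Ideal.span {lam}) with h | h
  · exact Subsingleton.elim _ _
  have hp0 : (p : R ⧸ Ideal.span {lam}) = 0 := by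
    rw [← map_natCast (Ideal.Quotient.mk (Ideal.span {lam})), Ideal.Quotient.eq_zero_iff_mem, Ideal.mem_span_singleton]
    exact hlam
  have : CharP (R ⧸ Ideal.span {lam}) p := (CharP.charP_iff_prime_eq_zero (Fact.out : p.Prime)).mpr hp0
  have hmin : ∀ (s : Multiset R), s ≠ 0 → ∃ x ∈ s, x ^ Multiset.card s ∣ s.prod := by
    intro s
    induction s using Multiset.induction_on with
    | empty => simp
    | cons a s ih =>
      intro _
      by_cases hs : s = 0
      · subst hs; exact ⟨a, by simp, by simp⟩
      obtain ⟨x, hx, hdvd⟩ := ih hs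
      rcases ValuationRing.dvd_total a x with hax | hxa
      · refine ⟨a, Multiset.mem_cons_self _ _, ?_⟩
        rw [Multiset.card_cons, Multiset.prod_cons, pow_succ']
        exact mul_dvd_mul_left _ ((pow_dvd_pow_of_dvd hax _).trans hdvd)
      · refine ⟨x, Multiset.mem_cons_of_mem hx, ?_⟩
        rw [Multiset.card_cons, Multiset.prod_cons, pow_succ']
        exact mul_dvd_mul hxa hdvd
  rw [WittVector.add_coeff]
  refine Groth.Agent.H3CAlg.wittAdd_eval_linear p n _ _ fun e he => ?_
  have hv : ∀ z, (Function.uncurry ![a.coeff, b.coeff] z) ^ p = 0 := by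
    rintro ⟨i, k⟩
    fin_cases i
    · show a.coeff k ^ p = 0
      rw [← WittVector.coeff_frobenius_charP, ha, WittVector.zero_coeff]
    · show b.coeff k ^ p = 0
      rw [← WittVector.coeff_frobenius_charP, hb, WittVector.zero_coeff]
  choose l hl using fun z => Ideal.Quotient.mk_surjective (I := Ideal.span {lam}) (Function.uncurry ![a.coeff, b.coeff] z)
  let s : Multiset R := (Finsupp.toMultiset e).map l
  have hcard : Multiset.card s = ∑ x ∈ e.support, e x := by
    simp only [s, Multiset.card_map, Finsupp.card_toMultiset]; rfl
  have hprod : Ideal.Quotient.mk (Ideal.span {lam}) s.prod = ∏ x ∈ e.support, Function.uncurry ![a.coeff, b.coeff] x ^ e x := by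
    rw [map_multiset_prod, Multiset.map_map, Finsupp.toMultiset_apply]
    simp [Finsupp.sum, Multiset.map_nsmul, Multiset.prod_nsmul, Finset.prod_map_val, map_sum, Multiset.prod_sum, hl, Function.comp_def, ← Multiset.coe_mapAddMonoidHom]
  obtain ⟨x, hx, hdvd⟩ := hmin s (fun h0 => by
    have := (Fact.out : p.Prime).pos
    rw [h0, Multiset.card_zero] at hcard
    omega)
  obtain ⟨z, hz, rfl⟩ := Multiset.mem_map.mp hx
  rw [← hprod, Ideal.Quotient.eq_zero_iff_mem, Ideal.mem_span_singleton]
  refine dvd_trans ?_ hdvd
  refine dvd_trans ?_ (pow_dvd_pow _ (hcard ▸ he))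
  rw [← Ideal.mem_span_singleton, ← Ideal.Quotient.eq_zero_iff_mem, map_pow, hl, hv]

end Groth.Agent.S13160
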