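import Groth.Statements.S13161
import Mathlib.RingTheory.MvPolynomial.IrreducibleQuadratic
import Mathlib.RingTheory.RegularLocalRing.Defs

set_option autoImplicit false
universe u
open scoped TensorProduct
open CAlg

namespace Groth.Agent.S13161

/-- Let R be a discrete valuation ring with fraction field K, A an R-algebra which is semireflexive as
an R-module (the map to its double dual is injective: every nonzero a ∈ A has an R-linear form f : A
→ R with f(a) ≠ 0), and B an A-algebra which is finitely generated as an A-module and flat over R.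
Suppose B ⊗ K is semireflexive as a module over A ⊗ K, which for such B amounts to: every nonzero b
∈ B has an A-linear map g : B → A ⊗_R K with g(b) ≠ 0. Then B is semireflexive as an R-module: every
nonzero b ∈ B has an R-linear form h : B → R with h(b) ≠ 0. (The published statement phrases the
hypothesis on B_K as an A_K-module; for B flat over R and finite over A this is the elementwise
condition used here.) -/
theorem result (R : Type u) [CommRing R] [IsDomain R]
    [IsDiscreteValuationRing R] (K : Type u) [Field K] [Algebra R K] [IsFractionRing R K]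
    (A B : Type u) [CommRing A] [CommRing B] [Algebra R A] [Algebra R B] [Algebra A B] [IsScalarTower R A B]
    [Module.Finite A B] [Module.Flat R B]
    (hA : ∀ a : A, a ≠ 0 → ∃ f : A →ₗ[R] R, f a ≠ 0)
    (hBK : ∀ b : B, b ≠ 0 → ∃ g : B →ₗ[A] A ⊗[R] K, g b ≠ 0) :
    ∀ b : B, b ≠ 0 → ∃ h : B →ₗ[R] R, h b ≠ 0 := by
  classical
  intro b hb
  obtain ⟨g, hgb⟩ := hBK b hb
  haveI : IsLocalizedModule (nonZeroDivisors R) (TensorProduct.mk R K A 1) := inferInstance
  let ι : A →ₗ[R] A ⊗[R] K := (TensorProduct.comm R K A).toLinearMap ∘ₗ TensorProduct.mk R K A 1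
  haveI : IsLocalizedModule (nonZeroDivisors R) ι := IsLocalizedModule.of_linearEquiv _ _ _
  have hι : ∀ a, ι a = a ⊗ₜ[R] (1 : K) := fun a => by simp [ι]
  have hinj : Function.Injective ι := by
    refine (injective_iff_map_eq_zero _).mpr fun a ha => ?_
    obtain ⟨t, ht⟩ := (IsLocalizedModule.eq_zero_iff (nonZeroDivisors R) ι).mp ha
    by_contra hane
    obtain ⟨f, hf⟩ := hA a hane
    have := congrArg f ht
    rw [Submonoid.smul_def, map_smul, map_zero, smul_eq_mul] at this
    exact hf ((mul_eq_zero.mp this).resolve_left (nonZeroDivisors.coe_ne_zero t))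
  obtain ⟨T, hT⟩ := Module.Finite.fg_top (R := A) (M := B)
  obtain ⟨s, hs⟩ := IsLocalizedModule.exist_integer_multiples_of_finset (nonZeroDivisors R) ι (T.image g)
  let ιA : A →ₗ[A] A ⊗[R] K :=
    { toFun := ι
      map_add' := map_add ι
      map_smul' := fun a x => by simp [hι, TensorProduct.smul_tmul'] }
  have hmem : ∀ x, (s : R) • g x ∈ LinearMap.range ιA := by
    intro x
    have hx : x ∈ Submodule.span A (T : Set B) := hT ▸ Submodule.mem_top
    induction hx using Submodule.span_induction with
    | mem x hx =>
      obtain ⟨a, ha⟩ := hs (g x) (Finset.mem_image_of_mem g hx)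
      exact ⟨a, ha⟩
    | zero => simp
    | add x y _ _ hx hy => rw [map_add, smul_add]; exact add_mem hx hy
    | smul a x _ hx => rw [map_smul, smul_comm]; exact Submodule.smul_mem _ a hx
  choose h hh using hmem
  let h' : B →ₗ[R] A :=
    { toFun := h
      map_add' := fun x y => hinj (by
        show ιA (h (x + y)) = ιA (h x + h y)
        rw [map_add ιA, hh, hh, hh, map_add, smul_add])
      map_smul' := fun r x => hinj (by
        show ιA (h (r • x)) = ι (r • h x)
        rw [map_smul ι, show ι (h x) = _ from hh x, hh, g.map_smul_of_tower, smul_comm]) }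
  have hne : h b ≠ 0 := fun h0 => by
    have := hh b
    rw [h0, map_zero, eq_comm] at this
    exact hgb ((IsLocalizedModule.smul_inj ι s (g b) 0).mp (by rw [smul_zero]; exact this))
  obtain ⟨f, hf⟩ := hA _ hne
  exact ⟨f ∘ₗ h', hf⟩

end Groth.Agent.S13161
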