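import Groth.Statements.S13162
import Mathlib.GroupTheory.Sylow
import Mathlib.GroupTheory.GroupAction.Quotient
import Mathlib.RingTheory.Ideal.Quotient.Operations
import Mathlib.Tactic.Linarith

set_option autoImplicit false
universe u v
open ZeroCyc

namespace Groth.Agent.S13162

/-- Let a finite group G act on a commutative ring A by ring automorphisms and let p be a prime such
that every integer prime to p is a unit in A. If I is an ideal of A and f ∈ A has G-invariant class
modulo I, then f^(p^k) is congruent modulo I to a G-invariant element of A, where p^k is the exact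
power of p dividing the order of G. (The published statement assumes I stable under G, so that G
acts on A/I and the claim reads: the p^k-th power of an invariant of A/I lies in the image of the
invariants of A; the form here asks only that the class of f be invariant.) -/
theorem result {A : Type u} [CommRing A] {G : Type v} [Group G] [Fintype G]
    [MulSemiringAction G A] (p : ℕ) [Fact p.Prime]
    (hA : ∀ m : ℕ, ¬ p ∣ m → IsUnit (m : A))
    (I : Ideal A) (f : A) (hf : ∀ g : G, g • f - f ∈ I) :
    ∃ a : A, (∀ g : G, g • a = a) ∧ a - f ^ (p ^ (Fintype.card G).factorization p) ∈ I := by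
  classical
  have hp := Fact.out (p := p.Prime)
  set N := p ^ (Fintype.card G).factorization p with hN
  obtain ⟨P, hP⟩ := Sylow.exists_subgroup_card_pow_prime p (G := G)
    (n := (Fintype.card G).factorization p) (by rw [Nat.card_eq_fintype_card]; exact Nat.ordProj_dvd _ _)
  have hcardP : Fintype.card P = N := by rw [← Nat.card_eq_fintype_card]; exact hP
  have hmk : ∀ g : G, Ideal.Quotient.mk I (g • f) = Ideal.Quotient.mk I f :=
    fun g => Ideal.Quotient.eq.mpr (hf g)
  set c := ∏ h : P, (h : G) • f with hc
  have hcinv : ∀ h : P, (h : G) • c = c := by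
    intro h
    rw [hc, Finset.smul_prod']
    exact Fintype.prod_equiv (Equiv.mulLeft h) _ _ (fun x => by
      rw [smul_smul]; rfl)
  have hcmk : ∀ g : G, Ideal.Quotient.mk I (g • c) = Ideal.Quotient.mk I (f ^ N) := by
    intro g
    rw [hc, Finset.smul_prod', map_prod, Finset.prod_congr rfl (fun h _ => by
      rw [smul_smul, hmk] : ∀ h ∈ (Finset.univ : Finset P),
        Ideal.Quotient.mk I (g • (h : G) • f) = Ideal.Quotient.mk I f)]
    rw [Finset.prod_const, Finset.card_univ, hcardP, map_pow]
  let F : G ⧸ P → A := Quotient.lift (fun g => g • c) (fun a b hab => by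
    have hab' : a⁻¹ * b ∈ P := QuotientGroup.leftRel_apply.mp hab
    have := hcinv ⟨_, hab'⟩
    calc a • c = a • (a⁻¹ * b) • c := by rw [show (a⁻¹ * b) • c = c from this]
      _ = b • c := by rw [smul_smul, mul_inv_cancel_left])
  have hndvd : ¬ p ∣ Fintype.card (G ⧸ P) := by
    intro hd
    have hG : Fintype.card G = Fintype.card (G ⧸ P) * N := by
      rw [← Nat.card_eq_fintype_card, Subgroup.card_eq_card_quotient_mul_card_subgroup P, hP,
        Nat.card_eq_fintype_card]
    obtain ⟨e, he⟩ := hd
    have hdvd : p ^ ((Fintype.card G).factorization p + 1) ∣ Fintype.card G := ⟨e, by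
      rw [hN] at hG; rw [he] at hG; rw [pow_succ]; linarith [hG]⟩
    have := (hp.pow_dvd_iff_le_factorization (Fintype.card_ne_zero (α := G))).mp hdvd
    omega
  obtain ⟨u, hu⟩ := hA _ hndvd
  refine ⟨↑u⁻¹ * ∑ x : G ⧸ P, F x, fun g => ?_, ?_⟩
  · have hu' : g • (↑u⁻¹ : A) = ↑u⁻¹ := by
      have h1 : g • (u : A) = u := by
        rw [hu]; exact map_natCast (MulSemiringAction.toRingHom G A g) _
      have h2 : g • (↑u⁻¹ : A) * g • (u : A) = 1 := by
        rw [← smul_mul', Units.inv_mul, smul_one]
      rw [h1] at h2
      exact (Units.mul_left_inj u).mp (by rw [h2, Units.inv_mul])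
    rw [smul_mul', hu', Finset.smul_sum]
    congr 1
    refine Fintype.sum_equiv (MulAction.toPerm g) _ _ (fun x => ?_)
    induction x using QuotientGroup.induction_on with
    | _ a => exact smul_smul g a c
  · rw [← Ideal.Quotient.eq, map_mul, map_sum]
    rw [Finset.sum_congr rfl (fun x _ => by
      induction x using QuotientGroup.induction_on with
      | _ a => exact hcmk a : ∀ x ∈ (Finset.univ : Finset (G ⧸ P)), Ideal.Quotient.mk I (F x) = Ideal.Quotient.mk I (f ^ N))]
    rw [Finset.sum_const, Finset.card_univ, nsmul_eq_mul, ← map_natCast (Ideal.Quotient.mk I), ← hu, ← mul_assoc,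
      ← map_mul, Units.inv_mul, map_one, one_mul]

end Groth.Agent.S13162
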