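import Groth.Statements.S13163
-- import your own Groth.Agent.* helpers here

set_option autoImplicit false
universe u
open ZeroCyc

namespace Groth.Agent.S13163

open Polynomial in
/-- Let P_d(T) = ∏_{0 ≤ i < j ≤ d} (T^i − T^j) − 1 ∈ ℤ[T]. Every residue field of ℤ[T]/(P_d), i.e. every
field receiving a ring homomorphism from it, has at least d + 1 elements. -/
theorem result (d : ℕ) (k : Type u) [Field k]
    (φ : (ℤ[X] ⧸ Ideal.span {(∏ j ∈ Finset.range (d + 1), ∏ i ∈ Finset.range j,
        ((X : ℤ[X]) ^ i - X ^ j)) - 1}) →+* k) :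
    ((d + 1 : ℕ) : Cardinal) ≤ Cardinal.mk k := by
  set t : k := φ (Ideal.Quotient.mk _ X) with ht
  have h : (∏ j ∈ Finset.range (d + 1), ∏ i ∈ Finset.range j, (t ^ i - t ^ j)) = 1 := by
    have h0 := congrArg φ (Ideal.Quotient.eq_zero_iff_mem.mpr (Ideal.mem_span_singleton_self
      ((∏ j ∈ Finset.range (d + 1), ∏ i ∈ Finset.range j, ((X : ℤ[X]) ^ i - X ^ j)) - 1)))
    simp only [map_sub, map_prod, map_pow, map_one, map_zero] at h0
    exact sub_eq_zero.mp h0
  have hne : ∀ i j : ℕ, i < j → j < d + 1 → t ^ i ≠ t ^ j := by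
    intro i j hij hj he
    have : (∏ j ∈ Finset.range (d + 1), ∏ i ∈ Finset.range j, (t ^ i - t ^ j)) = 0 :=
      Finset.prod_eq_zero (Finset.mem_range.mpr hj)
        (Finset.prod_eq_zero (Finset.mem_range.mpr hij) (sub_eq_zero.mpr he))
    exact one_ne_zero (h.symm.trans this)
  have hinj : Function.Injective fun i : ULift.{u} (Fin (d + 1)) => t ^ (i.down : ℕ) := by
    intro i j he
    rcases lt_trichotomy (i.down : ℕ) (j.down : ℕ) with h1 | h1 | h1
    · exact absurd he (hne _ _ h1 j.down.isLt)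
    · exact ULift.ext _ _ (Fin.ext h1)
    · exact absurd he.symm (hne _ _ h1 i.down.isLt)
  simpa using Cardinal.mk_le_of_injective hinj

end Groth.Agent.S13163
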