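import Groth.Statements.S13165
import Groth.Agent.H22Alg.GradedMonomial

set_option autoImplicit false
universe u
open ZeroCyc

namespace Groth.Agent.S13165

/-- Let B be a graded R-algebra generated by homogeneous elements f_1, …, f_s of positive degrees d_1,
…, d_s, let l be the least common multiple of the d_i and n = a l with a ≥ s − 1. Then B_{kn} =
(B_n)^k for every k ≥ 0. -/
theorem result {R A : Type u} [CommRing R] [CommRing A] [Algebra R A] (𝒜 : ℕ → Submodule R A) [GradedAlgebra 𝒜]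
    {s : ℕ} (f : Fin s → A) (deg : Fin s → ℕ) (hdeg : ∀ i, 0 < deg i) (hf : ∀ i, f i ∈ 𝒜 (deg i))
    (hgen : Algebra.adjoin R (Set.range f) = ⊤) (a : ℕ) (ha : s - 1 ≤ a) (k : ℕ) :
    𝒜 (k * (a * Finset.univ.lcm deg)) = 𝒜 (a * Finset.univ.lcm deg) ^ k := by
  exact Groth.Agent.H22Alg.degree_mul_pow 𝒜 f deg hdeg hf hgen a ha k

end Groth.Agent.S13165
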