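import Groth.Statements.S13166
import Mathlib.LinearAlgebra.Span.Basic
import Mathlib.SetTheory.Cardinal.Finite
import Mathlib.Data.Fintype.Sum
import Mathlib.Data.Fintype.Prod
import Mathlib.Tactic.Module
import Mathlib.Data.Finset.Powerset

set_option autoImplicit false
universe u
open ZeroCyc

namespace Groth.Agent.S13166

/-- Let k be a field, B a k-algebra generated as an algebra by a k-subspace V, k'/k a field extension
and x_1, …, x_d pairwise distinct k'-points of B ⊗_k k' (equivalently, distinct k-algebra
homomorphisms B → k'). If k has at least d(d − 1)/2 elements, then there is b ∈ V whose values at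
x_1, …, x_d are pairwise distinct. -/
theorem result {k : Type u} [Field k] {B : Type u} [CommRing B] [Algebra k B] (V : Submodule k B)
    (hV : Algebra.adjoin k (V : Set B) = ⊤) {k' : Type u} [Field k'] [Algebra k k']
    {d : ℕ} (x : Fin d → (B →ₐ[k] k')) (hx : Function.Injective x)
    (hk : ((d.choose 2 : ℕ) : Cardinal) ≤ Cardinal.mk k) :
    ∃ b ∈ V, Function.Injective fun i => x i b := by
  classical
  let ι := {q : Fin d × Fin d // q.1 < q.2}
  let p : ι → Submodule k V := fun q =>
    LinearMap.ker (((x q.1.1).toLinearMap - (x q.1.2).toLinearMap).comp V.subtype)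
  have hproper : ∀ q, p q ≠ ⊤ := by
    intro q hq
    apply q.2.ne
    apply hx
    refine AlgHom.ext_of_adjoin_eq_top hV fun b hb => ?_
    have := (LinearMap.ker_eq_top.mp hq)
    have h2 := LinearMap.congr_fun this ⟨b, hb⟩
    simpa [sub_eq_zero] using h2
  have main : ∀ s : Finset ι, ((s.card : ℕ) : Cardinal) ≤ Cardinal.mk k → ∃ v : V, ∀ q ∈ s, v ∉ p q := by
    intro s
    induction s using Finset.strongInduction with
    | H s ih =>
      intro hs
      by_contra hcon
      push Not at hcon
      obtain ⟨q₀, hq₀, -⟩ := hcon 0
      obtain ⟨v, hv⟩ := ih (s.erase q₀) (Finset.erase_ssubset hq₀)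
        (le_trans (by exact_mod_cast Finset.card_le_card (Finset.erase_subset _ _)) hs)
      have hv0 : v ∈ p q₀ := by
        obtain ⟨q, hq, hvq⟩ := hcon v
        by_cases e : q = q₀
        · exact e ▸ hvq
        · exact absurd hvq (hv q (Finset.mem_erase.mpr ⟨e, hq⟩))
      obtain ⟨w, -, hw⟩ := SetLike.exists_of_lt (hproper q₀).lt_top
      have hF : ∀ t : k, ∃ q : ↥(s.erase q₀), w + t • v ∈ p q.1 := by
        intro t
        obtain ⟨q, hq, hmem⟩ := hcon (w + t • v)
        refine ⟨⟨q, Finset.mem_erase.mpr ⟨?_, hq⟩⟩, hmem⟩
        rintro rfl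
        exact hw ((Submodule.add_mem_iff_left _ (Submodule.smul_mem _ t hv0)).mp hmem)
      choose F hF using hF
      have hinj : Function.Injective F := by
        intro t t' htt
        by_contra hne
        have h1 := hF t
        have h2 := hF t'
        rw [htt] at h1
        have h3 := Submodule.sub_mem _ h1 h2
        rw [show w + t • v - (w + t' • v) = (t - t') • v by module, Submodule.smul_mem_iff _ (sub_ne_zero.mpr hne)] at h3
        exact hv _ (F t').2 h3
      have : Finite k := Finite.of_injective F hinj
      have := Fintype.ofFinite k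
      have h1 := Fintype.card_le_of_injective F hinj
      rw [Fintype.card_coe, Finset.card_erase_of_mem hq₀] at h1
      rw [Cardinal.mk_fintype, Nat.cast_le] at hs
      have : 0 < s.card := Finset.card_pos.mpr ⟨q₀, hq₀⟩
      omega
  have hcard : (Finset.univ : Finset ι).card ≤ (Finset.powersetCard 2 (Finset.univ : Finset (Fin d))).card := by
    refine Finset.card_le_card_of_injOn (fun q => ({q.1.1, q.1.2} : Finset (Fin d))) (fun q _ => ?_) ?_
    · simp [Finset.mem_powersetCard, Finset.card_pair q.2.ne]
    · rintro ⟨⟨a, b⟩, hab⟩ _ ⟨⟨c, e⟩, hce⟩ _ h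
      simp only at h hab hce
      have h1 : a = c ∨ a = e := by
        have : a ∈ ({c, e} : Finset (Fin d)) := by rw [← h]; simp
        simpa using this
      have h2 : b = c ∨ b = e := by
        have : b ∈ ({c, e} : Finset (Fin d)) := by rw [← h]; simp
        simpa using this
      rcases h1 with rfl | rfl
      · rcases h2 with rfl | rfl
        · exact absurd hab (lt_irrefl _)
        · rfl
      · rcases h2 with rfl | rfl
        · exact absurd hce (lt_asymm hab)
        · exact absurd hab (lt_irrefl _)
  rw [Finset.card_powersetCard, Finset.card_univ (α := Fin d), Fintype.card_fin] at hcard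
  obtain ⟨v, hv⟩ := main Finset.univ (le_trans (by exact_mod_cast hcard) hk)
  refine ⟨v, v.2, fun i j hij => ?_⟩
  by_contra hne
  rcases lt_or_gt_of_ne hne with h | h
  · exact hv ⟨(i, j), h⟩ (Finset.mem_univ _) (by simp [p, hij])
  · exact hv ⟨(j, i), h⟩ (Finset.mem_univ _) (by simp [p, hij])

end Groth.Agent.S13166
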