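import Groth.Statements.S13167
import Mathlib
import Groth.Agent.H22Alg.SubspaceAvoid
import Groth.Agent.H22Alg.ProjSymCover

set_option autoImplicit false
universe u
open AlgebraicGeometry
open ZeroCyc

namespace Groth.Agent.S13167

/-- Let B be a graded R-algebra generated by its degree-one part B_1, with B_1 a finitely generated
R-module, and let x_1, …, x_d be points of X = Proj B lying over one and the same prime p of R. If
the residue field of p has at least d elements, then some f ∈ B_1 ⊆ Γ(X, O_X(1)) has all the x_i in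
D_+(f). (Without the hypothesis on the residue field such an f exists in some B_n with n ≥ 1; that
first assertion is a known property of ample sheaves and is not restated here.) -/
theorem result {R A : Type u} [CommRing R] [CommRing A] [Algebra R A] (𝒜 : ℕ → Submodule R A) [GradedAlgebra 𝒜]
    (hgen : Algebra.adjoin R (𝒜 1 : Set A) = ⊤) (hfg : (𝒜 1).FG)
    (p : Ideal R) [p.IsPrime] {d : ℕ} (x : Fin d → Proj 𝒜)
    (hx : ∀ i, ((x i).asHomogeneousIdeal.toIdeal).comap (algebraMap R A) = p)
    (hcard : (d : Cardinal) ≤ Cardinal.mk p.ResidueField) :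
    ∃ g ∈ 𝒜 1, ∀ i, x i ∈ Proj.basicOpen 𝒜 g := by
  classical
  haveI : ∀ i, (x i).asHomogeneousIdeal.toIdeal.IsPrime := fun i => (x i).isPrime
  let L : Fin d → Type u := fun i => FractionRing (A ⧸ (x i).asHomogeneousIdeal.toIdeal)
  have hzero : ∀ i (a : A), algebraMap A (L i) a = 0 ↔ a ∈ (x i).asHomogeneousIdeal.toIdeal := fun i a => by
    rw [IsScalarTower.algebraMap_apply A (A ⧸ (x i).asHomogeneousIdeal.toIdeal) (L i),
      FaithfulSMul.algebraMap_eq_zero_iff, Ideal.Quotient.algebraMap_eq, Ideal.Quotient.eq_zero_iff_mem]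
  have hker : ∀ i, RingHom.ker (algebraMap R (L i)) = p := fun i => by
    rw [← hx i]
    ext r
    rw [RingHom.mem_ker, Ideal.mem_comap, IsScalarTower.algebraMap_apply R A (L i), hzero]
  obtain ⟨g, hg⟩ := Groth.Agent.H22Alg.exists_linear_avoid (M := 𝒜 1) p L hker
    (fun i => ((IsScalarTower.toAlgHom R A (L i)).toLinearMap).comp (𝒜 1).subtype)
    (fun i h => by
      have h1 : ∀ a ∈ 𝒜 1, a ∈ (x i).asHomogeneousIdeal.toIdeal := fun a ha =>
        (hzero i a).mp (LinearMap.congr_fun h ⟨a, ha⟩)
      apply (x i).not_irrelevant_le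
      show (HomogeneousIdeal.irrelevant 𝒜).toIdeal ≤ (x i).asHomogeneousIdeal.toIdeal
      rw [HomogeneousIdeal.irrelevant_eq_span, Ideal.span_le]
      refine Set.iUnion_subset fun n => Set.iUnion_subset fun hn a ha => ?_
      obtain ⟨m, rfl⟩ : ∃ m, n = m + 1 := ⟨n - 1, by omega⟩
      have h2 := Groth.Agent.H22Alg.ProjSym.le_pow_one 𝒜 hgen (m + 1) ha
      rw [pow_succ] at h2
      refine (Submodule.mul_le (P := (Submodule.restrictScalars R (x i).asHomogeneousIdeal.toIdeal))).mpr
        (fun u _ v hv => ?_) h2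
      exact Ideal.mul_mem_left _ u (h1 v hv)) hcard Finset.univ
  refine ⟨g, g.2, fun i => ?_⟩
  rw [Proj.mem_basicOpen]
  exact fun h => hg i (Finset.mem_univ i) ((hzero i _).mpr h)

end Groth.Agent.S13167
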