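import Groth.Statements.S13168
import Groth.Agent.H22Alg.GradedMonomial
import Mathlib.RingTheory.GradedAlgebra.Homogeneous.Ideal

set_option autoImplicit false
universe u
open AlgebraicGeometry
open ZeroCyc

namespace Groth.Agent.S13168

/-- Let B be a graded R-algebra generated by homogeneous elements f_1, …, f_s of positive degrees d_1,
…, d_s, let l be the least common multiple of the d_i and X = Proj B. For n = a l with a ≥ 1, X is
the union of the opens D_+(g), g ∈ B_n. -/
theorem result {R A : Type u} [CommRing R] [CommRing A] [Algebra R A] (𝒜 : ℕ → Submodule R A) [GradedAlgebra 𝒜]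
    {s : ℕ} (f : Fin s → A) (deg : Fin s → ℕ) (hdeg : ∀ i, 0 < deg i) (hf : ∀ i, f i ∈ 𝒜 (deg i))
    (hgen : Algebra.adjoin R (Set.range f) = ⊤) (a : ℕ) (ha : 0 < a) :
    (⨆ g : 𝒜 (a * Finset.univ.lcm deg), Proj.basicOpen 𝒜 (g : A)) = ⊤ := by
  classical
  rw [eq_top_iff]
  intro x _
  obtain ⟨i, hi⟩ : ∃ i, f i ∉ x.asHomogeneousIdeal.toIdeal := by
    by_contra hcon
    push Not at hcon
    refine x.not_irrelevant_le ((HomogeneousIdeal.toIdeal_irrelevant_le _).mpr ?_)
    intro m hm y hy
    have := Groth.Agent.H22Alg.le_span_monomial 𝒜 f deg hf hgen m hy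
    refine (Submodule.span_le (p := Submodule.restrictScalars R x.asHomogeneousIdeal.toIdeal)).mpr ?_ this
    rintro z ⟨e, he, rfl⟩
    obtain ⟨j, hj⟩ : ∃ j, e j ≠ 0 := by
      by_contra h0
      push Not at h0
      simp [h0] at he
      omega
    exact Ideal.mem_of_dvd _ ((dvd_pow_self _ hj).trans (Finset.dvd_prod_of_mem (fun j => f j ^ e j) (Finset.mem_univ j))) (hcon j)
  set l := Finset.univ.lcm deg with hl
  have hdvd : deg i ∣ a * l := dvd_mul_of_dvd_right (Finset.dvd_lcm (Finset.mem_univ i)) a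
  have hmem : f i ^ ((a * l) / deg i) ∈ 𝒜 (a * l) := by
    have := SetLike.pow_mem_graded ((a * l) / deg i) (hf i)
    rwa [smul_eq_mul, Nat.div_mul_cancel hdvd] at this
  refine TopologicalSpace.Opens.mem_iSup.mpr ⟨⟨_, hmem⟩, ?_⟩
  rw [Proj.mem_basicOpen]
  exact fun h => hi (x.isPrime.mem_of_pow_mem _ h)

end Groth.Agent.S13168
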