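import Groth.Statements.S13175
import Mathlib.RingTheory.PolynomialLaw.Basic
import Mathlib.RingTheory.TensorProduct.Maps

set_option autoImplicit false
universe u v w
open scoped TensorProduct
open ZeroCyc

namespace Groth.Agent.S13175

/-- Let B and C be A-algebras and F : B → C a polynomial law. If the maps F over the polynomial rings
A[t_1, …, t_n], n ≥ 0, are multiplicative (send 1 to 1 and products to products), then F is a
multiplicative law: F sends 1 to 1 and products to products over every A-algebra. -/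
theorem result {A : Type u} [CommRing A] {B : Type v} [CommRing B] [Algebra A B] {C : Type w} [CommRing C] [Algebra A C]
    (F : B →ₚₗ[A] C)
    (h1 : ∀ n : ℕ, F.toFun' (MvPolynomial (Fin n) A) 1 = 1)
    (hmul : ∀ (n : ℕ) (x y : MvPolynomial (Fin n) A ⊗[A] B),
      F.toFun' (MvPolynomial (Fin n) A) (x * y) = F.toFun' (MvPolynomial (Fin n) A) x * F.toFun' (MvPolynomial (Fin n) A) y) :
    ∀ (S : Type u) [CommRing S] [Algebra A S], F.toFun' S 1 = 1 ∧
      ∀ x y : S ⊗[A] B, F.toFun' S (x * y) = F.toFun' S x * F.toFun' S y := by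
  intro S _ _
  have hT : ∀ {R : Type u} [CommRing R] [Algebra A R] (φ : R →ₐ[A] S) (z : R ⊗[A] B),
      F.toFun' S (Algebra.TensorProduct.map φ (AlgHom.id A B) z) =
        Algebra.TensorProduct.map φ (AlgHom.id A C) (F.toFun' R z) := by
    intro R _ _ φ z
    exact (congrFun (F.isCompat' φ) z).symm
  refine ⟨?_, fun x y => ?_⟩
  · have h := hT (MvPolynomial.aeval (Fin.elim0 : Fin 0 → S)) 1
    rw [map_one, h1, map_one] at h
    exact h
  · obtain ⟨n, ψ, p, hp⟩ := PolynomialLaw.exists_lift x
    obtain ⟨m, χ, q, hq⟩ := PolynomialLaw.exists_lift y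
    let φ : MvPolynomial (Fin (n + m)) A →ₐ[A] S :=
      MvPolynomial.aeval (Fin.append (fun i => ψ (MvPolynomial.X i)) (fun i => χ (MvPolynomial.X i)))
    have e1 : φ.comp (MvPolynomial.rename (Fin.castAdd m)) = ψ := by
      apply MvPolynomial.algHom_ext; intro i; simp [φ]
    have e2 : φ.comp (MvPolynomial.rename (Fin.natAdd n)) = χ := by
      apply MvPolynomial.algHom_ext; intro i; simp [φ]
    obtain ⟨x', hx'⟩ : ∃ x', Algebra.TensorProduct.map φ (AlgHom.id A B) x' = x :=
      ⟨Algebra.TensorProduct.map (MvPolynomial.rename (Fin.castAdd m)) (AlgHom.id A B) p, by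
        rw [← AlgHom.comp_apply, ← Algebra.TensorProduct.map_comp, e1, AlgHom.id_comp]; exact hp⟩
    obtain ⟨y', hy'⟩ : ∃ y', Algebra.TensorProduct.map φ (AlgHom.id A B) y' = y :=
      ⟨Algebra.TensorProduct.map (MvPolynomial.rename (Fin.natAdd n)) (AlgHom.id A B) q, by
        rw [← AlgHom.comp_apply, ← Algebra.TensorProduct.map_comp, e2, AlgHom.id_comp]; exact hq⟩
    rw [← hx', ← hy', ← map_mul, hT, hT, hT, hmul, map_mul]

end Groth.Agent.S13175
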