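import Groth.Statements.S13176
import Mathlib
import Groth.Agent.H22Alg.QuotUnivHomeo

set_option autoImplicit false
universe u
open CategoryTheory CategoryTheory.Limits AlgebraicGeometry
open ZeroCyc

namespace Groth.Agent.S13176

/-- Let a finite group G act on a scheme X over S through ρ, let q : X → Y be a quotient of X by G over
S (affine, G-invariant, O_Y = the G-invariant sections of O_X), let S' → S be any morphism and X' =
X ×_S S' with the induced action ρ', and let r : X' → Y' be a quotient of X' by G. Then the morphism
Y' → Y ×_S S' through which the canonical map X' → Y ×_S S' factors via r is a universal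
homeomorphism. (The published statement assumes every G-orbit lies in an affine open, which is what
makes the quotients exist; here the two quotients are hypotheses.) -/
theorem result {X Y S S' Y' : Scheme.{u}} {G : Type u} [Group G] [Finite G]
    (ρ : G →* Aut X) (f : X ⟶ S) (hρ : ∀ σ : G, (ρ σ).hom ≫ f = f)
    (q : X ⟶ Y) (h : Y ⟶ S) (hq : q ≫ h = f) (hquot : SGA1.IsQuot ρ q)
    (g : S' ⟶ S)
    (ρ' : G →* Aut (pullback f g))
    (hρ' : ∀ σ : G, (ρ' σ).hom ≫ pullback.fst f g = pullback.fst f g ≫ (ρ σ).hom ∧
      (ρ' σ).hom ≫ pullback.snd f g = pullback.snd f g)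
    (r : pullback f g ⟶ Y') (hr : SGA1.IsQuot ρ' r)
    (m : Y' ⟶ pullback h g)
    (hm : r ≫ m = pullback.map f g h g q (𝟙 S') (𝟙 S)
      ((Category.comp_id f).trans hq.symm) ((Category.comp_id g).trans (Category.id_comp g).symm)) :
    FlatMor.IsUnivHomeo m := by
  let mp := pullback.map f g h g q (𝟙 S') (𝟙 S)
      ((Category.comp_id f).trans hq.symm) ((Category.comp_id g).trans (Category.id_comp g).symm)
  have H : IsPullback (pullback.fst f g) mp q (pullback.fst h g) := by
    refine (IsPullback.of_right ?_ ?_ ((IsPullback.of_hasPullback h g).flip)).flip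
    swap
    · exact pullback.lift_fst _ _ _
    rw [pullback.lift_snd, Category.comp_id, hq]
    exact (IsPullback.of_hasPullback f g).flip
  haveI := _root_.H18Quot.isIntegralHom hquot
  haveI : Surjective q := ⟨Groth.Agent.H27Quot.surjective hquot⟩
  haveI : Surjective r := ⟨Groth.Agent.H27Quot.surjective hr⟩
  haveI : UniversallyClosed (r ≫ m) := by
    rw [hm]
    exact MorphismProperty.of_isPullback H (inferInstanceAs (UniversallyClosed q))
  haveI : Surjective (r ≫ m) := by
    rw [hm]
    exact MorphismProperty.of_isPullback H (inferInstanceAs (Surjective q))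
  haveI : UniversallyClosed m := UniversallyClosed.of_comp_surjective r m
  haveI : Surjective m := Surjective.of_comp r m
  haveI : UniversallyInjective m := Groth.Agent.H22Alg.QuotUnivHomeo.universallyInjective_of_joint
    hr hquot (pullback.fst f g) (pullback.snd f g) (fun a b h1 h2 => pullback.hom_ext h1 h2)
    (fun γ => (hρ' γ).1) (fun γ => (hρ' γ).2) m (pullback.fst h g) (pullback.snd h g)
    (by rw [← Category.assoc, hm, pullback.lift_fst])
    (by rw [← Category.assoc, hm, pullback.lift_snd, Category.comp_id])
  exact Groth.Agent.H27Perf.isUnivHomeo_of m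

end Groth.Agent.S13176
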