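import Groth.Statements.S13177
import Mathlib
import Groth.Agent.H22Alg.QuotUnivHomeo

set_option autoImplicit false
universe u
open CategoryTheory CategoryTheory.Limits AlgebraicGeometry
open ZeroCyc

namespace Groth.Agent.S13177

/-- Let a finite group G act on a scheme X with quotient q : X → Y (affine, G-invariant, O_Y = the
invariant sections), let i : Z → X be a G-stable closed subscheme with the induced action and r : Z
→ W a quotient of Z by G, and let q(Z) be the scheme-theoretic image of Z in Y. Then the morphism W
→ q(Z) through which Z → q(Z) factors via r is a schematically dominant universal homeomorphism.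
(The published statement assumes the quotient of X exists; here both quotients are hypotheses.) -/
theorem result {X Y Z W : Scheme.{u}} {G : Type u} [Group G] [Finite G]
    (ρ : G →* Aut X) (q : X ⟶ Y) (hquot : SGA1.IsQuot ρ q)
    (i : Z ⟶ X) [IsClosedImmersion i] (ρZ : G →* Aut Z) (hρZ : ∀ σ : G, (ρZ σ).hom ≫ i = i ≫ (ρ σ).hom)
    (r : Z ⟶ W) (hr : SGA1.IsQuot ρZ r)
    (m : W ⟶ (i ≫ q).ker.subscheme) (hm : r ≫ m ≫ (i ≫ q).ker.subschemeι = i ≫ q) :
    FlatMor.IsUnivHomeo m ∧ IsSchemeTheoreticallyDominant m := by
  haveI := hquot.affine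
  haveI := _root_.H18Quot.isIntegralHom hquot
  haveI : Surjective r := ⟨Groth.Agent.H27Quot.surjective hr⟩
  have hrm : r ≫ m = (i ≫ q).toImage := by
    rw [← cancel_mono (i ≫ q).ker.subschemeι, Category.assoc, hm]
    exact ((i ≫ q).toImage_imageι).symm
  haveI : UniversallyClosed (r ≫ m) := by
    haveI : UniversallyClosed ((r ≫ m) ≫ (i ≫ q).ker.subschemeι) := by
      rw [Category.assoc, hm]; infer_instance
    exact UniversallyClosed.of_comp_of_isSeparated (r ≫ m) (i ≫ q).ker.subschemeι
  haveI : UniversallyClosed m := UniversallyClosed.of_comp_surjective r m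
  haveI hd : IsSchemeTheoreticallyDominant m := by
    have h0 : (r ≫ m).ker = ⊥ :=
      (congrArg Scheme.Hom.ker hrm).trans (Groth.Agent.H22Alg.QuotUnivHomeo.ker_toImage _)
    replace h0 := (Scheme.Hom.ker_comp r m).symm.trans h0
    haveI := hr.affine
    refine ⟨le_bot_iff.mp ?_⟩
    exact ((Scheme.IdealSheafData.map_bot m).ge.trans (Scheme.IdealSheafData.map_mono _ bot_le)).trans h0.le
  haveI : Surjective m := by
    refine ⟨Set.range_eq_univ.mp ?_⟩
    haveI : IsDominant (r ≫ m) := hrm ▸ (inferInstance : IsDominant (i ≫ q).toImage)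
    haveI : IsDominant m := IsDominant.of_comp r m
    rw [← m.isClosedMap.isClosed_range.closure_eq]
    exact m.denseRange.closure_eq
  haveI : UniversallyInjective m := by
    haveI : UniversallyInjective (m ≫ (i ≫ q).ker.subschemeι) :=
      Groth.Agent.H27Quot.universallyInjective_of_quotient hr hquot i hρZ _ hm
    exact Groth.Agent.H27Perf.universallyInjective_of_comp m (i ≫ q).ker.subschemeι
  exact ⟨Groth.Agent.H27Perf.isUnivHomeo_of m, hd⟩

end Groth.Agent.S13177
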