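import Groth.Statements.S13178
import Groth.Agent.H23MulLaw.Main

set_option autoImplicit false
universe u
open scoped TensorProduct
open ZeroCyc

namespace Groth.Agent.S13178

/-- Let K/k be a finite field extension with separable degree d_s and exponent e (the least e ≥ 1 such
that x^e is separable over k for every x ∈ K), and let d ≥ 0. The k-points of Γ^d(Spec K / Spec k)
are the multiplicative polynomial laws K → k over k that are homogeneous of degree d; there is at
most one such law, and one exists if and only if the quasi-degree d_s·e divides d. (The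
identification of k-points of Γ^d with multiplicative homogeneous laws is the universal property of
the algebra of divided powers; the row is stated directly for laws.) -/
theorem result {k : Type u} [Field k] {K : Type u} [Field K] [Algebra k K]
    [FiniteDimensional k K] (d e : ℕ) (he : 0 < e) (hexp : ∀ x : K, x ^ e ∈ separableClosure k K)
    (hmin : ∀ n : ℕ, 0 < n → (∀ x : K, x ^ n ∈ separableClosure k K) → e ≤ n) :
    (∀ F F' : K →ₚₗ[k] k,
      ((∀ (S : Type u) [CommRing S] [Algebra k S], F.toFun' S 1 = 1 ∧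
        ∀ x y : S ⊗[k] K, F.toFun' S (x * y) = F.toFun' S x * F.toFun' S y) ∧
      ∀ (S : Type u) [CommRing S] [Algebra k S] (a : S) (z : S ⊗[k] K), F.toFun' S (a • z) = a ^ d • F.toFun' S z) →
      ((∀ (S : Type u) [CommRing S] [Algebra k S], F'.toFun' S 1 = 1 ∧
        ∀ x y : S ⊗[k] K, F'.toFun' S (x * y) = F'.toFun' S x * F'.toFun' S y) ∧
      ∀ (S : Type u) [CommRing S] [Algebra k S] (a : S) (z : S ⊗[k] K), F'.toFun' S (a • z) = a ^ d • F'.toFun' S z) → F = F') ∧
    ((∃ F : K →ₚₗ[k] k, ((∀ (S : Type u) [CommRing S] [Algebra k S], F.toFun' S 1 = 1 ∧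
        ∀ x y : S ⊗[k] K, F.toFun' S (x * y) = F.toFun' S x * F.toFun' S y) ∧
      ∀ (S : Type u) [CommRing S] [Algebra k S] (a : S) (z : S ⊗[k] K), F.toFun' S (a • z) = a ^ d • F.toFun' S z)) ↔ Field.finSepDegree k K * e ∣ d) := by
  let q := ringExpChar k
  haveI : ExpChar k q := inferInstance
  obtain ⟨b, hb⟩ := Groth.Agent.H23MulLaw.exists_eq_pow q he hexp hmin
  refine ⟨fun F F' hF hF' => Groth.Agent.H23MulLaw.law_unique q hb hexp hF hF', fun ⟨F, hF⟩ => ?_, fun h => ?_⟩
  · obtain ⟨n, hn, hval⟩ :=
      Groth.Agent.H23MulLaw.exists_exponent (AlgebraicClosure k) q hexp hb hF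
    rw [← hn, mul_comm n]
    exact mul_dvd_mul_left _ (Groth.Agent.H23MulLaw.dvd_exponent (AlgebraicClosure k) q hb hexp hmin hval)
  · obtain ⟨m, hm⟩ := h
    obtain ⟨F, hF⟩ := Groth.Agent.H23MulLaw.exists_law q hb hexp m
    rw [hm, mul_assoc]
    exact ⟨F, hF⟩

end Groth.Agent.S13178
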