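import Groth.Statements.S13184
import Mathlib

set_option autoImplicit false
universe u
open ZeroCyc

namespace Groth.Agent.S13184

/-- Separability is transported along a commutative square of field homomorphisms. -/
theorem isSeparable_map {F F' E E' : Type*} [Field F] [Field F'] [Field E] [Field E'] [Algebra F E] [Algebra F' E']
    (σ : F →+* F') (φ : E →+* E') (h : (algebraMap F' E').comp σ = φ.comp (algebraMap F E)) {x : E}
    (hx : IsSeparable F x) : IsSeparable F' (φ x) := by
  have hs : ((minpoly F x).map σ).Separable := Polynomial.Separable.map hx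
  have h0 : Polynomial.aeval (φ x) ((minpoly F x).map σ) = 0 := by
    rw [Polynomial.aeval_def, Polynomial.eval₂_map, h, ← Polynomial.hom_eval₂, ← Polynomial.aeval_def, minpoly.aeval,
      map_zero]
  exact hs.of_dvd (minpoly.dvd F' (φ x) h0)

/-- Let k ⊆ K be a finite extension of fields of characteristic p > 0, viewed inside an algebraically
closed field Ω, and for e ≥ 0 let k^{p^{-e}} ⊆ Ω be the field of elements whose p^e-th power lies in
k. Then the compositum k^{p^{-e}}K is separable over k^{p^{-e}} if and only if x^{p^e} is separable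
over k for every x ∈ K; hence the exponent of K/k (the least n ≥ 1 with K^n separable over k, a
power of p) is the least p^e for which k^{p^{-e}} ⊆ k^{p^{-e}}K is separable. -/
theorem result {k : Type u} [Field k] (p : ℕ) [Fact p.Prime] [CharP k p]
    {K : Type u} [Field K] [Algebra k K] [FiniteDimensional k K]
    {Ω : Type u} [Field Ω] [Algebra k Ω] [Algebra K Ω] [IsScalarTower k K Ω] [IsAlgClosed Ω] (e : ℕ) :
    (∀ x : Ω, x ∈ IntermediateField.adjoin k {y : Ω | y ^ (p ^ e) ∈ Set.range (algebraMap k Ω)} ⊔
        IntermediateField.adjoin k (Set.range (algebraMap K Ω)) →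
      IsSeparable (IntermediateField.adjoin k {y : Ω | y ^ (p ^ e) ∈ Set.range (algebraMap k Ω)}) x) ↔
    ∀ x : K, x ^ (p ^ e) ∈ separableClosure k K := by
  haveI : CharP Ω p := charP_of_injective_algebraMap (algebraMap k Ω).injective p
  haveI : ExpChar Ω p := ExpChar.prime Fact.out
  let S : Set Ω := {y : Ω | y ^ (p ^ e) ∈ Set.range (algebraMap k Ω)}
  let L := IntermediateField.adjoin k S
  let φ : Ω ≃+* Ω := iterateFrobeniusEquiv Ω p e
  have hφ : ∀ y, φ y = y ^ p ^ e := fun y => rfl
  have hL : ∀ y : L, ∃ c : k, algebraMap k Ω c = φ (y : Ω) := by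
    have hle : L.toSubfield ≤ (algebraMap k Ω).fieldRange.comap (φ : Ω →+* Ω) := by
      show (Subfield.closure (Set.range (algebraMap k Ω) ∪ S)) ≤ _
      rw [Subfield.closure_le]
      rintro y (⟨c, rfl⟩ | ⟨c, hc⟩)
      · exact ⟨c ^ p ^ e, by rw [map_pow]; exact (hφ _).symm⟩
      · exact ⟨c, hc.trans (hφ y).symm⟩
    exact fun y => hle y.2
  choose σ0 hσ0 using hL
  let σ : L →+* k :=
    { toFun := σ0
      map_one' := (algebraMap k Ω).injective (by rw [hσ0, map_one]; exact map_one φ)
      map_mul' := fun a b => (algebraMap k Ω).injective (by rw [hσ0, map_mul, hσ0, hσ0]; exact map_mul φ _ _)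
      map_zero' := (algebraMap k Ω).injective (by rw [hσ0, map_zero]; exact map_zero φ)
      map_add' := fun a b => (algebraMap k Ω).injective (by rw [hσ0, map_add, hσ0, hσ0]; exact map_add φ _ _) }
  have hmem : ∀ c : k, φ.symm (algebraMap k Ω c) ∈ L := fun c =>
    IntermediateField.subset_adjoin k S ⟨c, by rw [← hφ, φ.apply_symm_apply]⟩
  let τ : k →+* L := ((φ.symm : Ω →+* Ω).comp (algebraMap k Ω)).codRestrict L.toSubfield hmem
  have hK : ∀ x : K, x ^ (p ^ e) ∈ separableClosure k K ↔ IsSeparable L (algebraMap K Ω x) := by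
    intro x
    rw [mem_separableClosure_iff,
      show IsSeparable k (x ^ p ^ e) ↔ IsSeparable k (φ (algebraMap K Ω x)) by
        rw [hφ, ← map_pow, IsSeparable, IsSeparable, minpoly.algebraMap_eq (algebraMap K Ω).injective]]
    constructor
    · intro h
      have h' := isSeparable_map (F' := L) τ (φ.symm : Ω →+* Ω) (RingHom.ext fun c => rfl) h
      rwa [RingEquiv.coe_toRingHom, φ.symm_apply_apply] at h'
    · exact fun h => isSeparable_map σ (φ : Ω →+* Ω) (RingHom.ext fun y => hσ0 y) h
  constructor
  · intro h x
    exact (hK x).mpr (h _ (SetLike.le_def.mp le_sup_right (IntermediateField.subset_adjoin k _ ⟨x, rfl⟩)))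
  · intro h x hx
    have hle : L ⊔ IntermediateField.adjoin k (Set.range (algebraMap K Ω)) ≤
        (separableClosure L Ω).restrictScalars k := by
      refine sup_le (fun y hy => ?_) (IntermediateField.adjoin_le_iff.mpr ?_)
      · exact (separableClosure L Ω).algebraMap_mem ⟨y, hy⟩
      · rintro _ ⟨y, rfl⟩
        exact mem_separableClosure_iff.mpr ((hK y).mp (h y))
    exact mem_separableClosure_iff.mp (hle hx)

end Groth.Agent.S13184
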