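import Groth.Statements.S13186
import Groth.Agent.H18Gal.Hilbert90
import Mathlib.LinearAlgebra.Matrix.Determinant.Basic

set_option autoImplicit false
universe u
open GalCoh

namespace Groth.Agent.S13186

/-- Let L/K be a finite Galois extension of fields, n a natural number, and B a map from the Galois
group of L over K to the invertible n × n matrices over L such that B(σ) · σ(B(τ)) = B(στ) for all
σ, τ (σ acting on matrices entrywise, στ applying τ first) and det B(σ) = 1 for every σ. Then there
is an invertible matrix A over L of determinant 1 with B(σ) = A⁻¹ · σ(A) for every σ; that is, every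
1-cocycle of the Galois group with values in SL_n(L) is the coboundary of an element of SL_n(L), so
H¹ of the Galois group with values in SL_n(L) is a point. (The published statement says that every
torsor under the special linear group over K is trivial; this row is the finite-Galois-level cocycle
form that its proof establishes.) -/
theorem result (K L : Type u) [Field K] [Field L]
    [Algebra K L] [FiniteDimensional K L] [IsGalois K L] (n : ℕ)
    (B : (L ≃ₐ[K] L) → GL (Fin n) L)
    (hB : ∀ σ τ : L ≃ₐ[K] L,
      (B σ : Matrix (Fin n) (Fin n) L) * (B τ : Matrix (Fin n) (Fin n) L).map σ =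
        (B (σ * τ) : Matrix (Fin n) (Fin n) L))
    (hdet : ∀ σ : L ≃ₐ[K] L, Matrix.det (B σ : Matrix (Fin n) (Fin n) L) = 1) :
    ∃ A : GL (Fin n) L, Matrix.det (A : Matrix (Fin n) (Fin n) L) = 1 ∧ ∀ σ : L ≃ₐ[K] L,
      (B σ : Matrix (Fin n) (Fin n) L) =
        ((A⁻¹ : GL (Fin n) L) : Matrix (Fin n) (Fin n) L) * (A : Matrix (Fin n) (Fin n) L).map σ := by
  classical
  obtain ⟨C, hC⟩ := Groth.Agent.H18Gal.exists_matrix_fixed B hB
  have hd : ∀ σ : L ≃ₐ[K] L, σ (C : Matrix (Fin n) (Fin n) L).det = (C : Matrix (Fin n) (Fin n) L).det := fun σ => by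
    have h := congrArg Matrix.det (hC σ)
    rw [Matrix.det_mul, hdet σ, one_mul] at h
    exact (RingHom.map_det σ.toRingEquiv.toRingHom _).trans h
  set d := (C : Matrix (Fin n) (Fin n) L).det with hdd
  have hd0 : d ≠ 0 := (C.isUnit.map Matrix.detMonoidHom).ne_zero
  -- rescale the first column
  let e : Fin n → L := fun i => if (i : ℕ) = 0 then d⁻¹ else 1
  have he : ∀ (σ : L ≃ₐ[K] L) i, σ (e i) = e i := fun σ i => by
    simp only [e]; split
    · rw [map_inv₀, hd σ]
    · exact map_one σ
  have hprod : d * ∏ i, e i = 1 := by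
    cases n with
    | zero => simp [hdd]
    | succ n => simp [e, Fin.prod_univ_succ, hd0]
  have hdet' : ((C : Matrix (Fin n) (Fin n) L) * Matrix.diagonal e).det = 1 := by
    rw [Matrix.det_mul, Matrix.det_diagonal, hprod]
  let C' : GL (Fin n) L := Matrix.GeneralLinearGroup.mkOfDetNeZero _ (hdet'.trans_ne one_ne_zero)
  have hC' : (C' : Matrix (Fin n) (Fin n) L) = (C : Matrix (Fin n) (Fin n) L) * Matrix.diagonal e := rfl
  refine ⟨C'⁻¹, ?_, fun σ => ?_⟩
  · have h := congrArg (fun x : GL (Fin n) L => (x : Matrix (Fin n) (Fin n) L).det) (mul_inv_cancel C')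
    simp only [Units.val_mul, Units.val_one, Matrix.det_mul, Matrix.det_one, hC'] at h
    rw [Matrix.det_mul] at hdet'
    rwa [hdet', one_mul] at h
  · have hfix : (B σ : Matrix (Fin n) (Fin n) L) * (C' : Matrix (Fin n) (Fin n) L).map σ = C' := by
      have hm : (Matrix.diagonal e).map σ = Matrix.diagonal e := by
        rw [Matrix.diagonal_map (map_zero σ)]
        exact congrArg Matrix.diagonal (funext (he σ))
      rw [hC', Matrix.map_mul, hm, ← Matrix.mul_assoc, hC σ]
    rw [inv_inv]
    calc (B σ : Matrix (Fin n) (Fin n) L)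
        = (B σ : Matrix (Fin n) (Fin n) L) * ((C' : Matrix (Fin n) (Fin n) L) *
            ((C'⁻¹ : GL (Fin n) L) : Matrix (Fin n) (Fin n) L)).map σ := by
          rw [← Units.val_mul, mul_inv_cancel, Units.val_one, Matrix.map_one σ (map_zero σ) (map_one σ),
            Matrix.mul_one]
      _ = _ := by rw [Matrix.map_mul, ← Matrix.mul_assoc, hfix]

end Groth.Agent.S13186
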