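import Groth.Statements.S13188
import Groth.Agent.H23CSA.RedCharpoly

set_option autoImplicit false
universe u v w
open Brauer

namespace Groth.Agent.S13188

/-- Let K be a field with property C_2 for systems of forms and D a finite-dimensional central division
algebra over K with dim_K D = d². Let N : D → K be multiplicative, a reduced norm of D over K, and
given in the coordinates of a K-basis b of D by a homogeneous polynomial F of degree d, i.e. N(Σ x_i
b_i) = F(x) for every coordinate vector x (the reduced norm of a central simple algebra of dimension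
d² is such a polynomial map of degree d; these data record it). Then N : D → K is surjective. -/
theorem result (K : Type u) [Field K] (hK : Curves.IsCi K 2)
    (D : Type v) [DivisionRing D] [Algebra K D] [Algebra.IsCentral K D] [FiniteDimensional K D]
    (d : ℕ) (hd : Module.finrank K D = d ^ 2)
    (N : D →* K) (hN : CSAGal.IsRedNorm K D N)
    {ι : Type w} [Fintype ι] (b : Module.Basis ι K D)
    (F : MvPolynomial ι K) (hF : F.IsHomogeneous d)
    (hNF : ∀ x : ι → K, N (∑ i, x i • b i) = MvPolynomial.eval x F) :
    Function.Surjective N := by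
  classical
  have hd0 : 0 < d := by
    rcases Nat.eq_zero_or_pos d with h | h
    · have := Module.finrank_pos (R := K) (M := D)
      simp [hd, h] at this
    · exact h
  have hcard : Fintype.card ι = d ^ 2 := by rw [← Module.finrank_eq_card_basis b, hd]
  intro c
  let g := Fintype.equivFinOfCardEq hcard
  let H : MvPolynomial (Fin (d ^ 2 + 1)) K :=
    MvPolynomial.rename (fun i => (g i).castSucc) F -
      MvPolynomial.C c * MvPolynomial.X (Fin.last _) ^ d
  have hH : H.IsHomogeneous d := by
    refine (hF.rename_isHomogeneous).sub ?_
    simpa using (MvPolynomial.isHomogeneous_C _ c).mul (MvPolynomial.isHomogeneous_X_pow (R := K) (Fin.last (d ^ 2)) d)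
  obtain ⟨a, ha, h0⟩ := hK 1 (d ^ 2 + 1) (fun _ => H) (fun _ => d) (fun _ => hH) (fun _ => hd0)
    (by simp)
  set x : D := ∑ i, a (g i).castSucc • b i with hx
  have hN0 : N x = c * a (Fin.last _) ^ d := by
    have := h0 0
    simp only [H, map_sub, MvPolynomial.eval_rename, map_mul, MvPolynomial.eval_C, map_pow,
      MvPolynomial.eval_X, sub_eq_zero] at this
    rw [hx, hNF, ← this]
    rfl
  have hne : ∀ y : D, y ≠ 0 → N y ≠ 0 := fun y hy h => by
    have := congrArg N (mul_inv_cancel₀ hy)
    rw [map_mul, h, zero_mul, map_one] at this
    exact zero_ne_one this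
  have hlin : ∀ i, a (g i).castSucc = b.repr x i := fun i => by
    rw [hx, map_sum, Finsupp.finsetSum_apply, Finset.sum_eq_single i]
    · simp
    · intro j _ hj; simp [hj]
    · simp
  by_cases ht : a (Fin.last _) = 0
  · exfalso
    have hx0 : x = 0 := by
      by_contra hx0
      apply hne x hx0
      rw [hN0, ht, zero_pow hd0.ne', mul_zero]
    apply ha
    funext j
    refine Fin.lastCases ht (fun j => ?_) j
    have := hlin (g.symm j)
    simpa [hx0] using this
  · refine ⟨∑ i, ((a (Fin.last _))⁻¹ * a (g i).castSucc) • b i, ?_⟩
    have hscale : N (∑ i, ((a (Fin.last _))⁻¹ * a (g i).castSucc) • b i) =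
        ((a (Fin.last _))⁻¹) ^ d * N x := by
      rw [hx, hNF, hNF]
      rw [MvPolynomial.eval_eq, MvPolynomial.eval_eq, Finset.mul_sum]
      refine Finset.sum_congr rfl fun e he => ?_
      have hdeg : ∑ i ∈ e.support, e i = d := by
        have := hF (MvPolynomial.mem_support_iff.mp he)
        simpa [Finsupp.weight_apply, Finsupp.sum] using this
      simp only [mul_pow, Finset.prod_mul_distrib, Finset.prod_pow_eq_pow_sum, hdeg]
      ring
    rw [hscale, hN0, inv_pow, mul_comm c, ← mul_assoc, inv_mul_cancel₀ (pow_ne_zero _ ht), one_mul]

end Groth.Agent.S13188
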