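import Groth.Statements.S13189
import Mathlib.Algebra.Order.Ring.Star
import Mathlib.Combinatorics.Nullstellensatz
import Mathlib.Data.Rat.Star
import Mathlib.FieldTheory.Finite.Basic
import Mathlib.LinearAlgebra.BilinearForm.Properties
import Mathlib.RepresentationTheory.Invariants
import Mathlib.RingTheory.Flat.TorsionFree
import Mathlib.RingTheory.Henselian
import Mathlib.RingTheory.Ideal.AssociatedPrime.Basic
import Mathlib.RingTheory.RegularLocalRing.Defs
import Mathlib.RingTheory.SimpleRing.Principal

set_option autoImplicit false
universe u
open CAlg

namespace Groth.Agent.S13189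

/-- For a finite field K of cardinality q and n ≥ 0, a polynomial p in n variables over K vanishes at
every point of K^n if and only if p belongs to the ideal generated by the X_i^q − X_i, i = 1, …, n;
in other words that ideal is the kernel of the evaluation homomorphism from K[X_1, …, X_n] to the
ring of K-valued functions on K^n. -/
theorem result (K : Type u) [Field K] [Fintype K]
    (n : ℕ) (p : MvPolynomial (Fin n) K) :
    (∀ a : Fin n → K, MvPolynomial.eval a p = 0) ↔
      p ∈ Ideal.span (Set.range fun i : Fin n =>
        (MvPolynomial.X i ^ Fintype.card K - MvPolynomial.X i : MvPolynomial (Fin n) K)) := by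
  classical
  constructor
  · intro h
    obtain ⟨c, -, hc⟩ := MvPolynomial.combinatorial_nullstellensatz_exists_linearCombination
      (fun _ : Fin n => (Finset.univ : Finset K)) (fun _ => Finset.univ_nonempty) p (fun x _ => h x)
    have hprod : ∀ i : Fin n, ∏ r : K, (MvPolynomial.X i - MvPolynomial.C r : MvPolynomial (Fin n) K)
        = MvPolynomial.X i ^ Fintype.card K - MvPolynomial.X i := by
      intro i
      have hpoly : ∏ r : K, (Polynomial.X - Polynomial.C r) = (Polynomial.X ^ Fintype.card K - Polynomial.X : Polynomial K) := by
        have hm : (Polynomial.X ^ Fintype.card K - Polynomial.X : Polynomial K).Monic := by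
          apply Polynomial.monic_X_pow_sub
          rw [Polynomial.degree_X]
          exact_mod_cast Fintype.one_lt_card
        have := Polynomial.prod_multiset_X_sub_C_of_monic_of_roots_card_eq hm
          (by rw [FiniteField.roots_X_pow_card_sub_X, FiniteField.X_pow_card_sub_X_natDegree_eq K Fintype.one_lt_card]; rfl)
        rw [FiniteField.roots_X_pow_card_sub_X] at this
        exact this
      have := congrArg (Polynomial.aeval (MvPolynomial.X i : MvPolynomial (Fin n) K)) hpoly
      simpa [map_prod] using this
    rw [hc, Finsupp.linearCombination_apply]
    refine sum_mem fun i _ => Ideal.mul_mem_left _ _ (Ideal.subset_span ⟨i, ?_⟩)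
    exact (hprod i).symm
  · intro h a
    have hle : Ideal.span (Set.range fun i : Fin n =>
        (MvPolynomial.X i ^ Fintype.card K - MvPolynomial.X i : MvPolynomial (Fin n) K)) ≤ RingHom.ker (MvPolynomial.eval a) := by
      rw [Ideal.span_le]
      rintro _ ⟨i, rfl⟩
      simp [FiniteField.pow_card]
    exact hle h

end Groth.Agent.S13189
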