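import Groth.Statements.S13191

set_option autoImplicit false
universe u v w x
open GalCoh

namespace Groth.Agent.S13191

/-- Let a group G act by automorphisms on a group A, and let E and E' each be a G-equivariant right
A-torsor (a set with a simply transitive right action of A, written m ↦ m·a, and a left action of G
with g(m·a) = (gm)·(ga)). Let m ∈ E and m' ∈ E' be points with attached maps a, a' : G → A (g·m =
m·a(g) and g·m' = m'·a'(g) for all g). Then there is a bijection E ≃ E' commuting with the actions
of G and of A if and only if a and a' are cohomologous. (The published statement is for a Galois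
group acting on discrete modules; this row takes an arbitrary group acting on a group.) -/
theorem result {G : Type u} {A : Type v} {E : Type w} {E' : Type x}
    [Group G] [Group A] [MulDistribMulAction G A]
    [MulAction G E] [MulAction Aᵐᵒᵖ E]
    (hfree : ∀ m₁ m₂ : E, ∃! a : A, m₂ = MulOpposite.op a • m₁)
    (hcompat : ∀ (g : G) (a : A) (m : E), g • (MulOpposite.op a • m) = MulOpposite.op (g • a) • g • m)
    [MulAction G E'] [MulAction Aᵐᵒᵖ E']
    (hfree' : ∀ m₁ m₂ : E', ∃! a : A, m₂ = MulOpposite.op a • m₁)
    (hcompat' : ∀ (g : G) (a : A) (m : E'), g • (MulOpposite.op a • m) = MulOpposite.op (g • a) • g • m)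
    (m : E) (a : G → A) (ha : ∀ g : G, g • m = MulOpposite.op (a g) • m)
    (m' : E') (a' : G → A) (ha' : ∀ g : G, g • m' = MulOpposite.op (a' g) • m') :
    (∃ f : E ≃ E', (∀ (g : G) (e : E), f (g • e) = g • f e) ∧
        ∀ (b : A) (e : E), f (MulOpposite.op b • e) = MulOpposite.op b • f e) ↔
      GpH1.Cohomologous a a' := by
  constructor
  · rintro ⟨f, hfG, hfA⟩
    obtain ⟨c, hc, -⟩ := hfree' m' (f m)
    refine ⟨c, fun σ => ?_⟩
    obtain ⟨x, _, hx⟩ := hfree' m' (f (σ • m))
    have h1 := hx (c * a σ) (by rw [ha, hfA, hc, ← mul_smul, ← MulOpposite.op_mul])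
    have h2 := hx (a' σ * σ • c) (by rw [hfG, hc, hcompat', ha', ← mul_smul, ← MulOpposite.op_mul])
    have := h1.trans h2.symm
    rw [mul_assoc, ← this]; group
  · rintro ⟨c, hc⟩
    let φ : A ≃ E := Equiv.ofBijective (fun b => MulOpposite.op b • m)
      ⟨fun x y (hxy : MulOpposite.op x • m = MulOpposite.op y • m) =>
        (hfree m (MulOpposite.op x • m)).unique rfl hxy,
        fun e => (hfree m e).exists.imp fun _ h => h.symm⟩
    let ψ : A ≃ E' := Equiv.ofBijective (fun b => MulOpposite.op (c * b) • m')
      ⟨fun x y (hxy : MulOpposite.op (c * x) • m' = MulOpposite.op (c * y) • m') =>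
        mul_left_cancel ((hfree' m' (MulOpposite.op (c * x) • m')).unique rfl hxy),
        fun e => by
          obtain ⟨b, hb, -⟩ := hfree' m' e
          exact ⟨c⁻¹ * b, by simp [hb]⟩⟩
    refine ⟨φ.symm.trans ψ, fun g e => ?_, fun b e => ?_⟩
    · obtain ⟨x, rfl⟩ := φ.surjective e
      have e1 : g • φ x = φ (a g * g • x) := by
        show g • (MulOpposite.op x • m) = MulOpposite.op (a g * g • x) • m
        rw [hcompat, ha, ← mul_smul, ← MulOpposite.op_mul]
      simp only [Equiv.trans_apply, e1, Equiv.symm_apply_apply]
      show MulOpposite.op (c * (a g * g • x)) • m' = g • (MulOpposite.op (c * x) • m')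
      rw [hcompat', ha', ← mul_smul, ← MulOpposite.op_mul, smul_mul', hc g]
      group
    · obtain ⟨x, rfl⟩ := φ.surjective e
      have e1 : MulOpposite.op b • φ x = φ (x * b) := by
        show MulOpposite.op b • (MulOpposite.op x • m) = MulOpposite.op (x * b) • m
        rw [← mul_smul, ← MulOpposite.op_mul]
      simp only [Equiv.trans_apply, e1, Equiv.symm_apply_apply]
      show MulOpposite.op (c * (x * b)) • m' = MulOpposite.op b • (MulOpposite.op (c * x) • m')
      rw [← mul_smul, ← MulOpposite.op_mul, mul_assoc]

end Groth.Agent.S13191
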