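import Groth.Statements.S13192

set_option autoImplicit false
universe u v
open GalCoh

namespace Groth.Agent.S13192

/-- Let a group G act by automorphisms on a group A and let a : G → A be a 1-cocycle. Then there exist a
G-equivariant right A-torsor E (a set with a simply transitive right action of A, written m ↦ m·a,
and a left action of G with g(m·a) = (gm)·(ga)) and a point m of E whose attached map is a, i.e. g·m
= m·a(g) for every g in G. (E is taken in the universe of A. The published statement is for a Galois
group acting on discrete modules; this row takes an arbitrary group acting on a group.) -/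
theorem result {G : Type u} {A : Type v}
    [Group G] [Group A] [MulDistribMulAction G A] (a : G → A) (ha : GpH1.IsOneCocycle a) :
    ∃ (E : Type v) (_ : MulAction G E) (_ : MulAction Aᵐᵒᵖ E) (m : E),
      (∀ m₁ m₂ : E, ∃! b : A, m₂ = MulOpposite.op b • m₁) ∧
      (∀ (g : G) (b : A) (e : E), g • (MulOpposite.op b • e) = MulOpposite.op (g • b) • g • e) ∧
      ∀ g : G, g • m = MulOpposite.op (a g) • m := by
  have a1 : a 1 = 1 := by
    have h := ha 1 1
    simp only [mul_one, one_smul] at h
    exact mul_left_cancel (a := a 1) (by rw [← h, mul_one])
  letI act : MulAction G (ULift.{v} A) :=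
    { smul := fun g x => ⟨a g * g • x.down⟩
      one_smul := fun x => ULift.down_injective (by
        show a 1 * (1 : G) • x.down = x.down
        rw [one_smul, a1, one_mul])
      mul_smul := fun g h x => ULift.down_injective (by
        show a (g * h) * (g * h) • x.down = a g * g • (a h * h • x.down)
        rw [smul_mul', ha, mul_smul, mul_assoc]) }
  letI ract : MulAction Aᵐᵒᵖ (ULift.{v} A) :=
    { smul := fun b x => ⟨x.down * b.unop⟩
      one_smul := fun x => ULift.down_injective (mul_one x.down)
      mul_smul := fun b c x => ULift.down_injective (mul_assoc x.down c.unop b.unop).symm }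
  refine ⟨ULift.{v} A, act, ract, ⟨1⟩, ?_, ?_, ?_⟩
  · intro m₁ m₂
    refine ⟨m₁.down⁻¹ * m₂.down, ULift.down_injective ?_, ?_⟩
    · show m₂.down = m₁.down * (m₁.down⁻¹ * m₂.down)
      group
    · intro y hy
      have : m₂.down = m₁.down * y := congrArg ULift.down hy
      rw [this]; group
  · intro g b e
    apply ULift.down_injective
    show a g * g • (e.down * b) = (a g * g • e.down) * (g • b)
    rw [smul_mul', mul_assoc]
  · intro g
    apply ULift.down_injective
    show a g * g • (1 : A) = 1 * a g
    rw [smul_one, mul_one, one_mul]

end Groth.Agent.S13192
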