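import Groth.Statements.S13196
import Mathlib.FieldTheory.IsSepClosed
import Mathlib.FieldTheory.Galois.Infinite
import Mathlib.RingTheory.Trace.Basic
import Mathlib.FieldTheory.KrullTopology
import Mathlib.FieldTheory.Galois.Profinite

set_option autoImplicit false
universe u
open GalCoh

namespace Groth.Agent.S13196

/-- Let K be a field and L a separable closure of K. Every map a from the automorphism group of L over K
to L which is locally constant for the Krull topology and satisfies a(στ) = a(σ) + σ(a(τ)) for all
σ, τ is of the form a(σ) = σ(y) − y for a single y in L. (The published statement asserts vanishing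
in every positive degree; this row is the degree-one statement for the absolute Galois group with
continuous cochains.) -/
theorem result (K L : Type u) [Field K] [Field L] [Algebra K L]
    [IsSepClosure K L] (a : (L ≃ₐ[K] L) → L)
    (ha : ∀ σ τ : L ≃ₐ[K] L, a (σ * τ) = a σ + σ (a τ)) (hlc : IsLocallyConstant a) :
    ∃ y : L, ∀ σ : L ≃ₐ[K] L, a σ = σ y - y := by
  classical
  haveI : IsGalois K L := IsSepClosure.isGalois
  have h1 : a 1 = 0 := by simpa using ha 1 1
  -- an open normal subgroup on which `a` vanishes
  have hopen : IsOpen {σ : L ≃ₐ[K] L | a σ = 0} := hlc.isOpen_fiber 0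
  have hnhd : {σ : L ≃ₐ[K] L | a σ = 0} ∈ nhds (1 : L ≃ₐ[K] L) := hopen.mem_nhds h1
  obtain ⟨E, hEfd, hE⟩ := (krullTopology_mem_nhds_one_iff K L _).1 hnhd
  haveI := hEfd
  -- finitely many values
  haveI : CompactSpace (L ≃ₐ[K] L) := inferInstance
  have hfin : (Set.range a).Finite := hlc.range_finite
  haveI : FiniteDimensional K (IntermediateField.adjoin K (Set.range a)) :=
    haveI := hfin.to_subtype
    IntermediateField.finiteDimensional_adjoin (fun x _ => Algebra.IsIntegral.isIntegral x)
  let M : IntermediateField K L :=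
    IntermediateField.normalClosure K (E ⊔ IntermediateField.adjoin K (Set.range a) : IntermediateField K L) L
  haveI : FiniteDimensional K M := normalClosure.is_finiteDimensional K _ L
  haveI : IsGalois K M := IsGalois.normalClosure K _ L
  have hEM : E ≤ M := le_sup_left.trans (IntermediateField.le_normalClosure _)
  have haM : ∀ σ, a σ ∈ M := fun σ =>
    (le_sup_right.trans (IntermediateField.le_normalClosure _) : IntermediateField.adjoin K (Set.range a) ≤ M)
      (IntermediateField.subset_adjoin K _ ⟨σ, rfl⟩)
  have hker : ∀ σ : L ≃ₐ[K] L, σ.restrictNormal M = 1 → a σ = 0 := fun σ hσ => hE (by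
    rw [SetLike.mem_coe, IntermediateField.mem_fixingSubgroup_iff]
    intro x hx
    have := AlgEquiv.restrictNormal_commutes σ M ⟨x, hEM hx⟩
    rw [hσ] at this
    exact this.symm)
  have hsurj := AlgEquiv.restrictNormalHom_surjective (F := K) (K₁ := M) (E := L)
  choose lift hlift using hsurj
  let b : (M ≃ₐ[K] M) → M := fun τ => ⟨a (lift τ), haM _⟩
  have hab : ∀ σ : L ≃ₐ[K] L, (b (σ.restrictNormal M) : L) = a σ := by
    intro σ
    have h2 : a ((lift (σ.restrictNormal M))⁻¹ * σ) = 0 := hker _ (by
      show AlgEquiv.restrictNormalHom M ((lift (σ.restrictNormal M))⁻¹ * σ) = 1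
      rw [map_mul, map_inv, hlift]
      exact inv_mul_cancel _)
    have h3 := ha (lift (σ.restrictNormal M)) ((lift (σ.restrictNormal M))⁻¹ * σ)
    rw [mul_inv_cancel_left, h2, map_zero, add_zero] at h3
    exact h3.symm
  have hb : ∀ τ τ', b (τ * τ') = b τ + τ (b τ') := by
    intro τ τ'
    apply Subtype.ext
    have h4 := ha (lift τ) (lift τ')
    have h5 := hab (lift τ * lift τ')
    have h6 : (lift τ * lift τ').restrictNormal M = τ * τ' := by
      show AlgEquiv.restrictNormalHom M (lift τ * lift τ') = _
      rw [map_mul, hlift, hlift]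
    rw [h6, h4] at h5
    rw [h5]
    have h7 := AlgEquiv.restrictNormal_commutes (lift τ) M (b τ')
    have h8 : (lift τ).restrictNormal M = τ := hlift τ
    rw [h8] at h7
    exact congrArg (a (lift τ) + ·) h7.symm
  obtain ⟨θ, hθ⟩ := Algebra.trace_surjective K M 1
  let y : M := -∑ τ : M ≃ₐ[K] M, b τ * τ θ
  have hy : ∀ τ, b τ = τ y - y := by
    intro τ
    have htr : ∑ ρ : M ≃ₐ[K] M, ρ θ = 1 := by
      rw [← trace_eq_sum_automorphisms, hθ, map_one]
    have h9 : τ y = -∑ ρ : M ≃ₐ[K] M, (b ρ - b τ) * ρ θ := by
      simp only [y, map_neg, map_sum, map_mul]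
      refine congrArg Neg.neg (Fintype.sum_equiv (Equiv.mulLeft τ) _ _ fun ρ => ?_)
      simp [hb, AlgEquiv.mul_apply]
    rw [h9]
    simp only [y, sub_mul, Finset.sum_sub_distrib, ← Finset.mul_sum, htr]
    ring
  refine ⟨(y : L), fun σ => ?_⟩
  rw [← hab σ, hy, AddSubgroupClass.coe_sub]
  exact congrArg (· - (y : L)) (AlgEquiv.restrictNormal_commutes σ M y)

end Groth.Agent.S13196
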