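import Groth.Statements.S13194
import Groth.Agent.S13196
import Mathlib.FieldTheory.Galois.Infinite
import Mathlib.Algebra.CharP.Lemmas
import Mathlib.FieldTheory.Finite.Basic

set_option autoImplicit false
universe u
open GalCoh

namespace Groth.Agent.S13194

/-- Let K be a field of characteristic p > 0, L a separable closure of K, and χ a locally constant map
from the automorphism group of L over K (Krull topology) to Z/pZ with χ(στ) = χ(σ) + χ(τ) for all σ,
τ — a continuous 1-cocycle for the trivial action. Then there is an element x of L with x^p − x in K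
such that σ(x) − x equals χ(σ), read in the prime field of L, for every σ. Together with the
elementary facts that σ ↦ σ(x) − x is such a cocycle for every x with x^p − x in K and vanishes
exactly when x lies in K, this identifies the first continuous cohomology group of the absolute
Galois group of K with coefficients Z/pZ with K/℘(K), ℘(y) = y^p − y. -/
theorem result (p : ℕ) [Fact p.Prime]
    (K L : Type u) [Field K] [Field L] [Algebra K L] [CharP K p] [IsSepClosure K L]
    (χ : (L ≃ₐ[K] L) → ZMod p) (hχ : ∀ σ τ : L ≃ₐ[K] L, χ (σ * τ) = χ σ + χ τ)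
    (hlc : IsLocallyConstant χ) :
    ∃ x : L, x ^ p - x ∈ Set.range (algebraMap K L) ∧
      ∀ σ : L ≃ₐ[K] L, σ x - x = ((χ σ).val : L) := by
  haveI : IsGalois K L := IsSepClosure.isGalois
  haveI : CharP L p := charP_of_injective_algebraMap (algebraMap K L).injective p
  obtain ⟨y, hy⟩ := Groth.Agent.S13196.result K L (fun σ => ((χ σ).val : L))
    (fun σ τ => by
      rw [map_natCast, hχ, ZMod.natCast_val, ZMod.natCast_val, ZMod.natCast_val]
      exact (ZMod.castHom (dvd_refl p) L).map_add _ _)
    (hlc.comp fun z : ZMod p => (z.val : L))
  refine ⟨y, ?_, fun σ => (hy σ).symm⟩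
  rw [InfiniteGalois.mem_range_algebraMap_iff_fixed]
  intro σ
  rw [map_sub, map_pow, eq_add_of_sub_eq (hy σ).symm, add_pow_char]
  have : ((χ σ).val : L) ^ p = ((χ σ).val : L) := by
    rw [ZMod.natCast_val]
    exact ((ZMod.castHom (dvd_refl p) L).map_pow _ _).symm.trans
      (congrArg (ZMod.castHom (dvd_refl p) L) (ZMod.pow_card _))
  rw [this]
  ring

end Groth.Agent.S13194
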