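import Groth.Statements.S13198
import Groth.Agent.H9Hens.TensorLocalRing
-- import your own Groth.Agent.* helpers here

set_option autoImplicit false
universe u
open scoped TensorProduct
open Hensel

namespace Groth.Agent.S13198

/-- Let R be a local ring which is strictly henselian (henselian, with separably closed residue field),
A a local ring which is an integral R-algebra with local structure map and whose residue field is
purely inseparable over that of R, and B a local ring with a local homomorphism R → B. Then A ⊗_R B
is a local ring, the map B → A ⊗_R B is local, and the residue field extension of A ⊗_R B over B is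
purely inseparable: every element of A ⊗_R B has a p^n-th power, p the characteristic exponent of
the residue field of B, congruent modulo the maximal ideal to an element 1 ⊗ b. -/
theorem result
    (R A B : Type u) [CommRing R] [HenselianLocalRing R] [IsSepClosed (IsLocalRing.ResidueField R)]
    [CommRing A] [IsLocalRing A] [Algebra R A] [IsLocalHom (algebraMap R A)] [Algebra.IsIntegral R A]
    [IsPurelyInseparable (IsLocalRing.ResidueField R) (IsLocalRing.ResidueField A)]
    [CommRing B] [IsLocalRing B] [Algebra R B] [IsLocalHom (algebraMap R B)] :
    ∃ _ : IsLocalRing (A ⊗[R] B),
      IsLocalHom (Algebra.TensorProduct.includeRight : B →ₐ[R] A ⊗[R] B).toRingHom ∧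
      ∀ x : A ⊗[R] B, ∃ (n : ℕ) (b : B),
        x ^ (ringExpChar (IsLocalRing.ResidueField B)) ^ n - (1 : A) ⊗ₜ[R] b ∈ IsLocalRing.maximalIdeal (A ⊗[R] B) := by
  exact Groth.Agent.H9Hens.exists_isLocalRing_tensor R A B

end Groth.Agent.S13198
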