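import Groth.Statements.S13199
import Groth.Agent.H9Hens.TensorHensFinite
import Groth.Agent.H9Hens.BranchUnibranch
import Groth.Agent.H1Branch.Smooth
import Groth.Agent.H02CA.SmoothRegular
-- import your own Groth.Agent.* helpers here

set_option autoImplicit false
universe u
open Hensel

namespace Groth.Agent.S13199

/-- Let R be a Noetherian integral domain which is a strictly henselian local ring (henselian with
separably closed residue field), R' a smooth R-algebra and p a prime ideal of R' lying over the
maximal ideal of R (that is, containing its image). Then the local ring R'_p is an integral domain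
and is geometrically unibranch: the integral closure of R'_p in its fraction field is a local ring
whose residue field is purely inseparable over that of R'_p. (The published statement concludes that
every strict henselization of R'_p is an integral domain; for a local ring this is equivalent to
being an integral domain which is geometrically unibranch, the conclusion stated here.) -/
theorem result
    (R R' : Type u) [CommRing R] [IsDomain R] [IsNoetherianRing R] [HenselianLocalRing R]
    [IsSepClosed (IsLocalRing.ResidueField R)]
    [CommRing R'] [Algebra R R'] [Algebra.Smooth R R']
    (p : Ideal R') [p.IsPrime] (hp : (IsLocalRing.maximalIdeal R).map (algebraMap R R') ≤ p) :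
    IsDomain (Localization.AtPrime p) ∧ CAlg2.IsGeomUnibranch (Localization.AtPrime p) := by
  letI : Algebra R (Localization.AtPrime p) := OreLocalization.instAlgebra
  haveI : IsLocalHom (algebraMap R (Localization.AtPrime p)) := ⟨fun r hr => by
    by_contra hnu
    have h1 : algebraMap R R' r ∈ p := hp (Ideal.mem_map_of_mem _ hnu)
    rw [IsScalarTower.algebraMap_apply R R' (Localization.AtPrime p),
      IsLocalization.AtPrime.isUnit_to_map_iff _ p] at hr
    exact hr h1⟩
  haveI := Groth.Agent.H9Hens.isStrictHenselization_self R
  have hA : Brnch.numGeomBranches R = 1 := by
    rw [Groth.Agent.H9Hens.numGeomBranches_eq_one_iff,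
      Groth.Agent.H9Hens.isGeomUnibranch_iff_card_minimalPrimes R R]
    exact ((Groth.Agent.H9Hens.isDomain_iff_isReduced_minimalPrimes R).1 inferInstance).2
  have hB : CAlg2.IsGeomUnibranch (Localization.AtPrime p) := by
    rw [← Groth.Agent.H9Hens.numGeomBranches_eq_one_iff,
      ← Groth.Agent.H1Branch.numGeomBranches_eq (A := R) (B := Localization.AtPrime p) p.primeCompl, hA]
  refine ⟨?_, hB⟩
  haveI : IsReduced R' := Groth.Agent.H02CA.isReduced_of_smooth R R'
  haveI : IsReduced (Localization.AtPrime p) := inferInstance
  haveI : IsDomain (CAlg2.red (Localization.AtPrime p)) := hB.1.1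
  exact Function.Injective.isDomain (Ideal.Quotient.mk (nilradical (Localization.AtPrime p)))
    (RingHom.injective_iff_ker_eq_bot _ |>.2 (by rw [Ideal.mk_ker, nilradical_eq_zero]; rfl))

end Groth.Agent.S13199
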