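import Groth.Statements.S13200
import Groth.Agent.H9Hens.BranchCompletion
import Groth.Agent.H9Hens.GRingLocal
import Groth.Agent.H05EGA4.Equidim
-- import your own Groth.Agent.* helpers here

set_option autoImplicit false
universe u
open Hensel

namespace Groth.Agent.S13200

/-- Let R be an excellent local ring which is strictly henselian (henselian with separably closed
residue field), and let R^ denote its completion at the maximal ideal. An element Δ of R is a prime
element of R exactly when its image in R^ is a prime element of R^. -/
theorem result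
    (R : Type u) [CommRing R] [HenselianLocalRing R] [IsSepClosed (IsLocalRing.ResidueField R)]
    (hR : EGA4.IsExcellent R) (Δ : R) :
    Prime Δ ↔ Prime (algebraMap R (AdicCompletion (IsLocalRing.maximalIdeal R) R) Δ) := by
  have := hR.1
  have := H05EGA4.faithfullyFlat_cpl R
  let C := AdicCompletion (IsLocalRing.maximalIdeal R) R
  have hmap : Ideal.span {algebraMap R C Δ} = (Ideal.span {Δ}).map (algebraMap R C) := by
    rw [Ideal.map_span, Set.image_singleton]
  have hinj : Function.Injective (algebraMap R C) := FaithfulSMul.algebraMap_injective R C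
  constructor
  · intro h
    have : (Ideal.span {Δ}).IsPrime := (Ideal.span_singleton_prime h.ne_zero).mpr h
    have : IsLocalRing (R ⧸ Ideal.span {Δ}) := IsLocalRing.of_surjective' _ Ideal.Quotient.mk_surjective
    have : HenselianLocalRing (R ⧸ Ideal.span {Δ}) := H9Hens.henselianLocalRing_quotient _
    have hG := (H9Hens.grsHom_cpl_of_isGRing R hR.2.2.1).cpl_quotient (Ideal.span {Δ})
    have hdom := H9Hens.isDomain_cpl_of_henselian (hG.mono (r' := 1) (n' := 2) le_top le_top)
    obtain ⟨e⟩ := H05EGA4.exists_completion_quotient_equiv (IsLocalRing.maximalIdeal R) (R ⧸ Ideal.span {Δ})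
      (Ideal.Quotient.mk _) Ideal.Quotient.mk_surjective _
      (IsLocalRing.map_maximalIdeal_of_surjective _ Ideal.Quotient.mk_surjective)
    rw [Ideal.mk_ker] at e
    have : IsDomain (C ⧸ (Ideal.span {Δ}).map (algebraMap R C)) := e.toMulEquiv.isDomain
    rw [← Ideal.span_singleton_prime ((map_ne_zero_iff _ hinj).mpr h.ne_zero), hmap]
    exact (Ideal.Quotient.isDomain_iff_prime _).mp this
  · intro h
    have h0 : Δ ≠ 0 := fun h0 => h.ne_zero (by rw [h0, map_zero])
    rw [← Ideal.span_singleton_prime h0, ← Ideal.comap_map_eq_self_of_faithfullyFlat (B := C) (Ideal.span {Δ}), ← hmap]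
    have := (Ideal.span_singleton_prime h.ne_zero).mpr h
    exact Ideal.IsPrime.comap _

end Groth.Agent.S13200
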