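import Groth.Statements.S13201
import Groth.Agent.H3CAlg.NodeFactorial
import Groth.Agent.H3CAlg.NodeUnits

set_option autoImplicit false
universe u
open CAlg

namespace Groth.Agent.S13201

open MvPowerSeries in
/-- Let R be a complete regular local ring and Δ an element of the maximal ideal of R. The quotient of
the power series ring R[[u,v]] in two variables by the ideal generated by uv − Δ is an integral
domain with unique factorization exactly when Δ is a prime element of R. -/
theorem result
    (R : Type u) [CommRing R] [IsRegularLocalRing R] [IsAdicComplete (IsLocalRing.maximalIdeal R) R]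
    (Δ : R) (hΔ : Δ ∈ IsLocalRing.maximalIdeal R) :
    (IsDomain (MvPowerSeries (Fin 2) R ⧸ Ideal.span {(X 0 * X 1 - C Δ : MvPowerSeries (Fin 2) R)}) ∧
      UniqueFactorizationMonoid (MvPowerSeries (Fin 2) R ⧸ Ideal.span {(X 0 * X 1 - C Δ : MvPowerSeries (Fin 2) R)}))
      ↔ Prime Δ := by
  classical
  haveI := H4Depth.isDomain_of_isRegularLocalRing R
  let e := H3CAlg.NodeFactorial.nodeEquiv Δ
  constructor
  · rintro ⟨h1, h2⟩
    haveI : IsDomain (H3CAlg.NodeFactorial.Comp Δ) := e.symm.toMulEquiv.isDomain _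
    haveI : UniqueFactorizationMonoid (H3CAlg.NodeFactorial.Comp Δ) := e.toMulEquiv.uniqueFactorizationMonoid h2
    exact H3CAlg.NodeFactorial.prime_of_ufd hΔ
  · intro hp
    haveI : Nontrivial (MvPowerSeries (Fin 2) R ⧸ Ideal.span {(X 0 * X 1 - C Δ : MvPowerSeries (Fin 2) R)}) := by
      refine Ideal.Quotient.nontrivial_iff.mpr ?_
      rw [Ne, Ideal.span_singleton_eq_top, MvPowerSeries.isUnit_iff_constantCoeff]
      simpa using hp.not_unit
    haveI : NoZeroDivisors (MvPowerSeries (Fin 2) R ⧸ Ideal.span {(X 0 * X 1 - C Δ : MvPowerSeries (Fin 2) R)}) :=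
      ⟨fun {z w} h => H3CAlg.NodeUnits.noZeroDivisors hΔ hp.ne_zero z w h⟩
    haveI hd : IsDomain (MvPowerSeries (Fin 2) R ⧸ Ideal.span {(X 0 * X 1 - C Δ : MvPowerSeries (Fin 2) R)}) :=
      NoZeroDivisors.to_isDomain _
    haveI : IsDomain (H3CAlg.NodeFactorial.Comp Δ) := e.symm.toMulEquiv.isDomain _
    exact ⟨hd, e.symm.toMulEquiv.uniqueFactorizationMonoid (H3CAlg.NodeFactorial.ufd_comp Δ hp)⟩

end Groth.Agent.S13201
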