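import Groth.Statements.S13202
import Groth.Agent.H1Branch.Smooth
import Groth.Agent.H9Hens.BranchUnibranch
import Groth.Agent.H9Hens.BranchSum
import Groth.Agent.H9Hens.StrictHens
import Groth.Agent.H02CA.SmoothRegular
import Groth.Agent.S0539
import Groth.Agent.S2750
import Mathlib
-- import your own Groth.Agent.* helpers here

set_option autoImplicit false
set_option linter.style.haveILetI false
set_option backward.isDefEq.respectTransparency false
set_option maxHeartbeats 1000000
set_option synthInstance.maxHeartbeats 200000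
universe u
open Hensel

open IsLocalRing TensorProduct

namespace Groth.Agent.S13202

/-- Primality of an element in strict henselizations ascends along smooth algebras. -/
theorem prime_of_smooth {R R' : Type u} [CommRing R] [IsNoetherianRing R] [CommRing R'] [Algebra R R'] [Algebra.Smooth R R']
    (Δ : R) (p : Ideal R) [p.IsPrime] (q : Ideal R') [q.IsPrime] [q.LiesOver p] (hΔ : Δ ∈ p)
    (h : ∀ (T : Type u) [CommRing T] [IsLocalRing T] [Algebra (Localization.AtPrime p) T]
          [IsLocalHom (algebraMap (Localization.AtPrime p) T)]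
          [Hensel.IsStrictHenselization (Localization.AtPrime p) T],
          Prime (algebraMap (Localization.AtPrime p) T (algebraMap R (Localization.AtPrime p) Δ)))
    (T : Type u) [CommRing T] [IsLocalRing T] [Algebra (Localization.AtPrime q) T]
    [IsLocalHom (algebraMap (Localization.AtPrime q) T)] [Hensel.IsStrictHenselization (Localization.AtPrime q) T] :
    Prime (algebraMap (Localization.AtPrime q) T (algebraMap R' (Localization.AtPrime q) (algebraMap R R' Δ))) := by
  classical
  letI := Localization.AtPrime.algebraOfLiesOver p q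
  let Rp := Localization.AtPrime p
  let O := Localization.AtPrime q
  haveI : Localization.AtPrime.IsLiesOverAlgebra p q := ⟨rfl⟩
  haveI : IsLocalHom (algebraMap Rp O) := by
    rw [Localization.AtPrime.IsLiesOverAlgebra.algebraMap_eq]
    infer_instance
  let d := algebraMap R Rp Δ
  let dO := algebraMap R O Δ
  have hd : algebraMap Rp O d = dO := (IsScalarTower.algebraMap_apply R Rp O Δ).symm
  have hdO : algebraMap R' O (algebraMap R R' Δ) = dO := (IsScalarTower.algebraMap_apply R R' O Δ).symm
  rw [hdO]
  let I : Ideal Rp := Ideal.span {d}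
  let IO : Ideal O := I.map (algebraMap Rp O)
  have hIO : IO = Ideal.span {dO} := by simp [IO, I, Ideal.map_span, hd]
  have hdm : d ∈ maximalIdeal Rp := (IsLocalization.AtPrime.to_map_mem_maximal_iff Rp p Δ).2 hΔ
  have hI : I ≠ ⊤ := ne_top_of_le_ne_top (maximalIdeal.isMaximal Rp).ne_top
    ((Ideal.span_singleton_le_iff_mem _).2 hdm)
  have hIO' : IO ≠ ⊤ := ne_top_of_le_ne_top (maximalIdeal.isMaximal O).ne_top
    ((Ideal.map_mono ((Ideal.span_singleton_le_iff_mem _).2 hdm)).trans (map_maximalIdeal_le _))
  obtain ⟨k, _, _, _, _, _, H, _, _, _, _, π, -, hH⟩ := H9Hens.exists_isStrictHenselization_colim Rp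
  have hprime := h H
  let A := Rp ⧸ I
  let B := O ⧸ IO
  haveI : IsLocalRing A := H9Hens.isLocalRing_quotient hI
  haveI : IsLocalRing B := H9Hens.isLocalRing_quotient hIO'
  haveI : IsLocalHom (algebraMap A B) := H9Hens.isLocalHom_quotient I
  -- the special fibre of `H` is a domain
  have hJ : I.map (algebraMap Rp H) = Ideal.span {algebraMap Rp H d} := by simp [I, Ideal.map_span]
  haveI hJp : (I.map (algebraMap Rp H)).IsPrime := by
    rw [hJ]; exact (Ideal.span_singleton_prime hprime.ne_zero).2 hprime
  haveI : IsLocalRing (H ⧸ I.map (algebraMap Rp H)) := H9Hens.isLocalRing_quotient hJp.ne_top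
  haveI : IsLocalHom (algebraMap A (H ⧸ I.map (algebraMap Rp H))) := H9Hens.isLocalHom_quotient I
  haveI := H9Hens.isStrictHenselization_quotient (A := Rp) (S := H) I
  obtain ⟨hred, huni⟩ := (S2750.result A (H ⧸ I.map (algebraMap Rp H))).2 inferInstance
  haveI := hred
  -- `B` is a localization of the smooth `A`-algebra `S'`
  haveI : IsScalarTower R A B := IsScalarTower.of_algebraMap_eq (R := R) (S := A) (A := B) fun r => by
    show Ideal.Quotient.mk IO (algebraMap R O r) = Ideal.Quotient.mk IO (algebraMap Rp O (algebraMap R Rp r))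
    rw [← IsScalarTower.algebraMap_apply R Rp O]
  let S' := A ⊗[R] R'
  let φ : S' →ₐ[A] B := Algebra.TensorProduct.lift (Algebra.ofId A B) (IsScalarTower.toAlgHom R R' B)
    fun _ _ => Commute.all _ _
  letI : Algebra S' B := φ.toRingHom.toAlgebra
  haveI : IsScalarTower A S' B := ⟨fun a z b => by
    show φ (a • z) * b = a • (φ z * b)
    rw [map_smul, smul_mul_assoc]⟩
  letI : CommRing S' := inferInstance
  let M : @Submonoid S' (@MulZeroOneClass.toMulOneClass S' (@instMulZeroOneClassOfSemiring S' CommSemiring.toSemiring)) :=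
    q.primeCompl.map (Algebra.TensorProduct.includeRight : R' →ₐ[R] S')
  have hφr : ∀ r' : R', φ (1 ⊗ₜ r') = Ideal.Quotient.mk IO (algebraMap R' O r') := fun r' => by
    rw [Algebra.TensorProduct.lift_tmul, map_one, one_mul]
    exact IsScalarTower.algebraMap_apply R' O B r'
  have hclear : ∀ x : S', ∃ s ∈ q.primeCompl, ∃ r' : R', (1 ⊗ₜ s) * x = 1 ⊗ₜ r' := by
    intro x
    induction x using TensorProduct.induction_on with
    | zero => exact ⟨1, q.primeCompl.one_mem, 0, (mul_zero _).trans (TensorProduct.tmul_zero _ _).symm⟩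
    | tmul a r' =>
      obtain ⟨a, rfl⟩ := Ideal.Quotient.mk_surjective a
      obtain ⟨r, s, rfl⟩ := IsLocalization.exists_mk'_eq p.primeCompl a
      refine ⟨algebraMap R R' s, fun hs => s.2 ((Ideal.mem_of_liesOver q p _).2 hs), algebraMap R R' r * r', ?_⟩
      · have e1 : ∀ t : R, (1 : A) ⊗ₜ[R] algebraMap R R' t = algebraMap R A t ⊗ₜ[R] (1 : R') := fun t => by
          rw [Algebra.algebraMap_eq_smul_one, Algebra.algebraMap_eq_smul_one, TensorProduct.tmul_smul, TensorProduct.smul_tmul']
        rw [show (1 : A) ⊗ₜ[R] (algebraMap R R' r * r') = ((1 : A) ⊗ₜ[R] algebraMap R R' r) * (1 ⊗ₜ r') by simp,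
          e1, e1, Algebra.TensorProduct.tmul_mul_tmul, Algebra.TensorProduct.tmul_mul_tmul, one_mul, mul_one]
        congr 1
        show algebraMap R A s * Ideal.Quotient.mk I (IsLocalization.mk' Rp r s) = algebraMap R A r
        rw [IsScalarTower.algebraMap_apply R Rp A, IsScalarTower.algebraMap_apply R Rp A, Ideal.Quotient.algebraMap_eq,
          ← map_mul, mul_comm, IsLocalization.mk'_spec]
    | add x y hx hy =>
      obtain ⟨s, hs, r, hr⟩ := hx
      obtain ⟨s', hs', r', hr'⟩ := hy
      refine ⟨s * s', q.primeCompl.mul_mem hs hs', s' * r + s * r', ?_⟩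
      have e : ((1 : A) ⊗ₜ[R] (s * s') : S') = (1 ⊗ₜ s) * (1 ⊗ₜ s') := by simp
      rw [e, TensorProduct.tmul_add, show ((1 : A) ⊗ₜ[R] (s' * r) : S') = (1 ⊗ₜ s') * (1 ⊗ₜ r) by simp,
        show ((1 : A) ⊗ₜ[R] (s * r') : S') = (1 ⊗ₜ s) * (1 ⊗ₜ r') by simp, ← hr, ← hr']
      ring
  have hΔ0 : ∀ w : R', ((1 : A) ⊗ₜ[R] (algebraMap R R' Δ * w) : S') = 0 := fun w => by
    rw [← Algebra.smul_def, ← TensorProduct.smul_tmul]
    have : algebraMap R A Δ = 0 := Ideal.Quotient.eq_zero_iff_mem.2 (Ideal.mem_span_singleton_self _)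
    rw [← Algebra.algebraMap_eq_smul_one, this, TensorProduct.zero_tmul]
  haveI : IsLocalization M B := by
    refine (isLocalization_iff M B).2 ⟨?_, ?_, ?_⟩
    · rintro ⟨_, s, hs, rfl⟩
      show IsUnit (φ (1 ⊗ₜ s))
      rw [hφr]
      exact (IsLocalization.map_units O (⟨s, hs⟩ : q.primeCompl)).map _
    · intro b
      obtain ⟨b, rfl⟩ := Ideal.Quotient.mk_surjective b
      obtain ⟨r', s, rfl⟩ := IsLocalization.exists_mk'_eq q.primeCompl b
      refine ⟨(1 ⊗ₜ r', ⟨1 ⊗ₜ s.1, s.1, s.2, rfl⟩), ?_⟩
      show Ideal.Quotient.mk IO (IsLocalization.mk' O r' s) * φ (1 ⊗ₜ s.1) = φ (1 ⊗ₜ r')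
      rw [hφr, hφr, ← map_mul, IsLocalization.mk'_spec]
    · intro x y hxy
      obtain ⟨s, hs, r', hr'⟩ := hclear (x - y)
      have h0 : φ (1 ⊗ₜ r') = 0 := by
        rw [← hr', map_mul, map_sub, show φ x = φ y from hxy, sub_self, mul_zero]
      rw [hφr, Ideal.Quotient.eq_zero_iff_mem, hIO, Ideal.mem_span_singleton] at h0
      obtain ⟨z, hz⟩ := h0
      obtain ⟨w, u, rfl⟩ := IsLocalization.exists_mk'_eq q.primeCompl z
      rw [mul_comm, IsLocalization.mk'_eq_mul_mk'_one] at hz
      have hz' : algebraMap R' O (u.1 * r') = algebraMap R' O (algebraMap R R' Δ * w) := by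
        rw [map_mul, map_mul, hdO, hz]
        have := IsLocalization.mk'_spec O (1 : R') u
        rw [map_one] at this
        linear_combination (algebraMap R' O w * dO) * this
      obtain ⟨v, hv⟩ := (IsLocalization.eq_iff_exists q.primeCompl O).1 hz'
      refine ⟨⟨1 ⊗ₜ (v.1 * u.1 * s), _, q.primeCompl.mul_mem (q.primeCompl.mul_mem v.2 u.2) hs, rfl⟩, sub_eq_zero.1 ?_⟩
      show ((1 : A) ⊗ₜ[R] (v.1 * u.1 * s) : S') * x - (1 ⊗ₜ[R] (v.1 * u.1 * s)) * y = 0
      rw [← mul_sub, show ((1 : A) ⊗ₜ[R] (v.1 * u.1 * s) : S') = (1 ⊗ₜ (v.1 * u.1)) * (1 ⊗ₜ s) by simp,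
        mul_assoc, hr', Algebra.TensorProduct.tmul_mul_tmul, mul_one, mul_assoc v.1 u.1 r', hv]
      rw [show (↑v : R') * (algebraMap R R' Δ * w) = algebraMap R R' Δ * (↑v * w) by ring]
      exact hΔ0 _
  -- `B` is reduced and geometrically unibranch
  haveI : IsReduced S' := H02CA.isReduced_of_smooth A S'
  haveI : IsReduced B := isReduced_localizationPreserves M B inferInstance
  have hB : CAlg2.IsGeomUnibranch B := by
    rw [← H9Hens.numGeomBranches_eq_one_iff, ← H1Branch.numGeomBranches_eq (A := A) (B := B) M,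
      H9Hens.numGeomBranches_eq_one_iff]
    exact huni
  -- conclude on `T`
  have hJT : IO.map (algebraMap O T) = Ideal.span {algebraMap O T dO} := by rw [hIO, Ideal.map_span, Set.image_singleton]
  have hJT' : IO.map (algebraMap O T) ≠ ⊤ := ne_top_of_le_ne_top (maximalIdeal.isMaximal T).ne_top
    ((Ideal.map_mono (le_maximalIdeal hIO')).trans (map_maximalIdeal_le _))
  haveI : IsLocalRing (T ⧸ IO.map (algebraMap O T)) := H9Hens.isLocalRing_quotient hJT'
  haveI : IsLocalHom (algebraMap B (T ⧸ IO.map (algebraMap O T))) := H9Hens.isLocalHom_quotient IO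
  haveI := H9Hens.isStrictHenselization_quotient (A := O) (S := T) IO
  haveI : IsDomain (T ⧸ IO.map (algebraMap O T)) := (S2750.result B (T ⧸ IO.map (algebraMap O T))).1 ⟨inferInstance, hB⟩
  have hTp : (Ideal.span {algebraMap O T dO}).IsPrime := hJT ▸ (Ideal.Quotient.isDomain_iff_prime _).1 inferInstance
  refine (Ideal.span_singleton_prime ?_).1 hTp
  haveI := S0539.result O T
  haveI : Module.Flat Rp O := by
    haveI : Module.Flat R O := Module.Flat.trans R R' O
    exact (Module.flat_iff_of_isLocalization Rp p.primeCompl O).2 inferInstance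
  haveI : Module.FaithfullyFlat Rp O := Module.FaithfullyFlat.of_flat_of_isLocalHom
  rw [Ne, map_eq_zero_iff _ (FaithfulSMul.algebraMap_injective O T), ← hd,
    map_eq_zero_iff _ (FaithfulSMul.algebraMap_injective Rp O)]
  intro hd0
  exact hprime.ne_zero (by show algebraMap Rp H d = 0; rw [hd0, map_zero])

end Groth.Agent.S13202

namespace Groth.Agent.S13202

/-- Let R be a Noetherian regular ring (every localization at a prime ideal is a regular local ring) and
Δ ∈ R. The element Δ is étale-universally prime — meaning that for every prime ideal p of R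
containing Δ and every strict henselization T of R_p, the image of Δ in T is a prime element —
exactly when for every smooth R-algebra R', every prime ideal q of R' and every strict henselization
T of R'_q, the image of Δ in T is either invertible or a prime element. (Smooth R-algebras and their
strict henselizations are taken in the universe of R.) -/
theorem result
    (R : Type u) [CommRing R] [IsNoetherianRing R]
    (hreg : ∀ (p : Ideal R) [p.IsPrime], IsRegularLocalRing (Localization.AtPrime p)) (Δ : R) :
    (∀ (p : Ideal R) [p.IsPrime], Δ ∈ p →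
        ∀ (T : Type u) [CommRing T] [IsLocalRing T] [Algebra (Localization.AtPrime p) T]
          [IsLocalHom (algebraMap (Localization.AtPrime p) T)]
          [Hensel.IsStrictHenselization (Localization.AtPrime p) T],
          Prime (algebraMap (Localization.AtPrime p) T (algebraMap R (Localization.AtPrime p) Δ))) ↔
    (∀ (R' : Type u) [CommRing R'] [Algebra R R'] [Algebra.Smooth R R'] (q : Ideal R') [q.IsPrime]
        (T : Type u) [CommRing T] [IsLocalRing T] [Algebra (Localization.AtPrime q) T]
          [IsLocalHom (algebraMap (Localization.AtPrime q) T)]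
          [Hensel.IsStrictHenselization (Localization.AtPrime q) T],
        IsUnit (algebraMap (Localization.AtPrime q) T (algebraMap R' (Localization.AtPrime q) (algebraMap R R' Δ))) ∨
          Prime (algebraMap (Localization.AtPrime q) T (algebraMap R' (Localization.AtPrime q) (algebraMap R R' Δ)))) := by
  constructor
  · intro h R' _ _ _ q _ T _ _ _ _ _
    by_cases hΔ : algebraMap R R' Δ ∈ q
    · haveI : q.LiesOver (q.comap (algebraMap R R')) := ⟨rfl⟩
      exact Or.inr (Groth.Agent.S13202.prime_of_smooth Δ (q.comap (algebraMap R R')) q hΔ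
        (fun T => h (q.comap (algebraMap R R')) hΔ T) T)
    · exact Or.inl ((IsLocalization.map_units (Localization.AtPrime q)
        (⟨algebraMap R R' Δ, hΔ⟩ : q.primeCompl)).map _)
  · intro h p _ hΔ T _ _ _ _ _
    refine (h R p T).resolve_left fun hu => ?_
    have h1 := isUnit_of_map_unit (algebraMap (Localization.AtPrime p) T) _ hu
    rw [IsLocalization.AtPrime.isUnit_to_map_iff _ p] at h1
    exact h1 hΔ

end Groth.Agent.S13202
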