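import Groth.Statements.S13203
import Groth.Agent.H28Neron.Mapping

set_option autoImplicit false
universe u
open CategoryTheory AlgebraicGeometry
open Neron

open CategoryTheory CategoryTheory.Limits AlgebraicGeometry

namespace Groth.Agent.S13203

/-- Let S be a scheme, U ⊆ S a schematically dense open subscheme and N → S a smooth S-scheme with the
Néron mapping property with respect to U: for every smooth S-scheme Y, sending an S-morphism Y → N
to its restriction Y ×_S U → N ×_S U is a bijection onto the U-morphisms. Then for every smooth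
morphism g : S' → S the base change N ×_S S' → S' (again smooth) has the Néron mapping property with
respect to g⁻¹(U): for every smooth S'-scheme Y', restriction to g⁻¹(U) is a bijection from
S'-morphisms Y' → N ×_S S' onto g⁻¹(U)-morphisms. (The published statement is for models which are
algebraic spaces, tested against smooth algebraic spaces, and also says that separatedness is
preserved; this row states the case of a smooth scheme model tested against smooth schemes.) -/
theorem result
    {S S' : Scheme.{u}} (g : S' ⟶ S) [Smooth g]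
    (U : S.Opens) (hU : CInt.IsSchematicallyDense U) (N : Over S) [Smooth N.hom]
    (hN : ∀ Y : Over S, Smooth Y.hom →
      Function.Bijective (fun f : Y ⟶ N => (Over.pullback U.ι).map f))
    (Y' : Over S') [Smooth Y'.hom] :
    Function.Bijective (fun f : Y' ⟶ (Over.pullback g).obj N => (Over.pullback (g ⁻¹ᵁ U).ι).map f) := by
  let Z : Over S := Over.mk (Y'.hom ≫ g)
  have hZ : Smooth Z.hom := by dsimp [Z]; infer_instance
  have hw : ∀ m : Y' ⟶ (Over.pullback g).obj N, (m.left ≫ pullback.fst N.hom g) ≫ N.hom = Z.hom := fun m => by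
    rw [Category.assoc, pullback.condition, ← Category.assoc]; exact congrArg (· ≫ g) (Over.w m)
  obtain ⟨c, hc⟩ : ∃ c, c ≫ (g ⁻¹ᵁ U).ι = pullback.fst Z.hom U.ι ≫ Y'.hom :=
    ⟨IsOpenImmersion.lift (g ⁻¹ᵁ U).ι (pullback.fst Z.hom U.ι ≫ Y'.hom) (by
      rw [Scheme.Opens.range_ι]; rintro _ ⟨x, rfl⟩
      change g ((pullback.fst Z.hom U.ι ≫ Y'.hom) x) ∈ U
      rw [← Scheme.Hom.comp_apply, Category.assoc]
      erw [pullback.condition (f := Z.hom)]
      exact (pullback.snd Z.hom U.ι x).2), IsOpenImmersion.lift_fac _ _ _⟩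
  obtain ⟨d, hd⟩ : ∃ d, d ≫ U.ι = (g ⁻¹ᵁ U).ι ≫ g :=
    ⟨IsOpenImmersion.lift U.ι ((g ⁻¹ᵁ U).ι ≫ g) (by
      rw [Scheme.Opens.range_ι]; rintro _ ⟨x, rfl⟩; exact x.2), IsOpenImmersion.lift_fac _ _ _⟩
  let p : pullback Z.hom U.ι ⟶ pullback Y'.hom (g ⁻¹ᵁ U).ι := pullback.lift (pullback.fst _ _) c hc.symm
  let q : pullback Y'.hom (g ⁻¹ᵁ U).ι ⟶ pullback Z.hom U.ι :=
    pullback.lift (pullback.fst _ _) (pullback.snd _ _ ≫ d) (by
      rw [Category.assoc, hd]; exact pullback.condition_assoc g)
  have hp : p ≫ pullback.fst _ _ = pullback.fst Z.hom U.ι := pullback.lift_fst _ _ _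
  have hq : q ≫ pullback.fst _ _ = pullback.fst Y'.hom (g ⁻¹ᵁ U).ι := pullback.lift_fst _ _ _
  constructor
  · refine Groth.Agent.H28Neron.injective_iff.2 fun a b hab => ?_
    have := Groth.Agent.H28Neron.injective_iff.1 (hN Z hZ).1 (Over.homMk _ (hw a)) (Over.homMk _ (hw b)) (by
      change pullback.fst Z.hom U.ι ≫ a.left ≫ pullback.fst N.hom g = pullback.fst Z.hom U.ι ≫ b.left ≫ pullback.fst N.hom g
      rw [← hp, Category.assoc, Category.assoc, reassoc_of% hab])
    ext
    exact pullback.hom_ext (congrArg (fun m => m.left) this) ((Over.w a).trans (Over.w b).symm)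
  · refine Groth.Agent.H28Neron.surjective_iff.2 fun h hh => ?_
    replace hh : h ≫ pullback.snd N.hom g = pullback.fst Y'.hom (g ⁻¹ᵁ U).ι ≫ Y'.hom := hh
    obtain ⟨m, hm⟩ := Groth.Agent.H28Neron.surjective_iff.1 (hN Z hZ).2 (p ≫ h ≫ pullback.fst N.hom g) (by
      simp only [Category.assoc]
      rw [pullback.condition, reassoc_of% hh, reassoc_of% hp]
      rfl)
    refine ⟨Over.homMk (pullback.lift m.left Y'.hom (Over.w m)) (pullback.lift_snd _ _ _), ?_⟩
    have hpq : q ≫ p = 𝟙 _ := by
      apply (cancel_mono (pullback.fst Y'.hom (g ⁻¹ᵁ U).ι)).1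
      rw [Category.assoc, hp, hq, Category.id_comp]
    refine pullback.hom_ext ?_ ?_
    · refine (Category.assoc _ _ _).trans ((congrArg (_ ≫ ·) (pullback.lift_fst _ _ _)).trans ?_)
      change pullback.fst Y'.hom (g ⁻¹ᵁ U).ι ≫ m.left = h ≫ pullback.fst N.hom g
      rw [← hq, Category.assoc, hm, ← Category.assoc q p, hpq, Category.id_comp]
    · exact (Category.assoc _ _ _).trans ((congrArg (_ ≫ ·) (pullback.lift_snd _ _ _)).trans hh.symm)

end Groth.Agent.S13203
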