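import Mathlib
import Groth.Statements.S13204
import Groth.Agent.H11Val.Dominating

set_option autoImplicit false
universe u
open Neron

namespace Groth.Agent.S13204

open Polynomial

/-- Let R be a strictly henselian Noetherian local unique factorization domain and Δ₁, Δ₂ two non-units
of R with no common prime factor. Then there are a discrete valuation ring A and an injective local
homomorphism f : R → A — so that Spec A → Spec R sends the closed point to the closed point and the
generic point to the generic point, which lies in every dense open subset — such that f(Δ₁) is a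
non-zero non-unit and f(Δ₁) = u · f(Δ₂) for some unit u of A congruent to 1 modulo the maximal
ideal. (The published statement asks for the images of Δ₁ and Δ₂ in A to be equal, with the generic
point of Spec A sent into a given dense open subset of Spec R; that cannot hold in general — for R =
ℂ[[a,b]], Δ₁ = a, Δ₂ = b and the dense open D(a − b), any local map to a discrete valuation ring
identifying a and b sends the generic point into V(a − b) — so this row asks instead for f(Δ₁) = u ·
f(Δ₂) with u a unit congruent to 1 modulo the maximal ideal.) -/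
theorem result
    (R : Type u) [CommRing R] [IsDomain R] [IsNoetherianRing R] [UniqueFactorizationMonoid R]
    [HenselianLocalRing R] [IsSepClosed (IsLocalRing.ResidueField R)]
    (Δ₁ Δ₂ : R) (h₁ : ¬ IsUnit Δ₁) (h₂ : ¬ IsUnit Δ₂) (hcop : IsRelPrime Δ₁ Δ₂) :
    ∃ (A : Type u) (_ : CommRing A) (_ : IsDomain A) (_ : IsDiscreteValuationRing A) (f : R →+* A),
      IsLocalHom f ∧ Function.Injective f ∧ ¬ IsUnit (f Δ₁) ∧
        ∃ u : Aˣ, (u : A) - 1 ∈ IsLocalRing.maximalIdeal A ∧ f Δ₁ = (u : A) * f Δ₂ := by
  classical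
  have hgcd : IsGCDMonoid R := inferInstance
  obtain ⟨_⟩ : Nonempty (NormalizedGCDMonoid R) := inferInstance
  have hΔ₂ : Δ₂ ≠ 0 := fun h => h₁ (isRelPrime_zero_right.1 (h ▸ hcop))
  have hΔ₁ : Δ₁ ≠ 0 := fun h => h₂ (isRelPrime_zero_left.1 (h ▸ hcop))
  let K := FractionRing R
  let ξ : K := algebraMap R K Δ₁ / algebraMap R K Δ₂
  have hd : algebraMap R K Δ₂ ≠ 0 := fun h => hΔ₂ (IsFractionRing.injective R K (by rw [h, map_zero]))
  have hξ : ξ * algebraMap R K Δ₂ = algebraMap R K Δ₁ := div_mul_cancel₀ _ hd
  let l : R[X] := C Δ₂ * X - C Δ₁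
  have hl : l.IsPrimitive := by
    intro r hr
    rw [C_dvd_iff_dvd_coeff] at hr
    refine hcop ?_ ?_
    · have h := hr 0
      simpa [l] using h
    · have h := hr 1
      simpa [l] using h
  let res := IsLocalRing.residue R
  let ε : R[X] →+* IsLocalRing.ResidueField R := (eval₂RingHom res 1)
  have hker : RingHom.ker (aeval (R := R) ξ).toRingHom ≤ RingHom.ker ε := by
    intro p hp
    have hroot : (p.map (algebraMap R K)).IsRoot ξ := by
      rw [IsRoot, eval_map]
      exact hp
    have hdvd : l ∣ p := by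
      refine Polynomial.IsPrimitive.dvd_of_fraction_map_dvd_fraction_map (K := K) hl ?_
      have he : l.map (algebraMap R K) = C (algebraMap R K Δ₂) * (X - C ξ) := by
        simp only [l, Polynomial.map_sub, Polynomial.map_mul, map_C, map_X, mul_sub, ← map_mul,
          mul_comm (algebraMap R K Δ₂) ξ, hξ]
      rw [he]
      exact (isUnit_C.2 hd.isUnit).mul_left_dvd.2 (dvd_iff_isRoot.2 hroot)
    obtain ⟨q, rfl⟩ := hdvd
    have h0 : ε l = 0 := by
      have h1' : res Δ₁ = 0 := (IsLocalRing.residue_eq_zero_iff _).2 h₁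
      have h2' : res Δ₂ = 0 := (IsLocalRing.residue_eq_zero_iff _).2 h₂
      simp [ε, l, h1', h2']
    rw [RingHom.mem_ker, map_mul, h0, zero_mul]
  let B := Algebra.adjoin R ({ξ} : Set K)
  have hsur : Function.Surjective (((aeval (R := R) ξ).codRestrict B fun p =>
      aeval_mem_adjoin_singleton R ξ) : R[X] →ₐ[R] B).toRingHom := by
    rintro ⟨b, hb⟩
    obtain ⟨p, rfl⟩ := (Algebra.adjoin_singleton_eq_range_aeval R ξ).le hb
    exact ⟨p, rfl⟩
  let π := (((aeval (R := R) ξ).codRestrict B fun p =>
      aeval_mem_adjoin_singleton R ξ) : R[X] →ₐ[R] B).toRingHom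
  let εB : B →+* IsLocalRing.ResidueField R := π.liftOfSurjective hsur ⟨ε, fun p hp => hker
    (congrArg Subtype.val (RingHom.mem_ker.1 hp) :)⟩
  have hεB : ∀ p, εB (π p) = ε p := fun p =>
    RingHom.liftOfRightInverse_comp_apply π _ _ _ p
  have hεR : ∀ r : R, εB (algebraMap R B r) = res r := fun r => by
    rw [show algebraMap R B r = π (C r) from Subtype.ext (aeval_C ξ r).symm, hεB]
    exact eval₂_C _ _
  have : IsNoetherianRing B := isNoetherianRing_of_surjective _ _ π hsur
  have : (RingHom.ker εB).IsPrime := RingHom.ker_isPrime εB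
  have hP : RingHom.ker εB ≠ ⊥ := by
    intro h
    have h' : algebraMap R B Δ₁ ∈ RingHom.ker εB := by
      rw [RingHom.mem_ker, hεR]
      exact (IsLocalRing.residue_eq_zero_iff _).2 h₁
    rw [h, Ideal.mem_bot] at h'
    exact hΔ₁ (IsFractionRing.injective R K (by rw [map_zero]; exact congrArg Subtype.val h'))
  obtain ⟨V, hV, hVP⟩ := Groth.Agent.H11Val.exists_dvr_center K (A := B) Subtype.val_injective ∅ (by
    rw [eq_top_iff]
    intro z _
    obtain ⟨a, b, -, rfl⟩ := IsFractionRing.div_surjective R z
    exact Subfield.div_mem _ (Subfield.subset_closure (Or.inl ⟨algebraMap R B a, rfl⟩))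
      (Subfield.subset_closure (Or.inl ⟨algebraMap R B b, rfl⟩))) (RingHom.ker εB) hP
  let f : R →+* V := (algebraMap R K).codRestrict V fun r => (hVP (algebraMap R B r)).1
  have hmem : ∀ r : R, f r ∈ IsLocalRing.maximalIdeal V ↔ r ∈ IsLocalRing.maximalIdeal R := by
    intro r
    rw [V.valuation_lt_one_iff, ← IsLocalRing.residue_eq_zero_iff, ← hεR, ← RingHom.mem_ker]
    exact (hVP (algebraMap R B r)).2.symm
  let xB : B := ⟨ξ, Algebra.self_mem_adjoin_singleton R ξ⟩
  have hx1 : εB (xB - 1) = 0 := by
    rw [show xB - 1 = π (X - 1) from Subtype.ext (by simp [π, xB]), hεB]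
    simp [ε]
  let w : V := ⟨ξ, (hVP xB).1⟩
  have hw : w - 1 ∈ IsLocalRing.maximalIdeal V := by
    rw [V.valuation_lt_one_iff]
    exact ((hVP (xB - 1)).2.1 hx1)
  obtain ⟨u, hu⟩ : IsUnit w := by
    by_contra h
    have h1m : (1 : V) ∈ IsLocalRing.maximalIdeal V := by
      have h' := Ideal.sub_mem _ (show w ∈ IsLocalRing.maximalIdeal V from h) hw
      rwa [sub_sub_cancel] at h'
    exact h1m isUnit_one
  refine ⟨V, inferInstance, inferInstance, hV, f, ⟨fun r hr => ?_⟩, fun a b h =>
    IsFractionRing.injective R K (congrArg Subtype.val h), fun h => ((hmem Δ₁).2 h₁) h, u, hu ▸ hw, ?_⟩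
  · by_contra h
    exact ((hmem r).2 h) hr
  · rw [hu]
    exact Subtype.ext hξ.symm

end Groth.Agent.S13204
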