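import Groth.Statements.S13205
import Groth.Agent.H9Tame.Regular3
-- import your own Groth.Agent.* helpers here

set_option autoImplicit false
universe u
open IsLocalRing
open SGA1

namespace Groth.Agent.S13205

open AlgebraicGeometry CategoryTheory

theorem exists_lift {A : Type u} [CommRing A] [IsDomain A] (B : Type u) [CommRing B] [IsDomain B] [Algebra A B]
    [Module.Finite A B] [Module.Free A B] {Ω : Type u} [Field Ω] [IsAlgClosed Ω] (g : A →+* Ω)
    (hg : Function.Injective g) :
    ∃ j : B →+* Ω, Function.Injective j ∧ ∀ a, j (algebraMap A B a) = g a := by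
  letI : Algebra A Ω := g.toAlgebra
  haveI : FaithfulSMul A Ω := (faithfulSMul_iff_algebraMap_injective _ _).2 hg
  let l : B →ₐ[A] Ω := IsAlgClosed.lift
  refine ⟨l.toRingHom, H9Tame.injective_of_injective (A := A) _ ?_, l.commutes⟩
  rw [AlgHom.toRingHom_eq_coe, AlgHom.comp_algebraMap]
  exact hg

/-- Let A be a strictly henselian regular local ring, f_1, …, f_r elements of the maximal ideal of A
whose images in m_A/m_A² are linearly independent (so that V(f_1 ⋯ f_r) is a strict normal crossings
divisor with complement U = D(f_1 ⋯ f_r)), and S' = Spec B → Spec A a finite locally free morphism,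
tamely ramified along the f_i and étale over U, with S' connected and regular (B an integral domain
with regular local rings). Then S' is a Kummer covering: for some integers n_i ≥ 1 prime to the
residue characteristic, B is isomorphic as an A-algebra to A[T_1, …, T_r]/(T_i^{n_i} − f_i). -/
theorem result
    (A : Type u) [CommRing A] [IsRegularLocalRing A] [IsDomain A] [HenselianLocalRing A]
    [IsSepClosed (ResidueField A)] (r : ℕ) (f : Fin r → A)
    (hm : ∀ i, f i ∈ maximalIdeal A)
    (hf : LinearIndependent (ResidueField A) (fun i => (maximalIdeal A).toCotangent ⟨f i, hm i⟩))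
    [∀ i, (Ideal.span {f i}).IsPrime]
    (B : Type u) [CommRing B] [IsDomain B] [Algebra A B] [Module.Finite A B] [Module.Free A B]
    (hreg : ∀ (q : Ideal B) [q.IsPrime], IsRegularLocalRing (Localization.AtPrime q))
    [Algebra.Etale (Localization.Away (∏ i, f i)) (TensorProduct A (Localization.Away (∏ i, f i)) B)]
    (htame : SGA1.IsTameAlong f (algebraMap A B)) :
    ∃ n : Fin r → ℕ, (∀ i, 1 ≤ n i) ∧ (∀ i, IsUnit ((n i : ℕ) : ResidueField A)) ∧
      Nonempty (B ≃ₐ[A] SGA1.kummerAlg A f n) := by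
  classical
  have hf0 := H9Tame.ne_zero_of_linearIndependent f hm hf
  let s := ∏ i, f i
  have hs0 : s ≠ 0 := Finset.prod_ne_zero_iff.mpr fun i _ => hf0 i
  haveI : IsNoetherianRing B := IsNoetherianRing.of_finite A B
  have hAB : Function.Injective (algebraMap A B) := FaithfulSMul.algebraMap_injective A B
  obtain ⟨V, β0, hβ0, hβ, hχ⟩ := H9Tame.exists_cover s B
  letI : Algebra A Γ(V.left, ⊤) := (H9Tame.coverHom V).toAlgebra
  obtain ⟨-, aC, htC, hfC, heC⟩ := H9Tame.cover_algebra V
  letI := aC
  haveI := htC; haveI := hfC; haveI := heC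
  let β : B →ₐ[A] Γ(V.left, ⊤) := { β0 with commutes' := hβ0 }
  have htame' : SGA1.IsTameAlong f (H9Tame.coverHom V) :=
    H9Tame.isTameAlong_of_finite β hβ f hs0 htame
  obtain ⟨m, hm0, hmu, hdvdm⟩ := H9Tame.exists_exponent f hm hf V htame'
  let A' := SGA1.kummerAlg A f (fun _ => m)
  haveI : IsRegularLocalRing A' := H9Et.Kummer.isRegularLocalRing f (fun _ => hm0) hm hf
  haveI : IsDomain A' := H4Depth.isDomain_of_isRegularLocalRing A'
  haveI : Module.Finite A A' := H9Et.Kummer.finite f (fun _ => hm0)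
  have hAA' : Function.Injective (algebraMap A A') :=
    H9Et.Kummer.injective_algebraMap f (n := fun _ => m) (fun _ => hm0)
  let Ω := AlgebraicClosure (FractionRing A')
  let Ψ : A' →+* Ω := (algebraMap (FractionRing A') Ω).comp (algebraMap A' (FractionRing A'))
  have hΨ : Function.Injective Ψ :=
    (algebraMap (FractionRing A') Ω).injective.comp (IsFractionRing.injective A' _)
  obtain ⟨j, hj, hjA⟩ := exists_lift (A := A) B (Ψ.comp (algebraMap A A')) (hΨ.comp hAA')
  obtain ⟨χ, hχj⟩ := hχ Ω j ((map_ne_zero_iff _ (hj : Function.Injective j)).mpr ((map_ne_zero_iff _ hAB).mpr hs0))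
  have hχA : ∀ a, χ (H9Tame.coverHom V a) = Ψ (algebraMap A A' a) := fun a => by
    rw [← hβ0, hχj, hjA]; rfl
  have hint : ∀ b : B, IsIntegral A (β b) := fun b => (IsIntegral.of_finite A b).map β
  obtain ⟨η, hη⟩ : ∃ η : B →+* A', ∀ b, Ψ (η b) = j b := by
    choose η hη using fun b => H9Tame.mem_range_of_tame f hm hf (fun _ => hm0) V htame' hdvdm Ψ hΨ χ hχA (β b) (hint b)
    have hη' : ∀ b, Ψ (η b) = j b := fun b => (hη b).trans (hχj b)
    exact ⟨{ toFun := η
             map_one' := hΨ (by rw [hη', map_one, map_one])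
             map_mul' := fun a b => hΨ (by rw [hη', map_mul, map_mul Ψ, hη', hη'])
             map_zero' := hΨ (by rw [hη', map_zero, map_zero])
             map_add' := fun a b => hΨ (by rw [hη', map_add, map_add Ψ, hη', hη']) }, hη'⟩
  letI : Algebra B A' := η.toAlgebra
  haveI : IsScalarTower A B A' := IsScalarTower.of_algebraMap_eq fun a => hΨ (by
    rw [RingHom.algebraMap_toAlgebra, hη, hjA]; rfl)
  have hηinj : Function.Injective (algebraMap B A') := fun a b h => hj (by rw [← hη, ← hη]; exact congrArg Ψ h)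
  haveI : Module.Finite B A' := Module.Finite.of_restrictScalars_finite A B A'
  haveI : IsRegularLocalRing B := H9Tame.isRegularLocalRing_of_finite (A := A) hreg
  haveI : IsLocalHom (algebraMap A B) := Algebra.IsIntegral.isLocalHom A B
  haveI : IsSepClosed (ResidueField B) := H9Tame.isSepClosed_residueField (A := A)
  haveI : HenselianLocalRing B := (H9Hens.henselian_of_isIntegral (R := A) (T := B)).1
  have hsol : ∀ i, ∃ (e : ℕ) (π y : B) (u : Bˣ), 1 ≤ e ∧ IsUnit ((e : ℕ) : ResidueField A) ∧ Prime π ∧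
      algebraMap A B (f i) = u * π ^ e ∧
      (∀ P : Ideal B, P.IsPrime → algebraMap A B (f i) ∈ P → π ∈ P) ∧ y ^ e = algebraMap A B (f i) := by
    intro i
    have ht : Prime (H9Et.Kummer.root f (fun _ => m) i) := by
      refine (Ideal.span_singleton_prime fun h0 => ?_).mp (H9Tame.isPrime_root f hm hf (fun _ => hm0) i)
      have h1 := H9Et.Kummer.root_pow (f := f) (n := fun _ => m) i
      rw [h0, zero_pow (Nat.one_le_iff_ne_zero.mp hm0)] at h1
      exact hf0 i (hAA' (h1.symm.trans (map_zero _).symm))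
    obtain ⟨π, e, u, hπ, hem, hxe, hall⟩ := H9Tame.exists_eq_unit_mul_pow_of_embedding hηinj
      ((map_ne_zero_iff _ hAB).mpr (hf0 i)) ht hm0 (H9Et.Kummer.root_pow (f := f) (n := fun _ => m) i)
    have he : 1 ≤ e := Nat.one_le_iff_ne_zero.mpr fun h0 => (IsLocalRing.mem_maximalIdeal _).mp (hm i)
      (isUnit_of_map_unit (algebraMap A B) _ (by rw [hxe, h0, pow_zero, mul_one]; exact u.isUnit))
    obtain ⟨k, hk⟩ := hem
    have heu : IsUnit ((e : ℕ) : ResidueField A) := by
      rw [hk, Nat.cast_mul] at hmu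
      exact isUnit_of_mul_isUnit_left hmu
    have heB : IsUnit (e : B) := by
      rw [← map_natCast (algebraMap A B)]
      exact (isUnit_of_map_unit (residue A) _ (by rw [map_natCast]; exact heu)).map _
    obtain ⟨w, hw⟩ := H9Tame.exists_root_unit u heB
    exact ⟨e, π, w * π, u, he, heu, hπ, hxe, hall, by rw [mul_pow, hw, hxe]⟩
  choose e π y u he heu hπ hxe hall hy using hsol
  obtain ⟨θ, hθ⟩ : ∃ θ : SGA1.kummerAlg A f e →ₐ[A] B, True :=
    ⟨Ideal.Quotient.liftₐ _ (MvPolynomial.aeval y) (by
      show Ideal.span _ ≤ RingHom.ker (MvPolynomial.aeval y)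
      rw [Ideal.span_le]
      rintro _ ⟨i, rfl⟩
      simp [hy]), trivial⟩
  haveI : IsRegularLocalRing (SGA1.kummerAlg A f e) := H9Et.Kummer.isRegularLocalRing f he hm hf
  haveI : IsDomain (SGA1.kummerAlg A f e) := H4Depth.isDomain_of_isRegularLocalRing _
  haveI : Module.Finite A (SGA1.kummerAlg A f e) := H9Et.Kummer.finite f he
  have hθinj : Function.Injective θ.toRingHom :=
    H9Tame.injective_of_injective (A := A) θ.toRingHom (by rw [AlgHom.toRingHom_eq_coe, AlgHom.comp_algebraMap]; exact hAB)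
  have hdvde : ∀ i, H9Tame.IndexDvd (Ideal.span {f i}) Γ(V.left, ⊤) (e i) := fun i =>
    H9Tame.indexDvd_of_prime β hβ f hf0 hs0 i (hπ i) (he i) (hxe i) (hall i)
  refine ⟨e, he, heu, ⟨(AlgEquiv.ofBijective θ ⟨hθinj, fun b => ?_⟩).symm⟩⟩
  obtain ⟨x, hx⟩ := H9Tame.mem_range_of_tame f hm hf he V htame' hdvde (j.comp θ.toRingHom)
    (hj.comp hθinj) χ (fun a => by rw [← hβ0, hχj]; exact congrArg j (θ.commutes a).symm) (β b) (hint b)
  exact ⟨x, hj (hx.trans (hχj b))⟩

end Groth.Agent.S13205
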