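import Groth.Statements.S13206
import Mathlib

set_option autoImplicit false
universe u
open CategoryTheory AlgebraicGeometry
open AlgGrp

namespace Groth.Agent.S13206
open Limits

/-- Fixed locus of finitely many endomorphisms over the base. -/
theorem exists_fixed {X S : Scheme.{u}} (p : X ⟶ S) [IsSeparated p] {ι' : Type u} (s : Finset ι')
    (r : ι' → (X ⟶ X)) (hr : ∀ g, r g ≫ p = p) :
    ∃ (Z : Scheme.{u}) (i : Z ⟶ X), IsClosedImmersion i ∧ (∀ g ∈ s, i ≫ r g = i) ∧
      ∀ (T : Scheme.{u}) (x : T ⟶ X), (∀ g ∈ s, x ≫ r g = x) → ∃! z : T ⟶ Z, z ≫ i = x := by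
  classical
  induction s using Finset.induction with
  | empty => exact ⟨X, 𝟙 X, inferInstance, by simp, fun T x _ => ⟨x, by simp, fun y hy => by simpa using hy⟩⟩
  | insert g s _ ih =>
    obtain ⟨Z, i, hi, hfix, huniv⟩ := ih
    let d : Z ⟶ pullback p p := pullback.lift (i ≫ r g) i (by rw [Category.assoc, hr])
    let j := pullback.fst d (pullback.diagonal p)
    haveI : IsClosedImmersion j := MorphismProperty.pullback_fst _ _ inferInstance
    haveI := hi
    have hj : j ≫ i ≫ r g = j ≫ i := by
      have h := pullback.condition (f := d) (g := pullback.diagonal p)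
      have h1 := congr($h ≫ pullback.fst p p)
      have h2 := congr($h ≫ pullback.snd p p)
      simp only [d, Category.assoc, pullback.lift_fst, pullback.diagonal_fst] at h1
      simp only [d, Category.assoc, pullback.lift_snd, pullback.diagonal_snd] at h2
      exact h1.trans h2.symm
    refine ⟨_, j ≫ i, inferInstance, ?_, ?_⟩
    · intro g' hg'
      rcases Finset.mem_insert.mp hg' with rfl | hg'
      · rw [Category.assoc, hj]
      · rw [Category.assoc, hfix g' hg']
    · intro T x hx
      obtain ⟨z, hz, hzu⟩ := huniv T x fun g' hg' => hx g' (Finset.mem_insert_of_mem hg')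
      have hw : z ≫ d = x ≫ pullback.diagonal p := by
        apply pullback.hom_ext
        · rw [Category.assoc, Category.assoc, pullback.lift_fst, pullback.diagonal_fst,
            Category.comp_id, reassoc_of% hz]
          exact hx g (Finset.mem_insert_self _ _)
        · rw [Category.assoc, Category.assoc, pullback.lift_snd, pullback.diagonal_snd,
            Category.comp_id, hz]
      refine ⟨pullback.lift z x hw, ?_, ?_⟩
      · show pullback.lift z x hw ≫ j ≫ i = x
        rw [pullback.lift_fst_assoc, hz]
      · intro y hy
        haveI : Mono (j ≫ i) := inferInstance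
        rw [← cancel_mono (j ≫ i)]
        rw [pullback.lift_fst_assoc, hz]
        exact hy


/-- Let X → S be a separated morphism of schemes and let a finite group G act on X through
S-automorphisms. Then the functor of G-fixed points is represented by a closed subscheme of X: there
are a scheme Z and a closed immersion i : Z → X with i ∘ g = i for all g ∈ G such that every
morphism x : T → X with g ∘ x = x for all g ∈ G factors uniquely through i. (The published statement
is for an algebraic space X over S, also treats the locally separated case and notes compatibility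
with base change; this row is the separated case for schemes.) -/
theorem result
    {X S : Scheme.{u}} (p : X ⟶ S) [IsSeparated p]
    (G : Type u) [Group G] [Finite G] (ρ : G →* Aut X) (hρ : ∀ g : G, (ρ g).hom ≫ p = p) :
    ∃ (Z : Scheme.{u}) (i : Z ⟶ X), IsClosedImmersion i ∧ (∀ g : G, i ≫ (ρ g).hom = i) ∧
      ∀ (T : Scheme.{u}) (x : T ⟶ X), (∀ g : G, x ≫ (ρ g).hom = x) → ∃! z : T ⟶ Z, z ≫ i = x := by
  classical
  haveI := Fintype.ofFinite G
  obtain ⟨Z, i, hi, hfix, huniv⟩ := exists_fixed p Finset.univ (fun g : G => (ρ g).hom) hρ
  exact ⟨Z, i, hi, fun g => hfix g (Finset.mem_univ g),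
    fun T x hx => huniv T x fun g _ => hx g⟩

end Groth.Agent.S13206
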