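import Groth.Statements.S13207
import Groth.Agent.H13NeronLoc.Sigma
-- import your own Groth.Agent.* helpers here

set_option autoImplicit false
set_option backward.isDefEq.respectTransparency false
universe u
open CategoryTheory CategoryTheory.Limits AlgebraicGeometry
open Neron

namespace Groth.Agent.S13207

/-- Let (S_i)_{i ∈ I} be a family of schemes, (N_i → S_i)_{i ∈ I} morphisms of schemes, S = ∐ S_i and N
= ∐ N_i with the induced morphism N → S, and U ⊆ S a schematically dense open subscheme with
preimages U_i ⊆ S_i. Then N → S is smooth with the Néron mapping property with respect to U — for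
every smooth S-scheme Y, restriction to U is a bijection from S-morphisms Y → N onto U-morphisms Y
×_S U → N ×_S U — if and only if every N_i → S_i is smooth with the Néron mapping property with
respect to U_i. (The published statement is for algebraic spaces N_i tested against smooth algebraic
spaces, and has the same form for separated models; this row is the not-necessarily-separated case
for schemes tested against smooth schemes.) -/
theorem result
    {I : Type u} (B N : I → Scheme.{u}) (f : ∀ i, N i ⟶ B i)
    (U : (∐ B).Opens) (hU : CInt.IsSchematicallyDense U) :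
    (Smooth (Limits.Sigma.map f) ∧ ∀ Y : Over (∐ B), Smooth Y.hom →
        Function.Bijective (fun g : Y ⟶ Over.mk (Limits.Sigma.map f) => (Over.pullback U.ι).map g)) ↔
    ∀ i, Smooth (f i) ∧ ∀ Y : Over (B i), Smooth Y.hom →
        Function.Bijective (fun g : Y ⟶ Over.mk (f i) => (Over.pullback ((Limits.Sigma.ι B i) ⁻¹ᵁ U).ι).map g) := by
  rw [Groth.Agent.H13NeronLoc.smooth_sigmaMap_iff]
  have h1 := Groth.Agent.H13NeronLoc.mapProp_iff U (Over.mk (Limits.Sigma.map f))
  have h2 := fun i => Groth.Agent.H13NeronLoc.mapProp_iff (Limits.Sigma.ι B i ⁻¹ᵁ U) (Over.mk (f i))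
  have h3 := Groth.Agent.H13NeronLoc.mapProp_sigma_iff f U
  constructor
  · rintro ⟨hs, hm⟩ i
    exact ⟨hs i, (h2 i).2 (h3.1 (h1.1 hm) i)⟩
  · intro h
    exact ⟨fun i => (h i).1, h1.2 (h3.2 fun i => (h2 i).1 (h i).2)⟩

end Groth.Agent.S13207
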