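import Groth.Statements.S19894
import Groth.Agent.H9Popescu.PowerSeriesEval
import Groth.Agent.H9Popescu.Approximation
import Groth.Agent.S0600
import Mathlib.RingTheory.EssentialFiniteness
import Mathlib.RingTheory.AdicCompletion.LocalRing
-- import your own Groth.Agent.* helpers here

set_option autoImplicit false
universe u
open IsLocalRing
open Hensel

namespace Groth.Agent.S19894

open MvPowerSeries IsLocalRing in
/-- Let R be a strictly henselian (henselian with separably closed residue field) excellent Noetherian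
local domain which is a unique factorization domain and whose completion R^ at the maximal ideal is
also a unique factorization domain; let Δ ≠ 0 and t₁, t₂ be elements of the maximal ideal of R with
t₁ t₂ = Δ, and let C be a local R-algebra, essentially of finite type over R with local structure
map, given with a ring isomorphism ψ from the completion C^ of C onto R^[[u,v]]/(uv − Δ) compatible
with the structure maps from R. Then there are an R-algebra homomorphism g : C → R and a ring
homomorphism ĝ : C^ → R^ inducing g (ĝ restricted to C is g followed by R → R^) such that ĝ(ψ⁻¹(u))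
generates the ideal t₁R^ and ĝ(ψ⁻¹(v)) generates t₂R^. (This is the local-ring form of the statement
that, for a base scheme S with étale local ring R at a geometric point s̄, an S-scheme X of finite
presentation and a closed point x of the geometric fibre whose completed étale local ring is
presented as R^[[u,v]]/(uv − Δ), some étale neighbourhood of s̄ carries a section of X through x
sending u, v to generators of (t₁), (t₂); the retraction g of the local ring C of X ×_S Spec R at x
is such a section by finite presentation. The source assumes S excellent and smooth-factorial and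
takes R^ to be factorial; here the properties of R that the argument uses are assumed directly, so
that the statement covers in particular every strictly henselian excellent regular local ring. The
published statement allows Δ = 0; this one assumes Δ ≠ 0.) -/
theorem result
    (R : Type u) [CommRing R] [IsNoetherianRing R] [IsDomain R] [UniqueFactorizationMonoid R] [HenselianLocalRing R]
    [IsSepClosed (ResidueField R)] (hR : EGA4.IsExcellent R)
    [IsDomain (AdicCompletion (maximalIdeal R) R)] [UniqueFactorizationMonoid (AdicCompletion (maximalIdeal R) R)]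
    (Δ t₁ t₂ : R) (hΔ : Δ ≠ 0) (ht₁ : t₁ ∈ maximalIdeal R) (ht₂ : t₂ ∈ maximalIdeal R) (ht : t₁ * t₂ = Δ)
    (C : Type u) [CommRing C] [IsLocalRing C] [Algebra R C] [IsLocalHom (algebraMap R C)]
    [Algebra.EssFiniteType R C]
    (ψ : AdicCompletion (maximalIdeal C) C ≃+*
      (MvPowerSeries (Fin 2) (AdicCompletion (maximalIdeal R) R) ⧸
        Ideal.span {(X 0 * X 1 - MvPowerSeries.C (algebraMap R (AdicCompletion (maximalIdeal R) R) Δ) :
          MvPowerSeries (Fin 2) (AdicCompletion (maximalIdeal R) R))}))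
    (hψ : ψ.toRingHom.comp ((algebraMap C (AdicCompletion (maximalIdeal C) C)).comp (algebraMap R C)) =
      (Ideal.Quotient.mk _).comp ((MvPowerSeries.C : AdicCompletion (maximalIdeal R) R →+*
        MvPowerSeries (Fin 2) (AdicCompletion (maximalIdeal R) R)).comp
          (algebraMap R (AdicCompletion (maximalIdeal R) R)))) :
    ∃ (g : C →ₐ[R] R) (ĝ : AdicCompletion (maximalIdeal C) C →+* AdicCompletion (maximalIdeal R) R),
      ĝ.comp (algebraMap C (AdicCompletion (maximalIdeal C) C)) =
        (algebraMap R (AdicCompletion (maximalIdeal R) R)).comp g.toRingHom ∧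
      Ideal.span {ĝ (ψ.symm (Ideal.Quotient.mk _ (X 0)))} =
        Ideal.span {algebraMap R (AdicCompletion (maximalIdeal R) R) t₁} ∧
      Ideal.span {ĝ (ψ.symm (Ideal.Quotient.mk _ (X 1)))} =
        Ideal.span {algebraMap R (AdicCompletion (maximalIdeal R) R) t₂} := by
  classical
  haveI : IsNoetherianRing C := Algebra.EssFiniteType.isNoetherianRing R C
  have hmR : maximalIdeal (AdicCompletion (maximalIdeal R) R) = (maximalIdeal R).map (algebraMap R (AdicCompletion (maximalIdeal R) R)) :=
    AdicCompletion.maximalIdeal_eq_map_of_fg (IsNoetherian.noetherian _)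
  have hmC : maximalIdeal (AdicCompletion (maximalIdeal C) C) = (maximalIdeal C).map (algebraMap C (AdicCompletion (maximalIdeal C) C)) :=
    AdicCompletion.maximalIdeal_eq_map_of_fg (IsNoetherian.noetherian _)
  haveI : IsNoetherianRing (AdicCompletion (maximalIdeal R) R) := Groth.Agent.H05EGA4.isNoetherianRing_adicCompletion R _
  haveI : IsAdicComplete (maximalIdeal (AdicCompletion (maximalIdeal R) R)) (AdicCompletion (maximalIdeal R) R) :=
    hmR ▸ AdicCompletion.isAdicComplete_self _ (IsNoetherian.noetherian _)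
  set T₁ := algebraMap R (AdicCompletion (maximalIdeal R) R) t₁ with hT₁
  set T₂ := algebraMap R (AdicCompletion (maximalIdeal R) R) t₂ with hT₂
  have hT : T₁ * T₂ = algebraMap R (AdicCompletion (maximalIdeal R) R) Δ := by rw [hT₁, hT₂, ← map_mul, ht]
  have hΔ' : algebraMap R (AdicCompletion (maximalIdeal R) R) Δ ≠ 0 := fun h => hΔ
    ((AdicCompletion.of_injective (maximalIdeal R) R) (h.trans (map_zero _).symm))
  obtain ⟨e, heX, heC⟩ := Groth.Agent.H9Popescu.exists_eval_powerSeries (maximalIdeal (AdicCompletion (maximalIdeal R) R)) (σ := Fin 2) ![T₁, T₂]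
    (fun i => by
      rw [hmR]
      fin_cases i
      · exact Ideal.mem_map_of_mem _ ht₁
      · exact Ideal.mem_map_of_mem _ ht₂)
  let ε : _ →+* (AdicCompletion (maximalIdeal R) R) := Ideal.Quotient.lift (Ideal.span {(X 0 * X 1 - MvPowerSeries.C (algebraMap R (AdicCompletion (maximalIdeal R) R) Δ) :
      MvPowerSeries (Fin 2) (AdicCompletion (maximalIdeal R) R))}) e fun z hz => by
    refine (Ideal.span_le.2 ?_ : _ ≤ RingHom.ker e) hz
    rintro _ rfl
    simp [RingHom.mem_ker, heX, heC, ← hT]
  let g₀ : (AdicCompletion (maximalIdeal C) C) →+* (AdicCompletion (maximalIdeal R) R) := ε.comp ψ.toRingHom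
  have hg₀ : Function.Surjective g₀ := fun s =>
    ⟨ψ.symm (Ideal.Quotient.mk _ (MvPowerSeries.C s)), by simp [g₀, ε, heC]⟩
  haveI : IsLocalHom g₀ := IsLocalHom.of_surjective g₀ hg₀
  have hg₀R : ∀ r : R, g₀ (algebraMap C (AdicCompletion (maximalIdeal C) C) (algebraMap R C r)) = algebraMap R (AdicCompletion (maximalIdeal R) R) r := fun r => by
    show ε ((ψ.toRingHom.comp ((algebraMap C (AdicCompletion (maximalIdeal C) C)).comp (algebraMap R C))) r) = _
    rw [hψ]
    exact heC _
  let gC : C →ₐ[R] (AdicCompletion (maximalIdeal R) R) := { g₀.comp (algebraMap C (AdicCompletion (maximalIdeal C) C)) with commutes' := hg₀R }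
  obtain ⟨N₁, hN₁⟩ := Groth.Agent.H9Popescu.exists_pow_forall_dvd hΔ' T₁
  obtain ⟨N₂, hN₂⟩ := Groth.Agent.H9Popescu.exists_pow_forall_dvd hΔ' T₂
  set N := max N₁ N₂ + 1 with hN
  haveI : Algebra.FinitePresentation R (Algebra.EssFiniteType.subalgebra R C) :=
    Algebra.FinitePresentation.of_finiteType.mp inferInstance
  obtain ⟨g', hg'⟩ := Groth.Agent.H9Popescu.exists_approximation (maximalIdeal R)
    (Groth.Agent.S0600.result R hR.2.2.1 _) (gC.comp (Algebra.EssFiniteType.subalgebra R C).val) N
  haveI : Nontrivial (R ⧸ maximalIdeal R ^ N) := Ideal.Quotient.nontrivial_iff.2 fun h =>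
    (IsLocalRing.maximalIdeal.isMaximal R).ne_top (top_le_iff.1 (h ▸ Ideal.pow_le_self (Nat.succ_ne_zero _)))
  haveI : IsLocalHom (Ideal.Quotient.mk (maximalIdeal R ^ N)) := IsLocalHom.of_surjective _ Ideal.Quotient.mk_surjective
  have hu : ∀ s : Algebra.EssFiniteType.submonoid R C, IsUnit (g' s) := fun s => by
    refine (isUnit_map_iff (Ideal.Quotient.mk (maximalIdeal R ^ N)) _).1 ?_
    rw [← hg']
    exact ((IsLocalization.map_units C s).map gC).map _
  let g : C →ₐ[R] R := IsLocalization.liftAlgHom (M := Algebra.EssFiniteType.submonoid R C) hu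
  have hagree : ∀ c, AdicCompletion.evalₐ (maximalIdeal R) N (gC c) = Ideal.Quotient.mk _ (g c) := by
    have : (AdicCompletion.evalₐ (maximalIdeal R) N).toRingHom.comp gC.toRingHom =
        (Ideal.Quotient.mk (maximalIdeal R ^ N)).comp (g : C →+* R) := by
      refine IsLocalization.ringHom_ext (Algebra.EssFiniteType.submonoid R C) (RingHom.ext fun b => ?_)
      refine (hg' b).trans (congrArg _ ?_)
      show g' b = IsLocalization.lift hu (algebraMap _ C b)
      exact (IsLocalization.lift_eq hu b).symm
    exact fun c => RingHom.congr_fun this c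
  have hgloc : ∀ n : ℕ, maximalIdeal C ^ n ≤ (maximalIdeal R ^ n).comap (g : C →+* R) := fun n => by
    rw [← Ideal.map_le_iff_le_comap, Ideal.map_pow]
    refine Ideal.pow_right_mono (Ideal.map_le_iff_le_comap.2 fun c hc => ?_) n
    by_contra h
    have h1 : IsUnit (g c) := IsLocalRing.notMem_maximalIdeal.1 h
    have h2 : IsUnit (AdicCompletion.evalₐ (maximalIdeal R) N (gC c)) := (hagree c).symm ▸ h1.map _
    haveI : IsLocalHom (AdicCompletion.evalₐ (maximalIdeal R) N).toRingHom :=
      IsLocalHom.of_surjective _ (AdicCompletion.surjective_evalₐ _ N)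
    have h3 : IsUnit (gC c) := (isUnit_map_iff (AdicCompletion.evalₐ (maximalIdeal R) N).toRingHom _).1 h2
    have h4 : IsUnit (algebraMap C (AdicCompletion (maximalIdeal C) C) c) := (isUnit_map_iff g₀ _).1 h3
    have h5 : algebraMap C (AdicCompletion (maximalIdeal C) C) c ∈ maximalIdeal (AdicCompletion (maximalIdeal C) C) := hmC ▸ Ideal.mem_map_of_mem _ hc
    exact h5 h4
  let F : (n : ℕ) → (AdicCompletion (maximalIdeal C) C) →+* R ⧸ maximalIdeal R ^ n := fun n =>
    (Ideal.quotientMap (maximalIdeal R ^ n) (g : C →+* R) (hgloc n)).comp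
      (AdicCompletion.evalₐ (maximalIdeal C) n).toRingHom
  have hF : ∀ {m n : ℕ} (hle : m ≤ n), (Ideal.Quotient.factorPow (maximalIdeal R) hle).comp (F n) = F m := by
    intro m n hle
    refine RingHom.ext fun z => ?_
    obtain ⟨x, rfl⟩ := AdicCompletion.mk_surjective (maximalIdeal C) C z
    simp only [F, RingHom.comp_apply, AlgHom.toRingHom_eq_coe, RingHom.coe_coe,
      AdicCompletion.evalₐ_mk, Ideal.quotientMap_mk, Ideal.Quotient.factorPow, Ideal.Quotient.factor_mk]
    rw [Ideal.Quotient.eq, ← map_sub]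
    exact hgloc m (Ideal.Quotient.eq.mp (AdicCompletion.Ideal.mk_eq_mk _ hle x))
  let ĝ : (AdicCompletion (maximalIdeal C) C) →+* (AdicCompletion (maximalIdeal R) R) := AdicCompletion.liftRingHom (maximalIdeal R) F hF
  have hĝ : ∀ n z, AdicCompletion.evalₐ (maximalIdeal R) n (ĝ z) = F n z := fun n z =>
    AdicCompletion.evalₐ_liftRingHom _ _ hF n z
  have hclose : ∀ z, g₀ z - ĝ z ∈ maximalIdeal (AdicCompletion (maximalIdeal R) R) ^ N := fun z => by
    obtain ⟨c, hc⟩ := Ideal.Quotient.mk_surjective (AdicCompletion.evalₐ (maximalIdeal C) N z)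
    have h1 : z - algebraMap C (AdicCompletion (maximalIdeal C) C) c ∈ maximalIdeal (AdicCompletion (maximalIdeal C) C) ^ N := by
      rw [hmC]
      refine (Groth.Agent.H05EGA4.AdicLim.ker_evalₐ (IsNoetherian.noetherian _) N _).mp ?_
      rw [map_sub, Groth.Agent.H05EGA4.AdicLim.evalₐ_algebraMap, hc, sub_self]
    have h2 : g₀ (z - algebraMap C (AdicCompletion (maximalIdeal C) C) c) ∈ maximalIdeal (AdicCompletion (maximalIdeal R) R) ^ N := by
      have := Ideal.mem_map_of_mem g₀ h1
      rw [Ideal.map_pow] at this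
      exact Ideal.pow_right_mono (((IsLocalRing.local_hom_TFAE g₀).out 0 2).mp ‹IsLocalHom g₀›) N this
    rw [hmR] at h2 ⊢
    refine (Groth.Agent.H05EGA4.AdicLim.ker_evalₐ (IsNoetherian.noetherian _) N _).mp ?_
    have h3 := (Groth.Agent.H05EGA4.AdicLim.ker_evalₐ (IsNoetherian.noetherian _) N _).mpr h2
    rw [map_sub, map_sub] at h3
    rw [map_sub, hĝ, sub_eq_zero.1 h3]
    show AdicCompletion.evalₐ _ N (gC c) - _ = 0
    rw [hagree]
    simp only [F, RingHom.comp_apply, AlgHom.toRingHom_eq_coe, RingHom.coe_coe, ← hc, Ideal.quotientMap_mk, sub_self]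
  refine ⟨g, ĝ, RingHom.ext fun c => AdicCompletion.ext_evalₐ fun n => ?_, ?_⟩
  · simp only [RingHom.comp_apply, hĝ, F, AlgHom.toRingHom_eq_coe, RingHom.coe_coe,
      Groth.Agent.H05EGA4.AdicLim.evalₐ_algebraMap, Ideal.quotientMap_mk]
  set a := ĝ (ψ.symm (Ideal.Quotient.mk _ (X 0))) with ha
  set b := ĝ (ψ.symm (Ideal.Quotient.mk _ (X 1))) with hb
  have hab : a * b = T₁ * T₂ := by
    rw [ha, hb, ← map_mul, ← map_mul, ← map_mul, hT]
    have h1 : Ideal.Quotient.mk (Ideal.span {(X 0 * X 1 - MvPowerSeries.C (algebraMap R (AdicCompletion (maximalIdeal R) R) Δ) :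
        MvPowerSeries (Fin 2) (AdicCompletion (maximalIdeal R) R))}) (X 0 * X 1) = Ideal.Quotient.mk _ (MvPowerSeries.C (algebraMap R (AdicCompletion (maximalIdeal R) R) Δ)) :=
      Ideal.Quotient.eq.2 (Ideal.mem_span_singleton_self _)
    rw [h1]
    have h2 : ψ.symm (Ideal.Quotient.mk _ (MvPowerSeries.C (algebraMap R (AdicCompletion (maximalIdeal R) R) Δ))) = algebraMap C (AdicCompletion (maximalIdeal C) C) (algebraMap R C Δ) := by
      rw [RingEquiv.symm_apply_eq]
      exact (RingHom.congr_fun hψ Δ).symm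
    rw [h2]
    refine AdicCompletion.ext_evalₐ fun n => ?_
    simp only [hĝ, F, RingHom.comp_apply, AlgHom.toRingHom_eq_coe, RingHom.coe_coe,
      Groth.Agent.H05EGA4.AdicLim.evalₐ_algebraMap, Ideal.quotientMap_mk, AlgHom.commutes, Algebra.algebraMap_self,
      RingHom.id_apply, Ideal.Quotient.algebraMap_eq]
  have hga : g₀ (ψ.symm (Ideal.Quotient.mk _ (X 0))) = T₁ := by simp [g₀, ε, heX]
  have hgb : g₀ (ψ.symm (Ideal.Quotient.mk _ (X 1))) = T₂ := by simp [g₀, ε, heX]
  have hda : a ∣ T₁ := hN₁ a ⟨b, by rw [hab, hT]⟩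
    (Ideal.pow_le_pow_right (show _ ≤ N by omega) (by rw [← hga, ← neg_sub]; exact neg_mem (hclose _)))
  have hdb : b ∣ T₂ := hN₂ b ⟨a, by rw [mul_comm b, hab, hT]⟩
    (Ideal.pow_le_pow_right (show _ ≤ N by omega) (by rw [← hgb, ← neg_sub]; exact neg_mem (hclose _)))
  obtain ⟨x, hx⟩ := hda
  obtain ⟨y, hy⟩ := hdb
  have hxy : x * y = 1 := by
    refine mul_left_cancel₀ (show a * b ≠ 0 by rw [hab, hT]; exact hΔ') ?_
    rw [mul_one]
    conv_rhs => rw [hab, hx, hy]
    ring
  exact ⟨Ideal.span_singleton_eq_span_singleton.2 ⟨(IsUnit.of_mul_eq_one _ hxy).unit, hx.symm⟩,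
    Ideal.span_singleton_eq_span_singleton.2 ⟨(IsUnit.of_mul_eq_one _ (mul_comm x y ▸ hxy : y * x = 1)).unit, hy.symm⟩⟩

end Groth.Agent.S19894
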