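import Groth.Statements.S13209
import Groth.Agent.H12AlgSp.Presentation

set_option autoImplicit false
set_option linter.style.haveILetI false
universe u
open CategoryTheory CategoryTheory.Limits AlgebraicGeometry
open Neron

namespace Groth.Agent.S13209

/-- Let S be a scheme, U ⊆ S a schematically dense open subscheme and N → S a smooth S-scheme with the
Néron mapping property for schemes with respect to U: for every smooth S-scheme Y, composition with
the projection Y ×_S U → Y is a bijection from S-morphisms Y → N onto S-morphisms Y ×_S U → N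
(equivalently, onto U-morphisms Y ×_S U → N ×_S U). Then N also has the Néron mapping property with
respect to smooth algebraic spaces: for every algebraic space F over S (an fppf sheaf of sets on
S-schemes with representable diagonal and an étale surjective chart from a scheme) whose structure
map to h_S is smooth, composition with the first projection F × h_U → F is a bijection from
morphisms of sheaves F → h_N onto morphisms F × h_U → h_N. -/
theorem result
    {S : Scheme.{u}} (U : S.Opens) (hU : CInt.IsSchematicallyDense U) (N : Over S) [Smooth N.hom]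
    (hN : ∀ Y : Over S, Smooth Y.hom →
      Function.Bijective (fun g : Y ⟶ N => (Over.mapPullbackAdj U.ι).counit.app Y ≫ g))
    (F : AlgSp.Sp S) (hF : AlgSp.IsAlgSpace F)
    (sF : F ⟶ (AlgSp.yon S).obj (Over.mk (𝟙 S))) (hsm : AlgSp.LocP @Smooth sF) :
    Function.Bijective (fun φ : F ⟶ (AlgSp.yon S).obj N =>
      (Limits.prod.fst : F ⨯ (AlgSp.yon S).obj (Over.mk U.ι) ⟶ F) ≫ φ) := by
  obtain ⟨W, p, hpe, hps⟩ := hF.atlas
  haveI : Epi p := H12AlgSp.epi_of_etale_surjective hpe hps
  -- the chart is smooth over `S`
  have hW : Smooth W.hom := by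
    obtain ⟨h, hh⟩ := (AlgSp.yon S).map_surjective (p ≫ sF)
    have h1 := hsm p (𝟙 _) h hpe (by rw [← (AlgSp.yon S).map_id]; exact (AlgSp.repWith_yon_map_iff _ _).2 (by dsimp; infer_instance)) (by rw [hh, Category.comp_id])
    have h2 : h.left ≫ 𝟙 S = W.hom := Over.w h
    rw [← h2]
    exact (Category.comp_id h.left).symm ▸ h1
  -- the part of a scheme over `S` lying over the open
  let res : ∀ Y : Over S, (Over.map U.ι).obj ((Over.pullback U.ι).obj Y) ⟶ Over.mk U.ι := fun Y =>
    Over.homMk (pullback.snd Y.hom U.ι) rfl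
  let c := fun Y : Over S => (Over.mapPullbackAdj U.ι).counit.app Y
  have hc : ∀ Y : Over S, (c Y).left = pullback.fst Y.hom U.ι := fun Y => by simp [c]
  let lft : ∀ {Y : Over S}, ((AlgSp.yon S).obj Y ⟶ F) →
      ((AlgSp.yon S).obj ((Over.map U.ι).obj ((Over.pullback U.ι).obj Y)) ⟶ F ⨯ (AlgSp.yon S).obj (Over.mk U.ι)) :=
    fun {Y} y => prod.lift ((AlgSp.yon S).map (c Y) ≫ y) ((AlgSp.yon S).map (res Y))
  constructor
  · intro φ φ' hφ
    obtain ⟨a, ha⟩ := (AlgSp.yon S).map_surjective (p ≫ φ)
    obtain ⟨a', ha'⟩ := (AlgSp.yon S).map_surjective (p ≫ φ')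
    rw [← cancel_epi p, ← ha, ← ha']
    congr 1
    refine (hN W hW).injective ((AlgSp.yon S).map_injective ?_)
    have := congrArg (lft p ≫ ·) hφ
    simp only [lft, prod.lift_fst_assoc, Category.assoc] at this
    rw [Functor.map_comp, Functor.map_comp, ha, ha']
    exact this
  · intro ψ
    obtain ⟨a₀, ha₀⟩ := (AlgSp.yon S).map_surjective (lft p ≫ ψ)
    obtain ⟨a, ha⟩ := (hN W hW).surjective a₀
    obtain ⟨R, s, t', sq⟩ := hpe.rep p
    obtain ⟨t, rfl⟩ := (AlgSp.yon S).map_surjective t'
    have hR : Smooth R.hom := by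
      have hs : Etale s.left := hpe.property p _ s sq
      rw [← Over.w s]
      infer_instance
    have hts : t ≫ a = s ≫ a := by
      refine (hN R hR).injective ((AlgSp.yon S).map_injective ?_)
      have key : ∀ r : R ⟶ W, (AlgSp.yon S).map (c R ≫ r ≫ a) = lft ((AlgSp.yon S).map r ≫ p) ≫ ψ := by
        intro r
        have e1 : c R ≫ r = (Over.map U.ι).map ((Over.pullback U.ι).map r) ≫ c W :=
          ((Over.mapPullbackAdj U.ι).counit.naturality r).symm
        have e2 : (Over.map U.ι).map ((Over.pullback U.ι).map r) ≫ res W = res R :=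
          Over.OverMorphism.ext (pullback.lift_snd _ _ _)
        rw [reassoc_of% e1, show c W ≫ a = a₀ from ha, Functor.map_comp, ha₀, ← Category.assoc]
        congr 1
        apply prod.hom_ext
        · simp only [lft, Category.assoc, prod.lift_fst]
          rw [← Functor.map_comp_assoc, ← Functor.map_comp_assoc, e1]
        · simp only [lft, Category.assoc, prod.lift_snd]
          rw [← Functor.map_comp, e2]
      rw [key t, key s, sq.w]
    obtain ⟨hcol⟩ := H12AlgSp.nonempty_isColimit_of_atlas hpe hps sq
    let φ : F ⟶ (AlgSp.yon S).obj N := Cofork.IsColimit.desc hcol ((AlgSp.yon S).map a)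
      (by rw [← Functor.map_comp, hts, Functor.map_comp])
    have hφ : p ≫ φ = (AlgSp.yon S).map a := Cofork.IsColimit.π_desc' hcol _ _
    refine ⟨φ, ?_⟩
    let P := pullback p (prod.fst : F ⨯ (AlgSp.yon S).obj (Over.mk U.ι) ⟶ F)
    let q : P ⟶ F ⨯ (AlgSp.yon S).obj (Over.mk U.ι) := pullback.snd _ _
    have hsqP := IsPullback.of_hasPullback p (prod.fst : F ⨯ (AlgSp.yon S).obj (Over.mk U.ι) ⟶ F)
    haveI : Epi q := H12AlgSp.epi_of_etale_surjective
      (H12AlgSp.repWith_of_isPullback hsqP hpe) (H12AlgSp.repWith_of_isPullback hsqP hps)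
    show prod.fst ≫ φ = ψ
    rw [← cancel_epi q]
    refine H12AlgSp.hom_ext_yon fun T z => ?_
    obtain ⟨x, hx⟩ := (AlgSp.yon S).map_surjective (z ≫ pullback.fst _ _)
    obtain ⟨y, hy⟩ := (AlgSp.yon S).map_surjective (z ≫ q ≫ prod.snd)
    let l : T ⟶ (Over.map U.ι).obj ((Over.pullback U.ι).obj W) :=
      Over.homMk (pullback.lift x.left y.left ((Over.w x).trans (Over.w y).symm))
        ((pullback.lift_snd_assoc _ _ _ _).trans (Over.w y))
    have hl1 : l ≫ c W = x := Over.OverMorphism.ext (by rw [Over.comp_left, hc]; exact pullback.lift_fst _ _ _)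
    have hl2 : l ≫ res W = y := Over.OverMorphism.ext (pullback.lift_snd _ _ _)
    have hz : z ≫ q = (AlgSp.yon S).map l ≫ lft p := by
      apply prod.hom_ext
      · simp only [lft, Category.assoc, prod.lift_fst]
        rw [← pullback.condition, ← Category.assoc, ← hx, ← Functor.map_comp_assoc, hl1]
      · simp only [lft, Category.assoc, prod.lift_snd]
        rw [← Functor.map_comp, hl2, hy]
    rw [← Category.assoc, ← Category.assoc (f := z), hz, Category.assoc]
    simp only [Category.assoc, lft, prod.lift_fst_assoc]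
    rw [hφ, ← Functor.map_comp, ← Functor.map_comp, show c W ≫ a = a₀ from ha, Functor.map_comp, ha₀]

end Groth.Agent.S13209
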