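import Groth.Statements.S13210
import Groth.Agent.H12AlgSp.Sep
import Groth.Agent.H12AlgSp.Basic
-- import your own Groth.Agent.* helpers here

set_option autoImplicit false
set_option backward.isDefEq.respectTransparency false
universe u
open CategoryTheory CategoryTheory.Limits AlgebraicGeometry
open AlgGrp

namespace Groth.Agent.S13210

/-- Let S be a scheme, F an algebraic space over S which is separated over S, and G a finite group
acting on F by S-automorphisms. If i : Z → F exhibits the fppf sheaf Z as the sub-sheaf of G-fixed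
points of F (i is G-invariant and every G-invariant morphism W → F factors uniquely through i), then
Z is an algebraic space and i is a closed immersion (representable by closed immersions). (The
published statement also treats a locally separated F, whose fixed points form a subspace, and
compatibility with base change; this row states only the separated case.) -/
theorem result
    {S : Scheme.{u}} (F : AlgSp.Sp S) (hF : AlgSp.IsAlgSpace F) (hsep : AlgSp.IsSeparatedSp F)
    (G : Type u) [Group G] [Finite G] (ρ : G →* Aut F)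
    (Z : AlgSp.Sp S) (i : Z ⟶ F) (hi : ∀ g : G, i ≫ (ρ g).hom = i)
    (huniv : ∀ (W : AlgSp.Sp S) (x : W ⟶ F), (∀ g : G, x ≫ (ρ g).hom = x) → ∃! z : W ⟶ Z, z ≫ i = x) :
    AlgSp.IsAlgSpace Z ∧ AlgSp.RepWith @IsClosedImmersion i := by
  classical
  haveI := Fintype.ofFinite G
  suffices h : ∀ s : Finset G, ∃ (E : AlgSp.Sp S) (e : E ⟶ F), AlgSp.RepWith @IsClosedImmersion e ∧ Mono e ∧
      (∀ g ∈ s, e ≫ (ρ g).hom = e) ∧
      ∀ (W : AlgSp.Sp S) (x : W ⟶ F), (∀ g ∈ s, x ≫ (ρ g).hom = x) → ∃ z : W ⟶ E, z ≫ e = x by
    obtain ⟨E, e, he, hm, hinv, hlift⟩ := h Finset.univ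
    obtain ⟨a, ha⟩ := hlift Z i (fun g _ => hi g)
    obtain ⟨b, hb, -⟩ := huniv E e (fun g => hinv g (Finset.mem_univ g))
    have hab : b ≫ a = 𝟙 E := (cancel_mono e).1 (by rw [Category.assoc, ha, hb, Category.id_comp])
    obtain ⟨z, -, hz⟩ := huniv Z i hi
    have hba : a ≫ b = 𝟙 Z := (hz (a ≫ b) (by show (a ≫ b) ≫ i = i; rw [Category.assoc, hb, ha])).trans (hz _ (Category.id_comp i)).symm
    haveI : IsIso a := ⟨b, hba, hab⟩
    have hic : AlgSp.RepWith @IsClosedImmersion i := by
      rw [← ha]
      exact MorphismProperty.RespectsIso.precomp _ a _ he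
    exact ⟨Groth.Agent.H12AlgSp.isAlgSpace_of_representable i hic.rep hF, hic⟩
  intro s
  induction s using Finset.induction with
  | empty =>
    refine ⟨F, 𝟙 F, ?_, inferInstance, fun g hg => absurd hg (Finset.notMem_empty g), fun W x _ => ⟨x, Category.comp_id x⟩⟩
    haveI : MorphismProperty.ContainsIdentities (@IsClosedImmersion : MorphismProperty Scheme.{u}) := ⟨fun _ => inferInstance⟩
    exact Groth.Agent.H12AlgSp.repWith_of_isIso _
  | insert g s hg ih =>
    obtain ⟨E, e, he, hm, hinv, hlift⟩ := ih
    have sq := IsPullback.of_hasPullback (Limits.diag F) (prod.lift e (e ≫ (ρ g).hom))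
    have hq : AlgSp.RepWith @IsClosedImmersion (pullback.snd (Limits.diag F) (prod.lift e (e ≫ (ρ g).hom))) :=
      Groth.Agent.H12AlgSp.repWith_of_isPullback sq hsep
    have w₁ := sq.w =≫ prod.fst
    have w₂ := sq.w =≫ prod.snd
    simp at w₁ w₂
    haveI := hm
    haveI : Mono (Limits.diag F) := Groth.Agent.H12AlgSp.mono_diag F
    refine ⟨_, pullback.snd (Limits.diag F) (prod.lift e (e ≫ (ρ g).hom)) ≫ e,
      Groth.Agent.H12AlgSp.repWith_comp hq he, inferInstance, fun g' hg' => ?_, fun W x hx => ?_⟩
    · rcases Finset.mem_insert.1 hg' with rfl | hg'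
      · rw [Category.assoc, ← w₁, ← w₂]
      · rw [Category.assoc, hinv g' hg']
    · obtain ⟨z, hz⟩ := hlift W x (fun g' hg' => hx g' (Finset.mem_insert_of_mem hg'))
      refine ⟨sq.lift x z ?_, ?_⟩
      · ext
        · simp [hz]
        · simp [reassoc_of% hz, hx g (Finset.mem_insert_self g s)]
      · rw [← Category.assoc, sq.lift_snd, hz]

end Groth.Agent.S13210
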