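-- statement FlatMor.GrothFrozen.S1323 (Groth/Statements/S1323.lean; the theorem FlatMor.deform_finiteLocallyFreeOfRank_iff);
import Groth.Statements.S1323
import Groth.Agent.H7Flat.NilDeform

set_option autoImplicit false
universe u
open FlatMor

namespace Groth.Agent.S1323

open AlgebraicGeometry CategoryTheory Limits in
/-- Let S ⟶ S' be a finite order thickening, let X' ⟶ Y' be a morphism of schemes over S' with X' flat
over S', and let X ⟶ Y be its base change to S. Then X ⟶ Y is finite locally free of rank d if and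
only if X' ⟶ Y' is. -/
theorem result (d : ℕ) {X X' Y Y' S S' : Scheme.{u}} (iX : X ⟶ X') (iY : Y ⟶ Y') (iS : S ⟶ S')
    (f : X ⟶ Y) (f' : X' ⟶ Y') (g : Y ⟶ S) (g' : Y' ⟶ S')
    (hS : MoreMor.IsFiniteOrderThickening iS) (hcX : IsPullback iX (f ≫ g) (f' ≫ g') iS) (hcY : IsPullback iY g g' iS)
    (w : iX ≫ f' = f ≫ iY) [Flat (f' ≫ g')] :
    Mor2.IsFinLocFreeOfDeg d f ↔ Mor2.IsFinLocFreeOfDeg d f' := by
  exact ⟨fun h ↦ by
      obtain ⟨⟨h1, h2, h3⟩, h4⟩ := h
      obtain ⟨g1, g2, g3, g4⟩ := Groth.Agent.H7Flat.NilDeform.finLocFree_of_finiteOrder hS hcX hcY w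
      refine ⟨⟨g1, g2, g3⟩, fun y' ↦ ?_⟩
      obtain ⟨y, rfl⟩ := (Groth.Agent.H7Flat.surjective_of_thickening hS.1 hcY).surj y'
      rw [g4, h4],
    fun h ↦ by
      obtain ⟨⟨h1, h2, h3⟩, h4⟩ := h
      have hp := Groth.Agent.H7Flat.isPullback_top hcX hcY w
      refine ⟨⟨MorphismProperty.of_isPullback (P := @IsFinite) hp h1,
        MorphismProperty.of_isPullback (P := @Flat) hp h2,
        MorphismProperty.of_isPullback (P := @LocallyOfFinitePresentation) hp h3⟩, fun y ↦ ?_⟩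
      rw [Scheme.Hom.finrank_of_isPullback iX f f' iY hp y, h4]⟩

end Groth.Agent.S1323
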