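import Groth.Statements.S1325
import Groth.Agent.H06SecComp.General

set_option autoImplicit false
universe u
open FlatMor

namespace Groth.Agent.S1325

open Groth.Agent

open AlgebraicGeometry CategoryTheory Limits in
/-- Let f be of finite type with a section s and let y be a point of the target. Then there is a subset
V of the closure of y, open in that closure and containing y (equivalently nonempty), such that the
trace of the section components of (f, s) on the preimage of V is open and closed in that preimage
(with the subspace topology, which is the topology of the base change to the locally closed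
subscheme V). -/
theorem result {X Y : Scheme.{u}} (f : X ⟶ Y) (s : Y ⟶ X) (hs : s ≫ f = 𝟙 Y)
    [LocallyOfFiniteType f] [QuasiCompact f] (y : Y) :
    ∃ V : Set ↑Y, V ⊆ closure {y} ∧ y ∈ V ∧ IsOpen (Subtype.val ⁻¹' V : Set ↑(closure ({y} : Set ↑Y))) ∧
      IsClopen (Subtype.val ⁻¹' MoreMor.sectionComponents f s : Set ↑(f ⁻¹' V)) := by
  obtain ⟨O, C, D, hyO, hC, hD, hcov, hdisj, hmem⟩ := H06SecComp.exists_clopen_closure f s hs y
  refine ⟨closure {y} ∩ O, Set.inter_subset_left, ⟨subset_closure rfl, hyO⟩, ?_, ?_⟩
  · convert O.isOpen.preimage continuous_subtype_val using 1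
    ext z
    exact ⟨fun h => h.2, fun h => ⟨z.2, h⟩⟩
  · have hsp : ∀ x : ↥(f ⁻¹' (closure {y} ∩ (O : Set Y))), f x.1 ∈ O ∧ y ⤳ f x.1 :=
      fun x => ⟨x.2.2, specializes_iff_mem_closure.mpr x.2.1⟩
    refine ⟨?_, ?_⟩
    · convert hC.preimage continuous_subtype_val using 1
      ext x
      exact hmem x.1 (hsp x).1 (hsp x).2
    · rw [← isClosed_compl_iff]
      convert hD.preimage continuous_subtype_val using 1
      ext x
      obtain ⟨h1, h2⟩ := hsp x
      refine ⟨fun h => (hcov x.1 h1 h2).resolve_left fun hc => h ((hmem x.1 h1 h2).mpr hc),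
        fun h hmem' => hdisj x.1 h1 h2 ((hmem x.1 h1 h2).mp hmem') h⟩

end Groth.Agent.S1325
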