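-- statement FlatMor.GrothFrozen.S1331 (Groth/Statements/S1331.lean; the theorem FlatMor.not_geometricallyReduced_fibre_near_generic_point);
import Groth.Statements.S1331
import Groth.Agent.H7Flat.GenericGeomNotReduced

set_option autoImplicit false
universe u
open FlatMor

namespace Groth.Agent.S1331

open AlgebraicGeometry CategoryTheory Limits in
/-- Let f be of finite type with irreducible target. If the generic fibre is not geometrically reduced,
then over some nonempty open of the target no fibre is geometrically reduced. -/
theorem result {X Y : Scheme.{u}} (f : X ⟶ Y) [IrreducibleSpace ↑Y] [LocallyOfFiniteType f] [QuasiCompact f]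
    (h : ¬ GeometricallyReduced (f.fiberToSpecResidueField (genericPoint ↑Y))) :
    ∃ V : Y.Opens, (V : Set ↑Y).Nonempty ∧ ∀ y ∈ V, ¬ GeometricallyReduced (f.fiberToSpecResidueField y) := by
  exact Groth.Agent.H7Flat.GenericFibre.exists_opens_not_geometricallyReduced f h

end Groth.Agent.S1331
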