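-- statement FlatMor.GrothFrozen.S1332 (Groth/Statements/S1332.lean; the theorem FlatMor.fibre_dim_eq_near_generic_point);
import Groth.Statements.S1332
import Groth.Agent.H7Flat.FibreDimGeneric

set_option autoImplicit false
universe u
open FlatMor

namespace Groth.Agent.S1332

open AlgebraicGeometry CategoryTheory Limits in
/-- Let f be of finite type with irreducible target. If the generic fibre has dimension n, then over
some nonempty open of the target every fibre has dimension n. -/
theorem result {X Y : Scheme.{u}} (f : X ⟶ Y) [IrreducibleSpace ↑Y] [LocallyOfFiniteType f] [QuasiCompact f] (n : ℕ)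
    (h : topologicalKrullDim ↑(f.fiber (genericPoint ↑Y)) = n) :
    ∃ V : Y.Opens, (V : Set ↑Y).Nonempty ∧ ∀ y ∈ V, topologicalKrullDim ↑(f.fiber y) = n := by
  have hspec : ∀ y, genericPoint ↑Y ⤳ y := fun y => (genericPoint_spec ↑Y).specializes trivial
  obtain ⟨V₁, h1, hV₁⟩ := Groth.Agent.H7Flat.exists_nhd_le_dim_fiber f _ hspec n h
  obtain ⟨V₂, h2, hV₂⟩ := Groth.Agent.H7Flat.exists_nhd_dim_fiber_le f (genericPoint ↑Y) (n : ℕ) (fun t ht => by
    rw [ht.antisymm (hspec t) |>.eq]; exact h.le)
  exact ⟨V₁ ⊓ V₂, ⟨_, h1, h2⟩, fun y hy => le_antisymm (hV₂ y hy.2) (hV₁ y hy.1)⟩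

end Groth.Agent.S1332
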