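import Groth.Statements.S13337
import Groth.Agent.H24FMod.Level

set_option autoImplicit false
set_option linter.style.haveILetI false
open CategoryTheory CategoryTheory.Limits
universe u
open FCompl

attribute [-instance] CategoryTheory.catToReflQuiver
open Groth.Agent
namespace Groth.Agent.S13337

open AlgebraicGeometry in
/-- On a locally Noetherian formal scheme presented as an adic system of locally Noetherian thickenings
with common underlying space, for two systems of coherent modules on the levels with compatible
transition isomorphisms, the map sending a morphism of systems to the induced morphism between the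
attached O_𝔛-modules (limits of direct images) is bijective: Hom_{O_𝔛}(𝔉, 𝔊) is the limit of the
Hom_{O_{X_n}}(F_n, G_n). -/
theorem result (𝔛 : FSch.Sys.{u}) (h𝔛 : 𝔛.IsLocNoethFormal) (𝔐 𝔑 : FSch.ModSys 𝔛)
    (h𝔐 : 𝔐.IsCoh) (h𝔑 : 𝔑.IsCoh) :
    Function.Bijective (fun φ : 𝔐 ⟶ 𝔑 => FSch.ModSys.realModMap h𝔛.1 φ) := by
    exact H24FMod.bijective_realModMap (hL := h𝔛) h𝔐 𝔑

end Groth.Agent.S13337
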