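import Groth.Statements.S13342
import Groth.Agent.H24FSch.Sub

set_option autoImplicit false
set_option linter.style.haveILetI false
open CategoryTheory CategoryTheory.Limits
universe u
open FCompl

open CategoryTheory CategoryTheory.Limits AlgebraicGeometry

namespace Groth.Agent.S13342

open AlgebraicGeometry in
/-- The formal prescheme induced on an open subset of a formal prescheme (resp. of a locally Noetherian
formal prescheme, resp. of a Noetherian formal prescheme) is a formal prescheme (resp. a locally
Noetherian formal prescheme, resp. a Noetherian formal prescheme). In the presentation by systems of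
thickenings with common underlying space: for an open U, the induced system (the open subschemes of
the levels over U with the restricted transition maps) is again a system of thickenings; it is adic
with locally Noetherian levels when the given system is; and if moreover the common underlying space
is quasi-compact (a Noetherian formal prescheme), so is that of the induced system. -/
theorem result (𝔛 : FSch.Sys.{u}) (h : 𝔛.IsFormal) (U : (𝔛.X 0).Opens) :
    (𝔛.restrictOpen h U).IsFormal ∧ (𝔛.IsLocNoethFormal → (𝔛.restrictOpen h U).IsLocNoethFormal) ∧
      (𝔛.IsLocNoethFormal → CompactSpace (𝔛.X 0) → CompactSpace ((𝔛.restrictOpen h U).X 0)) := by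
  have had := Groth.Agent.H24FSch.isAdicHom_restrictOpenι 𝔛 h U
  refine ⟨fun n => ?_, fun hN => ?_, fun hN hc => ?_⟩
  · haveI := (h n).1
    haveI : Surjective (𝔛.ι n) := ⟨(h n).2⟩
    have hc : IsClosedImmersion ((𝔛.restrictOpen h U).ι n) := MorphismProperty.of_isPullback (had n).flip inferInstance
    have hs : Surjective ((𝔛.restrictOpen h U).ι n) := MorphismProperty.of_isPullback (had n).flip inferInstance
    exact ⟨hc, hs.surj⟩
  · haveI := hN.2.2 0
    haveI : IsLocallyNoetherian ((𝔛.restrictOpen h U).X 0) :=
      inferInstanceAs (IsLocallyNoetherian (𝔛.lvU h 0 U : (𝔛.X 0).Opens).toScheme)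
    exact Groth.Agent.H24FSch.isLocNoethFormal_of_isAdicHom _ hN had
  · haveI := hN.2.2 0
    haveI : IsNoetherian (𝔛.X 0) := { }
    show CompactSpace (𝔛.lvU h 0 U : (𝔛.X 0).Opens)
    exact isCompact_iff_compactSpace.mp (TopologicalSpace.NoetherianSpace.isCompact _)

end Groth.Agent.S13342
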