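-- statement FlatMor.GrothFrozen.S1334 (Groth/Statements/S1334.lean; the theorem FlatMor.nGeomIrredComp_baseChange);
import Groth.Statements.S1334
import Groth.Agent.H7Flat.GeomCount

set_option autoImplicit false
universe u
open FlatMor

namespace Groth.Agent.S1334

open AlgebraicGeometry CategoryTheory Limits in
/-- The function on the target counting the irreducible components of the geometric fibres (fibres base
changed to a separable closure of the residue field) is compatible with base change: for a cartesian
square it is obtained on the new base by composing with the map to the old base. (This expresses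
that the count does not depend on the separably closed field used.) -/
theorem result {X Y X' Y' : Scheme.{u}} (f : X ⟶ Y) (f' : X' ⟶ Y') (g' : X' ⟶ X) (g : Y' ⟶ Y)
    (hc : IsPullback g' f' f g) (y' : Y') :
    MoreMor.nGeomIrredComp f' y' = MoreMor.nGeomIrredComp f (g y') := by
  letI : Algebra ↑(Y.residueField (g y')) (SeparableClosure (Y'.residueField y')) := ((algebraMap (Y'.residueField y') (SeparableClosure (Y'.residueField y'))).comp
    (g.residueFieldMap y').hom).toAlgebra
  obtain ⟨e⟩ := Groth.Agent.H7Flat.GeomCount.exists_iso_geomFiber hc y'
  refine congrArg Cardinal.toENat ?_
  rw [← Groth.Agent.H7Flat.GeomCount.mk_irreducibleComponents_congr e.hom.homeomorph]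
  exact Groth.Agent.H7Flat.GeomCount.mk_irreducibleComponents_eq (k := ↑(Y.residueField (g y'))) (f.fiberToSpecResidueField (g y')) _
    (SeparableClosure (Y.residueField (g y')))

end Groth.Agent.S1334
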