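import Groth.Statements.S13340
import Groth.Agent.H24FMod.ComplSec

set_option autoImplicit false
set_option linter.style.haveILetI false
open CategoryTheory CategoryTheory.Limits
universe u
open FCompl

attribute [-instance] CategoryTheory.catToReflQuiver
open Groth.Agent
namespace Groth.Agent.S13340

set_option maxHeartbeats 1600000 in
open AlgebraicGeometry in
/-- Let X be a locally Noetherian scheme, 𝓘 a quasi-coherent ideal sheaf and X̂ the completion of X
along 𝓘 (the system of the closed subschemes of the powers of 𝓘, as a ringed space with structure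
sheaf lim O_{X_k}). Completion F ↦ F̂ = lim_k (u_k)_* i_k^* F of coherent O_X-modules is exact: for
a short exact sequence 0 → F' → F → F'' → 0 of coherent modules the induced sequence of completed
O_X̂-modules has zero composite and is short exact. -/
theorem result (X : Scheme.{u}) [IsLocallyNoetherian X] (𝓘 : X.IdealSheafData)
    (h : (FSch.completionAlong X 𝓘).IsFormal) (S : ShortComplex X.Modules) (hS : S.ShortExact)
    (h1 : Coh.IsCoh S.X₁) (h2 : Coh.IsCoh S.X₂) (h3 : Coh.IsCoh S.X₃) :
    FSch.ModSys.realModMap h (FSch.complModMap 𝓘 S.f) ≫ FSch.ModSys.realModMap h (FSch.complModMap 𝓘 S.g) = 0 ∧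
      ∀ w : FSch.ModSys.realModMap h (FSch.complModMap 𝓘 S.f) ≫ FSch.ModSys.realModMap h (FSch.complModMap 𝓘 S.g) = 0,
        (ShortComplex.mk _ _ w).ShortExact := by
    have h0 : FSch.ModSys.realModMap h (FSch.complModMap 𝓘 S.f) ≫ FSch.ModSys.realModMap h (FSch.complModMap 𝓘 S.g) = 0 := by
      refine limit.hom_ext fun ⟨k⟩ => ?_
      refine (Category.assoc _ _ _).trans ((congrArg (FSch.ModSys.realModMap h (FSch.complModMap 𝓘 S.f) ≫ ·)
        (FSch.realLimMap_realProj (FSch.completionAlong X 𝓘) h (FSch.complModMap 𝓘 S.g).app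
          (FSch.ModSys.Hom.toPush_comm (FSch.complModMap 𝓘 S.g)) k)).trans ?_)
      refine (Category.assoc _ _ _).symm.trans ((congrArg (· ≫ (FSch.levelMor _ h k).push.map _)
        (FSch.realLimMap_realProj (FSch.completionAlong X 𝓘) h (FSch.complModMap 𝓘 S.f).app
          (FSch.ModSys.Hom.toPush_comm (FSch.complModMap 𝓘 S.f)) k)).trans ?_)
      refine (Category.assoc _ _ _).trans ?_
      have e : (FSch.complModMap 𝓘 S.f).app k ≫ (FSch.complModMap 𝓘 S.g).app k = 0 :=
      (Functor.map_comp _ _ _).symm.trans ((congrArg _ S.zero).trans (Functor.map_zero _ _ _))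
      have hz : (FSch.levelMor (FSch.completionAlong X 𝓘) h k).push.map
          (0 : (FSch.complMod 𝓘 S.X₁).F k ⟶ (FSch.complMod 𝓘 S.X₃).F k) = 0 := rfl
      refine (congrArg (_ ≫ ·) (((Functor.map_comp _ _ _).symm.trans (congrArg _ e)).trans hz)).trans ?_
      exact comp_zero.trans zero_comp.symm
    refine ⟨h0, fun w => ?_⟩
    haveI : ∀ n, IsClosedImmersion (FSch.completionToX X 𝓘 n) := fun n =>
      inferInstanceAs (IsClosedImmersion (𝓘 ^ (n + 1)).subschemeι)
    exact H24FMod.shortExact_complMod h (FSch.completionToX X 𝓘) (FSch.completionToX_comm X 𝓘) (FSch.complTransIso 𝓘) (fun n => rfl) 𝓘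
      (fun n V hV => ((𝓘 ^ (n + 1)).ker_subschemeι_app ⟨V, hV⟩).trans (by rw [Scheme.IdealSheafData.ideal_pow, Pi.pow_apply]))
      hS h1 h2 h3 w

end Groth.Agent.S13340
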