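import Groth.Statements.S13341
import Groth.Agent.H24FSch.Fibre

set_option autoImplicit false
set_option linter.style.haveILetI false
open CategoryTheory
universe u
open FCompl

open CategoryTheory CategoryTheory.Limits AlgebraicGeometry

namespace Groth.Agent.S13341

open AlgebraicGeometry in
/-- Formal schemes are presented as locally Noetherian adic systems of thickenings and the fibre product
is taken levelwise (it presents the fibre product of formal schemes since one factor is adic over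
the base). Let 𝔖 be a locally Noetherian formal system, 𝔛 and 𝔜 locally Noetherian formal systems
over 𝔖 such that 𝔛 or 𝔜 is of finite type over 𝔖, and 𝔜 separated over 𝔖 at level 0. Then for every
𝔖-morphism f : 𝔛 → 𝔜 the graph morphism 𝔛 → 𝔛 ×_𝔖 𝔜 is a closed immersion: adic, with level 0 a
closed immersion. -/
theorem result {𝔛 𝔜 𝔖 : FSch.Sys.{u}} (h𝔖 : 𝔖.IsLocNoethFormal) (h𝔛 : 𝔛.IsLocNoethFormal)
    (h𝔜 : 𝔜.IsLocNoethFormal) (p : 𝔛 ⟶ 𝔖) (q : 𝔜 ⟶ 𝔖) (hpq : FSch.IsFiniteTypeHom p ∨ FSch.IsFiniteTypeHom q)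
    (hq : IsSeparated ((q : FSch.Hom 𝔜 𝔖).app 0)) (f : 𝔛 ⟶ 𝔜) (w : f ≫ q = p) :
    FSch.IsClosedImmHom (FSch.graph f p q w) := by
  refine ⟨Groth.Agent.H24FSch.isAdicHom_graph f p q w (fun n => by haveI := (h𝔜.1 n).1; infer_instance), ?_⟩
  have hsep : IsSeparated (pullback.fst ((p : FSch.Hom 𝔛 𝔖).app 0) ((q : FSch.Hom 𝔜 𝔖).app 0)) :=
    MorphismProperty.pullback_fst _ _ hq
  have hcl : IsClosedImmersion (((FSch.graph f p q w : FSch.Hom _ _).app 0) ≫
      pullback.fst ((p : FSch.Hom 𝔛 𝔖).app 0) ((q : FSch.Hom 𝔜 𝔖).app 0)) := by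
    have e : ((FSch.graph f p q w : FSch.Hom _ _).app 0) ≫
        pullback.fst ((p : FSch.Hom 𝔛 𝔖).app 0) ((q : FSch.Hom 𝔜 𝔖).app 0) = 𝟙 _ := pullback.lift_fst _ _ _
    rw [e]; infer_instance
  exact @IsClosedImmersion.of_comp _ _ _ _ _ hcl hsep

end Groth.Agent.S13341
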