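import Groth.Statements.S13343
import Groth.Agent.H24FMod.Unit
import Groth.Agent.H24FMod.Free

set_option autoImplicit false
set_option linter.style.haveILetI false
open CategoryTheory CategoryTheory.Limits
universe u
open FCompl

attribute [-instance] CategoryTheory.catToReflQuiver
open Groth.Agent
namespace Groth.Agent.S13343

open AlgebraicGeometry in
/-- On a Noetherian formal scheme (an adic system of locally Noetherian thickenings with common
quasi-compact underlying space) let 𝔉 and 𝔊 be coherent O_𝔛-modules. In Hom(𝔉, 𝔊), topologised by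
the subgroups of morphisms vanishing into 𝔊 ⊗ O_{X_n} (that is, with values in 𝓘^{n+1}𝔊), the
injective, the surjective and the bijective morphisms form open subsets: for every θ there is an n
such that θ + ψ is a monomorphism whenever θ is, and an epimorphism whenever θ is, for all ψ whose
composite with 𝔊 → (u_n)_* u_n^* 𝔊 is zero. -/
theorem result (𝔛 : FSch.Sys.{u}) (h𝔛 : 𝔛.IsLocNoethFormal)
    [CompactSpace (𝔛.X 0)] (𝔉 𝔊 : FSch.ModF 𝔛 h𝔛.1) (h𝔉 : FSch.IsCohF 𝔛 h𝔛.1 𝔉) (h𝔊 : FSch.IsCohF 𝔛 h𝔛.1 𝔊)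
    (θ : 𝔉 ⟶ 𝔊) :
    ∃ n : ℕ, ∀ ψ : 𝔉 ⟶ 𝔊, ψ ≫ (FSch.levelMor 𝔛 h𝔛.1 n).adj.unit.app 𝔊 = 0 →
      (Mono θ → Mono (θ + ψ)) ∧ (Epi θ → Epi (θ + ψ)) := by
    exact H24FMod.exists_open_mono_epi h𝔛 h𝔉 h𝔊 θ

end Groth.Agent.S13343
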