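import Groth.Statements.S13345
import Groth.Agent.H24FMod.FlatTo

set_option autoImplicit false
set_option linter.style.haveILetI false
open CategoryTheory CategoryTheory.Limits
universe u
open FCompl

attribute [-instance] CategoryTheory.catToReflQuiver
open Groth.Agent
namespace Groth.Agent.S13345

open AlgebraicGeometry in
/-- For a locally Noetherian scheme X and a quasi-coherent ideal sheaf 𝓘, the canonical morphism of
ringed spaces from the completion X̂ of X along 𝓘 (the system of closed subschemes of the powers of
𝓘, with structure sheaf lim O_{X_k}) to X is flat; flatness of a morphism of ringed spaces is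
rendered as exactness (preservation of finite limits) of its inverse image functor on modules. -/
theorem result (X : Scheme.{u}) [IsLocallyNoetherian X] (𝓘 : X.IdealSheafData)
    (h : (FSch.completionAlong X 𝓘).IsFormal) :
    ModSite.RMor.IsFlat (FSch.toSchemeMor (FSch.completionAlong X 𝓘) h (FSch.completionToX X 𝓘) (FSch.completionToX_comm X 𝓘)) := by
  haveI : ∀ n, IsClosedImmersion (FSch.completionToX X 𝓘 n) := fun n => inferInstanceAs (IsClosedImmersion (𝓘 ^ (n + 1)).subschemeι)
  exact H24FMod.isFlat_toSchemeMor (H24FSch.isLocNoethFormal_completionAlong X 𝓘) (FSch.completionToX X 𝓘) (FSch.completionToX_comm X 𝓘) 𝓘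
    (fun n V hV => ((𝓘 ^ (n + 1)).ker_subschemeι_app ⟨V, hV⟩).trans (by rw [Scheme.IdealSheafData.ideal_pow, Pi.pow_apply]))

end Groth.Agent.S13345
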