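import Groth.Statements.S13347
import Groth.Agent.H24Adic.RingLimit
import Groth.Agent.H7Lim.Thickening
import Groth.Prelude.Def_FSch5

set_option autoImplicit false
set_option linter.style.haveILetI false
open CategoryTheory CategoryTheory.Limits
universe u
open Opposite
open FCompl

open CategoryTheory CategoryTheory.Limits AlgebraicGeometry TopologicalSpace Opposite

namespace Groth.Agent.S13347

open AlgebraicGeometry in
/-- Let (X_i) be an inductive system of preschemes on one underlying space with surjective transition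
homomorphisms whose kernels O_{X_i} → O_{X_0} are locally nilpotent — here a system of thickenings
(closed immersions surjective on points) with the kernel ideal of X_0 → X_i nilpotent on every
affine open of X_i — and O_𝔛 = lim O_{X_i} the structure sheaf of the formal prescheme it defines.
Then the canonical homomorphisms O_𝔛 → O_{X_i} are surjective: over every affine open U of X_0 the
map on sections Γ(U, O_𝔛) → Γ(U_i, O_{X_i}) is onto. -/
theorem result (𝔛 : FSch.Sys.{u}) (h : 𝔛.IsFormal)
    (hb : ∀ (i : ℕ) (V : (𝔛.X i).affineOpens), IsNilpotent ((𝔛.toX i).ker.ideal V))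
    (i : ℕ) (U : (𝔛.X 0).Opens) (hU : IsAffineOpen U) :
    Function.Surjective ((𝔛.OshProj h i).hom.app (op U)) := by
  haveI hc : ∀ n, IsClosedImmersion (𝔛.toX n) := fun n => 𝔛.toX_isClosedImmersion h n
  have haff : ∀ n, IsAffineOpen (𝔛.lvU h n U) := by
    intro n
    have he : (𝔛.toX n) ⁻¹ᵁ 𝔛.lvU h n U = U := by
      change (Opens.map ((𝔛.toX n).base ≫ 𝔛.gInv h n)).obj U = _
      rw [𝔛.toX_base_gInv h n]
      rfl
    haveI : IsAffine ((𝔛.toX n) ⁻¹ᵁ 𝔛.lvU h n U : (𝔛.X 0).Opens).toScheme := by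
      rw [he]; exact hU
    haveI : IsClosedImmersion (𝔛.toX n ∣_ 𝔛.lvU h n U) :=
      IsZariskiLocalAtTarget.restrict (P := @IsClosedImmersion) (f := 𝔛.toX n) inferInstance _
    refine Groth.Agent.H7Lim.isAffine_of_surjective_closedImmersion (𝔛.toX n ∣_ 𝔛.lvU h n U) ?_
    haveI : Surjective (𝔛.toX n) := ⟨𝔛.toX_surjective h n⟩
    exact (IsZariskiLocalAtTarget.restrict (P := @Surjective) (f := 𝔛.toX n) inferInstance (𝔛.lvU h n U)).surj
  let R : ℕ → Type u := fun n => Γ(𝔛.X n, 𝔛.lvU h n U)
  let f : ∀ n, R (n + 1) →+* R n := fun n => ((𝔛.ι n).appLE _ _ (𝔛.lvU_le h n U)).hom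
  have hf : ∀ n, Function.Surjective (f n) := by
    intro n r
    haveI := (h n).1
    obtain ⟨z, hz⟩ := (𝔛.ι n).app_surjective _ (haff (n + 1))
      ((𝔛.X n).presheaf.map (eqToHom (𝔛.lvU_succ h n U)).op r)
    refine ⟨z, ?_⟩
    show ((𝔛.ι n).appLE _ _ (𝔛.lvU_le h n U)).hom z = r
    rw [Scheme.Hom.appLE, CommRingCat.comp_apply, hz, ← CommRingCat.comp_apply, ← Functor.map_comp]
    rw [Subsingleton.elim ((eqToHom (𝔛.lvU_succ h n U)).op ≫ (homOfLE (𝔛.lvU_le h n U)).op) (𝟙 _), CategoryTheory.Functor.map_id]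
    rfl
  let G : Sheaf (Opens.grothendieckTopology (𝔛.X 0)) CommRingCat.{u} ⥤ CommRingCat.{u} :=
    sheafToPresheaf _ _ ⋙ (evaluation _ _).obj (op U)
  let c : Cone (𝔛.levelRing h ⋙ G) :=
    { pt := CommRingCat.of (Groth.Agent.H24Adic.ringLim f)
      π := NatTrans.ofOpSequence (fun n => CommRingCat.ofHom (Groth.Agent.H24Adic.ringLimProj f n)) (fun n => by
        dsimp only [Functor.const_obj_obj, Functor.const_obj_map, Functor.comp_obj, Functor.comp_map]
        rw [Category.id_comp, 𝔛.levelRing_map_succ h n]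
        exact (CommRingCat.hom_ext (RingHom.ext fun x => Groth.Agent.H24Adic.ringLimProj_comm f n x)).symm) }
  let hl := isLimitOfPreserves G (limit.isLimit (𝔛.levelRing h))
  intro y
  obtain ⟨x, hx⟩ := Groth.Agent.H24Adic.ringLimProj_surjective f hf i y
  refine ⟨(hl.lift c).hom x, ?_⟩
  have := congrArg (fun φ : c.pt ⟶ _ => φ.hom x) (hl.fac c (op i))
  exact this.trans hx

end Groth.Agent.S13347
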