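import Groth.Statements.S13348
import Groth.Agent.H24FSpf.Base

set_option autoImplicit false
set_option linter.style.haveILetI false
universe u
open FCompl

attribute [-instance] CategoryTheory.catToReflQuiver
open Groth.Agent
namespace Groth.Agent.S13348

open AlgebraicGeometry in
open CategoryTheory in
/-- Let R be a base ring of class (N) or (V) for the ideal I, A an R-algebra topologically of finite
type, and M, N finite A-modules. Present the formal spectrum Spf A as the completion of Spec A along
IA, with structure sheaf the limit of the structure sheaves of the closed subschemes V((IA)^(n+1)),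
and let M^Δ be the O_Spf A-module obtained as the limit of the direct images of the modules
associated to M/(IA)^(n+1)M (the pullbacks of the sheaf associated to M). Then u ↦ u^Δ is a
bijection from Hom_A(M, N) onto the set of O_Spf A-module homomorphisms M^Δ → N^Δ. -/
theorem result
    (R : Type u) [CommRing R] (I : Ideal R) (hR : AdicRing.IsBase R I)
    (A : Type u) [CommRing A] [Algebra R A] (hA : AdicRing.TopFiniteType R I A)
    (h : (FSch.completionAlong (Spec (CommRingCat.of A)) (FSch.idealSpec A (I.map (algebraMap R A)))).IsFormal)
    (M N : ModuleCat.{u} A) [Module.Finite A M] [Module.Finite A N] :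
    Function.Bijective (fun u : M ⟶ N =>
      FSch.ModSys.realModMap h (FSch.complModMap (FSch.idealSpec A (I.map (algebraMap R A))) ((tilde.functor (CommRingCat.of A)).map u))) := by
  haveI := H24FSpf.isAdicComplete_map hR hA N
  exact H24FSpf.bijective_realModMap_complModMap (I.map (algebraMap R A)) M N h (H24FSpf.fg_map_of_isBase hR)

end Groth.Agent.S13348
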