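-- statement FlatMor.GrothFrozen.S1335 (Groth/Statements/S1335.lean; the theorem FlatMor.nGeomConnComp_baseChange);
import Groth.Statements.S1335
import Groth.Agent.H7Flat.GeomCount

set_option autoImplicit false
universe u
open FlatMor

namespace Groth.Agent.S1335

open AlgebraicGeometry CategoryTheory Limits in
/-- The function on the target counting the connected components of the geometric fibres is compatible
with base change: for a cartesian square it is obtained on the new base by composing with the map to
the old base. -/
theorem result {X Y X' Y' : Scheme.{u}} (f : X ⟶ Y) (f' : X' ⟶ Y') (g' : X' ⟶ X) (g : Y' ⟶ Y)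
    (hc : IsPullback g' f' f g) (y' : Y') :
    MoreMor.nGeomConnComp f' y' = MoreMor.nGeomConnComp f (g y') := by
  letI : Algebra ↑(Y.residueField (g y')) (SeparableClosure (Y'.residueField y')) := ((algebraMap (Y'.residueField y') (SeparableClosure (Y'.residueField y'))).comp
    (g.residueFieldMap y').hom).toAlgebra
  obtain ⟨e⟩ := Groth.Agent.H7Flat.GeomCount.exists_iso_geomFiber hc y'
  refine congrArg Cardinal.toENat ?_
  rw [Groth.Agent.H7Flat.GeomCount.mk_connectedComponents_congr e.hom.homeomorph]
  exact Groth.Agent.H7Flat.GeomCount.mk_connectedComponents_eq (k := ↑(Y.residueField (g y'))) (f.fiberToSpecResidueField (g y')) _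
    (SeparableClosure (Y.residueField (g y')))

end Groth.Agent.S1335
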