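import Groth.Statements.S13352
import Groth.Agent.H24Val.DimOne
import Groth.Agent.H24Val.FiniteTop
import Mathlib.RingTheory.IntegralClosure.IsIntegral.Basic

set_option autoImplicit false
set_option linter.style.haveILetI false
universe u
open scoped TensorProduct
open AdicRing

namespace Groth.Agent.S13352

/-- Let R be a complete valuation ring of height one with t a nonzero element generating an ideal of
definition and K its field of fractions, A an admissible R-algebra, and f_1, ..., f_n elements of A
⊗_R K that are integral over A. Then A' = A[f_1, ..., f_n], a subalgebra of A ⊗_R K, is an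
admissible R-algebra which is finite over A. (The published hypothesis is that each f_i has supremum
seminorm at most 1 on the affinoid algebra A ⊗_R K; integrality of the f_i over A is what is derived
from it and used, and is the hypothesis taken here.) -/
theorem result
    (R : Type u) [CommRing R] [IsDomain R] [ValuationRing R] [Ring.KrullDimLE 1 R]
    (t : R) (ht : t ≠ 0) [IsAdicComplete (Ideal.span {t}) R]
    (A : Type u) [CommRing A] [Algebra R A] (hA : AdicRing.Admissible R (Ideal.span {t}) A)
    (n : ℕ) (f : Fin n → A ⊗[R] FractionRing R) (hf : ∀ i, IsIntegral A (f i)) :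
    AdicRing.Admissible R (Ideal.span {t}) ↥(Algebra.adjoin A (Set.range f)) ∧
      Module.Finite A ↥(Algebra.adjoin A (Set.range f)) := by
  classical
  haveI : IsLocalRing R := Groth.Agent.H24Val.isLocalRing_of_pre R
  have hbase : IsBase R (Ideal.span {t}) :=
    ⟨‹_›, Or.inr ⟨‹_›, inferInstance, ‹_›, t, ht, rfl⟩⟩
  haveI hfin : Module.Finite A ↥(Algebra.adjoin A (Set.range f)) :=
    Algebra.finite_adjoin_of_finite_of_isIntegral (Set.finite_range _) (by rintro _ ⟨j, rfl⟩; exact hf j)
  have hAft : TopFiniteType R (Ideal.span {t}) A := by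
    obtain ⟨l, ψ, hψ, -⟩ := hA.1
    exact ⟨l, ψ, hψ⟩
  have hT : NoPowTorsion (Ideal.span {t}) ↥(Algebra.adjoin A (Set.range f)) := by
    intro x m hx
    have h := congrArg Subtype.val (hx (t ^ m) (by rw [Ideal.span_singleton_pow]; exact Ideal.mem_span_singleton_self _))
    refine Subtype.ext ?_
    change (t ^ m) • (x : A ⊗[R] FractionRing R) = 0 at h
    have hu : IsUnit (algebraMap R (A ⊗[R] FractionRing R) (t ^ m)) := by
      have h1 : IsUnit (algebraMap R (FractionRing R) (t ^ m)) :=
        (isUnit_iff_ne_zero).mpr ((map_ne_zero_iff _ (IsFractionRing.injective R (FractionRing R))).mpr (pow_ne_zero m ht))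
      have h2 := h1.map (Algebra.TensorProduct.includeRight : FractionRing R →ₐ[R] A ⊗[R] FractionRing R)
      rwa [AlgHom.commutes] at h2
    rw [show (t ^ m) • (x : A ⊗[R] FractionRing R) = algebraMap R _ (t ^ m) * (x : A ⊗[R] FractionRing R) from by
      rw [Algebra.algebraMap_eq_smul_one, smul_mul_assoc, one_mul]] at h
    exact hu.mul_right_eq_zero.mp h
  refine ⟨⟨?_, hT⟩, hfin⟩
  obtain ⟨l, ψ, hψ⟩ := Groth.Agent.H24Val.topFiniteType_of_finite hbase hAft ↥(Algebra.adjoin A (Set.range f))
  refine ⟨l, ψ, hψ, Groth.Agent.H24Val.fg_of_saturated hbase _ fun x m hx => hT _ m fun a ha => ?_⟩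
  have h : ψ (a • x) = 0 := hx a ha
  rwa [map_smul] at h

end Groth.Agent.S13352
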