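import Groth.Statements.S13353
import Groth.Agent.H24Val.DimOne
import Mathlib.RingTheory.Localization.BaseChange
import Mathlib.RingTheory.Polynomial.ScaleRoots

set_option autoImplicit false
set_option linter.style.haveILetI false
universe u
open scoped TensorProduct
open AdicRing

namespace Groth.Agent.S13353

/-- Let R be a complete valuation ring of height one with t a nonzero element generating an ideal of
definition and K its field of fractions, A an admissible R-algebra, f_1, ..., f_n elements of A ⊗_R
K integral over A, c a nonzero element of R and g_1, ..., g_n elements of A with g_i = c f_i in A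
⊗_R K; put 𝔞 = (c, g_1, ..., g_n) and A' = A[f_1, ..., f_n] ⊂ A ⊗_R K. If D is an admissible
R-algebra and φ : A → D an R-algebra homomorphism such that the ideal 𝔞D is generated by the image
of c, or by the image of some g_i, then 𝔞D is generated by c and φ extends to exactly one R-algebra
homomorphism A' → D. (This is the universal property through which Spf A' → Spf A is identified with
the formal blowing-up of 𝔞 on Spf A; the published hypothesis on the f_i is a supremum-seminorm
bound, from which their integrality over A is derived.) -/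
theorem result
    (R : Type u) [CommRing R] [IsDomain R] [ValuationRing R] [Ring.KrullDimLE 1 R]
    (t : R) (ht : t ≠ 0) [IsAdicComplete (Ideal.span {t}) R]
    (A : Type u) [CommRing A] [Algebra R A] (hA : AdicRing.Admissible R (Ideal.span {t}) A)
    (n : ℕ) (f : Fin n → A ⊗[R] FractionRing R) (hf : ∀ i, IsIntegral A (f i))
    (c : R) (hc : c ≠ 0) (g : Fin n → A)
    (hg : ∀ i, algebraMap A (A ⊗[R] FractionRing R) (g i) = c • f i)
    (D : Type u) [CommRing D] [Algebra R D] (hD : AdicRing.Admissible R (Ideal.span {t}) D)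
    (φ : A →ₐ[R] D)
    (hgen : (Ideal.span (insert (algebraMap R A c) (Set.range g))).map φ =
          Ideal.span {algebraMap R D c} ∨
      ∃ i, (Ideal.span (insert (algebraMap R A c) (Set.range g))).map φ = Ideal.span {φ (g i)}) :
    (Ideal.span (insert (algebraMap R A c) (Set.range g))).map φ = Ideal.span {algebraMap R D c} ∧
      ∃! ψ : ↥(Algebra.adjoin A (Set.range f)) →ₐ[R] D,
        ψ.comp (IsScalarTower.toAlgHom R A ↥(Algebra.adjoin A (Set.range f))) = φ := by
  classical
  haveI : IsLocalRing R := Groth.Agent.H24Val.isLocalRing_of_pre R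
  haveI : IsLocalization (Submonoid.powers t) (FractionRing R) := by
    refine (IsLocalization.iff_of_le_of_exists_dvd (M := Submonoid.powers t) (S := FractionRing R) (nonZeroDivisors R) ?_ ?_).mpr
      inferInstance
    · rw [Submonoid.powers_le]
      exact mem_nonZeroDivisors_of_ne_zero ht
    · intro n hn
      obtain ⟨N, hN⟩ := Groth.Agent.H24Val.exists_pow_dvd (nonZeroDivisors.ne_zero hn)
        (Groth.Agent.H24Val.t_mem_maximalIdeal (R := R) (t := t))
      exact ⟨t ^ N, ⟨N, rfl⟩, hN⟩
  obtain ⟨N₀, cc, hcc⟩ := Groth.Agent.H24Val.exists_pow_dvd hc (Groth.Agent.H24Val.t_mem_maximalIdeal (R := R) (t := t))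
  have hreg : ∀ {E : Type u} [CommRing E] [Algebra R E], NoPowTorsion (Ideal.span {t}) E →
      ∀ x : E, algebraMap R E c * x = 0 → x = 0 := by
    intro E _ _ hE x hx
    refine hE x N₀ fun a ha => ?_
    rw [Ideal.span_singleton_pow, Ideal.mem_span_singleton'] at ha
    obtain ⟨b, rfl⟩ := ha
    rw [Algebra.smul_def, hcc, map_mul, map_mul, mul_assoc, mul_assoc, mul_left_comm (algebraMap R E c), hx,
      mul_zero, mul_zero]
  have hinjE : ∀ {E : Type u} [CommRing E] [Algebra R E], NoPowTorsion (Ideal.span {t}) E →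
      Function.Injective (algebraMap E (E ⊗[R] FractionRing R)) := by
    intro E _ _ hE
    rw [injective_iff_map_eq_zero]
    intro x hx
    rw [IsLocalization.map_eq_zero_iff (Algebra.algebraMapSubmonoid E (Submonoid.powers t))] at hx
    obtain ⟨⟨_, _, ⟨k, rfl⟩, rfl⟩, hk⟩ := hx
    refine hE x k fun a ha => ?_
    rw [Ideal.span_singleton_pow, Ideal.mem_span_singleton'] at ha
    obtain ⟨b, rfl⟩ := ha
    rw [Algebra.smul_def, map_mul, mul_assoc, show algebraMap R E (t ^ k) * x = 0 from hk, mul_zero]
  have hiA := hinjE hA.2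
  have hiD := hinjE hD.2
  have hgj : ∀ j, ∃ d, φ (g j) = algebraMap R D c * d := by
    intro j
    rcases hgen with h | ⟨i, h⟩
    · have hm : φ (g j) ∈ (Ideal.span (insert (algebraMap R A c) (Set.range g))).map φ :=
        Ideal.mem_map_of_mem φ (Ideal.subset_span (Set.mem_insert_of_mem _ ⟨j, rfl⟩))
      rw [h] at hm
      obtain ⟨d, hd⟩ := Ideal.mem_span_singleton'.mp hm
      exact ⟨d, by rw [← hd, mul_comm]⟩
    have hdiv : ∀ z ∈ Ideal.span (insert (algebraMap R A c) (Set.range g)), ∃ d, φ z = φ (g i) * d := by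
      intro z hz
      have hm := Ideal.mem_map_of_mem φ hz
      rw [h] at hm
      obtain ⟨d, hd⟩ := Ideal.mem_span_singleton'.mp hm
      exact ⟨d, by rw [← hd, mul_comm]⟩
    obtain ⟨u, hu⟩ := hdiv _ (Ideal.subset_span (Set.mem_insert _ _))
    rw [φ.commutes] at hu
    have hregi : ∀ x, φ (g i) * x = 0 → x = 0 := fun x hx => hreg hD.2 x (by
      rw [hu, mul_right_comm, hx, zero_mul])
    have hregp : ∀ (m : ℕ) x, φ (g i) ^ m * x = 0 → x = 0 := by
      intro m
      induction m with
      | zero => intro x hx; rwa [pow_zero, one_mul] at hx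
      | succ m ih => intro x hx; exact hregi x (ih _ (by rwa [pow_succ, mul_assoc] at hx))
    obtain ⟨p, hp, hp0⟩ := hf i
    have h1 : Polynomial.aeval (g i) (p.scaleRoots (algebraMap R A c)) = 0 := by
      refine hiA ?_
      rw [map_zero, ← Polynomial.aeval_algebraMap_apply, hg,
        show c • f i = algebraMap A (A ⊗[R] FractionRing R) (algebraMap R A c) * f i from by
          rw [← IsScalarTower.algebraMap_apply, Algebra.algebraMap_eq_smul_one, smul_mul_assoc, one_mul]]
      exact Polynomial.scaleRoots_aeval_eq_zero hp0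
    have h2 := congrArg φ h1
    rw [map_zero, Polynomial.aeval_eq_sum_range, Polynomial.natDegree_scaleRoots, Finset.sum_range_succ,
      Polynomial.coeff_scaleRoots_natDegree, hp.leadingCoeff, one_smul, map_add, map_sum, map_pow] at h2
    by_cases hd0 : p.natDegree = 0
    · rw [hd0, pow_zero, Finset.range_zero, Finset.sum_empty, zero_add] at h2
      exact ⟨0, by rw [← one_mul (φ (g j)), h2, zero_mul, mul_zero]⟩
    obtain ⟨D', hD'⟩ := Nat.exists_eq_succ_of_ne_zero hd0
    have h3 : ∀ e ∈ Finset.range p.natDegree, ∃ w, φ ((p.scaleRoots (algebraMap R A c)).coeff e • g i ^ e) =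
        φ (g i) ^ D' * (algebraMap R D c * w) := by
      intro e he
      rw [Finset.mem_range] at he
      refine ⟨φ (p.coeff e) * u ^ (D' - e), ?_⟩
      rw [smul_eq_mul, Polynomial.coeff_scaleRoots, show p.natDegree - e = (D' - e) + 1 by omega, pow_succ]
      simp only [map_mul, map_pow, φ.commutes]
      rw [show φ (g i) ^ D' = φ (g i) ^ (D' - e) * φ (g i) ^ e by rw [← pow_add]; congr 1; omega]
      nth_rw 1 [hu]
      ring
    obtain ⟨W, hW⟩ := Finset.sum_induction (s := Finset.range p.natDegree)
      (fun e => φ ((p.scaleRoots (algebraMap R A c)).coeff e • g i ^ e))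
      (fun z => ∃ W, z = φ (g i) ^ D' * (algebraMap R D c * W))
      (fun x y ⟨u', hu'⟩ ⟨v', hv'⟩ => ⟨u' + v', by rw [hu', hv', mul_add, mul_add]⟩)
      ⟨0, by rw [mul_zero, mul_zero]⟩ h3
    rw [hW, show φ (g i) ^ p.natDegree = φ (g i) ^ D' * φ (g i) by rw [hD', pow_succ], ← mul_add] at h2
    have h4 := hregp _ _ h2
    obtain ⟨v, hv⟩ := hdiv _ (Ideal.subset_span (Set.mem_insert_of_mem _ ⟨j, rfl⟩))
    rw [hv, eq_neg_of_add_eq_zero_right h4]
    exact ⟨_, by rw [neg_mul, ← mul_neg, mul_assoc]⟩
  choose d hd using hgj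
  have hspan : (Ideal.span (insert (algebraMap R A c) (Set.range g))).map φ = Ideal.span {algebraMap R D c} := by
    refine le_antisymm ?_ ?_
    · rw [Ideal.map_span, Ideal.span_le]
      rintro _ ⟨z, (rfl | ⟨j, rfl⟩), rfl⟩
      · rw [φ.commutes]; exact Ideal.mem_span_singleton_self _
      · rw [hd j]; exact Ideal.mul_mem_right _ _ (Ideal.mem_span_singleton_self _)
    · rw [Ideal.span_singleton_le_iff_mem, ← φ.commutes]
      exact Ideal.mem_map_of_mem φ (Ideal.subset_span (Set.mem_insert _ _))
  refine ⟨hspan, ?_⟩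
  let Φ : A ⊗[R] FractionRing R →ₐ[R] D ⊗[R] FractionRing R := Algebra.TensorProduct.map φ (AlgHom.id R _)
  have hΦ : ∀ a, Φ (algebraMap A (A ⊗[R] FractionRing R) a) = algebraMap D (D ⊗[R] FractionRing R) (φ a) :=
    fun a => Algebra.TensorProduct.map_tmul _ _ a 1
  have hunit : IsUnit (algebraMap R (D ⊗[R] FractionRing R) c) := by
    have h1 : IsUnit (algebraMap R (FractionRing R) c) :=
      (isUnit_iff_ne_zero).mpr ((map_ne_zero_iff _ (IsFractionRing.injective R (FractionRing R))).mpr hc)
    have h2 := h1.map (Algebra.TensorProduct.includeRight : FractionRing R →ₐ[R] D ⊗[R] FractionRing R)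
    rwa [AlgHom.commutes] at h2
  have hΦf : ∀ j, Φ (f j) = algebraMap D (D ⊗[R] FractionRing R) (d j) := fun j => by
    refine hunit.mul_left_cancel ?_
    rw [show algebraMap R (D ⊗[R] FractionRing R) c * Φ (f j) = Φ (c • f j) from by
      rw [map_smul, Algebra.algebraMap_eq_smul_one, smul_mul_assoc, one_mul], ← hg, hΦ, hd,
      IsScalarTower.algebraMap_apply R D (D ⊗[R] FractionRing R), ← map_mul]
  have hrange : ∀ x ∈ Algebra.adjoin A (Set.range f), ∃ y, algebraMap D (D ⊗[R] FractionRing R) y = Φ x := by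
    intro x hx
    induction hx using Algebra.adjoin_induction with
    | mem x hx => obtain ⟨j, rfl⟩ := hx; exact ⟨d j, (hΦf j).symm⟩
    | algebraMap a => exact ⟨φ a, (hΦ a).symm⟩
    | add x y _ _ hx hy =>
      obtain ⟨u, hu⟩ := hx; obtain ⟨v, hv⟩ := hy
      exact ⟨u + v, by rw [map_add, map_add, hu, hv]⟩
    | mul x y _ _ hx hy =>
      obtain ⟨u, hu⟩ := hx; obtain ⟨v, hv⟩ := hy
      exact ⟨u * v, by rw [map_mul, map_mul, hu, hv]⟩
  choose y hy using fun x : ↥(Algebra.adjoin A (Set.range f)) => hrange x.1 x.2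
  refine ⟨{ toFun := y
            map_one' := hiD (by rw [hy, map_one]; exact map_one Φ)
            map_zero' := hiD (by rw [hy, map_zero]; exact map_zero Φ)
            map_add' := fun a b => hiD (by rw [hy, map_add, hy, hy]; exact map_add Φ _ _)
            map_mul' := fun a b => hiD (by rw [hy, map_mul, hy, hy]; exact map_mul Φ _ _)
            commutes' := fun r => hiD (by rw [hy, ← IsScalarTower.algebraMap_apply]; exact Φ.commutes r) },
    AlgHom.ext fun a => hiD ((hy _).trans (hΦ a)), fun ψ hψ => AlgHom.ext fun x => ?_⟩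
  have key : ∀ x (hx : x ∈ Algebra.adjoin A (Set.range f)),
      algebraMap D (D ⊗[R] FractionRing R) (ψ ⟨x, hx⟩) = Φ x := by
    intro x hx
    induction hx using Algebra.adjoin_induction with
    | mem x hx =>
      obtain ⟨j, rfl⟩ := hx
      rw [hΦf]
      congr 1
      refine sub_eq_zero.mp (hreg hD.2 _ ?_)
      rw [mul_sub, ← hd, sub_eq_zero, ← ψ.commutes, ← map_mul, ← AlgHom.congr_fun hψ (g j)]
      refine congrArg ψ (Subtype.ext ?_)
      change algebraMap R (A ⊗[R] FractionRing R) c * f j = algebraMap A _ (g j)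
      rw [hg, Algebra.algebraMap_eq_smul_one, smul_mul_assoc, one_mul]
    | algebraMap a => rw [hΦ]; exact congrArg _ (AlgHom.congr_fun hψ a)
    | add x z hx hz ihx ihz =>
      rw [map_add Φ, ← ihx, ← ihz, ← map_add, ← map_add]; rfl
    | mul x z hx hz ihx ihz =>
      rw [map_mul Φ, ← ihx, ← ihz, ← map_mul, ← map_mul]; rfl
  exact hiD ((key x.1 x.2).trans (hy x).symm)

end Groth.Agent.S13353
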