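import Groth.Statements.S13354
import Groth.Agent.H24Val.Points

set_option autoImplicit false
set_option linter.style.haveILetI false
universe u
open AdicRing

namespace Groth.Agent.S13354

/-- Let R be a complete valuation ring of height one with t a nonzero element generating an ideal of
definition, B an admissible R-algebra which is a local integral domain of Krull dimension one (the
algebra of a rig-point), and b_1, ..., b_n elements of B, not all zero. Then there is a B-subalgebra
B' of the field of fractions of B which is finite over B, is again a local ring of Krull dimension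
one, and in which the ideal generated by b_1, ..., b_n is generated by one of the b_i alone (hence
is invertible). (This is the algebraic step by which a rig-point is lifted along the formal
blowing-up of a finitely generated open ideal; the resulting bijection between rig-points of the
blowing-up and of the base is not stated here.) -/
theorem result
    (R : Type u) [CommRing R] [IsDomain R] [ValuationRing R] [Ring.KrullDimLE 1 R]
    (t : R) (ht : t ≠ 0) [IsAdicComplete (Ideal.span {t}) R]
    (B : Type u) [CommRing B] [Algebra R B] [IsDomain B] [IsLocalRing B]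
    (hB : AdicRing.Admissible R (Ideal.span {t}) B) (hdim : ringKrullDim B = 1)
    (n : ℕ) (b : Fin n → B) (hb : ∃ i, b i ≠ 0) :
    ∃ B' : Subalgebra B (FractionRing B), Module.Finite B ↥B' ∧ IsLocalRing ↥B' ∧ ringKrullDim ↥B' = 1 ∧
      ∃ i, Ideal.span (Set.range (fun j => algebraMap B ↥B' (b j))) =
        Ideal.span {algebraMap B ↥B' (b i)} := by
  classical
  haveI : IsLocalRing R := Groth.Agent.H24Val.isLocalRing_of_pre R
  have hBft : TopFiniteType R (Ideal.span {t}) B := by
    obtain ⟨l, ψ, hψ, -⟩ := hB.1
    exact ⟨l, ψ, hψ⟩
  haveI : Module.Finite R B := Groth.Agent.H24Val.finite_of_admissible_local ht hBft hB.2 hdim.le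
  haveI : ValuationRing (integralClosure B (FractionRing B)) :=
    Groth.Agent.H24Val.valuationRing_integralClosure ht hB.2
  let V := integralClosure B (FractionRing B)
  have hBV : Function.Injective (algebraMap B V) := fun a c h =>
    IsFractionRing.injective B (FractionRing B) (congrArg Subtype.val h)
  obtain ⟨i₁, hi₁⟩ := hb
  obtain ⟨e, he, hall⟩ := Groth.Agent.H24Val.exists_dvd_all (Finset.univ.image fun j => algebraMap B V (b j))
    ⟨_, Finset.mem_image_of_mem _ (Finset.mem_univ i₁)⟩
  obtain ⟨i, -, rfl⟩ := Finset.mem_image.mp he
  choose q hq using fun j => hall _ (Finset.mem_image_of_mem (fun j => algebraMap B V (b j)) (Finset.mem_univ j))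
  let B' := Algebra.adjoin B (Set.range fun j => (q j : FractionRing B))
  have hBV' : B' ≤ V := Algebra.adjoin_le (by rintro _ ⟨j, rfl⟩; exact (q j).2)
  haveI hfin : Module.Finite B B' :=
    Algebra.finite_adjoin_of_finite_of_isIntegral (Set.finite_range _) (by rintro _ ⟨j, rfl⟩; exact (q j).2)
  letI : Algebra B' V := (Subalgebra.inclusion hBV').toRingHom.toAlgebra
  haveI : IsScalarTower B B' V := IsScalarTower.of_algebraMap_eq fun x => rfl
  haveI : Algebra.IsIntegral B' V := Algebra.IsIntegral.tower_top (R := B)
  haveI : Module.Finite R B' := Module.Finite.trans B B'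
  have hinj : Function.Injective (algebraMap R B') := fun a c h =>
    Groth.Agent.H24Val.injective_algebraMap (R := R) (t := t) hB.2
      (IsFractionRing.injective B (FractionRing B)
        (by rw [← IsScalarTower.algebraMap_apply, ← IsScalarTower.algebraMap_apply]; exact congrArg Subtype.val h))
  refine ⟨B', hfin, ?_, Groth.Agent.H24Val.ringKrullDim_eq_one_of_isIntegral hinj
    (Groth.Agent.H24Val.not_isField_base ht), i, le_antisymm (Ideal.span_le.mpr ?_)
    (Ideal.span_mono (by rintro _ rfl; exact ⟨i, rfl⟩))⟩
  · refine IsLocalRing.of_unique_max_ideal ⟨(IsLocalRing.maximalIdeal V).comap (algebraMap B' V),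
      Ideal.isMaximal_comap_of_isIntegral_of_isMaximal _, fun M hM => ?_⟩
    obtain ⟨Q, hQ, hQM⟩ := Ideal.exists_ideal_over_maximal_of_isIntegral (S := V) M (fun x hx => by
      have : x = 0 := (Subalgebra.inclusion_injective hBV') ((RingHom.mem_ker.mp hx).trans (map_zero _).symm)
      rw [this]
      exact zero_mem M)
    rw [← hQM, IsLocalRing.eq_maximalIdeal hQ]
  · rintro _ ⟨j, rfl⟩
    rw [SetLike.mem_coe, Ideal.mem_span_singleton]
    exact ⟨⟨(q j : FractionRing B), Algebra.subset_adjoin ⟨j, rfl⟩⟩, Subtype.ext (congrArg (fun v : integralClosure B (FractionRing B) => (v : FractionRing B)) (hq j) :)⟩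

end Groth.Agent.S13354
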