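import Groth.Statements.S13355
import Mathlib
import Groth.Agent.H23Ga.Char

set_option autoImplicit false
universe u
open GaDual

namespace Groth.Agent.S13355

/-- Over a commutative algebra A over the rationals, the formal characters (power series with constant
term 1 satisfying χ(X+Y) = χ(X)χ(Y) in two variables) are exactly the power series exp(aX) for a in
A. -/
theorem result (A : Type u) [CommRing A] [Algebra ℚ A] (χ : PowerSeries A) :
    (PowerSeries.constantCoeff χ = 1 ∧
      PowerSeries.subst (MvPowerSeries.X 0 + MvPowerSeries.X 1 : MvPowerSeries (Fin 2) A) χ =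
        PowerSeries.subst (MvPowerSeries.X 0 : MvPowerSeries (Fin 2) A) χ *
          PowerSeries.subst (MvPowerSeries.X 1 : MvPowerSeries (Fin 2) A) χ) ↔
      ∃ a : A, χ = PowerSeries.rescale a (PowerSeries.exp A) := by
  have hdp : ∀ c : ℕ → A, Groth.Agent.H23Ga.IsDP c → ∀ n, c n = algebraMap ℚ A (1 / n.factorial) * c 1 ^ n := by
    intro c hc n
    induction n with
    | zero => simp [hc.1]
    | succ n ih =>
      have h2 := hc.2 1 n
      rw [add_comm 1 n, Nat.choose_one_right] at h2
      have hne : ((n + 1 : ℕ) : ℚ) ≠ 0 := Nat.cast_ne_zero.2 (Nat.succ_ne_zero n)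
      have h3 : c (n + 1) = algebraMap ℚ A (1 / (n + 1 : ℕ)) * (c 1 * c n) := by
        rw [h2, ← mul_assoc, ← map_natCast (algebraMap ℚ A), ← map_mul, one_div, inv_mul_cancel₀ hne, map_one, one_mul]
      rw [h3, ih, Nat.factorial_succ, Nat.cast_mul, ← one_div_mul_one_div, map_mul, pow_succ]
      ring
  have hexp : ∀ a : A, Groth.Agent.H23Ga.IsDP fun n => PowerSeries.coeff n (PowerSeries.rescale a (PowerSeries.exp A)) := by
    intro a
    refine ⟨by simp, fun i j => ?_⟩
    simp only [PowerSeries.coeff_rescale, PowerSeries.coeff_exp, pow_add]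
    have hq : (1 / (i.factorial : ℚ)) * (1 / (j.factorial : ℚ)) = ((i + j).choose i : ℚ) * (1 / ((i + j).factorial : ℚ)) := by
      rw [← Nat.choose_mul_factorial_mul_factorial (show i ≤ i + j by omega), Nat.add_sub_cancel_left]
      have h1 := Nat.factorial_ne_zero i
      have h2 := Nat.factorial_ne_zero j
      have h3 := (Nat.choose_pos (show i ≤ i + j by omega)).ne'
      push_cast
      field_simp
    have := congrArg (algebraMap ℚ A) hq
    rw [map_mul, map_mul, map_natCast] at this
    linear_combination a ^ i * a ^ j * this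
  rw [Groth.Agent.H23Ga.isDP_iff_series]
  constructor
  · intro h
    refine ⟨PowerSeries.coeff 1 χ, PowerSeries.ext fun n => ?_⟩
    rw [hdp _ h n, PowerSeries.coeff_rescale, PowerSeries.coeff_exp, mul_comm]
  · rintro ⟨a, rfl⟩
    exact hexp a

end Groth.Agent.S13355
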