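import Groth.Statements.S13356
import Mathlib
import Groth.Agent.H23Ga.Char

set_option autoImplicit false
universe u
open GaDual

namespace Groth.Agent.S13356

/-- Over a commutative algebra A over the rationals, the polynomials f with f(0) = 1 and f(X+Y) =
f(X)f(Y) (the characters of the additive group into the multiplicative group over A) are exactly the
polynomials exp(aX) with a in A nilpotent. -/
theorem result (A : Type u) [CommRing A] [Algebra ℚ A] (f : Polynomial A) :
    (f.eval 0 = 1 ∧
      Polynomial.aeval (MvPolynomial.X 0 + MvPolynomial.X 1 : MvPolynomial (Fin 2) A) f =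
        Polynomial.aeval (MvPolynomial.X 0 : MvPolynomial (Fin 2) A) f *
          Polynomial.aeval (MvPolynomial.X 1 : MvPolynomial (Fin 2) A) f) ↔
      ∃ a : A, IsNilpotent a ∧ (f : PowerSeries A) = PowerSeries.rescale a (PowerSeries.exp A) := by
  have hdp : ∀ c : ℕ → A, Groth.Agent.H23Ga.IsDP c → ∀ n, c n = algebraMap ℚ A (1 / n.factorial) * c 1 ^ n := by
    intro c hc n
    induction n with
    | zero => simp [hc.1]
    | succ n ih =>
      have h2 := hc.2 1 n
      rw [add_comm 1 n, Nat.choose_one_right] at h2
      have hne : ((n + 1 : ℕ) : ℚ) ≠ 0 := Nat.cast_ne_zero.2 (Nat.succ_ne_zero n)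
      have h3 : c (n + 1) = algebraMap ℚ A (1 / (n + 1 : ℕ)) * (c 1 * c n) := by
        rw [h2, ← mul_assoc, ← map_natCast (algebraMap ℚ A), ← map_mul, one_div, inv_mul_cancel₀ hne, map_one, one_mul]
      rw [h3, ih, Nat.factorial_succ, Nat.cast_mul, ← one_div_mul_one_div, map_mul, pow_succ]
      ring
  have hexp : ∀ a : A, Groth.Agent.H23Ga.IsDP fun n => PowerSeries.coeff n (PowerSeries.rescale a (PowerSeries.exp A)) := by
    intro a
    refine ⟨by simp, fun i j => ?_⟩
    simp only [PowerSeries.coeff_rescale, PowerSeries.coeff_exp, pow_add]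
    have hq : (1 / (i.factorial : ℚ)) * (1 / (j.factorial : ℚ)) = ((i + j).choose i : ℚ) * (1 / ((i + j).factorial : ℚ)) := by
      rw [← Nat.choose_mul_factorial_mul_factorial (show i ≤ i + j by omega), Nat.add_sub_cancel_left]
      have h1 := Nat.factorial_ne_zero i
      have h2 := Nat.factorial_ne_zero j
      have h3 := (Nat.choose_pos (show i ≤ i + j by omega)).ne'
      push_cast
      field_simp
    have := congrArg (algebraMap ℚ A) hq
    rw [map_mul, map_mul, map_natCast] at this
    linear_combination a ^ i * a ^ j * this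
  rw [Groth.Agent.H23Ga.isDP_iff_poly]
  constructor
  · intro h
    refine ⟨f.coeff 1, ⟨f.natDegree + 1, ?_⟩, PowerSeries.ext fun n => ?_⟩
    · have hz := hdp _ h (f.natDegree + 1)
      rw [Polynomial.coeff_eq_zero_of_natDegree_lt (Nat.lt_succ_self _)] at hz
      have hu : IsUnit (algebraMap ℚ A (1 / ((f.natDegree + 1).factorial : ℚ))) :=
        (IsUnit.mk0 _ (one_div_ne_zero (Nat.cast_ne_zero.2 (Nat.factorial_ne_zero _)))).map _
      exact hu.mul_right_eq_zero.1 hz.symm
    · rw [Polynomial.coeff_coe, hdp _ h n, PowerSeries.coeff_rescale, PowerSeries.coeff_exp, mul_comm]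
  · rintro ⟨a, -, ha⟩
    have h := hexp a
    simp only [← ha, Polynomial.coeff_coe] at h
    exact h

end Groth.Agent.S13356
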