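import Groth.Statements.S13361
import Mathlib.GroupTheory.FiniteAbelian.Basic

set_option autoImplicit false
universe u
open ProCompl

namespace Groth.Agent.S13361

/-- A finite abelian group with a nonzero element contained in every nonzero subgroup is isomorphic to a
cyclic group of prime-power order Z/p^n. -/
theorem result {A : Type u} [AddCommGroup A] [Finite A]
    (a : A) (ha : a ≠ 0) (h : ∀ B : AddSubgroup A, B ≠ ⊥ → a ∈ B) :
    ∃ p n : ℕ, p.Prime ∧ Nonempty (A ≃+ ZMod (p ^ n)) := by
  classical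
  obtain ⟨ι, _, p, hp, e, ⟨φ⟩⟩ := AddCommGroup.equiv_directSum_zmod_of_finite A
  have hsub : ∀ i, e i ≠ 0 → ∀ j, e j ≠ 0 → i = j := by
    intro i hi j hj
    by_contra hij
    have hrng : ∀ k, e k ≠ 0 → φ a ∈ (DirectSum.of (fun l => ZMod (p l ^ e l)) k).range := by
      intro k hk
      haveI : Fact (1 < p k ^ e k) := ⟨Nat.one_lt_pow hk (hp k).one_lt⟩
      refine h ((DirectSum.of (fun l => ZMod (p l ^ e l)) k).range.comap φ.toAddMonoidHom) ?_
      intro hbot
      have hmem : φ.symm (DirectSum.of (fun l => ZMod (p l ^ e l)) k 1) ∈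
          ((DirectSum.of (fun l => ZMod (p l ^ e l)) k).range.comap φ.toAddMonoidHom) := by
        simp
      rw [hbot, AddSubgroup.mem_bot, map_eq_zero_iff _ φ.symm.injective] at hmem
      exact one_ne_zero (DirectSum.of_injective (β := fun l => ZMod (p l ^ e l)) k
        (hmem.trans (map_zero _).symm))
    refine ha ((map_eq_zero_iff _ φ.injective).1 (DFinsupp.ext fun l => ?_))
    obtain ⟨x, hx⟩ := hrng i hi
    obtain ⟨y, hy⟩ := hrng j hj
    rw [DirectSum.zero_apply]
    by_cases hli : l = i
    · subst hli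
      rw [← hy, DirectSum.of_eq_of_ne _ _ _ hij]
    · rw [← hx, DirectSum.of_eq_of_ne _ _ _ hli]
  have hex : ∃ i, e i ≠ 0 := by
    by_contra hall
    push Not at hall
    refine ha ((map_eq_zero_iff _ φ.injective).1 (DFinsupp.ext fun l => ?_))
    haveI : Subsingleton (ZMod (p l ^ e l)) := by rw [hall l, pow_zero]; infer_instance
    exact Subsingleton.elim _ _
  obtain ⟨i, hi⟩ := hex
  refine ⟨p i, e i, hp i, ⟨φ.trans ?_⟩⟩
  refine AddEquiv.ofBijective (DFinsupp.evalAddMonoidHom (β := fun l => ZMod (p l ^ e l)) i) ⟨?_, ?_⟩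
  · intro x y hxy
    refine DFinsupp.ext fun l => ?_
    by_cases hli : l = i
    · subst hli
      exact hxy
    · haveI : Subsingleton (ZMod (p l ^ e l)) := by
        rw [not_ne_iff.1 (fun hl => hli (hsub l hl i hi)), pow_zero]
        infer_instance
      exact Subsingleton.elim _ _
  · intro z
    exact ⟨DirectSum.of (fun l => ZMod (p l ^ e l)) i z, DirectSum.of_eq_same (β := fun l => ZMod (p l ^ e l)) i z⟩

end Groth.Agent.S13361
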