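import Groth.Statements.S13362
import Mathlib.Data.Nat.Prime.Int
import Mathlib.Data.Int.GCD
import Mathlib.RingTheory.PrincipalIdealDomain
import Mathlib.RingTheory.Int.Basic
import Mathlib.GroupTheory.Exponent
import Mathlib.GroupTheory.OrderOfElement
import Mathlib.Data.ZMod.QuotientGroup
import Mathlib.SetTheory.Cardinal.Finite
import Mathlib.Algebra.Group.Subgroup.ZPowers.Lemmas

set_option autoImplicit false
universe u
open ProCompl

namespace Groth.Agent.S13362

/-- An abelian group of finite exponent having a nonzero element contained in every nonzero subgroup is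
finite. -/
theorem result {A : Type u} [AddCommGroup A]
    (hA : AddMonoid.exponent A ≠ 0) (a : A) (ha : a ≠ 0) (h : ∀ B : AddSubgroup A, B ≠ ⊥ → a ∈ B) :
    Finite A := by
  have hfa : Finite (AddSubgroup.zmultiples a) := by
    have ho : 0 < addOrderOf a :=
      (AddMonoid.ExponentExists.isOfFinAddOrder (AddMonoid.exponent_ne_zero.1 hA)).addOrderOf_pos
    exact Nat.finite_of_card_ne_zero (by rw [Nat.card_zmultiples a]; exact ho.ne')
  have hp : ∀ p : ℕ, p.Prime → {x : A | p • x = 0}.Finite := by
    intro p hp
    refine (Set.toFinite (AddSubgroup.zmultiples a : Set A)).subset fun b hb => ?_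
    rcases eq_or_ne b 0 with rfl | hb0
    · exact zero_mem _
    obtain ⟨k, hk⟩ := AddSubgroup.mem_zmultiples_iff.1
      (h (AddSubgroup.zmultiples b) (by simpa using hb0))
    have hpk : ¬ (p : ℤ) ∣ k := by
      rintro ⟨c, rfl⟩
      refine ha ?_
      rw [← hk, mul_comm, mul_smul, natCast_zsmul, show p • b = 0 from hb, smul_zero]
    obtain ⟨s, t, hst⟩ := (((Nat.prime_iff_prime_int.1 hp : Prime (p : ℤ))).coprime_iff_not_dvd.2 hpk)
    refine AddSubgroup.mem_zmultiples_iff.2 ⟨t, ?_⟩
    have hpb : (p : ℤ) • b = 0 := by rw [natCast_zsmul]; exact hb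
    calc t • a = (t * k) • b := by rw [mul_smul, hk]
      _ = (s * (p : ℤ) + t * k) • b := by rw [add_smul, mul_smul s, hpb, smul_zero, zero_add]
      _ = b := by rw [hst, one_smul]
  have key : ∀ n : ℕ, n ≠ 0 → {x : A | n • x = 0}.Finite := by
    intro n
    induction n using Nat.strong_induction_on with
    | _ n ih =>
      intro hn
      rcases eq_or_ne n 1 with rfl | h1
      · exact (Set.finite_singleton (0 : A)).subset fun x hx => by simpa using hx
      obtain ⟨p, hpp, m, rfl⟩ := Nat.exists_prime_and_dvd h1
      have hm0 : m ≠ 0 := fun h0 => hn (by simp [h0])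
      have hml : m < p * m := lt_mul_of_one_lt_left (Nat.pos_of_ne_zero hm0) hpp.one_lt
      refine Set.Finite.of_finite_fibers (fun x : A => p • x) ((ih m hml hm0).subset ?_) ?_
      · rintro _ ⟨x, hx, rfl⟩
        show m • (p • x) = 0
        rw [← mul_smul, mul_comm]
        exact hx
      · rintro _ ⟨x, hx, rfl⟩
        refine ((hp p hpp).image (x + ·)).subset ?_
        rintro y ⟨-, hy⟩
        refine ⟨y - x, ?_, add_sub_cancel x y⟩
        show p • (y - x) = 0
        rw [smul_sub, show p • y = p • x from hy, sub_self]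
  exact Set.finite_univ_iff.1 ((key _ hA).subset fun x _ => AddMonoid.exponent_nsmul_eq_zero x)

end Groth.Agent.S13362
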