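import Groth.Statements.S13363
import Groth.Agent.S13362
import Mathlib.GroupTheory.Index
import Mathlib.Order.Zorn
import Mathlib.Topology.Algebra.OpenSubgroup

set_option autoImplicit false
universe u
open ProCompl

namespace Groth.Agent.S13363

/-- Let A be a topological abelian group such that the subgroup n·A is open for each n > 0, and a ∈ A.
Then A has an open subgroup of finite index not containing a if and only if a does not lie in the
subgroup of divisible elements ∩_n nA. -/
theorem result {A : Type u} [AddCommGroup A]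
    [TopologicalSpace A] [IsTopologicalAddGroup A]
    (hn : ∀ n : ℕ, 0 < n → IsOpen (Set.range (fun x : A => n • x))) (a : A) :
    (∃ B : AddSubgroup A, IsOpen (B : Set A) ∧ B.FiniteIndex ∧ a ∉ B) ↔
      ¬ (∀ n : ℕ, 0 < n → ∃ b : A, n • b = a) := by
  constructor
  · rintro ⟨B, -, hfi, haB⟩ hdiv
    obtain ⟨b, rfl⟩ := hdiv B.index (Nat.pos_of_ne_zero hfi.index_ne_zero)
    exact haB (B.nsmul_index_mem b)
  · intro hdiv
    push Not at hdiv
    obtain ⟨n, hn0, hna⟩ := hdiv
    let nA : AddSubgroup A := (nsmulAddMonoidHom n).range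
    have hanA : a ∉ nA := fun ⟨b, hb⟩ => hna b hb
    obtain ⟨M, hM, hmax⟩ := zorn_le_nonempty₀ {B : AddSubgroup A | nA ≤ B ∧ a ∉ B}
      (fun c hc hchain y hy => ⟨sSup c, ⟨(hc hy).1.trans (le_sSup hy), fun ha => by
        rw [AddSubgroup.mem_sSup_of_directedOn ⟨y, hy⟩ hchain.directedOn] at ha
        obtain ⟨B, hB, haB⟩ := ha
        exact (hc hB).2 haB⟩, fun z hz => le_sSup hz⟩) nA ⟨le_rfl, hanA⟩
    obtain ⟨⟨hnM, haM⟩, hmax'⟩ : (nA ≤ M ∧ a ∉ M) ∧
        ∀ B : AddSubgroup A, nA ≤ B → a ∉ B → M ≤ B → B ≤ M :=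
      ⟨hmax.prop, fun B h1 h2 h3 => hmax.le_of_ge ⟨h1, h2⟩ h3⟩
    have hfin : Finite (A ⧸ M) := by
      refine Groth.Agent.S13362.result ?_ (QuotientAddGroup.mk a : A ⧸ M)
        (fun h0 => haM ((QuotientAddGroup.eq_zero_iff a).1 h0)) ?_
      · refine AddMonoid.exponent_ne_zero.2 ⟨n, hn0, fun q => ?_⟩
        obtain ⟨x, rfl⟩ := QuotientAddGroup.mk_surjective q
        rw [← QuotientAddGroup.mk_nsmul]
        exact (QuotientAddGroup.eq_zero_iff _).2 (hnM ⟨x, rfl⟩)
      · intro C hC
        by_contra hne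
        have h1 : M ≤ C.comap (QuotientAddGroup.mk' M) := fun x hx => by
          rw [AddSubgroup.mem_comap, QuotientAddGroup.mk'_apply, (QuotientAddGroup.eq_zero_iff x).2 hx]
          exact zero_mem _
        have h2 := hmax' _ (hnM.trans h1) (by simpa using hne) h1
        refine hC ((AddSubgroup.eq_bot_iff_forall C).2 fun q hq => ?_)
        obtain ⟨x, rfl⟩ := QuotientAddGroup.mk_surjective q
        exact (QuotientAddGroup.eq_zero_iff x).2 (h2 hq)
    refine ⟨M, AddSubgroup.isOpen_mono hnM (hn n hn0), ?_, haM⟩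
    exact M.finiteIndex_of_finite_quotient

end Groth.Agent.S13363
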