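import Groth.Statements.S13365
import Mathlib.Topology.Algebra.ClopenNhdofOne
import Mathlib.Topology.Algebra.Group.Quotient

set_option autoImplicit false
universe u
open ProCompl

namespace Groth.Agent.S13365

/-- The quotient of a profinite (compact, Hausdorff, totally disconnected) abelian topological group by
a compact subgroup is profinite. -/
theorem result {A : Type u} [AddCommGroup A] [TopologicalSpace A]
    [IsTopologicalAddGroup A] [CompactSpace A] [T2Space A] [TotallyDisconnectedSpace A]
    (B : AddSubgroup A) (hB : IsCompact (B : Set A)) :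
    CompactSpace (A ⧸ B) ∧ T2Space (A ⧸ B) ∧ TotallyDisconnectedSpace (A ⧸ B) := by
  haveI : IsClosed (B : Set A) := hB.isClosed
  haveI : T2Space (A ⧸ B) := inferInstance
  refine ⟨inferInstance, inferInstance, ?_⟩
  suffices TotallySeparatedSpace (A ⧸ B) from inferInstance
  refine totallySeparatedSpace_iff_exists_isClopen.2 fun q r hqr => ?_
  obtain ⟨N, hN⟩ := ProfiniteGrp.exist_openNormalAddSubgroup_sub_open_nhds_of_zero
    (U := (fun x : A => (QuotientAddGroup.mk x : A ⧸ B) + q) ⁻¹' {r}ᶜ)
    (isOpen_compl_singleton.preimage (by fun_prop)) (by simpa using hqr)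
  let V : AddSubgroup (A ⧸ B) := N.toAddSubgroup.map (QuotientAddGroup.mk' B)
  have hVo : IsOpen (V : Set (A ⧸ B)) := QuotientAddGroup.isOpenMap_coe _ N.isOpen'
  have hVc : IsClopen (V : Set (A ⧸ B)) := ⟨V.isClosed_of_isOpen hVo, hVo⟩
  refine ⟨(fun z => z - q) ⁻¹' V, hVc.preimage (by fun_prop), by simp, ?_⟩
  rintro ⟨x, hx, hxr⟩
  exact hN hx (eq_sub_iff_add_eq.1 (show (QuotientAddGroup.mk x : A ⧸ B) = r - q from hxr))

end Groth.Agent.S13365
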