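import Groth.Statements.S13366
import Mathlib
import Groth.Agent.H9Frob.LangHenselian
-- import your own Groth.Agent.* helpers here

set_option autoImplicit false
universe u v
open FrobMod

namespace Groth.Agent.S13366

/-- Over a strictly Henselian local ring R of prime characteristic p (Henselian, separably closed
residue field), let M be a free module of finite rank n and T an additive Frobenius-semilinear
self-map of M (T(rm) = r^p T(m)) whose values generate M as an R-module; for a basis (e_i) this says
that the matrix of coefficients of the elements T(e_i) is invertible. Then the map T − 1 is
surjective and its kernel has cardinality p^n. (The published statement calls T a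
Frobenius-semilinear isomorphism; this row asks only that the values of T generate M over R, which
is the property of T the published proof uses. Requiring T itself to be bijective would, for M ≠ 0,
force the Frobenius of R to be surjective.) -/
theorem result (p : ℕ) [Fact p.Prime] {R : Type u} [CommRing R]
    [HenselianLocalRing R] [IsSepClosed (IsLocalRing.ResidueField R)] [CharP R p]
    {M : Type v} [AddCommGroup M] [Module R M] [Module.Free R M] [Module.Finite R M]
    (T : M →+ M) (hT : ∀ (r : R) (m : M), T (r • m) = r ^ p • T m)
    (hspan : Submodule.span R (Set.range T) = ⊤) :
    Function.Surjective (fun m => T m - m) ∧ Nat.card {m : M // T m = m} = p ^ Module.finrank R M := by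
  exact H9Frob.lang_henselian p T hT hspan

end Groth.Agent.S13366
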