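import Groth.Statements.S13367
import Mathlib
import Groth.Agent.H9Frob.LangHenselian
-- import your own Groth.Agent.* helpers here

set_option autoImplicit false
universe u v
open FrobMod

namespace Groth.Agent.S13367

/-- Over a strictly Henselian discrete valuation ring R of prime characteristic p with residue field κ,
for a finitely generated module M with n = dim_κ(κ ⊗ M) and a Frobenius-semilinear additive
bijection T of M (T(rm) = r^p T(m)), the map T − 1 is surjective and its kernel has cardinality p^n. -/
theorem result (p : ℕ) [Fact p.Prime] {R : Type u} [CommRing R] [IsDomain R]
    [IsDiscreteValuationRing R] [HenselianLocalRing R] [IsSepClosed (IsLocalRing.ResidueField R)] [CharP R p]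
    {M : Type v} [AddCommGroup M] [Module R M] [Module.Finite R M]
    (T : M →+ M) (hT : ∀ (r : R) (m : M), T (r • m) = r ^ p • T m) (hbij : Function.Bijective T) :
    Function.Surjective (fun m => T m - m) ∧
      Nat.card {m : M // T m = m} =
        p ^ Module.finrank (IsLocalRing.ResidueField R) (TensorProduct R (IsLocalRing.ResidueField R) M) := by
  exact H9Frob.lang_of_bijective p T hT hbij

end Groth.Agent.S13367
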