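import Groth.Statements.S13368
import Mathlib.Algebra.CharP.Algebra
import Mathlib.Algebra.CharP.Lemmas
import Mathlib.RingTheory.UniqueFactorizationDomain.Multiplicity
import Mathlib.LinearAlgebra.FiniteDimensional.Lemmas
import Mathlib.RingTheory.Kaehler.Basic
import Mathlib.Tactic.LinearCombination

set_option autoImplicit false
universe u
open GaDual

namespace Groth.Agent.S13368

/-- Let R be a discrete valuation ring of prime characteristic p whose fraction field k has degree p
over its subfield k^p of p-th powers, and π a uniformizer. Then every element of R is, in a unique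
way, a sum of π^i c_i^p over 0 ≤ i < p with c_i in R, and the Kähler differentials of R (absolute,
i.e. over the integers, equivalently over the prime field) form a free module of rank one generated
by dπ. -/
theorem result (p : ℕ) [Fact p.Prime] {R : Type u} [CommRing R]
    [IsDomain R] [IsDiscreteValuationRing R] [CharP R p]
    (kp : Subfield (FractionRing R)) (hkp : ∀ x : FractionRing R, x ∈ kp ↔ ∃ y : FractionRing R, y ^ p = x)
    (hdeg : Module.finrank kp (FractionRing R) = p)
    (π : R) (hπ : Irreducible π) :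
    (∀ r : R, ∃! c : Fin p → R, r = ∑ i : Fin p, π ^ (i : ℕ) * c i ^ p) ∧
      Function.Bijective (fun r : R => r • KaehlerDifferential.D ℤ R π) := by
  classical
  have hp : p.Prime := Fact.out
  have hπ' : Prime π := hπ.prime
  have hπ0 : π ≠ 0 := hπ.ne_zero
  haveI : CharP (FractionRing R) p := charP_of_injective_algebraMap (IsFractionRing.injective R (FractionRing R)) p
  haveI : ExpChar R p := ExpChar.prime hp
  -- divisibility of the digits
  have hstep : ∀ c : Fin p → R, π ^ p ∣ ∑ i : Fin p, π ^ (i : ℕ) * c i ^ p → ∀ i, π ∣ c i := by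
    intro c hc i
    induction hn : (i : ℕ) using Nat.strong_induction_on generalizing i with
    | _ n ih =>
    have h1 : π ^ (n + 1) ∣ π ^ (i : ℕ) * c i ^ p := by
      rw [Finset.sum_eq_sum_sdiff_singleton_add (Finset.mem_univ i)] at hc
      have h2 : π ^ (n + 1) ∣ ∑ j ∈ Finset.univ \ {i}, π ^ (j : ℕ) * c j ^ p := by
        refine Finset.dvd_sum fun j hj => ?_
        rw [Finset.mem_sdiff, Finset.mem_singleton] at hj
        rcases lt_trichotomy (j : ℕ) n with hlt | heq | hgt
        · exact dvd_mul_of_dvd_right ((pow_dvd_pow π (show n + 1 ≤ p by omega)).trans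
            (pow_dvd_pow_of_dvd (ih _ hlt j rfl) p)) _
        · exact absurd (Fin.ext (heq.trans hn.symm)) hj.2
        · exact dvd_mul_of_dvd_left (pow_dvd_pow π hgt) _
      exact (dvd_add_right h2).mp ((pow_dvd_pow π (show n + 1 ≤ p by omega)).trans hc)
    rw [hn, pow_succ] at h1
    exact hπ'.dvd_of_dvd_pow ((mul_dvd_mul_iff_left (pow_ne_zero n hπ0)).mp h1)
  have hdvd : ∀ (N : ℕ) (c : Fin p → R), π ^ (p * N) ∣ ∑ i : Fin p, π ^ (i : ℕ) * c i ^ p → ∀ i, π ^ N ∣ c i := by
    intro N
    induction N with
    | zero => intro c _ i; simp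
    | succ N ih =>
      intro c hc i
      have h1 := hstep c ((pow_dvd_pow π (by simp [Nat.mul_succ])).trans hc)
      choose d hd using h1
      have h2 : (∑ i : Fin p, π ^ (i : ℕ) * c i ^ p) = π ^ p * ∑ i : Fin p, π ^ (i : ℕ) * d i ^ p := by
        rw [Finset.mul_sum]
        exact Finset.sum_congr rfl fun i _ => by rw [hd i, mul_pow]; ring
      rw [h2, Nat.mul_succ, add_comm, pow_add, mul_dvd_mul_iff_left (pow_ne_zero p hπ0)] at hc
      rw [hd i, pow_succ']
      exact mul_dvd_mul_left π (ih d hc i)
  have hzero : ∀ c : Fin p → R, ∑ i : Fin p, π ^ (i : ℕ) * c i ^ p = 0 → c = 0 := by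
    intro c hc
    funext i
    by_contra hne
    obtain ⟨n, hn⟩ := (FiniteMultiplicity.of_prime_left hπ' hne)
    exact hn (hdvd (n + 1) c (by rw [hc]; exact dvd_zero _) i)
  -- the powers of the uniformizer span the fraction field
  let K := FractionRing R
  haveI : Module.Finite kp K := Module.finite_of_finrank_pos (hdeg.symm ▸ hp.pos)
  have hclear : ∀ y : Fin p → K, ∃ (s : R) (c : Fin p → R), s ≠ 0 ∧ ∀ i, y i * algebraMap R K s = algebraMap R K (c i) := by
    intro y
    choose n d hd hnd using fun i => IsFractionRing.div_surjective R (y i)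
    refine ⟨∏ i, d i, fun i => n i * ∏ j ∈ Finset.univ.erase i, d j,
      Finset.prod_ne_zero_iff.mpr fun i _ => nonZeroDivisors.ne_zero (hd i), fun i => ?_⟩
    rw [← Finset.mul_prod_erase _ d (Finset.mem_univ i), map_mul, map_mul, ← hnd i, ← mul_assoc,
      div_mul_cancel₀ _ (IsFractionRing.to_map_ne_zero_of_mem_nonZeroDivisors (hd i))]
  have hroot : ∀ q : kp, ∃ y : K, y ^ p = q := fun q => (hkp q).mp q.2
  choose root hroot using hroot
  have hli : LinearIndependent kp fun i : Fin p => algebraMap R K π ^ (i : ℕ) := by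
    rw [Fintype.linearIndependent_iff]
    intro g hg i
    obtain ⟨s, c, hs, hc⟩ := hclear fun i => root (g i)
    have hsum : ∑ i : Fin p, π ^ (i : ℕ) * c i ^ p = 0 := by
      apply IsFractionRing.injective R K
      rw [map_sum, map_zero, ← zero_mul (algebraMap R K s ^ p), ← hg, Finset.sum_mul]
      refine Finset.sum_congr rfl fun i _ => ?_
      rw [map_mul, map_pow, map_pow, ← hc, mul_pow, hroot, Subfield.smul_def, smul_eq_mul]
      ring
    have h1 : root (g i) * algebraMap R K s = 0 := by rw [hc, hzero c hsum]; simp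
    have h2 := (mul_eq_zero.mp h1).resolve_right fun h => hs (IsFractionRing.injective R K (h.trans (map_zero _).symm))
    refine Subtype.ext ?_
    rw [← hroot (g i), h2, zero_pow hp.ne_zero]
    rfl
  have hspan : Submodule.span kp (Set.range fun i : Fin p => algebraMap R K π ^ (i : ℕ)) = ⊤ :=
    hli.span_eq_top_of_card_eq_finrank' (by rw [Fintype.card_fin]; exact hdeg.symm)
  have hex : ∀ r : R, ∃ c : Fin p → R, r = ∑ i : Fin p, π ^ (i : ℕ) * c i ^ p := by
    intro r
    obtain ⟨g, hg⟩ := (Submodule.mem_span_range_iff_exists_fun kp).mp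
      (show algebraMap R K r ∈ Submodule.span kp (Set.range fun i : Fin p => algebraMap R K π ^ (i : ℕ)) by
        rw [hspan]; trivial)
    obtain ⟨s, c, hs, hc⟩ := hclear fun i => root (g i)
    have hsum : s ^ p * r = ∑ i : Fin p, π ^ (i : ℕ) * c i ^ p := by
      apply IsFractionRing.injective R K
      rw [map_sum, map_mul, map_pow, ← hg, Finset.mul_sum]
      refine Finset.sum_congr rfl fun i _ => ?_
      rw [map_mul, map_pow, map_pow, ← hc, mul_pow, hroot, Subfield.smul_def, smul_eq_mul]
      ring
    obtain ⟨N, u, rfl⟩ := IsDiscreteValuationRing.eq_unit_mul_pow_irreducible hs hπ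
    have hd := hdvd N c ⟨(u : R) ^ p * r, by rw [← hsum, mul_pow, ← pow_mul, mul_comm N p]; ring⟩
    choose d hd using hd
    refine ⟨fun i => ↑u⁻¹ * d i, ?_⟩
    refine mul_left_cancel₀ (pow_ne_zero p (mul_ne_zero u.ne_zero (pow_ne_zero N hπ0))) ?_
    rw [hsum, Finset.mul_sum]
    refine Finset.sum_congr rfl fun i _ => ?_
    rw [hd i, mul_pow, mul_pow, mul_pow]
    have hu : (u : R) ^ p * (↑u⁻¹ : R) ^ p = 1 := by rw [← mul_pow, Units.mul_inv, one_pow]
    linear_combination -((π ^ N) ^ p * π ^ (i : ℕ) * d i ^ p) * hu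
  have huniq : ∀ c c' : Fin p → R,
      ∑ i : Fin p, π ^ (i : ℕ) * c i ^ p = ∑ i : Fin p, π ^ (i : ℕ) * c' i ^ p → c = c' := by
    intro c c' h
    refine sub_eq_zero.mp (hzero (c - c') ?_)
    simp only [Pi.sub_apply, sub_pow_expChar, mul_sub, Finset.sum_sub_distrib, h, sub_self]
  refine ⟨fun r => ?_, ?_⟩
  · obtain ⟨c, hc⟩ := hex r
    exact ⟨c, hc, fun c' hc' => huniq c' c (hc'.symm.trans hc)⟩
  -- the derivation
  choose C hC using hex
  have hCadd : ∀ r r' i, C (r + r') i = C r i + C r' i := fun r r' i => by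
    refine congrFun (huniq (C (r + r')) (fun i => C r i + C r' i) ?_) i
    rw [← hC (r + r')]
    simp only [add_pow_expChar, mul_add, Finset.sum_add_distrib, ← hC]
  let P : ℕ → R := fun n => (n : R) * π ^ (n - 1)
  have hPadd : ∀ a b, P (a + b) = π ^ a * P b + π ^ b * P a := by
    intro a b
    rcases a with _ | a
    · simp [P]
    rcases b with _ | b
    · simp [P]
    simp only [P, Nat.add_sub_cancel, show a + 1 + (b + 1) - 1 = a + b + 1 by omega]
    push_cast
    ring
  let δ : R → R := fun r => ∑ i : Fin p, P (i : ℕ) * C r i ^ p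
  have hδadd : ∀ r r', δ (r + r') = δ r + δ r' := fun r r' => by
    simp only [δ, hCadd, add_pow_expChar, mul_add, Finset.sum_add_distrib]
  have hδmon : ∀ (n : ℕ) (x : R), δ (π ^ n * x ^ p) = P n * x ^ p := by
    intro n x
    let i : Fin p := ⟨n % p, Nat.mod_lt n hp.pos⟩
    have hc : C (π ^ n * x ^ p) = Pi.single i (π ^ (n / p) * x) := by
      refine huniq _ _ ?_
      rw [← hC, Finset.sum_eq_single i]
      · rw [Pi.single_eq_same, mul_pow, ← pow_mul, ← mul_assoc, ← pow_add]
        congr 2
        simp only [i]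
        rw [mul_comm]
        exact (Nat.mod_add_div n p).symm
      · intro j _ hj; rw [Pi.single_eq_of_ne hj, zero_pow hp.ne_zero, mul_zero]
      · intro h; exact absurd (Finset.mem_univ i) h
    simp only [δ]
    rw [hc, Finset.sum_eq_single i]
    · rw [Pi.single_eq_same, mul_pow, ← pow_mul]
      simp only [P, i]
      rw [show ((n : ℕ) : R) = ((n % p : ℕ) : R) by
        conv_lhs => rw [← Nat.mod_add_div n p]
        rw [Nat.cast_add, Nat.cast_mul, CharP.cast_eq_zero R p, zero_mul, add_zero]]
      rcases Nat.eq_zero_or_pos (n % p) with h0 | hpos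
      · rw [h0]; simp
      · have he : n % p - 1 + n / p * p = n - 1 := by
          have := Nat.mod_add_div n p
          rw [mul_comm] at this
          omega
        rw [← he, pow_add]
        ring
    · intro j _ hj; rw [Pi.single_eq_of_ne hj, zero_pow hp.ne_zero, mul_zero]
    · intro h; exact absurd (Finset.mem_univ i) h
  let δ' : R →+ R := AddMonoidHom.mk' δ hδadd
  have hleib : ∀ r r', δ (r * r') = r * δ r' + r' * δ r := by
    intro r r'
    have hexp : r * r' = ∑ i : Fin p, ∑ j : Fin p, π ^ ((i : ℕ) + (j : ℕ)) * (C r i * C r' j) ^ p := by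
      conv_lhs => rw [hC r, hC r']
      rw [Finset.sum_mul_sum]
      exact Finset.sum_congr rfl fun i _ => Finset.sum_congr rfl fun j _ => by ring
    conv_lhs => rw [hexp, show δ = ⇑δ' from rfl]
    simp only [map_sum]
    show ∑ i : Fin p, ∑ j : Fin p, δ (π ^ ((i : ℕ) + (j : ℕ)) * (C r i * C r' j) ^ p) = _
    simp only [hδmon, hPadd]
    conv_rhs => rw [hC r, hC r']
    simp only [δ, ← hC r, ← hC r']
    rw [show r * ∑ i : Fin p, P (i : ℕ) * C r' i ^ p =
        ∑ i : Fin p, ∑ j : Fin p, π ^ (i : ℕ) * C r i ^ p * (P (j : ℕ) * C r' j ^ p) by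
          rw [← Finset.sum_mul_sum, ← hC r],
      show r' * ∑ i : Fin p, P (i : ℕ) * C r i ^ p =
        ∑ i : Fin p, ∑ j : Fin p, P (i : ℕ) * C r i ^ p * (π ^ (j : ℕ) * C r' j ^ p) by
          rw [← Finset.sum_mul_sum, ← hC r', mul_comm],
      ← Finset.sum_add_distrib]
    refine Finset.sum_congr rfl fun i _ => ?_
    rw [← Finset.sum_add_distrib]
    exact Finset.sum_congr rfl fun j _ => by ring
  let Δ : Derivation ℤ R R := Derivation.mk' δ'.toIntLinearMap fun a b => hleib a b
  have hΔπ : Δ π = 1 := by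
    show δ π = 1
    have := hδmon 1 1
    simpa [P] using this
  refine ⟨fun a b h => ?_, fun ω => ?_⟩
  · have := congrArg Δ.liftKaehlerDifferential h
    simpa [map_smul, hΔπ] using this
  · have hω : ω ∈ Submodule.span R (Set.range (KaehlerDifferential.D ℤ R)) := by
      rw [KaehlerDifferential.span_range_derivation]; trivial
    induction hω using Submodule.span_induction with
    | mem x hx =>
      obtain ⟨r, rfl⟩ := hx
      refine ⟨δ r, ?_⟩
      show δ r • KaehlerDifferential.D ℤ R π = KaehlerDifferential.D ℤ R r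
      conv_rhs => rw [hC r, map_sum]
      simp only [δ, Finset.sum_smul]
      refine Finset.sum_congr rfl fun i _ => ?_
      rw [Derivation.leibniz, Derivation.leibniz_pow, Derivation.leibniz_pow]
      simp only [P, ← Nat.cast_smul_eq_nsmul R, CharP.cast_eq_zero R p, zero_mul, mul_zero, zero_smul, smul_zero, zero_add, smul_smul]
      simp [mul_comm, mul_left_comm, mul_assoc]
    | zero => exact ⟨0, zero_smul _ _⟩
    | add x y _ _ hx hy =>
      obtain ⟨a, ha⟩ := hx; obtain ⟨b, hb⟩ := hy
      exact ⟨a + b, by simp only [add_smul]; exact congrArg₂ (· + ·) ha hb⟩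
    | smul c x _ hx =>
      obtain ⟨a, ha⟩ := hx
      exact ⟨c * a, by show (c * a) • _ = _; rw [mul_smul]; exact congrArg (c • ·) ha⟩

end Groth.Agent.S13368
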