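-- statement FlatMor.GrothFrozen.S1337 (Groth/Statements/S1337.lean; the theorem FlatMor.nGeomConnComp_const_near_point_of_closure);
import Groth.Statements.S1337
import Groth.Agent.H7Flat.GeomInt.Counts

set_option autoImplicit false
universe u
open FlatMor

namespace Groth.Agent.S1337

open AlgebraicGeometry CategoryTheory Limits in
/-- Let f be of finite type and let y be a point of the target. Then the function counting the connected
components of the geometric fibres of f is constant on some subset of the closure of y which is open
in that closure and contains y. -/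
theorem result {X Y : Scheme.{u}} (f : X ⟶ Y) [LocallyOfFiniteType f] [QuasiCompact f] (y : Y) :
    ∃ V : Set ↑Y, V ⊆ closure {y} ∧ y ∈ V ∧ IsOpen (Subtype.val ⁻¹' V : Set ↑(closure ({y} : Set ↑Y))) ∧
      ∀ y' ∈ V, MoreMor.nGeomConnComp f y' = MoreMor.nGeomConnComp f y := by
  obtain ⟨O, hy, hO⟩ := H7Flat.GeomInt.exists_opens_counts f y
  refine ⟨(O : Set ↑Y) ∩ closure {y}, Set.inter_subset_right, ⟨hy, subset_closure rfl⟩, ?_, fun y' hy' => ?_⟩
  · rw [Set.preimage_inter, Subtype.coe_preimage_self, Set.inter_univ]
    exact O.2.preimage continuous_subtype_val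
  · exact (hO y' hy'.1 (specializes_iff_mem_closure.2 hy'.2)).2

end Groth.Agent.S1337
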