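import Groth.Statements.S13370
import Groth.Agent.H23Frob.AffineUnits
import Mathlib.AlgebraicGeometry.AffineSpace
import Mathlib.AlgebraicGeometry.Properties

set_option autoImplicit false
universe u
open GaDual

namespace Groth.Agent.S13370

open AlgebraicGeometry in
/-- Over a reduced scheme X, each invertible global function on 𝔸ⁿ_X comes, by pullback along the
projection to X, from an invertible global function on X. -/
theorem result (n : Type u) [Finite n] (X : Scheme.{u}) [IsReduced X]
    (w : Γ(𝔸(n; X), ⊤)) (hw : IsUnit w) :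
    ∃ v : Γ(X, ⊤), IsUnit v ∧ (𝔸(n; X) ↘ X).appTop v = w := by
  open CategoryTheory AlgebraicGeometry in
  let s : X ⟶ 𝔸(n; X) := AffineSpace.homOfVector (𝟙 X) 0
  refine ⟨s.appTop w, hw.map _, Scheme.OpenCover.ext_elem (X := 𝔸(n; X)) _ _
    (X.affineCover.pullback₁ (𝔸(n; X) ↘ X)) fun i => ?_⟩
  have hfac : CategoryTheory.Limits.pullback.fst (𝔸(n; X) ↘ X) (X.affineCover.f i) =
      (AffineSpace.isPullback_map (n := n) (X.affineCover.f i)).isoPullback.inv ≫ AffineSpace.map n (X.affineCover.f i) :=
    (IsPullback.isoPullback_inv_fst _).symm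
  show (Limits.pullback.fst (𝔸(n; X) ↘ X) (X.affineCover.f i)).appTop ((𝔸(n; X) ↘ X).appTop (s.appTop w)) =
    (Limits.pullback.fst (𝔸(n; X) ↘ X) (X.affineCover.f i)).appTop w
  rw [hfac, Scheme.Hom.comp_appTop, CommRingCat.comp_apply, CommRingCat.comp_apply]
  congr 1
  obtain ⟨R, hR⟩ : ∃ R, X.affineCover.X i = Spec R := ⟨_, rfl⟩
  haveI : IsOpenImmersion (X.affineCover.f i) := X.affineCover.map_prop i
  haveI : IsReduced (X.affineCover.X i) := isReduced_of_isOpenImmersion (X.affineCover.f i)
  have hs : AffineSpace.homOfVector (𝟙 _) 0 ≫ AffineSpace.map n (X.affineCover.f i) = X.affineCover.f i ≫ s := by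
    refine AffineSpace.hom_ext ?_ fun j => ?_
    · simp [s]
    · rw [Scheme.Hom.comp_appTop, Scheme.Hom.comp_appTop, CommRingCat.comp_apply, CommRingCat.comp_apply,
        AffineSpace.map_appTop_coord, AffineSpace.homOfVector_appTop_coord, AffineSpace.homOfVector_appTop_coord,
        Pi.zero_apply, Pi.zero_apply, map_zero]
  have hcomm : AffineSpace.map n (X.affineCover.f i) ≫ (𝔸(n; X) ↘ X) ≫ s =
      (𝔸(n; X.affineCover.X i) ↘ X.affineCover.X i) ≫ AffineSpace.homOfVector (𝟙 _) 0 ≫
        AffineSpace.map n (X.affineCover.f i) := by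
    rw [hs, AffineSpace.map_over_assoc]
  have e := congrArg (fun g => g.appTop w) hcomm
  simp only [Scheme.Hom.comp_appTop, CommRingCat.comp_apply] at e
  refine e.trans ?_
  have hu := hw.map (AffineSpace.map n (X.affineCover.f i)).appTop.hom
  generalize (AffineSpace.map n (X.affineCover.f i)).appTop w = w' at hu ⊢
  obtain ⟨r, rfl⟩ : ∃ r, (𝔸(n; X.affineCover.X i) ↘ X.affineCover.X i).appTop r = w' := by
    revert w'
    haveI : IsReduced (X.affineCover.X i) := inferInstance
    revert ‹IsReduced (X.affineCover.X i)›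
    rw [hR]
    intro _ w' hu
    exact Groth.Agent.H23Frob.exists_eq_appTop_of_isUnit n R w' hu
  congr 1
  rw [← CommRingCat.comp_apply, ← Scheme.Hom.comp_appTop, AffineSpace.homOfVector_over, Scheme.Hom.id_appTop]
  rfl

end Groth.Agent.S13370
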