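import Groth.Statements.S13371
import Groth.Agent.H27Witt.GaCoord
import Groth.Agent.H21Diag.Points

set_option autoImplicit false
universe u
open GaDual

namespace Groth.Agent.S13371

section

open CategoryTheory MonoidalCategory CartesianMonoidalCategory MonObj GrpObj AlgebraicGeometry
open CategoryTheory.Limits
open Groth.Agent.H21Diag (dpt dpt_fst dpt_surjective dpt_mul charRingHom charRingHom_ext
  charRingHom_single bc_ext gval gval_comp gval_injective gval_mul)
open Groth.Agent.H27Witt.GaCoord (gval_eq gaFn_surjective)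

variable {S : Scheme.{u}}

theorem dpt_injective {B : Type u} [CommRing B] (y : Spec (CommRingCat.of B) ⟶ S)
    {χ χ' : Multiplicative ℤ →* B} (h : dpt y χ = dpt y χ') : χ = χ' := by
  have h1 : Spec.map (CommRingCat.ofHom (charRingHom χ)) =
      Spec.map (CommRingCat.ofHom (charRingHom χ')) := by
    rw [← dpt_fst y χ, ← dpt_fst y χ', h]
  have h2 := Spec.map_injective h1
  refine MonoidHom.ext fun m => ?_
  have := RingHom.congr_fun (congrArg CommRingCat.Hom.hom h2) (MonoidAlgebra.single m 1)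
  simpa using this

theorem one_comp_hom {G H T : Over S} [GrpObj G] [GrpObj H] (φ : G ⟶ H) [IsMonHom φ] :
    (1 : T ⟶ G) ≫ φ = 1 :=
  MonObj.one_comp φ

theorem eq_one_of_mul_self {G T : Over S} [GrpObj G] (a : T ⟶ G) (h : a * a = a) : a = 1 :=
  mul_eq_left.mp h

theorem dpt_one {B : Type u} [CommRing B] (y : Spec (CommRingCat.of B) ⟶ S) :
    (dpt y (1 : Multiplicative ℤ →* B) : Over.mk y ⟶ Red.Gm S) = 1 := by
  have := dpt_mul y (1 : Multiplicative ℤ →* B) 1
  rw [_root_.one_mul] at this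
  exact eq_one_of_mul_self _ this.symm

theorem tmap_dpt {B B' : Type u} [CommRing B] [CommRing B'] (ψ : B →+* B')
    (y : Spec (CommRingCat.of B) ⟶ S) (χ : Multiplicative ℤ →* B)
    (s : Over.mk (Spec.map (CommRingCat.ofHom ψ) ≫ y) ⟶ Over.mk y)
    (hs : s.left = Spec.map (CommRingCat.ofHom ψ)) :
    s ≫ dpt y χ = dpt (Spec.map (CommRingCat.ofHom ψ) ≫ y) (ψ.toMonoidHom.comp χ) := by
  refine bc_ext ?_
  rw [dpt_fst, Over.comp_left, Category.assoc, dpt_fst, hs]
  refine ((Spec.map_comp _ _).symm.trans (congrArg Spec.map ?_))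
  exact CommRingCat.hom_ext (charRingHom_ext fun m => by simp)

theorem gval_one {B : Type u} [CommRing B] (y : Spec (CommRingCat.of B) ⟶ S) :
    gval (1 : Over.mk y ⟶ Red.Ga S) = 0 := by
  have := gval_mul (1 : Over.mk y ⟶ Red.Ga S) 1
  rw [@_root_.one_mul (Over.mk y ⟶ Red.Ga S) Monoid.toMulOneClass] at this
  exact left_eq_add.1 this

/-- over a reduced affine base the universal point goes to the identity -/
theorem exists_univ (φ : Red.Ga S ⟶ Red.Gm S) [IsMonHom φ] {B : Type u} [CommRing B]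
    [_root_.IsReduced B] (y : Spec (CommRingCat.of B) ⟶ S) :
    ∃ xu : Over.mk (Spec.map (CommRingCat.ofHom (Polynomial.C : B →+* Polynomial B)) ≫ y) ⟶ Red.Ga S,
      gval xu = Polynomial.X ∧ xu ≫ φ = 1 := by
  set yT := Spec.map (CommRingCat.ofHom (Polynomial.C : B →+* Polynomial B)) ≫ y
  obtain ⟨xu, hxu⟩ := gaFn_surjective (X := Over.mk yT)
    ((Scheme.ΓSpecIso (CommRingCat.of (Polynomial B))).inv Polynomial.X)
  have hX : gval xu = Polynomial.X := by
    rw [gval_eq, hxu]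
    exact Iso.inv_hom_id_apply (Scheme.ΓSpecIso _) _
  refine ⟨xu, hX, ?_⟩
  obtain ⟨χ, hχ⟩ := dpt_surjective (M := ℤ) yT (xu ≫ φ)
  let ψ : Polynomial B →+* B := Polynomial.evalRingHom 0
  let s : Over.mk (Spec.map (CommRingCat.ofHom ψ) ≫ yT) ⟶ Over.mk yT :=
    Over.homMk (Spec.map (CommRingCat.ofHom ψ)) rfl
  have h0 : s ≫ xu = 1 := by
    refine gval_injective ?_
    rw [gval_one, gval_comp ψ xu (s ≫ xu) rfl, hX]
    simp [ψ]
  have h1 : s ≫ xu ≫ φ = 1 := by
    exact ((Category.assoc s xu φ).symm.trans (congrArg (fun z => z ≫ φ) h0)).trans (one_comp_hom φ)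
  replace h1 : dpt (Spec.map (CommRingCat.ofHom ψ) ≫ yT) (ψ.toMonoidHom.comp χ) = 1 :=
    (tmap_dpt ψ yT χ s rfl).symm.trans ((congrArg (s ≫ ·) hχ).trans h1)
  have h2 : ψ.toMonoidHom.comp χ = 1 := dpt_injective _ (h1.trans (dpt_one _).symm)
  have h3 : χ = 1 := by
    refine MonoidHom.ext fun m => ?_
    have hu := Polynomial.isUnit_iff_coeff_isUnit_isNilpotent.1 ((Group.isUnit m).map χ)
    have hm : (χ m).eval 0 = 1 := DFunLike.congr_fun h2 m
    rw [← Polynomial.coeff_zero_eq_eval_zero] at hm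
    ext n
    rcases n with _ | n
    · simpa using hm
    · simpa [Polynomial.coeff_one] using (hu.2 (n + 1) n.succ_ne_zero).eq_zero
  rw [← hχ, h3, dpt_one]

theorem chart_eq_one (φ : Red.Ga S ⟶ Red.Gm S) [IsMonHom φ] {B B' : Type u} [CommRing B]
    [CommRing B'] [_root_.IsReduced B] (y : Spec (CommRingCat.of B) ⟶ S) (ψB : B →+* B')
    (t : Spec (CommRingCat.of B') ⟶ S) (ht : Spec.map (CommRingCat.ofHom ψB) ≫ y = t)
    (x : Over.mk t ⟶ Red.Ga S) : x ≫ φ = 1 := by
  obtain ⟨xu, hX, h1⟩ := exists_univ φ y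
  let ψ : Polynomial B →+* B' := Polynomial.eval₂RingHom ψB (gval x)
  let s : Over.mk t ⟶ Over.mk (Spec.map (CommRingCat.ofHom (Polynomial.C : B →+* Polynomial B)) ≫ y) :=
    Over.homMk (Spec.map (CommRingCat.ofHom ψ)) (by
      change Spec.map (CommRingCat.ofHom ψ) ≫
        (Spec.map (CommRingCat.ofHom (Polynomial.C : B →+* Polynomial B)) ≫ y) = t
      rw [← Category.assoc, ← Spec.map_comp, ← ht]
      congr 2
      ext b
      simp [ψ])
  have hx : x = s ≫ xu := by
    refine gval_injective ?_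
    rw [gval_comp ψ xu (s ≫ xu) rfl, hX]
    simp [ψ]
  rw [hx, Category.assoc, h1, MonObj.comp_one]

theorem hom_eq_one (S : Scheme.{u}) [IsReduced S] (φ : Red.Ga S ⟶ Red.Gm S) [IsMonHom φ] :
    φ = 1 := by
  refine Over.OverMorphism.ext (Scheme.hom_ext_of_forall _ _ fun p => ?_)
  obtain ⟨U, hU, hpU, -⟩ := exists_isAffineOpen_mem_and_subset
    (X := S) (x := (Red.Ga S).hom p) (U := ⊤) trivial
  obtain ⟨V, hV, hpV, hVU⟩ := exists_isAffineOpen_mem_and_subset
    (X := (Red.Ga S).left) (x := p) (U := (Red.Ga S).hom ⁻¹ᵁ U) hpU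
  refine ⟨V, hpV, ?_⟩
  haveI : _root_.IsReduced Γ(S, U) := IsReduced.component_reduced U
  let j : Over.mk (hV.fromSpec ≫ (Red.Ga S).hom) ⟶ Red.Ga S := Over.homMk hV.fromSpec rfl
  have h1 := chart_eq_one φ hU.fromSpec ((Red.Ga S).hom.appLE U V hVU).hom
    (hV.fromSpec ≫ (Red.Ga S).hom) (hU.SpecMap_appLE_fromSpec (Red.Ga S).hom hV hVU) j
  have h2 : j ≫ φ = j ≫ (1 : Red.Ga S ⟶ Red.Gm S) := h1.trans (MonObj.comp_one j).symm
  have h3 : hV.fromSpec ≫ φ.left = hV.fromSpec ≫ (1 : Red.Ga S ⟶ Red.Gm S).left :=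
    congrArg (fun z => z.left) h2
  rw [← hV.isoSpec_inv_ι, Category.assoc, Category.assoc] at h3
  exact (cancel_epi _).mp h3

end


open CategoryTheory AlgebraicGeometry MonObj CartesianMonoidalCategory in
/-- If S is a reduced scheme, every homomorphism of S-group schemes from the additive group to the
multiplicative group over S is the trivial homomorphism. -/
theorem result (S : Scheme.{u}) [IsReduced S] (φ : Red.Ga S ⟶ Red.Gm S)
    [IsMonHom φ] : φ = 1 := by
  exact hom_eq_one S φ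

end Groth.Agent.S13371
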