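import Groth.Statements.S13373
import Mathlib
import Groth.Agent.H23Ga.Char

set_option autoImplicit false
universe u
open GaDual

namespace Groth.Agent.S13373

/-- Over a commutative algebra A of prime characteristic p, the formal characters (power series χ with
constant term 1 and χ(X+Y) = χ(X)χ(Y)) are exactly the infinite products ∏_n exp_p(a_n X^(p^n)) with
a_n^p = 0, where exp_p(Y) = Σ_{j<p} Y^j/j!; the infinite product is expressed through its
truncations: χ mod X^(p^m) equals the finite product over n < m. -/
theorem result (p : ℕ) [Fact p.Prime] (A : Type u) [CommRing A] [CharP A p]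
    (χ : PowerSeries A) :
    (PowerSeries.constantCoeff χ = 1 ∧
      PowerSeries.subst (MvPowerSeries.X 0 + MvPowerSeries.X 1 : MvPowerSeries (Fin 2) A) χ =
        PowerSeries.subst (MvPowerSeries.X 0 : MvPowerSeries (Fin 2) A) χ *
          PowerSeries.subst (MvPowerSeries.X 1 : MvPowerSeries (Fin 2) A) χ) ↔
      ∃ a : ℕ → A, (∀ n, a n ^ p = 0) ∧ ∀ m : ℕ,
        PowerSeries.trunc (p ^ m) χ = ∏ n ∈ Finset.range m, ∑ j ∈ Finset.range p,
          Polynomial.C (Ring.inverse (j.factorial : A) * a n ^ j) * Polynomial.X ^ (j * p ^ n) := by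
  classical
  rw [Groth.Agent.H23Ga.isDP_iff_series]
  constructor
  · intro h
    refine ⟨fun n => PowerSeries.coeff (p ^ n) χ, fun n => (h.below _).pow_eq_zero (p := p) (N := n + 1) (Nat.lt_succ_self n), fun m => ?_⟩
    refine Eq.trans ?_ ((h.below _).sum_eq_prod (p := p) (le_refl m))
    rw [PowerSeries.trunc_apply, ← Finset.range_eq_Ico]
    exact Finset.sum_congr rfl fun i _ => (Polynomial.C_mul_X_pow_eq_monomial).symm
  · rintro ⟨a, ha, hm⟩
    have hc : ∀ m i, i < p ^ m → PowerSeries.coeff i χ =
        (∏ i ∈ Finset.range m, Groth.Agent.H23Ga.expT p (a i) (p ^ i)).coeff i := fun m i hi => by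
      have := congrArg (fun q => Polynomial.coeff q i) (hm m)
      simp only [PowerSeries.coeff_trunc, if_pos hi] at this
      exact this
    refine ⟨?_, fun i j => ?_⟩
    · show PowerSeries.coeff 0 χ = 1
      rw [hc 0 0 (by simp)]
      exact (Groth.Agent.H23Ga.isDP_prod ha 0).1
    · have hlt : i + j < p ^ (i + j) := Nat.lt_pow_self (Fact.out : p.Prime).one_lt
      show PowerSeries.coeff i χ * PowerSeries.coeff j χ = _ * PowerSeries.coeff (i + j) χ
      rw [hc (i + j) i (by omega), hc (i + j) j (by omega), hc (i + j) (i + j) hlt]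
      exact (Groth.Agent.H23Ga.isDP_prod ha (i + j)).2 i j

end Groth.Agent.S13373
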