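import Groth.Statements.S13374
import Mathlib
import Groth.Agent.H23Ga.Char

set_option autoImplicit false
universe u
open GaDual

namespace Groth.Agent.S13374

/-- Over a commutative algebra A of prime characteristic p, every character of the kernel α_(p^n) of the
n-th Frobenius of the additive group — i.e. every polynomial f of degree < p^n with f(0) = 1 and
f(X+Y) ≡ f(X)f(Y) modulo (X^(p^n), Y^(p^n)) — is the product ∏_{i<n} exp_p(a_i X^(p^i)) for some a_i
with a_i^p = 0, exp_p(Y) = Σ_{j<p} Y^j/j!. -/
theorem result (p : ℕ) [Fact p.Prime] (A : Type u) [CommRing A] [CharP A p]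
    (n : ℕ) (f : Polynomial A) (hdeg : f.natDegree < p ^ n) (h0 : f.eval 0 = 1)
    (hmul : Ideal.Quotient.mk
        (Ideal.span {(MvPolynomial.X 0 ^ p ^ n : MvPolynomial (Fin 2) A), MvPolynomial.X 1 ^ p ^ n})
        (Polynomial.aeval (MvPolynomial.X 0 + MvPolynomial.X 1 : MvPolynomial (Fin 2) A) f) =
      Ideal.Quotient.mk
        (Ideal.span {(MvPolynomial.X 0 ^ p ^ n : MvPolynomial (Fin 2) A), MvPolynomial.X 1 ^ p ^ n})
        (Polynomial.aeval (MvPolynomial.X 0 : MvPolynomial (Fin 2) A) f *
          Polynomial.aeval (MvPolynomial.X 1 : MvPolynomial (Fin 2) A) f)) :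
    ∃ a : ℕ → A, (∀ i, a i ^ p = 0) ∧
      f = ∏ i ∈ Finset.range n, ∑ j ∈ Finset.range p,
          Polynomial.C (Ring.inverse (j.factorial : A) * a i ^ j) * Polynomial.X ^ (j * p ^ i) := by
  classical
  have h : Groth.Agent.H23Ga.DPBelow f.coeff (p ^ n) := by
    refine ⟨by rw [Polynomial.coeff_zero_eq_eval_zero, h0], fun i j hi hj => ?_⟩
    rw [Ideal.Quotient.eq, Ideal.mem_span_pair] at hmul
    obtain ⟨u, v, huv⟩ := hmul
    have := congrArg (MvPolynomial.coeff (Groth.Agent.H23Ga.e2 i j)) huv
    rw [MvPolynomial.coeff_sub, Groth.Agent.H23Ga.coeff_aeval_add, Groth.Agent.H23Ga.coeff_aeval_mul, MvPolynomial.coeff_add,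
      MvPolynomial.X_pow_eq_monomial, MvPolynomial.X_pow_eq_monomial, MvPolynomial.coeff_mul_monomial',
      MvPolynomial.coeff_mul_monomial', if_neg, if_neg, add_zero] at this
    · exact (sub_eq_zero.1 this.symm).symm
    · intro hle
      have := hle 1
      simp at this
      omega
    · intro hle
      have := hle 0
      simp at this
      omega
  refine ⟨fun i => if i < n then f.coeff (p ^ i) else 0, fun i => ?_, ?_⟩
  · dsimp only
    split_ifs with hi
    · exact h.pow_eq_zero hi
    · exact zero_pow (Fact.out : p.Prime).ne_zero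
  · refine (f.as_sum_range_C_mul_X_pow' hdeg).trans ((h.sum_eq_prod le_rfl).trans ?_)
    refine Finset.prod_congr rfl fun i hi => ?_
    simp only [if_pos (Finset.mem_range.1 hi)]
    rfl

end Groth.Agent.S13374
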