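import Groth.Statements.S13378
import Groth.Agent.H18Gal.ProfComplete

set_option autoImplicit false
universe u
open ProCompl

namespace Groth.Agent.S13378

/-- For an abelian group A (written multiplicatively, discrete) and a subgroup A' such that the quotient
A/A' has no nontrivial divisible element and its torsion elements are killed by one positive
integer, the map induced on profinite completions by the inclusion of A' in A is injective. (The
published statement is for topological abelian groups in which every nA is open, with completions
formed from open subgroups of finite index; this row is the case of the discrete topology.) -/
theorem result (A : Type u) [CommGroup A] (A' : Subgroup A)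
    (hdiv : ∀ x : A ⧸ A', (∀ n : ℕ, 0 < n → ∃ y : A ⧸ A', y ^ n = x) → x = 1)
    (htors : ∃ N : ℕ, 0 < N ∧ ∀ x : A ⧸ A', IsOfFinOrder x → x ^ N = 1) :
    Function.Injective (ProfiniteGrp.profiniteCompletion.map (GrpCat.ofHom A'.subtype)).hom := by
  exact Groth.Agent.H18Gal.map_subtype_injective A' htors

end Groth.Agent.S13378
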