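-- statement FlatMor.GrothFrozen.S1338 (Groth/Statements/S1338.lean; the theorem FlatMor.isLocallyConstructible_nGeomIrredComp_eq);
import Groth.Statements.S1338
import Groth.Agent.H7Flat.GeomInt.LocallyConstructible

set_option autoImplicit false
universe u
open FlatMor

namespace Groth.Agent.S1338

open AlgebraicGeometry CategoryTheory Limits in
/-- For a morphism of finite presentation, each level set of the function counting the irreducible
components of the geometric fibres is locally constructible in the target. -/
theorem result {X Y : Scheme.{u}} (f : X ⟶ Y) [LocallyOfFinitePresentation f] [QuasiCompact f] [QuasiSeparated f] (n : ℕ∞) :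
    Topology.IsLocallyConstructible {y : ↑Y | MoreMor.nGeomIrredComp f y = n} := by
  exact H7Flat.GeomInt.isLocallyConstructible_of_noetherian (fun _ _ g y => MoreMor.nGeomIrredComp g y = n)
    (fun hc s => by rw [(H7Flat.GeomInt.nGeom_baseChange hc s).1])
    (fun g => H7Flat.GeomInt.isConstructible_nGeomIrredComp_noetherian g n) f

end Groth.Agent.S1338
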