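import Groth.Statements.S13380
import Mathlib
import Groth.Agent.H23Ga.Split

set_option autoImplicit false
universe u
open GaDual

namespace Groth.Agent.S13380

/-- Over a commutative ring R of prime characteristic p whose Frobenius is surjective, every commutative
extension of the additive group by the multiplicative group that has a scheme-theoretic section
splits. In the coordinates given by such a section the extension is the product G_m × G_a with law
(t,x)(t',x') = (tt'h(x,x'), x+x') for an invertible polynomial h with h(X,0) = 1, h symmetric and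
h(Y,Z)h(X,Y+Z) = h(X+Y,Z)h(X,Y), and a group-theoretic section is an invertible polynomial f with
f(X+Y) = f(X)f(Y)h(X,Y); the row states the existence of such f for every such h. -/
theorem result (p : ℕ) [Fact p.Prime] (R : Type u)
    [CommRing R] [CharP R p] (hF : Function.Surjective (frobenius R p))
    (h : MvPolynomial (Fin 2) R) (hu : IsUnit h)
    (h0 : MvPolynomial.aeval ![(MvPolynomial.X 0 : MvPolynomial (Fin 2) R), 0] h = 1)
    (hsymm : MvPolynomial.aeval ![(MvPolynomial.X 1 : MvPolynomial (Fin 2) R), MvPolynomial.X 0] h = h)
    (hcoc : MvPolynomial.aeval ![(MvPolynomial.X 1 : MvPolynomial (Fin 3) R), MvPolynomial.X 2] h *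
        MvPolynomial.aeval ![MvPolynomial.X 0, MvPolynomial.X 1 + MvPolynomial.X 2] h =
      MvPolynomial.aeval ![MvPolynomial.X 0 + MvPolynomial.X 1, MvPolynomial.X 2] h *
        MvPolynomial.aeval ![MvPolynomial.X 0, MvPolynomial.X 1] h) :
    ∃ f : Polynomial R, IsUnit f ∧
      Polynomial.aeval (MvPolynomial.X 0 + MvPolynomial.X 1 : MvPolynomial (Fin 2) R) f =
        Polynomial.aeval (MvPolynomial.X 0 : MvPolynomial (Fin 2) R) f *
          Polynomial.aeval (MvPolynomial.X 1 : MvPolynomial (Fin 2) R) f * h := by
  have h1 : MvPolynomial.constantCoeff h = 1 := by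
    have e := congrArg MvPolynomial.constantCoeff h0
    rw [MvPolynomial.aeval_def, map_one, MvPolynomial.algebraMap_eq] at e
    rw [MvPolynomial.eval₂_comp_left, MvPolynomial.constantCoeff_comp_C,
      show (MvPolynomial.constantCoeff ∘ ![(MvPolynomial.X 0 : MvPolynomial (Fin 2) R), 0]) = 0 from
        funext fun i => by fin_cases i <;> simp] at e
    simpa using e
  exact Groth.Agent.H23Ga.exists_split p hF hu h1 ⟨hsymm, hcoc⟩

end Groth.Agent.S13380
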