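import Groth.Statements.S13383
import Groth.Agent.H23Ga.GaExtPic

set_option autoImplicit false
universe u
open GaDual

namespace Groth.Agent.S13383

open CategoryTheory AlgebraicGeometry in
/-- Let X be a reduced scheme such that every invertible module on the total space of the additive group
over X (the affine line over X) is trivial. Then Ext^1 of the additive group by the multiplicative
group, computed in abelian sheaves on the big fppf site of X, vanishes. (The published statement
concludes H^1(X, Hom-sheaf(G_a, G_m)) = 0, which follows from this Ext^1 vanishing; this row states
the Ext^1 vanishing.) -/
theorem result (X : Scheme.{u}) [IsReduced X]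
    (hPic : ∀ L : (Red.Ga X).left.Modules, PicF.IsInvertible L →
      Nonempty (L ≅ Coh.structureModule (Red.Ga X).left)) :
    Subsingleton (CGrpSh.ExtS Scheme.fppfPrecoverage (Red.Ga X) (Red.Gm X) 1) := by
  exact Groth.Agent.H23Ga.GaExtPic.subsingleton_ext X hPic

end Groth.Agent.S13383
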