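import Groth.Statements.S13386
-- import your own Groth.Agent.* helpers here

set_option autoImplicit false
universe u
open scoped TensorProduct
open ZeroCyc

namespace Groth.Agent.S13386

/-- Let A' = T⁻¹A be a localization of the ring A, M an A-module and M' = A' ⊗_A M. In the divided power
algebra Γ_{A'}(M') the A'-span of the d-th divided powers γ_d(1 ⊗ m), m ∈ M, is the A'-span of
γ_d(M'). (The published statement phrases this as the surjectivity of the natural map from (γ_d(M))
⊗_A A' onto (γ_d(M')); its further clause through the base-change isomorphism Γ_A(M) ⊗_A A' ≅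
Γ_{A'}(M') is not restated here.) -/
theorem result {A A' M : Type u} [CommRing A] [CommRing A']
    [Algebra A A'] (T : Submonoid A) [IsLocalization T A'] [AddCommGroup M] [Module A M] (d : ℕ) :
    Submodule.span A' (Set.range fun m : M => DividedPowerAlgebra.dp A' d ((1 : A') ⊗ₜ[A] m)) =
      Submodule.span A' (Set.range (DividedPowerAlgebra.dp A' d (M := A' ⊗[A] M))) := by
  refine le_antisymm (Submodule.span_mono (Set.range_subset_iff.mpr fun m => ⟨_, rfl⟩)) (Submodule.span_le.mpr ?_)
  rintro _ ⟨z, rfl⟩
  have hz : ∀ w : A' ⊗[A] M, ∃ (t : T) (m : M), w = IsLocalization.mk' A' (1 : A) t • ((1 : A') ⊗ₜ[A] m) := by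
    intro w
    induction w using TensorProduct.induction_on with
    | zero => exact ⟨1, 0, by rw [TensorProduct.tmul_zero, smul_zero]⟩
    | tmul a m =>
      obtain ⟨⟨r, t⟩, rfl⟩ := IsLocalization.mk'_surjective T a
      refine ⟨t, r • m, ?_⟩
      rw [TensorProduct.tmul_smul, TensorProduct.smul_tmul', TensorProduct.smul_tmul']
      congr 1
      rw [smul_eq_mul, Algebra.smul_def, mul_one, mul_comm, IsLocalization.mul_mk'_eq_mk'_of_mul, mul_one]
    | add x y hx hy =>
      obtain ⟨t, a, rfl⟩ := hx
      obtain ⟨s, b, rfl⟩ := hy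
      refine ⟨t * s, (s : A) • a + (t : A) • b, ?_⟩
      rw [TensorProduct.tmul_add, TensorProduct.tmul_smul, TensorProduct.tmul_smul, smul_add]
      rw [← algebraMap_smul A' (s : A) ((1 : A') ⊗ₜ[A] a), ← algebraMap_smul A' (t : A) ((1 : A') ⊗ₜ[A] b),
        smul_smul, smul_smul]
      congr 2
      · rw [mul_comm, IsLocalization.mul_mk'_eq_mk'_of_mul, mul_one, IsLocalization.mk'_eq_iff_eq]
        simp [mul_comm]
      · rw [mul_comm, IsLocalization.mul_mk'_eq_mk'_of_mul, mul_one, IsLocalization.mk'_eq_iff_eq]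
        simp [mul_comm]
  obtain ⟨t, m, rfl⟩ := hz z
  rw [SetLike.mem_coe, DividedPowerAlgebra.dp_smul]
  exact Submodule.smul_mem _ _ (Submodule.subset_span ⟨m, rfl⟩)

end Groth.Agent.S13386
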