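import Groth.Statements.S13387
import Mathlib
import Groth.Agent.H22Alg.GammaSpan

set_option autoImplicit false
universe u
open ZeroCyc

namespace Groth.Agent.S13387

/-- Let A be a commutative ring, M an A-module and d ≥ 0. Suppose that at each prime p of A either k(p)
has d or more elements, or the localisation M_p is a cyclic A_p-module. Then the degree-d piece
Γ^d_A(M) of the divided power algebra Γ_A(M) is spanned over A by the d-th divided powers γ_d(m), m
∈ M. -/
theorem result {A M : Type u} [CommRing A] [AddCommGroup M]
    [Module A M] (d : ℕ)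
    (h : ∀ p : PrimeSpectrum A, (d : Cardinal) ≤ Cardinal.mk p.asIdeal.ResidueField ∨
      ∃ x : LocalizedModule p.asIdeal.primeCompl M, Submodule.span (Localization.AtPrime p.asIdeal) {x} = ⊤) :
    Submodule.span A (Set.range (DividedPowerAlgebra.dp A d : M → DividedPowerAlgebra A M)) =
      PolLaw.gammaPiece A M d := by
  exact Groth.Agent.H22Alg.GammaSpan.span_dp_eq d fun p hp =>
    Groth.Agent.H22Alg.GammaSpan.cond_of_residue_or_cyclic (M := M) p (h ⟨p, hp.isPrime⟩)

end Groth.Agent.S13387
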