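import Groth.Statements.S13388
import Mathlib
import Groth.Agent.H22Alg.GammaSpanConverse

set_option autoImplicit false
universe u
open ZeroCyc

namespace Groth.Agent.S13388

/-- Let A be a commutative ring, M a finitely generated A-module and d ≥ 0. If the degree-d piece
Γ^d_A(M) of Γ_A(M) is spanned over A by the divided powers γ_d(m), m ∈ M, then at each prime p of A
either k(p) has d or more elements, or the localisation M_p is a cyclic A_p-module. -/
theorem result {A M : Type u} [CommRing A] [AddCommGroup M]
    [Module A M] [Module.Finite A M] (d : ℕ)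
    (h : Submodule.span A (Set.range (DividedPowerAlgebra.dp A d : M → DividedPowerAlgebra A M)) =
      PolLaw.gammaPiece A M d)
    (p : PrimeSpectrum A) :
    (d : Cardinal) ≤ Cardinal.mk p.asIdeal.ResidueField ∨
      ∃ x : LocalizedModule p.asIdeal.primeCompl M, Submodule.span (Localization.AtPrime p.asIdeal) {x} = ⊤ := by
  refine or_iff_not_imp_left.mpr fun hlt => ?_
  rw [not_le] at hlt
  set P := p.asIdeal with hPdef
  haveI : Finite P.ResidueField := Cardinal.lt_aleph0_iff_finite.mp (hlt.trans (Cardinal.natCast_lt_aleph0))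
  have hinj : Function.Injective (algebraMap (A ⧸ P) P.ResidueField) :=
    Ideal.injective_algebraMap_quotient_residueField P
  haveI : Finite (A ⧸ P) := Finite.of_injective _ hinj
  haveI hmax : P.IsMaximal := Ideal.Quotient.maximal_of_isField P (Finite.isField_of_domain _)
  letI : Field (A ⧸ P) := Ideal.Quotient.field P
  have hcard : Nat.card (A ⧸ P) < d := by
    refine (Nat.card_le_card_of_injective _ hinj).trans_lt ?_
    rwa [← Nat.cast_lt (α := Cardinal), Nat.card, Cardinal.cast_toNat_of_lt_aleph0 (Cardinal.lt_aleph0_iff_finite.mpr ‹_›)]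
  let V := M ⧸ (P • ⊤ : Submodule A M)
  haveI : Module.Finite (A ⧸ P) V := Module.Finite.of_restrictScalars_finite A (A ⧸ P) V
  rcases Nat.lt_or_ge 1 (Module.finrank (A ⧸ P) V) with h2 | h1
  · exfalso
    let b := Module.finBasis (A ⧸ P) V
    let g : V →ₗ[A ⧸ P] (A ⧸ P) × (A ⧸ P) := ((b.coord ⟨0, by omega⟩).prod (b.coord ⟨1, h2⟩))
    refine Groth.Agent.H22Alg.GammaSpanConverse.not_span ((g.restrictScalars A).comp (Submodule.mkQ _)) hcard ?_ h
    rw [LinearMap.coe_comp]
    refine Function.Surjective.comp (fun v => ⟨v.1 • b ⟨0, by omega⟩ + v.2 • b ⟨1, h2⟩, ?_⟩) (Submodule.mkQ_surjective _)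
    simp [g, Finsupp.single_apply, Fin.ext_iff]
  · obtain ⟨v, hv⟩ := finrank_le_one_iff.mp h1
    obtain ⟨m₀, rfl⟩ := Submodule.Quotient.mk_surjective _ v
    refine ⟨LocalizedModule.mk m₀ 1, top_le_iff.mp ?_⟩
    refine Submodule.le_of_le_smul_of_le_jacobson_bot Module.Finite.fg_top
      (IsLocalRing.maximalIdeal_le_jacobson _) fun x _ => ?_
    induction x using LocalizedModule.induction_on with
    | h m s =>
      rw [show LocalizedModule.mk m s = Localization.mk (1 : A) s • LocalizedModule.mk m (1 : P.primeCompl) by
        rw [LocalizedModule.mk_smul_mk, one_smul, mul_one]]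
      refine Submodule.smul_mem _ _ ?_
      obtain ⟨c, hc⟩ := hv (Submodule.Quotient.mk m)
      obtain ⟨a, rfl⟩ := Ideal.Quotient.mk_surjective c
      have hc' : Submodule.Quotient.mk (a • m₀) = (Submodule.Quotient.mk m : V) := hc
      show LocalizedModule.mkLinearMap P.primeCompl M m ∈ _
      rw [← sub_add_cancel m (a • m₀), map_add, map_smul]
      refine add_mem (Submodule.mem_sup_right ?_)
        (Submodule.mem_sup_left (Submodule.smul_of_tower_mem _ a (Submodule.mem_span_singleton_self _)))
      have hy : m - a • m₀ ∈ P • (⊤ : Submodule A M) := (Submodule.Quotient.eq _).mp hc'.symm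
      refine Submodule.smul_induction_on hy (fun r hr n _ => ?_) fun y z hy hz => by
        rw [map_add]; exact add_mem hy hz
      rw [map_smul, ← IsScalarTower.algebraMap_smul (Localization.AtPrime P) r]
      exact Submodule.smul_mem_smul ((IsLocalization.AtPrime.to_map_mem_maximal_iff _ P r).mpr hr) trivial

end Groth.Agent.S13388
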