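import Groth.Statements.S13389
import Mathlib
import Groth.Agent.H22Alg.GammaSpan

set_option autoImplicit false
universe u
open ZeroCyc

namespace Groth.Agent.S13389

open Polynomial in
/-- Let P_d(T) = ∏_{0 ≤ i < j ≤ d} (T^i − T^j) − 1 ∈ ℤ[T]. If A is an algebra over ℤ[T]/(P_d), i.e.
receives a ring homomorphism from it, then for every A-module M the degree-d piece Γ^d_A(M) of the
divided power algebra Γ_A(M) is spanned over A by the d-th divided powers γ_d(m), m ∈ M. (The
published statement adds that consequently every ring has a finite faithfully flat extension,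
independent of M, over which this holds; that clause is not restated.) -/
theorem result {A M : Type u} [CommRing A] [AddCommGroup M]
    [Module A M] (d : ℕ)
    (φ : (ℤ[X] ⧸ Ideal.span {(∏ j ∈ Finset.range (d + 1), ∏ i ∈ Finset.range j,
        ((X : ℤ[X]) ^ i - X ^ j)) - 1}) →+* A) :
    Submodule.span A (Set.range (DividedPowerAlgebra.dp A d : M → DividedPowerAlgebra A M)) =
      PolLaw.gammaPiece A M d := by
  classical
  set T := φ (Ideal.Quotient.mk _ X) with hT
  have h1 : (∏ j ∈ Finset.range (d + 1), ∏ i ∈ Finset.range j, (T ^ i - T ^ j)) = 1 := by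
    have h := congrArg φ (Ideal.Quotient.eq.mpr (Ideal.mem_span_singleton_self
      ((∏ j ∈ Finset.range (d + 1), ∏ i ∈ Finset.range j, ((X : ℤ[X]) ^ i - X ^ j)) - 1)) |>.trans rfl)
    simpa [hT, map_prod] using h
  refine Groth.Agent.H22Alg.GammaSpan.span_dp_eq d fun p hp => Or.inl ⟨fun i => T ^ (i : ℕ), ?_⟩
  intro i j hij hmem
  have key : ∀ i j : ℕ, i < j → j < d → T ^ i - T ^ j ∉ p := fun i j hlt hj hmem => hp.ne_top <| by
    rw [Ideal.eq_top_iff_one, ← h1, ← Finset.mul_prod_erase _ _ (Finset.mem_range.mpr (show j < d + 1 by omega)),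
      ← Finset.mul_prod_erase _ _ (Finset.mem_range.mpr hlt)]
    exact Ideal.mul_mem_right _ _ (Ideal.mul_mem_right _ _ hmem)
  rcases lt_or_gt_of_ne (fun e => hij (Fin.ext e)) with hlt | hlt
  · exact key _ _ hlt j.isLt hmem
  · exact key _ _ hlt i.isLt (by rw [← neg_sub]; exact neg_mem hmem)

end Groth.Agent.S13389
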