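import Groth.Statements.S13393
import Mathlib
import Groth.Agent.H22Alg.SymCmpApply

set_option autoImplicit false
universe u
open CategoryTheory CategoryTheory.Limits AlgebraicGeometry
open ZeroCyc

namespace Groth.Agent.S13393

/-- Scheme case. Let f : X → S be separated and let (Y, q, g) be a d-th symmetric product of X over S: q
: (X/S)^d → Y is a quotient of the d-fold fibre product by the symmetric group permuting the factors
and g : Y → S its structure map. Let S' → S be a morphism, let the symmetric group act on (X/S)^d
×_S S' through the first factor (this is the d-fold fibre product of X' = X ×_S S' over S' with its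
permutation action), let r : (X/S)^d ×_S S' → Y' be a quotient by that action, i.e. a symmetric
product Sym^d(X'/S'), and let m : Y' → Y ×_S S' be the morphism with r ≫ m = q × id. Then m induces
an isomorphism on residue fields at every point of Y' (trivial residue field extensions); if every
positive integer is invertible in Γ(S', O_{S'}) then m is an isomorphism; and if X' → S' is flat
then m is a closed immersion. (The published statement is for X a separated algebraic space over S,
where the symmetric products always exist as algebraic spaces; this row is the case of schemes in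
which both quotients exist as schemes, taken as hypotheses, and leaves the universal-homeomorphism
clause to the general finite-group statement.) -/
theorem result {X S S' Y Y' : Scheme.{u}} (f : X ⟶ S) [IsSeparated f] (d : ℕ)
    (q : SymProd.fibPow f d ⟶ Y) (g : Y ⟶ S) (hq : SymProd.IsSymProd f d q g)
    (gS : S' ⟶ S)
    (ρ' : ULift.{u} (Equiv.Perm (Fin d)) →* Aut (pullback (WidePullback.base fun _ : Fin d => f) gS))
    (hρ' : ∀ σ, (ρ' σ).hom ≫ pullback.fst (WidePullback.base fun _ : Fin d => f) gS =
        pullback.fst (WidePullback.base fun _ : Fin d => f) gS ≫ SymProd.permHom f d σ.down ∧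
      (ρ' σ).hom ≫ pullback.snd (WidePullback.base fun _ : Fin d => f) gS =
        pullback.snd (WidePullback.base fun _ : Fin d => f) gS)
    (r : pullback (WidePullback.base fun _ : Fin d => f) gS ⟶ Y') (hr : SGA1.IsQuot ρ' r)
    (m : Y' ⟶ pullback g gS)
    (hm : r ≫ m = pullback.map (WidePullback.base fun _ : Fin d => f) gS g gS q (𝟙 S') (𝟙 S)
      ((Category.comp_id _).trans hq.over.symm) ((Category.comp_id gS).trans (Category.id_comp gS).symm)) :
    (∀ y : Y', IsIso (m.residueFieldMap y)) ∧
    ((∀ n : ℕ, 0 < n → IsUnit ((n : ℕ) : Γ(S', ⊤))) → IsIso m) ∧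
    (Flat (pullback.snd f gS) → IsClosedImmersion m) := by
  let c : SymProd.fibPow (pullback.snd f gS) d ⟶ SymProd.fibPow f d :=
    Groth.Agent.H22Alg.SymCmpBase.Phi (pullback.fst f gS) gS pullback.condition d
  have H := Groth.Agent.H26Sym.isPullback_fibPow (f := f) (b := gS) c
    (fun i => Groth.Agent.H22Alg.SymCmpBase.Phi_π _ _ _ _ i) (Groth.Agent.H22Alg.SymCmpBase.Phi_base _ _ _ _)
  let r₀ := H.isoPullback.hom ≫ r
  have hj : ∀ γ, ((SymProd.permActU (pullback.snd f gS) d) γ).hom ≫ H.isoPullback.hom =
      H.isoPullback.hom ≫ (ρ' γ).hom := fun γ => by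
    apply pullback.hom_ext
    · rw [Category.assoc, IsPullback.isoPullback_hom_fst, Category.assoc, (hρ' γ).1,
        IsPullback.isoPullback_hom_fst_assoc]
      exact Groth.Agent.H22Alg.SymCmpBase.permHom_Phi _ _ _ _ _
    · rw [Category.assoc, IsPullback.isoPullback_hom_snd, Category.assoc, (hρ' γ).2,
        IsPullback.isoPullback_hom_snd, SymProd.permActU_hom, SymProd.permHom_base]
  have hm1 : r ≫ m ≫ pullback.fst g gS = pullback.fst (WidePullback.base fun _ : Fin d => f) gS ≫ q := by
    rw [← Category.assoc, hm, pullback.lift_fst]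
  have hm2 : r ≫ m ≫ pullback.snd g gS = pullback.snd (WidePullback.base fun _ : Fin d => f) gS := by
    rw [← Category.assoc, hm, pullback.lift_snd, Category.comp_id]
  have hr₀ : SymProd.IsSymProd (pullback.snd f gS) d r₀ (m ≫ pullback.snd g gS) :=
    ⟨Groth.Agent.H22Alg.SymCmpApply.isQuot_iso hr _ _ hj, by
      rw [Category.assoc, hm2, IsPullback.isoPullback_hom_snd]⟩
  have hm₀ : r₀ ≫ m ≫ pullback.fst g gS =
      Groth.Agent.H22Alg.SymCmpBase.Phi (pullback.fst f gS) gS pullback.condition d ≫ q := by
    rw [Category.assoc, hm1, IsPullback.isoPullback_hom_fst_assoc]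
  haveI : IsClosedImmersion (pullback.lift (pullback.fst f gS) (pullback.snd f gS) pullback.condition) := by
    rw [show pullback.lift (pullback.fst f gS) (pullback.snd f gS) pullback.condition = 𝟙 (pullback f gS) from
      pullback.hom_ext (by simp) (by simp)]
    infer_instance
  have hM : pullback.lift (m ≫ pullback.fst g gS) (m ≫ pullback.snd g gS)
      (Groth.Agent.H22Alg.SymCmp.comp_eq hq hr₀ pullback.condition _ hm₀) = m :=
    pullback.hom_ext (pullback.lift_fst _ _ _) (pullback.lift_snd _ _ _)
  refine ⟨fun y => ?_, fun hu => ?_, fun hflat => ?_⟩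
  · have := Groth.Agent.H22Alg.SymCmpResidue.isIso_residueFieldMap hq hr₀ pullback.condition _ hm₀ y
    rw [hM] at this
    exact this
  · have Hp : IsPullback (pullback.fst (WidePullback.base fun _ : Fin d => f) gS) (pullback.map (WidePullback.base fun _ : Fin d => f) gS g gS q (𝟙 S') (𝟙 S)
        ((Category.comp_id _).trans hq.over.symm) ((Category.comp_id gS).trans (Category.id_comp gS).symm))
        q (pullback.fst g gS) := by
      refine (IsPullback.of_right ?_ ?_ ((IsPullback.of_hasPullback g gS).flip)).flip
      swap
      · exact pullback.lift_fst _ _ _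
      rw [pullback.lift_snd, Category.comp_id, hq.over]
      exact (IsPullback.of_hasPullback (WidePullback.base fun _ : Fin d => f) gS).flip
    have hn : IsUnit ((Nat.card (ULift.{u} (Equiv.Perm (Fin d))) : ℕ) : Γ(pullback g gS, ⊤)) :=
      Groth.Agent.H22Alg.SymProdProd.isUnit_card_perm (pullback.snd g gS) hu d
    have hQ := Groth.Agent.H22Alg.InvBaseChange.isQuot_baseChange_of_isUnit' hq.isQuot hn Hp ρ'
      (fun γ => (hρ' γ).1) (fun γ => by
        apply pullback.hom_ext
        · rw [Category.assoc, pullback.lift_fst, reassoc_of% (hρ' γ).1]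
          exact congrArg (pullback.fst (WidePullback.base fun _ : Fin d => f) gS ≫ ·) (hq.isQuot.inv γ)
        · rw [Category.assoc, pullback.lift_snd, reassoc_of% (hρ' γ).2])
    obtain ⟨n, hn'⟩ := _root_.H18Quot.exists_desc r (fun γ => hr.inv γ) hQ
    haveI := Groth.Agent.H27Quot.epi hr
    haveI := Groth.Agent.H27Quot.epi hQ
    refine ⟨n, (cancel_epi r).mp ?_, (cancel_epi (pullback.map (WidePullback.base fun _ : Fin d => f) gS g gS
      q (𝟙 S') (𝟙 S) ((Category.comp_id _).trans hq.over.symm)
      ((Category.comp_id gS).trans (Category.id_comp gS).symm))).mp ?_⟩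
    · rw [reassoc_of% hm, hn', Category.comp_id]
    · rw [reassoc_of% hn', hm]
      exact (Category.comp_id _).symm
  · haveI := hflat
    have := Groth.Agent.H22Alg.SymCmp.isClosedImmersion_of_flat hq hr₀ pullback.condition _ hm₀
    rw [hM] at this
    exact this

end Groth.Agent.S13393
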