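import Groth.Statements.S13394
import Mathlib
import Groth.Agent.H22Alg.SymCmpApply

set_option autoImplicit false
universe u
open CategoryTheory CategoryTheory.Limits AlgebraicGeometry
open ZeroCyc

namespace Groth.Agent.S13394

/-- Scheme case. Let f : X → S be separated, let (Y, q, g) be a d-th symmetric product of X over S (q :
(X/S)^d → Y a quotient of the d-fold fibre product by the symmetric group, g : Y → S), let i : Z → X
be a closed immersion and (W, r, g_W) a d-th symmetric product of Z over S, let q((Z/S)^d) ⊆ Y be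
the scheme-theoretic image of the composite (Z/S)^d → (X/S)^d → Y, and let m : W → q((Z/S)^d) be the
morphism through which that composite factors via r. Then m induces an isomorphism on residue fields
at every point of W (trivial residue field extensions); if every positive integer is invertible in
Γ(S, O_S) then m is an isomorphism; and if Z → S is flat then m is a closed immersion. (The
published statement is for X a separated algebraic space over S; this row is the case of schemes in
which both symmetric products exist as schemes, taken as hypotheses, and leaves the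
universal-homeomorphism clause to the general finite-group statement.) -/
theorem result {X Z S Y W : Scheme.{u}} (f : X ⟶ S) [IsSeparated f] (d : ℕ)
    (q : SymProd.fibPow f d ⟶ Y) (g : Y ⟶ S) (hq : SymProd.IsSymProd f d q g)
    (i : Z ⟶ X) [IsClosedImmersion i]
    (r : SymProd.fibPow (i ≫ f) d ⟶ W) (gW : W ⟶ S) (hr : SymProd.IsSymProd (i ≫ f) d r gW)
    (m : W ⟶ (SymProd.fibPowMap (i ≫ f) d f i rfl ≫ q).ker.subscheme)
    (hm : r ≫ m ≫ (SymProd.fibPowMap (i ≫ f) d f i rfl ≫ q).ker.subschemeι =
      SymProd.fibPowMap (i ≫ f) d f i rfl ≫ q) :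
    (∀ w : W, IsIso (m.residueFieldMap w)) ∧
    ((∀ n : ℕ, 0 < n → IsUnit ((n : ℕ) : Γ(S, ⊤))) → IsIso m) ∧
    (Flat (i ≫ f) → IsClosedImmersion m) := by
  let F' := i ≫ f
  have w : i ≫ f = F' ≫ 𝟙 S := (Category.comp_id _).symm
  let m' := m ≫ (SymProd.fibPowMap (i ≫ f) d f i rfl ≫ q).ker.subschemeι
  haveI : IsClosedImmersion (pullback.lift i F' w) := by
    haveI : IsClosedImmersion (pullback.lift i F' w ≫ pullback.fst f (𝟙 S)) := by
      rw [pullback.lift_fst]; infer_instance
    exact IsClosedImmersion.of_comp _ (pullback.fst f (𝟙 S))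
  have hΦ : SymProd.fibPowMap (i ≫ f) d f i rfl = Groth.Agent.H22Alg.SymCmpBase.Phi i (𝟙 S) w d :=
    Groth.Agent.H22Alg.SymCmpApply.fibPowMap_eq_Phi i rfl
  have hm' : r ≫ m' = Groth.Agent.H22Alg.SymCmpBase.Phi i (𝟙 S) w d ≫ q := by
    rw [← hΦ]; exact hm
  have hfst := pullback.lift_fst (f := g) (g := 𝟙 S) m' gW
    (Groth.Agent.H22Alg.SymCmp.comp_eq hq hr w m' hm')
  have hclosed : IsClosedImmersion (pullback.lift m' gW
      (Groth.Agent.H22Alg.SymCmp.comp_eq hq hr w m' hm')) → IsClosedImmersion m := fun h => by
    haveI := h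
    haveI : IsClosedImmersion m' := by rw [← hfst]; infer_instance
    exact IsClosedImmersion.of_comp m (SymProd.fibPowMap (i ≫ f) d f i rfl ≫ q).ker.subschemeι
  refine ⟨fun y => ?_, fun hu => ?_, fun hflat => ?_⟩
  · haveI := Groth.Agent.H22Alg.SymCmpResidue.isIso_residueFieldMap hq hr w m' hm' y
    have h1 : IsIso (m'.residueFieldMap y) := by
      have h2 := Groth.Agent.H22Alg.SymCmpApply.isIso_residueFieldMap_comp
        (pullback.lift m' gW (Groth.Agent.H22Alg.SymCmp.comp_eq hq hr w m' hm')) (pullback.fst g (𝟙 S)) y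
      rw [hfst] at h2
      exact h2
    exact Groth.Agent.H22Alg.SymCmpApply.isIso_of_comp' m
      (SymProd.fibPowMap (i ≫ f) d f i rfl ≫ q).ker.subschemeι y
      (ConcreteCategory.bijective_of_isIso (m'.residueFieldMap y)).2
  · haveI := hclosed (Groth.Agent.H22Alg.SymCmpUnits.isClosedImmersion_of_isUnit hq hr w m' hm' hu)
    haveI : IsClosedImmersion m' := inferInstanceAs (IsClosedImmersion (m ≫ _))
    refine IsClosedImmersion.isIso_of_ker_eq m' _ m rfl ?_
    rw [Scheme.IdealSheafData.ker_subschemeι, ← hm, Scheme.Hom.ker_comp r,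
      Groth.Agent.H22Alg.SymCmpApply.ker_eq_bot hr.isQuot, Scheme.IdealSheafData.map_bot]
  · haveI := hflat
    exact hclosed (Groth.Agent.H22Alg.SymCmp.isClosedImmersion_of_flat hq hr w m' hm')

end Groth.Agent.S13394
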