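import Groth.Statements.S13399
import Mathlib
import Groth.Agent.H22Alg.PolLawGamma

set_option autoImplicit false
universe u
open scoped TensorProduct
open ZeroCyc

namespace Groth.Agent.S13399

/-- Let A be a commutative ring, B an A-algebra and e ≥ 0; let (C_{e+1}, γ_{e+1}) and (C_e, γ_e) be the
divided power algebras Γ^{e+1}_A(B) and Γ^e_A(B) of B with their universal multiplicative laws of
degrees e + 1 and e (every multiplicative law of that degree out of B factors uniquely through
them), and let ω : Γ^{e+1}_A(B) ⊗_A B → Γ^e_A(B) ⊗_A B be Iversen's canonical algebra homomorphism,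
taken here as data characterised by ω(γ_{e+1}(x) ⊗ y) = γ_e(x) ⊗ x·y for all x, y ∈ S ⊗_A B and
every base change A → S. Then ω is surjective. -/
theorem result {A B Cd Ce : Type u} [CommRing A] [CommRing B] [Algebra A B]
    [CommRing Cd] [Algebra A Cd] [CommRing Ce] [Algebra A Ce] (e : ℕ)
    (γd : PolLaw.MulLaw A B Cd (e + 1)) (hγd : PolLaw.IsGammaD γd)
    (γe : PolLaw.MulLaw A B Ce e) (hγe : PolLaw.IsGammaD γe)
    (ω : Cd ⊗[A] B →ₐ[A] Ce ⊗[A] B)
    (hω : ∀ (S : Type u) [CommSemiring S] [Algebra A S] (x y : S ⊗[A] B),
      ω.toLinearMap.lTensor S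
        ((Algebra.TensorProduct.includeLeft : Cd →ₐ[A] Cd ⊗[A] B).toLinearMap.lTensor S (γd.law.toFun' S x) *
          (Algebra.TensorProduct.includeRight : B →ₐ[A] Cd ⊗[A] B).toLinearMap.lTensor S y) =
      (Algebra.TensorProduct.includeLeft : Ce →ₐ[A] Ce ⊗[A] B).toLinearMap.lTensor S (γe.law.toFun' S x) *
        (Algebra.TensorProduct.includeRight : B →ₐ[A] Ce ⊗[A] B).toLinearMap.lTensor S (x * y)) :
    Function.Surjective ω := by
  classical
  open Groth.Agent.H22Alg.PL MvPolynomial in
  have main : ω.range = ⊤ := by
    let b' : Option B → B := fun o => o.elim 1 id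
    let inl : Ce →ₐ[A] Ce ⊗[A] B := Algebra.TensorProduct.includeLeft
    have hB : ∀ b : B, (1 : Ce) ⊗ₜ[A] b ∈ ω.range := fun b => by
      refine ⟨(1 : Cd) ⊗ₜ[A] b, ?_⟩
      have h := congrArg (TensorProduct.lid A (Ce ⊗[A] B)) (hω A 1 ((1 : A) ⊗ₜ[A] b))
      rw [(γd.mult A).1, (γe.mult A).1, one_mul] at h
      simp [Algebra.TensorProduct.one_def, Algebra.TensorProduct.tmul_mul_tmul] at h
      exact h
    have hC : ∀ (n : ℕ) (ν : Option B →₀ ℕ), e - ν none = n → co γe.law b' ν ⊗ₜ[A] (1 : B) ∈ ω.range := by
      intro n
      induction n using Nat.strong_induction_on with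
      | _ n ih =>
        intro ν hn
        by_cases hν : (ν.sum fun _ k => k) = e
        swap
        · rw [co_eq_zero_of_degree_ne γe.homog b' hν, TensorProduct.zero_tmul]
          exact zero_mem _
        set μ := ν + Finsupp.single none 1 with hμ
        set s := μ.support with hs
        let S := MvPolynomial (Option B) A
        have h := congrArg (fun z => cd (σ := Option B) z μ) (hω S (gen b' s) 1)
        simp only [mul_one] at h
        have h1 : (Algebra.TensorProduct.includeRight : B →ₐ[A] Cd ⊗[A] B).toLinearMap.lTensor S (1 : S ⊗[A] B) = 1 := by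
          simp [Algebra.TensorProduct.one_def]
        rw [h1, mul_one] at h
        have hl : cd (σ := Option B) (ω.toLinearMap.lTensor S
            ((Algebra.TensorProduct.includeLeft : Cd →ₐ[A] Cd ⊗[A] B).toLinearMap.lTensor S
              (γd.law.toFun' S (gen b' s)))) μ = ω (cd (σ := Option B) (γd.law.toFun' S (gen b' s)) μ ⊗ₜ[A] 1) := by
          generalize γd.law.toFun' S (gen b' s) = z
          induction z using TensorProduct.induction_on with
          | zero => simp
          | tmul p c =>
            rw [LinearMap.lTensor_tmul, LinearMap.lTensor_tmul, cd_tmul, cd_tmul, ← TensorProduct.smul_tmul', map_smul]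
            rfl
          | add a b ha hb => simp only [map_add, Finsupp.add_apply, TensorProduct.add_tmul, ha, hb]
        rw [hl] at h
        have hr : ∑ ν' ∈ s.finsuppAntidiag e, ∑ j ∈ s,
            (if ν' + Finsupp.single j 1 = μ then (1 : A) else 0) • (co γe.law b' ν' ⊗ₜ[A] b' j) ∈ ω.range := by
          refine ⟨_, h.trans ?_⟩
          rw [show gen b' s = ∑ j ∈ s, (X j : S) ⊗ₜ[A] b' j from rfl, eval_sum γe.homog]
          simp only [map_sum, LinearMap.lTensor_tmul, Finset.sum_mul, Finset.mul_sum,
            Algebra.TensorProduct.tmul_mul_tmul, AlgHom.toLinearMap_apply, Algebra.TensorProduct.includeLeft_apply,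
            Algebra.TensorProduct.includeRight_apply, mul_one, one_mul, Finsupp.finsetSum_apply, cd_tmul]
          try rw [Finset.sum_comm]
          refine Finset.sum_congr rfl fun ν' _ => Finset.sum_congr rfl fun j _ => ?_
          erw [cd_tmul]
          congr 1
          rw [Finsupp.prod, MvPolynomial.prod_X_pow_eq_monomial,
            show (X j : S) = monomial (Finsupp.single j 1) 1 from rfl, monomial_mul, one_mul, coeff_monomial]
        have hnone : none ∈ s := by simp [hs, hμ]
        have hνs : ν ∈ s.finsuppAntidiag e := Finset.mem_finsuppAntidiag'.mpr ⟨hν, fun o ho => by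
          simp only [hs, hμ, Finsupp.mem_support_iff, Finsupp.add_apply] at ho ⊢; omega⟩
        rw [← Finset.add_sum_erase _ _ hνs, ← Finset.add_sum_erase _ _ hnone, if_pos hμ.symm, one_smul,
          add_assoc] at hr
        refine (Subalgebra.toSubmodule ω.range).add_mem_iff_left ?_ |>.mp hr
        refine add_mem (sum_mem fun j hj => ?_) (sum_mem fun ν' hν' => sum_mem fun j _ => ?_)
        · rw [if_neg, zero_smul]
          · exact zero_mem _
          intro hc
          exact (Finset.ne_of_mem_erase hj) ((Finsupp.single_left_inj one_ne_zero).mp (add_left_cancel hc))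
        · split_ifs with hc
          swap
          · rw [zero_smul]; exact zero_mem _
          refine Subalgebra.smul_mem _ ?_ _
          have hj : j ≠ none := by
            rintro rfl
            exact (Finset.ne_of_mem_erase hν') (add_right_cancel hc)
          have hval : ν' none = ν none + 1 := by
            have := DFunLike.congr_fun hc none
            simpa [hμ, hj] using this
          have hle : ν' none ≤ e := by
            have hd := (Finset.mem_finsuppAntidiag'.mp (Finset.mem_of_mem_erase hν')).1
            by_cases h0 : none ∈ ν'.support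
            · rw [← hd]; exact Finset.single_le_sum (f := fun o => ν' o) (fun _ _ => Nat.zero_le _) h0
            · rw [Finsupp.notMem_support_iff.mp h0]; exact Nat.zero_le _
          rw [← mul_one (co γe.law b' ν'), ← one_mul (b' j), ← Algebra.TensorProduct.tmul_mul_tmul]
          exact mul_mem (ih (e - ν' none) (by omega) ν' rfl) (hB _)
    rw [eq_top_iff]
    intro z _
    induction z using TensorProduct.induction_on with
    | zero => exact zero_mem _
    | tmul c b =>
      rw [← mul_one c, ← one_mul b, ← Algebra.TensorProduct.tmul_mul_tmul]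
      refine mul_mem ?_ (hB b)
      have hc : c ∈ Submodule.span A (Set.range (co γe.law b')) :=
        (span_co_eq_top hγe (e := b') (eq_top_iff.mpr fun v _ => Submodule.subset_span ⟨some v, rfl⟩)).symm ▸
          Submodule.mem_top
      refine (Submodule.span_le (p := (Subalgebra.toSubmodule ω.range).comap inl.toLinearMap)).mpr ?_ hc
      rintro _ ⟨ν, rfl⟩
      exact hC _ ν rfl
    | add a b ha hb => exact add_mem (ha trivial) (hb trivial)
  exact AlgHom.range_eq_top ω |>.mp main

end Groth.Agent.S13399
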