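import Groth.Statements.S13402
import Groth.Agent.H20FF.Coinv

set_option autoImplicit false
universe u v w
open Hopf

namespace Groth.Agent.S13402
open TensorProduct

/-- Let k be a field and let A and B be finite-dimensional commutative and cocommutative Hopf algebras
over k (finite commutative k-group schemes G = Spec A and H = Spec B). Let f : B → A be a bialgebra
map (a homomorphism G → H) which is injective and such that the ideal of A generated by the image of
the augmentation ideal of B is the augmentation ideal of A (the homomorphism G → H has trivial
kernel). Then f is bijective, so G → H is an isomorphism; this is what makes the category of finite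
commutative k-group schemes abelian. -/
theorem result (k : Type u) [Field k] (A : Type v) (B : Type w)
    [CommRing A] [HopfAlgebra k A] [Module.Finite k A] [Coalgebra.IsCocomm k A]
    [CommRing B] [HopfAlgebra k B] [Module.Finite k B] [Coalgebra.IsCocomm k B]
    (f : B →ₐc[k] A) (hinj : Function.Injective f)
    (hker : Ideal.map f (RingHom.ker (Bialgebra.counitAlgHom k B)) = RingHom.ker (Bialgebra.counitAlgHom k A)) :
    Function.Bijective f := by
  refine ⟨hinj, fun c => ?_⟩
  refine Groth.Agent.H20FF.mem_range_of_coinvariant f (Bialgebra.counitBialgHom k A) hinj
    (fun r => ⟨algebraMap k A r, by simp⟩) (fun a ha => ?_) ?_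
  · exact hker.symm ▸ (RingHom.mem_ker.mpr ha)
  · exact Coalgebra.lTensor_counit_comul (R := k) c

end Groth.Agent.S13402
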