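import Groth.Statements.S13404
import Groth.Agent.H20Hopf.ConnComp
import Groth.Agent.H7Flat.FlatTransfer

set_option autoImplicit false
universe u v
open Hopf

namespace Groth.Agent.S13404

/-- Let R be a henselian local ring and G = Spec A a finite flat group scheme over R (A a commutative
Hopf algebra over R, finite and flat as an R-module; G need not be commutative). Let e be an
idempotent of A on which the counit takes the value 1 and such that A/(1 - e) is a local ring, so
that Spec A/(1 - e) is the connected component G⁰ of G containing the unit section. Then the ideal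
(1 - e) is a Hopf ideal (G⁰ is a closed subgroup scheme of G), A/(1 - e) is a henselian local ring
with the same residue field as R (the composite R → A/(1 - e) → residue field is surjective), and
A/(1 - e) is flat over R. (The published statement also asserts that G⁰ is normal in G; this row
does not state normality.) -/
theorem result (R : Type u) [CommRing R] [HenselianLocalRing R]
    (A : Type v) [CommRing A] [HopfAlgebra R A] [Module.Finite R A] [Module.Flat R A]
    (e : A) (he : IsIdempotentElem e) (hε : Bialgebra.counitAlgHom R A e = 1)
    [IsLocalRing (A ⧸ Ideal.span ({1 - e} : Set A))] :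
    (Ideal.span ({1 - e} : Set A)).IsHopfIdeal R ∧ HenselianLocalRing (A ⧸ Ideal.span ({1 - e} : Set A)) ∧
      Function.Surjective (⇑(IsLocalRing.residue (A ⧸ Ideal.span ({1 - e} : Set A))) ∘ ⇑(algebraMap R (A ⧸ Ideal.span ({1 - e} : Set A)))) ∧
      Module.Flat R (A ⧸ Ideal.span ({1 - e} : Set A)) := by
  refine ⟨H20Hopf.ConnComp.isHopfIdeal he hε, ?_, H20Hopf.ConnComp.residue_comp_surjective hε, H20Hopf.ConnComp.flat he⟩
  let B := A ⧸ Ideal.span ({1 - e} : Set A)
  let ε₀ : B →ₐ[R] R := H20Hopf.ConnComp.counit0 hε
  haveI : IsLocalHom (algebraMap R B) := ⟨fun r hr => by simpa using hr.map ε₀⟩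
  let mB := (IsLocalRing.maximalIdeal R).map (algebraMap R B)
  haveI : HenselianRing B mB := H9Hens.henselianRing_of_isIntegral B
  have hle : mB ≤ IsLocalRing.maximalIdeal B := IsLocalRing.map_maximalIdeal_le (algebraMap R B)
  have hrad : mB.radical = IsLocalRing.maximalIdeal B := by
    refine le_antisymm ((IsLocalRing.maximalIdeal.isMaximal B).isPrime.radical_le_iff.mpr hle) ?_
    rw [Ideal.radical_eq_sInf]
    refine le_sInf fun P ⟨hP, hPp⟩ => ?_
    haveI : P.IsPrime := hPp
    haveI : (P.comap (algebraMap R B)).IsMaximal := by
      rw [show P.comap (algebraMap R B) = IsLocalRing.maximalIdeal R from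
        le_antisymm (IsLocalRing.le_maximalIdeal (Ideal.comap_ne_top _ hPp.ne_top)) (Ideal.map_le_iff_le_comap.mp hP)]
      exact IsLocalRing.maximalIdeal.isMaximal R
    exact (IsLocalRing.eq_maximalIdeal (Ideal.isMaximal_of_isIntegral_of_isMaximal_comap P ‹_›)).ge
  have h := H9Hens.henselianRing_radical (I := mB)
  rw [hrad] at h
  exact H9Hens.henselianLocalRing_of_henselianRing

end Groth.Agent.S13404
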