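import Groth.Statements.S13406
import Groth.Agent.H06Font.GroupBound

set_option autoImplicit false
universe u
open Font

namespace Groth.Agent.S13406

/-- Let K be a finite extension of ℚ_p with ring of integers O (a complete discrete valuation ring of
characteristic zero with finite residue field of characteristic p) and absolute ramification index
e, so that pO = m^e. Let Γ = Spec A be a finite flat commutative group scheme over O killed by p^n
with n ≥ 1: A is a finite flat commutative and cocommutative Hopf algebra over O whose p^n-th power
endomorphism factors through the counit. Let L ⊆ K̄ be the field generated over K = Frac O by the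
coordinates of all K̄-points of Γ (the images of all O-algebra maps A → K̄), O_L the integral
closure of O in L, P its maximal ideal and e_{L/K} the ramification index. Then, writing the
different of O_L over O as P^d: (1) d < e_{L/K} · e · (n + 1/(p − 1)), i.e. v(𝔇_{L/K}) < e (n + 1/(p
− 1)) for the valuation v with v(K^×) = ℤ; and (2) for every K-automorphism σ ≠ 1 of L and every j
such that σ acts trivially on O_L/P^j one has j + d ≤ e_{L/K} · e · (n + 1/(p − 1)) — this is the
statement that the upper-numbering ramification groups G^{(u)} of Gal(L/K) (numbered so that G^{(u)}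
is the group usually written G^{u−1}) are trivial for u > e (n + 1/(p − 1)), rewritten through the
identity u_{L/K} = i_{L/K} + v(𝔇_{L/K}) between the largest u with G^{(u)} ≠ 1, the invariant
i_{L/K} = sup_{σ ≠ 1} min_{x ∈ O_L} v(σx − x) and the valuation of the different. -/
theorem result
    (O : Type u) [CommRing O] [IsDomain O] [IsDiscreteValuationRing O]
    [IsAdicComplete (IsLocalRing.maximalIdeal O) O] [CharZero O] [Finite (IsLocalRing.ResidueField O)]
    (p : ℕ) [Fact p.Prime] (hp : (p : O) ∈ IsLocalRing.maximalIdeal O)
    (eK : ℕ) (heK : Ideal.span {(p : O)} = IsLocalRing.maximalIdeal O ^ eK)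
    (A : Type u) [CommRing A] [HopfAlgebra O A] [Module.Finite O A] [Module.Flat O A] [Coalgebra.IsCocomm O A]
    (n : ℕ) (hn : 1 ≤ n)
    (hkill : SGA3b.powConv O A (p ^ n) = (Algebra.ofId O A).comp (Bialgebra.counitAlgHom O A))
    (L : IntermediateField (FractionRing O) (AlgebraicClosure (FractionRing O)))
    (hL : L = IntermediateField.adjoin (FractionRing O)
      (⋃ φ : A →ₐ[O] AlgebraicClosure (FractionRing O), Set.range φ))
    [FiniteDimensional (FractionRing O) L] [Algebra.IsSeparable (FractionRing O) L]
    [Module.IsTorsionFree O (integralClosure O L)] (P : Ideal (integralClosure O L)) [P.IsMaximal] :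
    ∃ d : ℕ, differentIdeal O (integralClosure O L) = P ^ d ∧
      (d : ℚ) < (P.ramificationIdx O : ℚ) * eK * (n + 1 / ((p : ℚ) - 1)) ∧
      ∀ σ : L ≃ₐ[FractionRing O] L, σ ≠ AlgEquiv.refl → ∀ j : ℕ,
        (∀ x : (integralClosure O L), ∃ y ∈ P ^ j, algebraMap (integralClosure O L) L y = σ (algebraMap (integralClosure O L) L x) - algebraMap (integralClosure O L) L x) →
          (j : ℚ) + d ≤ (P.ramificationIdx O : ℚ) * eK * (n + 1 / ((p : ℚ) - 1)) := by
  exact Groth.Agent.H06Font.ramification_bound_group p hp eK heK n hn hkill L hL P

end Groth.Agent.S13406
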