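import Groth.Statements.S13407
import Groth.Agent.H20Comod.LineTensor
import Groth.Agent.H20Comod.Diag
import Mathlib

set_option autoImplicit false
universe u
open TensorProduct
open Hopf

namespace Groth.Agent.S13407

/-- Let R be a Dedekind domain with fraction field K and let G = Spec A be a finite flat group scheme
over R (A a commutative Hopf algebra over R, finite and flat as an R-module). Closed flat R-subgroup
schemes of G correspond one-to-one to closed K-subgroup schemes of the generic fibre G_K under H ↦
H_K: the map sending a Hopf ideal J' of A with A/J' flat over R to the ideal it generates in K ⊗_R A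
is a bijection onto the set of Hopf ideals of the Hopf algebra K ⊗_R A over K (its inverse takes a
Hopf ideal of K ⊗_R A to its preimage in A). -/
theorem result (R : Type u) [CommRing R] [IsDedekindDomain R]
    (K : Type u) [Field K] [Algebra R K] [IsFractionRing R K]
    (A : Type u) [CommRing A] [HopfAlgebra R A] [Module.Finite R A] [Module.Flat R A] :
    Set.BijOn (fun J' : Ideal A => Ideal.map (Algebra.TensorProduct.includeRight : A →ₐ[R] K ⊗[R] A) J')
      {J' : Ideal A | J'.IsHopfIdeal R ∧ Module.Flat R (A ⧸ J')}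
      {J : Ideal (K ⊗[R] A) | J.IsHopfIdeal K} := by
  classical
  let ι : A →ₐ[R] K ⊗[R] A := Algebra.TensorProduct.includeRight
  have hfracs : ∀ z : K ⊗[R] A, ∃ (r : R) (a : A), r ≠ 0 ∧ algebraMap R K r • z = (1 : K) ⊗ₜ[R] a := by
    intro z
    induction z using TensorProduct.induction_on with
    | zero => exact ⟨1, 0, one_ne_zero, by simp⟩
    | tmul c a =>
      obtain ⟨r, s, hs, rfl⟩ := IsFractionRing.div_surjective (A := R) c
      refine ⟨s, r • a, nonZeroDivisors.ne_zero hs, ?_⟩
      rw [TensorProduct.smul_tmul', smul_eq_mul, mul_div_cancel₀ _ (IsFractionRing.to_map_ne_zero_of_mem_nonZeroDivisors hs),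
        TensorProduct.tmul_smul, TensorProduct.smul_tmul', Algebra.smul_def, mul_one]
    | add x y hx hy =>
      obtain ⟨r, a, hr, hra⟩ := hx
      obtain ⟨s, b, hs, hsb⟩ := hy
      refine ⟨r * s, s • a + r • b, mul_ne_zero hr hs, ?_⟩
      rw [smul_add, TensorProduct.tmul_add, TensorProduct.tmul_smul, TensorProduct.tmul_smul, ← hra, ← hsb,
        map_mul, ← algebraMap_smul K s, ← algebraMap_smul K r, smul_smul, smul_smul, mul_comm (algebraMap R K s)]
  have hle : ∀ J' : Ideal A, Module.Flat R (A ⧸ J') → (Ideal.map ι J').comap ι ≤ J' := by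
    intro J' _ a ha
    have h1 : Ideal.map ι J' ≤ RingHom.ker (Algebra.TensorProduct.map (AlgHom.id K K) (Ideal.Quotient.mkₐ R J')) :=
      Ideal.map_le_iff_le_comap.2 fun b hb => by
        show (1 : K) ⊗ₜ[R] Ideal.Quotient.mk J' b = 0
        rw [Ideal.Quotient.eq_zero_iff_mem.2 hb, TensorProduct.tmul_zero]
    have h2 : (1 : K) ⊗ₜ[R] Ideal.Quotient.mk J' a = 0 := h1 ha
    refine Ideal.Quotient.eq_zero_iff_mem.1 ((TensorProduct.lid R (A ⧸ J')).symm.injective ?_)
    refine Module.Flat.rTensor_preserves_injective_linearMap (M := A ⧸ J') (Algebra.linearMap R K)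
      (IsFractionRing.injective R K) ?_
    rw [map_zero, map_zero, TensorProduct.lid_symm_apply, LinearMap.rTensor_tmul]
    simpa using h2
  refine ⟨fun J' hJ' => ?_, fun J₁ h₁ J₂ h₂ h => ?_, fun J hJ => ?_⟩
  · obtain ⟨hH, hf⟩ := hJ'
    haveI := hH
    let π : K ⊗[R] A →ₐc[K] K ⊗[R] (A ⧸ J') := Bialgebra.TensorProduct.map (BialgHom.id K K) (Bialgebra.Quotient.mkBialgHom J')
    have hsurj : Function.Surjective π := by
      intro z
      induction z using TensorProduct.induction_on with
      | zero => exact ⟨0, map_zero _⟩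
      | tmul c x =>
        obtain ⟨y, rfl⟩ := Ideal.Quotient.mk_surjective x
        exact ⟨c ⊗ₜ[R] y, by rw [Bialgebra.TensorProduct.map_tmul]; rfl⟩
      | add x y hx hy =>
        obtain ⟨u, rfl⟩ := hx
        obtain ⟨v, rfl⟩ := hy
        exact ⟨u + v, map_add _ _ _⟩
    have hker : RingHom.ker (π : K ⊗[R] A →+* K ⊗[R] (A ⧸ J')) = Ideal.map ι J' := by
      have h := Algebra.TensorProduct.lTensor_ker (A := K) (Ideal.Quotient.mkₐ R J') Ideal.Quotient.mk_surjective
      rw [show RingHom.ker (Ideal.Quotient.mkₐ R J') = J' from Ideal.mk_ker] at h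
      exact h
    show (Ideal.map ι J').IsHopfIdeal K
    rw [← hker]
    exact H20Comod.isHopfIdeal_ker_bialgHom π hsurj
  · refine le_antisymm (fun a ha => hle J₂ h₂.2 ?_) (fun a ha => hle J₁ h₁.2 ?_)
    · show ι a ∈ Ideal.map ι J₂
      rw [show Ideal.map ι J₂ = Ideal.map ι J₁ from h.symm]
      exact Ideal.mem_map_of_mem ι ha
    · show ι a ∈ Ideal.map ι J₁
      rw [show Ideal.map ι J₁ = Ideal.map ι J₂ from h]
      exact Ideal.mem_map_of_mem ι ha
  · haveI : J.IsHopfIdeal K := hJ
    let J' : Ideal A := J.comap ι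
    let j : (A ⧸ J') →ₗ[R] (K ⊗[R] A) ⧸ J :=
      (Ideal.quotientMapₐ J ι le_rfl).toLinearMap
    have hj : Function.Injective j := Ideal.quotientMap_injective' (H := le_rfl) le_rfl
    haveI : Module.IsTorsionFree R ((K ⊗[R] A) ⧸ J) := Module.IsTorsionFree.trans_faithfulSMul R K _
    haveI : Module.IsTorsionFree R (A ⧸ J') := hj.moduleIsTorsionFree j (fun c x => map_smul j c x)
    haveI hflat : Module.Flat R (A ⧸ J') := inferInstance
    haveI : Module.Flat R ((K ⊗[R] A) ⧸ J) := inferInstance
    refine ⟨J', ⟨?_, hflat⟩, ?_⟩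
    · haveI : (J'.restrictScalars R).IsCoideal := by
        refine Submodule.IsCoideal.mk (fun a ha => ?_) (fun a ha => ?_)
        · have h := (Submodule.IsCoideal.counit_eq_zero (R := K) (I := J.restrictScalars K) (x := (1 : K) ⊗ₜ[R] a) ha)
          rw [TensorProduct.counit_tmul, CommSemiring.counit_apply] at h
          refine IsFractionRing.injective R K ?_
          rw [map_zero, Algebra.algebraMap_eq_smul_one]
          exact h
        · have h := (Submodule.IsCoideal.map_mkQ_comul_eq_zero (R := K) (I := J.restrictScalars K) (x := (1 : K) ⊗ₜ[R] a) ha)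
          rw [H20Comod.comul_one_tmul] at h
          haveI := IsLocalization.tensorProduct_compatibleSMul (nonZeroDivisors R) K ((K ⊗[R] A) ⧸ J) ((K ⊗[R] A) ⧸ J)
          let T := TensorProduct.equivOfCompatibleSMul R K K ((K ⊗[R] A) ⧸ J) ((K ⊗[R] A) ⧸ J)
          refine (TensorProduct.map_injective_of_flat_flat j j hj hj) (Eq.trans ?_ (map_zero _).symm)
          refine T.symm.injective (Eq.trans ?_ (map_zero _).symm)
          refine Eq.trans ?_ h
          generalize CoalgebraStruct.comul (R := R) a = z
          induction z using TensorProduct.induction_on with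
          | zero => rw [map_zero, map_zero, map_zero]; exact (congrArg T.symm (map_zero _)).trans (map_zero _)
          | tmul x y => rfl
          | add x y hx hy =>
            rw [map_add, map_add, map_add]
            exact ((congrArg T.symm (map_add _ _ _)).trans (map_add _ _ _)).trans (congrArg₂ (· + ·) hx hy)
      exact { (inferInstance : (J'.restrictScalars R).IsCoideal) with
        antipode_mem := fun a ha => by
          have h := Ideal.IsHopfIdeal.antipode_mem (R := K) (I := J) ha
          have he : HopfAlgebra.antipode K (ι a) = ι (HopfAlgebra.antipode R a) := by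
            show HopfAlgebra.antipode K ((1 : K) ⊗ₜ[R] a) = (1 : K) ⊗ₜ[R] _
            simp
          show ι (HopfAlgebra.antipode R a) ∈ J
          rw [← he]
          exact h }
    · refine le_antisymm (Ideal.map_le_iff_le_comap.2 le_rfl) fun z hz => ?_
      obtain ⟨r, a, hr, hra⟩ := hfracs z
      have ha : a ∈ J' := by
        show (1 : K) ⊗ₜ[R] a ∈ J
        rw [← hra]
        exact Submodule.smul_of_tower_mem J _ hz
      have hz' : z = (algebraMap R K r)⁻¹ • ι a := by
        show z = (algebraMap R K r)⁻¹ • ((1 : K) ⊗ₜ[R] a)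
        rw [← hra, inv_smul_smul₀ ((map_ne_zero_iff _ (IsFractionRing.injective R K)).2 hr)]
      rw [hz']
      exact Submodule.smul_of_tower_mem _ _ (Ideal.mem_map_of_mem ι ha)

end Groth.Agent.S13407
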