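import Groth.Statements.S13408
import Groth.Agent.H06Font.Final

set_option autoImplicit false
universe u
open Font

namespace Groth.Agent.S13408

/-- Let O be a complete discrete valuation ring with fraction field K of characteristic zero and perfect
residue field of characteristic p, with pO = m^e, and let A be an O-algebra isomorphic to O[[x_1,
..., x_m]]/(f_1, ..., f_m), finite and flat over O, with a non-zero element a of O, aO = m^v, such
that the Kähler differentials of A over O form a free A/aA-module. Let L ⊆ K̄ be the field generated
over K by the images of all O-algebra maps A → K̄ (the field of definition of the K̄-points of Y =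
Spec A), O_L the integral closure of O in L, P its maximal ideal, e_{L/K} the ramification index and
P^d the different. Then u_{L/K} ≤ v + e/(p − 1) for the ramification invariant u_{L/K} = i_{L/K} +
v(𝔇_{L/K}) (the largest upper-numbering break of Gal(L/K), in the numbering where G^{(u)} is the
group usually written G^{u−1}; here i_{L/K} = sup_{σ ≠ 1} min_{x ∈ O_L} v(σx − x) and v(K^×) = ℤ);
explicitly, for every K-automorphism σ ≠ 1 of L and every j such that σ acts trivially on O_L/P^j
one has j + d ≤ e_{L/K} · (v + e/(p − 1)). (The published text places this under 'K a complete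
discretely valued field of mixed characteristic'; the residue field is taken perfect here, which the
proof uses through O_L = O_K[π_L] (π_L a uniformizer of L).) -/
theorem result
    (O : Type u) [CommRing O] [IsDomain O] [IsDiscreteValuationRing O]
    [IsAdicComplete (IsLocalRing.maximalIdeal O) O] [CharZero O] [PerfectField (IsLocalRing.ResidueField O)]
    (p : ℕ) [Fact p.Prime] [CharP (IsLocalRing.ResidueField O) p]
    (eK : ℕ) (heK : Ideal.span {(p : O)} = IsLocalRing.maximalIdeal O ^ eK)
    (m : ℕ) (f : Fin m → MvPowerSeries (Fin m) O) (A : Type u) [CommRing A] [Algebra O A]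
    (eA : (MvPowerSeries (Fin m) O ⧸ Ideal.span (Set.range f)) ≃ₐ[O] A)
    [Module.Finite O A] [Module.Flat O A] (a : O) (ha : a ≠ 0) (va : ℕ)
    (hva : Ideal.span {a} = IsLocalRing.maximalIdeal O ^ va) (r : ℕ)
    (hΩ : Nonempty (KaehlerDifferential O A ≃ₗ[A] (Fin r → A ⧸ Ideal.span {algebraMap O A a})))
    (L : IntermediateField (FractionRing O) (AlgebraicClosure (FractionRing O)))
    (hL : L = IntermediateField.adjoin (FractionRing O)
      (⋃ φ : A →ₐ[O] AlgebraicClosure (FractionRing O), Set.range φ))
    [FiniteDimensional (FractionRing O) L] [Algebra.IsSeparable (FractionRing O) L]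
    [Module.IsTorsionFree O (integralClosure O L)] (P : Ideal (integralClosure O L)) [P.IsMaximal] :
    ∃ d : ℕ, differentIdeal O (integralClosure O L) = P ^ d ∧
      ∀ σ : L ≃ₐ[FractionRing O] L, σ ≠ AlgEquiv.refl → ∀ j : ℕ,
        (∀ x : (integralClosure O L), ∃ y ∈ P ^ j, algebraMap (integralClosure O L) L y = σ (algebraMap (integralClosure O L) L x) - algebraMap (integralClosure O L) L x) →
          (j : ℚ) + d ≤ (P.ramificationIdx O : ℚ) * (va + eK / ((p : ℚ) - 1)) := by
  exact Groth.Agent.H06Font.ramification_bound O p eK heK m f A eA a ha va hva r hΩ L hL P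

end Groth.Agent.S13408
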