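import Groth.Statements.S13410
import Groth.Agent.H02CA.BipFlow

set_option autoImplicit false
universe u v
open CombGraph

namespace Groth.Agent.S13410

open Groth.Agent.H02CA.BipFlow

/-- Let `A` be an abelian group and `G` a finite connected simple graph on `V`, bipartite for a
two-colouring `c`. Consider the additive group of labellings `x : Sym2 V → A` vanishing off the edge
set and with `∑_{e ∋ v} x e = 0` at every vertex `v`. If `e₀` is an edge whose deletion leaves `G`
connected, then evaluation at `e₀` restricted to this group is surjective and split: there is an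
additive map `φ : A → (Sym2 V → A)` with values in this group and with `φ a e₀ = a` for all `a`.
(The published statement concerns finite bipartite graphs in general; this row treats simple
graphs.) -/
theorem result {V : Type u} [Fintype V]
    [DecidableEq V] (G : SimpleGraph V) [DecidableRel G.Adj] (hconn : G.Connected) (c : V → Bool)
    (hbip : ∀ v w : V, G.Adj v w → c v ≠ c w) (A : Type v) [AddCommGroup A] (e₀ : Sym2 V)
    (he₀ : e₀ ∈ G.edgeSet) (hdel : (G.deleteEdges {e₀}).Connected) :
    ∃ φ : A →+ (Sym2 V → A),
      (∀ a : A, (∀ e : Sym2 V, e ∉ G.edgeSet → φ a e = 0) ∧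
        ∀ v : V, ∑ e ∈ G.incidenceFinset v, φ a e = 0) ∧
      ∀ a : A, φ a e₀ = a := by
  classical
  obtain ⟨v₀⟩ := hconn.nonempty
  have hle : G.deleteEdges {e₀} ≤ G := SimpleGraph.deleteEdges_le _
  obtain ⟨w, hw⟩ := exists_potential G c hbip _ hle hdel v₀
  let z : Sym2 V → ℤ := proj G c w (Pi.single e₀ 1)
  refine ⟨{ toFun := fun a e => z e • a, map_zero' := by ext; simp,
            map_add' := fun a b => by ext; simp [smul_add] }, fun a => ⟨fun e he => ?_, fun v => ?_⟩,
    fun a => ?_⟩
  · have h0 : z e = 0 :=
      proj_eq_zero G c (SimpleGraph.edgeSet_mono hle) w (fun v => (hw v).1) _ he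
    show z e • a = 0
    rw [h0, zero_smul]
  · show bd G (fun e => z e • a) v = 0
    rw [bd_smul_vec, show bd G z = 0 from bd_proj G c hbip hw _]
    simp
  · show z e₀ • a = a
    have h0 : lift c w (bd G (Pi.single e₀ (1 : ℤ))) e₀ = 0 :=
      lift_eq_zero c w (fun v => (hw v).1) _ (by simp [SimpleGraph.edgeSet_deleteEdges])
    simp [z, proj, h0, SimpleGraph.mem_edgeFinset, he₀]

end Groth.Agent.S13410
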