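import Groth.Statements.S13411
import Groth.Agent.H02CA.BipFlow

set_option autoImplicit false
universe u v
open CombGraph

namespace Groth.Agent.S13411

open Groth.Agent.H02CA.BipFlow

/-- Let `A` be an abelian group and `G` a finite connected simple graph on `V`, bipartite for a
two-colouring `c`, with cyclomatic number `n` (number of edges minus number of vertices plus one).
Then the additive group of labellings `x : Sym2 V → A` vanishing off the edge set and with `∑_{e ∋
v} x e = 0` at every vertex `v` is isomorphic to `A^n`: it is the range of an injective additive map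
`(Fin n → A) → (Sym2 V → A)`. (The published statement concerns finite bipartite graphs in general;
this row treats simple graphs.) -/
theorem result {V : Type u} [Fintype V]
    [DecidableEq V] (G : SimpleGraph V) [DecidableRel G.Adj] (hconn : G.Connected) (c : V → Bool)
    (hbip : ∀ v w : V, G.Adj v w → c v ≠ c w) (A : Type v) [AddCommGroup A] (n : ℕ)
    (hn : G.edgeFinset.card + 1 = Fintype.card V + n) :
    ∃ f : (Fin n → A) →+ (Sym2 V → A), Function.Injective f ∧
      Set.range f = {x : Sym2 V → A | (∀ e : Sym2 V, e ∉ G.edgeSet → x e = 0) ∧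
        ∀ v : V, ∑ e ∈ G.incidenceFinset v, x e = 0} := by
  classical
  obtain ⟨v₀⟩ := hconn.nonempty
  obtain ⟨w, hw⟩ := exists_potential G c hbip G le_rfl hconn v₀
  let D := {x : Sym2 V → ℤ // ∀ e, e ∉ G.edgeSet → x e = 0}
  let K : Submodule ℤ (Sym2 V → ℤ) :=
    { carrier := {x | (∀ e, e ∉ G.edgeSet → x e = 0) ∧ bd G x = 0}
      add_mem' := fun {x y} hx hy =>
        ⟨fun e he => by simp [hx.1 e he, hy.1 e he], by rw [map_add, hx.2, hy.2, add_zero]⟩
      zero_mem' := ⟨fun _ _ => rfl, map_zero _⟩
      smul_mem' := fun r x hx =>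
        ⟨fun e he => by simp [hx.1 e he], by rw [map_zsmul, hx.2, smul_zero]⟩ }
  have hP : ∀ x : Sym2 V → ℤ, proj G c w x ∈ K := fun x =>
    ⟨fun e he => proj_eq_zero G c subset_rfl w (fun v => (hw v).1) x he, bd_proj G c hbip hw x⟩
  have hfix : ∀ {B : Type v} [AddCommGroup B] (x : Sym2 V → B),
      (∀ e, e ∉ G.edgeSet → x e = 0) → bd G x = 0 → proj G c w x = x := by
    intro B _ x h1 h2
    funext e
    by_cases he : e ∈ G.edgeSet
    · simp [proj, h2, lift, SimpleGraph.mem_edgeFinset, he]
    · simp [proj, h2, lift, SimpleGraph.mem_edgeFinset, he, h1 e he]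
  have hrank : Module.finrank ℤ K = n := rank_eq G c hbip hw K (fun x => Iff.rfl) n hn
  let b : Module.Basis (Fin n) ℤ K := Module.finBasisOfFinrankEq ℤ K hrank
  let co : Sym2 V → Fin n → ℤ := fun d => b.repr ⟨_, hP (Pi.single d 1)⟩
  refine ⟨{ toFun := fun a e => ∑ j, (b j).1 e • a j, map_zero' := by ext; simp,
            map_add' := fun a a' => by ext; simp [smul_add, Finset.sum_add_distrib] }, ?_, ?_⟩
  · intro a a' h
    funext j
    have key : ∀ a : Fin n → A, ∑ d, co d j • (∑ i, (b i).1 d • a i) = a j := by
      intro a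
      have hsum : ∀ i, ∑ d, co d j * (b i).1 d = if i = j then 1 else 0 := by
        intro i
        have : (∑ d, (b i).1 d • (⟨_, hP (Pi.single d 1)⟩ : K)) = b i := by
          apply Subtype.ext
          funext e
          conv_rhs => rw [← congrFun (eq_proj_int G c w (b i).1 (b i).2.1 (b i).2.2) e,
            proj_eq_sum]
          simp [mul_comm]
        have h2 := congrArg (fun x => b.repr x j) this
        simp only [map_sum, map_zsmul, Finsupp.coe_finsetSum, Finset.sum_apply,
          Finsupp.smul_apply, smul_eq_mul, Module.Basis.repr_self, Finsupp.single_apply] at h2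
        rw [← h2]
        exact Finset.sum_congr rfl fun d _ => mul_comm _ _
      simp only [Finset.smul_sum, smul_smul]
      rw [Finset.sum_comm]
      simp only [← Finset.sum_smul, hsum]
      simp
    have h' : ∀ d, ∑ i, (b i).1 d • a i = ∑ i, (b i).1 d • a' i := fun d => congrFun h d
    rw [← key a, ← key a']
    simp only [h']
  · ext x
    constructor
    · rintro ⟨a, rfl⟩
      refine ⟨fun e he => ?_, fun v => ?_⟩
      · show ∑ j, (b j).1 e • a j = 0
        simp [(b _).2.1 e he]
      · show ∑ e ∈ G.incidenceFinset v, ∑ j, (b j).1 e • a j = 0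
        rw [Finset.sum_comm]
        refine Finset.sum_eq_zero fun j _ => ?_
        rw [← Finset.sum_smul, show (∑ e ∈ G.incidenceFinset v, (b j).1 e) = 0 from
          congrFun (b j).2.2 v, zero_smul]
    · rintro ⟨h1, h2⟩
      refine ⟨fun j => ∑ d, co d j • x d, ?_⟩
      funext e
      show ∑ j, (b j).1 e • (∑ d, co d j • x d) = x e
      conv_rhs => rw [← congrFun (hfix x h1 (funext h2)) e, proj_eq_sum]
      simp only [Finset.smul_sum, smul_smul]
      rw [Finset.sum_comm]
      refine Finset.sum_congr rfl fun d _ => ?_
      rw [← Finset.sum_smul]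
      congr 1
      have := congrArg (fun y : K => y.1 e) (b.sum_repr ⟨_, hP (Pi.single d 1)⟩)
      simp only [AddSubmonoidClass.coe_finsetSum, SetLike.val_smul, Finset.sum_apply,
        Pi.smul_apply, smul_eq_mul] at this
      rw [← this]
      exact Finset.sum_congr rfl fun j _ => mul_comm _ _

end Groth.Agent.S13411
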