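import Groth.Statements.S13416
import Groth.Agent.H18Et.UnibranchNormal
import Groth.Agent.H18Et.PushClosed
import Groth.Agent.H18Et.Cons.PushFinite
import Groth.Agent.H18Et.Cons.Apply
import Groth.Prelude.Def_EtCore
import Mathlib.RingTheory.DedekindDomain.IntegralClosure

set_option autoImplicit false
universe u
open CategoryTheory CategoryTheory.Limits AlgebraicGeometry
open HLoc2

namespace Groth.Agent.S13416.Aux

open Opposite Groth.Agent.H18Et Groth.Agent.H18Et.ConstSheaf
open scoped Groth.Agent.H18Et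

set_option backward.isDefEq.respectTransparency false
set_option backward.isDefEq.respectTransparency.types false

/-- Points of the integral closure of a noetherian normal two-dimensional local ring which are not
closed form a space in which the closed sets avoiding the generic point are finite. -/
theorem eq_of_chain {R O : Type u} [CommRing R] [CommRing O] [IsDomain O] [Algebra R O]
    [Algebra.IsIntegral R O] (hdim : ringKrullDim R = 2) {P Q : Ideal O} [P.IsPrime] [Q.IsPrime]
    (hP : P ≠ ⊥) (hQ : ¬ Q.IsMaximal) (hle : P ≤ Q) : P = Q := by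
  by_contra hne
  obtain ⟨m, hm, hQm⟩ := Q.exists_le_maximal (Ideal.IsPrime.ne_top ‹_›)
  haveI := hm.isPrime
  have h1 : Ideal.comap (algebraMap R O) ⊥ < Ideal.comap (algebraMap R O) P :=
    Ideal.IsIntegral.comap_lt_comap (bot_lt_iff_ne_bot.2 hP)
  have h2 : Ideal.comap (algebraMap R O) P < Ideal.comap (algebraMap R O) Q :=
    Ideal.IsIntegral.comap_lt_comap (lt_of_le_of_ne hle hne)
  have h3 : Ideal.comap (algebraMap R O) Q < Ideal.comap (algebraMap R O) m :=
    Ideal.IsIntegral.comap_lt_comap (lt_of_le_of_ne hQm fun e => hQ (e ▸ hm))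
  haveI : (Ideal.comap (algebraMap R O) (⊥ : Ideal O)).IsPrime := Ideal.comap_isPrime _ _
  let p : LTSeries (PrimeSpectrum R) :=
    ((RelSeries.singleton _ (PrimeSpectrum.mk (Ideal.comap (algebraMap R O) ⊥) inferInstance)).snoc
      ⟨Ideal.comap (algebraMap R O) P, inferInstance⟩ h1).snoc
      ⟨Ideal.comap (algebraMap R O) Q, inferInstance⟩ (by simpa [← PrimeSpectrum.asIdeal_lt_asIdeal] using h2) |>.snoc
      ⟨Ideal.comap (algebraMap R O) m, inferInstance⟩ (by simpa [← PrimeSpectrum.asIdeal_lt_asIdeal] using h3)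
  have h : ((p.length : ℕ) : WithBot ℕ∞) ≤ ringKrullDim R := Order.LTSeries.length_le_krullDim p
  rw [hdim] at h
  have h' : p.length ≤ 2 := by exact_mod_cast h
  simp [p] at h'

theorem finite_of_isClosed {T : Type*} [TopologicalSpace T] [TopologicalSpace.NoetherianSpace T]
    [QuasiSober T] {Z : Set T} (hZ : IsClosed Z) (hp : ∀ x ∈ Z, IsClosed ({x} : Set T)) :
    Z.Finite := by
  obtain ⟨S, hS, hc, hi, rfl⟩ :=
    TopologicalSpace.NoetherianSpace.exists_finite_set_isClosed_irreducible hZ
  refine hS.sUnion fun W hW => ?_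
  have hWi := hi W hW
  have hWc := hc W hW
  obtain ⟨x, hx⟩ := QuasiSober.sober hWi hWc
  have hxW : x ∈ W := hx ▸ subset_closure rfl
  have : W = {x} := hx.symm.trans (hp x ⟨W, hW, hxW⟩).closure_eq
  simp [this]

/-- Membership in the kernel of multiplication passes from sections to stalks. -/
theorem nsmul_stalk {X : Scheme.{u}} {F : EtCoh.Ab X} {m : ℕ} (h : EtCoh.KilledBy m F)
    {Ω : Type u} [Field Ω] [IsSepClosed Ω] (ξ : Spec (CommRingCat.of Ω) ⟶ X)
    (a : (EtCoh.stalk ξ).obj F) : m • a = 0 := by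
  obtain ⟨U, x, s, rfl⟩ := germ_surjective ξ F a
  erw [← map_nsmul, h U s, map_zero]

variable {U Un V' : Scheme.{u}} (π : Un ⟶ U) (j : V' ⟶ Un) [IsOpenImmersion j]
  {F : EtCoh.Ab U} {C : EtCoh.Ab V'} (e : (EtCoh.pull j).obj ((EtCoh.pull π).obj F) ≅ C)
  {G : EtCoh.Ab Un} (eG : G ≅ (EtCoh.push j).obj C)

/-- The comparison map into the direct image of the extended sheaf. -/
noncomputable def phi : (EtCoh.pull π).obj F ⟶ G :=
  (EtCoh.pullPushAdj j).unit.app _ ≫ (EtCoh.push j).map e.hom ≫ eG.inv

theorem bijective_phi {Ω : Type u} [Field Ω] [IsSepClosed Ω] (ζ : Spec (CommRingCat.of Ω) ⟶ V') :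
    Function.Bijective ((EtCoh.stalk (ζ ≫ j)).map (phi π j e eG)) := by
  have h1 := bijective_stalk_unit (liftsEtaleUniv_of_isOpenImmersion j) ((EtCoh.pull π).obj F) ζ
  haveI : IsIso ((EtCoh.stalk (ζ ≫ j)).map ((EtCoh.pullPushAdj j).unit.app ((EtCoh.pull π).obj F))) :=
    (ConcreteCategory.isIso_iff_bijective _).2 h1
  haveI : IsIso ((EtCoh.stalk (ζ ≫ j)).map (phi π j e eG)) := by
    rw [phi, Functor.map_comp]
    infer_instance
  exact ConcreteCategory.bijective_of_isIso _

/-- The adjoint map is injective on stalks over the open piece. -/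
theorem injective_psi {Ω : Type u} [Field Ω] [IsSepClosed Ω] (ζ : Spec (CommRingCat.of Ω) ⟶ Un)
    (φ : (EtCoh.pull π).obj F ⟶ G) (hφ : Function.Injective ((EtCoh.stalk ζ).map φ)) :
    Function.Injective ((EtCoh.stalk (ζ ≫ π)).map ((EtCoh.pullPushAdj π).homEquiv F G φ)) := by
  have h1 : φ = (EtCoh.pull π).map ((EtCoh.pullPushAdj π).homEquiv F G φ) ≫
      (EtCoh.pullPushAdj π).counit.app G := by
    exact ((Adjunction.homEquiv_counit ..).symm.trans ((EtCoh.pullPushAdj π).homEquiv F G |>.symm_apply_apply φ)).symm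
  haveI : Mono ((EtCoh.stalk ζ).map φ) := (AddCommGrpCat.mono_iff_injective _).2 hφ
  haveI : Mono ((EtCoh.stalk ζ).map
      ((EtCoh.pull π).map ((EtCoh.pullPushAdj π).homEquiv F G φ))) := by
    haveI : Mono ((EtCoh.stalk ζ).map ((EtCoh.pull π).map ((EtCoh.pullPushAdj π).homEquiv F G φ)) ≫
        (EtCoh.stalk ζ).map ((EtCoh.pullPushAdj π).counit.app G)) := by
      erw [← Functor.map_comp, ← h1]
      infer_instance
    exact mono_of_mono _ ((EtCoh.stalk ζ).map ((EtCoh.pullPushAdj π).counit.app G))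
  have h2 := (stalkPullIso π ζ).hom.naturality ((EtCoh.pullPushAdj π).homEquiv F G φ)
  haveI : Mono ((EtCoh.stalk (ζ ≫ π)).map ((EtCoh.pullPushAdj π).homEquiv F G φ)) := by
    have h3 : (EtCoh.stalk (ζ ≫ π)).map ((EtCoh.pullPushAdj π).homEquiv F G φ) =
        (stalkPullIso π ζ).inv.app _ ≫ (EtCoh.stalk ζ).map
          ((EtCoh.pull π).map ((EtCoh.pullPushAdj π).homEquiv F G φ)) ≫
            (stalkPullIso π ζ).hom.app _ := by
      simp only [Functor.comp_map] at h2
      rw [h2, ← Category.assoc, Iso.inv_hom_id_app, Category.id_comp]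
    rw [h3]
    infer_instance
  exact (AddCommGrpCat.mono_iff_injective _).1 inferInstance

theorem genericPoint_mem {X : Scheme.{u}} [IsIntegral X] (O : X.Opens) (h : (O : Set X).Nonempty) :
    genericPoint X ∈ O :=
  ((genericPoint_spec X).mem_open_set_iff O.isOpen).2 (by simpa using h)

end Groth.Agent.S13416.Aux

namespace Groth.Agent.S13416

open scoped Groth.Agent.H18Et in
set_option backward.isDefEq.respectTransparency false in
set_option maxHeartbeats 800000 in
/-- Let `k` be an algebraically closed field of characteristic zero, `R₀` an excellent normal henselian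
local `k`-domain of Krull dimension two with residue field `k`, `K` a finite extension of its
fraction field, `O_K` the integral closure of `R₀` in `K`, and `X` the open subscheme of `Spec O_K`
of non-closed points; let `U` be a nonempty open subscheme of `X`. Assume, as holds in this
situation, that `K` has etale cohomological dimension at most 2 and that the residue field of every
closed point of `U` has cohomological dimension at most 1. (The published text asserts both facts
for this situation without proof; this row carries them as hypotheses.) Let `F` be a constructible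
abelian etale sheaf on `U` with `mF = 0` for some `m ≥ 1`, `V` a nonempty open of `U`, and `π : U_n
→ U` a finite surjective morphism from an integral scheme with integrally closed local rings (for
instance the normalisation of `U` in a finite extension of `K`, which is the morphism the published
statement uses) that is etale over `V` and such that the pullback of `F` to `π⁻¹(V)` is a constant
sheaf with finite value group. Then there exist a finite abelian group `M` with `mM = 0`, a
constructible abelian etale sheaf `F_f` on `U` with finite support, and a monomorphism `F →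
π_*(M_{U_n}) ⊕ F_f` of abelian etale sheaves on `U`. -/
theorem result
    (k : Type u) [Field k] [IsAlgClosed k] [CharZero k]
    (R₀ : Type u) [CommRing R₀] [IsDomain R₀] [HenselianLocalRing R₀] [Algebra k R₀]
    [IsIntegrallyClosed R₀] (hexc : EGA4.IsExcellent R₀) (hdim : ringKrullDim R₀ = 2)
    (hres : Function.Surjective (fun a : k => IsLocalRing.residue R₀ (algebraMap k R₀ a)))
    (K : Type u) [Field K] [Algebra R₀ K] [Algebra (FractionRing R₀) K]
    [IsScalarTower R₀ (FractionRing R₀) K] [FiniteDimensional (FractionRing R₀) K]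
    (U : (Spec (CommRingCat.of ↥(integralClosure R₀ K))).Opens)
    (hU : ∀ x : ↥(Spec (CommRingCat.of ↥(integralClosure R₀ K))), x ∈ U →
      ¬ IsClosed ({x} : Set ↥(Spec (CommRingCat.of ↥(integralClosure R₀ K)))))
    (hne : Nonempty ↥(↑U : Scheme.{u}))
    (hcdK : EtCoh.CohDimLE (Spec (CommRingCat.of K)) 2)
    (hcdv : ∀ x : ↥(↑U : Scheme.{u}), IsClosed ({x} : Set ↥(↑U : Scheme.{u})) →
      EtCoh.CohDimLE (Spec ((↑U : Scheme.{u}).residueField x)) 1)
    (F : EtCoh.Ab (↑U : Scheme.{u})) (hF : EtPBC.IsConstructible F) (m : ℕ) (hm : 1 ≤ m)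
    (hmF : EtCoh.KilledBy m F) (V : (↑U : Scheme.{u}).Opens) (hV : Nonempty ↥(↑V : Scheme.{u}))
    (Un : Scheme.{u}) [IsIntegral Un] (hnorm : ∀ y : ↥Un, IsIntegrallyClosed ↑(Un.presheaf.stalk y))
    (π : Un ⟶ (↑U : Scheme.{u})) [IsFinite π] [Surjective π] [Etale (π ∣_ V)] (M₀ : Type) [AddCommGroup M₀] [Finite M₀]
    (hconst : Nonempty ((EtCoh.pull (π ⁻¹ᵁ V).ι).obj ((EtCoh.pull π).obj F) ≅
      EtCoh.const (↑(π ⁻¹ᵁ V) : Scheme.{u}) M₀)) :
    ∃ (M : Type) (_ : AddCommGroup M) (_ : Finite M), (∀ x : M, m • x = 0) ∧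
      ∃ (Ff : EtCoh.Ab (↑U : Scheme.{u})), EtPBC.IsConstructible Ff ∧ (EtPBC.supp Ff).Finite ∧
        ∃ ι : F ⟶ (EtCoh.push π).obj (EtCoh.const Un M) ⊞ Ff, Mono ι := by
  classical
  haveI : Algebra.IsIntegral R₀ ↥(integralClosure R₀ K) := inferInstance
  haveI : IsNoetherianRing R₀ := hexc.1
  haveI : CharZero (FractionRing R₀) :=
    charZero_of_injective_ringHom ((algebraMap R₀ (FractionRing R₀)).comp (algebraMap k R₀)).injective
  haveI : IsNoetherianRing ↥(integralClosure R₀ K) :=
    IsIntegralClosure.isNoetherianRing R₀ (FractionRing R₀) K ↥(integralClosure R₀ K)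
  haveI : IrreducibleSpace ↥(U : Scheme.{u}) :=
    haveI := hne
    haveI : IsIntegral (U : Scheme.{u}) := isIntegral_of_isOpenImmersion U.ι
    inferInstance
  haveI : IsLocallyNoetherian (U : Scheme.{u}) := LocallyOfFiniteType.isLocallyNoetherian U.ι
  haveI : TopologicalSpace.NoetherianSpace ↥(U : Scheme.{u}) :=
    U.ι.isOpenEmbedding.isInducing.noetherianSpace
  haveI : IsIntegral (U : Scheme.{u}) :=
    haveI := hne
    isIntegral_of_isOpenImmersion U.ι
  -- the finitely many bad points
  let Z : Set ↥(U : Scheme.{u}) := (V : Set ↥(U : Scheme.{u}))ᶜ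
  have hZc : IsClosed Z := V.isOpen.isClosed_compl
  have hη : genericPoint ↥(U : Scheme.{u}) ∈ V :=
    Aux.genericPoint_mem V (let ⟨v⟩ := hV; ⟨v.1, v.2⟩)
  have hZp : ∀ x ∈ Z, IsClosed ({x} : Set ↥(U : Scheme.{u})) := by
    intro x hx
    refine closure_subset_iff_isClosed.1 fun y hy => ?_
    have hs : x ⤳ y := specializes_iff_mem_closure.2 hy
    have hs' : U.ι.base x ⤳ U.ι.base y := hs.map U.ι.continuous
    have hle : (U.ι.base x).asIdeal ≤ (U.ι.base y).asIdeal :=
      (PrimeSpectrum.le_iff_specializes _ _).2 hs'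
    have hnb : (U.ι.base x).asIdeal ≠ ⊥ := fun hb => hx <| by
      have hgen : x = genericPoint ↥(U : Scheme.{u}) := by
        refine ((genericPoint_spec ↥(U : Scheme.{u})).eq ?_).symm
        show closure {x} = _
        refine Set.eq_univ_of_forall fun z => specializes_iff_mem_closure.1 ?_
        refine U.ι.isOpenEmbedding.isInducing.specializes_iff.1 ?_
        refine (PrimeSpectrum.le_iff_specializes _ _).1 ?_
        show (U.ι.base x).asIdeal ≤ (U.ι.base z).asIdeal
        rw [hb]
        exact bot_le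
      exact hgen ▸ hη
    have hy' := hU (U.ι.base y) y.2
    have hmax : ¬ (U.ι.base y).asIdeal.IsMaximal := fun hm =>
      hy' ((PrimeSpectrum.isClosed_singleton_iff_isMaximal _).2 hm)
    have := Aux.eq_of_chain (R := R₀) hdim hnb hmax hle
    exact U.ι.isOpenEmbedding.injective (PrimeSpectrum.ext this.symm)
  have hZf : Z.Finite := Aux.finite_of_isClosed hZc hZp
  let I := Scheme.IdealSheafData.vanishingIdeal (⟨Z, hZc⟩ : TopologicalSpace.Closeds ↥(U : Scheme.{u}))
  let i := I.subschemeι
  have hi : Set.range i.base = Z := by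
    simp [i, I]
  have hil : H18Et.LiftsEtaleUniv i := H18Et.liftsEtaleUniv_of_isClosedImmersion i
  have hcl : IsClosed (Set.range i.base) := i.isClosedEmbedding.isClosed_range
  -- the constant sheaf on the cover
  let V' := π ⁻¹ᵁ V
  let j := V'.ι
  have hη' : genericPoint Un ∈ Set.range j.base := by
    rw [Scheme.Opens.range_ι]
    obtain ⟨v⟩ := hV
    obtain ⟨y, hy⟩ := π.surjective v.1
    exact Aux.genericPoint_mem V' ⟨y, show π.base y ∈ V from hy.symm ▸ v.2⟩
  have hdense : DenseRange j.base :=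
    ((genericPoint_spec Un).mem_open_set_iff isOpen_univ).2 (by simp) |> fun _ => by
      refine Dense.mono (Set.singleton_subset_iff.2 hη') ?_
      exact dense_iff_closure_eq.2 (genericPoint_spec Un)
  let C₀ := EtCoh.const Un M₀
  haveI := H18Et.ConstSheaf.isIso_unit j hdense
    (H18Et.ConstSheaf.unibranchAlong_of_genericPoint hnorm j hη')
    (H18Et.ConstSheaf.isConstant_unitTop (X := Un) (AddCommGrpCat.of (ULift.{u + 1} M₀)))
  obtain ⟨e₀⟩ := hconst
  let eG : C₀ ≅ (EtCoh.push j).obj (EtCoh.const V' M₀) :=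
    asIso ((EtCoh.pullPushAdj j).unit.app C₀) ≪≫ (EtCoh.push j).mapIso (EtCore.pullConst j M₀)
  let φ := Aux.phi π j e₀ eG
  let ψ := (EtCoh.pullPushAdj π).homEquiv F C₀ φ
  refine ⟨M₀, inferInstance, inferInstance, fun a => ?_, (EtCoh.push i).obj ((EtCoh.pull i).obj F),
    H18Et.Cons.isConstructible_push_finite i _ (H18Et.Cons.isConstructible_pull i F hF),
    hZf.subset ?_, biprod.lift ψ ((EtCoh.pullPushAdj i).unit.app F), ?_⟩
  · -- `m` kills the value group
    obtain ⟨v⟩ := hV
    obtain ⟨y, hy⟩ := π.surjective v.1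
    let y' : ↥(V' : Scheme.{u}) := ⟨y, show π.base y ∈ V from hy.symm ▸ v.2⟩
    let ζ := H18Et.geomPt y'
    haveI : IsIso ((EtCoh.stalk (ζ ≫ j)).map φ) :=
      (ConcreteCategory.isIso_iff_bijective _).2 (Aux.bijective_phi π j e₀ eG ζ)
    let E : (EtCoh.stalk (ζ ≫ j ≫ π)).obj F ≅ (EtCoh.stalk (ζ ≫ j)).obj C₀ :=
      eqToIso (by rw [← Category.assoc]) ≪≫ ((H18Et.stalkPullIso π (ζ ≫ j)).app F).symm ≪≫
        asIso ((EtCoh.stalk (ζ ≫ j)).map φ)
    have hk : ∀ b : (EtCoh.stalk (ζ ≫ j)).obj C₀, m • b = 0 := fun b => by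
      obtain ⟨b', rfl⟩ := (ConcreteCategory.bijective_of_isIso E.hom).2 b
      erw [← map_nsmul, Aux.nsmul_stalk hmF _ b', map_zero]
    obtain ⟨x, -⟩ := H18Et.exists_fiber_over (U := EtCoh.top Un) (j.base y') (ζ ≫ j)
      (H18Et.geomPt_comp_base j y')
    have hb := H18Et.ConstSheaf.isConstant_unitTop (X := Un)
      (AddCommGrpCat.of (ULift.{u + 1} M₀)) _ (ζ ≫ j) (EtCoh.top Un) x
    let μ : AddCommGrpCat.of (ULift.{u + 1} M₀) →+ (EtCoh.stalk (ζ ≫ j)).obj C₀ :=
      AddMonoidHom.mk' (fun c => H18Et.germ (ζ ≫ j) C₀ (EtCoh.top Un) x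
        (H18Et.ConstSheaf.rest C₀ (EtCoh.top Un)
          (H18Et.ConstSheaf.unitTop (AddCommGrpCat.of (ULift.{u + 1} M₀)) c))) (fun c d => by
        simp [H18Et.ConstSheaf.rest, H18Et.ConstSheaf.unitTop])
    have : μ (m • ULift.up a) = μ 0 := by rw [map_nsmul, hk, map_zero]
    exact congrArg ULift.down (hb.1 this)
  · rw [← hi]
    exact (H18Et.push_essImage_iff hil hcl _).1 (Functor.obj_mem_essImage _ _)
  · refine H18Et.mono_of_stalk _ fun x => ?_
    by_cases hx : x ∈ V
    · obtain ⟨y, rfl⟩ := π.surjective x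
      let y' : ↥(V' : Scheme.{u}) := ⟨y, hx⟩
      refine ⟨_, _, SeparableClosure.isSepClosed _, (H18Et.geomPt y' ≫ j) ≫ π, ?_, ?_⟩
      · rw [Scheme.Hom.comp_apply, H18Et.geomPt_comp_base]
        rfl
      · have h := Aux.injective_psi π (H18Et.geomPt y' ≫ j) φ
          (Aux.bijective_phi π j e₀ eG (H18Et.geomPt y')).1
        have h' : (EtCoh.stalk ((H18Et.geomPt y' ≫ j) ≫ π)).map ψ =
            (EtCoh.stalk ((H18Et.geomPt y' ≫ j) ≫ π)).map
              (biprod.lift ψ ((EtCoh.pullPushAdj i).unit.app F)) ≫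
            (EtCoh.stalk ((H18Et.geomPt y' ≫ j) ≫ π)).map biprod.fst := by
          rw [← Functor.map_comp, biprod.lift_fst]
        intro a b hab
        refine h ?_
        rw [h', ConcreteCategory.comp_apply, ConcreteCategory.comp_apply]
        exact congrArg _ hab
    · obtain ⟨z, rfl⟩ : x ∈ Set.range i.base := hi ▸ hx
      refine ⟨_, _, SeparableClosure.isSepClosed _, H18Et.geomPt z ≫ i,
        H18Et.geomPt_comp_base i z, ?_⟩
      intro a b hab
      refine (H18Et.bijective_stalk_unit hil F (H18Et.geomPt z)).1 ?_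
      rw [← biprod.lift_snd ψ ((EtCoh.pullPushAdj i).unit.app F), Functor.map_comp,
        ConcreteCategory.comp_apply, ConcreteCategory.comp_apply]
      exact congrArg _ hab

end Groth.Agent.S13416
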