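import Groth.Statements.S1964
import Groth.Agent.H9Hens.BranchCore
import Groth.Agent.H9Hens.PairOps
import Groth.Agent.H9Hens.SepClosed
import Groth.Agent.H9Hens.Local
import Mathlib.FieldTheory.PurelyInseparable.Basic
import Mathlib.RingTheory.LocalRing.ResidueField.Basic
-- import your own Groth.Agent.* helpers here

set_option autoImplicit false
universe u
open EtAlg

namespace Groth.Agent.S1964

/-- A domain B integral over a henselian local ring A is itself henselian local, and the structure map A
-> B is local; if the residue field of A is separably closed, so is that of B, and the residue field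
extension is purely inseparable. -/
theorem result (A B : Type u) [CommRing A] [HenselianLocalRing A] [CommRing B]
    [IsDomain B] [Algebra A B] [Algebra.IsIntegral A B] :
    ∃ _ : HenselianLocalRing B, IsLocalHom (algebraMap A B) ∧
      (IsSepClosed (IsLocalRing.ResidueField A) →
        IsSepClosed (IsLocalRing.ResidueField B) ∧
        ∀ _ : IsLocalHom (algebraMap A B),
          letI := (IsLocalRing.ResidueField.map (algebraMap A B)).toAlgebra
          IsPurelyInseparable (IsLocalRing.ResidueField A) (IsLocalRing.ResidueField B)) := by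
  haveI : IsLocalRing B := by
    obtain ⟨M, hM⟩ := Ideal.exists_maximal B
    exact IsLocalRing.of_unique_max_ideal ⟨M, hM, fun N hN =>
      H9Hens.maximal_eq_of_prime_le_of_isIntegral (R := A) (P := (⊥ : Ideal B)) bot_le bot_le⟩
  haveI hloc : IsLocalHom (algebraMap A B) := by
    refine ((IsLocalRing.local_hom_TFAE (algebraMap A B)).out 0 4).mpr ?_
    exact IsLocalRing.eq_maximalIdeal (Ideal.isMaximal_comap_of_isIntegral_of_isMaximal (R := A) _)
  have hrad : ((IsLocalRing.maximalIdeal A).map (algebraMap A B)).radical = IsLocalRing.maximalIdeal B := by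
    refine le_antisymm ((Ideal.IsMaximal.isPrime inferInstance).radical_le_iff.mpr
      (((IsLocalRing.local_hom_TFAE (algebraMap A B)).out 0 2).mp hloc)) ?_
    rw [Ideal.radical_eq_sInf]
    refine le_sInf ?_
    rintro P ⟨hP, hPp⟩
    haveI := hPp
    have h1 : (P.comap (algebraMap A B)) = IsLocalRing.maximalIdeal A :=
      le_antisymm (IsLocalRing.le_maximalIdeal (Ideal.IsPrime.ne_top inferInstance)) (Ideal.map_le_iff_le_comap.mp hP)
    haveI : P.IsMaximal := Ideal.isMaximal_of_isIntegral_of_isMaximal_comap (R := A) P
      (by rw [h1]; infer_instance)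
    exact (IsLocalRing.eq_maximalIdeal ‹P.IsMaximal›).ge
  haveI := H9Hens.henselianRing_of_isIntegral (I := IsLocalRing.maximalIdeal A) B
  haveI : HenselianRing B (IsLocalRing.maximalIdeal B) := hrad ▸ H9Hens.henselianRing_radical
  haveI hB : HenselianLocalRing B := H9Hens.henselianLocalRing_of_henselianRing
  refine ⟨hB, hloc, fun hs => ?_⟩
  letI : Algebra (IsLocalRing.ResidueField A) (IsLocalRing.ResidueField B) :=
    (IsLocalRing.ResidueField.map (algebraMap A B)).toAlgebra
  haveI : IsScalarTower A (IsLocalRing.ResidueField A) (IsLocalRing.ResidueField B) :=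
    IsScalarTower.of_algebraMap_eq fun a => (IsLocalRing.ResidueField.map_residue _ a).symm
  haveI : Algebra.IsIntegral A (IsLocalRing.ResidueField B) := ⟨fun x => by
    obtain ⟨b, rfl⟩ := IsLocalRing.residue_surjective x
    exact (Algebra.IsIntegral.isIntegral (R := A) b).map (IsScalarTower.toAlgHom A B (IsLocalRing.ResidueField B))⟩
  haveI : Algebra.IsIntegral (IsLocalRing.ResidueField A) (IsLocalRing.ResidueField B) :=
    Algebra.IsIntegral.tower_top (R := A)
  haveI : Algebra.IsAlgebraic (IsLocalRing.ResidueField A) (IsLocalRing.ResidueField B) :=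
    Algebra.IsIntegral.isAlgebraic
  exact ⟨H9Hens.isSepClosed_of_isAlgebraic (IsLocalRing.ResidueField A), fun _ => inferInstance⟩

end Groth.Agent.S1964
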