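import Groth.Statements.S13417
import Groth.Agent.S1964
import Groth.Agent.H05EGA4.NormalTensorGeom
import Groth.Agent.H05EGA4.PSSep
import Groth.Agent.H06Red.Algebra

set_option autoImplicit false
universe u
open scoped TensorProduct
open HLoc2

namespace Groth.Agent.S13417

/-- Let `k` be a field with separable closure `kˢ` and `R₀` a commutative local `k`-algebra which is
excellent, henselian, integrally closed, of Krull dimension two, with residue field `k`, and
geometrically integral (`R₀ ⊗_k kˢ` is a domain). Then `R₀ ⊗_k kˢ` is a henselian local ring which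
is integrally closed, of Krull dimension two, and whose residue field is `kˢ` (the composite `kˢ →
R₀ ⊗_k kˢ →` residue field is surjective). (The published statement also asserts that `R₀ ⊗_k kˢ` is
excellent; that assertion is not restated here.) -/
theorem result
    (k : Type u) [Field k] (R₀ : Type u) [CommRing R₀] [IsDomain R₀] [HenselianLocalRing R₀] [Algebra k R₀]
    [IsIntegrallyClosed R₀] (hexc : EGA4.IsExcellent R₀) (hdim : ringKrullDim R₀ = 2)
    (hres : Function.Surjective (fun a : k => IsLocalRing.residue R₀ (algebraMap k R₀ a)))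
    [IsDomain (R₀ ⊗[k] SeparableClosure k)] :
    ∃ _ : HenselianLocalRing (R₀ ⊗[k] SeparableClosure k),
      IsIntegrallyClosed (R₀ ⊗[k] SeparableClosure k) ∧
      ringKrullDim (R₀ ⊗[k] SeparableClosure k) = 2 ∧
      Function.Surjective (fun a : SeparableClosure k =>
        IsLocalRing.residue (R₀ ⊗[k] SeparableClosure k)
          ((Algebra.TensorProduct.includeRight : SeparableClosure k →ₐ[k] R₀ ⊗[k] SeparableClosure k) a)) := by
  let ks := SeparableClosure k
  let T := R₀ ⊗[k] SeparableClosure k
  let ir : SeparableClosure k →ₐ[k] T := Algebra.TensorProduct.includeRight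
  haveI : Algebra.IsIntegral R₀ T := inferInstance
  haveI hred : Algebra.IsGeometricallyReduced k ks := Algebra.IsGeometricallyReduced.of_forall_fg fun B hB => by
    haveI : Algebra.IsIntegral k B := Algebra.IsIntegral.of_injective B.val Subtype.val_injective
    haveI : Algebra.FiniteType k B := (Subalgebra.fg_iff_finiteType _).1 hB
    haveI : Module.Finite k B := Algebra.IsIntegral.finite
    haveI : IsDomain B := inferInstance
    letI : Field B := (isField_of_isIntegral_of_isField' (R := k) (S := B) (Field.toIsField k)).toField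
    haveI : Algebra.IsSeparable k B := Algebra.IsSeparable.of_algHom k (SeparableClosure k) B.val
    haveI : Algebra.FormallyUnramified k B := Algebra.FormallyUnramified.of_isSeparable k B
    rw [Algebra.isGeometricallyReduced_field_iff]
    exact Algebra.FormallyUnramified.isReduced_of_field (AlgebraicClosure k) _
  have hgn : EGA4.IsGeomNormal k ks := by
    intro L _ _ hL q _
    haveI : IsReduced (ks ⊗[k] L) := Groth.Agent.H06Red.isReduced_tensor k ks L
    haveI : IsReduced (L ⊗[k] ks) := isReduced_of_injective (Algebra.TensorProduct.comm k L ks)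
      (Algebra.TensorProduct.comm k L ks).injective
    haveI : IsArtinianRing (ks ⊗[k] L) := IsArtinianRing.of_finite ks (ks ⊗[k] L)
    haveI : IsArtinianRing (L ⊗[k] ks) := (Algebra.TensorProduct.comm k ks L).toRingEquiv.isArtinianRing
    haveI : IsArtinianRing (Localization.AtPrime q) := IsArtinianRing.localization_artinian q.primeCompl _
    have hF : IsField (Localization.AtPrime q) := IsArtinianRing.isField_of_isReduced_of_isLocalRing _
    letI := hF.toField
    exact ⟨inferInstance, inferInstance⟩
  have hR : EGA4.IsNormalRing R₀ := fun q _ => ⟨inferInstance,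
    isIntegrallyClosed_of_isLocalization (Localization.AtPrime q) q.primeCompl q.primeCompl_le_nonZeroDivisors⟩
  have hN : EGA4.IsNormalRing T := Groth.Agent.H05EGA4.isNormalRing_of_ringEquiv
    (Algebra.TensorProduct.comm k ks R₀).toRingEquiv (Groth.Agent.H05EGA4.isNormalRing_tensor_of_isGeomNormal_general hgn R₀ hR)
  obtain ⟨hH, hloc, -⟩ := Groth.Agent.S1964.result R₀ T
  haveI : HenselianLocalRing T := hH
  haveI : IsLocalRing T := hH.toIsLocalRing
  refine ⟨hH, Groth.Agent.H05EGA4.isIntegrallyClosed_of_isNormalRing hN, ?_, ?_⟩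
  · rw [(Groth.Agent.H05EGA4.dim_int R₀ T).2 (Algebra.TensorProduct.includeLeft_injective (S := R₀)
      (algebraMap k (SeparableClosure k)).injective), hdim]
  · intro z
    obtain ⟨z, rfl⟩ := IsLocalRing.residue_surjective z
    induction z using TensorProduct.induction_on with
    | zero => exact ⟨0, by simp⟩
    | add a b ha hb =>
      obtain ⟨x, hx⟩ := ha
      obtain ⟨y, hy⟩ := hb
      exact ⟨x + y, by simp only [map_add, ← hx, ← hy]⟩
    | tmul r a =>
      obtain ⟨c, hc⟩ := hres (IsLocalRing.residue R₀ r)
      refine ⟨algebraMap k _ c * a, ?_⟩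
      have hm : r - algebraMap k R₀ c ∈ IsLocalRing.maximalIdeal R₀ := by
        have h0 : IsLocalRing.residue R₀ (algebraMap k R₀ c) = IsLocalRing.residue R₀ r := hc
        rw [← IsLocalRing.residue_eq_zero_iff, map_sub, h0, sub_self]
      have hm' : algebraMap R₀ T (r - algebraMap k R₀ c) ∈ IsLocalRing.maximalIdeal T :=
        map_nonunit (algebraMap R₀ T) _ hm
      show IsLocalRing.residue T (ir (algebraMap k _ c * a)) = IsLocalRing.residue T (r ⊗ₜ a)
      symm
      refine Ideal.Quotient.eq.2 ?_
      let am : R₀ →+* (R₀ ⊗[k] SeparableClosure k) := Algebra.TensorProduct.includeLeftRingHom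
      have e : (r ⊗ₜ[k] a) - ir (algebraMap k (SeparableClosure k) c * a) =
          am (r - algebraMap k R₀ c) * ir a := by
        have h1 : ∀ (x : R₀), am x * ir a = x ⊗ₜ[k] a := fun x => by
          show (x ⊗ₜ[k] (1 : SeparableClosure k)) * ((1 : R₀) ⊗ₜ[k] a) = x ⊗ₜ[k] a
          rw [Algebra.TensorProduct.tmul_mul_tmul, mul_one, one_mul]
        rw [map_sub, sub_mul, h1, h1]
        congr 1
        show (1 : R₀) ⊗ₜ[k] (algebraMap k (SeparableClosure k) c * a) = algebraMap k R₀ c ⊗ₜ[k] a
        rw [← Algebra.smul_def, TensorProduct.tmul_smul, TensorProduct.smul_tmul', ← Algebra.algebraMap_eq_smul_one]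
      exact e ▸ Ideal.mul_mem_right _ _ hm'

end Groth.Agent.S13417
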