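import Groth.Statements.S13419
import Groth.Agent.H28Neron.Mapping

set_option autoImplicit false
universe u
open CategoryTheory AlgebraicGeometry
open NeronHD

open CategoryTheory CategoryTheory.Limits AlgebraicGeometry

namespace Groth.Agent.S13419

/-- Let S be a locally Noetherian scheme over a field of characteristic 0, S₀ ⊆ S₁ ⊆ S opens with S₀
scheme-theoretically dense in S, and N a smooth S-scheme. If N has the Néron mapping property for S₁
⊆ S and the restriction N|S₁ has the Néron mapping property for S₀ ⊆ S₁ (in both cases: restriction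
of morphisms from smooth schemes over the base is bijective), then N has the Néron mapping property
for S₀ ⊆ S. (Case of schemes, with smooth test schemes, of a statement about algebraic spaces.) -/
theorem result {k : Type u} [Field k] [CharZero k] {S : Scheme.{u}} (σ : S ⟶ Spec (CommRingCat.of k)) [IsLocallyNoetherian S] (S₀ S₁ : S.Opens) (h01 : S₀ ≤ S₁) (hS₀ : CInt.IsSchematicallyDense S₀)
    (N : Over S) [Smooth N.hom]
    (hN1 : ∀ Z : Over S, Smooth Z.hom → Function.Bijective (fun g : Z ⟶ N => (Over.pullback S₁.ι).map g))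
    (hN10 : ∀ Z : Over (S₁ : Scheme.{u}), Smooth Z.hom → Function.Bijective (fun g : Z ⟶ (Over.pullback S₁.ι).obj N => (Over.pullback (S₁.ι ⁻¹ᵁ S₀).ι).map g)) :
    ∀ Z : Over S, Smooth Z.hom → Function.Bijective (fun g : Z ⟶ N => (Over.pullback S₀.ι).map g) := by
  intro Z hZ
  let Z₁ : Over (S₁ : Scheme.{u}) := (Over.pullback S₁.ι).obj Z
  have hZ₁ : Smooth Z₁.hom := by
    haveI := hZ
    dsimp [Z₁, Over.pullback]; infer_instance
  let j : ((S₁.ι ⁻¹ᵁ S₀ : S₁.toScheme.Opens) : Scheme.{u}) ⟶ (S₁ : Scheme.{u}) := (S₁.ι ⁻¹ᵁ S₀).ι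
  obtain ⟨c, hc⟩ : ∃ c : ((S₁.ι ⁻¹ᵁ S₀ : S₁.toScheme.Opens) : Scheme.{u}) ⟶ (S₀ : Scheme.{u}), c ≫ S₀.ι = j ≫ S₁.ι :=
    ⟨IsOpenImmersion.lift S₀.ι (j ≫ S₁.ι) (by
        rw [Scheme.Opens.range_ι]; rintro _ ⟨x, rfl⟩; exact x.2), IsOpenImmersion.lift_fac _ _ _⟩
  obtain ⟨d, hd⟩ : ∃ d : (S₀ : Scheme.{u}) ⟶ ((S₁.ι ⁻¹ᵁ S₀ : S₁.toScheme.Opens) : Scheme.{u}), d ≫ j = S.homOfLE h01 :=
    ⟨IsOpenImmersion.lift j (S.homOfLE h01) (by
        simp only [j, Scheme.Opens.range_ι]
        rintro _ ⟨x, rfl⟩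
        change S₁.ι (S.homOfLE h01 x) ∈ S₀
        rw [← Scheme.Hom.comp_apply, Scheme.homOfLE_ι]
        exact x.2), IsOpenImmersion.lift_fac _ _ _⟩
  let p₁ := pullback.fst Z.hom S₁.ι
  let q : pullback Z₁.hom j ⟶ pullback Z.hom S₀.ι :=
    pullback.lift (pullback.fst Z₁.hom j ≫ p₁) (pullback.snd Z₁.hom j ≫ c) (by
      rw [Category.assoc, Category.assoc, hc]
      simp only [p₁, pullback.condition]
      exact pullback.condition_assoc S₁.ι)
  have hq : q ≫ pullback.fst Z.hom S₀.ι = pullback.fst Z₁.hom j ≫ p₁ := pullback.lift_fst _ _ _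
  constructor
  · refine Groth.Agent.H28Neron.injective_iff.2 fun g g' h => ?_
    refine Groth.Agent.H28Neron.injective_iff.1 (hN1 Z hZ).1 g g' ?_
    have key : (Over.pullback S₁.ι).map g = (Over.pullback S₁.ι).map g' := by
      refine Groth.Agent.H28Neron.injective_iff.1 (hN10 Z₁ hZ₁).1 _ _ ?_
      apply (cancel_mono (pullback.fst N.hom S₁.ι)).1
      simp only [Category.assoc]
      have e : ∀ m : Z ⟶ N, ((Over.pullback S₁.ι).map m).left ≫ pullback.fst N.hom S₁.ι = p₁ ≫ m.left := fun m => pullback.lift_fst _ _ _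
      change pullback.fst Z₁.hom j ≫ ((Over.pullback S₁.ι).map g).left ≫ pullback.fst N.hom S₁.ι =
        pullback.fst Z₁.hom j ≫ ((Over.pullback S₁.ι).map g').left ≫ pullback.fst N.hom S₁.ι
      rw [e, e, ← Category.assoc, ← hq, Category.assoc, h, ← Category.assoc, hq, Category.assoc]
    exact Groth.Agent.H28Neron.map_eq_iff.1 key
  · refine Groth.Agent.H28Neron.surjective_iff.2 fun h hh => ?_
    obtain ⟨m, hm⟩ := Groth.Agent.H28Neron.surjective_iff.1 (hN10 Z₁ hZ₁).2
      (pullback.lift (q ≫ h) (pullback.fst Z₁.hom j ≫ Z₁.hom) (by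
        rw [Category.assoc, hh, ← Category.assoc, hq, Category.assoc, Category.assoc]
        exact congrArg (_ ≫ ·) pullback.condition)) (pullback.lift_snd _ _ _)
    obtain ⟨g, hg⟩ := Groth.Agent.H28Neron.surjective_iff.1 (hN1 Z hZ).2 (m.left ≫ pullback.fst N.hom S₁.ι) (by
      have w : m.left ≫ pullback.snd N.hom S₁.ι = pullback.snd Z.hom S₁.ι := Over.w m
      rw [Category.assoc, pullback.condition, ← Category.assoc, w]
      exact pullback.condition.symm)
    refine ⟨g, ?_⟩
    let s₁ : pullback Z.hom S₀.ι ⟶ pullback Z.hom S₁.ι :=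
      pullback.lift (pullback.fst _ _) (pullback.snd _ _ ≫ S.homOfLE h01)
        (by rw [Category.assoc, Scheme.homOfLE_ι, pullback.condition])
    let s : pullback Z.hom S₀.ι ⟶ pullback Z₁.hom j :=
      pullback.lift s₁ (pullback.snd _ _ ≫ d) (by
        rw [Category.assoc, hd]; exact pullback.lift_snd _ _ _)
    have hs : s ≫ pullback.fst Z₁.hom j = s₁ := pullback.lift_fst _ _ _
    have hs₁ : s₁ ≫ p₁ = pullback.fst Z.hom S₀.ι := pullback.lift_fst _ _ _
    have hsq : s ≫ q = 𝟙 _ := by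
      apply (cancel_mono (pullback.fst Z.hom S₀.ι)).1
      rw [Category.assoc, hq, ← Category.assoc, hs, hs₁, Category.id_comp]
    have := congrArg (fun t => s ≫ t ≫ pullback.fst N.hom S₁.ι) hm
    simp only [Category.assoc] at this
    erw [pullback.lift_fst, ← hg, ← Category.assoc s q h, hsq, Category.id_comp, reassoc_of% hs, reassoc_of% hs₁] at this
    exact this

end Groth.Agent.S13419
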