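-- statement FlatMor.GrothFrozen.S1342 (Groth/Statements/S1342.lean; the theorem FlatMor.cmLocus_baseChange);
import Groth.Statements.S1342
import Groth.Agent.H7Flat.CMFieldExt
import Groth.Agent.H8Props.FibreCriterion

set_option autoImplicit false
universe u
open FlatMor

namespace Groth.Agent.S1342
set_option backward.isDefEq.respectTransparency false

open AlgebraicGeometry CategoryTheory Limits in
/-- For a flat morphism locally of finite presentation, the formation of the Cohen–Macaulay locus
commutes with arbitrary base change: in a cartesian square the Cohen–Macaulay locus of the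
base-changed morphism is the preimage of the Cohen–Macaulay locus of f. -/
theorem result {X S X' S' : Scheme.{u}} (f : X ⟶ S) [Flat f] [LocallyOfFinitePresentation f]
    (f' : X' ⟶ S') (g' : X' ⟶ X) (g : S' ⟶ S) (hc : IsPullback g' f' f g) :
    {x' : ↑X' | MoreMor.IsCMAt f' x'} = g' ⁻¹' {x : ↑X | MoreMor.IsCMAt f x} := by
  ext x'
  constructor
  · intro h
    exact ⟨Flat.stalkMap f _, (Groth.Agent.H7Flat.CMBC.fibre_cm_baseChange hc x'
      (fun s => Groth.Agent.H7Flat.CMBC.isLocallyNoetherian_fiber f s) (Or.inl inferInstance)).mp h.2⟩
  · intro h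
    haveI : Flat f' := MorphismProperty.of_isPullback hc inferInstance
    exact ⟨Flat.stalkMap f' _, (Groth.Agent.H7Flat.CMBC.fibre_cm_baseChange hc x'
      (fun s => Groth.Agent.H7Flat.CMBC.isLocallyNoetherian_fiber f s) (Or.inl inferInstance)).mpr h.2⟩

end Groth.Agent.S1342
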