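import Groth.Statements.S13420
import Groth.Agent.H28Neron.Mapping

set_option autoImplicit false
universe u
open CategoryTheory AlgebraicGeometry
open NeronHD

open CategoryTheory CategoryTheory.Limits AlgebraicGeometry

namespace Groth.Agent.S13420

/-- Let S be a locally Noetherian scheme over a field of characteristic 0, S₀ ⊆ S₁ ⊆ S opens with S₀
scheme-theoretically dense in S, and N a smooth S-scheme. If N has the Néron mapping property for S₀
⊆ S and N|S₁ has the Néron mapping property for S₀ ⊆ S₁ (restriction of morphisms from smooth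
schemes over the base is bijective), then N has the Néron mapping property for S₁ ⊆ S. (Case of
schemes, with smooth test schemes, of a statement about algebraic spaces.) -/
theorem result {k : Type u} [Field k] [CharZero k] {S : Scheme.{u}} (σ : S ⟶ Spec (CommRingCat.of k)) [IsLocallyNoetherian S] (S₀ S₁ : S.Opens) (h01 : S₀ ≤ S₁) (hS₀ : CInt.IsSchematicallyDense S₀)
    (N : Over S) [Smooth N.hom]
    (hN0 : ∀ Z : Over S, Smooth Z.hom → Function.Bijective (fun g : Z ⟶ N => (Over.pullback S₀.ι).map g))
    (hN10 : ∀ Z : Over (S₁ : Scheme.{u}), Smooth Z.hom → Function.Bijective (fun g : Z ⟶ (Over.pullback S₁.ι).obj N => (Over.pullback (S₁.ι ⁻¹ᵁ S₀).ι).map g)) :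
    ∀ Z : Over S, Smooth Z.hom → Function.Bijective (fun g : Z ⟶ N => (Over.pullback S₁.ι).map g) := by
  intro Z hZ
  let r : pullback Z.hom S₀.ι ⟶ pullback Z.hom S₁.ι :=
    pullback.lift (pullback.fst _ _) (pullback.snd _ _ ≫ S.homOfLE h01)
      (by rw [Category.assoc, Scheme.homOfLE_ι, pullback.condition])
  have hr : r ≫ pullback.fst _ _ = pullback.fst Z.hom S₀.ι := pullback.lift_fst _ _ _
  constructor
  · refine Groth.Agent.H28Neron.injective_iff.2 fun g g' h => ?_
    refine Groth.Agent.H28Neron.injective_iff.1 (hN0 Z hZ).1 g g' ?_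
    rw [← hr, Category.assoc, Category.assoc, h]
  · refine Groth.Agent.H28Neron.surjective_iff.2 fun h hh => ?_
    obtain ⟨g, hg⟩ := Groth.Agent.H28Neron.surjective_iff.1 (hN0 Z hZ).2 (r ≫ h) (by
      rw [Category.assoc, hh, ← Category.assoc, hr])
    refine ⟨g, ?_⟩
    let Z' : Over S := Over.mk (pullback.fst Z.hom S₁.ι ≫ Z.hom)
    have : Smooth Z'.hom := by dsimp [Z']; infer_instance
    let a : Z' ⟶ N := Over.homMk (pullback.fst Z.hom S₁.ι ≫ g.left) ((Category.assoc _ _ _).trans (congrArg (_ ≫ ·) (Over.w g)))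
    let b : Z' ⟶ N := Over.homMk h hh
    have hab : a = b := by
      refine Groth.Agent.H28Neron.injective_iff.1 (hN0 Z' this).1 a b ?_
      let t : pullback Z'.hom S₀.ι ⟶ pullback Z.hom S₀.ι :=
        pullback.lift (pullback.fst _ _ ≫ pullback.fst Z.hom S₁.ι) (pullback.snd _ _)
          ((Category.assoc _ _ _).trans pullback.condition)
      have ht : t ≫ r = pullback.fst Z'.hom S₀.ι := by
        have e1 : (t ≫ r) ≫ pullback.fst Z.hom S₁.ι = pullback.fst Z'.hom S₀.ι ≫ pullback.fst Z.hom S₁.ι := by
          rw [Category.assoc, hr]; exact pullback.lift_fst _ _ _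
        exact (cancel_mono _).1 e1
      change pullback.fst Z'.hom S₀.ι ≫ pullback.fst Z.hom S₁.ι ≫ g.left = pullback.fst Z'.hom S₀.ι ≫ h
      rw [← ht, Category.assoc, Category.assoc, ← Category.assoc r, hr, hg]
    exact congrArg (fun m => m.left) hab

end Groth.Agent.S13420
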