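import Groth.Statements.S13422
import Groth.Agent.H28Neron.QuasiSection
import Groth.Agent.H26ModPair.Basic

set_option autoImplicit false
set_option linter.style.haveILetI false
universe u
open CategoryTheory AlgebraicGeometry Limits Opposite
open NeronHD

namespace Groth.Agent.S13422

/-- A locally closed subset of a Jacobson space containing all closed points is everything. -/
private lemma eq_univ_of_closedPoints_subset {X : Type*} [TopologicalSpace X] [JacobsonSpace X] {T : Set X}
    (hT : IsLocallyClosed T) (h : closedPoints X ⊆ T) : T = Set.univ := by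
  obtain ⟨O, C, hO, hC, rfl⟩ := hT
  have hOu : O = Set.univ := by
    by_contra hne
    obtain ⟨x, hx⟩ := nonempty_inter_closedPoints (Set.nonempty_compl.mpr hne) hO.isClosed_compl.isLocallyClosed
    exact hx.1 (h hx.2).1
  have hCu : C = Set.univ := by
    rw [← Set.univ_subset_iff, ← closure_closedPoints (X := X)]
    exact hC.closure_subset_iff.mpr fun x hx => (h hx).2
  rw [hOu, hCu, Set.inter_univ]

/-- Let S be a locally Noetherian scheme over a field of characteristic 0, S₀ ⊆ S a scheme-theoretically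
dense open, and N a smooth S-scheme with the weak Néron mapping property for S₀ ⊆ S: for every étale
S-scheme U, restriction to S₀ is a bijection from S-morphisms U → N onto S₀-morphisms U|S₀ → N|S₀.
Then N has the uniqueness half of the Néron mapping property: for every smooth S-scheme Z,
restriction of S-morphisms Z → N to S₀ is injective. (Case of schemes of a statement about algebraic
spaces.) -/
theorem result {k : Type u} [Field k] [CharZero k] {S : Scheme.{u}} (σ : S ⟶ Spec (CommRingCat.of k)) [IsLocallyNoetherian S] (S₀ : S.Opens) (hS₀ : CInt.IsSchematicallyDense S₀)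
    (N : Over S) [Smooth N.hom]
    (hN : ∀ U : Over S, Etale U.hom → Function.Bijective (fun g : U ⟶ N => (Over.pullback S₀.ι).map g))
    (Z : Over S) [Smooth Z.hom] :
    Function.Injective (fun g : Z ⟶ N => (Over.pullback S₀.ι).map g) := by
  intro g g' hgg
  simp only at hgg
  let h : Z.left ⟶ pullback N.hom N.hom := pullback.lift g.left g'.left (by rw [Over.w g, Over.w g'])
  let i := pullback.fst h (pullback.diagonal N.hom)
  -- the equalizer receives every morphism equalizing `g` and `g'`
  have hfac : ∀ {T : Scheme.{u}} (t : T ⟶ Z.left), t ≫ g.left = t ≫ g'.left → ∃ l, l ≫ i = t := by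
    intro T t ht
    refine ⟨pullback.lift t (t ≫ g.left) ?_, pullback.lift_fst _ _ _⟩
    apply pullback.hom_ext
    · simp only [h, Category.assoc, pullback.diagonal_fst, Category.comp_id]
      erw [pullback.lift_fst]
    · simp only [h, Category.assoc, pullback.diagonal_snd, Category.comp_id]
      erw [pullback.lift_snd]
      exact ht.symm
  have hclosed : ∀ z, z ∈ Set.range i := by
    intro z
    obtain ⟨_, ⟨U, hU, rfl⟩, hyU, -⟩ :=
      S.isBasis_affineOpens.exists_subset_of_mem_open (Set.mem_univ (Z.hom z)) isOpen_univ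
    obtain ⟨_, ⟨V, hV, rfl⟩, hzV, hVU⟩ :=
      Z.left.isBasis_affineOpens.exists_subset_of_mem_open (show z ∈ (Z.hom ⁻¹ᵁ U : Set Z.left) from hyU)
        (Z.hom ⁻¹ᵁ U).isOpen
    have e : V ≤ Z.hom ⁻¹ᵁ U := hVU
    replace hU : IsAffineOpen U := hU
    replace hV : IsAffineOpen V := hV
    algebraize [(Z.hom.appLE U V e).hom]
    haveI : Algebra.Smooth Γ(S, U) Γ(Z.left, V) := Z.hom.smooth_appLE hU hV e
    let q₀ := hV.primeIdealOf ⟨z, hzV⟩
    let p : Ideal Γ(S, U) := q₀.asIdeal.under _
    haveI : CharZero p.ResidueField := by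
      let f : k →+* Γ(S, U) := (σ.appLE ⊤ U le_top).hom.comp (Scheme.ΓSpecIso (CommRingCat.of k)).inv.hom
      exact charZero_of_injective_ringHom ((algebraMap Γ(S, U) p.ResidueField).comp f).injective
    let π : Γ(Z.left, V) →+* p.Fiber Γ(Z.left, V) := Algebra.TensorProduct.includeRight.toRingHom
    let T : Set (PrimeSpectrum (p.Fiber Γ(Z.left, V))) :=
      (fun Q => hV.fromSpec (PrimeSpectrum.comap π Q)) ⁻¹' Set.range i
    haveI : IsJacobsonRing (p.Fiber Γ(Z.left, V)) :=
      isJacobsonRing_of_finiteType (A := p.ResidueField)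
    haveI : JacobsonSpace (PrimeSpectrum (p.Fiber Γ(Z.left, V))) :=
      PrimeSpectrum.isJacobsonRing_iff_jacobsonSpace.mp inferInstance
    have hT : T = Set.univ := by
      refine eq_univ_of_closedPoints_subset
        (i.isLocallyClosed_range.preimage
          (hV.fromSpec.continuous.comp (PrimeSpectrum.continuous_comap π))) fun Q hQ => ?_
      haveI : Q.asIdeal.IsMaximal :=
        (PrimeSpectrum.isClosed_singleton_iff_isMaximal Q).mp hQ
      obtain ⟨E, _, _, _, φ, P, hP, hPφ⟩ := H28Neron.exists_etale_quasiSection p Q.asIdeal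
        ((Ideal.Quotient.mk Q.asIdeal).comp π) fun _ => rfl
      let a : Spec (CommRingCat.of E) ⟶ Spec Γ(S, U) := Spec.map (CommRingCat.ofHom (algebraMap Γ(S, U) E))
      haveI : Etale a := HasRingHomProperty.Spec_iff.mpr (RingHom.etale_algebraMap.mpr inferInstance)
      let W : Over S := Over.mk (a ≫ hU.fromSpec)
      haveI : IsOpenImmersion hU.fromSpec := hU.isOpenImmersion_fromSpec
      haveI : Etale W.hom := (inferInstance : Etale (a ≫ hU.fromSpec))
      let u : W ⟶ Z := Over.homMk (Spec.map (CommRingCat.ofHom φ.toRingHom) ≫ hV.fromSpec) (by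
        show (Spec.map (CommRingCat.ofHom φ.toRingHom) ≫ hV.fromSpec) ≫ Z.hom = a ≫ hU.fromSpec
        rw [Category.assoc, ← hU.SpecMap_appLE_fromSpec Z.hom hV e, ← Spec.map_comp_assoc]
        congr 2
        ext b
        exact φ.commutes b)
      have hu : u ≫ g = u ≫ g' := (hN W inferInstance).injective (by simp only [Functor.map_comp, hgg])
      obtain ⟨l, hl⟩ := hfac u.left (congrArg CommaMorphism.left hu)
      refine ⟨l ⟨P, hP⟩, ?_⟩
      refine ((Scheme.Hom.comp_apply l i _).symm.trans (congrArg (fun m : Spec (CommRingCat.of E) ⟶ Z.left => m ⟨P, hP⟩) hl)).trans ?_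
      show hV.fromSpec (PrimeSpectrum.comap φ.toRingHom ⟨P, hP⟩) = hV.fromSpec (PrimeSpectrum.comap π Q)
      congr 1
      apply PrimeSpectrum.ext
      show P.comap φ.toRingHom = Q.asIdeal.comap π
      rw [hPφ, ← RingHom.comap_ker, Ideal.mk_ker]
    haveI : q₀.asIdeal.LiesOver p := ⟨rfl⟩
    obtain ⟨Q, hQ⟩ : q₀ ∈ Set.range (PrimeSpectrum.comap π) := by
      refine ⟨((PrimeSpectrum.preimageEquivFiber Γ(S, U) Γ(Z.left, V) ⟨p, inferInstance⟩) ⟨q₀, rfl⟩), ?_⟩
      exact congrArg Subtype.val
        ((PrimeSpectrum.preimageEquivFiber Γ(S, U) Γ(Z.left, V) ⟨p, inferInstance⟩).symm_apply_apply ⟨q₀, rfl⟩)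
    have : hV.fromSpec (PrimeSpectrum.comap π Q) ∈ Set.range i := hT.ge (Set.mem_univ Q)
    rw [hQ] at this
    have hz : hV.fromSpec q₀ = z := hV.fromSpec_primeIdealOf ⟨z, hzV⟩
    rwa [hz] at this
  haveI : IsClosedImmersion i :=
    .of_isPreimmersion i (by rw [Set.eq_univ_of_forall hclosed]; exact isClosed_univ)
  obtain ⟨l, hl⟩ : ∃ l, l ≫ i = pullback.fst Z.hom S₀.ι := by
    refine hfac _ ?_
    have h1 : ((Over.pullback S₀.ι).map g).left ≫ pullback.fst N.hom S₀.ι = pullback.fst Z.hom S₀.ι ≫ g.left :=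
      pullback.lift_fst _ _ _
    have h2 : ((Over.pullback S₀.ι).map g').left ≫ pullback.fst N.hom S₀.ι = pullback.fst Z.hom S₀.ι ≫ g'.left :=
      pullback.lift_fst _ _ _
    rw [← h1, ← h2, hgg]
  haveI : IsSchemeTheoreticallyDominant S₀.ι := H26ModPair.dominant_of_dense hS₀
  haveI : IsSchemeTheoreticallyDominant (pullback.fst Z.hom S₀.ι) := inferInstance
  haveI : IsIso i := IsClosedImmersion.isIso_iff_ker_eq_bot.mpr (le_bot_iff.mp
    ((Scheme.Hom.le_ker_comp l i).trans (by rw [hl, Scheme.Hom.ker_eq_bot (pullback.fst Z.hom S₀.ι)])))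
  apply Over.OverMorphism.ext
  rw [← cancel_epi i]
  have hc : i ≫ h = pullback.snd h (pullback.diagonal N.hom) ≫ pullback.diagonal N.hom := pullback.condition
  have h1 := congrArg (· ≫ pullback.fst N.hom N.hom) hc
  have h2 := congrArg (· ≫ pullback.snd N.hom N.hom) hc
  simp only [Category.assoc, h, pullback.lift_fst, pullback.lift_snd, pullback.diagonal_fst,
    pullback.diagonal_snd, Category.comp_id] at h1 h2
  rw [h1, h2]

end Groth.Agent.S13422
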