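import Groth.Statements.S13423
import Groth.Agent.H21Taylor.GeomInt
import Groth.Agent.H19Grp.UnramifiedFibres
import Groth.Agent.H06Unram.SmoothQF
import Groth.Agent.H05EGA4.Topo
import Groth.Agent.S1450

set_option autoImplicit false
universe u
open CategoryTheory AlgebraicGeometry
open NeronHD

namespace Groth.Agent.S13423

/-- Let S be a reduced, locally Noetherian scheme over a field of characteristic 0 whose local rings are
all geometrically unibranch, and let f : X → S be quasi-finite (locally of finite type,
quasi-compact, with finite discrete fibres), separated and dominant, with X connected and nonempty,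
such that every fibre X_s over the residue field k(s) is smooth. Then f is étale. (Case of schemes
of a statement about algebraic spaces.) -/
theorem result {k : Type u} [Field k] [CharZero k] {S : Scheme.{u}} (σ : S ⟶ Spec (CommRingCat.of k)) [IsLocallyNoetherian S] [IsReduced S]
    (hS : ∀ s : S, CAlg2.IsGeomUnibranch (S.presheaf.stalk s))
    {X : Scheme.{u}} (f : X ⟶ S) [LocallyOfFiniteType f] [QuasiCompact f] [LocallyQuasiFinite f] [IsSeparated f] [IsDominant f]
    [ConnectedSpace X]
    (hfib : ∀ s : S, Smooth (Limits.pullback.snd f (S.fromSpecResidueField s))) :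
    Etale f := by
  haveI : ConnectedSpace S := by
    rw [connectedSpace_iff_univ, ← f.denseRange.closure_range]
    exact (isConnected_range f.continuous).closure
  have hd : ∀ t : S, IsDomain (S.presheaf.stalk t) := fun t => by
    haveI : IsDomain (CAlg2.red (S.presheaf.stalk t)) := (hS t).1.1
    exact MulEquiv.isDomain (CAlg2.red (S.presheaf.stalk t))
      ((Ideal.quotEquivOfEq (nilradical_eq_zero (S.presheaf.stalk t))).trans
        (RingEquiv.quotientBot (S.presheaf.stalk t))).symm.toMulEquiv
  haveI : IrreducibleSpace S := H21Taylor.irreducibleSpace_of_connected_of_domain_stalks S hd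
  haveI : IsIntegral S := isIntegral_of_irreducibleSpace_of_isReduced S
  haveI : FormallyUnramified f := H19Grp.formallyUnramified_of_fibres f fun s => by
    haveI : Smooth (f.fiberToSpecResidueField s) := hfib s
    haveI : LocallyQuasiFinite (f.fiberToSpecResidueField s) :=
      inferInstanceAs (LocallyQuasiFinite (Limits.pullback.snd f (S.fromSpecResidueField s)))
    haveI : Etale (f.fiberToSpecResidueField s) :=
      (H06Unram.etale_iff_smooth_and_locallyQuasiFinite _).mpr ⟨inferInstance, inferInstance⟩
    infer_instance
  have hdom : genericPoint ↑S ∈ Set.range ⇑f := by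
    obtain ⟨z, hz⟩ := H05EGA4.exists_specializes_of_mem_closure_range f (f.denseRange (genericPoint S))
    exact ⟨z, (hz.antisymm ((genericPoint_spec S).specializes (Set.mem_univ _))).eq⟩
  exact (S1450.result f hS hdom).1

end Groth.Agent.S13423
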