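import Groth.Statements.S13425
import Groth.Agent.S4809
import Mathlib.AlgebraicGeometry.AlgClosed.Basic
import Mathlib.AlgebraicGeometry.Morphisms.UniversallyInjective
import Mathlib.AlgebraicGeometry.FunctionField
import Mathlib.FieldTheory.Perfect
import Mathlib.FieldTheory.PurelyInseparable.Basic

set_option autoImplicit false
set_option linter.style.haveILetI false
universe u
open CategoryTheory AlgebraicGeometry
open NeronHD

namespace Groth.Agent.S13425

/-- Let k be a characteristic-zero algebraically closed field and X, Y integral schemes, separated and
of finite type over k, with Y normal, and let f : X → Y be a dominant k-morphism which is injective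
on k-rational points. Then f is an open immersion. (Case of schemes of a statement about algebraic
spaces.) -/
theorem result {k : Type u} [Field k] [IsAlgClosed k] [CharZero k]
    {X Y : Scheme.{u}} (sX : X ⟶ Spec (CommRingCat.of k)) (sY : Y ⟶ Spec (CommRingCat.of k))
    [IsIntegral X] [IsIntegral Y] [IsSeparated sX] [IsSeparated sY]
    [LocallyOfFiniteType sX] [QuasiCompact sX] [LocallyOfFiniteType sY] [QuasiCompact sY]
    (hY : Pi1.IsNormalScheme Y)
    (f : X ⟶ Y) (hf : f ≫ sY = sX) [IsDominant f]
    (hinj : ∀ a b : Spec (CommRingCat.of k) ⟶ X, a ≫ sX = 𝟙 _ → b ≫ sX = 𝟙 _ → a ≫ f = b ≫ f → a = b) :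
    IsOpenImmersion f := by
  haveI : IsSeparated (f ≫ sY) := by rw [hf]; infer_instance
  haveI : IsSeparated f := IsSeparated.of_comp f sY
  haveI : LocallyOfFiniteType (f ≫ sY) := by rw [hf]; infer_instance
  haveI : LocallyOfFiniteType f := locallyOfFiniteType_of_comp f sY
  haveI : Surjective (Limits.pullback.diagonal f) := by
    let P := Limits.pullback f f
    let p : P ⟶ Spec (CommRingCat.of k) := Limits.pullback.fst f f ≫ sX
    haveI : JacobsonSpace P := LocallyOfFiniteType.jacobsonSpace p
    have hcl : closedPoints P ⊆ Set.range (Limits.pullback.diagonal f) := fun z hz => by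
      let q := pointOfClosedPoint p z hz
      have hq : q ≫ p = 𝟙 _ := pointOfClosedPoint_comp p z hz
      have hab : q ≫ Limits.pullback.fst f f = q ≫ Limits.pullback.snd f f := by
        refine hinj _ _ (by rw [Category.assoc]; exact hq) ?_ ?_
        · rw [← hf, Category.assoc, ← Limits.pullback.condition_assoc, hf]
          exact hq
        · rw [Category.assoc, Category.assoc, Limits.pullback.condition]
      have hq' : q = (q ≫ Limits.pullback.fst f f) ≫ Limits.pullback.diagonal f := by
        refine Limits.pullback.hom_ext ?_ ?_
        · rw [Category.assoc, Limits.pullback.diagonal_fst, Category.comp_id]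
        · rw [Category.assoc, Category.assoc, Limits.pullback.diagonal_snd, Category.comp_id]
          exact hab.symm
      refine ⟨(q ≫ Limits.pullback.fst f f) (IsLocalRing.closedPoint k), ?_⟩
      exact (Scheme.Hom.comp_apply _ _ _).symm.trans
        ((congrArg (fun m => m (IsLocalRing.closedPoint k)) hq'.symm).trans (pointOfClosedPoint_apply p z hz _))
    refine ⟨fun z => Set.range_eq_univ.1 ?_ z⟩
    rw [← Set.univ_subset_iff, ← closure_closedPoints (X := P)]
    exact closure_minimal hcl (Limits.pullback.diagonal f).isClosedEmbedding.isClosed_range
  haveI : UniversallyInjective f := (UniversallyInjective.iff_diagonal f).2 inferInstance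
  haveI : LocallyQuasiFinite f := inferInstance
  let η := genericPoint X
  have hgen : f η = genericPoint Y := by
    refine ((genericPoint_spec X).image f.continuous).eq ?_
    rw [Set.image_univ, f.denseRange.closure_eq]
    exact genericPoint_spec Y
  have hres : Function.Bijective (f.residueFieldMap η) := by
    have hpi := ((tfae_universallyInjective f).out 0 2 rfl rfl).1 inferInstance |>.2 η
    letI : Algebra (Y.residueField (f η)) (X.residueField η) := (f.residueFieldMap η).hom.toAlgebra
    haveI : IsPurelyInseparable (Y.residueField (f η)) (X.residueField η) := hpi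
    haveI : CharZero (Y.residueField (f η)) :=
      charZero_of_injective_ringHom
        (Spec.preimage (Y.fromSpecResidueField (f η) ≫ sY)).hom.injective
    haveI : Algebra.IsSeparable (Y.residueField (f η)) (X.residueField η) :=
      Algebra.IsAlgebraic.isSeparable_of_perfectField
    exact ⟨(f.residueFieldMap η).hom.injective,
      IsPurelyInseparable.surjective_algebraMap_of_isSeparable _ _⟩
  have hfield : ∀ y : Y, y = genericPoint Y → IsField (Y.presheaf.stalk y) := by
    rintro _ rfl; exact (inferInstance : Field Y.functionField).toIsField
  have hbir : IsIso (f.stalkMap η) := by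
    rw [ConcreteCategory.isIso_iff_bijective]
    refine ⟨?_, fun a => ?_⟩
    · letI := (hfield _ hgen).toField
      exact (f.stalkMap η).hom.injective
    · obtain ⟨b', hb'⟩ := hres.2 (X.residue η a)
      obtain ⟨b, rfl⟩ := Scheme.residue_surjective Y (f η) b'
      refine ⟨b, ?_⟩
      have hX : IsField (X.presheaf.stalk η) := (inferInstance : Field X.functionField).toIsField
      letI := hX.toField
      refine (X.residue η).hom.injective ?_
      rw [← hb']
      exact (congr($(Scheme.residue_residueFieldMap f η).hom b)).symm
  exact (Groth.Agent.S4809.result (fun y => (hY y).2) f hgen hbir).2 inferInstance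

end Groth.Agent.S13425
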