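import Groth.Statements.S13427
import Groth.Agent.H28Neron.Mapping

set_option autoImplicit false
universe u
open CategoryTheory AlgebraicGeometry
open NeronHD

open CategoryTheory CategoryTheory.Limits AlgebraicGeometry

namespace Groth.Agent.S13427

/-- Let S be a locally Noetherian scheme over a field of characteristic 0, S₀ ⊆ S a scheme-theoretically
dense open, and G, H smooth S-schemes with the Néron mapping property for S₀ ⊆ S (restriction to S₀
of S-morphisms from smooth S-schemes is bijective). Let f : G → H be an S-morphism and e : S → H a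
section of H → S, and let K = G ×_H S be the fibre of f over e (the case in view: f a homomorphism
of smooth group schemes, e the unit, K the kernel, so that 1 → K → G → H is left exact). If K → S is
smooth, then K has the Néron mapping property for S₀ ⊆ S. (Case of schemes, with smooth test
schemes, of a statement about group algebraic spaces.) -/
theorem result {k : Type u} [Field k] [CharZero k] {S : Scheme.{u}} (σ : S ⟶ Spec (CommRingCat.of k)) [IsLocallyNoetherian S] (S₀ : S.Opens) (hS₀ : CInt.IsSchematicallyDense S₀)
    (G H : Over S) [Smooth G.hom] [Smooth H.hom]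
    (hG : ∀ Z : Over S, Smooth Z.hom → Function.Bijective (fun g : Z ⟶ G => (Over.pullback S₀.ι).map g))
    (hH : ∀ Z : Over S, Smooth Z.hom → Function.Bijective (fun g : Z ⟶ H => (Over.pullback S₀.ι).map g))
    (f : G ⟶ H) (e : S ⟶ H.left) (he : e ≫ H.hom = 𝟙 S)
    [Smooth (Limits.pullback.snd f.left e)] :
    ∀ Z : Over S, Smooth Z.hom → Function.Bijective (fun g : Z ⟶ Over.mk (Limits.pullback.snd f.left e) => (Over.pullback S₀.ι).map g) := by
  intro Z hZ
  constructor
  · refine Groth.Agent.H28Neron.injective_iff.2 fun a b hab => ?_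
    have hw : ∀ m : Z ⟶ Over.mk (pullback.snd f.left e), (m.left ≫ pullback.fst f.left e) ≫ G.hom = Z.hom := by
      intro m
      rw [← Over.w f, Category.assoc, ← Category.assoc (pullback.fst f.left e), pullback.condition, Category.assoc, he, Category.comp_id]
      exact Over.w m
    have := Groth.Agent.H28Neron.injective_iff.1 (hG Z hZ).1 (Over.homMk _ (hw a)) (Over.homMk _ (hw b)) (by
      change pullback.fst Z.hom S₀.ι ≫ a.left ≫ pullback.fst f.left e = pullback.fst Z.hom S₀.ι ≫ b.left ≫ pullback.fst f.left e
      rw [reassoc_of% hab])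
    ext
    exact pullback.hom_ext (congrArg (fun m => m.left) this) ((Over.w a).trans (Over.w b).symm)
  · refine Groth.Agent.H28Neron.surjective_iff.2 fun h hh => ?_
    replace hh : h ≫ pullback.snd f.left e = pullback.fst Z.hom S₀.ι ≫ Z.hom := hh
    obtain ⟨g, hg⟩ := Groth.Agent.H28Neron.surjective_iff.1 (hG Z hZ).2 (h ≫ pullback.fst f.left e) (by
      rw [← Over.w f, Category.assoc, ← Category.assoc (pullback.fst f.left e), pullback.condition, Category.assoc, he, Category.comp_id, hh])
    have key : g ≫ f = Over.homMk (Z.hom ≫ e) (by rw [Category.assoc, he, Category.comp_id]) := by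
      refine Groth.Agent.H28Neron.injective_iff.1 (hH Z hZ).1 _ _ ?_
      change pullback.fst Z.hom S₀.ι ≫ g.left ≫ f.left = pullback.fst Z.hom S₀.ι ≫ Z.hom ≫ e
      rw [reassoc_of% hg, pullback.condition, reassoc_of% hh]
    refine ⟨Over.homMk (pullback.lift g.left Z.hom (congrArg (fun m => m.left) key)) (pullback.lift_snd _ _ _), ?_⟩
    refine pullback.hom_ext ?_ ?_
    · exact (Category.assoc _ _ _).trans ((congrArg (_ ≫ ·) (pullback.lift_fst _ _ _)).trans hg)
    · exact (Category.assoc _ _ _).trans ((congrArg (_ ≫ ·) (pullback.lift_snd _ _ _)).trans hh.symm)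

end Groth.Agent.S13427
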