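import Groth.Statements.S13428
import Groth.Agent.H28Neron.EtaleNeronOpen

set_option autoImplicit false
set_option linter.unusedVariables false
universe u
open CategoryTheory AlgebraicGeometry
open NeronHD

namespace Groth.Agent.S13428

/-- Let S be a normal Noetherian scheme over a field of characteristic 0 and S₀ ⊆ S a
scheme-theoretically dense open. Let N be a smooth, separated and quasi-compact S-scheme with the
Néron mapping property for S₀ ⊆ S (restriction to S₀ of S-morphisms from smooth S-schemes is
bijective) such that N|S₀ → S₀ is étale, so that N is a quasi-projective Néron model of the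
quasi-projective étale S₀-scheme N|S₀. If M is a separated, quasi-compact, étale S-scheme and φ : M
→ N is an S-morphism restricting to an isomorphism over S₀ (so M is another quasi-projective étale
extension of N|S₀, and φ is its canonical map to the Néron model), then φ is an open immersion.
(Case of schemes of the published statement.) -/
theorem result {k : Type u} [Field k] [CharZero k] {S : Scheme.{u}} (σ : S ⟶ Spec (CommRingCat.of k)) [IsNoetherian S] (hS : Pi1.IsNormalScheme S) (S₀ : S.Opens) (hS₀ : CInt.IsSchematicallyDense S₀)
    (N : Over S) [Smooth N.hom] [IsSeparated N.hom] [QuasiCompact N.hom]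
    (hN : ∀ Z : Over S, Smooth Z.hom → Function.Bijective (fun g : Z ⟶ N => (Over.pullback S₀.ι).map g))
    [Etale ((Over.pullback S₀.ι).obj N).hom]
    (M : Over S) [Etale M.hom] [IsSeparated M.hom] [QuasiCompact M.hom]
    (φ : M ⟶ N) [IsIso ((Over.pullback S₀.ι).map φ)] :
    IsOpenImmersion φ.left := by
  haveI := H28Neron.EtaleNeronOpen.etale_of_neron hS S₀
    (H28Neron.FiniteNormal.dense_of_isSchematicallyDense hS₀) N hN
  exact H28Neron.EtaleNeronOpen.isOpenImmersion_of_isIso_restrict S₀
    (H28Neron.FiniteNormal.dense_of_isSchematicallyDense hS₀) φ

end Groth.Agent.S13428
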