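import Groth.Statements.S13429
import Groth.Agent.H28Neron.EtaleNeronOpen

set_option autoImplicit false
set_option linter.unusedVariables false
universe u
open CategoryTheory AlgebraicGeometry
open NeronHD

namespace Groth.Agent.S13429

/-- Let S be a normal Noetherian scheme over a field of characteristic 0, S₀ ⊆ S a scheme-theoretically
dense open, and N₀ → S₀ separated, quasi-compact and étale (a quasi-projective étale S₀-scheme).
Then N₀ has a quasi-projective Néron model: there exist a separated, quasi-compact, étale S-scheme N
and an isomorphism of S₀-schemes N|S₀ ≅ N₀ such that N has the Néron mapping property for S₀ ⊆ S,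
i.e. for every smooth S-scheme Z restriction to S₀ is a bijection from S-morphisms Z → N onto
S₀-morphisms Z|S₀ → N|S₀ (this determines N up to unique isomorphism). (Case of schemes, with smooth
test schemes, of the published statement.) -/
theorem result {k : Type u} [Field k] [CharZero k] {S : Scheme.{u}} (σ : S ⟶ Spec (CommRingCat.of k)) [IsNoetherian S] (hS : Pi1.IsNormalScheme S) (S₀ : S.Opens) (hS₀ : CInt.IsSchematicallyDense S₀)
    (N₀ : Over (S₀ : Scheme.{u})) [Etale N₀.hom] [IsSeparated N₀.hom] [QuasiCompact N₀.hom] :
    ∃ (N : Over S) (e : (Over.pullback S₀.ι).obj N ≅ N₀), Etale N.hom ∧ IsSeparated N.hom ∧ QuasiCompact N.hom ∧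
      ∀ Z : Over S, Smooth Z.hom → Function.Bijective (fun g : Z ⟶ N => (Over.pullback S₀.ι).map g) := by
  exact H28Neron.EtaleNeronOpen.exists_neron hS S₀
    (H28Neron.FiniteNormal.dense_of_isSchematicallyDense hS₀) N₀

end Groth.Agent.S13429
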