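import Groth.Statements.S4949
import Groth.Agent.H06EGA9.CMAffineSpace

set_option autoImplicit false
open CategoryTheory AlgebraicGeometry
universe u v w
open EGA43

namespace Groth.Agent.S4949

set_option linter.style.haveILetI false
set_option backward.isDefEq.respectTransparency false
open TopologicalSpace

/-- Let f : X ⟶ Y be a morphism locally of finite presentation and x a point of X. The following are
equivalent: a) f is flat at x and the fibre X_{f x} is Cohen–Macaulay at x; b) there are an open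
neighbourhood U of x, a natural number n and a Y-morphism g from U to affine n-space over Y which is
locally quasi-finite and such that U is g-flat at x. (The published statement asks for g
quasi-finite, that is of finite type with finite fibres, hence quasi-compact; this row asks only
that g be locally quasi-finite, g being automatically locally of finite type here — the condition
the proof of b) ⇒ a) uses.) -/
theorem result {X Y : Scheme.{u}} (f : X ⟶ Y)
    [LocallyOfFinitePresentation f] (x : X) :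
    MoreMor.IsCMAt f x ↔ ∃ (n : ℕ) (U : X.Opens) (hx : x ∈ U) (g : (U : Scheme.{u}) ⟶ 𝔸(ULift.{u} (Fin n); Y)),
      g ≫ (𝔸(ULift.{u} (Fin n); Y) ↘ Y) = U.ι ≫ f ∧ LocallyQuasiFinite g ∧ (g.stalkMap ⟨x, hx⟩).hom.Flat := by
  constructor
  · intro hx
    obtain ⟨W, (hW : IsAffineOpen W), hxW, -⟩ := Opens.isBasis_iff_nbhd.mp Y.isBasis_affineOpens
      (show f x ∈ (⊤ : Y.Opens) from trivial)
    obtain ⟨V, (hV : IsAffineOpen V), hxV, hVW⟩ := Opens.isBasis_iff_nbhd.mp X.isBasis_affineOpens
      (show x ∈ f ⁻¹ᵁ W from hxW)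
    obtain ⟨q, rfl⟩ : x ∈ Set.range hV.fromSpec := by rw [hV.range_fromSpec]; exact hxV
    letI := (f.appLE W V hVW).hom.toAlgebra
    haveI : Algebra.FinitePresentation Γ(Y, W) Γ(X, V) := f.finitePresentation_appLE hW hV hVW
    let φ := Spec.map (CommRingCat.ofHom (algebraMap Γ(Y, W) Γ(X, V)))
    haveI : LocallyOfFiniteType φ := (HasRingHomProperty.Spec_iff (P := @LocallyOfFiniteType)).mpr
      (RingHom.finiteType_algebraMap.mpr inferInstance)
    have hsq : φ ≫ hW.fromSpec = hV.fromSpec ≫ f := IsAffineOpen.SpecMap_appLE_fromSpec f hW hV hVW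
    have hφcm : MoreMor.IsCMAt φ q := by
      refine ⟨?_, (H8Props.FieldDim.fibre_CM_chart f φ hV.fromSpec hW.fromSpec hsq q).mpr hx.2⟩
      have h1 : ((hV.fromSpec ≫ f).stalkMap q).hom.Flat := by
        rw [Scheme.Hom.stalkMap_comp]
        exact (RingHom.Flat.respectsIso.cancel_right_isIso _ (hV.fromSpec.stalkMap q)).mpr hx.1
      rw [Scheme.Hom.stalkMap_congr_hom _ _ hsq.symm q] at h1
      have h2 := (RingHom.Flat.respectsIso.cancel_left_isIso _ _).mp h1
      rw [Scheme.Hom.stalkMap_comp] at h2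
      exact (RingHom.Flat.respectsIso.cancel_left_isIso (hW.fromSpec.stalkMap (φ q)) _).mp h2
    haveI := H8Props.FieldDim.locallyOfFiniteType_fiberToSpec φ (φ q)
    obtain ⟨m, hm⟩ := H8Props.FieldDim.exists_nat_localDim
      (k := (Spec Γ(Y, W)).residueField (φ q)) (φ.fiberToSpecResidueField (φ q)) (φ.asFiber q)
    replace hm : FlatMor.fibreDimAt φ q = m := hm
    obtain ⟨σ, _, γ', hσ, hqf'⟩ := H8Props.FieldDim.exists_quasiFiniteAt_map q m hm.le
    let e : ULift.{u} (Fin (Fintype.card σ)) ≃ σ := Equiv.ulift.trans (Fintype.equivFin σ).symm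
    let ε := MvPolynomial.renameEquiv Γ(Y, W) e
    let γ := γ'.comp ε.toAlgHom
    let G := Spec.map (CommRingCat.ofHom γ.toRingHom)
    have hGfac : G = Spec.map (CommRingCat.ofHom γ'.toRingHom) ≫
        Spec.map ε.toRingEquiv.toCommRingCatIso.hom := by
      rw [← Spec.map_comp]
      rfl
    have hqf : G.QuasiFiniteAt q := by
      rw [hGfac]
      exact Scheme.Hom.quasiFiniteAt_comp_iff.mpr hqf'
    have hflat : (G.stalkMap q).hom.Flat := by
      refine H06EGA9.flat_stalkMap_toAffineSpec γ q hqf ?_ hφcm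
      rw [Fintype.card_ulift, Fintype.card_fin]
      refine le_trans ?_ hm.ge
      exact_mod_cast hσ
    haveI : LocallyOfFiniteType G := (HasRingHomProperty.Spec_iff (P := @LocallyOfFiniteType)).mpr
      (RingHom.FiniteType.of_comp_finiteType (f := algebraMap Γ(Y, W) _) (g := γ.toRingHom) (by
        rw [AlgHom.toRingHom_eq_coe, γ.comp_algebraMap]
        exact RingHom.finiteType_algebraMap.mpr inferInstance))
    let j := (AffineSpace.SpecIso (ULift.{u} (Fin (Fintype.card σ))) Γ(Y, W)).inv ≫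
      AffineSpace.map _ hW.fromSpec
    haveI : IsOpenImmersion (AffineSpace.map (ULift.{u} (Fin (Fintype.card σ))) hW.fromSpec) :=
      MorphismProperty.of_isPullback (AffineSpace.isPullback_map hW.fromSpec).flip inferInstance
    let V' := G.quasiFiniteLocus
    let g := (hV.fromSpec.isoImage V').inv ≫ (V'.ι ≫ G) ≫ j
    refine ⟨Fintype.card σ, hV.fromSpec ''ᵁ V', ⟨q, hqf, rfl⟩, g, ?_, inferInstance, ?_⟩
    · have hjh : j ≫ (𝔸(ULift.{u} (Fin (Fintype.card σ)); Y) ↘ Y) =
          Spec.map (CommRingCat.ofHom (algebraMap Γ(Y, W) _)) ≫ hW.fromSpec := by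
        simp only [j, Category.assoc, AffineSpace.map_over, AffineSpace.SpecIso_inv_over_assoc]
        rfl
      have hGπ : G ≫ Spec.map (CommRingCat.ofHom (algebraMap Γ(Y, W) _)) = φ := by
        rw [← Spec.map_comp, ← CommRingCat.ofHom_comp, AlgHom.toRingHom_eq_coe, γ.comp_algebraMap]
      simp only [g, Category.assoc, hjh]
      rw [reassoc_of% hGπ, hsq, Scheme.Hom.isoImage_inv_ι_assoc]
    · obtain ⟨z, hzq⟩ : ∃ z : V'.toScheme, V'.ι z = q := ⟨⟨q, hqf⟩, rfl⟩
      have hz : (⟨hV.fromSpec q, ⟨q, hqf, rfl⟩⟩ : (hV.fromSpec ''ᵁ V').toScheme) =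
          (hV.fromSpec.isoImage V').hom z := by
        apply (hV.fromSpec ''ᵁ V').ι.isEmbedding.injective
        exact ((congrArg (fun m : V'.toScheme ⟶ X => m z)
          (Scheme.Hom.isoImage_hom_ι hV.fromSpec V')).trans (congrArg hV.fromSpec hzq)).symm
      rw [hz]
      have hjflat : ((G ≫ j).stalkMap q).hom.Flat := by
        rw [Scheme.Hom.stalkMap_comp G j q]
        exact (RingHom.Flat.respectsIso.cancel_left_isIso (j.stalkMap _) _).mpr hflat
      have h1 : ((V'.ι ≫ G ≫ j).stalkMap z).hom.Flat := by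
        rw [Scheme.Hom.stalkMap_comp V'.ι (G ≫ j) z]
        exact (RingHom.Flat.respectsIso.cancel_right_isIso _ (V'.ι.stalkMap z)).mpr (hzq ▸ hjflat)
      have hg : V'.ι ≫ G ≫ j = (hV.fromSpec.isoImage V').hom ≫ g := by simp [g]
      rw [Scheme.Hom.stalkMap_congr_hom _ _ hg, Scheme.Hom.stalkMap_comp] at h1
      exact (RingHom.Flat.respectsIso.cancel_right_isIso _
        ((hV.fromSpec.isoImage V').hom.stalkMap z)).mp
        ((RingHom.Flat.respectsIso.cancel_left_isIso _ _).mp h1)
  · rintro ⟨n, U, hxU, g, hg, hlqf, hflat⟩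
    haveI : LocallyOfFiniteType g :=
      haveI : LocallyOfFiniteType (g ≫ (𝔸(ULift.{u} (Fin n); Y) ↘ Y)) := by rw [hg]; infer_instance
      locallyOfFiniteType_of_comp g (𝔸(ULift.{u} (Fin n); Y) ↘ Y)
    have h1 := H06EGA9.isCMAt_comp_of_quasiFiniteAt g (𝔸(ULift.{u} (Fin n); Y) ↘ Y) ⟨x, hxU⟩ hflat
      (g.quasiFiniteAt _) (H06EGA9.isCMAt_affineSpace _ _)
    rw [hg] at h1
    refine ⟨?_, (H8Props.FieldDim.fibre_CM_chart f (U.ι ≫ f) U.ι (𝟙 Y) (Category.comp_id _) ⟨x, hxU⟩).mp h1.2⟩
    have h2 := h1.1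
    rw [Scheme.Hom.stalkMap_comp U.ι f ⟨x, hxU⟩] at h2
    exact (RingHom.Flat.respectsIso.cancel_right_isIso _ (U.ι.stalkMap ⟨x, hxU⟩)).mp h2

end Groth.Agent.S4949
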