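-- statement FlatMor.GrothFrozen.S1343 (Groth/Statements/S1343.lean; the theorem FlatMor.isCMAt_iff_exists_quasiFinite_flat_to_affineSpace);
import Groth.Statements.S1343
import Groth.Agent.S4949
import Groth.Agent.H06Equidim.AffineSpace
import Groth.Agent.H8Props.FlatLocus.Scheme
import Groth.Agent.H8Props.FieldDimSmooth
import Groth.Agent.H7Lim.DescendUnramified

set_option autoImplicit false
universe u
open FlatMor

namespace Groth.Agent.S1343
set_option backward.isDefEq.respectTransparency false

open AlgebraicGeometry CategoryTheory Limits in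
/-- (1) ⇔ (3): let f be flat and locally of finite presentation and let x be a point whose fibre has
local dimension d at x. Then f is Cohen–Macaulay at x if and only if some open neighbourhood of x
admits a flat, locally quasi-finite morphism to affine d-space over the base, compatible with the
structure morphisms. -/
theorem result {X S : Scheme.{u}} (f : X ⟶ S) [Flat f] [LocallyOfFinitePresentation f]
    (x : X) (d : ℕ) (hd : FlatMor.fibreDimAt f x = d) :
    MoreMor.IsCMAt f x ↔ ∃ (U : X.Opens) (g : (U : Scheme.{u}) ⟶ 𝔸(ULift.{u} (Fin d); S)), x ∈ U ∧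
      g ≫ (𝔸(ULift.{u} (Fin d); S) ↘ S) = U.ι ≫ f ∧ Flat g ∧ LocallyQuasiFinite g := by
  constructor
  · intro hx
    obtain ⟨n, U, hxU, g, hg, hlqf, hflat⟩ := (Groth.Agent.S4949.result f x).mp hx
    haveI : LocallyOfFinitePresentation (g ≫ (𝔸(ULift.{u} (Fin n); S) ↘ S)) := by rw [hg]; infer_instance
    haveI : LocallyOfFinitePresentation g :=
      Groth.Agent.H7Lim.locallyOfFinitePresentation_of_comp g (𝔸(ULift.{u} (Fin n); S) ↘ S)
    have hn : n = d := by
      have h1 := (Groth.Agent.H8Props.FieldDim.fibreDimAt_comp_le (g := g)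
        (𝔸(ULift.{u} (Fin n); S) ↘ S) ⟨x, hxU⟩).2 hflat
      rw [hg, Groth.Agent.H06Equidim.fibreDimAt_opens_ι, Groth.Agent.H8Props.FieldDim.fibreDimAt_eq_zero_of_lqf g,
        Groth.Agent.H06Equidim.fibreDimAt_affineSpace, zero_add, Fintype.card_ulift, Fintype.card_fin] at h1
      change FlatMor.fibreDimAt f x = _ at h1
      rw [hd] at h1
      exact_mod_cast h1.symm
    subst hn
    let W : (U : Scheme.{u}).Opens := ⟨{z | (g.stalkMap z).hom.Flat},
      Groth.Agent.H8Props.FlatLocus.isOpen_setOf_flat_stalkMap g⟩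
    refine ⟨U.ι ''ᵁ W, (U.ι.isoImage W).inv ≫ W.ι ≫ g, ⟨⟨x, hxU⟩, hflat, rfl⟩, ?_, ?_, inferInstance⟩
    · rw [Category.assoc, Category.assoc, hg, Scheme.Hom.isoImage_inv_ι_assoc]
    · haveI : Flat (W.ι ≫ g) := by
        rw [Flat.iff_flat_stalkMap]
        intro z
        rw [Scheme.Hom.stalkMap_comp]
        exact (RingHom.Flat.respectsIso.cancel_right_isIso _ (W.ι.stalkMap z)).mpr z.2
      infer_instance
  · rintro ⟨U, g, hxU, hg, hgf, hlqf⟩
    exact (Groth.Agent.S4949.result f x).mpr ⟨d, U, hxU, g, hg, hlqf, Flat.stalkMap g _⟩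

end Groth.Agent.S1343
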