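import Groth.Statements.S13430
import Groth.Agent.H28Neron.Torsor

set_option autoImplicit false
set_option linter.style.haveILetI false
universe u
open CategoryTheory MonoidalCategory CartesianMonoidalCategory MonObj GrpObj AlgebraicGeometry
open NeronHD

namespace Groth.Agent.S13430

/-- The implication ⇐: let S be a locally Noetherian scheme over a field of characteristic 0 and S₀ ⊆ S
a scheme-theoretically dense open. Let G be a smooth group scheme over S and N a smooth S-scheme,
both with the Néron mapping property for S₀ ⊆ S (restriction to S₀ of S-morphisms from smooth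
S-schemes is bijective), and let a be an action of G on N over S whose translation map G ×_S N → N
×_S N, (g, x) ↦ (g·x, x), restricts to an isomorphism over S₀, so that N|S₀ is a pseudo-torsor under
G|S₀ and a is the unique extension of that action. If N → S is surjective, then the translation map
is an isomorphism: N is a pseudo-torsor under G over all of S (and then a torsor for the étale
topology, N → S being smooth and surjective). (Case of schemes of a statement about group algebraic
spaces; the converse 'torsor ⇒ surjective' presumes local triviality.) -/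
theorem result {k : Type u} [Field k] [CharZero k] {S : Scheme.{u}} (σ : S ⟶ Spec (CommRingCat.of k)) [IsLocallyNoetherian S] (S₀ : S.Opens) (hS₀ : CInt.IsSchematicallyDense S₀)
    (G : Over S) [GrpObj G] [Smooth G.hom]
    (hG : ∀ Z : Over S, Smooth Z.hom → Function.Bijective (fun g : Z ⟶ G => (Over.pullback S₀.ι).map g))
    (N : Over S) [Smooth N.hom] [Surjective N.hom]
    (hN : ∀ Z : Over S, Smooth Z.hom → Function.Bijective (fun g : Z ⟶ N => (Over.pullback S₀.ι).map g))
    (a : AlgGrp.Action G N)
    (h0 : IsIso ((Over.pullback S₀.ι).map (lift a.act (snd G N)))) :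
    NonAbH1.IsPseudoTorsorSch a := by
  haveI := h0
  haveI hA : Smooth (G ⊗ N).hom := inferInstanceAs (Smooth (Limits.pullback.fst G.hom N.hom ≫ G.hom))
  haveI hB : Smooth (N ⊗ N).hom := inferInstanceAs (Smooth (Limits.pullback.fst N.hom N.hom ≫ N.hom))
  have hGN := fun Z hZ => H28Neron.bijective_prod (hG Z hZ) (hN Z hZ)
  have hNN := fun Z hZ => H28Neron.bijective_prod (hN Z hZ) (hN Z hZ)
  obtain ⟨ψ, hψ⟩ := (hGN _ hB).surjective (inv ((Over.pullback S₀.ι).map (lift a.act (snd G N))))
  change IsIso (lift a.act (snd G N))
  refine ⟨⟨ψ, (hGN _ hA).injective ?_, (hNN _ hB).injective ?_⟩⟩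
  · dsimp only at hψ ⊢
    erw [Functor.map_comp, hψ, CategoryTheory.Functor.map_id, IsIso.hom_inv_id]
  · dsimp only at hψ ⊢
    erw [Functor.map_comp, hψ, CategoryTheory.Functor.map_id, IsIso.inv_hom_id]

end Groth.Agent.S13430
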