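import Groth.Statements.S13431
import Groth.Agent.H28Neron.Torsor

set_option autoImplicit false
universe u
open CategoryTheory MonoidalCategory CartesianMonoidalCategory MonObj GrpObj AlgebraicGeometry
open NeronHD

namespace Groth.Agent.S13431

/-- Let S be a locally Noetherian scheme over a field of characteristic 0 and S₀ ⊆ S a
scheme-theoretically dense open. Let G be a smooth group scheme over S and N a smooth S-scheme with
N → S surjective, equipped with an action of G making N a pseudo-torsor: the translation map G ×_S N
→ N ×_S N, (g, x) ↦ (g·x, x), is an isomorphism. Then G has the Néron mapping property for S₀ ⊆ S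
(restriction to S₀ of S-morphisms from smooth S-schemes is bijective) if and only if N has it. (The
published statement says 'G-torsor' with torsor defined as an action whose translation map is an
isomorphism; for N empty that holds and N has the mapping property while G need not, so surjectivity
of N → S — which gives étale-local sections — is assumed here, as the published proof uses. Case of
schemes of a statement about algebraic spaces.) -/
theorem result {k : Type u} [Field k] [CharZero k] {S : Scheme.{u}} (σ : S ⟶ Spec (CommRingCat.of k)) [IsLocallyNoetherian S] (S₀ : S.Opens) (hS₀ : CInt.IsSchematicallyDense S₀)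
    (G : Over S) [GrpObj G] [Smooth G.hom]
    (N : Over S) [Smooth N.hom] [Surjective N.hom]
    (a : AlgGrp.Action G N) (ha : NonAbH1.IsPseudoTorsorSch a) :
    (∀ Z : Over S, Smooth Z.hom → Function.Bijective (fun g : Z ⟶ G => (Over.pullback S₀.ι).map g)) ↔
    (∀ Z : Over S, Smooth Z.hom → Function.Bijective (fun g : Z ⟶ N => (Over.pullback S₀.ι).map g)) := by
  haveI : IsIso (lift a.act (snd G N)) := ha
  exact ⟨fun h => H28Neron.Torsor.neron_torsor_of_group S₀.ι a h,
    fun h => H28Neron.Torsor.neron_group_of_torsor S₀.ι a h⟩

end Groth.Agent.S13431
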