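import Groth.Statements.S13434
import Groth.Agent.H25Hilb.Basic

set_option autoImplicit false
universe u
open W4c1hilbpn

namespace Groth.Agent.S13434

open W4c1hilbpn in
/-- Let k be an infinite field, n ≥ 2, S the polynomial ring over k in n variables, I a monomial ideal
of S of finite colength and T(I) = Hom_S(I, S/I) with its grading by integer vectors. The graded
piece of T(I) in every multidegree all of whose entries are nonnegative, or all of whose entries are
negative, vanishes, and T(I) is spanned by its pieces of non-constant sign pattern (the spans, over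
the sets N of variable indices that are neither empty nor all indices, of the graded pieces whose
multidegree is negative exactly at N). -/
theorem result (k : Type u) [Field k] [Infinite k]
    (n : ℕ) (hn : 2 ≤ n) (I : Ideal (MvPolynomial (Fin n) k)) (hI : IsMonomial I)
    [Module.Finite k (MvPolynomial (Fin n) k ⧸ I)] :
    (∀ α : Fin n → ℤ, ((∀ i, 0 ≤ α i) ∨ (∀ i, α i < 0)) → tPiece I α = ⊥) ∧
      (⨆ N : {N : Set (Fin n) // N.Nonempty ∧ N ≠ Set.univ}, sigPiece I N.1) = ⊤ := by
  classical
  haveI : Nontrivial (Fin n) := Fin.nontrivial_iff_two_le.2 hn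
  have hz : ∀ α : Fin n → ℤ, ((∀ i, 0 ≤ α i) ∨ (∀ i, α i < 0)) → tPiece I α = ⊥ := by
    intro α hα
    refine H25Hilb.tPiece_le_bot_of hI fun φ _ β δ hβ hδ h => ?_
    rcases hα with hα | hα
    · refine absurd (H25Hilb.exps_of_le hβ fun i => ?_) hδ
      have := congrFun h i
      have := hα i
      simp only [H25Hilb.zv, Pi.add_apply] at *
      omega
    · have i : Fin n := ⟨0, by omega⟩
      obtain ⟨j, hj⟩ := exists_ne i
      refine H25Hilb.cq_eq_zero_of_descend hI φ hj (hα i) (fun β _ => ?_) (fun β δ hβ _ h hh => H25Hilb.exps_of_le hh fun l => ?_) hβ hδ h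
      · exact H25Hilb.exists_add_single_mem hI _ j
      · have := congrFun h l
        have := hα l
        simp only [H25Hilb.zv, Pi.add_apply, Finsupp.add_apply, Finsupp.tsub_apply, Finsupp.single_apply] at *
        rcases eq_or_ne i l with rfl | hl
        · simp only [if_true, if_neg hj]; omega
        · simp only [if_neg hl]; split_ifs <;> omega
  refine ⟨hz, eq_top_iff.2 fun φ _ => ?_⟩
  obtain ⟨A, hA⟩ := H25Hilb.exists_sum_comp hI φ
  rw [hA]
  refine Submodule.sum_mem _ fun α _ => ?_
  by_cases h0 : (∀ i, 0 ≤ α i) ∨ (∀ i, α i < 0)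
  · have hb := H25Hilb.comp_mem hI α φ
    rw [hz α h0, Submodule.mem_bot] at hb
    rw [hb]; exact zero_mem _
  simp only [not_or, not_forall, not_le, not_lt] at h0
  obtain ⟨⟨a, ha⟩, ⟨b, hb⟩⟩ := h0
  have hN : {i | α i < 0}.Nonempty ∧ {i | α i < 0} ≠ Set.univ :=
    ⟨⟨a, ha⟩, fun h => absurd (h.ge (Set.mem_univ b) : α b < 0) (not_lt.2 hb)⟩
  refine le_iSup (fun N : {N : Set (Fin n) // N.Nonempty ∧ N ≠ Set.univ} => sigPiece I N.1) ⟨_, hN⟩ ?_
  exact le_iSup (fun β : {β : Fin n → ℤ // ∀ i, β i < 0 ↔ i ∈ {i | α i < 0}} => tPiece I β.1) ⟨α, fun _ => Iff.rfl⟩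
    (H25Hilb.comp_mem hI α φ)

end Groth.Agent.S13434
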