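import Groth.Statements.S13438
import Groth.Agent.H25Hilb.Socle

set_option autoImplicit false
universe u
open W4c1hilbpn

namespace Groth.Agent.S13438

open MvPolynomial W4c1hilbpn Groth.Agent.H25Hilb in
theorem main_case {k : Type u} [Field k] {I : Ideal (MvPolynomial (Fin 3) k)} (hI : IsMonomial I)
    [Module.Finite k (MvPolynomial (Fin 3) k ⧸ I)] (p q r : Fin 3) (hpq : p ≠ q) (hpr : p ≠ r) (hqr : q ≠ r)
    (hall : ∀ l, l = p ∨ l = q ∨ l = r)
    (A B C : Fin 3 →₀ ℕ) (hA : A ∈ exps I) (hAr : A r = 0)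
    (hAmin : ∀ l, ∀ b : Fin 3 →₀ ℕ, b + Finsupp.single l 1 = A → b ∉ exps I)
    (hB : B ∈ exps I) (hBq : B q = 0) (hBp : 0 < B p) (hBA : B p ≤ A p) (hAq : 0 < A q)
    (hBmin : B - Finsupp.single p 1 ∉ exps I)
    (hC : C ∈ exps I) (hCp : C p = 0) (hCq : 0 < C q) (hCA : C q ≤ A q) (hAp : 0 < A p)
    (hCmin : C - Finsupp.single q 1 ∉ exps I) :
    sigPiece I ({p, q} : Set (Fin 3)) ≠ ⊥ := by
  classical
  intro hbot
  have side : ∀ (p q : Fin 3), p ≠ q → p ≠ r → q ≠ r → (∀ l, l = p ∨ l = q ∨ l = r) →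
      ∀ (B C : Fin 3 →₀ ℕ), B ∈ exps I → B q = 0 → 0 < B p → B p ≤ A p → 0 < A q → B - Finsupp.single p 1 ∉ exps I →
      C ∈ exps I → C p = 0 → C q ≤ A q → sigPiece I ({p, q} : Set (Fin 3)) = ⊥ → B r < C r := by
    intro p q hpq hpr hqr hall B C hB hBq hBp hBA hAq hBmin hC hCp hCA hbot
    by_contra hge
    push_neg at hge
    have ex := exists_add_single_mem hI (B - Finsupp.single p 1) r
    let t := Nat.find ex
    have ht0 : 0 < t := by
      rw [Nat.pos_iff_ne_zero]; intro h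
      exact hBmin (by have := Nat.find_spec ex; rw [show Nat.find ex = 0 from h, Finsupp.single_zero, add_zero] at this; exact this)
    let δ₀ : Fin 3 →₀ ℕ := B - Finsupp.single p 1 + Finsupp.single r (t - 1)
    have hδ₀ : δ₀ ∉ exps I := fun h => absurd (Nat.find_min' ex h) (by show ¬ t ≤ t - 1; omega)
    have hδ₀r : δ₀ + Finsupp.single r 1 ∈ exps I := by
      rw [add_assoc, ← Finsupp.single_add, Nat.sub_add_cancel ht0]
      exact Nat.find_spec ex
    let z := δ₀ r
    have hz : B r ≤ z := by simp [z, δ₀, Finsupp.single_eq_of_ne hpr, Finsupp.single_eq_of_ne hpr.symm]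
    let S := {δ : Fin 3 →₀ ℕ | δ ∉ exps I ∧ δ + Finsupp.single r 1 ∈ exps I ∧ δ r = z ∧ δ p < A p ∧ δ q < A q}
    have hS : S.Finite := Set.Finite.subset (Set.finite_coe_iff.1 (finite_std hI)) fun δ h => h.1
    have h0 : δ₀ ∈ S := by
      refine ⟨hδ₀, hδ₀r, rfl, ?_, ?_⟩
      · simp [δ₀, Finsupp.single_eq_of_ne hpr]; omega
      · simp [δ₀, hBq, Finsupp.single_eq_of_ne hqr, Finsupp.single_eq_of_ne hpq.symm]; omega
    obtain ⟨δ, hδ, hmax⟩ := Set.exists_max_image S (fun δ => δ p + δ q) hS ⟨δ₀, h0⟩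
    obtain ⟨h1, h2, h3, h4, h5⟩ := hδ
    have hp : δ + Finsupp.single p 1 ∈ exps I := by
      by_contra hn
      by_cases hlt : δ p + 1 < A p
      · have := hmax (δ + Finsupp.single p 1) ⟨hn, by rw [add_right_comm]; exact exps_add h2 _, by
          simp [Finsupp.single_eq_of_ne hpr.symm, h3], by simpa using hlt, by simpa [Finsupp.single_eq_of_ne hpq.symm] using h5⟩
        simp [Finsupp.single_eq_of_ne hpq.symm] at this
      · refine hn (exps_of_le hB fun l => ?_)
        rcases hall l with rfl | rfl | rfl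
        · simp; omega
        · simp [hBq]
        · simp [Finsupp.single_eq_of_ne hpr.symm, h3, hz]
    have hq : δ + Finsupp.single q 1 ∈ exps I := by
      by_contra hn
      by_cases hlt : δ q + 1 < A q
      · have := hmax (δ + Finsupp.single q 1) ⟨hn, by rw [add_right_comm]; exact exps_add h2 _, by
          simp [Finsupp.single_eq_of_ne hqr.symm, h3], by simpa [Finsupp.single_eq_of_ne hpq] using h4, by simpa using hlt⟩
        simp [Finsupp.single_eq_of_ne hpq] at this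
      · refine hn (exps_of_le hC fun l => ?_)
        rcases hall l with rfl | rfl | rfl
        · simp [hCp]
        · simp; omega
        · simp [Finsupp.single_eq_of_ne hqr.symm, h3]; omega
    refine sigPiece_ne_bot_of_socle hI hA h1 hAmin (fun l => ?_) _ (fun l => ?_) hbot
    · rcases hall l with rfl | rfl | rfl <;> assumption
    · rcases hall l with rfl | rfl | rfl
      · simp [h4]
      · simp [h5]
      · simp [hAr, hpr.symm, hqr.symm]
  have h1 := side p q hpq hpr hqr hall B C hB hBq hBp hBA hAq hBmin hC hCp hCA hbot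
  have h2 := side q p hpq.symm hqr hpr (fun l => by rcases hall l with h | h | h <;> simp [h]) C B hC hCp hCq hCA hAp
    hCmin hB hBq hBA (Set.pair_comm p q ▸ hbot)
  omega

open W4c1hilbpn in
theorem e3_min {k : Type u} [Field k] {I : Ideal (MvPolynomial (Fin 3) k)} (x : Fin 3 →₀ ℕ) (l₁ l₂ l₃ : Fin 3)
    (hall : ∀ l, l = l₁ ∨ l = l₂ ∨ l = l₃) (h1 : x - Finsupp.single l₁ 1 ∉ exps I)
    (h2 : x - Finsupp.single l₂ 1 ∉ exps I) (h3 : x l₃ = 0) :
    ∀ l, ∀ b : Fin 3 →₀ ℕ, b + Finsupp.single l 1 = x → b ∉ exps I := by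
  intro l b he
  subst he
  rcases hall l with rfl | rfl | rfl
  · simpa using h1
  · simpa using h2
  · simp at h3

open W4c1hilbpn in
/-- Let k be an infinite field, S = k[x,y,z], and T(I) = Hom_S(I, S/I) graded by triples of integers (a
graded piece is indexed by its multidegree; its sign pattern records which of the three entries are
negative); let I be a monomial ideal of finite colength whose minimal monomial generators include
x^a1 y^a2, x^b1 z^b3 and y^c2 z^c3 with all six exponents positive, and assume a1 ≥ b1 and a2 ≥ c2,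
or b1 ≥ a1 and b3 ≥ c3, or c2 ≥ a2 and c3 ≥ b3. Then T(I) has a nonzero graded piece whose sign
pattern is negative at exactly two of the three variables. (The published statement draws the
conclusion that the corresponding point of the Hilbert scheme of points of affine 3-space is
singular; this row records the nonvanishing of a tangent piece of forbidden sign pattern, from which
singularity follows by the smoothness criterion for monomial points.) -/
theorem result (k : Type u) [Field k] [Infinite k]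
    (I : Ideal (MvPolynomial (Fin 3) k)) (hI : IsMonomial I) [Module.Finite k (MvPolynomial (Fin 3) k ⧸ I)]
    (a1 a2 b1 b3 c2 c3 : ℕ) (ha1 : 0 < a1) (ha2 : 0 < a2) (hb1 : 0 < b1) (hb3 : 0 < b3)
    (hc2 : 0 < c2) (hc3 : 0 < c3)
    (hA : e3 a1 a2 0 ∈ exps I ∧ e3 (a1 - 1) a2 0 ∉ exps I ∧ e3 a1 (a2 - 1) 0 ∉ exps I)
    (hB : e3 b1 0 b3 ∈ exps I ∧ e3 (b1 - 1) 0 b3 ∉ exps I ∧ e3 b1 0 (b3 - 1) ∉ exps I)
    (hC : e3 0 c2 c3 ∈ exps I ∧ e3 0 (c2 - 1) c3 ∉ exps I ∧ e3 0 c2 (c3 - 1) ∉ exps I)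
    (hcase : (b1 ≤ a1 ∧ c2 ≤ a2) ∨ (a1 ≤ b1 ∧ c3 ≤ b3) ∨ (a2 ≤ c2 ∧ b3 ≤ c3)) :
    sigPiece I ({0, 1} : Set (Fin 3)) ≠ ⊥ ∨ sigPiece I ({0, 2} : Set (Fin 3)) ≠ ⊥ ∨
      sigPiece I ({1, 2} : Set (Fin 3)) ≠ ⊥ := by
  obtain ⟨hA, hAx, hAy⟩ := hA
  obtain ⟨hB, hBx, hBz⟩ := hB
  obtain ⟨hC, hCy, hCz⟩ := hC
  have d : ∀ (a b c : ℕ), e3 a b c 0 = a ∧ e3 a b c 1 = b ∧ e3 a b c 2 = c := fun a b c => by simp [e3]
  have s0 : ∀ a b c : ℕ, e3 a b c - Finsupp.single 0 1 = e3 (a - 1) b c := fun a b c => by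
    ext l; fin_cases l <;> simp [e3, Matrix.vecHead, Matrix.vecTail]
  have s1 : ∀ a b c : ℕ, e3 a b c - Finsupp.single 1 1 = e3 a (b - 1) c := fun a b c => by
    ext l; fin_cases l <;> simp [e3, Matrix.vecHead, Matrix.vecTail]
  have s2 : ∀ a b c : ℕ, e3 a b c - Finsupp.single 2 1 = e3 a b (c - 1) := fun a b c => by
    ext l; fin_cases l <;> simp [e3, Matrix.vecHead, Matrix.vecTail]
  rw [← s0] at hAx hBx
  rw [← s1] at hAy hCy
  rw [← s2] at hBz hCz
  rcases hcase with ⟨c1, c2'⟩ | ⟨c1, c2'⟩ | ⟨c1, c2'⟩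
  · exact Or.inl (main_case hI 0 1 2 (by decide) (by decide) (by decide) (by decide) (e3 a1 a2 0) (e3 b1 0 b3)
      (e3 0 c2 c3) hA (d _ _ _).2.2 (e3_min _ 0 1 2 (by decide) hAx hAy (d _ _ _).2.2)
      hB (d _ _ _).2.1 (by simp [d, hb1]) (by simp [d, c1]) (by simp [d, ha2]) hBx
      hC (d _ _ _).1 (by simp [d, hc2]) (by simp [d, c2']) (by simp [d, ha1]) hCy)
  · exact Or.inr (Or.inl (main_case hI 0 2 1 (by decide) (by decide) (by decide) (by decide) (e3 b1 0 b3) (e3 a1 a2 0)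
      (e3 0 c2 c3) hB (d _ _ _).2.1 (e3_min _ 0 2 1 (by decide) hBx hBz (d _ _ _).2.1)
      hA (d _ _ _).2.2 (by simp [d, ha1]) (by simp [d, c1]) (by simp [d, hb3]) hAx
      hC (d _ _ _).1 (by simp [d, hc3]) (by simp [d, c2']) (by simp [d, hb1]) hCz))
  · exact Or.inr (Or.inr (main_case hI 1 2 0 (by decide) (by decide) (by decide) (by decide) (e3 0 c2 c3) (e3 a1 a2 0)
      (e3 b1 0 b3) hC (d _ _ _).1 (e3_min _ 1 2 0 (by decide) hCy hCz (d _ _ _).1)
      hA (d _ _ _).2.2 (by simp [d, ha2]) (by simp [d, c1]) (by simp [d, hc3]) hAy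
      hB (d _ _ _).2.1 (by simp [d, hb3]) (by simp [d, c2']) (by simp [d, hc2]) hBz))

end Groth.Agent.S13438
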