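import Groth.Statements.S13439
import Groth.Agent.H25Hilb.Basic

set_option autoImplicit false
universe u
open W4c1hilbpn

namespace Groth.Agent.S13439

open W4c1hilbpn Groth.Agent.H25Hilb in
theorem piece_zero {k : Type u} [Field k] {I : Ideal (MvPolynomial (Fin 3) k)} (hI : IsMonomial I)
    [Module.Finite k (MvPolynomial (Fin 3) k ⧸ I)] (hx : Finsupp.single 0 1 ∈ exps I) (N : Set (Fin 3))
    (i j : Fin 3) (hij : j ≠ i) (hi : i ∈ N) (hj : j ∈ N) : sigPiece I N = ⊥ := by
  classical
  refine (eq_bot_iff.2 (iSup_le fun α => ?_))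
  rw [tPiece_le_bot_of hI]
  intro φ hφ β δ hβ hδ h
  by_cases hnp : ∀ l, α.1 l ≤ 0
  · refine cq_eq_zero_of_descend hI φ hij ((α.2 i).2 hi) (fun β _ => exists_add_single_mem hI _ j)
      (fun β δ _ _ h hh => exps_of_le hh fun l => ?_) hβ hδ h
    have := congrFun h l
    have := hnp l
    have := (α.2 i).2 hi
    have := (α.2 j).2 hj
    simp only [zv, Pi.add_apply, Finsupp.add_apply, Finsupp.tsub_apply, Finsupp.single_apply] at *
    rcases eq_or_ne i l with rfl | hl
    · simp only [if_true, if_neg hij]; omega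
    · simp only [if_neg hl]; split_ifs with hl' <;> (try subst hl') <;> omega
  · push_neg at hnp
    obtain ⟨l, hl⟩ := hnp
    by_cases hl0 : l = 0
    · subst hl0
      refine absurd (exps_of_le hx (Finsupp.single_le_iff.2 ?_)) hδ
      have := congrFun h 0
      simp only [zv, Pi.add_apply] at this
      omega
    · -- then `α 0 < 0`
      have key : ∀ i j l : Fin 3, j ≠ i → l ≠ 0 → l ≠ i → l ≠ j → i = 0 ∨ j = 0 := by decide
      have h0 : α.1 0 < 0 := by
        rcases key i j l hij hl0 (fun e => by subst e; exact absurd ((α.2 l).2 hi) (not_lt.2 hl.le))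
          (fun e => by subst e; exact absurd ((α.2 l).2 hj) (not_lt.2 hl.le)) with e | e
        · exact e ▸ (α.2 i).2 hi
        · exact e ▸ (α.2 j).2 hj
      have hb0 : 0 < β 0 := by
        have := congrFun h 0
        simp only [zv, Pi.add_apply] at this
        omega
      have hzero : φ (mon hx) = 0 := by
        refine quot_ext hI fun δ' _ => ?_
        rw [map_zero]
        by_contra hne
        have he := (mem_tPiece_iff hI).1 hφ _ hx δ' hne
        obtain ⟨l', hl', hneg⟩ : ∃ l', l' ≠ 0 ∧ α.1 l' < 0 := by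
          rcases eq_or_ne i 0 with e | e
          · exact ⟨j, e ▸ hij, (α.2 j).2 hj⟩
          · exact ⟨i, e, (α.2 i).2 hi⟩
        have := congrFun he l'
        simp [zv, Finsupp.single_eq_of_ne hl'] at this
        omega
      have hle : Finsupp.single (0 : Fin 3) 1 ≤ β := Finsupp.single_le_iff.2 hb0
      have e : mon hβ = (MvPolynomial.monomial (β - Finsupp.single 0 1) (1 : k)) • mon hx := Subtype.ext (by
        simp [mon, MvPolynomial.monomial_mul, tsub_add_cancel_of_le hle])
      rw [e, map_smul, hzero, smul_zero, map_zero]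

open W4c1hilbpn Groth.Agent.H25Hilb in
theorem piece_ne_bot {k : Type u} [Field k] {I : Ideal (MvPolynomial (Fin 3) k)} (hI : IsStronglyStable I)
    [Module.Finite k (MvPolynomial (Fin 3) k ⧸ I)] (hx : Finsupp.single 0 1 ∉ exps I) :
    sigPiece I ({1, 2} : Set (Fin 3)) ≠ ⊥ := by
  classical
  intro hbot
  have ex : ∀ β : Fin 3 →₀ ℕ, ∀ j, ∃ t, β + Finsupp.single j t ∈ exps I := exists_add_single_mem hI.1
  let c := Nat.find (ex (Finsupp.single 1 1) 2)
  have hc := Nat.find_spec (ex (Finsupp.single 1 1) 2)
  have hy : Finsupp.single 1 1 ∉ exps I := fun h => hx (by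
    have := hI.2 _ h 0 1 (by decide) (by simp)
    simpa using this)
  have hc1 : 1 ≤ c := by
    rw [Nat.one_le_iff_ne_zero]; intro h
    exact hy (by have := hc; simp [c] at h; simpa [h] using this)
  have hz : Finsupp.single 2 c ∉ exps I := fun h => by
    have h' : Finsupp.single (1 : Fin 3) 1 + Finsupp.single 2 (c - 1) ∈ exps I := by
      have := hI.2 _ h 1 2 (by decide) (by simp; omega)
      rwa [← Finsupp.single_tsub, add_comm] at this
    exact absurd (Nat.find_min' (ex (Finsupp.single 1 1) 2) h') (by show ¬ c ≤ c - 1; omega)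
  let a := Nat.find (ex 0 0)
  have ha : Finsupp.single 0 a ∈ exps I := by have := Nat.find_spec (ex 0 0); rwa [zero_add] at this
  have ha2 : 2 ≤ a := by
    by_contra h
    exact hx (exps_of_le ha (by intro l; simp [Finsupp.single_apply]; split_ifs <;> omega))
  have ha1 : Finsupp.single (0 : Fin 3) (a - 1) ∉ exps I := fun h =>
    absurd (Nat.find_min' (ex 0 0) (m := a - 1) (by simpa using h)) (by show ¬ a ≤ a - 1; omega)
  let c' := Nat.find (ex (Finsupp.single 0 (a - 1)) 2)
  have hc' := Nat.find_spec (ex (Finsupp.single 0 (a - 1)) 2)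
  have hc'1 : 1 ≤ c' := by
    rw [Nat.one_le_iff_ne_zero]; intro h
    exact ha1 (by have := hc'; simp [c'] at h; simpa [h] using this)
  have hcc : c' ≤ c := by
    refine Nat.find_min' _ (exps_of_le (hI.2 _ hc 0 1 (by decide) (by simp)) fun l => ?_)
    fin_cases l <;> simp [c] <;> omega
  let δ : Fin 3 →₀ ℕ := Finsupp.single 0 (a - 1) + Finsupp.single 2 (c' - 1)
  have hδ : δ ∉ exps I := fun h => absurd (Nat.find_min' (ex (Finsupp.single 0 (a - 1)) 2) h) (by show ¬ c' ≤ c' - 1; omega)
  let β : Fin 3 →₀ ℕ := Finsupp.single 1 1 + Finsupp.single 2 c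
  have hsucc : ∀ l, δ + Finsupp.single l 1 ∈ exps I := by
    have h2 : δ + Finsupp.single 2 1 ∈ exps I := by
      rw [show δ + Finsupp.single 2 1 = Finsupp.single 0 (a - 1) + Finsupp.single 2 c' by
        rw [add_assoc, ← Finsupp.single_add, Nat.sub_add_cancel hc'1]]
      exact hc'
    intro l
    fin_cases l
    · exact exps_of_le ha fun l => by fin_cases l <;> simp [δ] <;> omega
    · have := hI.2 _ h2 1 2 (by decide) (by simp [δ])
      rwa [add_tsub_cancel_right] at this
    · exact h2
  have hmin : ∀ l, ∀ β' : Fin 3 →₀ ℕ, β' + Finsupp.single l 1 = β → β' ∉ exps I := by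
    intro l β' he hm
    have hv : ∀ m, β' m + (Finsupp.single l 1 : Fin 3 →₀ ℕ) m = β m := fun m => by rw [← he]; rfl
    have h0 := hv 0; have h1 := hv 1; have h2 := hv 2
    fin_cases l
    · simp [β] at h0
    · exact hz (exps_of_le hm fun m => by fin_cases m <;> simp [β] at h0 h1 h2 ⊢ <;> omega)
    · have hle : c ≤ c - 1 := Nat.find_min' (ex (Finsupp.single 1 1) 2)
        (exps_of_le hm fun m => by fin_cases m <;> simp [β] at h0 h1 h2 ⊢ <;> omega)
      omega
  let α : Fin 3 → ℤ := zv δ - zv β
  have hc0 : (fun γ : Fin 3 → ℤ => if γ = zv δ then (1 : k) else 0) ∈ cfun I α := by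
    refine ⟨fun γ hg => if_neg fun e => hg ⟨β, δ, hc, hδ, e, by simp only [α]; abel⟩, fun b hb l hg => ?_⟩
    have h1 : zv b + α + Pi.single l 1 ≠ zv δ := fun e => hmin l b (zv_inj (by
      rw [zv_add_single]
      simp only [α] at e
      funext m
      have := congrFun e m
      simp only [Pi.add_apply, Pi.sub_apply] at this ⊢
      omega)) hb
    have h2 : zv b + α ≠ zv δ := fun e => by
      obtain ⟨b', d', -, hd', hd, -⟩ := hg
      rw [e, ← zv_add_single] at hd
      exact hd' (zv_inj hd ▸ hsucc l)
    simp only [if_neg h1, if_neg h2]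
  let φ := (pieceEquiv hI.1 α).symm ⟨_, hc0⟩
  have hsig : ∀ l, α l < 0 ↔ l ∈ ({1, 2} : Set (Fin 3)) := by
    intro l
    fin_cases l <;> simp [α, β, δ, zv] <;> omega
  have : φ.1 = 0 := by
    have hm : φ.1 ∈ sigPiece I ({1, 2} : Set (Fin 3)) :=
      le_iSup (fun α : {α : Fin 3 → ℤ // ∀ i, α i < 0 ↔ i ∈ ({1, 2} : Set (Fin 3))} => tPiece I α.1) ⟨α, hsig⟩ φ.2
    rwa [hbot, Submodule.mem_bot] at hm
  have h0 : φ = 0 := Subtype.ext this
  have := congrFun (congrArg Subtype.val (((pieceEquiv hI.1 α).apply_symm_apply ⟨_, hc0⟩).symm.trans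
    ((congrArg _ h0).trans (map_zero _)))) (zv δ)
  simp at this

open W4c1hilbpn in
/-- Let k be an infinite field, S = k[x,y,z], and T(I) = Hom_S(I, S/I) graded by triples of integers (a
graded piece is indexed by its multidegree; its sign pattern records which of the three entries are
negative); let I be a strongly stable ideal of finite colength (variables ordered x > y > z). Then x
lies in I if and only if the three graded pieces of T(I) whose sign pattern is negative at exactly
two of the three variables all vanish. (The published statement phrases the right-hand side as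
smoothness of the corresponding point of the Hilbert scheme of points of affine 3-space, which for a
monomial point is equivalent to this vanishing; the row records the vanishing condition, which is
what the argument establishes.) -/
theorem result (k : Type u) [Field k] [Infinite k]
    (I : Ideal (MvPolynomial (Fin 3) k)) (hI : IsStronglyStable I) [Module.Finite k (MvPolynomial (Fin 3) k ⧸ I)] :
    (MvPolynomial.X 0 : MvPolynomial (Fin 3) k) ∈ I ↔
      (sigPiece I ({1, 2} : Set (Fin 3)) = ⊥ ∧ sigPiece I ({0, 2} : Set (Fin 3)) = ⊥ ∧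
        sigPiece I ({0, 1} : Set (Fin 3)) = ⊥) := by
  have e : (MvPolynomial.X 0 : MvPolynomial (Fin 3) k) ∈ I ↔ Finsupp.single 0 1 ∈ exps I := Iff.rfl
  rw [e]
  refine ⟨fun h => ⟨piece_zero hI.1 h _ 1 2 (by decide) (by simp) (by simp),
    piece_zero hI.1 h _ 0 2 (by decide) (by simp) (by simp),
    piece_zero hI.1 h _ 0 1 (by decide) (by simp) (by simp)⟩, fun h => ?_⟩
  by_contra hx
  exact piece_ne_bot hI hx h.1

end Groth.Agent.S13439
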