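import Groth.Statements.S1344
import Groth.Agent.H8Props.FlatFibreConst
import Groth.Agent.H8Props.FlatFibreDim
import Groth.Agent.H8Props.Devissage.LocalFibre
import Groth.Agent.H22Alg.FibreDimBound

set_option maxHeartbeats 1000000
set_option backward.isDefEq.respectTransparency false

set_option autoImplicit false
universe u
open FlatMor AlgebraicGeometry CategoryTheory TopologicalSpace Topology

namespace Groth.Agent.S1344

open AlgebraicGeometry CategoryTheory Limits in
/-- Let f be locally of finite type between locally Noetherian schemes and Cohen–Macaulay at every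
point. Then for every point x of the source with image y, the local dimension of the source at x
equals the local dimension of the target at y plus the local dimension at x of the fibre over y. -/
theorem result {X Y : Scheme.{u}} (f : X ⟶ Y) [IsLocallyNoetherian X] [IsLocallyNoetherian Y] [LocallyOfFiniteType f]
    (hf : ∀ x : X, MoreMor.IsCMAt f x) (x : X) :
    FlatMor.localDim ↑X x = FlatMor.localDim ↑Y (f x) + FlatMor.fibreDimAt f x := by
  classical
  haveI : LocallyOfFinitePresentation f := inferInstance
  haveI : Flat f := Flat.iff_flat_stalkMap f |>.mpr fun y => (hf y).1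
  obtain ⟨d, hd⟩ := H22Alg.exists_nat_fibreDimAt f x
  obtain ⟨V, hV, hVo, hxV⟩ := eventually_nhds_iff.mp (H8Props.FieldDim.eventually_fibreDimAt_eq f x (hf x).2)
  let U : X.Opens := ⟨V, hVo⟩
  let g := U.ι ≫ f
  have hconst : ∀ u : U, FlatMor.fibreDimAt g u = d := fun u => by
    rw [H8Props.FieldDim.fibreDimAt_openImmersion_comp U.ι f u]
    exact (hV _ u.2).trans hd
  have hrel : Cyc.HasRelDim g d := by
    intro y T hT
    haveI := H8Props.FieldDim.locallyOfFiniteType_fiberToSpec g y
    let v := hT.1.genericPoint
    have hv : closure ({v} : Set ↑(g.fiber y)) = T := by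
      rw [hT.1.genericPoint_closure_eq, (isClosed_of_mem_irreducibleComponents T hT).closure_eq]
    have hmax : ∀ ζ : ↑(g.fiber y), ζ ⤳ v → ζ = v := fun ζ hζ => by
      have h1 : T ⊆ closure {ζ} := hv ▸ closure_minimal (Set.singleton_subset_iff.mpr hζ.mem_closure) isClosed_closure
      have h2 : closure ({ζ} : Set ↑(g.fiber y)) = T :=
        subset_antisymm (hT.2 isIrreducible_singleton.closure h1) h1
      exact (IsGenericPoint.eq (S := T) h2 hv)
    have h4 := H8Props.FieldDim.fibreDimAt_eq_localDim g v
    rw [hconst] at h4
    rw [H8Props.FieldDim.localDim_eq (k := Y.residueField y) (g.fiberToSpecResidueField y) v] at h4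
    rw [h4, ← hv]
    refine le_antisymm (le_iSup_of_le ⟨v, specializes_rfl⟩ le_rfl) (iSup_le ?_)
    rintro ⟨η, hη⟩
    show H8Props.FieldDim.cdim η ≤ _
    rw [hmax η hη]
    rfl
  have h := H8Props.FieldDim.localDim_eq_add_of_relDim g d hrel (⟨x, hxV⟩ : U)
  rw [H8Props.Devissage.localDim_openEmbedding U.ι.isOpenEmbedding (⟨x, hxV⟩ : U)] at h
  rw [hd]
  exact h

end Groth.Agent.S1344
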