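import Groth.Statements.S13440
import Groth.Agent.H25Hilb.Signs

set_option autoImplicit false
universe u
open W4c1hilbpn

namespace Groth.Agent.S13440

open W4c1hilbpn Groth.Agent.H25Hilb Plane in
theorem kerV_le (S : Stair) (α : P2) (m : ℕ) (k : Type u) [Field k] :
    Module.finrank k (kerV S α m k) ≤ ((Finset.range S.N ×ˢ Finset.range S.N).filter
      (fun u => m < S.f u ∧ S.f u ≤ S.f (u + α) + m ∧ S.f (u + e1 + α) + m < S.f u ∧ S.f (u + e2 + α) + m < S.f u)).card := by
  classical
  set T := (Finset.range S.N ×ˢ Finset.range S.N).filter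
    (fun u => m < S.f u ∧ S.f u ≤ S.f (u + α) + m ∧ S.f (u + e1 + α) + m < S.f u ∧ S.f (u + e2 + α) + m < S.f u) with hT
  let L : kerV S α m k →ₗ[k] (T → k) :=
    { toFun := fun g u => g.1 u.1, map_add' := fun _ _ => rfl, map_smul' := fun _ _ => rfl }
  have hL : Function.Injective L := by
    rw [injective_iff_map_eq_zero]
    intro g hg
    refine Subtype.ext (funext fun u => ?_)
    suffices ∀ (n : ℕ) (u : P2), 2 * S.N ≤ u.1 + u.2 + n → g.1 u = 0 from this (2 * S.N) u (by omega)
    intro n
    induction n with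
    | zero =>
      intro u hu
      refine g.2.1 u fun hP => ?_
      have := box hP.1
      simp at this
      omega
    | succ n ih =>
      intro u hu
      by_cases hP : cellP S α m 0 u
      · by_cases h1 : cellP S α m e1 u
        · rw [← g.2.2.1 u h1]; exact ih _ (by simp [e1]; omega)
        by_cases h2 : cellP S α m e2 u
        · rw [← g.2.2.2 u h2]; exact ih _ (by simp [e2]; omega)
        have hu' : u ∈ T := by
          refine Finset.mem_filter.2 ⟨box hP.1, hP.1, ?_, ?_, ?_⟩
          · have := hP.2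
            rwa [add_zero] at this
          · exact (cell_or hP.1).resolve_left h1
          · exact (cell_or hP.1).resolve_left h2
        exact congrFun hg ⟨u, hu'⟩
      · exact g.2.1 u hP
  refine (LinearMap.finrank_le_finrank_of_injective hL).trans ?_
  rw [Module.finrank_fintype_fun_eq_card, Fintype.card_coe]

theorem count_Ico (a b c M : ℕ) (hb : b ≤ a) (haM : a ≤ M) :
    ((Finset.range M).filter (fun m => m < a ∧ a ≤ b + m ∧ c + m < a)).card = b - c := by
  rw [show (Finset.range M).filter (fun m => m < a ∧ a ≤ b + m ∧ c + m < a) = Finset.Ico (a - b) (a - c) by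
    ext x; simp only [Finset.mem_filter, Finset.mem_range, Finset.mem_Ico]; omega, Nat.card_Ico]
  omega

theorem ite_zero {p : Prop} {d : Decidable p} {a : ℕ} (h : ¬ p) : (@ite ℕ p d a 0) = 0 := if_neg h

open W4c1hilbpn in
/-- Let k be an infinite field, S = k[x,y,z], and T(I) = Hom_S(I, S/I) graded by triples of integers (a
graded piece is indexed by its multidegree; its sign pattern records which of the three entries are
negative); let I be a monomial ideal of finite colength with staircase numbers b_{i,j} = the number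
of c with x^i y^j z^c outside I. For all natural numbers a1, a2, the span of the graded pieces of
T(I) of multidegrees (a1, a2, c) with c < 0 has dimension at most the sum, over all i ≥ a1 and j ≥
a2, of b_{i,j} - max(b_{i+1,j}, b_{i,j+1}) (a sum with finitely many nonzero terms). -/
theorem result (k : Type u) [Field k] [Infinite k]
    (I : Ideal (MvPolynomial (Fin 3) k)) (hI : IsMonomial I) [Module.Finite k (MvPolynomial (Fin 3) k ⧸ I)] (a1 a2 : ℕ) :
    Module.finrank k ↥(⨆ α : {α : Fin 3 → ℤ // α 0 = (a1 : ℤ) ∧ α 1 = (a2 : ℤ) ∧ α 2 < 0}, tPiece I α.1) ≤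
      ∑ᶠ p : ℕ × ℕ, (if a1 ≤ p.1 ∧ a2 ≤ p.2
        then stairZ I p.1 p.2 - max (stairZ I (p.1 + 1) p.2) (stairZ I p.1 (p.2 + 1)) else 0) := by
  classical
  set S := H25Hilb.stair hI with hS
  rw [H25Hilb.finrank_iSup_tPiece hI _ ((Finset.range (S.f 0)).image (H25Hilb.degP a1 a2)) ?_ ?_, Finset.sum_image ?_]
  · rw [Finset.sum_congr rfl fun m _ => H25Hilb.finrank_tPiece_degP hI a1 a2 m]
    refine (Finset.sum_le_sum fun m _ => kerV_le S (a1, a2) m k).trans ?_
    simp only [Finset.card_filter]
    rw [Finset.sum_comm,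
      finsum_eq_sum_of_support_subset _ (s := (Finset.range S.N ×ˢ Finset.range S.N).image (· + (a1, a2))) ?_,
      Finset.sum_image fun x _ y _ h => add_right_cancel h]
    · refine Finset.sum_le_sum fun u _ => le_of_eq ?_
      rw [if_pos ⟨Nat.le_add_left _ _, Nat.le_add_left _ _⟩, ← Finset.card_filter]
      have h0 : S.f (u + (a1, a2)) ≤ S.f u := S.anti le_self_add
      have := count_Ico (S.f u) (S.f (u + (a1, a2))) (max (S.f (u + H25Hilb.Plane.e1 + (a1, a2)))
        (S.f (u + H25Hilb.Plane.e2 + (a1, a2)))) (S.f 0) h0 (S.anti bot_le)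
      refine Eq.trans (congrArg Finset.card (Finset.filter_congr fun m _ => ?_)) (this.trans ?_)
      · constructor <;> intro h <;> omega
      · show _ = S.f (u.1 + a1, u.2 + a2) - max (S.f (u.1 + a1 + 1, u.2 + a2)) (S.f (u.1 + a1, u.2 + a2 + 1))
        rw [show u + H25Hilb.Plane.e1 + (a1, a2) = (u.1 + a1 + 1, u.2 + a2) by
            ext <;> simp [H25Hilb.Plane.e1] <;> omega,
          show u + H25Hilb.Plane.e2 + (a1, a2) = (u.1 + a1, u.2 + a2 + 1) by
            ext <;> simp [H25Hilb.Plane.e2] <;> omega]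
        rfl
    · intro p hp
      simp only [Function.mem_support] at hp
      by_cases hle : a1 ≤ p.1 ∧ a2 ≤ p.2
      · rw [if_pos hle] at hp
        have hpos : S.f p ≠ 0 := by
          intro h
          rw [show stairZ I p.1 p.2 = S.f p from rfl, h] at hp
          simp at hp
        have := S.supp p hpos
        rw [Finset.coe_image]
        refine ⟨(p.1 - a1, p.2 - a2), by simp; omega, ?_⟩
        ext <;> simp <;> omega
      · exact absurd (ite_zero hle) hp
  · intro a _ b _ h
    have := congrFun h 2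
    simpa [H25Hilb.degP] using this
  · intro α hα
    obtain ⟨m, -, rfl⟩ := Finset.mem_image.1 hα
    simp [H25Hilb.degP]
    omega
  · intro α ⟨h0, h1, h2⟩ hn
    refine H25Hilb.tPiece_le_bot_of hI fun φ hφ β δ hβ hδ h => ?_
    have hα : α = H25Hilb.degP a1 a2 (-α 2 - 1).toNat := by
      funext l; fin_cases l <;> simp [H25Hilb.degP, h0, h1] <;> omega
    rw [hα] at h hφ
    have hz := (H25Hilb.toFun_apply hI φ hβ hδ h).symm
    obtain ⟨u, z, hp⟩ := H25Hilb.good_degP_pt a1 a2 _ ⟨β, δ, hβ, hδ, rfl, h⟩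
    have hg : H25Hilb.Good I (H25Hilb.degP a1 a2 (-α 2 - 1).toNat) (H25Hilb.ptP a1 a2 u z) :=
      hp ▸ ⟨β, δ, hβ, hδ, rfl, h⟩
    obtain ⟨n, rfl⟩ := Int.eq_ofNat_of_zero_le ((H25Hilb.good_ptP hI a1 a2 _ u z).1 hg).1
    rw [hz, hp, H25Hilb.cfun_chainP hI a1 a2 _ (H25Hilb.toFun_mem hI _ φ) u n hg, if_neg]
    intro hlt
    refine hn (Finset.mem_image.2 ⟨_, Finset.mem_range.2 (lt_of_lt_of_le hlt ?_), hα.symm⟩)
    rw [← hS]
    exact S.anti bot_le

end Groth.Agent.S13440
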