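import Groth.Statements.S13441
import Groth.Agent.H25Hilb.Basic

set_option autoImplicit false
universe u
open W4c1hilbpn

namespace Groth.Agent.S13441

open W4c1hilbpn Groth.Agent.H25Hilb in
theorem le_of {k : Type u} [Field k] (I : Ideal (MvPolynomial (Fin 3) k)) (hI : IsMonomial I)
    [Module.Finite k (MvPolynomial (Fin 3) k ⧸ I)] (f g : ℕ → Fin 3 →₀ ℕ) (hg : Function.Injective g)
    (h : ∀ c, g c ∈ exps I → f c ∈ exps I) : Nat.card {c : ℕ // f c ∉ exps I} ≤ Nat.card {c : ℕ // g c ∉ exps I} := by
  have := finite_std hI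
  haveI : Finite {c : ℕ // g c ∉ exps I} := Finite.of_injective (fun c => (⟨g c.1, c.2⟩ : {δ : Fin 3 →₀ ℕ // δ ∉ exps I}))
    fun a b hab => Subtype.ext (hg (congrArg Subtype.val hab))
  exact Nat.card_le_card_of_injective (fun c : {c : ℕ // f c ∉ exps I} => (⟨c.1, fun hc => c.2 (h _ hc)⟩ : {c : ℕ // g c ∉ exps I}))
    fun a b hab => Subtype.ext (congrArg (fun x : {c : ℕ // g c ∉ exps I} => x.1) hab)

open W4c1hilbpn in
/-- Let k be an infinite field, S = k[x,y,z] with variables ordered x > y > z, and I a strongly stable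
ideal of finite colength, with staircase numbers b^z_{i,j} = the number of c with x^i y^j z^c
outside I and b^y_{i,j} = the number of b with x^i y^b z^j outside I. Then b^z_{i+1,j} ≤ b^z_{i,j+1}
and b^y_{i+1,j} ≤ b^y_{i,j+1} for all i and j (equivalently the maximum of the two neighbouring
staircase numbers is the second one). -/
theorem result (k : Type u) [Field k] [Infinite k]
    (I : Ideal (MvPolynomial (Fin 3) k)) (hI : IsStronglyStable I) [Module.Finite k (MvPolynomial (Fin 3) k ⧸ I)] (i j : ℕ) :
    stairZ I (i + 1) j ≤ stairZ I i (j + 1) ∧ stairY I (i + 1) j ≤ stairY I i (j + 1) := by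
  have step : ∀ β : Fin 3 →₀ ℕ, β ∈ exps I → ∀ a b : Fin 3, a < b → 0 < β b → β - Finsupp.single b 1 + Finsupp.single a 1 ∈ exps I :=
    fun β hβ a b => hI.2 β hβ a b
  constructor
  · refine le_of I hI.1 (fun c => e3 (i + 1) j c) (fun c => e3 i (j + 1) c)
      (fun a b h => by simpa [e3] using DFunLike.congr_fun h 2) fun c hc => ?_
    have := step _ hc 0 1 (by decide) (by simp [e3])
    convert this using 1
    ext l
    fin_cases l <;> simp [e3, Finsupp.single_apply, Matrix.vecHead, Matrix.vecTail]
  · refine le_of I hI.1 (fun c => e3 (i + 1) c j) (fun c => e3 i c (j + 1))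
      (fun a b h => by simpa [e3] using DFunLike.congr_fun h 1) fun c hc => ?_
    have := step _ hc 0 2 (by decide) (by simp [e3])
    convert this using 1
    ext l
    fin_cases l <;> simp [e3, Finsupp.single_apply, Matrix.vecHead, Matrix.vecTail]

end Groth.Agent.S13441
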