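import Groth.Statements.S13442
import Groth.Agent.H25Hilb.Pow
import Groth.Agent.H25Hilb.Sum

set_option autoImplicit false
universe u
open W4c1hilbpn

namespace Groth.Agent.S13442

open MvPolynomial Groth.Agent.H25Hilb in
theorem finite_quot (k : Type u) [Field k] (r : ℕ) :
    Module.Finite k (MvPolynomial (Fin 3) k ⧸ (Ideal.span (Set.range (MvPolynomial.X : Fin 3 → MvPolynomial (Fin 3) k))) ^ r) := by
  classical
  let s : Finset (Fin 3 →₀ ℕ) := ((Fintype.piFinset fun _ : Fin 3 => Finset.range r).image Finsupp.equivFunOnFinite.symm)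
  let mk := (Ideal.Quotient.mkₐ k ((Ideal.span (Set.range (MvPolynomial.X : Fin 3 → MvPolynomial (Fin 3) k))) ^ r)).toLinearMap
  refine ⟨⟨s.image fun δ => mk (monomial δ 1), eq_top_iff.2 fun x _ => ?_⟩⟩
  obtain ⟨p, rfl⟩ := Ideal.Quotient.mk_surjective x
  show mk p ∈ _
  rw [p.as_sum, map_sum]
  refine Submodule.sum_mem _ fun δ _ => ?_
  rw [show monomial δ (coeff δ p) = coeff δ p • monomial δ (1 : k) by rw [smul_monomial, smul_eq_mul, mul_one], map_smul]
  refine Submodule.smul_mem _ _ ?_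
  by_cases h : δ ∈ s
  · exact Submodule.subset_span (Finset.mem_coe.2 (Finset.mem_image_of_mem _ h))
  · have : mk (monomial δ (1 : k)) = 0 := by
      refine Ideal.Quotient.eq_zero_iff_mem.2 ((mem_exps_powVars r δ).2 ?_)
      by_contra hlt
      refine h (Finset.mem_image.2 ⟨Finsupp.equivFunOnFinite δ, Fintype.mem_piFinset.2 fun l => ?_, by simp⟩)
      have := Finsupp.le_degree l δ
      simp at this ⊢
      omega
    rw [this]; exact zero_mem _

theorem sum3 {M : Type} [AddCommMonoid M] (i : Fin 3) (f : Fin 3 → M) : ∑ l, f l = f i + f (i + 1) + f (i + 2) := by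
  fin_cases i <;> simp [Fin.sum_univ_three] <;> abel

theorem cases3 : ∀ i l : Fin 3, l = i ∨ l = i + 1 ∨ l = i + 2 := by decide

theorem ne3 : ∀ i : Fin 3, i + 1 ≠ i ∧ i + 2 ≠ i ∧ i + 2 ≠ i + 1 := by decide

/-- Multidegree with value `x`, `y`, `z` at `i`, `i+1`, `i+2`. -/
def vec (i : Fin 3) (x y z : ℤ) : Fin 3 → ℤ := fun l => if l = i then x else if l = i + 1 then y else z

theorem vec_eta (i : Fin 3) (α : Fin 3 → ℤ) : α = vec i (α i) (α (i + 1)) (α (i + 2)) := by
  obtain ⟨h1, h2, h3⟩ := ne3 i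
  funext l
  rcases cases3 i l with rfl | rfl | rfl <;> simp [vec, h1, h2, h3]

theorem vec_apply (i : Fin 3) (x y z : ℤ) : vec i x y z i = x ∧ vec i x y z (i + 1) = y ∧ vec i x y z (i + 2) = z := by
  obtain ⟨h1, h2, h3⟩ := ne3 i
  simp [vec, h1, h2, h3]

theorem count (r : ℕ) : ∀ d : ℕ, d ≤ 1 →
    ∑ P ∈ Finset.Icc 1 r, (P - d) * Nat.choose (r - P + 2) 2 = Nat.choose (r + 3 - d) 4 := by
  have hU : ∀ r : ℕ, ∑ p ∈ Finset.range r, Nat.choose (r + 1 - p) 2 = Nat.choose (r + 2) 3 := fun r => by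
    induction r with
    | zero => rfl
    | succ r ih =>
      rw [Finset.sum_range_succ', Nat.choose_succ_succ' (r + 2) 2, Finset.sum_congr rfl fun p _ => by
        rw [show r + 1 + 1 - (p + 1) = r + 1 - p by omega], ih, Nat.sub_zero, add_comm]
  have hS : ∀ r : ℕ, ∑ p ∈ Finset.range r, (p + 1) * Nat.choose (r + 1 - p) 2 = Nat.choose (r + 3) 4 := fun r => by
    induction r with
    | zero => rfl
    | succ r ih =>
      rw [Finset.sum_range_succ', Finset.sum_congr rfl fun p _ => by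
        rw [show r + 1 + 1 - (p + 1) = r + 1 - p by omega, show (p + 1 + 1) * Nat.choose (r + 1 - p) 2 =
          (p + 1) * Nat.choose (r + 1 - p) 2 + Nat.choose (r + 1 - p) 2 by ring], Finset.sum_add_distrib, ih, hU,
        Nat.choose_succ_succ' (r + 3) 3, Nat.choose_succ_succ' (r + 2) 2]
      simp only [Nat.zero_add, one_mul, Nat.sub_zero, Nat.reduceAdd, add_assoc]
      omega
  have hI : ∀ f : ℕ → ℕ, ∑ P ∈ Finset.Icc 1 r, f P = ∑ p ∈ Finset.range r, f (p + 1) := fun f => by
    rw [← Finset.Ico_add_one_right_eq_Icc, Finset.sum_Ico_eq_sum_range]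
    simp [add_comm]
  intro d hd
  interval_cases d
  · rw [hI, Nat.sub_zero, ← hS r]
    refine Finset.sum_congr rfl fun p hp => ?_
    have := Finset.mem_range.1 hp
    rw [Nat.sub_zero, show r - (p + 1) + 2 = r + 1 - p by omega]
  · rw [hI, show r + 3 - 1 = r + 2 by omega]
    rcases r with _ | r
    · rfl
    rw [Finset.sum_range_succ', show (0 + 1 - 1) = 0 from rfl, zero_mul, add_zero, ← hS r]
    refine Finset.sum_congr rfl fun p hp => ?_
    have := Finset.mem_range.1 hp
    rw [show p + 1 + 1 - 1 = p + 1 by omega, show r + 1 - (p + 1 + 1) + 2 = r + 1 - p by omega]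

open Groth.Agent.H25Hilb in
theorem pieces (k : Type u) [Field k] (r : ℕ) :
    let I := (Ideal.span (Set.range (MvPolynomial.X : Fin 3 → MvPolynomial (Fin 3) k))) ^ r
    ∃ A B : Fin 3 → Finset (Fin 3 → ℤ),
      (∀ i, ∀ α ∈ A i, ∀ l, α l < 0 ↔ l = i) ∧ (∀ i, ∀ α ∈ B i, ∀ l, α l < 0 ↔ l ≠ i) ∧
      (∀ i α, (∀ l, α l < 0 ↔ l = i) → α ∉ A i → W4c1hilbpn.tPiece I α = ⊥) ∧
      (∀ i α, (∀ l, α l < 0 ↔ l ≠ i) → α ∉ B i → W4c1hilbpn.tPiece I α = ⊥) ∧
      (∀ i, ∑ α ∈ A i, Module.finrank k ↥(W4c1hilbpn.tPiece I α) = Nat.choose (r + 3) 4) ∧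
      (∀ i, ∑ α ∈ B i, Module.finrank k ↥(W4c1hilbpn.tPiece I α) = Nat.choose (r + 2) 4) := by
  classical
  intro I
  haveI := finite_quot k r
  have := Groth.Agent.H25Hilb.finite_tgt (I := I)
  have hdim : ∀ α : Fin 3 → ℤ, Module.finrank k ↥(W4c1hilbpn.tPiece I α) =
      if (∑ i, α i = -1 ∧ ∑ i, (-α i).toNat ≤ r) then Nat.choose (3 + r - (∑ i, (-α i).toNat) - 1) 2 else 0 :=
    fun α => by rw [finrank_tPiece_powVars, Fintype.card_fin]
  have hz : ∀ α : Fin 3 → ℤ, ¬ (∑ i, α i = -1 ∧ ∑ i, (-α i).toNat ≤ r) → W4c1hilbpn.tPiece I α = ⊥ := fun α h =>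
    Submodule.finrank_eq_zero.1 ((hdim α).trans (if_neg h))
  refine ⟨fun i => ((Finset.Icc 1 r).sigma fun P => Finset.range P).image fun x =>
      vec i (-(x.1 : ℤ)) x.2 ((x.1 : ℤ) - 1 - x.2),
    fun i => ((Finset.Icc 1 r).sigma fun P => Finset.range (P - 1)).image fun x =>
      vec i ((x.1 : ℤ) - 1) (-(x.2 : ℤ) - 1) ((x.2 : ℤ) + 1 - x.1), ?_, ?_, ?_, ?_, ?_, ?_⟩
  · intro i α hα l
    obtain ⟨⟨P, a⟩, hx, rfl⟩ := Finset.mem_image.1 hα
    simp only [Finset.mem_sigma, Finset.mem_Icc, Finset.mem_range] at hx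
    obtain ⟨h1, h2, h3⟩ := ne3 i
    rcases cases3 i l with rfl | rfl | rfl <;> simp [vec, h1, h2, h3] <;> omega
  · intro i α hα l
    obtain ⟨⟨P, a⟩, hx, rfl⟩ := Finset.mem_image.1 hα
    simp only [Finset.mem_sigma, Finset.mem_Icc, Finset.mem_range] at hx
    obtain ⟨h1, h2, h3⟩ := ne3 i
    rcases cases3 i l with rfl | rfl | rfl <;> simp [vec, h1, h2, h3] <;> omega
  · intro i α hα hn
    refine hz α fun ⟨h1, h2⟩ => hn ?_
    rw [sum3 i] at h1 h2
    obtain ⟨e1, e2, e3⟩ := ne3 i
    have a1 := (hα i).2 rfl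
    have a2 := mt (hα (i + 1)).1 e1
    have a3 := mt (hα (i + 2)).1 e2
    refine Finset.mem_image.2 ⟨⟨(-α i).toNat, (α (i + 1)).toNat⟩, ?_, ?_⟩
    · simp only [Finset.mem_sigma, Finset.mem_Icc, Finset.mem_range]; omega
    · rw [vec_eta i α]
      dsimp only
      congr 1 <;> simp only [(vec_apply i _ _ _).1, (vec_apply i _ _ _).2.1] <;> omega
  · intro i α hα hn
    refine hz α fun ⟨h1, h2⟩ => hn ?_
    rw [sum3 i] at h1 h2
    obtain ⟨e1, e2, e3⟩ := ne3 i
    have a1 : ¬ α i < 0 := fun h => (hα i).1 h rfl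
    have a2 := (hα (i + 1)).2 e1
    have a3 := (hα (i + 2)).2 e2
    refine Finset.mem_image.2 ⟨⟨(α i).toNat + 1, (-α (i + 1)).toNat - 1⟩, ?_, ?_⟩
    · simp only [Finset.mem_sigma, Finset.mem_Icc, Finset.mem_range]; omega
    · rw [vec_eta i α]
      dsimp only
      congr 1 <;> simp only [(vec_apply i _ _ _).1, (vec_apply i _ _ _).2.1] <;> omega
  · intro i
    rw [Finset.sum_image ?_, Finset.sum_sigma, show Nat.choose (r + 3) 4 = Nat.choose (r + 3 - 0) 4 from rfl, ← count r 0 (Nat.zero_le 1)]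
    · refine Finset.sum_congr rfl fun P hP => ?_
      rw [Finset.sum_congr rfl (g := fun _ => Nat.choose (r - P + 2) 2) fun a ha => ?_, Finset.sum_const,
        Finset.card_range, smul_eq_mul, Nat.sub_zero]
      have := Finset.mem_Icc.1 hP
      have := Finset.mem_range.1 ha
      rw [hdim, if_pos]
      · rw [sum3 i]
        simp only [(vec_apply i _ _ _).1, (vec_apply i _ _ _).2.1, (vec_apply i _ _ _).2.2]
        congr 1; omega
      · rw [sum3 i, sum3 i]
        simp only [(vec_apply i _ _ _).1, (vec_apply i _ _ _).2.1, (vec_apply i _ _ _).2.2]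
        omega
    · rintro ⟨P, a⟩ hx ⟨Q, b⟩ hy h
      have e1 := congrFun h i
      have e2 := congrFun h (i + 1)
      simp only [(vec_apply i _ _ _).1, (vec_apply i _ _ _).2.1] at e1 e2
      obtain rfl : P = Q := by omega
      obtain rfl : a = b := by omega
      rfl
  · intro i
    rw [Finset.sum_image ?_, Finset.sum_sigma, show r + 2 = r + 3 - 1 by omega, ← count r 1 le_rfl]
    · refine Finset.sum_congr rfl fun P hP => ?_
      rw [Finset.sum_congr rfl (g := fun _ => Nat.choose (r - P + 2) 2) fun a ha => ?_, Finset.sum_const,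
        Finset.card_range, smul_eq_mul]
      have := Finset.mem_Icc.1 hP
      have := Finset.mem_range.1 ha
      rw [hdim, if_pos]
      · rw [sum3 i]
        simp only [(vec_apply i _ _ _).1, (vec_apply i _ _ _).2.1, (vec_apply i _ _ _).2.2]
        congr 1; omega
      · rw [sum3 i, sum3 i]
        simp only [(vec_apply i _ _ _).1, (vec_apply i _ _ _).2.1, (vec_apply i _ _ _).2.2]
        omega
    · rintro ⟨P, a⟩ hx ⟨Q, b⟩ hy h
      have e1 := congrFun h i
      have e2 := congrFun h (i + 1)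
      simp only [(vec_apply i _ _ _).1, (vec_apply i _ _ _).2.1] at e1 e2
      obtain rfl : P = Q := by omega
      obtain rfl : a = b := by omega
      rfl

theorem total (r : ℕ) : 3 * (Nat.choose (r + 3) 4 + Nat.choose (r + 2) 4) = Nat.choose (r + 2) 2 * Nat.choose (r + 1) 2 := by
  have a1 : ∀ n, 2 * Nat.choose (n + 1) 2 = (n + 1) * n := fun n => by
    induction n with
    | zero => rfl
    | succ n ihn => rw [Nat.choose_succ_succ' (n + 1) 1, Nat.choose_one_right]; nlinarith
  have a3 : ∀ n, 6 * Nat.choose (n + 2) 3 = (n + 2) * (n + 1) * n := fun n => by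
    induction n with
    | zero => rfl
    | succ n ihn =>
      rw [Nat.choose_succ_succ' (n + 2) 2]
      have := a1 (n + 1)
      nlinarith
  have a4 : ∀ n, 24 * Nat.choose (n + 3) 4 = (n + 3) * (n + 2) * (n + 1) * n := fun n => by
    induction n with
    | zero => rfl
    | succ n ihn =>
      rw [Nat.choose_succ_succ' (n + 3) 3]
      have := a3 (n + 1)
      nlinarith
  rcases r with _ | r
  · rfl
  refine Nat.eq_of_mul_eq_mul_left (show 0 < 24 by norm_num) ?_
  have h1 := a4 (r + 1)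
  have h2 := a4 r
  have h3 := congrArg₂ (· * ·) (a1 (r + 2)) (a1 (r + 1))
  rw [show r + 1 + 2 = r + 3 by omega, show r + 1 + 3 = r + 4 by omega] at *
  simp only [show r + 2 + 1 = r + 3 from rfl, show r + 1 + 1 = r + 2 from rfl] at *
  nlinarith


open W4c1hilbpn in
/-- Let k be an infinite field, S = k[x,y,z], and T(I) = Hom_S(I, S/I) graded by triples of integers (a
graded piece is indexed by its multidegree; its sign pattern records which of the three entries are
negative); let m = (x,y,z) and r a natural number. For each variable index i, the span of the graded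
pieces of T(m^r) negative exactly at i has dimension C(r+3, 4), the span of those negative exactly
at the other two indices has dimension C(r+2, 4), and T(m^r) itself has dimension C(r+2, 2) · C(r+1,
2). -/
theorem result (k : Type u) [Field k] [Infinite k] (r : ℕ)
    (i : Fin 3) :
    Module.finrank k ↥(sigPiece ((Ideal.span (Set.range (MvPolynomial.X : Fin 3 → MvPolynomial (Fin 3) k))) ^ r) {i}) = Nat.choose (r + 3) 4 ∧
      Module.finrank k ↥(sigPiece ((Ideal.span (Set.range (MvPolynomial.X : Fin 3 → MvPolynomial (Fin 3) k))) ^ r) ({i}ᶜ : Set (Fin 3))) = Nat.choose (r + 2) 4 ∧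
        Module.finrank k (Tgt ((Ideal.span (Set.range (MvPolynomial.X : Fin 3 → MvPolynomial (Fin 3) k))) ^ r)) = Nat.choose (r + 2) 2 * Nat.choose (r + 1) 2 := by
  classical
  haveI := finite_quot k r
  have hI := H25Hilb.isMonomial_powVars (σ := Fin 3) (k := k) r
  obtain ⟨A, B, hA, hB, hA', hB', hsA, hsB⟩ := pieces k r
  refine ⟨?_, ?_, ?_⟩
  · rw [← hsA i]
    exact H25Hilb.finrank_iSup_tPiece hI _ (A i) (fun α hα l => by simpa using hA i α hα l)
      (fun α hα h => hA' i α (fun l => by simpa using hα l) h)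
  · rw [← hsB i]
    exact H25Hilb.finrank_iSup_tPiece hI _ (B i) (fun α hα l => by simpa using hB i α hα l)
      (fun α hα h => hB' i α (fun l => by simpa using hα l) h)
  have e0 : ∀ {α : Fin 3 → ℤ} {i j : Fin 3}, α ∈ A i → α ∈ A j → i = j := fun hi hj =>
    (hA _ _ hj _).1 ((hA _ _ hi _).2 rfl)
  have e1 : ∀ {α : Fin 3 → ℤ} {i j : Fin 3}, α ∈ B i → α ∈ B j → i = j := fun {α i j} hi hj => by
    by_contra hne
    exact (hB i α hi i).1 ((hB j α hj i).2 hne) rfl
  have e2 : ∀ {α : Fin 3 → ℤ} {i j : Fin 3}, α ∈ A i → α ∈ B j → False := fun {α i j} hi hj => by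
    obtain ⟨n1, n2, n3⟩ := ne3 j
    have a := (hA i α hi _).1 ((hB j α hj _).2 n1)
    have b := (hA i α hi _).1 ((hB j α hj _).2 n2)
    exact n3 (b.trans a.symm)
  rw [H25Hilb.finrank_tgt hI (Finset.univ.biUnion A ∪ Finset.univ.biUnion B) ?_, Finset.sum_union ?_,
    Finset.sum_biUnion ?_, Finset.sum_biUnion ?_, Finset.sum_congr rfl (fun i _ => hsA i),
    Finset.sum_congr rfl (fun i _ => hsB i), Finset.sum_const, Finset.sum_const, Finset.card_univ, Fintype.card_fin,
    smul_eq_mul, smul_eq_mul, ← mul_add, total]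
  · exact fun i _ j _ hne => Finset.disjoint_left.2 fun α hi hj => hne (e1 hi hj)
  · exact fun i _ j _ hne => Finset.disjoint_left.2 fun α hi hj => hne (e0 hi hj)
  · refine Finset.disjoint_left.2 fun α hi hj => ?_
    simp only [Finset.mem_biUnion] at hi hj
    obtain ⟨i, -, hi⟩ := hi; obtain ⟨j, -, hj⟩ := hj
    exact e2 hi hj
  · intro α hα
    simp only [Finset.mem_union, Finset.mem_biUnion, Finset.mem_univ, true_and, not_or, not_exists] at hα
    have hcase : (∀ l, 0 ≤ α l) ∨ (∀ l, α l < 0) ∨ (∃ i, ∀ l, α l < 0 ↔ l = i) ∨ (∃ i, ∀ l, α l < 0 ↔ l ≠ i) := by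
      by_cases a : α 0 < 0 <;> by_cases b : α 1 < 0 <;> by_cases c : α 2 < 0
      · exact Or.inr (Or.inl fun l => by fin_cases l <;> assumption)
      · exact Or.inr (Or.inr (Or.inr ⟨2, fun l => by fin_cases l <;> simp_all⟩))
      · exact Or.inr (Or.inr (Or.inr ⟨1, fun l => by fin_cases l <;> simp_all⟩))
      · exact Or.inr (Or.inr (Or.inl ⟨0, fun l => by fin_cases l <;> simp_all⟩))
      · exact Or.inr (Or.inr (Or.inr ⟨0, fun l => by fin_cases l <;> simp_all⟩))
      · exact Or.inr (Or.inr (Or.inl ⟨1, fun l => by fin_cases l <;> simp_all⟩))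
      · exact Or.inr (Or.inr (Or.inl ⟨2, fun l => by fin_cases l <;> simp_all⟩))
      · exact Or.inl fun l => by fin_cases l <;> simp_all
    rcases hcase with h | h | ⟨i, h⟩ | ⟨i, h⟩
    · have := H25Hilb.finrank_tPiece_powVars (σ := Fin 3) (k := k) r α
      have hs := Finset.sum_nonneg fun l (_ : l ∈ Finset.univ) => h l
      rw [if_neg (fun hh => by omega)] at this
      have := H25Hilb.finite_tgt (I := (Ideal.span (Set.range (MvPolynomial.X : Fin 3 → MvPolynomial (Fin 3) k))) ^ r)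
      exact Submodule.finrank_eq_zero.1 (by assumption)
    · have := H25Hilb.finrank_tPiece_powVars (σ := Fin 3) (k := k) r α
      rw [if_neg (fun hh => by have := hh.1; rw [Fin.sum_univ_three] at this; have := h 0; have := h 1; have := h 2; omega)] at this
      have := H25Hilb.finite_tgt (I := (Ideal.span (Set.range (MvPolynomial.X : Fin 3 → MvPolynomial (Fin 3) k))) ^ r)
      exact Submodule.finrank_eq_zero.1 (by assumption)
    · exact hA' i α h (hα.1 i)
    · exact hB' i α h (hα.2 i)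

end Groth.Agent.S13442
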