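import Groth.Statements.S13454
import Groth.Agent.H25Hilb.Slice
import Groth.Agent.H25Hilb.Signs

set_option autoImplicit false
universe u
open W4c1hilbpn

namespace Groth.Agent.S13454

open W4c1hilbpn Groth.Agent.H25Hilb in
theorem slice_facts {k : Type u} [Field k] {I : Ideal (MvPolynomial (Fin 3) k)} (hI : IsStronglyStable I)
    [Module.Finite k (MvPolynomial (Fin 3) k ⧸ I)] (r : ℕ)
    (hd : Module.finrank k (MvPolynomial (Fin 3) k ⧸ I) ≤ Nat.choose (r + 2) 3)
    (d : ℕ → ℕ) (hdd : ∀ i, d i = ∑ b ∈ Finset.range (stair hI.1).N, (stair hI.1).f (i, b)) :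
    (∀ j, j ≤ r → ∑ i ∈ Finset.Ico j r, d i ≤ ∑ i ∈ Finset.Ico j r, Nat.choose (r - i + 1) 2) ∧
    ((∀ j, j < r → ∑ i ∈ Finset.Ico j r, d i = ∑ i ∈ Finset.Ico j r, Nat.choose (r - i + 1) 2) →
      ∀ i b, (stair hI.1).f (i, b) = r - i - b) := by
  classical
  set S := stair hI.1 with hS
  set T : ℕ → ℕ := fun n => Nat.choose (n + 1) 2 with hT
  have T1 : ∀ n, T (n + 1) = T n + (n + 1) := fun n => by
    simp only [hT]; rw [Nat.choose_succ_succ' (n + 1) 1, Nat.choose_one_right]; ring
  have Tmono : Monotone T := monotone_nat_of_le_succ fun n => by rw [T1]; omega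
  have hz : ∀ i b, S.N ≤ b ∨ S.N ≤ i → S.f (i, b) = 0 := fun i b h => by
    by_contra hne
    have := S.supp (i, b) hne
    simp at this
    omega
  have hsplit : ∀ i, d i = S.f (i, 0) + ∑ b ∈ Finset.range S.N, S.f (i, b + 1) := fun i => by
    have := Finset.sum_range_succ' (fun b => S.f (i, b)) S.N
    rw [Finset.sum_range_succ, hz i S.N (Or.inl le_rfl), add_zero] at this
    rw [hdd, this]; exact add_comm _ _
  have L1 : ∀ i, d (i + 1) + S.f (i, 0) ≤ d i := fun i => by
    have h := Finset.sum_le_sum fun b (_ : b ∈ Finset.range S.N) => stair_diag hI.1 hI i b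
    rw [← hdd (i + 1)] at h
    rw [hsplit i, ← hS] at *
    omega
  have hTb : ∀ (h N : ℕ), ∑ b ∈ Finset.range N, (h - b) ≤ T h := by
    intro h
    induction h with
    | zero => intro N; simp
    | succ h ih =>
      intro N
      rcases N with _ | N
      · simp
      rw [Finset.sum_range_succ', T1, Finset.sum_congr rfl fun b _ => Nat.add_sub_add_right h 1 b]
      exact add_le_add (ih N) le_rfl
  have L2 : ∀ i, d i ≤ T (S.f (i, 0)) := fun i => by
    rw [hdd]
    exact (Finset.sum_le_sum fun b _ => stair_le_sub hI.1 hI i b).trans (hTb _ _)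
  have L3 : ∀ i n, d i ≤ T (n + 1) → d (i + 1) ≤ T n := fun i n h => by
    have a := L1 i
    rcases Nat.lt_or_ge n (S.f (i, 0)) with hh | hh
    · rw [T1] at h; omega
    · have b := L2 i
      rcases Nat.eq_zero_or_pos (S.f (i, 0)) with h0 | h0
      · rw [h0] at b; have : T 0 = 0 := rfl; omega
      · obtain ⟨m, hm⟩ : ∃ m, S.f (i, 0) = m + 1 := ⟨_, (Nat.sub_add_cancel h0).symm⟩
        rw [hm, T1] at b
        have := Tmono (show m ≤ n by omega)
        omega
  have suffix' : ∀ j i, j ≤ i → i ≤ r → d j ≤ T (r - j) → d i ≤ T (r - i) := by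
    intro j i hji
    induction hji with
    | refl => exact fun _ h => h
    | @step i _ ih =>
      intro hir h
      have := ih (Nat.le_of_succ_le hir) h
      rw [show r - i = r - (i + 1) + 1 by omega] at this
      exact L3 i _ this
  have hcol : ∀ M, r ≤ M → S.N ≤ M → ∑ i ∈ Finset.range M, d i = Module.finrank k (MvPolynomial (Fin 3) k ⧸ I) := by
    intro M _ hM
    rw [finrank_quot hI.1 (Finset.range M ×ˢ Finset.range S.N) (fun u hu => by
      have := S.supp u hu; simp; omega), Finset.sum_product]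
    exact Finset.sum_congr rfl fun i _ => hdd i
  have htot : ∑ i ∈ Finset.range r, d i ≤ Nat.choose (r + 2) 3 := by
    refine le_trans ?_ ((hcol (r + S.N) (Nat.le_add_right _ _) (Nat.le_add_left _ _)).trans_le hd)
    exact Finset.sum_le_sum_of_subset (fun x hx => by simp at hx ⊢; omega)
  have hTsum : ∀ r, ∑ i ∈ Finset.range r, T (r - i) = Nat.choose (r + 2) 3 := by
    intro r
    induction r with
    | zero => rfl
    | succ r ih =>
      rw [Finset.sum_range_succ', Finset.sum_congr rfl fun i _ => by rw [show r + 1 - (i + 1) = r - i by omega], ih,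
        Nat.sub_zero, Nat.choose_succ_succ' (r + 2) 2]
      simp only [hT]
      ring
  have key : ∀ j, j ≤ r → ∑ i ∈ Finset.Ico j r, d i ≤ ∑ i ∈ Finset.Ico j r, T (r - i) := by
    intro j hj
    by_cases hgood : d j ≤ T (r - j)
    · exact Finset.sum_le_sum fun i hi => suffix' j i (Finset.mem_Ico.1 hi).1 (Finset.mem_Ico.1 hi).2.le hgood
    · have hpre : ∑ i ∈ Finset.Ico 0 j, T (r - i) ≤ ∑ i ∈ Finset.Ico 0 j, d i := Finset.sum_le_sum fun i hi => by
        by_contra hlt
        exact hgood (suffix' i j (Finset.mem_Ico.1 hi).2.le hj (le_of_lt (not_le.1 hlt)))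
      have a := Finset.sum_Ico_consecutive (fun i => d i) (Nat.zero_le j) hj
      have b := Finset.sum_Ico_consecutive (fun i => T (r - i)) (Nat.zero_le j) hj
      have e1 : ∑ i ∈ Finset.Ico 0 r, d i = ∑ i ∈ Finset.range r, d i := by rw [Finset.range_eq_Ico]
      have e2 : ∑ i ∈ Finset.Ico 0 r, T (r - i) = ∑ i ∈ Finset.range r, T (r - i) := by rw [Finset.range_eq_Ico]
      have := hTsum r
      omega
  refine ⟨key, fun heq => ?_⟩
  have deq : ∀ i, i < r → d i = T (r - i) := fun i hi => by
    have a := heq i hi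
    rw [Finset.sum_eq_sum_Ico_succ_bot hi, Finset.sum_eq_sum_Ico_succ_bot hi] at a
    have b : ∑ x ∈ Finset.Ico (i + 1) r, d x = ∑ x ∈ Finset.Ico (i + 1) r, T (r - x) := by
      rcases Nat.lt_or_ge (i + 1) r with h | h
      · exact heq (i + 1) h
      · rw [Finset.Ico_eq_empty (by omega)]; rfl
    simp only [hT] at b ⊢
    omega
  have dzero : ∀ i, r ≤ i → d i = 0 := fun i hi => by
    have hfull := hcol (i + 1 + S.N) (by omega) (Nat.le_add_left _ _)
    have hr : ∑ x ∈ Finset.range r, d x = Nat.choose (r + 2) 3 := by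
      rw [← hTsum r]; exact Finset.sum_congr rfl fun x hx => deq x (Finset.mem_range.1 hx)
    have hsp := Finset.sum_range_add_sum_Ico d (show r ≤ i + 1 + S.N by omega)
    have := Finset.single_le_sum (f := d) (fun _ _ => Nat.zero_le _) (show i ∈ Finset.Ico r (i + 1 + S.N) by simp; omega)
    omega
  intro i b
  rcases Nat.lt_or_ge i r with hi | hi
  · obtain ⟨m, hm⟩ : ∃ m, r - i = m + 1 := ⟨r - i - 1, by omega⟩
    have h1 : d (i + 1) = T m := by
      rcases Nat.lt_or_ge (i + 1) r with h | h
      · rw [deq _ h]; congr 1; omega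
      · rw [dzero _ h, show m = 0 by omega]; rfl
    have h2 := deq i hi
    rw [hm, T1] at h2
    have hle : S.f (i, 0) ≤ m + 1 := by have := L1 i; omega
    have hge : m + 1 ≤ S.f (i, 0) := by
      by_contra hlt
      have := (L2 i).trans (Tmono (show S.f (i, 0) ≤ m by omega))
      omega
    have hall : ∀ b ∈ Finset.range S.N, S.f (i, b) = (m + 1) - b := by
      have hle' : ∀ b ∈ Finset.range S.N, S.f (i, b) ≤ (m + 1) - b := fun b _ =>
        le_trans (stair_le_sub hI.1 hI i b) (by rw [← hS]; omega)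
      refine (Finset.sum_eq_sum_iff_of_le hle').1 (le_antisymm (Finset.sum_le_sum hle') ?_)
      have := hTb (m + 1) S.N
      rw [← hdd i]
      rw [T1] at this
      omega
    rcases Nat.lt_or_ge b S.N with hb | hb
    · rw [hall b (Finset.mem_range.2 hb)]; omega
    · rw [hz i b (Or.inl hb)]
      have := (S.supp (i, 0) (by omega)).1
      have hN : m + 1 ≤ S.N := by
        by_contra hlt
        rcases Nat.eq_zero_or_pos S.N with h0 | h0
        · simp [h0] at this
        · have := stair_le_sub hI.1 hI i (S.N - 1)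
          have h3 := hall (S.N - 1) (Finset.mem_range.2 (by omega))
          have hsum : d i ≤ ∑ b ∈ Finset.range S.N, ((m + 1) - b) := le_of_eq (by
            rw [hdd]; exact Finset.sum_congr rfl hall)
          have hlast := Finset.sum_range_succ (fun b => (m + 1) - b) S.N
          have hT' := hTb (m + 1) (S.N + 1)
          rw [T1] at hT'
          omega
      omega
  · rw [show r - i - b = 0 by omega]
    have h0 := dzero i hi
    rw [hdd, Finset.sum_eq_zero_iff] at h0
    rcases Nat.lt_or_ge b S.N with hb | hb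
    · exact h0 b (Finset.mem_range.2 hb)
    · exact hz i b (Or.inl hb)

theorem card2 {a b c : ℕ} : Finsupp.degree (W4c1hilbpn.e3 a b c) = a + b + c := by
  rw [Finsupp.degree_eq_sum, Fin.sum_univ_three]; simp [W4c1hilbpn.e3]

open W4c1hilbpn in
/-- Let k be an infinite field, S = k[x,y,z] with variables ordered x > y > z and irrelevant ideal m, r
a natural number, and I a strongly stable ideal of colength at most C(r+2, 3) = dim S/m^r; write I_i
for the ideal of polynomials f in k[y,z] with x^i f in I. Then for every j ≤ r the sum over j ≤ i <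
r of dim k[y,z]/I_i is at most the sum over the same i of C(r-i+1, 2) = dim k[y,z]/(y,z)^{r-i}, and
if equality holds for every j < r then I = m^r. -/
theorem result (k : Type u) [Field k] [Infinite k] (r : ℕ)
    (I : Ideal (MvPolynomial (Fin 3) k)) (hI : IsStronglyStable I) [Module.Finite k (MvPolynomial (Fin 3) k ⧸ I)]
    (hd : Module.finrank k (MvPolynomial (Fin 3) k ⧸ I) ≤ Nat.choose (r + 2) 3) :
    (∀ j, j ≤ r → ∑ i ∈ Finset.Ico j r, Module.finrank k (MvPolynomial (Fin 2) k ⧸ sliceX I i) ≤
        ∑ i ∈ Finset.Ico j r, Nat.choose (r - i + 1) 2) ∧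
    ((∀ j, j < r → ∑ i ∈ Finset.Ico j r, Module.finrank k (MvPolynomial (Fin 2) k ⧸ sliceX I i) =
        ∑ i ∈ Finset.Ico j r, Nat.choose (r - i + 1) 2) → I = (Ideal.span (Set.range (MvPolynomial.X : Fin 3 → MvPolynomial (Fin 3) k))) ^ r) := by
  classical
  obtain ⟨h1, h2⟩ := slice_facts hI r hd (fun i => Module.finrank k (MvPolynomial (Fin 2) k ⧸ sliceX I i))
    (fun i => H25Hilb.finrank_slice hI.1 i)
  refine ⟨h1, fun heq => H25Hilb.monomial_ideal_ext hI.1 (H25Hilb.isMonomial_powVars r) fun β => ?_⟩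
  rw [H25Hilb.eq_e3 β, H25Hilb.mem_exps_powVars, card2, H25Hilb.mem_iff hI.1 (β 0, β 1), h2 heq]
  omega

end Groth.Agent.S13454
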