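import Groth.Statements.S13443
import Groth.Agent.H25Hilb.Slice
import Groth.Agent.H25Hilb.Signs
import Groth.Agent.S13440
import Groth.Agent.S13454
import Groth.Agent.S13442
import Groth.Agent.S13441

set_option autoImplicit false
universe u
open W4c1hilbpn

namespace Groth.Agent.S13443

open W4c1hilbpn Groth.Agent.H25Hilb Plane in
theorem sig2_le {k : Type u} [Field k] {J : Ideal (MvPolynomial (Fin 3) k)} (hJ : IsMonomial J)
    [Module.Finite k (MvPolynomial (Fin 3) k ⧸ J)]
    (hdiag : ∀ a b, (stair hJ).f (a + 1, b) ≤ (stair hJ).f (a, b + 1)) (M : ℕ) (hM : (stair hJ).N ≤ M) :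
    Module.finrank k ↥(sigPiece J ({2} : Set (Fin 3))) ≤
      ∑ j ∈ Finset.range M, ∑ i ∈ Finset.Ico j M, ∑ b ∈ Finset.range (stair hJ).N, (stair hJ).f (i, b) := by
  classical
  set S := stair hJ with hS
  let P : ℕ × ℕ → (Fin 3 → ℤ) → Prop := fun a α => α 0 = (a.1 : ℤ) ∧ α 1 = (a.2 : ℤ) ∧ α 2 < 0
  let box := Finset.range S.N ×ˢ Finset.range S.N
  let g : ℕ × ℕ → ℕ := fun a => ∑ u ∈ box, (S.f (u + a) - S.f (u + e2 + a))
  have hfix : ∀ a : ℕ × ℕ, ∑ α ∈ sel hJ (P a), Module.finrank k (tPiece J α) ≤ g a := by
    rintro ⟨a1, a2⟩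
    have hzero : ∀ m, S.f 0 ≤ m → kerV S (a1, a2) m k = ⊥ := fun m hm => by
      refine (Submodule.eq_bot_iff _).2 fun g hg => funext fun u => hg.1 u fun hc => ?_
      have := hc.1
      have := S.anti (show (0 : P2) ≤ u from bot_le)
      omega
    refine le_trans (le_of_eq (Finset.sum_congr rfl fun α hα => ?_)) (le_trans (le_of_eq (Finset.sum_image
      (f := fun m => Module.finrank k (kerV S (a1, a2) m k)) (g := fun α : Fin 3 → ℤ => (-α 2 - 1).toNat) ?_).symm) ?_)
    · obtain ⟨-, h0, h1, h2⟩ := (mem_sel hJ _ _).1 hα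
      simp only at h0 h1
      rw [← finrank_tPiece_degP hJ a1 a2 (-α 2 - 1).toNat]
      refine congrArg (fun x => Module.finrank k (tPiece J x)) ?_
      funext l; fin_cases l <;> simp [degP, h0, h1] <;> omega
    · intro α hα β hβ h
      obtain ⟨-, h0, h1, h2⟩ := (mem_sel hJ _ _).1 hα
      simp only at h0 h1
      obtain ⟨-, k0, k1, k2⟩ := (mem_sel hJ _ _).1 hβ
      simp only at k0 k1
      funext l; fin_cases l <;> simp at * <;> omega
    refine (Finset.sum_le_sum_of_ne_zero (t := Finset.range (S.f 0)) fun m _ hne => Finset.mem_range.2 ?_).trans ?_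
    · by_contra hle
      refine hne ?_
      rw [hzero m (not_lt.1 hle)]; exact finrank_bot _ _
    refine (Finset.sum_le_sum fun m _ => Groth.Agent.S13440.kerV_le S (a1, a2) m k).trans ?_
    simp only [Finset.card_filter]
    rw [Finset.sum_comm]
    refine Finset.sum_le_sum fun u _ => le_of_eq ?_
    rw [← Finset.card_filter]
    have h12 : S.f (u + e1 + (a1, a2)) ≤ S.f (u + e2 + (a1, a2)) := by
      have := hdiag (u.1 + a1) (u.2 + a2)
      rw [show u + e1 + (a1, a2) = (u.1 + a1 + 1, u.2 + a2) by ext <;> simp [e1] <;> omega,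
        show u + e2 + (a1, a2) = (u.1 + a1, u.2 + a2 + 1) by ext <;> simp [e2] <;> omega]
      exact this
    have := Groth.Agent.S13440.count_Ico (S.f u) (S.f (u + (a1, a2))) (S.f (u + e2 + (a1, a2))) (S.f 0) (S.anti le_self_add)
      (S.anti bot_le)
    refine Eq.trans (congrArg Finset.card (Finset.filter_congr fun m _ => ?_)) this
    constructor <;> intro h <;> omega
  let φ : (Fin 3 → ℤ) → ℕ × ℕ := fun α => ((α 0).toNat, (α 1).toNat)
  let B : Finset (ℕ × ℕ) := box ∪ (finite_ne_bot hJ).toFinset.image φ
  rw [sigPiece, finrank_iSup_filter hJ,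
    ← Finset.sum_fiberwise_of_maps_to (g := φ) (t := B) (fun α hα => Finset.mem_union_right _
      (Finset.mem_image_of_mem φ ((Set.Finite.mem_toFinset _).2 ((mem_sel hJ _ _).1 hα).1)))
      (fun α => Module.finrank k (tPiece J α))]
  refine (Finset.sum_le_sum fun a _ => le_trans (le_of_eq (Finset.sum_congr (Finset.ext fun α => ?_) fun _ _ => rfl)) (hfix a)).trans ?_
  · simp only [Finset.mem_filter, mem_sel, P, φ, Prod.ext_iff]
    constructor
    · rintro ⟨⟨hne, hs⟩, e0, e1⟩
      have := (hs 0).1; have := (hs 1).1; have := (hs 2).2 rfl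
      simp at *
      exact ⟨hne, by omega, by omega, by omega⟩
    · rintro ⟨hne, h0, h1, h2⟩
      exact ⟨⟨hne, fun l => by fin_cases l <;> simp <;> omega⟩, by omega, by omega⟩
  have hz : ∀ p : P2, (S.N ≤ p.1 ∨ S.N ≤ p.2) → S.f p = 0 := fun p h => by
    by_contra hne; have := S.supp p hne; omega
  rw [← Finset.sum_subset (s₁ := box) Finset.subset_union_left fun a _ ha => Finset.sum_eq_zero fun u _ => by
    simp [box] at ha
    rw [hz (u + a) (by simp; omega), Nat.zero_sub]]
  have tele : ∀ (F : ℕ → ℕ), (∀ b, F (b + 1) ≤ F b) → ∀ N, F N = 0 → ∑ b ∈ Finset.range N, (F b - F (b + 1)) = F 0 := by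
    intro F hF N hN
    suffices h : ∀ N, ∑ b ∈ Finset.range N, (F b - F (b + 1)) + F N = F 0 by
      have := h N; omega
    intro N
    induction N with
    | zero => simp
    | succ N ih => rw [Finset.sum_range_succ]; have := hF N; omega
  calc ∑ a ∈ box, g a
      = ∑ a1 ∈ Finset.range S.N, ∑ u1 ∈ Finset.range S.N, ∑ a2 ∈ Finset.range S.N, S.f (u1 + a1, a2) := by
        simp only [g, box, Finset.sum_product]
        refine Finset.sum_congr rfl fun a1 _ => ?_
        rw [Finset.sum_comm]
        refine Finset.sum_congr rfl fun u1 _ => Finset.sum_congr rfl fun a2 _ => ?_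
        refine Eq.trans (Finset.sum_congr rfl fun b _ => ?_) ((tele (fun b => S.f (u1 + a1, b + a2))
          (fun b => S.anti ⟨le_rfl, by simp⟩) S.N (hz _ (Or.inr (Nat.le_add_right _ _)))).trans (by simp))
        simp only [e2, Prod.mk_add_mk, add_zero, add_right_comm b 1 a2]
    _ ≤ ∑ j ∈ Finset.range M, ∑ i ∈ Finset.Ico j M, ∑ b ∈ Finset.range S.N, S.f (i, b) := by
        refine le_trans (Finset.sum_le_sum fun j hj => ?_) (Finset.sum_le_sum_of_subset (Finset.range_mono hM))
        rw [← Finset.sum_image (f := fun i => ∑ b ∈ Finset.range S.N, S.f (i, b)) (g := fun u => u + j)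
          (fun _ _ _ _ h => add_right_cancel h)]
        refine Finset.sum_le_sum_of_ne_zero fun i hi hne => ?_
        obtain ⟨u, hu, rfl⟩ := Finset.mem_image.1 hi
        refine Finset.mem_Ico.2 ⟨Nat.le_add_left _ _, ?_⟩
        by_contra hle
        exact hne (Finset.sum_eq_zero fun b _ => hz _ (Or.inl (le_trans hM (not_lt.1 hle))))

open W4c1hilbpn Groth.Agent.H25Hilb in
theorem main {k : Type u} [Field k] [Infinite k] {r : ℕ} {I : Ideal (MvPolynomial (Fin 3) k)} (hI : IsStronglyStable I)
    [Module.Finite k (MvPolynomial (Fin 3) k ⧸ I)] (hd : Module.finrank k (MvPolynomial (Fin 3) k ⧸ I) = Nat.choose (r + 2) 3)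
    {J : Ideal (MvPolynomial (Fin 3) k)} (hJ : IsMonomial J) [Module.Finite k (MvPolynomial (Fin 3) k ⧸ J)]
    (hdiag : ∀ a b, (stair hJ).f (a + 1, b) ≤ (stair hJ).f (a, b + 1))
    (hsl : ∀ i, Module.finrank k (MvPolynomial (Fin 2) k ⧸ sliceX J i) = Module.finrank k (MvPolynomial (Fin 2) k ⧸ sliceX I i)) :
    Module.finrank k ↥(sigPiece J ({2} : Set (Fin 3))) ≤ Nat.choose (r + 3) 4 ∧
      (Module.finrank k ↥(sigPiece J ({2} : Set (Fin 3))) = Nat.choose (r + 3) 4 →
        I = (Ideal.span (Set.range (MvPolynomial.X : Fin 3 → MvPolynomial (Fin 3) k))) ^ r) := by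
  classical
  set d := fun i => Module.finrank k (MvPolynomial (Fin 2) k ⧸ sliceX I i) with hd'
  obtain ⟨key, hall⟩ := Groth.Agent.S13454.result k r I hI hd.le
  have hdd : ∀ i, d i = ∑ b ∈ Finset.range (stair hI.1).N, (stair hI.1).f (i, b) := fun i => finrank_slice hI.1 i
  obtain ⟨-, -⟩ := Groth.Agent.S13454.slice_facts hI r hd.le d hdd
  -- `d i = 0` for `r ≤ i`
  have T1 : ∀ n, Nat.choose (n + 1 + 1) 2 = Nat.choose (n + 1) 2 + (n + 1) := fun n => by
    rw [Nat.choose_succ_succ' (n + 1) 1, Nat.choose_one_right]; ring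
  set M := r + (stair hJ).N + (stair hI.1).N + 1 with hMdef
  have hcol : ∑ i ∈ Finset.range M, d i = Nat.choose (r + 2) 3 := by
    rw [← hd, finrank_quot hI.1 (Finset.range M ×ˢ Finset.range (stair hI.1).N) (fun u hu => by
      have := (stair hI.1).supp u hu; simp; omega), Finset.sum_product]
    exact Finset.sum_congr rfl fun i _ => hdd i
  have hTsum : ∀ r, ∑ i ∈ Finset.range r, Nat.choose (r - i + 1) 2 = Nat.choose (r + 2) 3 := by
    intro r
    induction r with
    | zero => rfl
    | succ r ih =>
      rw [Finset.sum_range_succ', Finset.sum_congr rfl fun i _ => by rw [show r + 1 - (i + 1) = r - i by omega], ih,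
        Nat.sub_zero, Nat.choose_succ_succ' (r + 2) 2]
      ring
  have hzero : ∀ i, r ≤ i → d i = 0 := by
    intro i hi
    rcases Nat.eq_zero_or_pos r with h0 | h0
    · rcases Nat.lt_or_ge i M with hiM | hiM
      · have hle := Finset.single_le_sum (f := d) (fun _ _ => Nat.zero_le _) (Finset.mem_range.2 hiM)
        subst h0
        have : Nat.choose (0 + 2) 3 = 0 := rfl
        omega
      · rw [hdd]; refine Finset.sum_eq_zero fun b _ => ?_
        by_contra hne; have := ((stair hI.1).supp (i, b) hne).1; simp at this; omega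
    · by_contra hne
      have hstrict : ∀ j ∈ Finset.range r, Nat.choose (r - j + 1) 2 ≤ d j := by
        intro j hj
        have hjr := Finset.mem_range.1 hj
        by_contra hlt
        -- the chain below `T` forces `d i = 0`
        have L1 : ∀ i, d (i + 1) + (stair hI.1).f (i, 0) ≤ d i := fun i => by
          have h := Finset.sum_le_sum fun b (_ : b ∈ Finset.range (stair hI.1).N) => stair_diag hI.1 hI i b
          have hh := Finset.sum_range_succ' (fun b => (stair hI.1).f (i, b)) (stair hI.1).N
          rw [Finset.sum_range_succ] at hh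
          rw [← hdd (i + 1)] at h
          rw [← hdd i] at hh
          have : (stair hI.1).f (i, (stair hI.1).N) = 0 := by
            by_contra hne
            have := ((stair hI.1).supp _ hne).2
            simp at this
          omega
        have hTb : ∀ (h N : ℕ), ∑ b ∈ Finset.range N, (h - b) ≤ Nat.choose (h + 1) 2 := by
          intro h
          induction h with
          | zero => intro N; simp
          | succ h ih =>
            intro N
            rcases N with _ | N
            · simp
            rw [Finset.sum_range_succ', T1, Finset.sum_congr rfl fun b _ => Nat.add_sub_add_right h 1 b]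
            exact add_le_add (ih N) le_rfl
        have chain : ∀ i, j ≤ i → d i ≤ Nat.choose (r - i + 1) 2 := by
          intro i hji
          induction hji with
          | refl => omega
          | @step i _ ih =>
            have a := L1 i
            have b : d i ≤ Nat.choose ((stair hI.1).f (i, 0) + 1) 2 := by
              rw [hdd]
              exact (Finset.sum_le_sum fun b _ => stair_le_sub hI.1 hI i b).trans (hTb _ _)
            rcases Nat.lt_or_ge i r with hir | hir
            · rw [show r - i = r - (i + 1) + 1 by omega, T1] at ih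
              rcases Nat.lt_or_ge (r - (i + 1)) ((stair hI.1).f (i, 0)) with hh | hh
              · simp only [Nat.succ_eq_add_one]; omega
              · rcases Nat.eq_zero_or_pos ((stair hI.1).f (i, 0)) with e0 | e0
                · rw [e0] at b
                  have : Nat.choose (0 + 1) 2 = 0 := rfl
                  simp only [Nat.succ_eq_add_one]; omega
                · obtain ⟨m, hm⟩ : ∃ m, (stair hI.1).f (i, 0) = m + 1 := ⟨_, (Nat.sub_add_cancel e0).symm⟩
                  rw [hm, T1] at b
                  have := Nat.choose_le_choose 2 (show m + 1 ≤ r - (i + 1) + 1 by omega)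
                  simp only [Nat.succ_eq_add_one]; omega
            · rw [show r - i = 0 by omega] at ih
              have : Nat.choose (0 + 1) 2 = 0 := rfl
              simp only [Nat.succ_eq_add_one]; omega
        have := chain i (by omega)
        rw [show r - i = 0 by omega] at this
        exact hne (Nat.le_zero.1 this)
      rcases Nat.lt_or_ge i M with hiM | hiM
      · have h1 := Finset.sum_le_sum hstrict
        rw [hTsum] at h1
        have hsp := Finset.sum_range_add_sum_Ico d (show r ≤ M by omega)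
        have := Finset.single_le_sum (f := d) (fun _ _ => Nat.zero_le _) (show i ∈ Finset.Ico r M by simp; omega)
        omega
      · refine hne ?_
        rw [hdd]; refine Finset.sum_eq_zero fun b _ => ?_
        by_contra hne'; have := ((stair hI.1).supp (i, b) hne').1; simp at this; omega
  have hsig := sig2_le hJ hdiag M (by omega)
  have hJd : ∀ i, ∑ b ∈ Finset.range (stair hJ).N, (stair hJ).f (i, b) = d i := fun i => by
    rw [← finrank_slice hJ i]; exact hsl i
  simp only [hJd] at hsig
  have hR : ∑ j ∈ Finset.range M, ∑ i ∈ Finset.Ico j M, d i = ∑ j ∈ Finset.range r, ∑ i ∈ Finset.Ico j r, d i := by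
    rw [← Finset.sum_range_add_sum_Ico _ (show r ≤ M by omega)]
    have hz : ∑ j ∈ Finset.Ico r M, ∑ i ∈ Finset.Ico j M, d i = 0 := Finset.sum_eq_zero fun j hj =>
      Finset.sum_eq_zero fun i hi => hzero i (le_trans (Finset.mem_Ico.1 hj).1 (Finset.mem_Ico.1 hi).1)
    rw [hz, add_zero]
    refine Finset.sum_congr rfl fun j hj => ?_
    rw [← Finset.sum_Ico_consecutive d (Finset.mem_range.1 hj).le (show r ≤ M by omega),
      Finset.sum_eq_zero (s := Finset.Ico r M) fun i hi => hzero i (Finset.mem_Ico.1 hi).1, add_zero]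
  have hT4 : ∀ r, ∑ j ∈ Finset.range r, ∑ i ∈ Finset.Ico j r, Nat.choose (r - i + 1) 2 = Nat.choose (r + 3) 4 := by
    intro r
    induction r with
    | zero => rfl
    | succ r ih =>
      rw [Finset.sum_range_succ', ← Finset.range_eq_Ico, hTsum, Nat.choose_succ_succ' (r + 3) 3]
      have : ∀ j ∈ Finset.range r, ∑ i ∈ Finset.Ico (j + 1) (r + 1), Nat.choose (r + 1 - i + 1) 2 =
          ∑ i ∈ Finset.Ico j r, Nat.choose (r - i + 1) 2 := fun j _ => by
        rw [← Finset.sum_Ico_add' (fun i => Nat.choose (r + 1 - i + 1) 2) j r 1]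
        exact Finset.sum_congr rfl fun i _ => by rw [show r + 1 - (i + 1) = r - i by omega]
      rw [Finset.sum_congr rfl this, ih]
      ring
  rw [hR] at hsig
  have hkey : ∀ j ∈ Finset.range r, ∑ i ∈ Finset.Ico j r, d i ≤ ∑ i ∈ Finset.Ico j r, Nat.choose (r - i + 1) 2 :=
    fun j hj => key j (Finset.mem_range.1 hj).le
  have hle := Finset.sum_le_sum hkey
  rw [hT4] at hle
  refine ⟨hsig.trans hle, fun he => hall fun j hj => ?_⟩
  exact (Finset.sum_eq_sum_iff_of_le hkey).1 (by rw [hT4]; omega) j (Finset.mem_range.2 hj)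

open W4c1hilbpn Groth.Agent.H25Hilb in
theorem swap_facts {k : Type u} [Field k] [Infinite k] {I : Ideal (MvPolynomial (Fin 3) k)} (hI : IsStronglyStable I)
    [Module.Finite k (MvPolynomial (Fin 3) k ⧸ I)] :
    let e : Fin 3 ≃ Fin 3 := Equiv.swap 1 2
    ∀ [Module.Finite k (MvPolynomial (Fin 3) k ⧸ permI I e)],
    (∀ a b, (stair (isMonomial_permI hI.1 e)).f (a + 1, b) ≤ (stair (isMonomial_permI hI.1 e)).f (a, b + 1)) ∧
    (∀ i, Module.finrank k (MvPolynomial (Fin 2) k ⧸ sliceX (permI I e) i) = Module.finrank k (MvPolynomial (Fin 2) k ⧸ sliceX I i)) := by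
  classical
  intro e hfin
  have hp := isMonomial_permI hI.1 e
  have hm : ∀ a b c : ℕ, e3 a b c ∈ exps (permI I e) ↔ e3 a c b ∈ exps I := fun a b c => by
    rw [mem_exps_permI]
    have : (e3 a b c).mapDomain e = e3 a c b := Finsupp.ext fun l => by
      rw [Finsupp.mapDomain_equiv_apply, Equiv.symm_swap]
      fin_cases l <;> simp [e, e3, Equiv.swap_apply_def]
    rw [this]
  refine ⟨fun a b => ?_, fun i => ?_⟩
  · have hY : ∀ a b, (stair hp).f (a, b) = stairY I a b := fun a b => by
      show stairZ (permI I e) a b = stairY I a b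
      exact Nat.card_congr (Equiv.subtypeEquivRight fun c => not_congr (hm a b c))
    rw [hY, hY]
    exact (Groth.Agent.S13441.result k I hI a b).2
  · have hms := isMonomial_slice hI.1 i
    have hmp := isMonomial_slice hp i
    let E : {δ : Fin 2 →₀ ℕ // δ ∉ exps (sliceX (permI I e) i)} ≃ {δ : Fin 2 →₀ ℕ // δ ∉ exps (sliceX I i)} :=
      { toFun := fun δ => ⟨δ.1.equivMapDomain (Equiv.swap 0 1), fun h => δ.2 (by
          rw [exps_slice hI.1] at h
          rw [exps_slice hp, hm]
          simpa [Equiv.swap_apply_def] using h)⟩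
        invFun := fun δ => ⟨δ.1.equivMapDomain (Equiv.swap 0 1), fun h => δ.2 (by
          rw [exps_slice hp, hm] at h
          rw [exps_slice hI.1]
          simpa [Equiv.swap_apply_def] using h)⟩
        left_inv := fun δ => Subtype.ext (Finsupp.ext fun l => by simp)
        right_inv := fun δ => Subtype.ext (Finsupp.ext fun l => by simp) }
    have : Finite {δ : Fin 2 →₀ ℕ // δ ∉ exps (sliceX I i)} := by
      have := finite_std hI.1
      refine Finite.of_injective (fun δ => (⟨e3 i (δ.1 0) (δ.1 1), fun h => δ.2 ((exps_slice hI.1 i δ.1).2 h)⟩ :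
        {δ : Fin 3 →₀ ℕ // δ ∉ exps I})) fun a b h => Subtype.ext (Finsupp.ext fun l => ?_)
      have h1 := DFunLike.congr_fun (congrArg Subtype.val h) 1
      have h2 := DFunLike.congr_fun (congrArg Subtype.val h) 2
      fin_cases l <;> simp [e3] at * <;> assumption
    have := Finite.of_equiv _ E.symm
    rw [finrank_quot_eq_card hmp, finrank_quot_eq_card hms, Nat.card_congr E]

open W4c1hilbpn in
theorem compl3 : ({2}ᶜ : Set (Fin 3)) = {0, 1} ∧ ({1}ᶜ : Set (Fin 3)) = {0, 2} :=
  ⟨by ext l; fin_cases l <;> simp, by ext l; fin_cases l <;> simp⟩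

open W4c1hilbpn in
/-- Let k be an infinite field, S = k[x,y,z], and T(I) = Hom_S(I, S/I) graded by triples of integers (a
graded piece is indexed by its multidegree; its sign pattern records which of the three entries are
negative), variables ordered x > y > z; let m = (x,y,z), r a natural number and I a strongly stable
ideal of colength C(r+2, 3) = dim S/m^r. Then the spans of the graded pieces of T(I) negative
exactly at z, resp. exactly at y, have dimension at most C(r+3, 4), the spans of those negative
exactly at x and y, resp. exactly at x and z, have dimension at most C(r+2, 4) (these are the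
corresponding dimensions for m^r), and in each of the four cases equality holds if and only if I =
m^r. (The published statement assumes the ideal Borel-fixed over a field of characteristic zero,
which for monomial ideals means strongly stable; the argument uses only strong stability, and the
row is stated in that form.) -/
theorem result (k : Type u) [Field k] [Infinite k] (r : ℕ)
    (I : Ideal (MvPolynomial (Fin 3) k)) (hI : IsStronglyStable I) [Module.Finite k (MvPolynomial (Fin 3) k ⧸ I)]
    (hd : Module.finrank k (MvPolynomial (Fin 3) k ⧸ I) = Nat.choose (r + 2) 3) :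
    (Module.finrank k ↥(sigPiece I ({2} : Set (Fin 3))) ≤ Nat.choose (r + 3) 4 ∧
      (Module.finrank k ↥(sigPiece I ({2} : Set (Fin 3))) = Nat.choose (r + 3) 4 ↔ I = (Ideal.span (Set.range (MvPolynomial.X : Fin 3 → MvPolynomial (Fin 3) k))) ^ r)) ∧
    (Module.finrank k ↥(sigPiece I ({1} : Set (Fin 3))) ≤ Nat.choose (r + 3) 4 ∧
      (Module.finrank k ↥(sigPiece I ({1} : Set (Fin 3))) = Nat.choose (r + 3) 4 ↔ I = (Ideal.span (Set.range (MvPolynomial.X : Fin 3 → MvPolynomial (Fin 3) k))) ^ r)) ∧
    (Module.finrank k ↥(sigPiece I ({0, 1} : Set (Fin 3))) ≤ Nat.choose (r + 2) 4 ∧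
      (Module.finrank k ↥(sigPiece I ({0, 1} : Set (Fin 3))) = Nat.choose (r + 2) 4 ↔ I = (Ideal.span (Set.range (MvPolynomial.X : Fin 3 → MvPolynomial (Fin 3) k))) ^ r)) ∧
    (Module.finrank k ↥(sigPiece I ({0, 2} : Set (Fin 3))) ≤ Nat.choose (r + 2) 4 ∧
      (Module.finrank k ↥(sigPiece I ({0, 2} : Set (Fin 3))) = Nat.choose (r + 2) 4 ↔ I = (Ideal.span (Set.range (MvPolynomial.X : Fin 3 → MvPolynomial (Fin 3) k))) ^ r)) := by
  classical
  obtain ⟨hc2, hc1⟩ := compl3
  have h2 := main hI hd hI.1 (fun a b => H25Hilb.stair_diag hI.1 hI a b) (fun _ => rfl)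
  let e : Fin 3 ≃ Fin 3 := Equiv.swap 1 2
  haveI : Module.Finite k (MvPolynomial (Fin 3) k ⧸ H25Hilb.permI I e) :=
    Module.Finite.equiv (H25Hilb.permQuot I e).symm.toLinearEquiv
  obtain ⟨hdg, hsl⟩ := swap_facts hI
  have h1 := main hI hd (H25Hilb.isMonomial_permI hI.1 e) hdg hsl
  have eq1 : Module.finrank k ↥(sigPiece (H25Hilb.permI I e) ({2} : Set (Fin 3))) =
      Module.finrank k ↥(sigPiece I ({1} : Set (Fin 3))) := H25Hilb.finrank_sigPiece_perm hI.1 e _ _ (fun l => by
    fin_cases l <;> simp [e, Equiv.swap_apply_def])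
  rw [eq1] at h1
  have r2 := H25Hilb.finrank_sigPiece_singleton hI.1 2
  have r1 := H25Hilb.finrank_sigPiece_singleton hI.1 1
  rw [hc2] at r2
  rw [hc1] at r1
  have hsum : Nat.choose (r + 3) 4 = Nat.choose (r + 2) 4 + Nat.choose (r + 2) 3 := by
    rw [Nat.choose_succ_succ' (r + 2) 3]; ring
  have val : I = (Ideal.span (Set.range (MvPolynomial.X : Fin 3 → MvPolynomial (Fin 3) k))) ^ r → ∀ i : Fin 3,
      Module.finrank k ↥(sigPiece I ({i} : Set (Fin 3))) = Nat.choose (r + 3) 4 := by
    rintro rfl i
    exact (Groth.Agent.S13442.result k r i).1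
  rw [hd] at r1 r2
  refine ⟨⟨h2.1, h2.2, fun h => val h 2⟩, ⟨h1.1, h1.2, fun h => val h 1⟩, ⟨by have := h2.1; omega, fun h => h2.2 (by omega),
    fun h => by have := val h 2; omega⟩, ⟨by have := h1.1; omega, fun h => h1.2 (by omega), fun h => by have := val h 1; omega⟩⟩

end Groth.Agent.S13443
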