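import Groth.Statements.S13444
import Groth.Agent.H1Link.Dim2

set_option autoImplicit false
universe u
open W4c1hilbpn

namespace Groth.Agent.S13444

/-- Let R be a regular local ring of Krull dimension 2 and I, J ideals of R such that R/I and R/J have
finite length. Then the length of Hom_R(I, R/J) equals the length of R/J plus the length of (I :
J)/I; here the last length is moved to the other side as the length of R/(I : J), using that I ⊆ (I
: J) and all lengths are finite. -/
theorem result (R : Type u) [CommRing R]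
    [IsRegularLocalRing R] (hdim : ringKrullDim R = 2) (I J : Ideal R)
    (hI : Module.length R (R ⧸ I) < ⊤) (hJ : Module.length R (R ⧸ J) < ⊤) :
    Module.length R (↥I →ₗ[R] (R ⧸ J)) + Module.length R (R ⧸ I.colon J) =
      Module.length R (R ⧸ J) + Module.length R (R ⧸ I) := by
  haveI := H4Depth.isDomain_of_isRegularLocalRing R
  have hcof : ∀ K : Ideal R, Module.length R (R ⧸ K) < ⊤ → H1HK.Cofin K := fun K hK => by
    by_cases htop : K = ⊤
    · exact ⟨0, by rw [htop]; exact le_top⟩
    obtain ⟨hN, hA⟩ := isFiniteLength_iff_isNoetherian_isArtinian.1 (Module.length_ne_top_iff.1 hK.ne)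
    haveI : IsArtinianRing (R ⧸ K) := isArtinian_of_tower R hA
    obtain ⟨N, hN⟩ := IsArtinianRing.isNilpotent_jacobson_bot (R := R ⧸ K)
    refine ⟨N, ?_⟩
    have hle : (IsLocalRing.maximalIdeal R).map (Ideal.Quotient.mk K) ≤ Ideal.jacobson ⊥ := by
      haveI := Ideal.Quotient.nontrivial_iff.2 htop
      haveI : IsLocalRing (R ⧸ K) := IsLocalRing.of_surjective' _ Ideal.Quotient.mk_surjective
      rw [IsLocalRing.jacobson_eq_maximalIdeal _ bot_ne_top,
        IsLocalRing.map_maximalIdeal_of_surjective (Ideal.Quotient.mk K) Ideal.Quotient.mk_surjective]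
    have h := (Ideal.pow_right_mono hle N).trans hN.le
    rw [← Ideal.map_pow, Ideal.zero_eq_bot, le_bot_iff, Ideal.map_eq_bot_iff_le_ker, Ideal.mk_ker] at h
    exact h
  obtain ⟨p, q, hm, hp, hq, hpq, hqp⟩ := H1Link.exists_params hdim
  have hI' := hcof I hI
  have hJ' := hcof J hJ
  have hIJ : H1HK.Cofin (I.colon (J : Set R)) := H1Lech.cofin_mono hI' fun r hr =>
    Submodule.mem_colon.2 fun t _ => I.mul_mem_right t hr
  rw [← H1Lech.colen_self hI', ← H1Lech.colen_self hJ', ← H1Lech.colen_self hIJ]
  exact H1Link.length_hom_add hm hp hq hpq hqp I J hI' hJ'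

end Groth.Agent.S13444
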