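import Groth.Statements.S13445
import Groth.Agent.H27Hilb0.Degen
import Groth.Agent.H27Hilb0.Coord
import Groth.Agent.H27Hilb0.SliceBound
import Groth.Agent.S13442

set_option autoImplicit false
universe u
open W4c1hilbpn
open scoped MonomialOrder

namespace Groth.Agent.S13445

open W4c1hilbpn in
/-- Let k be an infinite field, S = k[x,y,z] with irrelevant ideal m, and d, r natural numbers with d ≤
C(r+2, 3). For every ideal I of S of colength d, three times the dimension of Hom_S(I, S/I) is at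
most four times the dimension of Hom_S(m^r, S/m^r). -/
theorem result (k : Type u) [Field k] [Infinite k] (d r : ℕ)
    (hdr : d ≤ Nat.choose (r + 2) 3) (I : Ideal (MvPolynomial (Fin 3) k)) [Module.Finite k (MvPolynomial (Fin 3) k ⧸ I)]
    (hd : Module.finrank k (MvPolynomial (Fin 3) k ⧸ I) = d) :
    3 * Module.finrank k (Tgt I) ≤ 4 * Module.finrank k (Tgt ((Ideal.span (Set.range (MvPolynomial.X : Fin 3 → MvPolynomial (Fin 3) k))) ^ r)) := by
  classical
  rw [(Groth.Agent.S13442.result k r 0).2.2]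
  have hlt : Module.finrank k (MvPolynomial (Fin 3) k ⧸ I) < Nat.choose (r + 3) 3 := by
    have : Nat.choose (r + 3) 3 = Nat.choose (r + 2) 2 + Nat.choose (r + 2) 3 := Nat.choose_succ_succ _ _
    have := Nat.choose_pos (show 2 ≤ r + 2 by omega)
    omega
  obtain ⟨f, hfI, hf0, hfr⟩ := Groth.Agent.H27Hilb0.Coord.exists_low_degree I r hlt
  obtain ⟨v, hv⟩ := Groth.Agent.H27Hilb0.Coord.exists_shear f hf0
  let e := Groth.Agent.H27Hilb0.Coord.shearEquiv v
  let I' : Ideal (MvPolynomial (Fin 3) k) := I.map (e : MvPolynomial (Fin 3) k →+* MvPolynomial (Fin 3) k)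
  have hmem : ∀ q, q ∈ I' ↔ e.symm q ∈ I := fun q => by
    constructor
    · intro hq
      obtain ⟨x, hx, rfl⟩ := (Ideal.mem_map_iff_of_surjective _ e.surjective).1 hq
      simpa using hx
    · intro hq
      have := Ideal.mem_map_of_mem (e : MvPolynomial (Fin 3) k →+* MvPolynomial (Fin 3) k) hq
      simpa [I'] using this
  let E : (MvPolynomial (Fin 3) k ⧸ I) ≃ₐ[k] MvPolynomial (Fin 3) k ⧸ I' := Ideal.quotientEquivAlg I I' e rfl
  haveI : Module.Finite k (MvPolynomial (Fin 3) k ⧸ I') := Module.Finite.equiv E.toLinearEquiv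
  let m : MonomialOrder (Fin 3) := MonomialOrder.degLex
  have hx : (MvPolynomial.X 0 : MvPolynomial (Fin 3) k) ^ f.totalDegree ∈ Groth.Agent.H27Hilb0.Degen.init m I' := by
    rw [MvPolynomial.X_pow_eq_monomial]
    show Finsupp.single 0 f.totalDegree ∈ exps (Groth.Agent.H27Hilb0.Degen.init m I')
    rw [Groth.Agent.H27Hilb0.Degen.exps_init]
    refine ⟨e f, Ideal.mem_map_of_mem _ hfI, fun h => hf0 (e.injective (h.trans (map_zero e).symm)), ?_⟩
    refine m.toSyn.injective (le_antisymm (m.degree_le_iff.2 fun δ hδ => ?_) (m.le_degree (MvPolynomial.mem_support_iff.2 hv)))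
    have hdeg : δ.degree ≤ f.totalDegree := by
      refine le_trans ?_ (Groth.Agent.H27Hilb0.Coord.totalDegree_shear_le v f)
      exact le_trans (le_of_eq (Finsupp.degree_apply δ)) (MvPolynomial.le_totalDegree hδ)
    show δ ≼[m] Finsupp.single 0 f.totalDegree
    rw [MonomialOrder.degLex_le_iff, Finsupp.DegLex.le_iff, ofDegLex_toDegLex, ofDegLex_toDegLex, Finsupp.degree_single]
    rcases lt_or_eq_of_le hdeg with h | h
    · exact Or.inl h
    refine Or.inr ⟨h, ?_⟩
    rcases eq_or_ne δ (Finsupp.single 0 f.totalDegree) with rfl | hne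
    · exact le_rfl
    refine le_of_lt ?_
    refine ⟨0, fun j hj => absurd hj (Fin.not_lt_zero j), ?_⟩
    show δ 0 < (Finsupp.single (0 : Fin 3) f.totalDegree) 0
    rw [Finsupp.single_eq_same]
    rw [Finsupp.degree_eq_sum, Fin.sum_univ_three] at h
    rcases eq_or_ne (δ 1 + δ 2) 0 with h0 | h0
    · refine absurd (Finsupp.ext fun i => ?_) hne
      fin_cases i <;> simp <;> omega
    · omega
  have h1 := Groth.Agent.H27Hilb0.Coord.finrank_tgt_le_comap e I I' hmem
  have h2 := Groth.Agent.H27Hilb0.Degen.finrank_tgt_le_init m I'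
  haveI := Groth.Agent.H27Hilb0.Degen.finite_init m I'
  have h3 := Groth.Agent.H27Hilb0.finrank_tgt_le Groth.Agent.H27Hilb0.Degen.isMonomial_init hx
  rw [Groth.Agent.H27Hilb0.Degen.finrank_init, ← E.toLinearEquiv.finrank_eq, hd] at h3
  have h4 : Module.finrank k (Tgt I) ≤ (2 * r + 2) * Nat.choose (r + 2) 3 :=
    (h1.trans (h2.trans h3)).trans (Nat.mul_le_mul (by omega) hdr)
  have e3 := Nat.choose_succ_right_eq (r + 2) 2
  have e2 : Nat.choose (r + 1) 2 * 2 = (r + 1) * r := by
    have := Nat.choose_succ_right_eq (r + 1) 1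
    simpa using this
  simp only [Nat.reduceAdd, Nat.add_sub_cancel] at e3
  calc 3 * Module.finrank k (Tgt I) ≤ 3 * ((2 * r + 2) * Nat.choose (r + 2) 3) := Nat.mul_le_mul_left _ h4
    _ = 2 * ((r + 1) * (Nat.choose (r + 2) 3 * 3)) := by ring
    _ = 2 * (Nat.choose (r + 2) 2 * ((r + 1) * r)) := by rw [e3]; ring
    _ = 4 * (Nat.choose (r + 2) 2 * Nat.choose (r + 1) 2) := by rw [← e2]; ring

end Groth.Agent.S13445
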