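import Groth.Statements.S13446
import Groth.Agent.H27Hilb0.SliceBound
import Groth.Agent.S13442

set_option autoImplicit false
universe u
open W4c1hilbpn

namespace Groth.Agent.S13446

open W4c1hilbpn in
/-- Let k be an infinite field, S = k[x,y,z] with irrelevant ideal m, and d, r, p natural numbers with d
≤ C(r+2, 3) and 4p ≤ 3r + 1. For every monomial ideal I of S of colength d containing x^p, the
dimension of Hom_S(I, S/I) is at most that of Hom_S(m^r, S/m^r). -/
theorem result (k : Type u) [Field k] [Infinite k] (d r p : ℕ)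
    (hdr : d ≤ Nat.choose (r + 2) 3) (hp : 4 * p ≤ 3 * r + 1) (I : Ideal (MvPolynomial (Fin 3) k)) (hI : IsMonomial I)
    [Module.Finite k (MvPolynomial (Fin 3) k ⧸ I)] (hd : Module.finrank k (MvPolynomial (Fin 3) k ⧸ I) = d)
    (hx : (MvPolynomial.X 0 : MvPolynomial (Fin 3) k) ^ p ∈ I) :
    Module.finrank k (Tgt I) ≤ Module.finrank k (Tgt ((Ideal.span (Set.range (MvPolynomial.X : Fin 3 → MvPolynomial (Fin 3) k))) ^ r)) := by
  rw [(Groth.Agent.S13442.result k r 0).2.2]
  refine (Groth.Agent.H27Hilb0.finrank_tgt_le hI hx).trans ?_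
  rw [hd]
  refine (Nat.mul_le_mul_left _ hdr).trans ?_
  have e3 := Nat.choose_succ_right_eq (r + 2) 2
  have e2 : Nat.choose (r + 1) 2 * 2 = (r + 1) * r := by
    have := Nat.choose_succ_right_eq (r + 1) 1
    simpa using this
  simp only [Nat.reduceAdd, Nat.add_sub_cancel] at e3
  refine Nat.le_of_mul_le_mul_right (c := 2) ?_ Nat.two_pos
  calc (2 * p + 1) * Nat.choose (r + 2) 3 * 2
      = (4 * p + 2) * Nat.choose (r + 2) 3 := by ring
    _ ≤ (3 * (r + 1)) * Nat.choose (r + 2) 3 := Nat.mul_le_mul_right _ (by omega)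
    _ = (r + 1) * (Nat.choose (r + 2) 3 * 3) := by ring
    _ = Nat.choose (r + 2) 2 * ((r + 1) * r) := by rw [e3]; ring
    _ = Nat.choose (r + 2) 2 * Nat.choose (r + 1) 2 * 2 := by rw [← e2]; ring

end Groth.Agent.S13446
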