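-- statement FlatMor.GrothFrozen.S1345 (Groth/Statements/S1345.lean; the theorem FlatMor.isCMAt_baseChange_of_locallyOfFiniteType);
import Groth.Statements.S1345
import Groth.Agent.H7Flat.CMFieldExt
import Groth.Agent.H8Props.FibreCriterion

set_option autoImplicit false
universe u
open FlatMor

namespace Groth.Agent.S1345
set_option backward.isDefEq.respectTransparency false

open AlgebraicGeometry CategoryTheory Limits in
/-- Let f have locally Noetherian fibres and let f' be its base change along a morphism locally of
finite type. If f is Cohen–Macaulay at the image of a point x' of the new source, then f' is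
Cohen–Macaulay at x'. -/
theorem result {X Y X' Y' : Scheme.{u}} (f : X ⟶ Y) (hN : ∀ y : Y, IsLocallyNoetherian (f.fiber y))
    (f' : X' ⟶ Y') (g' : X' ⟶ X) (g : Y' ⟶ Y) [LocallyOfFiniteType g] (hc : IsPullback g' f' f g) (x' : X')
    (h : MoreMor.IsCMAt f (g' x')) : MoreMor.IsCMAt f' x' := by
  exact ⟨Groth.Agent.H8Props.FibreCriterion.flat_stalkMap_baseChange hc x' h.1,
    (Groth.Agent.H7Flat.CMBC.fibre_cm_baseChange hc x' hN (Or.inr inferInstance)).mpr h.2⟩

end Groth.Agent.S1345
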