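import Groth.Statements.S13450
import Groth.Agent.H27Hilb0.PowPoint

set_option autoImplicit false
universe u
open W4c1hilbpn

namespace Groth.Agent.S13450

open W4c1hilbpn in
/-- Let k be a field and S = k[x_0, ..., x_n] with its standard grading; for an ideal I write Hom_S(I,
S/I)_0 for the degree-0 homomorphisms (for a monomial ideal: the span of the multigraded pieces
whose multidegree has entry sum 0). Let n and q satisfy n = 3 and q ≥ 4, or n ≥ 4 and q ≥ 2, and let
I = x_0·(x_0, ..., x_{n-1}) + (x_1^q). Then Hom_S(I, S/I)_0 has dimension 2n - 1 + C(n+q-1, n-1).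
(The published statement gives this as the dimension of the tangent space to the Hilbert scheme at
the point I; the row records the dimension count.) -/
theorem result (k : Type u) [Field k] (n q : ℕ)
    (hcase : (n = 3 ∧ 4 ≤ q) ∨ (4 ≤ n ∧ 2 ≤ q)) :
    Module.finrank k ↥(⨆ α : {α : Fin (n + 1) → ℤ // ∑ i, α i = 0},
      tPiece (Ideal.span ({f : MvPolynomial (Fin (n + 1)) k | ∃ i : Fin (n + 1), i.val + 1 ≤ n ∧ f = MvPolynomial.X 0 * MvPolynomial.X i} ∪ {MvPolynomial.X 1 ^ q})) α.1) =
      2 * n - 1 + Nat.choose (n + q - 1) (n - 1) := by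
  classical
  have hgen : ({f : MvPolynomial (Fin (n + 1)) k | ∃ i : Fin (n + 1), i.val + 1 ≤ n ∧ f = MvPolynomial.X 0 * MvPolynomial.X i} ∪
      {MvPolynomial.X 1 ^ q}) = Set.range fun i => MvPolynomial.monomial (H27Hilb0.PowPoint.G n q i) (1 : k) := by
    have h1 : Fin.ofNat (n + 1) 1 = (1 : Fin (n + 1)) := rfl
    have hA : ∀ i : Fin n, MvPolynomial.monomial (H27Hilb0.PowPoint.G n q (Sum.inl i)) (1 : k) =
        MvPolynomial.X 0 * MvPolynomial.X i.castSucc := fun i => by
      simp [H27Hilb0.PowPoint.G, MvPolynomial.X, MvPolynomial.monomial_mul]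
    have hX : ∀ x, MvPolynomial.monomial (H27Hilb0.PowPoint.G n q (Sum.inr x)) (1 : k) =
        MvPolynomial.X 1 ^ q := fun x => by
      simp only [H27Hilb0.PowPoint.G, Sum.elim_inr, h1]
      exact (MvPolynomial.X_pow_eq_monomial (R := k)).symm
    ext f
    constructor
    · rintro (⟨i, hi, rfl⟩ | rfl)
      · exact ⟨Sum.inl ⟨i.val, by omega⟩, hA _⟩
      · exact ⟨Sum.inr (), hX _⟩
    · rintro ⟨i | x, rfl⟩
      · exact Or.inl ⟨i.castSucc, i.2, hA i⟩
      · exact Or.inr (hX x)
  have hG := H27Hilb0.IsGen.of_span (k := k) (H27Hilb0.PowPoint.G n q)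
  rw [← hgen] at hG
  exact H27Hilb0.PowPoint.finrank_deg0_powPoint hcase hG

end Groth.Agent.S13450
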