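import Groth.Statements.S13453
import Groth.Agent.H25Hilb.Basic

set_option autoImplicit false
universe u
open W4c1hilbpn

namespace Groth.Agent.S13453

open W4c1hilbpn Groth.Agent.H25Hilb MvPolynomial in
theorem mem_slice {k : Type u} [Field k] {I : Ideal (MvPolynomial (Fin 3) k)} (hI : IsMonomial I) (i : ℕ)
    (f : MvPolynomial (Fin 2) k) :
    f ∈ sliceX I i ↔ ∀ β ∈ f.support, Finsupp.single 0 i + β.mapDomain Fin.succ ∈ exps I := by
  classical
  have e : f ∈ sliceX I i ↔ rename Fin.succ f * X 0 ^ i ∈ I := Submodule.mem_colon_singleton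
  rw [e]
  constructor
  · intro h β hβ
    refine hI _ h _ (MvPolynomial.mem_support_iff.2 ?_)
    rw [show (X 0 : MvPolynomial (Fin 3) k) ^ i = monomial (Finsupp.single 0 i) 1 from X_pow_eq_monomial, add_comm (Finsupp.single 0 i),
      coeff_mul_monomial, mul_one, coeff_rename_mapDomain _ (Fin.succ_injective 2)]
    exact MvPolynomial.mem_support_iff.1 hβ
  · intro h
    rw [f.as_sum, map_sum, Finset.sum_mul]
    refine Submodule.sum_mem _ fun β hβ => ?_
    rw [rename_monomial, X_pow_eq_monomial, monomial_mul, mul_one, add_comm (β.mapDomain Fin.succ)]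
    have h2 := I.mul_mem_left (C (coeff β f)) (h β hβ)
    rwa [C_mul_monomial, mul_one] at h2

open W4c1hilbpn Groth.Agent.H25Hilb MvPolynomial in
theorem exps_slice {k : Type u} [Field k] {I : Ideal (MvPolynomial (Fin 3) k)} (hI : IsMonomial I) (i : ℕ)
    (β : Fin 2 →₀ ℕ) : β ∈ exps (sliceX I i) ↔ Finsupp.single 0 i + β.mapDomain Fin.succ ∈ exps I := by
  classical
  refine (mem_slice hI i (monomial β (1 : k))).trans ?_
  rw [support_monomial, if_neg one_ne_zero]
  simp

open W4c1hilbpn in
/-- Let k be an infinite field, S = k[x,y,z] with variables ordered x > y > z, and I a strongly stable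
ideal of finite colength; write I_i for the ideal of polynomials f in k[y,z] with x^i f in I (so I
is the direct sum of the x^i I_i). Then each I_i is a strongly stable ideal of k[y,z] (with y > z)
and the ideal quotient (I_i : y) is contained in I_{i+1}. -/
theorem result (k : Type u) [Field k] [Infinite k]
    (I : Ideal (MvPolynomial (Fin 3) k)) (hI : IsStronglyStable I) [Module.Finite k (MvPolynomial (Fin 3) k ⧸ I)] (i : ℕ) :
    IsStronglyStable (sliceX I i) ∧
      (sliceX I i).colon {(MvPolynomial.X 0 : MvPolynomial (Fin 2) k)} ≤ sliceX I (i + 1) := by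
  classical
  have hs := hI.2
  refine ⟨⟨fun f hf β hβ => (exps_slice hI.1 i β).2 ((mem_slice hI.1 i f).1 hf β hβ), fun β hβ a b hab hb => ?_⟩, fun f hf => ?_⟩
  · rw [exps_slice hI.1] at hβ ⊢
    have hb' : (Finsupp.single (0 : Fin 3) i + β.mapDomain Fin.succ) b.succ = β b := by
      rw [Finsupp.add_apply, Finsupp.single_eq_of_ne (Fin.succ_ne_zero b), zero_add, Finsupp.mapDomain_apply (Fin.succ_injective 2)]
    have := hs _ hβ a.succ b.succ (Fin.succ_lt_succ_iff.2 hab) (hb'.symm ▸ hb)
    convert this using 1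
    obtain ⟨c, rfl⟩ : ∃ c, β = c + Finsupp.single b 1 :=
      ⟨β - Finsupp.single b 1, (tsub_add_cancel_of_le (Finsupp.single_le_iff.2 hb)).symm⟩
    rw [add_tsub_cancel_right, Finsupp.mapDomain_add, Finsupp.mapDomain_add, Finsupp.mapDomain_single,
      Finsupp.mapDomain_single, ← add_assoc (Finsupp.single 0 i) (Finsupp.mapDomain Fin.succ c) (Finsupp.single b.succ 1),
      add_tsub_cancel_right, add_assoc]
  · rw [Submodule.mem_colon_singleton, smul_eq_mul, mem_slice hI.1] at hf
    rw [mem_slice hI.1]
    intro β hβ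
    have h1 := hf (β + Finsupp.single 0 1) (by
      rw [MvPolynomial.mem_support_iff, MvPolynomial.X, MvPolynomial.coeff_mul_monomial, mul_one]
      exact MvPolynomial.mem_support_iff.1 hβ)
    have h2 := hs _ h1 0 1 (by decide) (by
      rw [Finsupp.mapDomain_add, Finsupp.mapDomain_single]
      simp [Fin.succ_zero_eq_one])
    convert h2 using 1
    rw [Finsupp.mapDomain_add, Finsupp.mapDomain_single, Fin.succ_zero_eq_one, ← add_assoc, add_tsub_cancel_right,
      Finsupp.single_add]
    abel

end Groth.Agent.S13453
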